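import Cfsg.Statements.S0813
import Cfsg.Agent.H42.OutPSL

set_option autoImplicit false
open Cfsg

namespace Cfsg.Agent.S0813

open H55

theorem iotaP_ne_two_forms {F : Type*} [Field F] [Fintype F] {n : ℕ} (hn : 3 ≤ n)
    (g g' : GL (Fin n) F) (σ σ' : F ≃+* F) :
    conjP g * fieldP σ * iotaP ≠ (conjP g' * fieldP σ' : MulAut (PSLn n F)) := by
  intro h
  refine iotaP_ne hn (mapGL σ⁻¹ (g⁻¹ * g')) (σ⁻¹ * σ') ?_
  rw [mul_assoc, ← eq_inv_mul_iff_mul_eq] at h
  have h2 : (fieldP σ)⁻¹ * ((conjP g)⁻¹ * (conjP g' * fieldP σ')) = (iotaP : MulAut (PSLn n F)) := by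
    rw [← h, inv_mul_cancel_left]
  rw [← h2, ← mul_assoc (conjP g)⁻¹, ← map_inv conjP, ← map_mul conjP, ← mul_assoc,
    ← map_inv fieldP, fieldP_conjP, mul_assoc, ← map_mul fieldP]

/-- |Aut(PSL_n(q))|, q = p^f: for n ≥ 3 it is 2 f |PGL_n(q)|, and for n = 2 (q ≥ 4) it is f |PGL_2(q)|. -/
theorem result {F : Type*} [Field F] [Fintype F] (p f : ℕ) [Fact p.Prime] (hf : 1 ≤ f) (hF : Fintype.card F = p ^ f) (n : ℕ) (hn : 2 ≤ n) (h2 : n = 2 → 4 ≤ p ^ f) : Nat.card (MulAut (Matrix.ProjectiveSpecialLinearGroup (Fin n) F)) = (if n = 2 then 1 else 2) * f * Nat.card (Matrix.ProjGenLinGroup (Fin n) F) := by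
  classical
  haveI : CharP F p := charP_of_card_eq_prime_pow hF
  obtain ⟨e⟩ := H42.exists_ringAut_equiv hF
  haveI : Finite (F ≃+* F) := Finite.of_injective _ (DFunLike.coe_injective (F := F ≃+* F))
  have hσ : Nat.card (F ≃+* F) = f := by
    rw [Nat.card_congr e.toEquiv, Nat.card_congr Multiplicative.toAdd, Nat.card_zmod]
  have hP : Nat.card (conjP (n := n) (F := F)).range = Nat.card (Matrix.ProjGenLinGroup (Fin n) F) := by
    rw [← Subgroup.index_ker, ker_conjP hn, ← Matrix.GeneralLinearGroup.center_eq_range_scalar]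
    rfl
  let T := {b : Bool // b = true → 3 ≤ n}
  have hT : Nat.card T = if n = 2 then 1 else 2 := by
    split_ifs with h
    · exact Nat.card_eq_one_iff_unique.2 ⟨⟨fun a b => Subtype.ext (by
        rcases a with ⟨a, ha⟩; rcases b with ⟨b, hb⟩
        cases a <;> cases b <;> first | rfl | (exfalso; have := ha; have := hb; simp at *; omega))⟩, ⟨⟨false, by simp⟩⟩⟩
    · rw [Nat.card_congr (Equiv.subtypeUnivEquiv (fun _ _ => by omega)), Nat.card_eq_fintype_card,
        Fintype.card_bool]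
  let Φ : (conjP (n := n) (F := F)).range × (F ≃+* F) × T → MulAut (PSLn n F) := fun x =>
    (x.1 : MulAut (PSLn n F)) * fieldP x.2.1 * (if x.2.2.1 then iotaP else 1)
  have hΦ : Function.Bijective Φ := by
    constructor
    · rintro ⟨⟨_, g, rfl⟩, σ, ⟨b, hb⟩⟩ ⟨⟨_, g', rfl⟩, σ', ⟨b', hb'⟩⟩ h
      simp only [Φ] at h
      have hbb : b = b' := by
        cases b <;> cases b'
        · rfl
        · simp only [Bool.false_eq_true, if_false, if_true, mul_one] at h
          exact absurd h.symm (iotaP_ne_two_forms (hb' rfl) g' g σ' σ)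
        · simp only [Bool.false_eq_true, if_false, if_true, mul_one] at h
          exact absurd h (iotaP_ne_two_forms (hb rfl) g g' σ σ')
        · rfl
      subst hbb
      obtain ⟨h1, h2⟩ := conjP_fieldP_inj hn (mul_right_cancel h)
      subst h1
      exact Prod.ext (Subtype.ext h2) rfl
    · intro α
      obtain ⟨g, σ, γ, hγ, rfl⟩ := aut_PSL hn α
      rcases hγ with rfl | ⟨h3, rfl⟩
      · exact ⟨(⟨_, g, rfl⟩, σ, ⟨false, by simp⟩), by simp [Φ]⟩
      · exact ⟨(⟨_, g, rfl⟩, σ, ⟨true, fun _ => h3⟩), by simp [Φ]⟩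
  change Nat.card (MulAut (PSLn n F)) = _
  rw [← Nat.card_eq_of_bijective Φ hΦ, Nat.card_prod, Nat.card_prod, hP, hσ, hT]
  ring

end Cfsg.Agent.S0813
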