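import Cfsg.Statements.S4023
import Cfsg.Agent.H35.ConjPSubgroups
import Mathlib

set_option autoImplicit false
set_option linter.all false
open Cfsg

namespace Cfsg.Agent.S4023

/-- Let p be a prime and G a finite group in which any two p-subgroups of the same order are conjugate, with Sylow p-subgroup P. Then P is cyclic, or elementary abelian, or p = 2 and P is a quaternion group of order 8, or p is odd and P is non-abelian of order p³ and exponent p. -/
theorem result {G : Type*} [Group G] [Finite G]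
    {p : ℕ} [Fact p.Prime] (hC : ∀ H K : Subgroup G, IsPGroup p H → IsPGroup p K → Nat.card H = Nat.card K →
      ∃ g : G, K = H.map (MulAut.conj g).toMonoidHom) (P : Sylow p G) :
    IsCyclic P ∨ Cfsg.IsElementaryAbelian p (P : Subgroup G) ∨
      (p = 2 ∧ Nonempty ((P : Subgroup G) ≃* QuaternionGroup 2)) ∨
      (p ≠ 2 ∧ ¬ IsMulCommutative P ∧ Nat.card P = p ^ 3 ∧ Monoid.exponent P = p) := by
  by_cases hab : IsMulCommutative (P : Subgroup G)
  · rcases H35.sylow_types_of_conj hC P.isPGroup' with h | ⟨h2, h⟩ | ⟨he, h⟩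
    · exact Or.inl h
    · exact Or.inr (Or.inr (Or.inl ⟨h2, h⟩))
    · exact Or.inr (Or.inl ⟨hab, he⟩)
  · rcases H35.sylow_types_of_conj hC P.isPGroup' with h | ⟨h2, h⟩ | ⟨he, h⟩
    · exact Or.inl h
    · exact Or.inr (Or.inr (Or.inl ⟨h2, h⟩))
    · obtain ⟨hp2, hc⟩ := h.resolve_left hab
      refine Or.inr (Or.inr (Or.inr ⟨hp2, hab, hc, ?_⟩))
      refine ((Nat.dvd_prime Fact.out).1 (Monoid.exponent_dvd_of_forall_pow_eq_one fun x => ?_)).resolve_left fun h1 => ?_
      · exact Subtype.ext (by simpa using he x x.2)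
      · haveI := Monoid.exp_eq_one_iff.1 h1
        exact hab ⟨⟨fun a b => Subsingleton.elim _ _⟩⟩

end Cfsg.Agent.S4023
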