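import Cfsg.Agent.H33.TwoSubspaces
import Cfsg.Agent.S3360
import Cfsg.Agent.H1.Cores
import Cfsg.Statements.S4025
-- import your own Cfsg.Agent.* helpers here

set_option autoImplicit false
open Cfsg

namespace Cfsg.Agent.S4025

open Subgroup
open scoped Pointwise

set_option linter.style.haveILetI false
set_option linter.unusedSectionVars false

section
variable {G : Type*} [Group G] [Finite G] {p : ℕ} [Fact p.Prime]

/-- With an abelian Sylow subgroup, conjugate subgroups of `P` are conjugate in the normaliser. -/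
theorem conj_subgroups (P : Sylow p G) [IsMulCommutative (P : Subgroup G)] {X Y : Subgroup G}
    (hX : X ≤ P) (hY : Y ≤ P) {g : G} (hg : Y = X.map (MulAut.conj g).toMonoidHom) :
    ∃ k ∈ normalizer ((P : Subgroup G) : Set G), Y = X.map (MulAut.conj k).toMonoidHom := by
  have hcomm : ∀ a ∈ (P : Subgroup G), ∀ b ∈ (P : Subgroup G), a * b = b * a := fun a ha b hb =>
    setLike_mul_comm ha hb
  have h1 : (P : Subgroup G) ≤ centralizer (Y : Set G) := fun a ha y hy => hcomm y (hY hy) a ha
  have h2 : ((g • P : Sylow p G) : Subgroup G) ≤ centralizer (Y : Set G) := by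
    intro a ha y hy
    rw [Sylow.coe_subgroup_smul] at ha
    obtain ⟨a', ha', rfl⟩ := ha
    rw [hg] at hy
    obtain ⟨x, hx, rfl⟩ := hy
    show (MulAut.conj g) x * (MulAut.conj g) a' = (MulAut.conj g) a' * (MulAut.conj g) x
    rw [← map_mul, ← map_mul, hcomm x (hX hx) a' ha']
  obtain ⟨c, hc⟩ := MulAction.exists_smul_eq (centralizer (Y : Set G)) ((g • P).subtype h2) (P.subtype h1)
  rw [Sylow.smul_subtype] at hc
  have hc' := Sylow.subtype_injective hc
  refine ⟨(c : G) * g, ?_, ?_⟩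
  · exact Sylow.smul_eq_iff_mem_normalizer.1 (by rw [mul_smul]; exact hc')
  · ext y
    constructor
    · intro hy
      have hy0 := hy
      rw [hg] at hy0
      obtain ⟨x, hx, rfl⟩ := hy0
      refine ⟨x, hx, ?_⟩
      have e := c.2 _ hy
      show (c : G) * g * x * ((c : G) * g)⁻¹ = g * x * g⁻¹
      have e' : (c : G) * (g * x * g⁻¹) = (g * x * g⁻¹) * c := e.symm
      calc (c : G) * g * x * ((c : G) * g)⁻¹ = (c : G) * (g * x * g⁻¹) * (c : G)⁻¹ := by group
        _ = g * x * g⁻¹ := by rw [e', mul_inv_cancel_right]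
    · rintro ⟨x, hx, rfl⟩
      have hy : g * x * g⁻¹ ∈ Y := hg ▸ ⟨x, hx, rfl⟩
      have e' : (c : G) * (g * x * g⁻¹) = (g * x * g⁻¹) * c := (c.2 _ hy).symm
      show (c : G) * g * x * ((c : G) * g)⁻¹ ∈ Y
      rw [show (c : G) * g * x * ((c : G) * g)⁻¹ = (c : G) * (g * x * g⁻¹) * (c : G)⁻¹ by group, e',
        mul_inv_cancel_right]
      exact hy

/-- An automorphism of a group of exponent `p` as a linear map. -/
def linOfAut {M : Type*} [AddCommGroup M] [Module (ZMod p) M] (φ : M ≃+ M) : M ≃ₗ[ZMod p] M :=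
  { φ with map_smul' := fun c x => ZMod.map_smul φ.toAddMonoidHom c x }

theorem linOfAut_apply {M : Type*} [AddCommGroup M] [Module (ZMod p) M] (φ : M ≃+ M) (x : M) :
    linOfAut (p := p) φ x = φ x := rfl

/-- An action by automorphisms as a linear representation. -/
def toLin {M N' : Type*} [CommGroup M] [Module (ZMod p) (Additive M)] [Group N'] (θ : N' →* MulAut M) :
    N' →* (Additive M ≃ₗ[ZMod p] Additive M) where
  toFun g := linOfAut (θ g).toAdditive
  map_one' := LinearEquiv.ext fun v => by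
    rw [linOfAut_apply, map_one]; rfl
  map_mul' a b := LinearEquiv.ext fun v => by
    rw [linOfAut_apply, map_mul]; rfl

theorem zmod_two : ∀ c : ZMod 2, c ≠ 0 → c = 1 := by decide

theorem exists_iso {Q α : Type*} [Group Q] {T : Subgroup (Equiv.Perm α)} [Finite T]
    (f : Q →* Equiv.Perm α) (hf : Function.Injective f) (hT : ∀ q, f q ∈ T)
    (hc : Nat.card T ≤ Nat.card Q) : Nonempty (Q ≃* T) := by
  let f' : Q →* T := f.codRestrict T hT
  have hf' : Function.Injective f' := fun a b e => hf (congrArg Subtype.val e)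
  haveI := Finite.of_injective f' hf'
  exact ⟨MulEquiv.ofBijective f' ⟨hf', (Function.Injective.bijective_of_nat_card_le hf' hc).2⟩⟩

set_option maxHeartbeats 1600000 in
theorem structure_of (hC : ∀ H K : Subgroup G, IsPGroup p H → IsPGroup p K → Nat.card H = Nat.card K →
      ∃ g : G, K = H.map (MulAut.conj g).toMonoidHom) (P : Sylow p G) (n : ℕ) (hn : 3 ≤ n)
    (hel : Cfsg.IsElementaryAbelian p (P : Subgroup G)) (hcard : Nat.card P = p ^ n)
    (hsolv : Group.IsSolvable (↥(normalizer ((P : Subgroup G) : Set G)) ⧸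
      Cfsg.pPrimeCore p ↥(normalizer ((P : Subgroup G) : Set G)))) :
    (n = 3 ∨ (n = 5 ∧ p = 2)) ∧
    ∃ f : ↥(normalizer ((P : Subgroup G) : Set G)) ⧸
        Cfsg.pPrimeCore p ↥(normalizer ((P : Subgroup G) : Set G)) →*
        Equiv.Perm (GaloisField p n),
      Function.Injective f ∧ (∀ q, f q ∈ Cfsg.semiaffineGroup (GaloisField p n)) ∧
      (p = 2 → Nat.card (Cfsg.semiaffineGroup (GaloisField p n)) ≤
          Nat.card (↥(normalizer ((P : Subgroup G) : Set G)) ⧸
            Cfsg.pPrimeCore p ↥(normalizer ((P : Subgroup G) : Set G))) ∨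
        (n = 3 ∧ (∀ q, f q ∈ Cfsg.affineGroup (GaloisField p n)) ∧
          Nat.card (Cfsg.affineGroup (GaloisField p n)) ≤
          Nat.card (↥(normalizer ((P : Subgroup G) : Set G)) ⧸
            Cfsg.pPrimeCore p ↥(normalizer ((P : Subgroup G) : Set G))))) := by
  classical
  have hp : p.Prime := Fact.out
  haveI := hel.1
  set N := normalizer ((P : Subgroup G) : Set G) with hN
  set K := Cfsg.pPrimeCore p N with hKdef
  letI : CommGroup (P : Subgroup G) := IsMulCommutative.instCommGroup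
  obtain ⟨iM⟩ : Nonempty (Module (ZMod p) (Additive (P : Subgroup G))) := ⟨AddCommGroup.zmodModule (fun x => by
    apply Additive.toMul.injective
    rw [toMul_nsmul, toMul_zero]
    exact Subtype.ext (hel.2 _ x.toMul.2))⟩
  let V := Additive (P : Subgroup G)
  have hVcard : Nat.card V = p ^ n := hcard
  haveI : Nontrivial V := Finite.one_lt_card_iff_nontrivial.1 (by
    rw [hVcard]; exact Nat.one_lt_pow (by omega) hp.one_lt)
  let θ : N →* MulAut (P : Subgroup G) := (P : Subgroup G).normalizerMonoidHom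
  have hθ : ∀ (g : N) (x : (P : Subgroup G)), ((θ g x : (P : Subgroup G)) : G) = g * x * (g : G)⁻¹ :=
    fun g x => rfl
  let ρ : N →* (V ≃ₗ[ZMod p] V) := toLin (p := p) θ
  have hρ : ∀ (g : N) (v : V), ρ g v = Additive.ofMul (θ g v.toMul) := fun g v => rfl
  let ρ' : N × (ZMod p)ˣ →* (V ≃ₗ[ZMod p] V) :=
    MonoidHom.mk' (fun t => ρ t.1 * LinearEquiv.smulOfUnit t.2) (fun a b => by
      refine LinearEquiv.ext fun v => ?_
      show ρ (a.1 * b.1) ((a.2 * b.2) • v) = ρ a.1 (a.2 • ρ b.1 (b.2 • v))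
      rw [map_mul, mul_smul]
      show ρ a.1 (ρ b.1 (a.2 • b.2 • v)) = _
      rw [Units.smul_def a.2, LinearEquiv.map_smul, ← Units.smul_def])
  have hρ' : ∀ (t : N × (ZMod p)ˣ) (v : V), ρ' t v = ρ t.1 ((t.2 : ZMod p) • v) := fun t v => rfl
  -- subgroups of `P` of equal order are conjugate in `N`
  have htrW : ∀ W W' : Submodule (ZMod p) V, Nat.card W = Nat.card W' →
      ∃ g : N, W.map (ρ g).toLinearMap = W' := by
    intro W W' hc
    let X : Submodule (ZMod p) V → Subgroup G := fun U =>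
      (AddSubgroup.toSubgroup' U.toAddSubgroup).map (P : Subgroup G).subtype
    have hX : ∀ U, X U ≤ (P : Subgroup G) := fun U => map_subtype_le _
    have hXc : ∀ U : Submodule (ZMod p) V, Nat.card (X U) = Nat.card U := fun U => by
      rw [card_map_of_injective (P : Subgroup G).subtype_injective]; rfl
    obtain ⟨g, hg⟩ := hC (X W) (X W') (P.isPGroup'.to_le (hX W)) (P.isPGroup'.to_le (hX W'))
      (by rw [hXc, hXc, hc])
    obtain ⟨k, hk, hk'⟩ := conj_subgroups P (hX W) (hX W') hg
    refine ⟨⟨k, hk⟩, ?_⟩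
    have hle : W.map (ρ ⟨k, hk⟩).toLinearMap ≤ W' := by
      rintro _ ⟨v, hv, rfl⟩
      have h1 : (k * ((v.toMul : (P : Subgroup G)) : G) * k⁻¹) ∈ X W' := by
        rw [hk']; exact ⟨_, ⟨v.toMul, hv, rfl⟩, rfl⟩
      obtain ⟨u, hu, e⟩ := h1
      have e' : θ ⟨k, hk⟩ v.toMul = u := Subtype.ext e.symm
      show ρ ⟨k, hk⟩ v ∈ W'
      rw [hρ, e']
      exact hu
    refine SetLike.coe_injective (Set.eq_of_subset_of_ncard_le hle ?_ (Set.toFinite _))
    rw [← Nat.card_coe_set_eq, ← Nat.card_coe_set_eq]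
    refine le_of_eq ?_
    show Nat.card W' = Nat.card (W.map (ρ ⟨k, hk⟩).toLinearMap)
    rw [← hc]
    exact Nat.card_congr ((ρ ⟨k, hk⟩).submoduleMap W).toEquiv
  have hlines : ∀ v w : V, v ≠ 0 → w ≠ 0 → ∃ g : N × (ZMod p)ˣ, ρ' g v = w := by
    intro v w hv hw
    obtain ⟨g, hg⟩ := htrW (Submodule.span (ZMod p) {v}) (Submodule.span (ZMod p) {w}) (by
      rw [Module.natCard_eq_pow_finrank (K := ZMod p) (V := Submodule.span (ZMod p) {v}),
        Module.natCard_eq_pow_finrank (K := ZMod p) (V := Submodule.span (ZMod p) {w}),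
        finrank_span_singleton hv, finrank_span_singleton hw])
    have h1 : ρ g v ∈ Submodule.span (ZMod p) {w} :=
      hg ▸ Submodule.mem_map_of_mem (Submodule.mem_span_singleton_self v)
    obtain ⟨c, hc⟩ := Submodule.mem_span_singleton.1 h1
    have hc0 : c ≠ 0 := fun e => hv ((ρ g).map_eq_zero_iff.1 (by rw [← hc, e, zero_smul]))
    refine ⟨(g, (Units.mk0 c hc0)⁻¹), ?_⟩
    rw [hρ', LinearEquiv.map_smul, ← hc, smul_smul, Units.val_inv_eq_inv_val, Units.val_mk0,
      inv_mul_cancel₀ hc0, one_smul]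
  -- the complement
  have hPle : (P : Subgroup G) ≤ N := le_normalizer
  set PN : Subgroup N := (P : Subgroup G).subgroupOf N with hPN
  haveI : PN.Normal := normal_in_normalizer
  have hPNc : Nat.card PN = p ^ n := (Nat.card_congr (subgroupOfEquivOfLe hPle).toEquiv).trans hcard
  have hcop : (Nat.card PN).Coprime PN.index := (P.subtype hPle).card_coprime_index
  obtain ⟨H0, hH0⟩ := exists_right_complement'_of_coprime hcop
  have hH0p : ¬ p ∣ Nat.card H0 := fun hd => by
    have h1 := hH0.index_eq_card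
    have h2 := hH0.symm.index_eq_card
    rw [← h2] at hd
    exact hp.coprime_iff_not_dvd.mp ((Nat.coprime_pow_left_iff (by omega) p _).mp (hPNc ▸ hcop)) hd
  have hθP : ∀ t ∈ PN, θ t = 1 := fun t ht => MulEquiv.ext fun x => Subtype.ext (by
    rw [hθ, setLike_mul_comm (mem_subgroupOf.1 ht) x.2, mul_inv_cancel_right]; rfl)
  have hρP : ∀ t ∈ PN, ρ t = 1 := fun t ht => LinearEquiv.ext fun v => by
    rw [hρ, hθP t ht]; rfl
  have hdec : ∀ g : N, ∃ t ∈ PN, ∃ h ∈ H0, g = t * h := by
    intro g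
    obtain ⟨⟨t, h⟩, e⟩ := (hH0.existsUnique g).exists
    exact ⟨t, t.2, h, h.2, e.symm⟩
  haveI hKn : K.Normal := inferInstanceAs (Cfsg.pPrimeCore p N).Normal
  have hKco : (Nat.card K).Coprime p := H1.card_pPrimeCore_coprime p N
  have hKH : K ≤ H0 := by
    have h1 := H1.card_sup_dvd_mul H0 K
    obtain ⟨r, hr⟩ := card_dvd_of_le (le_sup_left : H0 ≤ H0 ⊔ K)
    have h2 : Nat.card (H0 ⊔ K : Subgroup N) ∣ Nat.card N := card_subgroup_dvd_card _
    rw [← hH0.symm.card_mul_card, hPNc, hr, mul_dvd_mul_iff_left Nat.card_pos.ne'] at h2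
    rw [hr, mul_dvd_mul_iff_left Nat.card_pos.ne'] at h1
    have hr1 : r = 1 := Nat.eq_one_of_dvd_coprimes (Nat.Coprime.pow_left n hKco.symm) h2 h1
    rw [hr1, mul_one] at hr
    exact le_sup_right.trans (Subgroup.eq_of_le_of_card_ge le_sup_left hr.le).ge
  have hρK : ∀ k ∈ K, ρ k = 1 := fun k hk => LinearEquiv.ext fun v => by
    have hdis : Disjoint K PN := by
      rw [disjoint_iff]
      exact (disjoint_of_coprime_natCard (by rw [hPNc]; exact hKco.pow_right n)).eq_bot
    have hc := commute_of_normal_of_disjoint K PN hKn inferInstance hdis k ⟨_, hPle v.toMul.2⟩ hk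
      (mem_subgroupOf.2 v.toMul.2)
    rw [hρ]
    refine congrArg Additive.ofMul (Subtype.ext ?_)
    rw [hθ]
    have hc' : (k : G) * ((v.toMul : (P : Subgroup G)) : G) = ((v.toMul : (P : Subgroup G)) : G) * k :=
      congrArg Subtype.val hc.eq
    rw [hc', mul_inv_cancel_right]
    rfl
  have hcore : H0.normalCore = K := by
    refine le_antisymm ?_ (normal_le_normalCore.2 hKH)
    haveI : H0.normalCore.Normal := normalCore_normal H0
    refine H1.le_pPrimeCore ?_
    exact Nat.Coprime.coprime_dvd_left (card_dvd_of_le H0.normalCore_le)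
      (hp.coprime_iff_not_dvd.2 hH0p).symm
  -- the kernel of `ρ` in `H0`
  have hker : ∀ h ∈ H0, ρ h = 1 → h ∈ K := by
    intro h hh h1
    have hn : (ρ.ker ⊓ H0).Normal := ⟨fun a ha g => by
      obtain ⟨t, ht, u, hu, rfl⟩ := hdec g
      have hb : u * a * u⁻¹ ∈ ρ.ker ⊓ H0 :=
        ⟨(inferInstance : ρ.ker.Normal).conj_mem a ha.1 u, H0.mul_mem (H0.mul_mem hu ha.2) (H0.inv_mem hu)⟩
      have e : t * (u * a * u⁻¹) = (u * a * u⁻¹) * t := by
        apply Subtype.ext
        have h2 : θ (u * a * u⁻¹) ⟨t, mem_subgroupOf.1 ht⟩ = ⟨t, mem_subgroupOf.1 ht⟩ :=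
          congrArg (fun f : V ≃ₗ[ZMod p] V => (f (Additive.ofMul ⟨_, mem_subgroupOf.1 ht⟩)).toMul) hb.1
        have h3 := congrArg Subtype.val h2
        rw [hθ] at h3
        exact (mul_inv_eq_iff_eq_mul.1 h3).symm
      have : t * u * a * (t * u)⁻¹ = u * a * u⁻¹ := by
        calc t * u * a * (t * u)⁻¹ = t * (u * a * u⁻¹) * t⁻¹ := by group
          _ = u * a * u⁻¹ := by rw [e, mul_inv_cancel_right]
      exact this.symm ▸ hb⟩
    have hmem : h ∈ ρ.ker ⊓ H0 := ⟨MonoidHom.mem_ker.2 h1, hh⟩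
    haveI := hn
    exact H1.le_pPrimeCore (p := p) (N := ρ.ker ⊓ H0) (Nat.Coprime.coprime_dvd_left
      (card_dvd_of_le (inf_le_right : ρ.ker ⊓ H0 ≤ H0)) (hp.coprime_iff_not_dvd.2 hH0p).symm) hmem
  have hrange : ρ.range = (ρ.comp H0.subtype).range := by
    refine le_antisymm ?_ (fun x ⟨h, e⟩ => ⟨h, e⟩)
    rintro _ ⟨g, rfl⟩
    obtain ⟨t, ht, h, hh, rfl⟩ := hdec g
    exact ⟨⟨h, hh⟩, by rw [map_mul, hρP t ht, one_mul]; rfl⟩
  have hQcard : Nat.card (N ⧸ K) = p ^ n * Nat.card ρ.range := by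
    have hk : (ρ.comp H0.subtype).ker = K.subgroupOf H0 := by
      ext h
      exact ⟨fun e => mem_subgroupOf.2 (hker h h.2 e), fun e => hρK _ (mem_subgroupOf.1 e)⟩
    rw [← index_eq_card, ← relIndex_mul_index hKH, hH0.index_eq_card, hPNc, mul_comm, hrange,
      relIndex, ← hk, index_ker]
  have hρp : ¬ p ∣ Nat.card ρ.range := fun hd => hH0p (hd.trans (by
    rw [hrange]; exact card_range_dvd _))
  -- solvability
  have hsolR : Group.IsSolvable ρ'.range := by
    haveI := hsolv
    haveI : Group.IsSolvable ((N ⧸ K) × (ZMod p)ˣ) := inferInstance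
    let ψ : (N ⧸ K) × (ZMod p)ˣ →* ρ'.range := MonoidHom.mk'
      (fun t => ⟨(QuotientGroup.lift K ρ hρK t.1) * LinearEquiv.smulOfUnit t.2, by
        obtain ⟨q, c⟩ := t
        induction q using QuotientGroup.induction_on with
        | H g => exact ⟨(g, c), rfl⟩⟩)
      (fun a b => by
        obtain ⟨q, c⟩ := a
        obtain ⟨q', c'⟩ := b
        induction q using QuotientGroup.induction_on with
        | H g =>
          induction q' using QuotientGroup.induction_on with
          | H g' => exact Subtype.ext (map_mul ρ' (g, c) (g', c')))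
    refine Group.isSolvable_of_surjective (f := ψ) fun x => ?_
    obtain ⟨⟨g, c⟩, hgc⟩ := x.2
    exact ⟨((g : N ⧸ K), c), Subtype.ext hgc⟩
  -- planes
  have hsc : ∀ c : (ZMod p)ˣ, ∃ t : N × (ZMod p)ˣ, ∀ v : V, ρ' t v = (c : ZMod p) • v :=
    fun c => ⟨(1, c), fun v => by rw [hρ', map_one]; rfl⟩
  have hplanes := H33.TwoSub.planes_dvd ρ' (fun W W' => by
    obtain ⟨g, hg⟩ := htrW W.1 W'.1 (by
      rw [Module.natCard_eq_pow_finrank (K := ZMod p) (V := W.1),
        Module.natCard_eq_pow_finrank (K := ZMod p) (V := W'.1), W.2, W'.2])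
    refine ⟨(g, 1), ?_⟩
    rw [← hg]
    congr 1
    refine LinearMap.ext fun v => ?_
    show ρ' (g, 1) v = ρ g v
    rw [hρ', Units.val_one, one_smul]) hsc
  have hN2 := H33.TwoSub.card_planes_mul (p := p) (n := n) (by omega) hVcard
  have hd : Nat.card (H33.TwoSub.Planes p V) * (p - 1) ∣ Nat.card ρ'.range := by
    refine hplanes.resolve_left fun e => ?_
    rw [e, zero_mul] at hN2
    have a1 : 1 < p ^ n := Nat.one_lt_pow (by omega) hp.one_lt
    have a2 : p < p ^ n := lt_of_eq_of_lt (pow_one p).symm (Nat.pow_lt_pow_right hp.one_lt (by omega))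
    have : 0 < (p ^ n - 1) * (p ^ n - p) := Nat.mul_pos (by omega) (by omega)
    omega
  haveI : Finite ρ'.range := Finite.of_surjective _ ρ'.rangeRestrict_surjective
  -- semilinear
  have key : ∃ (F : Type) (_ : Field F) (_ : Fintype F) (e : V ≃+ F),
      ∀ g : ρ'.range, ∃ (a : F) (σ : F ≃+* F), ∀ v : V, e ((g : V ≃ₗ[ZMod p] V) v) = a * σ (e v) := by
    rcases Cfsg.Agent.S3360.result p (V := V) hsolR ρ'.range.subtype ρ'.range.subtype_injective
      (fun v w hv hw => by
        obtain ⟨g, hg⟩ := hlines v w hv hw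
        exact ⟨⟨ρ' g, g, rfl⟩, hg⟩) with h | h
    · exact h
    exfalso
    have h81 : p = 3 ∧ n = 4 := by
      rw [hVcard] at h
      simp only [Set.mem_insert_iff, Set.mem_singleton_iff] at h
      have hcases : ∀ q k : ℕ, q.Prime → p ^ n = q ^ k → 1 ≤ k → p = q ∧ n = k := by
        intro q k hq e hk
        have : p = q := (Nat.prime_dvd_prime_iff_eq hp hq).1
          (hp.dvd_of_dvd_pow (e ▸ dvd_pow_self p (by omega)))
        subst this
        exact ⟨rfl, Nat.pow_right_injective hp.two_le e⟩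
      rcases h with h | h | h | h | h | h
      · have := hcases 3 2 Nat.prime_three (by rw [h]; norm_num) (by norm_num); omega
      · have := hcases 5 2 (by norm_num) (by rw [h]; norm_num) (by norm_num); omega
      · have := hcases 7 2 (by norm_num) (by rw [h]; norm_num) (by norm_num); omega
      · have := hcases 11 2 (by norm_num) (by rw [h]; norm_num) (by norm_num); omega
      · have := hcases 23 2 (by norm_num) (by rw [h]; norm_num) (by norm_num); omega
      · exact hcases 3 4 Nat.prime_three (by rw [h]; norm_num) (by norm_num)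
    obtain ⟨rfl, rfl⟩ := h81
    have h130 : Nat.card (H33.TwoSub.Planes 3 V) = 130 := by norm_num at hN2; omega
    rw [h130] at hd
    exact H33.TwoSub.no_sixtyfive (V := V) hVcard hsolR (Nat.dvd_trans (by norm_num) hd)
      (Nat.dvd_trans (by norm_num) hd)
  obtain ⟨F₀, _, _, e₀, he₀⟩ := key
  haveI : Fintype (GaloisField p n) := Fintype.ofFinite _
  set F := GaloisField p n with hFdef
  have hFc : Nat.card F = p ^ n := GaloisField.card p n (by omega)
  have hF₀ : Fintype.card F₀ = Fintype.card F := by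
    rw [← Nat.card_eq_fintype_card, ← Nat.card_eq_fintype_card, hFc, ← hVcard]
    exact (Nat.card_congr e₀.toEquiv).symm
  let ψ : F₀ ≃+* F := FiniteField.ringEquivOfCardEq hF₀
  let e : V ≃+ F := e₀.trans ψ.toAddEquiv
  have he : ∀ g : ρ'.range, ∃ (a : Fˣ) (σ : F ≃+* F),
      ∀ v : V, e ((g : V ≃ₗ[ZMod p] V) v) = (a : F) * σ (e v) := by
    intro g
    obtain ⟨a, σ, h⟩ := he₀ g
    have ha : ψ a ≠ 0 := by
      intro h0
      obtain ⟨v, hv⟩ := exists_ne (0 : V)
      have h1 := h v
      rw [(map_eq_zero ψ).1 h0, zero_mul] at h1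
      exact hv ((g : V ≃ₗ[ZMod p] V).map_eq_zero_iff.1 (e₀.map_eq_zero_iff.1 h1))
    refine ⟨Units.mk0 _ ha, (ψ.symm.trans σ).trans ψ, fun v => ?_⟩
    show ψ (e₀ _) = ψ a * ψ (σ (ψ.symm (ψ (e₀ v))))
    rw [RingEquiv.symm_apply_apply, h, map_mul]
  let Φ' : ρ'.range →* Equiv.Perm F := MonoidHom.mk'
    (fun g => e.toEquiv.permCongr (g : V ≃ₗ[ZMod p] V).toEquiv) (fun a b => Equiv.ext fun x => by
      show e ((a : V ≃ₗ[ZMod p] V) ((b : V ≃ₗ[ZMod p] V) (e.symm x))) =
        e ((a : V ≃ₗ[ZMod p] V) (e.symm (e ((b : V ≃ₗ[ZMod p] V) (e.symm x)))))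
      rw [AddEquiv.symm_apply_apply])
  have hΦ' : ∀ g x, Φ' g x = e ((g : V ≃ₗ[ZMod p] V) (e.symm x)) := fun g x => rfl
  have hΦ'le : ∀ g, Φ' g ∈ H33.TwoSub.gammaL F := fun g => by
    obtain ⟨a, σ, h⟩ := he g
    exact (H33.TwoSub.mem_gammaL F).2 ⟨a, σ, fun x => by rw [hΦ', h, AddEquiv.apply_symm_apply]⟩
  have hΦ'inj : Function.Injective Φ' := fun a b h => Subtype.ext (LinearEquiv.ext fun v => by
    have := Equiv.congr_fun h (e v)
    rw [hΦ', hΦ', AddEquiv.symm_apply_apply] at this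
    exact e.injective this)
  obtain ⟨hsa, hgL, hA⟩ := H33.TwoSub.card_semiaffine (p := p) F hFc
  have hdvd : Nat.card ρ'.range ∣ n * (p ^ n - 1) := by
    rw [← hgL]
    exact card_dvd_of_injective (Φ'.codRestrict _ hΦ'le) fun a b h => hΦ'inj (congrArg Subtype.val h)
  have hcases := H33.TwoSub.dim_cases hn hN2 (hd.trans hdvd)
  refine ⟨hcases, ?_⟩
  -- the affine action
  let β : F ≃ N ⧸ H0 := Equiv.ofBijective
    (fun x => ((⟨_, hPle (e.symm x).toMul.2⟩ : N) : N ⧸ H0)) (by
    haveI : Finite F := inferInstance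
    refine Function.Injective.bijective_of_nat_card_le ?_ ?_
    · intro x y hxy
      rw [QuotientGroup.eq] at hxy
      have h1 : (⟨_, hPle (e.symm x).toMul.2⟩ : N)⁻¹ * ⟨_, hPle (e.symm y).toMul.2⟩ ∈ PN :=
        mul_mem (inv_mem (mem_subgroupOf.2 (e.symm x).toMul.2)) (mem_subgroupOf.2 (e.symm y).toMul.2)
      have h2 := (Subgroup.disjoint_def.1 hH0.disjoint) h1 hxy
      rw [inv_mul_eq_one] at h2
      have h3 : (e.symm x).toMul = (e.symm y).toMul := Subtype.ext (congrArg (fun z : N => (z : G)) h2)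
      exact e.symm.injective (Additive.toMul.injective h3)
    · rw [← index_eq_card, hH0.index_eq_card, hPNc, hFc])
  let Φ : N →* Equiv.Perm F := MonoidHom.mk'
    (fun g => β.symm.permCongr (MulAction.toPermHom N (N ⧸ H0) g)) (fun a b => Equiv.ext fun x => by
      show β.symm ((a * b) • β x) = β.symm (a • β (β.symm (b • β x)))
      rw [Equiv.apply_symm_apply, mul_smul])
  have hΦ : ∀ (t : N) (ht : t ∈ PN) (h : N), h ∈ H0 → ∀ x : F,
      Φ (t * h) x = Φ' ⟨ρ' (h, 1), (h, 1), rfl⟩ x + e (Additive.ofMul ⟨t, mem_subgroupOf.1 ht⟩) := by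
    intro t ht h hh x
    apply β.injective
    show β (β.symm ((t * h) • β x)) = _
    rw [Equiv.apply_symm_apply, hΦ', add_comm, ← map_add]
    show (((t * h) * (⟨_, hPle (e.symm x).toMul.2⟩ : N) : N) : N ⧸ H0) = _
    set u : N := ⟨_, hPle (e.symm x).toMul.2⟩
    have e1 : β (e (Additive.ofMul ⟨t, mem_subgroupOf.1 ht⟩ + ρ' (h, 1) (e.symm x))) =
        ((t * (h * u * h⁻¹) : N) : N ⧸ H0) := by
      show ((⟨_, hPle (e.symm (e _)).toMul.2⟩ : N) : N ⧸ H0) = _
      congr 1
      apply Subtype.ext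
      show ((e.symm (e _)).toMul : G) = _
      rw [AddEquiv.symm_apply_apply, hρ', Units.val_one, one_smul, hρ]
      show (t : G) * ((θ h (e.symm x).toMul : (P : Subgroup G)) : G) = _
      rw [hθ]
      rfl
    rw [show β (e (Additive.ofMul ⟨t, mem_subgroupOf.1 ht⟩ + ρ' (h, 1) (e.symm x))) = _ from e1,
      QuotientGroup.eq]
    have e2 : (t * h * u)⁻¹ * (t * (h * u * h⁻¹)) = h⁻¹ := by group
    rw [e2]
    exact inv_mem hh
  have hΦsemi : ∀ g : N, Φ g ∈ Cfsg.semiaffineGroup F := by
    intro g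
    obtain ⟨t, ht, h, hh, rfl⟩ := hdec g
    obtain ⟨a, σ, hs⟩ := (H33.TwoSub.mem_gammaL F).1 (hΦ'le ⟨ρ' (h, 1), (h, 1), rfl⟩)
    exact ⟨a, _, σ, fun x => by rw [hΦ t ht h hh x, hs x]⟩
  have hΦker : Φ.ker = K := by
    rw [← hcore, normalCore_eq_ker]
    ext g
    constructor
    · intro hg
      refine MonoidHom.mem_ker.2 (Equiv.ext fun y => ?_)
      have h1 : β.symm (g • β (β.symm y)) = β.symm y := Equiv.congr_fun (MonoidHom.mem_ker.1 hg) _
      rw [Equiv.apply_symm_apply] at h1
      exact β.symm.injective h1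
    · intro hg
      refine MonoidHom.mem_ker.2 (Equiv.ext fun x => ?_)
      show β.symm (MulAction.toPermHom N (N ⧸ H0) g (β x)) = x
      rw [MonoidHom.mem_ker.1 hg]
      exact β.symm_apply_apply x
  let f : N ⧸ K →* Equiv.Perm F := QuotientGroup.lift K Φ hΦker.ge
  have hf : Function.Injective f := by
    refine (injective_iff_map_eq_one _).2 fun q hq => ?_
    induction q using QuotientGroup.induction_on with
    | H g => exact (QuotientGroup.eq_one_iff g).2 (hΦker ▸ MonoidHom.mem_ker.2 hq)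
  refine ⟨f, hf, fun q => ?_, ?_⟩
  · induction q using QuotientGroup.induction_on with
    | H g => exact hΦsemi g
  intro hp2
  -- for `p = 2` the scalars are trivial
  have hR : ρ'.range = ρ.range := by
    refine le_antisymm ?_ ?_
    · rintro _ ⟨⟨g, c⟩, rfl⟩
      refine ⟨g, LinearEquiv.ext fun v => ?_⟩
      have hc : (c : ZMod p) = 1 := by
        subst hp2
        exact zmod_two _ c.ne_zero
      rw [hρ', hc, one_smul]
    · rintro _ ⟨g, rfl⟩
      exact ⟨(g, 1), LinearEquiv.ext fun v => by rw [hρ', Units.val_one, one_smul]⟩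
  rw [hR] at hd hdvd
  rw [hsa, hA, hQcard]
  subst hp2
  rcases hcases with rfl | ⟨rfl, -⟩
  · have hN2' : Nat.card (H33.TwoSub.Planes 2 V) = 7 := by norm_num at hN2; omega
    rw [hN2'] at hd
    have h721 : Nat.card ρ.range = 7 ∨ Nat.card ρ.range = 21 := by
      revert hd hdvd
      generalize Nat.card ρ.range = M
      intro hd hdvd
      norm_num at hd hdvd
      have := Nat.le_of_dvd (by norm_num) hdvd
      obtain ⟨r, hr⟩ := hd
      subst hr
      have hr3 : r ≤ 3 := by omega
      interval_cases r <;> omega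
    rcases h721 with h7 | h21
    · right
      refine ⟨rfl, fun q => ?_, by rw [h7]; norm_num⟩
      induction q using QuotientGroup.induction_on with
      | H g =>
        obtain ⟨t, ht, h, hh, rfl⟩ := hdec g
        show Φ (t * h) ∈ _
        have hS : Nat.card Φ'.range = 7 := by
          rw [← Nat.card_congr (MonoidHom.ofInjective hΦ'inj).toEquiv, hR, h7]
        obtain ⟨a, ha⟩ := H33.TwoSub.seven_subgroup F (by rw [hFc]; norm_num)
          (S := Φ'.range) (by rintro _ ⟨g, rfl⟩; exact hΦ'le g) hS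
          (π := Φ' ⟨ρ' (h, 1), (h, 1), rfl⟩) ⟨_, rfl⟩
        exact ⟨a, _, fun x => by rw [hΦ t ht h hh x, ha x]⟩
    · left
      rw [h21]; norm_num
  · left
    have hN2' : Nat.card (H33.TwoSub.Planes 2 V) = 155 := by norm_num at hN2; omega
    rw [hN2'] at hd
    have h155 : Nat.card ρ.range = 155 := by
      revert hd hdvd
      generalize Nat.card ρ.range = M
      intro hd hdvd
      norm_num at hd hdvd
      exact Nat.dvd_antisymm hdvd hd
    rw [h155]; norm_num

end


/-- Let p be a prime and G a finite group in which any two p-subgroups of the same order are conjugate, and suppose a Sylow p-subgroup P of G is elementary abelian of order pⁿ with n ≥ 3. Let N be the normalizer of P and K the largest normal subgroup of N of order prime to p, and assume N/K is solvable. Then either n = 3 and N/K embeds in the one-dimensional semi-affine group over the field with p³ elements (and for p = 2 it is isomorphic to the affine or the semi-affine group over the field with 8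 elements), or n = 5, p = 2 and N/K is isomorphic to the one-dimensional semi-affine group over the field with 32 elements. -/
theorem result {G : Type*} [Group G] [Finite G]
    {p : ℕ} [Fact p.Prime] (hC : ∀ H K : Subgroup G, IsPGroup p H → IsPGroup p K → Nat.card H = Nat.card K →
      ∃ g : G, K = H.map (MulAut.conj g).toMonoidHom) (P : Sylow p G) (n : ℕ) (hn : 3 ≤ n)
    (hel : Cfsg.IsElementaryAbelian p (P : Subgroup G)) (hcard : Nat.card P = p ^ n)
    (N : Subgroup G) (hN : N = Subgroup.normalizer ((P : Subgroup G) : Set G))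
    (hsolv : Group.IsSolvable (↥N ⧸ Cfsg.pPrimeCore p ↥N)) :
    (n = 3 ∧ (∃ f : ↥N ⧸ Cfsg.pPrimeCore p ↥N →* ↥(Cfsg.semiaffineGroup (GaloisField p 3)), Function.Injective f) ∧
      (p = 2 → Nonempty (↥N ⧸ Cfsg.pPrimeCore p ↥N ≃* Cfsg.semiaffineGroup (GaloisField 2 3)) ∨
               Nonempty (↥N ⧸ Cfsg.pPrimeCore p ↥N ≃* Cfsg.affineGroup (GaloisField 2 3)))) ∨
    (n = 5 ∧ p = 2 ∧ Nonempty (↥N ⧸ Cfsg.pPrimeCore p ↥N ≃* Cfsg.semiaffineGroup (GaloisField 2 5))) := by
  subst hN
  obtain ⟨hcases, f, hf, hsemi, hiso⟩ := structure_of hC P n hn hel hcard hsolv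
  rcases hcases with rfl | ⟨rfl, rfl⟩
  · left
    refine ⟨rfl, ⟨f.codRestrict _ hsemi, fun a b h => hf (congrArg Subtype.val h)⟩, fun hp2 => ?_⟩
    subst hp2
    rcases hiso rfl with h | ⟨-, haff, h⟩
    · exact Or.inl (exists_iso f hf hsemi h)
    · exact Or.inr (exists_iso f hf haff h)
  · right
    refine ⟨rfl, rfl, ?_⟩
    rcases hiso rfl with h | ⟨h3, -⟩
    · exact exists_iso f hf hsemi h
    · omega

end Cfsg.Agent.S4025
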