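import Cfsg.Statements.S3378
import Cfsg.Agent.H59.A5Char

set_option autoImplicit false
open Cfsg

namespace Cfsg.Agent.S3378

abbrev rels : Set (FreeGroup (Fin 3)) :=
  {FreeGroup.of (0 : Fin 3) ^ 3, FreeGroup.of (1 : Fin 3) ^ 5, FreeGroup.of (2 : Fin 3) ^ 2,
        (FreeGroup.of (2 : Fin 3))⁻¹ * FreeGroup.of 0 * FreeGroup.of 2 * (FreeGroup.of (0 : Fin 3))⁻¹,
        (FreeGroup.of (2 : Fin 3))⁻¹ * FreeGroup.of 1 * FreeGroup.of 2 * (FreeGroup.of (1 : Fin 3))⁻¹,
        (FreeGroup.of (0 : Fin 3) * FreeGroup.of 1) ^ 2 * (FreeGroup.of (2 : Fin 3))⁻¹}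

theorem exists_hom {G : Type*} [Group G] [Finite G] (x y z : G) (hgen : Subgroup.closure {x, y} = ⊤)
    (hx : x ^ 3 = 1) (hy : y ^ 5 = 1) (hz : z ^ 2 = 1) (hzx : x * z = z * x) (hzy : y * z = z * y)
    (hxy : (x * y) ^ 2 = z) (h120 : Nat.card G = 120) : Nonempty (PresentedGroup rels ≃* G) := by
  classical
  let φ : PresentedGroup rels →* G := PresentedGroup.toGroup (f := ![x, y, z]) (by
    intro r hr'
    simp only [rels, Set.mem_insert_iff, Set.mem_singleton_iff] at hr'
    rcases hr' with rfl | rfl | rfl | rfl | rfl | rfl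
    · simp [hx]
    · simp [hy]
    · simp [hz]
    · simp [mul_assoc, ← hzx]
      rw [← mul_assoc x z, hzx]; group
    · simp [mul_assoc]
      rw [← mul_assoc y z, hzy]; group
    · simp [hxy])
  set a : PresentedGroup rels := PresentedGroup.of 0
  set b : PresentedGroup rels := PresentedGroup.of 1
  set c : PresentedGroup rels := PresentedGroup.of 2
  have hrel : ∀ r ∈ rels, PresentedGroup.mk rels r = 1 := fun r hr' =>
    (PresentedGroup.mk_eq_one_iff).2 (Subgroup.subset_normalClosure hr')
  have hc : (a * b) ^ 2 = c := by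
    have h := hrel ((FreeGroup.of 0 * FreeGroup.of 1) ^ 2 * (FreeGroup.of 2)⁻¹) (by simp)
    rw [map_mul, map_inv, mul_inv_eq_one, map_pow, map_mul] at h
    exact h
  have hca : a * c = c * a := by
    have h := hrel ((FreeGroup.of 2)⁻¹ * FreeGroup.of 0 * FreeGroup.of 2 * (FreeGroup.of 0)⁻¹) (by simp)
    simp only [map_mul, map_inv] at h
    rw [mul_inv_eq_one, mul_assoc, inv_mul_eq_iff_eq_mul] at h
    exact h
  have hcb : b * c = c * b := by
    have h := hrel ((FreeGroup.of 2)⁻¹ * FreeGroup.of 1 * FreeGroup.of 2 * (FreeGroup.of 1)⁻¹) (by simp)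
    simp only [map_mul, map_inv] at h
    rw [mul_inv_eq_one, mul_assoc, inv_mul_eq_iff_eq_mul] at h
    exact h
  have hgen' : Subgroup.closure {a, b} = ⊤ := by
    rw [eq_top_iff, ← PresentedGroup.closure_range_of, Subgroup.closure_le]
    rintro _ ⟨i, rfl⟩
    have ha : a ∈ Subgroup.closure {a, b} := Subgroup.subset_closure (by simp)
    have hb : b ∈ Subgroup.closure {a, b} := Subgroup.subset_closure (by simp)
    fin_cases i
    · exact ha
    · exact hb
    · show c ∈ Subgroup.closure {a, b}
      rw [← hc]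
      exact pow_mem (mul_mem ha hb) 2
  have hcentral : ∀ g, g * c = c * g := by
    intro g
    have hm : g ∈ Subgroup.closure {a, b} := by rw [hgen']; exact Subgroup.mem_top g
    have hle : Subgroup.closure {a, b} ≤ Subgroup.centralizer {c} := by
      rw [Subgroup.closure_le]
      intro w hw
      rw [SetLike.mem_coe, Subgroup.mem_centralizer_singleton_iff]
      rcases hw with rfl | rfl
      · exact hca
      · exact hcb
    exact Subgroup.mem_centralizer_singleton_iff.1 (hle hm)
  obtain ⟨hfin, -, hle⟩ := H59.card_le_binary a b c hgen'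
    (by have h := hrel (FreeGroup.of 0 ^ 3) (by simp); rwa [map_pow] at h)
    (by have h := hrel (FreeGroup.of 1 ^ 5) (by simp); rwa [map_pow] at h)
    (by have h := hrel (FreeGroup.of 2 ^ 2) (by simp); rwa [map_pow, sq] at h) hcentral hc
  have hφ : Function.Surjective φ := by
    rw [← MonoidHom.range_eq_top, eq_top_iff, ← hgen, Subgroup.closure_le]
    intro g hg
    rcases hg with rfl | rfl
    · exact ⟨a, by simp [φ, a]⟩
    · exact ⟨b, by simp [φ, b]⟩
  exact ⟨MulEquiv.ofBijective φ (hφ.bijective_of_nat_card_le (by rw [h120]; exact hle))⟩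

theorem pres_iso : Nonempty (PresentedGroup rels ≃* H59.SL25) := by
  obtain ⟨h3, h5, h4, -, -, hx, hy⟩ := H59.xs_rel
  exact exists_hom H59.xs H59.gT5 ((H59.xs * H59.gT5) ^ 2) H59.closure_xs h3 h5 h4 hx.symm hy.symm rfl H59.card_SL25

theorem quat_one_involution : ∀ a b : QuaternionGroup 2, a * a = 1 → b * b = 1 → a ≠ 1 → b ≠ 1 → a = b := by
  decide

theorem result :
    (∀ (G : Type*) [Group G] [Finite G], Nat.card G = 120 → ¬ Group.IsSolvable G →
      (∀ P : Sylow 2 G, Nonempty ((P : Subgroup G) ≃* QuaternionGroup 2)) →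
      Nonempty (G ≃* Matrix.SpecialLinearGroup (Fin 2) (ZMod 5))) ∧
    Nonempty (PresentedGroup ({FreeGroup.of (0 : Fin 3) ^ 3, FreeGroup.of (1 : Fin 3) ^ 5, FreeGroup.of (2 : Fin 3) ^ 2,
        (FreeGroup.of (2 : Fin 3))⁻¹ * FreeGroup.of 0 * FreeGroup.of 2 * (FreeGroup.of (0 : Fin 3))⁻¹,
        (FreeGroup.of (2 : Fin 3))⁻¹ * FreeGroup.of 1 * FreeGroup.of 2 * (FreeGroup.of (1 : Fin 3))⁻¹,
        (FreeGroup.of (0 : Fin 3) * FreeGroup.of 1) ^ 2 * (FreeGroup.of (2 : Fin 3))⁻¹} : Set (FreeGroup (Fin 3)))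
      ≃* Matrix.SpecialLinearGroup (Fin 2) (ZMod 5)) := by
  refine ⟨?_, pres_iso⟩
  intro G _ _ h120 hns hQ
  classical
  haveI : Fact (Nat.Prime 2) := ⟨Nat.prime_two⟩
  -- two commuting involutions of G coincide
  have huniq : ∀ a b : G, a * a = 1 → b * b = 1 → a * b = b * a → a ≠ 1 → b ≠ 1 → a = b := by
    intro a b ha hb hab ha1 hb1
    have hpa : IsPGroup 2 (Subgroup.closure {a, b}) := by
      intro g
      refine ⟨1, ?_⟩
      apply Subtype.ext
      have hle : Subgroup.closure {a, b} ≤ Subgroup.centralizer {a} ⊓ Subgroup.centralizer {b} := by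
        rw [Subgroup.closure_le]
        intro w hw
        simp only [Subgroup.coe_inf, Set.mem_inter_iff, SetLike.mem_coe, Subgroup.mem_centralizer_singleton_iff]
        rcases hw with rfl | rfl
        · exact ⟨rfl, hab⟩
        · exact ⟨hab.symm, rfl⟩
      show (g : G) ^ (2 ^ 1) = 1
      rw [pow_one]
      obtain ⟨g, hg⟩ := g
      show g ^ 2 = 1
      induction hg using Subgroup.closure_induction with
      | mem w hw => rcases hw with rfl | rfl <;> rw [sq] <;> assumption
      | one => simp
      | mul u v hu hv ihu ihv =>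
        have hcomm : Commute u v := by
          have hsub : Subgroup.closure {a, b} ≤ Subgroup.centralizer (Subgroup.closure {a, b} : Set G) := by
            haveI := Subgroup.isMulCommutative_closure (k := ({a, b} : Set G)) (by
              intro p hp q hq
              rcases hp with rfl | rfl <;> rcases hq with rfl | rfl <;> first | rfl | exact hab | exact hab.symm)
            exact Subgroup.le_centralizer _
          exact Subgroup.mem_centralizer_iff.1 (hsub hv) u hu
        rw [hcomm.mul_pow, ihu, ihv, one_mul]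
      | inv u _ ihu => rw [inv_pow, ihu, inv_one]
    obtain ⟨P, hP⟩ := hpa.exists_le_sylow
    obtain ⟨e⟩ := hQ P
    have hma : a ∈ (P : Subgroup G) := hP (Subgroup.subset_closure (by simp))
    have hmb : b ∈ (P : Subgroup G) := hP (Subgroup.subset_closure (by simp))
    have := quat_one_involution (e ⟨a, hma⟩) (e ⟨b, hmb⟩)
      (by rw [← map_mul, show (⟨a, hma⟩ * ⟨a, hma⟩ : (P : Subgroup G)) = 1 from Subtype.ext ha, map_one])
      (by rw [← map_mul, show (⟨b, hmb⟩ * ⟨b, hmb⟩ : (P : Subgroup G)) = 1 from Subtype.ext hb, map_one])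
      (by simpa [MulEquiv.map_eq_one_iff] using ha1) (by simpa [MulEquiv.map_eq_one_iff] using hb1)
    exact congrArg Subtype.val (e.injective this)
  haveI : Nontrivial G := Finite.one_lt_card_iff_nontrivial.1 (by omega)
  obtain ⟨N, hNn, hb, ht⟩ : ∃ N : Subgroup G, N.Normal ∧ N ≠ ⊥ ∧ N ≠ ⊤ := by
    by_contra! hN
    haveI : IsSimpleGroup G := ⟨fun N hN' => or_iff_not_imp_left.2 (hN N hN')⟩
    exact H59.not_simple_120 h120
  have h2 : 2 ≤ Nat.card N := Subgroup.one_lt_card_iff_ne_bot _ |>.2 hb
  have hidx : 2 ≤ N.index := by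
    have h0 := Subgroup.index_ne_zero_of_finite (H := N)
    have h1 : N.index ≠ 1 := fun h => ht (Subgroup.index_eq_one.1 h)
    omega
  have hmul := Subgroup.card_mul_index N
  rw [h120] at hmul
  have hQc : Nat.card (G ⧸ N) = N.index := rfl
  rcases Nat.lt_or_ge (Nat.card N) 60 with hsN | hbN
  · rcases Nat.lt_or_ge N.index 60 with hsQ | hbQ
    · haveI := H59.solvable_of_card hsN ((Subgroup.card_subgroup_dvd_card N).trans (by rw [h120]))
      haveI := H59.solvable_of_card (G := G ⧸ N) (hQc ▸ hsQ) ((Subgroup.card_quotient_dvd_card N).trans (by rw [h120]))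
      exact absurd (Group.isSolvable_of_ker_le_range N.subtype (QuotientGroup.mk' N) (by simp)) hns
    · have hN2 : Nat.card N = 2 := by nlinarith
      have hQ60 : Nat.card (G ⧸ N) = 60 := by rw [hQc]; rw [hN2] at hmul; omega
      have hQns : ¬ Group.IsSolvable (G ⧸ N) := by
        intro hs
        haveI := H59.solvable_of_card (G := N) (by omega) ((Subgroup.card_subgroup_dvd_card N).trans (by rw [h120]))
        exact hns (Group.isSolvable_of_ker_le_range N.subtype (QuotientGroup.mk' N) (by simp))
      haveI := H59.simple_of_nonsolvable_60 hQ60 hQns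
      obtain ⟨e⟩ := H59.simple60_iso hQ60
      set π : G →* alternatingGroup (Fin 5) := e.toMonoidHom.comp (QuotientGroup.mk' N) with hπ
      have hker : ∀ g : G, π g = 1 ↔ g ∈ N := fun g => by simp [hπ]
      have hsur : Function.Surjective π := e.surjective.comp (QuotientGroup.mk'_surjective N)
      have hNsq : ∀ g ∈ N, g * g = 1 := by
        intro g hg
        have hd : orderOf (⟨g, hg⟩ : N) ∣ 2 := hN2 ▸ orderOf_dvd_natCard _
        have := orderOf_dvd_iff_pow_eq_one.1 hd
        rw [sq] at this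
        exact congrArg Subtype.val this
      obtain ⟨h3, h5, h2', n3, n5, n2⟩ := H59.xa_rel
      obtain ⟨u, hu⟩ := hsur H59.xa
      obtain ⟨v, hv⟩ := hsur H59.ya
      have hu3 : u ^ 3 * u ^ 3 = 1 := hNsq _ ((hker _).1 (by rw [map_pow, hu, h3]))
      have hv5 : v ^ 5 * v ^ 5 = 1 := hNsq _ ((hker _).1 (by rw [map_pow, hv, h5]))
      set x := u ^ 4 with hx
      set y := v ^ 6 with hy
      have hπx : π x = H59.xa := by rw [hx, map_pow, hu, pow_succ', h3, mul_one]
      have hπy : π y = H59.ya := by rw [hy, map_pow, hv, pow_succ', h5, mul_one]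
      have hx3 : x ^ 3 = 1 := by
        rw [hx, ← pow_mul, show 4 * 3 = (3 + 3) + (3 + 3) by norm_num, pow_add, pow_add, hu3, mul_one]
      have hy5 : y ^ 5 = 1 := by
        rw [hy, ← pow_mul, show 6 * 5 = (5 + 5) + (5 + 5) + (5 + 5) by norm_num, pow_add, pow_add, pow_add, hv5, mul_one, mul_one]
      set z := (x * y) ^ 2 with hz
      have hzN : z ∈ N := (hker _).1 (by rw [hz, map_pow, map_mul, hπx, hπy, h2'])
      have hcen : ∀ g : G, ∀ n ∈ N, g * n = n * g := by
        intro g n hn
        by_cases hn1 : n = 1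
        · simp [hn1]
        have hm := hNn.conj_mem n hn g
        have hne : g * n * g⁻¹ ≠ 1 := fun h => hn1 (conj_eq_one_iff.1 h)
        have := Nat.card_eq_two_iff' (1 : N) |>.1 hN2
        have heq : (⟨g * n * g⁻¹, hm⟩ : N) = ⟨n, hn⟩ :=
          this.unique (fun h => hne (congrArg Subtype.val h)) (fun h => hn1 (congrArg Subtype.val h))
        have h' := congrArg Subtype.val heq
        simp only at h'
        exact mul_inv_eq_iff_eq_mul.1 h'
      have hz1 : z ≠ 1 := by
        intro h1
        obtain ⟨n, hn1⟩ := (Subgroup.ne_bot_iff_exists_ne_one).1 hb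
        have hne : x * y ≠ 1 := fun h => n2 (by rw [← hπx, ← hπy, ← map_mul, h, map_one])
        have := huniq (x * y) (n : G) (by rw [← sq]; exact h1) (hNsq _ n.2) (hcen _ _ n.2) hne
          (fun h => hn1 (Subtype.ext h))
        apply n2
        rw [← hπx, ← hπy, ← map_mul, this]
        exact (hker _).2 n.2
      have hgen : Subgroup.closure {x, y} = ⊤ := by
        set K := Subgroup.closure {x, y}
        have hmap : K.map π = ⊤ := by
          rw [eq_top_iff, ← H59.closure_xa_ya, MonoidHom.map_closure, Set.image_pair, hπx, hπy]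
        have hNK : N ≤ K := by
          intro n hn
          have hzK : z ∈ K := pow_mem (mul_mem (Subgroup.subset_closure (by simp)) (Subgroup.subset_closure (by simp))) 2
          by_cases hn1 : n = 1
          · exact hn1 ▸ one_mem _
          have := Nat.card_eq_two_iff' (1 : N) |>.1 hN2
          have heq : (⟨n, hn⟩ : N) = ⟨z, hzN⟩ :=
            this.unique (fun h => hn1 (congrArg Subtype.val h)) (fun h => hz1 (congrArg Subtype.val h))
          have h' := congrArg Subtype.val heq
          simp only at h'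
          exact h' ▸ hzK
        rw [eq_top_iff]
        intro g _
        obtain ⟨k, hk, hkg⟩ : π g ∈ K.map π := by rw [hmap]; exact Subgroup.mem_top _
        have : k⁻¹ * g ∈ N := (hker _).1 (by rw [map_mul, map_inv, hkg, inv_mul_cancel])
        simpa using mul_mem hk (hNK this)
      obtain ⟨e1⟩ := exists_hom x y z hgen hx3 hy5 (by rw [sq]; exact hNsq _ hzN) (hcen x z hzN) (hcen y z hzN) hz.symm h120
      obtain ⟨e2⟩ := pres_iso
      exact ⟨e1.symm.trans e2⟩
  · exfalso
    have h60 : Nat.card N = 60 := by nlinarith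
    have hi : N.index = 2 := by rw [h60] at hmul; omega
    have hNns : ¬ Group.IsSolvable N := by
      intro hs
      haveI := H59.solvable_of_card (G := G ⧸ N) (by omega) ((Subgroup.card_quotient_dvd_card N).trans (by rw [h120]))
      exact hns (Group.isSolvable_of_ker_le_range N.subtype (QuotientGroup.mk' N) (by simp))
    haveI := H59.simple_of_nonsolvable_60 h60 hNns
    obtain ⟨e⟩ := H59.simple60_iso h60
    have key : ∃ a b : alternatingGroup (Fin 5), a * a = 1 ∧ b * b = 1 ∧ a * b = b * a ∧ a ≠ 1 ∧ b ≠ 1 ∧ a ≠ b :=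
      ⟨⟨Equiv.swap 0 1 * Equiv.swap 2 3, Equiv.Perm.mem_alternatingGroup.2 (by decide)⟩,
        ⟨Equiv.swap 0 2 * Equiv.swap 1 3, Equiv.Perm.mem_alternatingGroup.2 (by decide)⟩,
        by decide +kernel, by decide +kernel, by decide +kernel, by decide +kernel, by decide +kernel, by decide +kernel⟩
    obtain ⟨a, b, ha, hb', hab, ha1, hb1, hne⟩ := key
    let f : alternatingGroup (Fin 5) →* G := N.subtype.comp e.symm.toMonoidHom
    have hf : Function.Injective f := Subtype.val_injective.comp e.symm.injective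
    exact hne (hf (huniq (f a) (f b) (by rw [← map_mul, ha, map_one]) (by rw [← map_mul, hb', map_one])
      (by rw [← map_mul, hab, map_mul]) (fun h => ha1 (hf (h.trans (map_one f).symm)))
      (fun h => hb1 (hf (h.trans (map_one f).symm)))))

end Cfsg.Agent.S3378
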