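import Cfsg.Statements.S3764
import Cfsg.Agent.H29.HallHigmanExtraspecial

set_option autoImplicit false
open Cfsg

namespace Cfsg.Agent.S3764

open Module in
/-- An action on an abelian group of exponent `p` gives a representation over the algebraic
closure of `ZMod p`. -/
theorem exists_rep_aux {N A : Type*} [Group N] [AddCommGroup A] [Finite A] {p : ℕ} [Fact p.Prime]
    (hexp : ∀ a : A, p • a = 0) (act : N →* AddMonoid.End A) :
    ∃ (m : ℕ) (ρ : N →*
        Module.End (AlgebraicClosure (ZMod p)) (Fin m → AlgebraicClosure (ZMod p))),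
      (∀ g, ρ g = 1 → act g = 1) ∧
      ∀ g, (∀ v, act g v = v → v = 0) → ∀ w, ρ g w = w → w = 0 := by
  classical
  obtain ⟨hmod⟩ : Nonempty (Module (ZMod p) A) := ⟨AddCommGroup.zmodModule hexp⟩
  haveI : Module.Finite (ZMod p) A := Module.Finite.of_finite
  let ρ0 : N →* Module.End (ZMod p) A :=
    { toFun := fun g => AddMonoidHom.toZModLinearMap p (act g)
      map_one' := LinearMap.ext fun v => by
        show act 1 v = v
        rw [map_one]; rfl
      map_mul' := fun a b => LinearMap.ext fun v => by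
        show act (a * b) v =
          act a (act b v)
        rw [map_mul]; rfl }
  set m := Module.finrank (ZMod p) A
  let bs := Module.finBasis (ZMod p) A
  let F : Module.End (ZMod p) A →+*
      Module.End (AlgebraicClosure (ZMod p)) (Fin m → AlgebraicClosure (ZMod p)) :=
    ((Matrix.toLinAlgEquiv' (R := AlgebraicClosure (ZMod p))).toRingEquiv.toRingHom.comp
      (algebraMap (ZMod p) (AlgebraicClosure (ZMod p))).mapMatrix).comp
      (LinearMap.toMatrixAlgEquiv bs).toRingEquiv.toRingHom
  have hF : Function.Injective F := by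
    intro a b h
    apply (LinearMap.toMatrixAlgEquiv bs).injective
    apply Matrix.map_injective (algebraMap (ZMod p) (AlgebraicClosure (ZMod p))).injective
    exact (Matrix.toLinAlgEquiv' (R := AlgebraicClosure (ZMod p))).injective h
  refine ⟨m, F.toMonoidHom.comp ρ0, fun g hg => ?_, fun g hg w hw => ?_⟩
  · have h1 : ρ0 g = 1 := hF (hg.trans F.map_one.symm)
    refine AddMonoidHom.ext fun v => ?_
    exact congrArg (fun f : Module.End (ZMod p) A =>
      f v) h1
  · have hinj : Function.Injective ⇑(ρ0 g - 1 : Module.End (ZMod p) A) := by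
      rw [← LinearMap.ker_eq_bot, LinearMap.ker_eq_bot']
      intro v hv
      rw [LinearMap.sub_apply, Module.End.one_apply, sub_eq_zero] at hv
      exact hg _ hv
    have hunit : IsUnit (ρ0 g - 1 : Module.End (ZMod p) A) :=
      (Module.End.isUnit_iff _).mpr ⟨hinj, (LinearMap.injective_iff_surjective).mp hinj⟩
    have h5 := hunit.map F
    rw [map_sub, map_one] at h5
    apply ((Module.End.isUnit_iff _).mp h5).1
    rw [LinearMap.sub_apply, Module.End.one_apply, map_zero]
    exact sub_eq_zero.mpr hw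

/-- A subgroup acting on an elementary abelian subgroup gives a representation over the algebraic
closure of `ZMod p`. -/
theorem exists_rep {G : Type*} [Group G] [Finite G] {p : ℕ} [Fact p.Prime] (V : Subgroup G)
    (hV : Cfsg.IsElementaryAbelian p V) :
    ∃ (m : ℕ) (ρ : ↥(Subgroup.normalizer (V : Set G)) →*
        Module.End (AlgebraicClosure (ZMod p)) (Fin m → AlgebraicClosure (ZMod p))),
      (∀ g : ↥(Subgroup.normalizer (V : Set G)), ρ g = 1 →
        (g : G) ∈ Subgroup.centralizer (V : Set G)) ∧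
      ∀ g : ↥(Subgroup.normalizer (V : Set G)), (∀ v ∈ V, (g : G) * v = v * g → v = 1) →
        ∀ w, ρ g w = w → w = 0 := by
  let cj : ↥(Subgroup.normalizer (V : Set G)) →* Monoid.End ↥V :=
    { toFun := fun g =>
        { toFun := fun v => ⟨(g : G) * v * (g : G)⁻¹, (Subgroup.mem_normalizer_iff.mp g.2 _).mp v.2⟩
          map_one' := Subtype.ext (by simp)
          map_mul' := fun a b => Subtype.ext (by simp [mul_assoc]) }
      map_one' := MonoidHom.ext fun v => Subtype.ext (by
        show ((1 : ↥(Subgroup.normalizer (V : Set G))) : G) * (v : G) * ((1 : ↥(Subgroup.normalizer (V : Set G))) : G)⁻¹ = (v : G)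
        simp)
      map_mul' := fun a b => MonoidHom.ext fun v => Subtype.ext (by
        show ((a * b : ↥(Subgroup.normalizer (V : Set G))) : G) * (v : G) *
            ((a * b : ↥(Subgroup.normalizer (V : Set G))) : G)⁻¹ =
          (a : G) * ((b : G) * (v : G) * (b : G)⁻¹) * (a : G)⁻¹
        simp [mul_assoc]) }
  haveI := hV.1
  letI : CommGroup ↥V := { (inferInstance : Group ↥V) with mul_comm := fun a b => hV.1.is_comm.comm a b }
  let act : ↥(Subgroup.normalizer (V : Set G)) →* AddMonoid.End (Additive ↥V) :=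
    { toFun := fun g => MonoidHom.toAdditive (cj g)
      map_one' := AddMonoidHom.ext fun v => by
        show Additive.ofMul (cj 1 (Additive.toMul v)) = v
        rw [map_one]; rfl
      map_mul' := fun a b => AddMonoidHom.ext fun v => by
        show Additive.ofMul (cj (a * b) (Additive.toMul v)) =
          Additive.ofMul (cj a (cj b (Additive.toMul v)))
        rw [map_mul]; rfl }
  haveI : Finite (Additive ↥V) := inferInstanceAs (Finite ↥V)
  obtain ⟨m, ρ, h1, h2⟩ := exists_rep_aux (p := p)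
    (fun a : Additive ↥V => Additive.toMul.injective (Subtype.ext (hV.2 _ (Additive.toMul a).2))) act
  refine ⟨m, ρ, fun g hg => ?_, fun g hg => h2 g fun v hv => ?_⟩
  · rw [Subgroup.mem_centralizer_iff]
    intro v hv
    have h3 : (g : G) * v * (g : G)⁻¹ = v :=
      congrArg (fun f : AddMonoid.End (Additive ↥V) =>
        ((Additive.toMul (f (Additive.ofMul (⟨v, hv⟩ : ↥V))) : ↥V) : G)) (h1 g hg)
    calc v * (g : G) = (g : G) * v * (g : G)⁻¹ * (g : G) := by rw [h3]
      _ = (g : G) * v := by group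
  · apply Additive.toMul.injective
    apply Subtype.ext
    refine hg _ (Additive.toMul v).2 ?_
    have h3 : (g : G) * ((Additive.toMul v : ↥V) : G) * (g : G)⁻¹ = ((Additive.toMul v : ↥V) : G) :=
      congrArg (fun x : Additive ↥V => ((Additive.toMul x : ↥V) : G)) hv
    calc (g : G) * ((Additive.toMul v : ↥V) : G)
        = (g : G) * ((Additive.toMul v : ↥V) : G) * (g : G)⁻¹ * (g : G) := by group
      _ = ((Additive.toMul v : ↥V) : G) * (g : G) := by rw [h3]

/-- Let p, q, r be distinct primes and let X, Q, V be subgroups of a finite group with X of order r, Q an extraspecial q-group normalized by X with C_Q(X) = Z(Q), and V an elementary abelian p-group normalized by X and Q on which XQ acts faithfully ((X ⊔ Q) ∩ C(V) = 1). If C_V(X) = 1, then q = 2, r = 2^n + 1 for some n, and Q has order 2^(2n+1). -/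
theorem result {G : Type*} [Group G] [Finite G] {p q r : ℕ} (hp : p.Prime) (hq : q.Prime) (hr : r.Prime) (hpq : p ≠ q) (hpr : p ≠ r) (hqr : q ≠ r) (X Q V : Subgroup G) (hX : Nat.card X = r) (hQ : Cfsg.IsExtraspecial q ↥Q) (hXQ : X ≤ Subgroup.normalizer (Q : Set G)) (hCQ : Q ⊓ Subgroup.centralizer (X : Set G) = (Subgroup.center ↥Q).map Q.subtype) (hV : Cfsg.IsElementaryAbelian p V) (hXV : X ≤ Subgroup.normalizer (V : Set G)) (hQV : Q ≤ Subgroup.normalizer (V : Set G)) (hfaith : (X ⊔ Q) ⊓ Subgroup.centralizer (V : Set G) = ⊥) (hCV : V ⊓ Subgroup.centralizer (X : Set G) = ⊥) : q = 2 ∧ ∃ n : ℕ, r = 2 ^ n + 1 ∧ Nat.card Q = 2 ^ (2 * n + 1) := by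
  classical
  haveI : Fact p.Prime := ⟨hp⟩
  haveI : Fact r.Prime := ⟨hr⟩
  obtain ⟨m, ρ, hker, hfpf⟩ := exists_rep V hV
  -- a generator of `X`
  obtain ⟨x, hx⟩ := (isCyclic_of_prime_card hX).exists_generator
  have hxr : x ^ r = 1 := hX ▸ pow_card_eq_one'
  have hXzp : ∀ y ∈ X, ∃ k : ℤ, (x : G) ^ k = y := by
    intro y hy
    obtain ⟨k, hk⟩ := Subgroup.mem_zpowers_iff.mp (hx ⟨y, hy⟩)
    exact ⟨k, (Subgroup.coe_zpow X x k).symm.trans (congrArg Subtype.val hk)⟩
  have hcX : ∀ y : G, (x : G) * y = y * x → y ∈ Subgroup.centralizer (X : Set G) := by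
    intro y hy
    rw [Subgroup.mem_centralizer_iff]
    intro a ha
    obtain ⟨k, rfl⟩ := hXzp a ha
    exact (Commute.zpow_left hy k)
  have hxN : ∀ a ∈ Q, (x : G) * a * (x : G)⁻¹ ∈ Q := fun a ha =>
    (Subgroup.mem_normalizer_iff.mp (hXQ x.2) a).mp ha
  have hxN' : ∀ a ∈ Q, (x : G)⁻¹ * a * (x : G) ∈ Q := fun a ha => by
    apply (Subgroup.mem_normalizer_iff.mp (hXQ x.2) _).mpr
    have : (x : G) * ((x : G)⁻¹ * a * x) * (x : G)⁻¹ = a := by group
    rw [this]; exact ha
  let θ : ↥Q ≃* ↥Q :=
    { toFun := fun a => ⟨(x : G) * a * (x : G)⁻¹, hxN a a.2⟩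
      invFun := fun a => ⟨(x : G)⁻¹ * a * (x : G), hxN' a a.2⟩
      left_inv := fun a => Subtype.ext (by simp [mul_assoc])
      right_inv := fun a => Subtype.ext (by simp [mul_assoc])
      map_mul' := fun a b => Subtype.ext (by simp [mul_assoc]) }
  have hθr : ∀ a, (θ : ↥Q → ↥Q)^[r] a = a := by
    intro a
    have h : ∀ k : ℕ, (((θ : ↥Q → ↥Q)^[k] a : ↥Q) : G) = (x : G) ^ k * a * ((x : G) ^ k)⁻¹ := by
      intro k
      induction k with
      | zero => simp
      | succ k ih =>
        rw [Function.iterate_succ_apply']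
        show (x : G) * _ * (x : G)⁻¹ = _
        rw [ih, pow_succ']
        group
    apply Subtype.ext
    have hxr' : (x : G) ^ r = 1 := (Subgroup.coe_pow X x r).symm.trans (congrArg Subtype.val hxr)
    rw [h r, hxr']
    group
  have hθfix : ∀ a, θ a = a ↔ a ∈ Subgroup.center ↥Q := by
    intro a
    constructor
    · intro h
      have h' : (a : G) ∈ Q ⊓ Subgroup.centralizer (X : Set G) := by
        refine ⟨a.2, hcX _ ?_⟩
        have h1 : (x : G) * a * (x : G)⁻¹ = a := congrArg Subtype.val h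
        calc (x : G) * a = (x : G) * a * (x : G)⁻¹ * x := by group
          _ = a * x := by rw [h1]
      rw [hCQ] at h'
      obtain ⟨b, hb, hba⟩ := h'
      exact (Subtype.ext hba : b = a) ▸ hb
    · intro h
      have h' : (a : G) ∈ Q ⊓ Subgroup.centralizer (X : Set G) := hCQ ▸ ⟨a, h, rfl⟩
      apply Subtype.ext
      show (x : G) * a * (x : G)⁻¹ = a
      rw [Subgroup.mem_centralizer_iff.mp h'.2 x x.2]
      group
  let ρQ : ↥Q →* Module.End (AlgebraicClosure (ZMod p)) (Fin m → AlgebraicClosure (ZMod p)) :=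
    ρ.comp (Subgroup.inclusion hQV)
  have hρQ : Function.Injective ρQ := by
    intro a b h
    have h1 : ρ (Subgroup.inclusion hQV (a⁻¹ * b)) = 1 := by
      show ρQ (a⁻¹ * b) = 1
      rw [map_mul, ← h, ← map_mul, inv_mul_cancel, map_one]
    have h2 : ((a⁻¹ * b : ↥Q) : G) ∈ (X ⊔ Q) ⊓ Subgroup.centralizer (V : Set G) :=
      ⟨(le_sup_right : Q ≤ X ⊔ Q) (a⁻¹ * b : ↥Q).2, hker _ h1⟩
    rw [hfaith, Subgroup.mem_bot] at h2
    exact inv_mul_eq_one.mp (Subtype.ext h2)
  let xN : ↥(Subgroup.normalizer (V : Set G)) := ⟨x, hXV x.2⟩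
  have hu : ρ xN ^ r = 1 := by
    rw [← map_pow]
    have : xN ^ r = 1 := Subtype.ext
      ((Subgroup.coe_pow _ xN r).trans ((Subgroup.coe_pow X x r).symm.trans (congrArg Subtype.val hxr)))
    rw [this, map_one]
  have hfix : ∀ w, ρ xN w = w → w = 0 := by
    refine hfpf xN fun v hv hcomm => ?_
    have : v ∈ V ⊓ Subgroup.centralizer (X : Set G) := ⟨hv, hcX v hcomm⟩
    rw [hCV, Subgroup.mem_bot] at this
    exact this
  have hcomm : ∀ a, ρ xN * ρQ a = ρQ (θ a) * ρ xN := by
    intro a
    show ρ xN * ρ (Subgroup.inclusion hQV a) = ρ (Subgroup.inclusion hQV (θ a)) * ρ xN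
    rw [← map_mul, ← map_mul]
    congr 1
    apply Subtype.ext
    show (x : G) * a = (x : G) * a * (x : G)⁻¹ * x
    group
  have hcast : ∀ s : ℕ, s.Prime → p ≠ s → (s : AlgebraicClosure (ZMod p)) ≠ 0 := by
    intro s hs hne h
    rw [CharP.cast_eq_zero_iff _ p] at h
    exact hne ((Nat.prime_dvd_prime_iff_eq hp hs).mp h)
  exact H29.hallHigman_extraspecial hq hr hqr hQ θ hθr hθfix (hcast q hq hpq) (hcast r hr hpr)
    ρQ hρQ (ρ xN) hu hfix hcomm

end Cfsg.Agent.S3764
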