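import Cfsg.Statements.S0879
import Cfsg.Agent.H14.Basic

set_option autoImplicit false
open Cfsg

namespace Cfsg.Agent.S0879

/-- Let G be a Zassenhaus group on the finite set Ω and E the stabilizer of two distinct points a, b. Then an element outside the normalizer of E conjugates no non-identity element of E into E, and E has index 2 in its normalizer. -/
theorem result {G Ω : Type*} [Group G] [Finite G] [MulAction G Ω] [Fintype Ω] (hZ : Cfsg.IsZassenhausGroup G Ω) {a b : Ω} (hab : a ≠ b) : (∀ g : G, g ∉ Subgroup.normalizer ((MulAction.stabilizer G a ⊓ MulAction.stabilizer G b : Subgroup G) : Set G) → ∀ x ∈ (MulAction.stabilizer G a ⊓ MulAction.stabilizer G b : Subgroup G), g * x * g⁻¹ ∈ (MulAction.stabilizer G a ⊓ MulAction.stabilizer G b : Subgroup G) → x = 1) ∧ ((MulAction.stabilizer G a ⊓ MulAction.stabilizer G b : Subgroup G).subgroupOf (Subgroup.normalizer ((MulAction.stabilizer G a ⊓ MulAction.stabilizer G b : Subgroup G) : Set G))).index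 = 2 := by
  classical
  obtain ⟨hfaith, h2t, h3, hex, hlast⟩ := hZ
  set E : Subgroup G := MulAction.stabilizer G a ⊓ MulAction.stabilizer G b with hEdef
  have htr : ∀ x y x' y' : Ω, x ≠ y → x' ≠ y' → ∃ g : G, g • x = x' ∧ g • y = y' := fun x y x' y' h h' =>
    (MulAction.is_two_pretransitive_iff.mp h2t) h h'
  have hmemE : ∀ g : G, g ∈ E ↔ g • a = a ∧ g • b = b := fun g => Iff.rfl
  obtain ⟨e, he, he1⟩ : ∃ e ∈ E, e ≠ 1 := by
    obtain ⟨g, hg1, x, y, hxy, hgx, hgy⟩ := hex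
    obtain ⟨h, hha, hhb⟩ := htr x y a b hxy hab
    refine ⟨h * g * h⁻¹, (hmemE _).mpr ⟨?_, ?_⟩, fun h' => hg1 (by simpa using h')⟩
    · rw [mul_smul, mul_smul, ← hha, inv_smul_smul, hgx]
    · rw [mul_smul, mul_smul, ← hhb, inv_smul_smul, hgy]
  have hfix : ∀ x ∈ E, x ≠ 1 → ∀ c : Ω, x • c = c → c = a ∨ c = b := by
    intro x hx hx1 c hc
    by_contra h
    push Not at h
    exact hx1 (h3 x a b c hab h.2.symm h.1.symm ((hmemE x).mp hx).1 ((hmemE x).mp hx).2 hc)
  have hkey : ∀ g : G, ∀ x ∈ E, x ≠ 1 → g * x * g⁻¹ ∈ E →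
      (g • a = a ∧ g • b = b) ∨ (g • a = b ∧ g • b = a) := by
    intro g x hx hx1 hgx
    have hne : g * x * g⁻¹ ≠ 1 := fun h' => hx1 (by simpa using h')
    have ha' := hfix _ hgx hne (g • a) (by rw [mul_smul, mul_smul, inv_smul_smul, ((hmemE x).mp hx).1])
    have hb' := hfix _ hgx hne (g • b) (by rw [mul_smul, mul_smul, inv_smul_smul, ((hmemE x).mp hx).2])
    have : g • a ≠ g • b := fun h => hab (MulAction.injective g h)
    rcases ha' with ha' | ha' <;> rcases hb' with hb' | hb'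
    · exact absurd (ha'.trans hb'.symm) this
    · exact Or.inl ⟨ha', hb'⟩
    · exact Or.inr ⟨ha', hb'⟩
    · exact absurd (ha'.trans hb'.symm) this
  have hnorm : ∀ g : G, ((g • a = a ∧ g • b = b) ∨ (g • a = b ∧ g • b = a)) →
      g ∈ Subgroup.normalizer (E : Set G) := by
    intro g hg
    rw [Subgroup.mem_normalizer_iff]
    intro x
    rw [hmemE, hmemE]
    simp only [mul_smul]
    rcases hg with ⟨h1, h2⟩ | ⟨h1, h2⟩
    · rw [inv_smul_eq_iff.mpr h1.symm, inv_smul_eq_iff.mpr h2.symm]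
      constructor
      · rintro ⟨p, q⟩; rw [p, q, h1, h2]; exact ⟨rfl, rfl⟩
      · rintro ⟨p, q⟩
        exact ⟨MulAction.injective g (p.trans h1.symm), MulAction.injective g (q.trans h2.symm)⟩
    · rw [inv_smul_eq_iff.mpr h2.symm, inv_smul_eq_iff.mpr h1.symm]
      constructor
      · rintro ⟨p, q⟩; rw [p, q, h1, h2]; exact ⟨rfl, rfl⟩
      · rintro ⟨p, q⟩
        exact ⟨MulAction.injective g (q.trans h1.symm), MulAction.injective g (p.trans h2.symm)⟩
  refine ⟨?_, ?_⟩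
  · intro g hg x hx hgx
    by_contra hx1
    exact hg (hnorm g (hkey g x hx hx1 hgx))
  · rw [Subgroup.index_eq_two_iff]
    obtain ⟨t, hta, htb⟩ := htr a b b a hab hab.symm
    refine ⟨⟨t, hnorm t (Or.inr ⟨hta, htb⟩)⟩, fun g => ?_⟩
    have hgcase := hkey (g : G) e he he1 ((Subgroup.mem_normalizer_iff.mp g.2 e).mp he)
    simp only [Subgroup.mem_subgroupOf, Subgroup.coe_mul, hmemE, mul_smul, hta, htb]
    rcases hgcase with ⟨h1, h2⟩ | ⟨h1, h2⟩
    · rw [h1, h2]; exact Or.inr ⟨⟨rfl, rfl⟩, fun h => hab h.1.symm⟩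
    · rw [h1, h2]; exact Or.inl ⟨⟨rfl, rfl⟩, fun h => hab h.1.symm⟩

end Cfsg.Agent.S0879
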