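import Cfsg.Statements.S0739
import Cfsg.Agent.S0879
import Cfsg.Agent.H2.FPFSylow
import Cfsg.Agent.H2.UniqueSubgroup
import Cfsg.Agent.H2.FrobeniusKernel
import Mathlib.GroupTheory.SpecificGroups.ZGroup

set_option autoImplicit false
open Cfsg

namespace Cfsg.Agent.S0739

theorem conj_comm_of_cyclic {G : Type*} [Group G] {D : Subgroup G} (hD : IsCyclic D) {g₁ g₂ : G}
    (h₁ : ∀ w ∈ D, g₁ * w * g₁⁻¹ ∈ D) (h₂ : ∀ w ∈ D, g₂ * w * g₂⁻¹ ∈ D) {w : G} (hw : w ∈ D) :
    g₁ * (g₂ * w * g₂⁻¹) * g₁⁻¹ = g₂ * (g₁ * w * g₁⁻¹) * g₂⁻¹ := by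
  obtain ⟨⟨w₀, hw₀⟩, hgen⟩ := hD.exists_generator
  have hz : ∀ x ∈ D, ∃ n : ℤ, w₀ ^ n = x := fun x hx => by
    obtain ⟨n, hn⟩ := hgen ⟨x, hx⟩
    exact ⟨n, by simpa using congrArg Subtype.val hn⟩
  obtain ⟨k, hk⟩ := hz _ (h₁ w₀ hw₀)
  obtain ⟨l, hl⟩ := hz _ (h₂ w₀ hw₀)
  obtain ⟨n, rfl⟩ := hz w hw
  simp only [← conj_zpow, ← hk, ← hl, ← zpow_mul]
  rw [mul_left_comm]

/-- An automorphism of order two of a cyclic group of odd prime power order is inversion. -/
theorem inv_of_sq_fix {G : Type*} [Group G] {q e : ℕ} (hq : q.Prime) (hq2 : q ≠ 2) {x n : G}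
    (hx : orderOf x = q ^ e) {k : ℤ} (hk : n * x * n⁻¹ = x ^ k)
    (h2 : n * (n * x * n⁻¹) * n⁻¹ = x) (hne : n * x * n⁻¹ ≠ x) : n * x * n⁻¹ = x⁻¹ := by
  rw [hk, ← conj_zpow, hk, ← zpow_mul] at h2
  have h3 : ((q : ℤ) ^ e) ∣ (k - 1) * (k + 1) := by
    have h4 : x ^ (k * k - 1) = 1 := by rw [zpow_sub, h2, zpow_one, mul_inv_cancel]
    have h5 := orderOf_dvd_iff_zpow_eq_one.2 h4
    rw [hx, Nat.cast_pow] at h5
    rwa [show (k - 1) * (k + 1) = k * k - 1 by ring]
  have hqi : Prime (q : ℤ) := Nat.prime_iff_prime_int.1 hq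
  have hone : ∀ a : ℤ, ((q : ℤ) ^ e) ∣ a → x ^ a = 1 := fun a ha => by
    rw [← orderOf_dvd_iff_zpow_eq_one, hx, Nat.cast_pow]; exact ha
  by_cases hk1 : (q : ℤ) ∣ k - 1
  · have hk2 : ¬ (q : ℤ) ∣ k + 1 := fun h => by
      have h6 := dvd_sub h hk1
      rw [show (k + 1) - (k - 1) = 2 by ring] at h6
      exact hq2 ((Nat.prime_dvd_prime_iff_eq hq Nat.prime_two).1 (by exact_mod_cast h6))
    have h7 := (((hqi.coprime_iff_not_dvd).2 hk2).pow_left (m := e)).dvd_of_dvd_mul_right h3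
    refine absurd ?_ hne
    have h8 := hone _ h7
    rwa [zpow_sub_one, mul_inv_eq_one, ← hk] at h8
  · have h7 := (((hqi.coprime_iff_not_dvd).2 hk1).pow_left (m := e)).dvd_of_dvd_mul_left h3
    have h8 := hone _ h7
    rw [zpow_add_one, ← eq_inv_iff_mul_eq_one] at h8
    rw [hk, h8]

theorem main {G Ω : Type*} [Group G] [Finite G] [MulAction G Ω] [Fintype Ω]
    (hZ : Cfsg.IsZassenhausGroup G Ω) {a b : Ω} (hab : a ≠ b)
    (H : Subgroup G) (hH : H = MulAction.stabilizer G a ⊓ MulAction.stabilizer G b)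
    (hodd : Odd (Nat.card H))
    (hnil : ∀ q : ℕ, q.Prime → q ∣ Nat.card H →
      ¬ ∃ N : Subgroup G, N.Normal ∧ N.index = q ^ (Nat.card G).factorization q) :
    IsCyclic H ∧ Subgroup.centralizer (H : Set G) = H ∧
      ∀ s : G, s • a = b → s • b = a → ∀ h ∈ H, s * h * s⁻¹ = h⁻¹ := by
  classical
  obtain ⟨hTI, hidx⟩ := Cfsg.Agent.S0879.result hZ hab
  rw [← hH] at hTI hidx
  obtain ⟨hfaith, h2t, h3, hex, -⟩ := hZ
  have htr : ∀ x y x' y' : Ω, x ≠ y → x' ≠ y' → ∃ g : G, g • x = x' ∧ g • y = y' :=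
    fun x y x' y' h h' => (MulAction.is_two_pretransitive_iff.mp h2t) h h'
  have hmem : ∀ g : G, g ∈ H ↔ g • a = a ∧ g • b = b := fun g => by subst hH; exact Iff.rfl
  obtain ⟨e₀, he₀, he₀1⟩ : ∃ e ∈ H, e ≠ 1 := by
    obtain ⟨g, hg1, x, y, hxy, hgx, hgy⟩ := hex
    obtain ⟨h, hha, hhb⟩ := htr x y a b hxy hab
    refine ⟨h * g * h⁻¹, (hmem _).mpr ⟨?_, ?_⟩, fun h' => hg1 (by simpa using h')⟩
    · rw [mul_smul, mul_smul, ← hha, inv_smul_smul, hgx]
    · rw [mul_smul, mul_smul, ← hhb, inv_smul_smul, hgy]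
  have hfix : ∀ x ∈ H, x ≠ 1 → ∀ c : Ω, x • c = c → c = a ∨ c = b := by
    intro x hx hx1 c hc
    by_contra h
    push Not at h
    exact hx1 (h3 x a b c hab h.2.symm h.1.symm ((hmem x).mp hx).1 ((hmem x).mp hx).2 hc)
  -- the normaliser of `H`
  obtain ⟨t₀, ht₀a, ht₀b⟩ := htr a b b a hab hab.symm
  set N := Subgroup.normalizer (H : Set G) with hN
  have hHN : H ≤ N := Subgroup.le_normalizer
  have hcases : ∀ g ∈ N, (g ∈ H) ∨ (g • a = b ∧ g • b = a) := by
    intro g hg
    have hgx := (Subgroup.mem_normalizer_iff.1 hg e₀).1 he₀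
    have hne : g * e₀ * g⁻¹ ≠ 1 := fun h' => he₀1 (by simpa using h')
    have ha' := hfix _ hgx hne (g • a) (by rw [mul_smul, mul_smul, inv_smul_smul, ((hmem e₀).mp he₀).1])
    have hb' := hfix _ hgx hne (g • b) (by rw [mul_smul, mul_smul, inv_smul_smul, ((hmem e₀).mp he₀).2])
    have hdiff : g • a ≠ g • b := fun h => hab (MulAction.injective g h)
    rcases ha' with ha' | ha' <;> rcases hb' with hb' | hb'
    · exact absurd (ha'.trans hb'.symm) hdiff
    · exact Or.inl ((hmem g).2 ⟨ha', hb'⟩)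
    · exact Or.inr ⟨ha', hb'⟩
    · exact absurd (ha'.trans hb'.symm) hdiff
  have hswapN : ∀ s : G, s • a = b → s • b = a → s ∈ N := by
    intro s h1 h2
    have key : ∀ s : G, s • a = b → s • b = a → ∀ x ∈ H, s * x * s⁻¹ ∈ H := by
      intro s h1 h2 x hx
      rw [hmem, mul_smul, mul_smul, mul_smul, mul_smul, inv_smul_eq_iff.mpr h2.symm,
        inv_smul_eq_iff.mpr h1.symm, ((hmem x).1 hx).1, ((hmem x).1 hx).2]
      exact ⟨h2, h1⟩
    rw [hN, Subgroup.mem_normalizer_iff]
    refine fun x => ⟨key s h1 h2 x, fun hx => ?_⟩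
    have := key s⁻¹ (inv_smul_eq_iff.mpr h2.symm) (inv_smul_eq_iff.mpr h1.symm) _ hx
    simpa [mul_assoc] using this
  have hprod : ∀ g s : G, g • a = b → g • b = a → s • a = b → s • b = a → g * s⁻¹ ∈ H := by
    intro g s h1 h2 h3 h4
    rw [hmem, mul_smul, mul_smul, inv_smul_eq_iff.mpr h4.symm, inv_smul_eq_iff.mpr h3.symm]
    exact ⟨h2, h1⟩
  have hle : ∀ D : Subgroup G, D ≤ H → D ≠ ⊥ → Subgroup.normalizer (D : Set G) ≤ N := by
    intro D hD hD1 g hg
    obtain ⟨x, hx, hx1⟩ := (Subgroup.bot_or_exists_ne_one D).resolve_left hD1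
    by_contra hgN
    exact hx1 (hTI g hgN x (hD hx) (hD ((Subgroup.mem_normalizer_iff.1 hg x).1 hx)))
  have hNcard : Nat.card N = 2 * Nat.card H := by
    rw [← (H.subgroupOf N).card_mul_index, hidx,
      Nat.card_congr (Subgroup.subgroupOfEquivOfLe hHN).toEquiv, mul_comm]
  -- `H` is a Z-group
  set A := MulAction.stabilizer G a with hA
  set HA : Subgroup A := H.subgroupOf A with hHA
  have hHleA : H ≤ A := fun x hx => ((hmem x).1 hx).1
  have hmemA : ∀ g : A, g ∈ HA ↔ (g : G) • b = b := fun g => by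
    rw [hHA, Subgroup.mem_subgroupOf, hmem]; exact ⟨fun h => h.2, fun h => ⟨g.2, h⟩⟩
  obtain ⟨c, hca, hcb⟩ : ∃ c : Ω, c ≠ a ∧ c ≠ b := by
    by_contra hcon
    push Not at hcon
    refine he₀1 (FaithfulSMul.eq_of_smul_eq_smul (α := Ω) fun x => ?_)
    rw [one_smul]
    by_cases hx : x = a
    · rw [hx, ((hmem e₀).1 he₀).1]
    · rw [hcon x hx, ((hmem e₀).1 he₀).2]
  have hFC : Cfsg.IsFrobeniusComplement HA := by
    refine ⟨?_, ?_, ?_⟩
    · intro h
      have h' : (⟨e₀, hHleA he₀⟩ : A) ∈ HA := he₀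
      rw [h, Subgroup.mem_bot] at h'
      exact he₀1 (congrArg Subtype.val h')
    · intro h
      obtain ⟨g, g1, g2⟩ := htr a b a c hab (Ne.symm hca)
      have : (⟨g, g1⟩ : A) ∈ HA := h ▸ Subgroup.mem_top _
      exact hcb (g2.symm.trans ((hmemA _).1 this))
    · intro g hg
      rw [eq_bot_iff]
      intro x hx
      obtain ⟨hx1, hx2⟩ := Subgroup.mem_inf.1 hx
      rw [Subgroup.mem_pointwise_smul_iff_inv_smul_mem, ← map_inv, MulAut.smul_def,
        MulAut.conj_apply, inv_inv, hmemA] at hx2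
      rw [Subgroup.mem_bot]
      simp only [Subgroup.coe_mul, Subgroup.coe_inv, mul_smul, inv_smul_eq_iff] at hx2
      have hne : (g : G) • b ≠ a := fun h => hab (MulAction.injective (g : G) (h.trans g.2.symm)).symm
      exact Subtype.ext (h3 x a b ((g : G) • b) hab (fun e => hg ((hmemA g).2 e.symm)) hne.symm x.2
        ((hmemA x).1 hx1) hx2)
  obtain ⟨K, -, hKn, hKc⟩ := H2.exists_kernel hFC
  have hoddA : Odd (Nat.card HA) := by
    rwa [hHA, Nat.card_congr (Subgroup.subgroupOfEquivOfLe hHleA).toEquiv]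
  haveI hZA : IsZGroup HA := by
    refine ⟨fun p hp P => ?_⟩
    haveI := Fact.mk hp
    rcases H2.cyclic_or_quaternion_of_unique P.2 (fun S T hS hT =>
        H2.complement_sylow_unique hKc hFC P S T hS hT) with h | ⟨rfl, n, ⟨e⟩⟩
    · exact h
    · exfalso
      have h1 := (P : Subgroup HA).card_subgroup_dvd_card
      rw [Nat.card_congr e.toEquiv] at h1
      have h2 : 2 ∣ Nat.card (QuaternionGroup (2 ^ n)) := by
        rw [Nat.card_eq_fintype_card, QuaternionGroup.card]; exact ⟨2 * 2 ^ n, by ring⟩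
      exact hoddA.not_two_dvd_nat (h2.trans h1)
  haveI hZH : IsZGroup H :=
    IsZGroup.of_injective (f := (Subgroup.subgroupOfEquivOfLe hHleA).symm.toMonoidHom)
      (Subgroup.subgroupOfEquivOfLe hHleA).symm.injective
  -- the derived subgroup
  set D : Subgroup G := (commutator H).map H.subtype with hD
  have hDH : D ≤ H := Subgroup.map_subtype_le _
  have hDcyc : IsCyclic D := by
    have := IsZGroup.isCyclic_commutator H
    let e := (commutator H).equivMapOfInjective _ H.subtype_injective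
    exact isCyclic_of_surjective e e.surjective
  have hDnorm : ∀ g ∈ N, ∀ w ∈ D, g * w * g⁻¹ ∈ D := by
    intro g hg w hw
    have h1 : D = ⁅H, H⁆ := by rw [hD, Subgroup.map_subtype_commutator]
    have h2 : H.map (MulAut.conj g).toMonoidHom = H := by
      apply le_antisymm
      · rintro _ ⟨x, hx, rfl⟩; exact (Subgroup.mem_normalizer_iff.1 hg x).1 hx
      · intro x hx
        exact ⟨g⁻¹ * x * g, (Subgroup.mem_normalizer_iff''.1 hg x).1 hx, by simp [mul_assoc]⟩
    have h3 : D.map (MulAut.conj g).toMonoidHom = D := by rw [h1, Subgroup.map_commutator, h2]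
    rw [← h3]
    exact ⟨w, hw, rfl⟩
  have hcommD : ∀ x ∈ H, ∀ y ∈ H, x * y * x⁻¹ * y⁻¹ ∈ D := by
    intro x hx y hy
    rw [hD, Subgroup.map_subtype_commutator]
    exact Subgroup.commutator_mem_commutator hx hy
  -- swapping elements invert `H` modulo `D`
  have hinvD : ∀ t : G, t • a = b → t • b = a → ∀ h ∈ H, t * h * t⁻¹ * h ∈ D := by
    intro t ht1 ht2
    have htN := hswapN t ht1 ht2
    let S : Subgroup H :=
      { carrier := {h | t * (h : G) * t⁻¹ * h ∈ D}
        one_mem' := by simp [D.one_mem]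
        mul_mem' := by
          intro x y hx hy
          simp only [Set.mem_ofPred_eq, Subgroup.coe_mul] at hx hy ⊢
          have hxH : t * (x : G) * t⁻¹ ∈ H := (Subgroup.mem_normalizer_iff.1 htN _).1 x.2
          have hw : t * (y : G) * t⁻¹ * x * (y : G) ∈ H := H.mul_mem (H.mul_mem
            ((Subgroup.mem_normalizer_iff.1 htN _).1 y.2) x.2) y.2
          have e : t * ((x : G) * y) * t⁻¹ * (x * y) = (t * (x : G) * t⁻¹ * x) *
              (((x : G)⁻¹ * (t * (y : G) * t⁻¹) * x * (t * (y : G) * t⁻¹)⁻¹) *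
                (t * (y : G) * t⁻¹ * y)) := by group
          rw [e]
          refine D.mul_mem hx (D.mul_mem ?_ hy)
          have := hcommD _ (H.inv_mem x.2) _ ((Subgroup.mem_normalizer_iff.1 htN _).1 y.2)
          simpa [mul_assoc] using this
        inv_mem' := by
          intro x hx
          simp only [Set.mem_ofPred_eq, Subgroup.coe_inv] at hx ⊢
          have e : t * (x : G)⁻¹ * t⁻¹ * (x : G)⁻¹ =
              (x : G) * ((x : G)⁻¹ * (t * (x : G)⁻¹ * t⁻¹)) * (x : G)⁻¹ := by group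
          rw [e]
          refine hDnorm _ (hHN x.2) _ ?_
          have := D.inv_mem hx
          simpa [mul_assoc] using this }
    suffices hS : S = ⊤ by
      intro h hh
      exact (hS ▸ Subgroup.mem_top (⟨h, hh⟩ : H) : (⟨h, hh⟩ : H) ∈ S)
    have hDS : ∀ h : H, (h : G) ∈ D → h ∈ S := fun h hh =>
      D.mul_mem (hDnorm t htN _ hh) hh
    refine Subgroup.eq_top_of_card_eq _ (Nat.dvd_antisymm S.card_subgroup_dvd_card ?_)
    refine Nat.dvd_iff_prime_pow_dvd_dvd _ _ |>.2 fun q k hq hqk => ?_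
    haveI := Fact.mk hq
    obtain ⟨Q⟩ : Nonempty (Sylow q H) := inferInstance
    suffices hQS : (Q : Subgroup H) ≤ S by
      refine dvd_trans ?_ (Subgroup.card_dvd_of_le hQS)
      rw [Q.card_eq_multiplicity]
      exact Nat.pow_dvd_pow q ((hq.pow_dvd_iff_le_factorization Nat.card_pos.ne').1 hqk)
    by_cases hQ1 : (Q : Subgroup H) = ⊥
    · simp [hQ1]
    haveI : IsCyclic Q := inferInstance
    rcases Sylow.normalizer_le_centralizer_or_le_commutator Q with hQc | hQc
    swap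
    · exact fun x hx => hDS x (Subgroup.mem_map_of_mem _ (hQc hx))
    set QG : Subgroup G := (Q : Subgroup H).map H.subtype with hQG
    have hQGH : QG ≤ H := Subgroup.map_subtype_le _
    have hQG1 : QG ≠ ⊥ := by
      rw [hQG, Ne, Subgroup.map_eq_bot_iff_of_injective _ H.subtype_injective]; exact hQ1
    have hcQ : Nat.card QG = q ^ (Nat.card H).factorization q := by
      rw [hQG, Subgroup.card_map_of_injective H.subtype_injective]; exact Q.card_eq_multiplicity
    have hqd : q ∣ Nat.card H := by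
      by_contra h
      apply hQ1
      apply Subgroup.eq_bot_of_card_eq
      rw [Q.card_eq_multiplicity, Nat.factorization_eq_zero_of_not_dvd h, pow_zero]
    have hfac : (Nat.card G).factorization q = (Nat.card H).factorization q := by
      refine le_antisymm ?_ (Nat.factorization_le_iff_dvd Nat.card_pos.ne' Nat.card_pos.ne' |>.2
        H.card_subgroup_dvd_card q)
      by_contra hlt
      have h1 : q ^ ((Nat.card H).factorization q + 1) ∣ Nat.card G :=
        (hq.pow_dvd_iff_le_factorization Nat.card_pos.ne').2 (by omega)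
      have h2 := (Sylow.prime_pow_dvd_card_normalizer h1 hcQ).trans
        (Subgroup.card_dvd_of_le (hle QG hQGH hQG1))
      rw [hNcard] at h2
      have hq2 : q ≠ 2 := by rintro rfl; exact hodd.not_two_dvd_nat hqd
      have h3 := (Nat.Coprime.pow_left _
        ((Nat.coprime_primes hq Nat.prime_two).2 hq2)).dvd_of_dvd_mul_left h2
      exact Nat.not_succ_le_self _ ((hq.pow_dvd_iff_le_factorization Nat.card_pos.ne').1 h3)
    let P : Sylow q G := Sylow.ofCard QG (hcQ.trans (by rw [hfac]))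
    have hPc : ((P : Subgroup G)) = QG := rfl
    have hnc : ¬ Subgroup.normalizer (QG : Set G) ≤ Subgroup.centralizer (QG : Set G) := by
      intro hc
      refine hnil q hq hqd ⟨(MonoidHom.transferSylow P hc).ker, MonoidHom.normal_ker _, ?_⟩
      rw [(MonoidHom.ker_transferSylow_isComplement' P hc).symm.index_eq_card]
      exact hcQ.trans (by rw [hfac])
    obtain ⟨n, hn, hnn⟩ := SetLike.not_le_iff_exists.1 hnc
    have hnN := hle QG hQGH hQG1 hn
    obtain ⟨⟨x₀, hx₀⟩, hgen⟩ := (inferInstance : IsCyclic Q).exists_generator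
    have hQgen : ∀ y ∈ QG, ∃ m : ℤ, ((x₀ : H) : G) ^ m = y := by
      rintro _ ⟨y, hy, rfl⟩
      obtain ⟨m, hm⟩ := hgen ⟨y, hy⟩
      exact ⟨m, by simpa using congrArg (fun z : Q => ((z : H) : G)) hm⟩
    have hx₀Q : ((x₀ : H) : G) ∈ QG := Subgroup.mem_map_of_mem _ hx₀
    -- elements of `H` normalising `Q` centralise it
    have hHc : ∀ g ∈ H, g ∈ Subgroup.normalizer (QG : Set G) →
        g * (x₀ : G) * g⁻¹ = (x₀ : G) := by
      intro g hg hgQ
      have h1 : (⟨g, hg⟩ : H) ∈ Subgroup.normalizer ((Q : Subgroup H) : Set H) := by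
        rw [Subgroup.mem_normalizer_iff]
        intro z
        have := Subgroup.mem_normalizer_iff.1 hgQ (z : G)
        constructor
        · intro hz
          obtain ⟨w, hw, hwe⟩ := this.1 (Subgroup.mem_map_of_mem _ hz)
          have : (⟨g, hg⟩ : H) * z * (⟨g, hg⟩ : H)⁻¹ = w := Subtype.ext (by simpa using hwe.symm)
          rw [this]; exact hw
        · intro hz
          obtain ⟨w, hw, hwe⟩ := this.2 (Subgroup.mem_map_of_mem (f := H.subtype) hz)
          have : z = w := Subtype.ext (by simpa using hwe.symm)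
          rw [this]; exact hw
      have h2 := congrArg Subtype.val ((Subgroup.mem_centralizer_iff.1 (hQc h1)) _ hx₀)
      simp only [Subgroup.coe_mul] at h2
      rw [← h2, mul_inv_cancel_right]
    have hnswap : n • a = b ∧ n • b = a := by
      refine (hcases n hnN).resolve_left fun hnH => hnn ?_
      rw [Subgroup.mem_centralizer_iff]
      intro y hy
      obtain ⟨m, rfl⟩ := hQgen y hy
      have h1 := hHc n hnH hn
      rw [eq_comm, ← mul_inv_eq_iff_eq_mul, ← conj_zpow, h1]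
    have hnne : n * (x₀ : G) * n⁻¹ ≠ (x₀ : G) := fun h => hnn (by
      rw [Subgroup.mem_centralizer_iff]
      intro y hy
      obtain ⟨m, rfl⟩ := hQgen y hy
      rw [eq_comm, ← mul_inv_eq_iff_eq_mul, ← conj_zpow, h])
    have hn2 : n * (n * (x₀ : G) * n⁻¹) * n⁻¹ = (x₀ : G) := by
      have h1 := hHc (n * n) ((hmem _).2 ⟨by rw [mul_smul, hnswap.1, hnswap.2],
        by rw [mul_smul, hnswap.2, hnswap.1]⟩) (mul_mem hn hn)
      simpa [mul_assoc] using h1
    obtain ⟨k, hk⟩ := hQgen _ ((Subgroup.mem_normalizer_iff.1 hn _).1 hx₀Q)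
    obtain ⟨i, -, hi⟩ := (Nat.dvd_prime_pow hq).1 (hcQ ▸ Subgroup.orderOf_dvd_natCard QG hx₀Q)
    have hq2 : q ≠ 2 := by rintro rfl; exact hodd.not_two_dvd_nat hqd
    have hninv := inv_of_sq_fix hq hq2 hi hk.symm hn2 hnne
    have hxS : x₀ ∈ S := by
      show t * (x₀ : G) * t⁻¹ * x₀ ∈ D
      have hh : t * n⁻¹ ∈ H := hprod t n ht1 ht2 hnswap.1 hnswap.2
      have e : t * (x₀ : G) * t⁻¹ * x₀ =
          (t * n⁻¹) * (n * (x₀ : G) * n⁻¹) * (t * n⁻¹)⁻¹ * x₀ := by group
      rw [e, hninv]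
      have := hcommD _ hh _ (H.inv_mem x₀.2)
      simpa using this
    intro y hy
    obtain ⟨m, hm⟩ := hgen ⟨y, hy⟩
    have : x₀ ^ m = y := by simpa using congrArg Subtype.val hm
    exact this ▸ S.zpow_mem hxS m
  -- the derived subgroup is central
  have hcent : ∀ w ∈ D, ∀ h ∈ H, h * w * h⁻¹ = w := by
    intro w hw h hh
    have htN := hswapN t₀ ht₀a ht₀b
    -- `C` is the centraliser of `D`
    have hC : ∀ g₁ ∈ N, ∀ g₂ ∈ N, g₁ * g₂ * g₁⁻¹ * g₂⁻¹ ∈ Subgroup.centralizer (D : Set G) := by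
      intro g₁ h1 g₂ h2
      rw [Subgroup.mem_centralizer_iff]
      intro v hv
      have hv' : g₂⁻¹ * (g₁⁻¹ * v * g₁) * g₂ ∈ D := by
        have := hDnorm _ (inv_mem h1) _ hv
        have := hDnorm _ (inv_mem h2) _ this
        simpa using this
      have h := conj_comm_of_cyclic hDcyc (hDnorm _ h2) (hDnorm _ h1) hv'
      have h' : (g₁ * g₂ * g₁⁻¹ * g₂⁻¹)⁻¹ * v * (g₁ * g₂ * g₁⁻¹ * g₂⁻¹) = v := by
        convert h using 1 <;> group
      rwa [mul_assoc, inv_mul_eq_iff_eq_mul] at h'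
    have hu := hinvD t₀ ht₀a ht₀b h hh
    have hDC : D ≤ Subgroup.centralizer (D : Set G) := by
      intro v hv
      rw [Subgroup.mem_centralizer_iff]
      intro v' hv'
      exact congrArg Subtype.val (hDcyc.isMulCommutative.is_comm.comm (⟨v', hv'⟩ : D) ⟨v, hv⟩)
    have h1 : t₀ * h * t₀⁻¹ * h⁻¹ ∈ Subgroup.centralizer (D : Set G) := hC _ htN _ (hHN hh)
    have h2 : h * h ∈ Subgroup.centralizer (D : Set G) := by
      have := mul_mem (inv_mem h1) (hDC hu)
      simpa [mul_assoc] using this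
    have h3 : h ∈ Subgroup.centralizer (D : Set G) := by
      obtain ⟨m, hm⟩ := hodd
      have h4 : (⟨h, hh⟩ : H) ^ Nat.card H = 1 := pow_card_eq_one'
      have h5 : h ^ (2 * m + 1) = 1 := by
        rw [← hm]; simpa only [Subgroup.coe_pow, Subgroup.coe_one] using congrArg Subtype.val h4
      have : h = ((h * h) ^ m)⁻¹ := by
        rw [← sq, ← pow_mul, eq_inv_iff_mul_eq_one, ← pow_succ', h5]
      rw [this]
      exact inv_mem (pow_mem h2 m)
    rw [mul_inv_eq_iff_eq_mul]
    exact (Subgroup.mem_centralizer_iff.1 h3 w hw).symm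
  have hker : (Abelianization.of (G := H)).ker ≤ Subgroup.center H := by
    rw [Abelianization.ker_of]
    intro w hw
    rw [Subgroup.mem_center_iff]
    intro h
    apply Subtype.ext
    simp only [Subgroup.coe_mul]
    exact mul_inv_eq_iff_eq_mul.1 (hcent _ (Subgroup.mem_map_of_mem _ hw) h h.2)
  haveI hcomm : IsMulCommutative H :=
    MonoidHom.isMulCommutative_of_isCyclic_of_ker_le_center Abelianization.of hker
  have hcyc : IsCyclic H := by
    letI : CommGroup H :=
      { (inferInstance : Group H) with mul_comm := fun x y => hcomm.is_comm.comm x y }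
    infer_instance
  have hD1 : D = ⊥ := by
    rw [hD, Subgroup.map_subtype_commutator, Subgroup.commutator_eq_bot_iff_le_centralizer]
    intro x hx
    rw [Subgroup.mem_centralizer_iff]
    intro y hy
    exact congrArg Subtype.val (hcomm.is_comm.comm (⟨y, hy⟩ : H) ⟨x, hx⟩)
  have hinv : ∀ s : G, s • a = b → s • b = a → ∀ h ∈ H, s * h * s⁻¹ = h⁻¹ := by
    intro s h1 h2 h hh
    have := hinvD s h1 h2 h hh
    rwa [hD1, Subgroup.mem_bot, ← eq_inv_iff_mul_eq_one] at this
  refine ⟨hcyc, le_antisymm (fun g hg => ?_) fun x hx => ?_, hinv⟩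
  · have hgN : g ∈ N := by
      rw [hN, Subgroup.mem_normalizer_iff]
      intro x
      constructor
      · intro hx
        rw [← (Subgroup.mem_centralizer_iff.1 hg x hx), mul_inv_cancel_right]; exact hx
      · intro hx
        have h := Subgroup.mem_centralizer_iff.1 hg _ hx
        have : x = g * x * g⁻¹ := mul_left_cancel (a := g) (by simpa [mul_assoc] using h)
        rw [this]; exact hx
    refine (hcases g hgN).resolve_right fun hs => he₀1 ?_
    have h1 := hinv g hs.1 hs.2 e₀ he₀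
    rw [← Subgroup.mem_centralizer_iff.1 hg e₀ he₀, mul_inv_cancel_right] at h1
    obtain ⟨m, hm⟩ := hodd
    have h4 : (⟨e₀, he₀⟩ : H) ^ Nat.card H = 1 := pow_card_eq_one'
    have h5 : e₀ ^ (2 * m + 1) = 1 := by rw [← hm]; simpa only [Subgroup.coe_pow, Subgroup.coe_one] using congrArg Subtype.val h4
    rw [pow_succ, pow_mul, sq, mul_eq_one_iff_eq_inv.2 h1, one_pow, one_mul] at h5
    exact h5
  · rw [Subgroup.mem_centralizer_iff]
    intro y hy
    exact congrArg Subtype.val (hcomm.is_comm.comm (⟨y, hy⟩ : H) ⟨x, hx⟩)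

/-- In a finite Zassenhaus group whose two-point stabiliser `H = G_{a,b}` has odd order `d`, and which has no normal `q`-complement for any prime `q ∣ d`, `H` is cyclic, `C_G(H) = H`, and every element swapping `a` and `b` inverts each element of `H`. -/
theorem result {G Ω : Type*} [Group G] [Finite G] [MulAction G Ω] [Fintype Ω] (hZ : Cfsg.IsZassenhausGroup G Ω) {a b : Ω} (hab : a ≠ b) (hodd : Odd (Nat.card ↥(MulAction.stabilizer G a ⊓ MulAction.stabilizer G b))) (hnil : ∀ q : ℕ, q.Prime → q ∣ Nat.card ↥(MulAction.stabilizer G a ⊓ MulAction.stabilizer G b) → ¬ ∃ N : Subgroup G, N.Normal ∧ N.index = q ^ (Nat.card G).factorization q) : IsCyclic ↥(MulAction.stabilizer G a ⊓ MulAction.stabilizer G b) ∧ Subgroup.centralizer ((MulAction.stabilizer G a ⊓ MulAction.stabilizer G b : Subgroup G) : Set G) = MulAction.stabilizer G a ⊓ MulAction.stabilizer G b ∧ ∀ s : G, s • a = b → s • b = a → ∀ h ∈ MulAction.stabilizer G a ⊓ MulAction.stabilizer G b, s * h * s⁻¹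 = h⁻¹ :=
  main hZ hab _ rfl hodd hnil

end Cfsg.Agent.S0739
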