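import Cfsg.Statements.S0740
import Mathlib

set_option autoImplicit false
open Cfsg
open scoped Pointwise

namespace Cfsg.Agent.S0740

/-- In a finite Zassenhaus group any two points `a ≠ b` are swapped by an involution; every such involution has exactly one fixed point when the degree is odd and 0 or 2 fixed points when the degree is even; and if the two-point stabiliser has even order, some such involution has exactly 2 fixed points. -/
theorem result {G Ω : Type*} [Group G] [Finite G] [MulAction G Ω] [Fintype Ω] (hZ : Cfsg.IsZassenhausGroup G Ω) {a b : Ω} (hab : a ≠ b) : (∃ s : G, orderOf s = 2 ∧ s • a = b ∧ s • b = a) ∧ (∀ s : G, orderOf s = 2 → s • a = b → s • b = a → (Odd (Fintype.card Ω) → Nat.card (MulAction.fixedBy Ω s) = 1) ∧ (Even (Fintype.card Ω) → Nat.card (MulAction.fixedBy Ω s) = 0 ∨ Nat.card (MulAction.fixedBy Ω s) = 2)) ∧ (Even (Fintype.card Ω) → Even (Nat.card ↥(MulAction.stabilizer G a ⊓ MulAction.stabilizer G b)) → ∃ s : G, orderOf s = 2 ∧ s • a = b ∧ s • b = a ∧ Nat.card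 (MulAction.fixedBy Ω s) = 2) := by
  classical
  obtain ⟨hfaith, h2, h3, -, -⟩ := hZ
  rw [MulAction.is_two_pretransitive_iff] at h2
  have hconj : ∀ (t : G) (x y : Ω), orderOf t = 2 → t • x = y → x ≠ y →
      ∃ g : G, g • x = a ∧ g • y = b ∧ orderOf (g * t * g⁻¹) = 2 ∧ (g * t * g⁻¹) • a = b ∧ (g * t * g⁻¹) • b = a := by
    intro t x y ht hxy hne
    obtain ⟨g, h1, h2⟩ := h2 hne hab
    have hty : t • y = x := by rw [← hxy, ← mul_smul, ← sq, ← ht, pow_orderOf_eq_one, one_smul]
    refine ⟨g, h1, h2, ?_, ?_, ?_⟩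
    · rw [← ht]; exact orderOf_injective (MulAut.conj g).toMonoidHom (MulAut.conj g).injective t
    · rw [mul_smul, mul_smul, inv_smul_eq_iff.2 h1.symm, hxy, h2]
    · rw [mul_smul, mul_smul, inv_smul_eq_iff.2 h2.symm, hty, h1]
  have hmove : ∀ t : G, t ≠ 1 → ∃ x : Ω, t • x ≠ x := by
    intro t ht
    by_contra! h
    exact ht (hfaith.eq_of_smul_eq_smul (fun x => by rw [h x, one_smul]))
  have hle2 : ∀ g : G, g ≠ 1 → (MulAction.fixedBy Ω g).toFinset.card ≤ 2 := by
    intro g hg
    by_contra! h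
    obtain ⟨u, hu, v, hv, w, hw, huv, huw, hvw⟩ := Finset.two_lt_card.1 h
    simp only [Set.mem_toFinset, MulAction.mem_fixedBy] at hu hv hw
    exact hg (h3 g u v w huv hvw huw hu hv hw)
  have hpar : ∀ g : G, orderOf g = 2 → (MulAction.fixedBy Ω g).toFinset.card % 2 = Fintype.card Ω % 2 := by
    intro g hg
    have h := Equiv.Perm.card_compl_support_modEq (p := 2) (n := 1) (σ := MulAction.toPermHom G Ω g) (by
      rw [← map_pow, pow_one, ← hg, pow_orderOf_eq_one, map_one])
    have he : (MulAction.toPermHom G Ω g).supportᶜ = (MulAction.fixedBy Ω g).toFinset := by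
      ext x; simp
    rw [he] at h
    exact h
  refine ⟨?_, ?_, ?_⟩
  · -- `|G|` is even
    obtain ⟨g, hga, hgb⟩ := h2 hab (Ne.symm hab)
    have heven : 2 ∣ orderOf g := by
      by_contra hodd
      obtain ⟨k, hk⟩ : Odd (orderOf g) := Nat.not_even_iff_odd.1 (fun h => hodd h.two_dvd)
      have h1 : ∀ k : ℕ, g ^ (2 * k + 1) • a = b := by
        intro k
        induction k with
        | zero => simpa using hga
        | succ k ih => rw [show 2 * (k + 1) + 1 = 2 + (2 * k + 1) by ring, pow_add, mul_smul, ih, sq, mul_smul, hgb, hga]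
      have := h1 k
      rw [← hk, pow_orderOf_eq_one, one_smul] at this
      exact hab this
    obtain ⟨t, ht⟩ : ∃ t : G, orderOf t = 2 := exists_prime_orderOf_dvd_card' 2 (heven.trans (orderOf_dvd_natCard g))
    obtain ⟨x, hx⟩ := hmove t (by intro h; rw [h, orderOf_one] at ht; omega)
    obtain ⟨g, -, -, h4, h5, h6⟩ := hconj t x _ ht rfl (Ne.symm hx)
    exact ⟨_, h4, h5, h6⟩
  · intro s hs _ _
    have h1 := hle2 s (by intro h; rw [h, orderOf_one] at hs; omega)
    have h4 := hpar s hs
    rw [Nat.card_eq_card_toFinset]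
    constructor
    · intro ho
      rw [Nat.odd_iff] at ho
      omega
    · intro he
      rw [Nat.even_iff] at he
      omega
  · intro hev hH
    obtain ⟨t, ht⟩ := exists_prime_orderOf_dvd_card' 2 hH.two_dvd
    have ht' : orderOf (t : G) = 2 := by rw [Subgroup.orderOf_coe]; exact ht
    have ht1 : (t : G) ≠ 1 := by intro h; rw [h, orderOf_one] at ht'; omega
    obtain ⟨x, hx⟩ := hmove t ht1
    obtain ⟨g, -, -, h4, h5, h6⟩ := hconj t x _ ht' rfl (Ne.symm hx)
    refine ⟨_, h4, h5, h6, ?_⟩
    have h1 := hle2 _ (show g * (t : G) * g⁻¹ ≠ 1 by intro h; rw [h, orderOf_one] at h4; omega)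
    have hpos : 0 < (MulAction.fixedBy Ω (g * (t : G) * g⁻¹)).toFinset.card := by
      refine Finset.card_pos.2 ⟨g • a, ?_⟩
      simp only [Set.mem_toFinset, MulAction.mem_fixedBy, mul_smul, inv_smul_smul]
      rw [show (t : G) • a = a from t.2.1]
    have h7 := hpar _ h4
    rw [Nat.even_iff] at hev
    rw [Nat.card_eq_card_toFinset]
    omega

end Cfsg.Agent.S0740
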