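import Cfsg.Statements.S0738
import Mathlib

set_option autoImplicit false
open Cfsg

namespace Cfsg.Agent.S0738

/-- Let a finite Zassenhaus group of degree `n + 1` have two-point stabilisers of order `d` with `2d ≥ n - 1`. Then a normal subgroup of a point stabiliser acting regularly on the remaining points is elementary abelian, and the degree is a prime power plus one. -/
theorem result {G Ω : Type*} [Group G] [Finite G] [MulAction G Ω] [Fintype Ω] (hZ : Cfsg.IsZassenhausGroup G Ω) {a b : Ω} (hab : a ≠ b) (hd : Fintype.card Ω - 2 ≤ 2 * Nat.card ↥(MulAction.stabilizer G a ⊓ MulAction.stabilizer G b)) (F : Subgroup G) (hFle : F ≤ MulAction.stabilizer G a) (hFn : (F.subgroupOf (MulAction.stabilizer G a)).Normal) (hreg : ∀ y z : Ω, y ≠ a → z ≠ a → ∃! u : F, (u : G) • y = z) : IsMulCommutative F ∧ ∃ p f : ℕ, p.Prime ∧ (∀ u ∈ F, u ^ p = 1) ∧ Fintype.card Ω = p ^ f + 1 := by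
  classical
  obtain ⟨hF, h2, h3, ⟨g0, hg0, a0, b0, hab0, ha0, hb0⟩, -⟩ := hZ
  haveI : MulAction.IsPretransitive G Ω := MulAction.isPretransitive_of_is_two_pretransitive
  haveI : Fintype G := Fintype.ofFinite G
  set H := MulAction.stabilizer G a ⊓ MulAction.stabilizer G b with hHdef
  set A := MulAction.stabilizer G a with hAdef
  -- `F` is in bijection with the points other than `a`
  let e : F → {y : Ω // y ≠ a} := fun u => ⟨(u : G) • b, fun h => hab.symm
    (MulAction.injective (u : G) (h.trans (hFle u.2).symm))⟩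
  have he : Function.Bijective e := by
    refine ⟨fun u v h => ?_, fun y => ?_⟩
    · obtain ⟨w, -, hw⟩ := hreg b ((u : G) • b) hab.symm (e u).2
      exact (hw u rfl).trans (hw v (congrArg Subtype.val h).symm).symm
    · obtain ⟨u, hu, -⟩ := hreg b y hab.symm y.2
      exact ⟨u, Subtype.ext hu⟩
  have hn : Nat.card F + 1 = Fintype.card Ω := by
    rw [Nat.card_eq_of_bijective e he, Nat.card_eq_fintype_card, Fintype.card_subtype_compl,
      Fintype.card_subtype_eq]
    have : 0 < Fintype.card Ω := Fintype.card_pos_iff.2 ⟨a⟩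
    omega
  have hFfree : ∀ u ∈ F, ∀ c : Ω, c ≠ a → u • c = c → u = 1 := by
    intro u hu c hc h
    obtain ⟨w, -, hw⟩ := hreg c c hc hc
    have h1 := hw ⟨u, hu⟩ h
    have h2' := hw 1 (one_smul G c)
    exact congrArg Subtype.val (h1.trans h2'.symm)
  -- two-point stabilisers have the same order
  have hcardc : ∀ c, c ≠ a → Nat.card ↥(A ⊓ MulAction.stabilizer G c) = Nat.card H := by
    intro c hc
    obtain ⟨u, hu, -⟩ := hreg b c hab.symm hc
    refine (Nat.card_congr ?_).symm
    exact
      { toFun := fun h => ⟨(u : G) * h * (u : G)⁻¹, ⟨A.mul_mem (A.mul_mem (hFle u.2) h.2.1) (A.inv_mem (hFle u.2)), by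
          show ((u : G) * h * (u : G)⁻¹) • c = c
          rw [mul_smul, mul_smul, inv_smul_eq_iff.2 hu.symm, h.2.2, hu]⟩⟩
        invFun := fun h => ⟨(u : G)⁻¹ * h * u, ⟨A.mul_mem (A.mul_mem (A.inv_mem (hFle u.2)) h.2.1) (hFle u.2), by
          show ((u : G)⁻¹ * h * u) • b = b
          rw [mul_smul, mul_smul, hu, h.2.2, inv_smul_eq_iff.2 hu.symm]⟩⟩
        left_inv := fun h => Subtype.ext (by simp [mul_assoc])
        right_inv := fun h => Subtype.ext (by simp [mul_assoc]) }
  have hA : Nat.card A = Nat.card F * Nat.card H := by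
    rw [← Nat.card_prod]
    refine (Nat.card_eq_of_bijective (fun q : F × H => (⟨(q.1 : G) * q.2, A.mul_mem (hFle q.1.2) q.2.2.1⟩ : A)) ⟨?_, ?_⟩).symm
    · rintro ⟨u, h⟩ ⟨v, k⟩ huv
      have e1 : (u : G) * h = v * k := congrArg Subtype.val huv
      have e2 := congrArg (fun g : G => g • b) e1
      simp only [mul_smul] at e2
      rw [h.2.2, k.2.2] at e2
      have : u = v := he.1 (Subtype.ext e2)
      subst this
      simp only [Prod.mk.injEq, true_and]
      exact Subtype.ext (mul_left_cancel e1)
    · rintro ⟨g, hg⟩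
      have hgb : g • b ≠ a := fun h => hab.symm (MulAction.injective g (h.trans hg.symm))
      obtain ⟨u, hu, -⟩ := hreg b (g • b) hab.symm hgb
      refine ⟨⟨u, ⟨(u : G)⁻¹ * g, A.mul_mem (A.inv_mem (hFle u.2)) hg, ?_⟩⟩, Subtype.ext ?_⟩
      · show ((u : G)⁻¹ * g) • b = b
        rw [mul_smul, inv_smul_eq_iff, hu]
      · simp
  -- an element of the point stabiliser outside `F` fixes a second point
  have hfix : ∀ g ∈ A, g ∉ F → ∃ c, c ≠ a ∧ g • c = c := by
    let S : Finset (Σ _ : Ω, G) :=
      (Finset.univ.erase a).sigma (fun c => Finset.univ.filter (fun g => g ∈ A ∧ g • c = c ∧ g ≠ 1))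
    let T : Finset G := Finset.univ.filter (fun g => g ∈ A ∧ g ∉ F)
    have hS : S.card = Nat.card F * (Nat.card H - 1) := by
      rw [Finset.card_sigma, Finset.sum_const_nat (m := Nat.card H - 1), Finset.card_erase_of_mem (Finset.mem_univ _),
        Finset.card_univ, ← hn, Nat.add_sub_cancel]
      intro c hc
      rw [← hcardc c (Finset.ne_of_mem_erase hc), Nat.card_eq_fintype_card, Fintype.card_subtype]
      rw [← Finset.card_erase_of_mem (a := (1 : G)) (by simp)]
      congr 1
      ext g
      simp only [Finset.mem_filter, Finset.mem_univ, true_and, Finset.mem_erase, Subgroup.mem_inf]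
      constructor
      · rintro ⟨h1, h2, h3⟩; exact ⟨h3, h1, h2⟩
      · rintro ⟨h1, h2, h3⟩; exact ⟨h2, h3, h1⟩
    have hT : T.card + Nat.card F = Nat.card A := by
      rw [Nat.card_eq_fintype_card, Nat.card_eq_fintype_card, Fintype.card_subtype, Fintype.card_subtype,
        ← Finset.card_union_of_disjoint]
      · congr 1
        ext g
        simp only [T, Finset.mem_union, Finset.mem_filter, Finset.mem_univ, true_and]
        constructor
        · rintro (h | h)
          · exact h.1
          · exact hFle h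
        · intro h; by_cases hg : g ∈ F
          · exact Or.inr hg
          · exact Or.inl ⟨h, hg⟩
      · rw [Finset.disjoint_left]
        intro g h1 h2
        simp only [T, Finset.mem_filter] at h1 h2
        exact h1.2.2 h2.2
    have hsurj : Set.SurjOn (fun q : Σ _ : Ω, G => q.2) S T := by
      refine Finset.surjOn_of_injOn_of_card_le _ ?_ ?_ ?_
      · rintro ⟨c, g⟩ hq
        simp only [S, Finset.coe_sigma, Set.mem_sigma_iff, Finset.mem_coe, Finset.mem_filter, Finset.mem_univ,
          true_and, Finset.mem_erase, and_true] at hq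
        simp only [T, Finset.mem_coe, Finset.mem_filter, Finset.mem_univ, true_and]
        exact ⟨hq.2.1, fun hgF => hq.2.2.2 (hFfree g hgF c hq.1 hq.2.2.1)⟩
      · rintro ⟨c, g⟩ hq ⟨c', g'⟩ hq' (rfl : g = g')
        simp only [S, Finset.coe_sigma, Set.mem_sigma_iff, Finset.mem_coe, Finset.mem_filter, Finset.mem_univ,
          true_and, Finset.mem_erase, and_true] at hq hq'
        have : c = c' := by
          by_contra hne
          exact hq.2.2.2 (h3 g a c c' (Ne.symm hq.1) hne (Ne.symm hq'.1) hq.2.1 hq.2.2.1 hq'.2.2.1)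
        subst this; rfl
      · rw [hS]
        have : 0 < Nat.card H := Nat.card_pos
        have : Nat.card F * (Nat.card H - 1) + Nat.card F = Nat.card F * Nat.card H := by
          rw [← Nat.mul_succ]; congr 1; omega
        omega
    intro g hg hgF
    obtain ⟨⟨c, g'⟩, hq, (rfl : g' = g)⟩ := hsurj (show g ∈ (T : Set G) by simp [T, hg, hgF])
    simp only [S, Finset.coe_sigma, Set.mem_sigma_iff, Finset.mem_coe, Finset.mem_filter, Finset.mem_univ,
      true_and, Finset.mem_erase, and_true] at hq
    exact ⟨c, hq.1, hq.2.2.1⟩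
  have hFA : ∀ g ∈ A, ∀ u ∈ F, g * u * g⁻¹ ∈ F := fun g hg u hu =>
    hFn.conj_mem ⟨u, hFle hu⟩ hu ⟨g, hg⟩
  -- centralisers in the point stabiliser of elements of `F` lie in `F`
  have hcent : ∀ z ∈ F, z ≠ 1 → ∀ g ∈ A, g * z = z * g → g ∈ F := by
    intro z hz hz1 g hg hgz
    by_contra hgF
    obtain ⟨c, hc, hgc⟩ := hfix g hg hgF
    have hg1 : g ≠ 1 := fun h => hgF (h ▸ F.one_mem)
    have hzc : z • c ≠ c := fun h => hz1 (hFfree z hz c hc h)
    have hzca : z • c ≠ a := fun h => hc (MulAction.injective z (h.trans (hFle hz).symm))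
    exact hg1 (h3 g a c (z • c) (Ne.symm hc) (Ne.symm hzc) (Ne.symm hzca) hg hgc
      (by rw [← mul_smul, hgz, mul_smul, hgc]))
  have hd1 : 1 ≤ Nat.card H := Nat.card_pos
  haveI : IsMulCommutative F := by
    refine ⟨⟨fun u v => ?_⟩⟩
    by_cases hu1 : u = 1
    · rw [hu1, one_mul, mul_one]
    have hu1' : (u : G) ≠ 1 := fun h => hu1 (Subtype.ext h)
    -- count the conjugates of `u`
    let C : Subgroup F := Subgroup.centralizer {u}
    have hcl : Nat.card A ≤ (Nat.card F - 1) * Nat.card C := by
      let φ : A → F := fun g => ⟨(g : G) * u * (g : G)⁻¹, hFA g g.2 u u.2⟩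
      rw [Nat.card_eq_fintype_card, ← Finset.card_univ, mul_comm]
      refine le_trans (Finset.card_le_mul_card_image (f := φ) _ (Nat.card C) ?_) (Nat.mul_le_mul_left _ ?_)
      · intro w hw
        simp only [Finset.mem_image, Finset.mem_univ, true_and] at hw
        obtain ⟨g₀, rfl⟩ := hw
        rw [Nat.card_eq_fintype_card, Fintype.card_subtype]
        have hmem : ∀ g : A, φ g = φ g₀ → (g₀ : G)⁻¹ * g ∈ F ∧ ((g₀ : G)⁻¹ * g) * u = u * ((g₀ : G)⁻¹ * g) := by
          intro g hg
          have e1 : (g : G) * u * (g : G)⁻¹ = g₀ * u * (g₀ : G)⁻¹ := congrArg Subtype.val hg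
          have e2 : ((g₀ : G)⁻¹ * g) * u = u * ((g₀ : G)⁻¹ * g) := by
            calc ((g₀ : G)⁻¹ * g) * u = (g₀ : G)⁻¹ * (g * u * (g : G)⁻¹) * g := by group
              _ = u * ((g₀ : G)⁻¹ * g) := by rw [e1]; group
          exact ⟨hcent u u.2 hu1' _ (A.mul_mem (A.inv_mem g₀.2) g.2) e2, e2⟩
        refine Finset.card_le_card_of_injOn
          (fun g : A => if h : φ g = φ g₀ then (⟨_, (hmem g h).1⟩ : F) else 1) ?_ ?_
        · intro g hg
          simp only [Finset.coe_filter, Finset.mem_univ, true_and, Set.mem_setOf_eq] at hg ⊢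
          rw [dif_pos hg, Subgroup.mem_centralizer_singleton_iff]
          exact Subtype.ext (hmem g hg).2
        · intro g hg g' hg' heq
          simp only [Finset.coe_filter, Finset.mem_univ, true_and, Set.mem_setOf_eq] at hg hg'
          simp only [dif_pos hg, dif_pos hg'] at heq
          exact Subtype.ext (mul_left_cancel (congrArg Subtype.val heq))
      · rw [Nat.card_eq_fintype_card, ← Finset.card_univ (α := F), ← Finset.card_erase_of_mem (Finset.mem_univ (1 : F))]
        refine Finset.card_le_card fun w hw => ?_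
        simp only [Finset.mem_image, Finset.mem_univ, true_and] at hw
        obtain ⟨g, rfl⟩ := hw
        simp only [Finset.mem_erase, Finset.mem_univ, and_true]
        intro h
        exact hu1' (conj_eq_one_iff.1 (congrArg Subtype.val h))
    have hidx := C.card_mul_index
    have hC : C.index = 1 := by
      have hcpos : 0 < Nat.card C := Nat.card_pos
      rw [hA, ← hidx] at hcl
      have h4 : C.index * Nat.card H ≤ Nat.card C * C.index - 1 := by
        refine Nat.le_of_mul_le_mul_left ?_ hcpos
        calc Nat.card C * (C.index * Nat.card H) = Nat.card C * C.index * Nat.card H := by ring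
          _ ≤ (Nat.card C * C.index - 1) * Nat.card C := hcl
          _ = _ := Nat.mul_comm _ _
      rw [hidx] at h4
      have hle2 : Fintype.card Ω - 2 ≤ 2 * Nat.card H := hd
      rcases (by
        rcases Nat.lt_or_ge C.index 3 with h | h
        · have := Subgroup.index_ne_zero_of_finite (H := C); omega
        · have : 3 * Nat.card H ≤ C.index * Nat.card H := Nat.mul_le_mul_right _ h
          omega : C.index = 1 ∨ C.index = 2) with h | h
      · exact h
      · exfalso
        rw [h] at h4 hidx
        omega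
    have : v ∈ C := (Subgroup.index_eq_one.1 hC).symm ▸ Subgroup.mem_top v
    exact (Subgroup.mem_centralizer_singleton_iff.1 this).symm
  refine ⟨inferInstance, ?_⟩
  have hn2 : 1 < Nat.card F := by
    by_contra hlt
    exact hg0 (hF.eq_of_smul_eq_smul fun c => by
      rw [one_smul]
      rcases (by
        by_contra hh
        push Not at hh
        have h3card : 3 ≤ Fintype.card Ω :=
          (Finset.card_le_univ {a0, b0, c}).trans' (by
            rw [Finset.card_insert_of_notMem (by simp [hab0, Ne.symm hh.1]), Finset.card_pair (Ne.symm hh.2)])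
        omega : c = a0 ∨ c = b0) with rfl | rfl <;> assumption)
  set p := (Nat.card F).minFac
  have hp : p.Prime := Nat.minFac_prime (by omega)
  haveI : Fact p.Prime := ⟨hp⟩
  obtain ⟨x, hx⟩ := exists_prime_orderOf_dvd_card' (G := F) p (Nat.minFac_dvd _)
  let W : Subgroup F :=
    { carrier := {u | u ^ p = 1}
      one_mem' := one_pow p
      mul_mem' := fun {u v} (hu : u ^ p = 1) (hv : v ^ p = 1) => by
        show (u * v) ^ p = 1
        rw [(show Commute u v from mul_comm' u v).mul_pow, hu, hv, one_mul]
      inv_mem' := fun {u} (hu : u ^ p = 1) => by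
        show u⁻¹ ^ p = 1
        rw [inv_pow, hu, inv_one] }
  have hWtop : W = ⊤ := by
    by_contra hne
    have hxW : x ∈ W := by show x ^ p = 1; rw [← hx]; exact pow_orderOf_eq_one x
    have hx1 : x ≠ 1 := fun h => by rw [h, orderOf_one] at hx; exact hp.one_lt.ne hx
    have hlow : Nat.card H + 1 ≤ Nat.card W := by
      rw [← Finite.card_option]
      have hmem : ∀ h : H, (⟨(h : G) * x * (h : G)⁻¹, hFA h h.2.1 x x.2⟩ : F) ∈ W := fun h => by
        show (_ : F) ^ p = 1
        apply Subtype.ext
        rw [Subgroup.coe_pow, Subgroup.coe_mk, conj_pow, ← Subgroup.coe_pow, show x ^ p = 1 from hxW]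
        simp
      refine Nat.card_le_card_of_injective (fun o => o.elim (1 : W) fun h => ⟨_, hmem h⟩) ?_
      have hne1 : ∀ h : H, (h : G) * x * (h : G)⁻¹ ≠ 1 := fun h e => hx1 (Subtype.ext (conj_eq_one_iff.1 e))
      rintro (_ | h) (_ | k) heq
      · rfl
      · exact absurd (congrArg (fun w : W => ((w : F) : G)) heq).symm (hne1 k)
      · exact absurd (congrArg (fun w : W => ((w : F) : G)) heq) (hne1 h)
      · have e1 : (h : G) * x * (h : G)⁻¹ = k * x * (k : G)⁻¹ := congrArg (fun w : W => ((w : F) : G)) heq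
        have e2 : ((k : G)⁻¹ * h) * x = x * ((k : G)⁻¹ * h) := by
          calc ((k : G)⁻¹ * h) * x = (k : G)⁻¹ * (h * x * (h : G)⁻¹) * h := by group
            _ = _ := by rw [e1]; group
        have hkh : (k : G)⁻¹ * h ∈ H := H.mul_mem (H.inv_mem k.2) h.2
        have hkF := hcent x x.2 (fun e => hx1 (Subtype.ext e)) _ hkh.1 e2
        have := hFfree _ hkF b hab.symm hkh.2
        rw [inv_mul_eq_one] at this
        exact congrArg some (Subtype.ext this.symm)
    have h := W.card_mul_index
    have hi : 2 ≤ W.index := by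
      have := Subgroup.index_ne_zero_of_finite (H := W)
      have : W.index ≠ 1 := fun h1 => hne (Subgroup.index_eq_one.1 h1)
      omega
    have : Nat.card W * 2 ≤ Nat.card W * W.index := Nat.mul_le_mul_left _ hi
    omega
  have hexp : ∀ u : F, u ^ p = 1 := fun u => (show u ∈ W by rw [hWtop]; exact Subgroup.mem_top u)
  obtain ⟨f, hf⟩ := IsPGroup.iff_card.1 (show IsPGroup p F from fun u => ⟨1, by rw [pow_one]; exact hexp u⟩)
  exact ⟨p, f, hp, fun u hu => congrArg Subtype.val (hexp ⟨u, hu⟩), by omega⟩

end Cfsg.Agent.S0738
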