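import Cfsg.Statements.S0741
import Mathlib

set_option autoImplicit false
open Cfsg

namespace Cfsg.Agent.S0741

/-- If the two-point stabilisers of a finite Zassenhaus group of degree `n + 1` have even order `d`, then `2d ≥ n - 1`. -/
theorem result {G Ω : Type*} [Group G] [Finite G] [MulAction G Ω] [Fintype Ω] (hZ : Cfsg.IsZassenhausGroup G Ω) {a b : Ω} (hab : a ≠ b) (heven : Even (Nat.card ↥(MulAction.stabilizer G a ⊓ MulAction.stabilizer G b))) : Fintype.card Ω - 2 ≤ 2 * Nat.card ↥(MulAction.stabilizer G a ⊓ MulAction.stabilizer G b) := by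
  classical
  obtain ⟨hF, h2, h3, -, -⟩ := hZ
  haveI : Fintype G := Fintype.ofFinite G
  set d := Nat.card ↥(MulAction.stabilizer G a ⊓ MulAction.stabilizer G b) with hd
  let P := {q : Ω × Ω // q.1 ≠ q.2}
  have hcardst : ∀ q : P, Nat.card ↥(MulAction.stabilizer G q.1.1 ⊓ MulAction.stabilizer G q.1.2) = d := by
    intro q
    obtain ⟨t, t1, t2⟩ := (MulAction.is_two_pretransitive_iff.1 h2) hab q.2
    refine (Nat.card_congr ?_).symm
    exact
      { toFun := fun h => ⟨t * h * t⁻¹, by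
          refine ⟨?_, ?_⟩
          · show (t * h * t⁻¹) • q.1.1 = q.1.1
            rw [← t1, mul_smul, mul_smul, inv_smul_smul, h.2.1]
          · show (t * h * t⁻¹) • q.1.2 = q.1.2
            rw [← t2, mul_smul, mul_smul, inv_smul_smul, h.2.2]⟩
        invFun := fun h => ⟨t⁻¹ * h * t, by
          refine ⟨?_, ?_⟩
          · show (t⁻¹ * h * t) • a = a
            rw [mul_smul, mul_smul, t1, h.2.1, inv_smul_eq_iff, t1]
          · show (t⁻¹ * h * t) • b = b
            rw [mul_smul, mul_smul, t2, h.2.2, inv_smul_eq_iff, t2]⟩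
        left_inv := fun h => Subtype.ext (by simp [mul_assoc])
        right_inv := fun h => Subtype.ext (by simp [mul_assoc]) }
  have hswap : ∀ q : P, Fintype.card {g : G // g • q.1.1 = q.1.2 ∧ g • q.1.2 = q.1.1} ≤ d := by
    intro q
    rw [← Nat.card_eq_fintype_card, ← hcardst q]
    rcases isEmpty_or_nonempty {g : G // g • q.1.1 = q.1.2 ∧ g • q.1.2 = q.1.1} with h | ⟨⟨g0, h0⟩⟩
    · simp
    refine Nat.card_le_card_of_injective (fun g => (⟨g0⁻¹ * g.1, ?_, ?_⟩ :
      ↥(MulAction.stabilizer G q.1.1 ⊓ MulAction.stabilizer G q.1.2))) ?_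
    · show (g0⁻¹ * g.1) • q.1.1 = q.1.1
      rw [mul_smul, g.2.1, inv_smul_eq_iff, h0.1]
    · show (g0⁻¹ * g.1) • q.1.2 = q.1.2
      rw [mul_smul, g.2.2, inv_smul_eq_iff, h0.2]
    · exact fun g g' e => Subtype.ext (mul_left_cancel (congrArg Subtype.val e))
  have hz : ∀ q : P, ∃ z : G, z ≠ 1 ∧ z * z = 1 ∧ z • q.1.1 = q.1.1 ∧ z • q.1.2 = q.1.2 := by
    intro q
    haveI : Fact (Nat.Prime 2) := ⟨Nat.prime_two⟩
    obtain ⟨z, hz⟩ := exists_prime_orderOf_dvd_card'
      (G := ↥(MulAction.stabilizer G q.1.1 ⊓ MulAction.stabilizer G q.1.2)) 2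
      (by rw [hcardst q]; exact even_iff_two_dvd.1 heven)
    rw [← Subgroup.orderOf_coe] at hz
    refine ⟨z, fun e => by rw [e, orderOf_one] at hz; omega, ?_, z.2.1, z.2.2⟩
    have h := pow_orderOf_eq_one (z : G)
    rwa [hz, sq] at h
  choose z hz1 hz2 hzx hzy using hz
  have honly : ∀ (q : P) (c : Ω), z q • c = c → c = q.1.1 ∨ c = q.1.2 := by
    intro q c hc
    by_contra! hne
    exact hz1 q (h3 (z q) q.1.1 q.1.2 c q.2 hne.2.symm hne.1.symm (hzx q) (hzy q) hc)
  let D := Σ q : P, {c : Ω // c ∉ ({q.1.1, q.1.2} : Finset Ω)}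
  let R := Σ r : P, {g : G // g • r.1.1 = r.1.2 ∧ g • r.1.2 = r.1.1}
  let ψ : D → R := fun x => ⟨⟨(x.2.1, z x.1 • x.2.1), fun e => by
      have := x.2.2
      rcases honly x.1 x.2.1 e.symm with h | h <;> simp [h] at this⟩,
    ⟨z x.1, rfl, by rw [← mul_smul, hz2, one_smul]⟩⟩
  have hfib : ∀ r ∈ Finset.univ.image ψ, (Finset.univ.filter (fun x => ψ x = r)).card ≤ 2 := by
    intro r hr
    simp only [Finset.mem_image, Finset.mem_univ, true_and] at hr
    obtain ⟨x₀, rfl⟩ := hr
    have hkey : ∀ x, ψ x = ψ x₀ → z x.1 = z x₀.1 ∧ x.2.1 = x₀.2.1 := fun x hx =>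
      ⟨congrArg (fun r : R => r.2.1) hx, congrArg (fun r : R => r.1.1.1) hx⟩
    have hmem : ∀ x : D, ψ x = ψ x₀ → x.1.1 = x₀.1.1 ∨ x.1.1 = (x₀.1.1.2, x₀.1.1.1) := by
      intro x hx
      have e := (hkey x hx).1
      have h1 := honly x₀.1 x.1.1.1 (by rw [← e]; exact hzx _)
      have h2 := honly x₀.1 x.1.1.2 (by rw [← e]; exact hzy _)
      have h3 := x.1.2
      rcases h1 with h1 | h1 <;> rcases h2 with h2 | h2
      · exact absurd (h1.trans h2.symm) h3
      · exact Or.inl (Prod.ext h1 h2)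
      · exact Or.inr (Prod.ext h1 h2)
      · exact absurd (h1.trans h2.symm) h3
    refine le_trans (Finset.card_le_card_of_injOn (t := {x₀.1.1, (x₀.1.1.2, x₀.1.1.1)})
      (fun x : D => x.1.1) ?_ ?_) (Finset.card_le_two)
    · intro x hx
      simp only [Finset.coe_filter, Finset.mem_univ, true_and, Set.mem_setOf_eq] at hx
      simp only [Finset.coe_insert, Finset.coe_singleton, Set.mem_insert_iff, Set.mem_singleton_iff]
      exact hmem x hx
    · intro x hx y hy hxy
      simp only [Finset.coe_filter, Finset.mem_univ, true_and, Set.mem_setOf_eq] at hx hy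
      have hq : x.1 = y.1 := Subtype.ext hxy
      have hc := (hkey x hx).2.trans (hkey y hy).2.symm
      obtain ⟨q, c, hcm⟩ := x
      obtain ⟨q', c', hcm'⟩ := y
      simp only at hq hc
      subst hq hc
      rfl
  have hle := Finset.card_le_mul_card_image (f := ψ) Finset.univ 2 hfib
  rw [Finset.card_univ] at hle
  have hD : Fintype.card D = Fintype.card P * (Fintype.card Ω - 2) := by
    rw [Fintype.card_sigma, Finset.sum_const_nat (m := Fintype.card Ω - 2), Finset.card_univ]
    intro q _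
    rw [Fintype.card_subtype_compl, Fintype.card_coe, Finset.card_pair q.2]
  have hR : Fintype.card R ≤ Fintype.card P * d := by
    rw [Fintype.card_sigma, ← Finset.card_univ]
    exact (Finset.sum_le_card_nsmul _ _ _ (fun q _ => hswap q)).trans_eq (smul_eq_mul ..)
  have hP : 0 < Fintype.card P := Fintype.card_pos_iff.2 ⟨⟨(a, b), hab⟩⟩
  have h4 := hle.trans (Nat.mul_le_mul_left 2 ((Finset.card_le_univ _).trans hR))
  rw [hD] at h4
  refine Nat.le_of_mul_le_mul_left ?_ hP
  calc Fintype.card P * (Fintype.card Ω - 2) ≤ 2 * (Fintype.card P * d) := h4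
    _ = Fintype.card P * (2 * d) := by ring

end Cfsg.Agent.S0741
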