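import Cfsg.Statements.S0742
import Cfsg.Agent.H59.HalfPSL
import Cfsg.Agent.S0740
import Cfsg.Agent.S0741

set_option autoImplicit false
open Cfsg

namespace Cfsg.Agent.S0742

/-- A finite Zassenhaus group of degree `n + 1` with two-point stabilisers of even order `d` satisfying `2d ≤ n - 1` has `n = p^f` for an odd prime `p` and is isomorphic to `PSL(2, p^f)`. -/
theorem result {G Ω : Type*} [Group G] [Finite G] [MulAction G Ω] [Fintype Ω] (hZ : Cfsg.IsZassenhausGroup G Ω) {a b : Ω} (hab : a ≠ b) (heven : Even (Nat.card ↥(MulAction.stabilizer G a ⊓ MulAction.stabilizer G b))) (hd : 2 * Nat.card ↥(MulAction.stabilizer G a ⊓ MulAction.stabilizer G b) ≤ Fintype.card Ω - 2) : ∃ (p f : ℕ) (K : Type) (_ : Field K) (_ : Fintype K), p.Prime ∧ p ≠ 2 ∧ Fintype.card K = p ^ f ∧ Fintype.card Ω = p ^ f + 1 ∧ Nonempty (G ≃* Matrix.ProjectiveSpecialLinearGroup (Fin 2) K) := by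
  classical
  have hle := Cfsg.Agent.S0741.result hZ hab heven
  obtain ⟨⟨s, hs, hsa, hsb⟩, -, -⟩ := Cfsg.Agent.S0740.result hZ hab
  obtain ⟨-, h2, h3, -, -⟩ := id hZ
  have hsq := H59.swap_sq_of_even h2 h3 hab heven hd a b hab
  have hinv : ∀ h ∈ MulAction.stabilizer G a ⊓ MulAction.stabilizer G b, s * h * s⁻¹ = h⁻¹ := by
    intro h hh
    have hha : h • a = a := hh.1
    have hhb : h • b = b := hh.2
    have e := hsq (s * h) (by rw [mul_smul, hha, hsa]) (by rw [mul_smul, hhb, hsb])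
    have hs2 : s * s = 1 := hsq s hsa hsb
    rw [inv_eq_of_mul_eq_one_right hs2]
    exact eq_inv_of_mul_eq_one_left (by rw [← e]; group)
  have hcomm : ∀ x ∈ MulAction.stabilizer G a ⊓ MulAction.stabilizer G b,
      ∀ y ∈ MulAction.stabilizer G a ⊓ MulAction.stabilizer G b, x * y = y * x := by
    intro x hx y hy
    have e := hinv (x * y) (Subgroup.mul_mem _ hx hy)
    have e' : s * (x * y) * s⁻¹ = x⁻¹ * y⁻¹ := by
      rw [← hinv x hx, ← hinv y hy]; group
    rw [e', ← mul_inv_rev, inv_inj] at e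
    exact e.symm
  have hd2 : 1 ≤ Nat.card ↥(MulAction.stabilizer G a ⊓ MulAction.stabilizer G b) := Nat.card_pos
  have h2Ω : 2 ≤ Fintype.card Ω := Fintype.one_lt_card_iff.2 ⟨a, b, hab⟩
  obtain ⟨K, FK, FtK, h2K, hK, e⟩ := H59.half_PSL hZ hab (by omega) hsa hsb (hsq s hsa hsb) hcomm hinv
  haveI := CharP.exists K
  obtain ⟨p, hp⟩ := CharP.exists K
  obtain ⟨f, hpp, hcard⟩ := FiniteField.card K p
  refine ⟨p, f, K, FK, FtK, hpp, ?_, hcard, by omega, e⟩
  rintro rfl
  exact h2K (by exact_mod_cast CharP.cast_eq_zero K 2)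

end Cfsg.Agent.S0742
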