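import Cfsg.Statements.S2507
import Cfsg.Agent.H41.PSL2ClassSize
-- import your own Cfsg.Agent.* helpers here

set_option autoImplicit false
set_option linter.style.haveILetI false
open Cfsg

namespace Cfsg.Agent.S2507

/-- Let F be a finite field with q = 2^f ≥ 4 elements. The conjugacy class sizes of PSL(2,F) are exactly 1, q(q − 1), q² − 1 and q(q + 1). -/
theorem result {F : Type*} [Field F] [Fintype F]
    (h2 : 2 ∣ Fintype.card F) (h4 : 4 ≤ Fintype.card F) :
    Set.range (fun g : (Matrix.ProjectiveSpecialLinearGroup (Fin 2) F) => (Subgroup.centralizer ({g} : Set (Matrix.ProjectiveSpecialLinearGroup (Fin 2) F))).index) =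
      {1, Fintype.card F * (Fintype.card F - 1), Fintype.card F ^ 2 - 1, Fintype.card F * (Fintype.card F + 1)} := by
  classical
  obtain ⟨p, hp⟩ := CharP.exists F
  obtain ⟨e, hpp, he⟩ := FiniteField.card F p
  haveI := Fact.mk hpp
  obtain rfl : p = 2 := ((Nat.prime_dvd_prime_iff_eq Nat.prime_two hpp).1 (Nat.prime_two.dvd_of_dvd_pow (he ▸ h2))).symm
  set q := Fintype.card F with hq
  have hd : Nat.gcd 2 (q - 1) = 1 := by
    rw [← Nat.coprime_iff_gcd_eq_one, Nat.coprime_two_left, Nat.odd_iff]; omega
  have hG : Nat.card (Matrix.ProjectiveSpecialLinearGroup (Fin 2) F) = q * (q - 1) * (q + 1) := by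
    rw [H39.card_G2_eq, ← hq, hd, Nat.div_one]
  have hsq : q ^ 2 - 1 = (q - 1) * (q + 1) := by
    rw [mul_comm, ← Nat.sq_sub_sq, one_pow]
  ext m
  constructor
  · rintro ⟨x, rfl⟩
    simp only [Set.mem_insert_iff, Set.mem_singleton_iff]
    rcases H41.centralizer_cases 2 x with rfl | h | h | h | ⟨ho, hn⟩
    · left; simp
    · right; right; left
      rw [hsq]
      exact H41.index_of_card_centralizer 2 h (by rw [hG, ← hq, mul_assoc]) (by omega)
    · right; left
      rw [← hq, hd, Nat.div_one] at h
      exact H41.index_of_card_centralizer 2 h (by rw [hG]; ring) (by omega)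
    · right; right; right
      rw [← hq, hd, Nat.div_one] at h
      exact H41.index_of_card_centralizer 2 h (by rw [hG]; ring) (by omega)
    · have := pow_orderOf_eq_one x
      rw [ho] at this
      exact absurd this hn
  · simp only [Set.mem_insert_iff, Set.mem_singleton_iff]
    rintro (rfl | rfl | rfl | rfl)
    · exact ⟨1, by simp⟩
    · obtain ⟨x, hx⟩ := H41.exists_centralizer_tor (F := F) 2 (Or.inl rfl) (by rw [← hq, hd, Nat.div_one]; omega)
      rw [← hq, hd, Nat.div_one] at hx
      exact ⟨x, H41.index_of_card_centralizer 2 hx (by rw [hG]; ring) (by omega)⟩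
    · obtain ⟨x, hx⟩ := H41.exists_centralizer_card_field (F := F) 2
      exact ⟨x, H41.index_of_card_centralizer 2 hx (by rw [hG, ← hq, hsq, mul_assoc]) (by omega)⟩
    · obtain ⟨x, hx⟩ := H41.exists_centralizer_tor (F := F) 2 (Or.inr rfl) (by rw [← hq, hd, Nat.div_one]; omega)
      rw [← hq, hd, Nat.div_one] at hx
      exact ⟨x, H41.index_of_card_centralizer 2 hx (by rw [hG]; ring) (by omega)⟩

end Cfsg.Agent.S2507
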