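import Cfsg.Statements.S2508
import Cfsg.Agent.H41.PSL2ClassSize
-- import your own Cfsg.Agent.* helpers here

set_option autoImplicit false
set_option linter.style.haveILetI false
open Cfsg

namespace Cfsg.Agent.S2508

/-- Let F be a finite field with q elements, q odd and q ≥ 7. If q ≡ 1 (mod 4) the conjugacy class sizes of PSL(2,F) are exactly 1, (q² − 1)/2, q(q + 1)/2, q(q − 1) and q(q + 1); if q ≡ 3 (mod 4) they are exactly 1, (q² − 1)/2, q(q − 1)/2, q(q + 1) and q(q − 1). -/
theorem result {F : Type*} [Field F] [Fintype F]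
    (hodd : ¬ 2 ∣ Fintype.card F) (h7 : 7 ≤ Fintype.card F) :
    (Fintype.card F % 4 = 1 →
      Set.range (fun g : (Matrix.ProjectiveSpecialLinearGroup (Fin 2) F) => (Subgroup.centralizer ({g} : Set (Matrix.ProjectiveSpecialLinearGroup (Fin 2) F))).index) =
        {1, (Fintype.card F ^ 2 - 1) / 2, Fintype.card F * (Fintype.card F + 1) / 2,
          Fintype.card F * (Fintype.card F - 1), Fintype.card F * (Fintype.card F + 1)}) ∧
    (Fintype.card F % 4 = 3 →
      Set.range (fun g : (Matrix.ProjectiveSpecialLinearGroup (Fin 2) F) => (Subgroup.centralizer ({g} : Set (Matrix.ProjectiveSpecialLinearGroup (Fin 2) F))).index) =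
        {1, (Fintype.card F ^ 2 - 1) / 2, Fintype.card F * (Fintype.card F - 1) / 2,
          Fintype.card F * (Fintype.card F + 1), Fintype.card F * (Fintype.card F - 1)}) := by
  classical
  obtain ⟨p, hp⟩ := CharP.exists F
  obtain ⟨e, hpp, he⟩ := FiniteField.card F p
  haveI := Fact.mk hpp
  set q := Fintype.card F with hq
  have hoddq : Odd q := by rw [Nat.odd_iff]; omega
  have hd : Nat.gcd 2 (q - 1) = 2 := Nat.gcd_eq_left (by omega)
  obtain ⟨a, hqa⟩ : ∃ a, q = 2 * a + 1 := hoddq
  have e1 : (q - 1) / 2 = a := by omega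
  have e2 : (q + 1) / 2 = a + 1 := by omega
  have hG : Nat.card (Matrix.ProjectiveSpecialLinearGroup (Fin 2) F) = q * a * (q + 1) := by
    rw [H39.card_G2_eq, ← hq, hd, e1]
  have hsq : (q ^ 2 - 1) / 2 = a * (q + 1) := by
    rw [show q ^ 2 - 1 = 2 * (a * (q + 1)) by
      rw [hqa, show (2 * a + 1) ^ 2 = 2 * (a * (2 * a + 1 + 1)) + 1 by ring, Nat.add_sub_cancel],
      Nat.mul_div_cancel_left _ two_pos]
  have hplus : q * (q + 1) / 2 = q * (a + 1) := by
    rw [show q * (q + 1) = 2 * (q * (a + 1)) by rw [hqa]; ring, Nat.mul_div_cancel_left _ two_pos]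
  have hminus : q * (q - 1) / 2 = q * a := by
    rw [show q - 1 = 2 * a by omega, show q * (2 * a) = 2 * (q * a) by ring, Nat.mul_div_cancel_left _ two_pos]
  have hminus' : q * (q - 1) = 2 * (q * a) := by rw [show q - 1 = 2 * a by omega]; ring
  have key : ∀ x : Matrix.ProjectiveSpecialLinearGroup (Fin 2) F,
      (Subgroup.centralizer ({x} : Set (Matrix.ProjectiveSpecialLinearGroup (Fin 2) F))).index = 1 ∨
      (Subgroup.centralizer ({x} : Set (Matrix.ProjectiveSpecialLinearGroup (Fin 2) F))).index = a * (q + 1) ∨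
      (Subgroup.centralizer ({x} : Set (Matrix.ProjectiveSpecialLinearGroup (Fin 2) F))).index = q * (q - 1) ∨
      (Subgroup.centralizer ({x} : Set (Matrix.ProjectiveSpecialLinearGroup (Fin 2) F))).index = q * (q + 1) ∨
      (2 * H39.evenHalf q) * (Subgroup.centralizer ({x} : Set (Matrix.ProjectiveSpecialLinearGroup (Fin 2) F))).index
        = q * a * (q + 1) := by
    intro x
    rcases H41.centralizer_cases p x with rfl | h | h | h | ⟨ho, _⟩
    · left; simp
    · right; left; exact H41.index_of_card_centralizer p h (by rw [hG, ← hq, mul_assoc]) (by omega)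
    · right; right; left
      rw [← hq, hd, e2] at h
      exact H41.index_of_card_centralizer p h (by rw [hG, hminus', hqa]; ring) (by omega)
    · right; right; right; left
      rw [← hq, hd, e1] at h
      exact H41.index_of_card_centralizer p h (by rw [hG]; ring) (by omega)
    · right; right; right; right
      rw [← H39.card_centralizer_invol p (hq ▸ Nat.odd_iff.2 (by omega)) ho, Subgroup.card_mul_index, hG]
  obtain ⟨xp, hxp⟩ := H41.exists_centralizer_tor (F := F) p (Or.inl rfl) (by rw [← hq, hd, e2]; omega)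
  obtain ⟨xm, hxm⟩ := H41.exists_centralizer_tor (F := F) p (Or.inr rfl) (by rw [← hq, hd, e1]; omega)
  obtain ⟨xu, hxu⟩ := H41.exists_centralizer_card_field (F := F) p
  rw [← hq, hd, e2] at hxp
  rw [← hq, hd, e1] at hxm
  obtain ⟨t, ht⟩ := H39.exists_invol (F := F) (hq ▸ Nat.odd_iff.2 (by omega))
  have hct := H39.card_centralizer_invol p (hq ▸ Nat.odd_iff.2 (by omega)) ht
  rw [← hq] at hct
  have iu := H41.index_of_card_centralizer p hxu (by rw [hG, ← hq, mul_assoc]) (by omega)
  have ip : (Subgroup.centralizer ({xp} : Set (Matrix.ProjectiveSpecialLinearGroup (Fin 2) F))).index = q * (q - 1) :=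
    H41.index_of_card_centralizer p hxp (by rw [hG, hminus', hqa]; ring) (by omega)
  have im : (Subgroup.centralizer ({xm} : Set (Matrix.ProjectiveSpecialLinearGroup (Fin 2) F))).index = q * (q + 1) :=
    H41.index_of_card_centralizer p hxm (by rw [hG]; ring) (by omega)
  constructor
  · intro h4
    have hev : 2 * H39.evenHalf q = 2 * a := by rw [H39.evenHalf, if_pos h4, e1]
    rw [hsq, hplus]
    ext m
    constructor
    · rintro ⟨x, rfl⟩
      simp only [Set.mem_insert_iff, Set.mem_singleton_iff]
      rcases key x with h | h | h | h | h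
      · exact Or.inl h
      · exact Or.inr (Or.inl h)
      · exact Or.inr (Or.inr (Or.inr (Or.inl h)))
      · exact Or.inr (Or.inr (Or.inr (Or.inr h)))
      · refine Or.inr (Or.inr (Or.inl (Nat.eq_of_mul_eq_mul_left (show 0 < 2 * a by omega) ?_)))
        rw [hev] at h
        rw [h, hqa]; ring
    · simp only [Set.mem_insert_iff, Set.mem_singleton_iff]
      rintro (rfl | rfl | rfl | rfl | rfl)
      · exact ⟨1, by simp⟩
      · exact ⟨xu, iu⟩
      · exact ⟨t, H41.index_of_card_centralizer p hct (by rw [hev, hG, hqa]; ring) (by omega)⟩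
      · exact ⟨xp, ip⟩
      · exact ⟨xm, im⟩
  · intro h4
    have hev : 2 * H39.evenHalf q = q + 1 := by rw [H39.evenHalf, if_neg (by omega), e2]; omega
    rw [hsq, hminus]
    ext m
    constructor
    · rintro ⟨x, rfl⟩
      simp only [Set.mem_insert_iff, Set.mem_singleton_iff]
      rcases key x with h | h | h | h | h
      · exact Or.inl h
      · exact Or.inr (Or.inl h)
      · exact Or.inr (Or.inr (Or.inr (Or.inr h)))
      · exact Or.inr (Or.inr (Or.inr (Or.inl h)))
      · refine Or.inr (Or.inr (Or.inl (Nat.eq_of_mul_eq_mul_left (show 0 < q + 1 by omega) ?_)))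
        rw [hev] at h
        rw [h]; ring
    · simp only [Set.mem_insert_iff, Set.mem_singleton_iff]
      rintro (rfl | rfl | rfl | rfl | rfl)
      · exact ⟨1, by simp⟩
      · exact ⟨xu, iu⟩
      · exact ⟨t, H41.index_of_card_centralizer p hct (by rw [hev, hG]; ring) (by omega)⟩
      · exact ⟨xm, im⟩
      · exact ⟨xp, ip⟩

end Cfsg.Agent.S2508
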