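import Cfsg.Statements.S3755
import Cfsg.Agent.H30.SThreeSection
import Cfsg.Agent.H1.Cores

set_option autoImplicit false
open Cfsg

namespace Cfsg.Agent.S3755

/-- Let M and V be subgroups of a finite group with V an elementary abelian 2-group, M normalizing V and acting faithfully on it (M ∩ C(V) = 1), and C_M(O_{2'}(M)) ≤ O_{2'}(M). If some elementary abelian 2-subgroup A of M satisfies |V : C_V(A)| < |A|², then M has a section isomorphic to the symmetric group of degree 3. -/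
theorem result {X : Type*} [Group X] [Finite X] (M V : Subgroup X) (hV : Cfsg.IsElementaryAbelian 2 V) (hMV : M ≤ Subgroup.normalizer (V : Set X)) (hfaith : M ⊓ Subgroup.centralizer (V : Set X) = ⊥) (hcon : Subgroup.centralizer (Cfsg.pPrimeCore 2 ↥M : Set ↥M) ≤ Cfsg.pPrimeCore 2 ↥M) (A : Subgroup X) (hAM : A ≤ M) (hA : Cfsg.IsElementaryAbelian 2 A) (hsmall : (V ⊓ Subgroup.centralizer (A : Set X)).relIndex V < Nat.card A ^ 2) : Cfsg.Involves (Equiv.Perm (Fin 3)) ↥M := by
  obtain ⟨hAc, hA2⟩ := hA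
  obtain ⟨hVc, hV2⟩ := hV
  by_contra hno
  set O : Subgroup X := (Cfsg.pPrimeCore 2 ↥M).map M.subtype with hOdef
  have hOM : O ≤ M := Subgroup.map_subtype_le _
  have hOcard : (Nat.card O).Coprime 2 := by
    rw [hOdef, Subgroup.card_map_of_injective M.subtype_injective]
    exact H1.card_pPrimeCore_coprime 2 ↥M
  haveI : (Cfsg.pPrimeCore 2 ↥M).Normal := H1.pPrimeCore_normal' 2 ↥M
  have hMO : M ≤ Subgroup.normalizer (O : Set X) := by
    intro m hm
    apply Subgroup.mem_normalizer_fintype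
    rintro _ ⟨z, hz, rfl⟩
    exact ⟨⟨m, hm⟩ * z * ⟨m, hm⟩⁻¹, Subgroup.Normal.conj_mem inferInstance z hz ⟨m, hm⟩, rfl⟩
  have hOf : O ⊓ Subgroup.centralizer (V : Set X) = ⊥ := by
    rw [eq_bot_iff, ← hfaith]
    exact inf_le_inf_right _ hOM
  have hAf : A ⊓ Subgroup.centralizer (O : Set X) = ⊥ := by
    rw [eq_bot_iff]
    rintro x ⟨hxA, hxC⟩
    have h1 : (⟨x, hAM hxA⟩ : M) ∈ Cfsg.pPrimeCore 2 ↥M := by
      apply hcon
      rw [Subgroup.mem_centralizer_iff]
      intro z hz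
      exact Subtype.ext (Subgroup.mem_centralizer_iff.1 hxC _ ⟨z, hz, rfl⟩)
    have h2 : orderOf (⟨x, hAM hxA⟩ : M) ∣ Nat.gcd (Nat.card (Cfsg.pPrimeCore 2 ↥M)) 2 := by
      refine Nat.dvd_gcd ?_ ?_
      · rw [← Subgroup.orderOf_mk _ h1]; exact orderOf_dvd_natCard _
      · exact orderOf_dvd_of_pow_eq_one (Subtype.ext (by simpa using hA2 x hxA))
    rw [(H1.card_pPrimeCore_coprime 2 ↥M).gcd_eq_one, Nat.dvd_one, orderOf_eq_one_iff] at h2
    exact congrArg Subtype.val h2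
  refine absurd (H30.card_sq_le_relIndex hVc hV2 (hOM.trans hMV) hOcard hOf (M := M) ?_ A hAc hA2
    (hAM.trans hMO) (hAM.trans hMV) hAf hAM) (not_le.2 hsmall)
  intro w a hw hwO haM ha _ hinv _
  exact hno (H30.involves_of_inverted hw ha (hOM hwO) haM hinv)

end Cfsg.Agent.S3755
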