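import Cfsg.Statements.S2761
import Cfsg.Agent.H74.Qd
-- import your own Cfsg.Agent.* helpers here

set_option autoImplicit false
open Cfsg

namespace Cfsg.Agent.S2761

/-- The group Qd(2), the natural semidirect product of an elementary abelian group of order 4 by SL₂(2) (realised as the affine subgroup of SL₃(2)), is isomorphic to the symmetric group of degree 4. -/
theorem result : Nonempty (↥(Cfsg.qd 2) ≃* Equiv.Perm (Fin 4)) := by
  change Nonempty (↥(Cfsg.qdOver (ZMod 2)) ≃* Equiv.Perm (Fin 4))
  let act : ↥(Cfsg.qdOver (ZMod 2)) →* Equiv.Perm (Fin 2 → ZMod 2) :=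
    MonoidHom.toHomPerm
      { toFun := fun M => fun v =>
          (H74.Qd.lin M : Matrix (Fin 2) (Fin 2) (ZMod 2)).mulVec v + H74.Qd.vec M
        map_one' := by
          funext v
          simp [H74.Qd.vec_one]
          rfl
        map_mul' := fun M N => by
          funext v
          show _ = (H74.Qd.lin M : Matrix (Fin 2) (Fin 2) (ZMod 2)).mulVec
            ((H74.Qd.lin N : Matrix (Fin 2) (Fin 2) (ZMod 2)).mulVec v + H74.Qd.vec N) + H74.Qd.vec M
          rw [map_mul, Matrix.SpecialLinearGroup.coe_mul, H74.Qd.vec_mul, Matrix.mulVec_add,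
            Matrix.mulVec_mulVec, add_assoc] }
  have hinj : Function.Injective act := fun M N h => by
    have h' : ∀ v, (H74.Qd.lin M : Matrix (Fin 2) (Fin 2) (ZMod 2)).mulVec v + H74.Qd.vec M =
        (H74.Qd.lin N : Matrix (Fin 2) (Fin 2) (ZMod 2)).mulVec v + H74.Qd.vec N :=
      fun v => Equiv.ext_iff.mp h v
    have h0 : H74.Qd.vec M = H74.Qd.vec N := by simpa using h' 0
    refine H74.Qd.ext_lin_vec (Subtype.ext ?_) h0
    exact Matrix.ext_of_mulVec_single fun i => by simpa [h0] using h' (Pi.single i 1)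
  have hcard : Nat.card ↥(Cfsg.qdOver (ZMod 2)) = Nat.card (Equiv.Perm (Fin 2 → ZMod 2)) := by
    rw [H74.Qd.card_qdOver, H40.card_SL2, Nat.card_perm, Nat.card_eq_fintype_card, Fintype.card_fun,
      Fintype.card_fin, ZMod.card]
    rfl
  have hbij : Function.Bijective act :=
    (Nat.bijective_iff_injective_and_card _).mpr ⟨hinj, hcard⟩
  exact ⟨(MulEquiv.ofBijective act hbij).trans (Equiv.permCongrHom (Fintype.equivFinOfCardEq (by simp [ZMod.card])))⟩

end Cfsg.Agent.S2761
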