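import Cfsg.Statements.S0626
import Cfsg.Agent.H10.PStability

set_option autoImplicit false
set_option linter.style.haveILetI false
open Cfsg

namespace Cfsg.Agent.S0626

/-- For odd p, groups whose Sylow 2-subgroups are abelian are p-stable in the action sense. -/
theorem result {G : Type*} [Group G] [Finite G] {p : ℕ} [Fact p.Prime] (hp : p ≠ 2) (hab : ∀ T : Sylow 2 G, IsMulCommutative T) : Cfsg.IsActionPStable p G := by
  haveI : Fact (Nat.Prime 2) := ⟨Nat.prime_two⟩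
  refine H10.isActionPStable_of_hereditary
    (fun V _ hV => H10.isPStableOn_of_comm_sylow_two hp hab V hV)
    (fun N _ V _ hV => H10.isPStableOn_of_comm_sylow_two hp (fun T => ?_) V hV)
    (fun H V _ hV => H10.isPStableOn_of_comm_sylow_two hp (fun T => ?_) V hV)
  · obtain ⟨S⟩ := (inferInstance : Nonempty (Sylow 2 G))
    obtain ⟨g, hg⟩ := MulAction.exists_smul_eq (G ⧸ N)
      (S.mapSurjective (QuotientGroup.mk'_surjective N)) T
    obtain ⟨g, rfl⟩ := QuotientGroup.mk'_surjective N g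
    have key : ∀ z ∈ (T : Subgroup (G ⧸ N)), ∃ s ∈ ((g • S : Sylow 2 G) : Subgroup G),
        QuotientGroup.mk' N s = z := by
      intro z hz
      rw [← hg, Sylow.smul_def, Sylow.pointwise_smul_def] at hz
      obtain ⟨w, hw, rfl⟩ := hz
      obtain ⟨s, hs, rfl⟩ := hw
      refine ⟨g * s * g⁻¹, ?_, by simp⟩
      rw [Sylow.smul_def, Sylow.pointwise_smul_def]
      exact ⟨s, hs, rfl⟩
    refine ⟨⟨?_⟩⟩
    rintro ⟨x, hx⟩ ⟨y, hy⟩
    obtain ⟨s, hs, rfl⟩ := key x hx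
    obtain ⟨t, ht, rfl⟩ := key y hy
    apply Subtype.ext
    rw [Subgroup.coe_mul, Subgroup.coe_mul, ← map_mul, ← map_mul]
    exact congrArg _ (congrArg Subtype.val ((hab (g • S)).is_comm.comm ⟨s, hs⟩ ⟨t, ht⟩))
  · obtain ⟨T', hT'⟩ := (T.2.map H.subtype).exists_le_sylow
    refine ⟨⟨?_⟩⟩
    rintro ⟨x, hx⟩ ⟨y, hy⟩
    apply Subtype.ext
    apply Subtype.ext
    simpa using congrArg Subtype.val ((hab T').is_comm.comm
      ⟨(x : G), hT' ⟨x, hx, rfl⟩⟩ ⟨(y : G), hT' ⟨y, hy, rfl⟩⟩)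

end Cfsg.Agent.S0626
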