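import Cfsg.Statements.S3224
import Cfsg.Agent.H70.DihedralIso
import Mathlib.GroupTheory.Sylow
import Mathlib.GroupTheory.QuotientGroup.Basic
import Mathlib.GroupTheory.PGroup
import Mathlib.Tactic.Group

set_option autoImplicit false
open Cfsg

namespace Cfsg.Agent.S3224

universe u

open Subgroup

lemma centralizer_facts {S : Type u} [Group S] [Finite S] (hS : IsPGroup 2 S) {x : S} (hx : orderOf x = 2)
    (hC : Nat.card ↥(centralizer ({x} : Set S)) = 4) (hbig : 4 < Nat.card S) :
    ∃ z : S, z ∈ center S ∧ orderOf z = 2 ∧ z ≠ x ∧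
      ∀ g : S, g ∈ centralizer ({x} : Set S) → g = 1 ∨ g = x ∨ g = z ∨ g = x * z := by
  have : Fact (Nat.Prime 2) := ⟨Nat.prime_two⟩
  have hnt : Nontrivial S := Finite.one_lt_card_iff_nontrivial.mp (by omega)
  have : Nontrivial (center S) := hS.center_nontrivial
  obtain ⟨z, hz⟩ := exists_prime_orderOf_dvd_card' (G := center S) 2 (by
    obtain ⟨k, hk⟩ := (IsPGroup.iff_card (p := 2)).mp (hS.to_subgroup (center S))
    have : 1 < Nat.card (center S) := Finite.one_lt_card
    rcases k with - | k
    · simp [hk] at this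
    · exact ⟨2 ^ k, by rw [hk, pow_succ']⟩)
  refine ⟨z, z.2, by rw [← hz]; exact (orderOf_coe z), ?_, ?_⟩
  · intro hzx
    have : centralizer ({x} : Set S) = ⊤ := by
      rw [eq_top_iff]
      intro g _
      rw [mem_centralizer_singleton_iff]
      exact mem_center_iff.mp (hzx ▸ z.2) g
    rw [this, card_top] at hC
    omega
  intro g hg
  have hzx : (z : S) ≠ x := by
    intro hzx
    have : centralizer ({x} : Set S) = ⊤ := by
      rw [eq_top_iff]
      intro g _
      rw [mem_centralizer_singleton_iff]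
      exact mem_center_iff.mp (hzx ▸ z.2) g
    rw [this, card_top] at hC
    omega
  have hz1 : (z : S) ≠ 1 := by
    intro h; rw [← orderOf_coe, h, orderOf_one] at hz; omega
  have hx1 : x ≠ 1 := by intro h; rw [h, orderOf_one] at hx; omega
  have hxz1 : x * z ≠ 1 := by
    intro h
    have hxi : x⁻¹ = x := (eq_inv_of_mul_eq_one_left (by rw [← pow_two, ← hx, pow_orderOf_eq_one])).symm
    exact hzx ((eq_inv_of_mul_eq_one_right h).trans hxi)
  classical
  let s : Finset S := {1, x, (z : S), x * z}
  have hcard : s.card = 4 := by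
    have h1 : x ≠ x * z := by simpa using hz1
    have h2 : (z : S) ≠ x * z := by simpa using hx1
    simp [s, hz1.symm, hx1.symm, hxz1.symm, hzx.symm, h1, h2]
  have hsub : (s : Set S) ⊆ (centralizer ({x} : Set S) : Set S) := by
    have hx' : x ∈ centralizer ({x} : Set S) := mem_centralizer_singleton_iff.mpr rfl
    have hz' : (z : S) ∈ centralizer ({x} : Set S) := mem_centralizer_singleton_iff.mpr (mem_center_iff.mp z.2 x).symm
    intro a ha
    simp only [s, Finset.coe_insert, Finset.coe_singleton, Set.mem_insert_iff, Set.mem_singleton_iff] at ha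
    rcases ha with rfl | rfl | rfl | rfl
    exacts [one_mem _, hx', hz', mul_mem hx' hz']
  have heq := Set.eq_of_subset_of_ncard_le hsub (by rw [Set.ncard_coe_finset, hcard, ← Nat.card_coe_set_eq, ← hC]; exact le_rfl)
  have : g ∈ (s : Set S) := heq ▸ hg
  simpa [s] using this

lemma exists_cyclic : ∀ (k : ℕ) (S : Type u) [Group S] [Finite S], Nat.card S = 2 ^ k → 3 ≤ k →
    ∀ x : S, orderOf x = 2 → Nat.card ↥(centralizer ({x} : Set S)) = 4 →
      ∃ c : S, orderOf c = 2 ^ (k - 1) ∧ x ∉ zpowers c := by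
  intro k
  induction k with
  | zero => intros; omega
  | succ k ih =>
  intro S _ _ hcard hk x hx hC
  have : Fact (Nat.Prime 2) := ⟨Nat.prime_two⟩
  have hS : IsPGroup 2 S := IsPGroup.of_card hcard
  have hbig : 4 < Nat.card S := by
    rw [hcard]; calc 4 < 2 ^ 3 := by norm_num
      _ ≤ _ := Nat.pow_le_pow_right (by omega) hk
  obtain ⟨z, hzZ, hz, hzx, hall⟩ := centralizer_facts hS hx hC hbig
  have hxsq : x * x = 1 := by rw [← pow_two, ← hx, pow_orderOf_eq_one]
  have hzsq : z * z = 1 := by rw [← pow_two, ← hz, pow_orderOf_eq_one]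
  have hcsq : ∀ g ∈ centralizer ({x} : Set S), g ^ 2 = 1 := by
    have hxz : Commute x z := (mem_center_iff.mp hzZ x)
    intro g hg
    rcases hall g hg with rfl | rfl | rfl | rfl <;>
      simp [pow_two, hxsq, hzsq]
    rw [mul_assoc, ← mul_assoc z, ← hxz.eq, mul_assoc x z z, hzsq, mul_one, hxsq]
  rcases (show k = 2 ∨ 3 ≤ k by omega) with rfl | hk3
  · have : ∃ c : S, c ^ 2 ≠ 1 := by
      by_contra h
      push Not at h
      have : centralizer ({x} : Set S) = ⊤ := by
        rw [eq_top_iff]
        intro g _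
        rw [mem_centralizer_singleton_iff]
        have h1 : ∀ a : S, a⁻¹ = a := fun a => (eq_inv_of_mul_eq_one_left (by rw [← pow_two]; exact h a)).symm
        calc g * x = (g * x)⁻¹ := (h1 _).symm
          _ = x⁻¹ * g⁻¹ := mul_inv_rev _ _
          _ = x * g := by rw [h1, h1]
      rw [this, card_top] at hC
      omega
    obtain ⟨c, hc⟩ := this
    refine ⟨c, ?_, ?_⟩
    · obtain ⟨i, hi, hic⟩ := (Nat.dvd_prime_pow Nat.prime_two).mp (hcard ▸ orderOf_dvd_natCard c)
      rcases i with - | - | - | i
      · exact absurd (by rw [orderOf_eq_one_iff.mp (show orderOf c = 1 by simpa using hic)]; simp) hc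
      · exact absurd (orderOf_dvd_iff_pow_eq_one.mp (by simp [hic])) hc
      · simpa using hic
      · exfalso
        obtain rfl : i = 0 := by omega
        have htop : zpowers c = ⊤ := Subgroup.eq_top_of_card_eq _ (by rw [Nat.card_zpowers, hic, hcard])
        have : centralizer ({x} : Set S) = ⊤ := by
          rw [eq_top_iff]
          intro g _
          rw [mem_centralizer_singleton_iff]
          obtain ⟨a, rfl⟩ : g ∈ zpowers c := htop ▸ mem_top g
          obtain ⟨b, rfl⟩ : x ∈ zpowers c := htop ▸ mem_top x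
          exact ((Commute.refl c).zpow_zpow a b).eq
        rw [this, card_top] at hC
        omega
    · rintro ⟨a, rfl⟩
      exact hc (hcsq c (mem_centralizer_singleton_iff.mpr (((Commute.refl c).zpow_right a).eq)))
  -- inductive step
  set Z := zpowers z with hZ
  have hZn : Z.Normal := ⟨fun a ha g => by
    obtain ⟨i, rfl⟩ := ha
    have hc : g * z ^ i = z ^ i * g := mem_center_iff.mp (zpow_mem hzZ i) g
    show g * z ^ i * g⁻¹ ∈ Z
    rw [hc, mul_assoc, mul_inv_cancel, mul_one]
    exact ⟨i, rfl⟩⟩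
  have hZmem : ∀ a ∈ Z, a = 1 ∨ a = z := by
    rintro a ⟨i, rfl⟩
    show z ^ i = 1 ∨ z ^ i = z
    rw [← zpow_mod_orderOf, hz]
    rcases Int.emod_two_eq_zero_or_one i with h | h <;> rw [Nat.cast_two, h] <;> simp
  have hZcard : Nat.card Z = 2 := by rw [hZ, Nat.card_zpowers, hz]
  set π := QuotientGroup.mk' Z with hπ
  have hcardQ : Nat.card (S ⧸ Z) = 2 ^ k := by
    have := Z.card_eq_card_quotient_mul_card_subgroup
    rw [hcard, hZcard, pow_succ] at this
    omega
  have hx1 : x ≠ 1 := by intro h; rw [h, orderOf_one] at hx; omega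
  have hπx : π x ≠ 1 := by
    intro h
    rw [hπ, QuotientGroup.mk'_apply, QuotientGroup.eq_one_iff] at h
    rcases hZmem x h with h | h
    exacts [hx1 h, hzx h.symm]
  have hordx : orderOf (π x) = 2 := orderOf_eq_prime (by rw [← map_pow, pow_two, hxsq, map_one]) hπx
  have hCQ : Nat.card ↥(centralizer ({π x} : Set (S ⧸ Z))) = 4 := by
    set K := (centralizer ({π x} : Set (S ⧸ Z))).comap π with hK
    have hKcard : Nat.card K = Nat.card ↥(centralizer ({π x} : Set (S ⧸ Z))) * 2 := by
      have h := K.card_mul_index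
      rw [hK, index_comap_of_surjective _ (QuotientGroup.mk'_surjective Z), hcard, pow_succ, ← hcardQ,
        ← (centralizer ({π x} : Set (S ⧸ Z))).card_mul_index] at h
      have hi : (centralizer ({π x} : Set (S ⧸ Z))).index ≠ 0 := FiniteIndex.index_ne_zero
      apply Nat.eq_of_mul_eq_mul_right (Nat.pos_of_ne_zero hi)
      rw [hK, h]; ring
    have hKle : Nat.card K ≤ 8 := by
      have hKZ : ∀ g ∈ K, g * x * g⁻¹ * x ∈ Z := by
        intro g hg
        rw [← QuotientGroup.eq_one_iff (N := Z), ← QuotientGroup.mk'_apply Z, ← hπ]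
        rw [hK, mem_comap, mem_centralizer_singleton_iff] at hg
        rw [map_mul, map_mul, map_mul, hg, map_inv, mul_inv_cancel_right, ← map_mul, hxsq, map_one]
      let f : K →* Z :=
        { toFun := fun g => ⟨(g : S) * x * (g : S)⁻¹ * x, hKZ g g.2⟩
          map_one' := Subtype.ext (by simp [hxsq])
          map_mul' := fun g h => by
            apply Subtype.ext
            have hw : (h : S) * x * (h : S)⁻¹ * x ∈ center S := by
              rcases hZmem _ (hKZ h h.2) with e | e <;> rw [e]
              exacts [one_mem _, hzZ]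
            have hc := mem_center_iff.mp hw (g : S)
            have hxi : x⁻¹ = x := (eq_inv_of_mul_eq_one_left hxsq).symm
            simp only [Subgroup.coe_mul]
            calc (g : S) * h * x * ((g : S) * h)⁻¹ * x
                = ((g : S) * ((h : S) * x * (h : S)⁻¹ * x)) * x⁻¹ * (g : S)⁻¹ * x := by group
              _ = ((h : S) * x * (h : S)⁻¹ * x) * ((g : S) * x * (g : S)⁻¹ * x) := by
                rw [hc, hxi]; group
              _ = _ := (mem_center_iff.mp hw _).symm }
      have h1 : Nat.card f.ker ≤ 4 := by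
        rw [← hC]
        refine Nat.card_le_card_of_injective (fun a => ⟨((a : K) : S), ?_⟩) ?_
        · have h := congrArg Subtype.val a.2
          change ((a : K) : S) * x * ((a : K) : S)⁻¹ * x = 1 at h
          have hxi : x⁻¹ = x := (eq_inv_of_mul_eq_one_left hxsq).symm
          rw [mem_centralizer_singleton_iff, ← mul_inv_eq_iff_eq_mul]
          exact (eq_inv_of_mul_eq_one_left h).trans hxi
        · intro a b hab
          simp only [Subtype.mk.injEq] at hab
          exact Subtype.ext (Subtype.ext hab)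
      have h2 := f.ker.card_mul_index
      rw [index_ker] at h2
      have h3 : Nat.card f.range ≤ 2 := hZcard ▸ Subgroup.card_le_card_group _
      rw [← h2]; exact le_trans (Nat.mul_le_mul h1 h3) le_rfl
    obtain ⟨i, hi⟩ := (IsPGroup.iff_card (p := 2)).mp
      ((IsPGroup.of_card hcardQ).to_subgroup (centralizer ({π x} : Set (S ⧸ Z))))
    have hge : 2 < Nat.card ↥(centralizer ({π x} : Set (S ⧸ Z))) := by
      have hQ : IsPGroup 2 (S ⧸ Z) := IsPGroup.of_card hcardQ
      have : Nontrivial (S ⧸ Z) := Finite.one_lt_card_iff_nontrivial.mp (by rw [hcardQ]; exact Nat.one_lt_two_pow (by omega))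
      have : Nontrivial (center (S ⧸ Z)) := hQ.center_nontrivial
      obtain ⟨⟨w, hw⟩, hw1⟩ := exists_ne (1 : center (S ⧸ Z))
      have hw1' : w ≠ 1 := fun h => hw1 (Subtype.ext h)
      by_cases hwx : w = π x
      · have : centralizer ({π x} : Set (S ⧸ Z)) = ⊤ := by
          rw [eq_top_iff]
          intro g _
          rw [mem_centralizer_singleton_iff]
          exact mem_center_iff.mp (hwx ▸ hw) g
        rw [this, card_top, hcardQ]
        calc 2 < 2 ^ 3 := by norm_num
          _ ≤ _ := Nat.pow_le_pow_right (by omega) hk3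
      · classical
        have hsub : ((({1, π x, w} : Finset (S ⧸ Z))) : Set (S ⧸ Z)) ⊆ (centralizer ({π x} : Set (S ⧸ Z)) : Set (S ⧸ Z)) := by
          intro a ha
          simp only [Finset.coe_insert, Finset.coe_singleton, Set.mem_insert_iff, Set.mem_singleton_iff] at ha
          rcases ha with rfl | rfl | rfl
          exacts [one_mem _, mem_centralizer_singleton_iff.mpr rfl, mem_centralizer_singleton_iff.mpr (mem_center_iff.mp hw (π x)).symm]
        have := Set.ncard_le_ncard hsub
        rw [Set.ncard_coe_finset, ← Nat.card_coe_set_eq] at this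
        have h3 : ({1, π x, w} : Finset (S ⧸ Z)).card = 3 := by simp [hπx.symm, hw1'.symm, Ne.symm hwx]
        rw [h3] at this
        exact this
    rw [hi] at hge hKcard ⊢
    have hi2 : i ≤ 2 := by
      by_contra h
      have : 2 ^ 3 ≤ 2 ^ i := Nat.pow_le_pow_right (by omega) (by omega)
      omega
    interval_cases i <;> omega
  obtain ⟨cq, hcq, hxcq⟩ := ih (S ⧸ Z) hcardQ hk3 (π x) hordx hCQ
  obtain ⟨c, hcπ⟩ := QuotientGroup.mk'_surjective Z cq
  subst hcπ
  have hxc : x ∉ zpowers c := by
    rintro ⟨i, rfl⟩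
    exact hxcq ⟨i, (map_zpow π c i).symm⟩
  set A := (zpowers (π c)).comap π with hA
  have hxA : x ∉ A := hxcq
  have hAindex : A.index = 2 := by
    rw [hA, index_comap_of_surjective _ (QuotientGroup.mk'_surjective Z)]
    have := (zpowers (π c)).card_mul_index
    rw [Nat.card_zpowers, hcq, hcardQ] at this
    have e : 2 ^ k = 2 ^ (k - 1) * 2 := by rw [← pow_succ]; congr 1; omega
    rw [e] at this
    exact Nat.eq_of_mul_eq_mul_left (by positivity) this
  have hAn : A.Normal := normal_of_index_eq_two hAindex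
  have hzA : π z = 1 := by
    rw [hπ, QuotientGroup.mk'_apply, QuotientGroup.eq_one_iff]; exact mem_zpowers z
  have hcA : ∀ a ∈ A, Commute c a := by
    intro a ha
    obtain ⟨i, hi⟩ := ha
    have h2 : c ^ (-i) * a ∈ Z := by
      rw [← QuotientGroup.eq_one_iff, ← QuotientGroup.mk'_apply Z, ← hπ, map_mul, map_zpow, ← show π c ^ i = π a from hi,
        ← zpow_add, neg_add_cancel, zpow_zero]
    have h3 : a = c ^ i * (c ^ (-i) * a) := by group
    rw [h3]
    refine ((Commute.refl c).zpow_right i).mul_right ?_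
    rcases hZmem _ h2 with e | e <;> rw [e]
    exacts [Commute.one_right c, mem_center_iff.mp hzZ c]
  refine ⟨c, ?_, hxc⟩
  have hdvd := orderOf_map_dvd π c
  rw [hcq] at hdvd
  have hdvd2 : orderOf c ∣ 2 ^ (k - 1) * 2 := by
    apply orderOf_dvd_of_pow_eq_one
    have h : c ^ 2 ^ (k - 1) ∈ Z := by
      rw [← QuotientGroup.eq_one_iff, ← QuotientGroup.mk'_apply Z, ← hπ, map_pow, ← hcq, pow_orderOf_eq_one]
    rw [pow_mul]
    rcases hZmem _ h with e | e <;> rw [e] <;> simp [pow_two, hzsq]
  obtain ⟨q, hq⟩ := hdvd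
  have hq2 : q ∣ 2 := by
    rw [hq] at hdvd2
    exact Nat.dvd_of_mul_dvd_mul_left (by positivity) hdvd2
  rcases (Nat.dvd_prime Nat.prime_two).mp hq2 with rfl | rfl
  · exfalso
    rw [mul_one] at hq
    have hxi : x⁻¹ = x := (eq_inv_of_mul_eq_one_left hxsq).symm
    have hcA' : c ∈ A := mem_zpowers _
    set d := x * c * x⁻¹ with hd
    have hdA : d ∈ A := hAn.conj_mem c hcA' x
    set w := c * d with hw
    have hxd : x * d * x⁻¹ = c := by
      simp only [hd, hxi, ← mul_assoc, hxsq, one_mul]
      rw [mul_assoc, hxsq, mul_one]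
    have hwx : w ∈ centralizer ({x} : Set S) := by
      rw [mem_centralizer_singleton_iff]
      have : x * w * x⁻¹ = w := by
        rw [hw, ← conj_mul, ← hd, hxd]
        exact (hcA d hdA).eq.symm
      exact (mul_inv_eq_iff_eq_mul.mp this).symm
    have hw2 : w ^ 2 = 1 := hcsq w hwx
    have hde : d = c⁻¹ * w := by rw [hw]; group
    set e := c ^ 2 ^ (k - 2) with he
    have hex : x * e * x⁻¹ = e := by
      rw [he, ← conj_pow, ← hd, hde, ((hcA w (mul_mem hcA' hdA)).inv_left).mul_pow]
      have hwp : w ^ 2 ^ (k - 2) = 1 := by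
        obtain ⟨l, hl⟩ : 2 ∣ 2 ^ (k - 2) := dvd_pow_self _ (by omega)
        rw [hl, pow_mul, hw2, one_pow]
      rw [hwp, mul_one, inv_pow, inv_eq_iff_mul_eq_one, ← pow_add]
      have : 2 ^ (k - 2) + 2 ^ (k - 2) = orderOf c := by
        rw [hq, ← two_mul, ← pow_succ']; congr 1; omega
      rw [this, pow_orderOf_eq_one]
    have hne : π e ≠ 1 := by
      rw [he, map_pow]
      apply pow_ne_one_of_lt_orderOf (by positivity)
      rw [hcq]
      exact Nat.pow_lt_pow_right (by omega) (by omega)
    have heC : e ∈ centralizer ({x} : Set S) :=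
      mem_centralizer_singleton_iff.mpr (mul_inv_eq_iff_eq_mul.mp hex).symm
    have heA : e ∈ A := pow_mem hcA' _
    rcases hall e heC with h | h | h | h
    · exact hne (by rw [h, map_one])
    · exact hxA (h ▸ heA)
    · exact hne (h ▸ hzA)
    · exact hxA (show π x ∈ zpowers (π c) by
        have : π e ∈ zpowers (π c) := heA
        rwa [h, map_mul, hzA, mul_one] at this)
  · rw [hq, ← pow_succ]; congr 1; omega

/-- A finite 2-group containing an involution whose centralizer has order 4 is dihedral, quasi-dihedral (semidihedral), or of order 4. -/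
theorem result {S : Type*} [Group S] [Finite S] (hS : IsPGroup 2 S)
    (x : S) (hx : orderOf x = 2) (hC : Nat.card ↥(Subgroup.centralizer ({x} : Set S)) = 4) :
    (∃ n : ℕ, Nonempty (S ≃* DihedralGroup n)) ∨ Cfsg.IsQuasiDihedral S ∨ Nat.card S = 4 := by
  have : Fact (Nat.Prime 2) := ⟨Nat.prime_two⟩
  obtain ⟨k, hk⟩ := (IsPGroup.iff_card (p := 2)).mp hS
  by_cases h4 : Nat.card S = 4
  · exact Or.inr (Or.inr h4)
  have hk3 : 3 ≤ k := by
    have := Nat.le_of_dvd (Nat.card_pos) (hC ▸ Subgroup.card_subgroup_dvd_card (Subgroup.centralizer ({x} : Set S)))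
    by_contra h
    interval_cases k <;> omega
  have hbig : 4 < Nat.card S := by
    rw [hk]; calc 4 < 2 ^ 3 := by norm_num
      _ ≤ _ := Nat.pow_le_pow_right (by omega) hk3
  obtain ⟨z, hzZ, hz, hzx, hall⟩ := centralizer_facts hS hx hC hbig
  obtain ⟨c, hc, hxc⟩ := exists_cyclic k S hk hk3 x hx hC
  have hxsq : x * x = 1 := by rw [← pow_two, ← hx, pow_orderOf_eq_one]
  have hxi : x⁻¹ = x := (eq_inv_of_mul_eq_one_left hxsq).symm
  have hzsq : z * z = 1 := by rw [← pow_two, ← hz, pow_orderOf_eq_one]
  have hcardS : Nat.card S = 2 * orderOf c := by rw [hk, hc, ← pow_succ']; congr 1; omega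
  have hn : (Subgroup.zpowers c).Normal := by
    apply Subgroup.normal_of_index_eq_two
    have := (Subgroup.zpowers c).card_mul_index
    rw [Nat.card_zpowers, hcardS, mul_comm 2] at this
    exact Nat.eq_of_mul_eq_mul_left (orderOf_pos c) this
  set d := x * c * x⁻¹ with hd
  have hdc : d ∈ Subgroup.zpowers c := hn.conj_mem c (Subgroup.mem_zpowers c) x
  set w := c * d with hw
  have hwc : w ∈ Subgroup.zpowers c := mul_mem (Subgroup.mem_zpowers c) hdc
  have hcd : Commute c d := by
    obtain ⟨i, hi⟩ := hdc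
    rw [← hi]; exact (Commute.refl c).zpow_right i
  have hwx : x * w * x⁻¹ = w := by
    rw [hw, ← conj_mul, ← hd]
    have : x * d * x⁻¹ = c := by
      simp only [hd, hxi, ← mul_assoc, hxsq, one_mul]
      rw [mul_assoc, hxsq, mul_one]
    rw [this]; exact hcd.eq.symm
  have hw2 : w ^ 2 = 1 := by
    rcases hall w (Subgroup.mem_centralizer_singleton_iff.mpr (mul_inv_eq_iff_eq_mul.mp hwx).symm) with h | h | h | h
    · rw [h, one_pow]
    · exact absurd (h ▸ hwc) hxc
    · rw [h, pow_two, hzsq]
    · rw [h, (show Commute x z from Subgroup.mem_center_iff.mp hzZ x).mul_pow, pow_two, hxsq, pow_two, hzsq, one_mul]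
  have hde : d = c⁻¹ * w := by rw [hw]; group
  by_cases hw1 : w = 1
  · refine Or.inl ⟨orderOf c, H70.nonempty_mulEquiv_dihedral hcardS hxsq hxc ?_⟩
    rw [← hd, hde, hw1, mul_one]
  · obtain ⟨i, hi⟩ := (mem_powers_iff_mem_zpowers).mpr hwc
    simp only at hi
    have hdiv : orderOf c ∣ i * 2 := orderOf_dvd_of_pow_eq_one (by rw [pow_mul, hi, hw2])
    rw [hc, show 2 ^ (k - 1) = 2 ^ (k - 2) * 2 by rw [← pow_succ]; congr 1; omega] at hdiv
    obtain ⟨l, hl⟩ := Nat.dvd_of_mul_dvd_mul_right (by omega) hdiv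
    have hpp : (c ^ 2 ^ (k - 2)) ^ 2 = 1 := by
      rw [← pow_mul, ← pow_succ, show k - 2 + 1 = k - 1 by omega, ← hc, pow_orderOf_eq_one]
    have hwe : w = c ^ 2 ^ (k - 2) := by
      rcases Nat.even_or_odd' l with ⟨m, hm | hm⟩
      · exfalso
        apply hw1
        rw [← hi, hl, hm, pow_mul, pow_mul, hpp, one_pow]
      · rw [← hi, hl, hm, pow_mul, pow_succ _ (2 * m), pow_mul, hpp, one_pow, one_mul]
    have hde2 : d = c ^ (2 ^ (k - 2) - 1) := by
      rw [hde, hwe, inv_mul_eq_iff_eq_mul, ← pow_succ']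
      congr 1
      have : 1 ≤ 2 ^ (k - 2) := Nat.one_le_two_pow
      omega
    rcases (show k = 3 ∨ 4 ≤ k by omega) with rfl | hk4
    · exfalso
      norm_num at hde2
      have : Subgroup.centralizer ({x} : Set S) ⊓ Subgroup.zpowers c = Subgroup.zpowers c := by
        rw [inf_eq_right, Subgroup.zpowers_le, Subgroup.mem_centralizer_singleton_iff]
        exact (mul_inv_eq_iff_eq_mul.mp (hd.symm.trans hde2)).symm
      have hmem : c ∈ Subgroup.centralizer ({x} : Set S) := by
        have := Subgroup.mem_zpowers c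
        rw [← ‹Subgroup.centralizer ({x} : Set S) ⊓ Subgroup.zpowers c = Subgroup.zpowers c›] at this
        exact this.1
      have hcsq : c ^ 2 = 1 := by
        rcases hall c hmem with h | h | h | h
        · rw [h, one_pow]
        · rw [h, pow_two, hxsq]
        · rw [h, pow_two, hzsq]
        · rw [h, (show Commute x z from Subgroup.mem_center_iff.mp hzZ x).mul_pow, pow_two, hxsq, pow_two, hzsq, one_mul]
      have := orderOf_dvd_of_pow_eq_one hcsq
      rw [hc] at this
      norm_num at this
    · refine Or.inr (Or.inl ⟨k - 1, by omega, ?_, c, x, hc, hx, ?_⟩)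
      · rw [hk]; congr 1; omega
      · rw [← hd, hde2, Nat.sub_sub]

end Cfsg.Agent.S3224
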