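import Cfsg.Statements.S5628
import Cfsg.Agent.H94.PlaneQuads

set_option autoImplicit false
open scoped Pointwise
open Cfsg

namespace Cfsg.Agent.S5628

/-- In a projective plane of order 4 (a Steiner system S(2, 5, 21)), every permutation of the six points of a hyperoval (a 6-set met by no line in more than two points) is the restriction of exactly one automorphism of the plane. In particular the stabiliser of a hyperoval in the automorphism group is isomorphic to the symmetric group of degree 6 acting faithfully on the hyperoval. -/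
theorem result {α : Type*} [Fintype α] [DecidableEq α] (hα : Fintype.card α = 21) (L : Set (Finset α)) (hL : Cfsg.IsSteinerSystem 2 5 L) (H : Finset α) (hH : (H.card = 6 ∧ ∀ l ∈ L, (l ∩ H).card ≤ 2)) (σ : Equiv.Perm ↥H) : ∃! g : Equiv.Perm α, g ∈ Cfsg.setSystemAut L ∧ ∀ p : ↥H, g p = σ p := by
  classical
  have h : H94.Plane4.IsPlane L := ⟨hα, hL⟩
  let e : Fin 6 ≃ ↥H := (Fintype.equivFinOfCardEq (by rw [Fintype.card_coe, hH.1])).symm
  let φ : Fin 6 ↪ α := e.toEmbedding.trans ⟨Subtype.val, Subtype.val_injective⟩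
  let φ' : Fin 6 ↪ α := (e.trans σ).toEmbedding.trans ⟨Subtype.val, Subtype.val_injective⟩
  have hφ : H94.Plane4.Indep L (Finset.univ.map φ) := by
    refine H94.Plane4.Indep.subset (T := H) (S := H) hH.2 le_rfl |>.subset ?_
    intro x hx
    obtain ⟨i, -, rfl⟩ := Finset.mem_map.mp hx
    exact (e i).2
  have hφ' : H94.Plane4.Indep L (Finset.univ.map φ') := by
    refine H94.Plane4.Indep.subset (T := H) (S := H) hH.2 le_rfl |>.subset ?_
    intro x hx
    obtain ⟨i, -, rfl⟩ := Finset.mem_map.mp hx
    exact (σ (e i)).2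
  obtain ⟨ψ, hψl, hψ, hψc⟩ := h.exists_coord φ hφ
  obtain ⟨ψ', hψl', hψ', hψc'⟩ := h.exists_coord φ' hφ'
  have hsmul : ∀ (g : Equiv.Perm α) (l : Finset α), g • l = l.image g := by
    intro g l
    rfl
  refine ⟨ψ.symm.trans ψ', ⟨?_, ?_⟩, ?_⟩
  · rw [Cfsg.setSystemAut, MulAction.mem_stabilizer_iff]
    exact H94.Plane4.image_lines hψ hψ'
  · intro p
    obtain ⟨i, rfl⟩ := e.surjective p
    show ψ' (ψ.symm (φ i)) = φ' i
    rw [← hψl, Equiv.symm_apply_apply, hψl']
  · rintro g ⟨hg, hgσ⟩
    rw [Cfsg.setSystemAut, MulAction.mem_stabilizer_iff] at hg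
    have hgl : ∀ l ∈ L, l.image g ∈ L := by
      intro l hl
      rw [← hsmul, ← hg]
      exact ⟨l, hl, rfl⟩
    apply Equiv.ext
    intro x
    obtain ⟨m, rfl⟩ := ψ.surjective x
    rw [Equiv.trans_apply, Equiv.symm_apply_apply]
    have hgi : ∀ i, g (φ i) = φ' i := fun i => hgσ (e i)
    rcases m with i | k
    · rw [hψl, hψl', hgi]
    · obtain ⟨y, hy⟩ := ψ'.surjective (g (ψ (Sum.inr k)))
      rw [← hy]
      congr 1
      rcases y with i | k'
      · exfalso
        rw [hψl', ← hgi] at hy
        have := g.injective hy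
        rw [← hψl] at this
        exact Sum.inl_ne_inr (ψ.injective this)
      · congr 1
        apply H94.Plane4.pairing_injective
        funext i
        obtain ⟨l, hl, hkl, hil, hjl⟩ := hψc k i
        obtain ⟨l', hl', hkl', hil', hjl'⟩ := hψc' k' i
        have e1 : l.image g = l' := by
          refine h.line_unique (a := φ' i) (b := ψ' (Sum.inr k')) (hgl l hl) hl' ?_ ?_ ?_ hil' hkl'
          · rw [← hψl']; exact fun hh => Sum.inl_ne_inr (ψ'.injective hh)
          · exact Finset.mem_image.mpr ⟨_, hil, hgi i⟩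
          · exact Finset.mem_image.mpr ⟨_, hkl, hy.symm⟩
        have e2 : φ' (H94.Plane4.pairing k i) ∈ l' := e1 ▸ Finset.mem_image.mpr ⟨_, hjl, hgi _⟩
        have hfix : ∀ (k : Fin 15) (i : Fin 6), H94.Plane4.pairing k i ≠ i := by decide
        by_contra hne
        have h3 := hφ' l' hl'
        have h4 : ({φ' i, φ' (H94.Plane4.pairing k' i), φ' (H94.Plane4.pairing k i)} : Finset α) ⊆
            l' ∩ Finset.univ.map φ' := by
          simp [Finset.insert_subset_iff, hil', hjl', e2]
        have h5 := Finset.card_le_card h4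
        rw [Finset.card_eq_three.mpr ⟨_, _, _, fun hh => hfix k' i (φ'.injective hh).symm,
          fun hh => hfix k i (φ'.injective hh).symm, fun hh => hne (φ'.injective hh), rfl⟩] at h5
        omega

end Cfsg.Agent.S5628
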