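import Cfsg.Statements.S3278
import Cfsg.Agent.H70.KleinCentralizerArith
import Cfsg.Agent.H70.KleinCentralizerSylow
import Cfsg.Agent.H70.KleinCentralizerCommute
import Cfsg.Agent.H70.KleinSectionValue
import Cfsg.Agent.H22.ValueMod
import Cfsg.Agent.H59.A5Char
import Cfsg.Agent.H65.BrauerFowler

set_option autoImplicit false
open Cfsg

namespace Cfsg.Agent.S3278

/-- Let G be a finite simple group with an involution x such that a Sylow 2-subgroup of C_G(x) is a Klein four-group which is normal in C_G(x). Then G is isomorphic to the alternating group of degree 5 (that is, to PSL(2, 5)). -/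
theorem result {G : Type*} [Group G] [Finite G] [IsSimpleGroup G] (x : G) (hx : orderOf x = 2)
    (S₀ : Subgroup G) (hle : S₀ ≤ Subgroup.centralizer ({x} : Set G)) (hK : IsKleinFour ↥S₀)
    (hodd : ¬ 2 ∣ S₀.relIndex (Subgroup.centralizer ({x} : Set G))) (hn : (S₀.subgroupOf (Subgroup.centralizer ({x} : Set G))).Normal) :
    Nonempty (G ≃* ↥(alternatingGroup (Fin 5))) := by
  classical
  haveI : Fact (Nat.Prime 2) := ⟨Nat.prime_two⟩
  haveI := hK
  set Cx := Subgroup.centralizer ({x} : Set G) with hCx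
  have hV : Nat.card S₀ = 4 := hK.card_four
  have hVp : IsPGroup 2 ↥S₀ := IsPGroup.of_card (n := 2) (by rw [hV]; norm_num)
  let VS : Sylow 2 ↥Cx := (IsPGroup.comap_subtype (K := Cx) hVp).toSylow hodd
  have hmax : ∀ R : Subgroup G, IsPGroup 2 ↥R → S₀ ≤ R → R ≤ Cx → R = S₀ := by
    intro R hR hle' hRC
    refine le_antisymm (fun r hr => ?_) hle'
    have h1 := VS.is_maximal' (IsPGroup.comap_subtype (K := Cx) hR) (fun a ha => hle' ha)
    have h2 : (⟨r, hRC hr⟩ : ↥Cx) ∈ R.subgroupOf Cx := hr
    have h3 : (⟨r, hRC hr⟩ : ↥Cx) ∈ (VS : Subgroup ↥Cx) := h1 ▸ h2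
    exact h3
  have hxC : x ∈ Cx := Subgroup.mem_centralizer_singleton_iff.mpr rfl
  have hxV : x ∈ S₀ := by
    have hp : IsPGroup 2 ↥(S₀ ⊔ Subgroup.zpowers x) := by
      refine hVp.to_sup_of_normal_right'
        (IsPGroup.of_card (n := 1) (by rw [Nat.card_zpowers, hx, pow_one])) fun v hv => ?_
      refine Subgroup.mem_normalizer_fintype fun y hy => ?_
      obtain ⟨i, rfl⟩ := Subgroup.mem_zpowers_iff.mp hy
      rw [((show Commute v x from Subgroup.mem_centralizer_singleton_iff.mp (hle hv)).zpow_right i).eq,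
        mul_inv_cancel_right]
      exact Subgroup.zpow_mem _ (Subgroup.mem_zpowers _) i
    rw [← hmax _ hp le_sup_left (sup_le hle (Subgroup.zpowers_le.mpr hxC))]
    exact Subgroup.mem_sup_right (Subgroup.mem_zpowers x)
  have hCV := H70.klein_centralizer_commute hx S₀ hK hxV hle VS rfl hn
  obtain ⟨P, hVP'⟩ := hVp.exists_le_sylow
  have hP4 : Nat.card (P : Subgroup G) = 4 := H70.klein_sylow_card hx S₀ hV hK hxV hmax P hVP'
  have hPV : (P : Subgroup G) = S₀ :=
    (Subgroup.eq_of_le_of_card_ge hVP' (by rw [hP4, hV])).symm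
  have hVsq : ∀ a ∈ S₀, a * a = 1 := fun a ha =>
    congrArg Subtype.val (IsKleinFour.mul_self (⟨a, ha⟩ : ↥S₀))
  have hCP : Subgroup.centralizer ((P : Subgroup G) : Set G) = Cx := by
    rw [hPV]
    refine le_antisymm (fun c hc => ?_) (fun c hc => ?_)
    · exact Subgroup.mem_centralizer_singleton_iff.mpr (Subgroup.mem_centralizer_iff.mp hc x hxV).symm
    · exact Subgroup.mem_centralizer_iff.mpr fun v hv => (hCV c hc v hv).symm
  -- the order is `4 g₀` and there is no normal 2-complement
  letI := Fintype.ofFinite G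
  obtain ⟨g₀, hG⟩ : 4 ∣ Nat.card G := hV ▸ Subgroup.card_subgroup_dvd_card S₀
  have hg₀ : Odd g₀ := by
    rw [← Nat.not_even_iff_odd, even_iff_two_dvd]
    intro h
    apply P.not_dvd_index
    have hi := (P : Subgroup G).card_mul_index
    rw [hP4, hG] at hi
    rw [Nat.eq_of_mul_eq_mul_left (by norm_num : 0 < 4) hi]
    exact h
  have hGne : Nat.card G ≠ 4 := fun h4 => by
    have htop : S₀ = ⊤ := Subgroup.eq_top_of_card_eq _ (by rw [hV, h4])
    have hcomm : ∀ a b : G, a * b = b * a := fun a b =>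
      congrArg Subtype.val (mul_comm_of_exponent_two IsKleinFour.exponent_two
        (⟨a, htop ▸ Subgroup.mem_top a⟩ : ↥S₀) ⟨b, htop ▸ Subgroup.mem_top b⟩)
    have hN : (Subgroup.zpowers x).Normal := ⟨fun a ha b => by
      rw [hcomm b a, mul_inv_cancel_right]; exact ha⟩
    rcases hN.eq_bot_or_eq_top with h | h
    · rw [Subgroup.zpowers_eq_bot] at h
      rw [h, orderOf_one] at hx; omega
    · have := Nat.card_zpowers x
      rw [h, Subgroup.card_top, h4, hx] at this
      omega
  have hnc : ¬ ∃ N : Subgroup G, N.Normal ∧ Nat.card N = g₀ := by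
    rintro ⟨N, hN, hNc⟩
    rcases hN.eq_bot_or_eq_top with h | h
    · rw [h, Subgroup.card_bot] at hNc
      exact hGne (by rw [hG, ← hNc])
    · rw [h, Subgroup.card_top] at hNc
      have := Nat.card_pos (α := G)
      omega
  -- the principal block
  obtain ⟨M, hM⟩ := H22.exists_isPModular 2 Nat.prime_two
  haveI := hM.2.1.isPrime
  obtain ⟨hexp, hone⟩ := H22.Klein.klein_of_no_complement P hP4 hG hnc
  obtain ⟨ζ₂, ζ₃, ζ₄, ε, hε, d2, d3, d23, d24, d34, hB, hval, ha4, hb4, hc4, -⟩ :=
    H22.Klein.principal_signs hM P hP4 hexp hone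
  obtain ⟨v2, v3, v4⟩ := hval x hx
  have d4 : (ζ₄ : G → ℂ) ≠ fun _ => 1 := fun e => by
    rw [e] at v4; norm_num at v4
  have hxP : x ∈ (P : Subgroup G) := hPV ▸ hxV
  obtain ⟨-, -, -, hF, hrel, hform⟩ := H22.Klein.order_setup (ε₁ := 1) (ε₂ := ε) (ε₃ := -1) hM hg₀
    hG hnc P hxP hx hB ⟨d2, d3, d4, d23, d24, d34⟩ ⟨Or.inl rfl, hε, Or.inr rfl⟩
    ⟨by rw [v2]; simp, v3, by rw [v4]; simp⟩
  rw [hCP] at hform
  set a : ℤ := (charDegree (ζ₂ : G → ℂ) : ℤ) with ha
  set b : ℤ := (charDegree (ζ₃ : G → ℂ) : ℤ) with hb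
  set c : ℤ := (charDegree (ζ₄ : G → ℂ) : ℤ) with hc
  have ha1 : 1 ≤ a := by have := H22.charDegree_pos ζ₂; omega
  have hb1 : 1 ≤ b := by have := H22.charDegree_pos ζ₃; omega
  have hc1 : 1 ≤ c := by have := H22.charDegree_pos ζ₄; omega
  set o := Nat.card ↥Cx with ho
  set n : ℤ := (Cx.index : ℤ) with hn'
  have hno : Nat.card G = o * Cx.index := (Cx.card_mul_index).symm
  have heq : n * (a * b * c + b * c + ε * a * c - a * b) = 8 * a * b * c := by
    have ho0 : (o : ℚ) ≠ 0 := by exact_mod_cast Nat.card_pos.ne'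
    have ha0 : (charDegree (ζ₂ : G → ℂ) : ℚ) ≠ 0 := by exact_mod_cast (H22.charDegree_pos ζ₂).ne'
    have hb0 : (charDegree (ζ₃ : G → ℂ) : ℚ) ≠ 0 := by exact_mod_cast (H22.charDegree_pos ζ₃).ne'
    have hc0 : (charDegree (ζ₄ : G → ℂ) : ℚ) ≠ 0 := by exact_mod_cast (H22.charDegree_pos ζ₄).ne'
    rw [hno] at hform
    push_cast at hform
    field_simp at hform
    have : ((n * (a * b * c + b * c + ε * a * c - a * b) : ℤ) : ℚ) = ((8 * a * b * c : ℤ) : ℚ) := by
      push_cast [ha, hb, hc, hn']
      linear_combination hform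
    exact_mod_cast this
  have hnodd : Odd n := by
    rw [hn', Int.odd_coe_nat, ← Nat.not_even_iff_odd, even_iff_two_dvd]
    intro h
    refine P.not_dvd_index (h.trans (Subgroup.index_dvd_of_le ?_))
    rw [hPV]; exact hle
  rcases hε with rfl | rfl
  · exfalso
    have hab : charDegree (ζ₂ : G → ℂ) = charDegree (ζ₃ : G → ℂ) :=
      H22.Klein.degree_eq_of_signs hM P hP4 hexp hone hxP hx hF
        ⟨fun e => d2 (by rw [e]; rfl), fun e => d3 (by rw [e]; rfl), fun e => d4 (by rw [e]; rfl),
          d23, d24, d34⟩ v2 (by rw [v3]; simp) v4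
    have hba : b = a := by omega
    have hc' : c = 2 * a + 1 := by omega
    rw [hba, hc'] at heq
    obtain ⟨-, hn3⟩ := H70.klein_degree_pos_sign (n := n) ha1 ha4 (by
      refine mul_left_cancel₀ (show a * 2 ≠ 0 by omega) ?_
      linear_combination heq)
    have hCne : Cx ≠ ⊤ := fun e => by
      rw [hn', e, Subgroup.index_top] at hn3; omega
    have h6 := H65.card_le_factorial hCne
    have hidx : Cx.index = 3 := by omega
    rw [hidx, hno, hidx] at h6
    have h4o : 4 ≤ o := hV ▸ Subgroup.card_le_of_le hle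
    have : Nat.factorial 3 = 6 := rfl
    omega
  · have hac : a = b + c - 1 := by omega
    have hb3 : 3 ≤ b := by omega
    have hc3 : 3 ≤ c := by omega
    rw [hac] at heq
    have heq' : n * ((b - 1) * (c - 1) * (b + c)) = 8 * b * c * (b + c - 1) := by
      linear_combination heq
    obtain ⟨hn15, χ, hχ, hχ3, hχv⟩ : n = 15 ∧ ∃ χ : IrrCharacter G, χ ∈ principalBlock M G ∧
        charDegree (χ : G → ℂ) = 3 ∧ ∀ z : G, orderOf z = 2 → (χ : G → ℂ) z = -1 := by
      rcases le_total b c with h | h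
      · obtain ⟨h15, h3⟩ := H70.klein_degree_neg_sign hnodd hb3 (by omega) (by omega) h heq'
        exact ⟨h15, ζ₃, by rw [hB]; exact Or.inr (Or.inr (Or.inl rfl)), by omega,
          fun z hz => by rw [(hval z hz).2.1]; simp⟩
      · obtain ⟨h15, h3⟩ := H70.klein_degree_neg_sign (x := c) (y := b) hnodd hc3 (by omega)
          (by omega) h (by linear_combination heq')
        exact ⟨h15, ζ₄, by rw [hB]; exact Or.inr (Or.inr (Or.inr rfl)), by omega,
          fun z hz => (hval z hz).2.2⟩
    -- the odd part of the centralizer lies in the kernel of a character of degree three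
    obtain ⟨d, ρ, hρi, hρ⟩ := χ.2
    have hd : d = 3 := by
      have h1 : (χ : G → ℂ) 1 = (d : ℂ) := by rw [← hρ]; simp
      have h2 := H22.irr_one_eq_charDegree χ
      rw [h1, hχ3] at h2
      exact_mod_cast h2
    have hodd1 : ∀ u ∈ Cx, ¬ 2 ∣ orderOf u → u = 1 := by
      intro u hu huodd
      haveI := Fintype.ofFinite ↥S₀
      set E : Module.End ℂ (Fin d → ℂ) := ∑ v : ↥S₀, ρ (v : G) with hE
      have htrace : ∀ w : G, LinearMap.trace ℂ _ (E * ρ w) = ∑ v : ↥S₀, (χ : G → ℂ) ((v : G) * w) := by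
        intro w
        rw [hE, Finset.sum_mul, map_sum]
        refine Finset.sum_congr rfl fun v _ => ?_
        rw [← map_mul, ← hρ]
        rfl
      have hsum : ∀ w ∈ Cx, ¬ 2 ∣ orderOf w →
          ∑ v : ↥S₀, (χ : G → ℂ) ((v : G) * w) = (χ : G → ℂ) w - 3 := by
        intro w hw hwo
        rw [← Finset.add_sum_erase _ _ (Finset.mem_univ (1 : ↥S₀)),
          Finset.sum_congr rfl (g := fun _ => (-1 : ℂ)) fun v hv => ?_, Finset.sum_const,
          Finset.card_erase_of_mem (Finset.mem_univ _), Finset.card_univ, ← Nat.card_eq_fintype_card,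
          hV, Subgroup.coe_one, one_mul]
        · simp [sub_eq_add_neg]
        · have hv1 : (v : G) ≠ 1 := fun e => (Finset.mem_erase.mp hv).1 (Subtype.ext e)
          have hv2 : orderOf (v : G) = 2 :=
            orderOf_eq_prime (by rw [pow_two]; exact hVsq v v.2) hv1
          rw [H70.klein_section_value hM P hP4 hexp (hPV ▸ v.2) hv2 (hCV w hw v v.2) hwo hχ,
            hχv _ hv2]
      have hE0 : E = 0 := by
        have hEE : E * E = (4 : ℂ) • E := by
          calc E * E = ∑ v : ↥S₀, ρ (v : G) * E := by rw [hE, Finset.sum_mul]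
            _ = ∑ _v : ↥S₀, E := Finset.sum_congr rfl fun v _ => by
              rw [hE, Finset.mul_sum]
              exact Fintype.sum_equiv (Equiv.mulLeft v) _ _ fun w => by
                simp only [Equiv.coe_mulLeft, Subgroup.coe_mul, map_mul]
            _ = (4 : ℂ) • E := by
              rw [Finset.sum_const, Finset.card_univ, ← Nat.card_eq_fintype_card, hV,
                ← Nat.cast_smul_eq_nsmul ℂ]
              norm_num
        set f := (4 : ℂ)⁻¹ • E with hf
        have hff : IsIdempotentElem f := by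
          show f * f = f
          rw [hf, smul_mul_smul_comm, hEE, smul_smul]
          norm_num
        have htrE : LinearMap.trace ℂ _ E = 0 := by
          have h1 := htrace 1
          rw [map_one, mul_one, hsum 1 (one_mem _) (by simp)] at h1
          rw [h1, H22.irr_one_eq_charDegree, hχ3]
          norm_num
        have h2 : LinearMap.trace ℂ _ f = (Module.finrank ℂ (LinearMap.range f) : ℂ) :=
          ((LinearMap.isProj_range_iff_isIdempotentElem f).mpr hff).trace
        rw [hf, map_smul, htrE, smul_zero, ← hf] at h2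
        have h3 : Module.finrank ℂ (LinearMap.range f) = 0 := by exact_mod_cast h2.symm
        have h4 : f = 0 := LinearMap.range_eq_bot.mp (Submodule.finrank_eq_zero.mp h3)
        rwa [hf, smul_eq_zero, or_iff_right (by norm_num)] at h4
      have h1 := htrace u
      rw [hE0, zero_mul, map_zero, hsum u hu huodd] at h1
      have hu3 : ρ.character u = (Module.finrank ℂ (Fin d → ℂ) : ℂ) := by
        rw [hρ, sub_eq_zero.mp h1.symm]
        simp [hd]
      have hker : u ∈ ρ.ker := (H12.character_eq_finrank_iff ρ u).mp hu3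
      rcases (MonoidHom.normal_ker ρ).eq_bot_or_eq_top with h | h
      · exact Subgroup.mem_bot.mp (h ▸ hker)
      · exfalso
        have hx1 : ρ x = 1 := (h ▸ Subgroup.mem_top x : x ∈ ρ.ker)
        have h2 : (χ : G → ℂ) x = (χ : G → ℂ) 1 := by
          rw [← hρ]
          show LinearMap.trace ℂ _ (ρ x) = LinearMap.trace ℂ _ (ρ 1)
          rw [hx1, map_one ρ]
        rw [hχv x hx, H22.irr_one_eq_charDegree, hχ3] at h2
        norm_num at h2
    have ho4 : o = 4 := by
      have hp : IsPGroup 2 ↥Cx := by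
        intro u
        obtain ⟨e, m, hm, hord⟩ := Nat.exists_eq_two_pow_mul_odd (orderOf_pos (u : G)).ne'
        refine ⟨e, Subtype.ext ?_⟩
        rw [Subgroup.coe_pow, Subgroup.coe_one]
        refine hodd1 _ (pow_mem u.2 _) ?_
        rw [orderOf_pow' _ (pow_ne_zero _ two_ne_zero), hord, Nat.gcd_mul_right_left,
          Nat.mul_div_cancel_left _ (Nat.two_pow_pos e)]
        obtain ⟨r, rfl⟩ := hm
        omega
      rw [ho, hmax Cx hp hle le_rfl, hV]
    exact H59.simple60_iso (by rw [hno, ho4]; omega)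

end Cfsg.Agent.S3278
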