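import Cfsg.Statements.S4689
import Cfsg.Agent.H19.NilpotentMain

set_option linter.style.haveILetI false
-- import your own Cfsg.Agent.* helpers here

set_option autoImplicit false
open Cfsg

namespace Cfsg.Agent.S4689

/-- Fix a prime p and a maximal ideal M of the algebraic integers containing p, and a nilpotent p-block B of the finite group G. Then B has p-regular rank one (a single irreducible Brauer character), and some χ₀ ∈ B restricts to that Brauer character: every χ ∈ B agrees on the p-regular elements with a natural-number multiple of χ₀. -/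
theorem result {G : Type*} [Group G] [Fintype G] (p : ℕ) [Fact p.Prime] (M : Ideal Cfsg.AlgInt) (hM : Cfsg.IsPModular p M) (B : Set (Cfsg.IrrCharacter G)) (hnil : Cfsg.IsNilpotentBlock p M B) : Cfsg.blockRank p B = 1 ∧ ∃ χ₀ ∈ B, ∀ χ ∈ B, ∃ d : ℕ, ∀ x : G, Cfsg.pRegularPart p (χ : G → ℂ) x = (d : ℂ) * Cfsg.pRegularPart p (χ₀ : G → ℂ) x := by
  classical
  haveI : M.IsPrime := hM.2.1.isPrime
  haveI := H20.k_charP hM
  haveI := H23.isAlgClosed_k (M := M) hM.2.1
  obtain ⟨P, hP⟩ := H20.exists_defectGroup hM hnil.1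
  obtain ⟨χ, hχ, -, Ψ, -, hmem, hsurj, hreg⟩ := H19.NilpotentMain.exists_param hM hnil hP
  refine ⟨?_, χ, hχ, fun ψ hψ => ?_⟩
  · refine le_antisymm ?_ (H19.CentralRank.one_le_blockRank (H20.block_nonempty hnil.1))
    refine (Submodule.finrank_mono (t := Submodule.span ℂ
      ({Cfsg.pRegularPart p (χ : G → ℂ)} : Set (G → ℂ))) ?_).trans
      ((finrank_span_le_card _).trans (by simp))
    rw [Submodule.span_le]
    rintro _ ⟨ψ, hψ, rfl⟩
    obtain ⟨η, rfl⟩ := hsurj ψ hψ
    obtain ⟨d, -, -, -, hd⟩ := hreg η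
    rw [SetLike.mem_coe, Submodule.mem_span_singleton]
    exact ⟨(d : ℂ), funext fun g => (hd g).symm⟩
  · obtain ⟨η, rfl⟩ := hsurj ψ hψ
    obtain ⟨d, -, -, -, hd⟩ := hreg η
    exact ⟨d, hd⟩


end Cfsg.Agent.S4689
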