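import Cfsg.Statements.S4503
import Cfsg.Agent.H85.D1.SmallDegree

set_option autoImplicit false
open Cfsg

namespace Cfsg.Agent.S4503

/-- Let G be a finite group whose order is divisible by the prime p exactly once and which has no normal subgroup of order p. Then every faithful character χ of G has degree at least (p − 1)/2: 2·χ(1) + 1 ≥ p. -/
theorem result {G : Type*} [Group G] [Finite G] (p : ℕ) (hp : p.Prime) (hdiv : p ∣ Nat.card G) (hsq : ¬ p ^ 2 ∣ Nat.card G) (hnn : ∀ H : Subgroup G, H.Normal → Nat.card H ≠ p) (χ : G → ℂ) (hχ : Cfsg.IsCharacter G χ) (hfaith : ∀ g : G, χ g = χ 1 → g = 1) : p ≤ 2 * Cfsg.charDegree χ + 1 := by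
  classical
  haveI : Fintype G := Fintype.ofFinite G
  haveI : Fact p.Prime := ⟨hp⟩
  by_contra hlt
  rw [not_le, H20.charDegree_eq_degree] at hlt
  obtain ⟨P⟩ : Nonempty (Sylow p G) := inferInstance
  have hfac : (Nat.card G).factorization p = 1 := by
    have h1 := Nat.Prime.factorization_pos_of_dvd hp Nat.card_pos.ne' hdiv
    have h2 : ¬ 2 ≤ (Nat.card G).factorization p := fun h =>
      hsq ((hp.pow_dvd_iff_le_factorization Nat.card_pos.ne').2 h)
    omega
  have hP : Nat.card P = p := by rw [P.card_eq_multiplicity, hfac, pow_one]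
  set L := Subgroup.closure {g : G | g ^ p = 1} with hL
  have hmemL : ∀ g : G, g ^ p = 1 → g ∈ L := fun g hg => Subgroup.subset_closure hg
  have hpowP : ∀ x ∈ (P : Subgroup G), x ^ p = 1 := fun x hx => by
    have h := pow_card_eq_one' (G := (P : Subgroup G)) (x := ⟨x, hx⟩)
    rw [hP] at h
    exact congrArg Subtype.val h
  have hPL : (P : Subgroup G) ≤ L := fun x hx => hmemL x (hpowP x hx)
  set P' := P.subtype hPL with hP'
  have hP'c : Nat.card P' = p := by
    exact (Nat.card_congr (Subgroup.subgroupOfEquivOfLe hPL).toEquiv).trans hP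
  obtain ⟨u, a, H, D⟩ := H85.D1.exists_setting hP'c
  haveI : Fintype H := Fintype.ofFinite _
  obtain ⟨M, hM⟩ := H22.exists_isPModular p hp
  haveI : M.IsPrime := hM.2.1.isPrime
  have hgen : Subgroup.closure {g : L | g ^ p = 1} = ⊤ := by
    refine Eq.trans (congrArg _ ?_) (Subgroup.closure_closure_coe_preimage (k := {g : G | g ^ p = 1}))
    ext g
    simp only [Set.mem_setOf_eq, Set.mem_preimage, ← SubmonoidClass.coe_pow]
    exact ⟨fun h => by rw [h]; rfl, fun h => Subtype.ext h⟩
  obtain ⟨m, hm⟩ := H12.IsCharacter.exists_mult (H12.IsCharacter.res hχ L)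
  have hmy : ∀ y : L, χ y = ∑ ψ : IrrCharacter L, (m ψ : ℂ) * (ψ : L → ℂ) y := fun y => by
    have := congrFun hm y
    simpa using this
  have hdeg : H12.degree χ = ∑ ψ : IrrCharacter L, m ψ * H12.degree (ψ : L → ℂ) := by
    have h := hmy 1
    rw [OneMemClass.coe_one, H12.IsCharacter.apply_one_eq_degree hχ] at h
    simp only [H12.irr_apply_one] at h
    exact_mod_cast h
  -- elements of `P` are central in `L`
  have hcent : ∀ x ∈ (P : Subgroup G), ∀ g ∈ L, x * g = g * x := by
    intro x hx g hg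
    let x' : L := ⟨x, hPL hx⟩
    let g' : L := ⟨g, hg⟩
    have key : ∀ ψ : IrrCharacter L, m ψ ≠ 0 →
        (ψ : L → ℂ) (x' * g' * (g' * x')⁻¹) = (ψ : L → ℂ) 1 := by
      intro ψ hψ
      have hle : H12.degree (ψ : L → ℂ) ≤ H12.degree χ := by
        rw [hdeg]
        exact (Nat.le_mul_of_pos_left _ (Nat.pos_of_ne_zero hψ)).trans
          (Finset.single_le_sum (f := fun ψ : IrrCharacter L => m ψ * H12.degree (ψ : L → ℂ))
            (fun i _ => Nat.zero_le _) (Finset.mem_univ ψ))
      have hnorm := D.norm_eq_of_small hM hgen ψ (by omega) (x := x') hx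
      obtain ⟨n, ρ, hρ, he⟩ := ψ.2
      rw [← he] at hnorm ⊢
      rw [H12.degree_character] at hnorm
      obtain ⟨ω, hω⟩ := H12.exists_scalar_of_norm_eq ρ x' hnorm
      have h1 : ρ (x' * g') = ρ (g' * x') := by
        rw [map_mul, map_mul, hω]
        ext v
        simp
      show LinearMap.trace ℂ _ (ρ (x' * g' * (g' * x')⁻¹)) = LinearMap.trace ℂ _ (ρ 1)
      rw [map_mul, h1, ← map_mul, mul_inv_cancel]
    have h1 : χ ((x' * g' * (g' * x')⁻¹ : L) : G) = χ 1 := by
      rw [show χ 1 = χ ((1 : L) : G) from rfl, hmy, hmy]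
      refine Finset.sum_congr rfl fun ψ _ => ?_
      rcases Nat.eq_zero_or_pos (m ψ) with h | h
      · rw [h]; simp
      · rw [key ψ h.ne']
    have h2 := hfaith _ h1
    push_cast at h2
    exact mul_inv_eq_one.1 h2
  refine hnn (P : Subgroup G) ⟨fun x hx g => ?_⟩ hP
  set y := g * x * g⁻¹ with hy
  have hyp : y ^ p = 1 := by rw [hy, conj_pow, hpowP x hx, mul_one, mul_inv_cancel]
  have hyN : y ∈ Subgroup.normalizer ((P : Subgroup G) : Set G) :=
    Subgroup.centralizer_le_normalizer _ fun w hw => hcent w hw y (hmemL y hyp)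
  obtain ⟨k, -, hk⟩ := (Nat.dvd_prime_pow hp).1
    ((pow_one p).symm ▸ orderOf_dvd_of_pow_eq_one hyp : orderOf y ∣ p ^ 1)
  have h2 : IsPGroup p (Subgroup.zpowers y) :=
    IsPGroup.of_card (n := k) (by rw [Nat.card_zpowers, hk])
  exact ((SetLike.ext_iff.1 (h2.inf_normalizer_sylow P) _).1
    (Subgroup.mem_inf.2 ⟨Subgroup.mem_zpowers _, hyN⟩)).2

end Cfsg.Agent.S4503
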