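import Cfsg.Statements.S0806
import Cfsg.Agent.H39.FieldOrders

set_option autoImplicit false
open Cfsg

namespace Cfsg.Agent.S0806

/-- Minimal index (Galois): if q ∉ {2, 3, 5, 7, 9, 11} then every proper subgroup of PSL_2(q) has index ≥ q + 1, and some subgroup has index exactly q + 1. -/
theorem result {F : Type*} [Field F] [Fintype F] {q : ℕ} (hF : Fintype.card F = q) (hq : q ∉ ({2, 3, 5, 7, 9, 11} : Finset ℕ)) : (∀ H : Subgroup (Matrix.ProjectiveSpecialLinearGroup (Fin 2) F), H ≠ ⊤ → q + 1 ≤ H.index) ∧ ∃ H : Subgroup (Matrix.ProjectiveSpecialLinearGroup (Fin 2) F), H.index = q + 1 := by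
  obtain ⟨p, hp⟩ := CharP.exists F
  haveI : Fact p.Prime := ⟨CharP.char_is_prime F p⟩
  subst hF
  have hh : 0 < Fintype.card F * ((Fintype.card F - 1) / Nat.gcd 2 (Fintype.card F - 1)) :=
    H39.card_borelP (F := F) ▸ Nat.card_pos
  have key : ∀ H : Subgroup (Matrix.ProjectiveSpecialLinearGroup (Fin 2) F),
      Nat.card H * H.index =
        Fintype.card F * ((Fintype.card F - 1) / Nat.gcd 2 (Fintype.card F - 1)) * (Fintype.card F + 1) :=
    fun H => H.card_mul_index.trans H39.card_G2_eq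
  constructor
  · intro H hH
    refine Nat.le_of_mul_le_mul_left ?_ hh
    rw [← key H]
    exact Nat.mul_le_mul_right _ (H39.card_le_borel p hq hH)
  · refine ⟨H39.borelP, Nat.eq_of_mul_eq_mul_left hh ?_⟩
    rw [← key H39.borelP, H39.card_borelP]

end Cfsg.Agent.S0806
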