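import Cfsg.Statements.S2325
import Cfsg.Agent.H40.SL2Split

set_option autoImplicit false
open Cfsg

namespace Cfsg.Agent.S2325

/-- Over a finite field with q elements, q odd, the special linear group SL₂ has exactly q + 4 conjugacy classes. -/
theorem result {F : Type*} [Field F] [Fintype F] (hodd : Odd (Fintype.card F)) :
    Nat.card (ConjClasses (Matrix.SpecialLinearGroup (Fin 2) F)) = Fintype.card F + 4 := by
  classical
  have hchar : ringChar F ≠ 2 := by
    intro h
    have := (FiniteField.even_card_iff_char_two (F := F)).1 h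
    exact Nat.not_even_iff_odd.2 hodd (Nat.even_iff.2 this)
  have h2 : (2 : F) ≠ 0 := Ring.two_ne_zero hchar
  obtain ⟨e, he⟩ := FiniteField.exists_nonsquare hchar
  have he0 : e ≠ 0 := by rintro rfl; exact he (IsSquare.zero)
  obtain ⟨ε, rfl⟩ : ∃ ε : Fˣ, (ε : F) = e := ⟨Units.mk0 e he0, rfl⟩
  let S : {a : F // a ^ 2 = 1} → Matrix.SpecialLinearGroup (Fin 2) F := fun a =>
    ⟨a.1 • (1 : Matrix (Fin 2) (Fin 2) F), by simp [Matrix.det_fin_two, ← sq, a.2]⟩
  have hS : ∀ a, H40.IsScalar2 (S a : Matrix (Fin 2) (Fin 2) F) := fun a => by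
    simp [S, H40.IsScalar2]
  let f : {a : F // a ^ 2 = 1} ⊕ (F ⊕ {t : F // t ^ 2 = 4}) →
      ConjClasses (Matrix.SpecialLinearGroup (Fin 2) F) :=
    Sum.elim (fun a => ConjClasses.mk (S a))
      (Sum.elim (fun t => ConjClasses.mk (H40.compSL t)) (fun t => ConjClasses.mk (H40.twist2 ε t.1)))
  have hf : Function.Bijective f := by
    constructor
    · rintro (a | x | x) (b | y | y) h <;> simp only [f, Sum.elim_inl, Sum.elim_inr] at h <;>
        rw [ConjClasses.mk_eq_mk_iff_isConj] at h
      · obtain ⟨c, hc⟩ := isConj_iff.1 h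
        have h' : c * S a = S a * c := by
          apply Subtype.ext
          show (c : Matrix (Fin 2) (Fin 2) F) * (a.1 • 1) = (a.1 • 1) * (c : Matrix (Fin 2) (Fin 2) F)
          simp
        rw [h', mul_inv_cancel_right] at hc
        have := congrArg (fun z : Matrix.SpecialLinearGroup (Fin 2) F =>
          (z : Matrix (Fin 2) (Fin 2) F) 0 0) hc
        simp [S] at this
        exact congrArg _ (Subtype.ext this)
      · exact absurd (hS a) (H40.not_isScalar2_of_isConj_SL2 h.symm (H40.ns_compSL y))
      · exact absurd (hS a) (H40.not_isScalar2_of_isConj_SL2 h.symm (H40.ns_twist2 ε y.1))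
      · exact absurd (hS b) (H40.not_isScalar2_of_isConj_SL2 h (H40.ns_compSL x))
      · have := H40.trace_eq_of_isConj_SL2 h
        rw [H40.trace_compSL, H40.trace_compSL] at this
        rw [this]
      · have := H40.trace_eq_of_isConj_SL2 h
        rw [H40.trace_compSL, H40.trace_twist2] at this
        rw [this] at h
        exact absurd h (H40.not_isConj_comp_twist h2 he y.2)
      · exact absurd (hS b) (H40.not_isScalar2_of_isConj_SL2 h (H40.ns_twist2 ε x.1))
      · have := H40.trace_eq_of_isConj_SL2 h.symm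
        rw [H40.trace_compSL, H40.trace_twist2] at this
        rw [this] at h
        exact absurd h.symm (H40.not_isConj_comp_twist h2 he x.2)
      · have := H40.trace_eq_of_isConj_SL2 h
        rw [H40.trace_twist2, H40.trace_twist2] at this
        exact congrArg (Sum.inr ∘ Sum.inr) (Subtype.ext this)
    · intro c
      induction c using Quotient.inductionOn with
      | h g =>
        by_cases hg : H40.IsScalar2 (g : Matrix (Fin 2) (Fin 2) F)
        · obtain ⟨h01, h10, h00⟩ := hg
          have hd := g.2
          rw [Matrix.det_fin_two, h01, ← h00] at hd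
          refine ⟨Sum.inl ⟨(g : Matrix (Fin 2) (Fin 2) F) 0 0, by linear_combination hd⟩,
            congrArg ConjClasses.mk (Subtype.ext ?_)⟩
          ext i j
          fin_cases i <;> fin_cases j <;> simp [S, h01, h10, ← h00]
        · by_cases hD : (g : Matrix (Fin 2) (Fin 2) F).trace ^ 2 = 4
          · rcases H40.isConj_comp_or_twist h2 he hg rfl hD with h | h
            · exact ⟨Sum.inr (Sum.inl _), ConjClasses.mk_eq_mk_iff_isConj.2 h.symm⟩
            · exact ⟨Sum.inr (Sum.inr ⟨_, hD⟩), ConjClasses.mk_eq_mk_iff_isConj.2 h.symm⟩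
          · exact ⟨Sum.inr (Sum.inl (g : Matrix (Fin 2) (Fin 2) F).trace),
              ConjClasses.mk_eq_mk_iff_isConj.2 (H40.isConj_SL2_of_trace hg (H40.ns_compSL _)
                (by rw [H40.trace_compSL]) (Or.inl hD)).symm⟩
  have hsq : ∀ r : F, r ≠ 0 → Nat.card {a : F // a ^ 2 = r ^ 2} = 2 := by
    intro r hr
    rw [Nat.card_eq_fintype_card]
    have : Fintype.card {a : F // a ^ 2 = r ^ 2} = ({r, -r} : Finset F).card := by
      rw [Fintype.card_subtype]
      congr 1
      ext a
      simp [sq_eq_sq_iff_eq_or_eq_neg]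
    rw [this, Finset.card_pair]
    intro h
    exact mul_ne_zero h2 hr (by linear_combination h)
  rw [← Nat.card_congr (Equiv.ofBijective f hf), Nat.card_sum, Nat.card_sum,
    Nat.card_eq_fintype_card (α := F)]
  have e1 := hsq 1 one_ne_zero
  have e2 := hsq 2 h2
  rw [one_pow] at e1
  rw [show (2 : F) ^ 2 = 4 by norm_num] at e2
  rw [e1, e2]
  omega

end Cfsg.Agent.S2325
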