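import Cfsg.Statements.S0850
import Cfsg.Agent.H14.Basic

set_option autoImplicit false
open Cfsg

namespace Cfsg.Agent.S0850

/-- Let K be a subgroup of the finite group G that meets each conjugate by an element outside its normalizer N trivially, is properly contained in N, and contains the centralizer of each of its non-identity elements (a T.I. subgroup with Frobenius normalizer). Then no element of N outside K is conjugate in G to an element of K, and for every class function ϑ of N that vanishes on N away from K and at the identity, the function induced from ϑ to G agrees with ϑ on all of N. -/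
theorem result {G : Type*} [Group G] [Fintype G] (K : Subgroup G) (hTI : ∀ g : G, g ∉ Subgroup.normalizer (K : Set G) → ∀ k ∈ K, g * k * g⁻¹ ∈ K → k = 1) (hlt : K < Subgroup.normalizer (K : Set G)) (hC : ∀ k ∈ K, k ≠ 1 → Subgroup.centralizer ({k} : Set G) ≤ K) : (∀ x ∈ Subgroup.normalizer (K : Set G), x ∉ K → ∀ g : G, g * x * g⁻¹ ∉ K) ∧ ∀ (ϑ : Subgroup.normalizer (K : Set G) → ℂ), Cfsg.IsClassFunction (Subgroup.normalizer (K : Set G)) ϑ → (∀ x : Subgroup.normalizer (K : Set G), (x : G) ∉ K → ϑ x = 0) → ϑ 1 = 0 → ∀ x : Subgroup.normalizer (K : Set G), Cfsg.indFun (Subgroup.normalizer (K : Set G)) ϑ x = ϑ x := by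
  classical
  set N := Subgroup.normalizer (K : Set G) with hNdef
  have hKN : ∀ k ∈ K, k ∈ N := fun k hk => hlt.le hk
  have hnconj : ∀ x ∈ N, x ∉ K → ∀ g : G, g * x * g⁻¹ ∉ K := by
    intro x hxN hxK g hgx
    have hx1 : x ≠ 1 := by rintro rfl; exact hxK K.one_mem
    letI : Fintype K := Fintype.ofFinite _
    let act : MulAction (Subgroup.zpowers x) {k : K // k ≠ 1} :=
      { smul := fun z k => ⟨⟨(z : G) * (k.1 : G) * (z : G)⁻¹,
          (Subgroup.mem_normalizer_iff.mp (Subgroup.zpowers_le.mpr hxN z.2) _).mp k.1.2⟩, by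
            intro h
            have h' := congrArg (fun a : K => (a : G)) h
            simp only [OneMemClass.coe_one] at h'
            exact k.2 (Subtype.ext (by simpa using h'))⟩
        one_smul := fun k => Subtype.ext (Subtype.ext (by
          change ((1 : Subgroup.zpowers x) : G) * (k.1 : G) * ((1 : Subgroup.zpowers x) : G)⁻¹ = (k.1 : G)
          simp))
        mul_smul := fun z w k => Subtype.ext (Subtype.ext (by
          change ((z * w : Subgroup.zpowers x) : G) * (k.1 : G) * ((z * w : Subgroup.zpowers x) : G)⁻¹ =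
            (z : G) * ((w : G) * (k.1 : G) * (w : G)⁻¹) * (z : G)⁻¹
          simp [mul_assoc])) }
    letI := act
    have hfree : ∀ k : {k : K // k ≠ 1}, MulAction.stabilizer (Subgroup.zpowers x) k = ⊥ := by
      intro k
      rw [eq_bot_iff]
      intro z hz
      have h := congrArg (fun a : {k : K // k ≠ 1} => ((a.1 : K) : G)) hz
      change (z : G) * (k.1 : G) * (z : G)⁻¹ = (k.1 : G) at h
      have hzK : (z : G) ∈ K := hC _ k.1.2 (fun h => k.2 (Subtype.ext h))
        (Subgroup.mem_centralizer_singleton_iff.mpr (mul_inv_eq_iff_eq_mul.mp h))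
      rw [Subgroup.mem_bot]
      by_contra hz1
      have hz1' : (z : G) ≠ 1 := fun h => hz1 (Subtype.ext h)
      obtain ⟨i, hi⟩ := z.2
      refine hxK (hC _ hzK hz1' (Subgroup.mem_centralizer_singleton_iff.mpr ?_))
      rw [← hi]
      exact (Commute.self_zpow x i).eq
    have hdvd : Nat.card (Subgroup.zpowers x) ∣ Nat.card {k : K // k ≠ 1} := by
      rw [Nat.card_congr (MulAction.selfEquivSigmaOrbitsQuotientStabilizer (Subgroup.zpowers x) {k : K // k ≠ 1}),
        Nat.card_sigma]
      refine Finset.dvd_sum fun w _ => ?_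
      rw [hfree]
      exact dvd_of_eq (Nat.card_congr (QuotientGroup.quotientBot).toEquiv).symm
    rw [Nat.card_zpowers] at hdvd
    have h1 : orderOf x ∣ Nat.card K := by
      rw [← (MulAut.conj g).orderOf_eq x]
      exact Subgroup.orderOf_dvd_natCard K hgx
    have h2 : Nat.card {k : K // k ≠ 1} + 1 = Nat.card K := by
      rw [← Nat.card_congr (Equiv.optionSubtypeNe (1 : K)), Finite.card_option]
    rw [← h2, Nat.dvd_add_right hdvd, Nat.dvd_one] at h1
    exact hx1 (orderOf_eq_one_iff.mp h1)
  refine ⟨hnconj, ?_⟩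
  intro ϑ hϑ hϑ0 hϑ1 x
  by_cases hx1 : x = 1
  · subst hx1
    simp [Cfsg.indFun, H14.extendByZero_of_mem _ _ N.one_mem, hϑ1,
      show (⟨1, N.one_mem⟩ : N) = 1 from rfl]
  by_cases hxK : (x : G) ∈ K
  · have hval : ∀ g : G, Cfsg.extendByZero N ϑ (g⁻¹ * (x : G) * g) = if g ∈ N then ϑ x else 0 := by
      intro g
      split_ifs with hg
      · rw [H14.extendByZero_of_mem _ _ (N.mul_mem (N.mul_mem (N.inv_mem hg) x.2) hg)]
        have := hϑ x (⟨g, hg⟩⁻¹)
        rw [inv_inv] at this
        exact this
      · by_cases hm : g⁻¹ * (x : G) * g ∈ N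
        · rw [H14.extendByZero_of_mem _ _ hm]
          refine hϑ0 _ fun hK => hx1 (Subtype.ext ?_)
          refine hTI g⁻¹ (fun h => hg (by simpa using N.inv_mem h)) _ hxK ?_
          simpa using hK
        · exact H14.extendByZero_of_not_mem _ _ hm
    simp only [Cfsg.indFun, hval, ← Finset.sum_filter, Finset.sum_const, nsmul_eq_mul]
    rw [← Fintype.card_subtype, ← Nat.card_eq_fintype_card]
    exact inv_mul_cancel_left₀ H14.natCard_cast_ne_zero _
  · rw [hϑ0 x hxK]
    unfold Cfsg.indFun
    rw [Finset.sum_eq_zero, mul_zero]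
    intro g _
    by_cases hm : g⁻¹ * (x : G) * g ∈ N
    · rw [H14.extendByZero_of_mem _ _ hm]
      exact hϑ0 _ (by simpa using hnconj x x.2 hxK g⁻¹)
    · exact H14.extendByZero_of_not_mem _ _ hm

end Cfsg.Agent.S0850
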