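import Cfsg.Statements.S2600
import Cfsg.Agent.H49.Sp4Aut

set_option autoImplicit false
open Cfsg

namespace Cfsg.Agent.S2600

/-- Outer automorphism group of PSp_4(q) for q = 2^f even: it is cyclic of order 2f, generated by the class of the exceptional (graph-field) automorphism whose square is the Frobenius field automorphism. -/
theorem result {F : Type*} [Field F] [Fintype F] {f : ℕ} (hf : 1 ≤ f) (hF : Fintype.card F = 2 ^ f) : IsCyclic (Cfsg.Out (Cfsg.PSp 2 F)) ∧ Nat.card (Cfsg.Out (Cfsg.PSp 2 F)) = 2 * f := by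
  classical
  haveI : Fact (Nat.Prime 2) := ⟨Nat.prime_two⟩
  have h20 : (2 : F) = 0 := by
    have h := FiniteField.cast_card_eq_zero F
    rw [hF] at h
    push_cast at h
    exact eq_zero_of_pow_eq_zero h
  have hrc : ringChar F = 2 := CharP.ringChar_of_prime_eq_zero Nat.prime_two (by exact_mod_cast h20)
  haveI : CharP F 2 := hrc ▸ ringChar.charP F
  letI : Algebra (ZMod 2) F := ZMod.algebra F 2
  have hfr : Module.finrank (ZMod 2) F = f := by
    have h1 : Fintype.card F = Fintype.card (ZMod 2) ^ Module.finrank (ZMod 2) F := Module.card_eq_pow_finrank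
    rw [hF, ZMod.card] at h1
    exact (Nat.pow_right_injective le_rfl h1).symm
  let G := FiniteField.frobeniusAlgEquivOfAlgebraic (ZMod 2) F
  have hG : (G : F ≃+* F) = H49.Sp4.frobF := RingEquiv.ext fun x => by
    show (x ^ Fintype.card (ZMod 2)) = _
    rw [ZMod.card]
    rfl
  have hGk : ∀ k : ℕ, ((G ^ k : F ≃ₐ[ZMod 2] F) : F ≃+* F) = H49.Sp4.frobF ^ k := fun k => by
    induction k with
    | zero => rfl
    | succ k ih => rw [pow_succ, pow_succ, ← ih, ← hG]; rfl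
  have hGord : orderOf G = f := by
    rw [FiniteField.orderOf_frobeniusAlgEquivOfAlgebraic, hfr]
  have hfrob : ∀ σ : F ≃+* F, ∃ k : ℕ, σ = H49.Sp4.frobF ^ k := by
    intro σ
    let σ' : F ≃ₐ[ZMod 2] F := AlgEquiv.ofRingEquiv (f := σ) fun x => by
      exact RingHom.congr_fun (Subsingleton.elim (σ.toRingHom.comp (algebraMap (ZMod 2) F)) (algebraMap (ZMod 2) F)) x
    obtain ⟨n, hn⟩ := (FiniteField.bijective_frobeniusAlgEquivOfAlgebraic_pow (ZMod 2) F).2 σ'
    exact ⟨n, by rw [← hGk, show G ^ (n : ℕ) = σ' from hn]; rfl⟩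
  have hord : ∀ k : ℕ, (H49.Sp4.frobF : F ≃+* F) ^ k = 1 ↔ f ∣ k := fun k => by
    rw [← hGord, orderOf_dvd_iff_pow_eq_one, ← hGk]
    exact ⟨fun h => AlgEquiv.ext fun x => RingEquiv.congr_fun h x, fun h => by rw [h]; rfl⟩
  let mk := QuotientGroup.mk' (Cfsg.Inn (Cfsg.PSp 2 F))
  set x : Cfsg.Out (Cfsg.PSp 2 F) := mk H49.Sp4.tauPs with hx
  have hconj : ∀ g : Cfsg.GSp 2 F, mk (H55.Psp.conjPs g) = 1 := fun g =>
    (QuotientGroup.eq_one_iff _).2 (H55.Psp.range_le_Inn_char_two (by omega) hrc ⟨g, rfl⟩)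
  have heven : ∀ k : ℕ, x ^ (2 * k) = mk (H55.Psp.fieldPs (H49.Sp4.frobF ^ k)) := fun k => by
    rw [hx, ← map_pow, pow_mul, sq, H49.Sp4.tauPs_sq, ← map_pow]
  have hgen : ∀ y : Cfsg.Out (Cfsg.PSp 2 F), ∃ n : ℕ, y = x ^ n := by
    intro y
    obtain ⟨α, rfl⟩ := QuotientGroup.mk'_surjective _ y
    obtain ⟨e, g, σ, rfl⟩ := H49.Sp4.exists_decomp α
    obtain ⟨k, rfl⟩ := hfrob σ
    refine ⟨e + 2 * k, ?_⟩
    show mk _ = _
    rw [map_mul, map_mul, hconj, one_mul, pow_add, heven, map_pow]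
  have hkeep : ∀ α ∈ Cfsg.Inn (Cfsg.PSp 2 F), H55.Psp.KeepsTv α := by
    intro α hα
    obtain ⟨g, rfl⟩ := H55.Psp.Inn_le hα
    simpa using H49.Sp4.keepsTv_induced g 1
  have hone : ∀ n : ℕ, x ^ n = 1 ↔ 2 * f ∣ n := by
    intro n
    constructor
    · intro h
      rcases Nat.even_or_odd' n with ⟨k, rfl | rfl⟩
      · rw [heven, QuotientGroup.mk'_apply, QuotientGroup.eq_one_iff] at h
        obtain ⟨g, hg⟩ := H55.Psp.Inn_le h
        exact Nat.mul_dvd_mul_left 2 ((hord k).1 (H55.Psp.conjPs_eq_fieldPs (by omega) hg).1)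
      · exfalso
        apply H49.Sp4.not_keepsTv_tauPs (F := F)
        rw [pow_succ, heven, hx, ← map_mul, QuotientGroup.mk'_apply, QuotientGroup.eq_one_iff] at h
        have h1 : H55.Psp.KeepsTv (H55.Psp.fieldPs (H49.Sp4.frobF ^ k) : MulAut (Cfsg.PSp 2 F)) := by
          simpa using H49.Sp4.keepsTv_induced 1 (H49.Sp4.frobF ^ k)
        simpa using H49.Sp4.keepsTv_mul (H49.Sp4.keepsTv_inv h1) (hkeep _ h)
    · rintro ⟨c, rfl⟩
      rw [mul_assoc, heven, (hord _).2 (dvd_mul_right f c), map_one, map_one]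
  have hcyc : IsCyclic (Cfsg.Out (Cfsg.PSp 2 F)) := ⟨x, fun y => by
    obtain ⟨n, rfl⟩ := hgen y
    exact Subgroup.mem_zpowers_iff.2 ⟨n, zpow_natCast x n⟩⟩
  refine ⟨hcyc, ?_⟩
  rw [← orderOf_eq_card_of_forall_mem_zpowers (g := x) (fun y => by
    obtain ⟨n, rfl⟩ := hgen y
    exact Subgroup.mem_zpowers_iff.2 ⟨n, zpow_natCast x n⟩)]
  refine Nat.dvd_antisymm ?_ ?_
  · exact orderOf_dvd_of_pow_eq_one ((hone _).2 dvd_rfl)
  · exact (hone _).1 (pow_orderOf_eq_one x)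

end Cfsg.Agent.S2600
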