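import Cfsg.Statements.S0814
import Cfsg.Agent.H48.InnCard
import Cfsg.Agent.H49.Sp4Aut
import Cfsg.Agent.H42.OutPSL
import Cfsg.Agent.S2600
-- import your own Cfsg.Agent.* helpers here

set_option autoImplicit false
open Cfsg

namespace Cfsg.Agent.S0814

/-- |Aut(PSp_2m(q))| = gcd(2, q−1) · f · |PSp_2m(q)| for q = p^f, m ≥ 2, (m, q) ≠ (2, 2), with an extra factor 2 exactly when m = 2 and p = 2. -/
theorem result {F : Type*} [Field F] [Fintype F] (p f : ℕ) [Fact p.Prime] (hf : 1 ≤ f) (hF : Fintype.card F = p ^ f) (m : ℕ) (hm : 2 ≤ m) (h22 : m = 2 → 3 ≤ p ^ f) : Nat.card (MulAut (Cfsg.PSp m F)) = (if m = 2 ∧ p = 2 then 2 else 1) * Nat.gcd 2 (p ^ f - 1) * f * Nat.card (Cfsg.PSp m F) := by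
  classical
  haveI : CharP F p := charP_of_card_eq_prime_pow hF
  obtain ⟨e⟩ := H42.exists_ringAut_equiv hF
  have hσ : Nat.card (F ≃+* F) = f := by
    rw [Nat.card_congr e.toEquiv, Nat.card_congr Multiplicative.toAdd, Nat.card_zmod]
  have h22' : m = 2 → 3 ≤ Fintype.card F := fun h => hF ▸ h22 h
  split_ifs with h
  · obtain ⟨rfl, rfl⟩ := h
    have hout := (Cfsg.Agent.S2600.result (F := F) hf hF).2
    rw [Subgroup.card_eq_card_quotient_mul_card_subgroup (Cfsg.Inn (Cfsg.PSp 2 F)),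
      H48.card_Inn_psp le_rfl h22']
    have hg : Nat.gcd 2 (2 ^ f - 1) = 1 := by
      obtain ⟨k, rfl⟩ : ∃ k, f = k + 1 := ⟨f - 1, by omega⟩
      rw [Nat.gcd_rec, show (2 ^ (k + 1) - 1) % 2 = 1 from ?_]
      · simp
      · have := Nat.one_le_two_pow (n := k)
        rw [pow_succ]; omega
    rw [hg, mul_one, show Nat.card (MulAut (Cfsg.PSp 2 F) ⧸ Cfsg.Inn (Cfsg.PSp 2 F)) = 2 * f from hout]
  · have h4 : m = 2 → p ≠ 2 := fun h2 hp => h ⟨h2, hp⟩
    let Φ : (H55.Psp.conjPs (m := m) (F := F)).range × (F ≃+* F) → MulAut (Cfsg.PSp m F) :=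
      fun x => (x.1 : MulAut (Cfsg.PSp m F)) * H55.Psp.fieldPs x.2
    have hΦ : Function.Bijective Φ := by
      constructor
      · rintro ⟨⟨_, g, rfl⟩, σ⟩ ⟨⟨_, g', rfl⟩, σ'⟩ hx
        simp only [Φ] at hx
        have h1 : H55.Psp.conjPs (g'⁻¹ * g) = H55.Psp.fieldPs (σ' * σ⁻¹) := by
          rw [map_mul, map_inv, map_mul, map_inv, eq_mul_inv_iff_mul_eq, mul_assoc, hx,
            inv_mul_cancel_left]
        have h2 := (H55.Psp.conjPs_eq_fieldPs (by omega) h1).1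
        replace h2 : σ' = σ := mul_inv_eq_one.1 h2
        subst h2
        exact Prod.ext (Subtype.ext (mul_right_cancel hx)) rfl
      · intro α
        obtain ⟨g, σ, rfl⟩ := H55.Psp.aut_PSp hm h4 α
        exact ⟨(⟨_, g, rfl⟩, σ), rfl⟩
    rw [← Nat.card_eq_of_bijective Φ hΦ, Nat.card_prod, H48.card_inndiag_psp hm h22', hσ, hF, one_mul]
    ring

end Cfsg.Agent.S0814
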