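import Cfsg.Statements.S2079
import Cfsg.Agent.H96.Fi22Out

set_option autoImplicit false
open Cfsg

namespace Cfsg.Agent.S2079

/-- The outer automorphism group of the Fischer group Fi₂₂ (the finitely presented group of the definitions) has order 2. -/
theorem result : Nat.card (Cfsg.Out Cfsg.Spor.Fi22) = 2 := by
  exact H96.Fi22Out.card_out

end Cfsg.Agent.S2079
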