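import Cfsg.Statements.S2602
import Cfsg.Agent.H42.OutPSL

set_option autoImplicit false
set_option linter.style.haveILetI false
open Cfsg

namespace Cfsg.Agent.S2602

open H55 in
/-- Structure of the outer automorphism group of PSL_2(q), q = p^f ≥ 4: it has a normal cyclic subgroup of order gcd(2, q − 1) (diagonal automorphisms) with cyclic quotient of order f (field automorphisms); there is no graph automorphism in dimension 2. -/
theorem result {F : Type*} [Field F] [Fintype F] {p f : ℕ} [Fact p.Prime] (hf : 1 ≤ f) (hF : Fintype.card F = p ^ f) (h4 : 4 ≤ p ^ f) : ∃ φ : Cfsg.Out (Matrix.ProjectiveSpecialLinearGroup (Fin 2) F) →* Multiplicative (ZMod f), Function.Surjective φ ∧ IsCyclic φ.ker ∧ Nat.card φ.ker = Nat.gcd 2 (p ^ f - 1) := by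
  obtain ⟨θ⟩ := H42.exists_ringAut_equiv hF
  rw [← hF]
  refine H42.out_structure le_rfl (A := Multiplicative (ZMod f)) (fieldP.comp θ.symm.toMonoidHom) ?_ ?_ ?_
  · intro α
    obtain ⟨g, σ, γ, hγ | ⟨h3, -⟩, rfl⟩ := aut_PSL le_rfl α
    · exact ⟨g, θ σ, by simp [hγ]⟩
    · omega
  · intro g a h
    have h1 := (conjP_eq_fieldP le_rfl (σ := θ.symm a) h.symm).1
    have h2 : θ.symm a = 1 := h1
    simpa using congrArg θ h2
  · intro a g
    exact ⟨mapGL (θ.symm a) g, fieldP_conjP _ _⟩

end Cfsg.Agent.S2602
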