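import Cfsg.Statements.S0496
import Cfsg.Agent.H65.SmallSimple2
import Cfsg.Agent.H65.SmallCases
import Cfsg.Agent.H65.Order720

set_option autoImplicit false
open Cfsg

namespace Cfsg.Agent.S0496

/-- A non-abelian finite simple group of order at most 1092 has order 60, 168, 360, 504, 660 or 1092. -/
theorem result {G : Type*} [Group G] [Finite G] [IsSimpleGroup G]
    (hG : ¬ IsMulCommutative G) (h : Nat.card G ≤ 1092) :
    Nat.card G = 60 ∨ Nat.card G = 168 ∨ Nat.card G = 360 ∨ Nat.card G = 504 ∨ Nat.card G = 660 ∨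
      Nat.card G = 1092 := by
  have hmem := H65.card_mem_survivors hG h
  simp only [H65.survivors, List.mem_cons, List.not_mem_nil, or_false] at hmem
  rcases hmem with h1 | h1 | h1 | h1 | h1 | h1 | h1 | h1 | h1 | h1 | h1 | h1 | h1 | h1 | h1 | h1
  · simp [h1]
  · simp [h1]
  · simp [h1]
  · exact absurd h1 (H65.card_ne_420_840 (m := 60) (e := 14) (Or.inl ⟨rfl, rfl, rfl⟩))
  · simp [h1]
  · exact absurd h1 H65.card_ne_612
  · simp [h1]
  · exact absurd h1 H65.card_ne_720
  · exact absurd h1 H65.card_ne_756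
  · exact absurd h1 (H65.card_ne_420_840 (m := 120) (e := 28) (Or.inr ⟨rfl, rfl, rfl⟩))
  · exact absurd h1 H65.card_ne_1008
  · exact absurd h1 H65.card_ne_1040
  · exact absurd h1 H65.card_ne_1080
  · simp [h1]
  · exact (H65.not_two_prime_order hG (Or.inl h1)).elim
  · exact (H65.not_two_prime_order hG (Or.inr h1)).elim

end Cfsg.Agent.S0496
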