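import Cfsg.Statements.S4688
import Cfsg.Agent.H23.Nilpotent
import Cfsg.Agent.H23.Transfer
-- import your own Cfsg.Agent.* helpers here

set_option autoImplicit false
open Cfsg

open H23

namespace Cfsg.Agent.S4688

/-- Fix a prime p and a maximal ideal M of the algebraic integers containing p, and a nilpotent p-block B of the finite group G with maximal Brauer pair (P, e). Then for every Brauer pair (Q, f) of B, f is a nilpotent block of C_G(Q); and if moreover (Q, f) ≤ (P, e), then C_P(Q) is a defect group of f as a block of C_G(Q). -/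
theorem result {G : Type*} [Group G] [Fintype G] (p : ℕ) [Fact p.Prime] (M : Ideal Cfsg.AlgInt) (hM : Cfsg.IsPModular p M) (B : Set (Cfsg.IrrCharacter G)) (P : Subgroup G) (e : Set (Cfsg.IrrCharacter (Subgroup.centralizer (P : Set G)))) (hmax : Cfsg.IsMaximalBrauerPair p M B P e) (hnil : Cfsg.IsNilpotentBlock p M B) (Q : Subgroup G) (f : Set (Cfsg.IrrCharacter (Subgroup.centralizer (Q : Set G)))) (hQf : Cfsg.IsBrauerPairOf p M B Q f) : Cfsg.IsNilpotentBlock p M f ∧ (Cfsg.SubpairLE p M Q f P e → Cfsg.IsDefectGroup p M f ((P ⊓ Subgroup.centralizer (Q : Set G)).subgroupOf (Subgroup.centralizer (Q : Set G)))) := by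
  haveI := hM.2.1.isPrime
  haveI := H20.k_charP (p := p) hM
  haveI := H23.isAlgClosed_k hM.2.1
  classical
  haveI := Fintype.ofFinite (Subgroup.centralizer (Q : Set G))
  have hB := hmax.1.2.1
  have hP := H23.isMax_of (M := M) hmax
  have hf := hQf.1.2
  have hfp := isPair_of (M := M) hQf.1
  have hfB := (isBrauerPairOf_iff hB hQf.1).1 hQf
  constructor
  · refine ⟨hf, fun R h hRh x hxn hxs hreg => ?_⟩
    haveI := Fintype.ofFinite (Subgroup.centralizer (R : Set (Subgroup.centralizer (Q : Set G))))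
    set R' := R.map (Subgroup.centralizer (Q : Set G)).subtype with hR'
    have hh := isPair_of (M := M) hRh.1
    have hhB := (isBrauerPairOf_iff hf hRh.1).1 hRh
    set h' := eG M (Subgroup.centralizer (R : Set (Subgroup.centralizer (Q : Set G)))) h with hh'
    have hsupp : ∀ c : (Subgroup.centralizer (Q : Set G)), c ∈ Subgroup.centralizer (R : Set (Subgroup.centralizer (Q : Set G))) ↔
        (c : G) ∈ Subgroup.centralizer (R' : Set G) := by
      intro c
      constructor
      · intro hc
        rw [Subgroup.mem_centralizer_iff]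
        rintro _ ⟨r, hr, rfl⟩
        exact congrArg Subtype.val (Subgroup.mem_centralizer_iff.1 hc r hr)
      · intro hc
        rw [Subgroup.mem_centralizer_iff]
        exact fun r hr => Subtype.ext (Subgroup.mem_centralizer_iff.1 hc r ⟨r, hr, rfl⟩)
    have hcent : ∀ g : G, g ∈ Subgroup.centralizer ((Q ⊔ R' : Subgroup G) : Set G) ↔
        g ∈ (Subgroup.centralizer (Q : Set G)) ∧ g ∈ Subgroup.centralizer (R' : Set G) := by
      intro g
      refine ⟨fun hg => ⟨centralizer_anti le_sup_left hg, centralizer_anti le_sup_right hg⟩,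
        fun hg => ?_⟩
      have hsub : Q ⊔ R' ≤ Subgroup.centralizer ({g} : Set G) :=
        sup_le (le_centralizer_singleton hg.1) (le_centralizer_singleton hg.2)
      exact mem_centralizer_of_le hsub
    have hp : IsPair p (Q ⊔ R') (emb (Subgroup.centralizer (Q : Set G)) h') := by
      refine ⟨hQf.1.1.to_sup_of_normal_left' (hRh.1.1.map _)
        (fun g hg => Subgroup.centralizer_le_normalizer (Q : Set G) ((Subgroup.map_subtype_le R) hg)), ?_⟩
      refine H23.isBlk_emb hh.2 fun g => ?_
      rw [hcent]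
      constructor
      · rintro ⟨hg, hg'⟩
        exact ⟨⟨g, hg⟩, (hsupp _).2 hg', rfl⟩
      · rintro ⟨c, hc, rfl⟩
        exact ⟨c.2, (hsupp c).1 hc⟩
    have hin : InBlk (eB M B) (Q ⊔ R') (emb (Subgroup.centralizer (Q : Set G)) h') := by
      set z := res (Subgroup.centralizer (Q : Set G)) (Br Q (eB M B)) with hz
      have hzc : CIdem (Subgroup.centralizer (Q : Set G)) (Br Q (eB M B)) := (cidem_eB hB).Br hfp.1 le_top
        ((cidem_eB hB).fix.mono le_top)
      have hfz : eB M f * z = eB M f := by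
        show H20.eRed M f * z = H20.eRed M f
        rw [← res_eG, hz, ← res_mul (supp_eG (Subgroup.centralizer (Q : Set G)) f) hzc.supp]
        exact congrArg (res (Subgroup.centralizer (Q : Set G))) hfB
      have hzfix : IsFix R z := fun r _ c => isCl_res hzc.fix c r
      have h1 : h' * Br R z = h' := by
        conv_rhs => rw [← (hhB : h' * Br R (eB M f) = h'), ← hfz,
          Br_mul hRh.1.1 ((cidem_eB hf).fix.mono le_top) hzfix, ← mul_assoc,
          (hhB : h' * Br R (eB M f) = h')]
      have h2 : emb (Subgroup.centralizer (Q : Set G)) (Br R z) = Br (Q ⊔ R') (eB M B) := by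
        ext g
        by_cases hgC : g ∈ (Subgroup.centralizer (Q : Set G))
        · rw [coeff_emb_coe (Subgroup.centralizer (Q : Set G)) (Br R z) ⟨g, hgC⟩]
          by_cases hgR : g ∈ Subgroup.centralizer (R' : Set G)
          · rw [coeff_Br_of_mem _ ((hsupp ⟨g, hgC⟩).2 hgR), coeff_Br_of_mem _ ((hcent g).2 ⟨hgC, hgR⟩),
              hz, coeff_res, coeff_Br_of_mem _ hgC]
          · rw [coeff_Br_of_notMem _ (fun hg => hgR ((hsupp ⟨g, hgC⟩).1 hg)),
              coeff_Br_of_notMem _ fun hg => hgR ((hcent g).1 hg).2]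
        · rw [coeff_emb_of_notMem (Subgroup.centralizer (Q : Set G)) _ hgC, coeff_Br_of_notMem _ fun hg => hgC ((hcent g).1 hg).1]
      show emb (Subgroup.centralizer (Q : Set G)) h' * Br (Q ⊔ R') (eB M B) = emb (Subgroup.centralizer (Q : Set G)) h'
      rw [← h2, ← map_mul, h1]
    obtain ⟨h'', hh''b, hh''e⟩ := exists_of_isPair hp
    have hxR : cjS (x : G) R' = R' := by
      rw [hR', cjS, Subgroup.map_map]
      conv_rhs => rw [← cjS_eq_self hxn, cjS, Subgroup.map_map]
      rfl
    have hxS : cjS (x : G) (Q ⊔ R') = Q ⊔ R' := by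
      rw [cjS_sup, hxR, cjS_eq_self (Subgroup.centralizer_le_normalizer (Q : Set G) x.2)]
    have hxh : H23.cj (x : G) (emb (Subgroup.centralizer (Q : Set G)) h') = emb (Subgroup.centralizer (Q : Set G)) h' := by
      obtain ⟨hxn', hxf⟩ := (stabilizesBlock_iff hRh.1.2 x).1 hxs
      ext g
      rw [coeff_cj]
      by_cases hgC : g ∈ (Subgroup.centralizer (Q : Set G))
      · have h3 : (x : G)⁻¹ * g * x = ((x⁻¹ * ⟨g, hgC⟩ * x : (Subgroup.centralizer (Q : Set G))) : G) := rfl
        rw [h3, coeff_emb_coe, coeff_emb_coe (Subgroup.centralizer (Q : Set G)) h' ⟨g, hgC⟩, ← coeff_cj, hxf]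
      · rw [coeff_emb_of_notMem (Subgroup.centralizer (Q : Set G)) _ hgC, coeff_emb_of_notMem (Subgroup.centralizer (Q : Set G)) _ fun h3 => hgC ?_]
        simpa [mul_assoc] using (Subgroup.centralizer (Q : Set G)).mul_mem ((Subgroup.centralizer (Q : Set G)).mul_mem x.2 h3) ((Subgroup.centralizer (Q : Set G)).inv_mem x.2)
    have hxS' := mem_normalizer_of_cjS_eq hxS
    have hxc := hnil.2 (Q ⊔ R') h'' ((isBrauerPairOf_iff hB hh''b).2 (by rw [hh''e]; exact hin))
      (x : G) hxS' ((stabilizesBlock_iff hh''b.2 _).2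
        ⟨mem_normalizer_of_cjS_eq (cjS_normalizer_centralizer le_rfl hxS'), by rw [hh''e, hxh]⟩)
      (by unfold Cfsg.IsPRegular; rwa [Subgroup.orderOf_coe])
    exact (hsupp x).2 ((hcent _).1 hxc).2
  · intro hle
    obtain ⟨-, hle'⟩ := H23.subpairLE_le hle hmax.1.1.2
    obtain ⟨R, h, hl⟩ :=
      H23.exists_locMax p hfp le_sup_left le_sup_right (H23.withCent_le_stab p hfp)
    obtain ⟨x, hx, heq⟩ := hl.exists_conj_inf_cent p (H23.isBlk_eB hB) hP hle'
    have hF := H23.pairFS_isBlockFS hmax
    have h1 : Cfsg.conjHom Q x ∈ (H23.pairFS (isPair_of (M := M) hmax.1.1)).Hom Q :=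
      (H23.hom_iff_of_le hP (H23.hom_eq_pairHom hF) hle' _).2 ⟨x, fun u => rfl, hx⟩
    rw [(H23.isNilpotentBlock_iff_inner hF).1 hnil Q] at h1
    obtain ⟨-, u, hu, huy⟩ := h1
    have hxu : cjS x Q = cjS u Q := by
      rw [← range_eq_cjS (φ := Cfsg.conjHom Q x) (g := x) fun y => rfl,
        range_eq_cjS (φ := Cfsg.conjHom Q x) huy]
    obtain ⟨c, hc, hc'⟩ := hl.inf_cent_le p hP.1 (y := 1) (by rwa [cjS_one, cj_one])
    rw [inv_one, cjS_one] at hc'
    have hcard := congrArg (fun X : Subgroup G => Nat.card X) heq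
    simp only [hxu] at hcard
    rw [← cjS_centralizer] at hcard
    nth_rw 1 [← cjS_eq_self (Subgroup.le_normalizer hu)] at hcard
    rw [← cjS_inf, card_cjS, card_cjS] at hcard
    exact H23.isDefectGroup_subgroupOf_of_conj hM hf (H23.isDefectGroup_cent hM hl hf rfl)
      inf_le_right hc (Subgroup.eq_of_le_of_card_ge hc' (by rw [card_cjS, hcard]))

end Cfsg.Agent.S4688
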