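-- Proof of statement S4964.
import Cfsg.Statements.S4964
import Cfsg.Agent.H20.Defect
import Cfsg.Agent.H21.Inflation
import Cfsg.Agent.H22.BlockClasses
import Cfsg.Agent.H1.CoprimeAction2
import Cfsg.Agent.H6.Basic

set_option autoImplicit false
set_option linter.style.haveILetI false
open Cfsg

namespace Cfsg.Agent.S4964

variable {p : ℕ} [hp : Fact p.Prime] {M : Ideal AlgInt} [hMp : M.IsPrime]

/-- For a normal `p`-subgroup `Q`, blocks are determined on `p`-regular classes in `C(Q)`. -/
theorem sameBlock_of_agree_centralizer {G : Type*} [Group G] [Fintype G] (hM : IsPModular p M)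
    {Q : Subgroup G} [Q.Normal] (hQ : IsPGroup p Q) {χ ψ : IrrCharacter G}
    (h : ∀ x : G, ¬ p ∣ orderOf x → x ∈ Subgroup.centralizer (Q : Set G) →
      MemLocalIdeal M (centralChar (χ : G → ℂ) x - centralChar (ψ : G → ℂ) x)) :
    SameBlock M (χ : G → ℂ) (ψ : G → ℂ) := by
  classical
  haveI : Fintype (ConjClasses G) := Fintype.ofFinite _
  have hvan : ∀ (φ : IrrCharacter G) (x : G), x ∉ Subgroup.centralizer (Q : Set G) →
      H20.redC M (centralChar (φ : G → ℂ) x) = 0 := by
    intro φ x hx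
    have hbr : H20.br Q (H20.clSum (H20.k M) x) = 0 := by
      ext y
      simp only [MonoidAlgebra.coeff_zero, Finsupp.coe_zero, Pi.zero_apply]
      by_cases hy : y ∈ Subgroup.centralizer (Q : Set G)
      · rw [H20.coeff_br_of_mem _ hy]
        have hne : ¬ IsConj x y := fun hc => by
          obtain ⟨c, rfl⟩ := isConj_iff.1 hc
          have hN : (Subgroup.centralizer (Q : Set G)).Normal := inferInstance
          exact hx (by simpa [mul_assoc] using hN.conj_mem _ hy c⁻¹)
        simp [H20.clSum, hne, -isConj_iff]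
      · rw [H20.coeff_br_of_notMem _ hy]
    have := H20.lam_br_of_normal hM hQ φ (H20.isCl_clSum (H20.k M) x)
    rw [hbr, H20.lam_zero, H20.lam_clSum] at this
    exact this.symm
  have hBχ := H20.isPBlock_blockOf (M := M) χ
  have h1 := H22.sum_redC_coeff_mul hBχ χ
  rw [if_pos (H20.mem_blockOf_self χ)] at h1
  have h2 := H22.sum_redC_coeff_mul hBχ ψ
  by_contra hne
  rw [if_neg (show ψ ∉ blockOf M (χ : G → ℂ) from hne)] at h2
  apply one_ne_zero (α := H20.k M)
  rw [← h1, ← h2]
  refine Finset.sum_congr rfl fun C _ => ?_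
  by_cases hreg : p ∣ orderOf C.out
  · rw [H22.blockCoeff_eq_zero_of_dvd (H22.weakOrth_of_block hM hBχ) hreg, H20.redC_zero, zero_mul,
      zero_mul]
  congr 1
  by_cases hC : C.out ∈ Subgroup.centralizer (Q : Set G)
  · exact (H20.redC_eq_iff (H20.memRing_centralChar χ _) (H20.memRing_centralChar ψ _)).2
      (h _ hreg hC)
  · rw [hvan χ _ hC, hvan ψ _ hC]

omit hMp in
/-- A `p`-regular element centralizing `D ⧸ D'` centralizes the `p`-group `D`. -/
theorem mem_centralizer_of_commutator {G : Type*} [Group G] [Finite G] {D : Subgroup G} [D.Normal]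
    (hD : IsPGroup p D) {g : G} (hg : ¬ p ∣ orderOf g)
    (h : ∀ d ∈ D, g * d * g⁻¹ * d⁻¹ ∈ ⁅D, D⁆) : g ∈ Subgroup.centralizer (D : Set G) := by
  have hle : ⁅D, D⁆ ≤ (frattini D).map D.subtype := by
    rw [← Subgroup.map_subtype_commutator]
    exact Subgroup.map_mono (H6.commutator_le_frattini hD)
  refine H1.le_centralizer_of_frattini (A := Subgroup.zpowers g) (fun a _ => ?_) ?_ ?_
    (Subgroup.mem_zpowers g)
  · rw [Subgroup.normalizer_eq_top]; trivial
  · obtain ⟨j, hj⟩ := (hD.to_subgroup (frattini D)).exists_card_eq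
    rw [hj, Nat.card_zpowers]
    exact Nat.Coprime.pow_right j ((Nat.Prime.coprime_iff_not_dvd hp.out).mpr hg).symm
  · intro a ha d hd
    obtain ⟨n, rfl⟩ := Subgroup.mem_zpowers_iff.1 ha
    let K : Subgroup G :=
      { carrier := {y | ∀ q ∈ D, y * q * y⁻¹ * q⁻¹ ∈ ⁅D, D⁆}
        one_mem' := by intro q _; simp
        mul_mem' := by
          intro a b ha hb q hq
          have h1 := hb q hq
          have h2 := ha _ (‹D.Normal›.conj_mem q hq b)
          have := (⁅D, D⁆).mul_mem h2 h1
          simpa [mul_assoc] using this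
        inv_mem' := by
          intro a ha q hq
          have h1 := ha _ (‹D.Normal›.conj_mem q hq a⁻¹)
          have := (⁅D, D⁆).inv_mem h1
          simpa [mul_assoc] using this }
    exact hle ((K.zpow_mem (show g ∈ K from h) n) d hd)

omit hMp in
/-- The class of a `p`-regular element centralizing `D` maps bijectively to its image class. -/
theorem index_centralizer_mk {G : Type*} [Group G] [Finite G] {D N : Subgroup G} [D.Normal]
    [N.Normal] (hD : IsPGroup p D) (hND : N ≤ D) {g : G} (hg : ¬ p ∣ orderOf g)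
    (hgC : g ∈ Subgroup.centralizer (D : Set G)) :
    (Subgroup.centralizer ({g} : Set G)).index =
      (Subgroup.centralizer ({(g : G ⧸ N)} : Set (G ⧸ N))).index := by
  rw [H21.index_centralizer_eq_card_conj, H21.index_centralizer_eq_card_conj]
  refine Nat.card_eq_of_bijective (fun y : {y : G // IsConj g y} =>
    (⟨((y : G) : G ⧸ N), MonoidHom.map_isConj (QuotientGroup.mk' N) y.2⟩ :
      {r : G ⧸ N // IsConj (g : G ⧸ N) r})) ⟨?_, ?_⟩
  · rintro ⟨y, hy⟩ ⟨z, hz⟩ hyz
    have hq := QuotientGroup.eq.1 (congrArg Subtype.val hyz)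
    obtain ⟨c, rfl⟩ := isConj_iff.1 hy
    set d := (c * g * c⁻¹)⁻¹ * z with hd
    have hyC : c * g * c⁻¹ ∈ Subgroup.centralizer (D : Set G) :=
      (inferInstance : (Subgroup.centralizer (D : Set G)).Normal).conj_mem _ hgC c
    have hcomm : Commute d (c * g * c⁻¹) := hyC d (hND hq)
    have hzreg : ¬ p ∣ orderOf z := by
      obtain ⟨e, rfl⟩ := isConj_iff.1 hz
      rwa [H22.orderOf_conj_eq]
    have hprod : d * (c * g * c⁻¹) = z := by rw [hcomm.eq, hd]; group
    obtain ⟨k, hk⟩ := IsPGroup.iff_orderOf.1 hD ⟨d, hND hq⟩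
    rw [Subgroup.orderOf_mk] at hk
    have h1 := (H20.isPPart_unique' hprod hcomm ⟨k, hk⟩ (by rwa [H22.orderOf_conj_eq])).1
    rw [H20.pPart_eq_one_iff.2 hzreg] at h1
    apply Subtype.ext
    show c * g * c⁻¹ = z
    rw [← hprod, h1, one_mul]
  · rintro ⟨r, hr⟩
    obtain ⟨c, hc⟩ := isConj_iff.1 hr
    obtain ⟨c', rfl⟩ := QuotientGroup.mk_surjective c
    exact ⟨⟨c' * g * c'⁻¹, isConj_iff.2 ⟨c', rfl⟩⟩, Subtype.ext (by simpa using hc)⟩

/-- Let D be a normal p-subgroup of the finite group G, let D′ be its commutator subgroup (normal in G), and fix a maximal ideal M of the algebraic integers containing p. Then (i) two irreducible characters of G ⧸ D′ lie in the same p-block if and only if their inflations to G do, and (ii) every p-block of G contains the inflation of some irreducible character of G ⧸ D′; so inflation induces a bijection between the p-blocks of G ⧸ D′ and the p-blocks of G. -/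
theorem result {G : Type*} [Group G] [Finite G] (p : ℕ) [Fact p.Prime] (M : Ideal Cfsg.AlgInt) (hM : Cfsg.IsPModular p M) (D : Subgroup G) [D.Normal] (hD : IsPGroup p D) : (∀ χ ψ : Cfsg.IrrCharacter (G ⧸ ⁅D, D⁆), Cfsg.SameBlock M (χ : G ⧸ ⁅D, D⁆ → ℂ) (ψ : G ⧸ ⁅D, D⁆ → ℂ) ↔ Cfsg.SameBlock M ((χ : G ⧸ ⁅D, D⁆ → ℂ) ∘ QuotientGroup.mk) ((ψ : G ⧸ ⁅D, D⁆ → ℂ) ∘ QuotientGroup.mk)) ∧ ∀ B : Set (Cfsg.IrrCharacter G), Cfsg.IsPBlock M B → ∃ χ : Cfsg.IrrCharacter (G ⧸ ⁅D, D⁆), ∃ θ ∈ B, (θ : G → ℂ) = (χ : G ⧸ ⁅D, D⁆ → ℂ) ∘ QuotientGroup.mk := by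
  classical
  haveI := H20.isPrime_of_modular hM
  haveI := Fintype.ofFinite G
  haveI := Fintype.ofFinite (G ⧸ ⁅D, D⁆)
  set N := ⁅D, D⁆ with hN
  have hND : N ≤ D := Subgroup.commutator_le_left D D
  have hNp : IsPGroup p N := hD.to_le hND
  set π := QuotientGroup.mk' N with hπ
  have hπs : Function.Surjective π := QuotientGroup.mk'_surjective N
  let Db : Subgroup (G ⧸ N) := D.map π
  haveI : Db.Normal := Subgroup.Normal.map inferInstance π hπs
  have hDb : IsPGroup p Db := hD.map π
  have hcc : ∀ g : G, ¬ p ∣ orderOf g → g ∈ Subgroup.centralizer (D : Set G) →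
      ∀ φ : IrrCharacter (G ⧸ N),
        centralChar ((H21.inflate N φ : IrrCharacter G) : G → ℂ) g =
          centralChar (φ : G ⧸ N → ℂ) (g : G ⧸ N) := by
    intro g hg hgC φ
    rw [centralChar, centralChar, index_centralizer_mk (N := N) hD hND hg hgC]
    rfl
  refine ⟨fun χ ψ => ⟨fun h => ?_, fun h => ?_⟩, fun B hB => ?_⟩
  · show SameBlock M (H21.inflate N χ : G → ℂ) (H21.inflate N ψ : G → ℂ)
    refine sameBlock_of_agree_centralizer hM hD fun x hx hxC => ?_
    rw [hcc x hx hxC χ, hcc x hx hxC ψ]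
    exact h _
  · refine sameBlock_of_agree_centralizer hM hDb fun q hq hqC => ?_
    obtain ⟨x, hx⟩ := hπs q
    set g := H20.qPart p x with hgdef
    have hg : ¬ p ∣ orderOf g := H20.not_dvd_orderOf_qPart x
    have hgq : π g = q := by
      have h1 : π (H20.pPart p x) * π g = q := by rw [← map_mul, H20.pPart_mul_qPart, hx]
      obtain ⟨j, hj⟩ := H20.exists_orderOf_pPart (p := p) x
      obtain ⟨i, -, hi⟩ := (Nat.dvd_prime_pow Fact.out).1 (hj ▸ orderOf_map_dvd π (H20.pPart p x))
      have h2 := (H20.isPPart_unique' h1 ((H20.commute_pPart_qPart x).map π) ⟨i, hi⟩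
        (fun hd => hg (hd.trans (orderOf_map_dvd π g)))).1
      rw [H20.pPart_eq_one_iff.2 hq] at h2
      rwa [h2, one_mul] at h1
    have hgC : g ∈ Subgroup.centralizer (D : Set G) := by
      refine mem_centralizer_of_commutator hD hg fun d hd => ?_
      rw [← hN, ← QuotientGroup.eq_one_iff]
      have h3 := hqC (π d) (Subgroup.mem_map_of_mem π hd)
      rw [← hgq] at h3
      show π (g * d * g⁻¹ * d⁻¹) = 1
      simp only [map_mul, map_inv]
      rw [← h3, mul_inv_cancel_right, mul_inv_cancel]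
    rw [← hgq]
    show MemLocalIdeal M (centralChar (χ : G ⧸ N → ℂ) (g : G ⧸ N) -
      centralChar (ψ : G ⧸ N → ℂ) (g : G ⧸ N))
    rw [← hcc g hg hgC χ, ← hcc g hg hgC ψ]
    exact h g
  · by_contra hne
    simp only [not_exists, not_and] at hne
    -- the fibre sums of the coefficients of the block idempotent vanish
    let F : G ⧸ N → ℂ := fun q => ∑ g : G, if π g = q then blockCoeff B g else 0
    have hF : F = 0 := by
      have hFcl : IsClassFunction (G ⧸ N) F := by
        intro q r
        obtain ⟨c, rfl⟩ := hπs r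
        symm
        refine Fintype.sum_equiv (MulAut.conj c).toEquiv _ _ fun g => ?_
        simp only [MulEquiv.toEquiv_eq_coe, EquivLike.coe_coe, MulAut.conj_apply, map_mul, map_inv,
          mul_left_inj, mul_right_inj]
        rw [H20.blockCoeff_of_isConj B (isConj_iff.2 ⟨c, rfl⟩)]
      refine H12.eq_zero_of_sum_mul_irr_eq_zero hFcl fun φ => ?_
      have h0 := H20.omega_eIdem B (H21.inflate N φ)
      rw [if_neg (fun hmem => hne φ _ hmem rfl), H20.omega, div_eq_zero_iff] at h0
      have h1 := h0.resolve_right (H12.irr_apply_one_ne_zero _)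
      rw [← h1]
      simp only [F, Finset.sum_mul, ite_mul, zero_mul]
      rw [Finset.sum_comm]
      refine Finset.sum_congr rfl fun g _ => ?_
      rw [Finset.sum_ite_eq, if_pos (Finset.mem_univ _)]
      simp [H20.eIdem, H21.inflate_apply, hπ]
    haveI := H20.k_charP hM
    obtain ⟨χ, hχ⟩ := H20.block_nonempty hB
    have hnil : IsNilpotent (H20.eRed M B) := by
      refine H20.isNilpotent_of_mapDomain_eq_zero (p := p) hNp ?_
      ext q
      simp only [MonoidAlgebra.mapDomainRingHom_apply, MonoidAlgebra.coeff_mapDomain,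
        MonoidAlgebra.coeff_zero, Finsupp.coe_zero, Pi.zero_apply, Finsupp.mapDomain]
      rw [Finsupp.sum_fintype _ _ (fun _ => by simp)]
      simp only [Finsupp.coe_finsetSum, Finset.sum_apply, Finsupp.single_apply, H20.coeff_eRed]
      have h2 := congrArg (H20.redC M) (congrFun hF q)
      simp only [F, Pi.zero_apply, H20.redC_zero] at h2
      have hR : ∀ g ∈ (Finset.univ : Finset G),
          MemLocalRing M (if π g = q then blockCoeff B g else 0) := fun g _ => by
        split_ifs
        · exact H20.memRing_blockCoeff hB g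
        · exact (H20.O M).zero_mem
      rw [H20.redC_sum _ _ hR] at h2
      refine Eq.trans (Finset.sum_congr rfl fun g _ => ?_) h2
      rw [apply_ite (H20.redC M), H20.redC_zero]
    have h3 := H20.lam_eq_zero_of_isNilpotent χ (H20.isCl_eRed B) hnil
    rw [H20.lam_eRed hB χ, if_pos hχ] at h3
    exact one_ne_zero h3

end Cfsg.Agent.S4964
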