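import Cfsg.Statements.S2299
import Cfsg.Agent.H17.SLCount

set_option autoImplicit false
open Cfsg

namespace Cfsg.Agent.S2299

/-- Over a finite field F with q elements, q odd, every irreducible complex character of SL₂ has degree 1, q, q + 1, q − 1, (q + 1)/2 or (q − 1)/2; and when q ≥ 5 (so that these six numbers are distinct) there are exactly one irreducible character of degree 1, one of degree q, (q − 3)/2 of degree q + 1, (q − 1)/2 of degree q − 1, two of degree (q + 1)/2 and two of degree (q − 1)/2. -/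
theorem result {F : Type*} [Field F] [Fintype F] (hodd : Odd (Fintype.card F)) :
    (∀ χ : Matrix.SpecialLinearGroup (Fin 2) F → ℂ, Cfsg.IsIrrCharacter (Matrix.SpecialLinearGroup (Fin 2) F) χ →
      χ 1 = 1 ∨ χ 1 = (Fintype.card F : ℂ) ∨ χ 1 = (Fintype.card F : ℂ) + 1 ∨ χ 1 = (Fintype.card F : ℂ) - 1 ∨
        χ 1 = (((Fintype.card F + 1) / 2 : ℕ) : ℂ) ∨ χ 1 = (((Fintype.card F - 1) / 2 : ℕ) : ℂ)) ∧
    (5 ≤ Fintype.card F →
      Nat.card {χ : Cfsg.IrrCharacter (Matrix.SpecialLinearGroup (Fin 2) F) // (χ : Matrix.SpecialLinearGroup (Fin 2) F → ℂ) 1 = 1} = 1 ∧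
      Nat.card {χ : Cfsg.IrrCharacter (Matrix.SpecialLinearGroup (Fin 2) F) // (χ : Matrix.SpecialLinearGroup (Fin 2) F → ℂ) 1 = (Fintype.card F : ℂ)} = 1 ∧
      Nat.card {χ : Cfsg.IrrCharacter (Matrix.SpecialLinearGroup (Fin 2) F) // (χ : Matrix.SpecialLinearGroup (Fin 2) F → ℂ) 1 = (Fintype.card F : ℂ) + 1} = (Fintype.card F - 3) / 2 ∧
      Nat.card {χ : Cfsg.IrrCharacter (Matrix.SpecialLinearGroup (Fin 2) F) // (χ : Matrix.SpecialLinearGroup (Fin 2) F → ℂ) 1 = (Fintype.card F : ℂ) - 1} = (Fintype.card F - 1) / 2 ∧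
      Nat.card {χ : Cfsg.IrrCharacter (Matrix.SpecialLinearGroup (Fin 2) F) // (χ : Matrix.SpecialLinearGroup (Fin 2) F → ℂ) 1 = (((Fintype.card F + 1) / 2 : ℕ) : ℂ)} = 2 ∧
      Nat.card {χ : Cfsg.IrrCharacter (Matrix.SpecialLinearGroup (Fin 2) F) // (χ : Matrix.SpecialLinearGroup (Fin 2) F → ℂ) 1 = (((Fintype.card F - 1) / 2 : ℕ) : ℂ)} = 2) := by
  classical
  obtain ⟨C, hC⟩ := (H17.slEmb F).exists_nonSplit
  obtain ⟨O⟩ := H17.nonempty_slOdd hC hodd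
  refine ⟨fun χ hχ => ?_, fun hq => ?_⟩
  · rcases H17.sl_odd_degree hC hodd O ⟨χ, hχ⟩ with ⟨_, -, -, d⟩ | ⟨_, -, -, d⟩ | ⟨-, d⟩ | ⟨-, d⟩ | ⟨-, d⟩ | ⟨-, d⟩
    · exact Or.inr (Or.inr (Or.inl d))
    · exact Or.inr (Or.inr (Or.inr (Or.inl d)))
    · exact Or.inl d
    · exact Or.inr (Or.inl d)
    · exact Or.inr (Or.inr (Or.inr (Or.inr (Or.inl d))))
    · exact Or.inr (Or.inr (Or.inr (Or.inr (Or.inr d))))
  have h2 := H17.two_ne_zero_of_odd hodd
  have hdeg := fun (χ : Cfsg.IrrCharacter (Matrix.SpecialLinearGroup (Fin 2) F)) =>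
    H17.sl_odd_by_degree hC hodd O χ.2
  have fT : Nat.card {α : (H17.slD hC).T →* ℂˣ // α.comp (H17.slD hC).σT = α} = 2 := by
    rw [H17.card_fixed_T]
    exact H17.card_sq_one_eq_two h2 fun g hg => (H17.slD hC).Z_le_T hg
  have fC : Nat.card {α : (H17.slD hC).C →* ℂˣ // α.comp (H17.slD hC).σC = α} = 2 := by
    rw [H17.card_fixed_C]
    exact H17.card_sq_one_eq_two h2 fun g hg => (H17.slD hC).Z_le_C hg
  obtain ⟨k, hk⟩ := id hodd
  refine ⟨H17.card_sl_deg_one_iff fun χ h => ((hdeg χ).2.2.2.2.2 h).resolve_right fun h => by omega,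
    H17.card_sl_deg_q hC, ?_, ?_, ?_, ?_⟩
  · have hc := (H17.slD hC).card_seriesT
    rw [fT, H17.sl_card_T] at hc
    rw [Nat.card_congr (Equiv.subtypeEquivRight (q := fun χ : Cfsg.IrrCharacter (Matrix.SpecialLinearGroup (Fin 2) F) =>
      ∃ α : (H17.slD hC).T →* ℂˣ, α.comp (H17.slD hC).σT ≠ α ∧
        (χ : Matrix.SpecialLinearGroup (Fin 2) F → ℂ) = (H17.slD hC).chT α) fun χ => ⟨fun h => ?_, ?_⟩)]
    · omega
    · obtain ⟨α, hα, e⟩ := (hdeg χ).1 h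
      exact ⟨α, mt (H17.slT_fixed_iff hC α).1 hα, e⟩
    · rintro ⟨α, -, e⟩
      rw [e, (H17.slD hC).chT_one, H17.slD_q]
  · have hc := (H17.slD hC).card_seriesC
    rw [fC, H17.sl_card_C] at hc
    rw [Nat.card_congr (Equiv.subtypeEquivRight (q := fun χ : Cfsg.IrrCharacter (Matrix.SpecialLinearGroup (Fin 2) F) =>
      ∃ α : (H17.slD hC).C →* ℂˣ, α.comp (H17.slD hC).σC ≠ α ∧
        (χ : Matrix.SpecialLinearGroup (Fin 2) F → ℂ) = (H17.slD hC).chC α) fun χ => ⟨fun h => ?_, ?_⟩)]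
    · omega
    · obtain ⟨α, hα, e⟩ := ((hdeg χ).2.2.1 h).resolve_right fun h => by omega
      exact ⟨α, mt (H17.slC_fixed_iff hC α).1 hα, e⟩
    · rintro ⟨α, -, e⟩
      rw [e, (H17.slD hC).chC_one, H17.slD_q]
  · obtain ⟨χ₁, χ₂, hne, -, hiff, hval⟩ := (H17.slD hC).halfT O.η_fix O.isoT
    rw [Nat.card_congr (Equiv.subtypeEquivRight (q := fun χ => χ = χ₁ ∨ χ = χ₂) fun χ => ⟨fun h => ?_, fun h => ?_⟩)]
    · rw [Nat.card_eq_two_iff]
      exact ⟨⟨χ₁, Or.inl rfl⟩, ⟨χ₂, Or.inr rfl⟩, fun e => hne (congrArg Subtype.val e),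
        Set.eq_univ_of_forall fun x => x.2.imp (fun e => Subtype.ext e) fun e => Subtype.ext e⟩
    · exact (hiff χ).1 (((hdeg χ).2.2.2.1 h).resolve_right fun h => by omega)
    · rw [(hval χ ((hiff χ).2 h)).1, H17.slD_q, Nat.cast_div (hodd.add_odd odd_one).two_dvd (by norm_num),
        Nat.cast_add]
      norm_num
  · obtain ⟨χ₁, χ₂, hne, -, hiff, hval⟩ := (H17.slD hC).halfC O.θ_fix O.isoC
    rw [Nat.card_congr (Equiv.subtypeEquivRight (q := fun χ => χ = χ₁ ∨ χ = χ₂) fun χ => ⟨fun h => ?_, fun h => ?_⟩)]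
    · rw [Nat.card_eq_two_iff]
      exact ⟨⟨χ₁, Or.inl rfl⟩, ⟨χ₂, Or.inr rfl⟩, fun e => hne (congrArg Subtype.val e),
        Set.eq_univ_of_forall fun x => x.2.imp (fun e => Subtype.ext e) fun e => Subtype.ext e⟩
    · exact (hiff χ).1 (((hdeg χ).2.2.2.2.1 h).resolve_right fun h => by omega)
    · rw [(hval χ ((hiff χ).2 h)).1, H17.slD_q, Nat.cast_div (Nat.Odd.sub_odd hodd odd_one).two_dvd (by norm_num),
        Nat.cast_sub (show 1 ≤ Fintype.card F by omega)]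
      norm_num

end Cfsg.Agent.S2299
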