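import Cfsg.Statements.S2820
import Cfsg.Agent.H75.Basic

set_option autoImplicit false
open Cfsg
open Subgroup
open scoped commutatorElement

namespace Cfsg.Agent.S2820

/-- Let A and B be subnormal subgroups of the finite group H with A a p-group and B = O^p(B) (B generated by its elements of order prime to p). Then A normalizes B and B = O^p(AB), the subgroup of ⟨A, B⟩ generated by its elements of order prime to p. -/
theorem result {H : Type*} [Group H] [Finite H] {p : ℕ} [Fact p.Prime] (A B : Subgroup H) (hA : A.IsSubnormal) (hB : B.IsSubnormal) (hAp : IsPGroup p ↥A) (hBres : (Cfsg.pResidual p ↥B).map B.subtype = B) : A ≤ Subgroup.normalizer (B : Set H) ∧ (Cfsg.pResidual p ↥(A ⊔ B)).map (A ⊔ B).subtype = B := by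
  have hres : H75.resOf p B = B := by rw [← H75.map_pResidual_eq_resOf]; exact hBres
  set P := Cfsg.pCore p H
  have hPn := H1.pCore_normal' p H
  have hAP : A ≤ P := H75.le_pCore_of_subnormal hA hAp
  set X := P ⊔ B with hX
  have key : ∀ K : Subgroup H, K.IsSubnormal → B ≤ K → H75.resOf p X ≤ H75.resOf p (K ⊓ X) := by
    intro K hK
    induction hK with
    | top => intro _; rw [top_inf_eq]
    | step U W hUW _ hUn ih =>
      intro hBU
      refine (ih (hBU.trans hUW)).trans ?_
      rw [← H75.resOf_resOf (W ⊓ X)]
      refine H75.resOf_mono (H75.resOf_le_of_sup (P := P ⊓ (W ⊓ X)) ?_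
        ((H1.isPGroup_pCore p H).to_inf_left) ?_)
      · have h1 : W ⊓ X ≤ normalizer (U : Set H) :=
          inf_le_left.trans ((normal_subgroupOf_iff_le_normalizer hUW).mp hUn)
        exact (le_inf h1 (inf_le_right.trans le_normalizer)).trans
          (H75.normalizer_inf_le_normalizer_inf _ _)
      · refine le_antisymm (sup_le (inf_le_inf_right _ hUW) inf_le_right) ?_
        intro x hx
        obtain ⟨hxW, hxX⟩ := mem_inf.mp hx
        obtain ⟨q, hq, b, hb, rfl⟩ := mem_sup_of_normal_left.mp hxX
        have hbX : b ∈ X := mem_sup_right hb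
        refine mul_mem (mem_sup_right (mem_inf.mpr ⟨hq, mem_inf.mpr ⟨?_, mem_sup_left hq⟩⟩))
          (mem_sup_left (mem_inf.mpr ⟨hBU hb, hbX⟩))
        simpa using mul_mem hxW (inv_mem (hUW (hBU hb)))
  have h1 : H75.resOf p X = B := by
    refine le_antisymm ?_ (hres.ge.trans (H75.resOf_mono le_sup_right))
    have := key B hB le_rfl
    rwa [inf_of_le_left (show B ≤ X from le_sup_right), hres] at this
  constructor
  · exact (hAP.trans (le_sup_left : P ≤ X)).trans
      (le_normalizer.trans ((H75.normalizer_le_normalizer_resOf (p := p) X).trans (le_of_eq (by rw [h1]))))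
  · rw [H75.map_pResidual_eq_resOf]
    exact le_antisymm ((H75.resOf_mono (sup_le_sup_right hAP B)).trans h1.le)
      (hres.ge.trans (H75.resOf_mono le_sup_right))

end Cfsg.Agent.S2820
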