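import Cfsg.Statements.S2007
import Cfsg.Agent.H73.NormalSylow

set_option autoImplicit false
open Cfsg

namespace Cfsg.Agent.S2007

/-- Let p be a prime, G a finite group with Sylow p-subgroup S, and T a normal subgroup of S containing C_S(T). If N_G(T)/C_G(T) is a p-group (every element of N_G(T) of order prime to p centralizes T), then N_G(T) has a normal p-complement. -/
theorem result {G : Type*} [Group G] [Finite G] {p : ℕ} [Fact p.Prime] (S : Sylow p G) (T : Subgroup G) (hTS : T ≤ (S : Subgroup G)) (hTn : (S : Subgroup G) ≤ Subgroup.normalizer ((T : Subgroup G) : Set G)) (hC : (S : Subgroup G) ⊓ Subgroup.centralizer ((T : Subgroup G) : Set G) ≤ T) (hN : ∀ g ∈ Subgroup.normalizer ((T : Subgroup G) : Set G), (orderOf g).Coprime p → g ∈ Subgroup.centralizer ((T : Subgroup G) : Set G)) : Cfsg.HasNormalPComplement p ↥(Subgroup.normalizer ((T : Subgroup G) : Set G)) := by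
  set N := Subgroup.normalizer (T : Set G)
  set C := (Subgroup.centralizer (T : Set G)).subgroupOf N
  haveI : C.Normal := by
    constructor
    intro c hc n
    change (n : G) * (c : G) * (n : G)⁻¹ ∈ Subgroup.centralizer (T : Set G)
    rw [Subgroup.mem_centralizer_iff]
    intro t ht
    have h1 : (n : G)⁻¹ * t * n ∈ T := (Subgroup.mem_normalizer_iff''.mp n.2 t).mp ht
    have h2 : (n : G)⁻¹ * t * n * c = c * ((n : G)⁻¹ * t * n) :=
      Subgroup.mem_centralizer_iff.mp hc _ h1
    calc t * ((n : G) * c * (n : G)⁻¹) = (n : G) * ((n : G)⁻¹ * t * n * c) * (n : G)⁻¹ := by group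
      _ = (n : G) * (c * ((n : G)⁻¹ * t * n)) * (n : G)⁻¹ := by rw [h2]
      _ = _ := by group
  refine H73.hasNormalPComplement_of_central (S.subtype hTn) C (fun x hx c hc => ?_) fun x hx => ?_
  · exact Subtype.ext (Subgroup.mem_centralizer_iff.mp hc (x : G) (hC ⟨hx.1, hx.2⟩))
  · exact hN x x.2 (by rwa [Subgroup.orderOf_coe])

end Cfsg.Agent.S2007
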