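import Cfsg.Statements.S3839
import Cfsg.Agent.H5.Frobenius
import Cfsg.Agent.H79.Sylow

set_option autoImplicit false
open Cfsg

namespace Cfsg.Agent.S3839

variable {G : Type*} [Group G] [Finite G] {p : ℕ} [Fact p.Prime]

/-- A `p'`-element of a subgroup with normal `p`-complement centralizes the `p`-groups it normalizes. -/
theorem cent_of_npc {N : Subgroup G} (h : Cfsg.HasNormalPComplement p N) {R : Subgroup G}
    (hR : IsPGroup p R) (hRN : R ≤ N) {v : G} (hvN : v ∈ N)
    (hvR : v ∈ Subgroup.normalizer (R : Set G)) (hv : (orderOf v).Coprime p) :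
    ∀ r ∈ R, r * v = v * r := by
  intro r hr
  have h1 : (⟨v, hvN⟩ : N) ∈ Subgroup.normalizer ((R.subgroupOf N : Subgroup N) : Set N) := by
    rw [Subgroup.mem_normalizer_iff] at hvR ⊢
    intro y
    simp only [Subgroup.mem_subgroupOf, Subgroup.coe_mul, InvMemClass.coe_inv]
    exact hvR y
  have h2 := H5.frobenius_of_hasNormalPComplement h
    (hR.comap_of_injective N.subtype N.subtype_injective) h1
    (by rw [Subgroup.orderOf_mk]; exact hv)
  exact congrArg Subtype.val (h2 ⟨r, hRN hr⟩ (Subgroup.mem_subgroupOf.2 hr))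

/-- `S` meets `L` in a Sylow subgroup of `L`. -/
def SylMeet (S : Sylow p G) (L : Subgroup G) : Prop :=
  ∃ T : Sylow p L, (T : Subgroup L) = (S : Subgroup G).subgroupOf L

theorem sylMeet_top (S : Sylow p G) : SylMeet S ⊤ :=
  ⟨S.subtype le_top, S.coe_subtype le_top⟩

/-- A subgroup of `M` has an `M`-conjugate meeting `S` in a Sylow subgroup. -/
theorem exists_sylMeet_conj (S : Sylow p G) {M : Subgroup G} (hSM : SylMeet S M) {K : Subgroup G}
    (hK : K ≤ M) : ∃ a ∈ M, SylMeet S (K.map (MulAut.conj a).toMonoidHom) := by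
  obtain ⟨TM, hTM⟩ := hSM
  obtain ⟨T⟩ : Nonempty (Sylow p K) := inferInstance
  obtain ⟨P, hP⟩ := (T.isPGroup'.map (Subgroup.inclusion hK)).exists_le_sylow
  obtain ⟨a, ha⟩ := MulAction.exists_smul_eq M P TM
  refine ⟨a, a.2, ?_⟩
  set K' := K.map (MulAut.conj (a : G)).toMonoidHom with hK'
  obtain ⟨T', hT'⟩ := (S.isPGroup'.comap_of_injective K'.subtype K'.subtype_injective :
    IsPGroup p ((S : Subgroup G).subgroupOf K')).exists_le_sylow
  refine ⟨T', (Subgroup.eq_of_le_of_card_ge hT' ?_).symm⟩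
  have hT : ∀ t : (T : Subgroup K), (a : G) * ((t : K) : G) * (a : G)⁻¹ ∈ (S : Subgroup G) := by
    intro t
    have h1 : a * Subgroup.inclusion hK (t : K) * a⁻¹ ∈ ((a • P : Sylow p M) : Subgroup M) :=
      Subgroup.smul_mem_pointwise_smul _ (MulAut.conj a) _ (hP (Subgroup.mem_map_of_mem _ t.2))
    rw [ha, hTM] at h1
    exact Subgroup.mem_subgroupOf.1 h1
  have hcard : Nat.card (T' : Subgroup K') = Nat.card (T : Subgroup K) := by
    rw [T'.card_eq_multiplicity, T.card_eq_multiplicity, hK',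
      Subgroup.card_map_of_injective (MulAut.conj (a : G)).injective]
  rw [hcard]
  refine Nat.card_le_card_of_injective (fun t => ⟨⟨(a : G) * ((t : K) : G) * (a : G)⁻¹,
    Subgroup.mem_map_of_mem _ (t : K).2⟩, Subgroup.mem_subgroupOf.2 (hT t)⟩) ?_
  intro t t' h
  have h' := congrArg (fun y : (S : Subgroup G).subgroupOf K' => ((y : K') : G)) h
  exact Subtype.ext (Subtype.ext (mul_left_cancel (mul_right_cancel h')))

theorem conj_mem_inf {S : Sylow p G} {D : Subgroup G}
    (hD : Cfsg.IsStronglyClosed D (S : Subgroup G)) {s : G} (hs : s ∈ S) {d : G} (hd : d ∈ D) :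
    s * d * s⁻¹ ∈ D :=
  hD.2 d hd s (mul_mem (mul_mem hs (hD.1 hd)) (inv_mem hs))

theorem mem_normalizer_sup {y : G} {A B : Subgroup G} (hA : y ∈ Subgroup.normalizer (A : Set G))
    (hB : y ∈ Subgroup.normalizer (B : Set G)) : y ∈ Subgroup.normalizer ((A ⊔ B : Subgroup G) : Set G) := by
  apply Subgroup.mem_normalizer_fintype
  intro w hw
  have hle : A ⊔ B ≤ (A ⊔ B).comap (MulAut.conj y).toMonoidHom :=
    sup_le (fun d hd => Subgroup.mem_sup_left ((Subgroup.mem_normalizer_iff.1 hA d).1 hd))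
      (fun d hd => Subgroup.mem_sup_right ((Subgroup.mem_normalizer_iff.1 hB d).1 hd))
  exact hle hw

/-- The Frattini step. -/
theorem frattini_step (S : Sylow p G) {D : Subgroup G} (hD : Cfsg.IsStronglyClosed D (S : Subgroup G))
    (L C : Subgroup G) (hCL : C ≤ L) [hCn : (C.subgroupOf L).Normal] (hSL : SylMeet S L)
    (hN : ∀ v ∈ L, v ∈ Subgroup.normalizer ((D ⊓ C : Subgroup G) : Set G) →
      (orderOf v).Coprime p → v ∈ C) :
    ∀ x ∈ L, (orderOf x).Coprime p → x ∈ C := by
  obtain ⟨T, hT⟩ := hSL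
  have hT' : ∀ y : L, y ∈ (T : Subgroup L) ↔ (y : G) ∈ S := fun y => by
    rw [hT]; exact Subgroup.mem_subgroupOf
  set C' := C.subgroupOf L
  set Q : Subgroup C' := (T : Subgroup L).subgroupOf C' with hQdef
  have hQp : IsPGroup p Q := T.isPGroup'.comap_of_injective C'.subtype C'.subtype_injective
  obtain ⟨P, hP⟩ := hQp.exists_le_sylow
  have hPQ : (P : Subgroup C') = Q := by
    refine le_antisymm ?_ hP
    have h1 := H79.not_dvd_relIndex_normal C' T
    obtain ⟨j, hj⟩ := hQp.exists_card_eq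
    have hle : Nat.card (P : Subgroup C') ≤ Nat.card Q := by
      rw [P.card_eq_multiplicity, ← Q.card_mul_index,
        Nat.factorization_mul Nat.card_pos.ne' Subgroup.index_ne_zero_of_finite, Finsupp.add_apply,
        Nat.factorization_eq_zero_of_not_dvd (show ¬ p ∣ Q.index from h1), add_zero, hj,
        Nat.Prime.factorization_pow Fact.out, Finsupp.single_eq_same]
    exact (Subgroup.eq_of_le_of_card_ge hP hle).symm.le
  have htop : Subgroup.normalizer (((P : Subgroup C').map C'.subtype : Subgroup L) : Set L) ⊔ C' = ⊤ :=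
    P.normalizer_sup_eq_top
  have key : ∀ n ∈ Subgroup.normalizer (((P : Subgroup C').map C'.subtype : Subgroup L) : Set L),
      (n : G) ∈ Subgroup.normalizer ((D ⊓ C : Subgroup G) : Set G) := by
    intro n hn
    apply Subgroup.mem_normalizer_fintype
    intro d hd
    obtain ⟨hdD, hdC⟩ := hd
    have hdT : (⟨d, hCL hdC⟩ : L) ∈ ((P : Subgroup C').map C'.subtype : Subgroup L) := by
      rw [hPQ, hQdef, Subgroup.subgroupOf_map_subtype]
      exact ⟨(hT' _).2 (hD.1 hdD), Subgroup.mem_subgroupOf.2 hdC⟩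
    have h1 := (Subgroup.mem_normalizer_iff.1 hn _).1 hdT
    rw [hPQ, hQdef, Subgroup.subgroupOf_map_subtype] at h1
    exact ⟨hD.2 d hdD n ((hT' _).1 h1.1), Subgroup.mem_subgroupOf.1 h1.2⟩
  intro x hx hxo
  have hpg : IsPGroup p (L ⧸ C') := by
    intro q
    obtain ⟨l, rfl⟩ := QuotientGroup.mk_surjective q
    obtain ⟨n, hn, c, hc, rfl⟩ :=
      Subgroup.mem_sup_of_normal_right.1 (htop.symm ▸ Subgroup.mem_top l : l ∈ _ ⊔ C')
    obtain ⟨u, v, huv, ⟨k, hu⟩, hv, -, hvn⟩ := H5.exists_p_decomposition (p := p) n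
    have hvC : v ∈ C' := Subgroup.mem_subgroupOf.2 (hN v v.2
      (key v (Subgroup.zpowers_le.2 hn hvn)) (by rwa [Subgroup.orderOf_coe]))
    refine ⟨k, ?_⟩
    rw [QuotientGroup.mk_mul, (QuotientGroup.eq_one_iff c).2 hc, mul_one, huv,
      QuotientGroup.mk_mul, (QuotientGroup.eq_one_iff v).2 hvC, mul_one, ← QuotientGroup.mk_pow, hu,
      QuotientGroup.mk_one]
  exact Subgroup.mem_subgroupOf.1 (H5.pResidual_le_of_isPGroup_quotient hpg
    (H5.mem_pResidual_of_coprime (show (orderOf (⟨x, hx⟩ : L)).Coprime p by rwa [Subgroup.orderOf_mk])))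

theorem npc_conj (U : Subgroup G) (g : G)
    (h : Cfsg.HasNormalPComplement p
      (Subgroup.normalizer ((U.map (MulAut.conj g).toMonoidHom : Subgroup G) : Set G))) :
    Cfsg.HasNormalPComplement p (Subgroup.normalizer (U : Set G)) := by
  rw [← Subgroup.map_equiv_normalizer_eq] at h
  exact (H5.hasNormalPComplement_congr
    (Subgroup.equivMapOfInjective _ _ (MulAut.conj g).injective)).2 h

/-- Step A: `p'`-elements normalizing `U` centralize it. -/
theorem stepA (S : Sylow p G) {D : Subgroup G} (hD : Cfsg.IsStronglyClosed D (S : Subgroup G))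
    (U : Subgroup G) (hUD : U ≤ D) (hUp : IsPGroup p U)
    (hcU : ¬ D ⊓ Subgroup.centralizer (U : Set G) ≤ U)
    (hSM : SylMeet S (Subgroup.normalizer (U : Set G)))
    (big : ∀ V : Subgroup G, U < V → V ≤ D →
      Cfsg.HasNormalPComplement p ↥(Subgroup.normalizer (V : Set G))) :
    ∀ x ∈ Subgroup.normalizer (U : Set G), (orderOf x).Coprime p →
      x ∈ Subgroup.centralizer (U : Set G) := by
  have hCn : ((Subgroup.centralizer (U : Set G)).subgroupOf (Subgroup.normalizer (U : Set G))).Normal :=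
    Subgroup.normal_subgroupOf_centralizer_normalizer _
  refine frattini_step S hD _ _ (Subgroup.centralizer_le_normalizer _) hSM ?_
  intro v hvM hvn hvo
  set V : Subgroup G := (D ⊓ Subgroup.centralizer (U : Set G)) ⊔ U with hVdef
  have hUV : U < V := by
    refine lt_of_le_of_ne (le_sup_right : U ≤ (D ⊓ Subgroup.centralizer (U : Set G)) ⊔ U) ?_
    intro e
    exact hcU ((le_sup_left : D ⊓ Subgroup.centralizer (U : Set G) ≤
      (D ⊓ Subgroup.centralizer (U : Set G)) ⊔ U).trans e.ge)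
  have hVD : V ≤ D := sup_le inf_le_left hUD
  have hV := big V hUV hVD
  have hvV : v ∈ Subgroup.normalizer (V : Set G) := mem_normalizer_sup hvn hvM
  have hUN : U ≤ Subgroup.normalizer (V : Set G) := hUV.le.trans Subgroup.le_normalizer
  exact Subgroup.mem_centralizer_iff.2 fun r hr => cent_of_npc hV hUp hUN hvV hvM hvo r hr

/-- `D` meets the normalizer of `R` above `U`. -/
theorem lt_inf_normalizer (S : Sylow p G) {D : Subgroup G}
    (hD : Cfsg.IsStronglyClosed D (S : Subgroup G)) (U R : Subgroup G) (hUD : U ≤ D)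
    (hcU : ¬ D ⊓ Subgroup.centralizer (U : Set G) ≤ U) (hUR : U ≤ R) (hRS : R ≤ (S : Subgroup G))
    (hRM : R ≤ Subgroup.normalizer (U : Set G)) (heq : U = D ⊓ R) :
    U < D ⊓ (Subgroup.normalizer (R : Set G) ⊓ Subgroup.normalizer (U : Set G)) := by
  set M := Subgroup.normalizer (U : Set G) with hM
  have hUL : U ≤ D ⊓ (Subgroup.normalizer (R : Set G) ⊓ M) :=
    le_inf hUD (le_inf (hUR.trans Subgroup.le_normalizer) Subgroup.le_normalizer)
  refine lt_of_le_of_ne hUL fun e => ?_
  set E := D ⊓ M with hE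
  have hUlt : U < E := by
    refine lt_of_le_of_ne (le_inf hUD Subgroup.le_normalizer) fun e2 => ?_
    apply hcU
    intro d hd
    rw [e2]
    exact ⟨hd.1, Subgroup.centralizer_le_normalizer _ hd.2⟩
  have hle : E ⊔ R ≤ (S : Subgroup G) := sup_le (inf_le_left.trans hD.1) hRS
  by_cases hER : E ≤ R
  · exact hUlt.not_ge (heq.symm ▸ le_inf inf_le_left hER)
  have hnlt : R.subgroupOf (E ⊔ R) < ⊤ := by
    rw [lt_top_iff_ne_top, Ne, Subgroup.subgroupOf_eq_top]
    exact fun h => hER (le_sup_left.trans h)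
  haveI : Group.IsNilpotent ↥(E ⊔ R) := (S.isPGroup'.to_le hle).isNilpotent
  obtain ⟨y, hy1, hy2⟩ := SetLike.exists_of_lt (Group.normalizerCondition_of_isNilpotent _ hnlt)
  have hRE : R ≤ Subgroup.normalizer (E : Set G) := by
    intro r hr
    apply Subgroup.mem_normalizer_fintype
    intro d hd
    exact ⟨conj_mem_inf hD (hRS hr) hd.1, M.mul_mem (M.mul_mem (hRM hr) hd.2) (M.inv_mem (hRM hr))⟩
  obtain ⟨d, hd, r, hr, hdr⟩ : ∃ d ∈ E, ∃ r ∈ R, d * r = (y : G) := by
    have hy := y.2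
    rw [← SetLike.mem_coe, Subgroup.coe_mul_of_right_le_normalizer_left _ _ hRE] at hy
    exact Set.mem_mul.1 hy
  have hyN : (y : G) ∈ Subgroup.normalizer (R : Set G) := by
    apply Subgroup.mem_normalizer_fintype
    intro z hz
    exact Subgroup.mem_subgroupOf.1 ((Subgroup.mem_normalizer_iff.1 hy1
      ⟨z, Subgroup.mem_sup_right hz⟩).1 (Subgroup.mem_subgroupOf.2 hz))
  have hd' : d = (y : G) * r⁻¹ := by rw [← hdr]; group
  have hdN : d ∈ Subgroup.normalizer (R : Set G) := by
    rw [hd']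
    exact mul_mem hyN (inv_mem (Subgroup.le_normalizer hr))
  have hdU : d ∈ U := e.ge ⟨hd.1, hdN, hd.2⟩
  exact hy2 (Subgroup.mem_subgroupOf.2 (hdr ▸ mul_mem (hUR hdU) hr))

/-- Elements of `L` acting trivially on `R / U`. -/
def trivMod (U R L : Subgroup G) (hLU : L ≤ Subgroup.normalizer (U : Set G)) : Subgroup G where
  carrier := {y | y ∈ L ∧ ∀ r ∈ R, y * r * y⁻¹ * r⁻¹ ∈ U}
  one_mem' := ⟨one_mem _, fun r _ => by simp⟩
  mul_mem' := by
    rintro y z ⟨hy, hy'⟩ ⟨hz, hz'⟩
    refine ⟨mul_mem hy hz, fun r hr => ?_⟩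
    have h1 := (Subgroup.mem_normalizer_iff.1 (hLU hy) _).1 (hz' r hr)
    have := mul_mem h1 (hy' r hr)
    simpa [mul_assoc] using this
  inv_mem' := by
    rintro y ⟨hy, hy'⟩
    refine ⟨inv_mem hy, fun r hr => ?_⟩
    have h1 := (Subgroup.mem_normalizer_iff.1 (hLU (inv_mem hy)) _).1 (inv_mem (hy' r hr))
    simpa [mul_assoc] using h1

omit [Finite G] in
theorem trivMod_normal (U R L : Subgroup G) (hLU : L ≤ Subgroup.normalizer (U : Set G))
    (hLR : L ≤ Subgroup.normalizer (R : Set G)) : ((trivMod U R L hLU).subgroupOf L).Normal := by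
  refine ⟨fun y hy l => Subgroup.mem_subgroupOf.2 ⟨(l * y * l⁻¹).2, fun r hr => ?_⟩⟩
  have hy' := (Subgroup.mem_subgroupOf.1 hy).2 ((l : G)⁻¹ * r * l)
    (by simpa using (Subgroup.mem_normalizer_iff.1 (hLR (inv_mem l.2)) r).1 hr)
  have h1 := (Subgroup.mem_normalizer_iff.1 (hLU l.2) _).1 hy'
  simpa [mul_assoc] using h1

theorem cent_of_trivial {U : Subgroup G} (hUp : IsPGroup p U) {x r : G}
    (hu : x * r * x⁻¹ * r⁻¹ ∈ U) (hxU : x ∈ Subgroup.centralizer (U : Set G))
    (hxo : (orderOf x).Coprime p) : r * x = x * r := by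
  set u := x * r * x⁻¹ * r⁻¹ with hu'
  have hux : Commute x u := (Subgroup.mem_centralizer_iff.1 hxU u hu).symm
  have hpow : ∀ n : ℕ, x ^ n * r * (x ^ n)⁻¹ = u ^ n * r := by
    intro n
    induction n with
    | zero => simp
    | succ n ihn =>
      calc x ^ (n + 1) * r * (x ^ (n + 1))⁻¹ = x * (x ^ n * r * (x ^ n)⁻¹) * x⁻¹ := by
            rw [pow_succ']; group
        _ = x * (u ^ n * r) * x⁻¹ := by rw [ihn]
        _ = (x * u ^ n) * r * x⁻¹ := by group
        _ = (u ^ n * x) * r * x⁻¹ := by rw [(hux.pow_right n).eq]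
        _ = u ^ n * u * r := by rw [hu']; group
        _ = u ^ (n + 1) * r := by rw [← pow_succ]
  have h1 := hpow (orderOf x)
  rw [pow_orderOf_eq_one, one_mul, inv_one, mul_one] at h1
  have h2 : u ^ orderOf x = 1 := mul_right_cancel (b := r) (by rw [one_mul]; exact h1.symm)
  obtain ⟨k, hk⟩ := hUp ⟨u, hu⟩
  have h3 : u ^ p ^ k = 1 := congrArg Subtype.val hk
  have h4 : u = 1 := orderOf_eq_one_iff.1 (Nat.eq_one_of_dvd_coprimes (hxo.pow_right k)
    (orderOf_dvd_of_pow_eq_one h2) (orderOf_dvd_of_pow_eq_one h3))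
  rw [hu', mul_inv_eq_one, mul_inv_eq_iff_eq_mul] at h4
  exact h4.symm

/-- Step B, for `R` in good position. -/
theorem stepB (S : Sylow p G) {D : Subgroup G} (hD : Cfsg.IsStronglyClosed D (S : Subgroup G))
    (U : Subgroup G) (hUD : U ≤ D) (hUp : IsPGroup p U)
    (hcU : ¬ D ⊓ Subgroup.centralizer (U : Set G) ≤ U)
    (hSM : SylMeet S (Subgroup.normalizer (U : Set G)))
    (big : ∀ V : Subgroup G, U < V → V ≤ D →
      Cfsg.HasNormalPComplement p ↥(Subgroup.normalizer (V : Set G)))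
    (R : Subgroup G) (hRp : IsPGroup p R) (hUR : U ≤ R) (hRM : R ≤ Subgroup.normalizer (U : Set G))
    (hSL : SylMeet S (Subgroup.normalizer (R : Set G) ⊓ Subgroup.normalizer (U : Set G)))
    (x : G) (hxR : x ∈ Subgroup.normalizer (R : Set G)) (hxU : x ∈ Subgroup.normalizer (U : Set G))
    (hxo : (orderOf x).Coprime p) : ∀ r ∈ R, r * x = x * r := by
  set L := Subgroup.normalizer (R : Set G) ⊓ Subgroup.normalizer (U : Set G) with hL
  have hRS : R ≤ (S : Subgroup G) := by
    obtain ⟨T, hT⟩ := hSL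
    have hRL : R ≤ L := le_inf Subgroup.le_normalizer hRM
    have hn : (R.subgroupOf L).Normal :=
      Subgroup.normal_subgroupOf_iff_le_normalizer hRL |>.2 inf_le_left
    have hle : R.subgroupOf L ≤ (T : Subgroup L) := by
      obtain ⟨P, hP⟩ := (hRp.comap_of_injective L.subtype L.subtype_injective :
        IsPGroup p (R.subgroupOf L)).exists_le_sylow
      obtain ⟨g, rfl⟩ := MulAction.exists_smul_eq L P T
      intro y hy
      have h1 : g⁻¹ * y * g ∈ (P : Subgroup L) := hP (by simpa using hn.conj_mem y hy g⁻¹)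
      have h2 := Subgroup.smul_mem_pointwise_smul _ (MulAut.conj g) _ h1
      rw [Sylow.coe_subgroup_smul]
      simpa [mul_assoc] using h2
    intro r hr
    exact Subgroup.mem_subgroupOf.1
      (hT ▸ hle (Subgroup.mem_subgroupOf.2 hr : (⟨r, hRL hr⟩ : L) ∈ R.subgroupOf L))
  rcases (le_inf hUD hUR : U ≤ D ⊓ R).lt_or_eq with hlt | heq
  · intro r hr
    have hRN : R ≤ Subgroup.normalizer ((D ⊓ R : Subgroup G) : Set G) := by
      intro s hs
      apply Subgroup.mem_normalizer_fintype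
      intro d hd
      exact ⟨conj_mem_inf hD (hRS hs) hd.1, R.mul_mem (R.mul_mem hs hd.2) (R.inv_mem hs)⟩
    have hxn : x ∈ Subgroup.normalizer ((D ⊓ R : Subgroup G) : Set G) := by
      apply Subgroup.mem_normalizer_fintype
      intro d hd
      have h1 := (Subgroup.mem_normalizer_iff.1 hxR d).1 hd.2
      exact ⟨hD.2 d hd.1 x (hRS h1), h1⟩
    exact cent_of_npc (big _ hlt inf_le_left) hRp hRN hxn hxR hxo r hr
  -- now `D ∩ R = U`
  set C := trivMod U R L inf_le_right with hC
  have hCL : C ≤ L := fun y hy => hy.1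
  have hCn : (C.subgroupOf L).Normal := trivMod_normal U R L inf_le_right inf_le_left
  have hWC : D ⊓ L ≤ C := by
    rintro d ⟨hdD, hdL⟩
    refine ⟨hdL, fun r hr => ?_⟩
    rw [heq]
    refine ⟨?_, R.mul_mem ((Subgroup.mem_normalizer_iff.1 hdL.1 r).1 hr) (R.inv_mem hr)⟩
    have h1 : r * d⁻¹ * r⁻¹ ∈ D := conj_mem_inf hD (hRS hr) (inv_mem hdD)
    simpa [mul_assoc] using mul_mem hdD h1
  have hxC : x ∈ C := by
    refine frattini_step S hD L C hCL hSL ?_ x ⟨hxR, hxU⟩ hxo
    intro v hvL hvn hvo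
    have hW : D ⊓ C = D ⊓ L := le_antisymm (inf_le_inf_left _ hCL) (le_inf inf_le_left hWC)
    rw [hW] at hvn
    have hRW : R ≤ Subgroup.normalizer ((D ⊓ L : Subgroup G) : Set G) := by
      intro r hr
      apply Subgroup.mem_normalizer_fintype
      intro d hd
      have hrL : r ∈ L := ⟨Subgroup.le_normalizer hr, hRM hr⟩
      exact ⟨conj_mem_inf hD (hRS hr) hd.1, L.mul_mem (L.mul_mem hrL hd.2) (L.inv_mem hrL)⟩
    have hUW : U < D ⊓ L := lt_inf_normalizer S hD U R hUD hcU hUR hRS hRM heq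
    refine ⟨hvL, fun r hr => ?_⟩
    have hc := cent_of_npc (big _ hUW inf_le_left) hRp hRW hvn hvL.1 hvo r hr
    rw [← hc]; simp
  intro r hr
  exact cent_of_trivial hUp (hxC.2 r hr) (stepA S hD U hUD hUp hcU hSM big x hxU hxo) hxo

theorem normalizer_npc (S : Sylow p G) (D : Subgroup G) (hD : Cfsg.IsStronglyClosed D (S : Subgroup G))
    (hyp : ∀ U : Subgroup G, U ≤ D → D ⊓ Subgroup.centralizer (U : Set G) ≤ U →
      Cfsg.HasNormalPComplement p ↥(Subgroup.normalizer (U : Set G))) :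
    ∀ m (U : Subgroup G), U ≤ D → Nat.card D ≤ Nat.card U + m →
      Cfsg.HasNormalPComplement p ↥(Subgroup.normalizer (U : Set G)) := by
  intro m
  induction m using Nat.strong_induction_on with
  | _ m ih =>
  intro U₀ hU₀D hcard₀
  obtain ⟨g, -, hg⟩ := exists_sylMeet_conj S (sylMeet_top S)
    (le_top : Subgroup.normalizer (U₀ : Set G) ≤ ⊤)
  rw [Subgroup.map_equiv_normalizer_eq] at hg
  apply npc_conj U₀ g
  set U := U₀.map (MulAut.conj g).toMonoidHom with hU
  have hUp : IsPGroup p U := (S.isPGroup'.to_le (hU₀D.trans hD.1)).map _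
  have hUD : U ≤ D := by
    obtain ⟨T, hT⟩ := hg
    have hle : U.subgroupOf (Subgroup.normalizer (U : Set G)) ≤ (T : Subgroup _) := by
      obtain ⟨P, hP⟩ := (hUp.comap_of_injective _ Subtype.val_injective :
        IsPGroup p (U.subgroupOf (Subgroup.normalizer (U : Set G)))).exists_le_sylow
      obtain ⟨a, rfl⟩ := MulAction.exists_smul_eq (Subgroup.normalizer (U : Set G)) P T
      intro y hy
      have h1 : a⁻¹ * y * a ∈ (P : Subgroup _) := hP (by
        simpa using (Subgroup.normal_in_normalizer (H := U)).conj_mem y hy a⁻¹)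
      have h2 := Subgroup.smul_mem_pointwise_smul _ (MulAut.conj a) _ h1
      rw [Sylow.coe_subgroup_smul]
      simpa [mul_assoc] using h2
    rintro _ ⟨u, hu, rfl⟩
    have hmem : (MulAut.conj g).toMonoidHom u ∈ U := Subgroup.mem_map_of_mem _ hu
    refine hD.2 u (hU₀D hu) g ?_
    exact Subgroup.mem_subgroupOf.1 (hT ▸ hle (Subgroup.mem_subgroupOf.2 hmem :
      (⟨_, Subgroup.le_normalizer hmem⟩ : Subgroup.normalizer (U : Set G)) ∈
        U.subgroupOf (Subgroup.normalizer (U : Set G))))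
  have hcard : Nat.card D ≤ Nat.card U + m := by
    rwa [hU, Subgroup.card_map_of_injective (MulAut.conj g).injective]
  clear hcard₀
  by_cases hcU : D ⊓ Subgroup.centralizer (U : Set G) ≤ U
  · exact hyp U hUD hcU
  have big : ∀ V : Subgroup G, U < V → V ≤ D →
      Cfsg.HasNormalPComplement p ↥(Subgroup.normalizer (V : Set G)) := by
    intro V hV hVD
    have hlt : Nat.card U < Nat.card V := by
      by_contra hh
      exact hV.ne (Subgroup.eq_of_le_of_card_ge hV.le (not_lt.1 hh))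
    have hle := Subgroup.card_le_of_le hVD
    exact ih (Nat.card D - Nat.card V) (by omega) V hVD (by omega)
  set M := Subgroup.normalizer (U : Set G) with hM
  obtain ⟨TM⟩ : Nonempty (Sylow p M) := inferInstance
  refine H5.hasNormalPComplement_of_frobenius TM fun Q hQ x hx hxo => ?_
  refine fun q hq => Subtype.ext ?_
  set R₀ := Q.map M.subtype ⊔ U with hR₀
  have hQ'M : Q.map M.subtype ≤ M := Subgroup.map_subtype_le _
  have hR₀p : IsPGroup p R₀ :=
    ((TM.isPGroup'.to_le hQ).map _).to_sup_of_normal_right' hUp hQ'M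
  have hR₀M : R₀ ≤ M := sup_le hQ'M Subgroup.le_normalizer
  have hx' : (x : G) ∈ Subgroup.normalizer (R₀ : Set G) :=
    mem_normalizer_sup (Subgroup.le_normalizer_map M.subtype (Subgroup.mem_map_of_mem _ hx)) x.2
  obtain ⟨a, haM, ha⟩ := exists_sylMeet_conj S hg
    (inf_le_right : Subgroup.normalizer (R₀ : Set G) ⊓ M ≤ M)
  set ψ := (MulAut.conj a).toMonoidHom with hψ
  have hMa : M.map ψ = M := by
    refine le_antisymm ?_ fun m hm => ⟨a⁻¹ * m * a, mul_mem (mul_mem (inv_mem haM) hm) haM, ?_⟩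
    · rintro _ ⟨m, hm, rfl⟩; exact mul_mem (mul_mem haM hm) (inv_mem haM)
    · simp [ψ, mul_assoc]
  rw [Subgroup.map_inf _ _ _ (MulAut.conj a).injective, Subgroup.map_equiv_normalizer_eq, hMa] at ha
  have hUR : U ≤ R₀.map ψ := fun u hu =>
    ⟨a⁻¹ * u * a, Subgroup.mem_sup_right (by
      have := (Subgroup.mem_normalizer_iff.1 (inv_mem haM : a⁻¹ ∈ M) u).1 hu
      simpa using this), by simp [ψ, mul_assoc]⟩
  have hkey := stepB S hD U hUD hUp hcU hg big (R₀.map ψ) (hR₀p.map _) hUR
    ((Subgroup.map_mono hR₀M).trans hMa.le) ha (ψ x)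
    (Subgroup.le_normalizer_map ψ (Subgroup.mem_map_of_mem ψ hx'))
    (mul_mem (mul_mem haM x.2) (inv_mem haM))
    (show (orderOf (MulAut.conj a (x : G))).Coprime p by
      rw [MulEquiv.orderOf_eq, Subgroup.orderOf_coe]; exact hxo)
    (ψ q) (Subgroup.mem_map_of_mem ψ (Subgroup.mem_sup_left ⟨q, hq, rfl⟩))
  rw [← map_mul, ← map_mul] at hkey
  exact (MulAut.conj a).injective hkey

/-- A Frobenius normal p-complement criterion relative to a strongly closed subgroup. Let G be a finite group, S a Sylow p-subgroup and D a subgroup of S strongly closed in S with respect to G. Then G has a normal p-complement if and only if N_G(U) has a normal p-complement for every subgroup U of D with C_D(U) ≤ U. -/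
theorem result {G : Type*} [Group G] [Finite G] {p : ℕ} [Fact p.Prime] (S : Sylow p G) (D : Subgroup G) (hD : Cfsg.IsStronglyClosed D (S : Subgroup G)) : Cfsg.HasNormalPComplement p G ↔ ∀ U : Subgroup G, U ≤ D → D ⊓ Subgroup.centralizer (U : Set G) ≤ U → Cfsg.HasNormalPComplement p ↥(Subgroup.normalizer (U : Set G)) := by
  refine ⟨fun h U _ _ => H5.hasNormalPComplement_subgroup _ h, fun h => ?_⟩
  have h1 := normalizer_npc S D hD h (Nat.card D) ⊥ bot_le (by omega)
  refine (H5.hasNormalPComplement_congr ?_).1 h1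
  exact (MulEquiv.subgroupCongr (Subgroup.normalizer_eq_top (⊥ : Subgroup G))).trans Subgroup.topEquiv

end Cfsg.Agent.S3839
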