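import Cfsg.Statements.S2300
import Cfsg.Agent.H17.SLCount

set_option autoImplicit false
open Cfsg

namespace Cfsg.Agent.S2300

/-- Over a finite field F with q elements, q even, every irreducible complex character of SL₂ has degree 1, q − 1, q or q + 1; and when q ≥ 4 (so that these four numbers are distinct) there are exactly one irreducible character of degree 1, one of degree q, (q − 2)/2 of degree q + 1 and q/2 of degree q − 1. -/
theorem result {F : Type*} [Field F] [Fintype F] [CharP F 2] :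
    (∀ χ : Matrix.SpecialLinearGroup (Fin 2) F → ℂ, Cfsg.IsIrrCharacter (Matrix.SpecialLinearGroup (Fin 2) F) χ →
      χ 1 = 1 ∨ χ 1 = (Fintype.card F : ℂ) - 1 ∨ χ 1 = (Fintype.card F : ℂ) ∨ χ 1 = (Fintype.card F : ℂ) + 1) ∧
    (4 ≤ Fintype.card F →
      Nat.card {χ : Cfsg.IrrCharacter (Matrix.SpecialLinearGroup (Fin 2) F) // (χ : Matrix.SpecialLinearGroup (Fin 2) F → ℂ) 1 = 1} = 1 ∧
      Nat.card {χ : Cfsg.IrrCharacter (Matrix.SpecialLinearGroup (Fin 2) F) // (χ : Matrix.SpecialLinearGroup (Fin 2) F → ℂ) 1 = (Fintype.card F : ℂ)} = 1 ∧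
      Nat.card {χ : Cfsg.IrrCharacter (Matrix.SpecialLinearGroup (Fin 2) F) // (χ : Matrix.SpecialLinearGroup (Fin 2) F → ℂ) 1 = (Fintype.card F : ℂ) + 1} = (Fintype.card F - 2) / 2 ∧
      Nat.card {χ : Cfsg.IrrCharacter (Matrix.SpecialLinearGroup (Fin 2) F) // (χ : Matrix.SpecialLinearGroup (Fin 2) F → ℂ) 1 = (Fintype.card F : ℂ) - 1} = Fintype.card F / 2) := by
  classical
  obtain ⟨C, hC⟩ := (H17.slEmb F).exists_nonSplit
  have h2 : (2 : F) = 0 := H17.two_eq_zero_of_char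
  refine ⟨fun χ hχ => ?_, fun hq => ?_⟩
  · rcases H17.sl_even_cases hC h2 ⟨χ, hχ⟩ with ⟨α, -, e⟩ | ⟨θ, -, e⟩ | e | e <;> simp only at e
    · exact Or.inr (Or.inr (Or.inr (by rw [e, (H17.slD hC).chT_one, H17.slD_q])))
    · exact Or.inr (Or.inl (by rw [e, (H17.slD hC).chC_one, H17.slD_q]))
    · exact Or.inl (by rw [e])
    · exact Or.inr (Or.inr (Or.inl (by rw [e, (H17.slD hC).stein_one, H17.slD_q])))
  have hdeg := fun (χ : Cfsg.IrrCharacter (Matrix.SpecialLinearGroup (Fin 2) F)) =>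
    H17.sl_even_by_degree hC h2 χ.2
  have fT : Nat.card {α : (H17.slD hC).T →* ℂˣ // α.comp (H17.slD hC).σT = α} = 1 := by
    rw [H17.card_fixed_T, Nat.card_eq_one_iff_unique]
    exact ⟨⟨fun a b => Subtype.ext ((H17.slT_sq_even hC h2 a.1 a.2).trans (H17.slT_sq_even hC h2 b.1 b.2).symm)⟩,
      ⟨⟨1, one_mul 1⟩⟩⟩
  have fC : Nat.card {α : (H17.slD hC).C →* ℂˣ // α.comp (H17.slD hC).σC = α} = 1 := by
    rw [H17.card_fixed_C, Nat.card_eq_one_iff_unique]
    exact ⟨⟨fun a b => Subtype.ext ((H17.slC_sq_even hC h2 a.1 a.2).trans (H17.slC_sq_even hC h2 b.1 b.2).symm)⟩,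
      ⟨⟨1, one_mul 1⟩⟩⟩
  refine ⟨H17.card_sl_deg_one_iff fun χ h => ((hdeg χ).2.2.2 h).resolve_right fun h => by omega,
    H17.card_sl_deg_q hC, ?_, ?_⟩
  · have hc := (H17.slD hC).card_seriesT
    rw [fT, H17.sl_card_T] at hc
    rw [Nat.card_congr (Equiv.subtypeEquivRight (q := fun χ : Cfsg.IrrCharacter (Matrix.SpecialLinearGroup (Fin 2) F) =>
      ∃ α : (H17.slD hC).T →* ℂˣ, α.comp (H17.slD hC).σT ≠ α ∧
        (χ : Matrix.SpecialLinearGroup (Fin 2) F → ℂ) = (H17.slD hC).chT α) fun χ => ⟨fun h => ?_, ?_⟩)]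
    · omega
    · obtain ⟨α, hα, e⟩ := (hdeg χ).1 h
      exact ⟨α, fun hf => hα (H17.eq_one_of_sq_eq_one (H17.slT_sq_even hC h2) ((H17.slT_fixed_iff hC α).1 hf)), e⟩
    · rintro ⟨α, -, e⟩
      rw [e, (H17.slD hC).chT_one, H17.slD_q]
  · have hc := (H17.slD hC).card_seriesC
    rw [fC, H17.sl_card_C] at hc
    rw [Nat.card_congr (Equiv.subtypeEquivRight (q := fun χ : Cfsg.IrrCharacter (Matrix.SpecialLinearGroup (Fin 2) F) =>
      ∃ α : (H17.slD hC).C →* ℂˣ, α.comp (H17.slD hC).σC ≠ α ∧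
        (χ : Matrix.SpecialLinearGroup (Fin 2) F → ℂ) = (H17.slD hC).chC α) fun χ => ⟨fun h => ?_, ?_⟩)]
    · omega
    · obtain ⟨α, hα, e⟩ := ((hdeg χ).2.2.1 h).resolve_right fun h => by omega
      exact ⟨α, fun hf => hα (H17.eq_one_of_sq_eq_one (H17.slC_sq_even hC h2) ((H17.slC_fixed_iff hC α).1 hf)), e⟩
    · rintro ⟨α, -, e⟩
      rw [e, (H17.slD hC).chC_one, H17.slD_q]

end Cfsg.Agent.S2300
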