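import Cfsg.Statements.S0065
import Mathlib.GroupTheory.Nilpotent

set_option autoImplicit false
open Cfsg

namespace Cfsg.Agent.S0065

/-- A nontrivial normal subgroup of a nilpotent group intersects the centre nontrivially. -/
theorem result {G : Type*} [Group G] [Finite G] [Group.IsNilpotent G]
    (N : Subgroup G) [N.Normal] (hN : N ≠ ⊥) : N ⊓ Subgroup.center G ≠ ⊥ := by
  classical
  have hex : ∃ k, N ⊓ Subgroup.upperCentralSeries G k ≠ ⊥ := ⟨Group.nilpotencyClass G, by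
    rw [Subgroup.upperCentralSeries_nilpotencyClass, inf_top_eq]; exact hN⟩
  obtain ⟨hk, hmin⟩ : N ⊓ Subgroup.upperCentralSeries G (Nat.find hex) ≠ ⊥ ∧
      ∀ j < Nat.find hex, N ⊓ Subgroup.upperCentralSeries G j = ⊥ :=
    ⟨Nat.find_spec hex, fun j hj => not_not.1 (Nat.find_min hex hj)⟩
  generalize Nat.find hex = k at hk hmin
  obtain ⟨j, rfl⟩ : ∃ j, k = j + 1 := by
    rcases k with _ | j
    · simp at hk
    · exact ⟨j, rfl⟩
  intro hcon
  apply hk
  rw [eq_bot_iff]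
  rintro x ⟨hxN, hx⟩
  rw [← hcon]
  refine ⟨hxN, Subgroup.mem_center_iff.2 fun y => ?_⟩
  have h1 : x * y * x⁻¹ * y⁻¹ ∈ N ⊓ Subgroup.upperCentralSeries G j := by
    refine ⟨?_, Subgroup.mem_upperCentralSeries_succ_iff.1 hx y⟩
    have := ‹N.Normal›.conj_mem _ (N.inv_mem hxN) y
    simpa [mul_assoc] using N.mul_mem hxN this
  rw [hmin j (Nat.lt_succ_self j)] at h1
  have h2 := Subgroup.mem_bot.1 h1
  rw [mul_inv_eq_one, mul_inv_eq_iff_eq_mul] at h2
  exact h2.symm

end Cfsg.Agent.S0065
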