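import Cfsg.Statements.S3863
import Mathlib

set_option autoImplicit false
open Cfsg

namespace Cfsg.Agent.S3863

/-- Let x be an element of the finite group G that is conjugate to its inverse. Then some 2-element conjugates x to its inverse; if the conjugacy class of x has odd size then x ^ 2 = 1; and x lies in, and is conjugate to its inverse inside, every normal subgroup of odd index. -/
theorem result {G : Type*} [Group G] [Finite G] (x : G) (hx : IsConj x x⁻¹) : (∃ t : G, (∃ j : ℕ, orderOf t = 2 ^ j) ∧ t * x * t⁻¹ = x⁻¹) ∧ (Odd (Subgroup.centralizer ({x} : Set G)).index → x ^ 2 = 1) ∧ ∀ (N : Subgroup G) [N.Normal], Odd N.index → ∃ hxN : x ∈ N, IsConj (⟨x, hxN⟩ : N) (⟨x, hxN⟩ : N)⁻¹ := by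
  obtain ⟨c, hc⟩ := isConj_iff.1 hx
  have hpow : ∀ n : ℕ, c ^ n * x * (c ^ n)⁻¹ = if Even n then x else x⁻¹ := by
    intro n
    induction n with
    | zero => simp
    | succ n ih =>
      have : c ^ (n+1) * x * (c ^ (n+1))⁻¹ = c * (c ^ n * x * (c ^ n)⁻¹) * c⁻¹ := by
        rw [pow_succ']; group
      rw [this, ih]
      by_cases he : Even n
      · simp [he, Nat.even_add_one, hc]
      · simp only [he, if_false, Nat.even_add_one, not_false_eq_true, if_true]
        rw [← hc]
        have h2 := congrArg (·⁻¹) hc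
        simp [mul_assoc] at h2
        simpa [mul_assoc, hc] using h2
  obtain ⟨j, m, hm, hord⟩ := Nat.exists_eq_two_pow_mul_odd (orderOf_pos c).ne'
  have ht : c ^ m * x * (c ^ m)⁻¹ = x⁻¹ := by rw [hpow, if_neg (Nat.not_even_iff_odd.2 hm)]
  have htord : orderOf (c ^ m) = 2 ^ j := by
    rw [orderOf_pow' _ hm.pos.ne', hord, Nat.gcd_mul_left_left, Nat.mul_div_cancel _ hm.pos]
  refine ⟨⟨c ^ m, ⟨j, htord⟩, ht⟩, ?_, ?_⟩
  · intro hodd
    have hidx : (Subgroup.centralizer ({x} : Set G)).index = (MulAction.orbit (ConjAct G) x).ncard := by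
      rw [← MulAction.index_stabilizer, Subgroup.centralizer_eq_comap_stabilizer]
      exact Subgroup.index_comap_of_surjective (G' := G) (MulAction.stabilizer (ConjAct G) x)
        (f := ConjAct.toConjAct.toMonoidHom) ConjAct.toConjAct.surjective
    rw [hidx] at hodd
    set O := MulAction.orbit (ConjAct G) x
    have hmem : ∀ y ∈ O, y⁻¹ ∈ O := by
      intro y hy
      rw [ConjAct.mem_orbit_conjAct] at hy ⊢
      have h1 : IsConj y⁻¹ x⁻¹ := by
        obtain ⟨d, hd⟩ := isConj_iff.1 hy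
        exact isConj_iff.2 ⟨d, by rw [← hd]; group⟩
      exact h1.trans hx.symm
    let f : O → O := fun y => ⟨(y:G)⁻¹, hmem y y.2⟩
    have hf : Function.Involutive f := fun y => by simp [f]
    by_contra hne
    have hfree : ∀ y, f y ≠ y := by
      intro y hy
      apply hne
      have hy' : ((y:G))⁻¹ = y := congrArg Subtype.val hy
      obtain ⟨d, hd⟩ := isConj_iff.1 (ConjAct.mem_orbit_conjAct.1 y.2)
      have h2 : (y:G) ^ 2 = 1 := by rw [pow_two]; nth_rw 1 [← hy']; simp
      rw [← hd, conj_pow, h2]; simp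
    have := Fintype.ofFinite O
    have h2 : ¬ 2 ∣ Fintype.card O := by
      rw [← Nat.card_eq_fintype_card, Nat.card_coe_set_eq, ← even_iff_two_dvd, Nat.not_even_iff_odd]
      exact hodd
    obtain ⟨y, hy⟩ := Equiv.Perm.exists_fixed_point_of_prime (p := 2) (n := 1) h2 (σ := hf.toPerm) (by
      ext y; simp [pow_two, hf y])
    exact hfree y hy
  · intro N _ hN
    have hN' : N.Normal := inferInstance
    have hodd' : Odd (Nat.card (G ⧸ N)) := hN
    have htN : c ^ m ∈ N := by
      rw [← QuotientGroup.eq_one_iff, ← orderOf_eq_one_iff]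
      have h1 : orderOf ((c ^ m : G) : G ⧸ N) ∣ 2 ^ j := htord ▸ orderOf_map_dvd (QuotientGroup.mk' N) _
      have h2 : orderOf ((c ^ m : G) : G ⧸ N) ∣ Nat.card (G ⧸ N) := orderOf_dvd_natCard _
      exact Nat.eq_one_of_dvd_coprimes (Nat.Coprime.pow_left j (Nat.coprime_two_left.2 hodd')) h1 h2
    have hxN : x ∈ N := by
      have h1 : ((x : G ⧸ N))⁻¹ = x := by
        rw [← QuotientGroup.mk_inv, ← ht]
        simp [(QuotientGroup.eq_one_iff _).2 htN]
      rw [← QuotientGroup.eq_one_iff, ← orderOf_eq_one_iff]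
      have h3 : orderOf (x : G ⧸ N) ∣ 2 := orderOf_dvd_of_pow_eq_one (by rw [pow_two]; nth_rw 1 [← h1]; simp)
      exact Nat.eq_one_of_dvd_coprimes (Nat.coprime_two_left.2 hodd') h3 (orderOf_dvd_natCard _)
    exact ⟨hxN, isConj_iff.2 ⟨⟨c ^ m, htN⟩, Subtype.ext ht⟩⟩

end Cfsg.Agent.S3863
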