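import Cfsg.Statements.S3861
import Mathlib
import Cfsg.Agent.S3863
import Cfsg.Agent.H35.Basic
import Cfsg.Agent.H65.BaerSuzuki
import Cfsg.Agent.H5.Frobenius
import Cfsg.Agent.H1.Cores

set_option autoImplicit false
set_option linter.all false
open Cfsg

namespace Cfsg.Agent.S3861

/-- A finite group G has no non-identity element of odd order that is conjugate to its inverse if and only if the Sylow 2-subgroups of G are normal. -/
theorem result {G : Type*} [Group G] [Finite G] (P : Sylow 2 G) : (∀ x : G, x ≠ 1 → Odd (orderOf x) → ¬ IsConj x x⁻¹) ↔ (P : Subgroup G).Normal := by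
  haveI : Fact (Nat.Prime 2) := ⟨Nat.prime_two⟩
  constructor
  · intro hno
    set N := Cfsg.pCore 2 G with hN
    haveI hNn : N.Normal := H1.pCore_normal' 2 G
    have hNp : IsPGroup 2 N := H1.isPGroup_pCore 2 G
    by_contra hP
    have hPN : (P : Subgroup G) ≠ N := fun h => hP (h ▸ hNn)
    set π := QuotientGroup.mk' N with hπ
    have hOq : Cfsg.pCore 2 (G ⧸ N) = ⊥ := H1.pCore_quotient_pCore 2 G
    have hP' : ¬ (P : Subgroup G) ≤ N := fun h => hPN (le_antisymm h (H1.pCore_le_sylow P))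
    obtain ⟨t₀, ht₀P, ht₀N⟩ := SetLike.not_le_iff_exists.1 hP'
    have heven : 2 ∣ Nat.card (G ⧸ N) := by
      obtain ⟨j, hj⟩ := IsPGroup.iff_orderOf.1 P.isPGroup' ⟨t₀, ht₀P⟩
      rw [Subgroup.orderOf_mk] at hj
      obtain ⟨i, -, hi⟩ := (Nat.dvd_prime_pow Nat.prime_two).1 (hj ▸ orderOf_map_dvd π t₀)
      rcases i with _ | i
      · exact absurd ((QuotientGroup.eq_one_iff t₀).1 (orderOf_eq_one_iff.1 (by simpa [π] using hi))) ht₀N
      · exact (dvd_pow_self 2 (by omega)).trans (hi ▸ orderOf_dvd_natCard _)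
    obtain ⟨τ, hτ⟩ := exists_prime_orderOf_dvd_card' 2 heven
    obtain ⟨η, hη1, hηodd, hηinv⟩ := H65.exists_odd_inverted hτ (by
      rw [hOq, Subgroup.mem_bot]
      intro h
      rw [h, orderOf_one] at hτ
      omega)
    -- reduce to prime order
    obtain ⟨r, hr, hrd⟩ := Nat.exists_prime_and_dvd (fun h => hη1 (orderOf_eq_one_iff.1 h) : orderOf η ≠ 1)
    haveI := Fact.mk hr
    set ξ := η ^ (orderOf η / r) with hξ
    have hξord : orderOf ξ = r := orderOf_pow_orderOf_div (orderOf_pos η).ne' hrd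
    have hξinv : τ * ξ * τ⁻¹ = ξ⁻¹ := by rw [hξ, ← conj_pow, hηinv, inv_pow]
    have hrodd : Odd r := Odd.of_dvd_nat hηodd hrd
    -- lift to an element of odd order
    obtain ⟨h₀, hh₀⟩ := QuotientGroup.mk'_surjective N ξ
    obtain ⟨u, x, hux, ⟨k, hk⟩, hxcop, humem, hxmem⟩ := H5.exists_p_decomposition (p := 2) h₀
    have hπu : π u = 1 := by
      rw [← orderOf_eq_one_iff]
      refine Nat.eq_one_of_dvd_coprimes (a := 2 ^ k) (b := r) (Nat.Coprime.pow_left k (Nat.coprime_two_left.2 hrodd)) ?_ ?_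
      · exact orderOf_dvd_of_pow_eq_one (by rw [← map_pow, hk, map_one])
      · rw [← hξord]
        have h1 : π u ∈ Subgroup.zpowers ξ := by
          rw [← hh₀, ← MonoidHom.map_zpowers]; exact Subgroup.mem_map_of_mem _ humem
        exact orderOf_dvd_of_mem_zpowers h1
    have hπx : π x = ξ := by rw [← hh₀, hux, map_mul, hπu, one_mul]
    have hxodd : Odd (orderOf x) := Nat.coprime_two_right.1 hxcop
    have hxord : orderOf x = r := by
      apply Nat.dvd_antisymm
      · apply orderOf_dvd_of_pow_eq_one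
        have h1 : x ^ r ∈ N := by
          rw [← QuotientGroup.eq_one_iff, ← hξord]
          show π (x ^ _) = 1
          rw [map_pow, hπx, pow_orderOf_eq_one]
        obtain ⟨j, hj⟩ := IsPGroup.iff_orderOf.1 hNp ⟨_, h1⟩
        rw [Subgroup.orderOf_mk] at hj
        rw [← orderOf_eq_one_iff]
        exact Nat.eq_one_of_dvd_coprimes (Nat.Coprime.pow_left j (Nat.coprime_two_left.2 hxodd)) (hj ▸ dvd_rfl) (orderOf_pow_dvd r)
      · rw [← hξord, ← hπx]; exact orderOf_map_dvd π x
    obtain ⟨t, ht⟩ : ∃ t, π t = τ := QuotientGroup.mk'_surjective N τ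
    have hle : Subgroup.zpowers (t * x * t⁻¹) ≤ Subgroup.zpowers x ⊔ N := by
      rw [Subgroup.zpowers_le]
      have h1 : x * (t * x * t⁻¹) ∈ N := by
        rw [← QuotientGroup.eq_one_iff]
        show π (x * (t * x * t⁻¹)) = 1
        simp only [map_mul, map_inv, hπx, ht, hξinv, mul_inv_cancel]
      have := Subgroup.mul_mem_sup ((Subgroup.zpowers x).inv_mem (Subgroup.mem_zpowers x)) h1
      rwa [inv_mul_cancel_left] at this
    have hN2 : (Nat.card N).Coprime r := by
      obtain ⟨j, hj⟩ := hNp.exists_card_eq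
      rw [hj]
      exact Nat.Coprime.pow_left j (Nat.coprime_two_left.2 hrodd)
    have hxp : IsPGroup r (Subgroup.zpowers x) := IsPGroup.of_card (n := 1) (by rw [Nat.card_zpowers, hxord, pow_one])
    have htp : IsPGroup r (Subgroup.zpowers (t * x * t⁻¹)) := IsPGroup.of_card (n := 1) (by
      rw [Nat.card_zpowers, pow_one, ← hxord]
      exact (MulAut.conj t).orderOf_eq x)
    obtain ⟨n, hn, hnc⟩ := H35.exists_conj_mem_of_le_sup N hN2 htp hxp hle
    obtain ⟨i, hi⟩ := Subgroup.mem_zpowers_iff.1 (hnc _ (Subgroup.mem_zpowers _))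
    refine hno x (fun h1 => hr.ne_one (by rw [← hxord, h1, orderOf_one])) hxodd (isConj_iff.2 ⟨n * t, ?_⟩)
    have h2 : ξ ^ i = ξ ^ (-1 : ℤ) := by
      have h3 := congrArg π hi
      have h4 : π n = 1 := (QuotientGroup.eq_one_iff n).2 hn
      simp only [map_zpow, map_mul, map_inv, hπx, h4, ht, hξinv, one_mul, inv_one, mul_one] at h3
      rw [h3, zpow_neg_one]
    have h5 := orderOf_dvd_sub_iff_zpow_eq_zpow.2 h2
    rw [hξord, ← hxord] at h5
    have h6 := orderOf_dvd_sub_iff_zpow_eq_zpow.1 h5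
    rw [zpow_neg_one, hi] at h6
    rw [← h6]; group
  · intro hP x hx1 hodd hreal
    obtain ⟨⟨t, ⟨j, hj⟩, htx⟩, -⟩ := Cfsg.Agent.S3863.result x hreal
    have htP : t ∈ (P : Subgroup G) := by
      have hpg : IsPGroup 2 (Subgroup.zpowers t) := IsPGroup.of_card (n := j) (by rw [Nat.card_zpowers, hj])
      exact (P.is_maximal' (hpg.to_sup_of_normal_right P.isPGroup') le_sup_right) ▸ Subgroup.mem_sup_left (Subgroup.mem_zpowers t)
    have h1 : x⁻¹ * x⁻¹ ∈ (P : Subgroup G) := by
      have h2 : t * (x * t⁻¹ * x⁻¹) ∈ (P : Subgroup G) :=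
        mul_mem htP (hP.conj_mem _ (inv_mem htP) x)
      rwa [← mul_assoc, ← mul_assoc, htx] at h2
    obtain ⟨i, hi⟩ := IsPGroup.iff_orderOf.1 P.isPGroup' ⟨_, h1⟩
    rw [Subgroup.orderOf_mk] at hi
    have h3 : orderOf (x⁻¹ * x⁻¹) = 1 := by
      refine Nat.eq_one_of_dvd_coprimes (a := 2 ^ i) (b := orderOf x) (Nat.Coprime.pow_left i (Nat.coprime_two_left.2 hodd)) (hi ▸ dvd_rfl) ?_
      rw [← mul_inv_rev, orderOf_inv, ← sq]
      exact orderOf_pow_dvd 2
    have h4 : x ^ 2 = 1 := by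
      rw [orderOf_eq_one_iff, ← mul_inv_rev, inv_eq_one, ← sq] at h3
      exact h3
    apply hx1
    rw [← orderOf_eq_one_iff]
    exact Nat.eq_one_of_dvd_coprimes (Nat.coprime_two_left.2 hodd) (orderOf_dvd_of_pow_eq_one h4) dvd_rfl

end Cfsg.Agent.S3861
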