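import Cfsg.Statements.S3862
import Mathlib
import Cfsg.Agent.H35.RealTwo
import Cfsg.Agent.H5.Frobenius

set_option autoImplicit false
set_option linter.all false
open Cfsg

namespace Cfsg.Agent.S3862

/-- If every 2-element of the finite group G that is conjugate to its inverse lies in the centre of G, then G has a normal 2-complement. -/
theorem result {G : Type*} [Group G] [Finite G] (h : ∀ x : G, (∃ j : ℕ, orderOf x = 2 ^ j) → IsConj x x⁻¹ → x ∈ Subgroup.center G) : Cfsg.HasNormalPComplement 2 G := by
  haveI : Fact (Nat.Prime 2) := ⟨Nat.prime_two⟩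
  obtain ⟨P⟩ := (inferInstance : Nonempty (Sylow 2 G))
  refine H5.hasNormalPComplement_of_frobenius P fun Q hQ g hg hcop => ?_
  rw [Subgroup.mem_centralizer_iff]
  intro u hu
  exact (H35.commute_of_real_fixed (Nat.coprime_two_right.1 hcop)
    (fun x h1 h2 => (Subgroup.mem_center_iff.1 (h x h1 h2) g)) (P.isPGroup'.to_le hQ) hg hu).eq.symm

end Cfsg.Agent.S3862
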