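import Cfsg.Statements.S4276
import Cfsg.Agent.H30.TwoTransAut

set_option autoImplicit false
open Cfsg

namespace Cfsg.Agent.S4276

/-- Let G be a doubly transitive group of permutations of a finite set Ω of size n, let o ∈ Ω, and let α be an automorphism of G of odd order. Suppose that the image under α of the stabilizer of o has an orbit on Ω whose length k is coprime to n. Then α is induced by conjugation by a permutation of Ω normalizing G, and k = 1 or k = n − 1. -/
theorem result {Ω : Type*} [Fintype Ω] (G : Subgroup (Equiv.Perm Ω)) (h2 : MulAction.IsMultiplyPretransitive G Ω 2) (o : Ω) (α : MulAut G) (hα : Odd (orderOf α)) (ω : Ω) (hk : (Nat.card (MulAction.orbit ((MulAction.stabilizer G o).map α.toMonoidHom) ω)).Coprime (Fintype.card Ω)) : (∃ σ : Equiv.Perm Ω, σ ∈ Subgroup.normalizer (G : Set (Equiv.Perm Ω)) ∧ ∀ g : G, ((α g : G) : Equiv.Perm Ω) = σ * (g : Equiv.Perm Ω) * σ⁻¹) ∧ (Nat.card (MulAction.orbit ((MulAction.stabilizer G o).map α.toMonoidHom) ω) = 1 ∨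 Nat.card (MulAction.orbit ((MulAction.stabilizer G o).map α.toMonoidHom) ω) = Fintype.card Ω - 1) := by
  classical
  haveI : MulAction.IsPretransitive G Ω := MulAction.isPretransitive_of_is_two_pretransitive
  set Δ : Set Ω := MulAction.orbit ((MulAction.stabilizer G o).map α.toMonoidHom) ω with hΔ
  have hinv : ∀ g ∈ MulAction.stabilizer G o, ∀ y ∈ Δ, α g • y ∈ Δ := by
    rintro g hg y ⟨h, rfl⟩
    exact ⟨⟨α g, Subgroup.mem_map_of_mem _ hg⟩ * h, mul_smul (α g) (h : G) ω⟩
  have hres := H30.orbit_trivial h2 α hα o Δ hinv ⟨ω, MulAction.mem_orbit_self ω⟩ hk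
  refine ⟨?_, hres⟩
  obtain ⟨ω', hω'⟩ : ∃ ω' : Ω, ∀ g ∈ MulAction.stabilizer G o, α g • ω' = ω' := by
    rcases hres with h1 | h1
    · refine ⟨ω, fun g hg => ?_⟩
      haveI : Subsingleton Δ := (Nat.card_eq_one_iff_unique.1 h1).1
      exact congrArg Subtype.val (Subsingleton.elim (⟨_, hinv g hg ω (MulAction.mem_orbit_self ω)⟩ : Δ) ⟨ω, MulAction.mem_orbit_self ω⟩)
    · have hpos : 0 < Fintype.card Ω := Fintype.card_pos_iff.2 ⟨o⟩
      have hc : Δᶜ.ncard = 1 := by
        rw [Set.ncard_compl, ← Nat.card_coe_set_eq, Nat.card_eq_fintype_card (α := Ω), h1]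
        omega
      obtain ⟨w, hw⟩ := Set.ncard_eq_one.1 hc
      have hwΔ : w ∉ Δ := (show w ∈ Δᶜ by rw [hw]; rfl)
      refine ⟨w, fun g hg => ?_⟩
      have : α g • w ∈ Δᶜ := by
        intro hmem
        have := hinv g⁻¹ (inv_mem hg) _ hmem
        rw [map_inv, inv_smul_smul] at this
        exact hwΔ this
      rwa [hw] at this
  have hstab : ∀ g : G, α g ∈ MulAction.stabilizer G ω' ↔ g ∈ MulAction.stabilizer G o := by
    have hle : (MulAction.stabilizer G o).map α.toMonoidHom ≤ MulAction.stabilizer G ω' := by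
      rintro _ ⟨g, hg, rfl⟩; exact hω' g hg
    have heq := Subgroup.eq_of_le_of_card_ge hle (le_of_eq (by
      rw [Subgroup.card_map_of_injective (show Function.Injective α.toMonoidHom from α.injective)]
      have h3 := (MulAction.stabilizer G ω').card_mul_index
      have h4 := (MulAction.stabilizer G o).card_mul_index
      rw [MulAction.index_stabilizer_of_transitive] at h3 h4
      have hne : Nat.card Ω ≠ 0 := Nat.card_ne_zero.2 ⟨⟨o⟩, inferInstance⟩
      exact Nat.eq_of_mul_eq_mul_right (Nat.pos_of_ne_zero hne) (h3.trans h4.symm)))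
    intro g
    rw [← heq, Subgroup.mem_map]
    exact ⟨fun ⟨g', hg', he⟩ => α.injective he ▸ hg', fun hg => ⟨g, hg, rfl⟩⟩
  obtain ⟨σ, hσ⟩ := H30.exists_inducing α o ω' hstab
  have hconj : ∀ g : G, ((α g : G) : Equiv.Perm Ω) = σ * (g : Equiv.Perm Ω) * σ⁻¹ := by
    intro g
    ext x
    obtain ⟨y, rfl⟩ := σ.surjective x
    simpa [Subgroup.smul_def] using (hσ g y).symm
  refine ⟨σ, ?_, hconj⟩
  apply Subgroup.mem_normalizer_fintype
  intro g hg
  show σ * g * σ⁻¹ ∈ G
  rw [← hconj ⟨g, hg⟩]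
  exact (α ⟨g, hg⟩).2

end Cfsg.Agent.S4276
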