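import Cfsg.Statements.S3807
import Cfsg.Agent.H30.Basic

set_option autoImplicit false
open Cfsg

namespace Cfsg.Agent.S3807

/-- Let S be a non-abelian finite p-group with an abelian subgroup A of index p. Then [S : Z(S)] = p·#[S,S], and either [S,S] has order p, S/Z(S) is elementary abelian of order p², and S has exactly p + 1 abelian subgroups of index p; or [S,S] has order at least p² and A is the only abelian subgroup of index p in S. -/
theorem result {S : Type*} [Group S] [Finite S] (p : ℕ) [Fact p.Prime] (hS : IsPGroup p S) (hna : ¬ IsMulCommutative S)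
    (A : Subgroup S) (hA : IsMulCommutative ↥A) (hAi : A.index = p) :
    (Subgroup.center S).index = p * Nat.card (commutator S) ∧
      ((Nat.card (commutator S) = p ∧ Cfsg.IsElementaryAbelian p (⊤ : Subgroup (S ⧸ Subgroup.center S)) ∧
          Nat.card (S ⧸ Subgroup.center S) = p ^ 2 ∧
          Nat.card {B : Subgroup S // IsMulCommutative ↥B ∧ B.index = p} = p + 1) ∨
        (p ^ 2 ≤ Nat.card (commutator S) ∧ ∀ B : Subgroup S, IsMulCommutative ↥B → B.index = p → B = A)) := by
  classical
  have hp : p.Prime := Fact.out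
  haveI : Group.IsNilpotent S := hS.isNilpotent
  have hco : ∀ B : Subgroup S, B.index = p → IsCoatom B := by
    intro B hB
    refine ⟨fun h => ?_, fun K hK => ?_⟩
    · rw [h, Subgroup.index_top] at hB; exact hp.one_lt.ne hB
    · refine Subgroup.eq_top_of_le_card _ ?_
      rw [← B.card_mul_index, hB, mul_comm]
      exact H30.card_mul_le_of_lt hS hK
  have hnorm : ∀ B : Subgroup S, B.index = p → B.Normal := fun B hB =>
    Subgroup.NormalizerCondition.normal_of_coatom _ (Group.normalizerCondition_of_isNilpotent) (hco B hB)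
  haveI := hnorm A hAi
  have hZle : ∀ B : Subgroup S, IsMulCommutative B → B.index = p → Subgroup.center S ≤ B := by
    intro B hB hBi z hz
    by_contra hzB
    have htop := (hco B hBi).2 _ (left_lt_sup.2 fun hle => hzB (hle (Subgroup.mem_zpowers z)))
    have h2 := H30.isMulCommutative_sup_zpowers hB (x := z) fun k _ => (Subgroup.mem_center_iff.1 hz k)
    rw [htop] at h2
    exact hna ⟨⟨fun a b => congrArg Subtype.val (h2.is_comm.comm ⟨a, trivial⟩ ⟨b, trivial⟩)⟩⟩
  obtain ⟨x, -, hxA, -, -⟩ := H30.exists_step hS (lt_top_iff_ne_top.2 (hco A hAi).1)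
  have htop : A ⊔ Subgroup.zpowers x = ⊤ :=
    (hco A hAi).2 _ (left_lt_sup.2 fun hle => hxA (hle (Subgroup.mem_zpowers x)))
  have hcomm : ∀ a b : A, (a : S) * b = b * a := fun a b => congrArg Subtype.val (hA.is_comm.comm a b)
  let φ : A →* S :=
    { toFun := fun a => (a : S) * x * (a : S)⁻¹ * x⁻¹
      map_one' := by simp
      map_mul' := fun a b => by
        have h1 : (b : S) * x * (b : S)⁻¹ * x⁻¹ ∈ A := by
          have h2 : x * (b : S)⁻¹ * x⁻¹ ∈ A := Subgroup.Normal.conj_mem inferInstance _ (inv_mem b.2) x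
          simpa [mul_assoc] using mul_mem b.2 h2
        have h2 : (a : S) * x * (a : S)⁻¹ * x⁻¹ ∈ A := by
          have h3 : x * (a : S)⁻¹ * x⁻¹ ∈ A := Subgroup.Normal.conj_mem inferInstance _ (inv_mem a.2) x
          simpa [mul_assoc] using mul_mem a.2 h3
        simp only [Subgroup.coe_mul, mul_inv_rev]
        calc (a : S) * b * x * ((b : S)⁻¹ * (a : S)⁻¹) * x⁻¹
            = ((a : S) * ((b : S) * x * (b : S)⁻¹ * x⁻¹)) * (x * (a : S)⁻¹ * x⁻¹) := by group
          _ = (((b : S) * x * (b : S)⁻¹ * x⁻¹) * a) * (x * (a : S)⁻¹ * x⁻¹) := by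
              rw [hcomm a ⟨_, h1⟩]
          _ = ((b : S) * x * (b : S)⁻¹ * x⁻¹) * ((a : S) * x * (a : S)⁻¹ * x⁻¹) := by group
          _ = _ := hcomm ⟨_, h1⟩ ⟨_, h2⟩ }
  have hZA := hZle A hA hAi
  have hker : φ.ker.map A.subtype = Subgroup.center S := by
    refine le_antisymm ?_ ?_
    · rintro _ ⟨a, ha, rfl⟩
      have hax : (a : S) * x = x * a := by
        have : (a : S) * x * (a : S)⁻¹ * x⁻¹ = 1 := ha
        rwa [mul_inv_eq_one, mul_inv_eq_iff_eq_mul] at this
      rw [Subgroup.mem_center_iff]
      intro g
      have hg : g ∈ Subgroup.centralizer ({(a : S)} : Set S) := by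
        have : A ⊔ Subgroup.zpowers x ≤ Subgroup.centralizer ({(a : S)} : Set S) := by
          refine sup_le (fun k hk => ?_) (Subgroup.zpowers_le.2 ?_)
          · exact Subgroup.mem_centralizer_singleton_iff.2 (hcomm ⟨k, hk⟩ a)
          · exact Subgroup.mem_centralizer_singleton_iff.2 hax.symm
        exact this (htop ▸ Subgroup.mem_top g)
      exact Subgroup.mem_centralizer_singleton_iff.1 hg
    · intro z hz
      refine ⟨⟨z, hZA hz⟩, ?_, rfl⟩
      show z * x * z⁻¹ * x⁻¹ = 1
      rw [← Subgroup.mem_center_iff.1 hz x]; group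
  have hrangeA : φ.range ≤ A := by
    rintro _ ⟨a, rfl⟩
    show (a : S) * x * (a : S)⁻¹ * x⁻¹ ∈ A
    have h3 : x * (a : S)⁻¹ * x⁻¹ ∈ A := Subgroup.Normal.conj_mem inferInstance _ (inv_mem a.2) x
    simpa [mul_assoc] using mul_mem a.2 h3
  have hrange : φ.range = commutator S := by
    refine le_antisymm ?_ ?_
    · rintro _ ⟨a, rfl⟩
      rw [commutator_def]
      exact Subgroup.commutator_mem_commutator (Subgroup.mem_top _) (Subgroup.mem_top _)
    · haveI hRn : φ.range.Normal := by
        rw [← Subgroup.normalizer_eq_top_iff, eq_top_iff, ← htop]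
        refine sup_le (fun k hk => Subgroup.mem_normalizer_fintype fun r hr => ?_)
          (Subgroup.zpowers_le.2 (Subgroup.mem_normalizer_fintype fun r hr => ?_))
        · rwa [hcomm ⟨k, hk⟩ ⟨r, hrangeA hr⟩, mul_inv_cancel_right]
        · obtain ⟨a, rfl⟩ := hr
          refine ⟨⟨x * a * x⁻¹, Subgroup.Normal.conj_mem inferInstance _ a.2 x⟩, ?_⟩
          show x * a * x⁻¹ * x * (x * (a : S) * x⁻¹)⁻¹ * x⁻¹ = x * ((a : S) * x * (a : S)⁻¹ * x⁻¹) * x⁻¹
          group
      apply Subgroup.Normal.quotient_commutative_iff_commutator_le.1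
      have hc : A.map (QuotientGroup.mk' φ.range) ≤ Subgroup.center (S ⧸ φ.range) := by
        rintro _ ⟨a, ha, rfl⟩
        rw [Subgroup.mem_center_iff]
        intro g
        have : g ∈ Subgroup.centralizer ({(QuotientGroup.mk' φ.range) a} : Set (S ⧸ φ.range)) := by
          have hle : (⊤ : Subgroup S).map (QuotientGroup.mk' φ.range) ≤
              Subgroup.centralizer ({(QuotientGroup.mk' φ.range) a} : Set (S ⧸ φ.range)) := by
            rw [← htop, Subgroup.map_sup, sup_le_iff, MonoidHom.map_zpowers, Subgroup.zpowers_le]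
            constructor
            · rintro _ ⟨k, hk, rfl⟩
              exact Subgroup.mem_centralizer_singleton_iff.2
                (by rw [← map_mul, ← map_mul, hcomm ⟨k, hk⟩ ⟨a, ha⟩])
            · refine Subgroup.mem_centralizer_singleton_iff.2 ?_
              symm
              rw [← mul_inv_eq_iff_eq_mul, ← mul_inv_eq_one, ← map_inv, ← map_inv, ← map_mul, ← map_mul,
                ← map_mul]
              exact (QuotientGroup.eq_one_iff _).2 ⟨⟨a, ha⟩, rfl⟩
          exact hle (by rw [Subgroup.map_top_of_surjective _ (QuotientGroup.mk'_surjective _)]; trivial)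
        exact Subgroup.mem_centralizer_singleton_iff.1 this
      refine H30.isMulCommutative_of_sup_zpowers_eq_top hc (x := (QuotientGroup.mk' φ.range) x) ?_
      rw [← MonoidHom.map_zpowers, ← Subgroup.map_sup, htop,
        Subgroup.map_top_of_surjective _ (QuotientGroup.mk'_surjective _)]
  have hcardA : Nat.card A = Nat.card (Subgroup.center S) * Nat.card (commutator S) := by
    rw [← hrange, ← hker, Subgroup.card_map_of_injective A.subtype_injective, ← Subgroup.index_ker,
      φ.ker.card_mul_index]
  have hindex : (Subgroup.center S).index = p * Nat.card (commutator S) := by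
    have h1 := A.card_mul_index
    rw [← (Subgroup.center S).card_mul_index, hAi, hcardA] at h1
    have h2 : Nat.card (Subgroup.center S) * (Subgroup.center S).index =
        Nat.card (Subgroup.center S) * (p * Nat.card (commutator S)) := by rw [← h1]; ring
    exact Nat.eq_of_mul_eq_mul_left Nat.card_pos h2
  refine ⟨hindex, ?_⟩
  obtain ⟨m, hm⟩ := IsPGroup.iff_card.1 (hS.to_subgroup (commutator S))
  have hm0 : m ≠ 0 := by
    rintro rfl
    rw [pow_zero, Subgroup.card_eq_one] at hm
    apply hna
    rw [commutator_def, Subgroup.commutator_eq_bot_iff_le_centralizer] at hm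
    exact ⟨⟨fun a b => Subgroup.mem_centralizer_iff.1 (hm (Subgroup.mem_top b)) a (Subgroup.mem_top a)⟩⟩
  rcases (show m = 1 ∨ 2 ≤ m by omega) with rfl | hm2
  · left
    rw [pow_one] at hm
    have hQ2 : Nat.card (S ⧸ Subgroup.center S) = p ^ 2 := by
      rw [← Subgroup.index, hindex, hm, sq]
    have hQc : ∀ a b : S ⧸ Subgroup.center S, a * b = b * a :=
      IsPGroup.commutative_of_card_eq_prime_sq hQ2
    have hexp : ∀ a : S ⧸ Subgroup.center S, a ^ p = 1 := by
      intro a
      have hd := orderOf_dvd_natCard a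
      rw [hQ2, Nat.dvd_prime_pow hp] at hd
      obtain ⟨i, hi, hia⟩ := hd
      rw [← orderOf_dvd_iff_pow_eq_one, hia]
      rcases (show i ≤ 1 ∨ i = 2 by omega) with h | rfl
      · exact (Nat.pow_dvd_pow p h).trans (dvd_of_eq (pow_one p))
      · exfalso
        haveI := isCyclic_of_orderOf_eq_card a (hia.trans hQ2.symm)
        exact hna (isMulCommutative_of_isCyclic_quotient_center_self S)
    refine ⟨hm, ⟨⟨⟨fun a b => Subtype.ext (hQc a b)⟩⟩, fun a _ => hexp a⟩, hQ2, ?_⟩
    set Q := S ⧸ Subgroup.center S
    have hB : ∀ B : Subgroup S, IsMulCommutative B ∧ B.index = p ↔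
        Subgroup.center S ≤ B ∧ Nat.card (B.map (QuotientGroup.mk' (Subgroup.center S))) = p := by
      intro B
      have hrel : ∀ _ : Subgroup.center S ≤ B,
          Nat.card (B.map (QuotientGroup.mk' (Subgroup.center S))) * B.index = p ^ 2 := by
        intro hle
        rw [← hQ2, ← Subgroup.card_mul_index (B.map (QuotientGroup.mk' (Subgroup.center S))),
          Subgroup.index_map_eq _ (QuotientGroup.mk'_surjective _) (by rwa [QuotientGroup.ker_mk'])]
      constructor
      · rintro ⟨hB1, hB2⟩
        refine ⟨hZle B hB1 hB2, ?_⟩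
        have := hrel (hZle B hB1 hB2)
        rw [hB2, sq] at this
        exact Nat.eq_of_mul_eq_mul_right hp.pos this
      · rintro ⟨hle, hc⟩
        have := hrel hle
        rw [hc, sq] at this
        refine ⟨?_, Nat.eq_of_mul_eq_mul_left hp.pos this⟩
        haveI := isCyclic_of_prime_card hc
        let f : B →* B.map (QuotientGroup.mk' (Subgroup.center S)) :=
          (QuotientGroup.mk' (Subgroup.center S)).subgroupMap B
        refine ⟨⟨fun a b => commutative_of_cyclic_center_quotient f (fun k hk => ?_) a b⟩⟩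
        rw [Subgroup.mem_center_iff]
        intro g
        apply Subtype.ext
        have : (QuotientGroup.mk' (Subgroup.center S)) (k : S) = 1 := congrArg Subtype.val hk
        exact Subgroup.mem_center_iff.1 ((QuotientGroup.eq_one_iff _).1 this) g
    let e : {B : Subgroup S // IsMulCommutative ↥B ∧ B.index = p} ≃ {H : Subgroup Q // Nat.card H = p} :=
      { toFun := fun B => ⟨B.1.map (QuotientGroup.mk' (Subgroup.center S)), ((hB B.1).1 B.2).2⟩
        invFun := fun H => ⟨H.1.comap (QuotientGroup.mk' (Subgroup.center S)), (hB _).2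
          ⟨(by
              intro z hz
              show (QuotientGroup.mk' (Subgroup.center S)) z ∈ H.1
              rw [QuotientGroup.mk'_apply, (QuotientGroup.eq_one_iff z).2 hz]
              exact one_mem _),
           (by rw [Subgroup.map_comap_eq_self_of_surjective (QuotientGroup.mk'_surjective _)]; exact H.2)⟩⟩
        left_inv := fun B => Subtype.ext (by
          show (B.1.map _).comap _ = B.1
          rw [Subgroup.comap_map_eq, QuotientGroup.ker_mk', sup_eq_left.2 (hZle _ B.2.1 B.2.2)])
        right_inv := fun H => Subtype.ext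
          (Subgroup.map_comap_eq_self_of_surjective (QuotientGroup.mk'_surjective _) _) }
    rw [Nat.card_congr e]
    -- count subgroups of order p
    let T := {H : Subgroup Q // Nat.card H = p}
    have hzp : ∀ a : Q, a ≠ 1 → Nat.card (Subgroup.zpowers a) = p := fun a ha => by
      rw [Nat.card_zpowers]; exact orderOf_eq_prime (hexp a) ha
    let f : {a : Q // a ≠ 1} ≃ (Σ H : T, {h : H.1 // h ≠ 1}) :=
      { toFun := fun a => ⟨⟨Subgroup.zpowers a.1, hzp a.1 a.2⟩,
          ⟨⟨a.1, Subgroup.mem_zpowers _⟩, fun h => a.2 (congrArg Subtype.val h)⟩⟩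
        invFun := fun s => ⟨s.2.1.1, fun h => s.2.2 (Subtype.ext h)⟩
        left_inv := fun a => rfl
        right_inv := by
          rintro ⟨⟨H, hH⟩, ⟨⟨h, hh⟩, hne⟩⟩
          have hhne : h ≠ 1 := fun h' => hne (Subtype.ext h')
          have : Subgroup.zpowers h = H :=
            Subgroup.eq_of_le_of_card_ge (Subgroup.zpowers_le.2 hh) (by rw [hH, hzp h hhne])
          subst this
          rfl }
    have hne : ∀ (X : Type _) [Group X] [Finite X], Nat.card {x : X // x ≠ 1} = Nat.card X - 1 := by
      intro X _ _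
      haveI := Fintype.ofFinite X
      simp [Nat.card_eq_fintype_card, Fintype.card_subtype_compl]
    haveI := Fintype.ofFinite T
    have hcount := Nat.card_congr f
    rw [hne Q, hQ2, Nat.card_sigma] at hcount
    have hsum : ∀ H : T, Nat.card {h : H.1 // h ≠ 1} = p - 1 := fun H => by rw [hne, H.2]
    rw [Finset.sum_congr rfl fun H _ => hsum H, Finset.sum_const, Finset.card_univ, smul_eq_mul,
      ← Nat.card_eq_fintype_card] at hcount
    have h2 : p ^ 2 - 1 = (p + 1) * (p - 1) := by
      have := Nat.sq_sub_sq p 1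
      simpa using this
    rw [h2] at hcount
    exact (Nat.eq_of_mul_eq_mul_right (by have := hp.two_le; omega) hcount).symm
  · right
    refine ⟨by rw [hm]; exact Nat.pow_le_pow_right hp.pos hm2, fun B hB hBi => ?_⟩
    by_contra hne
    have hsup : A ⊔ B = ⊤ := by
      refine (hco A hAi).2 _ (left_lt_sup.2 fun hle => hne ?_)
      refine Subgroup.eq_of_le_of_card_ge hle ?_
      have h1 := A.card_mul_index
      have h2 := B.card_mul_index
      rw [hAi] at h1; rw [hBi] at h2
      exact le_of_eq (Nat.eq_of_mul_eq_mul_right hp.pos (h1.trans h2.symm))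
    have hcen : A ⊓ B ≤ Subgroup.center S := by
      rw [← Subgroup.centralizer_univ, ← Subgroup.coe_top, Subgroup.le_centralizer_iff, ← hsup, sup_le_iff]
      constructor
      · exact (H30.le_centralizer_self_of_isMulCommutative hA).trans
          (Subgroup.centralizer_le (SetLike.coe_subset_coe.2 inf_le_left))
      · exact (H30.le_centralizer_self_of_isMulCommutative hB).trans
          (Subgroup.centralizer_le (SetLike.coe_subset_coe.2 inf_le_right))
    have h1 : (A ⊓ B).index ≤ p * p := by
      have := Subgroup.index_inf_le (H := A) (K := B)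
      rwa [hAi, hBi] at this
    have h2 := Nat.le_of_dvd (Nat.pos_of_ne_zero Subgroup.index_ne_zero_of_finite) (Subgroup.index_dvd_of_le hcen)
    rw [hindex, hm] at h2
    have h3 : p * p ^ m ≤ p * p := h2.trans h1
    have h4 := Nat.le_of_mul_le_mul_left h3 hp.pos
    have h5 : p ^ 2 ≤ p ^ m := Nat.pow_le_pow_right hp.pos hm2
    have := hp.two_le
    nlinarith

end Cfsg.Agent.S3807
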