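import Cfsg.Statements.S2522
import Cfsg.Agent.H41.RegFactor

set_option autoImplicit false
open Cfsg

namespace Cfsg.Agent.S2522

open Matrix H41 H41.Reg

section helpers

variable {K : Type*} [Field K] {m : ℕ}

lemma pair_of_similar {n : ℕ} {J g : GL (Fin n) K} {P PA PB A B : Matrix (Fin n) (Fin n) K} (hP : IsUnit P.det)
    (hPA : IsUnit PA.det) (hPB : IsUnit PB.det) (h : (g : Matrix (Fin n) (Fin n) K) * P = P * (A * B))
    (hA : A * PA = PA * (J : Matrix (Fin n) (Fin n) K)) (hB : B * PB = PB * (J : Matrix (Fin n) (Fin n) K)) :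
    ∃ x y : GL (Fin n) K, g = (x * J * x⁻¹) * (y * J * y⁻¹) := by
  let p : GL (Fin n) K := ((Matrix.isUnit_iff_isUnit_det P).2 hP).unit
  let pa : GL (Fin n) K := ((Matrix.isUnit_iff_isUnit_det PA).2 hPA).unit
  let pb : GL (Fin n) K := ((Matrix.isUnit_iff_isUnit_det PB).2 hPB).unit
  have ea : ((pa * J * pa⁻¹ : GL (Fin n) K) : Matrix (Fin n) (Fin n) K) = A := by
    rw [Units.val_mul, Units.val_mul, show (pa : Matrix (Fin n) (Fin n) K) * J = A * pa from hA.symm,
      Units.mul_inv_cancel_right]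
  have eb : ((pb * J * pb⁻¹ : GL (Fin n) K) : Matrix (Fin n) (Fin n) K) = B := by
    rw [Units.val_mul, Units.val_mul, show (pb : Matrix (Fin n) (Fin n) K) * J = B * pb from hB.symm,
      Units.mul_inv_cancel_right]
  have key : g * p = p * ((pa * J * pa⁻¹) * (pb * J * pb⁻¹)) := Units.ext (by
    simp only [Units.val_mul] at ea eb ⊢
    rw [ea, eb]; exact h)
  refine ⟨p * pa, p * pb, ?_⟩
  rw [eq_mul_inv_iff_mul_eq.2 key]
  group

/-- A transvection is a product of two regular upper unitriangular matrices. -/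
lemma transvection_factor : ∃ A B : Matrix (Fin (m + 3)) (Fin (m + 3)) K, IsRegUpper A ∧ IsRegUpper B ∧
    A * B = 1 + vecMulVec (Pi.single 0 1) (Pi.single (Fin.last (m + 2)) 1) := by
  set J := jordan K (m + 3)
  set E : Matrix (Fin (m + 3)) (Fin (m + 3)) K := 1 + vecMulVec (Pi.single 0 1) (Pi.single (Fin.last (m + 2)) 1)
  have hJt : J.BlockTriangular id := fun i j h => (jordan_reg (K := K)).1.1 i j h
  have hJu : IsUnit J.det := by
    rw [Matrix.det_of_isUpperTriangular hJt, Finset.prod_eq_one fun i _ => (jordan_reg (K := K)).1.2 i]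
    exact isUnit_one
  haveI := J.invertibleOfIsUnitDet hJu
  have hE : ∀ i j, E i j = (if i.val = j.val then 1 else 0) + (if i.val = 0 ∧ j.val = m + 2 then 1 else 0) := by
    intro i j
    simp only [E, Matrix.add_apply, Matrix.one_apply, Matrix.vecMulVec_apply, Pi.single_apply]
    congr 1
    · exact if_congr Fin.ext_iff rfl rfl
    · by_cases h1 : i = 0 <;> by_cases h2 : j = Fin.last (m + 2) <;>
        simp only [h1, h2, if_true, if_false, mul_one, zero_mul, mul_zero] <;>
        rw [Fin.ext_iff] at h1 h2 <;> simp_all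
  have hEt : E.BlockTriangular id := by
    intro i j h
    have h' : j.val < i.val := h
    rw [hE, if_neg (by omega), if_neg (by omega), add_zero]
  have hBt : (J⁻¹ * E).BlockTriangular id := (Matrix.blockTriangular_inv_of_blockTriangular hJt).mul hEt
  refine ⟨J, J⁻¹ * E, jordan_reg, ?_, by rw [← Matrix.mul_assoc, Matrix.mul_nonsing_inv _ hJu, Matrix.one_mul]⟩
  set B := J⁻¹ * E with hB
  have hJB : J * B = E := by rw [hB, ← Matrix.mul_assoc, Matrix.mul_nonsing_inv _ hJu, Matrix.one_mul]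
  have hdiag : ∀ i, B i i = 1 := by
    intro i
    have h1 := congrFun (congrFun hJB i) i
    rw [Matrix.mul_apply, Finset.sum_eq_single i] at h1
    · rw [show J i i = 1 from (jordan_reg (K := K)).1.2 i, one_mul, hE, if_pos rfl, if_neg (by omega), add_zero] at h1
      exact h1
    · intro l _ hl
      rcases lt_or_gt_of_ne hl with h | h
      · rw [hJt h, zero_mul]
      · rw [hBt h, mul_zero]
    · simp
  refine ⟨⟨fun i j h => hBt h, hdiag⟩, fun i j hij => ?_⟩
  have h1 := congrFun (congrFun hJB i) j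
  rw [Matrix.mul_apply, ← Finset.sum_subset (s₁ := {i, j}) (Finset.subset_univ _)] at h1
  · rw [Finset.sum_pair (fun e => by rw [e] at hij; omega), hdiag j] at h1
    intro h0
    rw [h0, mul_zero, zero_add, mul_one, hE, if_neg (by omega), if_neg (by omega), add_zero] at h1
    exact (jordan_reg (K := K)).2 i j hij h1
  · intro l _ hl
    simp only [Finset.mem_insert, Finset.mem_singleton, not_or] at hl
    rcases lt_or_gt_of_ne hl.1 with h | h
    · rw [hJt h, zero_mul]
    · have : ¬ l.val = i.val + 1 := fun e => hl.2 (Fin.ext (by omega))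
      simp [J, jordan, Ne.symm hl.1, this]

/-- A unimodular map moving every vector along one line is similar to the standard transvection. -/
lemma transvection_normal {G : Matrix (Fin (m + 3)) (Fin (m + 3)) K} (hdet : G.det = 1) (hne : G ≠ 1)
    (hrank : Module.finrank K (LinearMap.range (Matrix.toLin' G - LinearMap.id :
      (Fin (m + 3) → K) →ₗ[K] _)) ≤ 1) :
    ∃ P : Matrix (Fin (m + 3)) (Fin (m + 3)) K, IsUnit P.det ∧
      G * P = P * (1 + vecMulVec (Pi.single 0 1) (Pi.single (Fin.last (m + 2)) 1)) := by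
  obtain ⟨⟨a, ha'⟩, hspan⟩ := finrank_le_one_iff.1 hrank
  have h1 : ∀ j, ∃ t : K, t • a = fun i => G i j - (1 : Matrix (Fin (m + 3)) (Fin (m + 3)) K) i j := by
    intro j
    obtain ⟨t, ht⟩ := hspan ⟨_, LinearMap.mem_range_self _ (Pi.single j 1)⟩
    refine ⟨t, ?_⟩
    have := congrArg Subtype.val ht
    funext i
    have := congrFun this i
    simpa [Matrix.one_apply, Pi.single_apply] using this
  choose φ hφ using h1
  have hG : G = 1 + vecMulVec a φ := by
    ext i j
    have := congrFun (hφ j) i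
    simp only [Pi.smul_apply, smul_eq_mul] at this
    rw [Matrix.add_apply, Matrix.vecMulVec_apply, mul_comm, this, add_sub_cancel]
  have hφa : φ ⬝ᵥ a = 0 := by
    rw [hG, Matrix.vecMulVec_eq Unit, Matrix.det_one_add_replicateCol_mul_replicateRow] at hdet
    simpa using hdet
  have ha : a ≠ 0 := fun h => hne (by rw [hG, h, Matrix.zero_vecMulVec, add_zero])
  have hφ0 : φ ≠ 0 := fun h => hne (by rw [hG, h, Matrix.vecMulVec_zero, add_zero])
  obtain ⟨P₁, hP₁, hcol⟩ := exists_col a ha 0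
  have hP₁a : P₁ *ᵥ Pi.single 0 1 = a := by
    rw [Matrix.mulVec_single_one]; exact funext hcol
  set ψ := φ ᵥ* P₁ with hψdef
  have hψ0 : ψ 0 = 0 := by
    rw [← hφa]; simp [hψdef, Matrix.vecMul, dotProduct, hcol]
  have hψ : ψ ≠ 0 := fun h => hφ0 (by
    have := congrArg (· ᵥ* P₁⁻¹) (hψdef.symm.trans h)
    simpa [Matrix.vecMul_vecMul, Matrix.mul_nonsing_inv _ hP₁] using this)
  have hψ' : (fun i : Fin (m + 2) => ψ i.succ) ≠ 0 := fun h => hψ (funext fun i => by
    cases i using Fin.cases with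
    | zero => exact hψ0
    | succ i => exact congrFun h i)
  obtain ⟨R, hR, hRcol⟩ := exists_col _ hψ' (Fin.last (m + 1))
  have hRt : IsUnit Rᵀ.det := by rwa [Matrix.det_transpose]
  have hrow : (fun i : Fin (m + 2) => ψ i.succ) ᵥ* Rᵀ⁻¹ = Pi.single (Fin.last (m + 1)) 1 := by
    have h2 : Pi.single (Fin.last (m + 1)) 1 ᵥ* Rᵀ = fun i : Fin (m + 2) => ψ i.succ := by
      rw [Matrix.single_vecMul, one_smul]; exact funext hRcol
    rw [← h2, Matrix.vecMul_vecMul, Matrix.mul_nonsing_inv _ hRt, Matrix.vecMul_one]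
  set Q := border 1 0 0 Rᵀ⁻¹
  have hQ : IsUnit Q.det := by
    rw [det_border_zero_col, one_mul]; exact Matrix.isUnit_nonsing_inv_det _ hRt
  refine ⟨P₁ * Q, by rw [Matrix.det_mul]; exact hP₁.mul hQ, ?_⟩
  have e1 : (P₁ * Q) *ᵥ Pi.single 0 1 = a := by
    rw [← Matrix.mulVec_mulVec, show Q *ᵥ Pi.single 0 1 = Pi.single 0 1 from ?_, hP₁a]
    rw [Matrix.mulVec_single_one]
    funext i
    cases i using Fin.cases <;> simp [Q, Matrix.col]
  have e2 : φ ᵥ* (P₁ * Q) = Pi.single (Fin.last (m + 2)) 1 := by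
    rw [← Matrix.vecMul_vecMul, ← hψdef]
    funext j
    cases j using Fin.cases with
    | zero => simp [Q, Matrix.vecMul, dotProduct, Fin.sum_univ_succ, hψ0, Pi.single_apply, Fin.ext_iff]
    | succ j =>
      have h3 := congrFun hrow j
      have h4 : (ψ ᵥ* Q) j.succ = ((fun i : Fin (m + 2) => ψ i.succ) ᵥ* Rᵀ⁻¹) j := by
        simp [Q, Matrix.vecMul, dotProduct, Fin.sum_univ_succ]
      rw [h4, h3]
      simp [Pi.single_apply, ← Fin.succ_last]
  rw [hG, Matrix.add_mul, Matrix.mul_add, Matrix.one_mul, Matrix.mul_one, Matrix.vecMulVec_mul, e2,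
    Matrix.mul_vecMulVec, e1]

end helpers


/-- Let K be a field with at least four elements (finite or infinite), n ≥ 3, and J ∈ GL(n, K) the regular unipotent matrix (ones on the diagonal and the superdiagonal, zeros elsewhere). Then every non-scalar g ∈ GL(n, K) with det g = 1 is a product of two GL(n, K)-conjugates of J. -/
theorem result {K : Type*} [Field K] (hK : 4 ≤ Cardinal.mk K) (n : ℕ) (hn : 3 ≤ n) (J g : GL (Fin n) K)
    (hJ : ∀ i j : Fin n, (J : Matrix (Fin n) (Fin n) K) i j = if i = j then 1 else if j.val = i.val + 1 then 1 else 0)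
    (hg : ¬ ∃ c : K, (g : Matrix (Fin n) (Fin n) K) = c • (1 : Matrix (Fin n) (Fin n) K))
    (hdet : (g : Matrix (Fin n) (Fin n) K).det = 1) :
    ∃ x y : GL (Fin n) K, g = (x * J * x⁻¹) * (y * J * y⁻¹) := by
  classical
  obtain ⟨m, rfl⟩ : ∃ m, n = m + 3 := ⟨n - 3, by omega⟩
  have hJ' : (J : Matrix (Fin (m + 3)) (Fin (m + 3)) K) = jordan K (m + 3) := by
    ext i j; rw [hJ]; rfl
  obtain ⟨e⟩ : Nonempty (Fin 4 ↪ K) := by
    rw [← Cardinal.lift_mk_le']
    simpa using hK
  have hbig : Nonempty (Fin 5 ↪ K) ∨ ∀ ν : K, ν ^ 2 = 1 → ν = 1 := by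
    by_cases h : Nonempty (Fin 5 ↪ K)
    · exact Or.inl h
    right
    haveI : Finite K := by
      by_contra hinf
      rw [not_finite_iff_infinite] at hinf
      exact h ⟨Fin.valEmbedding.trans (Infinite.natEmbedding K)⟩
    haveI := Fintype.ofFinite K
    have h4 : Fintype.card K = 4 := by
      have hle := Fintype.card_le_of_embedding e
      rw [Fintype.card_fin] at hle
      have hlt : ¬ 5 ≤ Fintype.card K := fun h5 =>
        h ⟨(Fin.castLEEmb h5).trans (Fintype.equivFin K).symm.toEmbedding⟩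
      omega
    intro ν hν
    have := FiniteField.pow_card ν
    rw [h4, show (4 : ℕ) = 2 * 2 from rfl, pow_mul, hν, one_pow] at this
    exact this.symm
  have hns : ∀ μ : K, (g : Matrix (Fin (m + 3)) (Fin (m + 3)) K) ≠ μ • 1 := fun μ hμ => hg ⟨μ, hμ⟩
  by_cases hr : 2 ≤ Module.finrank K (LinearMap.range (Matrix.toLin' (g : Matrix (Fin (m + 3)) (Fin (m + 3)) K) -
      LinearMap.id : (Fin (m + 3) → K) →ₗ[K] _))
  · obtain ⟨P, hP, L, U, hL, hU, he, -, -⟩ := exists_reg e hbig (m + 2) _ hdet (Or.inr ⟨hns, hr⟩)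
      (Pi.single 0 1) (Pi.single 0 1) (by simp) (by simp)
    obtain ⟨PA, hPA, hA⟩ := conj_jordan_lower (by omega) hL
    obtain ⟨PB, hPB, hB⟩ := conj_jordan_upper (by omega) hU
    exact pair_of_similar hP hPA hPB he (hJ' ▸ hA) (hJ' ▸ hB)
  · obtain ⟨P, hP, he⟩ := transvection_normal hdet (fun h => hns 1 (by rw [one_smul]; exact h)) (by omega)
    obtain ⟨A, B, hA, hB, hAB⟩ := transvection_factor (K := K) (m := m)
    obtain ⟨PA, hPA, hA'⟩ := conj_jordan_upper (by omega) hA
    obtain ⟨PB, hPB, hB'⟩ := conj_jordan_upper (by omega) hB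
    rw [← hAB] at he
    exact pair_of_similar hP hPA hPB he (hJ' ▸ hA') (hJ' ▸ hB')

end Cfsg.Agent.S2522
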