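import Cfsg.Statements.S0440
import Cfsg.Agent.H48.Form

set_option autoImplicit false
open Cfsg

namespace Cfsg.Agent.S0440

open Matrix H48

variable {n : ℕ}

/-- Being a symplectic transvection is being `tv v 1` with `v ≠ 0`. -/
theorem rank_one_iff (g : Matrix.symplecticGroup (Fin n) (ZMod 2)) :
    ((g : Matrix (Fin n ⊕ Fin n) (Fin n ⊕ Fin n) (ZMod 2)) - 1).rank = 1 ↔
      ∃ v : Fin n ⊕ Fin n → ZMod 2, v ≠ 0 ∧ g = tv v 1 := by
  constructor
  · intro h
    set M := (g : Matrix (Fin n ⊕ Fin n) (Fin n ⊕ Fin n) (ZMod 2)) - 1 with hM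
    rw [Matrix.rank, finrank_eq_one_iff'] at h
    obtain ⟨⟨v, hv⟩, hv0, hspan⟩ := h
    have hv0' : v ≠ 0 := fun h => hv0 (Subtype.ext h)
    refine ⟨v, hv0', sp_ext fun x => ?_⟩
    have hx : ∀ y, ∃ c : ZMod 2, g • y = y + c • v := fun y => by
      obtain ⟨c, hc⟩ := hspan ⟨M.mulVecLin y, y, rfl⟩
      refine ⟨c, ?_⟩
      have h1 : c • v = M *ᵥ y := congrArg Subtype.val hc
      rw [h1, hM, sub_mulVec, one_mulVec, spSmulDef, add_sub_cancel]
    obtain ⟨a, ha⟩ := hx x
    rw [tv_smul, ha, one_mul]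
    congr 2
    obtain ⟨z, hz⟩ := exists_sf_ne hv0'
    obtain ⟨b, hb⟩ := hx z
    have key := sf_smul_smul g x z
    rw [ha, hb] at key
    simp only [map_add, LinearMap.add_apply, map_smul, LinearMap.smul_apply, sf_self,
      smul_eq_mul] at key
    -- `g` moves some vector, so `v` is its direction
    have h2 : ∀ t : ZMod 2, t = 0 ∨ t = 1 := by decide
    have hz1 : sf v z = 1 := (h2 _).resolve_left hz
    rcases h2 b with rfl | rfl
    · rw [hz1] at key
      have hab : ∀ (y : Fin n ⊕ Fin n → ZMod 2) (c : ZMod 2), g • y = y + c • v → c = 0 := by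
        intro y c hc
        have k := sf_smul_smul g y z
        rw [hc, hb] at k
        simp only [map_add, LinearMap.add_apply, map_smul, LinearMap.smul_apply,
          smul_eq_mul, hz1] at k
        simpa using k
      exfalso
      obtain ⟨u, hu⟩ := hv
      have h1 : g • u = u + (1 : ZMod 2) • v := by
        rw [one_smul, ← hu, Matrix.mulVecLin_apply, hM, sub_mulVec, one_mulVec, spSmulDef,
          add_sub_cancel]
      exact one_ne_zero (hab u 1 h1)
    · rw [hz1] at key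
      have : a = - sf x v := by linear_combination key
      rw [this, ZMod.neg_eq_self_mod_two]
  · rintro ⟨v, hv, rfl⟩
    have he : ((tv v 1 : Matrix.symplecticGroup (Fin n) (ZMod 2)) :
        Matrix (Fin n ⊕ Fin n) (Fin n ⊕ Fin n) (ZMod 2)) - 1 =
        Matrix.vecMulVec v (Matrix.J (Fin n) (ZMod 2) *ᵥ v) := by
      show transMat v 1 - 1 = _
      rw [transMat, one_smul, add_sub_cancel_left]
    rw [he]
    refine le_antisymm (Matrix.rank_vecMulVec_le _ _) ?_
    refine Nat.one_le_iff_ne_zero.2 fun h0 => hv ?_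
    rw [Matrix.rank, Submodule.finrank_eq_zero, LinearMap.range_eq_bot] at h0
    obtain ⟨z, hz⟩ := exists_sf_ne hv
    have h1 := DFunLike.congr_fun h0 z
    rw [Matrix.mulVecLin_apply, vecMulVec_mulVec, op_smul_eq_smul, dotProduct_comm,
      ← sf_def, LinearMap.zero_apply, smul_eq_zero] at h1
    exact h1.resolve_left fun h => hz (sf_eq_zero_comm h)

/-- In the symplectic group in dimension 2n ≥ 2 over the field with two elements, the elements g for which g - 1 has rank one (the symplectic transvections) form a conjugacy class of 3-transpositions generating the group. -/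
theorem result (n : ℕ) (hn : 1 ≤ n) : Cfsg.IsThreeTranspositionClass {g : Matrix.symplecticGroup (Fin n) (ZMod 2) | ((g : Matrix (Fin n ⊕ Fin n) (Fin n ⊕ Fin n) (ZMod 2)) - 1).rank = 1} := by
  have hset : {g : Matrix.symplecticGroup (Fin n) (ZMod 2) |
      ((g : Matrix (Fin n ⊕ Fin n) (Fin n ⊕ Fin n) (ZMod 2)) - 1).rank = 1} =
      {g | ∃ v : Fin n ⊕ Fin n → ZMod 2, v ≠ 0 ∧ g = H48.tv v 1} :=
    Set.ext fun g => rank_one_iff g
  rw [hset]
  have h2 : ∀ t : ZMod 2, t = 0 ∨ t = 1 := by decide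
  have hinv : ∀ v : Fin n ⊕ Fin n → ZMod 2, H48.tv v (1 : ZMod 2) * H48.tv v 1 = 1 := fun v => by
    rw [H48.tv_mul, show (1 : ZMod 2) + 1 = 0 from by decide, H48.tv_zero]
  have hinj : ∀ v : Fin n ⊕ Fin n → ZMod 2, v ≠ 0 → H48.tv v (1 : ZMod 2) ≠ 1 := fun v hv h => by
    obtain ⟨z, hz⟩ := H48.exists_sf_ne hv
    have h1 := congrArg (fun g : Matrix.symplecticGroup (Fin n) (ZMod 2) => g • z) h
    rw [H48.tv_smul, one_smul, one_mul, add_eq_left, smul_eq_zero] at h1
    exact h1.elim (fun e => hz (H48.sf_eq_zero_comm e)) hv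
  refine ⟨⟨?_, ?_⟩, ?_, ?_⟩
  · rintro _ ⟨v, hv, rfl⟩
    exact orderOf_eq_prime (by rw [pow_two, hinv]) (hinj v hv)
  · rintro _ ⟨u, hu, rfl⟩ _ ⟨w, hw, rfl⟩
    have hc : ∀ a b : Fin n ⊕ Fin n → ZMod 2,
        H48.tv a 1 * H48.tv b 1 * H48.tv a 1 = H48.tv (b + H48.sf b a • a) (1 : ZMod 2) := by
      intro a b
      have h := H48.tv_conj (H48.tv a (1 : ZMod 2)) b 1
      rwa [inv_eq_of_mul_eq_one_right (hinv a), H48.tv_smul, one_mul] at h
    rcases h2 (H48.sf u w) with h | h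
    · left
      have hc1 := hc u w
      rw [H48.sf_eq_zero_comm h, zero_smul, add_zero] at hc1
      rw [pow_two, ← mul_assoc, hc1, hinv]
    · right
      have hwu : H48.sf w u = 1 := by rw [H48.sf_swap, h]; decide
      have hc1 := hc u w
      have hc2 := hc w u
      rw [hwu, one_smul] at hc1
      rw [h, one_smul, add_comm, ← hc1] at hc2
      calc (H48.tv u (1 : ZMod 2) * H48.tv w 1) ^ 3
          = (H48.tv u 1 * H48.tv w 1 * H48.tv u 1) * (H48.tv w 1 * H48.tv u 1 * H48.tv w 1) := by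
            simp only [pow_succ, pow_zero, one_mul, mul_assoc]
        _ = (H48.tv w 1 * H48.tv u 1 * H48.tv w 1) * (H48.tv w 1 * H48.tv u 1 * H48.tv w 1) := by rw [hc2]
        _ = 1 := by
            simp only [mul_assoc]
            rw [← mul_assoc (H48.tv w 1) (H48.tv w 1), hinv, one_mul,
              ← mul_assoc (H48.tv u 1) (H48.tv u 1), hinv, one_mul, hinv]
  · let v₀ : Fin n ⊕ Fin n → ZMod 2 := Pi.single (Sum.inl ⟨0, hn⟩) 1
    have hv₀ : v₀ ≠ 0 := fun h => by simpa [v₀] using congrFun h (Sum.inl ⟨0, hn⟩)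
    refine ⟨H48.tv v₀ 1, ⟨v₀, hv₀, rfl⟩, Set.ext fun g => ?_⟩
    rw [show g ∈ conjugatesOf (H48.tv v₀ (1 : ZMod 2)) ↔ IsConj (H48.tv v₀ (1 : ZMod 2)) g from Iff.rfl, isConj_iff]
    constructor
    · rintro ⟨v, hv, rfl⟩
      obtain ⟨h, -, e⟩ := H48.witt_vec hv₀ hv
      exact ⟨h, by rw [H48.tv_conj, e]⟩
    · rintro ⟨h, rfl⟩
      exact ⟨h • v₀, fun e => hv₀ ((smul_eq_zero_iff_eq h).1 e), H48.tv_conj h v₀ 1⟩
  · rw [eq_top_iff, ← H48.transGroup_eq_top, H48.transGroup, Subgroup.closure_le]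
    rintro A ⟨w, c, hA⟩
    obtain rfl : A = H48.tv w c := Subtype.ext hA
    rcases eq_or_ne w 0 with rfl | hw
    · rw [H48.tv_zero_left]; exact one_mem _
    rcases h2 c with rfl | rfl
    · rw [H48.tv_zero]; exact one_mem _
    · exact Subgroup.subset_closure ⟨w, hw, rfl⟩

end Cfsg.Agent.S0440
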