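import Cfsg.Agent.H33.NilpMaximal
import Cfsg.Agent.H79.GlaubermanThompson
import Cfsg.Agent.H1.FPF
import Cfsg.Statements.S4040
-- import your own Cfsg.Agent.* helpers here

set_option autoImplicit false
open Cfsg

namespace Cfsg.Agent.S4040

/-- A finite group possessing a maximal subgroup that is nilpotent of odd order is solvable. -/
theorem result {G : Type*} [Group G] [Finite G]
    (M : Subgroup G) (hmax : IsCoatom M) (hnil : Group.IsNilpotent M) (hodd : Odd (Nat.card M)) :
    Group.IsSolvable G := by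
  refine H33.isSolvable_of_nilpotent_maximal
    (fun G _ M => Odd (Nat.card M)) ?_ ?_ (Nat.card G) G le_rfl M hmax hnil hodd
  · intro G _ _ M N _ _ h
    exact h.of_dvd_nat (Subgroup.card_map_dvd M _)
  · intro G _ _ M hmax hnil hcore hC p hp hpd
    haveI : Fact p.Prime := ⟨hp⟩
    obtain ⟨S, hSM, hSne, hNS⟩ := H33.sylow_of_coreFree hmax hnil hcore hpd
    have hp2 : p ≠ 2 := by
      rintro rfl
      exact (Nat.not_even_iff_odd.mpr hC) (even_iff_two_dvd.mpr hpd)
    refine H79.hasNormalPComplement_of_ZJ hp2 true (Nat.card G) G le_rfl S (S : Subgroup G)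
      ⟨le_rfl, fun _ _ _ hg => hg⟩ ?_
    rw [H33.le_of_coreFree hmax hcore ((H79.ZJ_le (S : Subgroup G)).trans hSM)
      (H79.ZJ_ne_bot S.isPGroup' hSne) (hNS ▸ H79.ZJ_normalizer_le (S : Subgroup G))]
    exact H1.hasNormalPComplement_of_nilpotent p hnil

end Cfsg.Agent.S4040
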