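import Cfsg.Statements.S0371
import Cfsg.Agent.H90.Group
-- import your own Cfsg.Agent.* helpers here

set_option autoImplicit false
open Cfsg

namespace Cfsg.Agent.S0371

/-- Multiplication by a nonzero square residue modulo 23, fixing the extra point, lies in the group of the length-24 code. -/
theorem result (u : (ZMod 23)ˣ) (hu : IsSquare u) : Equiv.optionCongr (Units.mulLeft u) ∈ Cfsg.M24 := by
  have key : ∀ r : ZMod 23, r ≠ 0 → ∀ i : Fin 24,
      (H90.idx ((H90.pt i).map (fun x => r * r * x))).val =
        H90.img (H90.packAux (fun i => (H90.idx ((H90.pt (Fin.ofNat 24 i)).map (fun x => r * r * x))).val) 24) i.val ∧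
      H90.preservesCode (H90.packAux (fun i => (H90.idx ((H90.pt (Fin.ofNat 24 i)).map (fun x => r * r * x))).val) 24) = true := by
    decide +kernel
  haveI : Fact (1 < 23) := ⟨by norm_num⟩
  obtain ⟨v, rfl⟩ := hu
  refine (H90.mem_M24_iff_preservesCode fun i => ?_).mpr (key v.val v.ne_zero 0).2
  simpa [Option.map] using (key v.val v.ne_zero i).1

end Cfsg.Agent.S0371
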