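import Cfsg.Statements.S0824
import Cfsg.Agent.H38.StdForms
import Cfsg.Agent.H38.FieldTransport
-- import your own Cfsg.Agent.* helpers here

set_option autoImplicit false
open Cfsg Matrix

namespace Cfsg.Agent.S0824

/-- O⁻_4(2) ≅ S_5: the isometry group of the form x y + z_1² + z_1 z_2 + z_2² over the field with 2 elements is isomorphic to the symmetric group on 5 letters. -/
theorem result {F : Type*} [Field F] [Fintype F] (hF : Fintype.card F = 2) : Nonempty (↥(Cfsg.isometryGroup F (Cfsg.quadFormMinus 1 F 1 1)) ≃* Equiv.Perm (Fin 5)) := by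
  classical
  set Q := Cfsg.quadFormMinus 1 F 1 1 with hQ
  let ι := (Fin 1 ⊕ Fin 1) ⊕ Fin 2
  have hall : ∀ x : F, x = 0 ∨ x = 1 := by
    intro x
    by_contra h
    push Not at h
    have : ({0, 1, x} : Finset F).card = 3 := by simp [h.1.symm, h.2.symm]
    have h' := Finset.card_le_univ ({0, 1, x} : Finset F)
    omega
  have h11 : (1 : F) + 1 = 0 := by
    rcases hall (1 + 1) with h | h
    · exact h
    · exact absurd (by linear_combination h : (1 : F) = 0) one_ne_zero
  have hab : ∀ z₁ z₂ : F, z₁ ^ 2 + 1 * z₁ * z₂ + 1 * z₂ ^ 2 = 0 → z₁ = 0 ∧ z₂ = 0 := by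
    intro z₁ z₂ h
    rcases hall z₁ with rfl | rfl <;> rcases hall z₂ with rfl | rfl <;> simp_all
  let S : Set (ι → F) := {v | v ≠ 0 ∧ Q v = 0}
  let Φ := (Cfsg.isometryGroup F Q).subtype
  have hS : ∀ g, ∀ v ∈ S, (Φ g : Matrix ι ι F) *ᵥ v ∈ S := fun g v hv =>
    ⟨fun h => hv.1 (by
      have h' := congrArg ((Φ g⁻¹ : Matrix ι ι F) *ᵥ ·) h
      simp only [Matrix.mulVec_mulVec, ← Units.val_mul, ← map_mul, inv_mul_cancel, map_one, Units.val_one,
        Matrix.one_mulVec, Matrix.mulVec_zero] at h'
      exact h'), (H38.mem_isometryGroup'.mp g.2 v).trans hv.2⟩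
  let ψ := H38.setPerm Φ S hS
  have hinj : Function.Injective ψ := by
    rw [injective_iff_map_eq_one]
    intro g hg
    have h0 := H38.setPerm_eq_one Φ S hS hg
    let M : (ι → F) →ₗ[F] (ι → F) := Matrix.mulVecLin (Φ g : Matrix ι ι F)
    let p : Fin 4 → ι → F := ![Sum.elim (Sum.elim 1 0) 0, Sum.elim (Sum.elim 0 1) 0,
      Sum.elim (Sum.elim 1 1) ![1, 0], Sum.elim (Sum.elim 1 1) ![0, 1]]
    have hp : ∀ k, M (p k) = p k := fun k => h0 _ (by
      fin_cases k <;>
        refine ⟨fun h => ?_, ?_⟩ <;>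
        first
          | (simp [p, Q, Cfsg.quadFormMinus, h11]; done)
          | (have := congr_fun h (.inl (.inl 0)); simp [p] at this; done)
          | (have := congr_fun h (.inl (.inr 0)); simp [p] at this; done))
    have hM : M = LinearMap.id := by
      refine LinearMap.ext fun v => ?_
      have hv : v = (v (.inl (.inl 0)) - v (.inr 0) - v (.inr 1)) • p 0 +
          (v (.inl (.inr 0)) - v (.inr 0) - v (.inr 1)) • p 1 + v (.inr 0) • p 2 + v (.inr 1) • p 3 := by
        funext i
        rcases i with (i | i) | i <;> fin_cases i <;> simp [p] <;> ring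
      rw [hv]
      simp only [map_add, map_smul, hp, LinearMap.id_apply]
    refine Subtype.ext (Units.ext (Matrix.toLin'.injective ?_))
    show Matrix.toLin' (Φ g : Matrix ι ι F) = Matrix.toLin' 1
    rw [Matrix.toLin'_one]
    exact hM
  have hcardS : Nat.card S = 5 := by
    have h := H38.minus_nonzero_zeros (F := F) 1 1 1 hab
    rw [hF] at h
    have e : Nat.card {v : ι → F // Q v = 0} = Nat.card S + 1 := by
      have e1 : {v : ι → F | Q v = 0} = insert 0 S := by
        ext v
        by_cases hv : v = 0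
        · subst hv; simp [Q, Cfsg.quadFormMinus]
        · simp [S, hv]
      have e2 := congrArg Set.ncard e1
      rw [Set.ncard_insert_of_notMem (by simp [S])] at e2
      rw [← Nat.card_coe_set_eq, ← Nat.card_coe_set_eq] at e2
      exact e2
    rw [show Nat.card {v // Cfsg.quadFormMinus 1 F 1 1 v = 0} = Nat.card S + 1 from e] at h
    norm_num [-Nat.card_eq_fintype_card] at h
    rw [Nat.card_coe_set_eq]; exact h
  have hcard : Nat.card (Cfsg.isometryGroup F Q) = Nat.card (Equiv.Perm S) := by
    rw [Nat.card_perm, hcardS, hQ, H38.card_minus 1 1 1 hab, hF]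
    norm_num [Finset.prod_range_succ, Nat.factorial]
  let e5 : S ≃ Fin 5 := (Finite.equivFinOfCardEq hcardS)
  exact ⟨(MulEquiv.ofBijective ψ ((Nat.bijective_iff_injective_and_card ψ).2 ⟨hinj, hcard⟩)).trans
    (Equiv.permCongrHom e5)⟩

end Cfsg.Agent.S0824
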