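import Cfsg.Statements.S3344
import Cfsg.Agent.H55.SThree.FromHyp
import Cfsg.Agent.H55.SThree.Classes
import Cfsg.Agent.H78.MTwelve.FromFrame
import Cfsg.Agent.H78.EightNine
import Cfsg.Agent.H78.Copy.Build

set_option autoImplicit false
open Cfsg

namespace Cfsg.Agent.S3344

/-- Let G be a finite group with an involution s, L = C_G(s) and Q = O₂(L). Suppose Q is extraspecial of order 32, L/Q is isomorphic to Sym(3), C_Q(X) = ⟨s⟩ for a Sylow 3-subgroup X of L, and s is not weakly closed in Q with respect to G (some conjugate of s other than s lies in Q). Then either G has an elementary abelian normal subgroup of order 8 with quotient isomorphic to PSL(3,2), or G is isomorphic to the alternating group of degree 8 or 9, or to the Mathieu group M₁₂. -/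
theorem result {G : Type*} [Group G] [Finite G]
    (s : G) (hs : orderOf s = 2) (L : Subgroup G) (hL : L = Subgroup.centralizer ({s} : Set G))
    (Q : Subgroup G) (hQ : Q = (Cfsg.pCore 2 L).map L.subtype)
    (hQex : Cfsg.IsExtraspecial 2 Q) (hQcard : Nat.card Q = 32)
    (e : L ⧸ Cfsg.pCore 2 L ≃* Equiv.Perm (Fin 3))
    (X : Sylow 3 L) (hCQX : Q ⊓ Subgroup.centralizer (((X : Subgroup L).map L.subtype : Subgroup G) : Set G) = Subgroup.zpowers s)
    (hnwc : ∃ g : G, g * s * g⁻¹ ∈ Q ∧ g * s * g⁻¹ ≠ s) :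
    (∃ (N : Subgroup G) (hN : N.Normal), IsMulCommutative N ∧ (∀ n ∈ N, n ^ 2 = 1) ∧ Nat.card N = 8 ∧
        Nonempty (G ⧸ N ≃* Matrix.ProjectiveSpecialLinearGroup (Fin 3) (ZMod 2))) ∨
    Nonempty (G ≃* alternatingGroup (Fin 8)) ∨ Nonempty (G ≃* alternatingGroup (Fin 9)) ∨ Cfsg.Spor.IsoM12 G := by
  obtain ⟨sw, e', φ, F⟩ := H55.SThree.exists_frame_of_hyp s hs L hL Q hQ hQex hQcard e X hCQX
  obtain ⟨g, hgQ, hgs⟩ := hnwc
  have hinner : sw = false → e' = false → _ := fun h1 h2 => by
    subst h1 h2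
    exact H78.MTwelve.pair_case F g hgQ hgs
  rcases F.fused_or g hgQ hgs with ⟨a, -, -, hf⟩ | ⟨h1, h2⟩
  · have he : e' = false := H55.SThree.Frame.Fused.plus F hf
    cases sw with
    | false => exact (hinner rfl he).elim Or.inl (fun h => Or.inr (Or.inr (Or.inr h)))
    | true =>
      subst he
      rcases F.swap_case g hgQ hgs with h | ⟨ψ, W⟩
      · exact Or.inl h
      · obtain ⟨G0, ⟨e0⟩, hL0⟩ := H78.Copy.exists_copy W
        rcases H78.eight_or_nine W G0 e0 hL0 with h | h
        · exact Or.inr (Or.inl h)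
        · exact Or.inr (Or.inr (Or.inl h))
  · exact (hinner h1 h2).elim Or.inl (fun h => Or.inr (Or.inr (Or.inr h)))

end Cfsg.Agent.S3344
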