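import Mathlib
import Cfsg.Prelude.Def_GeometricClasses
import Cfsg.Agent.H38.SubfieldTv

set_option autoImplicit false
open Cfsg Matrix
open scoped MatrixGroups

namespace Cfsg.Agent.S5639

variable {ι : Type} [Fintype ι] [DecidableEq ι] {F : Type*} [Field F]

/-- Membership in rational matrices times scalars. -/
theorem mem_std (F₀ : Subfield F) (g : GL ι F) :
    g ∈ (Matrix.GeneralLinearGroup.map (F₀.subtype : F₀ →+* F)).range ⊔ Cfsg.Geo.scalars ι F ↔
      ∃ c : F, c ≠ 0 ∧ ∀ i j, c * (g : Matrix ι ι F) i j ∈ F₀ := by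
  constructor
  · intro hg
    obtain ⟨x, ⟨x₀, rfl⟩, y, hy, rfl⟩ := Subgroup.mem_sup_of_normal_right.1 hg
    obtain ⟨c, hc⟩ := (Cfsg.Geo.mem_scalars_iff y).1 hy
    refine ⟨(c : F)⁻¹, inv_ne_zero c.ne_zero, fun i j => ?_⟩
    rw [Units.val_mul, hc, Matrix.mul_smul, Matrix.mul_one, Matrix.smul_apply, smul_eq_mul,
      ← mul_assoc, inv_mul_cancel₀ c.ne_zero, one_mul]
    exact SetLike.coe_mem (((x₀ : Matrix ι ι F₀)) i j)
  · rintro ⟨c, hc, hg⟩
    set A : Matrix ι ι F₀ := Matrix.of fun i j => (⟨c * (g : Matrix ι ι F) i j, hg i j⟩ : F₀) with hA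
    have hAmap : A.map (F₀.subtype) = c • (g : Matrix ι ι F) := by
      ext i j; rfl
    have hdet : A.det ≠ 0 := by
      intro h0
      have := congrArg Matrix.det hAmap
      rw [← RingHom.mapMatrix_apply, ← RingHom.map_det, h0, map_zero, Matrix.det_smul] at this
      rcases mul_eq_zero.1 this.symm with h | h
      · exact hc (pow_eq_zero_iff'.1 h).1
      · exact Matrix.GeneralLinearGroup.det_ne_zero g h
    set x := Matrix.GeneralLinearGroup.mkOfDetNeZero A hdet with hx
    have : g = Matrix.GeneralLinearGroup.map (F₀.subtype : F₀ →+* F) x *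
        Units.map (Matrix.scalar ι : F →+* Matrix ι ι F).toMonoidHom (Units.mk0 c hc)⁻¹ := by
      apply Units.ext
      rw [Units.val_mul]
      show (g : Matrix ι ι F) = A.map (F₀.subtype) * Matrix.scalar ι c⁻¹
      rw [hAmap, Matrix.scalar_apply, ← Matrix.smul_one_eq_diagonal, Matrix.mul_smul, Matrix.mul_one,
        smul_smul, inv_mul_cancel₀ hc, one_smul]
    rw [this]
    exact mul_mem (Subgroup.mem_sup_left ⟨x, rfl⟩) (Subgroup.mem_sup_right ⟨_, rfl⟩)

theorem mem_specialLinear_iff' (g : GL ι F) :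
    g ∈ Cfsg.Geo.specialLinear ι F ↔ (g : Matrix ι ι F).det = 1 := by
  rw [Cfsg.Geo.specialLinear, MonoidHom.mem_ker, Units.ext_iff]
  rfl

variable [Finite F]

/-- The standard subfield subgroup is maximal in `SL`. -/
theorem std_maximal (F₀ : Subfield F) {r : ℕ} (hr : r.Prime)
    (hq : Nat.card F = Nat.card F₀ ^ r) (h8 : 8 ≤ Fintype.card ι) :
    Cfsg.Geo.IsMaximalIn (Cfsg.Geo.specialLinear ι F)
      (((Matrix.GeneralLinearGroup.map (F₀.subtype : F₀ →+* F)).range ⊔ Cfsg.Geo.scalars ι F) ⊓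
        Cfsg.Geo.specialLinear ι F) := by
  obtain ⟨s, hs⟩ : ∃ s : F, s ∉ F₀ := by
    by_contra hc
    push Not at hc
    have : Nat.card F₀ = Nat.card F := Nat.card_congr (Equiv.subtypeUnivEquiv hc)
    rw [← this] at hq
    have := Nat.pow_lt_pow_right (Finite.one_lt_card (α := F₀)) hr.one_lt
    rw [pow_one, ← hq] at this
    omega
  obtain ⟨i0, j0, hne⟩ : ∃ i j : ι, i ≠ j := Fintype.exists_pair_of_one_lt_card (by omega)
  refine ⟨lt_of_le_not_ge inf_le_right fun hle => ?_, fun M hM hMS => ?_⟩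
  · have horth : (Pi.single j0 s : ι → F) ⬝ᵥ Pi.single i0 1 = 0 := by simp [hne]
    have hmem : H49.tr (Pi.single i0 (1 : F)) (Pi.single j0 s) horth ∈ Cfsg.Geo.specialLinear ι F := by
      rw [mem_specialLinear_iff', H49.tr_val, H49.det_trM, horth, add_zero]
    obtain ⟨c, hc, h⟩ := (mem_std F₀ _).1 (Subgroup.mem_inf.1 (hle hmem)).1
    have h1 := h i0 i0
    have h2 := h i0 j0
    simp [H49.tr_val, H49.trM, Matrix.vecMulVec_apply, hne, hne.symm] at h1 h2
    exact hs (by
      have := div_mem h2 h1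
      rwa [mul_div_cancel_left₀ _ hc] at this)
  by_cases heq : M ≤ ((Matrix.GeneralLinearGroup.map (F₀.subtype : F₀ →+* F)).range ⊔
      Cfsg.Geo.scalars ι F) ⊓ Cfsg.Geo.specialLinear ι F
  · exact Or.inl (le_antisymm heq hM)
  refine Or.inr (le_antisymm hMS fun g hg => ?_)
  have hrat : ∀ v φ : ι → F, H38.RatVec F₀ v → H38.RatVec F₀ φ → φ ⬝ᵥ v = 0 → H38.Tv M v φ := by
    intro v φ hv hφ h0
    refine ⟨h0, hM (Subgroup.mem_inf.2 ⟨(mem_std F₀ _).2 ⟨1, one_ne_zero, fun i j => ?_⟩, ?_⟩)⟩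
    · rw [one_mul, H49.tr_val, H49.trM, Matrix.add_apply, Matrix.one_apply, Matrix.vecMulVec_apply]
      refine add_mem ?_ (mul_mem (hv i) (hφ j))
      split
      · exact F₀.one_mem
      · exact F₀.zero_mem
    · rw [mem_specialLinear_iff', H49.tr_val, H49.det_trM, h0, add_zero]
  obtain ⟨u, huM, hu⟩ := SetLike.not_le_iff_exists.1 heq
  have hun : ¬ ∃ c : F, c ≠ 0 ∧ ∀ i j, c * (u : Matrix ι ι F) i j ∈ F₀ := fun h =>
    hu (Subgroup.mem_inf.2 ⟨(mem_std F₀ u).2 h, hMS huM⟩)
  set A := (u : Matrix ι ι F) with hA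
  set B := ((u⁻¹ : GL ι F) : Matrix ι ι F) with hB
  obtain ⟨i, j, k, l, hij, hkl⟩ : ∃ i j k l : ι, i ≠ j ∧ A k i * B j l ∉ F₀ := by
    by_contra hall
    push Not at hall
    have hrow : ∀ j, ∃ l, B j l ≠ 0 := by
      intro j
      by_contra hc
      push Not at hc
      have h1 : B * A = 1 := by rw [hA, hB, ← Units.val_mul, inv_mul_cancel, Units.val_one]
      have := congrFun (congrFun h1 j) j
      simp [Matrix.mul_apply, hc] at this
    have hcol : ∀ i, ∃ k, A k i ≠ 0 := by
      intro i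
      by_contra hc
      push Not at hc
      have h1 : B * A = 1 := by rw [hA, hB, ← Units.val_mul, inv_mul_cancel, Units.val_one]
      have := congrFun (congrFun h1 i) i
      simp [Matrix.mul_apply, hc] at this
    obtain ⟨l0, hl0⟩ := hrow j0
    obtain ⟨l1, hl1⟩ := hrow i0
    obtain ⟨i2, hi2, hi2', -⟩ := H38.exists_notMem_pair (by omega) i0 j0 i0
    obtain ⟨k2, hk2⟩ := hcol i2
    refine hun ⟨B j0 l0, hl0, fun k i => ?_⟩
    rw [mul_comm]
    rcases eq_or_ne i j0 with rfl | hi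
    · -- use another row of the inverse
      have h1 := hall i i0 k l1 hne.symm
      have h2 := hall i2 i k2 l0 hi2'
      have h3 := hall i2 i0 k2 l1 hi2
      have := mul_mem h1 (div_mem h2 h3)
      convert this using 1
      field_simp
    · exact hall i j0 k l0 hi
  have hT := H38.tv_conj huM (hrat (Pi.single i 1) (Pi.single j 1)
    (H38.ratVec_single i F₀.one_mem) (H38.ratVec_single j F₀.one_mem) (by simp [hij]))
  refine H38.sl_le_of_nonrat_tv hr hq h8 hrat ⟨k, l, ?_⟩ hT g ((mem_specialLinear_iff' g).1 hg)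
  simpa [hA, hB, Matrix.mulVec_single, Matrix.single_vecMul] using hkl

/-- For a finite field F, a subfield F₀ with |F| = |F₀| ^ r for a prime r, and n ≥ 13, the subfield group (the conjugate by any P of the product of GL_n(F₀) with the non-zero scalars of F, intersected with SL_n(F)) is a maximal subgroup of SL_n(F). -/
theorem result {F : Type*} [Field F] [Fintype F] (n : ℕ) (hn : 13 ≤ n) (F₀ : Subfield F) (r : ℕ) (hr : r.Prime) (hcard : Fintype.card F = Nat.card F₀ ^ r) (P : Matrix.GeneralLinearGroup (Fin n) F) : Cfsg.Geo.IsMaximalIn (Cfsg.Geo.specialLinear (Fin n) F) (Cfsg.Geo.subfieldSubgroup F₀ P ⊓ Cfsg.Geo.specialLinear (Fin n) F) := by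
  have hstd := std_maximal (ι := Fin n) F₀ hr
    (by rw [Nat.card_eq_fintype_card (α := F)]; exact hcard) (by rw [Fintype.card_fin]; omega)
  set c := (MulAut.conj P).toMonoidHom with hc
  have hinj : Function.Injective c := (MulAut.conj P).injective
  have hSL : (Cfsg.Geo.specialLinear (Fin n) F).map c = Cfsg.Geo.specialLinear (Fin n) F := by
    haveI : (Cfsg.Geo.specialLinear (Fin n) F).Normal := by
      rw [Cfsg.Geo.specialLinear]; infer_instance
    ext x
    rw [Subgroup.mem_map_equiv, MulAut.conj_symm_apply]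
    exact ⟨fun h => by
      have := Subgroup.Normal.conj_mem (H := Cfsg.Geo.specialLinear (Fin n) F) inferInstance _ h P
      simpa [mul_assoc] using this, fun h => by
      have := Subgroup.Normal.conj_mem (H := Cfsg.Geo.specialLinear (Fin n) F) inferInstance _ h P⁻¹
      simpa [mul_assoc] using this⟩
  have hH : Cfsg.Geo.subfieldSubgroup F₀ P ⊓ Cfsg.Geo.specialLinear (Fin n) F =
      (((Matrix.GeneralLinearGroup.map (F₀.subtype : F₀ →+* F)).range ⊔
        Cfsg.Geo.scalars (Fin n) F) ⊓ Cfsg.Geo.specialLinear (Fin n) F).map c := by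
    rw [Subgroup.map_inf _ _ _ hinj, hSL]; rfl
  rw [hH]
  suffices key : Cfsg.Geo.IsMaximalIn ((Cfsg.Geo.specialLinear (Fin n) F).map c)
      ((((Matrix.GeneralLinearGroup.map (F₀.subtype : F₀ →+* F)).range ⊔
        Cfsg.Geo.scalars (Fin n) F) ⊓ Cfsg.Geo.specialLinear (Fin n) F).map c) by
    rwa [hSL] at key
  refine ⟨?_, fun M h1 h2 => ?_⟩
  · exact lt_of_le_of_ne (Subgroup.map_mono hstd.1.le)
      fun h => hstd.1.ne (Subgroup.map_injective hinj h)
  · have hsurj : Function.Surjective c := (MulAut.conj P).surjective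
    rw [← Subgroup.map_comap_eq_self_of_surjective hsurj M] at h1 h2 ⊢
    rw [Subgroup.map_le_map_iff_of_injective hinj] at h1 h2
    rcases hstd.2 _ h1 h2 with h | h <;> rw [h]
    · exact Or.inl rfl
    · exact Or.inr rfl

end Cfsg.Agent.S5639
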