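import Mathlib
import Cfsg.Prelude.Def_GeometricClasses
import Cfsg.Prelude.Def_LieClassical
import Cfsg.Agent.H38.SpInSU

set_option autoImplicit false
open Cfsg Matrix H50 H38 H38.SpSU
open scoped MatrixGroups
open H51.StabMax (IsCtr suHom suHom_mem suHom_val exists_suHom_eq)

namespace Cfsg.Agent.S5660

variable {F : Type*} [Field F] {n : ℕ} {F₀ : Subfield F} {P : GL (Fin n) F}

theorem mem_subfield_iff (g : GL (Fin n) F) :
    g ∈ Cfsg.Geo.subfieldSubgroup F₀ P ↔
      ∃ c : F, c ≠ 0 ∧ ∀ i j, c * ((P⁻¹ * g * P : GL (Fin n) F) : Matrix (Fin n) (Fin n) F) i j ∈ F₀ := by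
  rw [Cfsg.Geo.subfieldSubgroup, Subgroup.mem_map_equiv, MulAut.conj_symm_apply,
    Cfsg.Agent.S5639.mem_std]

theorem conj_apply (g : GL (Fin n) F) (u : Fin n → F) :
    ((P⁻¹ * g * P : GL (Fin n) F) : Matrix (Fin n) (Fin n) F) *ᵥ u =
      ((P⁻¹ : GL (Fin n) F) : Matrix (Fin n) (Fin n) F) *ᵥ
        ((g : Matrix (Fin n) (Fin n) F) *ᵥ ((P : Matrix (Fin n) (Fin n) F) *ᵥ u)) := by
  rw [Matrix.mulVec_mulVec, Matrix.mulVec_mulVec, Units.val_mul, Units.val_mul]

theorem point_of_mem {g : GL (Fin n) F} (hg : g ∈ Cfsg.Geo.subfieldSubgroup F₀ P)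
    {v : Fin n → F} (hv : Rt F₀ P v) :
    ∃ (l : F) (r : Fin n → F), Rt F₀ P r ∧ (g : Matrix (Fin n) (Fin n) F) *ᵥ v = l • r := by
  obtain ⟨c, hc, h⟩ := (mem_subfield_iff g).1 hg
  refine ⟨c⁻¹, c • ((g : Matrix (Fin n) (Fin n) F) *ᵥ v), fun i => ?_,
    by rw [smul_smul, inv_mul_cancel₀ hc, one_smul]⟩
  have e : ((P⁻¹ : GL (Fin n) F) : Matrix (Fin n) (Fin n) F) *ᵥ
      ((g : Matrix (Fin n) (Fin n) F) *ᵥ v) =
      ((P⁻¹ * g * P : GL (Fin n) F) : Matrix (Fin n) (Fin n) F) *ᵥ
        (((P⁻¹ : GL (Fin n) F) : Matrix (Fin n) (Fin n) F) *ᵥ v) := by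
    rw [conj_apply, H49.gl_mulVec_inv]
  rw [Matrix.mulVec_smul, e, Pi.smul_apply, smul_eq_mul, Matrix.mulVec, dotProduct, Finset.mul_sum]
  exact sum_mem fun j _ => by rw [← mul_assoc]; exact mul_mem (h i j) (hv j)

/-- Mapping rational points to rational points means lying in the subfield group. -/
theorem mem_of_points (hn : 2 ≤ n) {g : GL (Fin n) F}
    (h : ∀ v : Fin n → F, Rt F₀ P v → v ≠ 0 →
      ∃ (l : F) (r : Fin n → F), Rt F₀ P r ∧ (g : Matrix (Fin n) (Fin n) F) *ᵥ v = l • r) :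
    g ∈ Cfsg.Geo.subfieldSubgroup F₀ P := by
  rw [mem_subfield_iff]
  set A := ((P⁻¹ * g * P : GL (Fin n) F) : Matrix (Fin n) (Fin n) F) with hA
  have hAinj : Function.Injective (A *ᵥ ·) := H49.gl_mulVec_injective _
  have hPinj := H49.gl_mulVec_injective P
  have hA' : ∀ u : Fin n → F, (∀ i, u i ∈ F₀) → u ≠ 0 →
      ∃ (l : F) (w : Fin n → F), (∀ i, w i ∈ F₀) ∧ A *ᵥ u = l • w := by
    intro u hu hu0
    obtain ⟨l, r, hr, he⟩ := h _ (rt_mulVec hu) fun h0 => hu0 (hPinj (by simpa using h0))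
    exact ⟨l, _, hr, by rw [hA, conj_apply, he, Matrix.mulVec_smul]⟩
  have hs : ∀ i j : Fin n, (Pi.single i (1 : F) : Fin n → F) j ∈ F₀ := fun i j => by
    by_cases h : j = i <;> simp [h]
  choose l w hw hl using fun i => hA' (Pi.single i 1) (hs i) (by simp)
  have hl0 : ∀ i, l i ≠ 0 := fun i h0 => by
    have h1 := hl i
    rw [h0, zero_smul] at h1
    have h2 : (Pi.single i (1 : F) : Fin n → F) = 0 := hAinj (h1.trans (Matrix.mulVec_zero A).symm)
    simpa using congrFun h2 i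
  have hratio : ∀ i j, l i / l j ∈ F₀ := by
    intro i j
    by_cases hij : i = j
    · rw [hij, div_self (hl0 j)]; exact F₀.one_mem
    obtain ⟨m, v, hv, hm⟩ := hA' (Pi.single i 1 + Pi.single j 1)
      (fun k => add_mem (hs i k) (hs j k)) (fun h0 => by
        have := congrFun h0 i
        simp [hij] at this)
    have hsum : ∀ k, l i * w i k + l j * w j k = m * v k := fun k => by
      have := congrFun hm k
      rwa [Matrix.mulVec_add, hl i, hl j] at this
    obtain ⟨k, k', hD⟩ : ∃ k k', w i k * w j k' - w i k' * w j k ≠ 0 := by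
      by_contra hc
      push Not at hc
      obtain ⟨k₀, hk₀⟩ : ∃ k₀, w i k₀ ≠ 0 := by
        by_contra hc'
        push Not at hc'
        have h1 := hl i
        rw [show w i = 0 from funext hc', smul_zero] at h1
        have h2 : (Pi.single i (1 : F) : Fin n → F) = 0 :=
          hAinj (h1.trans (Matrix.mulVec_zero A).symm)
        simpa using congrFun h2 i
      obtain ⟨κ, he⟩ : ∃ κ : F, w j = κ • w i := ⟨w j k₀ / w i k₀, funext fun k => by
        rw [Pi.smul_apply, smul_eq_mul]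
        field_simp
        linear_combination hc k₀ k⟩
      have h2 : A *ᵥ ((Pi.single j (1 : F) : Fin n → F) -
          (l j * κ / l i) • Pi.single i 1) = 0 := by
        rw [Matrix.mulVec_sub, Matrix.mulVec_smul, hl i, hl j, smul_smul,
          div_mul_cancel₀ _ (hl0 i), he, smul_smul, sub_self]
      have h3 := congrFun (hAinj (h2.trans (Matrix.mulVec_zero A).symm)) j
      simp [Ne.symm hij] at h3
    have e1 : l i * (w i k * w j k' - w i k' * w j k) = m * (v k * w j k' - v k' * w j k) := by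
      linear_combination w j k' * hsum k - w j k * hsum k'
    have e2 : l j * (w i k * w j k' - w i k' * w j k) = m * (w i k * v k' - w i k' * v k) := by
      linear_combination w i k * hsum k' - w i k' * hsum k
    have hm0 : m ≠ 0 := fun h0 => hl0 i (by
      rw [h0, zero_mul] at e1; exact (mul_eq_zero.1 e1).resolve_right hD)
    have hne : w i k * v k' - w i k' * v k ≠ 0 := fun h0 => hl0 j (by
      rw [h0, mul_zero] at e2; exact (mul_eq_zero.1 e2).resolve_right hD)
    have : l i / l j = (v k * w j k' - v k' * w j k) / (w i k * v k' - w i k' * v k) := by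
      rw [div_eq_div_iff (hl0 j) hne]
      apply mul_right_cancel₀ hD
      linear_combination (w i k * v k' - w i k' * v k) * e1 - (v k * w j k' - v k' * w j k) * e2
    rw [this]
    exact div_mem (sub_mem (mul_mem (hv _) (hw _ _)) (mul_mem (hv _) (hw _ _)))
      (sub_mem (mul_mem (hw _ _) (hv _)) (mul_mem (hw _ _) (hv _)))
  refine ⟨(l ⟨0, by omega⟩)⁻¹, inv_ne_zero (hl0 _), fun k i => ?_⟩
  have := congrFun (hl i) k
  simp at this
  rw [this, ← mul_assoc, mul_comm _ (l i), ← div_eq_mul_inv]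
  exact mul_mem (hratio _ _) (hw i k)

/-- Let F be the field with q² elements, n ≥ 13 even, and F₀ the subfield with q elements. Let ζ be a non-zero element with ζ + ζ^q = 0 and P an invertible matrix such that ζ times the standard unitary form takes values in F₀ on the F₀-span of the columns of P and the form vanishes on every pair (u, u) of that span (so ζ times the form restricts to a non-degenerate alternating form there). Then the elements of SU_n(q) lying in the subfield group of P form a maximal subgroup of SU_n(q). -/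
theorem result {F : Type*} [Field F] [Fintype F] (n q : ℕ) (hF : Fintype.card F = q ^ 2) (hn : 13 ≤ n) (heven : Even n) (F₀ : Subfield F) (hcard : Fintype.card F = Nat.card F₀ ^ 2) (ζ : F) (hζ0 : ζ ≠ 0) (hζ : ζ + ζ ^ q = 0) (P : Matrix.GeneralLinearGroup (Fin n) F) (hP : Cfsg.Geo.IsFormRationalStructure (Cfsg.hermForm n F q) F₀ ζ P) (halt : ∀ u : Fin n → F, (∀ i, u i ∈ F₀) → Cfsg.hermForm n F q (Matrix.mulVec (P : Matrix (Fin n) (Fin n) F) u) (Matrix.mulVec (P : Matrix (Fin n) (Fin n) F) u) = 0) : Cfsg.Geo.IsMaximalIn (Cfsg.GU n F q ⊓ Cfsg.Geo.specialLinear (Fin n) F) (Cfsg.Geo.subfieldSubgroup F₀ P ⊓ (Cfsg.GU n F q ⊓ Cfsg.Geo.specialLinear (Fin n) F)) := by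
  have halt' : ∀ a : Fin n → F, Rt F₀ P a → Cfsg.hermForm n F q a a = 0 := fun a ha => by
    have := halt _ ha
    rwa [H49.gl_mulVec_inv] at this
  set H := Cfsg.Geo.subfieldSubgroup F₀ P with hH
  have hctr : ∀ v, Rt F₀ P v → IsCtr (H.comap (suHom n F q)) v := by
    intro v hv
    refine ⟨halt' v hv, fun A c hc hA => ?_⟩
    rw [Subgroup.mem_comap, hH, mem_subfield_iff]
    refine ⟨1, one_ne_zero, fun i j => ?_⟩
    have e : ((P⁻¹ * suHom n F q A * P : GL (Fin n) F) : Matrix (Fin n) (Fin n) F) i j =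
        (((P⁻¹ * suHom n F q A * P : GL (Fin n) F) : Matrix (Fin n) (Fin n) F) *ᵥ Pi.single j 1) i := by
      simp
    rw [one_mul, e, conj_apply, suHom_val, hA, ut_mulVec, Matrix.mulVec_add, Matrix.mulVec_smul,
      H49.gl_inv_mulVec, Pi.add_apply, Pi.smul_apply, smul_eq_mul]
    refine add_mem ?_ (mul_mem (SpSU.mul_mem' (P := P) hF hcard halt' (by linear_combination hc)
      (anti_of_rt hF hcard halt' (rt_col j) hv)) (hv i))
    by_cases h : i = j <;> simp [h]
  obtain ⟨θ, hθ⟩ : ∃ θ : F, θ ∉ F₀ := by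
    by_contra hc
    push Not at hc
    have h1 := card_F₀ (P := P) hF hcard halt'
    rw [Nat.card_congr (Equiv.subtypeUnivEquiv hc), Nat.card_eq_fintype_card, hF] at h1
    have := two_le hF
    nlinarith
  -- one non-rational isotropic point
  obtain ⟨i₀⟩ : Nonempty (Fin n) := ⟨⟨0, by omega⟩⟩
  set a₀ := col P i₀ with ha₀
  obtain ⟨b₀, hb₀, hab₀, -, hb₀a, -⟩ := exists_rt_two hF hcard halt' (by omega) a₀ a₀ (P := P)
  have ha₀0 : a₀ ≠ 0 := fun h => by
    have h2 : (Pi.single i₀ (1 : F) : Fin n → F) = 0 :=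
      H49.gl_mulVec_injective P (h.trans (Matrix.mulVec_zero _).symm)
    simpa using congrFun h2 i₀
  have hpr : Pr F₀ P q a₀ b₀ := ⟨rt_col i₀, hb₀, hab₀, hb₀a, ha₀0⟩
  refine ⟨lt_of_le_not_ge inf_le_right fun hle => ?_, fun M hHM hMK => ?_⟩
  · obtain ⟨t, -, ht⟩ := reach_isotropic hF (by omega) ha₀0 (halt' _ (rt_col i₀))
      (v := a₀ + θ • b₀) (fun h => not_point hF hcard halt' hθ hpr rt_zero 0 (by rw [h, zero_smul]))
      (by
        rw [h_add_left, h_add_right hF, h_add_right hF, h_smul_left, h_smul_right hF,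
          h_smul_right hF, h_smul_left, halt' _ (rt_col i₀), halt' _ hb₀, hab₀,
          (h_eq_zero_comm hF).1 hab₀]
        simp)
    obtain ⟨l, r, hr, he⟩ := point_of_mem (Subgroup.mem_inf.1 (hle (suHom_mem t))).1 (rt_col i₀)
    rw [suHom_val, ht] at he
    exact not_point hF hcard halt' hθ hpr hr l he
  by_cases hle : M ≤ H
  · exact Or.inl (le_antisymm (le_inf hle hMK) hHM)
  obtain ⟨g, hgM, hgH⟩ := SetLike.not_le_iff_exists.mp hle
  obtain ⟨g', rfl⟩ := exists_suHom_eq (hMK hgM)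
  refine Or.inr (le_antisymm hMK fun s hs => ?_)
  obtain ⟨s', rfl⟩ := exists_suHom_eq hs
  set K := M.comap (suHom n F q) with hKdef
  have hK : ∀ v, Rt F₀ P v → IsCtr K v := fun v hv =>
    ⟨(hctr v hv).1, fun A c hc hA => hHM ⟨(hctr v hv).2 A c hc hA, suHom_mem A⟩⟩
  obtain ⟨v, hv, -, hbad⟩ : ∃ v, Rt F₀ P v ∧ v ≠ 0 ∧ ∀ (l : F) (r : Fin n → F), Rt F₀ P r →
      (suHom n F q g' : Matrix (Fin n) (Fin n) F) *ᵥ v ≠ l • r := by
    by_contra hc
    push Not at hc
    exact hgH (mem_of_points (by omega) hc)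
  have hgv : IsCtr K (suMat g' *ᵥ v) := H51.StabMax.ctr_group (hK v hv) hgM
  rcases exists_pair hF hcard halt' (P := P) hθ _ hgv.1 with ⟨r, l, hr, he⟩ | ⟨a, b, hab, he⟩
  · exact absurd he (by rw [← suHom_val]; exact hbad l r hr)
  · have htop := eq_top_of_pair hF hcard halt' hK (by omega) hθ hab (he ▸ hgv)
    show s' ∈ K
    rw [htop]
    exact Subgroup.mem_top s'

end Cfsg.Agent.S5660
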