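import Cfsg.Statements.S0561
import Cfsg.Agent.H4.HallPermute

open scoped Pointwise

set_option autoImplicit false
open Pointwise
open Cfsg

namespace Cfsg.Agent.S0561

/-- Let the finite solvable group G be the product HK of subgroups, and let A be normal in H and B normal in K, where A and B are Hall subgroups of G (order coprime to index). Then for all x, y the product set of xAx⁻¹ and yBy⁻¹ is a subgroup of G. -/
theorem result {G : Type*} [Group G] [Finite G] [Group.IsSolvable G] (H K A B : Subgroup G) (hHK : ∀ g : G, ∃ h ∈ H, ∃ k ∈ K, g = h * k) (hA : A ≤ H) (hAn : (A.subgroupOf H).Normal) (hB : B ≤ K) (hBn : (B.subgroupOf K).Normal) (hAh : (Nat.card A).Coprime A.index) (hBh : (Nat.card B).Coprime B.index) (x y : G) : ∃ S : Subgroup G, (S : Set G) = ((MulAut.conj x • A : Subgroup G) : Set G) * ((MulAut.conj y • B : Subgroup G) : Set G) := by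
  obtain ⟨c, hc, d, hd, e⟩ := hHK (x⁻¹ * y)
  -- conjugate `x` and `y` simultaneously
  have hx : MulAut.conj x • A = MulAut.conj (x * c) • A := by
    rw [← H4.conj_smul_conj_smul A x c,
      H4.conj_smul_eq_of_mem_normalizer (((Subgroup.normal_subgroupOf_iff_le_normalizer hA).mp hAn) hc)]
  have hy : MulAut.conj y • B = MulAut.conj (x * c) • B := by
    have hy' : y = x * c * d := by rw [mul_assoc, ← e, mul_inv_cancel_left]
    rw [hy', ← H4.conj_smul_conj_smul B (x * c) d,
      H4.conj_smul_eq_of_mem_normalizer (((Subgroup.normal_subgroupOf_iff_le_normalizer hB).mp hBn) hd)]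
  rw [hx, hy]
  exact H4.exists_subgroup_eq_mul_of_hall (H4.Factorizes.conj hHK (x * c))
    (Subgroup.pointwise_smul_le_pointwise_smul_iff.mpr hA) (H4.normal_subgroupOf_conj_smul hAn _)
    (Subgroup.pointwise_smul_le_pointwise_smul_iff.mpr hB) (H4.normal_subgroupOf_conj_smul hBn _)
    (H4.coprime_index_conj_smul hAh _) (H4.coprime_index_conj_smul hBh _)
end Cfsg.Agent.S0561
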