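import Cfsg.Statements.S1016
import Cfsg.Agent.H62.SelfCentralNumber

set_option autoImplicit false
open Cfsg

namespace Cfsg.Agent.S1016

/-- No finite simple group has order 1440 = 2^5 * 3^2 * 5. -/
theorem result {G : Type*} [Group G] [Finite G] [IsSimpleGroup G] : Nat.card G ≠ 1440 := by
  intro h
  haveI : Fact (Nat.Prime 5) := ⟨by norm_num⟩
  obtain ⟨P⟩ := (inferInstance : Nonempty (Sylow 5 G))
  obtain ⟨-, -, e, he, -⟩ := H62.normalizer_threePrimes (p := 2) (q := 3) (r := 5) (a := 5) (b := 2)
    Nat.prime_two Nat.prime_three (by decide) (by decide) (by decide) (h.trans (by norm_num))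
    (by norm_num) P
  rw [show H62.selfCentralIndices (2 ^ 5 * 3 ^ 2 * 5) 5 = ∅ by decide +kernel] at he
  simp at he

end Cfsg.Agent.S1016
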