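import Cfsg.Statements.S1017
import Cfsg.Agent.H62.SelfCentralNumber

set_option autoImplicit false
open Cfsg

namespace Cfsg.Agent.S1017

/-- No finite simple group has order 2016 = 2^5 * 3^2 * 7. -/
theorem result {G : Type*} [Group G] [Finite G] [IsSimpleGroup G] : Nat.card G ≠ 2016 := by
  intro h
  haveI : Fact (Nat.Prime 7) := ⟨by norm_num⟩
  obtain ⟨P⟩ := (inferInstance : Nonempty (Sylow 7 G))
  obtain ⟨-, -, e, he, -⟩ := H62.normalizer_threePrimes (p := 2) (q := 3) (r := 7) (a := 5) (b := 2)
    Nat.prime_two Nat.prime_three (by decide) (by decide) (by decide) (h.trans (by norm_num))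
    (by norm_num) P
  rw [show H62.selfCentralIndices (2 ^ 5 * 3 ^ 2 * 7) 7 = ∅ by decide +kernel] at he
  simp at he

end Cfsg.Agent.S1017
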