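import Cfsg.Statements.S3669
import Cfsg.Agent.H17.OrderSixty

set_option autoImplicit false
open Cfsg

namespace Cfsg.Agent.S3669

/-- The character degree graph of a finite group has as vertices the primes dividing some irreducible complex character degree, two distinct primes being joined when their product divides some irreducible character degree; two groups have the same character degree graph when they have the same vertices and the same joined pairs. A finite group of order 60 with the same character degree graph as the alternating group A₅ (whose character degrees are 1, 3, 4, 5, so the graph has vertices 2, 3, 5 and no edges) is isomorphic to A₅. -/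
theorem result {G : Type*} [Group G] [Finite G] (hcard : Nat.card G = 60)
    (hΓ : Cfsg.degreePrimes G = Cfsg.degreePrimes (alternatingGroup (Fin 5)) ∧ Cfsg.degreeGraph G = Cfsg.degreeGraph (alternatingGroup (Fin 5))) : Nonempty (G ≃* alternatingGroup (Fin 5)) := by
  rcases H17.simple_or_fifteen hcard with hsimp | ⟨g, hg⟩
  · exact H59.simple60_iso hcard
  exfalso
  have h5 : 5 ∈ Cfsg.degreePrimes G := by
    rw [hΓ.1]
    obtain ⟨χ, hχ⟩ := H17.five_degree_A5
    exact ⟨by norm_num, _, ⟨χ, rfl⟩, hχ⟩
  obtain ⟨-, d, ⟨χ, rfl⟩, hdvd⟩ := h5
  obtain ⟨n, ρ, hρ, hχ⟩ := χ.2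
  haveI := hρ
  have hn : Cfsg.charDegree (χ : G → ℂ) = n := by
    rw [← hχ]
    exact (H12.degree_character ρ).trans (Module.finrank_fin_fun ℂ)
  rw [hn] at hdvd
  have hle : Module.finrank ℂ (Fin n → ℂ) ≤ (Subgroup.zpowers g).index :=
    H13.finrank_le_index_of_abelian ρ _ fun a ha b hb => by
      obtain ⟨i, rfl⟩ := ha
      obtain ⟨j, rfl⟩ := hb
      exact (Commute.refl g).zpow_zpow i j
  have hmul := Subgroup.card_mul_index (Subgroup.zpowers g)
  rw [Nat.card_zpowers, hg, hcard] at hmul
  rw [Module.finrank_fin_fun] at hle
  have hpos := H12.finrank_pos_of_isIrreducible ρ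
  rw [Module.finrank_fin_fun] at hpos
  have := Nat.le_of_dvd hpos hdvd
  omega

end Cfsg.Agent.S3669
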