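import Cfsg.Statements.S2916
import Cfsg.Agent.H36.GL23Simple
import Cfsg.Agent.H36.L33Coord
import Cfsg.Agent.H36.M11Unique
import Cfsg.Agent.H36.M11Centralizer

set_option autoImplicit false
open Cfsg

namespace Cfsg.Agent.S2916

/-- Let G be a finite group with O²(G) = G (no proper normal subgroup of 2-power index), and let t be an involution of G whose centralizer C_G(t) is isomorphic to GL₂(3). Then G is isomorphic to PSL₃(3) or to the Mathieu group M₁₁. -/
theorem result {G : Type*} [Group G] [Finite G] (hO : Cfsg.pResidual 2 G = ⊤) (t : G) (ht : orderOf t = 2) (hC : Nonempty (↥(Subgroup.centralizer ({t} : Set G)) ≃* GL (Fin 2) (ZMod 3))) : (∃ (F : Type) (_ : Field F) (_ : Fintype F), Fintype.card F = 3 ∧ Nonempty (G ≃* Matrix.ProjectiveSpecialLinearGroup (Fin 3) F)) ∨ Cfsg.Spor.IsoM11 G := by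
  obtain ⟨e⟩ := hC
  haveI := H36.GLSimple.isSimpleGroup e ht hO
  haveI := Fintype.ofFinite G
  rcases H13.GL23.card_group e ht with h | h
  · left
    have hyp : H36.L33.Hyp G := ⟨h, fun s hs => by
      obtain ⟨f⟩ := H36.Pattern.nonempty_centralizer_equiv
        (H36.GLSimple.isConj_involution e ht hO hs)
      exact ⟨f.trans e⟩⟩
    obtain ⟨f⟩ := H36.L33.nonempty_equiv_SL hyp
    haveI : Fact (Nat.Prime 3) := ⟨Nat.prime_three⟩
    have hbot : Subgroup.center (Matrix.SpecialLinearGroup (Fin 3) (ZMod 3)) = ⊥ := by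
      rw [← Subgroup.card_eq_one, H37.card_center_SL, Fintype.card_fin, Nat.card_zmod]
      decide
    exact ⟨ZMod 3, inferInstance, inferInstance, ZMod.card 3,
      ⟨f.trans (MulEquiv.ofBijective (QuotientGroup.mk' _)
        ⟨(MonoidHom.ker_eq_bot_iff _).1 (by rw [QuotientGroup.ker_mk']; exact hbot),
          QuotientGroup.mk'_surjective _⟩)⟩⟩
  · right
    haveI := H36.M11Cent.isSimpleGroup_M11
    exact H36.M11.iso_of_order_7920 h H87.natCard_M11

end Cfsg.Agent.S2916
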