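import Cfsg.Statements.S4812
import Cfsg.Agent.S2300
import Cfsg.Agent.H64.Char2Graph
import Cfsg.Agent.H12.Transport
import Mathlib

set_option autoImplicit false
open Cfsg

namespace Cfsg.Agent.S4812

/-- Let F be a finite field of characteristic 2 with q ≥ 4 elements and let S be isomorphic to PSL(2,F) or to SL(2,F). Then the vertices of the character degree graph of S are the primes dividing q(q²−1), and two distinct primes are adjacent exactly when both divide q + 1 or both divide q − 1; so the graph has the three connected components {2}, the primes dividing q + 1 and the primes dividing q − 1, each complete. -/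
theorem result (F : Type*) [Field F] [Fintype F] [CharP F 2] (q : ℕ) (hq : Fintype.card F = q) (h4 : 4 ≤ q) {S : Type*} [Group S] [Finite S] (hS : Nonempty (S ≃* Matrix.ProjectiveSpecialLinearGroup (Fin 2) F) ∨ Nonempty (S ≃* Matrix.SpecialLinearGroup (Fin 2) F)) : Cfsg.degreePrimes S = {r : ℕ | r.Prime ∧ r ∣ q * (q ^ 2 - 1)} ∧ ∀ r s : ℕ, (Cfsg.degreeGraph S).Adj r s ↔ (r ≠ s ∧ r.Prime ∧ s.Prime ∧ ((r ∣ q + 1 ∧ s ∣ q + 1) ∨ (r ∣ q - 1 ∧ s ∣ q - 1))) := by
  classical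
  obtain ⟨e⟩ : Nonempty (S ≃* Matrix.SpecialLinearGroup (Fin 2) F) := by
    rcases hS with he | he <;> obtain ⟨e⟩ := he
    · obtain ⟨e'⟩ := H64.psl2_char2_equiv (F := F)
      exact ⟨e.trans e'.symm⟩
    · exact ⟨e⟩
  obtain ⟨hdeg, hcnt⟩ := Cfsg.Agent.S2300.result (F := F)
  obtain ⟨-, hq0, hq1, hqm⟩ := hcnt (by omega)
  rw [hq] at hdeg hq0 hq1 hqm
  have heven : 2 ∣ q := hq ▸ H17.four_le_of_even (CharTwo.two_eq_zero (R := F))
  have hdval : ∀ (χ : Cfsg.IrrCharacter S) (d : ℕ), (χ : S → ℂ) 1 = (d : ℂ) →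
      Cfsg.charDegree (χ : S → ℂ) = d := by
    intro χ d h
    show H12.degree (χ : S → ℂ) = d
    rw [H12.irr_apply_one] at h
    exact_mod_cast h
  have hex : ∀ d : ℕ, Nat.card {χ : Cfsg.IrrCharacter (Matrix.SpecialLinearGroup (Fin 2) F) //
      (χ : Matrix.SpecialLinearGroup (Fin 2) F → ℂ) 1 = (d : ℂ)} ≠ 0 → d ∈ Cfsg.charDegrees S := by
    intro d h
    obtain ⟨⟨⟨χ, hχ⟩⟩, -⟩ := Nat.card_ne_zero.mp h
    refine ⟨H12.irrCongr e χ, hdval _ d ?_⟩
    rw [H12.irrCongr_apply, map_one, hχ]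
  have hA : q ∈ Cfsg.charDegrees S := hex q (by omega)
  have hB : q + 1 ∈ Cfsg.charDegrees S := hex (q + 1) (by push_cast; omega)
  have hC : q - 1 ∈ Cfsg.charDegrees S := hex (q - 1) (by
    rw [Nat.cast_sub (by omega), Nat.cast_one]; omega)
  have hall : ∀ d ∈ Cfsg.charDegrees S, d = 1 ∨ d = q - 1 ∨ d = q ∨ d = q + 1 := by
    rintro d ⟨χ, rfl⟩
    obtain ⟨χ', rfl⟩ := (H12.irrCongr e).surjective χ
    have h1 : ((H12.irrCongr e χ' : Cfsg.IrrCharacter S) : S → ℂ) 1 =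
        (χ' : Matrix.SpecialLinearGroup (Fin 2) F → ℂ) 1 := by rw [H12.irrCongr_apply, map_one]
    rcases hdeg _ χ'.2 with h | h | h | h
    · exact Or.inl (hdval _ 1 (by rw [h1, h, Nat.cast_one]))
    · exact Or.inr (Or.inl (hdval _ _ (by rw [h1, h, Nat.cast_sub (by omega), Nat.cast_one])))
    · exact Or.inr (Or.inr (Or.inl (hdval _ _ (by rw [h1, h]))))
    · exact Or.inr (Or.inr (Or.inr (hdval _ _ (by rw [h1, h]; push_cast; rfl))))
  have hmul : q * (q ^ 2 - 1) = q * ((q - 1) * (q + 1)) := by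
    rw [mul_comm (q - 1), ← Nat.sq_sub_sq q 1, one_pow]
  refine ⟨?_, fun r s => ⟨?_, ?_⟩⟩
  · ext r
    constructor
    · rintro ⟨hr, d, hd, hrd⟩
      refine ⟨hr, ?_⟩
      rw [hmul]
      rcases hall d hd with rfl | rfl | rfl | rfl
      · exact absurd (Nat.dvd_one.mp hrd) hr.ne_one
      · exact (hrd.mul_right _).mul_left _
      · exact hrd.mul_right _
      · exact (hrd.mul_left _).mul_left _
    · rintro ⟨hr, hrd⟩
      rw [hmul] at hrd
      refine ⟨hr, ?_⟩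
      rcases hr.dvd_mul.mp hrd with h | h
      · exact ⟨q, hA, h⟩
      · rcases hr.dvd_mul.mp h with h | h
        · exact ⟨q - 1, hC, h⟩
        · exact ⟨q + 1, hB, h⟩
  · rintro ⟨hne, hr, hs, d, hd, hrs⟩
    refine ⟨hne, hr, hs, ?_⟩
    have h1 : r ∣ d := (dvd_mul_right r s).trans hrs
    have h2 : s ∣ d := (dvd_mul_left s r).trans hrs
    rcases hall d hd with h | h | h | h
    · exact absurd (Nat.dvd_one.mp (h ▸ h1)) hr.ne_one
    · exact Or.inr ⟨h ▸ h1, h ▸ h2⟩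
    · exfalso
      -- every prime divisor of `q` is `2`
      obtain ⟨n, hp, hn⟩ := FiniteField.card F 2
      have key : ∀ t : ℕ, t.Prime → t ∣ q → t = 2 := fun t ht htq => by
        rw [← hq, hn] at htq
        exact (Nat.prime_dvd_prime_iff_eq ht hp).mp (ht.dvd_of_dvd_pow htq)
      exact hne ((key r hr (h ▸ h1)).trans (key s hs (h ▸ h2)).symm)
    · exact Or.inl ⟨h ▸ h1, h ▸ h2⟩
  · rintro ⟨hne, hr, hs, h⟩
    have hc : Nat.Coprime r s := (Nat.coprime_primes hr hs).mpr hne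
    rcases h with ⟨h1, h2⟩ | ⟨h1, h2⟩
    · exact ⟨hne, hr, hs, q + 1, hB, hc.mul_dvd_of_dvd_of_dvd h1 h2⟩
    · exact ⟨hne, hr, hs, q - 1, hC, hc.mul_dvd_of_dvd_of_dvd h1 h2⟩

end Cfsg.Agent.S4812
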