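import Cfsg.Statements.S0974
import Cfsg.Agent.H62.SelfCentralNumber

set_option autoImplicit false
open Cfsg

namespace Cfsg.Agent.S0974

/-- No finite simple group has order 3648 = 2^6 * 3 * 19. -/
theorem result {G : Type*} [Group G] [Finite G] [IsSimpleGroup G] : Nat.card G ≠ 3648 := by
  intro h
  haveI : Fact (Nat.Prime 3) := ⟨by norm_num⟩
  obtain ⟨P⟩ := (inferInstance : Nonempty (Sylow 3 G))
  obtain ⟨-, -, e, he, -⟩ := H62.normalizer_threePrimes (p := 2) (q := 19) (r := 3) (a := 6) (b := 1)
    Nat.prime_two (by norm_num) (by decide) (by decide) (by decide) (h.trans (by norm_num))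
    (by norm_num) P
  rw [show H62.selfCentralIndices (2 ^ 6 * 19 ^ 1 * 3) 3 = ∅ by decide +kernel] at he
  simp at he

end Cfsg.Agent.S0974
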