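import Cfsg.Statements.S0980
import Cfsg.Agent.H62.SelfCentralNumber
import Cfsg.Agent.H62.DihedralCases

set_option autoImplicit false
open Cfsg

namespace Cfsg.Agent.S0980

/-- No finite simple group has order 5760 = 2^7 * 3^2 * 5. -/
theorem result {G : Type*} [Group G] [Finite G] [IsSimpleGroup G] : Nat.card G ≠ 5760 := by
  intro h
  haveI : Fact (Nat.Prime 5) := ⟨by norm_num⟩
  obtain ⟨P⟩ := (inferInstance : Nonempty (Sylow 5 G))
  obtain ⟨hP, hC, e, he, hN⟩ := H62.normalizer_threePrimes (p := 2) (q := 3) (r := 5) (a := 7)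
    (b := 2) Nat.prime_two Nat.prime_three (by decide) (by decide) (by decide)
    (h.trans (by norm_num)) (by norm_num) P
  rw [show H62.selfCentralIndices (2 ^ 7 * 3 ^ 2 * 5) 5 = {2} by decide +kernel,
    Finset.mem_singleton] at he
  obtain ⟨X, hX, -⟩ := H62.dihedral_cases (q := 128) (s := 7) (m := 45)
    (H62.not_comm_of_not_prime (by rw [h]; norm_num)) h hP hC (by rw [hN, he]) (by norm_num)
    (by norm_num) (by norm_num) (by norm_num)
  rw [show H62.dihedralCands 5760 5 128 = ∅ by decide +kernel] at hX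
  simp at hX

end Cfsg.Agent.S0980
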