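import Cfsg.Statements.S0983
import Cfsg.Agent.H62.SmallRangeSieve
import Cfsg.Agent.H62.SmallRangeCases
import Cfsg.Agent.H62.SmallRangeHard
import Cfsg.Agent.S0974
import Cfsg.Agent.S0975
import Cfsg.Agent.S0976
import Cfsg.Agent.S0977
import Cfsg.Agent.S0978
import Cfsg.Agent.S0979
import Cfsg.Agent.S0980

set_option autoImplicit false
open Cfsg

namespace Cfsg.Agent.S0983

/-- A non-abelian finite simple group of order greater than 3640 and at most 6232 has order 4080, 5616, 6048 or 6072. -/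
theorem result {G : Type*} [Group G] [Finite G] [IsSimpleGroup G] (hG : ¬ IsMulCommutative G) (h1 : 3640 < Nat.card G) (h2 : Nat.card G ≤ 6232) : Nat.card G = 4080 ∨ Nat.card G = 5616 ∨ Nat.card G = 6048 ∨ Nat.card G = 6072 := by
  have h := H62.SmallRange.card_mem hG h1 h2
  simp only [H62.SmallRange.survivors, List.mem_cons, List.not_mem_nil, or_false] at h
  have e3696 : Nat.card G ≠ 3696 := H62.SmallRange.card_ne_3696
  have e4620 : Nat.card G ≠ 4620 := H62.SmallRange.card_ne_4620
  have e5236 : Nat.card G ≠ 5236 := H62.SmallRange.card_ne_5236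
  have e5852 : Nat.card G ≠ 5852 := H62.SmallRange.card_ne_5852
  have e4160 : Nat.card G ≠ 4160 := H62.SmallRange.card_ne_4160
  have e4400 : Nat.card G ≠ 4400 := H62.SmallRange.card_ne_4400
  have e4928 : Nat.card G ≠ 4928 := H62.SmallRange.card_ne_4928
  have e5200 : Nat.card G ≠ 5200 := H62.SmallRange.card_ne_5200
  have e3780 : Nat.card G ≠ 3780 := H62.SmallRange.card_ne_3780
  have e3960 : Nat.card G ≠ 3960 := H62.SmallRange.card_ne_3960
  have e4212 : Nat.card G ≠ 4212 := H62.SmallRange.card_ne_4212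
  have e4680 : Nat.card G ≠ 4680 := H62.SmallRange.card_ne_4680
  have e4760 : Nat.card G ≠ 4760 := H62.SmallRange.card_ne_4760
  have e4960 : Nat.card G ≠ 4960 := H62.SmallRange.card_ne_4960
  have e5104 : Nat.card G ≠ 5104 := H62.SmallRange.card_ne_5104
  have e5148 : Nat.card G ≠ 5148 := H62.SmallRange.card_ne_5148
  have e5460 : Nat.card G ≠ 5460 := H62.SmallRange.card_ne_5460
  have e5600 : Nat.card G ≠ 5600 := H62.SmallRange.card_ne_5600
  have e5724 : Nat.card G ≠ 5724 := H62.SmallRange.card_ne_5724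
  have e5940 : Nat.card G ≠ 5940 := H62.SmallRange.card_ne_5940
  have e6160 : Nat.card G ≠ 6160 := H62.SmallRange.card_ne_6160
  have e4536 : Nat.card G ≠ 4536 := H62.SmallRange.card_ne_4536
  have e4800 : Nat.card G ≠ 4800 := H62.SmallRange.card_ne_4800
  have e5376 : Nat.card G ≠ 5376 := H62.SmallRange.card_ne_5376
  have e4200 : Nat.card G ≠ 4200 := H62.SmallRange.card_ne_4200
  have e5880 : Nat.card G ≠ 5880 := H62.SmallRange.card_ne_5880
  have e5400 : Nat.card G ≠ 5400 := H62.SmallRange.card_ne_5400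
  have e3648 : Nat.card G ≠ 3648 := Cfsg.Agent.S0974.result
  have e3744 : Nat.card G ≠ 3744 := Cfsg.Agent.S0975.result
  have e4032 : Nat.card G ≠ 4032 := Cfsg.Agent.S0976.result
  have e4320 : Nat.card G ≠ 4320 := Cfsg.Agent.S0977.result
  have e5040 : Nat.card G ≠ 5040 := Cfsg.Agent.S0978.result
  have e5472 : Nat.card G ≠ 5472 := Cfsg.Agent.S0979.result
  have e5760 : Nat.card G ≠ 5760 := Cfsg.Agent.S0980.result
  omega

end Cfsg.Agent.S0983
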