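import Cfsg.Statements.S0168
import Cfsg.Agent.H12.Orth

set_option autoImplicit false
open Cfsg

namespace Cfsg.Agent.S0168

/-- The Burnside–Brauer Theorem. Let χ be the character of a faithful complex representation of a finite group, taking m distinct values. Then every irreducible character has nonzero inner product with χ ^ i for some i < m. -/
theorem result {G : Type*} [Group G] [Fintype G] {V : Type*} [AddCommGroup V] [Module ℂ V] [FiniteDimensional ℂ V] (ρ : Representation ℂ G V) (hfaithful : Function.Injective ρ) (ψ : G → ℂ) (hψ : Cfsg.IsIrrCharacter G ψ) : ∃ i : ℕ, i < Nat.card (Set.range ρ.character) ∧ Cfsg.classInner (fun g => ρ.character g ^ i) ψ ≠ 0 := by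
  classical
  have : Fintype (Set.range ρ.character) := Fintype.ofFinite _
  let s : Finset ℂ := (Set.range ρ.character).toFinset
  have h1 : ρ.character 1 ∈ s := Set.mem_toFinset.2 ⟨1, rfl⟩
  let p : Polynomial ℂ := Lagrange.basis s id (ρ.character 1)
  have hp : p.natDegree < Nat.card (Set.range ρ.character) := by
    rw [Lagrange.natDegree_basis (Set.injOn_id _) h1, Nat.card_eq_fintype_card]
    simp only [s, Set.toFinset_card]
    have : 0 < Fintype.card (Set.range ρ.character) := Fintype.card_pos_iff.2 ⟨⟨_, 1, rfl⟩⟩
    omega
  by_contra hcon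
  have hall : ∀ i, i < Nat.card (Set.range ρ.character) →
      Cfsg.classInner (fun g => ρ.character g ^ i) ψ = 0 := fun i hi => by
    by_contra hne
    exact hcon ⟨i, hi, hne⟩
  have heval : ∀ g : G, p.eval (ρ.character g) = if g = 1 then 1 else 0 := by
    intro g
    split_ifs with hg
    · rw [hg]
      exact Lagrange.eval_basis_self (Set.injOn_id _) h1
    · refine Lagrange.eval_basis_of_ne (v := id) (fun he => hg ?_) (Set.mem_toFinset.2 ⟨g, rfl⟩)
      apply hfaithful
      rw [map_one]
      exact (H12.character_eq_finrank_iff ρ g).1 (by rw [← Representation.char_one ρ]; exact he.symm)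
  have h0 : Cfsg.classInner (fun g => p.eval (ρ.character g)) ψ = 0 := by
    have e : (fun g => p.eval (ρ.character g)) = ∑ i ∈ Finset.range (p.natDegree + 1),
        p.coeff i • (fun g => ρ.character g ^ i) := by
      funext g
      rw [Polynomial.eval_eq_sum_range, Finset.sum_apply]
      rfl
    rw [e, H12.classInner_sum_left]
    refine Finset.sum_eq_zero fun i hi => ?_
    rw [H12.classInner_smul_left, hall i (by have := Finset.mem_range.1 hi; omega), mul_zero]
  rw [H12.classInner_def] at h0
  simp only [heval, ite_mul, one_mul, zero_mul, Finset.sum_ite_eq', Finset.mem_univ, if_true,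
    mul_eq_zero, inv_eq_zero, map_eq_zero] at h0
  rcases h0 with h0 | h0
  · exact H12.card_ne_zero' h0
  · exact H12.irr_apply_one_ne_zero ⟨ψ, hψ⟩ h0

end Cfsg.Agent.S0168
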