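import Cfsg.Statements.S5251
import Cfsg.Agent.H75.AbelianIndex.Stabilizer
import Cfsg.Agent.H85.Saturation
import Cfsg.Agent.H1.Cores

set_option autoImplicit false
open Cfsg Cfsg.FusionSystem
open scoped commutatorElement

namespace Cfsg.Agent.S5251

/-- A `p`-subgroup of `A` normalized by `A` lies in its `p`-core. -/
theorem le_core_map {G : Type*} [Group G] {p : ℕ} {A K : Subgroup G} (hKA : K ≤ A)
    (hK : IsPGroup p K) (hn : ∀ a ∈ A, ∀ k ∈ K, a * k * a⁻¹ ∈ K) :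
    K ≤ (Cfsg.pCore p A).map A.subtype := by
  haveI : (K.subgroupOf A).Normal := ⟨fun k hk a => hn a a.2 k hk⟩
  have h1 : IsPGroup p (K.subgroupOf A) :=
    hK.of_equiv (Subgroup.subgroupOfEquivOfLe hKA).symm
  intro k hk
  exact ⟨⟨k, hKA hk⟩, H1.le_pCore h1 hk, rfl⟩

theorem main {Ω : Type*} [Group Ω] {S : Subgroup Ω} [Finite S] (p : ℕ) [Fact p.Prime]
    (hS : IsPGroup p S) (F : Cfsg.FusionSystem S) (hF : F.IsSaturated p) {T : Subgroup Ω}
    (E : Cfsg.FusionSystem T) (hE : E.IsNormalIn F p) (P : Subgroup Ω) (hP : F.IsCentric P)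
    (hPT : ¬ E.IsCentric (P ⊓ T)) :
    (∃ φ ∈ F.Hom P, ∃ x ∈ S ⊓ Subgroup.normalizer (φ.range : Set Ω), x ∉ φ.range ∧
      ∃ α ∈ ((Cfsg.pCore p ↥(F.autGroup φ.range)).map (F.autGroup φ.range).subtype :
        Subgroup (MulAut ↥φ.range)),
        ∀ y : ↥φ.range, ((α y : ↥φ.range) : Ω) = x * (y : Ω) * x⁻¹) ∧ ¬ F.IsRadical p P := by
  obtain ⟨⟨-, -, hsub, hT, -⟩, -⟩ := hE
  have hTS : T ≤ S := hT.1
  have hTconj : ∀ g ∈ S, ∀ u ∈ T, g * u * g⁻¹ ∈ T := fun g hg u hu =>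
    hT.2 T le_rfl (conjHom T g) (F.conj_mem hTS hg) ⟨u, hu⟩
  set U := P ⊓ T with hU
  have hUS : U ≤ S := inf_le_right.trans hTS
  haveI : Finite U := H85.finite_of_le hUS
  haveI : Finite P := H85.finite_of_le hP.1
  have hPN : P ≤ normalizerIn S U := fun x hx => ⟨hP.1 hx, H85.mem_normalizer_of_conj fun u hu =>
    ⟨P.mul_mem (P.mul_mem hx hu.1) (P.inv_mem hx), hTconj x (hP.1 hx) u hu.2⟩⟩
  obtain ⟨Q, hUQ, hQn⟩ : ∃ Q, F.IsConj U Q ∧ F.IsFullyNormalized Q :=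
    H85.exists_fullyNormalized F hUS
  obtain ⟨ψ, hψ, -, hψQ⟩ := H85.exists_map_to_fullyNormalized hS hF hQn hUQ
  -- `Q` is not self-centralizing in `T`
  obtain ⟨c, hc, hcQ⟩ : ∃ c ∈ centralizerIn T Q, c ∉ Q := by
    have h1 : ∃ R, E.IsConj U R ∧ ¬ centralizerIn T R ≤ R := by
      by_contra hne
      push Not at hne
      exact hPT ⟨inf_le_right, hne⟩
    obtain ⟨R, ⟨χ, hχ, hχR⟩, hR⟩ := h1
    obtain ⟨c, hc, hcR⟩ := SetLike.not_le_iff_exists.1 hR
    have hRQ : F.IsConj R Q :=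
      H85.isConj_trans (H85.isConj_symm ⟨χ, hsub U hχ, hχR⟩) hUQ
    obtain ⟨e, he⟩ := H85.isConj_iff.1 hRQ
    set X := extender S R (Q.subtype.comp e.toMonoidHom) with hXdef
    obtain ⟨ω, hω, hext⟩ : ∃ ω ∈ F.Hom X, ∀ (x : Ω) (hx : x ∈ R) (hN : x ∈ X),
        ω ⟨x, hN⟩ = (e ⟨x, hx⟩ : Ω) :=
      H85.receptive_extend (H85.receptive_of_fullyNormalized hS hF hQn) he
    have hRX : R ≤ X := H85.le_extender he.left_le fun x => H85.IsFIso.map_mem he x
    have hcS : c ∈ centralizerIn S R := ⟨hTS hc.1, hc.2⟩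
    have hcX : c ∈ X := H85.centralizerIn_le_extender _ _ hcS
    have hωT : ω ⟨c, hcX⟩ ∈ T :=
      hT.2 (T ⊓ X) inf_le_left _ (H85.restrict hω inf_le_right) ⟨c, hc.1, hcX⟩
    refine ⟨ω ⟨c, hcX⟩, ⟨hωT, (H85.extend_maps_centralizer (g := ⟨c, hcX⟩) hRX
      (fun x => hext x x.2 _) (hTS hωT) hcS).2⟩, fun hmem => hcR ?_⟩
    obtain ⟨r, hr⟩ := e.surjective ⟨_, hmem⟩
    have h2 : ω ⟨r, hRX r.2⟩ = ω ⟨c, hcX⟩ := by rw [hext r r.2 _, hr]
    have h3 : (r : Ω) = c := congrArg Subtype.val (F.injective_of_mem hω h2)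
    exact h3 ▸ r.2
  -- the image of `P`
  set φ : P →* Ω := ψ.comp (Subgroup.inclusion hPN) with hφdef
  have hφ : φ ∈ F.Hom P := H85.restrict hψ hPN
  set P' := φ.range with hP'
  have hP'S : P' ≤ S := H85.range_le hφ
  haveI : Finite P' := H85.finite_of_le hP'S
  have hQP' : Q = P' ⊓ T := by
    refine le_antisymm (fun y hy => ?_) fun y hy => ?_
    · obtain ⟨u, hu, rfl⟩ := H85.mem_img.1 (hψQ.ge hy)
      refine ⟨⟨⟨(u : Ω), hu.1⟩, rfl⟩, ?_⟩
      exact hT.2 U inf_le_right _ (H85.restrict hψ (inf_le_left.trans hPN)) ⟨(u : Ω), hu⟩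
    · obtain ⟨⟨x, rfl⟩, hyT⟩ := hy
      obtain ⟨χ, hχ, hχx⟩ := F.inv_mem hφ
      have hxT : (x : Ω) ∈ T := by
        have h1 := hT.2 (P' ⊓ T) inf_le_right _ (H85.restrict hχ inf_le_left)
          ⟨φ x, ⟨x, rfl⟩, hyT⟩
        rw [← hχx x]
        exact h1
      refine hψQ.le (H85.mem_img.2 ⟨Subgroup.inclusion hPN x, ⟨x.2, hxT⟩, rfl⟩)
  have hP'c : F.IsCentric P' := H85.centric_of_isConj hP ⟨φ, hφ, rfl⟩
  -- an element stabilizing the series `Q ≤ P'`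
  set W := centralizerIn T Q with hW
  have hWS : W ≤ S := inf_le_left.trans hTS
  haveI : Finite W := H85.finite_of_le hWS
  have hP'W : P' ≤ Subgroup.normalizer (W : Set Ω) := fun g hg =>
    H85.mem_normalizer_of_conj fun w hw => ⟨hTconj g (hP'S hg) w hw.1, fun q hq => by
      have hq' : g⁻¹ * q * g ∈ Q := by
        rw [hQP'] at hq ⊢
        refine ⟨P'.mul_mem (P'.mul_mem (P'.inv_mem hg) hq.1) hg, ?_⟩
        simpa using hTconj g⁻¹ (S.inv_mem (hP'S hg)) q hq.2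
      have h1 : g⁻¹ * q * g * w = w * (g⁻¹ * q * g) := hw.2 _ hq'
      calc q * (g * w * g⁻¹) = g * (g⁻¹ * q * g * w) * g⁻¹ := by group
        _ = g * (w * (g⁻¹ * q * g)) * g⁻¹ := by rw [h1]
        _ = g * w * g⁻¹ * q := by group⟩
  have hlt : P' < W ⊔ P' := lt_of_le_of_ne le_sup_right fun e => hcQ (by
    rw [hQP']
    exact ⟨e.ge (Subgroup.mem_sup_left hc), hc.1⟩)
  obtain ⟨g, hg, hgN, hgP⟩ := H85.exists_normalizing hS (sup_le hWS hP'S) hlt
  rw [← SetLike.mem_coe, Subgroup.coe_mul_of_right_le_normalizer_left _ _ hP'W] at hg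
  obtain ⟨w, hw, u, hu, rfl⟩ := hg
  have hwN : w ∈ normalizerIn S P' := ⟨hWS hw,
    (Subgroup.mul_mem_cancel_right _ (Subgroup.le_normalizer hu)).1 hgN⟩
  have hwP : w ∉ P' := fun h => hgP (P'.mul_mem h hu)
  set B : Subgroup P' := Q.subgroupOf P' with hB
  have hBinv : ∀ α ∈ F.autGroup P', ∀ b ∈ B, α b ∈ B := by
    intro α hα b hb
    have hb' : (b : Ω) ∈ P' ⊓ T := hQP'.le hb
    refine Subgroup.mem_subgroupOf.2 (hQP'.ge ⟨(α b).2, ?_⟩)
    exact hT.2 (P' ⊓ T) inf_le_right _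
      (H85.restrict ((H85.mem_autGroup hP'S).1 hα) inf_le_left) ⟨b, hb'⟩
  set t := H85.conjAut S P' ⟨w, hwN⟩ with ht
  have htA : t ∈ F.autGroup P' :=
    H85.autInducedBy_le_autGroup F hP'S (H85.conjAut_range S P' ▸ ⟨_, rfl⟩)
  have htC : t ∈ H75.AbelianIndex.chainStab B := by
    refine ⟨fun b hb => Subtype.ext ?_, fun y => Subgroup.mem_subgroupOf.2 (hQP'.ge ⟨SetLike.coe_mem _, ?_⟩)⟩
    · rw [ht, H85.conjAut_apply]
      show w * (b : Ω) * w⁻¹ = b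
      rw [show w * (b : Ω) = (b : Ω) * w from (hw.2 _ hb).symm, mul_inv_cancel_right]
    · rw [Subgroup.coe_mul, Subgroup.coe_inv, ht, H85.conjAut_apply]
      show (y : Ω)⁻¹ * (w * (y : Ω) * w⁻¹) ∈ T
      have h1 := T.mul_mem (hTconj (y : Ω)⁻¹ (S.inv_mem (hP'S y.2)) w hw.1) (T.inv_mem hw.1)
      simpa [mul_assoc] using h1
  haveI : Finite (MulAut P') := Finite.of_injective _ DFunLike.coe_injective
  set K := H75.AbelianIndex.chainStab B ⊓ F.autGroup P' with hK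
  have hKp : IsPGroup p K := (H75.AbelianIndex.isPGroup_chainStab
    ((hS.to_le hP'S).to_subgroup B)).to_le inf_le_left
  have hKn : ∀ α ∈ F.autGroup P', ∀ k ∈ K, α * k * α⁻¹ ∈ K := fun α hα β hβ =>
    ⟨⟨fun b hb => by
        rw [MulAut.mul_apply, MulAut.mul_apply, hβ.1.1 _ (hBinv α⁻¹ ((F.autGroup P').inv_mem hα) b hb),
          MulAut.apply_inv_self],
      fun y => by
        have h1 := hBinv α hα _ (hβ.1.2 (α⁻¹ y))
        rw [map_mul, map_inv, MulAut.apply_inv_self] at h1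
        rw [MulAut.mul_apply, MulAut.mul_apply]
        exact h1⟩,
      (F.autGroup P').mul_mem ((F.autGroup P').mul_mem hα hβ.2) ((F.autGroup P').inv_mem hα)⟩
  refine ⟨⟨φ, hφ, w, hwN, hwP, t, le_core_map inf_le_right hKp hKn ⟨htC, htA⟩,
    fun y => by rw [ht, H85.conjAut_apply]⟩, fun hrad => hwP ?_⟩
  -- transport to `P`
  set e : P ≃* P' := H85.isoOf φ hφ rfl with he
  have heF : H85.IsFIso F e := H85.isFIso_isoOf φ hφ rfl
  set f : MulAut P' →* MulAut P := (MulAut.congr e.symm).toMonoidHom with hf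
  have hfA : ∀ α ∈ F.autGroup P', f α ∈ F.autGroup P := fun α hα =>
    (H85.mem_autGroup hP.1).2 ((heF.trans ((H85.mem_autGroup hP'S).1 hα)).trans heF.symm)
  have hfA' : ∀ α ∈ F.autGroup P, ∃ β ∈ F.autGroup P', f β = α := fun α hα =>
    ⟨(e.symm.trans α).trans e,
      (H85.mem_autGroup hP'S).2 ((heF.symm.trans ((H85.mem_autGroup hP.1).1 hα)).trans heF),
      MulEquiv.ext fun x => by
        show e.symm (e (α (e.symm (e x)))) = α x
        rw [MulEquiv.symm_apply_apply, MulEquiv.symm_apply_apply]⟩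
  have h1 : f t ∈ Inn P := by
    rw [← hrad.2]
    refine le_core_map (K := K.map f) ?_ (hKp.map f) ?_ ⟨t, ⟨htC, htA⟩, rfl⟩
    · rintro _ ⟨k, hk, rfl⟩
      exact hfA k hk.2
    · rintro a ha _ ⟨k, hk, rfl⟩
      obtain ⟨b, hb, rfl⟩ := hfA' a ha
      exact ⟨b * k * b⁻¹, hKn b hb k hk, by rw [map_mul, map_mul, map_inv]⟩
  obtain ⟨z, hz⟩ := h1
  refine H85.mem_of_induces_inner hP'c hwN.1 (α := t) ⟨e z, MulEquiv.ext fun y => ?_⟩
    fun y => by rw [ht, H85.conjAut_apply]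
  have h2 := congrArg (fun a : MulAut P => e (a (e.symm y))) hz
  simp [hf, MulAut.congr] at h2
  simpa using h2

/-- Let F be a saturated fusion system over a finite p-group S, E a normal subsystem of F over T, and P an F-centric subgroup of S such that P ∩ T is not E-centric. Then some F-conjugate P* of P satisfies Out_S(P*) ∩ O_p(Out_F(P*)) ≠ 1: there is an element of N_S(P*) outside P* whose conjugation action on P* lies in O_p(Aut_F(P*)). In particular P is not both centric and radical in F. -/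
theorem result {Ω : Type*} [Group Ω] {S : Subgroup Ω} [Finite S] (p : ℕ) [Fact p.Prime] (hS : IsPGroup p S) (F : Cfsg.FusionSystem S) (hF : F.IsSaturated p) {T : Subgroup Ω} (E : Cfsg.FusionSystem T) (hE : E.IsNormalIn F p) (P : Subgroup Ω) (hP : F.IsCentric P) (hPT : ¬ E.IsCentric (P ⊓ T)) : (∃ φ ∈ F.Hom P, ∃ x ∈ S ⊓ Subgroup.normalizer (φ.range : Set Ω), x ∉ φ.range ∧ ∃ α ∈ ((Cfsg.pCore p ↥(F.autGroup φ.range)).map (F.autGroup φ.range).subtype : Subgroup (MulAut ↥φ.range)), ∀ y : ↥φ.range, ((α y : ↥φ.range) : Ω) = x * (y : Ω) * x⁻¹) ∧ ¬ F.IsRadical p P := by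
  exact main p hS F hF E hE P hP hPT

end Cfsg.Agent.S5251
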