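import Mathlib
import Cfsg.Statements.S4116

set_option autoImplicit false
open Cfsg

namespace Cfsg.Agent.S4116

theorem two_classes {K : Type*} [Group K] [Finite K] (L L' : Subgroup K) (hL : L ≠ ⊥) (hL' : L' ≠ ⊥)
    (hti : ∀ k x, x ∈ L → x ≠ 1 → k * x * k⁻¹ ∈ L → k ∈ L)
    (hti' : ∀ k x, x ∈ L' → x ≠ 1 → k * x * k⁻¹ ∈ L' → k ∈ L')
    (hdis : ∀ k x, x ∈ L → x ≠ 1 → k * x * k⁻¹ ∉ L') : False := by
  classical
  let f : (K ⧸ L) × {x : L // x ≠ 1} ⊕ (K ⧸ L') × {x : L' // x ≠ 1} → {x : K // x ≠ 1} := fun a =>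
    match a with
    | Sum.inl (c, x) => ⟨c.out * (x.1 : K) * c.out⁻¹, fun e => x.2 (Subtype.ext (conj_eq_one_iff.1 e))⟩
    | Sum.inr (c, x) => ⟨c.out * (x.1 : K) * c.out⁻¹, fun e => x.2 (Subtype.ext (conj_eq_one_iff.1 e))⟩
  have hf : Function.Injective f := by
    have same : ∀ (M : Subgroup K), (∀ k x, x ∈ M → x ≠ 1 → k * x * k⁻¹ ∈ M → k ∈ M) →
        ∀ (c d : K ⧸ M) (x y : {x : M // x ≠ 1}),
          c.out * (x.1 : K) * c.out⁻¹ = d.out * (y.1 : K) * d.out⁻¹ → c = d ∧ x = y := by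
      intro M hM c d x y e
      have e' : (d.out⁻¹ * c.out) * (x.1 : K) * (d.out⁻¹ * c.out)⁻¹ = (y.1 : K) := by
        calc (d.out⁻¹ * c.out) * (x.1 : K) * (d.out⁻¹ * c.out)⁻¹
            = d.out⁻¹ * (c.out * (x.1 : K) * c.out⁻¹) * d.out := by group
          _ = (y.1 : K) := by rw [e]; group
      have hmem : d.out⁻¹ * c.out ∈ M :=
        hM _ _ x.1.2 (fun h => x.2 (Subtype.ext h)) (by rw [e']; exact y.1.2)
      have hcd : c = d := by
        rw [← QuotientGroup.out_eq' c, ← QuotientGroup.out_eq' d, eq_comm, QuotientGroup.eq]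
        exact hmem
      subst hcd
      exact ⟨rfl, Subtype.ext (Subtype.ext (mul_left_cancel (mul_right_cancel e)))⟩
    rintro (⟨c, x⟩ | ⟨c, x⟩) (⟨d, y⟩ | ⟨d, y⟩) h <;> have e := congrArg Subtype.val h <;> simp only [f] at e
    · obtain ⟨rfl, rfl⟩ := same L hti c d x y e; rfl
    · exfalso
      refine hdis (d.out⁻¹ * c.out) (x.1 : K) x.1.2 (fun h => x.2 (Subtype.ext h)) ?_
      rw [show (d.out⁻¹ * c.out) * (x.1 : K) * (d.out⁻¹ * c.out)⁻¹ = (y.1 : K) by
        calc (d.out⁻¹ * c.out) * (x.1 : K) * (d.out⁻¹ * c.out)⁻¹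
            = d.out⁻¹ * (c.out * (x.1 : K) * c.out⁻¹) * d.out := by group
          _ = (y.1 : K) := by rw [e]; group]
      exact y.1.2
    · exfalso
      refine hdis (c.out⁻¹ * d.out) (y.1 : K) y.1.2 (fun h => y.2 (Subtype.ext h)) ?_
      rw [show (c.out⁻¹ * d.out) * (y.1 : K) * (c.out⁻¹ * d.out)⁻¹ = (x.1 : K) by
        calc (c.out⁻¹ * d.out) * (y.1 : K) * (c.out⁻¹ * d.out)⁻¹
            = c.out⁻¹ * (d.out * (y.1 : K) * d.out⁻¹) * c.out := by group
          _ = (x.1 : K) := by rw [← e]; group]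
      exact x.1.2
    · obtain ⟨rfl, rfl⟩ := same L' hti' c d x y e; rfl
  have h := Nat.card_le_card_of_injective f hf
  have hne : ∀ (M : Type _) [Group M] [Finite M], Nat.card {x : M // x ≠ 1} = Nat.card M - 1 := by
    intro M _ _
    have := Fintype.ofFinite M
    simp [Nat.card_eq_fintype_card, Fintype.card_subtype_compl]
  rw [Nat.card_sum, Nat.card_prod, Nat.card_prod, hne, hne, hne, ← Subgroup.index_eq_card,
    ← Subgroup.index_eq_card, Nat.mul_sub, Nat.mul_sub, mul_one, mul_one,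
    Subgroup.index_mul_card, Subgroup.index_mul_card] at h
  have a1 : L.index * 2 ≤ Nat.card K := by
    rw [← L.index_mul_card]
    exact Nat.mul_le_mul_left _ ((Subgroup.one_lt_card_iff_ne_bot L).2 hL)
  have a2 : L'.index * 2 ≤ Nat.card K := by
    rw [← L'.index_mul_card]
    exact Nat.mul_le_mul_left _ ((Subgroup.one_lt_card_iff_ne_bot L').2 hL')
  have := Nat.card_pos (α := K)
  omega

/-- Let G be a finite group with a subgroup H whose order is coprime to its index (a Hall subgroup) and which meets each of its conjugates by elements outside N_G(H) trivially. Then every subgroup of G whose order is divisible only by primes dividing the order of H lies in a conjugate of H. -/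
theorem result {G : Type*} [Group G] [Finite G] (H : Subgroup G)
    (hHall : (Nat.card H).Coprime H.index) (hTI : Cfsg.IsTISubset (H : Set G))
    (K : Subgroup G) (hK : ∀ q : ℕ, q.Prime → q ∣ Nat.card K → q ∣ Nat.card H) :
    ∃ g : G, K ≤ H.map (MulAut.conj g).toMonoidHom := by
  have memc : ∀ g x : G, x ∈ H.map (MulAut.conj g).toMonoidHom ↔ g⁻¹ * x * g ∈ H := by
    intro g x
    constructor
    · rintro ⟨y, hy, rfl⟩; simpa [mul_assoc] using hy
    · intro h; exact ⟨_, h, by simp [mul_assoc]⟩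
  -- a π-element normalizing `H` lies in `H`
  have inH : ∀ x : G, x ∈ Subgroup.normalizer (H : Set G) →
      (∀ q : ℕ, q.Prime → q ∣ orderOf x → q ∣ Nat.card H) → x ∈ H := by
    intro x hx hq
    set N := Subgroup.normalizer (H : Set G)
    have : (H.subgroupOf N).Normal := Subgroup.normal_in_normalizer
    have h1 := orderOf_map_dvd (QuotientGroup.mk' (H.subgroupOf N)) ⟨x, hx⟩
    rw [Subgroup.orderOf_mk] at h1
    have h2 : (H.subgroupOf N).index ∣ H.index := Subgroup.relIndex_dvd_index_of_le Subgroup.le_normalizer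
    have h3 : orderOf (QuotientGroup.mk' (H.subgroupOf N) ⟨x, hx⟩) = 1 := by
      by_contra hne
      obtain ⟨q, hq', hqd⟩ := Nat.exists_prime_and_dvd hne
      have h4 : q ∣ H.index := (hqd.trans (orderOf_dvd_natCard _)).trans (by rwa [← Subgroup.index_eq_card])
      exact hq'.ne_one (Nat.eq_one_of_dvd_coprimes hHall (hq q hq' (hqd.trans h1)) h4)
    rw [orderOf_eq_one_iff] at h3
    exact Subgroup.mem_subgroupOf.1 ((QuotientGroup.eq_one_iff _).1 h3)
  have hπ : ∀ y ∈ K, ∀ q : ℕ, q.Prime → q ∣ orderOf y → q ∣ Nat.card H := fun y hy q hq hd =>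
    hK q hq (hd.trans (Subgroup.orderOf_dvd_natCard K hy))
  -- every element of `K` lies in a conjugate of `H`
  have cover : ∀ y ∈ K, y ≠ 1 → ∃ g : G, g⁻¹ * y * g ∈ H := by
    intro y hy hy1
    obtain ⟨p, hp, hpd⟩ := Nat.exists_prime_and_dvd (fun e => hy1 (orderOf_eq_one_iff.1 e))
    have : Fact p.Prime := ⟨hp⟩
    set z := y ^ (orderOf y / p)
    have hz : orderOf z = p := orderOf_pow_orderOf_div (orderOf_pos y).ne' hpd
    obtain ⟨P⟩ : Nonempty (Sylow p H) := inferInstance
    have hpH : ¬ p ∣ H.index := fun h => hp.ne_one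
      (Nat.eq_one_of_dvd_coprimes hHall (hπ y hy p hp hpd) h)
    have hcard : Nat.card ((P : Subgroup H).map H.subtype) = p ^ (Nat.card G).factorization p := by
      rw [Subgroup.card_map_of_injective H.subtype_injective,
        P.card_eq_multiplicity, ← H.card_mul_index,
        Nat.factorization_mul Nat.card_pos.ne' Subgroup.index_ne_zero_of_finite,
        Finsupp.add_apply, Nat.factorization_eq_zero_of_not_dvd hpH, add_zero]
    obtain ⟨R, hR⟩ := (IsPGroup.of_card (p := p) (G := Subgroup.zpowers z) (n := 1)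
      (by rw [Nat.card_zpowers, hz, pow_one])).exists_le_sylow
    obtain ⟨g, hg⟩ := MulAction.exists_smul_eq G R (Sylow.ofCard _ hcard)
    have hgz : g * z * g⁻¹ ∈ H := by
      have := Subgroup.smul_mem_pointwise_smul z (MulAut.conj g) _ (hR (Subgroup.mem_zpowers z))
      rw [← Sylow.coe_subgroup_smul, hg] at this
      exact Subgroup.map_subtype_le _ this
    refine ⟨g⁻¹, ?_⟩
    rw [inv_inv]
    refine inH _ ?_ ?_
    · by_contra hn
      have h1 : g * z * g⁻¹ = 1 := hTI _ hn _ hgz (by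
        have e : g * y * g⁻¹ * (g * z * g⁻¹) * (g * y * g⁻¹)⁻¹ = g * z * g⁻¹ := by
          calc g * y * g⁻¹ * (g * z * g⁻¹) * (g * y * g⁻¹)⁻¹ = g * (y * z * y⁻¹) * g⁻¹ := by group
            _ = g * z * g⁻¹ := by rw [(Commute.pow_right (Commute.refl y) _).eq, mul_inv_cancel_right]
        rw [e]; exact hgz)
      rw [conj_eq_one_iff] at h1
      rw [h1, orderOf_one] at hz
      exact hp.one_lt.ne hz
    · intro q hq hd
      rw [← MulAut.conj_apply, MulEquiv.orderOf_eq] at hd
      exact hπ y hy q hq hd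
  by_contra hcon
  push Not at hcon
  obtain ⟨k₀, hk₀, hk₀1⟩ := (Subgroup.bot_or_exists_ne_one K).resolve_left (fun e => hcon 1 (e ▸ bot_le))
  obtain ⟨g, hg⟩ := cover k₀ hk₀ hk₀1
  -- the traces of the conjugates of `H` on `K`
  have ti : ∀ g k x : G, k ∈ K → g⁻¹ * x * g ∈ H → x ≠ 1 → g⁻¹ * (k * x * k⁻¹) * g ∈ H →
      g⁻¹ * k * g ∈ H := by
    intro g k x hk hx hx1 hkx
    refine inH _ ?_ fun q hq hd => hπ k hk q hq ?_
    · by_contra hn
      have h1 := hTI _ hn _ hx (by simpa [mul_assoc] using hkx)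
      apply hx1
      have := congrArg (fun w => g * w * g⁻¹) h1
      simpa [mul_assoc] using this
    · have e : g⁻¹ * k * g = MulAut.conj g⁻¹ k := by simp
      rw [e, MulEquiv.orderOf_eq] at hd; exact hd
  -- an element not covered by the conjugates of the first trace
  set L : Subgroup K := (H.map (MulAut.conj g).toMonoidHom).subgroupOf K with hL
  have hLmem : ∀ x : K, x ∈ L ↔ g⁻¹ * (x : G) * g ∈ H := fun x =>
    Subgroup.mem_subgroupOf.trans (memc g x)
  have hLtop : L ≠ ⊤ := by rw [hL, Ne, Subgroup.subgroupOf_eq_top]; exact hcon g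
  obtain ⟨y, hy⟩ : ∃ y : K, ∀ k : K, k * y * k⁻¹ ∉ L := by
    by_contra hh
    push Not at hh
    classical
    have : Fintype K := Fintype.ofFinite K
    -- conjugates of a proper subgroup do not cover
    have hsurj : Function.Surjective (fun a : (K ⧸ L) × L => a.1.out * (a.2 : K) * a.1.out⁻¹) := by
      intro z
      obtain ⟨k, hk⟩ := hh z
      have hm : (QuotientGroup.mk (s := L) k⁻¹).out⁻¹ * k⁻¹ ∈ L :=
        QuotientGroup.eq.1 (QuotientGroup.out_eq' _)
      refine ⟨(QuotientGroup.mk k⁻¹, ⟨_, mul_mem (mul_mem hm hk) (inv_mem hm)⟩), ?_⟩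
      simp only
      group
    have hnotinj : ¬ Function.Injective (fun a : (K ⧸ L) × L => a.1.out * (a.2 : K) * a.1.out⁻¹) := by
      intro hinj
      obtain ⟨c, hc⟩ : ∃ c : K ⧸ L, c ≠ QuotientGroup.mk 1 := by
        by_contra hh'
        push Not at hh'
        exact hLtop ((Subgroup.eq_top_iff' _).2 fun x => by
          have := QuotientGroup.eq.1 ((hh' (QuotientGroup.mk x)).symm)
          simpa using this)
      exact hc (congrArg Prod.fst (@hinj (c, 1) (QuotientGroup.mk 1, 1) (by simp)))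
    apply hnotinj
    refine (Function.Surjective.bijective_of_nat_card_le hsurj (le_of_eq ?_)).injective
    rw [Nat.card_prod, ← Subgroup.index_eq_card, Subgroup.index_mul_card]
  have hy1 : (y : G) ≠ 1 := by
    intro e
    apply hy 1
    rw [show y = 1 from Subtype.ext e]
    simp
  obtain ⟨g', hg'⟩ := cover y y.2 hy1
  set L' : Subgroup K := (H.map (MulAut.conj g').toMonoidHom).subgroupOf K
  have hL'mem : ∀ x : K, x ∈ L' ↔ g'⁻¹ * (x : G) * g' ∈ H := fun x =>
    Subgroup.mem_subgroupOf.trans (memc g' x)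
  refine two_classes L L' ?_ ?_ ?_ ?_ ?_
  · intro e
    have h1 : (⟨k₀, hk₀⟩ : K) ∈ L := (hLmem _).2 hg
    rw [e, Subgroup.mem_bot] at h1
    exact hk₀1 (congrArg Subtype.val h1)
  · intro e
    have h1 : y ∈ L' := (hL'mem _).2 hg'
    rw [e, Subgroup.mem_bot] at h1
    exact hy1 (congrArg Subtype.val h1)
  · intro k x hx hx1 hkx
    exact (hLmem k).2 (ti g k x k.2 ((hLmem x).1 hx) (fun e => hx1 (Subtype.ext e)) ((hLmem _).1 hkx))
  · intro k x hx hx1 hkx
    exact (hL'mem k).2 (ti g' k x k.2 ((hL'mem x).1 hx) (fun e => hx1 (Subtype.ext e)) ((hL'mem _).1 hkx))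
  · intro k x hx hx1 hkx
    -- then `g'` and `k g` give the same conjugate of `H`
    apply hy k⁻¹
    have h1 := (hLmem x).1 hx
    have h2 := (hL'mem _).1 hkx
    have hn : g'⁻¹ * (k : G) * g ∈ Subgroup.normalizer (H : Set G) := by
      by_contra hn
      have h3 := hTI _ hn _ h1 (by
        have e : g'⁻¹ * (k : G) * g * (g⁻¹ * (x : G) * g) * (g'⁻¹ * (k : G) * g)⁻¹ =
            g'⁻¹ * ((k * x * k⁻¹ : K) : G) * g' := by push_cast; group
        rw [e]; exact h2)
      apply hx1
      apply Subtype.ext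
      have := congrArg (fun w => g * w * g⁻¹) h3
      simpa [mul_assoc] using this
    refine (hLmem _).2 ?_
    have h4 := (Subgroup.mem_normalizer_iff.1 (inv_mem hn) _).1 hg'
    have e : g⁻¹ * ((k⁻¹ * y * k⁻¹⁻¹ : K) : G) * g =
        (g'⁻¹ * (k : G) * g)⁻¹ * (g'⁻¹ * (y : G) * g') * (g'⁻¹ * (k : G) * g)⁻¹⁻¹ := by push_cast; group
    rw [e]; exact h4

end Cfsg.Agent.S4116
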