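import Cfsg.Statements.S0059
import Cfsg.Agent.H1.CoprimeAction
import Cfsg.Agent.H1.SchurZassenhausConj
import Mathlib.GroupTheory.SchurZassenhaus

set_option autoImplicit false
open Cfsg
open scoped Pointwise

namespace Cfsg.Agent.S0059

/-- Let a finite group act on a set on which a normal subgroup K of coprime order and index is transitive, with K or the quotient solvable. Then any complement H of K has a fixed point, and any two H-fixed points are interchanged by an element of K centralising H. -/
theorem result {G : Type*} [Group G] [Finite G] {X : Type*} [Nonempty X] [MulAction G X]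
    (K H : Subgroup G) [K.Normal] (hc : Subgroup.IsComplement' K H) (hcop : (Nat.card K).Coprime K.index)
    (hsolv : Group.IsSolvable K ∨ Group.IsSolvable (G ⧸ K)) (htrans : MulAction.IsPretransitive K X) :
    (∃ x : X, ∀ h ∈ H, h • x = x) ∧
    ∀ x y : X, (∀ h ∈ H, h • x = x) → (∀ h ∈ H, h • y = y) → ∃ k ∈ K ⊓ Subgroup.centralizer (H : Set G), k • x = y := by
  classical
  have hHK : Nat.card H = K.index := hc.symm.index_eq_card.symm
  have hcopKH : (Nat.card K).Coprime (Nat.card H) := hHK ▸ hcop
  have hsol : Group.IsSolvable K ∨ Group.IsSolvable H := by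
    refine hsolv.imp id fun h => ?_
    haveI := h
    exact Group.isSolvable_of_surjective (f := hc.symm.QuotientMulEquiv.toMonoidHom)
      hc.symm.QuotientMulEquiv.surjective
  have hfix : ∃ x : X, ∀ h ∈ H, h • x = x := by
    obtain ⟨x⟩ := (inferInstance : Nonempty X)
    set S := MulAction.stabilizer G x with hS
    have hKS : ∀ g : G, ∃ k ∈ K, k⁻¹ * g ∈ S := fun g => by
      obtain ⟨k, hk⟩ := htrans.exists_smul_eq x (g • x)
      refine ⟨k, k.2, ?_⟩
      rw [hS, MulAction.mem_stabilizer_iff, mul_smul, ← hk]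
      exact inv_smul_smul (k : G) x
    have htop : K ⊔ S = ⊤ := by
      rw [eq_top_iff]
      intro g _
      obtain ⟨k, hk, hks⟩ := hKS g
      simpa using Subgroup.mul_mem_sup hk hks
    let KS : Subgroup S := K.subgroupOf S
    have hidx : KS.index = K.index := by
      change K.relIndex S = K.index
      rw [← Subgroup.relIndex_sup_left (H := S) (K := K), htop, Subgroup.relIndex_top_right]
    have hcopS : (Nat.card KS).Coprime KS.index := by
      rw [hidx]
      refine Nat.Coprime.coprime_dvd_left ?_ hcop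
      rw [Nat.card_congr (KS.equivMapOfInjective _ S.subtype_injective).toEquiv]
      exact Subgroup.card_dvd_of_le (by rintro y ⟨a, ha, rfl⟩; exact ha)
    obtain ⟨B, hB⟩ := Subgroup.exists_right_complement'_of_coprime hcopS
    have hBc : Nat.card (B.map S.subtype) = Nat.card H := by
      rw [← Nat.card_congr (B.equivMapOfInjective _ S.subtype_injective).toEquiv,
        ← hB.symm.index_eq_card, hidx, hHK]
    obtain ⟨d, -, hd⟩ := H1.exists_conj_eq_of_coprime (D := K) (H := H) (K := B.map S.subtype)
      (by rw [Subgroup.normalizer_eq_top_iff.2 ‹K.Normal›]; exact le_top) hcopKH hsol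
      (by rw [hc.sup_eq_top]; exact le_top) hBc
    refine ⟨d⁻¹ • x, fun h hh => ?_⟩
    have h1 : d * h * d⁻¹ ∈ S := Subgroup.map_subtype_le B (hd ▸ ⟨h, hh, rfl⟩)
    rw [hS, MulAction.mem_stabilizer_iff, mul_smul, mul_smul] at h1
    exact eq_inv_smul_iff.2 h1
  refine ⟨hfix, fun x y hx hy => ?_⟩
  obtain ⟨k, hk⟩ := htrans.exists_smul_eq x y
  have hk' : (k : G) • x = y := hk
  set N := K ⊓ MulAction.stabilizer G x with hN
  have hHN : H ≤ Subgroup.normalizer (N : Set G) := by
    intro h hh
    rw [Subgroup.mem_normalizer_iff]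
    intro n
    have hxh : h • x = x := hx h hh
    have hxh' : h⁻¹ • x = x := hx _ (H.inv_mem hh)
    constructor
    · rintro ⟨hnK, hnx⟩
      refine ⟨‹K.Normal›.conj_mem n hnK h, ?_⟩
      show (h * n * h⁻¹) • x = x
      have hnx' : n • x = x := hnx
      rw [mul_smul, mul_smul, hxh', hnx', hxh]
    · rintro ⟨hnK, hnx⟩
      refine ⟨by simpa [mul_assoc] using ‹K.Normal›.conj_mem _ hnK h⁻¹, ?_⟩
      show n • x = x
      have hnx' : (h * n * h⁻¹) • x = x := hnx
      have e : n = h⁻¹ * (h * n * h⁻¹) * h := by group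
      rw [e, mul_smul, mul_smul, hxh, hnx', hxh']
  obtain ⟨c, hcA, hck⟩ := H1.exists_fixed_mem_coset hHN
    (hcopKH.coprime_dvd_left (Subgroup.card_dvd_of_le inf_le_left))
    (hsol.imp (fun h => H1.isSolvable_mono h inf_le_left) id) (k := (k : G)) (by
      intro h hh
      refine ⟨K.mul_mem (K.inv_mem k.2) (‹K.Normal›.conj_mem _ k.2 h), ?_⟩
      show ((k : G)⁻¹ * (h * k * h⁻¹)) • x = x
      rw [mul_smul, mul_smul, mul_smul,
        hx _ (H.inv_mem hh), hk', hy h hh, ← hk', inv_smul_smul])
  refine ⟨c, ⟨?_, hcA⟩, ?_⟩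
  · have := K.mul_mem k.2 hck.1
    simpa using this
  · have h1 : ((k : G)⁻¹ * c) • x = x := hck.2
    rw [mul_smul, inv_smul_eq_iff] at h1
    rw [h1, hk']

end Cfsg.Agent.S0059
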