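import Cfsg.Statements.S1714
import Cfsg.Agent.H20.Fi23Asm
import Cfsg.Agent.H86.Fischer.Iso23
import Cfsg.Agent.S5402
-- import your own Cfsg.Agent.* helpers here

set_option autoImplicit false
open Cfsg

namespace Cfsg.Agent.S1714

/-- The Fischer group Fi₂₃ from a transposition centraliser: let G be a finite group with an involution d such that the centraliser C of d is quasisimple, C modulo the subgroup generated by d is isomorphic to the presented Fischer group Fi₂₂, and some conjugate of d different from d commutes with d. Then G is isomorphic to the presented Fischer group Fi₂₃. -/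
theorem result {G : Type*} [Group G] [Finite G] (d : G) (hd : orderOf d = 2) (hq : Cfsg.IsQuasisimple (Subgroup.centralizer ({d} : Set G))) [((Subgroup.zpowers d).subgroupOf (Subgroup.centralizer ({d} : Set G))).Normal] (e : Cfsg.Spor.IsoFi22 ((Subgroup.centralizer ({d} : Set G)) ⧸ (Subgroup.zpowers d).subgroupOf (Subgroup.centralizer ({d} : Set G)))) (hnwc : ∃ g : G, g * d * g⁻¹ ∈ Subgroup.centralizer ({d} : Set G) ∧ g * d * g⁻¹ ≠ d) : Cfsg.Spor.IsoFi23 G := by
  obtain ⟨⟨E, hE, h22⟩, hinv⟩ := H20.F23.centraliser_facts e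
  obtain ⟨hD, h23⟩ := Cfsg.Agent.S5402.result d hd hq ⟨E, hE, h22⟩ hinv hnwc
  obtain ⟨hg, hprim, h3, h2⟩ := H20.F23.side hd hq h22 hnwc hD
  obtain ⟨f, -⟩ := H86.Fischer.exists_iso_fi23 hg hprim h23
  exact ⟨f.symm⟩

end Cfsg.Agent.S1714
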