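import Cfsg.Statements.S0246
import Cfsg.Agent.H48.Form
-- import your own Cfsg.Agent.* helpers here

set_option autoImplicit false
open Cfsg

namespace Cfsg.Agent.S0246

/-- The centre of Sp_{2m}(q), m at least 1, is {1, -1}: it has order gcd(2, q-1). -/
theorem result {F : Type*} [Field F] [Fintype F] {q : ℕ} (hF : Fintype.card F = q) (m : ℕ) (hm : 1 ≤ m) : Nat.card (Subgroup.center (Matrix.symplecticGroup (Fin m) F)) = Nat.gcd 2 (q - 1) := by
  classical
  haveI : Nonempty (Fin m) := ⟨⟨0, by omega⟩⟩
  subst hF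
  set i : Fin m ⊕ Fin m := Sum.inl ⟨0, by omega⟩
  let e : ↥(Subgroup.center (Matrix.symplecticGroup (Fin m) F)) ≃ {a : F // a * a = 1} :=
    { toFun := fun g => ⟨(g.1.1 : Matrix _ _ F) i i, by
        obtain ⟨a, ha1, ha⟩ := (H48.mem_center_iff _).1 g.2
        have := congrFun (ha (Pi.single i 1)) i
        simp [H48.spSmulDef] at this
        rw [this]; exact ha1⟩
      invFun := fun a => ⟨⟨a.1 • 1, H48.scalar_mem a.2⟩, (H48.mem_center_iff _).2
        ⟨a.1, a.2, fun v => by simp [H48.spSmulDef, Matrix.smul_mulVec]⟩⟩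
      left_inv := fun g => by
        obtain ⟨a, -, ha⟩ := (H48.mem_center_iff _).1 g.2
        have := congrFun (ha (Pi.single i 1)) i
        simp [H48.spSmulDef] at this
        refine Subtype.ext (H48.sp_ext fun v => ?_)
        rw [ha v, ← this]
        simp [H48.spSmulDef, Matrix.smul_mulVec]
      right_inv := fun a => Subtype.ext (by simp) }
  rw [Nat.card_congr e]
  have hs : ({a : F | a * a = 1} : Set F) = {1, -1} := by
    ext a; simp [mul_self_eq_one_iff]
  rw [show Nat.card {a : F // a * a = 1} = ({1, -1} : Set F).ncard by rw [← hs]; rfl]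
  by_cases h2 : ringChar F = 2
  · haveI := ringChar.of_eq h2
    rw [CharTwo.neg_eq, Set.insert_eq_of_mem (Set.mem_singleton _), Set.ncard_singleton]
    have hev : Even (Fintype.card F) := by
      rw [Nat.even_iff, FiniteField.even_card_iff_char_two.1 h2]
    obtain ⟨r, hr⟩ := hev
    have hpos := Fintype.card_pos (α := F)
    have hodd : Odd (Fintype.card F - 1) := ⟨r - 1, by omega⟩
    exact Eq.symm (Nat.coprime_iff_gcd_eq_one.1 (Nat.coprime_two_left.2 hodd))
  · rw [Set.ncard_pair]
    · have := FiniteField.odd_card_of_char_ne_two h2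
      exact (Nat.gcd_eq_left (Nat.dvd_of_mod_eq_zero (by omega))).symm
    · intro h
      exact h2 (neg_one_eq_one_iff.1 h.symm)

end Cfsg.Agent.S0246
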