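import Cfsg.Statements.S1127
import Cfsg.Agent.H66.RankOne2

set_option autoImplicit false
open Cfsg

namespace Cfsg.Agent.S1127

/-- In the rank-one set-up (`G` finite and doubly transitive on `Ω`, `t` an involution moving `a`, `Q` normal in `G_a` with `G_a = Q D`, `Q ⊓ D = 1` for the two-point stabiliser `D = G_a ⊓ G_{t • a}`, `|Q|` even, `|D|` odd): if `s` is an involution of `G_a` and `r ∈ Q` satisfy `t s t = r⁻¹ t r`, then `C_D(t) = C_D(s)`; moreover `C_D(t) ⊓ C_D(K) = C_D(I ∩ G_a)`, where `K` is the set of elements of `D` inverted by `t` and `I ∩ G_a` the set of involutions of `G_a`. -/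
theorem result {G Ω : Type*} [Group G] [Finite G] [MulAction G Ω] {a : Ω} {t : G} {Q : Subgroup G}
    (hS : Cfsg.IsRankOneSetup G Ω a t Q) :
    (∀ s r : G, s ∈ Cfsg.involutionsIn (MulAction.stabilizer G a : Set G) → r ∈ Q → t * s * t = r⁻¹ * t * r →
        (MulAction.stabilizer G a ⊓ MulAction.stabilizer G (t • a)) ⊓ Subgroup.centralizer {t} = (MulAction.stabilizer G a ⊓ MulAction.stabilizer G (t • a)) ⊓ Subgroup.centralizer {s}) ∧
      (MulAction.stabilizer G a ⊓ MulAction.stabilizer G (t • a)) ⊓ Subgroup.centralizer {t} ⊓ Subgroup.centralizer (Cfsg.invertedBy (MulAction.stabilizer G a ⊓ MulAction.stabilizer G (t • a)) t) =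
        (MulAction.stabilizer G a ⊓ MulAction.stabilizer G (t • a)) ⊓ Subgroup.centralizer (Cfsg.involutionsIn (MulAction.stabilizer G a : Set G)) := by
  constructor
  · intro s r hs hr he
    ext d
    simp only [Subgroup.mem_inf, Subgroup.mem_centralizer_singleton_iff]
    exact and_congr_right fun hd =>
      H66.R1.centralizer_pair hS hs hr he (Subgroup.mem_inf.mpr hd)
  · obtain ⟨⟨s₀, r₀⟩, ⟨hs₀, hr₀, he₀⟩, -⟩ := H66.R1.exists_pair hS
    simp only [] at hs₀ hr₀ he₀
    ext d
    simp only [Subgroup.mem_inf, Subgroup.mem_centralizer_singleton_iff]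
    constructor
    · rintro ⟨⟨hd, hdt⟩, hdK⟩
      refine ⟨hd, Subgroup.mem_centralizer_iff.mpr fun s hs => ?_⟩
      obtain ⟨l, hl, rfl⟩ := H66.R1.exists_conj_pair hS hs₀ hr₀ he₀ hs
      have h1 : Commute d l := (Subgroup.mem_centralizer_iff.mp hdK l hl).symm
      have h2 : Commute d s₀ :=
        (H66.R1.centralizer_pair hS hs₀ hr₀ he₀ (Subgroup.mem_inf.mpr hd)).mp hdt
      exact ((h1.inv_right.mul_right h2).mul_right h1).symm.eq
    · rintro ⟨hd, hdI⟩
      have hd' : d ∈ H66.R1.twoPt G a t := Subgroup.mem_inf.mpr hd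
      have hdt : d * t = t * d := (H66.R1.centralizer_pair hS hs₀ hr₀ he₀ hd').mpr
        (Subgroup.mem_centralizer_iff.mp hdI s₀ hs₀).symm
      refine ⟨⟨hd, hdt⟩, Subgroup.mem_centralizer_iff.mpr fun k hk => ?_⟩
      have hcs := Subgroup.mem_centralizer_iff.mp hdI (k⁻¹ * s₀ * k)
        (H66.R1.conj_involutionsIn' hS hs₀ (H66.R1.mem_twoPt.mp hk.1).1)
      have hkd : k * d * k⁻¹ * s₀ = s₀ * (k * d * k⁻¹) := by
        calc k * d * k⁻¹ * s₀ = k * (d * (k⁻¹ * s₀ * k)) * k⁻¹ := by group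
          _ = s₀ * (k * d * k⁻¹) := by rw [← hcs]; group
      have hD : k * d * k⁻¹ ∈ H66.R1.twoPt G a t := mul_mem (mul_mem hk.1 hd') (inv_mem hk.1)
      have h1 := (H66.R1.centralizer_pair hS hs₀ hr₀ he₀ hD).mpr hkd
      have h2 : t * (k * d * k⁻¹) * t⁻¹ = k * d * k⁻¹ := by rw [← h1, mul_inv_cancel_right]
      rw [H66.conj_mul_mul, H66.conj_mul_mul, ← conj_inv, hk.2, inv_inv, ← hdt,
        mul_inv_cancel_right] at h2
      have h3 : Commute (k * k) d := by
        show k * k * d = d * (k * k)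
        calc k * k * d = k * (k * d * k⁻¹) * k := by group
          _ = d * (k * k) := by rw [← h2]; group
      obtain ⟨j, hj⟩ := H66.odd_orderOf_of_mem_odd_card hS.odd_card k hk.1
      have h4 : Commute (k ^ (2 * (j + 1))) d := by rw [pow_mul, pow_two]; exact h3.pow_left _
      rw [show 2 * (j + 1) = orderOf k + 1 by omega, pow_succ, pow_orderOf_eq_one, one_mul] at h4
      exact h4.eq

end Cfsg.Agent.S1127
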