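import Cfsg.Statements.S1131
import Cfsg.Agent.H66.RankOneLin

set_option autoImplicit false
open Cfsg

namespace Cfsg.Agent.S1131

/-- In the rank-one set-up (`G` finite and doubly transitive on `Ω`, `t` an involution moving `a`, `Q` normal in `G_a` with `G_a = Q D`, `Q ⊓ D = 1` for the two-point stabiliser `D = G_a ⊓ G_{t • a}`, `|Q|` even, `|D|` odd), with the action faithful and `G` containing two distinct commuting involutions: the set `K` of elements of `D` inverted by `t` is (the underlying set of) a cyclic subgroup normal in `D`. -/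
theorem result {G Ω : Type*} [Group G] [Finite G] [MulAction G Ω] [FaithfulSMul G Ω] {a : Ω} {t : G} {Q : Subgroup G}
    (hS : Cfsg.IsRankOneSetup G Ω a t Q)
    (h2 : ∃ x y : G, x ≠ 1 ∧ y ≠ 1 ∧ x ≠ y ∧ x * x = 1 ∧ y * y = 1 ∧ x * y = y * x) :
    ∃ C : Subgroup G, (C : Set G) = Cfsg.invertedBy (MulAction.stabilizer G a ⊓ MulAction.stabilizer G (t • a)) t ∧ IsCyclic C ∧
      ∀ d ∈ (MulAction.stabilizer G a ⊓ MulAction.stabilizer G (t • a)), ∀ c ∈ C, d * c * d⁻¹ ∈ C := by
  obtain ⟨Y, _, φ, A, hAn, hφ, hAc, hself, hmax, hfix, hker, -⟩ := H66.RankOneLin.exists_rep hS h2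
  set D := MulAction.stabilizer G a ⊓ MulAction.stabilizer G (t • a) with hD
  have htt : ∀ x : G, t * (t * x * t) * t = x := fun x => by
    calc t * (t * x * t) * t = (t * t) * x * (t * t) := by group
      _ = x := by rw [hS.mul_self, one_mul, mul_one]
  have ht' : t⁻¹ = t := H66.R1.t_inv hS
  let τ : D ≃* D :=
    { toFun := fun x => ⟨t * x * t, H66.R1.t_conj_mem hS x.2⟩
      invFun := fun x => ⟨t * x * t, H66.R1.t_conj_mem hS x.2⟩
      left_inv := fun x => Subtype.ext (htt x)
      right_inv := fun x => Subtype.ext (htt x)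
      map_mul' := fun x y => Subtype.ext (by
        show t * ((x : G) * y) * t = t * x * t * (t * y * t)
        calc t * ((x : G) * y) * t = t * x * (t * t) * y * t := by rw [hS.mul_self]; group
          _ = _ := by group) }
  have hτiff : ∀ x : D, τ x = x ↔ (x : G) * t = t * x := by
    intro x
    rw [Subtype.ext_iff]
    show t * (x : G) * t = x ↔ _
    constructor
    · intro h
      calc (x : G) * t = t * x * t * t := by rw [h]
        _ = t * x := by rw [mul_assoc, hS.mul_self, mul_one]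
    · intro h
      rw [← h, mul_assoc, hS.mul_self, mul_one]
  obtain ⟨k₀, hk₀, hnorm⟩ := H66.RankOneLin.inverted_cyclic hS.odd_card τ
    (fun x => Subtype.ext (htt x)) φ hφ (fun v hv => by
      rw [hτiff]
      have h1 : (v : G) ∈ D ⊓ Subgroup.centralizer (Cfsg.involutionsIn (MulAction.stabilizer G a : Set G)) :=
        ⟨v.2, (hker v).1 hv⟩
      rw [← (Cfsg.Agent.S1127.result hS).2] at h1
      exact Subgroup.mem_centralizer_singleton_iff.1 h1.1.2)
    A hAc hself hmax (fun v hv hvA => hfix v ((hτiff v).1 hv) hvA)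
  refine ⟨(Subgroup.zpowers k₀).map D.subtype, ?_, ?_, ?_⟩
  · ext x
    constructor
    · rintro ⟨y, hy, rfl⟩
      refine ⟨y.2, ?_⟩
      rw [ht']
      exact congrArg Subtype.val ((hk₀ y).2 hy)
    · rintro ⟨hxD, hx⟩
      rw [ht'] at hx
      exact ⟨⟨x, hxD⟩, (hk₀ ⟨x, hxD⟩).1 (Subtype.ext hx), rfl⟩
  · haveI : IsCyclic (Subgroup.zpowers k₀) := inferInstance
    exact isCyclic_of_surjective _
      ((Subgroup.zpowers k₀).equivMapOfInjective D.subtype D.subtype_injective).surjective
  · rintro d hd c ⟨y, hy, rfl⟩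
    exact ⟨_, hnorm ⟨d, hd⟩ y hy, rfl⟩

end Cfsg.Agent.S1131
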