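import Cfsg.Statements.S3992
import Cfsg.Agent.H30.EPPO

set_option autoImplicit false
open Cfsg

namespace Cfsg.Agent.S3992

/-- Let G be a finite non-solvable group in which every element has prime-power order, and let R be its largest solvable normal subgroup. Then R is a p-group for some prime p; G/R has a non-abelian simple normal subgroup contained in every nontrivial normal subgroup of G/R (its unique minimal normal subgroup); and the order of every solvable subgroup of G has at most two prime divisors. -/
theorem result {G : Type*} [Group G] [Finite G] (hns : ¬ Group.IsSolvable G) (hpp : ∀ g : G, g ≠ 1 → IsPrimePow (orderOf g))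
    (R : Subgroup G) [R.Normal] (hRs : Group.IsSolvable ↥R) (hRmax : ∀ N : Subgroup G, N.Normal → Group.IsSolvable ↥N → N ≤ R) :
    (∃ p : ℕ, p.Prime ∧ IsPGroup p ↥R) ∧
      (∃ M : Subgroup (G ⧸ R), M.Normal ∧ IsSimpleGroup ↥M ∧ ¬ IsMulCommutative ↥M ∧
        ∀ N : Subgroup (G ⧸ R), N.Normal → N ≠ ⊥ → M ≤ N) ∧
      ∀ H : Subgroup G, Group.IsSolvable ↥H → (Nat.card ↥H).primeFactors.card ≤ 2 := by
  classical
  have h : ∀ g : G, IsPrimePow (orderOf g) ∨ g = 1 := fun g => (em (g = 1)).symm.imp_left (hpp g)
  have hq : ∀ q : G ⧸ R, IsPrimePow (orderOf q) ∨ q = 1 := by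
    intro q
    obtain ⟨g, rfl⟩ := QuotientGroup.mk'_surjective R q
    by_cases h1 : QuotientGroup.mk' R g = 1
    · exact Or.inr h1
    · refine Or.inl (((h g).resolve_right fun hg => h1 (by rw [hg, map_one])).dvd (orderOf_map_dvd _ g) ?_)
      exact fun h2 => h1 (orderOf_eq_one_iff.1 h2)
  refine ⟨H30.eppo_radical hns h R hRs, ?_, ?_⟩
  · haveI : Nontrivial (G ⧸ R) := by
      by_contra hc
      rw [not_nontrivial_iff_subsingleton] at hc
      exact hns ((Group.isSolvable_iff_subgroup_quotient R).2 ⟨hRs, inferInstance⟩)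
    refine H30.eppo_socle hq fun N hN hNs => ?_
    have hR : R ≤ N.comap (QuotientGroup.mk' R) := fun r hr => by
      show (r : G ⧸ R) ∈ N
      rw [(QuotientGroup.eq_one_iff r).2 hr]; exact one_mem _
    have hle : N.comap (QuotientGroup.mk' R) ≤ R := by
      refine hRmax _ (hN.comap _) ?_
      haveI := hNs
      haveI := hRs
      refine Group.isSolvable_of_ker_le_range (Subgroup.inclusion hR)
        ((QuotientGroup.mk' R).subgroupComap N) ?_
      intro x hx
      refine ⟨⟨x, (QuotientGroup.eq_one_iff _).1 (congrArg Subtype.val hx)⟩, rfl⟩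
    rw [eq_bot_iff]
    intro q hq'
    obtain ⟨g, rfl⟩ := QuotientGroup.mk'_surjective R q
    exact Subgroup.mem_bot.2 ((QuotientGroup.eq_one_iff g).2 (hle hq'))
  · intro H hH
    haveI := hH
    refine H84.eppo_primeFactors_le_two fun x => ?_
    rcases h (x : G) with h1 | h1
    · exact Or.inl (by rwa [Subgroup.orderOf_coe] at h1)
    · exact Or.inr (Subtype.ext h1)

end Cfsg.Agent.S3992
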