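import Cfsg.Statements.S0743
import Mathlib

set_option autoImplicit false
open Cfsg
open scoped Pointwise

namespace Cfsg.Agent.S0743

universe u v

theorem gleason {p : ℕ} (hp : p.Prime) (k : ℕ) :
    ∀ (G : Type u) [Group G] (α : Type v) [Fintype α] [DecidableEq α] [MulAction G α],
    1 ≤ k → k < Fintype.card α →
    (∀ s : Finset α, s.card = k → ∃ P : Subgroup G, IsPGroup p P ∧ MulAction.fixedPoints P α = (s : Set α)) →
    MulAction.IsMultiplyPretransitive G α k := by
  induction k with
  | zero => intro G _ α _ _ _ h; omega
  | succ k ih =>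
    intro G _ α _ _ _ _ hkn h
    classical
    haveI : Fact p.Prime := ⟨hp⟩
    have hcong : ∀ x : α, ∀ s : Finset α, s.card = k + 1 →
        Nat.card (MulAction.orbit G x) ≡ (s.filter (fun y => y ∈ MulAction.orbit G x)).card [MOD p] := by
      intro x s hs
      obtain ⟨P, hP, hfix⟩ := h s hs
      have h1 := hP.card_modEq_card_fixedPoints (MulAction.orbit G x)
      have h2 : Nat.card (MulAction.fixedPoints P (MulAction.orbit G x))
          = (s.filter (fun y => y ∈ MulAction.orbit G x)).card := by
        rw [← Nat.card_eq_finsetCard]
        refine Nat.card_congr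
          { toFun := fun y => ⟨y.1.1, Finset.mem_filter.2 ⟨?_, y.1.2⟩⟩
            invFun := fun y => ⟨⟨y.1, (Finset.mem_filter.1 y.2).2⟩, fun g => Subtype.ext ?_⟩
            left_inv := fun y => rfl
            right_inv := fun y => rfl }
        · have : y.1.1 ∈ MulAction.fixedPoints P α := fun g => congrArg Subtype.val (y.2 g)
          rw [hfix] at this
          exact this
        · have : y.1 ∈ MulAction.fixedPoints P α := by rw [hfix]; exact (Finset.mem_filter.1 y.2).1
          exact this g
      rw [h2] at h1
      exact h1
    haveI htr : MulAction.IsPretransitive G α := by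
      constructor
      intro x y
      by_contra hxy
      have hy : y ∉ MulAction.orbit G x := fun ⟨g, hg⟩ => hxy ⟨g, hg⟩
      have hne : x ≠ y := fun e => hy (e ▸ MulAction.mem_orbit_self x)
      obtain ⟨s, hxs, hsy, hs⟩ := Finset.exists_subsuperset_card_eq (n := k + 1)
        (show ({x} : Finset α) ⊆ Finset.univ.erase y by simp [hne]) (by simp)
        (by rw [Finset.card_erase_of_mem (Finset.mem_univ y), Finset.card_univ]; omega)
      have hys : y ∉ s := fun e => by simpa using hsy e
      rw [Finset.singleton_subset_iff] at hxs
      have h1 := hcong x s hs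
      have h2 := hcong x (insert y (s.erase x)) (by
        rw [Finset.card_insert_of_notMem (by simp [hys]), Finset.card_erase_of_mem hxs, hs]; omega)
      rw [Finset.filter_insert, if_neg hy, Finset.filter_erase, Finset.card_erase_of_mem (by simp [hxs])] at h2
      have hpos : 0 < (s.filter (fun y => y ∈ MulAction.orbit G x)).card :=
        Finset.card_pos.2 ⟨x, by simp [hxs]⟩
      have h3 := h2.symm.trans h1
      rw [Nat.modEq_iff_dvd' (by omega)] at h3
      have : p ∣ 1 := by convert h3 using 1; omega
      exact hp.not_dvd_one this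
    rcases Nat.eq_zero_or_pos k with rfl | hk
    · rw [MulAction.is_one_pretransitive_iff]; exact htr
    obtain ⟨a⟩ : Nonempty α := Fintype.card_pos_iff.1 (by omega)
    rw [← Nat.succ_eq_add_one, SubMulAction.ofStabilizer.isMultiplyPretransitive (a := a)]
    haveI : Fintype (SubMulAction.ofStabilizer G a) := Fintype.ofFinite _
    have hcard : Fintype.card (SubMulAction.ofStabilizer G a) = Fintype.card α - 1 := by
      rw [← Nat.card_eq_fintype_card]
      have : Nat.card (SubMulAction.ofStabilizer G a) = Nat.card {x : α // x ≠ a} :=
        Nat.card_congr (Equiv.subtypeEquivRight fun x => SubMulAction.mem_ofStabilizer_iff G a)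
      rw [this, Nat.card_eq_fintype_card, Fintype.card_subtype_compl, Fintype.card_subtype_eq]
    refine ih _ _ hk (by omega) fun s hs => ?_
    obtain ⟨P, hP, hfix⟩ := h (insert a (s.map ⟨Subtype.val, Subtype.val_injective⟩)) (by
      rw [Finset.card_insert_of_notMem, Finset.card_map, hs]
      simp only [Finset.mem_map, Function.Embedding.coeFn_mk, not_exists, not_and]
      intro x _ hx
      exact (SubMulAction.mem_ofStabilizer_iff G a).1 x.2 hx)
    have hPle : P ≤ MulAction.stabilizer G a := by
      intro g hg
      have : a ∈ MulAction.fixedPoints P α := by rw [hfix]; simp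
      exact this ⟨g, hg⟩
    refine ⟨P.subgroupOf (MulAction.stabilizer G a),
      hP.of_equiv (Subgroup.subgroupOfEquivOfLe hPle).symm, ?_⟩
    ext x
    constructor
    · intro hx
      have : (x : α) ∈ MulAction.fixedPoints P α := fun g =>
        congrArg Subtype.val (hx ⟨⟨g.1, hPle g.2⟩, g.2⟩)
      rw [hfix] at this
      have hne : (x : α) ≠ a := (SubMulAction.mem_ofStabilizer_iff G a).1 x.2
      simpa [hne] using this
    · intro hx g
      have : (x : α) ∈ MulAction.fixedPoints P α := by
        rw [hfix]; simp only [Finset.coe_insert, Finset.coe_map, Set.mem_insert_iff]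
        exact Or.inr ⟨x, hx, rfl⟩
      exact Subtype.ext (this ⟨_, g.2⟩)


/-- Gleason's Lemma: let `p` be a prime and `1 ≤ k < n`; if every `k`-subset of the `n` points is exactly the fixed-point set of some `p`-subgroup of `G`, then `G` is `k`-transitive. -/
theorem result {α : Type*} [Fintype α] [DecidableEq α] (G : Subgroup (Equiv.Perm α)) {p k : ℕ} (hp : p.Prime) (hk : 1 ≤ k) (hkn : k < Fintype.card α) (h : ∀ s : Finset α, s.card = k → ∃ P : Subgroup G, IsPGroup p P ∧ MulAction.fixedPoints P α = (s : Set α)) : MulAction.IsMultiplyPretransitive G α k := by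
  classical
  exact gleason hp k G α hk hkn h

end Cfsg.Agent.S0743
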