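import Cfsg.Statements.S0735
import Mathlib

set_option autoImplicit false
open Cfsg
open scoped Pointwise

namespace Cfsg.Agent.S0735

/-- A 2-homogeneous permutation group (transitive on 2-subsets) of even order is doubly transitive; a non-trivial 2-homogeneous group is primitive. -/
theorem result {α : Type*} [Fintype α] [DecidableEq α] (G : Subgroup (Equiv.Perm α)) (h2 : MulAction.IsPretransitive G (Set.powersetCard α 2)) (hα : 3 ≤ Fintype.card α) : (Even (Nat.card G) → MulAction.IsMultiplyPretransitive G α 2) ∧ (G ≠ ⊥ → MulAction.IsPreprimitive G α) := by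
  classical
  haveI := h2
  have hpair : ∀ a b c d : α, a ≠ b → c ≠ d → ∃ g : G, (g • a = c ∧ g • b = d) ∨ (g • a = d ∧ g • b = c) := by
    intro a b c d hab hcd
    obtain ⟨g, hg⟩ := h2.exists_smul_eq ⟨{a, b}, Finset.card_pair hab⟩ ⟨{c, d}, Finset.card_pair hcd⟩
    have hg' : g • ({a, b} : Finset α) = {c, d} := congrArg Subtype.val hg
    rw [Finset.smul_finset_insert, Finset.smul_finset_singleton] at hg'
    refine ⟨g, ?_⟩
    have h := congrArg (fun s : Finset α => (s : Set α)) hg'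
    simp only [Finset.coe_pair, Set.pair_eq_pair_iff] at h
    exact h
  have htr : MulAction.IsPretransitive G α := by
    constructor
    intro x y
    by_cases hxy : x = y
    · exact ⟨1, by rw [hxy, one_smul]⟩
    obtain ⟨z, hzx, hzy⟩ := Fintype.exists_ne_map_eq_of_card_lt (fun _ : α => ()) (by simp; omega) |> fun _ =>
      show ∃ z, z ≠ x ∧ z ≠ y by
        have : ({x, y} : Finset α) ≠ Finset.univ := by
          intro h
          have := congrArg Finset.card h
          rw [Finset.card_univ, Finset.card_pair hxy] at this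
          omega
        simpa [Finset.eq_univ_iff_forall] using this
    obtain ⟨g, hg | hg⟩ := hpair x z y z (Ne.symm hzx) (Ne.symm hzy)
    · exact ⟨g, hg.1⟩
    · obtain ⟨g', hg' | hg'⟩ := hpair x y x z hxy (Ne.symm hzx)
      · obtain ⟨k, hk | hk⟩ := hpair x z y x (Ne.symm hzx) (Ne.symm hxy)
        · exact ⟨k, hk.1⟩
        · exact ⟨g'⁻¹ * g, by rw [mul_smul, hg.1, ← hg'.2, inv_smul_smul]⟩
      · obtain ⟨k, hk | hk⟩ := hpair x z y x (Ne.symm hzx) (Ne.symm hxy)
        · exact ⟨k, hk.1⟩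
        · exact ⟨g'⁻¹, by rw [← hg'.2, inv_smul_smul]⟩
  refine ⟨?_, ?_⟩
  · intro heven
    obtain ⟨t, ht⟩ := exists_prime_orderOf_dvd_card' 2 heven.two_dvd
    have ht1 : t ≠ 1 := by intro h; rw [h, orderOf_one] at ht; omega
    obtain ⟨a, hab⟩ : ∃ a : α, t • a ≠ a := by
      by_contra! h
      exact ht1 (Subtype.ext (Equiv.ext h))
    have hta : t • t • a = a := by
      rw [← mul_smul, ← sq, ← ht, pow_orderOf_eq_one, one_smul]
    rw [MulAction.is_two_pretransitive_iff]
    intro x y u v hxy huv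
    obtain ⟨g, hg⟩ := hpair x y a (t • a) hxy (Ne.symm hab)
    obtain ⟨k, hk⟩ := hpair a (t • a) u v (Ne.symm hab) huv
    rcases hg with ⟨h1, h2'⟩ | ⟨h1, h2'⟩ <;> rcases hk with ⟨k1, k2⟩ | ⟨k1, k2⟩
    · exact ⟨k * g, by rw [mul_smul, h1, k1], by rw [mul_smul, h2', k2]⟩
    · exact ⟨k * t * g, by rw [mul_smul, h1, mul_smul, k2], by rw [mul_smul, h2', mul_smul, hta, k1]⟩
    · exact ⟨k * t * g, by rw [mul_smul, h1, mul_smul, hta, k1], by rw [mul_smul, h2', mul_smul, k2]⟩
    · exact ⟨k * g, by rw [mul_smul, h1, k2], by rw [mul_smul, h2', k1]⟩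
  · intro _
    refine MulAction.IsPreprimitive.mk fun {B} hB => ?_
    rcases B.subsingleton_or_nontrivial with h | ⟨a, ha, b, hb, hab⟩
    · exact Or.inl h
    refine Or.inr (Set.eq_univ_of_forall fun c => ?_)
    by_cases hac : a = c
    · exact hac ▸ ha
    obtain ⟨g, hg⟩ := hpair a b a c hab hac
    have hgB : g • B = B := by
      rcases hg with ⟨h1, -⟩ | ⟨-, h1⟩
      · exact hB.smul_eq_of_mem ha (by rw [h1]; exact ha)
      · exact hB.smul_eq_of_mem hb (by rw [h1]; exact ha)
    rcases hg with ⟨-, h1⟩ | ⟨h1, -⟩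
    · exact hgB ▸ h1 ▸ Set.smul_mem_smul_set hb
    · exact hgB ▸ h1 ▸ Set.smul_mem_smul_set ha

end Cfsg.Agent.S0735
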