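import Cfsg.Statements.S0736
import Mathlib

set_option autoImplicit false
open Cfsg
open scoped Pointwise

namespace Cfsg.Agent.S0736

/-- A `k`-homogeneous permutation group of degree `n`, `k ≥ 2`, with `k + q - 1 ≤ n` for every prime power `q` dividing `k`, is `(k-1)`-homogeneous. -/
theorem result {α : Type*} [Fintype α] [DecidableEq α] (G : Subgroup (Equiv.Perm α)) {k : ℕ} (hk : 2 ≤ k) (hG : MulAction.IsPretransitive G (Set.powersetCard α k)) (hq : ∀ q : ℕ, IsPrimePow q → q ∣ k → k + q - 1 ≤ Fintype.card α) : MulAction.IsPretransitive G (Set.powersetCard α (k - 1)) := by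
  classical
  have hex : ∃ q, IsPrimePow q ∧ q ∣ k := by
    obtain ⟨p, hp, hpk⟩ := Nat.exists_prime_and_dvd (by omega : k ≠ 1)
    exact ⟨p, hp.isPrimePow, hpk⟩
  have hkn : k ≤ Fintype.card α := by
    obtain ⟨q, hq1, hq2⟩ := hex
    have := hq q hq1 hq2
    have := hq1.pos
    omega
  constructor
  intro s0 t0
  let O : Finset (Finset α) := (Finset.univ.powersetCard (k - 1)).filter (fun T => ∃ g : G, g • (s0 : Finset α) = T)
  have hO : ∀ (g : G) (T : Finset α), T ∈ O → g • T ∈ O := by
    intro g T hT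
    simp only [O, Finset.mem_filter, Finset.mem_powersetCard_univ] at hT ⊢
    obtain ⟨hc, h, rfl⟩ := hT
    exact ⟨by rw [Finset.card_smul_finset]; exact hc, g * h, mul_smul g h _⟩
  let c : Finset α → ℕ := fun K => (O.filter (fun T => T ⊆ K)).card
  have hc : ∀ K L : Finset α, K.card = k → L.card = k → c K = c L := by
    intro K L hK hL
    obtain ⟨g, hg⟩ := hG.exists_smul_eq ⟨K, hK⟩ ⟨L, hL⟩
    have hg' : g • K = L := congrArg Subtype.val hg
    refine Finset.card_bij (fun T _ => g • T) ?_ ?_ ?_
    · intro T hT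
      simp only [Finset.mem_filter] at hT ⊢
      exact ⟨hO g T hT.1, hg' ▸ Finset.smul_finset_subset_smul_finset hT.2⟩
    · intro T _ T' _ h
      exact smul_left_cancel g h
    · intro T hT
      simp only [Finset.mem_filter] at hT ⊢
      refine ⟨g⁻¹ • T, ⟨hO _ T hT.1, ?_⟩, smul_inv_smul g T⟩
      have := Finset.smul_finset_subset_smul_finset (a := g⁻¹) (hg' ▸ hT.2)
      rwa [inv_smul_smul] at this
  have hs0 : (s0 : Finset α).card = k - 1 := s0.2
  obtain ⟨K0, hsK, -, hK0⟩ := Finset.exists_subsuperset_card_eq (n := k)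
    (Finset.subset_univ (s0 : Finset α)) (by omega) (by simpa using hkn)
  have hs0O : (s0 : Finset α) ∈ O := by
    simp only [O, Finset.mem_filter, Finset.mem_powersetCard_univ]
    exact ⟨hs0, 1, one_smul _ _⟩
  have hcpos : 0 < c K0 := Finset.card_pos.2 ⟨_, Finset.mem_filter.2 ⟨hs0O, hsK⟩⟩
  have hck : k ∣ c K0 := by
    rw [Nat.dvd_iff_prime_pow_dvd_dvd]
    intro p a hp hpa
    rcases Nat.eq_zero_or_pos a with rfl | ha
    · simp
    obtain ⟨b, hab, hb⟩ : ∃ b, a ≤ b ∧ k.factorization p = b :=
      ⟨_, (hp.pow_dvd_iff_le_factorization (by omega)).1 hpa, rfl⟩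
    refine (pow_dvd_pow p hab).trans ?_
    have hqk : p ^ b ∣ k := hb ▸ Nat.ordProj_dvd k p
    have hbound := hq (p ^ b) (hp.isPrimePow.pow (by omega)) hqk
    obtain ⟨S, -, hS⟩ := Finset.exists_subset_card_eq (s := (Finset.univ : Finset α)) (n := k + p ^ b - 1) (by simpa using hbound)
    have key := Finset.card_mul_eq_card_mul (s := O.filter (fun T => T ⊆ S)) (t := S.powersetCard k)
      (fun T K => T ⊆ K) (m := p ^ b) (n := c K0) ?_ ?_
    · rw [Finset.card_powersetCard, hS] at key
      have hd : p ^ b ∣ (k + p ^ b - 1).choose k * c K0 := key ▸ dvd_mul_left _ _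
      refine (Nat.Coprime.pow_left _ ?_).dvd_of_dvd_mul_left hd
      rw [hp.coprime_iff_not_dvd]
      intro hdiv
      -- choose (k + p^b - 1) k = choose (k + p^b - 1) (p^b - 1)
      have hpos : 0 < p ^ b := pow_pos hp.pos b
      rw [Nat.choose_symm_of_eq_add (show k + p ^ b - 1 = k + (p ^ b - 1) by omega)] at hdiv
      obtain ⟨m, hm⟩ := hqk
      have hk' : k + p ^ b - 1 = m * p ^ b + (p ^ b - 1) := by rw [hm, Nat.mul_comm m]; omega
      haveI := Fact.mk hp
      rw [hk'] at hdiv
      have h2 := Choose.choose_modEq_choose_mul_prod_range_choose (n := m * p ^ b + (p ^ b - 1)) (k := p ^ b - 1) (p := p) b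
      have e1 : (p ^ b - 1) / p ^ b = 0 := Nat.div_eq_of_lt (by omega)
      have e2 : ∀ i ∈ Finset.range b, (m * p ^ b + (p ^ b - 1)) / p ^ i % p = (p ^ b - 1) / p ^ i % p := by
        intro i hi
        rw [Finset.mem_range] at hi
        obtain ⟨d, rfl⟩ : ∃ d, b = i + 1 + d := ⟨b - (i + 1), by omega⟩
        rw [show m * p ^ (i + 1 + d) = p ^ i * (p * (m * p ^ d)) by ring,
          Nat.mul_add_div (pow_pos hp.pos i), Nat.mul_add_mod]
      rw [e1, Nat.choose_zero_right, Finset.prod_eq_one (fun i hi => by rw [e2 i hi, Nat.choose_self])] at h2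
      have h3 : ((m * p ^ b + (p ^ b - 1)).choose (p ^ b - 1) : ℤ) % p = 1 % p := by
        have := h2; simpa [Int.ModEq] using this
      have h4 : ((m * p ^ b + (p ^ b - 1)).choose (p ^ b - 1) : ℤ) % p = 0 := Int.emod_eq_zero_of_dvd (Int.natCast_dvd_natCast.2 hdiv)
      rw [h4, Int.emod_eq_of_lt (by norm_num) (by exact_mod_cast hp.one_lt)] at h3
      exact absurd h3 (by norm_num)
    · intro T hT
      simp only [Finset.mem_filter] at hT
      have hTc : T.card = k - 1 := by
        have := hT.1; simp only [O, Finset.mem_filter, Finset.mem_powersetCard_univ] at this; exact this.1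
      have heq : Finset.bipartiteAbove (fun T K => T ⊆ K) (S.powersetCard k) T = (S \ T).image (fun x => insert x T) := by
        ext K
        simp only [Finset.mem_bipartiteAbove, Finset.mem_powersetCard, Finset.mem_image, Finset.mem_sdiff]
        constructor
        · rintro ⟨⟨hKS, hKc⟩, hTK⟩
          obtain ⟨x, hx⟩ := Finset.card_eq_one.1 (show (K \ T).card = 1 by
            rw [Finset.card_sdiff_of_subset hTK]; omega)
          have hxm : x ∈ K \ T := by rw [hx]; simp
          rw [Finset.mem_sdiff] at hxm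
          refine ⟨x, ⟨hKS hxm.1, hxm.2⟩, ?_⟩
          rw [← Finset.union_sdiff_of_subset hTK, hx, Finset.union_comm, ← Finset.insert_eq]
        · rintro ⟨x, ⟨hxS, hxT⟩, rfl⟩
          refine ⟨⟨Finset.insert_subset hxS hT.2, ?_⟩, Finset.subset_insert _ _⟩
          rw [Finset.card_insert_of_notMem hxT]; omega
      rw [heq, Finset.card_image_of_injOn, Finset.card_sdiff_of_subset hT.2]
      · omega
      · intro x hx y hy hxy
        simp only [Finset.mem_coe, Finset.mem_sdiff] at hx hy
        have : x ∈ insert y T := by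
          simp only at hxy; rw [← hxy]; exact Finset.mem_insert_self _ _
        simpa [hx.2] using this
    · intro K hK
      rw [Finset.mem_powersetCard] at hK
      rw [← hc K K0 hK.2 hK0]
      refine congrArg Finset.card ?_
      ext T
      simp only [Finset.mem_bipartiteBelow, Finset.mem_filter]
      exact ⟨fun h => ⟨h.1.1, h.2⟩, fun h => ⟨⟨h.1, h.2.trans hK.1⟩, h.2⟩⟩
  obtain ⟨t, ht⟩ := t0
  obtain ⟨K, htK, -, hK⟩ := Finset.exists_subsuperset_card_eq (n := k)
    (Finset.subset_univ t) (by rw [show t.card = k - 1 from ht]; omega) (by simpa using hkn)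
  have hfull : O.filter (fun T => T ⊆ K) = K.powersetCard (k - 1) := by
    refine Finset.eq_of_subset_of_card_le ?_ ?_
    · intro T hT
      simp only [O, Finset.mem_filter, Finset.mem_powersetCard_univ] at hT
      exact Finset.mem_powersetCard.2 ⟨hT.2, hT.1.1⟩
    · rw [Finset.card_powersetCard, hK, Nat.choose_symm (by omega : 1 ≤ k), Nat.choose_one_right]
      calc k ≤ c K0 := Nat.le_of_dvd hcpos hck
        _ = c K := hc K0 K hK0 hK
  have : t ∈ O.filter (fun T => T ⊆ K) := by rw [hfull]; exact Finset.mem_powersetCard.2 ⟨htK, ht⟩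
  simp only [O, Finset.mem_filter] at this
  obtain ⟨g, hg⟩ := this.1.2
  exact ⟨g, Subtype.ext hg⟩

end Cfsg.Agent.S0736
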