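import Cfsg.Statements.S0744
import Mathlib

set_option autoImplicit false
open Cfsg
open scoped Pointwise

namespace Cfsg.Agent.S0744

universe u v

theorem const_fix (j : ℕ) :
    ∀ (G : Type u) [Group G] [Finite G] (α : Type v) [Fintype α] [DecidableEq α] [MulAction G α] [FaithfulSMul G α]
    {l m : ℕ}, 1 < l → j + 2 ≤ Fintype.card α →
    (∀ s : Finset α, s.card = j + 1 → Nat.card (fixingSubgroup G (s : Set α)) = l) →
    (∀ s : Finset α, s.card = j + 2 → Nat.card (fixingSubgroup G (s : Set α)) = m) →
    MulAction.IsMultiplyPretransitive G α (j + 1) := by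
  induction j with
  | zero =>
    intro G _ _ α _ _ _ _ l m hl hn hl' hm'
    classical
    haveI := Fintype.ofFinite G
    rw [zero_add, MulAction.is_one_pretransitive_iff]
    have hst : ∀ a : α, Nat.card (MulAction.stabilizer G a) = l := by
      intro a
      rw [← hl' {a} (Finset.card_singleton a)]
      exact Nat.card_congr (Equiv.subtypeEquivRight fun g => by simp [mem_fixingSubgroup_iff, MulAction.mem_stabilizer_iff])
    have horb : ∀ a : α, Nat.card (MulAction.orbit G a) * l = Nat.card G := by
      intro a
      rw [← hst a, ← Subgroup.index_mul_card (MulAction.stabilizer G a), MulAction.index_stabilizer,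
        Nat.card_coe_set_eq]
    constructor
    intro x y
    by_contra hxy
    have hy : y ∉ MulAction.orbit G x := fun ⟨g, hg⟩ => hxy ⟨g, hg⟩
    set S := MulAction.stabilizer G x
    have hlm : ∀ z : α, z ≠ x → Nat.card (MulAction.orbit S z) * m = l := by
      intro z hz
      have h1 : Nat.card (MulAction.stabilizer S z) = m := by
        rw [← hm' {x, z} (Finset.card_pair (Ne.symm hz))]
        exact Nat.card_congr
          { toFun := fun g => ⟨(g.1 : G), by
              rw [mem_fixingSubgroup_iff]
              intro w hw
              simp only [Finset.coe_pair, Set.mem_insert_iff, Set.mem_singleton_iff] at hw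
              rcases hw with rfl | rfl
              · exact g.1.2
              · exact g.2⟩
            invFun := fun g => ⟨⟨g.1, (mem_fixingSubgroup_iff G).1 g.2 x (by simp)⟩, (mem_fixingSubgroup_iff G).1 g.2 z (by simp)⟩
            left_inv := fun g => rfl
            right_inv := fun g => rfl }
      rw [← h1, ← hst x, ← Subgroup.index_mul_card (MulAction.stabilizer S z), MulAction.index_stabilizer,
        Nat.card_coe_set_eq]
    obtain ⟨t, ht⟩ : ∃ t, ∀ z : α, z ≠ x → Nat.card (MulAction.orbit S z) = t := by
      have hyx : y ≠ x := fun e => hy (by rw [e]; exact MulAction.mem_orbit_self x)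
      refine ⟨Nat.card (MulAction.orbit S y), fun z hz => ?_⟩
      have h1 := hlm z hz
      have h2 := hlm y hyx
      have : 0 < m := Nat.pos_of_ne_zero (by rintro rfl; omega)
      exact Nat.eq_of_mul_eq_mul_right this (h1.trans h2.symm)
    have hdiv : ∀ T : Finset α, x ∉ T → (∀ (g : S) (z : α), z ∈ T → g • z ∈ T) → t ∣ T.card := by
      intro T hxT hT
      rw [Finset.card_eq_sum_card_image (fun z => MulAction.orbit S z) T]
      refine Finset.dvd_sum fun o ho => ?_
      obtain ⟨z, hzT, rfl⟩ := Finset.mem_image.1 ho
      rw [← ht z (fun e => hxT (e ▸ hzT)), Nat.card_eq_card_toFinset]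
      refine dvd_of_eq (congrArg Finset.card ?_)
      ext w
      simp only [Set.mem_toFinset, Finset.mem_filter]
      constructor
      · intro hw
        refine ⟨?_, MulAction.orbit_eq_iff.2 hw⟩
        obtain ⟨g, rfl⟩ := hw
        exact hT g z hzT
      · exact fun h => MulAction.orbit_eq_iff.1 h.2
    have hOy : t ∣ (MulAction.orbit G y).toFinset.card := by
      refine hdiv _ (fun hx => hy (MulAction.mem_orbit_symm.1 (by simpa using hx))) fun g z hz => ?_
      simp only [Set.mem_toFinset] at hz ⊢
      exact MulAction.mem_orbit_of_mem_orbit (g : G) hz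
    have hOx : t ∣ ((MulAction.orbit G x).toFinset.erase x).card := by
      refine hdiv _ (by simp) fun g z hz => ?_
      simp only [Finset.mem_erase, Set.mem_toFinset] at hz ⊢
      refine ⟨fun e => hz.1 ?_, MulAction.mem_orbit_of_mem_orbit (g : G) hz.2⟩
      have : (g : G) • x = x := g.2
      exact smul_left_cancel (g : G) (e.trans this.symm)
    have heq : (MulAction.orbit G x).toFinset.card = (MulAction.orbit G y).toFinset.card := by
      have h1 := horb x
      have h2 := horb y
      rw [Nat.card_eq_card_toFinset] at h1 h2
      exact Nat.eq_of_mul_eq_mul_right (by omega) (h1.trans h2.symm)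
    rw [Finset.card_erase_of_mem (by simp), heq] at hOx
    have hpos : 0 < (MulAction.orbit G y).toFinset.card := Finset.card_pos.2 ⟨y, by simp⟩
    have ht1 : t = 1 := Nat.dvd_one.1 (by
      have := Nat.dvd_sub hOy hOx
      rwa [show (MulAction.orbit G y).toFinset.card - ((MulAction.orbit G y).toFinset.card - 1) = 1 by omega] at this)
    have hbot : S = ⊥ := by
      rw [Subgroup.eq_bot_iff_forall]
      intro g hg
      apply FaithfulSMul.eq_of_smul_eq_smul (α := α)
      intro z
      rw [one_smul]
      by_cases hz : z = x
      · rw [hz]; exact hg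
      · have h1 : Subsingleton (MulAction.orbit S z) := (Nat.card_eq_one_iff_unique.1 ((ht z hz).trans ht1)).1
        exact congrArg Subtype.val (h1.elim ⟨g • z, ⟨⟨g, hg⟩, rfl⟩⟩ ⟨z, MulAction.mem_orbit_self z⟩)
    have := hst x
    change Nat.card S = l at this
    rw [hbot, Subgroup.card_bot] at this
    omega
  | succ j ih =>
    intro G _ _ α _ _ _ _ l m hl hn hl' hm'
    classical
    have hstep : ∀ a : α, MulAction.IsMultiplyPretransitive (MulAction.stabilizer G a) (SubMulAction.ofStabilizer G a) (j + 1) := by
      intro a
      haveI : Fintype (SubMulAction.ofStabilizer G a) := Fintype.ofFinite _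
      haveI : FaithfulSMul (MulAction.stabilizer G a) (SubMulAction.ofStabilizer G a) := ⟨fun {g h} hgh => by
        apply Subtype.ext
        apply FaithfulSMul.eq_of_smul_eq_smul (α := α)
        intro z
        by_cases hz : z = a
        · rw [hz]; exact g.2.trans h.2.symm
        · exact congrArg Subtype.val (hgh ⟨z, (SubMulAction.mem_ofStabilizer_iff G a).2 hz⟩)⟩
      have hcard : Fintype.card (SubMulAction.ofStabilizer G a) = Fintype.card α - 1 := by
        rw [← Nat.card_eq_fintype_card]
        have : Nat.card (SubMulAction.ofStabilizer G a) = Nat.card {x : α // x ≠ a} :=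
          Nat.card_congr (Equiv.subtypeEquivRight fun x => SubMulAction.mem_ofStabilizer_iff G a)
        rw [this, Nat.card_eq_fintype_card, Fintype.card_subtype_compl, Fintype.card_subtype_eq]
      have key : ∀ (i L : ℕ), (∀ s : Finset α, s.card = i + 1 → Nat.card (fixingSubgroup G (s : Set α)) = L) →
          ∀ s : Finset (SubMulAction.ofStabilizer G a), s.card = i →
          Nat.card (fixingSubgroup (MulAction.stabilizer G a) (s : Set (SubMulAction.ofStabilizer G a))) = L := by
        intro i L hL s hs
        rw [← hL (insert a (s.map ⟨Subtype.val, Subtype.val_injective⟩)) (by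
          rw [Finset.card_insert_of_notMem, Finset.card_map, hs]
          simp only [Finset.mem_map, Function.Embedding.coeFn_mk, not_exists, not_and]
          intro x _ hx
          exact (SubMulAction.mem_ofStabilizer_iff G a).1 x.2 hx)]
        exact Nat.card_congr
          { toFun := fun g => ⟨(g.1 : G), by
              rw [mem_fixingSubgroup_iff]
              intro w hw
              simp only [Finset.coe_insert, Finset.coe_map, Set.mem_insert_iff, Set.mem_image] at hw
              rcases hw with rfl | ⟨u, hu, rfl⟩
              · exact g.1.2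
              · exact congrArg Subtype.val ((mem_fixingSubgroup_iff _).1 g.2 u hu)⟩
            invFun := fun g => ⟨⟨g.1, (mem_fixingSubgroup_iff G).1 g.2 a (by simp)⟩, (mem_fixingSubgroup_iff _).2 fun u hu =>
              Subtype.ext ((mem_fixingSubgroup_iff G).1 g.2 u.1 (by
                simp only [Finset.coe_insert, Finset.coe_map, Set.mem_insert_iff]
                exact Or.inr ⟨u, hu, rfl⟩))⟩
            left_inv := fun g => rfl
            right_inv := fun g => rfl }
      exact ih _ _ hl (by omega) (key _ l (fun s hs => hl' s (by omega))) (key _ m (fun s hs => hm' s (by omega)))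
    haveI htr : MulAction.IsPretransitive G α := by
      constructor
      intro x y
      have : ({x, y} : Finset α) ≠ Finset.univ := by
        intro h
        have := congrArg Finset.card h
        rw [Finset.card_univ] at this
        have := Finset.card_le_two (a := x) (b := y)
        omega
      obtain ⟨c, hc⟩ : ∃ c, c ∉ ({x, y} : Finset α) := by simpa [Finset.eq_univ_iff_forall] using this
      simp only [Finset.mem_insert, Finset.mem_singleton, not_or] at hc
      haveI := hstep c
      haveI h1 : MulAction.IsMultiplyPretransitive (MulAction.stabilizer G c) (SubMulAction.ofStabilizer G c) 1 :=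
        MulAction.isMultiplyPretransitive_of_le (show 1 ≤ j + 1 by omega) (by
          have : Nat.card (SubMulAction.ofStabilizer G c) = Nat.card {x : α // x ≠ c} :=
            Nat.card_congr (Equiv.subtypeEquivRight fun x => SubMulAction.mem_ofStabilizer_iff G c)
          rw [this, Nat.card_eq_fintype_card, Fintype.card_subtype_compl, Fintype.card_subtype_eq]
          omega)
      rw [MulAction.is_one_pretransitive_iff] at h1
      obtain ⟨g, hg⟩ := h1.exists_smul_eq ⟨x, (SubMulAction.mem_ofStabilizer_iff G c).2 (Ne.symm hc.1)⟩
        ⟨y, (SubMulAction.mem_ofStabilizer_iff G c).2 (Ne.symm hc.2)⟩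
      exact ⟨g, congrArg Subtype.val hg⟩
    obtain ⟨a⟩ : Nonempty α := Fintype.card_pos_iff.1 (by omega)
    exact (SubMulAction.ofStabilizer.isMultiplyPretransitive (a := a)).2 (hstep a)


/-- If for some `k > 1` the pointwise stabilisers of all `(k-1)`-subsets have the same order `> 1` and those of all `k`-subsets have the same order, then the group is `(k-1)`-transitive. -/
theorem result {α : Type*} [Fintype α] [DecidableEq α] (G : Subgroup (Equiv.Perm α)) {k : ℕ} (hk : 1 < k) (hkn : k ≤ Fintype.card α) (l m : ℕ) (hl : 1 < l) (hkm1 : ∀ s : Finset α, s.card = k - 1 → Nat.card (fixingSubgroup G (s : Set α)) = l) (hkm : ∀ s : Finset α, s.card = k → Nat.card (fixingSubgroup G (s : Set α)) = m) : MulAction.IsMultiplyPretransitive G α (k - 1) := by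
  classical
  obtain ⟨j, rfl⟩ : ∃ j, k = j + 2 := ⟨k - 2, by omega⟩
  exact const_fix j G α hl hkn (fun s hs => hkm1 s (by omega)) (fun s hs => hkm s hs)

end Cfsg.Agent.S0744
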