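import Cfsg.Statements.S0347
import Cfsg.Agent.H66.ZassSuzukiCtx

set_option autoImplicit false
open Cfsg

namespace Cfsg.Agent.S0347

/-- If in a finite simple Zassenhaus group the stabiliser of a point `x` has a normal `2`-subgroup `U` which is
non-abelian and acts regularly on the points other than `x`, then the group is simple of Suzuki order (order-level
predicate `IsSuzuki`). -/
theorem result {G Ω : Type*} [Group G] [Finite G] [MulAction G Ω] [Finite Ω]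
    (hZ : Cfsg.IsZassenhausGroup G Ω) [IsSimpleGroup G]
    (x : Ω) (U : Subgroup G) (hUle : U ≤ MulAction.stabilizer G x) (hUn : (U.subgroupOf (MulAction.stabilizer G x)).Normal)
    (hU2 : IsPGroup 2 U) (hUna : ∃ u v : U, u * v ≠ v * u)
    (hreg : ∀ y z : Ω, y ≠ x → z ≠ x → ∃! u : U, (u : G) • y = z) :
    Cfsg.IsSuzuki G := by
  obtain ⟨b, hb⟩ : ∃ b : Ω, x ≠ b := by
    obtain ⟨-, -, -, ⟨g, -, p, q, hpq, -, -⟩, -⟩ := hZ
    by_cases h : x = p
    · exact ⟨q, h ▸ hpq⟩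
    · exact ⟨p, h⟩
  obtain ⟨v, -, hC⟩ := H66.ZS.exists_ctx hZ hb hUle
    (fun h hh u hu => by
      have := hUn.conj_mem ⟨u, hUle hu⟩ hu ⟨h, hh⟩
      exact this)
    hreg hU2 (by
      obtain ⟨⟨u, hu⟩, ⟨w, hw⟩, h⟩ := hUna
      exact ⟨u, hu, w, hw, fun h' => h (Subtype.ext h')⟩)
  obtain ⟨n, hodd, hn1, hQ, hq, hD⟩ := H66.ZS.zs_main hC (by
    obtain ⟨⟨u, hu⟩, ⟨w, hw⟩, h⟩ := hUna
    exact ⟨u, hu, w, hw, fun h' => h (Subtype.ext h')⟩)
  obtain ⟨m, rfl⟩ := hodd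
  refine ⟨inferInstance, m, by omega, ?_⟩
  rw [H66.R1.card_group hC.setup, hQ, Nat.eq_sub_of_add_eq hD]
  ring

end Cfsg.Agent.S0347
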