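import Cfsg.Statements.S0682
import Mathlib

set_option autoImplicit false
open Cfsg

namespace Cfsg.Agent.S0682

/-- A finite near-field has prime-power order; its additive group is commutative of prime exponent. -/
theorem result {F : Type*} [Cfsg.NearField F] [Finite F] : ∃ p j : ℕ, p.Prime ∧ 1 ≤ j ∧ Nat.card F = p ^ j ∧ (∀ x y : F, x + y = y + x) ∧ ∀ x : F, p • x = 0 := by
  classical
  have hz : ∀ a : F, (0 : F) * a = 0 := fun a => by
    have h := NearField.right_distrib (0 : F) 0 a
    rw [add_zero] at h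
    exact left_eq_add.mp h
  let μ : F → (F →+ F) := fun a =>
    { toFun := fun x => x * a, map_zero' := hz a, map_add' := fun x y => NearField.right_distrib x y a }
  have hreach : ∀ x y : F, x ≠ 0 → ∃ a, x * a = y := fun x y hx => by
    obtain ⟨x', h1, h2⟩ := NearField.exists_inv x hx
    exact ⟨x' * y, by rw [← mul_assoc, h1, one_mul]⟩
  have h1 : 1 < Nat.card F := Finite.one_lt_card_iff_nontrivial.mpr ⟨⟨0, 1, NearField.zero_ne_one⟩⟩
  set p := (Nat.card F).minFac
  have hp : p.Prime := Nat.minFac_prime (by omega)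
  haveI : Fact p.Prime := ⟨hp⟩
  obtain ⟨x, hx⟩ := exists_prime_addOrderOf_dvd_card' (G := F) p (Nat.minFac_dvd _)
  have hx0 : x ≠ 0 := fun h => by rw [h, addOrderOf_zero] at hx; exact hp.one_lt.ne hx
  have hexp : ∀ y : F, p • y = 0 := fun y => by
    obtain ⟨a, rfl⟩ := hreach x y hx0
    change p • μ a x = 0
    rw [← map_nsmul, ← hx, addOrderOf_nsmul_eq_zero, map_zero]
  have hP : IsPGroup p (Multiplicative F) := fun y => ⟨1, by
    rw [pow_one]
    exact congrArg Multiplicative.ofAdd (hexp y.toAdd)⟩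
  obtain ⟨j, hj⟩ := IsPGroup.iff_card.mp hP
  rw [Nat.card_congr Multiplicative.toAdd] at hj
  refine ⟨p, j, hp, ?_, hj, ?_, hexp⟩
  · rcases Nat.eq_zero_or_pos j with h0 | h0
    · rw [h0, pow_zero] at hj; omega
    · exact h0
  · haveI : Nontrivial F := ⟨⟨0, 1, NearField.zero_ne_one⟩⟩
    obtain ⟨⟨z, hzc⟩, hz1⟩ := @exists_ne _ hP.center_nontrivial (1 : Subgroup.center (Multiplicative F))
    have hz0 : z.toAdd ≠ 0 := fun h => hz1 (Subtype.ext (congrArg Multiplicative.ofAdd h))
    have hcen : ∀ y : F, y + z.toAdd = z.toAdd + y := fun y =>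
      congrArg Multiplicative.toAdd (Subgroup.mem_center_iff.mp hzc (Multiplicative.ofAdd y))
    intro x y
    by_cases hx : x = 0
    · simp [hx]
    obtain ⟨a, ha⟩ := hreach z.toAdd x hz0
    by_cases ha0 : a = 0
    · exact absurd (by rw [← ha, ha0, NearField.mul_zero]) hx
    obtain ⟨a', -, ha'⟩ := NearField.exists_inv a ha0
    have hy : y = (y * a') * a := by rw [mul_assoc, ha', mul_one]
    rw [hy, ← ha, ← NearField.right_distrib, ← NearField.right_distrib, hcen]

end Cfsg.Agent.S0682
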