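import Cfsg.Statements.S3375
import Mathlib

set_option autoImplicit false
open Cfsg
open scoped Pointwise

namespace Cfsg.Agent.S3375

/-- Let γ be an automorphism of order 2 of a finite group H. (i) If γ fixes only the identity, then H is abelian and γ inverts every element. (ii) If γ has exactly two fixed points and H has a subgroup of index 2, then H has a γ-invariant abelian subgroup of index 2 on which γ acts by inversion. -/
theorem result {H : Type*} [Group H] [Finite H] (γ : MulAut H) (hγ : orderOf γ = 2) :
    ((∀ h : H, γ h = h → h = 1) → (∀ a b : H, a * b = b * a) ∧ ∀ h : H, γ h = h⁻¹) ∧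
    ((Nat.card {h : H // γ h = h} = 2 ∧ ∃ M : Subgroup H, M.index = 2) →
      ∃ A : Subgroup H, A.index = 2 ∧ IsMulCommutative A ∧ (∀ a ∈ A, γ a ∈ A) ∧ ∀ a ∈ A, γ a = a⁻¹) := by
  classical
  have hinv : ∀ h, γ (γ h) = h := by
    intro h
    have : γ ^ 2 = 1 := hγ ▸ pow_orderOf_eq_one γ
    rw [sq] at this
    exact congrArg (fun e : MulAut H => e h) this
  refine ⟨fun hfp => ?_, ?_⟩
  · have hF : MonoidHom.FixedPointFree (γ : H →* H) := fun h hh => hfp h hh
    exact ⟨fun a b => hF.commute_all_of_involutive hinv a b, fun h => congrFun (hF.coe_eq_inv_of_involutive hinv) h⟩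
  · rintro ⟨hcard, M, hM⟩
    obtain ⟨A, hA, hAinv⟩ : ∃ A : Subgroup H, A.index = 2 ∧ ∀ a ∈ A, γ a ∈ A := by
      by_cases hMi : ∀ a ∈ M, γ a ∈ M
      · exact ⟨M, hM, hMi⟩
      let A : Subgroup H :=
        { carrier := {h | h ∈ M ↔ γ h ∈ M}
          one_mem' := by simp [map_one]
          mul_mem' := by
            intro a b ha hb
            simp only [Set.mem_setOf_eq, map_mul, Subgroup.mul_mem_iff_of_index_two hM] at *
            rw [ha, hb]
          inv_mem' := by
            intro a ha
            simp only [Set.mem_setOf_eq, map_inv, inv_mem_iff] at *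
            exact ha }
      have hmem : ∀ h, h ∈ A ↔ (h ∈ M ↔ γ h ∈ M) := fun h => Iff.rfl
      push Not at hMi
      obtain ⟨a, ha1, ha2⟩ := hMi
      refine ⟨A, Subgroup.index_eq_two_iff.2 ⟨a, fun b => ?_⟩, fun h hh => ?_⟩
      · simp only [hmem, map_mul, Subgroup.mul_mem_iff_of_index_two hM, Xor]
        tauto
      · rw [hmem, hinv]
        exact ((hmem h).1 hh).symm
    let f : H → H := fun h => h⁻¹ * γ h
    have himg : ∀ h, f h ∈ A := by
      intro h
      show h⁻¹ * γ h ∈ A
      rw [Subgroup.mul_mem_iff_of_index_two hA, inv_mem_iff]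
      exact ⟨hAinv h, fun hh => by simpa [hinv] using hAinv _ hh⟩
    have hfi : ∀ h, γ (f h) = (f h)⁻¹ := by intro h; simp [f, hinv]
    haveI := Fintype.ofFinite H
    have hfib : ∀ y ∈ Finset.univ.image f, (Finset.univ.filter (fun h => f h = y)).card ≤ 2 := by
      intro y hy
      simp only [Finset.mem_image, Finset.mem_univ, true_and] at hy
      obtain ⟨h₀, rfl⟩ := hy
      rw [← hcard, Nat.card_eq_fintype_card, Fintype.card_subtype]
      refine Finset.card_le_card_of_injOn (fun h => h * h₀⁻¹) ?_ ?_
      · intro h hh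
        simp only [Finset.coe_filter, Finset.mem_univ, true_and, Set.mem_setOf_eq] at hh ⊢
        change h⁻¹ * γ h = h₀⁻¹ * γ h₀ at hh
        rw [inv_mul_eq_iff_eq_mul] at hh
        rw [map_mul, map_inv, hh]
        group
      · intro u _ v _ huv
        exact mul_right_cancel huv
    have hle : Fintype.card H ≤ 2 * (Finset.univ.image f).card := by
      rw [← Finset.card_univ]
      exact Finset.card_le_mul_card_image _ 2 hfib
    have hA2 : Nat.card A * 2 = Fintype.card H := by
      rw [← hA, Subgroup.card_mul_index, Nat.card_eq_fintype_card]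
    have hsub : Finset.univ.image f = (Finset.univ.filter (fun h => h ∈ A)) := by
      refine Finset.eq_of_subset_of_card_le (fun y hy => ?_) ?_
      · simp only [Finset.mem_image, Finset.mem_univ, true_and] at hy
        obtain ⟨h, rfl⟩ := hy
        simpa using himg h
      · rw [← Fintype.card_subtype, ← Nat.card_eq_fintype_card]
        change Nat.card A ≤ _
        omega
    have hinvA : ∀ a ∈ A, γ a = a⁻¹ := by
      intro a ha
      have : a ∈ Finset.univ.image f := by rw [hsub]; simpa using ha
      simp only [Finset.mem_image, Finset.mem_univ, true_and] at this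
      obtain ⟨h, rfl⟩ := this
      exact hfi h
    refine ⟨A, hA, ⟨⟨fun a b => Subtype.ext ?_⟩⟩, hAinv, hinvA⟩
    show (a : H) * b = b * a
    have h1 := hinvA _ (A.mul_mem a.2 b.2)
    rw [map_mul, hinvA _ a.2, hinvA _ b.2] at h1
    have := congrArg (·⁻¹) h1
    simpa using this.symm

end Cfsg.Agent.S3375
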