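import Cfsg.Statements.S2763
import Cfsg.Agent.H74.Qd
import Cfsg.Agent.H83.TrivAction
-- import your own Cfsg.Agent.* helpers here

set_option autoImplicit false
open Cfsg

namespace Cfsg.Agent.S2763

/-- In the group Qd(p) (p prime; the natural semidirect product of an elementary abelian group of order p² by SL₂(p)), the normalizer of every nontrivial characteristic subgroup of a Sylow p-subgroup S equals the normalizer of S, which is a proper subgroup; in particular no such characteristic subgroup is normal. -/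
theorem result {p : ℕ} [Fact p.Prime] (S : Sylow p ↥(Cfsg.qd p)) (T : Subgroup ↥(S : Subgroup ↥(Cfsg.qd p))) (hT : T ≠ ⊥) (hTc : T.Characteristic) : Subgroup.normalizer ((T.map (S : Subgroup ↥(Cfsg.qd p)).subtype : Subgroup ↥(Cfsg.qd p)) : Set ↥(Cfsg.qd p)) = Subgroup.normalizer ((S : Subgroup ↥(Cfsg.qd p)) : Set ↥(Cfsg.qd p)) ∧ Subgroup.normalizer ((S : Subgroup ↥(Cfsg.qd p)) : Set ↥(Cfsg.qd p)) ≠ ⊤ := by
  revert S T hT hTc
  change ∀ (S : Sylow p ↥(Cfsg.qdOver (ZMod p))) (T : Subgroup ↥(S : Subgroup ↥(Cfsg.qdOver (ZMod p)))),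
    T ≠ ⊥ → T.Characteristic →
    Subgroup.normalizer ((T.map (S : Subgroup ↥(Cfsg.qdOver (ZMod p))).subtype :
        Subgroup ↥(Cfsg.qdOver (ZMod p))) : Set ↥(Cfsg.qdOver (ZMod p))) =
      Subgroup.normalizer ((S : Subgroup ↥(Cfsg.qdOver (ZMod p))) : Set ↥(Cfsg.qdOver (ZMod p))) ∧
    Subgroup.normalizer ((S : Subgroup ↥(Cfsg.qdOver (ZMod p))) : Set ↥(Cfsg.qdOver (ZMod p))) ≠ ⊤
  intro S T hT hTc
  have hsurj : Function.Surjective (H74.Qd.lin (F := ZMod p)) :=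
    fun A => ⟨H74.Qd.mk A 0, H74.Qd.lin_mk A 0⟩
  set S₀ := (H74.SL2.upper (ZMod p)).comap H74.Qd.lin with hS₀
  have hS₀p : IsPGroup p S₀ := by
    refine IsPGroup.comap_of_ker_isPGroup ?_ _ H74.Qd.isPGroup_ker_lin
    exact IsPGroup.of_card (n := 1) (by rw [H74.SL2.card_upper, Nat.card_zmod, pow_one])
  have hS₀i : ¬ p ∣ S₀.index := by
    rw [hS₀, Subgroup.index_comap_of_surjective _ hsurj]
    exact (H74.SL2.upperSylow (F := ZMod p) p).not_dvd_index
  let P₀ : Sylow p ↥(Cfsg.qdOver (ZMod p)) := hS₀p.toSylow hS₀i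
  obtain ⟨γ, hγ⟩ := MulAction.exists_smul_eq ↥(Cfsg.qdOver (ZMod p)) P₀ S
  have hSγ : (S : Subgroup ↥(Cfsg.qdOver (ZMod p))) = S₀.map (MulAut.conj γ).toMonoidHom := by
    rw [← hγ]; rfl
  have memS₀ : ∀ M, M ∈ S₀ ↔ ∃ x t, H74.Qd.el x t = M := fun M => by
    rw [hS₀, Subgroup.mem_comap, H74.SL2.mem_upper]
    constructor
    · rintro ⟨x, hx⟩; exact ⟨x, H74.Qd.vec M, by rw [H74.Qd.el, hx, H74.Qd.mk_lin_vec]⟩
    · rintro ⟨x, t, rfl⟩; exact ⟨x, (H74.Qd.lin_mk _ _).symm⟩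
  obtain ⟨sw, hsw⟩ : ∃ sw : ↥(Cfsg.qdOver (ZMod p)) → ↥(Cfsg.qdOver (ZMod p)), ∀ M, sw M =
      H74.Qd.el (H74.Qd.vec M 1)
        ![(H74.Qd.lin M : Matrix (Fin 2) (Fin 2) (ZMod p)) 0 1 * H74.Qd.vec M 1 - H74.Qd.vec M 0,
          (H74.Qd.lin M : Matrix (Fin 2) (Fin 2) (ZMod p)) 0 1] := ⟨_, fun _ => rfl⟩
  have sw_el : ∀ x t, sw (H74.Qd.el x t) = H74.Qd.el (t 1) ![x * t 1 - t 0, x] := fun x t => by
    simp [hsw, H74.SL2.coe_uT]
  have sw_sw : ∀ M ∈ S₀, sw (sw M) = M := fun M hM => by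
    obtain ⟨x, t, rfl⟩ := (memS₀ M).mp hM
    rw [sw_el, sw_el]
    refine H74.Qd.ext_lin_vec (by simp) ?_
    funext i
    fin_cases i <;> simp <;> ring
  have sw_mul : ∀ M ∈ S₀, ∀ N ∈ S₀, sw (M * N) = sw M * sw N := fun M hM N hN => by
    obtain ⟨x, s, rfl⟩ := (memS₀ M).mp hM
    obtain ⟨y, t, rfl⟩ := (memS₀ N).mp hN
    rw [H74.Qd.el_mul, sw_el, sw_el, sw_el, H74.Qd.el_mul]
    refine H74.Qd.ext_lin_vec (by simp [add_comm]) ?_
    funext i
    fin_cases i <;> simp <;> ring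
  have sw_mem : ∀ M, sw M ∈ S₀ := fun M => (memS₀ _).mpr ⟨_, _, (hsw M).symm⟩
  let σ : ↥S₀ ≃* ↥S₀ :=
    { toFun := fun M => ⟨sw M, sw_mem _⟩
      invFun := fun M => ⟨sw M, sw_mem _⟩
      left_inv := fun M => Subtype.ext (sw_sw M M.2)
      right_inv := fun M => Subtype.ext (sw_sw M M.2)
      map_mul' := fun M N => Subtype.ext (sw_mul M M.2 N N.2) }
  let e : ↥(S : Subgroup ↥(Cfsg.qdOver (ZMod p))) ≃* ↥S₀ :=
    (MulEquiv.subgroupCongr hSγ).trans
      (S₀.equivMapOfInjective _ (MulAut.conj γ).injective).symm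
  set U := T.map e.toMonoidHom with hU
  have hU1 : U ≠ ⊥ := by rwa [hU, Ne, Subgroup.map_eq_bot_iff_of_injective _ e.injective]
  haveI hUc : U.Characteristic := Subgroup.characteristic_iff_map_eq.mpr fun φ => by
    have h := Subgroup.characteristic_iff_map_eq.mp hTc ((e.trans φ).trans e.symm)
    conv_rhs => rw [hU, ← h]
    rw [hU, Subgroup.map_map, Subgroup.map_map]
    congr 1
    exact MonoidHom.ext fun x => (e.apply_symm_apply _).symm
  have hUσ : ∀ u : ↥S₀, u ∈ U → σ u ∈ U := fun u hu => by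
    have := (Subgroup.characteristic_iff_map_eq.mp hUc σ).le
    exact this ⟨u, hu, rfl⟩
  set V := U.map S₀.subtype with hV
  have hUn : S₀ ≤ Subgroup.normalizer (V : Set ↥(Cfsg.qdOver (ZMod p))) :=
    H83.le_normalizer_map_of_characteristic Subgroup.le_normalizer U
  have hVσ : ∀ M ∈ V, sw M ∈ V := by
    rintro _ ⟨u, hu, rfl⟩; exact ⟨σ u, hUσ u hu, rfl⟩
  have hVS : V ≤ S₀ := Subgroup.map_subtype_le U
  have hcomm : ∀ M ∈ V, ∀ N ∈ S₀, ∀ W, W * (N * M) = M * N → W ∈ V := by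
    intro M hM N hN W hW
    have h1 := mul_mem hM ((Subgroup.mem_normalizer_iff.mp (hUn hN) M⁻¹).mp (inv_mem hM))
    convert h1 using 1
    rw [eq_mul_inv_of_mul_eq hW]
    group
  have htr : ∀ a, H74.Qd.el (0 : ZMod p) ![a, 0] ∈ V := by
    obtain ⟨a, ha, ha0⟩ : ∃ a, H74.Qd.el (0 : ZMod p) ![a, 0] ∈ V ∧ a ≠ 0 := by
      obtain ⟨M, hM, hM1⟩ := (Subgroup.ne_bot_iff_exists_ne_one.mp
        (show V ≠ ⊥ by rwa [hV, Ne, Subgroup.map_eq_bot_iff_of_injective _ S₀.subtype_injective])) |>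
        fun ⟨⟨M, hM⟩, h⟩ => (⟨M, hM, fun h' => h (Subtype.ext h')⟩ : ∃ M ∈ V, M ≠ 1)
      obtain ⟨x, t, rfl⟩ := (memS₀ M).mp (hVS hM)
      rcases ne_or_eq x 0 with hx | rfl
      · refine ⟨x, hcomm _ hM (H74.Qd.el 0 ![0, 1]) ((memS₀ _).mpr ⟨_, _, rfl⟩) _ ?_, hx⟩
        rw [H74.Qd.el_mul, H74.Qd.el_mul, H74.Qd.el_mul]
        refine H74.Qd.ext_lin_vec (by simp) ?_
        funext i
        fin_cases i <;> simp <;> ring
      rcases ne_or_eq (t 1) 0 with ht | ht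
      · refine ⟨-t 1, hcomm _ hM (H74.Qd.el 1 0) ((memS₀ _).mpr ⟨_, _, rfl⟩) _ ?_, neg_ne_zero.mpr ht⟩
        rw [H74.Qd.el_mul, H74.Qd.el_mul, H74.Qd.el_mul]
        refine H74.Qd.ext_lin_vec (by simp) ?_
        funext i
        fin_cases i <;> simp <;> ring
      · have hte : ![t 0, 0] = t := by
          funext i; fin_cases i <;> simp [ht]
        refine ⟨t 0, by rwa [hte], fun h0 => hM1 ?_⟩
        refine H74.Qd.ext_lin_vec ?_ ?_
        · rw [map_one, H74.Qd.lin_mk]; apply Subtype.ext; ext i j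
          fin_cases i <;> fin_cases j <;> simp [H74.SL2.coe_uT]
        · rw [H74.Qd.vec_one, H74.Qd.vec_mk]; funext i; fin_cases i <;> simp [h0, ht]
    intro b
    have hpow : ∀ k : ℕ, H74.Qd.el (0 : ZMod p) ![a, 0] ^ k = H74.Qd.el 0 ![k * a, 0] := by
      intro k
      induction k with
      | zero =>
        refine H74.Qd.ext_lin_vec ?_ ?_
        · rw [pow_zero, map_one, H74.Qd.lin_mk]; apply Subtype.ext; ext i j
          fin_cases i <;> fin_cases j <;> simp [H74.SL2.coe_uT]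
        · rw [pow_zero, H74.Qd.vec_one, H74.Qd.vec_mk]; funext i; fin_cases i <;> simp
      | succ k ih =>
        rw [pow_succ, ih, H74.Qd.el_mul]
        refine H74.Qd.ext_lin_vec (by simp) ?_
        funext i
        fin_cases i <;> simp <;> ring
    have := hpow (b / a).val
    rw [ZMod.natCast_zmod_val, div_mul_cancel₀ b ha0] at this
    exact this ▸ pow_mem ha _
  have hNS₀ : ∀ g, g ∈ Subgroup.normalizer (S₀ : Set ↥(Cfsg.qdOver (ZMod p))) ↔
      (H74.Qd.lin g : Matrix (Fin 2) (Fin 2) (ZMod p)) 1 0 = 0 := fun g => by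
    rw [hS₀, ← Subgroup.comap_normalizer_eq_of_surjective _ hsurj, Subgroup.mem_comap]
    exact H74.SL2.mem_normalizer_upper
  have h₀ : Subgroup.normalizer (V : Set ↥(Cfsg.qdOver (ZMod p))) =
      Subgroup.normalizer (S₀ : Set ↥(Cfsg.qdOver (ZMod p))) := by
    refine le_antisymm (fun g hg => (hNS₀ g).mpr ?_)
      (H83.le_normalizer_map_of_characteristic le_rfl U)
    set A := H74.Qd.lin g with hA
    have h1 : g * H74.Qd.el (0 : ZMod p) ![1, 0] * g⁻¹ =
        H74.Qd.el 0 ![(A : Matrix (Fin 2) (Fin 2) (ZMod p)) 0 0,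
          (A : Matrix (Fin 2) (Fin 2) (ZMod p)) 1 0] := by
      have hu : H74.SL2.uT (0 : ZMod p) = 1 := by
        apply Subtype.ext; ext i j; fin_cases i <;> fin_cases j <;> simp [H74.SL2.coe_uT]
      rw [H74.Qd.el, H74.Qd.el, hu, H74.Qd.conj_translation]
      congr 1
      funext i
      fin_cases i <;> simp [Matrix.mulVec, dotProduct, Fin.sum_univ_two, hA]
    have h2 := hVσ _ ((Subgroup.mem_normalizer_iff.mp hg _).mp (htr 1))
    rw [h1, sw_el] at h2
    have h3 : g * _ * g⁻¹ ∈ V := (Subgroup.mem_normalizer_iff.mp hg _).mp h2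
    have h4 := hVS h3
    rw [hS₀, Subgroup.mem_comap, map_mul, map_mul, map_inv, H74.Qd.lin_mk] at h4
    have h5 := (H74.SL2.mem_upper_iff.mp h4).2.1
    simp [← hA, Matrix.SpecialLinearGroup.coe_mul, Matrix.SpecialLinearGroup.coe_inv, H74.SL2.coe_uT,
      Matrix.mul_apply, Fin.sum_univ_two, Matrix.adjugate_fin_two] at h5
    have hd := A.2
    rw [Matrix.det_fin_two] at hd
    have h6 : (A : Matrix (Fin 2) (Fin 2) (ZMod p)) 1 0 ^ 3 = 0 := by linear_combination -h5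
    exact pow_eq_zero_iff (by norm_num) |>.mp h6
  have hTV : T.map (S : Subgroup ↥(Cfsg.qdOver (ZMod p))).subtype = V.map (MulAut.conj γ).toMonoidHom := by
    rw [hV, hU, Subgroup.map_map, Subgroup.map_map]
    congr 1
    refine MonoidHom.ext fun x => ?_
    change (x : ↥(Cfsg.qdOver (ZMod p))) = (MulAut.conj γ).toMonoidHom ((e x : ↥S₀) : ↥(Cfsg.qdOver (ZMod p)))
    simp only [e, MulEquiv.trans_apply]
    rw [← Subgroup.coe_equivMapOfInjective_apply _ _ (MulAut.conj γ).injective,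
      MulEquiv.apply_symm_apply]
    rfl
  refine ⟨?_, ?_⟩
  · rw [hTV, hSγ, ← Subgroup.map_normalizer_eq_of_bijective _ (MulAut.conj γ).bijective, h₀,
      Subgroup.map_normalizer_eq_of_bijective _ (MulAut.conj γ).bijective]
  · rw [hSγ, ← Subgroup.map_normalizer_eq_of_bijective _ (MulAut.conj γ).bijective]
    intro h
    have h1 : Subgroup.normalizer (S₀ : Set ↥(Cfsg.qdOver (ZMod p))) = ⊤ := by
      rw [← Subgroup.comap_map_eq_self_of_injective (f := (MulAut.conj γ).toMonoidHom)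
        (MulAut.conj γ).injective (Subgroup.normalizer (S₀ : Set ↥(Cfsg.qdOver (ZMod p)))), h,
        Subgroup.comap_top]
    have h2 := (hNS₀ (H74.Qd.mk (H74.SL2.lT 1) 0)).mp (h1 ▸ Subgroup.mem_top _)
    simp [H74.SL2.coe_lT] at h2

end Cfsg.Agent.S2763
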