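import Cfsg.Statements.S0075
import Cfsg.Agent.H5.AbelianHall
-- import your own Cfsg.Agent.* helpers here

set_option autoImplicit false
open Cfsg

namespace Cfsg.Agent.S0075
open scoped commutatorElement

/-- For an abelian Sylow p-subgroup T, its intersection with the subgroup generated by the elements of order prime to p is the commutator of T with its normalizer. -/
theorem result {G : Type*} [Group G] [Finite G] {p : ℕ} [Fact p.Prime] (T : Sylow p G) (hT : IsMulCommutative T) : (T : Subgroup G) ⊓ Cfsg.pResidual p G = ⁅(T : Subgroup G), Subgroup.normalizer (T : Set G)⁆ := by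
  haveI := hT
  refine le_antisymm ?_ ?_
  · intro x hx
    have h1 : x ∈ commutator G ⊓ (T : Subgroup G) := by
      rw [Subgroup.commutator_inf_eq_focalSubgroup,
        ← Subgroup.ker_transferFocal_inf_eq_focalSubgroup]
      exact ⟨H5.pResidual_le_ker _ (T.2.to_quotient _) hx.2, hx.1⟩
    rw [Subgroup.commutator_inf_eq_focalSubgroup] at h1
    exact H5.focalSubgroup_le_of_control (H5.control_of_commutative T) h1
  · refine (Subgroup.commutator_le).mpr fun t ht n hn => ⟨?_, ?_⟩
    · rw [show ⁅t, n⁆ = t * (n * t⁻¹ * n⁻¹) by simp [commutatorElement_def, mul_assoc]]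
      exact Subgroup.mul_mem _ ht
        ((Subgroup.mem_normalizer_iff.mp hn t⁻¹).mp (Subgroup.inv_mem _ ht))
    · obtain ⟨u, v, huv, hu, hv, hu', -⟩ := H5.exists_p_decomposition (p := p) n
      have huN := (Subgroup.zpowers_le.mpr hn) hu'
      have huT : u ∈ (T : Subgroup G) := by
        obtain ⟨k, hk⟩ := hu
        have hpu : IsPGroup p (Subgroup.zpowers u) := by
          intro a
          obtain ⟨a, i, rfl⟩ := a
          refine ⟨k, Subtype.ext ?_⟩
          show (u ^ i) ^ p ^ k = 1
          rw [← zpow_natCast, ← zpow_mul, mul_comm, zpow_mul, zpow_natCast, hk, one_zpow]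
        exact ((hpu.inf_normalizer_sylow T).le ⟨Subgroup.mem_zpowers u, huN⟩).2
      have hvK : v ∈ Cfsg.pResidual p G := H5.mem_pResidual_of_coprime hv
      have htu : t * u = u * t := congrArg Subtype.val
        (hT.is_comm.comm (⟨t, ht⟩ : ↥(T : Subgroup G)) ⟨u, huT⟩)
      have he : ⁅t, n⁆ = u * ((t * v * t⁻¹) * v⁻¹) * u⁻¹ := by
        rw [commutatorElement_def, huv]
        calc t * (u * v) * t⁻¹ * (u * v)⁻¹ = (t * u) * v * t⁻¹ * v⁻¹ * u⁻¹ := by group
          _ = u * ((t * v * t⁻¹) * v⁻¹) * u⁻¹ := by rw [htu]; group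
      rw [he]
      have hN : (Cfsg.pResidual p G).Normal := inferInstance
      exact hN.conj_mem _ (Subgroup.mul_mem _ (hN.conj_mem _ hvK t) (Subgroup.inv_mem _ hvK)) u
end Cfsg.Agent.S0075
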