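import Cfsg.Statements.S1012
import Cfsg.Agent.H62.Intersect
-- import your own Cfsg.Agent.* helpers here

set_option autoImplicit false
open Cfsg

namespace Cfsg.Agent.S1012

/-- A group of order 24 containing no element of order 6 is isomorphic to the symmetric group of degree 4. -/
theorem result {G : Type*} [Group G] [Finite G] (h : Nat.card G = 24) (h6 : ∀ g : G, orderOf g ≠ 6) : Nonempty (G ≃* Equiv.Perm (Fin 4)) := by
  classical
  have hp3 : Fact (Nat.Prime 3) := ⟨by norm_num⟩
  have hp2 : Fact (Nat.Prime 2) := ⟨by norm_num⟩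
  have hc : Nat.card G = 3 ^ 1 * 8 := by rw [h]; norm_num
  obtain ⟨P⟩ := (inferInstance : Nonempty (Sylow 3 G))
  have hP : Nat.card (P : Subgroup G) = 3 := H62.card_sylow_coe hc (by norm_num) P
  obtain ⟨x, hx⟩ := exists_prime_orderOf_dvd_card' (G := (P : Subgroup G)) 3 (dvd_of_eq hP.symm)
  have hx3 : orderOf (x : G) = 3 := by rw [Subgroup.orderOf_coe, hx]
  -- a centralising involution yields an element of order six
  have hno : ∀ s t : G, orderOf s = 3 → orderOf t = 2 → ¬ Commute s t := fun s t hs ht hc => by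
    apply h6 (s * t)
    rw [hc.orderOf_mul_eq_mul_orderOf_of_coprime (by rw [hs, ht]; norm_num), hs, ht]
  have hodd : ¬ 2 ∣ Nat.card (Subgroup.centralizer ((P : Subgroup G) : Set G)) := by
    intro hd
    obtain ⟨c, hc⟩ := exists_prime_orderOf_dvd_card' (G := Subgroup.centralizer ((P : Subgroup G) : Set G)) 2 hd
    refine hno x c hx3 (by rw [Subgroup.orderOf_coe, hc]) ?_
    exact Subgroup.mem_centralizer_iff.1 c.2 x x.2
  have hn3 : Nat.card (Sylow 3 G) = 4 := by
    have hd := H62.card_sylow_dvd (p := 3) hc (by norm_num)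
    have hm : Nat.card (Sylow 3 G) % 3 = 1 := H62.card_sylow_mod
    have hle := Nat.le_of_dvd (by norm_num) hd
    have hne : Nat.card (Sylow 3 G) ≠ 1 := by
      intro h1
      have htop := (H62.card_sylow_eq_one_iff P).1 h1
      have hr := H62.relIndex_centralizer_dvd_prime (p := 3) (P : Subgroup G) hP
      rw [htop, Subgroup.relIndex_top_right] at hr
      have hi := Subgroup.card_mul_index (Subgroup.centralizer ((P : Subgroup G) : Set G))
      have hle2 := Nat.le_of_dvd (by norm_num) hr
      apply hodd
      generalize (Subgroup.centralizer ((P : Subgroup G) : Set G)).index = i at hr hi hle2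
      interval_cases i <;> omega
    generalize Nat.card (Sylow 3 G) = n at hd hm hle hne ⊢
    interval_cases n <;> omega
  set N : Subgroup G := Subgroup.normalizer ((P : Subgroup G) : Set G) with hN
  have hidx : N.index = 4 := by rw [hN]; exact P.card_eq_index_normalizer.symm.trans hn3
  have hNc : Nat.card N = 6 := by
    have := Subgroup.card_mul_index N; rw [hidx, h] at this; omega
  set K := (MulAction.toPermHom G (G ⧸ N)).ker with hK
  have hKN : K ≤ N := by rw [hK, ← Subgroup.normalCore_eq_ker]; exact Subgroup.normalCore_le N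
  have hK3 : ¬ 3 ∣ Nat.card K := by
    intro hd
    obtain ⟨y, hy⟩ := exists_prime_orderOf_dvd_card' (G := K) 3 hd
    have hy3 : orderOf (y : G) = 3 := by rw [Subgroup.orderOf_coe, hy]
    have hz : IsPGroup 3 (Subgroup.zpowers (y : G)) :=
      IsPGroup.of_card (n := 1) (by rw [Nat.card_zpowers, hy3]; rfl)
    have hall : ∀ Q : Sylow 3 G, (Q : Subgroup G) = Subgroup.zpowers (y : G) := by
      intro Q
      obtain ⟨g, rfl⟩ := MulAction.exists_smul_eq G P Q
      have hmem : g⁻¹ * (y : G) * g ∈ N := hKN (by
        have := (inferInstance : K.Normal).conj_mem y y.2 g⁻¹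
        rwa [inv_inv] at this)
      have e1 : (g⁻¹ * (y : G) * g) • P = P := Sylow.smul_eq_iff_mem_normalizer.2 hmem
      rw [mul_smul, mul_smul, inv_smul_eq_iff] at e1
      have e2 : (y : G) ∈ Subgroup.normalizer (((g • P : Sylow 3 G) : Subgroup G) : Set G) :=
        Sylow.smul_eq_iff_mem_normalizer.1 e1
      have hi : Subgroup.zpowers (y : G) ⊓ Subgroup.normalizer (((g • P : Sylow 3 G) : Subgroup G) : Set G)
          = Subgroup.zpowers (y : G) ⊓ ((g • P : Sylow 3 G) : Subgroup G) := hz.inf_normalizer_sylow _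
      rw [inf_eq_left.2 (Subgroup.zpowers_le.2 e2)] at hi
      exact (Subgroup.eq_of_le_of_card_ge (left_eq_inf.1 hi) (by
        rw [H62.card_sylow_eq _ P, hP, Nat.card_zpowers, hy3])).symm
    have : Subsingleton (Sylow 3 G) := ⟨fun Q R => Sylow.ext ((hall Q).trans (hall R).symm)⟩
    rw [Nat.card_of_subsingleton P] at hn3
    omega
  have hKbot : K = ⊥ := by
    have hd : Nat.card K ∣ 6 := hNc ▸ Subgroup.card_dvd_of_le hKN
    have hle := Nat.le_of_dvd (by norm_num) hd
    have h2 : Nat.card K ≠ 2 := by
      intro h2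
      obtain ⟨c, hc⟩ := exists_prime_orderOf_dvd_card' (G := K) 2 (dvd_of_eq h2.symm)
      refine hno x c hx3 (by rw [Subgroup.orderOf_coe, hc]) ?_
      have hmem : (x : G) * c * (x : G)⁻¹ ∈ K := (inferInstance : K.Normal).conj_mem c c.2 x
      have hu : (⟨_, hmem⟩ : K) = c := by
        have huniq := (Nat.card_eq_two_iff' (1 : K)).1 h2
        refine huniq.unique ?_ ?_
        · intro he
          have he' : (x : G) * c * (x : G)⁻¹ = 1 := congrArg Subtype.val he
          rw [conj_eq_one_iff] at he'
          rw [show c = 1 from Subtype.ext he', orderOf_one] at hc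
          omega
        · intro he
          rw [he, orderOf_one] at hc
          omega
      exact mul_inv_eq_iff_eq_mul.1 (congrArg Subtype.val hu)
    rw [← Subgroup.card_eq_one]
    generalize Nat.card K = k at hd hle hK3 h2 ⊢
    interval_cases k <;> omega
  let e : G ⧸ N ≃ Fin 4 := Finite.equivFinOfCardEq hidx
  have hinj : Function.Injective (MulAction.toPermHom G (G ⧸ N)) :=
    (MonoidHom.ker_eq_bot_iff _).1 hKbot
  have hbij : Function.Bijective (MulAction.toPermHom G (G ⧸ N)) :=
    (Nat.bijective_iff_injective_and_card _).2 ⟨hinj, by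
      rw [Nat.card_perm, ← Subgroup.index, hidx, h]; rfl⟩
  exact ⟨(MulEquiv.ofBijective _ hbij).trans e.permCongrHom⟩

end Cfsg.Agent.S1012
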