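import Mathlib
import Cfsg.Prelude.Def_LieExceptional
import Cfsg.Agent.H59.AbKernel.Dichotomy
import Cfsg.Agent.H66.ZassClassify

set_option autoImplicit false

namespace Cfsg.Agent.S0731

theorem result {G Ω : Type*} [Group G] [Finite G] [MulAction G Ω] [Finite Ω] (hZ : Cfsg.IsZassenhausGroup G Ω) (x : Ω) (F : Subgroup G) (hFle : F ≤ MulAction.stabilizer G x) (hFn : (F.subgroupOf (MulAction.stabilizer G x)).Normal) (hFab : IsMulCommutative F) (hreg : ∀ y z : Ω, y ≠ x → z ≠ x → ∃! u : F, (u : G) • y = z) : (MulAction.IsMultiplyPretransitive G Ω 3 ∧ ∀ t : Fin 3 ↪ Ω, MulAction.stabilizer G t = ⊥) ∨ ∃ (K : Type) (_ : Field K) (_ : Fintype K), ringChar K ≠ 2 ∧ Nonempty (G ≃* Matrix.ProjectiveSpecialLinearGroup (Fin 2) K) := by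
  classical
  letI := Fintype.ofFinite Ω
  obtain ⟨b, hxb⟩ : ∃ b : Ω, x ≠ b := by
    obtain ⟨a, c, hac⟩ := H56.zassenhaus_points hZ
    by_cases h : x = a
    · exact ⟨c, h ▸ hac⟩
    · exact ⟨a, h⟩
  rcases H59.AbKernel.abelian_kernel_cases hZ hxb hFle
      (fun g hg u hu => hFn.conj_mem ⟨u, hFle hu⟩ hu ⟨g, hg⟩)
      (fun u hu v hv => congrArg Subtype.val (hFab.is_comm.comm (⟨u, hu⟩ : F) ⟨v, hv⟩)) hreg with
    h | ⟨-, K, i1, i2, hK, -, hiso⟩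
  · exact Or.inl ⟨H66.Feit.three_pretransitive hZ hxb h.symm,
      H59.AbKernel.triple_stab_eq_bot hZ.2.2.1⟩
  · exact Or.inr ⟨K, i1, i2, hK, hiso⟩

end Cfsg.Agent.S0731
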