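import Cfsg.Statements.S0730
import Cfsg.Agent.H59.SharpHalf

set_option autoImplicit false
open Cfsg

namespace Cfsg.Agent.S0730

/-- A sharply triply transitive group of degree `p^f + 1`, `p` an odd prime and `f` odd, is isomorphic to the projective general linear group of degree 2 over the field with `p^f` elements (for even `f` there is a second, twisted, group). -/
theorem result {α : Type*} [Fintype α] [DecidableEq α] {p f : ℕ} (hp : p.Prime) (hp2 : p ≠ 2) (hfo : Odd f) (hα : Fintype.card α = p ^ f + 1) (G : Subgroup (Equiv.Perm α)) (h3 : MulAction.IsMultiplyPretransitive G α 3) (hsharp : ∀ x : Fin 3 ↪ α, MulAction.stabilizer G x = ⊥) : ∃ (F : Type) (_ : Field F) (_ : Fintype F), Fintype.card F = p ^ f ∧ Nonempty (G ≃* Matrix.ProjGenLinGroup (Fin 2) F) := by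
  classical
  have hfix : ∀ g : G, ∀ a b c : α, a ≠ b → a ≠ c → b ≠ c → g • a = a → g • b = b → g • c = c → g = 1 := by
    intro g a b c hab hac hbc ha hb hc
    obtain ⟨e, e0, e1, e2⟩ := H59.triple_exists hab hac hbc
    have : g ∈ MulAction.stabilizer G e := by
      rw [MulAction.mem_stabilizer_iff]
      ext i
      fin_cases i
      · show g • e 0 = e 0; rw [e0]; exact ha
      · show g • e 1 = e 1; rw [e1]; exact hb
      · show g • e 2 = e 2; rw [e2]; exact hc
    rwa [hsharp, Subgroup.mem_bot] at this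
  have hp3 : 3 ≤ p := by have := hp.two_le; omega
  have hq3 : 3 ≤ p ^ f := hp3.trans (Nat.le_self_pow hfo.pos.ne' p)
  have hcard : 3 ≤ Fintype.card α := by omega
  obtain ⟨K, FK, FtK, hK, e⟩ := H59.sharp_three_PGL (G := G) hcard h3 hfix (by
    intro w u hu g h g1 g2 h1 h2
    by_cases h6 : 6 ≤ Fintype.card α
    · exact congrArg Subtype.val
        ((H59.comm_st2_of_odd hp hp2 hfo hα h6 h3 hfix w u hu).is_comm.comm ⟨g, g1, g2⟩ ⟨h, h1, h2⟩)
    · -- degree `4`: the two-point stabiliser has order two
      have hc4 : Fintype.card α = 4 := by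
        have : Odd (p ^ f) := (hp.odd_of_ne_two hp2).pow
        obtain ⟨k, hk⟩ := this
        omega
      haveI : Fact (Nat.Prime 2) := ⟨Nat.prime_two⟩
      have h2' : Nat.card (H59.st2 G w u) = 2 := by
        rw [H59.card_st2 h3 hfix hcard (Ne.symm hu)]; omega
      haveI : IsCyclic (H59.st2 G w u) := isCyclic_of_prime_card h2'
      exact congrArg Subtype.val
        ((IsCyclic.commGroup (α := H59.st2 G w u)).mul_comm ⟨g, g1, g2⟩ ⟨h, h1, h2⟩))
  exact ⟨K, FK, FtK, by omega, e⟩

end Cfsg.Agent.S0730
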