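import Cfsg.Statements.S3116
import Mathlib

set_option autoImplicit false
open Cfsg

namespace Cfsg.Agent.S3116

/-- if the cyclic subgroup of index two is preserved by automorphisms they form a two-group -/
theorem H69_key {X : Type*} [Group X] [Finite X] (x y : X) (n : ℕ) (hn : 1 ≤ n)
    (hx : orderOf x = 2 ^ n) (hcard : Nat.card X = 2 ^ (n + 1)) (hy : y ∉ Subgroup.zpowers x)
    (hout : ∀ g : X, g ∉ Subgroup.zpowers x → orderOf g ≠ 2 ^ n) : IsPGroup 2 (MulAut X) := by
  set C := Subgroup.zpowers x with hC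
  have hcC : Nat.card C = 2 ^ n := by rw [hC, Nat.card_zpowers, hx]
  have hidx : C.index = 2 := by
    have h := C.card_mul_index
    rw [hcC, hcard, pow_succ] at h
    exact Nat.eq_of_mul_eq_mul_left (by positivity) h
  have htop : C ⊔ Subgroup.zpowers y = ⊤ := by
    rw [eq_top_iff]
    intro g _
    by_cases hg : g ∈ C
    · exact Subgroup.mem_sup_left hg
    · have h2 : g * y⁻¹ ∈ C := (Subgroup.mul_mem_iff_of_index_two hidx).mpr
        ⟨fun h => absurd h hg, fun h => absurd ((Subgroup.inv_mem_iff C).mp h) hy⟩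
      simpa using Subgroup.mul_mem _ (Subgroup.mem_sup_left (T := Subgroup.zpowers y) h2)
        (Subgroup.mem_sup_right (Subgroup.mem_zpowers y))
  intro α
  have hmem : ∀ (β : MulAut X), β x ∈ C := fun β => by
    by_contra h
    exact hout _ h (by rw [MulEquiv.orderOf_eq, hx])
  obtain ⟨k, hk⟩ := Subgroup.mem_zpowers_iff.mp (hmem α)
  have hpow : ∀ m : ℕ, (α ^ m) x = x ^ (k ^ m) := by
    intro m
    induction m with
    | zero => simp
    | succ m ih => rw [pow_succ', MulAut.mul_apply, ih, map_zpow, ← hk, ← zpow_mul, pow_succ']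
  have hkodd : ¬ (2 : ℤ) ∣ k := by
    rintro ⟨j, rfl⟩
    have h1 : orderOf (α x) = 2 ^ n := by rw [MulEquiv.orderOf_eq, hx]
    have h2 : α x ^ (2 ^ (n - 1)) = 1 := by
      rw [← hk, ← zpow_natCast, ← zpow_mul, ← orderOf_dvd_iff_zpow_eq_one, hx]
      refine ⟨j, ?_⟩
      push_cast
      rw [show n = n - 1 + 1 by omega, pow_succ, Nat.add_sub_cancel]; ring
    have := orderOf_dvd_of_pow_eq_one h2
    rw [h1, Nat.pow_dvd_pow_iff_le_right (by norm_num)] at this
    omega
  set N := 2 ^ (n - 1)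
  have hβx : (α ^ N) x = x := by
    rw [hpow]
    have hu : IsUnit (k : ZMod (2 ^ n)) := by
      rw [ZMod.coe_int_isUnit_iff_isCoprime, Nat.cast_pow]
      exact IsCoprime.pow_left ((Prime.coprime_iff_not_dvd Int.prime_two).mpr hkodd)
    have h3 : ((k ^ N : ℤ) : ZMod (2 ^ n)) = ((1 : ℤ) : ZMod (2 ^ n)) := by
      have h4 := congrArg Units.val (ZMod.pow_totient hu.unit)
      rw [Nat.totient_prime_pow Nat.prime_two hn] at h4
      simpa [N] using h4
    rw [ZMod.intCast_eq_intCast_iff'] at h3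
    rw [← zpow_mod_orderOf, hx, h3, ← hx, zpow_mod_orderOf, zpow_one]
  set β := α ^ N with hβ
  have hCfix : ∀ c ∈ C, β c = c := by
    intro c hc
    obtain ⟨i, rfl⟩ := Subgroup.mem_zpowers_iff.mp hc
    rw [map_zpow, hβx]
  have hβy : β y ∉ C := by
    intro h
    exact hy (by rwa [← β.injective (hCfix _ h)])
  have hd : β y * y⁻¹ ∈ C := (Subgroup.mul_mem_iff_of_index_two hidx).mpr
    ⟨fun h => absurd h hβy, fun h => absurd ((Subgroup.inv_mem_iff C).mp h) hy⟩
  set d := β y * y⁻¹
  have hiter : ∀ m : ℕ, (β ^ m) y = d ^ m * y ∧ (β ^ m) x = x := by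
    intro m
    induction m with
    | zero => simp
    | succ m ih =>
      refine ⟨?_, by rw [pow_succ', MulAut.mul_apply, ih.2, hβx]⟩
      rw [pow_succ', MulAut.mul_apply, ih.1, map_mul, map_pow, hCfix d hd, pow_succ]
      simp [d, mul_assoc]
  refine ⟨(n - 1) + n, ?_⟩
  rw [pow_add, pow_mul]
  apply MulEquiv.ext
  intro g
  change (β ^ 2 ^ n) g = g
  have hle : C ⊔ Subgroup.zpowers y ≤ (β ^ 2 ^ n).toMonoidHom.eqLocus (MonoidHom.id X) := by
    refine sup_le ?_ ?_ <;> rw [Subgroup.zpowers_le]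
    · exact (hiter _).2
    · show (β ^ 2 ^ n) y = y
      have hd1 : d ^ 2 ^ n = 1 := by
        apply orderOf_dvd_iff_pow_eq_one.mp
        rw [← hcC]; exact Subgroup.orderOf_dvd_natCard C hd
      rw [(hiter _).1, hd1, one_mul]
  exact hle (htop ▸ Subgroup.mem_top g)


/-- The automorphism group of a dihedral 2-group of order at least 8, or of a quasi-dihedral (semidihedral) 2-group of order at least 16, is a 2-group. -/
theorem result {X : Type*} [Group X] [Finite X] (h2 : IsPGroup 2 X)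
    (h : (∃ n : ℕ, 4 ≤ n ∧ Nonempty (X ≃* DihedralGroup n)) ∨ Cfsg.IsQuasiDihedral X) : IsPGroup 2 (MulAut X) := by
  rcases h with ⟨m, hm, ⟨e⟩⟩ | ⟨n, hn, hcard, x, y, hx, hy, hrel⟩
  · haveI : NeZero m := ⟨by omega⟩
    obtain ⟨c, hc⟩ := (IsPGroup.iff_card.mp h2)
    have hc2 : 2 * m = 2 ^ c := by
      rw [← DihedralGroup.nat_card, ← hc, Nat.card_congr e.toEquiv]
    obtain ⟨n, rfl⟩ : ∃ n, c = n + 1 := ⟨c - 1, by
      rcases Nat.eq_zero_or_pos c with rfl | h' <;> [simp at hc2; omega]⟩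
    obtain rfl : m = 2 ^ n := by rw [pow_succ] at hc2; omega
    have hn : 2 ≤ n := by
      by_contra h'
      have : 2 ^ n ≤ 2 ^ 1 := Nat.pow_le_pow_right (by norm_num) (by omega)
      omega
    have hr : orderOf (e.symm (DihedralGroup.r 1)) = 2 ^ n := by
      rw [MulEquiv.orderOf_eq, DihedralGroup.orderOf_r_one]
    have hz : ∀ g : X, g ∉ Subgroup.zpowers (e.symm (DihedralGroup.r 1)) → orderOf g = 2 := by
      intro g hg
      rw [← MulEquiv.orderOf_eq e g]
      cases hdg : e g with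
      | r i =>
        exfalso; apply hg
        refine Subgroup.mem_zpowers_iff.mpr ⟨i.val, ?_⟩
        apply e.injective
        rw [map_zpow, e.apply_symm_apply, hdg]
        simp
      | sr i => exact DihedralGroup.orderOf_sr i
    refine H69_key (e.symm (DihedralGroup.r 1)) (e.symm (DihedralGroup.sr 0)) n (by omega) hr hc ?_ ?_
    · intro h'
      obtain ⟨i, hi⟩ := Subgroup.mem_zpowers_iff.mp h'
      have := congrArg e hi
      rw [map_zpow, e.apply_symm_apply, e.apply_symm_apply] at this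
      simp at this
    · intro g hg
      rw [hz g hg]
      intro h'
      have : 2 ^ 2 ≤ 2 ^ n := Nat.pow_le_pow_right (by norm_num) hn
      omega
  · have hy' : y ∉ Subgroup.zpowers x := by
      intro h'
      obtain ⟨i, hi⟩ := Subgroup.mem_zpowers_iff.mp h'
      have h1 : y * x * y⁻¹ = x := by
        rw [← hi]; group
      rw [h1] at hrel
      have h0 : (0:ℕ) < 2 ^ (n - 1) := by positivity
      have h8 : 2 ^ 2 ≤ 2 ^ (n - 1) := Nat.pow_le_pow_right (by norm_num) (by omega)
      have h9 : 2 ^ n = 2 ^ (n - 1) * 2 := by rw [← pow_succ]; congr 1; omega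
      have := pow_injOn_Iio_orderOf (x := x) (show 1 ∈ Set.Iio (orderOf x) by
          rw [Set.mem_Iio, hx]; omega)
        (show 2 ^ (n - 1) - 1 ∈ Set.Iio (orderOf x) by rw [Set.mem_Iio, hx]; omega)
        (by simpa using hrel)
      omega
    refine H69_key x y n (by omega) hx hcard hy' ?_
    intro g hg hord
    have hidx : (Subgroup.zpowers x).index = 2 := by
      have h := (Subgroup.zpowers x).card_mul_index
      rw [Nat.card_zpowers, hx, hcard, pow_succ] at h
      exact Nat.eq_of_mul_eq_mul_left (by positivity) h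
    have hgy : g * y ∈ Subgroup.zpowers x := (Subgroup.mul_mem_iff_of_index_two hidx).mpr
      ⟨fun h => absurd h hg, fun h => absurd h hy'⟩
    obtain ⟨i, hi⟩ := Subgroup.mem_zpowers_iff.mp hgy
    have hyy : y * y = 1 := by rw [← pow_two, ← hy, pow_orderOf_eq_one]
    have hyinv : y⁻¹ = y := inv_eq_of_mul_eq_one_right hyy
    have hg' : g = x ^ i * y := by rw [hi, mul_assoc, hyy, mul_one]
    have hsq : g ^ 2 = x ^ (i * (2:ℤ) ^ (n - 1)) := by
      have e1 : y * x ^ i * y⁻¹ = (x ^ (2 ^ (n - 1) - 1)) ^ i := by rw [← hrel, conj_zpow]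
      calc g ^ 2 = x ^ i * (y * x ^ i * y⁻¹) := by rw [hg', hyinv, pow_two]; group
        _ = x ^ (i * (2:ℤ) ^ (n - 1)) := by
          rw [e1, ← zpow_natCast, ← zpow_mul, ← zpow_add]
          congr 1
          rw [Nat.cast_sub Nat.one_le_two_pow]
          push_cast; ring
    have h4 : g ^ 4 = 1 := by
      rw [show (4:ℕ) = 2 * 2 from rfl, pow_mul, hsq, ← zpow_natCast, ← zpow_mul,
        ← orderOf_dvd_iff_zpow_eq_one, hx]
      refine ⟨i, ?_⟩
      push_cast
      rw [show (2:ℤ) ^ n = 2 ^ (n - 1) * 2 by rw [← pow_succ]; congr 1; omega]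
      ring
    have hle := Nat.le_of_dvd (by norm_num) (orderOf_dvd_of_pow_eq_one h4)
    rw [hord] at hle
    have : 2 ^ 3 ≤ 2 ^ n := Nat.pow_le_pow_right (by norm_num) hn
    omega

end Cfsg.Agent.S3116
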