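import Cfsg.Statements.S5283
import Cfsg.Agent.H88.SupersolubleChain
import Cfsg.Agent.H88.AutSystem
-- import your own Cfsg.Agent.* helpers here

set_option autoImplicit false
open Cfsg

namespace Cfsg.Agent.S5283

/-- Call a saturated fusion system F over a finite p-group S supersoluble when S has a chain of subgroups 1 = S_0 ≤ S_1 ≤ … ≤ S_m = S, each strongly closed in F, with each S_{i+1} generated by S_i together with one further element (cyclic steps). Then every saturated fusion system over S is supersoluble if and only if S is normal in every saturated fusion system over S (S is resistant) and every subgroup of Aut(S) of order prime to p is abelian of exponent dividing p − 1. -/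
theorem result {Ω : Type*} [Group Ω] {S : Subgroup Ω} [Finite S] (p : ℕ) [Fact p.Prime] (hS : IsPGroup p ↥S) : (∀ F : Cfsg.FusionSystem S, F.IsSaturated p → (∃ (m : ℕ) (c : Fin (m + 1) → Subgroup Ω), c 0 = ⊥ ∧ c (Fin.last m) = S ∧ (∀ i : Fin (m + 1), F.StronglyClosed (c i)) ∧ ∀ i : Fin m, c i.castSucc ≤ c i.succ ∧ ∃ x ∈ S, c i.succ = c i.castSucc ⊔ Subgroup.zpowers x)) ↔ (∀ F : Cfsg.FusionSystem S, F.IsSaturated p → F.IsNormal S) ∧ ∀ H : Subgroup (MulAut ↥S), (Nat.card ↥H).Coprime p → IsMulCommutative ↥H ∧ ∀ h ∈ H, h ^ (p - 1) = 1 := by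
  haveI : Finite (MulAut S) := Finite.of_injective _ DFunLike.coe_injective
  constructor
  · intro h
    refine ⟨fun F hF => ?_, fun H hH => ?_⟩
    · -- resistance
      obtain ⟨m, c, h0, hm, hsc, hst⟩ := h F hF
      have hr : H88.SmallReach F p S :=
        H88.smallReach_of_scReach hS (hm ▸ H88.scReach_of_chain m c h0 hsc hst (Fin.last m))
      have hseries : ∀ D, H88.SmallReach F p D → ∃ (n : ℕ) (C : ℕ → Subgroup Ω), C 0 = ⊥ ∧ C n = D ∧
          (∀ i < n, C i ≤ C (i + 1)) ∧ (∀ i < n, ⁅C (i + 1), S⁆ ≤ C i) ∧
          ∀ i < n, F.WeaklyClosed (C i) := by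
        intro D hD
        induction hD with
        | bot => exact ⟨0, fun _ => ⊥, rfl, rfl, by simp, by simp, by simp⟩
        | @step C₀ D w hC hCsc hDsc hCD hwD hwp hgen ih =>
          obtain ⟨n, C, h0, hn, hmono, hcomm, hwc⟩ := ih
          refine ⟨n + 1, fun i => if i ≤ n then C i else D, ?_, ?_, ?_, ?_, ?_⟩
          · simp [h0]
          · simp
          · intro i hi
            by_cases hin : i + 1 ≤ n
            · simp only [hin, (by omega : i ≤ n), if_true]
              exact hmono i hin
            · obtain rfl : i = n := by omega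
              simp only [le_refl, hin, if_true, if_false, hn]
              exact hCD
          · intro i hi
            by_cases hin : i + 1 ≤ n
            · simp only [hin, (by omega : i ≤ n), if_true]
              exact hcomm i hin
            · obtain rfl : i = n := by omega
              simp only [le_refl, hin, if_true, if_false, hn]
              haveI := H88.subgroupOf_normal_of_sc hCsc
              rw [Subgroup.commutator_le]
              intro d hd g hg
              obtain ⟨a, ha⟩ := H88.exists_exponent hgen hwD (MulAut.conj (⟨g, hg⟩ : S))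
                (fun x hx => H85.conj_mem_of_mem_normalizer (H88.sc_normalizer hCsc hg) hx)
                (fun x hx => H85.conj_mem_of_mem_normalizer (H88.sc_normalizer hDsc hg) hx)
              set π := QuotientGroup.mk' (C₀.subgroupOf S) with hπ
              have hker : ∀ y : S, π y = 1 ↔ (y : Ω) ∈ C₀ := fun y => by
                rw [hπ, QuotientGroup.mk'_apply, QuotientGroup.eq_one_iff, Subgroup.mem_subgroupOf]
              set v : S := ⟨d, hDsc.1 hd⟩ with hv
              have hvp : π v ^ p = 1 := by
                obtain ⟨m, hm⟩ := hgen v hd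
                have h1 : π v = π w ^ m := by
                  refine mul_inv_eq_one.1 ?_
                  rw [← map_zpow, ← map_inv, ← map_mul, hker]
                  simpa using hm
                have h2 : π w ^ p = 1 := by
                  rw [← map_pow, hker]
                  simpa using hwp
                rw [h1, ← zpow_natCast (π w ^ m) p, ← zpow_mul, mul_comm, zpow_mul, zpow_natCast,
                  h2, one_zpow]
              obtain ⟨s, hs⟩ := hS (⟨g, hg⟩ : S)
              have hiter : ∀ k : ℕ, π ((MulAut.conj (⟨g, hg⟩ : S) ^ k) v) = π v ^ (a ^ k) ∧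
                  (((MulAut.conj (⟨g, hg⟩ : S) ^ k) v : S) : Ω) ∈ D := by
                intro k
                induction k with
                | zero => exact ⟨by simp, hd⟩
                | succ k ihk =>
                  rw [pow_succ', MulAut.mul_apply]
                  refine ⟨?_, H85.conj_mem_of_mem_normalizer (H88.sc_normalizer hDsc hg) ihk.2⟩
                  rw [ha _ ihk.2, ihk.1, ← zpow_mul, pow_succ]
              have h3 := (hiter (p ^ s)).1
              rw [← map_pow, hs, map_one, MulAut.one_apply] at h3
              have h4 := H88.zpow_exponent_eq_self hvp h3.symm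
              have h5 := ha v hd
              rw [h4] at h5
              have h7 : π (v * (⟨g, hg⟩ : S) * v⁻¹ * (⟨g, hg⟩ : S)⁻¹) = 1 := by
                rw [MulAut.conj_apply, map_mul, map_mul, map_inv] at h5
                rw [map_mul, map_mul, map_mul, map_inv, map_inv, mul_inv_eq_one,
                  mul_inv_eq_iff_eq_mul]
                exact (mul_inv_eq_iff_eq_mul.1 h5).symm
              exact (hker _).1 h7
          · intro i hi
            simp only [(by omega : i ≤ n), if_true]
            by_cases hin : i < n
            · exact hwc i hin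
            · obtain rfl : i = n := by omega
              rw [hn]
              exact H88.wc_of_sc hCsc
      obtain ⟨n, C, h0, hn, hmono, hcomm, hwc⟩ := hseries S hr
      exact H88.isNormal_of_series hS hF
        ⟨le_rfl, fun R hR φ hφ x => H85.map_mem hφ x⟩ n C h0 hn hmono hcomm hwc
    · -- automorphism groups of order prime to `p`
      let F := H88.autSystem S H
      have hF : F.IsSaturated p := H88.autSystem_saturated hS hH
      obtain ⟨m, c, h0, hm, hsc, hst⟩ := h F hF
      have hr : H88.SmallReach F p S :=
        H88.smallReach_of_scReach hS (hm ▸ H88.scReach_of_chain m c h0 hsc hst (Fin.last m))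
      have hcop : ∀ u ∈ H, (orderOf u).Coprime p := fun u hu => by
        have h1 : orderOf (⟨u, hu⟩ : H) ∣ Nat.card H := orderOf_dvd_natCard _
        rw [Subgroup.orderOf_mk] at h1
        exact Nat.Coprime.coprime_dvd_left h1 hH
      have key : ∀ D, H88.SmallReach F p D →
          (∀ α ∈ H, ∀ β ∈ H, ∀ y : S, (y : Ω) ∈ D → (α * β * α⁻¹ * β⁻¹) y = y) ∧
          (∀ α ∈ H, ∀ y : S, (y : Ω) ∈ D → (α ^ (p - 1)) y = y) := by
        intro D hD
        induction hD with
        | bot =>
          refine ⟨fun α _ β _ y hy => ?_, fun α _ y hy => ?_⟩ <;>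
          · have : y = 1 := Subtype.ext (Subgroup.mem_bot.1 hy)
            rw [this, map_one]
        | @step C₀ D w hC hCsc hDsc hCD hwD hwp hgen ih =>
          haveI := H88.subgroupOf_normal_of_sc hCsc
          have hinvC : ∀ α ∈ H, ∀ x : S, (x : Ω) ∈ C₀ → ((α x : S) : Ω) ∈ C₀ := fun α hα x hx =>
            H88.invariant_of_sc hCsc (H88.mem_autSystem_autGroup hα) x hx
          have hinvD : ∀ α ∈ H, ∀ x : S, (x : Ω) ∈ D → ((α x : S) : Ω) ∈ D := fun α hα x hx =>
            H88.invariant_of_sc hDsc (H88.mem_autSystem_autGroup hα) x hx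
          set π := QuotientGroup.mk' (C₀.subgroupOf S) with hπ
          have hker : ∀ y : S, π y = 1 ↔ (y : Ω) ∈ C₀ := fun y => by
            rw [hπ, QuotientGroup.mk'_apply, QuotientGroup.eq_one_iff, Subgroup.mem_subgroupOf]
          have hexp : ∀ α ∈ H, ∃ a : ℤ, ∀ y : S, (y : Ω) ∈ D → π (α y) = π y ^ a :=
            fun α hα => H88.exists_exponent hgen hwD α (hinvC α hα) (hinvD α hα)
          -- an element of `H` acting trivially on the step is trivial on `D`
          have fix : ∀ u ∈ H, (∀ y : S, (y : Ω) ∈ C₀ → u y = y) →
              (∀ y : S, (y : Ω) ∈ D → π (u y) = π y) → ∀ y : S, (y : Ω) ∈ D → u y = y := by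
            intro u hu hu0 hu1 y hy
            refine H88.fixed_of_iterate_autComm hS u (hcop u hu) 2 y ?_
            have h1 : π (y⁻¹ * u y) = 1 := by rw [map_mul, map_inv, hu1 y hy, inv_mul_cancel]
            show (y⁻¹ * u y)⁻¹ * u (y⁻¹ * u y) = 1
            rw [hu0 _ ((hker _).1 h1), inv_mul_cancel]
          refine ⟨fun α hα β hβ => fix _ ?_ (fun y hy => ih.1 α hα β hβ y hy) fun y hy => ?_,
            fun α hα => fix _ (pow_mem hα _) (fun y hy => ih.2 α hα y hy) fun y hy => ?_⟩
          · exact mul_mem (mul_mem (mul_mem hα hβ) (inv_mem hα)) (inv_mem hβ)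
          · obtain ⟨a, ha⟩ := hexp α hα
            obtain ⟨b, hb⟩ := hexp β hβ
            obtain ⟨a', ha'⟩ := hexp α⁻¹ (inv_mem hα)
            obtain ⟨b', hb'⟩ := hexp β⁻¹ (inv_mem hβ)
            simp only [MulAut.mul_apply]
            have h1 : ((β⁻¹ y : S) : Ω) ∈ D := hinvD _ (inv_mem hβ) y hy
            have h2 : ((α⁻¹ (β⁻¹ y) : S) : Ω) ∈ D := hinvD _ (inv_mem hα) _ h1
            have h3 : ((β (α⁻¹ (β⁻¹ y)) : S) : Ω) ∈ D := hinvD _ hβ _ h2
            rw [ha _ h3, hb _ h2, ha' _ h1, hb' _ hy, ← zpow_mul, ← zpow_mul, ← zpow_mul]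
            have h4 : π y ^ (a' * a) = π y := by
              rw [zpow_mul, ← ha' y hy, ← ha _ (hinvD _ (inv_mem hα) y hy),
                MulAut.apply_inv_self]
            have h5 : π y ^ (b' * b) = π y := by
              rw [zpow_mul, ← hb' y hy, ← hb _ (hinvD _ (inv_mem hβ) y hy),
                MulAut.apply_inv_self]
            rw [show b' * (a' * (b * a)) = (a' * a) * (b' * b) by ring, zpow_mul, h4, h5]
          · obtain ⟨a, ha⟩ := hexp α hα
            have hiter : ∀ k : ℕ, π ((α ^ k) y) = π y ^ (a ^ k) ∧
                (((α ^ k) y : S) : Ω) ∈ D := by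
              intro k
              induction k with
              | zero => exact ⟨by simp, hy⟩
              | succ k ihk =>
                rw [pow_succ', MulAut.mul_apply]
                refine ⟨?_, hinvD α hα _ ihk.2⟩
                rw [ha _ ihk.2, ihk.1, ← zpow_mul, pow_succ]
            rw [(hiter (p - 1)).1]
            obtain ⟨n, hn⟩ := hgen y hy
            have h1 : π y ^ p = 1 := by
              have h2 : π y = π w ^ n := by
                refine mul_inv_eq_one.1 ?_
                rw [← map_zpow, ← map_inv, ← map_mul, hker]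
                simpa using hn
              have h3 : π w ^ p = 1 := by
                rw [← map_pow, hker]
                simpa using hwp
              rw [h2, ← zpow_natCast (π w ^ n) p, ← zpow_mul, mul_comm, zpow_mul, zpow_natCast,
                h3, one_zpow]
            by_cases hpa : (p : ℤ) ∣ a
            · -- then `α y ∈ C`, so `y ∈ C`
              have h2 : π (α y) = 1 := by
                obtain ⟨c, hc⟩ := hpa
                rw [ha y hy, hc, zpow_mul, zpow_natCast, h1, one_zpow]
              have h3 := hinvC α⁻¹ (inv_mem hα) _ ((hker _).1 h2)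
              rw [MulAut.inv_apply_self] at h3
              rw [(hker _).2 h3, one_zpow]
            · have hfix : ((a ^ (p - 1) : ℤ) : ZMod p) = (1 : ℤ) := by
                rw [Int.cast_pow, Int.cast_one]
                exact ZMod.pow_card_sub_one_eq_one
                  (fun hc => hpa ((ZMod.intCast_zmod_eq_zero_iff_dvd a p).1 hc))
              obtain ⟨m, hm⟩ := (ZMod.intCast_eq_intCast_iff_dvd_sub _ _ _).1 hfix
              have : a ^ (p - 1) = 1 + (p : ℤ) * (-m) := by linarith
              rw [this, zpow_add, zpow_one, zpow_mul, zpow_natCast, h1, one_zpow, mul_one]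
      obtain ⟨k1, k2⟩ := key S hr
      refine ⟨⟨⟨fun α β => Subtype.ext ?_⟩⟩, fun α hα => MulEquiv.ext fun y => k2 α hα y y.2⟩
      have : (α : MulAut S) * β * (α : MulAut S)⁻¹ * (β : MulAut S)⁻¹ = 1 :=
        MulEquiv.ext fun y => k1 α α.2 β β.2 y y.2
      exact mul_inv_eq_iff_eq_mul.1 (mul_inv_eq_one.1 this)
  · rintro ⟨hres, hH⟩ F hF
    exact H88.chain_of_scReach (H88.scReach_of_resistant hS hF (hres F hF) hH)

end Cfsg.Agent.S5283
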