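import Cfsg.Statements.S1327
import Cfsg.Agent.CompPComp
import Cfsg.Agent.H11.PConstrained
-- import your own Cfsg.Agent.* helpers here

set_option autoImplicit false
open Cfsg

namespace Cfsg.Agent.S1327

/-- A finite group X is p-constrained if and only if its p-layer L_{p'}(X) is trivial (equivalently X / O_{p'}(X) has trivial layer). -/
theorem result {X : Type*} [Group X] [Finite X] (p : ℕ) [Fact p.Prime] : Cfsg.IsPConstrained p X ↔ Cfsg.pLayer p X = ⊥ := by
  haveI := H1.pPrimeCore_normal' p X
  rw [H11.isPConstrained_iff_core]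
  have hO := Cfsg.Comp.pPrimeCore_quotient_eq_bot (G := X) (p := p)
  set Q := X ⧸ Cfsg.pPrimeCore p X
  -- the Fitting subgroup of the quotient is its p-core
  have hF : Cfsg.fittingSubgroup Q = Cfsg.pCore p Q := by
    refine le_antisymm ?_ (Cfsg.Comp.pCore_le_fitting p)
    rw [Cfsg.Comp.fitting_eq_iSup_pCore]
    refine iSup_le fun q => ?_
    by_cases hq : (q : ℕ) = p
    · rw [hq]
    · haveI := Fact.mk q.2
      refine le_trans ?_ ((le_of_eq hO).trans bot_le)
      refine Cfsg.Comp.le_pPrimeCore inferInstance ?_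
      obtain ⟨n, hn⟩ := (Cfsg.Comp.pCore_isPGroup (G := Q) (q : ℕ)).exists_card_eq
      rw [hn]
      exact Nat.Coprime.pow_left _ ((Nat.coprime_primes q.2 (Fact.out : p.Prime)).2 hq)
  have hlayer : Cfsg.pLayer p X = ⊥ ↔ Cfsg.layer Q = ⊥ := by
    rw [← Cfsg.Comp.map_pLayer (p := p)]
    refine ⟨fun h => by rw [h, Subgroup.map_bot], fun h => sSup_eq_bot.mpr fun K hK => ?_⟩
    exfalso
    refine Cfsg.Comp.isComponent_ne_bot hK.2.1 (le_bot_iff.mp ?_)
    rw [← h]
    exact Subgroup.map_mono (le_sSup hK)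
  rw [hlayer]
  constructor
  · intro h
    refine le_bot_iff.mp (Cfsg.Comp.layer_le_iff.mpr fun L hL => ?_)
    exfalso
    refine Cfsg.Comp.isComponent_not_isSolvable hL ?_
    haveI : Group.IsSolvable ↥(Cfsg.fittingSubgroup Q) := Cfsg.Comp.fitting_isSolvable
    have hle : L ≤ Cfsg.fittingSubgroup Q := by
      rw [hF]
      refine le_trans ?_ h
      rw [← hF]
      exact Subgroup.commutator_eq_bot_iff_le_centralizer.mp
        (Cfsg.Comp.commutator_component_fitting hL)
    exact Group.isSolvable_of_isSolvable_injective (Subgroup.inclusion_injective hle)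
  · intro h
    have := Cfsg.Comp.centralizer_fStar_le (G := Q)
    rw [Cfsg.generalizedFittingSubgroup, h, bot_sup_eq, hF] at this
    exact this

end Cfsg.Agent.S1327
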