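import Cfsg.Statements.S0107
import Cfsg.Agent.H6.Transfer
-- import your own Cfsg.Agent.* helpers here

set_option autoImplicit false
open Cfsg

namespace Cfsg.Agent.S0107

/-- A finite group with no nontrivial 2-group quotient and dihedral Sylow 2-subgroups of order at least 8 has a single class of involutions. -/
theorem result {G : Type*} [Group G] [Finite G] (T : Sylow 2 G) (n : ℕ) (hn : 2 ≤ n) (hT : Nonempty ((T : Subgroup G) ≃* DihedralGroup (2 ^ n))) (hO : Cfsg.pResidual 2 G = ⊤) (x y : G) (hx : orderOf x = 2) (hy : orderOf y = 2) : ∃ g : G, g * x * g⁻¹ = y := by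
  obtain ⟨e⟩ := hT
  haveI : Fact (Nat.Prime 2) := ⟨Nat.prime_two⟩
  haveI : NeZero (2 ^ n) := ⟨by positivity⟩
  let f : DihedralGroup (2 ^ n) →* G := (T : Subgroup G).subtype.comp e.symm.toMonoidHom
  have hf : Function.Injective f := Subtype.val_injective.comp e.symm.injective
  have hrange : f.range = (T : Subgroup G) := by
    rw [MonoidHom.range_comp, MonoidHom.range_eq_top.mpr e.symm.surjective, ← MonoidHom.range_eq_map,
      Subgroup.range_subtype]
  set Q := (Subgroup.zpowers (DihedralGroup.r (1 : ZMod (2 ^ n)))).map f with hQdef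
  have hQT : Q ≤ (T : Subgroup G) := hrange ▸ Subgroup.map_le_range f _
  have hQc : Nat.card Q = 2 ^ n := by
    rw [hQdef, Subgroup.card_map_of_injective hf, Nat.card_zpowers, DihedralGroup.orderOf_r_one]
  have hTc : Nat.card (T : Subgroup G) = 2 * 2 ^ n := by
    rw [Nat.card_congr e.toEquiv, DihedralGroup.nat_card]
  have hrel : Q.relIndex (T : Subgroup G) = 2 := by
    have h := Subgroup.relIndex_mul_relIndex ⊥ Q (T : Subgroup G) bot_le hQT
    rw [Subgroup.relIndex_bot_left, Subgroup.relIndex_bot_left, hQc, hTc, mul_comm 2] at h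
    exact Nat.eq_of_mul_eq_mul_left (by positivity) h
  haveI : IsCyclic Q := by
    rw [hQdef, MonoidHom.map_zpowers]
    infer_instance
  have hinto : ∀ w : G, orderOf w = 2 → ∃ g : G, g * w * g⁻¹ ∈ Q := by
    intro w hw
    rcases H6.thompson_transfer T Q hQT hrel w hw with ⟨M, hMn, hMi, -⟩ | h
    · exact absurd hMi (H6.not_normal_index_of_pResidual_eq_top hO M)
    · exact h
  obtain ⟨a, ha⟩ := hinto x hx
  obtain ⟨b, hb⟩ := hinto y hy
  have horder : ∀ w c : G, orderOf w = 2 → c * w * c⁻¹ ≠ 1 ∧ (c * w * c⁻¹) ^ 2 = 1 := by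
    intro w c hw
    constructor
    · intro h
      rw [conj_eq_one_iff] at h
      rw [h, orderOf_one] at hw
      exact absurd hw (by decide)
    · rw [conj_pow, ← hw, pow_orderOf_eq_one]
      simp
  have heq : a * x * a⁻¹ = b * y * b⁻¹ := by
    classical
    by_contra hne
    obtain ⟨ha1, ha2⟩ := horder x a hx
    obtain ⟨hb1, hb2⟩ := horder y b hy
    haveI : Fintype Q := Fintype.ofFinite _
    have h3 := IsCyclic.card_pow_eq_one_le (α := Q) (n := 2) (by norm_num)
    have hsub : ({1, ⟨_, ha⟩, ⟨_, hb⟩} : Finset Q) ⊆ Finset.univ.filter (fun q : Q => q ^ 2 = 1) := by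
      intro q hq
      simp only [Finset.mem_insert, Finset.mem_singleton] at hq
      rcases hq with rfl | rfl | rfl
      · simp
      · simp only [Finset.mem_filter, Finset.mem_univ, true_and]
        exact Subtype.ext ha2
      · simp only [Finset.mem_filter, Finset.mem_univ, true_and]
        exact Subtype.ext hb2
    have hcard := Finset.card_le_card hsub
    rw [Finset.card_insert_of_notMem, Finset.card_insert_of_notMem, Finset.card_singleton] at hcard
    · omega
    · simpa [Subtype.ext_iff] using hne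
    · simp only [Finset.mem_insert, Finset.mem_singleton, not_or]
      exact ⟨fun h => ha1 (congrArg Subtype.val h).symm, fun h => hb1 (congrArg Subtype.val h).symm⟩
  refine ⟨b⁻¹ * a, ?_⟩
  calc b⁻¹ * a * x * (b⁻¹ * a)⁻¹ = b⁻¹ * (a * x * a⁻¹) * b := by group
    _ = y := by rw [heq]; group

end Cfsg.Agent.S0107
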