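import Cfsg.Statements.S3559
import Cfsg.Agent.H60.BGroup

set_option autoImplicit false
open Cfsg

namespace Cfsg.Agent.S3559

theorem mem_zpowers_of_orderOf_eq {C : Type*} [Group C] [Fintype C] [IsCyclic C] {u v : C}
    (h : orderOf v = orderOf u) : v ∈ Subgroup.zpowers u := by
  classical
  have hsub : (Finset.univ.filter (· ∈ Subgroup.zpowers u)) ⊆
      (Finset.univ.filter fun a : C => a ^ orderOf u = 1) := by
    intro a ha
    simp only [Finset.mem_filter, Finset.mem_univ, true_and] at ha ⊢
    obtain ⟨n, rfl⟩ := Subgroup.mem_zpowers_iff.mp ha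
    rw [← zpow_natCast, ← zpow_mul, mul_comm n, zpow_mul, zpow_natCast, pow_orderOf_eq_one, one_zpow]
  have hc : (Finset.univ.filter fun a : C => a ^ orderOf u = 1).card ≤
      (Finset.univ.filter (· ∈ Subgroup.zpowers u)).card := by
    refine le_trans (IsCyclic.card_pow_eq_one_le (orderOf_pos u)) ?_
    rw [← Nat.card_zpowers, Nat.card_eq_fintype_card, Fintype.card_subtype]
  have heq := Finset.eq_of_subset_of_card_le hsub hc
  have hv : v ∈ Finset.univ.filter fun a : C => a ^ orderOf u = 1 := by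
    simp [← h, pow_orderOf_eq_one]
  rw [← heq] at hv
  simpa using hv

/-- Let G act faithfully and transitively on a finite set whose number of points n ≥ 2 is not a prime power, and suppose G has a cyclic subgroup acting regularly (transitively with trivial point stabilizers). Then G is imprimitive or doubly transitive. -/
theorem result {G Ω : Type*} [Group G] [Finite G] [MulAction G Ω] [FaithfulSMul G Ω] [Finite Ω]
    (htrans : MulAction.IsPretransitive G Ω) (hn : 2 ≤ Nat.card Ω) (hnp : ¬ IsPrimePow (Nat.card Ω))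
    (C : Subgroup G) (hcyc : IsCyclic ↥C) (hC : MulAction.IsPretransitive ↥C Ω ∧ ∀ a : Ω, MulAction.stabilizer ↥C a = ⊥) :
    ¬ MulAction.IsPreprimitive G Ω ∨ MulAction.IsMultiplyPretransitive G Ω 2 := by
  classical
  by_cases hprim : MulAction.IsPreprimitive G Ω
  swap
  · exact Or.inl hprim
  right
  haveI := hprim
  haveI : Nontrivial Ω := Finite.one_lt_card_iff_nontrivial.mp hn
  obtain ⟨a, -⟩ := exists_pair_ne Ω
  obtain ⟨hCt, hCr⟩ := hC
  haveI := hCt
  haveI := hcyc
  haveI : Fintype C := Fintype.ofFinite C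
  have hab : ∀ x y : C, x * y = y * x := fun x y => by
    obtain ⟨g, hg⟩ := IsCyclic.exists_generator (α := C)
    obtain ⟨i, rfl⟩ := Subgroup.mem_zpowers_iff.mp (hg x)
    obtain ⟨j, rfl⟩ := Subgroup.mem_zpowers_iff.mp (hg y)
    exact zpow_mul_comm g i j
  have hb : Function.Bijective fun c : C => c • a := by
    refine ⟨fun x y h => ?_, fun ω => MulAction.exists_smul_eq C a ω⟩
    have h1 : y⁻¹ * x ∈ MulAction.stabilizer C a := by
      rw [MulAction.mem_stabilizer_iff, mul_smul]
      exact inv_smul_eq_iff.mpr h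
    rw [hCr a, Subgroup.mem_bot, inv_mul_eq_one] at h1
    exact h1.symm
  have hcard : Nat.card C = Nat.card Ω := Nat.card_eq_of_bijective _ hb
  -- two primes dividing the degree
  obtain ⟨p, hp, hpd⟩ := Nat.exists_prime_and_dvd (show Nat.card Ω ≠ 1 by omega)
  obtain ⟨q, hq, hqd, hqp⟩ : ∃ q, q.Prime ∧ q ∣ Nat.card Ω ∧ q ≠ p := by
    by_contra h
    push Not at h
    refine hnp ?_
    have h2 := Nat.eq_prime_pow_of_unique_prime_dvd (n := Nat.card Ω) (by omega) fun {d} hd hdd => h d hd hdd
    rw [h2, isPrimePow_nat_iff]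
    refine ⟨p, _, hp, ?_, rfl⟩
    rcases Nat.eq_zero_or_pos (Nat.card Ω).primeFactorsList.length with h0 | h0
    · rw [h0, pow_zero] at h2; omega
    · exact h0
  haveI : Fact p.Prime := ⟨hp⟩
  haveI : Fact q.Prime := ⟨hq⟩
  obtain ⟨z, hz⟩ := exists_prime_orderOf_dvd_card' (G := C) p (hcard ▸ hpd)
  obtain ⟨w, hw⟩ := exists_prime_orderOf_dvd_card' (G := C) q (hcard ▸ hqd)
  -- Schur: invariant sets are unions of cosets away from the subgroup of order `p`
  have key : ∀ (r : ℕ) [Fact r.Prime] (u : C), orderOf u = r → ∀ (T : Set C),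
      H60.SRing.StabInvariant C a T → ∀ x : C, x ^ r ≠ 1 → x ∈ T → u * x ∈ T := by
    intro r _ u hu T hT x hx hxT
    have hU := H60.SRing.invariant_closure hb (H60.SRing.invariant_pow hb hab r hT)
    have hU1 := H60.SRing.eq_bot_or_top hb _ hU
    letI : CommGroup C := { (inferInstance : Group C) with mul_comm := hab }
    have hdvd : r ∣ Nat.card {t : C // t ∈ T ∧ t ^ r = x ^ r} := by
      by_contra hnd
      rcases hU1 with h | h
      · have hm : x ^ r ∈ Subgroup.closure {y : C | ¬ r ∣ Nat.card {t : C // t ∈ T ∧ t ^ r = y}} :=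
          Subgroup.subset_closure hnd
        rw [h, Subgroup.mem_bot] at hm
        exact hx hm
      · have hle : Subgroup.closure {y : C | ¬ r ∣ Nat.card {t : C // t ∈ T ∧ t ^ r = y}} ≤
            (powMonoidHom r : C →* C).range := by
          rw [Subgroup.closure_le]
          intro y hy
          by_contra hny
          apply hy
          haveI : IsEmpty {t : C // t ∈ T ∧ t ^ r = y} := ⟨fun t => hny ⟨t.1, t.2.2⟩⟩
          simp
        rw [h, top_le_iff, MonoidHom.range_eq_top, ← Finite.injective_iff_surjective] at hle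
        have : u = 1 := hle (by show u ^ r = 1 ^ r; rw [← hu, pow_orderOf_eq_one, one_pow])
        rw [this, orderOf_one] at hu
        exact (Fact.out : r.Prime).one_lt.ne hu
    -- the fibre is the coset `x<u>`
    have hker : ∀ t : C, t ^ r = x ^ r → t ∈ (fun n : ℕ => u ^ n * x) '' (Set.univ) := by
      intro t ht
      have h1 : orderOf (t * x⁻¹) ∣ r := orderOf_dvd_of_pow_eq_one (by rw [mul_pow, ht, inv_pow, mul_inv_cancel])
      have h2 : t * x⁻¹ ∈ Subgroup.zpowers u := by
        rcases (Nat.dvd_prime (Fact.out : r.Prime)).mp h1 with h | h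
        · rw [orderOf_eq_one_iff.mp h]; exact one_mem _
        · exact mem_zpowers_of_orderOf_eq (h.trans hu.symm)
      obtain ⟨n, hn⟩ := mem_powers_iff_mem_zpowers.mpr h2
      exact ⟨n, trivial, by show u ^ n * x = t; rw [show u ^ n = t * x⁻¹ from hn]; group⟩
    have hle : Nat.card {t : C // t ^ r = x ^ r} ≤ r := by
      have hsub : {t : C | t ^ r = x ^ r} ⊆ (fun v : C => v * x) '' (Subgroup.zpowers u : Set C) := by
        intro t ht
        obtain ⟨n, -, rfl⟩ := hker t ht
        exact ⟨u ^ n, pow_mem (Subgroup.mem_zpowers u) n, rfl⟩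
      calc Nat.card {t : C // t ^ r = x ^ r} ≤ Nat.card ((fun v : C => v * x) '' (Subgroup.zpowers u : Set C)) :=
            Nat.card_mono (Set.toFinite _) hsub
        _ = r := by rw [Nat.card_image_of_injective (mul_left_injective x), ← hu]; exact Nat.card_zpowers u
    by_contra hux
    have hlt : Nat.card {t : C // t ∈ T ∧ t ^ r = x ^ r} < Nat.card {t : C // t ^ r = x ^ r} := by
      show Nat.card ({t : C | t ∈ T ∧ t ^ r = x ^ r} : Set C) < Nat.card ({t : C | t ^ r = x ^ r} : Set C)
      rw [Nat.card_coe_set_eq, Nat.card_coe_set_eq]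
      refine Set.ncard_lt_ncard ⟨fun t ht => ht.2, fun hsub => hux ?_⟩
      exact (hsub (show (u * x) ^ r = x ^ r by rw [mul_pow, ← hu, pow_orderOf_eq_one, one_mul])).1
    haveI : Nonempty {t : C // t ∈ T ∧ t ^ r = x ^ r} := ⟨⟨x, hxT, rfl⟩⟩
    have := Nat.le_of_dvd Nat.card_pos hdvd
    omega
  -- one orbit off `a`
  have hpow : ∀ (r s : ℕ) (u : C), r.Prime → s.Prime → r ≠ s → orderOf u = r → u ^ s ≠ 1 := by
    intro r s u hr hs hrs hu h
    exact hrs ((Nat.prime_dvd_prime_iff_eq hr hs).mp (hu ▸ orderOf_dvd_of_pow_eq_one h))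
  let O : C → Set C := fun t => {x : C | x • a ∈ MulAction.orbit (MulAction.stabilizer G a) (t • a)}
  have hOT : ∀ t, t ≠ 1 → z * w ∈ O t := by
    intro t ht
    have hTi := H60.SRing.invariant_orbit (G := G) (R := C) (a := a) t
    by_contra hzw
    have h1T : (1 : C) ∉ O t := by
      rintro ⟨⟨h, hh⟩, he⟩
      have he' : h • t • a = a := by simpa using he
      exact ht (hb.1 (show t • a = (1 : C) • a by
        rw [one_smul]; exact smul_left_cancel h (he'.trans hh.symm)))
    -- `T` avoids the nontrivial elements of `<z>` and is a union of cosets of `<z>`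
    have hout : ∀ x ∈ O t, x ^ p ≠ 1 := by
      intro x hx hxp
      have hx1 : x ≠ 1 := fun e => h1T (e ▸ hx)
      have hxo : orderOf x = p := orderOf_eq_prime hxp hx1
      have h3 : w * x ∈ O t := key q w hw _ hTi x (hpow p q x hp hq (Ne.symm hqp) hxo) hx
      -- move inside `w<z>` from `w x` to `z w`
      letI : CommGroup C := { (inferInstance : Group C) with mul_comm := hab }
      have hmove : ∀ n : ℕ, z ^ n * (w * x) ∈ O t := by
        intro n
        induction n with
        | zero => simpa using h3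
        | succ n ih =>
          rw [pow_succ', mul_assoc]
          refine key p z hz _ hTi _ ?_ ih
          rw [mul_pow, mul_pow, hxp, mul_one, ← pow_mul, mul_comm n p, pow_mul, ← hz, pow_orderOf_eq_one,
            one_pow, one_mul, hz]
          exact hpow q p w hq hp hqp hw
      have hxz : x ∈ Subgroup.zpowers z := mem_zpowers_of_orderOf_eq (hxo.trans hz.symm)
      obtain ⟨n, hn⟩ := mem_powers_iff_mem_zpowers.mpr (Subgroup.mul_mem _ (Subgroup.mem_zpowers z) (Subgroup.inv_mem _ hxz))
      apply hzw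
      have h5 := hmove n
      rwa [show z ^ n * (w * x) = z * w by rw [show z ^ n = z * x⁻¹ from hn, mul_comm w x, mul_assoc, inv_mul_cancel_left]] at h5
    have hmove : ∀ (n : ℕ), ∀ x ∈ O t, z ^ n * x ∈ O t := by
      intro n
      induction n with
      | zero => simp
      | succ n ih =>
        intro x hx
        rw [pow_succ', mul_assoc]
        exact key p z hz _ hTi _ (hout _ (ih x hx)) (ih x hx)
    have hz1 := H60.SRing.translate_trivial hb hTi h1T ⟨t, MulAction.mem_orbit_self _⟩ z fun x => by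
      refine ⟨fun hx => ?_, fun hx => pow_one z ▸ hmove 1 x hx⟩
      have h2 := hmove (p - 1) _ hx
      rwa [← mul_assoc, ← pow_succ, Nat.sub_add_cancel hp.one_le, ← hz, pow_orderOf_eq_one, one_mul] at h2
    rw [hz1, orderOf_one] at hz
    exact hp.one_lt.ne hz
  rw [MulAction.is_two_pretransitive_iff]
  intro a1 b1 c1 d1 hne hne'
  obtain ⟨g1, hg1⟩ := MulAction.exists_smul_eq G a1 a
  obtain ⟨g2, hg2⟩ := MulAction.exists_smul_eq G c1 a
  obtain ⟨x, hx⟩ := hb.2 (g1 • b1)
  obtain ⟨y, hy⟩ := hb.2 (g2 • d1)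
  have hx1 : x ≠ 1 := fun e => hne (smul_left_cancel g1 (by rw [hg1]; simpa [e] using hx))
  have hy1 : y ≠ 1 := fun e => hne' (smul_left_cancel g2 (by rw [hg2]; simpa [e] using hy))
  obtain ⟨⟨h1, hh1⟩, he1⟩ := hOT x hx1
  obtain ⟨⟨h2, hh2⟩, he2⟩ := hOT y hy1
  refine ⟨g2⁻¹ * h2⁻¹ * h1 * g1, ?_, ?_⟩
  · rw [mul_smul, mul_smul, mul_smul, hg1, MulAction.mem_stabilizer_iff.mp hh1,
      inv_smul_eq_iff.mpr (MulAction.mem_stabilizer_iff.mp hh2).symm, inv_smul_eq_iff, hg2]
  · have e1 : h1 • g1 • b1 = (z * w) • a := by rw [← hx]; exact he1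
    have e2 : h2 • g2 • d1 = (z * w) • a := by rw [← hy]; exact he2
    rw [mul_smul, mul_smul, mul_smul, e1, ← e2, inv_smul_smul, inv_smul_smul]

end Cfsg.Agent.S3559
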