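import Cfsg.Statements.S3972
import Cfsg.Agent.H34.SchurCyclic

set_option autoImplicit false
open Cfsg
open scoped Pointwise

namespace Cfsg.Agent.S3972

/-- Let `p` be a prime, `m ≥ 2`, and `G` a transitive but not doubly transitive permutation group on `p ^ m` points containing a permutation of order `p ^ m` (necessarily a full cycle). Then `G` is imprimitive, and the normal closure in `G` of the `p ^ (m - 1)`-th power of that permutation is an intransitive normal subgroup. -/
theorem result {Ω : Type*} [Fintype Ω] [DecidableEq Ω] (p m : ℕ) (hp : p.Prime) (hm : 2 ≤ m) (hΩ : Fintype.card Ω = p ^ m) (G : Subgroup (Equiv.Perm Ω)) (htr : MulAction.IsPretransitive G Ω) (h2 : ¬ MulAction.IsMultiplyPretransitive G Ω 2) (g : G) (hg : orderOf g = p ^ m) : ¬ MulAction.IsPreprimitive G Ω ∧ ¬ MulAction.IsPretransitive (Subgroup.normalClosure ({g ^ (p ^ (m - 1))} : Set G)) Ω := by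
  classical
  haveI := Fact.mk hp
  haveI : NeZero (p ^ m) := ⟨pow_ne_zero _ hp.ne_zero⟩
  set g0 : Equiv.Perm Ω := (g : Equiv.Perm Ω) with hg0def
  have hg0 : orderOf g0 = p ^ m := (Subgroup.orderOf_coe g).trans hg
  have hlt : p ^ (m - 1) < p ^ m := Nat.pow_lt_pow_right hp.one_lt (by omega)
  obtain ⟨x0, hx0⟩ : ∃ x, (g0 ^ p ^ (m - 1)) x ≠ x := by
    by_contra h
    push Not at h
    exact pow_ne_one_of_lt_orderOf (pow_ne_zero _ hp.ne_zero) (hg0 ▸ hlt) (Equiv.ext h)
  have hper : MulAction.period g0 x0 = p ^ m := by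
    have hd : MulAction.period g0 x0 ∣ p ^ m := hg0 ▸ MulAction.period_dvd_orderOf g0 x0
    obtain ⟨i, hi, hdi⟩ := (Nat.dvd_prime_pow hp).1 hd
    rcases lt_or_eq_of_le hi with hi' | rfl
    · refine absurd ?_ hx0
      rw [← Equiv.Perm.smul_def, MulAction.pow_smul_eq_iff_period_dvd, hdi]
      exact pow_dvd_pow p (by omega)
    · exact hdi
  have hadd : ∀ a b : ZMod (p ^ m), g0 ^ (a + b).val = g0 ^ a.val * g0 ^ b.val := by
    intro a b
    have := pow_mod_orderOf g0 (a.val + b.val)
    rw [hg0] at this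
    rw [ZMod.val_add, this, pow_add]
  let e0 : ZMod (p ^ m) → Ω := fun k => (g0 ^ k.val) x0
  have he0 : Function.Injective e0 := by
    intro a b hab
    have h1 : (g0 ^ (a - b).val) x0 = x0 := by
      apply (g0 ^ b.val).injective
      show (g0 ^ b.val * g0 ^ (a - b).val) x0 = _
      rw [← hadd, add_sub_cancel]
      exact hab
    rw [← Equiv.Perm.smul_def] at h1
    have h2 := MulAction.pow_smul_eq_iff_period_dvd.1 h1
    rw [hper] at h2
    have h3 : (a - b).val = 0 := Nat.eq_zero_of_dvd_of_lt h2 (ZMod.val_lt _)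
    exact sub_eq_zero.1 ((ZMod.val_eq_zero _).1 h3)
  let e : ZMod (p ^ m) ≃ Ω := Equiv.ofBijective e0
    ((Fintype.bijective_iff_injective_and_card e0).2 ⟨he0, by rw [ZMod.card, hΩ]⟩)
  let C : Equiv.Perm Ω ≃* Equiv.Perm (ZMod (p ^ m)) := e.symm.permCongrHom
  have hC : ∀ σ k, C σ k = e.symm (σ (e k)) := fun σ k => by simp [C, Equiv.permCongrHom]
  let S : Subgroup (Equiv.Perm (ZMod (p ^ m))) := G.map C.toMonoidHom
  have hSC : ∀ γ : G, C γ ∈ S := fun γ => ⟨γ, γ.2, rfl⟩
  have htrans : ∀ t : ZMod (p ^ m), C (g0 ^ t.val) = Equiv.addRight t := by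
    intro t
    ext k : 1
    rw [hC, Equiv.coe_addRight, Equiv.symm_apply_eq]
    show (g0 ^ t.val) ((g0 ^ k.val) x0) = (g0 ^ (k + t).val) x0
    rw [add_comm, hadd]
    rfl
  have hS : ∀ t : ZMod (p ^ m), Equiv.addRight t ∈ S := fun t => by
    rw [← htrans t]
    exact ⟨g0 ^ t.val, pow_mem g.2 _, rfl⟩
  have htwo : ∃ a b : ZMod (p ^ m), a ≠ 0 ∧ b ≠ 0 ∧ b ∉ H34.Schur.orb S a := by
    by_contra hcon
    push Not at hcon
    refine h2 (MulAction.is_two_pretransitive_iff.2 fun {a b c d} hab hcd => ?_)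
    obtain ⟨h, hh, hh0, hhb⟩ := H34.Schur.mem_orb.1
      (hcon (e.symm b - e.symm a) (e.symm d - e.symm c) (sub_ne_zero.2 fun h => hab (e.symm.injective h).symm)
        (sub_ne_zero.2 fun h => hcd (e.symm.injective h).symm))
    obtain ⟨γ, hγ, hγe⟩ := mul_mem (mul_mem (hS (e.symm c)) hh) (hS (- e.symm a))
    have hkey : ∀ z, γ z = e (h (e.symm z - e.symm a) + e.symm c) := by
      intro z
      have hz := Equiv.congr_fun hγe (e.symm z)
      change C γ (e.symm z) = _ at hz
      rw [hC, Equiv.apply_symm_apply] at hz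
      simp only [Equiv.Perm.mul_apply, Equiv.coe_addRight, ← sub_eq_add_neg] at hz
      rw [Equiv.symm_apply_eq] at hz
      exact hz
    refine ⟨⟨γ, hγ⟩, ?_, ?_⟩
    · show γ a = c
      rw [hkey, sub_self, hh0, zero_add, Equiv.apply_symm_apply]
    · show γ b = d
      rw [hkey, hhb, sub_add_cancel, Equiv.apply_symm_apply]
  obtain ⟨H, hH, hHne, hqH⟩ := H34.Schur.exists_block hp hm rfl hS htwo
  have hH' : ∀ (γ : G) x y, y - x ∈ H → C γ y - C γ x ∈ H := fun γ => hH _ (hSC γ)
  constructor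
  · intro hprim
    have hB : MulAction.IsBlock G (e '' (H : Set (ZMod (p ^ m)))) := by
      rw [MulAction.isBlock_iff_smul_eq_or_disjoint]
      intro γ
      by_cases hd : Disjoint (γ • (e '' (H : Set (ZMod (p ^ m))))) (e '' (H : Set (ZMod (p ^ m))))
      · exact Or.inr hd
      left
      obtain ⟨z, hz1, hz2⟩ := Set.not_disjoint_iff.1 hd
      obtain ⟨w, ⟨h1, hh1, rfl⟩, rfl⟩ := hz1
      obtain ⟨h2', hh2, hw⟩ := hz2
      have hsub : ∀ (δ : G) (u v : ZMod (p ^ m)), u ∈ H → v ∈ H → δ • e u = e v →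
          δ • (e '' (H : Set (ZMod (p ^ m)))) ⊆ e '' (H : Set (ZMod (p ^ m))) := by
        rintro δ u v hu hv huv _ ⟨_, ⟨w, hw, rfl⟩, rfl⟩
        refine ⟨C δ w, ?_, ?_⟩
        · have hcu : C δ u = v := by
            rw [hC, Equiv.symm_apply_eq]; exact huv
          have := add_mem (hH' δ u w (sub_mem hw hu)) hv
          rwa [hcu, sub_add_cancel] at this
        · rw [hC, Equiv.apply_symm_apply]; rfl
      refine Set.Subset.antisymm (hsub γ h1 h2' hh1 hh2 hw.symm) ?_
      intro z hz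
      rw [Set.mem_smul_set_iff_inv_smul_mem]
      refine hsub γ⁻¹ h2' h1 hh2 hh1 ?_ (Set.smul_mem_smul_set hz)
      rw [inv_smul_eq_iff]; exact hw
    rcases hprim.isTrivialBlock_of_isBlock hB with h | h
    · have := h (Set.mem_image_of_mem e H.zero_mem) (Set.mem_image_of_mem e hqH)
      have h' := e.injective this
      rw [eq_comm, ZMod.natCast_eq_zero_iff, Nat.pow_dvd_pow_iff_le_right hp.one_lt] at h'
      omega
    · refine hHne (eq_top_iff.2 fun t _ => ?_)
      have ht : e t ∈ e '' (H : Set (ZMod (p ^ m))) := h ▸ Set.mem_univ _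
      obtain ⟨t', ht', he⟩ := ht
      exact e.injective he ▸ ht'
  · intro hK
    let K : Subgroup G :=
      { carrier := {γ : G | ∀ k, C γ k - k ∈ H}
        one_mem' := fun k => by simp
        mul_mem' := fun {γ δ} hγ hδ k => by
          have := add_mem (hγ (C δ k)) (hδ k)
          rw [sub_add_sub_cancel] at this
          rw [Subgroup.coe_mul, map_mul]
          exact this
        inv_mem' := fun {γ} hγ k => by
          have := neg_mem (hγ (C (γ⁻¹ : G) k))
          rw [neg_sub, Subgroup.coe_inv, map_inv, Equiv.Perm.inv_def, Equiv.apply_symm_apply] at this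
          rw [Subgroup.coe_inv, map_inv, Equiv.Perm.inv_def]
          exact this }
    haveI : K.Normal := ⟨fun γ hγ δ k => by
      have := hH' δ _ _ (hγ (C (δ⁻¹ : G) k))
      rw [Subgroup.coe_inv, map_inv, Equiv.Perm.inv_def, Equiv.apply_symm_apply] at this
      rw [Subgroup.coe_mul, Subgroup.coe_mul, Subgroup.coe_inv, map_mul, map_mul, map_inv, Equiv.Perm.inv_def]
      exact this⟩
    have hle : Subgroup.normalClosure ({g ^ (p ^ (m - 1))} : Set G) ≤ K :=
      Subgroup.normalClosure_le_normal (Set.singleton_subset_iff.2 fun k => by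
        have hval : ((p ^ (m - 1) : ℕ) : ZMod (p ^ m)).val = p ^ (m - 1) := ZMod.val_natCast_of_lt hlt
        have := htrans ((p ^ (m - 1) : ℕ) : ZMod (p ^ m))
        rw [hval] at this
        rw [SubgroupClass.coe_pow, ← hg0def, this, Equiv.coe_addRight]
        simpa using hqH)
    obtain ⟨t, ht⟩ : ∃ t, t ∉ H := by
      by_contra hc
      push Not at hc
      exact hHne (eq_top_iff.2 fun t _ => hc t)
    obtain ⟨γ, hγ⟩ := hK.exists_smul_eq (e 0) (e t)
    have := hle γ.2 0
    rw [hC, sub_zero] at this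
    have hγ' : ((γ : G) : Equiv.Perm Ω) (e 0) = e t := hγ
    rw [hγ', Equiv.symm_apply_apply] at this
    exact ht this

end Cfsg.Agent.S3972
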