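import Cfsg.Statements.S5406
import Cfsg.Agent.H56.MonsterCore

set_option autoImplicit false
open Cfsg

namespace Cfsg.Agent.S5406

/-- Let G be a finite group of Monster type at the involution z with Q the extraspecial normal subgroup of order 2^25 of C = C_G(z) (so C/Q is identified with the first Conway group with Q modulo its centre the Leech lattice modulo 2, and z is not weakly closed in Q). Then C acts transitively by conjugation on the conjugates of z that lie in Q and differ from z. -/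
theorem result {G : Type*} [Group G] [Finite G] (z : G) (Q : Subgroup (Subgroup.centralizer ({z} : Set G))) [Q.Normal] (hM : Cfsg.IsOfMonsterType z Q) (s t : G) (hsQ : ∃ hsc : s ∈ Subgroup.centralizer ({z} : Set G), (⟨s, hsc⟩ : Subgroup.centralizer ({z} : Set G)) ∈ Q) (htQ : ∃ htc : t ∈ Subgroup.centralizer ({z} : Set G), (⟨t, htc⟩ : Subgroup.centralizer ({z} : Set G)) ∈ Q) (hs : IsConj z s) (ht : IsConj z t) (hs1 : s ≠ z) (ht1 : t ≠ z) : ∃ h ∈ Subgroup.centralizer ({z} : Set G), h * s * h⁻¹ = t := by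
  obtain ⟨D⟩ := H56M.nonempty_data hM
  obtain ⟨hsc, hsQ⟩ := hsQ
  obtain ⟨htc, htQ⟩ := htQ
  have hs' : s ∈ H56M.QG Q := ⟨_, hsQ, rfl⟩
  have ht' : t ∈ H56M.QG Q := ⟨_, htQ, rfl⟩
  obtain ⟨v, hv, hv64⟩ := D.conj_class hs' hs hs1
  obtain ⟨w, hw, hw64⟩ := D.conj_class ht' ht ht1
  obtain ⟨g, hg⟩ := H56M.exists_to_eight hv64
  obtain ⟨g', hg'⟩ := H56M.exists_to_eight hw64
  refine D.conj_of_same hv hw (fun h0 => ?_) (g := g'⁻¹ * g) (by rw [mul_smul, hg, ← hg', inv_smul_smul])
  rcases D.rep_zero_cases hv h0 with e | e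
  · obtain ⟨a, ha⟩ := isConj_iff.mp hs
    exact D.t_ne_one ha e
  · exact hs1 e

end Cfsg.Agent.S5406
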