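import Cfsg.Statements.S3779
import Cfsg.Agent.H28.AssocLie
import Cfsg.Agent.H1.FPF
import Cfsg.Agent.S0108

set_option autoImplicit false
open Cfsg

namespace Cfsg.Agent.S3779

/-- Let G be a finite group with an automorphism of prime order p fixing only the identity. Then G is nilpotent; if p = 2 then G is abelian, if p = 3 then G has class at most 2, and in general the class of G is at most ξ = 1 + (p−1) + (p−1)² + ⋯ + (p−1)^(n−1) with n = 2^(p−1) − 1 (the Higman–Kreknin–Kostrikin bound). -/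
theorem result {G : Type*} [Group G] [Finite G] {p : ℕ} (hp : p.Prime) (α : MulAut G) (hα : orderOf α = p) (hfpf : ∀ g : G, α g = g → g = 1) : (p = 2 → (⊤ : Subgroup G).lowerCentralSeries 1 = ⊥) ∧ (p = 3 → (⊤ : Subgroup G).lowerCentralSeries 2 = ⊥) ∧ (⊤ : Subgroup G).lowerCentralSeries (Finset.sum (Finset.range (2 ^ (p - 1) - 1)) (fun i => (p - 1) ^ i)) = ⊥ := by
  haveI := Fact.mk hp
  have hα1 : α ^ p = 1 := hα ▸ pow_orderOf_eq_one α
  have hne : α ≠ 1 := fun h => hp.ne_one (by rw [← hα, h, orderOf_one])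
  haveI : Group.IsNilpotent G := H1.nilpotent_of_fpf
    (fun X _ _ q _ hq P h1 h2 => (Cfsg.Agent.S0108.result hq P).mpr ⟨h1, h2⟩) α hp hα1 hfpf
  have hmain := H28.ALie.lowerCentralSeries_eq_bot_of_bound (p := p) α hα1 hne hfpf
    (Finset.sum (Finset.range (2 ^ (p - 1) - 1)) (fun i => (p - 1) ^ i))
    (fun M _ Γ => H28.GLie.C_eq_bot Γ)
  refine ⟨fun h2 => ?_, fun h3 => ?_, hmain⟩
  · subst h2
    simpa using hmain
  · subst h3
    exact H28.ALie.lowerCentralSeries_eq_bot_of_bound (p := 3) α hα1 hne hfpf 2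
      (fun M _ Γ => H28.GLie.C_two_eq_bot Γ)

end Cfsg.Agent.S3779
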