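import Cfsg.Statements.S0072
import Cfsg.Agent.H5.Frobenius
-- import your own Cfsg.Agent.* helpers here

set_option autoImplicit false
open Cfsg

namespace Cfsg.Agent.S0072

/-- A finite group has a normal p-complement if and only if every p-local subgroup (normalizer of a nontrivial p-subgroup) has one. -/
theorem result {G : Type*} [Group G] [Finite G] (p : ℕ) [Fact p.Prime] : Cfsg.HasNormalPComplement p G ↔ ∀ Q : Subgroup G, IsPGroup p Q → Q ≠ ⊥ → Cfsg.HasNormalPComplement p (Subgroup.normalizer (Q : Set G)) := by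
  refine ⟨fun h Q _ _ => H5.hasNormalPComplement_subgroup _ h, fun h => ?_⟩
  obtain ⟨P⟩ := (inferInstance : Nonempty (Sylow p G))
  refine H5.hasNormalPComplement_of_frobenius P fun Q hQ g hg hgo => ?_
  by_cases hb : Q = ⊥
  · subst hb; intro q hq
    simp only [Subgroup.coe_bot, Set.mem_singleton_iff] at hq
    simp [hq]
  have hN := h Q (P.2.to_le hQ) hb
  have hQ' : IsPGroup p (Q.subgroupOf (Subgroup.normalizer (Q : Set G))) :=
    (P.2.to_le hQ).comap_subtype
  have hmem : (⟨g, hg⟩ : Subgroup.normalizer (Q : Set G)) ∈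
      Subgroup.normalizer ((Q.subgroupOf (Subgroup.normalizer (Q : Set G))) :
        Set (Subgroup.normalizer (Q : Set G))) := by
    rw [Subgroup.mem_normalizer_iff]
    intro z
    simp only [Subgroup.mem_subgroupOf, Subgroup.coe_mul, Subgroup.coe_inv]
    exact Subgroup.mem_normalizer_iff.mp hg z
  have := H5.frobenius_of_hasNormalPComplement hN hQ' hmem
    (by rw [Subgroup.orderOf_mk]; exact hgo)
  intro q hq
  exact congrArg Subtype.val (this ⟨q, Subgroup.le_normalizer hq⟩ hq)
end Cfsg.Agent.S0072
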