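import Cfsg.Statements.S5136
import Cfsg.Agent.H86.Basic

set_option autoImplicit false
open Cfsg

namespace Cfsg.Agent.S5136

/-- Let F₁ and F₂ be fusion systems over finite p-groups S₁ and S₂ (inside ambient groups Ω₁ and Ω₂). Then their direct product exists: there is a fusion system over S₁ × S₂ inside Ω₁ × Ω₂ whose maps with source P ≤ S₁ × S₂ are exactly the restrictions to P of the homomorphisms (x₁, x₂) ↦ (φ₁ x₁, φ₂ x₂) with φ₁ a map of F₁ on the first projection of P and φ₂ a map of F₂ on the second projection. -/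
theorem result {Ω₁ Ω₂ : Type*} [Group Ω₁] [Group Ω₂] {S₁ : Subgroup Ω₁} {S₂ : Subgroup Ω₂} [Finite S₁] [Finite S₂] (p : ℕ) [Fact p.Prime] (h₁ : IsPGroup p S₁) (h₂ : IsPGroup p S₂) (F₁ : Cfsg.FusionSystem S₁) (F₂ : Cfsg.FusionSystem S₂) : ∃ E : Cfsg.FusionSystem (S₁.prod S₂), Cfsg.FusionSystem.IsProductSystem F₁ F₂ E := by
  classical
  refine ⟨
    { Hom := fun P => {φ | P ≤ S₁.prod S₂ ∧
        ∃ φ₁ ∈ F₁.Hom (P.map (MonoidHom.fst Ω₁ Ω₂)), ∃ φ₂ ∈ F₂.Hom (P.map (MonoidHom.snd Ω₁ Ω₂)),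
          ∀ (x : P) (h₁ : (x : Ω₁ × Ω₂).1 ∈ P.map (MonoidHom.fst Ω₁ Ω₂))
            (h₂ : (x : Ω₁ × Ω₂).2 ∈ P.map (MonoidHom.snd Ω₁ Ω₂)),
            φ x = (φ₁ ⟨(x : Ω₁ × Ω₂).1, h₁⟩, φ₂ ⟨(x : Ω₁ × Ω₂).2, h₂⟩)}
      le_of_mem := ?_
      injective_of_mem := ?_
      conj_mem := ?_
      comp_mem := ?_
      inv_mem := ?_ }, fun P φ => Iff.rfl⟩
  · rintro P φ ⟨hP, φ₁, h1, φ₂, h2, he⟩
    refine ⟨hP, fun x => ?_⟩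
    rw [he x ⟨_, x.2, rfl⟩ ⟨_, x.2, rfl⟩]
    exact ⟨(F₁.le_of_mem h1).2 _, (F₂.le_of_mem h2).2 _⟩
  · rintro P φ ⟨hP, φ₁, h1, φ₂, h2, he⟩ a b hab
    rw [he a ⟨_, a.2, rfl⟩ ⟨_, a.2, rfl⟩, he b ⟨_, b.2, rfl⟩ ⟨_, b.2, rfl⟩] at hab
    have ha := congrArg Prod.fst hab
    have hb := congrArg Prod.snd hab
    have ha' := Subtype.ext_iff.mp (F₁.injective_of_mem h1 ha)
    have hb' := Subtype.ext_iff.mp (F₂.injective_of_mem h2 hb)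
    exact Subtype.ext (Prod.ext ha' hb')
  · intro P g hP hg
    refine ⟨hP, Cfsg.conjHom _ g.1, F₁.conj_mem ?_ hg.1, Cfsg.conjHom _ g.2, F₂.conj_mem ?_ hg.2,
      fun x h₁ h₂ => rfl⟩
    · rintro _ ⟨x, hx, rfl⟩
      exact (hP hx).1
    · rintro _ ⟨x, hx, rfl⟩
      exact (hP hx).2
  · rintro P Q φ ψ ⟨hP, φ₁, h1, φ₂, h2, he⟩ ⟨hQ, ψ₁, k1, ψ₂, k2, ke⟩ h
    have c1 : ∀ a, φ₁ a ∈ Q.map (MonoidHom.fst Ω₁ Ω₂) := by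
      rintro ⟨_, y, hy, rfl⟩
      refine ⟨φ ⟨y, hy⟩, h _, ?_⟩
      rw [he ⟨y, hy⟩ ⟨y, hy, rfl⟩ ⟨y, hy, rfl⟩]
      rfl
    have c2 : ∀ a, φ₂ a ∈ Q.map (MonoidHom.snd Ω₁ Ω₂) := by
      rintro ⟨_, y, hy, rfl⟩
      refine ⟨φ ⟨y, hy⟩, h _, ?_⟩
      rw [he ⟨y, hy⟩ ⟨y, hy, rfl⟩ ⟨y, hy, rfl⟩]
      rfl
    refine ⟨hP, _, F₁.comp_mem h1 k1 c1, _, F₂.comp_mem h2 k2 c2, fun x h₁ h₂ => ?_⟩
    show ψ ⟨φ x, h x⟩ = (ψ₁ ⟨φ₁ ⟨(x : Ω₁ × Ω₂).1, h₁⟩, c1 _⟩, ψ₂ ⟨φ₂ ⟨(x : Ω₁ × Ω₂).2, h₂⟩, c2 _⟩)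
    have hx := he x h₁ h₂
    rw [ke ⟨φ x, h x⟩ ⟨_, h x, rfl⟩ ⟨_, h x, rfl⟩]
    congr 2
    · exact Subtype.ext (congrArg Prod.fst hx)
    · exact Subtype.ext (congrArg Prod.snd hx)
  · rintro P φ ⟨hP, φ₁, h1, φ₂, h2, he⟩
    obtain ⟨ψ₁, k1, ke1⟩ := F₁.inv_mem h1
    obtain ⟨ψ₂, k2, ke2⟩ := F₂.inv_mem h2
    have r1 : φ.range.map (MonoidHom.fst Ω₁ Ω₂) ≤ φ₁.range := by
      rintro _ ⟨_, ⟨x, rfl⟩, rfl⟩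
      rw [he x ⟨_, x.2, rfl⟩ ⟨_, x.2, rfl⟩]
      exact ⟨_, rfl⟩
    have r2 : φ.range.map (MonoidHom.snd Ω₁ Ω₂) ≤ φ₂.range := by
      rintro _ ⟨_, ⟨x, rfl⟩, rfl⟩
      rw [he x ⟨_, x.2, rfl⟩ ⟨_, x.2, rfl⟩]
      exact ⟨_, rfl⟩
    let χ : φ.range →* Ω₁ × Ω₂ :=
      ((ψ₁.comp (Subgroup.inclusion r1)).comp
        (((MonoidHom.fst Ω₁ Ω₂).comp φ.range.subtype).codRestrict _
          (fun y => ⟨_, y.2, rfl⟩))).prod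
      ((ψ₂.comp (Subgroup.inclusion r2)).comp
        (((MonoidHom.snd Ω₁ Ω₂).comp φ.range.subtype).codRestrict _
          (fun y => ⟨_, y.2, rfl⟩)))
    refine ⟨χ, ⟨?_, _, H86.restrict_mem F₁ r1 k1, _, H86.restrict_mem F₂ r2 k2, fun y h₁ h₂ => rfl⟩,
      fun x => ?_⟩
    · rintro _ ⟨x, rfl⟩
      rw [he x ⟨_, x.2, rfl⟩ ⟨_, x.2, rfl⟩]
      exact ⟨(F₁.le_of_mem h1).2 _, (F₂.le_of_mem h2).2 _⟩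
    · have hx := he x ⟨_, x.2, rfl⟩ ⟨_, x.2, rfl⟩
      refine Prod.ext ?_ ?_
      · show ψ₁ _ = _
        refine Eq.trans ?_ (ke1 ⟨(x : Ω₁ × Ω₂).1, ⟨_, x.2, rfl⟩⟩)
        congr 1
        exact Subtype.ext (congrArg Prod.fst hx)
      · show ψ₂ _ = _
        refine Eq.trans ?_ (ke2 ⟨(x : Ω₁ × Ω₂).2, ⟨_, x.2, rfl⟩⟩)
        congr 1
        exact Subtype.ext (congrArg Prod.snd hx)

end Cfsg.Agent.S5136
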