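import Cfsg.Statements.S5193
import Cfsg.Agent.H89.CentralEltTwo

set_option autoImplicit false
open Cfsg

namespace Cfsg.Agent.S5193

/-- Glauberman's Theorem for fusion systems. Let F be a saturated fusion system over a finite p-group S, let J(S) be the subgroup generated by the abelian subgroups of S of largest order, and let N be the normalizer fusion system of J(S) in F (a fusion system over N_S(J(S)) = S). Then every p-th power of an element of Z(S) that lies in the centre of N lies in the centre of F; and if p is odd, or if the symmetric group of degree 4 is not involved in any model of the normalizer system of a fully normalized F-centric subgroup (F is S₄-free), then the centre of N equals the centre of F. -/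
theorem result {Ω : Type*} [Group Ω] {S : Subgroup Ω} [Finite S] (p : ℕ) [Fact p.Prime] (hS : IsPGroup p S) (F : Cfsg.FusionSystem S) (hF : F.IsSaturated p) (N : Cfsg.FusionSystem (Cfsg.FusionSystem.normalizerIn S (Cfsg.thompsonSubgroupAOf S))) (hN : F.IsNormalizerSystem (Cfsg.thompsonSubgroupAOf S) N) : Subgroup.closure ((fun z : Ω => z ^ p) '' ((S ⊓ Subgroup.centralizer (S : Set Ω) : Subgroup Ω) : Set Ω)) ⊓ N.center ≤ F.center ∧ (p ≠ 2 ∨ F.IsSectionFree p (Equiv.Perm (Fin 4)) → N.center = F.center) := by
  have hT : Cfsg.FusionSystem.normalizerIn S (Cfsg.thompsonSubgroupAOf S) = S :=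
    H89.normalizerIn_char fun e => H74.JA.map_thompsonSubgroupA e
  haveI : Finite (Cfsg.FusionSystem.normalizerIn S (Cfsg.thompsonSubgroupAOf S)) :=
    H85.finite_of_le (H85.normalizerIn_le _)
  refine ⟨?_, fun h => ?_⟩
  · rintro x ⟨hx, hxN⟩
    obtain ⟨z, hz, rfl⟩ := H89.pow_mem_closure_image hx
    exact H89.mem_center_of_thompson hS hF (dvd_mul_left p _) hN hz hxN
  refine le_antisymm (fun z hz => ?_)
    (H89.center_le_normalizer_center hN (Subgroup.map_subtype_le _))
  have hzS : z ∈ (S ⊓ Subgroup.centralizer (S : Set Ω) : Subgroup Ω) :=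
    ⟨H85.normalizerIn_le _ (H89.center_le N hz), Subgroup.mem_centralizer_iff.2 fun g hg =>
      Subgroup.mem_centralizer_iff.1 (N.center_le_centralizer hz) g (hT.ge hg)⟩
  by_cases hp : p = 2
  · subst hp
    exact H89.mem_center_of_thompson_two hS hF (h.resolve_left (by simp)) hN hzS hz
  · have he : p ∣ p.choose 2 * 1 := by
      rw [mul_one]
      exact (Fact.out : p.Prime).dvd_choose_self two_ne_zero
        (lt_of_le_of_ne (Fact.out : p.Prime).two_le (Ne.symm hp))
    have := H89.mem_center_of_thompson hS hF he hN hzS (by rwa [pow_one])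
    rwa [pow_one] at this

end Cfsg.Agent.S5193
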