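import Cfsg.Statements.S5293
import Cfsg.Agent.H86.CentralizerSystemE
import Cfsg.Agent.H85.Focal

set_option autoImplicit false
open Cfsg

namespace Cfsg.Agent.S5293

/-- Let F be a saturated fusion system over a finite p-group S, E a normal subsystem of F over T ≤ S, and C the join of the subgroups X ≤ C_S(T) such that E is contained in the centralizer system C_F(X). Then for the centralizer fusion system C_F(T) over C_S(T), the focal subgroup of C_F(T) is contained in C. -/
theorem result {Ω : Type*} [Group Ω] {S : Subgroup Ω} [Finite S] (p : ℕ) [Fact p.Prime] (hS : IsPGroup p S)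
    (F : Cfsg.FusionSystem S) (hF : F.IsSaturated p)
    {T : Subgroup Ω} (E : Cfsg.FusionSystem T) (hE : E.IsNormalIn F p)
    (C : Subgroup Ω)
    (hC : C = sSup {X : Subgroup Ω | X ≤ Cfsg.FusionSystem.centralizerIn S T ∧ ∀ P : Subgroup Ω, E.Hom P ⊆ F.centralizerHom X P})
    (D : Cfsg.FusionSystem (Cfsg.FusionSystem.centralizerIn S T)) (hD : F.IsCentralizerSystem T D) :
    D.focalSubgroup ≤ C := by
  have hTS := hE.1.2.2.2.1.1
  have hD' : D = H85.centralizerSystem F T hTS := H85.fusionSystem_ext fun P => hD P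
  subst hD'
  set W := Cfsg.FusionSystem.centralizerIn S T with hW
  have : Finite W := H85.finite_of_le inf_le_left
  have hCS : (H85.centralizerSystem F T hTS).IsSaturated p :=
    H85.isSaturated_centralizerSystem hS hF (H85.fullyCentralized_of_fullyNormalized hS hF
      (H86.fullyNormalized_stronglyClosed hE.1.2.2.2.1)) _ (H85.centralizerSystem_spec F T hTS)
  rw [H85.focalSubgroup_eq (hS.to_le (show W ≤ S from inf_le_left)) hCS, hC]
  refine le_trans ?_ (le_sSup ⟨H86.centE_le, H86.cent_centE hS hE⟩)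
  refine sup_le (H86.hyperfocal_centralizer_le hS hE) (Subgroup.commutator_le.2 fun v hv w hw => ?_)
  have ha : H85.conjAut W W ⟨w, hw, Subgroup.le_normalizer hw⟩ ∈
      (H85.centralizerSystem F T hTS).autGroup W :=
    H85.autInducedBy_le_autGroup _ le_rfl (H85.mem_autInducedBy.2 ⟨w, hw, fun _ => rfl⟩)
  have h := H86.displace_mem_centE hS hE (le_refl W) ha (⟨v⁻¹, inv_mem hv⟩ : W)
  have h2 : v * w * v⁻¹ * w⁻¹ = v⁻¹⁻¹ * (w * v⁻¹ * w⁻¹) := by
    group
  show v * w * v⁻¹ * w⁻¹ ∈ _
  rw [h2]
  exact h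

end Cfsg.Agent.S5293
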