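import Cfsg.Statements.S5243
import Cfsg.Agent.H5.SubsystemLevel

set_option autoImplicit false
set_option linter.style.haveILetI false
set_option linter.unusedSectionVars false
open Cfsg

namespace Cfsg.Agent.S5243

open Cfsg.FusionSystem H5.SubLevel

variable {Ω : Type*} [Group Ω] {S T : Subgroup Ω} {p : ℕ} {F : FusionSystem S}
  {E : FusionSystem T} {Δ : Type*} [Group Δ] {χ : F.autGroup T →* Δ}
  {L : ∀ P : Subgroup Ω, (P →* Ω) → Δ}

variable [Finite S] [Fact p.Prime]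

/-- Every subgroup is inside the range of a total level function. -/
theorem hn (P : Subgroup Ω) : Nat.card S - Nat.card P < Nat.card S + 1 :=
  Nat.lt_succ_of_le (Nat.sub_le _ _)

theorem centric_inf_top (D : Data p F E χ) : E.IsCentric (S ⊓ T) := by
  haveI : Finite T := H85.finite_of_le D.sc.1
  rw [inf_eq_right.2 D.sc.1]
  exact H85.centric_top E

theorem dmap_mem {ε : MulAut S} (hε : ε ∈ F.autGroup S) : H86.dmap ε ∈ F.Hom S :=
  (H85.mem_autGroup le_rfl).1 hε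

theorem level_mul (A : LAx F E χ (Nat.card S + 1) L) {ε ε' : MulAut S} (hε : ε ∈ F.autGroup S)
    (hε' : ε' ∈ F.autGroup S) :
    L S (H86.dmap (ε' * ε)) = L S (H86.dmap ε') * L S (H86.dmap ε) :=
  A.comp' (φ := H86.dmap ε) (dmap_mem hε) (dmap_mem hε') (H85.centric_top F) (hn S)
    (fun x => (ε x).2) fun _ => rfl

theorem level_one (D : Data p F E χ) (A : LAx F E χ (Nat.card S + 1) L) :
    L S (H86.dmap (1 : MulAut S)) = 1 := by
  rw [show H86.dmap (1 : MulAut S) = S.subtype from MonoidHom.ext fun _ => rfl]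
  exact A.id_one D (H85.centric_top F) (hn S)

theorem level_inv (D : Data p F E χ) (A : LAx F E χ (Nat.card S + 1) L) {ε : MulAut S}
    (hε : ε ∈ F.autGroup S) : L S (H86.dmap ε⁻¹) = (L S (H86.dmap ε))⁻¹ := by
  refine eq_inv_of_mul_eq_one_left ?_
  rw [← level_mul A hε (inv_mem hε), inv_mul_cancel, level_one D A]

/-- The level of an automorphism of `S` is the value of `χ` at its restriction. -/
theorem level_res (D : Data p F E χ) (A : LAx F E χ (Nat.card S + 1) L) {ε : MulAut S}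
    (hε : ε ∈ F.autGroup S) {β : F.autGroup T}
    (h : ∀ t : T, (((β : MulAut T) t : T) : Ω) = ((ε ⟨(t : Ω), D.sc.1 t.2⟩ : S) : Ω)) :
    L S (H86.dmap ε) = χ β :=
  D.gv_unique (dmap_mem hε) (centric_inf_top D)
    (A.good S _ (dmap_mem hε) (H85.centric_top F) (hn S) (centric_inf_top D))
    ⟨β, rfl, (S ⊓ T : Subgroup Ω).subtype, H85.id_mem E inf_le_right,
      fun x hx => (h ⟨(x : Ω), hx⟩).symm⟩

theorem exists_res (D : Data p F E χ) {ε : MulAut S} (hε : ε ∈ F.autGroup S) :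
    ∃ β : F.autGroup T, ∀ t : T,
      (((β : MulAut T) t : T) : Ω) = ((ε ⟨(t : Ω), D.sc.1 t.2⟩ : S) : Ω) := by
  have hTS := D.sc.1
  haveI : Finite T := H85.finite_of_le hTS
  have hφ := H85.restrict (dmap_mem hε) hTS
  let e := H85.isoOf _ hφ ((H88.wc_of_sc D.sc).2 _ hφ)
  exact ⟨⟨e, (H85.mem_autGroup hTS).2 (H85.isFIso_isoOf _ hφ _)⟩, fun t => rfl⟩

/-- The maps of level one on the centric subgroups. -/
def levelSys (D : Data p F E χ) (A : LAx F E χ (Nat.card S + 1) L) : FusionSystem S where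
  Hom P := {φ | φ ∈ F.Hom P ∧ (F.IsCentric P → L P φ = 1)}
  le_of_mem h := F.le_of_mem h.1
  injective_of_mem h := F.injective_of_mem h.1
  conj_mem hP hg := ⟨F.conj_mem hP hg, fun hc => A.conj_one D hc (hn _) hg⟩
  comp_mem := by
    rintro P Q φ ψ ⟨hφ, h1⟩ ⟨hψ, h2⟩ h
    refine ⟨F.comp_mem hφ hψ h, fun hc => ?_⟩
    have hQc : F.IsCentric Q := H85.centric_mono (H85.centric_of_isConj hc ⟨φ, hφ, rfl⟩)
      (by rintro _ ⟨x, rfl⟩; exact h x) (H85.source_le hψ)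
    rw [A.comp' hφ hψ hc (hn P) h fun x => rfl, h1 hc, h2 hQc, mul_one]
  inv_mem := by
    rintro P φ ⟨hφ, h1⟩
    obtain ⟨ψ, hψ, he⟩ := F.inv_mem hφ
    refine ⟨ψ, ⟨hψ, fun hc => ?_⟩, he⟩
    have hPc : F.IsCentric P := H85.centric_of_isConj hc (H85.isConj_symm ⟨φ, hφ, rfl⟩)
    have h := A.comp P φ P.subtype ψ hφ hψ hPc (hn P) fun x => (he x).symm
    rwa [A.id_one D hPc (hn P), h1 hPc, mul_one, eq_comm] at h

theorem goodC_levelSys (D : Data p F E χ) (A : LAx F E χ (Nat.card S + 1) L) :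
    H86.GoodC p (levelSys D A) F := by
  rintro P hP a ha ⟨k, hk⟩
  have hm : ∀ b ∈ F.autGroup P, P.subtype.comp b.toMonoidHom ∈ F.Hom P := fun b hb =>
    (H85.mem_autGroup hP.1).1 hb
  refine (H85.mem_autGroup hP.1).2 ⟨hm a ha, fun _ => D.eq_one_of_pow (k := k) ?_⟩
  have hpow : ∀ j : ℕ, L P (P.subtype.comp (a ^ j).toMonoidHom) =
      L P (P.subtype.comp a.toMonoidHom) ^ j := by
    intro j
    induction j with
    | zero =>
      rw [pow_zero, pow_zero]
      refine Eq.trans ?_ (A.id_one D hP (hn P))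
      rfl
    | succ j ih =>
      rw [pow_succ' (L P _), ← ih]
      exact A.comp' (φ := P.subtype.comp (a ^ j).toMonoidHom) (hm _ (pow_mem ha j)) (hm a ha) hP
        (hn P) (fun x => ((a ^ j) x).2) fun x => by rw [pow_succ']; rfl
  rw [← hpow, ← hk, pow_orderOf_eq_one]
  exact A.id_one D hP (hn P)

theorem goodCl_levelSys (D : Data p F E χ) (A : LAx F E χ (Nat.card S + 1) L) :
    H86.GoodCl (levelSys D A) F := fun ε hε P hP h =>
  (H85.mem_autGroup le_rfl).2 ⟨dmap_mem hε, fun _ =>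
    (A.res P S hP.1 _ (dmap_mem hε) hP (hn P)).symm.trans (h.2 hP)⟩

/-- Levels with respect to the least subsystem give the value of the level function. -/
theorem level_eq_of_lev (D : Data p F E χ) (A : LAx F E χ (Nat.card S + 1) L) {P : Subgroup Ω}
    {φ : P →* Ω} (hP : F.IsCentric P) {ε : MulAut S} (hε : ε ∈ F.autGroup S)
    (h : H86.Lev (H86.minSysCl p F) ε P φ) : L P φ = L S (H86.dmap ε) := by
  obtain ⟨φ₀, h₀, he⟩ := h
  have h1 := H86.residual_le F ⟨goodC_levelSys D A, goodCl_levelSys D A⟩ P h₀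
  have hm : ∀ x : P, φ₀ x ∈ S := (F.le_of_mem h1.1).2
  rw [A.comp' h1.1 (dmap_mem hε) hP (hn P) hm fun x => he x (hm x), h1.2 hP, mul_one]

/-- The subsystem cut out by the character. -/
def kerSys (D : Data p F E χ) (A : LAx F E χ (Nat.card S + 1) L) : FusionSystem S where
  Hom P := {φ | ∃ ε ∈ F.autGroup S, L S (H86.dmap ε) = 1 ∧ H86.Lev (H86.minSysCl p F) ε P φ}
  le_of_mem := fun ⟨_, _, _, h⟩ => ⟨h.le, h.map_mem⟩
  injective_of_mem := fun ⟨_, hε, _, h⟩ =>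
    F.injective_of_mem (h.mem (H86.residual_sub F _) le_rfl hε)
  conj_mem hP hg := ⟨1, one_mem _, level_one D A, H86.lev_one.2 (FusionSystem.conj_mem _ hP hg)⟩
  comp_mem := by
    rintro P Q φ ψ ⟨ε, hε, h1, hl⟩ ⟨ε', hε', h1', hl'⟩ h
    exact ⟨ε' * ε, mul_mem hε' hε, by rw [level_mul A hε hε', h1, h1', mul_one],
      hl.comp hl' (H86.primeData_minSysCl.inv _ (inv_mem hε)) h fun _ => rfl⟩
  inv_mem := by
    rintro P φ ⟨ε, hε, h1, hl⟩
    obtain ⟨ψ, hψ, he⟩ := F.inv_mem (hl.mem (H86.residual_sub F _) le_rfl hε)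
    refine ⟨ψ, ⟨ε⁻¹, inv_mem hε, by rw [level_inv D A hε, h1, inv_one],
      hl.inv (H86.primeData_minSysCl.inv _ hε) ?_⟩, he⟩
    rintro ⟨_, x, rfl⟩
    exact ⟨x, rfl, he x⟩

theorem minSys_le_kerSys (D : Data p F E χ) (A : LAx F E χ (Nat.card S + 1) L) :
    (H86.minSysCl p F).IsSubsystemOf (kerSys D A) :=
  fun _ _ h => ⟨1, one_mem _, level_one D A, H86.lev_one.2 h⟩

theorem kerSys_aut (D : Data p F E χ) (A : LAx F E χ (Nat.card S + 1) L) (ε : MulAut S) :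
    ε ∈ (kerSys D A).autGroup S ↔ ε ∈ F.autGroup S ∧ L S (H86.dmap ε) = 1 := by
  constructor
  · intro h
    obtain ⟨δ, hδ, h1, hl⟩ := (H85.mem_autGroup le_rfl).1 h
    have hε : ε ∈ F.autGroup S :=
      (H85.mem_autGroup le_rfl).2 (hl.mem (H86.residual_sub F _) le_rfl hδ)
    exact ⟨hε, (level_eq_of_lev D A (H85.centric_top F) hδ hl).trans h1⟩
  · rintro ⟨hε, h1⟩
    exact (H85.mem_autGroup le_rfl).2 ⟨ε, hε, h1, (H86.lev_aut ε le_rfl).congr fun _ => rfl⟩

theorem primeData_kerSys (D : Data p F E χ) (A : LAx F E χ (Nat.card S + 1) L) :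
    H86.PrimeData p F (kerSys D A) where
  sub _ _ := fun ⟨_, hε, _, h⟩ => h.mem (H86.residual_sub F _) le_rfl hε
  inv δ hδ := by
    rintro P φ ⟨ε, hε, h1, hl⟩
    have hn' := H86.primeData_minSysCl (p := p) (F := F)
    set Q := H85.img (H86.dmap δ) P
    have hQS : Q ≤ S := by
      intro y hy
      obtain ⟨x, -, rfl⟩ := H85.mem_img.1 hy
      exact SetLike.coe_mem _
    let c : Q →* Ω := (H86.dmap δ⁻¹).comp (Subgroup.inclusion hQS)
    have hc : H86.Lev (H86.minSysCl p F) δ⁻¹ Q c := H86.lev_aut δ⁻¹ hQS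
    have hcP : ∀ y : Q, c y ∈ P := by
      rintro ⟨y, hy⟩
      obtain ⟨x, hx, hxy⟩ := H85.mem_img.1 hy
      show ((δ⁻¹ ⟨y, _⟩ : S) : Ω) ∈ P
      rw [show (⟨y, hQS hy⟩ : S) = δ x from Subtype.ext hxy.symm, MulAut.inv_apply_self]
      exact hx
    have h2 := hc.comp hl (hn'.inv _ (by simpa using hδ)) hcP (χ := φ.comp (c.codRestrict P hcP))
      fun _ => rfl
    have hεS : ∀ y : Q, φ.comp (c.codRestrict P hcP) y ∈ S := h2.map_mem
    have hεδ : ε * δ⁻¹ ∈ F.autGroup S := mul_mem hε (inv_mem hδ)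
    have h3 := h2.comp (H86.lev_aut δ (le_refl S)) (hn'.inv _ (inv_mem hεδ)) hεS
      (χ := (H86.dmap δ).comp ((φ.comp (c.codRestrict P hcP)).codRestrict S hεS)) fun _ => rfl
    refine ⟨_, ⟨_, mul_mem hδ hεδ, ?_, h3⟩, fun x hx => ?_⟩
    · rw [level_mul A hεδ hδ, level_mul A (inv_mem hδ) hε, level_inv D A hδ, h1, one_mul,
        mul_inv_cancel]
    · show ((δ ⟨φ ⟨c ⟨_, hx⟩, _⟩, _⟩ : S) : Ω) = _
      congr 2
      refine Subtype.ext (congrArg φ (Subtype.ext ?_))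
      show ((δ⁻¹ (δ ⟨(x : Ω), hl.le x.2⟩) : S) : Ω) = x
      rw [MulAut.inv_apply_self]
  good P hP a ha hk :=
    H85.autGroup_mono (minSys_le_kerSys D A) P (H86.primeData_minSysCl.good P hP a ha hk)
  cl := by
    rintro ε hε P hP ⟨δ, hδ, h1, hl⟩
    refine (kerSys_aut D A ε).2 ⟨hε, ?_⟩
    rw [← A.res P S hP.1 _ (dmap_mem hε) hP (hn P), level_eq_of_lev D A hP hδ hl, h1]

theorem isSaturated_kerSys (D : Data p F E χ) (A : LAx F E χ (Nat.card S + 1) L) :
    (kerSys D A).IsSaturated p := by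
  refine H86.isSaturated_of_loop D.hS D.sat (primeData_kerSys D A) fun P hP ε hε hl => ?_
  have hM := H86.primeData_minSysCl (p := p) (F := F)
  obtain ⟨φ₀, ⟨η, hη, h1, hl₀⟩, he⟩ := hl
  have hl' : H86.Lev (H86.minSysCl p F) (ε * η) P P.subtype :=
    hl₀.comp (H86.lev_aut ε (le_refl S)) (hM.inv _ (inv_mem hη)) hl₀.map_mem
      fun x => he x (hl₀.map_mem x)
  obtain ⟨b, hb, hbx, b₀, hb₀, hbe⟩ := H86.fixLev_of_loop D.hS D.sat hM
    (fun _ _ hC hCl => H86.residual_le F ⟨hC, hCl⟩) hP (mul_mem hε hη) hl'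
  have hm : ∀ x, b₀ x ∈ S := ((H86.minSysCl p F).le_of_mem hb₀).2
  refine ⟨b, hb, hbx, (H86.dmap η).comp (b₀.codRestrict S hm),
    ⟨η * 1, by simpa using hη, by simpa using h1, ?_⟩, fun x hx => hbe x (hm x)⟩
  exact (H86.lev_one.2 hb₀).comp (H86.lev_aut η (le_refl S)) (hM.inv _ (by simp)) hm fun _ => rfl

theorem exists_level_eq (D : Data p F E χ) (A : LAx F E χ (Nat.card S + 1) L)
    (α : F.autGroup T) : ∃ ε ∈ F.autGroup S, L S (H86.dmap ε) = χ α := by
  have hTS := D.sc.1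
  haveI : Finite T := H85.finite_of_le hTS
  have hTn : F.IsFullyNormalized T := ⟨hTS, fun Q ⟨φ, hφ, hr⟩ => by
    rw [← hr, (H88.wc_of_sc D.sc).2 φ hφ]⟩
  have haF : H85.IsFIso F (α : MulAut T) := (H85.mem_autGroup hTS).1 α.2
  obtain ⟨ψ, hψ, hext⟩ :=
    H85.receptive_extend (H85.receptive_of_fullyNormalized D.hS D.sat hTn) haF
  let X := extender S T (T.subtype.comp (α : MulAut T).toMonoidHom)
  have hXS : X ≤ S := H85.extender_le _ _
  have hTX : T ≤ X := H85.le_extender hTS fun x => H85.map_mem haF x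
  have hXc : F.IsCentric X := H85.centric_mono
    (H86.centric_pc (H85.fullyCentralized_of_fullyNormalized D.hS D.sat hTn))
    (sup_le hTX (H85.centralizerIn_le_extender _ _)) hXS
  have hEX : E.IsCentric (X ⊓ T) := by
    rw [inf_eq_right.2 hTX]
    exact H85.centric_top E
  obtain ⟨ε, hε, hl⟩ := H86.frattini_centric D.hS D.sat H86.primeData_minSysCl.inv
    H86.primeData_minSysCl.good hψ
  refine ⟨ε, hε, ?_⟩
  rw [← level_eq_of_lev D A hXc hε hl]
  exact D.gv_unique hψ hEX (A.good X ψ hψ hXc (hn X) hEX)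
    ⟨α, rfl, (X ⊓ T : Subgroup Ω).subtype, H85.id_mem E inf_le_right,
      fun x hx => hext x hx x.2.1⟩

/-- The maps of `E` in `kerSys`. -/
def interSys (D : Data p F E χ) (A : LAx F E χ (Nat.card S + 1) L) : FusionSystem T where
  Hom P := {φ | φ ∈ E.Hom P ∧ φ ∈ (kerSys D A).Hom P}
  le_of_mem h := E.le_of_mem h.1
  injective_of_mem h := E.injective_of_mem h.1
  conj_mem hP hg := ⟨E.conj_mem hP hg,
    FusionSystem.conj_mem _ (hP.trans D.sc.1) (D.sc.1 hg)⟩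
  comp_mem hφ hψ h := ⟨E.comp_mem hφ.1 hψ.1 h, FusionSystem.comp_mem _ hφ.2 hψ.2 h⟩
  inv_mem := by
    rintro P φ ⟨h1, h2⟩
    obtain ⟨ψ, hψ, he⟩ := E.inv_mem h1
    obtain ⟨ψ', hψ', he'⟩ := (kerSys D A).inv_mem h2
    refine ⟨ψ, ⟨hψ, H85.hom_congr hψ' ?_⟩, he⟩
    rintro ⟨_, x, rfl⟩
    rw [he, he']

theorem le_kerSys (D : Data p F E χ) (A : LAx F E χ (Nat.card S + 1) L) :
    E.IsSubsystemOf (kerSys D A) := by
  have hTS := D.sc.1
  haveI : Finite T := H85.finite_of_le hTS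
  suffices h : E ≤ interSys D A from fun P φ hφ => (h P hφ).2
  refine H89.le_of_centric_induction (D.hS.to_le hTS) D.hE.1.1 fun R hR hRc _ α hα =>
    ⟨hα, ?_⟩
  have hRT : R ≤ T := hR.1
  have hRS : R ≤ S := hRT.trans hTS
  obtain ⟨Q, hRQ, hQ⟩ := H85.exists_fullyNormalized F hRS
  obtain ⟨e, he⟩ := H85.isConj_iff.1 hRQ
  have hQc : E.IsCentric Q := H86.centric_of_conj D.hE.1 hRc hRQ
  have hQT : Q ≤ T := hQc.1
  have hαF : H85.IsFIso F α := D.hE.1.2.2.1 R hα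
  set a := MulAut.congr e α with ha
  have haF : H85.IsFIso F a := ((he.symm.trans hαF).trans he).congr fun _ => rfl
  -- the level of `a` as a map on `Q` is trivial
  have hiE : E.IsCentric (R ⊓ T) := by rwa [inf_eq_left.2 hRT]
  obtain ⟨β, hβm, φ₁, hφ₁, hβ₁⟩ := D.hE.1.2.2.2.2.2 Q hQT _ haF
  have hβ : H86.Lev E β Q (Q.subtype.comp a.toMonoidHom) := ⟨φ₁, hφ₁, hβ₁⟩
  obtain ⟨γ, hγm, φ₂, hφ₂, hγ₁⟩ := D.hE.1.2.2.2.2.2 R hRT _ he
  have hγ : H86.Lev E γ R (Q.subtype.comp e.toMonoidHom) := ⟨φ₂, hφ₂, hγ₁⟩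
  have h1 : H86.Lev E (γ * 1) R (Q.subtype.comp (α.trans e).toMonoidHom) :=
    (H86.lev_one.2 hα).comp hγ (by simpa using D.norm 1) (fun x => (α x).2) fun _ => rfl
  have h2 : H86.Lev E (β * γ) R (Q.subtype.comp (α.trans e).toMonoidHom) :=
    hγ.comp hβ (D.norm (⟨γ, hγm⟩ : F.autGroup T)⁻¹) (fun x => (e x).2) fun x => by
      show (e (α x) : Ω) = (e (α (e.symm (e x))) : Ω)
      rw [MulEquiv.symm_apply_apply]
  have hFR : Q.subtype.comp (α.trans e).toMonoidHom ∈ F.Hom R := hαF.trans he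
  have h3 := D.gv_unique hFR hiE (d := χ ⟨γ, hγm⟩) (d' := χ (⟨β, hβm⟩ * ⟨γ, hγm⟩))
    ⟨⟨γ, hγm⟩, rfl, by rw [mul_one] at h1; exact h1.res inf_le_left fun _ => rfl⟩
    ⟨_, rfl, h2.res inf_le_left fun _ => rfl⟩
  rw [map_mul, right_eq_mul] at h3
  -- an extension of `a`
  obtain ⟨ψ, hψ, hext⟩ :=
    H85.receptive_extend (H85.receptive_of_fullyNormalized D.hS D.sat hQ) haF
  let X := extender S Q (Q.subtype.comp a.toMonoidHom)
  have hXS : X ≤ S := H85.extender_le _ _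
  have hQX : Q ≤ X := H85.le_extender hQ.1 fun x => H85.map_mem haF x
  have hXc : F.IsCentric X := H85.centric_mono
    (H86.centric_pc (H85.fullyCentralized_of_fullyNormalized D.hS D.sat hQ))
    (sup_le hQX (H85.centralizerIn_le_extender _ _)) hXS
  have hEX : E.IsCentric (X ⊓ T) := H85.centric_mono hQc (le_inf hQX hQT) inf_le_right
  have hL : L X ψ = 1 := by
    rw [← h3]
    exact D.gv_unique (H85.restrict hψ hQX) (by rwa [inf_eq_left.2 hQT])
      (Data.gv_res hQX (A.good X ψ hψ hXc (hn X) hEX))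
      ⟨⟨β, hβm⟩, rfl, hβ.res inf_le_left fun x => hext _ x.2.1 _⟩
  obtain ⟨ε, hε, hl⟩ := H86.frattini_centric D.hS D.sat H86.primeData_minSysCl.inv
    H86.primeData_minSysCl.good hψ
  have haK : Q.subtype.comp a.toMonoidHom ∈ (kerSys D A).Hom Q :=
    ⟨ε, hε, by rw [← level_eq_of_lev D A hXc hε hl, hL],
      hl.res hQX fun x => (hext x x.2 _).symm⟩
  -- transport back
  have hK := primeData_kerSys D A
  obtain ⟨δ, hδ, hlδ⟩ := H86.frattini_centric D.hS D.sat hK.inv hK.good he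
  have hlδ' : H86.Lev (kerSys D A) δ⁻¹ Q (R.subtype.comp e.symm.toMonoidHom) :=
    hlδ.inv (hK.inv _ hδ) fun y => ⟨e.symm y, congrArg Subtype.val (e.apply_symm_apply y), rfl⟩
  have h4 : H86.Lev (kerSys D A) (1 * δ) R (Q.subtype.comp (α.trans e).toMonoidHom) :=
    hlδ.comp (H86.lev_one.2 haK) (hK.inv _ (inv_mem hδ)) (fun x => (e x).2) fun x => by
      show (e (α x) : Ω) = (e (α (e.symm (e x))) : Ω)
      rw [MulEquiv.symm_apply_apply]
  rw [one_mul] at h4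
  have h5 := h4.comp hlδ' (hK.inv _ (inv_mem hδ)) (χ := R.subtype.comp α.toMonoidHom)
    (fun x => (e (α x)).2) fun x => by
      show (α x : Ω) = (e.symm (e (α x)) : Ω)
      rw [MulEquiv.symm_apply_apply]
  rw [inv_mul_cancel] at h5
  exact H86.lev_one.1 h5


/-- Let F be a saturated fusion system over a finite p-group S, E a normal subsystem of F over T ≤ S, and χ a surjective homomorphism from Aut_F(T) onto a nontrivial finite group Δ of order prime to p whose kernel contains Aut_E(T). Then there is a proper normal subsystem F₀ of F over S containing E such that Aut_{F₀}(S) consists of those α ∈ Aut_F(S) whose restriction to T is an element of Aut_F(T) in the kernel of χ; moreover every p'-residual subsystem O^{p'}(F) of F is contained in F₀. -/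
theorem result {Ω : Type*} [Group Ω] {S : Subgroup Ω} [Finite S] (p : ℕ) [Fact p.Prime] (hS : IsPGroup p S) (F : Cfsg.FusionSystem S) (hF : F.IsSaturated p) {T : Subgroup Ω} (hTS : T ≤ S) (E : Cfsg.FusionSystem T) (hE : E.IsNormalIn F p) {Δ : Type*} [Group Δ] [Finite Δ] [Nontrivial Δ] (hΔ : (Nat.card Δ).Coprime p) (χ : ↥(F.autGroup T) →* Δ) (hχ : Function.Surjective χ) (hker : (E.autGroup T).subgroupOf (F.autGroup T) ≤ χ.ker) : ∃ F₀ : Cfsg.FusionSystem S, F₀.IsNormalIn F p ∧ ¬ (∀ P : Subgroup Ω, F₀.Hom P = F.Hom P) ∧ E.IsSubsystemOf F₀ ∧ (∀ α : MulAut ↥S, α ∈ F₀.autGroup S ↔ α ∈ F.autGroup S ∧ ∃ β : ↥(F.autGroup T), χ β = 1 ∧ ∀ t : ↥T, (((β : MulAut ↥T) t : ↥T) : Ω) = ((α ⟨(t : Ω), hTS t.2⟩ : ↥S) : Ω)) ∧ ∀ R : Cfsg.FusionSystem S, F.IsPPrimeResidual p R → R.IsSubsystemOf F₀ := by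
  have D : Data p F E χ := ⟨hS, hE, hΔ, hker⟩
  obtain ⟨L, A⟩ := exists_level D
  have hK := primeData_kerSys D A
  refine ⟨kerSys D A, ⟨⟨isSaturated_kerSys D A, hF, hK.sub, H86.stronglyClosed_self F,
    ?_, ?_⟩, ?_⟩, ?_, le_kerSys D A, fun α => ?_, ?_⟩
  · intro P hP φ hφ α hα
    obtain ⟨c, hc, he⟩ := hK.inv α hα P φ hφ
    exact ⟨c, hc, fun x _ hαx => he x hαx⟩
  · intro P hP φ hφ
    exact H86.frattini_centric hS hF hK.inv hK.good hφ
  · intro α hα
    have hR : S ⊔ centralizerIn S S = S := sup_eq_left.2 (H85.centralizerIn_le S)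
    have hαF := ((kerSys_aut D A α).1 hα).1
    refine ⟨MulAut.congr (MulEquiv.subgroupCongr hR.symm) α, (H85.mem_autGroup hR.le).2
      (H85.hom_congr (H85.restrict (dmap_mem hαF) hR.le) fun _ => rfl), fun _ => rfl,
      fun c hc => ⟨Subgroup.mul_mem _ (Subgroup.inv_mem _ hc.1) (hR.le (SetLike.coe_mem _)),
        Subgroup.mul_mem _ (Subgroup.inv_mem _ hc.2) (Subgroup.mem_centralizer_iff.2 fun u hu => ?_)⟩⟩
    have h1 : (α⁻¹ ⟨u, hu⟩ : S) * ⟨(c : Ω), hc.1⟩ = ⟨(c : Ω), hc.1⟩ * α⁻¹ ⟨u, hu⟩ :=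
      Subtype.ext ((H85.mem_centralizerIn.1 hc).2 _ (SetLike.coe_mem _))
    have h2 := congrArg (fun z => α z) h1
    simp only [map_mul, MulAut.apply_inv_self] at h2
    exact congrArg Subtype.val h2
  · intro heq
    obtain ⟨d, hd⟩ := exists_ne (1 : Δ)
    obtain ⟨α, rfl⟩ := hχ d
    obtain ⟨ε, hε, h1⟩ := exists_level_eq D A α
    have h2 : ε ∈ (kerSys D A).autGroup S :=
      (H85.mem_autGroup le_rfl).2 (show H86.dmap ε ∈ (kerSys D A).Hom S by
        rw [heq S]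
        exact dmap_mem hε)
    exact hd (h1.symm.trans ((kerSys_aut D A ε).1 h2).2)
  · rw [kerSys_aut D A α]
    refine and_congr_right fun hα => ⟨fun h => ?_, fun ⟨β, hβ, h⟩ => ?_⟩
    · obtain ⟨β, hβ⟩ := exists_res D hα
      exact ⟨β, (level_res D A hα hβ).symm.trans h, hβ⟩
    · rw [level_res D A hα h, hβ]
  · intro R hR
    rw [H86.eq_minSysCl hS hF hR]
    exact minSys_le_kerSys D A

end Cfsg.Agent.S5243
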