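import Cfsg.Statements.S4482
import Cfsg.Agent.H65.DihedralOrder
import Cfsg.Agent.H67.DQHom
-- import your own Cfsg.Agent.* helpers here

set_option autoImplicit false
open Cfsg

namespace Cfsg.Agent.S4482

/-- An order formula for groups with dihedral Sylow 2-subgroups and one class of involutions. Let G be a finite group whose Sylow 2-subgroup P = ⟨σ, τ⟩ is dihedral of order 2^n ≥ 8 (σ of order 2^(n−1), τ an involution inverting σ), let J be the central involution σ^(2^(n−2)), and suppose J, τ and στ are conjugate in G. Fix M over 2 and let χ₁ be an irreducible character in the principal 2-block taking one constant value δ₁ = ±1 at every non-identity power of σ, with χ₁ ≠ 1. Then, with x₁ = χ₁(1) and c(·) denoting orders of centralizers, x₁ ≠ δ₁ and #G · (x₁ − δ₁)² = 2·x₁(x₁ + δ₁)·c(J)³·(1/c(J, τ) + 1/c(J, στ))², where c(J, y) is the order of the joint centralizer of J and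 y. -/
theorem result {G : Type*} [Group G] [Finite G] (M : Ideal Cfsg.AlgInt) (hM : Cfsg.IsPModular 2 M) (n : ℕ) (hn : 3 ≤ n) (P : Sylow 2 G) (σ τ : G) (hσ : σ ∈ (P : Subgroup G)) (hτ : τ ∈ (P : Subgroup G)) (hσo : orderOf σ = 2 ^ (n - 1)) (hτo : orderOf τ = 2) (hrel : τ * σ * τ⁻¹ = σ⁻¹) (hgen : Subgroup.closure ({σ, τ} : Set G) = (P : Subgroup G)) (hconj : IsConj (σ ^ (2 ^ (n - 2))) τ ∧ IsConj (σ ^ (2 ^ (n - 2))) (σ * τ)) (χ₁ : Cfsg.IrrCharacter G) (hχ₁ : χ₁ ∈ Cfsg.principalBlock M G) (h1 : (χ₁ : G → ℂ) ≠ (fun _ => 1)) (δ₁ : ℤ) (hδ₁ : δ₁ = 1 ∨ δ₁ = -1) (hval : ∀ l : ℕ, 0 < l → l < 2 ^ (n - 1) → (χ₁ : G → ℂ) (σ ^ l) = δ₁) : (Cfsg.charDegree (χ₁ : G → ℂ) : ℤ) ≠ δ₁ ∧ (Nat.card G : ℚ) * ((Cfsg.charDegree (χ₁ : G → ℂ) : ℚ) - δ₁) ^ 2 = 2 * (Cfsg.charDegree (χ₁ : G → ℂ) : ℚ) * ((Cfsg.charDegree (χ₁ : G → ℂ) : ℚ) + δ₁) * (Nat.card (Subgroup.centralizer ({σ ^ (2 ^ (n - 2))} : Set G))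 : ℚ) ^ 3 * (1 / (Nat.card (Subgroup.centralizer ({σ ^ (2 ^ (n - 2)), τ} : Set G)) : ℚ) + 1 / (Nat.card (Subgroup.centralizer ({σ ^ (2 ^ (n - 2)), σ * τ} : Set G)) : ℚ)) ^ 2 := by
  classical
  haveI : Fact (Nat.Prime 2) := ⟨Nat.prime_two⟩
  haveI := Fintype.ofFinite G
  haveI := H20.isPrime_of_modular hM
  obtain ⟨k, rfl⟩ : ∃ k, n = k + 3 := ⟨n - 3, by omega⟩
  rw [show k + 3 - 1 = k + 2 by omega] at hσo hval
  rw [show k + 3 - 2 = k + 1 by omega] at hconj ⊢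
  have h4 : 4 ≤ 2 ^ (k + 2) := Nat.pow_le_pow_right (show 2 > 0 by norm_num) (show 2 ≤ k + 2 by omega)
  have hττ : τ * τ = 1 := by rw [← pow_two, ← hτo]; exact pow_orderOf_eq_one τ
  have hτA : τ ∉ Subgroup.zpowers σ := fun h => by
    obtain ⟨i, rfl⟩ := Subgroup.mem_zpowers_iff.1 h
    rw [show σ ^ i * σ * (σ ^ i)⁻¹ = σ by group] at hrel
    have h2 : orderOf σ ∣ 2 := orderOf_dvd_of_pow_eq_one (by
      rw [pow_two]; nth_rewrite 2 [hrel]; exact mul_inv_cancel σ)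
    rw [hσo] at h2
    have := Nat.le_of_dvd two_pos h2
    omega
  obtain ⟨e₀⟩ := H67.dih_iso σ τ hττ hrel hσo hτA
  have e := (MulEquiv.subgroupCongr hgen.symm).trans e₀
  have hD := H65.DB_dih_of_iso P.isPGroup' (by omega) e hσ hσo
  have hJ : H68.dz σ = σ ^ (2 ^ (k + 1)) := by
    rw [H68.dz, hσo, show 2 ^ (k + 2) = 2 * 2 ^ (k + 1) by ring, Nat.mul_div_cancel_left _ two_pos]
  have hcount := H65.DO_count hM P hD e hσo hτ hτA (hJ ▸ hconj.1) (hJ ▸ hconj.2)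
  obtain ⟨hxd, hsum⟩ := H65.DO_chars hM P hD e hσo χ₁ hχ₁ h1 δ₁ hδ₁ hval
  rw [hsum, hJ, H22.irr_one_eq_charDegree] at hcount
  rw [H22.irr_one_eq_charDegree] at hxd
  set x := Cfsg.charDegree (χ₁ : G → ℂ) with hx
  have hx0 : (x : ℂ) ≠ 0 := by
    rw [hx, ← H22.irr_one_eq_charDegree]; exact H12.irr_apply_one_ne_zero χ₁
  set c := Nat.card (Subgroup.centralizer ({σ ^ (2 ^ (k + 1))} : Set G)) with hc
  set a := Nat.card (Subgroup.centralizer ({σ ^ (2 ^ (k + 1)), τ} : Set G)) with ha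
  set b := Nat.card (Subgroup.centralizer ({σ ^ (2 ^ (k + 1)), σ * τ} : Set G)) with hb
  have hc0 : (0 : ℚ) < c := by rw [hc]; exact_mod_cast Nat.card_pos
  have ha0 : (0 : ℚ) < a := by rw [ha]; exact_mod_cast Nat.card_pos
  have hb0 : (0 : ℚ) < b := by rw [hb]; exact_mod_cast Nat.card_pos
  rw [mul_div, div_eq_iff (mul_ne_zero hx0 hxd)] at hcount
  have hQ : (Nat.card G : ℚ) * ((x : ℚ) - δ₁) ^ 2 =
      2 * (x : ℚ) * ((x : ℚ) + δ₁) * (c : ℚ) ^ 3 * (1 / (a : ℚ) + 1 / (b : ℚ)) ^ 2 := by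
    apply Rat.cast_injective (α := ℂ)
    push_cast
    linear_combination hcount / 2
  refine ⟨fun he => ?_, hQ⟩
  have hd : δ₁ = 1 := by omega
  have he' : (x : ℚ) = 1 := by
    have hx1 : (x : ℤ) = 1 := by omega
    exact_mod_cast hx1
  rw [he', hd] at hQ
  norm_num at hQ
  rcases hQ with h | h
  · exact hc0.ne' (by exact_mod_cast h)
  · have : (0 : ℚ) < (a : ℚ)⁻¹ + (b : ℚ)⁻¹ := by positivity
    linarith

end Cfsg.Agent.S4482
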