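import Cfsg.Statements.S0516
import Cfsg.Agent.H30.RankTwoSylow.Main
import Cfsg.Agent.S0949
import Cfsg.Agent.H85.BrauerSuzuki
import Cfsg.Agent.H3.OddOrderInstance

set_option autoImplicit false
open Cfsg

namespace Cfsg.Agent.S0516

/-- In a non-abelian finite simple group of 2-rank at most 2, a Sylow 2-subgroup is dihedral (of order at least 4),
quasi-dihedral, wreathed, or isomorphic to a Sylow 2-subgroup of the projective special unitary group of dimension 3
over the field with 16 elements. -/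
theorem result {G : Type*} [Group G] [Finite G] [IsSimpleGroup G]
    (hG : ¬ IsMulCommutative G) (h2 : Cfsg.PRankLE 2 2 G) (S : Sylow 2 G) {F : Type*} [Field F] [Fintype F]
    (hF : Fintype.card F = 16) (P : Sylow 2 (Cfsg.PSU 3 F 4)) :
    (∃ n : ℕ, 2 ≤ n ∧ Nonempty ((S : Subgroup G) ≃* DihedralGroup n)) ∨ Cfsg.IsQuasiDihedral (S : Subgroup G) ∨
      Cfsg.IsWreathed (S : Subgroup G) ∨ Nonempty ((S : Subgroup G) ≃* (P : Subgroup (Cfsg.PSU 3 F 4))) := by
  haveI : Fact (Nat.Prime 2) := ⟨Nat.prime_two⟩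
  -- no normal subgroup of odd order
  have hO : ∀ N : Subgroup G, N.Normal → Odd (Nat.card N) → N = ⊥ := by
    intro N hN hodd
    refine hN.eq_bot_or_eq_top.resolve_right fun h => hG ⟨⟨fun a b => ?_⟩⟩
    rw [h, Subgroup.card_top] at hodd
    haveI : Group.IsSolvable G := H16.FT.oddOrder hodd
    exact IsSimpleGroup.comm_iff_isSolvable.mpr inferInstance a b
  -- no isolated involution
  have hiso : ∀ z : G, ¬ Cfsg.IsIsolatedInvolution z := by
    intro z hz
    have hbot : Cfsg.pPrimeCore 2 G = ⊥ :=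
      hO _ (H1.pPrimeCore_normal' 2 G) (Nat.coprime_two_right.1 (H1.card_pPrimeCore_coprime 2 G))
    have hzc : z ∈ Subgroup.center G := Subgroup.mem_center_iff.mpr fun g => by
      have h := H85.zStar hz g
      rw [hbot, Subgroup.mem_bot, mul_inv_eq_one, mul_inv_eq_iff_eq_mul] at h
      exact h.symm
    rcases (inferInstance : (Subgroup.center G).Normal).eq_bot_or_eq_top with h | h
    · rw [h, Subgroup.mem_bot] at hzc
      have h' := hz.1
      rw [hzc, orderOf_one] at h'
      norm_num at h'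
    · exact hG ⟨⟨fun a b => Subgroup.mem_center_iff.mp (h ▸ Subgroup.mem_top b) a⟩⟩
  -- an involution is not alone
  have h1 : ¬ Cfsg.PRankLE 2 1 G := by
    intro h
    have heven : Even (Nat.card G) := by
      rw [← Nat.not_odd_iff_even]
      intro hodd
      have htop : (⊤ : Subgroup G) = ⊥ := hO ⊤ inferInstance (by rwa [Subgroup.card_top])
      exact top_ne_bot htop
    obtain ⟨z, hz⟩ := exists_prime_orderOf_dvd_card' (G := G) 2 (even_iff_two_dvd.1 heven)
    refine hiso z ⟨hz, fun g hg => ?_⟩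
    set t := g * z * g⁻¹ with ht
    by_contra hne
    have hzz : z * z = 1 := by rw [← pow_two, ← hz, pow_orderOf_eq_one]
    have hz1 : z ≠ 1 := fun h => by rw [h, orderOf_one] at hz; norm_num at hz
    have htt : t * t = 1 := by rw [ht, show g * z * g⁻¹ * (g * z * g⁻¹) = g * (z * z) * g⁻¹ by group, hzz,
      mul_one, mul_inv_cancel]
    have ht1 : t ≠ 1 := fun h => hz1 (conj_eq_one_iff.mp h)
    have hcard := h (H31.SR.four z t hzz htt hg.eq) ?_ ?_
    · rw [H31.SR.card_four hz1 ht1 (Ne.symm hne)] at hcard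
      omega
    · refine ⟨⟨?_⟩⟩
      rintro ⟨u, hu⟩ ⟨v, hv⟩
      refine Subtype.ext (show u * v = v * u from ?_)
      rcases H30.SF.mem_four'.mp hu with rfl | rfl | rfl | rfl <;>
        rcases H30.SF.mem_four'.mp hv with rfl | rfl | rfl | rfl <;>
        simp [hg.eq, mul_assoc] <;> simp [← mul_assoc, hg.eq]
    · intro v hv
      rcases H30.SF.mem_four'.mp hv with rfl | rfl | rfl | rfl
      · exact one_pow 2
      · rw [pow_two, hzz]
      · rw [pow_two, htt]
      · rw [pow_two, show z * t * (z * t) = z * (t * z) * t by group, ← hg.eq,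
          show z * (z * t) * t = z * z * (t * t) by group, hzz, htt, one_mul]
  rcases H30.RankTwo.sylow_shape h2 h1 hiso S hF P with h | h | h | ⟨n, hn, ⟨e⟩⟩ | h
  · exact Or.inl h
  · exact Or.inr (Or.inl h)
  · exact Or.inr (Or.inr (Or.inl h))
  · exfalso
    obtain ⟨hnor, -, -⟩ := Cfsg.Agent.S0949.result S n hn e hO
    rcases hnor.eq_bot_or_eq_top with h | h
    · have hc := Nat.card_congr e.toEquiv
      rw [h] at hc
      simp at hc
      have := Nat.pow_le_pow_right two_pos hn
      nlinarith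
    · refine hG ⟨⟨fun a b => ?_⟩⟩
      have hab : (⟨a, h ▸ Subgroup.mem_top a⟩ : (S : Subgroup G)) * ⟨b, h ▸ Subgroup.mem_top b⟩
          = ⟨b, h ▸ Subgroup.mem_top b⟩ * ⟨a, h ▸ Subgroup.mem_top a⟩ := e.injective (by rw [map_mul, map_mul, mul_comm])
      exact congrArg Subtype.val hab
  · exact Or.inr (Or.inr (Or.inr h))

end Cfsg.Agent.S0516
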