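import Cfsg.Statements.S2905
import Cfsg.Agent.H75.Basic
import Cfsg.Agent.H32.Sylow
import Cfsg.Agent.H35.Subnormal

set_option autoImplicit false
open Cfsg

namespace Cfsg.Agent.S2905

/-- Let P be a finite p-minimal group (a Sylow p-subgroup S is not normal and lies in a unique maximal subgroup M of P) and let F be the normal core of M. Then: every subnormal subgroup N of P contained in M satisfies N ∩ S ≤ O_p(P); if O^p(P) has a normal Sylow p-subgroup then the order of P has at most two prime divisors; every normal subgroup N of P either contains O^p(P) or is contained in F; and O^p(P)F ⧸ F is a minimal normal subgroup of P ⧸ F. -/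
theorem result {P : Type*} [Group P] [Finite P] {p : ℕ} [Fact p.Prime] (hP : Cfsg.IsPMinimal p P) (S : Sylow p P) (M : Subgroup P) (hM : IsCoatom M) (hSM : (S : Subgroup P) ≤ M) [hF : M.normalCore.Normal] : (∀ N : Subgroup P, N.IsSubnormal → N ≤ M → N ⊓ (S : Subgroup P) ≤ Cfsg.pCore p P) ∧ ((∀ T : Sylow p ↥(Cfsg.pResidual p P), (T : Subgroup ↥(Cfsg.pResidual p P)).Normal) → (Nat.card P).primeFactors.card ≤ 2) ∧ (∀ N : Subgroup P, N.Normal → Cfsg.pResidual p P ≤ N ∨ N ≤ M.normalCore) ∧ (∀ N : Subgroup P, N.Normal → M.normalCore ≤ N → N ≤ Cfsg.pResidual p P ⊔ M.normalCore → N = M.normalCore ∨ N = Cfsg.pResidual p P ⊔ M.normalCore) ∧ M.normalCore < Cfsg.pResidual p P ⊔ M.normalCore := by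
  classical
  obtain ⟨-, M0, -, huniq⟩ := hP S
  -- proper overgroups of `S` lie in `M`
  have hover : ∀ X : Subgroup P, (S : Subgroup P) ≤ X → X ≠ ⊤ → X ≤ M := by
    intro X hSX hX
    obtain ⟨M', hM', hXM'⟩ := H75.exists_coatom_ge hX
    have e1 := huniq M' ⟨hM', hSX.trans hXM'⟩
    have e2 := huniq M ⟨hM, hSM⟩
    exact hXM'.trans (e1.trans e2.symm).le
  have hFM : M.normalCore ≤ M := Subgroup.normalCore_le M
  have hEn := H75.pResidual_normal p P
  set E := Cfsg.pResidual p P with hE
  have hES : E ⊔ (S : Subgroup P) = ⊤ := H75.pResidual_sup_sylow S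
  have h3 : ∀ N : Subgroup P, N.Normal → E ≤ N ∨ N ≤ M.normalCore := by
    intro N hN
    by_cases hle : N ⊔ (S : Subgroup P) = ⊤
    · exact Or.inl (H75.pResidual_le_of_sup_eq_top S.isPGroup' hle)
    · exact Or.inr (Subgroup.normal_le_normalCore.mpr
        (le_sup_left.trans (hover _ le_sup_right hle)))
  refine ⟨?_, ?_, h3, ?_, ?_⟩
  · intro N hN hNM
    have hNF : N ≤ M.normalCore := H35.subnormal_le_normalCore M N hM hN hNM
    have hfr := H32.frattini_inf S M.normalCore
    have hFS : ((S : Subgroup P) ⊓ M.normalCore).Normal := by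
      rw [← Subgroup.normalizer_eq_top_iff]
      by_contra hne
      refine hM.1 (top_le_iff.mp (hfr.ge.trans (sup_le ?_ hFM)))
      exact hover _ (H32.sylow_le_normalizer_inf S M.normalCore) hne
    exact (le_inf inf_le_right (inf_le_left.trans hNF)).trans
      (H1.le_pCore (S.isPGroup'.to_inf_left))
  · intro hTn
    obtain ⟨P0, hP0⟩ := H75.exists_sylow_inf_normal S E
    set Q0 := (S : Subgroup P) ⊓ E with hQ0
    have hQ0n : Q0.Normal := by
      rw [← hP0]
      have := hTn P0
      have : (P0 : Subgroup ↥E).Characteristic := Sylow.characteristic_of_normal P0 this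
      exact Subgroup.normalizer_eq_top_iff.mp (top_le_iff.mp
        ((Subgroup.normalizer_eq_top_iff.mpr hEn).ge.trans
          (H75.normalizer_le_normalizer_map_characteristic E _)))
    have hQ0p : IsPGroup p ↥Q0 := S.isPGroup'.to_inf_left
    -- a prime dividing the index of `M`
    have hidx : M.index ≠ 1 := fun h => hM.1 (Subgroup.index_eq_one.mp h)
    obtain ⟨r, hr, hrdvd⟩ := Nat.exists_prime_and_dvd hidx
    haveI := Fact.mk hr
    have hrp : r ≠ p := by
      rintro rfl
      exact S.not_dvd_index (hrdvd.trans (Subgroup.index_dvd_of_le hSM))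
    obtain ⟨R⟩ := (inferInstance : Nonempty (Sylow r P))
    have hnotle : ∀ g : P, ¬ (R : Subgroup P).map (MulAut.conj g).toMonoidHom ≤ M := by
      intro g hle
      have h2 := Subgroup.index_dvd_of_le hle
      rw [show (MulAut.conj g).toMonoidHom = ((MulAut.conj g : P ≃* P) : P →* P) from rfl,
        Subgroup.index_map_equiv] at h2
      exact R.not_dvd_index (hrdvd.trans h2)
    have hRE : (R : Subgroup P) ≤ E := by
      intro x hx
      refine H75.coprime_mem_pResidual ?_
      obtain ⟨k, hk⟩ := R.isPGroup' ⟨x, hx⟩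
      have hk' : x ^ (r ^ k) = 1 := by simpa using congrArg Subtype.val hk
      exact Nat.Coprime.coprime_dvd_left (orderOf_dvd_of_pow_eq_one hk')
        (Nat.Coprime.pow_left k ((Nat.coprime_primes hr Fact.out).mpr hrp))
    -- the normalizer of `R` covers `P` modulo `Q0`
    set Y := Subgroup.normalizer ((R : Subgroup P) : Set P) ⊔ Q0 with hY
    have hYtop : Y = ⊤ := by
      by_contra hYne
      obtain ⟨S1⟩ := (inferInstance : Nonempty (Sylow p Y))
      have hfr : Y ⊔ E = ⊤ := by
        rw [eq_top_iff, ← Sylow.normalizer_sup_eq_top' R hRE]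
        exact sup_le_sup_right le_sup_left _
      have hnd : ¬ p ∣ Y.index := by
        have h1 : Y.index = Y.relIndex E := by
          rw [H32.relIndex_normal_eq Y E, hfr, Subgroup.relIndex_top_right]
        rw [h1]
        intro hdvd
        have h2 : Y.relIndex E ∣ Q0.relIndex E :=
          Subgroup.relIndex_dvd_of_le_left E le_sup_right
        apply P0.not_dvd_index
        have h3 : (P0 : Subgroup ↥E) = Q0.subgroupOf E := by
          apply Subgroup.map_injective E.subtype_injective
          rw [hP0, Subgroup.subgroupOf_map_subtype, inf_of_le_left inf_le_right]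
        rw [h3]
        exact hdvd.trans h2
      obtain ⟨S2, hS2⟩ := (S1.isPGroup'.map Y.subtype).exists_le_sylow
      have hS2Y : (S2 : Subgroup P) ≤ Y := by
        have h1 : (S2 : Subgroup P) = (S1 : Subgroup Y).map Y.subtype := by
          refine (Subgroup.eq_of_le_of_card_ge hS2 ?_).symm
          refine Nat.le_of_dvd Nat.card_pos ?_
          obtain ⟨n, hn⟩ := IsPGroup.iff_card.mp S2.isPGroup'
          rw [hn, Subgroup.card_map_of_injective Y.subtype_injective]
          have h2 : p ^ n ∣ (S1 : Subgroup Y).index * Nat.card (S1 : Subgroup Y) * Y.index := by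
            rw [Subgroup.index_mul_card, Subgroup.card_mul_index, ← hn]
            exact Subgroup.card_subgroup_dvd_card _
          have hc : Nat.Coprime (p ^ n) ((S1 : Subgroup Y).index * Y.index) :=
            Nat.Coprime.pow_left n ((Fact.out : p.Prime).coprime_iff_not_dvd.mpr
              ((Fact.out : p.Prime).not_dvd_mul S1.not_dvd_index hnd))
          rw [mul_right_comm] at h2
          exact hc.dvd_of_dvd_mul_left h2
        rw [h1]
        exact Subgroup.map_subtype_le _
      obtain ⟨g, hg⟩ := MulAction.exists_smul_eq P S2 S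
      have hgS : (S : Subgroup P) ≤ Y.map (MulAut.conj g).toMonoidHom := by
        rw [← hg]
        rintro x hx
        exact Subgroup.map_mono hS2Y hx
      refine hnotle g ((Subgroup.map_mono (Subgroup.le_normalizer.trans le_sup_left)).trans
        (hover _ hgS fun h => hYne ?_))
      apply Subgroup.map_injective (f := (MulAut.conj g).toMonoidHom) (MulAut.conj g).injective
      rw [h, Subgroup.map_top_of_surjective _ (MulAut.conj g).surjective]
    set RQ := (R : Subgroup P) ⊔ Q0 with hRQ
    have hRQn : RQ.Normal := by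
      rw [← Subgroup.normalizer_eq_top_iff, eq_top_iff, ← hYtop]
      refine sup_le ?_ (le_sup_right.trans Subgroup.le_normalizer)
      refine le_trans (le_inf le_rfl ?_) (H75.normalizer_inf_le_normalizer_sup _ _)
      exact le_top.trans (Subgroup.normalizer_eq_top_iff.mpr hQ0n).ge
    have hTop : (S : Subgroup P) ⊔ RQ = ⊤ := by
      by_contra hne
      refine hnotle 1 (le_trans (le_of_eq ?_) (le_sup_left.trans (le_sup_right.trans
        (hover _ le_sup_left hne))))
      ext x; simp
    have hcard : Nat.card P ∣ Nat.card (S : Subgroup P) * (Nat.card (R : Subgroup P) *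
        Nat.card Q0) := by
      have hdvd : ∀ A B : Subgroup P, B.Normal →
          Nat.card ↥(A ⊔ B) ∣ Nat.card A * Nat.card B := by
        intro A B hB
        have := hB
        have h := Subgroup.relIndex_mul_relIndex (⊥ : Subgroup P) B (A ⊔ B) bot_le le_sup_right
        rw [Subgroup.relIndex_bot_left, Subgroup.relIndex_bot_left, Subgroup.relIndex_sup_right,
          mul_comm] at h
        rw [← h]
        exact Nat.mul_dvd_mul_right (Subgroup.relIndex_dvd_card _ _) _
      have h1 := hdvd (S : Subgroup P) RQ hRQn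
      rw [hTop, Subgroup.card_top] at h1
      exact h1.trans (Nat.mul_dvd_mul_left _ (hdvd _ Q0 hQ0n))
    have hsub : (Nat.card P).primeFactors ⊆ {p, r} := by
      intro q hq
      obtain ⟨hq1, hq2, -⟩ := Nat.mem_primeFactors.mp hq
      have hmem : ∀ (l : ℕ) [Fact l.Prime] (A : Subgroup P), IsPGroup l A →
          q ∣ Nat.card A → q = l := by
        intro l _ A hA hd
        obtain ⟨n, hn⟩ := IsPGroup.iff_card.mp hA
        exact (Nat.prime_dvd_prime_iff_eq hq1 Fact.out).mp (hq1.dvd_of_dvd_pow (hn ▸ hd))
      rcases hq1.dvd_mul.mp (hq2.trans hcard) with h | h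
      · simp [hmem p _ S.isPGroup' h]
      · rcases hq1.dvd_mul.mp h with h | h
        · simp [hmem r _ R.isPGroup' h]
        · simp [hmem p _ hQ0p h]
    exact (Finset.card_le_card hsub).trans Finset.card_le_two
  · intro N hN hFN hNle
    rcases h3 N hN with h | h
    · exact Or.inr (le_antisymm hNle (sup_le h hFN))
    · exact Or.inl (le_antisymm h hFN)
  · refine lt_of_le_of_ne le_sup_right fun e => hM.1 ?_
    rw [eq_top_iff, ← hES]
    exact sup_le ((le_sup_left.trans e.symm.le).trans hFM) hSM

end Cfsg.Agent.S2905
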