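import Cfsg.Statements.S2941
import Cfsg.Agent.H77.Conj
import Cfsg.Agent.H1.Cores
import Cfsg.Agent.H1.CoprimeAction

set_option autoImplicit false
open Cfsg

namespace Cfsg.Agent.S2941

/-- Let G be a finite group of characteristic 2 type in which every 2-local subgroup is solvable and the centralizer of Ω₁(Z(S)) lies in N_G(S) for every Sylow 2-subgroup S, and let T be a nontrivial 2-subgroup and K a J(T)-component (J the Thompson subgroup generated by the elementary abelian 2-subgroups of largest order). If a subgroup Q is normalized by ⟨K, J(T)⟩ and normalizes J(T), then Q normalizes K. -/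
theorem result {G : Type*} [Group G] [Finite G] (hL : Cfsg.IsCharacteristicTwoType G) (hN : ∀ N : Subgroup G, Cfsg.IsTwoLocal N → Group.IsSolvable ↥N)
    (hZ : ∀ S : Sylow 2 G, Subgroup.centralizer (Cfsg.omegaCenterOf (S : Subgroup G) : Set G) ≤ Subgroup.normalizer ((S : Subgroup G) : Set G)) (T : Subgroup G) (hT : IsPGroup 2 ↥T) (hT1 : T ≠ ⊥) (K : Subgroup G) (hK : Cfsg.IsJComponent T K)
    (Q : Subgroup G) (hQ1 : K ⊔ Cfsg.thompsonSubgroupOf 2 T ≤ Subgroup.normalizer (Q : Set G)) (hQ2 : Q ≤ Subgroup.normalizer (Cfsg.thompsonSubgroupOf 2 T : Set G)) :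
    Q ≤ Subgroup.normalizer (K : Set G) := by
  haveI : Fact (Nat.Prime 2) := ⟨Nat.prime_two⟩
  set J := Cfsg.thompsonSubgroupOf 2 T with hJdef
  obtain ⟨hgen, hcomm, -⟩ := hK
  have hJT : J ≤ T := Subgroup.map_subtype_le _
  have hJp : IsPGroup 2 ↥J := hT.to_le hJT
  have hJK : J ≤ Subgroup.normalizer (K : Set G) := by
    conv_rhs => rw [← hcomm]
    exact H1.right_le_normalizer_commutator (A := J) (K := K)
  intro q hq
  -- `q K q⁻¹` lies in `K J`
  have hqK : H77.cmap q K ≤ K ⊔ J := by
    conv_lhs => rw [← hcomm, Subgroup.commutator_def]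
    rw [H77.cmap_le_iff, Subgroup.closure_le]
    rintro _ ⟨k, hk, j, hj, rfl⟩
    rw [SetLike.mem_coe, H77.mem_cmap, inv_inv, commutatorElement_def]
    have hJq : ∀ q' ∈ Q, ∀ j' ∈ J, q' * j' * q'⁻¹ ∈ J := fun q' hq' j' hj' =>
      (Subgroup.mem_normalizer_iff.1 (hQ2 hq') j').1 hj'
    have hq' : k⁻¹ * q * k ∈ Q := by
      have := (Subgroup.mem_normalizer_iff.1 (hQ1 (Subgroup.mem_sup_left (inv_mem hk))) q).1 hq
      rwa [inv_inv] at this
    have := mul_mem (mul_mem (mul_mem (Subgroup.mem_sup_left (T := J) hk)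
      (Subgroup.mem_sup_right (S := K) (hJq _ hq' j hj))) (inv_mem (Subgroup.mem_sup_left (T := J) hk)))
      (inv_mem (Subgroup.mem_sup_right (S := K) (hJq q hq j hj)))
    simpa [mul_assoc] using this
  -- elements of odd order of `K J` lie in `K`
  have hodd : ∀ x ∈ K ⊔ J, Odd (orderOf x) → x ∈ K := by
    intro x hx hxo
    have h1 : x ∈ ((J ⊔ K : Subgroup G) : Set G) := by rw [sup_comm]; exact hx
    rw [Subgroup.coe_mul_of_left_le_normalizer_right J K hJK] at h1
    obtain ⟨j, hj, k, hk, hjk⟩ := h1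
    have hpow : ∀ n : ℕ, (j ^ n)⁻¹ * x ^ n ∈ K := by
      intro n
      induction n with
      | zero => simp
      | succ n ih =>
        have h2 := mul_mem ((Subgroup.mem_normalizer_iff.1 (hJK (inv_mem hj)) _).1 ih) hk
        rw [inv_inv] at h2
        convert h2 using 1
        rw [pow_succ, pow_succ, ← hjk]
        group
    obtain ⟨i, hi⟩ := hJp ⟨j, hj⟩
    have hji : j ^ 2 ^ i = 1 := by simpa using congrArg Subtype.val hi
    have h3 := hpow (2 ^ i)
    rw [hji, inv_one, one_mul] at h3
    have hco : (orderOf x).Coprime (2 ^ i) := (Nat.coprime_two_right.2 hxo).pow_right i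
    obtain ⟨m, hm⟩ := exists_pow_eq_self_of_coprime hco.symm
    rw [← hm]
    exact pow_mem h3 m
  apply H77.mem_normalizer_of_forall
  intro a ha
  rw [← hgen] at ha
  induction ha using Subgroup.closure_induction with
  | mem x hx =>
    refine hodd _ (hqK (H77.conj_mem_cmap hx.1)) ?_
    have : orderOf (q * x * q⁻¹) = orderOf x :=
      orderOf_injective (MulAut.conj q).toMonoidHom (MulAut.conj q).injective x
    rw [this]
    exact hx.2
  | one => simp
  | mul x y _ _ hx hy =>
    have := mul_mem hx hy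
    simpa [mul_assoc] using this
  | inv x _ hx =>
    have := inv_mem hx
    simpa [mul_assoc] using this

end Cfsg.Agent.S2941
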