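import Cfsg.Statements.S2947
import Cfsg.Agent.H77.StrongEmb
import Cfsg.Agent.H1.Cores

set_option autoImplicit false
open Cfsg

namespace Cfsg.Agent.S2947

/-- Let G be a finite group of characteristic 2 type in which every 2-local subgroup is solvable and the centralizer of Ω₁(Z(S)) lies in N_G(S) for every Sylow 2-subgroup S; suppose O₂(G) = 1, fix a Sylow 2-subgroup S and a 2-local subgroup M containing N_G(J(S)) (J the Thompson subgroup generated by the elementary abelian 2-subgroups of largest order). Then M is strongly embedded in G (a proper subgroup of even order whose intersection with each conjugate by an element outside M has odd order) if and only if no nontrivial 2-subgroup of M lies in a 2-local subgroup of G not contained in M. -/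
theorem result {G : Type*} [Group G] [Finite G] (hL : Cfsg.IsCharacteristicTwoType G) (hN : ∀ N : Subgroup G, Cfsg.IsTwoLocal N → Group.IsSolvable ↥N)
    (hZ : ∀ S : Sylow 2 G, Subgroup.centralizer (Cfsg.omegaCenterOf (S : Subgroup G) : Set G) ≤ Subgroup.normalizer ((S : Subgroup G) : Set G)) (hO : Cfsg.pCore 2 G = ⊥) (S : Sylow 2 G) (M : Subgroup G) (hM : Cfsg.IsTwoLocal M)
    (hMJ : Subgroup.normalizer (Cfsg.thompsonSubgroupOf 2 (S : Subgroup G) : Set G) ≤ M) :
    Cfsg.IsStronglyEmbedded M ↔ Cfsg.straddlingTwoSubgroups M = ∅ := by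
  haveI : Fact (Nat.Prime 2) := ⟨Nat.prime_two⟩
  constructor
  · intro hse
    rw [Set.eq_empty_iff_forall_notMem]
    rintro T ⟨hT, hT1, hTM, L, ⟨Q, hQ, hQ1, rfl⟩, hTL, hLM⟩
    apply hLM
    set H := T ⊔ Q with hH
    have hHp : IsPGroup 2 ↥H := hT.to_sup_of_normal_right' hQ hTL
    haveI : Nontrivial ↥H := by
      rw [Subgroup.nontrivial_iff_ne_bot]
      exact fun h => hT1 (le_bot_iff.1 (h ▸ le_sup_left))
    have hZ1 : Nontrivial ↥(Subgroup.center ↥H) := hHp.center_nontrivial
    obtain ⟨n, hn0, hn⟩ := (hHp.to_subgroup (Subgroup.center ↥H)).nontrivial_iff_card.1 hZ1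
    obtain ⟨⟨z, hz⟩, hz2⟩ := exists_prime_orderOf_dvd_card' (G := ↥(Subgroup.center ↥H)) 2
      (hn ▸ dvd_pow_self 2 hn0.ne')
    set R : Subgroup G := Subgroup.zpowers (z : G) with hR
    have hzord : orderOf (z : G) = 2 := by rw [Subgroup.orderOf_coe, ← Subgroup.orderOf_mk z hz, hz2]
    have hRp : IsPGroup 2 ↥R := IsPGroup.of_card (n := 1) (by rw [hR, Nat.card_zpowers, hzord, pow_one])
    have hR1 : R ≠ ⊥ := fun h => by
      rw [hR, Subgroup.zpowers_eq_bot] at h
      rw [h, orderOf_one] at hzord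
      omega
    have hHR : H ≤ Subgroup.normalizer (R : Set G) := by
      intro h hh
      refine H77.mem_normalizer_of_forall fun r hr => ?_
      obtain ⟨i, rfl⟩ := Subgroup.mem_zpowers_iff.1 hr
      have hc : Commute h (z : G) := congrArg Subtype.val (Subgroup.mem_center_iff.1 hz ⟨h, hh⟩)
      rw [(hc.zpow_right i).eq, mul_inv_cancel_right]
      exact hr
    have hzM : (z : G) ∈ M := by
      refine H77.normalizer_le_of_stronglyEmbedded hse hT hT1 hTM (H77.mem_normalizer_of_forall fun t ht => ?_)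
      have hc : Commute t (z : G) :=
        congrArg Subtype.val (Subgroup.mem_center_iff.1 hz ⟨t, le_sup_left (b := Q) ht⟩)
      rw [hc.symm.eq, mul_inv_cancel_right]
      exact ht
    have hQM : Q ≤ M := (le_sup_right.trans hHR).trans
      (H77.normalizer_le_of_stronglyEmbedded hse hRp hR1 (Subgroup.zpowers_le.2 hzM))
    exact H77.normalizer_le_of_stronglyEmbedded hse hQ hQ1 hQM
  · intro he
    obtain ⟨Q, hQ, hQ1, rfl⟩ := hM
    refine H77.stronglyEmbedded_of_normalizer_le ?_ ?_ ?_
    · intro htop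
      haveI : Q.Normal := Subgroup.normalizer_eq_top_iff.1 htop
      exact hQ1 (le_bot_iff.1 (hO ▸ H1.le_pCore hQ))
    · obtain ⟨k, hk⟩ := IsPGroup.iff_card.1 hQ
      have hk0 : k ≠ 0 := fun h => hQ1 (Subgroup.card_eq_one.1 (by rw [hk, h, pow_zero]))
      exact even_iff_two_dvd.2 (((dvd_pow_self 2 hk0).trans (dvd_of_eq hk.symm)).trans
        (Subgroup.card_dvd_of_le Subgroup.le_normalizer))
    · intro R hR hR1 hRM
      by_contra hne
      exact Set.eq_empty_iff_forall_notMem.1 he R
        ⟨hR, hR1, hRM, _, ⟨R, hR, hR1, rfl⟩, Subgroup.le_normalizer, hne⟩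

end Cfsg.Agent.S2947
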