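import Cfsg.Statements.S2954
import Cfsg.Agent.H77.JIso

set_option autoImplicit false
open Cfsg

namespace Cfsg.Agent.S2954

/-- Let G be a finite group of characteristic 2 type in which every 2-local subgroup is solvable and the centralizer of Ω₁(Z(S)) lies in N_G(S) for every Sylow 2-subgroup S; suppose O₂(G) = 1, fix a Sylow 2-subgroup S and a 2-local subgroup M containing N_G(J(S)) (J the Thompson subgroup generated by the elementary abelian 2-subgroups of largest order). If T is maximal (for the order of a largest elementary abelian subgroup, then the order of J(T), then the order of T) among the nontrivial 2-subgroups of M lying in a 2-local subgroup not inside M, then there are two distinct maximal 2-local subgroups P₁, P₂ of G, each having T as a Sylow 2-subgroup, that are both isomorphic to the symmetric group on four letters or both isomorphic to its direct product with a group of order 2. -/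
theorem result {G : Type*} [Group G] [Finite G] (hL : Cfsg.IsCharacteristicTwoType G) (hN : ∀ N : Subgroup G, Cfsg.IsTwoLocal N → Group.IsSolvable ↥N)
    (hZ : ∀ S : Sylow 2 G, Subgroup.centralizer (Cfsg.omegaCenterOf (S : Subgroup G) : Set G) ≤ Subgroup.normalizer ((S : Subgroup G) : Set G)) (hO : Cfsg.pCore 2 G = ⊥) (S : Sylow 2 G) (M : Subgroup G) (hM : Cfsg.IsTwoLocal M)
    (hMJ : Subgroup.normalizer (Cfsg.thompsonSubgroupOf 2 (S : Subgroup G) : Set G) ≤ M) (T : Subgroup G) (hT : T ∈ Cfsg.maxStraddlingTwoSubgroups M) :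
    ∃ P₁ P₂ : Subgroup G, P₁ ≠ P₂ ∧ Cfsg.IsMaximalTwoLocal P₁ ∧ Cfsg.IsMaximalTwoLocal P₂ ∧
      Cfsg.IsSylowTwoIn T P₁ ∧ Cfsg.IsSylowTwoIn T P₂ ∧
      ((Nonempty (↥P₁ ≃* Equiv.Perm (Fin 4)) ∧ Nonempty (↥P₂ ≃* Equiv.Perm (Fin 4))) ∨
        (Nonempty (↥P₁ ≃* Equiv.Perm (Fin 4) × Multiplicative (ZMod 2)) ∧
          Nonempty (↥P₂ ≃* Equiv.Perm (Fin 4) × Multiplicative (ZMod 2)))) := by
  have h : H77.MCtx M T := ⟨hL, hN, hZ, ⟨S, hMJ⟩, hT⟩
  obtain ⟨K, L, hp, hnc⟩ := h.exists_pair hO
  refine ⟨L true, L false, hp.ne, (hp.top true).maxLocal, (hp.top false).maxLocal, (hp.side true).ctx.sylT,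
    (hp.side false).ctx.sylT, ?_⟩
  have key : ∀ i, (Nat.card ↥(H77.zOf T) = 2 → Nonempty (↥(L i) ≃* Equiv.Perm (Fin 4))) ∧
      (Nat.card ↥(H77.zOf T) = 4 →
        Nonempty (↥(L i) ≃* Equiv.Perm (Fin 4) × Multiplicative (ZMod 2))) := by
    intro i
    obtain ⟨t, ht, ht2, htV⟩ := hp.exists_invol_not_mem hnc i
    rw [hp.L_eq hnc i]
    exact (hp.side i).iso_type (hp.qK_eq_vK hnc i) ht ht2 htV hp.small
  rcases H77.card_zOf_two_or_four h.T_pgroup (hp.side true).comp hp.small with h2 | h4
  · exact Or.inl ⟨(key true).1 h2, (key false).1 h2⟩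
  · exact Or.inr ⟨(key true).2 h4, (key false).2 h4⟩

end Cfsg.Agent.S2954
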