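import Cfsg.Statements.S2202
import Cfsg.Agent.H39.AIC.Main

set_option autoImplicit false
open Cfsg

namespace Cfsg.Agent.S2202

/-- Finite groups in which the centralizer of every involution is abelian. Let G be a finite group of even order in which the centralizer of every element of order 2 is abelian. Then the Sylow 2-subgroups of G are cyclic, or a Sylow 2-subgroup of G is normal, or G is isomorphic to the direct product of SL₂(F) for a finite field F of characteristic two and an abelian group of odd order. -/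
theorem result {G : Type*} [Group G] [Finite G] (heven : Even (Nat.card G)) (h : ∀ t : G, orderOf t = 2 → IsMulCommutative ↥(Subgroup.centralizer ({t} : Set G))) :
    (∀ P : Sylow 2 G, IsCyclic ↥P) ∨ (∀ P : Sylow 2 G, (P : Subgroup G).Normal) ∨
    (∃ (F : Type) (_ : Field F) (_ : Fintype F) (A : Type) (_ : CommGroup A) (_ : Finite A), CharP F 2 ∧ Odd (Nat.card A) ∧ Nonempty (G ≃* Matrix.SpecialLinearGroup (Fin 2) F × A)) := by
  classical
  haveI : Fact (Nat.Prime 2) := ⟨Nat.prime_two⟩
  obtain ⟨T⟩ := (inferInstance : Nonempty (Sylow 2 G))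
  by_cases hc : IsCyclic (T : Subgroup G)
  · exact Or.inl fun P => haveI := hc; (Sylow.equiv T P).isCyclic.1 hc
  by_cases hn : (T : Subgroup G).Normal
  · haveI := Sylow.unique_of_normal T hn
    exact Or.inr (Or.inl fun P => (Subsingleton.elim T P) ▸ hn)
  refine Or.inr (Or.inr ?_)
  obtain ⟨F, iF, iFF, K, hchar, hodd, hKc, ⟨e⟩⟩ :=
    H39.AIC.split_of_result (H39.AIC.result_of_data (Nat.card G) G T rfl ⟨hc, hn, h⟩)
  let eS : Shrink.{0} K ≃* K := Shrink.mulEquiv
  let cS : CommGroup (Shrink.{0} K) :=
    { (inferInstance : Group (Shrink.{0} K)) with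
      mul_comm := fun a b => eS.injective (by
        rw [map_mul, map_mul]; exact Subtype.ext (hKc _ (eS a).2 _)) }
  exact ⟨F, iF, iFF, Shrink.{0} K, cS, Finite.of_equiv K eS.symm.toEquiv, hchar,
    (Nat.card_congr eS.toEquiv).symm ▸ hodd,
    ⟨e.trans (MulEquiv.prodCongr (MulEquiv.refl _) eS.symm)⟩⟩

end Cfsg.Agent.S2202
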