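import Cfsg.Statements.S3012
import Mathlib
import Cfsg.Agent.H78.UnitLemmas

set_option autoImplicit false
open Cfsg

namespace Cfsg.Agent.S3012

/-- Let G be a finite group, V a nontrivial elementary abelian 2-subgroup of G satisfying the Sidki pair condition (every odd-order element inverted by an element of V commutes with a nontrivial element of V), and K a normal subgroup of G with V ∩ K = 1. Then the image of V in G/K satisfies the Sidki pair condition in G/K. -/
theorem result {G : Type*} [Group G] [Finite G] (V K : Subgroup G) [K.Normal] (hV : Cfsg.IsElementaryAbelian 2 V) (hV1 : V ≠ ⊥) (hS : Cfsg.IsSidkiPair V) (hVK : V ⊓ K = ⊥) : Cfsg.IsSidkiPair (V.map (QuotientGroup.mk' K)) := by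
  intro hb vb hvb hodd hinv
  obtain ⟨v, hv, rfl⟩ := hvb
  have hv2 : v * v = 1 := by simpa [pow_two] using hV.2 v hv
  obtain ⟨h, hh1, hh2, hh3⟩ := H78.exists_odd_lift (QuotientGroup.mk' K)
    (QuotientGroup.mk'_surjective K) v hv2 hb hodd hinv
  obtain ⟨w, hw, hw1, hwh⟩ := hS h v hv hh1 hh2
  refine ⟨QuotientGroup.mk' K w, Subgroup.mem_map_of_mem _ hw, fun h1 => hw1 ?_,
    H78.commute_of_mem_zpowers ?_ hh3⟩
  · have : w ∈ V ⊓ K := ⟨hw, (QuotientGroup.eq_one_iff w).1 h1⟩
    rw [hVK] at this
    exact Subgroup.mem_bot.1 this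
  · rw [← map_mul, ← map_mul, hwh]

end Cfsg.Agent.S3012
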