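import Cfsg.Statements.S1304
import Mathlib

set_option autoImplicit false
open Cfsg
open scoped commutatorElement

namespace Cfsg.Agent.S1304

/-- Let X be a perfect group and α an automorphism of X with α(x) x⁻¹ central for every x. Then α is the identity. -/
theorem result {X : Type*} [Group X] (hperf : commutator X = ⊤) (α : X ≃* X) (h : ∀ x : X, α x * x⁻¹ ∈ Subgroup.center X) : ∀ x : X, α x = x := by
  have h1 : commutator X ≤ (MonoidHom.eqLocus α.toMonoidHom (MonoidHom.id X)) := by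
    rw [commutator_eq_closure, Subgroup.closure_le]
    rintro _ ⟨a, b, rfl⟩
    show α ⁅a, b⁆ = ⁅a, b⁆
    obtain ⟨z, hz, hza⟩ : ∃ z ∈ Subgroup.center X, α a = z * a :=
      ⟨α a * a⁻¹, h a, by group⟩
    obtain ⟨w, hw, hwb⟩ : ∃ w ∈ Subgroup.center X, α b = w * b :=
      ⟨α b * b⁻¹, h b, by group⟩
    rw [Subgroup.mem_center_iff] at hz hw
    have hz' : ∀ g : X, Commute z g := fun g => (hz g).symm
    have hw' : ∀ g : X, Commute w g := fun g => (hw g).symm
    rw [map_commutatorElement, hza, hwb, commutatorElement_def, commutatorElement_def]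
    calc z * a * (w * b) * (z * a)⁻¹ * (w * b)⁻¹
        = z * (a * w) * b * a⁻¹ * z⁻¹ * b⁻¹ * w⁻¹ := by group
      _ = z * (w * a) * b * a⁻¹ * (z⁻¹ * b⁻¹) * w⁻¹ := by rw [(hw' a).eq]; group
      _ = z * (w * a) * b * a⁻¹ * (b⁻¹ * z⁻¹) * w⁻¹ := by rw [((hz' b⁻¹).inv_left).eq]
      _ = (z * w) * (a * b * a⁻¹ * b⁻¹) * (z⁻¹ * w⁻¹) := by group
      _ = (a * b * a⁻¹ * b⁻¹) * (z * w) * (z⁻¹ * w⁻¹) := by
            rw [((hz' _).mul_left (hw' _)).eq]
      _ = a * b * a⁻¹ * b⁻¹ := by rw [((hz' w).eq)]; group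
  intro x
  exact h1 (hperf ▸ Subgroup.mem_top x)

end Cfsg.Agent.S1304
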