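import Cfsg.Statements.S2764
import Cfsg.Agent.H71.BGNP.Chief

set_option autoImplicit false
open Cfsg

namespace Cfsg.Agent.S2764

/-- Pushing up for a rank-one quotient: let G be a finite group and p a prime with C_G(O_p(G)) ≤ O_p(G), suppose G/K ≅ PSL₂(p^n) for some normal subgroup K and some n ≥ 1, that a Sylow p-subgroup S of G lies in exactly one maximal subgroup of G, and that no nontrivial characteristic subgroup of S is normal in G. Then G/O_p(G) ≅ SL₂(p^n), and every noncentral chief factor U/W of G inside O_p(G) is a natural SL₂-module over the field with p^n elements for the action of G/W. -/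
theorem result {G : Type*} [Group G] [Finite G] {p : ℕ} [Fact p.Prime] (S : Sylow p G) (hE₁ : Subgroup.centralizer (Cfsg.pCore p G : Set G) ≤ Cfsg.pCore p G) (hE₂ : ∃! M : Subgroup G, IsCoatom M ∧ (S : Subgroup G) ≤ M) (K : Subgroup G) [K.Normal] (F : Type) [Field F] [Fintype F] (n : ℕ) (hn : 1 ≤ n) (hF : Fintype.card F = p ^ n) (hE₃ : Nonempty (G ⧸ K ≃* Matrix.ProjectiveSpecialLinearGroup (Fin 2) F)) (hd : ∀ T : Subgroup ↥(S : Subgroup G), T ≠ ⊥ → T.Characteristic → ¬ (T.map (S : Subgroup G).subtype).Normal) : Nonempty (G ⧸ Cfsg.pCore p G ≃* Matrix.SpecialLinearGroup (Fin 2) F) ∧ ∀ (U W : Subgroup G) [W.Normal], U ≤ Cfsg.pCore p G → Cfsg.IsChiefFactor U W → ¬ ⁅U, (⊤ : Subgroup G)⁆ ≤ W → Cfsg.IsNaturalSL2Module F (U.map (QuotientGroup.mk' W)) (⊤ : Subgroup (G ⧸ W)) := by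
  obtain ⟨e⟩ := hE₃
  obtain ⟨ψ, h⟩ := H71.BGNP.exists_sit hF K e S hE₁ hE₂ hd
  obtain ⟨S', hS'⟩ := h.exists_lower
  obtain ⟨r, hr⟩ := h.exists_natHom hS'
  refine ⟨⟨(QuotientGroup.quotientMulEquivOfEq (h.ker_natHom hS' hr).symm).trans
    (QuotientGroup.quotientKerEquivOfSurjective r hr.2.2)⟩, fun U W _ hU hc hnc => ?_⟩
  obtain ⟨r', hr', θ, hθ⟩ := h.chief_natural hS' hc hU hnc
  have hW : W ≤ r'.ker := by
    rw [h.ker_natHom hS' hr']
    exact hc.1.le.trans hU
  refine ⟨?_, (QuotientGroup.lift W r' hW).comp (⊤ : Subgroup (G ⧸ W)).subtype, θ.symm, ?_, ?_, ?_⟩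
  · haveI : (U.map (QuotientGroup.mk' W)).Normal :=
      Subgroup.Normal.map hc.2.1 _ (QuotientGroup.mk'_surjective W)
    rw [Subgroup.normalizer_eq_top]
  · intro m
    obtain ⟨g, rfl⟩ := hr'.2.2 m
    exact ⟨⟨QuotientGroup.mk' W g, Subgroup.mem_top _⟩, rfl⟩
  · ext ⟨l, hl⟩
    obtain ⟨g, rfl⟩ := QuotientGroup.mk'_surjective W l
    rw [MonoidHom.mem_ker, Subgroup.mem_subgroupOf, Subgroup.mem_centralizer_iff]
    show r' g = 1 ↔ _
    constructor
    · intro hg v hv
      have h1 := hθ g (θ.symm (Additive.ofMul ⟨v, hv⟩))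
      rw [hg, Matrix.SpecialLinearGroup.coe_one, Matrix.one_mulVec, AddEquiv.apply_symm_apply] at h1
      exact (mul_inv_eq_iff_eq_mul.1 h1).symm
    · intro hg
      refine Subtype.ext (Matrix.ext_of_mulVec_single fun i => θ.injective ?_)
      rw [Matrix.SpecialLinearGroup.coe_one, Matrix.one_mulVec]
      refine congrArg Additive.ofMul (Subtype.ext ?_)
      have h1 := hθ g (Pi.single i 1)
      have h2 := hg _ (Additive.toMul (θ (Pi.single i 1))).2
      refine h1.symm.trans (mul_inv_eq_iff_eq_mul.2 ?_)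
      exact h2.symm
  · rintro ⟨l, hl⟩ v
    obtain ⟨g, rfl⟩ := QuotientGroup.mk'_surjective W l
    refine ⟨Additive.toMul (θ (((r' g : Matrix.SpecialLinearGroup (Fin 2) F) :
      Matrix (Fin 2) (Fin 2) F).mulVec (θ.symm (Additive.ofMul v)))), ?_, ?_⟩
    · rw [← hθ g, AddEquiv.apply_symm_apply]
      rfl
    · rw [ofMul_toMul, AddEquiv.symm_apply_apply]
      rfl

end Cfsg.Agent.S2764
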