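import Cfsg.Statements.S0218
import Cfsg.Agent.H65.Dihedral
import Mathlib.GroupTheory.SpecificGroups.Quaternion

set_option autoImplicit false
open Cfsg

namespace Cfsg.Agent.S0218

/-- The generalized quaternion group of order 2^(n+3) contains exactly one element of order 2. -/
theorem result (n : ℕ) : Nat.card {x : QuaternionGroup (2 ^ (n + 1)) // orderOf x = 2} = 1 := by
  have hn2 : 2 ^ (n + 1) = 2 * 2 ^ n := by rw [pow_succ, mul_comm]
  refine Nat.card_eq_one_iff_exists.2 ⟨⟨QuaternionGroup.a ((2 ^ (n + 1) : ℕ) : ZMod _), ?_⟩, ?_⟩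
  · rw [H65.two_iff]
    constructor
    · rw [QuaternionGroup.a_mul_a, QuaternionGroup.one_def]
      congr 1
      rw [← Nat.cast_add, ← two_mul, ZMod.natCast_self]
    · rw [QuaternionGroup.one_def]
      intro h
      have h0 := QuaternionGroup.a.inj h
      rw [ZMod.natCast_eq_zero_iff] at h0
      have := Nat.le_of_dvd (by positivity) h0
      have : 0 < 2 ^ (n + 1) := by positivity
      omega
  · rintro ⟨(i | i), hi⟩
    · refine Subtype.ext (congrArg QuaternionGroup.a ?_)
      have h1 := (H65.two_iff.1 hi).1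
      rw [QuaternionGroup.a_mul_a, QuaternionGroup.one_def] at h1
      have h2 : i + i = 0 := QuaternionGroup.a.inj h1
      have h3 : i ≠ 0 := fun h0 => (H65.two_iff.1 hi).2 (by rw [h0]; rfl)
      have hlt := ZMod.val_lt i
      have hv : i.val + i.val = 2 * 2 ^ (n + 1) := by
        have h4 : ((i.val + i.val : ℕ) : ZMod (2 * 2 ^ (n + 1))) = 0 := by
          rw [Nat.cast_add, ZMod.natCast_zmod_val, h2]
        obtain ⟨k, hk⟩ := (ZMod.natCast_eq_zero_iff _ _).1 h4
        have hpos : 0 < i.val := Nat.pos_of_ne_zero fun h => h3 ((ZMod.val_eq_zero i).1 h)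
        have hk0 : k ≠ 0 := fun h => by rw [h] at hk; omega
        have hk2 : k < 2 := by
          by_contra hh
          have : 2 * 2 ^ (n + 1) * 2 ≤ 2 * 2 ^ (n + 1) * k := Nat.mul_le_mul_left _ (by omega)
          omega
        have : k = 1 := by omega
        subst this
        omega
      rw [← ZMod.natCast_zmod_val i]
      congr 1
      omega
    · have h1 := (H65.two_iff.1 hi).1
      rw [QuaternionGroup.xa_mul_xa, QuaternionGroup.one_def] at h1
      have h2 := QuaternionGroup.a.inj h1
      rw [add_sub_assoc, sub_self, add_zero, ZMod.natCast_eq_zero_iff] at h2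
      have := Nat.le_of_dvd (by positivity) h2
      have : 0 < 2 ^ (n + 1) := by positivity
      omega

end Cfsg.Agent.S0218
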