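import Cfsg.Statements.S1235
import Cfsg.Agent.H80.DihFour
import Cfsg.Agent.H31.FixedFour
import Cfsg.Agent.H67.QDStruct

set_option autoImplicit false
open Cfsg

namespace Cfsg.Agent.S1235

open H31.SR H80.DihFour
open scoped commutatorElement

universe u v

theorem bd_one_cyclic {G : Type u} [Group G] [Finite G] (g : G) : Bd 1 (Subgroup.zpowers g) := by
  intro H N hH hs
  haveI : IsCyclic H := Subgroup.isCyclic_of_le hH
  obtain ⟨⟨h, hhH⟩, hgen⟩ := IsCyclic.exists_generator (α := H)
  have hHe : H = Subgroup.zpowers h := by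
    refine le_antisymm (fun x hx => ?_) (Subgroup.zpowers_le.mpr hhH)
    obtain ⟨k, hk⟩ := Subgroup.mem_zpowers_iff.mp (hgen ⟨x, hx⟩)
    exact Subgroup.mem_zpowers_iff.mpr ⟨k, congrArg Subtype.val hk⟩
  have h1 := zpowers_quot_le h
  have h2 := Subgroup.card_le_of_le (Subgroup.zpowers_le.mpr (hs.sq h hhH))
  have h3 := relIndex_mul_card hs.le
  rw [hHe] at h3 ⊢
  refine Nat.le_of_mul_le_mul_right ?_ (Nat.card_pos (α := N))
  rw [h3, pow_one]
  omega

theorem bd_two_of_index_two {X : Type u} [Group X] [Finite X] (x : X) (h : (Subgroup.zpowers x).index = 2) :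
    Bd 2 (⊤ : Subgroup X) := by
  haveI := Subgroup.normal_of_index_eq_two h
  refine bd_of_map_ker (QuotientGroup.mk' (Subgroup.zpowers x)) (r := 1) (s := 1) ?_ ?_
  · exact bd_of_card_le (le_trans (Subgroup.card_le_card_group _) (by rw [← Subgroup.index_eq_card, h]; norm_num))
  · rw [QuotientGroup.ker_mk', top_inf_eq]
    exact bd_one_cyclic x

/-- What is used about a dihedral or quasi-dihedral group. -/
theorem dihedral_facts {m : ℕ} (hm : 2 ≤ m) : Bd 2 (⊤ : Subgroup (DihedralGroup m)) ∧
    (2 < m → Nat.card (Subgroup.center (DihedralGroup m)) ≤ 2) := by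
  haveI : NeZero m := ⟨by omega⟩
  haveI : Fact (1 < m) := ⟨by omega⟩
  refine ⟨bd_two_of_index_two (DihedralGroup.r 1) ?_, fun hm2 => ?_⟩
  · have h1 := Subgroup.card_mul_index (Subgroup.zpowers (DihedralGroup.r (1 : ZMod m)))
    rw [Nat.card_zpowers, DihedralGroup.orderOf_r_one, DihedralGroup.nat_card] at h1
    exact Nat.eq_of_mul_eq_mul_left (show 0 < m by omega) (h1.trans (mul_comm _ _))
  · classical
    have key : ∀ c : Subgroup.center (DihedralGroup m), ∃ j : ZMod m, (c : DihedralGroup m) = DihedralGroup.r j ∧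
        j + j = 0 := by
      rintro ⟨c, hc⟩
      rcases c with j | j
      · refine ⟨j, rfl, ?_⟩
        have h1 := Subgroup.mem_center_iff.mp hc (DihedralGroup.sr 0)
        rw [DihedralGroup.sr_mul_r, DihedralGroup.r_mul_sr, DihedralGroup.sr.injEq, zero_add, zero_sub] at h1
        linear_combination h1
      · have h1 := Subgroup.mem_center_iff.mp hc (DihedralGroup.r 1)
        rw [DihedralGroup.sr_mul_r, DihedralGroup.r_mul_sr, DihedralGroup.sr.injEq] at h1
        have h2 : ((2 : ℕ) : ZMod m) = 0 := by push_cast; linear_combination -h1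
        rw [ZMod.natCast_eq_zero_iff] at h2
        exact absurd (Nat.le_of_dvd two_pos h2) (by omega)
    choose j hj hj2 using key
    have hhalf : ∀ k : ZMod m, k + k = 0 → k ≠ 0 → 2 * k.val = m := by
      intro k hk hk0
      have h1 : m ∣ 2 * k.val := by
        rw [← ZMod.natCast_eq_zero_iff, Nat.cast_mul, ZMod.natCast_zmod_val]
        simpa [two_mul] using hk
      have h2 := ZMod.val_lt k
      have h3 : k.val ≠ 0 := fun h => hk0 ((ZMod.val_eq_zero k).1 h)
      obtain ⟨l, hl⟩ := h1
      rcases l with _ | _ | l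
      · omega
      · omega
      · nlinarith
    have h2 := Nat.card_le_card_of_injective (fun c => decide (j c = 0)) (by
      intro a b hab
      apply Subtype.ext
      rw [hj a, hj b]
      congr 1
      by_cases h : j a = 0
      · rw [h, show j b = 0 from (by simpa [h] using hab.symm)]
      · have hb : j b ≠ 0 := by simpa [h] using hab.symm
        exact ZMod.val_injective m (by have := hhalf _ (hj2 a) h; have := hhalf _ (hj2 b) hb; omega))
    rwa [Nat.card_eq_fintype_card (α := Bool), Fintype.card_bool] at h2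

theorem bd_equiv {X : Type u} {Y : Type v} [Group X] [Finite X] [Group Y] [Finite Y] {r : ℕ} (e : X ≃* Y)
    (h : Bd r (⊤ : Subgroup Y)) : Bd r (⊤ : Subgroup X) := by
  intro H N _ hs
  rw [← Subgroup.relIndex_map_map_of_injective N H (f := e.toMonoidHom) e.injective]
  exact h _ _ le_top (hs.map _)

theorem center_equiv {X : Type u} {Y : Type v} [Group X] [Group Y] [Finite Y] (e : X ≃* Y) :
    Nat.card (Subgroup.center X) ≤ Nat.card (Subgroup.center Y) :=
  Nat.card_le_card_of_injective (fun c => ⟨e c, Subgroup.mem_center_iff.mpr fun y => by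
    rw [← e.apply_symm_apply y, ← map_mul, ← map_mul, Subgroup.mem_center_iff.mp c.2]⟩)
    fun a b h => Subtype.ext (e.injective (congrArg Subtype.val h))

theorem bd_range {X : Type u} {G : Type v} [Group X] [Finite X] [Group G] [Finite G] {r : ℕ} (φ : X →* G)
    (hφ : Function.Injective φ) (h : Bd r (⊤ : Subgroup X)) : Bd r φ.range := by
  intro H N hH hs
  have h1 := h (H.comap φ) (N.comap φ) le_top ⟨Subgroup.comap_mono hs.le,
    fun x hx y hy => by rw [Subgroup.mem_comap, map_commutatorElement]; exact hs.comm _ hx _ hy,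
    fun x hx => by rw [Subgroup.mem_comap, map_mul]; exact hs.sq _ hx⟩
  rwa [← Subgroup.relIndex_map_map_of_injective _ _ hφ, Subgroup.map_comap_eq_self (hs.le.trans hH),
    Subgroup.map_comap_eq_self hH] at h1

/-- Sectional rank is read off a Sylow 2-subgroup. -/
theorem bd_of_sylow {G : Type u} [Group G] [Finite G] {r : ℕ} (S : Sylow 2 G) (h : Bd r (S : Subgroup G)) :
    Bd r (⊤ : Subgroup G) := by
  haveI : Fact (Nat.Prime 2) := ⟨Nat.prime_two⟩
  intro H N _ hs
  haveI := hs.normal
  obtain ⟨Q⟩ : Nonempty (Sylow 2 H) := inferInstance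
  set π := QuotientGroup.mk' (N.subgroupOf H) with hπ
  have h2q : IsPGroup 2 (H ⧸ N.subgroupOf H) := by
    intro q
    obtain ⟨x, rfl⟩ := QuotientGroup.mk'_surjective _ q
    refine ⟨1, ?_⟩
    rw [pow_one, pow_two, ← map_mul]
    exact (QuotientGroup.eq_one_iff _).mpr (hs.sq x x.2)
  have htop : (Q : Subgroup H).map π = ⊤ := by
    set Q' := Q.mapSurjective (f := π) (QuotientGroup.mk'_surjective _) with hQ'
    show (Q' : Subgroup (H ⧸ N.subgroupOf H)) = ⊤
    exact (Q'.is_maximal' (IsPGroup.of_equiv h2q Subgroup.topEquiv.symm) le_top).symm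
  set K := (Q : Subgroup H).map H.subtype with hK
  have hrel : N.relIndex H = N.relIndex K := by
    have h1 : (N.subgroupOf H).relIndex (Q : Subgroup H) = N.relIndex H := by
      have h3 := Subgroup.relIndex_ker (f := π) (K := (Q : Subgroup H))
      rw [htop, Subgroup.card_top, hπ, QuotientGroup.ker_mk'] at h3
      rw [h3, ← Subgroup.index_eq_card]
      rfl
    rw [← h1, hK, ← Subgroup.relIndex_map_map_of_injective (N.subgroupOf H) _ H.subtype_injective,
      Subgroup.map_subgroupOf_eq_of_le hs.le]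
  have hKH : K ≤ H := Subgroup.map_subtype_le _
  have hKp : IsPGroup 2 K := Q.isPGroup'.map _
  obtain ⟨S', hS'⟩ := hKp.exists_le_sylow
  obtain ⟨g, hg⟩ := MulAction.exists_smul_eq G S' S
  have hconj : K.map (MulAut.conj g).toMonoidHom ≤ (S : Subgroup G) := by
    rintro _ ⟨x, hx, rfl⟩
    rw [← hg, Sylow.coe_subgroup_smul]
    exact Subgroup.smul_mem_pointwise_smul x _ _ (hS' hx)
  have hsec : Sec K (N ⊓ K) := by
    have := hs.inf K
    rwa [inf_eq_right.mpr hKH] at this
  have h4 := h _ _ hconj (hsec.map (MulAut.conj g).toMonoidHom)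
  rw [Subgroup.relIndex_map_map_of_injective _ _ (MulAut.conj g).injective, Subgroup.inf_relIndex_right] at h4
  rwa [hrel]

theorem center_mem {X : Type u} [Group X] [Finite X] {m : ℕ} (h : Nat.card (Subgroup.center X) ≤ m) {c : X}
    (hc : c ∈ Subgroup.center X) (hm : m = 2) : c * c = 1 := by
  by_contra hne
  have hc1 : c ≠ 1 := fun e => hne (by rw [e, one_mul])
  have hsub : ({1, c, c * c} : Set X) ⊆ (Subgroup.center X : Set X) := by
    rintro x (rfl | rfl | rfl)
    exacts [one_mem _, hc, mul_mem hc hc]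
  have h1 := Set.ncard_le_ncard hsub (Set.toFinite _)
  rw [← Nat.card_coe_set_eq] at h1
  change _ ≤ Nat.card (Subgroup.center X) at h1
  rw [Nat.card_coe_set_eq, Set.ncard_insert_of_notMem, Set.ncard_pair] at h1
  · omega
  · exact fun e => hc1 (mul_eq_left.mp e.symm)
  · simp only [Set.mem_insert_iff, Set.mem_singleton_iff, not_or]
    exact ⟨hc1.symm, fun e => hne e.symm⟩

/-- Let G be a finite group, x an involution and T ≤ G a Sylow 2-subgroup of C_G(x) (T ≤ C_G(x) with |C_G(x) : T| odd) which is the internal direct product of a subgroup D that is dihedral (of order ≥ 4) or quasi-dihedral and a Klein four-subgroup B. Suppose that for every involution b ∈ B, T ≤ C_G(b) with |C_G(b) : T| odd. Then every section of G has 2-rank at most 4. -/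
theorem result {G : Type*} [Group G] [Finite G] (x : G) (hx : orderOf x = 2) (T D B : Subgroup G) (hT : IsPGroup 2 T) (hTx : T ≤ Subgroup.centralizer ({x} : Set G)) (hTxi : Odd (T.relIndex (Subgroup.centralizer ({x} : Set G)))) (hprod : Cfsg.IsInternalDirectProduct D B T) (hD : (∃ m : ℕ, 2 ≤ m ∧ Nonempty (D ≃* DihedralGroup m)) ∨ Cfsg.IsQuasiDihedral D) (hB : IsKleinFour B) (hTb : ∀ b ∈ B, orderOf b = 2 → T ≤ Subgroup.centralizer ({b} : Set G) ∧ Odd (T.relIndex (Subgroup.centralizer ({b} : Set G)))) : Cfsg.SectionalPRankLE 2 4 G := by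
  haveI : Fact (Nat.Prime 2) := ⟨Nat.prime_two⟩
  obtain ⟨S, hTS⟩ := hT.exists_le_sylow
  refine sr_of_bd (bd_of_sylow S ?_)
  obtain ⟨hDT, hBT, hcomm, hdisj, hsup⟩ := hprod
  have hBsq : ∀ b ∈ B, b * b = 1 := fun b hb => congrArg Subtype.val (@IsKleinFour.mul_self _ _ hB ⟨b, hb⟩)
  have hBc : ∀ b ∈ B, ∀ b' ∈ B, b * b' = b' * b := fun b hb b' hb' =>
    congrArg Subtype.val ((@IsKleinFour.isMulCommutative _ _ hB).is_comm.comm ⟨b, hb⟩ ⟨b', hb'⟩)
  have hB4 : Nat.card B = 4 := hB.card_four
  -- centralisers in `S`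
  have hCS : ∀ b ∈ B, b ≠ 1 → (S : Subgroup G) ⊓ Subgroup.centralizer ({b} : Set G) = T := by
    intro b hb hb1
    obtain ⟨h1, h2⟩ := hTb b hb (orderOf_eq_prime (by rw [pow_two]; exact hBsq b hb) hb1)
    refine le_antisymm ?_ (le_inf hTS h1)
    set C := (S : Subgroup G) ⊓ Subgroup.centralizer ({b} : Set G) with hC
    have h3 : T.relIndex C ∣ T.relIndex (Subgroup.centralizer ({b} : Set G)) :=
      Dvd.intro _ (Subgroup.relIndex_mul_relIndex T C _ (le_inf hTS h1) inf_le_right)
    obtain ⟨k, hk⟩ := IsPGroup.iff_card.mp (S.isPGroup'.to_le (inf_le_left : C ≤ (S : Subgroup G)))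
    have h4 : T.relIndex C ∣ 2 ^ k := hk ▸ Dvd.intro _ (relIndex_mul_card (le_inf hTS h1))
    have h5 : T.relIndex C = 1 := by
      obtain ⟨j, -, hj⟩ := (Nat.dvd_prime_pow Nat.prime_two).mp h4
      rcases j with _ | j
      · simpa using hj
      · exfalso
        rw [Nat.odd_iff] at h2
        obtain ⟨l, hl⟩ := (Dvd.intro _ (pow_succ' 2 j).symm : 2 ∣ 2 ^ (j + 1))
        obtain ⟨l', hl'⟩ := h3
        rw [hl', hj, hl] at h2
        rw [Nat.mul_assoc, Nat.mul_mod_right] at h2
        exact absurd h2 (by norm_num)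
    exact Subgroup.relIndex_eq_one.mp h5
  let φ : D × B →* G := MonoidHom.noncommCoprod D.subtype B.subtype fun d b => hcomm d d.2 b b.2
  have hφ_apply : ∀ (d : D) (b : B), φ (d, b) = (d : G) * b := fun d b => rfl
  have hφinj : Function.Injective φ := by
    rintro ⟨d, b⟩ ⟨d', b'⟩ e
    rw [hφ_apply, hφ_apply] at e
    have h1 : (d' : G)⁻¹ * d = b' * (b : G)⁻¹ := by
      rw [inv_mul_eq_iff_eq_mul, ← mul_assoc, eq_mul_inv_iff_mul_eq]; exact e
    have h2 : (d' : G)⁻¹ * d ∈ D ⊓ B := ⟨D.mul_mem (D.inv_mem d'.2) d.2, h1 ▸ B.mul_mem b'.2 (B.inv_mem b.2)⟩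
    rw [hdisj, Subgroup.mem_bot, inv_mul_eq_one] at h2
    rw [h2] at e
    exact Prod.ext (Subtype.ext h2.symm) (Subtype.ext (mul_left_cancel e))
  have hrange : φ.range = T := by
    rw [← hsup]
    refine le_antisymm ?_ (sup_le (fun d hd => ⟨(⟨d, hd⟩, 1), by rw [hφ_apply]; exact mul_one d⟩)
      (fun b hb => ⟨(1, ⟨b, hb⟩), by rw [hφ_apply]; exact one_mul b⟩))
    rintro _ ⟨⟨d, b⟩, rfl⟩
    rw [hφ_apply]
    exact (D ⊔ B).mul_mem (le_sup_left (b := B) d.2) (le_sup_right (a := D) b.2)
  have hfacts : Bd 2 (⊤ : Subgroup D) ∧ (Nat.card (Subgroup.center D) ≤ 2 ∨ Nat.card D = 4 ∧ ∀ d : D, d * d = 1) := by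
    rcases hD with ⟨m, hm, ⟨e⟩⟩ | hQ
    · haveI : NeZero m := ⟨by omega⟩
      obtain ⟨h1, h2⟩ := dihedral_facts hm
      refine ⟨bd_equiv e h1, ?_⟩
      rcases (show m = 2 ∨ 2 < m by omega) with rfl | hm2
      · refine Or.inr ⟨by rw [Nat.card_congr e.toEquiv, DihedralGroup.nat_card], fun d => e.injective ?_⟩
        rw [map_mul, map_one]
        have : ∀ a : DihedralGroup 2, a * a = 1 := by decide
        exact this _
      · exact Or.inl ((center_equiv e).trans (h2 hm2))
    · obtain ⟨n, a, y, h⟩ := H67.exists_QD hQ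
      exact ⟨bd_two_of_index_two a h.zpowers_index, Or.inl h.card_center.le⟩
  obtain ⟨hbd2, hcase⟩ := hfacts
  by_cases hST : (S : Subgroup G) ≤ T
  · -- `T` is the Sylow subgroup
    rw [le_antisymm hST hTS, ← hrange]
    refine bd_range φ hφinj ?_
    refine bd_of_map_ker (MonoidHom.fst D B) (r := 2) (s := 2) ?_ ?_
    · rw [Subgroup.map_top_of_surjective _ Prod.fst_surjective]; exact hbd2
    · rw [top_inf_eq]
      refine bd_of_card_le (le_of_eq ?_)
      show _ = 4
      have h1 := card_eq_map_mul (MonoidHom.fst D B) ⊤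
      rw [Subgroup.card_top, Nat.card_prod, Subgroup.map_top_of_surjective _ Prod.fst_surjective, Subgroup.card_top,
        top_inf_eq, hB4] at h1
      exact (Nat.eq_of_mul_eq_mul_left Nat.card_pos h1).symm
  · rcases hcase with hcen | ⟨hD4, hDsq⟩
    · exfalso
      set T₀ := T.subgroupOf (S : Subgroup G) with hT₀
      have hne : T₀ ≠ ⊤ := fun e => hST (Subgroup.subgroupOf_eq_top.mp e)
      obtain ⟨⟨n, hnS⟩, hnN, hnT, hn2, -⟩ := exists_step S.isPGroup' (exists_norm_not_mem S.isPGroup' hne)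
      have hnT' : n ∉ T := hnT
      have hn2' : n * n ∈ T := hn2
      have hnconj : ∀ t ∈ T, n * t * n⁻¹ ∈ T := fun t ht =>
        conj_mem_of_norm hnN (x := (⟨t, hTS ht⟩ : (S : Subgroup G))) ht
      set Z := (Subgroup.center (D × B)).map φ with hZ
      have hZ8 : Nat.card Z ≤ 8 := by
        rw [hZ, Subgroup.card_map_of_injective hφinj]
        have h1 := Nat.card_le_card_of_injective
          (fun c : Subgroup.center (D × B) => ((⟨c.1.1, Subgroup.mem_center_iff.mpr fun d =>
            congrArg Prod.fst (Subgroup.mem_center_iff.mp c.2 (d, 1))⟩ : Subgroup.center D), c.1.2))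
          (fun a b e => by
            simp only [Prod.mk.injEq, Subtype.mk.injEq] at e
            exact Subtype.ext (Prod.ext e.1 e.2))
        rw [Nat.card_prod, hB4] at h1
        omega
      have hZsq : ∀ z ∈ Z, z * z = 1 := by
        rintro _ ⟨⟨d, b⟩, hc, rfl⟩
        rw [← map_mul]
        have hd : d * d = 1 := center_mem hcen (Subgroup.mem_center_iff.mpr fun d' =>
          congrArg Prod.fst (Subgroup.mem_center_iff.mp hc (d', 1))) rfl
        rw [Prod.mk_mul_mk, hd, show b * b = 1 from Subtype.ext (hBsq b b.2)]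
        exact map_one φ
      have hZT : Z ≤ T := hrange ▸ Subgroup.map_le_range _ _
      have hZcomm : ∀ z ∈ Z, ∀ t ∈ T, z * t = t * z := by
        rintro _ ⟨c, hc, rfl⟩ t ht
        obtain ⟨a, rfl⟩ := (hrange.symm ▸ ht : t ∈ φ.range)
        rw [← map_mul, ← map_mul, Subgroup.mem_center_iff.mp hc a]
      have hZmem : ∀ z ∈ T, (∀ t ∈ T, z * t = t * z) → z ∈ Z := by
        intro z hz hzc
        obtain ⟨a, rfl⟩ := (hrange.symm ▸ hz : z ∈ φ.range)
        refine ⟨a, Subgroup.mem_center_iff.mpr fun a' => hφinj ?_, rfl⟩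
        rw [map_mul, map_mul]
        exact (hzc _ (hrange ▸ ⟨a', rfl⟩)).symm
      have hBZ : B ≤ Z := fun b hb => hZmem b (hBT hb) fun t ht => by
        obtain ⟨⟨d, b'⟩, rfl⟩ := (hrange.symm ▸ ht : t ∈ φ.range)
        rw [hφ_apply, ← mul_assoc, ← hcomm d d.2 b hb, mul_assoc, hBc b hb b' b'.2, mul_assoc]
      have hZn : ∀ z ∈ Z, n * z * n⁻¹ ∈ Z := by
        intro z hz
        refine hZmem _ (hnconj z (hZT hz)) fun t ht => ?_
        have hninv : n⁻¹ * t * n ∈ T := by
          have := conj_mem_of_norm ((Subgroup.normalizer ((T₀ : Subgroup (S : Subgroup G)) : Set (S : Subgroup G))).inv_mem hnN)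
            (x := (⟨t, hTS ht⟩ : (S : Subgroup G))) ht
          have h2 : n⁻¹ * t * n⁻¹⁻¹ ∈ T := this
          rwa [inv_inv] at h2
        calc n * z * n⁻¹ * t = n * (z * (n⁻¹ * t * n)) * n⁻¹ := by group
          _ = n * ((n⁻¹ * t * n) * z) * n⁻¹ := by rw [hZcomm z hz _ hninv]
          _ = t * (n * z * n⁻¹) := by group
      set F := Z ⊓ Subgroup.centralizer ({n} : Set G) with hF
      have hFB : ∀ f ∈ F, f ∈ B → f = 1 := by
        intro f hf hfB
        by_contra hf1
        refine hnT' ?_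
        rw [← hCS f hfB hf1]
        exact ⟨hnS, Subgroup.mem_centralizer_singleton_iff.mpr (Subgroup.mem_centralizer_singleton_iff.mp hf.2).symm⟩
      have h1 := card_le_fixed_sq Z hZsq (fun z hz w hw => hZcomm z hz w (hZT hw)) n hZn
        (fun z hz => (hZcomm z hz _ hn2').symm)
      let J : B × F → Z := fun p => ⟨(p.1 : G) * p.2, Z.mul_mem (hBZ p.1.2) p.2.2.1⟩
      have hJ : Function.Injective J := by
        rintro ⟨b, w⟩ ⟨b', w'⟩ e
        have e' : (b : G) * w = b' * w' := congrArg Subtype.val e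
        have h2 : (b' : G)⁻¹ * b = w' * (w : G)⁻¹ := by
          rw [inv_mul_eq_iff_eq_mul, ← mul_assoc, eq_mul_inv_iff_mul_eq]; exact e'
        have h3 := hFB _ (h2 ▸ F.mul_mem w'.2 (F.inv_mem w.2)) (B.mul_mem (B.inv_mem b'.2) b.2)
        have hb : (b : G) = b' := (inv_mul_eq_one.mp h3).symm
        refine Prod.ext (Subtype.ext hb) (Subtype.ext ?_)
        rw [hb] at e'
        exact mul_left_cancel e'
      have h2 := Nat.card_le_card_of_injective J hJ
      rw [Nat.card_prod, hB4] at h2
      have h3 := Subgroup.card_le_of_le hBZ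
      rw [hB4] at h3
      change Nat.card Z ≤ Nat.card F * Nat.card F at h1
      have hF2 : Nat.card F ≤ 2 := by omega
      have hZ4 : Nat.card Z ≤ 4 := le_trans h1 (Nat.mul_le_mul hF2 hF2)
      have hZB : Z ≤ B := (Subgroup.eq_of_le_of_card_ge hBZ (by omega)).ge
      have hFbot : F = ⊥ := Subgroup.eq_bot_iff_forall _ |>.mpr fun f hf => hFB f hf (hZB hf.1)
      rw [hFbot, Subgroup.card_bot] at h1
      omega
    · -- `T` is elementary abelian of order 16
      have hTsq : ∀ t ∈ T, t * t = 1 := by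
        intro t ht
        obtain ⟨⟨d, b⟩, rfl⟩ := (hrange.symm ▸ ht : t ∈ φ.range)
        rw [← map_mul, Prod.mk_mul_mk, hDsq d, show b * b = 1 from Subtype.ext (hBsq b b.2)]
        exact map_one φ
      have hT16 : Nat.card T = 16 := by
        rw [← hrange, ← Nat.card_congr (MonoidHom.ofInjective hφinj).toEquiv, Nat.card_prod, hD4, hB4]
      have c : Cfg (T.subgroupOf (S : Subgroup G)) (B.subgroupOf (S : Subgroup G)) :=
        { h2 := S.isPGroup'
          sq := fun t ht => Subtype.ext (hTsq t ht)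
          cardT := by rw [Nat.card_congr (Subgroup.subgroupOfEquivOfLe hTS).toEquiv, hT16]
          le := fun b hb => hBT hb
          cardB := by rw [Nat.card_congr (Subgroup.subgroupOfEquivOfLe (hBT.trans hTS)).toEquiv, hB4]
          cent := fun b hb hb1 => by
            ext y
            rw [Subgroup.mem_centralizer_singleton_iff, Subgroup.mem_subgroupOf, ← hCS b hb fun e => hb1 (Subtype.ext e),
              Subgroup.mem_inf, Subgroup.mem_centralizer_singleton_iff, Subtype.ext_iff]
            exact ⟨fun h => ⟨y.2, h⟩, fun h => h.2⟩ }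
      exact bd_subgroup (S : Subgroup G) c.bd

end Cfsg.Agent.S1235
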