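import Cfsg.Statements.S5342
import Cfsg.Agent.H86.Constrained
import Cfsg.Agent.H88.WeaklyNormal
import Cfsg.Prelude.Def_FusionComponents

set_option autoImplicit false
open Cfsg

namespace Cfsg.Agent.S5342

/-- Let F be a constrained saturated fusion system over a finite p-group S. Then every subsystem of F that is subnormal in F (reached from F by a finite chain of successive normal subsystems) is constrained. -/
theorem result {Ω : Type*} [Group Ω] {S : Subgroup Ω} [Finite S] (p : ℕ) [Fact p.Prime] (hS : IsPGroup p S) (F : Cfsg.FusionSystem S) (hF : F.IsConstrained p) {T : Subgroup Ω} (E : Cfsg.FusionSystem T) (hE : E.IsSubnormalIn F p) : E.IsConstrained p := by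
  have step : ∀ (U : Subgroup Ω) [Finite U] (_ : IsPGroup p U) (W : Subgroup Ω)
      (D : Cfsg.FusionSystem U) (E' : Cfsg.FusionSystem W),
      D.IsConstrained p → E'.IsNormalIn D p → E'.IsConstrained p := by
    intro U _ hU W D E' hD hE'
    obtain ⟨⟨hEsat, hDsat, hsub, hsc, -, -⟩, -⟩ := hE'
    haveI := H85.finite_of_le hsc.1
    obtain ⟨hnor, hcen, -⟩ := H86.core_spec hU hD
    have hQsc := H85.stronglyClosed_of_isNormal hnor
    set Q := D.core with hQ
    have hRsc : E'.StronglyClosed (Q ⊓ W) :=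
      ⟨inf_le_right, fun R hR φ hφ x =>
        ⟨hQsc.2 R (hR.trans inf_le_left) φ (hsub R hφ) x, (E'.le_of_mem hφ).2 x⟩⟩
    have hRn : E'.IsNormal (Q ⊓ W) := by
      refine H88.isNormal_of_char_wc (hU.to_le hsc.1) hEsat hRsc fun C hCR hC => ?_
      refine ⟨hCR.trans hRsc.1, fun φ hφ => ?_⟩
      refine H88.range_eq_of_le (hCR.trans hRsc.1) hφ fun x => ?_
      obtain ⟨ψ, hψ, hψx, hψQ⟩ := hnor.2 C φ (hsub C hφ)
      have hsc2 : D.StronglyClosed (Q ⊓ W) :=
        ⟨inf_le_left.trans hnor.1, fun R hR φ hφ x =>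
          ⟨hQsc.2 R (hR.trans inf_le_left) φ hφ x, hsc.2 R (hR.trans inf_le_right) φ hφ x⟩⟩
      rw [← hψx x]
      exact H88.char_map_mem hsc2 hCR hC hψ (inf_le_left.trans le_sup_right) x.2
    refine ⟨hEsat, Q ⊓ W, hRn, inf_le_right, fun R hR c hc => ?_⟩
    have hReq : R = Q ⊓ W := by
      obtain ⟨φ, hφ, rfl⟩ := hR
      haveI := H85.finite_of_le (hRsc.1 : Q ⊓ W ≤ W)
      refine Subgroup.eq_of_le_of_card_ge ?_ (H85.isConj_card ⟨φ, hφ, rfl⟩).le
      rintro _ ⟨x, rfl⟩
      exact hRsc.2 _ le_rfl φ hφ x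
    subst hReq
    refine ⟨H86.mem_core_of_stab hU hD W (fun a ha q hq => ?_) (hsc.1 hc.1) ?_ (fun q hq => ?_), hc.1⟩
    · exact hsc.2 (Subgroup.zpowers (q : Ω)) (Subgroup.zpowers_le.2 hq) _
        (H85.restrict ((H85.mem_autGroup hnor.1).1 ha) (Subgroup.zpowers_le.2 q.2))
        ⟨q, Subgroup.mem_zpowers _⟩
    · intro q hqQ hqW
      rw [← (H85.mem_centralizerIn.1 hc).2 q ⟨hqQ, hqW⟩, mul_inv_cancel_right]
    · have h1 := (H85.mem_normalizer_of_conj fun y hy =>
        H86.normal_of_stronglyClosed D hsc (hnor.1 hq) hy :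
          q ∈ Subgroup.normalizer (W : Set Ω))
      have h2 := H85.conj_mem_of_mem_normalizer (inv_mem h1) hc.1
      rw [inv_inv] at h2
      have h3 := W.mul_mem h2 (W.inv_mem hc.1)
      simpa [mul_assoc] using h3
  have main : ∀ {T S : Subgroup Ω} {E : Cfsg.FusionSystem T} {F : Cfsg.FusionSystem S} {q : ℕ},
      E.IsSubnormalIn F q → q = p → Finite S → IsPGroup p S → F.IsConstrained p → E.IsConstrained p := by
    intro T S E F q h
    induction h with
    | refl => exact fun _ _ _ hF => hF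
    | step _ hDF ih =>
      intro hq _ hS hF
      subst hq
      have hUS := hDF.1.2.2.2.1.1
      exact ih rfl (H85.finite_of_le hUS) (hS.to_le hUS) (step _ hS _ _ _ hF hDF)
  exact main hE rfl inferInstance hS hF

end Cfsg.Agent.S5342
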