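import Cfsg.Statements.S3922
import Cfsg.Agent.H27.ThreeSizes.ChainComposite

set_option autoImplicit false
open Cfsg

namespace Cfsg.Agent.S3922

/-- A finite group whose conjugacy classes have exactly three distinct sizes (1 and two further values) is solvable. -/
theorem result {G : Type*} [Group G] [Finite G] (n₁ n₂ : ℕ) (h12 : n₂ < n₁) (h2 : 1 < n₂)
    (h : ∀ x : G, (Subgroup.centralizer ({x} : Set G)).index = 1 ∨ (Subgroup.centralizer ({x} : Set G)).index = n₂ ∨
      (Subgroup.centralizer ({x} : Set G)).index = n₁)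
    (h₁ : ∃ x : G, (Subgroup.centralizer ({x} : Set G)).index = n₁) (h₂ : ∃ x : G, (Subgroup.centralizer ({x} : Set G)).index = n₂) :
    Group.IsSolvable G := by
  have hsz : ∀ x : G, x ∉ Subgroup.center G →
      (Subgroup.centralizer ({x} : Set G)).index = n₂ ∨
        (Subgroup.centralizer ({x} : Set G)).index = n₁ := fun x hx =>
    (h x).resolve_left fun he => hx (H27.index_cent_eq_one_iff.mp he)
  by_cases hd : n₂ ∣ n₁
  · obtain ⟨l, rfl⟩ := hd
    refine H27.Three.Chain.solvable (m := n₂) (l := l) ⟨h2, ?_, hsz, h₂, h₁⟩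
    by_contra hl
    have : n₂ * l ≤ n₂ * 1 := Nat.mul_le_mul_left n₂ (by omega)
    omega
  · refine H27.Three.NoIncl.solvable (a := n₂) (b := n₁) ⟨hsz, fun x y hx hy hle => ?_⟩
    have hdvd := Subgroup.index_dvd_of_le hle
    refine H27.Three.Chain.eq_of_le_of_index_eq hle ?_
    rcases hsz x hx with e₁ | e₁ <;> rcases hsz y hy with e₂ | e₂ <;> rw [e₁, e₂] at hdvd ⊢
    · exact absurd (Nat.le_of_dvd (by omega) hdvd) (by omega)
    · exact absurd hdvd hd

end Cfsg.Agent.S3922
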