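import Cfsg.Statements.S3192
import Cfsg.Agent.H8.Rank3Main
import Cfsg.Agent.H42.PSL2Even
import Cfsg.Agent.H39.AIC.Main
import Cfsg.Agent.H62.Basic

set_option autoImplicit false
open Cfsg

namespace Cfsg.Agent.S3192

theorem centraliser_equiv_card {G H : Type*} [Group G] [Group H] (e : G ≃* H) (x : G) :
    H8.Rank3.cc x = H8.Rank3.cc (e x) := by
  refine Nat.card_congr (e.toEquiv.subtypeEquiv fun g => ?_)
  simp only [H8.Rank3.mem_Cz, MulEquiv.toEquiv_eq_coe, EquivLike.coe_coe, ← map_mul, e.injective.eq_iff]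

theorem ncard_index_eq {G : Type*} [Group G] [Finite G] [IsSimpleGroup G] (hna : ¬ IsMulCommutative G) :
    Set.ncard {m : ℕ | ∃ x : G, x ∉ Subgroup.center G ∧ m = (Subgroup.centralizer ({x} : Set G)).index}
      = Set.ncard {n : ℕ | ∃ x : G, x ≠ 1 ∧ n = H8.Rank3.cc x} := by
  have hidx : ∀ x : G, (Subgroup.centralizer ({x} : Set G)).index = Nat.card G / H8.Rank3.cc x := by
    intro x
    rw [← (Subgroup.centralizer ({x} : Set G)).card_mul_index, Nat.mul_div_cancel_left _ Nat.card_pos]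
  have e : {m : ℕ | ∃ x : G, x ∉ Subgroup.center G ∧ m = (Subgroup.centralizer ({x} : Set G)).index}
      = (fun n => Nat.card G / n) '' {n : ℕ | ∃ x : G, x ≠ 1 ∧ n = H8.Rank3.cc x} := by
    ext m
    simp only [Set.mem_image, Set.mem_setOf_eq, H8.Rank3.center_eq_bot hna, Subgroup.mem_bot, hidx]
    constructor
    · rintro ⟨x, hx, rfl⟩; exact ⟨_, ⟨x, hx, rfl⟩, rfl⟩
    · rintro ⟨n, ⟨x, hx, rfl⟩, rfl⟩; exact ⟨x, hx, rfl⟩
  rw [e]
  refine Set.InjOn.ncard_image ?_
  rintro n ⟨x, -, rfl⟩ n' ⟨y, -, rfl⟩ h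
  have h' : Nat.card G / H8.Rank3.cc x = Nat.card G / H8.Rank3.cc y := h
  have e1 := Nat.div_mul_cancel (H8.Rank3.cc_dvd x)
  rw [h'] at e1
  exact Nat.eq_of_mul_eq_mul_left
    (Nat.div_pos (Nat.le_of_dvd Nat.card_pos (H8.Rank3.cc_dvd y)) (H8.Rank3.cc_pos y))
    (e1.trans (Nat.div_mul_cancel (H8.Rank3.cc_dvd y)).symm)

theorem psl_orders {F : Type} [Field F] [Fintype F] [CharP F 2] (hq : 4 ≤ Fintype.card F) :
    {n : ℕ | ∃ x : Matrix.ProjectiveSpecialLinearGroup (Fin 2) F, x ≠ 1 ∧ n = H8.Rank3.cc x}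
      = {Fintype.card F, Fintype.card F + 1, Fintype.card F - 1} := by
  haveI : Fact (Nat.Prime 2) := ⟨Nat.prime_two⟩
  have htl : H39.transl (1 : F) ≠ 1 := H39.transl_ne_one one_ne_zero
  have hinv : ∀ x : Matrix.ProjectiveSpecialLinearGroup (Fin 2) F, orderOf x = 2 →
      H8.Rank3.cc x = Fintype.card F := by
    intro x hx
    obtain ⟨g, hg⟩ := isConj_iff.1 (H39.invol_isConj 2 (H39.AIC.orderOf_transl (one_ne_zero (α := F))) hx)
    rw [← hg, H8.Rank3.cc_conj]
    show Nat.card (Subgroup.centralizer _) = _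
    rw [H42.even_centralizer_eq htl, H39.card_tor_transl]
  ext n
  simp only [Set.mem_setOf_eq, Set.mem_insert_iff, Set.mem_singleton_iff]
  constructor
  · rintro ⟨x, hx, rfl⟩
    by_cases h2 : x ^ 2 = 1
    · exact Or.inl (hinv x (orderOf_eq_prime h2 hx))
    · exact Or.inr (H42.even_centralizer_card h2)
  · rintro (rfl | rfl | rfl)
    · exact ⟨_, htl, (hinv _ (H39.AIC.orderOf_transl one_ne_zero)).symm⟩
    · obtain ⟨y, hy, hc⟩ := H42.even_exists_nonsplit (F := F)
      exact ⟨y, fun h => hy (by rw [h, one_pow]), hc.symm⟩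
    · have hg := H42.even_gcd (F := F) H42.even_card_of_charTwo
      obtain ⟨y, hy, hc⟩ := H39.exists_tor_minus (F := F) 2 (by rw [hg, Nat.div_one]; omega)
      have hy1 : y ≠ 1 := fun h => hy (by rw [h, one_pow])
      refine ⟨y, hy1, ?_⟩
      show _ = Nat.card (Subgroup.centralizer _)
      rw [H42.even_centralizer_eq hy1, hc, hg, Nat.div_one]

/-- Simple groups of conjugate type rank three. For a finite group G consider the set of indices of the centralizers of the non-central elements of G. Then G is a non-abelian simple group for which this set has exactly three members if and only if G is isomorphic to PSL(2, 2^m) for some m ≥ 2. -/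
theorem result (G : Type*) [Group G] [Finite G] :
    (IsSimpleGroup G ∧ ¬ IsMulCommutative G ∧
        Set.ncard {m : ℕ | ∃ x : G, x ∉ Subgroup.center G ∧ m = (Subgroup.centralizer ({x} : Set G)).index} = 3) ↔
      ∃ (m : ℕ) (F : Type) (_ : Field F) (_ : Fintype F), 2 ≤ m ∧ Fintype.card F = 2 ^ m ∧
        Nonempty (G ≃* Matrix.ProjectiveSpecialLinearGroup (Fin 2) F) := by
  constructor
  · rintro ⟨hs, hna, h3⟩
    haveI := hs
    haveI : Fact (Nat.Prime 2) := ⟨Nat.prime_two⟩
    rw [ncard_index_eq hna] at h3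
    obtain ⟨T⟩ : Nonempty (Sylow 2 G) := Sylow.nonempty
    have h2 := H8.Rank3.two_dvd_card (G := G) hna
    have hc : ¬ IsCyclic (T : Subgroup G) :=
      H62.not_isCyclic_sylow_minFac hna ((Nat.minFac_eq_two_iff _).2 h2) T
    have hn : ¬ (T : Subgroup G).Normal := fun h => by
      rcases h.eq_bot_or_eq_top with e | e
      · exact T.ne_bot_of_dvd_card h2 e
      · have hp : IsPGroup 2 G := fun g => by
          obtain ⟨k, hk⟩ := T.isPGroup' ⟨g, e ▸ Subgroup.mem_top g⟩
          exact ⟨k, congrArg Subtype.val hk⟩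
        haveI := hp.isNilpotent
        exact hna ⟨⟨fun a b => IsSimpleGroup.comm_iff_isSolvable.2 inferInstance a b⟩⟩
    obtain ⟨F, iF, iFF, φ, hchar, hq, hφs, hφc, -⟩ := H39.AIC.result_of_data (Nat.card G) G T rfl
      ⟨hc, hn, fun t ht => H8.Rank3.invol_comm hna h3 ht⟩
    haveI := hchar
    have hinj : Function.Injective φ := by
      rw [← MonoidHom.ker_eq_bot_iff, eq_bot_iff, ← H8.Rank3.center_eq_bot hna]
      exact hφc
    obtain ⟨m, -, hm⟩ := FiniteField.card F 2
    refine ⟨m, F, iF, iFF, ?_, hm, ⟨MulEquiv.ofBijective φ ⟨hinj, hφs⟩⟩⟩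
    by_contra h
    have : (m : ℕ) = 1 := by have := m.pos; omega
    rw [hm, this] at hq
    omega
  · rintro ⟨m, F, iF, iFF, hm, hcard, ⟨e⟩⟩
    haveI : Fact (Nat.Prime 2) := ⟨Nat.prime_two⟩
    haveI : CharP F 2 := charP_of_card_eq_prime_pow hcard
    have hq : 4 ≤ Fintype.card F := by
      rw [hcard]; exact (Nat.pow_le_pow_right (by norm_num) hm : 2 ^ 2 ≤ 2 ^ m)
    haveI := H39.G2_simple (F := F) hq
    haveI : Nontrivial G := e.toEquiv.nontrivial
    haveI : IsSimpleGroup G := IsSimpleGroup.isSimpleGroup_of_surjective e.symm.toMonoidHom e.symm.surjective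
    have hna : ¬ IsMulCommutative G := fun h => H39.G2_not_solvable (F := F) hq
      (Group.isSolvable_of_comm fun a b => e.symm.injective (by
        rw [map_mul, map_mul]; exact h.is_comm.comm _ _))
    refine ⟨inferInstance, hna, ?_⟩
    rw [ncard_index_eq hna]
    have he : {n : ℕ | ∃ x : G, x ≠ 1 ∧ n = H8.Rank3.cc x}
        = {Fintype.card F, Fintype.card F + 1, Fintype.card F - 1} := by
      rw [← psl_orders hq]
      ext n
      constructor
      · rintro ⟨x, hx, rfl⟩
        exact ⟨e x, fun h => hx ((MulEquiv.map_eq_one_iff e).1 h), centraliser_equiv_card e x⟩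
      · rintro ⟨x, hx, rfl⟩
        exact ⟨e.symm x, fun h => hx ((MulEquiv.map_eq_one_iff e.symm).1 h), centraliser_equiv_card e.symm x⟩
    rw [he]
    exact Set.ncard_eq_three.2 ⟨_, _, _, by omega, by omega, by omega, rfl⟩

end Cfsg.Agent.S3192
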