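import Cfsg.Statements.S4160
import Cfsg.Agent.H27.ClassBasic

set_option autoImplicit false
open Cfsg

namespace Cfsg.Agent.S4160

/-- Let G be a finite group and p ≠ q primes each dividing the size of some conjugacy class of G, such that no conjugacy class size is divisible by pq. Then G has a normal p-complement or a normal q-complement. -/
theorem result {G : Type*} [Group G] [Finite G] (p q : ℕ) (hp : p.Prime) (hq : q.Prime) (hpq : p ≠ q)
    (hp' : ∃ x : G, p ∣ (Subgroup.centralizer ({x} : Set G)).index) (hq' : ∃ x : G, q ∣ (Subgroup.centralizer ({x} : Set G)).index) (h : ∀ x : G, ¬ p * q ∣ (Subgroup.centralizer ({x} : Set G)).index) :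
    Cfsg.HasNormalPComplement p G ∨ Cfsg.HasNormalPComplement q G := by
  have := Fact.mk hp
  have := Fact.mk hq
  by_contra hcon
  rw [not_or] at hcon
  have h1 := H27.two_mul_card_not_dvd_add_two_le (G := G) hcon.1
  have h2 := H27.two_mul_card_not_dvd_add_two_le (G := G) hcon.2
  set A := {x : G | x ≠ 1 ∧ ¬ p ∣ (Subgroup.centralizer ({x} : Set G)).index}
  set B := {x : G | x ≠ 1 ∧ ¬ q ∣ (Subgroup.centralizer ({x} : Set G)).index}
  change 2 * Nat.card A + 2 ≤ _ at h1
  change 2 * Nat.card B + 2 ≤ _ at h2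
  rw [Nat.card_coe_set_eq] at h1 h2
  have hsub : ({1}ᶜ : Set G) ⊆ A ∪ B := by
    intro x hx
    rcases em (p ∣ (Subgroup.centralizer ({x} : Set G)).index) with hd | hd
    · exact Or.inr ⟨hx, fun hd' => h x ((Nat.coprime_primes hp hq).mpr hpq |>.mul_dvd_of_dvd_of_dvd hd hd')⟩
    · exact Or.inl ⟨hx, hd⟩
  have h3 := (Set.ncard_le_ncard hsub).trans (Set.ncard_union_le A B)
  rw [Set.ncard_compl, Set.ncard_singleton] at h3
  omega

end Cfsg.Agent.S4160
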