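import Cfsg.Statements.S3730
import Cfsg.Agent.H79.SameNorm.Extension
import Cfsg.Agent.H79.SameNorm.SL2Char2

set_option autoImplicit false
open Cfsg

namespace Cfsg.Agent.S3730

/-- Let G be a nontrivial finite group with no nontrivial solvable normal subgroup, such that for every cyclic subgroup X of even order and every nontrivial subgroup Y of X one has N_G(X) = N_G(Y) (every nontrivial subgroup of a cyclic subgroup of even order has the same normalizer as the whole cyclic subgroup). Then G is isomorphic to PSL(2, q) or to PGL(2, q) for some prime power q > 3. -/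
theorem result
    {G : Type*} [Group G] [Finite G] [Nontrivial G]
    (hss : ∀ N : Subgroup G, N.Normal → Group.IsSolvable ↥N → N = ⊥)
    (hii : ∀ X : Subgroup G, IsCyclic ↥X → Even (Nat.card ↥X) → ∀ Y : Subgroup G, Y ≤ X → Y ≠ ⊥ →
      Subgroup.normalizer (X : Set G) = Subgroup.normalizer (Y : Set G)) :
    ∃ (F : Type) (_ : Field F) (_ : Fintype F), 3 < Fintype.card F ∧
      (Nonempty (G ≃* Matrix.ProjectiveSpecialLinearGroup (Fin 2) F) ∨
        Nonempty (G ≃* Matrix.ProjGenLinGroup (Fin 2) F)) := by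
  have hc : H79.SameNorm.Cond G := H79.SameNorm.cond_of_normalizer hii
  have hns : H79.SameNorm.NS G := hss
  haveI : Fact (Nat.Prime 2) := ⟨Nat.prime_two⟩
  set H := Cfsg.pResidual 2 G with hH
  haveI : Nontrivial ↥H :=
    (Subgroup.nontrivial_iff_ne_bot _).2 (H79.SameNorm.residual_ne_bot hns)
  have hcH := hc.subgroup H
  have hnsH : H79.SameNorm.NS ↥H := H79.SameNorm.ns_residual hns
  have hOH : Cfsg.pResidual 2 ↥H = ⊤ := H5.pResidual_pResidual
  obtain ⟨S⟩ : Nonempty (Sylow 2 ↥H) := inferInstance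
  have etop : H = ⊤ → Nonempty (↥H ≃* G) := fun h =>
    ⟨(MulEquiv.subgroupCongr h).trans Subgroup.topEquiv⟩
  rcases H79.SameNorm.perfect_cases hcH hnsH hOH S with
    ⟨F, iF, iFt, hF, hF4, ⟨e⟩⟩ | ⟨t, s, K, hK⟩
  · -- characteristic two
    haveI := hF
    have hinj := e.injective
    have htop : H = ⊤ := by
      refine H79.SameNorm.residual_eq_top hc hns ?_ ?_ ?_
      · intro t y htH ht hyH hy hyt
        have ht' : e ⟨t, htH⟩ * e ⟨t, htH⟩ = 1 := by
          rw [← map_mul, show (⟨t, htH⟩ * ⟨t, htH⟩ : ↥H) = 1 from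
            Subtype.ext (H79.SameNorm.two_pow_two ht), map_one]
        have := H79.SameNorm.Char2.eq_one_of_commute (e ⟨t, htH⟩) (e ⟨y, hyH⟩) ht'
          (fun h => H79.SameNorm.ne_one_of_two ht
            (congrArg Subtype.val (hinj (h.trans (map_one e).symm))))
          (by rwa [MulEquiv.orderOf_eq, Subgroup.orderOf_mk])
          (by rw [← map_mul, ← map_mul]; exact congrArg e (Subtype.ext hyt.symm.eq))
        exact congrArg Subtype.val (hinj (this.trans (map_one e).symm))
      · intro x hx ⟨k, hk⟩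
        have h1 : (⟨x, hx⟩ : ↥H) ^ 2 ^ k = 1 :=
          Subtype.ext (orderOf_dvd_iff_pow_eq_one.1 hk)
        have h2 := H79.SameNorm.Char2.sq_eq_one_of_two_power k (e ⟨x, hx⟩)
          (by rw [← map_pow, h1, map_one])
        rw [← map_mul] at h2
        exact congrArg Subtype.val (hinj (h2.trans (map_one e).symm))
      · obtain ⟨n, -, hn⟩ := FiniteField.card F 2
        refine ⟨n, ?_, ?_⟩
        · by_contra h
          have : 2 ^ (n : ℕ) ≤ 2 ^ 2 := Nat.pow_le_pow_right (by norm_num) (by omega)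
          omega
        · rw [Nat.card_congr e.toEquiv, H40.card_SL2, hn]
          exact dvd_mul_right _ _
    obtain ⟨eG⟩ := etop htop
    refine ⟨F, iF, iFt, by omega, Or.inl ⟨?_⟩⟩
    have hbot : Subgroup.center (Matrix.SpecialLinearGroup (Fin 2) F) = ⊥ := by
      rw [eq_bot_iff]
      intro x hx
      have : e.symm x ∈ Subgroup.center ↥H := Subgroup.mem_center_iff.2 fun g => by
        apply hinj
        rw [map_mul, map_mul, MulEquiv.apply_symm_apply]
        exact Subgroup.mem_center_iff.1 hx _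
      rw [hnsH.center_eq_bot, Subgroup.mem_bot] at this
      rw [Subgroup.mem_bot, ← e.apply_symm_apply x, this, map_one]
    exact (eG.symm.trans e).trans
      ((QuotientGroup.quotientMulEquivOfEq hbot).trans QuotientGroup.quotientBot).symm
  · -- odd characteristic
    obtain ⟨Q, D, F⟩ := H79.SameNorm.exists_frame hnsH (hK.hyp hcH hOH)
    obtain ⟨K', iK, iKt, hcard, ⟨e⟩⟩ :=
      F.psl (Ω := ↥H ⧸ Subgroup.normalizer (Q : Set ↥H)) (QuotientGroup.mk 1) inferInstance
        (MulAction.stabilizer_quotient _) hnsH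
    by_cases htop : H = ⊤
    · obtain ⟨eG⟩ := etop htop
      exact ⟨K', iK, iKt, by have := F.q_pos; omega, Or.inl ⟨eG.symm.trans e⟩⟩
    · obtain ⟨p, n, hp, hn⟩ : ∃ p n, p.Prime ∧ Fintype.card K' = p ^ n := by
        obtain ⟨n, hn⟩ := FiniteField.card K' (ringChar K')
        exact ⟨_, _, hn.1, hn.2⟩
      obtain ⟨K'', i1, i2, h3, h4⟩ :=
        H79.SameNorm.pgl_of_frame hc hns htop F hp (hcard.symm.trans hn)
      exact ⟨K'', i1, i2, h3, Or.inr h4⟩

end Cfsg.Agent.S3730
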