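import Cfsg.Statements.S0617
import Cfsg.Agent.H10.FFStructure

set_option autoImplicit false
open Cfsg

namespace Cfsg.Agent.S0617

/-- Structure Theorem for failure of factorization: a faithful group generated by best offenders, with self-centralizing p'-core, is a direct product of copies of SL(2, p) (p = 2 or 3), each acting on its own plane in V, which is the direct product of these planes and C_V(H). -/
theorem result {G : Type*} [Group G] [Finite G] {p : ℕ} [Fact p.Prime] (V H : Subgroup G) (hV : Cfsg.IsElementaryAbelian p V) (hHV : H ≤ Subgroup.normalizer (V : Set G)) (hf : H ⊓ Subgroup.centralizer (V : Set G) = ⊥) (hS1 : Subgroup.centralizer (Cfsg.pPrimeCore p ↥H : Set ↥H) ≤ Cfsg.pPrimeCore p ↥H) (hS3 : H = ⨆ A : {A : Subgroup G // A ≤ H ∧ Cfsg.IsBestOffenderOn p V A}, (A : Subgroup G)) (hH1 : H ≠ ⊥) : (p = 2 ∨ p = 3) ∧ (∀ E : {E : Subgroup G // ∃ A : Subgroup G, A ≤ H ∧ Cfsg.IsBestOffenderOn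 p V A ∧ ⁅V, A⁆ ≠ ⊥ ∧ (∀ B : Subgroup G, B ≤ A → Cfsg.IsBestOffenderOn p V B → ⁅V, B⁆ ≠ ⊥ → B = A) ∧ E = ⁅((Cfsg.pPrimeCore p ↥H).map H.subtype), A⁆ ⊔ A}, H ≤ Subgroup.normalizer ((E : Subgroup G) : Set G) ∧ Nonempty (↥(E : Subgroup G) ≃* Matrix.SpecialLinearGroup (Fin 2) (ZMod p)) ∧ Nat.card ↥(⁅V, (E : Subgroup G)⁆) = p ^ 2) ∧ iSupIndep (fun E : {E : Subgroup G // ∃ A : Subgroup G, A ≤ H ∧ Cfsg.IsBestOffenderOn p V A ∧ ⁅V, A⁆ ≠ ⊥ ∧ (∀ B : Subgroup G, B ≤ A → Cfsg.IsBestOffenderOn p V B → ⁅V, B⁆ ≠ ⊥ → B = A) ∧ E = ⁅((Cfsg.pPrimeCore p ↥H).map H.subtype), A⁆ ⊔ A} => (E : Subgroup G)) ∧ (⨆ E : {E : Subgroup G // ∃ A : Subgroup G, A ≤ H ∧ Cfsg.IsBestOffenderOn p V A ∧ ⁅V, A⁆ ≠ ⊥ ∧ (∀ B : Subgroup G, B ≤ A → Cfsg.IsBestOffenderOn p V B → ⁅V, B⁆ ≠ ⊥ → B = A) ∧ E = ⁅((Cfsg.pPrimeCore p ↥H).map H.subtype), A⁆ ⊔ A}, (E : Subgroup G)) = H ∧ iSupIndep (fun o : Option {E : Subgroup G // ∃ A :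 Subgroup G, A ≤ H ∧ Cfsg.IsBestOffenderOn p V A ∧ ⁅V, A⁆ ≠ ⊥ ∧ (∀ B : Subgroup G, B ≤ A → Cfsg.IsBestOffenderOn p V B → ⁅V, B⁆ ≠ ⊥ → B = A) ∧ E = ⁅((Cfsg.pPrimeCore p ↥H).map H.subtype), A⁆ ⊔ A} => o.elim (V ⊓ Subgroup.centralizer (H : Set G)) (fun E => ⁅V, (E : Subgroup G)⁆)) ∧ (V ⊓ Subgroup.centralizer (H : Set G)) ⊔ (⨆ E : {E : Subgroup G // ∃ A : Subgroup G, A ≤ H ∧ Cfsg.IsBestOffenderOn p V A ∧ ⁅V, A⁆ ≠ ⊥ ∧ (∀ B : Subgroup G, B ≤ A → Cfsg.IsBestOffenderOn p V B → ⁅V, B⁆ ≠ ⊥ → B = A) ∧ E = ⁅((Cfsg.pPrimeCore p ↥H).map H.subtype), A⁆ ⊔ A}, ⁅V, (E : Subgroup G)⁆) = V := by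
  classical
  have h : H10.FFHyp p V H := ⟨hV, hHV, hf, hS1⟩
  have hgen := h.le_sSup_tv hS3
  set ι := {E : Subgroup G // ∃ A : Subgroup G, A ≤ H ∧ Cfsg.IsBestOffenderOn p V A ∧ ⁅V, A⁆ ≠ ⊥ ∧ (∀ B : Subgroup G, B ≤ A → Cfsg.IsBestOffenderOn p V B → ⁅V, B⁆ ≠ ⊥ → B = A) ∧ E = ⁅((Cfsg.pPrimeCore p ↥H).map H.subtype), A⁆ ⊔ A} with hι
  have hrep : ∀ E : ι, ∃ A, H10.IsTv p V H A ∧ (E : Subgroup G) = H10.eGroup p H A := by
    rintro ⟨E, A, h1, h2, h3, h4, rfl⟩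
    exact ⟨A, h.isTv_of_minimal h1 h2 h3 h4, rfl⟩
  have hmk : ∀ A, H10.IsTv p V H A → ∃ E : ι, (E : Subgroup G) = H10.eGroup p H A := fun A hA =>
    ⟨⟨_, A, hA.1, h.best_of_isOff (h.isOff_of_isTv hA), h.commutator_ne_bot_of_isTv hA,
      fun B hB _ hne => h.minimal_of_isTv hA hB hne, rfl⟩, rfl⟩
  have hne' : ∀ E E' : ι, E ≠ E' → ∀ A B, H10.IsTv p V H A → H10.IsTv p V H B →
      (E : Subgroup G) = H10.eGroup p H A → (E' : Subgroup G) = H10.eGroup p H B →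
      H10.planeOf p V H A ≠ H10.planeOf p V H B := fun E E' hEE' A B hA hB eA eB e =>
    hEE' (Subtype.ext (by rw [eA, eB, h.eGroup_eq_of_plane_eq hA hB e]))
  have hp : p = 2 ∨ p = 3 := by
    obtain ⟨B, hB⟩ : ∃ B, H10.IsTv p V H B := by
      by_contra hemp
      exact hH1 (le_bot_iff.mp (hgen.trans (sSup_le fun B hB => absurd ⟨B, hB⟩ hemp)))
    exact (h.factorFacts hB).p_eq
  refine ⟨hp, fun E => ?_, fun E => ?_, ?_, fun o => ?_, ?_⟩
  · obtain ⟨A, hA, e⟩ := hrep E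
    rw [e]
    exact ⟨(h.decomposition hS3 hA).1, (h.factorFacts hA).iso, (h.factorFacts hA).card_plane⟩
  · obtain ⟨A, hA, e⟩ := hrep E
    obtain ⟨-, hK, -, hinf, -⟩ := h.decomposition hS3 hA
    rw [disjoint_iff, eq_bot_iff]
    refine le_trans ?_ hinf.le
    rw [hK]
    refine le_inf (inf_le_left.trans e.le) (inf_le_right.trans (iSup₂_le fun E' hne => ?_))
    obtain ⟨B, hB, eB⟩ := hrep E'
    exact le_sSup ⟨B, hB, hne' E E' (Ne.symm hne) A B hA hB e eB, eB⟩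
  · refine le_antisymm (iSup_le fun E => ?_) (hgen.trans (sSup_le fun B hB => ?_))
    · obtain ⟨A, hA, e⟩ := hrep E
      exact e ▸ (h.factorFacts hA).le
    · obtain ⟨E, e⟩ := hmk B hB
      exact le_trans (le_trans le_sup_right e.ge) (le_iSup (fun E : ι => (E : Subgroup G)) E)
  · rw [disjoint_iff, eq_bot_iff]
    rcases o with _ | E
    · refine le_trans ?_ h.planes_inf_fixed.le
      refine inf_le_inf_left _ (iSup₂_le fun o ho => ?_)
      rcases o with _ | E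
      · exact absurd rfl ho
      · obtain ⟨A, hA, e⟩ := hrep E
        show ⁅V, (E : Subgroup G)⁆ ≤ _
        rw [e]; exact h.plane_le_commutator_oppCore hA
    · obtain ⟨A, hA, e⟩ := hrep E
      have F := h.factorFacts hA
      refine le_trans ?_ F.inf_fix.le
      show ⁅V, (E : Subgroup G)⁆ ⊓ _ ≤ _
      rw [e]
      refine inf_le_inf_left _ (iSup₂_le fun o ho => ?_)
      rcases o with _ | E'
      · exact inf_le_inf_left _ (Subgroup.centralizer_le (SetLike.coe_subset_coe.mpr F.le))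
      · obtain ⟨B, hB, eB⟩ := hrep E'
        show ⁅V, (E' : Subgroup G)⁆ ≤ _
        rw [eB]
        exact h.plane_le_fix_of_ne hA hB
          (hne' E E' (fun he => ho (by rw [he])) A B hA hB e eB)
  · refine le_antisymm (sup_le inf_le_left (iSup_le fun E => ?_)) ?_
    · obtain ⟨A, hA, e⟩ := hrep E
      rw [e]; exact (h.factorFacts hA).plane_le
    · haveI : Fintype ι := Fintype.ofFinite ι
      set s := Finset.univ.image (fun E : ι => (E : Subgroup G)) with hs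
      refine (h.le_fixed_sup_planes s fun E' hE' => ?_).trans (sup_le_sup ?_ ?_)
      · obtain ⟨E, -, rfl⟩ := Finset.mem_image.mp hE'
        exact hrep E
      · refine inf_le_inf_left _ (Subgroup.centralizer_le (SetLike.coe_subset_coe.mpr
          (hgen.trans (sSup_le fun B hB => ?_))))
        obtain ⟨E, e⟩ := hmk B hB
        exact le_trans (le_trans le_sup_right e.ge)
          (Finset.le_sup (f := id) (Finset.mem_image_of_mem _ (Finset.mem_univ E)))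
      · refine Finset.sup_le fun E' hE' => ?_
        obtain ⟨E, -, rfl⟩ := Finset.mem_image.mp hE'
        exact le_iSup (fun E : ι => ⁅V, (E : Subgroup G)⁆) E

end Cfsg.Agent.S0617
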