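import Cfsg.Statements.S3413
import Cfsg.Agent.H63.M11Counts
import Cfsg.Agent.H87.MathieuCert

set_option autoImplicit false
open Cfsg
open scoped Pointwise

namespace Cfsg.Agent.S3413

/-- Let H be a finite group whose commuting graph (vertices the non-identity elements, two joined when they commute) is isomorphic to that of the Mathieu group M_11: there is a bijection between the non-identity elements of H and of M_11 under which two elements commute exactly when their images do. Then H ≅ M_11. -/
theorem result {H : Type*} [Group H] [Finite H]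
    (f : {h : H // h ≠ 1} ≃ {g : ↥Cfsg.Spor.M11 // g ≠ 1})
    (hf : ∀ x y : {h : H // h ≠ 1}, (x : H) * y = y * x ↔ ((f x) : ↥Cfsg.Spor.M11) * (f y) = (f y) * (f x)) :
    Nonempty (H ≃* ↥Cfsg.Spor.M11) := by
  classical
  have hM : Nat.card ↥Cfsg.Spor.M11 = 7920 := H87.natCard_M11
  haveI : Finite ↥Cfsg.Spor.M11 := Nat.finite_of_card_ne_zero (by omega)
  haveI := H36.M11Cent.isSimpleGroup_M11
  have hH : Nat.card H = 7920 := by
    rw [← H63.M11.card_ne_one_add_one H, Nat.card_congr f, H63.M11.card_ne_one_add_one, hM]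
  haveI : Fact (Nat.Prime 11) := ⟨by norm_num⟩
  obtain ⟨g, hg⟩ := exists_prime_orderOf_dvd_card' (G := ↥Cfsg.Spor.M11) 11 (by rw [hM]; norm_num)
  have hg1 : g ≠ 1 := fun e => by rw [e, orderOf_one] at hg; norm_num at hg
  set x := f.symm ⟨g, hg1⟩ with hx
  have hfx : f x = ⟨g, hg1⟩ := f.apply_symm_apply _
  have hC : Nat.card (Subgroup.centralizer ({(x : H)} : Set H)) = 11 := by
    rw [← H63.M11.cent_eleven hM hg]
    rw [← H63.M11.card_commuting_add_one (x : H), ← H63.M11.card_commuting_add_one g]
    congr 1
    refine Nat.card_congr (f.subtypeEquiv fun z => ?_)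
    rw [hf x z, hfx]
  haveI : IsSimpleGroup H := by
    have hxC : (x : H) ∈ Subgroup.centralizer ({(x : H)} : Set H) :=
      Subgroup.mem_centralizer_singleton_iff.2 rfl
    have hxo : orderOf (x : H) = 11 := by
      have hd := orderOf_dvd_natCard (⟨_, hxC⟩ : Subgroup.centralizer ({(x : H)} : Set H))
      rw [hC, Subgroup.orderOf_mk] at hd
      rcases (Nat.dvd_prime (by norm_num)).1 hd with e | e
      · exact absurd (orderOf_eq_one_iff.1 e) x.2
      · exact e
    obtain ⟨P, hP⟩ := (IsPGroup.of_card (p := 11) (n := 1)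
      (by rw [Nat.card_zpowers, hxo, pow_one]) : IsPGroup 11 (Subgroup.zpowers (x : H))).exists_le_sylow
    have hPc : Nat.card (P : Subgroup H) = 11 := by
      rw [H62.card_sylow_coe (p := 11) (a := 1) (m := 720) (by rw [hH]; norm_num) (by norm_num) P,
        pow_one]
    have heq : Subgroup.zpowers (x : H) = (P : Subgroup H) :=
      Subgroup.eq_of_le_of_card_ge hP (by rw [hPc, Nat.card_zpowers, hxo])
    refine H63.M11.simple_of_eleven hH P fun y hy hy1 => ?_
    rw [← hC]
    have hyz : Subgroup.zpowers y = (P : Subgroup H) := by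
      refine Subgroup.eq_of_le_of_card_ge (Subgroup.zpowers_le.2 hy) ?_
      have hd := orderOf_dvd_natCard (⟨y, hy⟩ : (P : Subgroup H))
      rw [hPc, Subgroup.orderOf_mk] at hd
      rcases (Nat.dvd_prime (by norm_num)).1 hd with e | e
      · exact absurd (orderOf_eq_one_iff.1 e) hy1
      · rw [hPc, Nat.card_zpowers, e]
    rw [← Subgroup.centralizer_closure, ← Subgroup.zpowers_eq_closure, hyz, ← heq,
      Subgroup.zpowers_eq_closure, Subgroup.centralizer_closure]
  exact H36.M11.iso_of_order_7920 hH hM

end Cfsg.Agent.S3413
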