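import Cfsg.Statements.S5026
import Cfsg.Agent.H98.Components

set_option autoImplicit false
open Cfsg

namespace Cfsg.Agent.S5026

/-- Let S be a degenerate set of abstract root subgroups of G (a set of abstract transvection groups) and let a, b be commuting non-identity elements of members of S with a b ≠ 1. Then the members of S centralizing a b are exactly those centralizing both a and b. -/
theorem result {G : Type*} [Group G] {S : Set (Subgroup G)} (hS : Cfsg.IsRootSubgroupSet S) (hdeg : Cfsg.IsDegenerateRootSet S)
    {a b : G} (ha : a ∈ Cfsg.rootElements S) (hb : b ∈ Cfsg.rootElements S) (hab : a * b = b * a) (hab1 : a * b ≠ 1) :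
    Cfsg.centralizingMembers S (Subgroup.zpowers (a * b)) =
      Cfsg.centralizingMembers S (Subgroup.zpowers a) ∩ Cfsg.centralizingMembers S (Subgroup.zpowers b) := by
  obtain ⟨ha1, A, hA, haA⟩ := ha
  obtain ⟨hb1, B, hB, hbB⟩ := hb
  have mem : ∀ (g : G) (C : Subgroup G), C ≤ Subgroup.centralizer (Subgroup.zpowers g : Set G) ↔
      ∀ c ∈ C, Commute g c := by
    intro g C
    constructor
    · intro h c hc
      exact (Commute.symm (h hc g (Subgroup.mem_zpowers g)).symm)
    · intro h c hc x hx
      obtain ⟨n, rfl⟩ := Subgroup.mem_zpowers_iff.1 hx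
      exact (h c hc).zpow_left n
  have hAB : ∀ x ∈ A, ∀ y ∈ B, Commute x y := by
    rcases hS.pair A hA B hB with h | h | h
    · exact fun x hx y hy => H98.commute_of_commutator_eq_bot h hx hy
    · exact absurd (H98.eq_one_of_commute h haA hbB hb1 hab) ha1
    · exact absurd h (hdeg A hA B hB)
  ext C
  simp only [centralizingMembers, Set.mem_setOf_eq, Set.mem_inter_iff]
  constructor
  · rintro ⟨hC, hc⟩
    rw [mem] at hc
    have hCa : (∀ c ∈ C, Commute a c) ∨ (∀ c ∈ C, Commute b c) := by
      rcases hS.pair C hC A hA with h | h | h
      · exact Or.inl fun c hc' => (H98.commute_of_commutator_eq_bot h hc' haA).symm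
      · rcases hS.pair C hC B hB with h' | h' | h'
        · exact Or.inr fun c hc' => (H98.commute_of_commutator_eq_bot h' hc' hbB).symm
        · exfalso
          refine H98.not_rootElement_mul hS hC (RankOnePair_symm h') (z := a * b) ?_ hab1
            (B.inv_mem hbB) (inv_ne_one.2 hb1) ?_
          · intro x hx
            have hle : B ⊔ C ≤ Subgroup.centralizer {a * b} := by
              refine sup_le (fun y hy => ?_) (fun y hy => ?_)
              · rw [Subgroup.mem_centralizer_singleton_iff]
                exact ((hAB a haA y hy).mul_left (H98.commute_of_mem hS hB hbB hy)).symm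
              · rw [Subgroup.mem_centralizer_singleton_iff]
                exact (hc y hy).symm
            exact Subgroup.mem_centralizer_singleton_iff.1 (hle hx)
          · rw [mul_inv_cancel_right]
            exact ⟨ha1, A, hA, haA⟩
        · exact absurd h' (hdeg C hC B hB)
      · exact absurd h (hdeg C hC A hA)
    have both : ∀ c ∈ C, Commute a c ∧ Commute b c := by
      intro c hc'
      rcases hCa with h | h
      · refine ⟨h c hc', ?_⟩
        have := ((h c hc').inv_left).mul_left (hc c hc')
        rwa [inv_mul_cancel_left] at this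
      · refine ⟨?_, h c hc'⟩
        have := (hc c hc').mul_left (h c hc').inv_left
        rwa [mul_inv_cancel_right] at this
    exact ⟨⟨hC, (mem a C).2 fun c h => (both c h).1⟩, ⟨hC, (mem b C).2 fun c h => (both c h).2⟩⟩
  · rintro ⟨⟨hC, h1⟩, -, h2⟩
    rw [mem] at h1 h2
    exact ⟨hC, (mem _ C).2 fun c h => (h1 c h).mul_left (h2 c h)⟩

end Cfsg.Agent.S5026
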