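import Cfsg.Statements.S5032
import Cfsg.Agent.H98.Components

set_option autoImplicit false
open Cfsg

namespace Cfsg.Agent.S5032

/-- Let S be a set of abstract root subgroups of G with more than one member. Then the graph of rank one pairs on S is connected if and only if S is a single conjugacy class of G and some member of S has a rank one partner in S. -/
theorem result {G : Type*} [Group G] {S : Set (Subgroup G)} (hS : Cfsg.IsRootSubgroupSet S) (h2 : ∃ A ∈ S, ∃ B ∈ S, A ≠ B) :
    Cfsg.IsConnectedFamily (Cfsg.FAdj S) S ↔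
      (Cfsg.IsConjClassOfSubgroups S ∧ ∃ A ∈ S, ¬ Cfsg.IsIsolatedIn (Cfsg.FAdj S) S A) := by
  constructor
  · intro hc
    obtain ⟨A, hA, B, hB, hne⟩ := h2
    refine ⟨⟨⟨A, hA⟩, fun X hX Y hY => H98.exists_conj_of_reflTransGen hS (hc X hX Y hY)⟩, A, hA, ?_⟩
    rcases (hc A hA B hB).cases_head with h | ⟨D, hD, -⟩
    · exact absurd h hne
    · exact H98.not_isolated_of_partner hA hD.2.1 hD.2.2
  · rintro ⟨⟨-, hconj⟩, A, hA, hiso⟩
    have hF : ∀ X ∈ S, ¬ IsIsolatedIn (FAdj S) S X := by
      intro X hX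
      obtain ⟨g, rfl⟩ := hconj A hA X hX
      exact H98.not_isolated_conj hS g hA hiso
    intro X hX Y hY
    obtain ⟨g, rfl⟩ := hconj X hX Y hY
    exact H98.mem_component_all hS hF g X hX

end Cfsg.Agent.S5032
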