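import Cfsg.Statements.S5029
import Cfsg.Agent.H98.CommutatorCase

set_option autoImplicit false
open Cfsg

namespace Cfsg.Agent.S5029

/-- Let S be a set of abstract root subgroups of G, A ∈ S having a rank one partner in S, and B ∈ S with C = ⁅A, B⁆ ∈ S. Then the members of S contained in AC are the conjugates of A by elements of B together with C, they partition AC, the members of S inside AC partition AC so that A is a line partner of C, and for every non-identity a ∈ A the map b ↦ a⁻¹ b⁻¹ a b is an isomorphism from B onto C. -/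
theorem result {G : Type*} [Group G] {S : Set (Subgroup G)} (hS : Cfsg.IsRootSubgroupSet S)
    {A B : Subgroup G} (hA : ¬ Cfsg.IsIsolatedIn (Cfsg.FAdj S) S A) (hAS : A ∈ S) (hB : B ∈ S) (hC : ⁅A, B⁆ ∈ S) :
    Cfsg.membersIn S (A ⊔ ⁅A, B⁆) = (fun b : G => Cfsg.conjBy A b) '' (B : Set G) ∪ {⁅A, B⁆} ∧
    Cfsg.IsSubgroupPartition (A ⊔ ⁅A, B⁆) (Cfsg.membersIn S (A ⊔ ⁅A, B⁆)) ∧
    A ∈ Cfsg.linePartners S ⁅A, B⁆ ∧
    ∀ a ∈ A, a ≠ 1 → ∃ φ : ↥B ≃* ↥⁅A, B⁆, ∀ b : ↥B, (φ b : G) = a⁻¹ * (b : G)⁻¹ * a * b := by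
  obtain ⟨D, hD, hr⟩ := H98.exists_partner_of_not_isolated hAS hA
  have h := H98.rootCommutatorCase_of_commutator_mem hS hAS hB hC
  have hcA := H98.commute_commutator_left h
  have hAC : ∀ x, x ∈ A → x ∈ ⁅A, B⁆ → x = 1 := by
    intro x hxA hxC
    by_contra hx
    exact H98.commutator_ne_left hS h (H98.rootSet_trans_unique hS hA hAS hC hxA hxC hx).symm
  have hab : ∀ a ∈ A, a ≠ 1 → ∀ b ∈ B, a * b * a⁻¹ * b⁻¹ = 1 → b = 1 := by
    intro a ha ha1 b hb e
    by_contra hb1
    have hfix : conjBy A b = A := by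
      refine (H98.rootSet_trans_unique hS hA hAS (hS.conj_mem A hAS b) ha ?_ ha1).symm
      rw [H98.mem_conjBy, mul_assoc, mul_inv_eq_iff_eq_mul.1 (mul_inv_eq_one.1 e),
        inv_mul_cancel_left]
      exact ha
    refine hS.ne_bot _ hC ?_
    rw [← h.2.2.2 b hb hb1, Subgroup.closure_eq_bot_iff]
    rintro _ ⟨x, hx, rfl⟩
    refine hAC _ ?_ (Subgroup.commutator_mem_commutator hx hb)
    show x * b * x⁻¹ * b⁻¹ ∈ A
    rw [show x * b * x⁻¹ * b⁻¹ = x * (b * x⁻¹ * b⁻¹) by group]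
    refine A.mul_mem hx ?_
    have := H98.conj_mem_conjBy b (A.inv_mem hx)
    rwa [hfix] at this
  have hcov : ∀ x ∈ A ⊔ ⁅A, B⁆, x ∈ ⁅A, B⁆ ∨ ∃ b ∈ B, x ∈ conjBy A b := by
    intro x hx
    obtain ⟨a, ha, c, hc, rfl⟩ := H98.mem_sup_of_commute hcA hx
    by_cases ha1 : a = 1
    · exact Or.inl (by rw [ha1, one_mul]; exact hc)
    · obtain ⟨b, hb, e⟩ := H98.exists_conj_eq_mul h ha ha1 hc
      exact Or.inr ⟨b, hb, by rw [← e]; exact H98.conj_mem_conjBy b ha⟩
  have hnd : ∀ x ∈ ⁅A, B⁆, x ≠ 1 → ∀ d ∈ D, d ≠ 1 → ¬ Commute x d := by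
    intro x hx hx1 d hd hd1 hcomm
    obtain ⟨a, ha, ha1⟩ := H98.exists_mem_ne_one (hS.ne_bot A hAS)
    have hgen : A ⊔ conjBy A d = A ⊔ D :=
      H98.sup_eq_of_unipotent hr (H98.left_mem_unipotent hr)
        (H98.conjBy_mem_unipotent hr (H98.left_mem_unipotent hr) (Subgroup.mem_sup_right hd))
        (fun e => hd1 (H98.eq_one_of_conjBy_left_eq hr hd e.symm))
    have hle : A ⊔ conjBy A d ≤ Subgroup.centralizer {x} := by
      refine sup_le (fun u hu => ?_) (fun u hu => ?_)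
      · rw [Subgroup.mem_centralizer_singleton_iff]; exact hcA u hu x hx
      · rw [H98.mem_conjBy] at hu
        rw [Subgroup.mem_centralizer_singleton_iff]
        have := (hcomm.symm.mul_left (hcA _ hu x hx)).mul_left hcomm.symm.inv_left
        rwa [show d * (d⁻¹ * u * d) * d⁻¹ = u by group] at this
    rw [hgen] at hle
    refine H98.not_rootElement_mul hS hD hr
      (fun u hu => Subgroup.mem_centralizer_singleton_iff.1 (hle hu)) hx1 ha ha1 ?_
    obtain ⟨b, hb, e⟩ := H98.exists_conj_eq_mul h ha ha1 hx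
    refine ⟨fun e' => ?_, conjBy A b, hS.conj_mem A hAS b, ?_⟩
    · exact hx1 (hAC x (by rw [mul_eq_one_iff_eq_inv] at e'; rw [e']; exact A.inv_mem ha) hx)
    · rw [← (hcA a ha x hx).eq, ← e]; exact H98.conj_mem_conjBy b ha
  have hmem : membersIn S (A ⊔ ⁅A, B⁆) =
      (fun b : G => conjBy A b) '' (B : Set G) ∪ {⁅A, B⁆} := by
    ext E
    constructor
    · rintro ⟨hE, hEle⟩
      by_cases hEC : ∀ e ∈ E, e ∈ ⁅A, B⁆
      · right
        show E = ⁅A, B⁆
        obtain ⟨e, he, he1⟩ := H98.exists_mem_ne_one (hS.ne_bot E hE)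
        rcases hS.pair E hE D hD with h1 | h1 | h1
        · obtain ⟨d, hd, hd1⟩ := H98.exists_mem_ne_one (hS.ne_bot D hD)
          exact absurd (H98.commute_of_commutator_eq_bot h1 he hd) (hnd e (hEC e he) he1 d hd hd1)
        · exact H98.eq_of_mem_both hS hD hC h1 he (hEC e he) he1
        · rcases hS.pair _ hC D hD with h2 | h2 | h2
          · obtain ⟨d, hd, hd1⟩ := H98.exists_mem_ne_one (hS.ne_bot D hD)
            exact absurd (H98.commute_of_commutator_eq_bot h2 (hEC e he) hd)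
              (hnd e (hEC e he) he1 d hd hd1)
          · exact (H98.eq_of_mem_both hS hD hE h2 (hEC e he) he he1).symm
          · refine le_antisymm hEC fun c hc => ?_
            obtain ⟨d, hd, hd1⟩ := H98.exists_mem_ne_one (hS.ne_bot D hD)
            have hF : c * d * c⁻¹ * d⁻¹ ∈ ⁅E, D⁆ := by
              have heq : (⁅⁅A, B⁆, D⁆ : Subgroup G) = ⁅E, D⁆ := by
                rw [← h2.2.2.1 e (hEC e he) he1, h1.2.2.1 e he he1]
              rw [← heq]; exact Subgroup.commutator_mem_commutator hc hd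
            obtain ⟨e', he', hee⟩ :=
              H98.exists_comm_eq (H98.rootCommutatorCase_symm h1) hd hd1
                (z := (c * d * c⁻¹ * d⁻¹)⁻¹) (by rw [Subgroup.commutator_comm]; exact Subgroup.inv_mem _ hF)
            by_contra hcE
            have hne : c⁻¹ * e' ≠ 1 := fun e'' => hcE (by rwa [inv_mul_eq_one.1 e''])
            refine hnd _ (Subgroup.mul_mem _ (Subgroup.inv_mem _ hc) (hEC e' he')) hne d hd hd1 ?_
            have h3 : c * d * c⁻¹ = e' * d * e'⁻¹ := by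
              have := congrArg Inv.inv hee
              simp only [mul_inv_rev, inv_inv] at this
              calc c * d * c⁻¹ = c * d * c⁻¹ * d⁻¹ * d := by group
                _ = e' * (d * (e'⁻¹ * d⁻¹)) * d := by rw [this]
                _ = _ := by group
            show c⁻¹ * e' * d = d * (c⁻¹ * e')
            calc c⁻¹ * e' * d = c⁻¹ * (e' * d * e'⁻¹) * e' := by group
              _ = d * (c⁻¹ * e') := by rw [← h3]; group
      · push Not at hEC
        obtain ⟨e, he, heC⟩ := hEC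
        rcases hcov e (hEle he) with h1 | ⟨b, hb, h1⟩
        · exact absurd h1 heC
        · have he1 : e ≠ 1 := fun e' => heC (by rw [e']; exact Subgroup.one_mem _)
          exact Or.inl ⟨b, hb, H98.rootSet_trans_unique hS (H98.not_isolated_conj hS b hAS hA)
            (hS.conj_mem A hAS b) hE h1 he he1⟩
    · rintro (⟨b, hb, rfl⟩ | rfl)
      · exact ⟨hS.conj_mem A hAS b, H98.conjBy_left_le h hb⟩
      · exact ⟨hC, le_sup_right⟩
  have hpart : IsSubgroupPartition (A ⊔ ⁅A, B⁆) (membersIn S (A ⊔ ⁅A, B⁆)) := by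
    refine ⟨fun E hE => hE.2, fun x hx hx1 => ?_, ?_⟩
    · rw [hmem]
      rcases hcov x hx with h1 | ⟨b, hb, h1⟩
      · exact ⟨_, Or.inr rfl, h1⟩
      · exact ⟨_, Or.inl ⟨b, hb, rfl⟩, h1⟩
    · intro E hE F hF hne
      rw [hmem] at hE hF
      by_contra hb
      obtain ⟨x, ⟨hxE, hxF⟩, hx1⟩ := H98.exists_mem_ne_one hb
      rcases hE with ⟨b, hb', rfl⟩ | rfl
      · exact hne (H98.rootSet_trans_unique hS (H98.not_isolated_conj hS b hAS hA)
          (hS.conj_mem A hAS b) (by rcases hF with ⟨c, _, rfl⟩ | rfl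
                                    · exact hS.conj_mem A hAS c
                                    · exact hC) hxE hxF hx1)
      · rcases hF with ⟨b, hb', rfl⟩ | rfl
        · exact hne (H98.rootSet_trans_unique hS (H98.not_isolated_conj hS b hAS hA)
            (hS.conj_mem A hAS b) hC hxF hxE hx1).symm
        · exact hne rfl
  refine ⟨hmem, hpart, ⟨⟨hAS, (H98.commutator_ne_left hS h).symm, ?_⟩, ?_⟩, ?_⟩
  · rw [eq_bot_iff, Subgroup.commutator_le]
    intro c hc a ha
    rw [Subgroup.mem_bot, commutatorElement_eq_one_iff_commute]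
    exact (hcA a ha c hc).symm
  · rw [sup_comm]; exact hpart
  · intro a ha ha1
    have hmemφ : ∀ b ∈ B, a⁻¹ * b⁻¹ * a * b ∈ ⁅A, B⁆ := by
      intro b hb
      have := Subgroup.commutator_mem_commutator (H₁ := A) (H₂ := B) (A.inv_mem ha) (B.inv_mem hb)
      simpa [commutatorElement_def] using this
    let φ : ↥B →* ↥⁅A, B⁆ := MonoidHom.mk'
      (fun b => ⟨a⁻¹ * (b : G)⁻¹ * a * b, hmemφ b b.2⟩) (fun b b' => by
        apply Subtype.ext
        have h5 := H98.comm_mul_right_of_central h (A.inv_mem ha) (B.inv_mem b'.2) (B.inv_mem b.2)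
        simp only [inv_inv] at h5
        have hc1 := h.2.1 _ (hmemφ b' b'.2) _
          (Subgroup.mem_sup_right b.2 : (b : G) ∈ A ⊔ B)
        show a⁻¹ * ((b : G) * b')⁻¹ * a * (b * b') = _
        calc a⁻¹ * ((b : G) * b')⁻¹ * a * (b * b')
            = a⁻¹ * ((b' : G)⁻¹ * (b : G)⁻¹) * a * ((b' : G)⁻¹ * (b : G)⁻¹)⁻¹ := by group
          _ = a⁻¹ * (b' : G)⁻¹ * a * (b' : G) * (a⁻¹ * (b : G)⁻¹ * a * b) := by rw [h5]
          _ = _ := h.2.1 _ (hmemφ b' b'.2) _ (Subgroup.mul_mem _ (Subgroup.mul_mem _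
              (Subgroup.mul_mem _ (Subgroup.mem_sup_left (A.inv_mem ha))
                (Subgroup.mem_sup_right (B.inv_mem b.2)))
              (Subgroup.mem_sup_left ha)) (Subgroup.mem_sup_right b.2)))
    refine ⟨MulEquiv.ofBijective φ ⟨?_, ?_⟩, fun b => rfl⟩
    · rw [← MonoidHom.ker_eq_bot_iff, Subgroup.eq_bot_iff_forall]
      intro b hb
      have h6 : a⁻¹ * (b : G)⁻¹ * a * b = 1 := congrArg Subtype.val (MonoidHom.mem_ker.1 hb)
      have h7 := hab a⁻¹ (A.inv_mem ha) (inv_ne_one.2 ha1) (b : G)⁻¹ (B.inv_mem b.2)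
        (by rw [inv_inv, inv_inv]; exact h6)
      exact Subtype.ext (inv_eq_one.1 h7)
    · intro z
      obtain ⟨b, hb, e⟩ := H98.exists_comm_eq h (A.inv_mem ha) (inv_ne_one.2 ha1) z.2
      refine ⟨⟨b⁻¹, B.inv_mem hb⟩, Subtype.ext ?_⟩
      show a⁻¹ * b⁻¹⁻¹ * a * b⁻¹ = z
      rw [← e, inv_inv, inv_inv]

end Cfsg.Agent.S5029
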