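import Cfsg.Statements.S5017
import Cfsg.Agent.H98.RankOne

set_option autoImplicit false
open Cfsg

namespace Cfsg.Agent.S5017

/-- Let X be a rank one group with unipotent subgroups A and B and N a normal subgroup of X. Then either X = N A or N lies in the centre of X. Consequently a perfect rank one group is quasisimple. -/
theorem result {X : Type*} [Group X] {A B : Subgroup X} (h : Cfsg.IsRankOneGroup X A B) :
    (∀ N : Subgroup X, N.Normal → N ⊔ A = ⊤ ∨ N ≤ Subgroup.center X) ∧
    (Group.IsPerfect X → Cfsg.IsQuasisimple X) := by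
  refine ⟨fun N hN => @H98.normal_sup_eq_top_or_le_center _ _ _ _ h N hN, fun hP => ⟨hP, ?_⟩⟩
  have hAc := H98.not_le_center_left h.2
  have hab : ∀ N : Subgroup X, N.Normal → N ⊔ A = ⊤ → N = ⊤ := by
    intro N hN htop
    haveI := hN
    haveI : Group.IsPerfect X := hP
    haveI := h.2.nilpotent_left
    have hs : Function.Surjective ((QuotientGroup.mk' N).comp A.subtype) := by
      intro q
      obtain ⟨x, rfl⟩ := QuotientGroup.mk'_surjective N q
      have hx : x ∈ N ⊔ A := by rw [htop]; trivial
      rw [← SetLike.mem_coe, Subgroup.normal_mul] at hx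
      obtain ⟨n, hn, a, ha, rfl⟩ := hx
      exact ⟨⟨a, ha⟩, by simp [QuotientGroup.eq_one_iff n |>.2 hn]⟩
    haveI : Group.IsNilpotent (X ⧸ N) := nilpotent_of_surjective _ hs
    haveI : Group.IsPerfect (X ⧸ N) := by
      rw [Group.isPerfect_def]
      have hm := map_commutator_eq (G := X) (QuotientGroup.mk' N)
      rw [Group.IsPerfect.commutator_eq_top (G := X), ← MonoidHom.range_eq_map,
        MonoidHom.range_eq_top.2 (QuotientGroup.mk'_surjective N)] at hm
      exact hm.symm
    by_contra hne
    haveI : Nontrivial (X ⧸ N) := QuotientGroup.nontrivial_iff.2 hne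
    exact Group.IsPerfect.not_isNilpotent (X ⧸ N) ‹_›
  haveI : Nontrivial (X ⧸ Subgroup.center X) := by
    rw [QuotientGroup.nontrivial_iff]
    intro e
    exact hAc (by rw [e]; exact le_top)
  refine ⟨fun N hN => ?_⟩
  have hle : Subgroup.center X ≤ N.comap (QuotientGroup.mk' (Subgroup.center X)) :=
    (QuotientGroup.ker_mk' (Subgroup.center X)).ge.trans (Subgroup.comap_mono bot_le)
  have hsurj := QuotientGroup.mk'_surjective (Subgroup.center X)
  rcases @H98.normal_sup_eq_top_or_le_center _ _ _ _ h _ (hN.comap (QuotientGroup.mk' (Subgroup.center X))) with h1 | h1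
  · right
    rw [← Subgroup.map_comap_eq_self_of_surjective hsurj N, hab _ (hN.comap _) h1,
      Subgroup.map_top_of_surjective _ hsurj]
  · left
    rw [← Subgroup.map_comap_eq_self_of_surjective hsurj N, le_antisymm h1 hle,
      QuotientGroup.map_mk'_self]

end Cfsg.Agent.S5017
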