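import Cfsg.Statements.S0011
import Mathlib.GroupTheory.Nilpotent

set_option autoImplicit false
open Cfsg

namespace Cfsg.Agent.S0011

/-- If the Frattini quotient of a finite group is nilpotent then the group is nilpotent. -/
theorem result {G : Type*} [Group G] [Finite G]
    (h : Group.IsNilpotent (G ⧸ frattini G)) : Group.IsNilpotent G := by
  refine ((Group.isNilpotent_of_finite_tfae (G := G)).out 2 0 rfl rfl).mp ?_
  intro H hH
  have hle : (QuotientGroup.mk' (frattini G)).ker ≤ H := by
    rw [QuotientGroup.ker_mk']; exact frattini_le_coatom hH
  have hback := Subgroup.comap_map_eq_self hle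
  have hcm : IsCoatom (H.map (QuotientGroup.mk' (frattini G))) := by
    refine ⟨fun htop => ?_, fun K hK => ?_⟩
    · rw [htop, Subgroup.comap_top] at hback
      exact hH.1 hback.symm
    · have : H < K.comap (QuotientGroup.mk' (frattini G)) := by
        rw [← hback]
        exact (Subgroup.comap_lt_comap_of_surjective (QuotientGroup.mk'_surjective _)).mpr hK
      exact Subgroup.comap_injective (QuotientGroup.mk'_surjective (frattini G))
        (by rw [hH.2 _ this, Subgroup.comap_top])
  have hn : (H.map (QuotientGroup.mk' (frattini G))).Normal :=
    ((Group.isNilpotent_of_finite_tfae (G := G ⧸ frattini G)).out 0 2 rfl rfl).mp h _ hcm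
  have := hn.comap (QuotientGroup.mk' (frattini G))
  rwa [hback] at this

end Cfsg.Agent.S0011
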