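import Cfsg.Statements.S0014
import Cfsg.Agent.H6.Basic

set_option autoImplicit false
open Cfsg

namespace Cfsg.Agent.S0014

/-- Burnside's basis Theorem: in a finite p-group whose Frattini quotient has order p ^ n, every generating set contains n elements that already generate, and no set with fewer than n elements generates. -/
theorem result {G : Type*} [Group G] [Finite G] (p n : ℕ) [Fact p.Prime]
    (hG : IsPGroup p G) (hn : (frattini G).index = p ^ n) :
    (∀ S : Finset G, Subgroup.closure (S : Set G) = ⊤ → ∃ T : Finset G, T ⊆ S ∧ T.card = n ∧ Subgroup.closure (T : Set G) = ⊤) ∧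
    (∀ T : Finset G, Subgroup.closure (T : Set G) = ⊤ → n ≤ T.card) := by
  classical
  have hp : p.Prime := Fact.out
  set Φ := frattini G with hΦ
  have hab : IsMulCommutative (G ⧸ Φ) :=
    Subgroup.Normal.quotient_commutative_iff_commutator_le.mpr (H6.commutator_le_frattini hG)
  let B : Finset G → Subgroup (G ⧸ Φ) := fun T => (Subgroup.closure (T : Set G)).map (QuotientGroup.mk' Φ)
  have hBtop : ∀ T : Finset G, B T = ⊤ ↔ Subgroup.closure (T : Set G) = ⊤ := by
    intro T
    refine ⟨fun h => ?_, fun h => ?_⟩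
    · apply frattini_nongenerating
      have h1 := congrArg (Subgroup.comap (QuotientGroup.mk' Φ)) h
      rwa [Subgroup.comap_map_eq, QuotientGroup.ker_mk', Subgroup.comap_top] at h1
    · simp only [B, h]
      exact Subgroup.map_top_of_surjective _ (QuotientGroup.mk'_surjective Φ)
  have hBins : ∀ (x : G) (T : Finset G), B (insert x T) = B T ⊔ Subgroup.zpowers (x : G ⧸ Φ) := by
    intro x T
    simp only [B, Finset.coe_insert, Set.insert_eq, Subgroup.closure_union, Subgroup.map_sup,
      ← Subgroup.zpowers_eq_closure, MonoidHom.map_zpowers, QuotientGroup.mk'_apply]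
    exact sup_comm _ _
  have hord : ∀ x : G, orderOf (x : G ⧸ Φ) ∣ p := fun x => orderOf_dvd_of_pow_eq_one (by
    rw [← QuotientGroup.mk_pow, QuotientGroup.eq_one_iff]; exact H6.pow_prime_mem_frattini hG x)
  have hstep : ∀ (x : G) (T : Finset G), (x : G ⧸ Φ) ∉ B T →
      Nat.card ↥(B (insert x T)) = p * Nat.card ↥(B T) := by
    intro x T hx
    rw [hBins]
    have hx1 : orderOf (x : G ⧸ Φ) = p := by
      rcases (Nat.dvd_prime hp).mp (hord x) with h | h
      · exact absurd (orderOf_eq_one_iff.mp h ▸ one_mem _) hx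
      · exact h
    have hn : (B T).Normal := ⟨fun a ha g => by
      rwa [hab.is_comm.comm g a, mul_inv_cancel_right]⟩
    have hd : B T ⊓ Subgroup.zpowers (x : G ⧸ Φ) = ⊥ := by
      rcases (Nat.dvd_prime hp).mp (show Nat.card ↥(B T ⊓ Subgroup.zpowers (x : G ⧸ Φ)) ∣ p from
        hx1 ▸ Nat.card_zpowers (x : G ⧸ Φ) ▸ Subgroup.card_dvd_of_le inf_le_right) with h | h
      · exact Subgroup.card_eq_one.mp h
      · refine absurd ?_ hx
        have := Subgroup.eq_of_le_of_card_ge (inf_le_right : B T ⊓ Subgroup.zpowers (x : G ⧸ Φ) ≤ _)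
          (by rw [h, Nat.card_zpowers, hx1])
        exact (Subgroup.mem_inf.mp (this.symm ▸ Subgroup.mem_zpowers (x : G ⧸ Φ))).1
    have h1 := Subgroup.relIndex_mul_relIndex ⊥ (B T) (B T ⊔ Subgroup.zpowers (x : G ⧸ Φ)) bot_le le_sup_left
    rw [Subgroup.relIndex_bot_left, Subgroup.relIndex_bot_left, Subgroup.relIndex_sup_left,
      ← Subgroup.inf_relIndex_right, hd, Subgroup.relIndex_bot_left, Nat.card_zpowers, hx1] at h1
    rw [← h1, mul_comm]
  have hle : ∀ T : Finset G, Nat.card ↥(B T) ≤ p ^ T.card := by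
    intro T
    induction T using Finset.induction_on with
    | empty => simp [B]
    | @insert x s hxs ih =>
      rw [Finset.card_insert_of_notMem hxs, pow_succ, mul_comm]
      by_cases hx : (x : G ⧸ Φ) ∈ B s
      · rw [hBins, sup_eq_left.mpr (Subgroup.zpowers_le.mpr hx)]
        exact ih.trans (Nat.le_mul_of_pos_left _ hp.pos)
      · rw [hstep x s hx]
        exact Nat.mul_le_mul_left p ih
  have htop : Nat.card ↥(⊤ : Subgroup (G ⧸ Φ)) = p ^ n := by
    rw [Subgroup.card_top, ← Subgroup.index_eq_card, hn]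
  refine ⟨fun S hS => ?_, fun T hT => ?_⟩
  · have key : ∀ T : Finset G, ∃ T' : Finset G, T' ⊆ T ∧ B T' = B T ∧ Nat.card ↥(B T') = p ^ T'.card := by
      intro T
      induction T using Finset.induction_on with
      | empty => exact ⟨∅, subset_rfl, rfl, by simp [B]⟩
      | @insert x s hxs ih =>
        obtain ⟨s', hs', hB', hc⟩ := ih
        by_cases hx : (x : G ⧸ Φ) ∈ B s'
        · refine ⟨s', hs'.trans (Finset.subset_insert x s), ?_, hc⟩
          rw [hBins, ← hB', sup_eq_left.mpr (Subgroup.zpowers_le.mpr hx)]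
        · refine ⟨insert x s', Finset.insert_subset_insert x hs', by rw [hBins, hBins, hB'], ?_⟩
          rw [hstep x s' hx, hc, Finset.card_insert_of_notMem (fun h => hxs (hs' h)), pow_succ,
            mul_comm]
    obtain ⟨T, hTS, hB', hc⟩ := key S
    refine ⟨T, hTS, ?_, (hBtop T).mp (hB'.trans ((hBtop S).mpr hS))⟩
    rw [hB', (hBtop S).mpr hS, htop] at hc
    exact (Nat.pow_right_injective hp.two_le hc).symm
  · have := hle T
    rw [(hBtop T).mpr hT, htop] at this
    exact (Nat.pow_le_pow_iff_right hp.one_lt).mp this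

end Cfsg.Agent.S0014
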