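import Cfsg.Statements.S0015
import Mathlib.GroupTheory.Nilpotent

set_option autoImplicit false
open Cfsg

namespace Cfsg.Agent.S0015

/-- In a finite nilpotent group, an abelian normal subgroup that is maximal among abelian normal subgroups equals its own centralizer. -/
theorem result {G : Type*} [Group G] [Finite G] [Group.IsNilpotent G]
    (N : Subgroup G) [N.Normal] [IsMulCommutative N]
    (hmax : ∀ M : Subgroup G, M.Normal → IsMulCommutative M → N ≤ M → M = N) :
    Subgroup.centralizer (N : Set G) = N := by
  refine le_antisymm ?_ (Subgroup.le_centralizer_iff_isMulCommutative.mpr inferInstance)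
  set C := Subgroup.centralizer (N : Set G)
  have key : ∀ i, Subgroup.upperCentralSeries G i ⊓ C ≤ N := by
    intro i
    induction i with
    | zero => simp
    | succ i ih =>
      intro x hx
      obtain ⟨hx1, hx2⟩ := Subgroup.mem_inf.mp hx
      have hcomm : ∀ g : G, x * g * x⁻¹ * g⁻¹ ∈ N := fun g => by
        refine ih (Subgroup.mem_inf.mpr ⟨Subgroup.mem_upperCentralSeries_succ_iff.mp hx1 g, ?_⟩)
        have hCn : C.Normal := Subgroup.normal_centralizer
        have : x * g * x⁻¹ * g⁻¹ = x * (g * x⁻¹ * g⁻¹) := by group
        rw [this]
        exact mul_mem hx2 (hCn.conj_mem _ (inv_mem hx2) g)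
      set M := N ⊔ Subgroup.zpowers x with hM
      have hMn : M.Normal := by
        refine ⟨fun m hm g => ?_⟩
        have hle : M ≤ M.comap (MulAut.conj g).toMonoidHom := by
          refine sup_le (fun n hn => Subgroup.mem_sup_left (‹N.Normal›.conj_mem n hn g)) ?_
          rw [Subgroup.zpowers_le, Subgroup.mem_comap]
          have e : (MulAut.conj g).toMonoidHom x = (x * g * x⁻¹ * g⁻¹)⁻¹ * x := by
            change g * x * g⁻¹ = _; group
          rw [e]
          exact mul_mem (Subgroup.mem_sup_left (inv_mem (hcomm g)))
            (Subgroup.mem_sup_right (Subgroup.mem_zpowers x))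
        exact hle hm
      have hab : IsMulCommutative M := by
        rw [← Subgroup.le_centralizer_iff_isMulCommutative]
        have hN : N ≤ Subgroup.centralizer (N : Set G) :=
          Subgroup.le_centralizer_iff_isMulCommutative.mpr inferInstance
        refine sup_le (Subgroup.le_centralizer_iff.mpr (sup_le hN
          (Subgroup.zpowers_le.mpr hx2))) ?_
        rw [Subgroup.le_centralizer_iff]
        refine sup_le (Subgroup.le_centralizer_iff.mpr (Subgroup.zpowers_le.mpr hx2)) ?_
        exact Subgroup.le_centralizer_iff_isMulCommutative.mpr inferInstance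
      rw [← hmax M hMn hab le_sup_left]
      exact Subgroup.mem_sup_right (Subgroup.mem_zpowers x)
  obtain ⟨n, hn⟩ := Group.IsNilpotent.nilpotent G
  simpa [hn] using key n

end Cfsg.Agent.S0015
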