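import Cfsg.Statements.S0017
import Cfsg.Agent.H1.Fitting

set_option autoImplicit false
open Cfsg

namespace Cfsg.Agent.S0017

/-- In a finite solvable group whose largest normal subgroup of order prime to p is trivial, the centralizer of the p-core is contained in the p-core. -/
theorem result {G : Type*} [Group G] [Finite G] [Group.IsSolvable G] (p : ℕ) [Fact p.Prime]
    (h : Cfsg.pPrimeCore p G = ⊥) :
    Subgroup.centralizer (Cfsg.pCore p G : Set G) ≤ Cfsg.pCore p G := by
  have hF : Cfsg.fittingSubgroup G ≤ Cfsg.pCore p G := by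
    rw [H1.fittingSubgroup_eq_iSup_pCore]
    refine iSup_le fun q => ?_
    by_cases hq : (q : ℕ) = p
    · rw [hq]
    · have : Fact (q : ℕ).Prime := ⟨q.2⟩
      obtain ⟨n, hn⟩ := H1.card_pCore_eq_pow (q : ℕ) G
      have := H1.pCore_normal' (q : ℕ) G
      have h1 : Cfsg.pCore (q : ℕ) G ≤ Cfsg.pPrimeCore p G := H1.le_pPrimeCore (by
        rw [hn]; exact ((Nat.coprime_primes q.2 Fact.out).mpr hq).pow_left n)
      exact h1.trans (h ▸ bot_le)
  calc Subgroup.centralizer (Cfsg.pCore p G : Set G)
      ≤ Subgroup.centralizer (Cfsg.fittingSubgroup G : Set G) := Subgroup.centralizer_le hF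
    _ ≤ Cfsg.fittingSubgroup G := H1.centralizer_fitting_le_of_isSolvable inferInstance
    _ ≤ Cfsg.pCore p G := hF

end Cfsg.Agent.S0017
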