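import Cfsg.Statements.S0018
import Cfsg.Agent.H1.Fitting
import Cfsg.Agent.S0017

set_option autoImplicit false
open Cfsg

namespace Cfsg.Agent.S0018

/-- A finite solvable group whose Sylow p-subgroups are abelian has p-length one: a Sylow p-subgroup together with the largest normal subgroup of order prime to p generates a normal subgroup. -/
theorem result {G : Type*} [Group G] [Finite G] [Group.IsSolvable G]
    (p : ℕ) [Fact p.Prime] (P : Sylow p G) (hP : IsMulCommutative P) :
    ((P : Subgroup G) ⊔ Cfsg.pPrimeCore p G).Normal := by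
  have := H1.pPrimeCore_normal' p G
  set N := Cfsg.pPrimeCore p G
  have hbar : Cfsg.pPrimeCore p (G ⧸ N) = ⊥ := H1.pPrimeCore_quotient_pPrimeCore p
  have hcc := Cfsg.Agent.S0017.result p hbar
  set Pb := P.mapSurjective (QuotientGroup.mk'_surjective N) with hPb
  have hle : (Pb : Subgroup (G ⧸ N)) ≤ Cfsg.pCore p (G ⧸ N) := by
    refine le_trans ?_ hcc
    intro x hx
    rw [Subgroup.mem_centralizer_iff]
    intro y hy
    rw [hPb, Sylow.coe_mapSurjective] at hx
    have hy' : y ∈ (P : Subgroup G).map (QuotientGroup.mk' N) := by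
      have := H1.pCore_le_sylow Pb hy
      rwa [hPb, Sylow.coe_mapSurjective] at this
    obtain ⟨a, ha, rfl⟩ := hx
    obtain ⟨b, hb, rfl⟩ := hy'
    rw [← map_mul, ← map_mul]
    exact congrArg _ (congrArg Subtype.val (hP.is_comm.comm ⟨b, hb⟩ ⟨a, ha⟩))
  have heq : (P : Subgroup G).map (QuotientGroup.mk' N) = Cfsg.pCore p (G ⧸ N) := by
    have h1 := le_antisymm hle (H1.pCore_le_sylow Pb)
    rwa [hPb, Sylow.coe_mapSurjective] at h1
  have hn : ((P : Subgroup G).map (QuotientGroup.mk' N)).Normal := heq ▸ H1.pCore_normal' p (G ⧸ N)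
  have h2 := hn.comap (QuotientGroup.mk' N)
  rwa [Subgroup.comap_map_eq, QuotientGroup.ker_mk'] at h2

end Cfsg.Agent.S0018
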