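import Cfsg.Statements.S0049
import Mathlib.GroupTheory.Frattini
import Mathlib.GroupTheory.SchurZassenhaus

set_option autoImplicit false
open Cfsg

namespace Cfsg.Agent.S0049

/-- A prime divisor of the order of a finite group also divides the index of the Frattini subgroup. -/
theorem result {G : Type*} [Group G] [Finite G] (p : ℕ) (hp : p.Prime) (hdvd : p ∣ Nat.card G) :
    p ∣ (frattini G).index := by
  have := Fact.mk hp
  by_contra hidx
  obtain ⟨P⟩ : Nonempty (Sylow p G) := inferInstance
  haveI hΦ : Group.IsNilpotent (frattini G) := frattini_nilpotent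
  have hF : (frattini G).Normal := inferInstance
  have hPle : (P : Subgroup G) ≤ frattini G := by
    intro x hx
    obtain ⟨n, hn⟩ := P.2 ⟨x, hx⟩
    have hn' : x ^ (p ^ n) = 1 := congrArg Subtype.val hn
    have h1 : orderOf (QuotientGroup.mk' (frattini G) x) ∣ p ^ n :=
      orderOf_dvd_of_pow_eq_one (by rw [← map_pow, hn', map_one])
    have h2 : orderOf (QuotientGroup.mk' (frattini G) x) ∣ (frattini G).index :=
      orderOf_dvd_natCard _
    have h3 := Nat.eq_one_of_dvd_coprimes
      (Nat.Coprime.pow_left n ((Nat.Prime.coprime_iff_not_dvd hp).2 hidx)) h1 h2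
    exact (QuotientGroup.eq_one_iff x).1 (orderOf_eq_one_iff.1 h3)
  -- the Sylow subgroup is normal, by the Frattini argument
  let P' : Sylow p (frattini G) := P.subtype hPle
  have hP'n : (P' : Subgroup (frattini G)).Normal :=
    (Group.isNilpotent_of_finite_tfae.out 0 3 rfl rfl).1 hΦ p inferInstance P'
  have hsup := Sylow.normalizer_sup_eq_top P'
  have hmap : (P' : Subgroup (frattini G)).map (frattini G).subtype = (P : Subgroup G) := by
    rw [Sylow.coe_subtype, Subgroup.map_subgroupOf_eq_of_le hPle]
  rw [hmap] at hsup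
  have hN := frattini_nongenerating hsup
  have hPn : (P : Subgroup G).Normal := Subgroup.normalizer_eq_top_iff.1 hN
  obtain ⟨K, hK⟩ := Subgroup.exists_right_complement'_of_coprime
    (P.card_coprime_index)
  have hKtop : K = ⊤ := frattini_nongenerating (top_le_iff.1 (hK.sup_eq_top.ge.trans
    (sup_le (hPle.trans le_sup_right) le_sup_left)))
  subst hKtop
  exact P.ne_bot_of_dvd_card hdvd (Subgroup.isComplement'_top_right.1 hK)

end Cfsg.Agent.S0049
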