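import Cfsg.Statements.S0050
import Cfsg.Agent.H1.Hall
import Cfsg.Agent.H1.CoprimeAction

set_option autoImplicit false
open Cfsg
open scoped Pointwise

namespace Cfsg.Agent.S0050

/-- Frattini argument for Hall subgroups: if L is a solvable normal subgroup and H a subgroup of L of order coprime to its index in L, then L together with the normaliser of H generates the whole group. -/
theorem result {G : Type*} [Group G] [Finite G] (L : Subgroup G) [L.Normal] (hL : Group.IsSolvable L)
    (H : Subgroup G) (hHL : H ≤ L) (hHall : (Nat.card H).Coprime (H.relIndex L)) :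
    L ⊔ Subgroup.normalizer (H : Set G) = ⊤ := by
  rw [eq_top_iff]
  intro g _
  haveI := hL
  have key : ∀ h ∈ H, g * h * g⁻¹ ∈ L := fun h hh => ‹L.Normal›.conj_mem h (hHL hh) g
  have hle : MulAut.conj g • H ≤ L := by
    rintro x ⟨h, hh, rfl⟩
    exact key h hh
  have hc1 : Nat.card (H.subgroupOf L) = Nat.card H :=
    Nat.card_congr (Subgroup.subgroupOfEquivOfLe hHL).toEquiv
  have hc2 : Nat.card ((MulAut.conj g • H).subgroupOf L) = Nat.card H := by
    rw [Nat.card_congr (Subgroup.subgroupOfEquivOfLe hle).toEquiv]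
    exact (Nat.card_congr (Subgroup.equivSMul (MulAut.conj g) H).toEquiv).symm
  have hL' : Nat.card L = Nat.card H * H.relIndex L := by
    rw [← hc1]
    exact (H.subgroupOf L).card_mul_index.symm
  obtain ⟨l, hl⟩ := H1.hall_conj _ _ hL' hHall _ _ hc1 hc2
  have hl' : MulAut.conj (l : G) • H = MulAut.conj g • H := by
    have h1 := congrArg (Subgroup.map L.subtype) hl
    rw [H1.map_subtype_conj_smul, Subgroup.map_subgroupOf_eq_of_le hHL,
      Subgroup.map_subgroupOf_eq_of_le hle] at h1
    exact h1
  have hn : (l : G)⁻¹ * g ∈ Subgroup.normalizer (H : Set G) := by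
    rw [Subgroup.mem_normalizer_iff_map_conj_eq]
    show MulAut.conj ((l : G)⁻¹ * g) • H = H
    rw [map_mul, mul_smul, ← hl', map_inv, inv_smul_smul]
  have := Subgroup.mul_mem_sup l.2 hn
  simpa using this

end Cfsg.Agent.S0050
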