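import Cfsg.Statements.S0053
import Mathlib.GroupTheory.Frattini

set_option autoImplicit false
open Cfsg

namespace Cfsg.Agent.S0053

/-- An abelian minimal normal subgroup N of a finite group is complemented exactly when N is not inside the Frattini subgroup. -/
theorem result {G : Type*} [Group G] [Finite G]
    (N : Subgroup G) [N.Normal] [IsMulCommutative N] (hN : N ≠ ⊥)
    (hmin : ∀ M : Subgroup G, M.Normal → M ≤ N → M = ⊥ ∨ M = N) :
    (∃ H : Subgroup G, Subgroup.IsComplement' N H) ↔ ¬ N ≤ frattini G := by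
  constructor
  · rintro ⟨H, hH⟩ hle
    apply hN
    rcases eq_top_or_exists_le_coatom H with rfl | ⟨M, hM, hHM⟩
    · exact Subgroup.isComplement'_top_right.1 hH
    · exact absurd (top_le_iff.1 (hH.sup_eq_top.ge.trans
        (sup_le (hle.trans (frattini_le_coatom hM)) hHM))) hM.1
  · intro hle
    obtain ⟨M, hM, hNM⟩ : ∃ M : Subgroup G, IsCoatom M ∧ ¬ N ≤ M := by
      by_contra hcon
      push Not at hcon
      exact hle (le_iInf₂ hcon)
    have htop : M ⊔ N = ⊤ := hM.2 _ (lt_of_le_of_ne le_sup_left fun h => hNM (h ▸ le_sup_right))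
    have hnorm : (N ⊓ M).Normal := by
      refine Subgroup.normalizer_eq_top_iff.1 (top_le_iff.1 (htop.ge.trans (sup_le ?_ ?_)))
      · intro m hm
        rw [Subgroup.mem_normalizer_iff]
        intro x
        constructor
        · exact fun hx => ⟨‹N.Normal›.conj_mem x hx.1 m, M.mul_mem (M.mul_mem hm hx.2) (M.inv_mem hm)⟩
        · intro hx
          have h1 := ‹N.Normal›.conj_mem _ hx.1 m⁻¹
          have h2 := M.mul_mem (M.mul_mem (M.inv_mem hm) hx.2) hm
          exact ⟨by simpa [mul_assoc] using h1, by simpa [mul_assoc] using h2⟩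
      · intro n hn
        rw [Subgroup.mem_normalizer_iff]
        intro x
        have hcomm : ∀ y ∈ N, n * y * n⁻¹ = y := fun y hy => by
          have := congrArg Subtype.val
            ((IsMulCommutative.is_comm (M := N)).comm ⟨n, hn⟩ ⟨y, hy⟩)
          rw [mul_inv_eq_iff_eq_mul]; exact this
        constructor
        · intro hx; rwa [hcomm x hx.1]
        · intro hx
          have h1 : x ∈ N := by simpa [mul_assoc] using ‹N.Normal›.conj_mem _ hx.1 n⁻¹
          rwa [hcomm x h1] at hx
    have hbot : N ⊓ M = ⊥ := (hmin _ hnorm inf_le_left).resolve_right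
      (fun h => hNM (inf_eq_left.1 h))
    refine ⟨M, Subgroup.isComplement'_of_disjoint_and_mul_eq_univ (disjoint_iff.2 hbot) ?_⟩
    rw [← Subgroup.normal_mul, sup_comm, htop, Subgroup.coe_top]

end Cfsg.Agent.S0053
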