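import Cfsg.Statements.S0058
import Cfsg.Agent.H8.Coprime
import Cfsg.Agent.H2.UniqueSubgroup
import Mathlib.GroupTheory.SpecificGroups.ZGroup

set_option autoImplicit false
open Cfsg

namespace Cfsg.Agent.S0058

/-- Generation by centralisers: when a noncyclic abelian group A normalises K with coprime orders, K is generated by the fixed-point subgroups of the nonidentity elements of A. -/
theorem result {G : Type*} [Group G] [Finite G] (A K : Subgroup G)
    [IsMulCommutative A] (hA : ¬ IsCyclic A) (hAK : A ≤ Subgroup.normalizer (K : Set G)) (hcop : (Nat.card A).Coprime (Nat.card K)) :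
    (⨆ a ∈ {a : G | a ∈ A ∧ a ≠ 1}, K ⊓ Subgroup.centralizer {a}) = K := by
  refine le_antisymm (iSup₂_le fun a _ => inf_le_left) ?_
  haveI : IsMulCommutative A := ‹_›
  letI : CommGroup A := { (inferInstance : Group A) with mul_comm := fun a b => IsMulCommutative.is_comm.comm a b }
  obtain ⟨p, hp, P, hP⟩ : ∃ p : ℕ, ∃ _ : Fact p.Prime, ∃ P : Sylow p A, ¬ IsCyclic P := by
    by_contra hcon
    push Not at hcon
    haveI : IsZGroup A := ⟨fun p hp P => hcon p ⟨hp⟩ P⟩
    exact hA inferInstance
  have := hp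
  have hker : p < Nat.card (powMonoidHom p : P →* P).ker := by
    by_contra h
    exact hP (H2.isCyclic_of_pow_ker_le P.2 (not_lt.1 h))
  obtain ⟨n, hn⟩ := IsPGroup.iff_card.1 (P.2.to_subgroup (powMonoidHom p : P →* P).ker)
  set E := (powMonoidHom p : P →* P).ker with hE
  let f : E →* G := (A.subtype.comp (P : Subgroup A).subtype).comp E.subtype
  have hf : Function.Injective f := fun a b h => Subtype.ext (Subtype.ext (Subtype.ext h))
  have hcard : Nat.card f.range = Nat.card E := (Nat.card_congr (MonoidHom.ofInjective hf).toEquiv).symm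
  have hrange : f.range ≤ A := by rintro _ ⟨a, rfl⟩; exact ((a : P) : A).2
  have hel : Cfsg.IsElementaryAbelian p f.range := by
    refine ⟨⟨⟨fun a b => ?_⟩⟩, ?_⟩
    · exact Subtype.ext (congrArg Subtype.val (mul_comm (⟨a, hrange a.2⟩ : A) ⟨b, hrange b.2⟩) :)
    · rintro _ ⟨a, rfl⟩
      have h : ((a : P)) ^ p = 1 := a.2
      rw [← map_pow, show a ^ p = 1 from Subtype.ext h, map_one]
  have hn2 : 2 ≤ n := by
    by_contra h
    rw [hn] at hker
    have : p ^ n ≤ p ^ 1 := Nat.pow_le_pow_right (Fact.out : p.Prime).pos (by omega)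
    rw [pow_one] at this
    omega
  refine H8.generation_elements hel ?_ (hrange.trans hAK) ?_ ?_
  · rw [hcard, hn]; exact Nat.pow_le_pow_right (Fact.out : p.Prime).pos hn2
  · intro h
    have h1 : p ∣ Nat.card A := by
      refine dvd_trans ?_ (P : Subgroup A).card_subgroup_dvd_card
      exact dvd_trans (hn ▸ dvd_pow_self p (by omega)) E.card_subgroup_dvd_card
    exact (Fact.out : p.Prime).not_dvd_one (hcop ▸ Nat.dvd_gcd h1 h)
  · intro a ha ha1
    exact le_iSup₂_of_le (f := fun a (_ : a ∈ {a : G | a ∈ A ∧ a ≠ 1}) => K ⊓ Subgroup.centralizer {a})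
      a ⟨hrange ha, ha1⟩ le_rfl

end Cfsg.Agent.S0058
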