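import Cfsg.Statements.S0060
import Mathlib.GroupTheory.Sylow
import Mathlib.Data.Fintype.Lattice

set_option autoImplicit false
open Pointwise
open Cfsg

namespace Cfsg.Agent.S0060

/-- Brodkey's Theorem: in a finite group with abelian Sylow p-subgroups and no nontrivial normal p-subgroup, some conjugate of a Sylow p-subgroup meets it trivially. -/
theorem result {G : Type*} [Group G] [Finite G] (p : ℕ) [Fact p.Prime]
    (S : Sylow p G) (hS : IsMulCommutative S) (hOp : Cfsg.pCore p G = ⊥) :
    ∃ g : G, (S : Subgroup G) ⊓ MulAut.conj g • (S : Subgroup G) = ⊥ := by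
  classical
  obtain ⟨g, hmin⟩ : ∃ g : G, ∀ g' : G,
      Nat.card ((S : Subgroup G) ⊓ MulAut.conj g • (S : Subgroup G) : Subgroup G) ≤
      Nat.card ((S : Subgroup G) ⊓ MulAut.conj g' • (S : Subgroup G) : Subgroup G) :=
    _root_.Finite.exists_min (fun g' : G =>
      Nat.card ((S : Subgroup G) ⊓ MulAut.conj g' • (S : Subgroup G) : Subgroup G))
  refine ⟨g, ?_⟩
  set T : Sylow p G := g • S with hT
  have hTc : (T : Subgroup G) = MulAut.conj g • (S : Subgroup G) := rfl
  rw [← hTc]
  rw [← hTc] at hmin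
  set D := (S : Subgroup G) ⊓ (T : Subgroup G) with hD
  -- minimality for all pairs of Sylow subgroups
  have hmin' : ∀ P Q : Sylow p G, Nat.card D ≤ Nat.card ((P : Subgroup G) ⊓ Q : Subgroup G) := by
    intro P Q
    obtain ⟨a, ha⟩ := MulAction.exists_smul_eq G S P
    obtain ⟨b, hb⟩ := MulAction.exists_smul_eq G S Q
    have : (P : Subgroup G) ⊓ Q =
        MulAut.conj a • ((S : Subgroup G) ⊓ MulAut.conj (a⁻¹ * b) • (S : Subgroup G)) := by
      rw [← ha, ← hb, Subgroup.smul_inf, ← mul_smul, ← map_mul, mul_inv_cancel_left]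
      rfl
    rw [this, ← Nat.card_congr (Subgroup.equivSMul (MulAut.conj a) _).toEquiv]
    exact hmin _
  set N := Subgroup.normalizer (D : Set G) with hN
  have hSN : (S : Subgroup G) ≤ N := by
    refine le_trans ?_ (Subgroup.centralizer_le_normalizer _)
    intro x hx
    rw [Subgroup.mem_centralizer_iff]
    intro y hy
    exact congrArg Subtype.val (hS.is_comm.comm ⟨y, hy.1⟩ ⟨x, hx⟩)
  have hTN : (T : Subgroup G) ≤ N := by
    refine le_trans ?_ (Subgroup.centralizer_le_normalizer _)
    intro x hx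
    rw [Subgroup.mem_centralizer_iff]
    intro y hy
    obtain ⟨a, ha, rfl⟩ := hx
    obtain ⟨b, hb, rfl⟩ := hy.2
    have := congrArg Subtype.val (hS.is_comm.comm ⟨b, hb⟩ ⟨a, ha⟩)
    exact (map_mul (MulAut.conj g) b a).symm.trans
      ((congrArg (MulAut.conj g) this).trans (map_mul (MulAut.conj g) a b))
  have key : ∀ R : Sylow p G, D ≤ R := by
    intro R
    -- a Sylow subgroup of `N` containing `R ⊓ N`
    obtain ⟨U, hU⟩ := (R.2.comap_of_injective N.subtype N.subtype_injective).exists_le_sylow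
    obtain ⟨n, hn⟩ := MulAction.exists_smul_eq N (S.subtype hSN) U
    let Q : Sylow p G := (n : G) • T
    let P : Sylow p G := (n : G) • S
    have hDn : MulAut.conj (n : G) • D = D := Subgroup.mem_normalizer_iff_map_conj_eq.1 n.2
    have hsub : (R : Subgroup G) ⊓ Q ≤ D := by
      intro x hx
      have hxN : x ∈ N := by
        obtain ⟨y, hy, rfl⟩ : x ∈ MulAut.conj (n : G) • (T : Subgroup G) := hx.2
        exact N.mul_mem (N.mul_mem n.2 (hTN hy)) (N.inv_mem n.2)
      have hxU : (⟨x, hxN⟩ : N) ∈ U := hU hx.1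
      rw [← hn] at hxU
      obtain ⟨y, hy, hy'⟩ := hxU
      have hxP : x ∈ (P : Subgroup G) := ⟨(y : G), hy, congrArg Subtype.val hy'⟩
      have h2 : x ∈ MulAut.conj (n : G) • D := by
        rw [hD, Subgroup.smul_inf]
        exact ⟨hxP, hx.2⟩
      rwa [hDn] at h2
    exact (Subgroup.eq_of_le_of_card_ge hsub (hmin' R Q)).ge.trans inf_le_left
  -- the intersection of all Sylow subgroups is trivial
  rw [eq_bot_iff, ← hOp]
  intro x hx
  let M : Subgroup G := Subgroup.normalCore (S : Subgroup G)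
  have hM : M ≤ Cfsg.pCore p G := le_sSup ⟨inferInstance, S.2.to_le (Subgroup.normalCore_le _)⟩
  refine hM fun b => ?_
  obtain ⟨y, hy, hxy⟩ : x ∈ MulAut.conj b⁻¹ • (S : Subgroup G) := key (b⁻¹ • S) hx
  rw [← hxy]
  simpa [mul_assoc] using (SetLike.mem_coe.1 hy)

end Cfsg.Agent.S0060
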