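import Cfsg.Statements.S0063
import Mathlib.GroupTheory.Nilpotent
import Mathlib.GroupTheory.SpecificGroups.Cyclic

set_option autoImplicit false
open Cfsg

namespace Cfsg.Agent.S0063

/-- A finite group of prime-power order p ^ m with m > 1 is nilpotent of class at most m - 1. -/
theorem result {G : Type*} [Group G] [Finite G] (p m : ℕ) [Fact p.Prime]
    (hG : Nat.card G = p ^ m) (hm : 1 < m) : Group.nilpotencyClass G ≤ m - 1 := by
  suffices key : ∀ (n : ℕ) (H : Type _) [Group H] [Finite H], Nat.card H = p ^ n →
      Group.nilpotencyClass H ≤ max (n - 1) 1 by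
    have := key m G hG
    omega
  intro n
  induction n using Nat.strong_induction_on with
  | _ n ih =>
    intro H _ _ hH
    have hp : p.Prime := Fact.out
    have hPG : IsPGroup p H := IsPGroup.of_card hH
    have := hPG.isNilpotent
    rcases subsingleton_or_nontrivial H with hs | hnt
    · rw [(Group.nilpotencyClass_zero_iff_subsingleton).2 hs]; omega
    rw [Group.nilpotencyClass_eq_quotient_center_plus_one]
    obtain ⟨k, hk⟩ := IsPGroup.iff_card.1 (hPG.to_quotient (Subgroup.center H))
    have hkn : k < n := by
      have h1 := (Subgroup.center H).card_eq_card_quotient_mul_card_subgroup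
      rw [hk, hH] at h1
      have := hPG.center_nontrivial
      have h2 : 1 < Nat.card (Subgroup.center H) := Finite.one_lt_card
      have h3 : p ^ k < p ^ n := by
        rw [h1]
        exact lt_mul_of_one_lt_right (pow_pos hp.pos k) h2
      exact (Nat.pow_lt_pow_iff_right hp.one_lt).1 h3
    have h4 := ih k hkn _ hk
    by_cases hk0 : k = 0
    · subst hk0
      have : Subsingleton (H ⧸ Subgroup.center H) :=
        (Nat.card_eq_one_iff_unique.1 (by simpa using hk)).1
      rw [Group.nilpotencyClass_zero_iff_subsingleton.2 this]; omega
    by_cases hk1 : k = 1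
    · subst hk1
      have hcyc : IsCyclic (H ⧸ Subgroup.center H) := isCyclic_of_prime_card (p := p) (by simpa using hk)
      have htop : Subgroup.center H = ⊤ := by
        rw [eq_top_iff]
        intro x _
        rw [Subgroup.mem_center_iff]
        intro y
        exact ((QuotientGroup.mk' (Subgroup.center H)).isMulCommutative_of_isCyclic_of_ker_le_center
          (by rw [QuotientGroup.ker_mk'])).is_comm.comm y x
      have : Subsingleton (H ⧸ Subgroup.center H) := by
        rw [htop]; exact QuotientGroup.subsingleton_quotient_top
      rw [Group.nilpotencyClass_zero_iff_subsingleton.2 this]; omega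
    omega

end Cfsg.Agent.S0063
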