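import Cfsg.Statements.S0064
import Cfsg.Agent.H3.SubnormalJoin

set_option autoImplicit false
open Cfsg

namespace Cfsg.Agent.S0064

/-- A finite group is nilpotent exactly when each of its subgroups is subnormal. -/
theorem result {G : Type*} [Group G] [Finite G] :
    Group.IsNilpotent G ↔ ∀ H : Subgroup G, H.IsSubnormal := by
  refine ⟨fun h H => H3.subnormal_of_isNilpotent H, fun h => ?_⟩
  refine (Group.isNilpotent_of_finite_tfae.out 0 2 rfl rfl).2 fun M hM => ?_
  obtain ⟨K, hK, hle, hlt⟩ := (h M).lt_normal.resolve_left hM.1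
  rcases eq_or_lt_of_le hle with rfl | hlt'
  · exact hK
  · exact absurd (hM.2 _ hlt') hlt.ne

end Cfsg.Agent.S0064
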