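import Cfsg.Statements.S0073
import Cfsg.Agent.H5.AbelianHall
-- import your own Cfsg.Agent.* helpers here

set_option autoImplicit false
open Cfsg

namespace Cfsg.Agent.S0073

/-- For a finite non-abelian simple group, either the cube of the least prime divisor of the order divides the order, or 12 does. -/
theorem result {G : Type*} [Group G] [Finite G] [IsSimpleGroup G] (hG : ∃ x y : G, x * y ≠ y * x) : (Nat.card G).minFac ^ 3 ∣ Nat.card G ∨ 12 ∣ Nat.card G := by
  by_contra hcon
  rw [not_or] at hcon
  obtain ⟨hp3, h12⟩ := hcon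
  obtain ⟨x, y, hxy⟩ := hG
  have hne1 : Nat.card G ≠ 1 := fun h1 => hxy (by
    have := (Nat.card_eq_one_iff_unique.mp h1).1
    exact Subsingleton.elim _ _)
  set p := (Nat.card G).minFac with hpd
  haveI hp : Fact p.Prime := ⟨Nat.minFac_prime hne1⟩
  obtain ⟨P⟩ := (inferInstance : Nonempty (Sylow p G))
  obtain ⟨a, ha⟩ := IsPGroup.iff_card.mp P.2
  have ha2 : a ≤ 2 := by
    by_contra hlt
    exact hp3 (((pow_dvd_pow p (by omega : 3 ≤ a)).trans ha.symm.dvd).trans
      (Subgroup.card_subgroup_dvd_card _))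
  have hcomm : ∀ u v : ↥(P : Subgroup G), u * v = v * u := by
    interval_cases a
    · intro u v
      have := (Nat.card_eq_one_iff_unique.mp (ha.trans (pow_zero p))).1
      exact Subsingleton.elim _ _
    · haveI : IsCyclic ↥(P : Subgroup G) := isCyclic_of_prime_card (by simpa using ha)
      exact (IsCyclic.commGroup : CommGroup ↥(P : Subgroup G)).mul_comm
    · exact IsPGroup.commutative_of_card_eq_prime_sq ha
  have hle : Subgroup.normalizer (P : Set G) ≤ Subgroup.centralizer (P : Set G) := by
    refine H5.normalizer_le_centralizer_of_forall (P : Subgroup G) fun q hq g hg hgq => ?_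
    haveI := Fact.mk hq
    by_cases hg1 : g = 1
    · rw [hg1]; exact Subgroup.one_mem _
    obtain ⟨k, hk⟩ := hgq
    have hqG : q ∣ Nat.card G := by
      obtain ⟨i, -, hi⟩ := (Nat.dvd_prime_pow hq).mp (orderOf_dvd_of_pow_eq_one hk)
      have hi0 : i ≠ 0 := fun h0 => hg1 (orderOf_eq_one_iff.mp (by rw [hi, h0, pow_zero]))
      exact ((dvd_pow_self q hi0).trans hi.symm.dvd).trans (orderOf_dvd_natCard g)
    by_cases hqp : q = p
    · subst hqp
      have hpu : IsPGroup p (Subgroup.zpowers g) := by
        intro u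
        obtain ⟨u, i, rfl⟩ := u
        refine ⟨k, Subtype.ext ?_⟩
        show (g ^ i) ^ p ^ k = 1
        rw [← zpow_natCast, ← zpow_mul, mul_comm, zpow_mul, zpow_natCast, hk, one_zpow]
      have hgP := ((hpu.inf_normalizer_sylow P).le ⟨Subgroup.mem_zpowers g, hg⟩).2
      intro u hu
      exact congrArg Subtype.val (hcomm ⟨u, hu⟩ ⟨g, hgP⟩)
    have hlt : p < q := lt_of_le_of_ne (Nat.minFac_le_of_dvd hq.two_le hqG) (Ne.symm hqp)
    refine H5.mem_centralizer_of_card (P : Subgroup G) hg ⟨k, hk⟩ fun d hd hmod => ?_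
    rw [ha] at hd hmod
    rw [Nat.mem_properDivisors] at hd
    obtain ⟨j, hj, rfl⟩ := (Nat.dvd_prime_pow hp.out).mp hd.1
    have hja : j < a := (Nat.pow_lt_pow_iff_right hp.out.one_lt).mp hd.2
    have hdvd := (Nat.modEq_iff_dvd' hd.2.le).mp hmod
    have hp2 := hp.out.two_le
    have hq1 : ¬ q ∣ p - 1 := fun h => by
      have := Nat.le_of_dvd (by omega) h; omega
    have hqp' : ¬ q ∣ p := fun h => by
      have := Nat.le_of_dvd (by omega) h; omega
    have key : p ^ 2 - p = p * (p - 1) ∧ p ^ 2 - 1 = (p + 1) * (p - 1) := by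
      constructor
      · rw [Nat.mul_sub, sq, mul_one]
      · simpa using Nat.sq_sub_sq p 1
    interval_cases a <;> interval_cases j
    · exact hq1 (by simpa using hdvd)
    · rw [pow_zero, key.2] at hdvd
      rcases hq.dvd_mul.mp hdvd with h | h
      · have hle := Nat.le_of_dvd (by omega) h
        have hq' : q = p + 1 := by omega
        rcases hp.out.eq_two_or_odd with h2 | h2
        · refine h12 (Nat.Coprime.mul_dvd_of_dvd_of_dvd (by norm_num : Nat.Coprime 4 3) ?_ ?_)
          · have h4 : Nat.card ↥(P : Subgroup G) = 4 := by rw [ha, h2]; norm_num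
            exact h4 ▸ Subgroup.card_subgroup_dvd_card _
          · rw [hq', h2] at hqG; exact hqG
        · rcases hq.eq_two_or_odd with h3 | h3 <;> omega
      · exact hq1 h
    · rw [pow_one, key.1] at hdvd
      exact (hq.dvd_mul.mp hdvd).elim hqp' hq1
  have hN := MonoidHom.ker_transferSylow_isComplement' P hle
  rcases IsSimpleGroup.eq_bot_or_eq_top_of_normal (MonoidHom.transferSylow P hle).ker
      inferInstance with h | h
  · rw [h, Subgroup.isComplement'_bot_left] at hN
    exact hxy (congrArg Subtype.val (hcomm ⟨x, hN ▸ Subgroup.mem_top x⟩ ⟨y, hN ▸ Subgroup.mem_top y⟩))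
  · rw [h, Subgroup.isComplement'_top_left] at hN
    exact P.ne_bot_of_dvd_card (Nat.minFac_dvd _) hN
end Cfsg.Agent.S0073
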