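import Cfsg.Statements.S0078
import Cfsg.Agent.H5.TateCor
-- import your own Cfsg.Agent.* helpers here

set_option autoImplicit false
open Cfsg

namespace Cfsg.Agent.S0078

/-- In a p-normal group, a Sylow p-subgroup P meets O^p(G) exactly where it meets O^p(V), for any subgroup V containing the normalizer of the centre of P. -/
theorem result {G : Type*} [Group G] [Finite G] {p : ℕ} [Fact p.Prime] (P : Sylow p G) (hn : ∀ Q : Sylow p G, (P : Subgroup G) ⊓ Subgroup.centralizer (P : Set G) ≤ (Q : Subgroup G) → (Q : Subgroup G) ⊓ Subgroup.centralizer (Q : Set G) = (P : Subgroup G) ⊓ Subgroup.centralizer (P : Set G)) (V : Subgroup G) (hV : Subgroup.normalizer (((P : Subgroup G) ⊓ Subgroup.centralizer (P : Set G) : Subgroup G) : Set G) ≤ V) : (P : Subgroup G) ⊓ Cfsg.pResidual p G = (P : Subgroup G) ⊓ (Cfsg.pResidual p V).map V.subtype := by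
  have hW : Cfsg.IsWeaklyClosed ((P : Subgroup G) ⊓ Subgroup.centralizer (P : Set G))
      (P : Subgroup G) := by
    set Z := (P : Subgroup G) ⊓ Subgroup.centralizer (P : Set G) with hZ
    refine ⟨inf_le_left, fun g hg => ?_⟩
    have hQ : Z ≤ ((g⁻¹ • P : Sylow p G) : Subgroup G) := by
      intro z hz
      exact ⟨g * z * g⁻¹, hg ⟨z, hz, rfl⟩, by simp [mul_assoc]⟩
    have h1 := hn (g⁻¹ • P) hQ
    have hP' : ∀ w : G, w ∈ ((g⁻¹ • P : Sylow p G) : Subgroup G) ↔ g * w * g⁻¹ ∈ P := by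
      intro w
      constructor
      · rintro ⟨v, hv, rfl⟩
        simpa [mul_assoc] using hv
      · exact fun hw => ⟨g * w * g⁻¹, hw, by simp [mul_assoc]⟩
    refine SetLike.ext fun z => ?_
    constructor
    · rintro ⟨w, hw, rfl⟩
      have hw' := h1.symm ▸ hw
      refine ⟨(hP' w).mp hw'.1, fun v hv => ?_⟩
      have hv' : g⁻¹ * v * g ∈ ((g⁻¹ • P : Sylow p G) : Subgroup G) := by
        rw [hP']
        have hgv : g * (g⁻¹ * v * g) * g⁻¹ = v := by group
        rw [hgv]; exact hv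
      have h3 := hw'.2 _ hv'
      show v * (g * w * g⁻¹) = g * w * g⁻¹ * v
      calc v * (g * w * g⁻¹) = g * (g⁻¹ * v * g * w) * g⁻¹ := by group
        _ = g * (w * (g⁻¹ * v * g)) * g⁻¹ := by rw [h3]
        _ = g * w * g⁻¹ * v := by group
    · intro hz
      refine ⟨g⁻¹ * z * g, ?_, by simp [mul_assoc]⟩
      show g⁻¹ * z * g ∈ Z
      rw [← h1]
      refine ⟨(hP' _).mpr (by
        have hgz : g * (g⁻¹ * z * g) * g⁻¹ = z := by group
        rw [hgz]; exact hz.1), fun v hv => ?_⟩
      have h3 := hz.2 _ ((hP' v).mp hv)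
      calc v * (g⁻¹ * z * g) = g⁻¹ * (g * v * g⁻¹ * z) * g := by group
        _ = g⁻¹ * (z * (g * v * g⁻¹)) * g := by rw [h3]
        _ = g⁻¹ * z * g * v := by group
  refine H5.inf_pResidual_eq_of_control P ?_ ?_
  · exact le_trans ((Subgroup.le_centralizer_iff.mp inf_le_right).trans
      (Subgroup.centralizer_le_normalizer _)) hV
  · intro x hx g hg
    obtain ⟨k, hk, hk'⟩ := H5.control_of_weaklyClosed_central P inf_le_right hW x hx g hg
    exact ⟨k, hV hk, hk'⟩
end Cfsg.Agent.S0078
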