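import Cfsg.Statements.S0082
import Cfsg.Agent.H5.TateCor
import Cfsg.Agent.H6.Basic
-- import your own Cfsg.Agent.* helpers here

set_option autoImplicit false
open Cfsg

namespace Cfsg.Agent.S0082

/-- With a cyclic Sylow p-subgroup, either there is a normal p-complement or the elements of order prime to p generate the whole group. -/
theorem result {G : Type*} [Group G] [Finite G] {p : ℕ} [Fact p.Prime] (P : Sylow p G) (hP : IsCyclic P) : Cfsg.HasNormalPComplement p G ∨ Cfsg.pResidual p G = ⊤ := by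
  by_cases hK : Cfsg.pResidual p G = ⊤
  · exact Or.inr hK
  left
  haveI := hP
  haveI hnil : Group.IsNilpotent ↥(P : Subgroup G) := P.2.isNilpotent
  -- a proper subgroup of the cyclic group `P` lies in every maximal subgroup
  have hprop : ¬ (P : Subgroup G) ≤ Cfsg.pResidual p G := by
    intro hle
    refine hK ?_
    rw [← H5.pResidual_sup_sylow P, sup_eq_left.mpr hle]
  have h1 : Cfsg.pResidual p G ⊓ (P : Subgroup G) ≤
      (frattini P).map (P : Subgroup G).subtype := by
    rintro x ⟨hxK, hxP⟩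
    refine ⟨⟨x, hxP⟩, ?_, rfl⟩
    obtain ⟨g, hg⟩ := IsCyclic.exists_generator (α := ↥(P : Subgroup G))
    obtain ⟨i, hi⟩ := hg ⟨x, hxP⟩
    simp only at hi
    by_cases hdi : (p : ℤ) ∣ i
    · obtain ⟨j, rfl⟩ := hdi
      rw [← hi, mul_comm, zpow_mul, zpow_natCast]
      exact H6.pow_prime_mem_frattini P.2 (g ^ j)
    exfalso
    apply hprop
    obtain ⟨k, hk⟩ := P.2 g
    have hco : IsCoprime i ((p : ℤ) ^ k) := by
      refine IsCoprime.pow_right (IsCoprime.symm ?_)
      exact (Nat.prime_iff_prime_int.mp Fact.out).coprime_iff_not_dvd.mpr hdi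
    obtain ⟨u, v, huv⟩ := hco
    have hgx : g = (⟨x, hxP⟩ : ↥(P : Subgroup G)) ^ u := by
      rw [← hi, ← zpow_mul]
      conv_lhs => rw [← zpow_one g, ← huv]
      rw [zpow_add, zpow_mul' g v, mul_comm u i]
      have hk' : g ^ ((p : ℤ) ^ k) = 1 := by
        rw [show ((p : ℤ) ^ k) = ((p ^ k : ℕ) : ℤ) by push_cast; rfl, zpow_natCast, hk]
      rw [hk', one_zpow, mul_one]
    intro y hy
    obtain ⟨j, hj⟩ := hg ⟨y, hy⟩
    simp only at hj
    have : y = (x ^ u) ^ j := by
      have := congrArg Subtype.val hj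
      rw [Subgroup.coe_zpow, hgx, Subgroup.coe_zpow] at this
      exact this.symm
    exact this ▸ Subgroup.zpow_mem _ (Subgroup.zpow_mem _ hxK u) j
  have h2 := H5.hasNormalPComplement_of_le_frattini P (Cfsg.pResidual p G) h1
  rw [H5.hasNormalPComplement_iff_not_dvd, H5.pResidual_pResidual, Subgroup.card_top] at h2
  exact H5.hasNormalPComplement_iff_not_dvd.mpr h2
end Cfsg.Agent.S0082
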