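import Cfsg.Statements.S0083
import Cfsg.Agent.H5.AbelianHall
-- import your own Cfsg.Agent.* helpers here

set_option autoImplicit false
open Cfsg

namespace Cfsg.Agent.S0083

/-- For an abelian Sylow p-subgroup P, a normal p-complement exists exactly when the normalizer of P is an internal direct product of P with some subgroup. -/
theorem result {G : Type*} [Group G] [Finite G] {p : ℕ} [Fact p.Prime] (P : Sylow p G) (hP : IsMulCommutative P) : Cfsg.HasNormalPComplement p G ↔ ∃ Q : Subgroup G, Q ≤ Subgroup.centralizer (P : Set G) ∧ Q ⊓ (P : Subgroup G) = ⊥ ∧ Q ⊔ (P : Subgroup G) = Subgroup.normalizer (P : Set G) := by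
  haveI := hP
  constructor
  · intro h
    refine ⟨Cfsg.pResidual p G ⊓ Subgroup.normalizer (P : Set G), ?_, ?_, ?_⟩
    · rintro g ⟨hg1, hg2⟩
      exact H5.frobenius_of_hasNormalPComplement h P.2 hg2 ((H5.mem_pResidual_iff h).mp hg1)
    · rw [eq_bot_iff, ← (H5.hasNormalPComplement_iff_inf_eq_bot P).mp h]
      exact fun x hx => ⟨hx.1.1, hx.2⟩
    · refine le_antisymm (sup_le inf_le_right Subgroup.le_normalizer) fun n hn => ?_
      have h1 := H5.pResidual_sup_sylow P
      have h2 : n ∈ Cfsg.pResidual p G ⊔ (P : Subgroup G) := h1 ▸ Subgroup.mem_top n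
      rw [← SetLike.mem_coe, Subgroup.normal_mul] at h2
      obtain ⟨k, hk, x, hx, rfl⟩ := Set.mem_mul.mp h2
      have hkN : k ∈ Subgroup.normalizer (P : Set G) := by
        have := Subgroup.mul_mem _ hn (Subgroup.inv_mem _ (Subgroup.le_normalizer hx))
        rwa [mul_inv_cancel_right] at this
      exact Subgroup.mul_mem_sup ⟨hk, hkN⟩ hx
  · rintro ⟨Q, hQ1, -, hQ3⟩
    have hle : Subgroup.normalizer (P : Set G) ≤ Subgroup.centralizer (P : Set G) := by
      rw [← hQ3]
      refine sup_le hQ1 fun x hx y hy => ?_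
      exact congrArg Subtype.val (hP.is_comm.comm (⟨y, hy⟩ : ↥(P : Subgroup G)) ⟨x, hx⟩)
    exact ⟨P, _, inferInstance, MonoidHom.ker_transferSylow_isComplement' P hle⟩
end Cfsg.Agent.S0083
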