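import Cfsg.Statements.S0085
import Cfsg.Agent.H5.AbelianHall
-- import your own Cfsg.Agent.* helpers here

set_option autoImplicit false
open Cfsg

namespace Cfsg.Agent.S0085

/-- A group whose Sylow 2-subgroups are elementary abelian of order 8 and whose order is prime to 3 and to 7 has a normal 2-complement. -/
theorem result {G : Type*} [Group G] [Finite G] (T : Sylow 2 G) (h8 : Nat.card T = 8) (he : ∀ x : T, x * x = 1) (h3 : ¬ 3 ∣ Nat.card G) (h7 : ¬ 7 ∣ Nat.card G) : Cfsg.HasNormalPComplement 2 G := by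
  have hle : Subgroup.normalizer (T : Set G) ≤ Subgroup.centralizer (T : Set G) := by
    refine H5.normalizer_le_centralizer_of_forall (T : Subgroup G) fun q hq g hg hgq => ?_
    haveI := Fact.mk hq
    by_cases hg1 : g = 1
    · rw [hg1]; exact Subgroup.one_mem _
    obtain ⟨k, hk⟩ := hgq
    have hqG : q ∣ Nat.card G := by
      obtain ⟨i, -, hi⟩ := (Nat.dvd_prime_pow hq).mp (orderOf_dvd_of_pow_eq_one hk)
      have hi0 : i ≠ 0 := fun h0 => hg1 (orderOf_eq_one_iff.mp (by rw [hi, h0, pow_zero]))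
      exact ((dvd_pow_self q hi0).trans hi.symm.dvd).trans (orderOf_dvd_natCard g)
    by_cases hq2 : q = 2
    · subst hq2
      have hpu : IsPGroup 2 (Subgroup.zpowers g) := by
        intro a
        obtain ⟨a, i, rfl⟩ := a
        refine ⟨k, Subtype.ext ?_⟩
        show (g ^ i) ^ 2 ^ k = 1
        rw [← zpow_natCast, ← zpow_mul, mul_comm, zpow_mul, zpow_natCast, hk, one_zpow]
      have hgT : g ∈ (T : Subgroup G) :=
        ((hpu.inf_normalizer_sylow T).le ⟨Subgroup.mem_zpowers g, hg⟩).2
      intro x hx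
      have hinv : ∀ z : ↥(T : Subgroup G), z⁻¹ = z := fun z => inv_eq_of_mul_eq_one_right (he z)
      have h1 := hinv (⟨x, hx⟩ * ⟨g, hgT⟩ : ↥(T : Subgroup G))
      rw [mul_inv_rev, hinv, hinv] at h1
      exact (congrArg Subtype.val h1).symm
    · refine H5.mem_centralizer_of_card (T : Subgroup G) hg ⟨k, hk⟩ fun d hd hmod => ?_
      change Nat.card ↥(T : Subgroup G) = 8 at h8
      rw [h8] at hd hmod
      rw [Nat.mem_properDivisors] at hd
      have hdvd := (Nat.modEq_iff_dvd' (by omega)).mp hmod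
      have : d = 1 ∨ d = 2 ∨ d = 4 := by
        obtain ⟨hd1, hd2⟩ := hd
        interval_cases d <;> simp_all
      rcases this with rfl | rfl | rfl
      · exact h7 (((Nat.prime_dvd_prime_iff_eq hq (by norm_num : Nat.Prime 7)).mp hdvd) ▸ hqG)
      · rcases (Nat.Prime.dvd_mul hq).mp (show q ∣ 2 * 3 from hdvd) with h | h
        · exact hq2 ((Nat.prime_dvd_prime_iff_eq hq Nat.prime_two).mp h)
        · exact h3 (((Nat.prime_dvd_prime_iff_eq hq Nat.prime_three).mp h) ▸ hqG)
      · exact hq2 ((Nat.prime_dvd_prime_iff_eq hq Nat.prime_two).mp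
          (hq.dvd_of_dvd_pow (show q ∣ 2 ^ 2 from hdvd)))
  exact ⟨T, _, inferInstance, MonoidHom.ker_transferSylow_isComplement' T hle⟩
end Cfsg.Agent.S0085
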