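import Cfsg.Statements.S0087
import Cfsg.Agent.H5.AbelianHallConj
-- import your own Cfsg.Agent.* helpers here

set_option autoImplicit false
open Cfsg

namespace Cfsg.Agent.S0087

/-- A Hall subgroup that is central in its normalizer has a normal complement. -/
theorem result {G : Type*} [Group G] [Finite G] (H : Subgroup G) (hHall : Nat.Coprime (Nat.card H) H.index) (h : Subgroup.normalizer (H : Set G) ≤ Subgroup.centralizer (H : Set G)) : ∃ N : Subgroup G, N.Normal ∧ N.IsComplement' H := by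
  have hc : ∀ a ∈ H, ∀ b ∈ H, a * b = b * a := fun a ha b hb =>
    h (Subgroup.le_normalizer hb) a ha
  haveI hcom : IsMulCommutative H := ⟨⟨fun a b => Subtype.ext (hc a a.2 b b.2)⟩⟩
  haveI hnil : Group.IsNilpotent H := by
    rw [Subgroup.nilpotent_iff_lowerCentralSeries]
    exact ⟨1, Subgroup.lowerCentralSeries_one_eq_bot_iff.mpr hcom⟩
  refine H5.exists_normal_isComplement'_of_fusion H hnil hHall
    fun x hx g hy => ⟨1, H.one_mem, ?_⟩
  set y := g * x * g⁻¹ with hyd
  set L := Subgroup.centralizer ({y} : Set G) with hL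
  set H1 := H.map (MulAut.conj g).toMonoidHom with hH1
  have hHL : H ≤ L := fun a ha => by
    rw [hL, Subgroup.mem_centralizer_singleton_iff]; exact hc a ha y hy
  have hH1L : H1 ≤ L := by
    rintro _ ⟨a, ha, rfl⟩
    rw [hL, Subgroup.mem_centralizer_singleton_iff]
    simp only [MulEquiv.coe_toMonoidHom, MulAut.conj_apply]
    calc g * a * g⁻¹ * y = g * (a * x) * g⁻¹ := by rw [hyd]; group
      _ = g * (x * a) * g⁻¹ := by rw [hc a ha x hx]
      _ = y * (g * a * g⁻¹) := by rw [hyd]; group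
  haveI : IsMulCommutative H1 := ⟨⟨fun a b => Subtype.ext (by
    obtain ⟨_, a, ha, rfl⟩ := a
    obtain ⟨_, b, hb, rfl⟩ := b
    simp only [Subgroup.coe_mul, ← map_mul, hc a ha b hb])⟩⟩
  obtain ⟨c, hcL, hcH⟩ := H5.abelian_hall_conj hHL hH1L
    (by rw [hH1, Subgroup.card_map_of_injective (MulAut.conj g).injective])
    (hHall.coprime_dvd_right (Subgroup.relIndex_dvd_index_of_le hHL))
  have hn : c⁻¹ * g ∈ Subgroup.normalizer (H : Set G) := by
    rw [Subgroup.mem_normalizer_iff]
    intro z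
    have e : c⁻¹ * g * z * (c⁻¹ * g)⁻¹ = (MulAut.conj c⁻¹) (g * z * g⁻¹) := by
      simp [mul_assoc]
    rw [e]
    constructor
    · intro hz
      obtain ⟨w, hw, hwz⟩ : g * z * g⁻¹ ∈ H.map (MulAut.conj c).toMonoidHom :=
        hcH.symm ▸ ⟨z, hz, rfl⟩
      rw [← hwz]; simpa [mul_assoc] using hw
    · intro hz
      have : g * z * g⁻¹ ∈ H.map (MulAut.conj c).toMonoidHom :=
        ⟨_, hz, by simp [mul_assoc]⟩
      rw [hcH] at this
      exact (Subgroup.mem_map_iff_mem (MulAut.conj g).injective).mp this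
  have h1 := h hn x hx
  have h2 := Subgroup.mem_centralizer_singleton_iff.mp hcL
  rw [one_mul, inv_one, mul_one]
  calc x = c⁻¹ * g * x * (c⁻¹ * g)⁻¹ := by rw [← h1, mul_inv_cancel_right]
    _ = c⁻¹ * (y * c) := by rw [hyd]; group
    _ = y := by rw [← h2, inv_mul_cancel_left]
end Cfsg.Agent.S0087
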