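import Cfsg.Statements.S0089
import Cfsg.Agent.H5.AbelianHall
-- import your own Cfsg.Agent.* helpers here

set_option autoImplicit false
open Cfsg

namespace Cfsg.Agent.S0089

/-- When all Sylow subgroups are abelian, the derived subgroup meets the centre trivially. -/
theorem result {G : Type*} [Group G] [Finite G] (h : ∀ p : ℕ, p.Prime → ∀ P : Sylow p G, IsMulCommutative P) : commutator G ⊓ Subgroup.center G = ⊥ := by
  rw [eq_bot_iff]
  rintro z ⟨hz1, hz2⟩
  by_contra hne
  have hne' : z ≠ 1 := fun he => hne (Subgroup.mem_bot.mpr he)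
  have hn1 : orderOf z ≠ 1 := fun he => hne' (orderOf_eq_one_iff.mp he)
  set q := (orderOf z).minFac with hq
  haveI := Fact.mk (Nat.minFac_prime hn1)
  set y := z ^ (orderOf z / q) with hy
  have hyo : orderOf y = q := by
    rw [hy, orderOf_pow, Nat.gcd_eq_right (Nat.div_dvd_of_dvd (Nat.minFac_dvd _)),
      Nat.div_div_self (Nat.minFac_dvd _) (orderOf_pos z).ne']
  obtain ⟨P, hP⟩ := IsPGroup.exists_le_sylow (p := q) (P := Subgroup.zpowers y)
    (IsPGroup.of_card (n := 1) (by rw [Nat.card_zpowers, hyo, pow_one]))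
  haveI := h q (Nat.minFac_prime hn1) P
  have hbot := H5.inf_commutator_center_eq_bot (P : Subgroup G) P.card_coprime_index
  have : y = 1 := Subgroup.mem_bot.mp (hbot ▸ (⟨⟨hP (Subgroup.mem_zpowers y),
    Subgroup.pow_mem _ hz1 _⟩, Subgroup.pow_mem _ hz2 _⟩ :
    y ∈ (P : Subgroup G) ⊓ commutator G ⊓ Subgroup.center G))
  rw [this, orderOf_one] at hyo
  exact (Nat.minFac_prime hn1).one_lt.ne hyo
end Cfsg.Agent.S0089
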