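import Cfsg.Statements.S0092
import Cfsg.Agent.H5.AbelianHall
import Cfsg.Agent.H1.SchurZassenhausConj
-- import your own Cfsg.Agent.* helpers here

set_option autoImplicit false
open Cfsg

namespace Cfsg.Agent.S0092
open scoped commutatorElement

/-- If the Sylow p-subgroups of O^p(G) are abelian then G splits over O^p(G). -/
theorem result {G : Type*} [Group G] [Finite G] {p : ℕ} [Fact p.Prime] (h : ∀ Q : Sylow p (Cfsg.pResidual p G), IsMulCommutative Q) : ∃ K : Subgroup G, K.IsComplement' (Cfsg.pResidual p G) := by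
  set K := Cfsg.pResidual p G with hKdef
  obtain ⟨Q⟩ := (inferInstance : Nonempty (Sylow p K))
  haveI := h Q
  set P0 := (Q : Subgroup K).map K.subtype with hP0
  have hP0K : P0 ≤ K := Subgroup.map_subtype_le _
  set M := Subgroup.normalizer (P0 : Set G) with hM
  have hFr : M ⊔ K = ⊤ := Sylow.normalizer_sup_eq_top Q
  set MK := K ⊓ M with hMK
  have hP0MK : P0 ≤ MK := le_inf hP0K Subgroup.le_normalizer
  haveI : (P0.subgroupOf MK).Normal :=
    (Subgroup.normal_subgroupOf_iff_le_normalizer hP0MK).mpr inf_le_right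
  have hQcard : Nat.card P0 = Nat.card Q :=
    Subgroup.card_map_of_injective K.subtype_injective
  have hrel : P0.relIndex K = (Q : Subgroup K).index := by
    rw [Subgroup.relIndex, hP0, Subgroup.subgroupOf, Subgroup.comap_map_eq_self_of_injective
      K.subtype_injective]
  have hco : Nat.Coprime (Nat.card (P0.subgroupOf MK)) (P0.subgroupOf MK).index := by
    rw [Nat.card_congr (Subgroup.subgroupOfEquivOfLe hP0MK).toEquiv, hQcard]
    refine (Q.card_coprime_index).coprime_dvd_right ?_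
    rw [← hrel, ← Subgroup.relIndex_mul_relIndex P0 MK K hP0MK inf_le_left]
    exact dvd_mul_right _ _
  obtain ⟨R0, hR0⟩ := Subgroup.exists_right_complement'_of_coprime hco
  set R := R0.map MK.subtype with hR
  have hRMK : R ≤ MK := Subgroup.map_subtype_le _
  have hMKsup : MK ≤ P0 ⊔ R := by
    rw [← Subgroup.map_subgroupOf_eq_of_le hP0MK, hR, ← Subgroup.map_sup, hR0.sup_eq_top,
      ← MonoidHom.range_eq_map, Subgroup.range_subtype]
  have hdis : P0 ⊓ R = ⊥ := by
    rw [eq_bot_iff]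
    rintro _ ⟨hx1, x, hx2, rfl⟩
    have h0 : x ∈ P0.subgroupOf MK ⊓ R0 := ⟨hx1, hx2⟩
    rw [hR0.disjoint.eq_bot] at h0
    exact Subgroup.mem_bot.mpr (congrArg Subtype.val (Subgroup.mem_bot.mp h0))
  have hRP0 : R ≤ Subgroup.normalizer (P0 : Set G) := hRMK.trans inf_le_right
  have hcop : (Nat.card P0).Coprime (Nat.card R) := by
    rw [← Nat.card_congr (Subgroup.subgroupOfEquivOfLe hP0MK).toEquiv, hR,
      Subgroup.card_map_of_injective MK.subtype_injective, ← hR0.symm.index_eq_card]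
    exact hco
  have hP0c : ∀ a ∈ P0, ∀ b ∈ P0, a * b = b * a := by
    rintro _ ⟨a, ha, rfl⟩ _ ⟨b, hb, rfl⟩
    rw [← map_mul, ← map_mul]
    exact congrArg _ (congrArg Subtype.val
      ((h Q).is_comm.comm (⟨a, ha⟩ : ↥(Q : Subgroup K)) ⟨b, hb⟩))
  have hsol : Group.IsSolvable P0 := by
    haveI : IsMulCommutative P0 := ⟨⟨fun a b => Subtype.ext (hP0c a a.2 b b.2)⟩⟩
    exact Group.isSolvable_of_comm (fun a b => Subtype.ext (hP0c a a.2 b b.2))
  set N1 := M ⊓ Subgroup.normalizer (R : Set G) with hN1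
  -- Frattini argument with the complement
  have hMN1 : M ≤ K ⊔ N1 := by
    intro n hn
    have hRn : R.map (MulAut.conj n).toMonoidHom ≤ MK := by
      rintro _ ⟨r, hr, rfl⟩
      exact ⟨(inferInstance : K.Normal).conj_mem _ (hRMK hr).1 n,
        M.mul_mem (M.mul_mem hn (hRMK hr).2) (M.inv_mem hn)⟩
    obtain ⟨d, hd, hd'⟩ := H1.exists_conj_eq_of_coprime hRP0 hcop (Or.inl hsol)
      (hRn.trans hMKsup) (Subgroup.card_map_of_injective (MulAut.conj n).injective)
    have hdM : d ∈ M := Subgroup.le_normalizer hd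
    have key : R.map (MulAut.conj (d⁻¹ * n)).toMonoidHom = R := by
      have e : (MulAut.conj (d⁻¹ * n)).toMonoidHom =
          (MulAut.conj d⁻¹).toMonoidHom.comp (MulAut.conj n).toMonoidHom := by
        ext z; simp [mul_assoc]
      rw [e, ← Subgroup.map_map, ← hd']
      show (R.map (MulAut.conj d).toMonoidHom).map (MulAut.conj d⁻¹).toMonoidHom = R
      rw [Subgroup.map_map]
      convert Subgroup.map_id R
      ext z; simp [mul_assoc]
    have hN : d⁻¹ * n ∈ N1 := by
      refine ⟨M.mul_mem (M.inv_mem hdM) hn, ?_⟩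
      show d⁻¹ * n ∈ Subgroup.normalizer (R : Set G)
      rw [Subgroup.mem_normalizer_iff]
      intro z
      have h4 : d⁻¹ * n * z * (d⁻¹ * n)⁻¹ ∈ R.map (MulAut.conj (d⁻¹ * n)).toMonoidHom ↔ z ∈ R :=
        Subgroup.mem_map_iff_mem (MulAut.conj _).injective
      rw [key] at h4
      exact h4.symm
    have := Subgroup.mul_mem_sup (hP0K hd) hN
    rwa [mul_inv_cancel_left] at this
  -- `N1 ∩ K = R`
  have hN1K : ∀ x ∈ N1, x ∈ K → x ∈ R := by
    intro x hx hxK
    have hxs : x ∈ P0 ⊔ R := hMKsup ⟨hxK, hx.1⟩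
    rw [← SetLike.mem_coe, Subgroup.coe_mul_of_right_le_normalizer_left _ _ hRP0] at hxs
    obtain ⟨d, hd, r, hr, rfl⟩ := Set.mem_mul.mp hxs
    have hdN : d ∈ Subgroup.normalizer (R : Set G) := by
      have := Subgroup.mul_mem _ hx.2 (Subgroup.inv_mem _ (Subgroup.le_normalizer hr))
      rwa [mul_inv_cancel_right] at this
    have hdR : ∀ s ∈ R, d * s = s * d := by
      intro s hs
      have h1 : d * s * d⁻¹ * s⁻¹ ∈ P0 ⊓ R := by
        refine ⟨?_, R.mul_mem ((Subgroup.mem_normalizer_iff.mp hdN s).mp hs) (R.inv_mem hs)⟩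
        have e : d * s * d⁻¹ * s⁻¹ = d * (s * d⁻¹ * s⁻¹) := by group
        rw [e]
        exact P0.mul_mem hd ((Subgroup.mem_normalizer_iff.mp (hRP0 hs) d⁻¹).mp (P0.inv_mem hd))
      rw [hdis, Subgroup.mem_bot, mul_inv_eq_one, mul_inv_eq_iff_eq_mul] at h1
      exact h1
    obtain ⟨d0, hd0, hd0'⟩ := hd
    -- `d0` centralises `N_K(Q)`, so it is trivial
    have hd1 : d0 ∈ (Q : Subgroup K) ⊓
        Subgroup.centralizer (Subgroup.normalizer (Q : Set K) : Set K) := by
      refine ⟨hd0, fun y hy => ?_⟩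
      have hyM : (y : G) ∈ M := by
        have := Subgroup.le_normalizer_map K.subtype (Subgroup.mem_map_of_mem K.subtype hy)
        exact this
      have hys : (y : G) ∈ P0 ⊔ R := hMKsup ⟨y.2, hyM⟩
      rw [← SetLike.mem_coe, Subgroup.coe_mul_of_right_le_normalizer_left _ _ hRP0] at hys
      obtain ⟨a, ha, s, hs, has⟩ := Set.mem_mul.mp hys
      apply K.subtype_injective
      rw [map_mul, map_mul, hd0', show K.subtype y = a * s from has.symm]
      calc a * s * d = a * (d * s) := by rw [hdR s hs, mul_assoc]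
        _ = d * (a * s) := by rw [← mul_assoc, hP0c a ha d ⟨d0, hd0, hd0'⟩, mul_assoc]
    obtain ⟨-, h2⟩ := H5.abelian_sylow_decomp Q
    have h3 : (Q : Subgroup K) ≤ ⁅Subgroup.normalizer (Q : Set K), Subgroup.normalizer (Q : Set K)⁆ := by
      intro z hz
      have hz' : z ∈ (Q : Subgroup K).focalSubgroup := by
        rw [← Subgroup.ker_transferFocal_inf_eq_focalSubgroup]
        refine ⟨?_, hz⟩
        exact H5.pResidual_le_ker _ (Q.2.to_quotient _)
          ((H5.pResidual_pResidual (G := G) (p := p)).symm ▸ Subgroup.mem_top z)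
      exact Subgroup.commutator_mono Subgroup.le_normalizer le_rfl
        (H5.focalSubgroup_le_of_control (H5.control_of_commutative Q) hz')
    have hd2 : d0 = 1 := Subgroup.mem_bot.mp (h2 ▸ (⟨h3 hd1.1, hd1⟩ : d0 ∈
      ⁅Subgroup.normalizer (Q : Set K), Subgroup.normalizer (Q : Set K)⁆ ⊓ ((Q : Subgroup K) ⊓
        Subgroup.centralizer (Subgroup.normalizer (Q : Set K) : Set K))))
    rw [← hd0', hd2, map_one, one_mul]
    exact hr
  obtain ⟨U⟩ := (inferInstance : Nonempty (Sylow p N1))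
  refine ⟨(U : Subgroup N1).map N1.subtype, ?_⟩
  have hUK : Disjoint ((U : Subgroup N1).map N1.subtype) K := by
    rw [disjoint_iff, eq_bot_iff]
    rintro _ ⟨⟨u, hu, rfl⟩, huK⟩
    have huR : (u : G) ∈ R := hN1K u u.2 huK
    have h1 : ¬ p ∣ Nat.card R := by
      intro hd
      have hQp : p ∣ Nat.card K := (hd.trans (Subgroup.card_dvd_of_le (hRMK.trans inf_le_left)))
      have hQne := Q.dvd_card_of_dvd_card hQp
      exact (Fact.out : p.Prime).ne_one
        (Nat.eq_one_of_dvd_coprimes hcop (hQcard ▸ hQne) hd)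
    obtain ⟨k, hk⟩ := U.2 ⟨u, hu⟩
    have h2 : (u : G) ^ p ^ k = 1 :=
      congrArg (fun z : ↥(U : Subgroup N1) => ((z : N1) : G)) hk
    refine Subgroup.mem_bot.mpr (orderOf_eq_one_iff.mp ?_)
    refine Nat.eq_one_of_dvd_coprimes (((Nat.Prime.coprime_iff_not_dvd Fact.out).mpr h1).pow_left k)
      (orderOf_dvd_of_pow_eq_one h2) ?_
    show orderOf (u : G) ∣ _
    rw [← Subgroup.orderOf_mk (u : G) huR]
    exact orderOf_dvd_natCard _
  refine Subgroup.isComplement'_of_disjoint_and_mul_eq_univ hUK ?_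
  rw [← Subgroup.mul_normal, Subgroup.coe_eq_univ, eq_top_iff, ← hFr]
  refine sup_le ?_ le_sup_right
  refine hMN1.trans (sup_le le_sup_right ?_)
  -- `N1 = R U`
  have hsup : R.subgroupOf N1 ⊔ (U : Subgroup N1) = ⊤ := by
    refine H5.sup_sylow_eq_top_of_pResidual_le (fun x hx => ?_) U
    refine hN1K x x.2 ?_
    exact H5.pResidual_subtype_map_le N1 ⟨x, hx, rfl⟩
  intro x hx
  have h9 : (⟨x, hx⟩ : N1) ∈ R.subgroupOf N1 ⊔ (U : Subgroup N1) := hsup ▸ Subgroup.mem_top _
  have h10 := Subgroup.mem_map_of_mem N1.subtype h9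
  rw [Subgroup.map_sup] at h10
  exact sup_le ((Subgroup.map_comap_le _ _).trans ((hRMK.trans inf_le_left).trans le_sup_right))
    le_sup_left h10
end Cfsg.Agent.S0092
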