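import Cfsg.Statements.S0094
import Cfsg.Agent.H5.Special
-- import your own Cfsg.Agent.* helpers here

set_option autoImplicit false
open Cfsg

namespace Cfsg.Agent.S0094
open scoped commutatorElement

/-- In a special p-group every central element has order dividing p. -/
theorem result {P : Type*} [Group P] [Finite P] {p : ℕ} [Fact p.Prime] (h : Cfsg.IsSpecial p P) (z : P) (hz : z ∈ Subgroup.center P) : z ^ p = 1 := by
  obtain ⟨hP, h1, h2⟩ := h
  have h2' : ⁅commutator P, (⊤ : Subgroup P)⁆ = ⊥ := by
    rw [Subgroup.commutator_eq_bot_iff_le_centralizer, h2, Subgroup.coe_top,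
      Subgroup.centralizer_univ]
  have key : commutator P ≤ Subgroup.center P ⊓
      Subgroup.closure {g : P | g ∈ Subgroup.center P ∧ g ^ p = 1} := by
    refine le_inf h2.le ?_
    show ⁅(⊤ : Subgroup P), (⊤ : Subgroup P)⁆ ≤ _
    refine Subgroup.commutator_le.mpr fun a _ b _ => Subgroup.subset_closure ⟨?_, ?_⟩
    · exact h2 ▸ Subgroup.commutator_mem_commutator (Subgroup.mem_top a) (Subgroup.mem_top b)
    · refine H5.commutator_pow_eq_one_of_class_two h2' a fun z => ?_
      have : b ^ p ∈ Subgroup.center P := h1 ▸ H6.pow_prime_mem_frattini hP b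
      exact (Subgroup.mem_center_iff.mp this z).symm
  have hz2 := (key (h2.symm ▸ hz)).2
  clear hz
  induction hz2 using Subgroup.closure_induction with
  | mem g hg => exact hg.2
  | one => exact one_pow p
  | mul a b ha hb ia ib =>
    have haZ : a ∈ Subgroup.center P := by
      refine (Subgroup.closure_le _).mpr ?_ ha
      exact fun g hg => hg.1
    rw [Commute.mul_pow (Subgroup.mem_center_iff.mp haZ b).symm, ia, ib, one_mul]
  | inv a _ ia => rw [inv_pow, ia, inv_one]
end Cfsg.Agent.S0094
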