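import Cfsg.Statements.S0096
import Cfsg.Agent.H5.Special
-- import your own Cfsg.Agent.* helpers here

set_option autoImplicit false
open Cfsg

namespace Cfsg.Agent.S0096

/-- For odd p, in a p-group of class at most two the elements of order dividing p generate a subgroup of exponent dividing p. -/
theorem result {P : Type*} [Group P] [Finite P] {p : ℕ} [Fact p.Prime] (hp : p ≠ 2) (hP : IsPGroup p P) (h2 : ⁅commutator P, (⊤ : Subgroup P)⁆ = ⊥) (g : P) (hg : g ∈ Subgroup.closure {x : P | x ^ p = 1}) : g ^ p = 1 := by
  induction hg using Subgroup.closure_induction with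
  | mem g hg => exact hg
  | one => exact one_pow p
  | mul a b _ _ ia ib =>
    rw [H5.mul_pow_prime_of_class_two hp h2 (H5.commutator_pow_eq_one_of_class_two h2 b⁻¹
      (fun z => by rw [inv_pow, ia, inv_one, one_mul, mul_one])), ia, ib, one_mul]
  | inv a _ ia => rw [inv_pow, ia, inv_one]
end Cfsg.Agent.S0096
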