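import Cfsg.Statements.S0097
import Cfsg.Agent.H5.Special
-- import your own Cfsg.Agent.* helpers here

set_option autoImplicit false
open Cfsg

namespace Cfsg.Agent.S0097
open scoped commutatorElement

/-- For odd p and E extraspecial, the subgroup generated by the elements of order dividing p has exponent dividing p and index at most p. -/
theorem result {E : Type*} [Group E] [Finite E] {p : ℕ} [Fact p.Prime] (hp : p ≠ 2) (h : Cfsg.IsExtraspecial p E) : (Subgroup.closure {x : E | x ^ p = 1}).index ≤ p ∧ ∀ g ∈ Subgroup.closure {x : E | x ^ p = 1}, g ^ p = 1 := by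
  obtain ⟨⟨hP, h1, h2⟩, hZ⟩ := h
  have h2' : ⁅commutator E, (⊤ : Subgroup E)⁆ = ⊥ := by
    rw [Subgroup.commutator_eq_bot_iff_le_centralizer, h2, Subgroup.coe_top,
      Subgroup.centralizer_univ]
  have hcp : ∀ z ∈ Subgroup.center E, z ^ p = 1 := fun z hz => by
    have := pow_card_eq_one' (x := (⟨z, hz⟩ : Subgroup.center E))
    rw [hZ] at this
    exact congrArg Subtype.val this
  have hmul : ∀ a b : E, (a * b) ^ p = a ^ p * b ^ p := fun a b =>
    H5.mul_pow_prime_of_class_two hp h2' (hcp _ (h2 ▸ Subgroup.commutator_mem_commutator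
      (Subgroup.mem_top _) (Subgroup.mem_top _)))
  let f : E →* Subgroup.center E :=
    MonoidHom.mk' (fun x => ⟨x ^ p, h1 ▸ H6.pow_prime_mem_frattini hP x⟩)
      (fun a b => Subtype.ext (hmul a b))
  have hker : Subgroup.closure {x : E | x ^ p = 1} = f.ker := by
    refine le_antisymm ((Subgroup.closure_le _).mpr fun x hx => Subtype.ext hx) fun x hx => ?_
    exact Subgroup.subset_closure (congrArg Subtype.val hx)
  rw [hker]
  refine ⟨?_, fun g hg => congrArg Subtype.val hg⟩
  rw [Subgroup.index_ker, ← hZ]
  exact f.range.card_le_card_group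
end Cfsg.Agent.S0097
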