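import Cfsg.Statements.S0098
import Cfsg.Agent.H5.ExtraspecialFrame
-- import your own Cfsg.Agent.* helpers here

set_option autoImplicit false
open Cfsg

namespace Cfsg.Agent.S0098

/-- For odd p, extraspecial p-groups of exponent p are determined up to isomorphism by their order. -/
theorem result {E₁ : Type*} {E₂ : Type*} [Group E₁] [Group E₂] [Finite E₁] [Finite E₂] {p : ℕ} [Fact p.Prime] (hp : p ≠ 2) (h₁ : Cfsg.IsExtraspecial p E₁) (h₂ : Cfsg.IsExtraspecial p E₂) (he₁ : Monoid.exponent E₁ = p) (he₂ : Monoid.exponent E₂ = p) (hc : Nat.card E₁ = Nat.card E₂) : Nonempty (E₁ ≃* E₂) := by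
  have hexp : ∀ u : E₁, u ^ p = 1 := fun u => he₁ ▸ Monoid.pow_exponent_eq_one u
  have hexp₂ : ∀ u : E₂, u ^ p = 1 := fun u => he₂ ▸ Monoid.pow_exponent_eq_one u
  obtain ⟨z₁, n₁, x₁, y₁, ε₁, o₁, c₁, f₁⟩ := H5.exists_frame h₁ (Or.inr hexp)
  obtain ⟨z₂, n₂, x₂, y₂, ε₂, o₂, c₂, f₂⟩ := H5.exists_frame h₂ (Or.inr hexp₂)
  obtain rfl : n₁ = n₂ := by
    have e1 := f₁.2.2.2; have e2 := f₂.2.2.2
    rw [Subgroup.card_top] at e1 e2
    have := Nat.pow_right_injective (Fact.out : p.Prime).two_le (e1.symm.trans (hc.trans e2))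
    omega
  have g₁ : H5.IsFrame p z₁ ⊤ x₁ y₁ (fun _ => 0) (fun _ => 0) :=
    ⟨fun i => ⟨by rw [hexp]; simp, by rw [hexp]; simp⟩, f₁.2⟩
  have g₂ : H5.IsFrame p z₂ ⊤ x₂ y₂ (fun _ => 0) (fun _ => 0) :=
    ⟨fun i => ⟨by rw [hexp₂]; simp, by rw [hexp₂]; simp⟩, f₂.2⟩
  exact H5.mulEquiv_of_isFrame c₁ c₂ (o₁ ▸ pow_orderOf_eq_one z₁) (o₂ ▸ pow_orderOf_eq_one z₂) g₁ g₂
end Cfsg.Agent.S0098
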