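import Cfsg.Statements.S0099
import Cfsg.Agent.H31.ExtraspecialTwo

set_option autoImplicit false
open Cfsg

namespace Cfsg.Agent.S0099

/-- Among three extraspecial 2-groups of equal order, some two are isomorphic. -/
theorem result {E₁ : Type*} {E₂ : Type*} {E₃ : Type*} [Group E₁] [Group E₂] [Group E₃] [Finite E₁] [Finite E₂] [Finite E₃] (h₁ : Cfsg.IsExtraspecial 2 E₁) (h₂ : Cfsg.IsExtraspecial 2 E₂) (h₃ : Cfsg.IsExtraspecial 2 E₃) (h12 : Nat.card E₁ = Nat.card E₂) (h23 : Nat.card E₂ = Nat.card E₃) : Nonempty (E₁ ≃* E₂) ∨ Nonempty (E₂ ≃* E₃) ∨ Nonempty (E₁ ≃* E₃) := by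
  obtain ⟨m, hm⟩ := H31.Extra2.exists_index h₁
  have hm2 := h12.symm.trans hm
  have hm3 := h23.symm.trans hm2
  have c1 := H31.Extra2.count_values m h₁ hm
  have c2 := H31.Extra2.count_values m h₂ hm2
  have c3 := H31.Extra2.count_values m h₃ hm3
  by_cases e12 : H31.Extra2.invCount E₁ = H31.Extra2.invCount E₂
  · exact Or.inl (H31.Extra2.iso_of_count m h₁ h₂ hm hm2 e12)
  by_cases e23 : H31.Extra2.invCount E₂ = H31.Extra2.invCount E₃
  · exact Or.inr (Or.inl (H31.Extra2.iso_of_count m h₂ h₃ hm2 hm3 e23))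
  exact Or.inr (Or.inr (H31.Extra2.iso_of_count m h₁ h₃ hm hm3 (by omega)))

end Cfsg.Agent.S0099
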