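import Cfsg.Statements.S0100
import Cfsg.Agent.H83.MaxNormalElem
import Cfsg.Agent.H6.Basic
-- import your own Cfsg.Agent.* helpers here

set_option autoImplicit false
open Cfsg

namespace Cfsg.Agent.S0100

/-- For odd p, a p-group without normal elementary abelian subgroups of order p^3 has p-rank at most 2. -/
theorem result {P : Type*} [Group P] [Finite P] {p : ℕ} [Fact p.Prime] (hp : p ≠ 2) (hP : IsPGroup p P) (h : ∀ A : Subgroup P, A.Normal → IsMulCommutative A → (∀ a ∈ A, a ^ p = 1) → Nat.card A ≠ p ^ 3) (E : Subgroup P) (hE : IsMulCommutative E) (hEe : ∀ e ∈ E, e ^ p = 1) : Nat.card E ≤ p ^ 2 := by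
  by_contra hcon
  rw [not_le] at hcon
  have hr : ¬ Cfsg.PRankLE p 2 P := fun hr => absurd (hr E hE hEe) (not_le.mpr hcon)
  have hbot : Cfsg.IsElementaryAbelian p (⊥ : Subgroup P) := by
    refine ⟨⟨⟨fun a b => Subsingleton.elim _ _⟩⟩, fun a ha => ?_⟩
    rw [Subgroup.mem_bot.mp ha, one_pow]
  obtain ⟨B, -, hBn, hB, hmax⟩ := H83.exists_maximal_normal_elemAb inferInstance hbot
  haveI := hBn
  have hcard := H83.lt_card_of_maximal_normal_elemAb hp hP hr hB hmax
  obtain ⟨k, hk⟩ := IsPGroup.iff_card.mp (hP.to_subgroup B)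
  have hk3 : 3 ≤ k := by
    by_contra h3
    have := Nat.pow_le_pow_right (Fact.out : p.Prime).pos (show k ≤ 2 by omega)
    omega
  have step : ∀ j, j ≤ k → ∃ K : Subgroup P, K.Normal ∧ K ≤ B ∧ Nat.card K = p ^ j := by
    intro j
    induction j with
    | zero => exact fun _ => ⟨⊥, inferInstance, bot_le, by rw [Subgroup.card_bot, pow_zero]⟩
    | succ j ih =>
      intro hj
      obtain ⟨K, hKn, hKB, hK⟩ := ih (by omega)
      haveI := hKn
      have hlt : K < B := by
        refine lt_of_le_of_ne hKB fun he => ?_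
        rw [he, hk] at hK
        have := Nat.pow_right_injective (Fact.out : p.Prime).two_le hK
        omega
      obtain ⟨K', h1, -, h2, h3⟩ := H6.exists_normal_between hP hlt
      exact ⟨K', h1, h2, by rw [h3, hK]; ring⟩
  obtain ⟨K, hKn, hKB, hK⟩ := step 3 hk3
  refine h K hKn ⟨⟨fun a b => Subtype.ext ?_⟩⟩ (fun a ha => hB.2 a (hKB ha)) hK
  show (a : P) * b = b * a
  exact congrArg Subtype.val (hB.1.is_comm.comm (⟨a, hKB a.2⟩ : B) ⟨b, hKB b.2⟩)
end Cfsg.Agent.S0100
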