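import Cfsg.Statements.S0101
import Cfsg.Agent.H5.AbelianHall
import Cfsg.Agent.H6.Basic
-- import your own Cfsg.Agent.* helpers here

set_option autoImplicit false
open Cfsg

namespace Cfsg.Agent.S0101

/-- In a perfect central extension, the kernel meets each Sylow p-subgroup P inside the Frattini subgroup of P. -/
theorem result {H : Type*} {G : Type*} [Group H] [Group G] [Finite H] (σ : H →* G) (hσ : Function.Surjective σ) (hc : σ.ker ≤ Subgroup.center H) (hH : commutator H = ⊤) {p : ℕ} [Fact p.Prime] (P : Sylow p H) : σ.ker ⊓ (P : Subgroup H) ≤ (frattini P).map (P : Subgroup H).subtype := by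
  rintro z ⟨hzk, hzP⟩
  refine ⟨⟨z, hzP⟩, ?_, rfl⟩
  rw [SetLike.mem_coe, H6.mem_frattini_iff]
  intro M hM
  haveI := H6.normal_of_isCoatom P.2 hM
  have hcard : Nat.card (↥(P : Subgroup H) ⧸ M) = p := H6.index_eq_prime_of_isCoatom P.2 hM
  haveI : IsCyclic (↥(P : Subgroup H) ⧸ M) := isCyclic_of_prime_card hcard
  letI : CommGroup (↥(P : Subgroup H) ⧸ M) :=
    { (inferInstance : Group (↥(P : Subgroup H) ⧸ M)) with
      mul_comm := (IsCyclic.commGroup : CommGroup (↥(P : Subgroup H) ⧸ M)).mul_comm }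
  have h1 := H5.map_pow_index_eq_one_of_central (QuotientGroup.mk' M) hzP (hc hzk)
    (hH ▸ Subgroup.mem_top z)
  rw [← QuotientGroup.eq_one_iff]
  refine orderOf_eq_one_iff.mp (Nat.eq_one_of_dvd_coprimes ?_
    (hcard ▸ orderOf_dvd_natCard _) (orderOf_dvd_of_pow_eq_one h1))
  exact ((Nat.Prime.coprime_iff_not_dvd Fact.out).mpr P.not_dvd_index)
end Cfsg.Agent.S0101
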