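import Cfsg.Statements.S0102
import Cfsg.Agent.H5.AbelianHall
-- import your own Cfsg.Agent.* helpers here

set_option autoImplicit false
open Cfsg

namespace Cfsg.Agent.S0102

/-- A finite perfect group with cyclic Sylow p-subgroups has no perfect central extension whose kernel has order divisible by p. -/
theorem result {G : Type*} {H : Type*} [Group G] [Group H] [Finite G] [Finite H] (hG : commutator G = ⊤) {p : ℕ} [Fact p.Prime] (hcyc : ∀ P : Sylow p G, IsCyclic P) (σ : H →* G) (hσ : Function.Surjective σ) (hz : σ.ker ≤ Subgroup.center H) (hH : commutator H = ⊤) : ¬ p ∣ Nat.card σ.ker := by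
  intro hd
  obtain ⟨z, hzo⟩ := exists_prime_orderOf_dvd_card' p hd
  obtain ⟨P, hP⟩ := IsPGroup.exists_le_sylow (p := p) (P := Subgroup.zpowers (z : H))
    (IsPGroup.of_card (n := 1) (by rw [Nat.card_zpowers, Subgroup.orderOf_coe, hzo, pow_one]))
  obtain ⟨Q, hQ⟩ := (P.2.map σ).exists_le_sylow
  let f : ↥(P : Subgroup H) →* ↥(Q : Subgroup G) :=
    (σ.domRestrict (P : Subgroup H)).codRestrict _ fun x => hQ ⟨x, x.2, rfl⟩
  haveI := hcyc Q
  haveI : IsMulCommutative ↥(P : Subgroup H) := ⟨⟨commutative_of_cyclic_center_quotient f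
    (fun x hx => Subgroup.mem_center_iff.mpr fun y => Subtype.ext
      (Subgroup.mem_center_iff.mp (hz (show (x : H) ∈ σ.ker from congrArg Subtype.val hx)) y))⟩⟩
  have h1 := H5.inf_commutator_center_eq_bot (P : Subgroup H) P.card_coprime_index
  have : (z : H) = 1 := Subgroup.mem_bot.mp (h1 ▸ (⟨⟨hP (Subgroup.mem_zpowers _),
    hH ▸ Subgroup.mem_top _⟩, hz z.2⟩ :
    (z : H) ∈ (P : Subgroup H) ⊓ commutator H ⊓ Subgroup.center H))
  rw [← Subgroup.orderOf_coe, this, orderOf_one] at hzo
  exact (Fact.out : p.Prime).one_lt.ne hzo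
end Cfsg.Agent.S0102
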