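import Cfsg.Statements.S0103
-- import your own Cfsg.Agent.* helpers here

set_option autoImplicit false
open Cfsg

namespace Cfsg.Agent.S0103

/-- If a Sylow p-subgroup P intersects every distinct conjugate trivially, then its normalizer controls fusion in P. -/
theorem result {G : Type*} [Group G] [Finite G] {p : ℕ} [Fact p.Prime] (P : Sylow p G) (hTI : ∀ g : G, (P : Subgroup G).map (MulAut.conj g).toMonoidHom ≠ (P : Subgroup G) → (P : Subgroup G) ⊓ (P : Subgroup G).map (MulAut.conj g).toMonoidHom = ⊥) (x y : G) (hx : x ∈ P) (hy : y ∈ P) (hc : ∃ g : G, g * x * g⁻¹ = y) : ∃ n ∈ Subgroup.normalizer (P : Set G), n * x * n⁻¹ = y := by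
  obtain ⟨g, hg⟩ := hc
  by_cases hy1 : y = 1
  · refine ⟨1, Subgroup.one_mem _, ?_⟩
    have : x = 1 := by
      rw [hy1, mul_inv_eq_one] at hg
      simpa using hg
    simp [this, hy1]
  refine ⟨g, ?_, hg⟩
  by_contra hn
  have hne : (P : Subgroup G).map (MulAut.conj g).toMonoidHom ≠ (P : Subgroup G) := by
    intro he
    refine hn (Sylow.smul_eq_iff_mem_normalizer.mp (Sylow.ext ?_))
    exact he
  have : y ∈ (P : Subgroup G) ⊓ (P : Subgroup G).map (MulAut.conj g).toMonoidHom :=
    ⟨hy, ⟨x, hx, hg⟩⟩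
  rw [hTI g hne] at this
  exact hy1 this
end Cfsg.Agent.S0103
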