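import Cfsg.Statements.S0104
-- import your own Cfsg.Agent.* helpers here

set_option autoImplicit false
open Cfsg

namespace Cfsg.Agent.S0104

/-- A subgroup Z of a Sylow p-subgroup P that is normalized by N_G(P) is weakly closed in P exactly when it is normal in every Sylow p-subgroup containing it. -/
theorem result {G : Type*} [Group G] [Finite G] {p : ℕ} [Fact p.Prime] (P : Sylow p G) (Z : Subgroup G) (hZP : Z ≤ (P : Subgroup G)) (hZN : Subgroup.normalizer (P : Set G) ≤ Subgroup.normalizer (Z : Set G)) : Cfsg.IsWeaklyClosed Z P ↔ ∀ R : Sylow p G, Z ≤ (R : Subgroup G) → (R : Subgroup G) ≤ Subgroup.normalizer (Z : Set G) := by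
  constructor
  · intro hW R hR
    obtain ⟨g, rfl⟩ := MulAction.exists_smul_eq G P R
    have h1 : Z.map (MulAut.conj g⁻¹).toMonoidHom ≤ (P : Subgroup G) := by
      rintro _ ⟨z, hz, rfl⟩
      obtain ⟨w, hw, hwz⟩ := hR hz
      have : w = g⁻¹ * z * g := by
        rw [← hwz]; simp [mul_assoc]
      have hz2 : g⁻¹ * z * g ∈ (P : Subgroup G) := this ▸ hw
      simpa using hz2
    have h2 := hW.2 _ h1
    have hgN : g⁻¹ ∈ Subgroup.normalizer (Z : Set G) := by
      rw [Subgroup.mem_normalizer_iff]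
      intro z
      have h4 : g⁻¹ * z * g⁻¹⁻¹ ∈ Z.map (MulAut.conj g⁻¹).toMonoidHom ↔ z ∈ Z :=
        Subgroup.mem_map_iff_mem (MulAut.conj _).injective
      rw [h2] at h4
      exact h4.symm
    rintro _ ⟨w, hw, rfl⟩
    have hgN' : g ∈ Subgroup.normalizer (Z : Set G) := by
      simpa using Subgroup.inv_mem _ hgN
    exact Subgroup.mul_mem _ (Subgroup.mul_mem _ hgN' (hZN (Subgroup.le_normalizer hw)))
      (Subgroup.inv_mem _ hgN')
  · intro h
    refine ⟨hZP, fun g hg => ?_⟩
    have hR : Z ≤ ((g⁻¹ • P : Sylow p G) : Subgroup G) := by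
      intro z hz
      exact ⟨g * z * g⁻¹, hg ⟨z, hz, rfl⟩, by simp [mul_assoc]⟩
    have hRN := h _ hR
    have hPN : (P : Subgroup G) ≤ Subgroup.normalizer (Z : Set G) :=
      Subgroup.le_normalizer.trans hZN
    obtain ⟨m, hm⟩ := MulAction.exists_smul_eq (Subgroup.normalizer (Z : Set G))
      ((g⁻¹ • P).subtype hRN) (P.subtype hPN)
    have hk2 : ((m : G) * g⁻¹) • P = P := by
      rw [mul_smul]
      exact Sylow.subtype_injective (hP := Sylow.smul_le hRN m) (hQ := hPN)
        ((Sylow.smul_subtype hRN m).symm.trans hm)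
    have hgN : g⁻¹ ∈ Subgroup.normalizer (Z : Set G) := by
      have h1 := Subgroup.mul_mem _ (Subgroup.inv_mem _ m.2)
        (hZN (Sylow.smul_eq_iff_mem_normalizer.mp hk2))
      rwa [inv_mul_cancel_left] at h1
    have hgN' : g ∈ Subgroup.normalizer (Z : Set G) := by
      simpa using Subgroup.inv_mem _ hgN
    refine SetLike.ext fun z => ?_
    constructor
    · rintro ⟨w, hw, rfl⟩
      exact (Subgroup.mem_normalizer_iff.mp hgN' w).mp hw
    · intro hz
      refine ⟨g⁻¹ * z * g, ?_, by simp [mul_assoc]⟩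
      simpa using (Subgroup.mem_normalizer_iff.mp hgN z).mp hz
end Cfsg.Agent.S0104
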