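import Cfsg.Statements.S0105
import Cfsg.Agent.H5.AbelianHall
-- import your own Cfsg.Agent.* helpers here

set_option autoImplicit false
open Cfsg

namespace Cfsg.Agent.S0105
open scoped commutatorElement

/-- With an abelian Sylow p-subgroup P, some quotient of G is isomorphic to the part of P central in N_G(P). -/
theorem result {G : Type*} [Group G] [Finite G] {p : ℕ} [Fact p.Prime] (P : Sylow p G) (hP : IsMulCommutative P) : ∃ (N : Subgroup G) (hN : N.Normal), Nonempty (G ⧸ N ≃* ((P : Subgroup G) ⊓ Subgroup.centralizer (Subgroup.normalizer (P : Set G) : Set G) : Subgroup G)) := by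
  haveI := hP
  obtain ⟨h1, h2⟩ := H5.abelian_sylow_decomp P
  set M := Subgroup.normalizer (P : Set G) with hM
  set C := (P : Subgroup G) ⊓ Subgroup.centralizer (M : Set G) with hC
  haveI : (P : Subgroup G).FiniteIndex := inferInstance
  have hfoc : Subgroup.focalSubgroup (P : Subgroup G) = ⁅M, M⁆ ⊓ (P : Subgroup G) := by
    rw [← Subgroup.commutator_inf_eq_focalSubgroup]
    exact H5.commutator_inf_eq_of_control P.card_coprime_index Subgroup.le_normalizer
      (H5.control_of_commutative P)
  let f : C →* (P : Subgroup G) ⧸ (P : Subgroup G).focalSubgroupOf :=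
    (QuotientGroup.mk' _).comp (Subgroup.inclusion inf_le_left)
  have hf : Function.Bijective f := by
    constructor
    · rw [← MonoidHom.ker_eq_bot_iff, eq_bot_iff]
      intro x hx
      rw [MonoidHom.mem_ker, MonoidHom.comp_apply, QuotientGroup.mk'_apply,
        QuotientGroup.eq_one_iff, Subgroup.focalSubgroupOf_def, Subgroup.mem_subgroupOf,
        hfoc] at hx
      have : (x : G) = 1 := Subgroup.mem_bot.mp (h2 ▸ (⟨hx.1, x.2⟩ :
        (x : G) ∈ ⁅M, M⁆ ⊓ C))
      exact Subgroup.mem_bot.mpr (Subtype.ext this)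
    · intro y
      obtain ⟨a, rfl⟩ := QuotientGroup.mk'_surjective _ y
      have ha := h1 a.2
      have hle : ⁅(P : Subgroup G), M⁆ ⊔ C ≤ (P : Subgroup G) := by
        refine sup_le (Subgroup.commutator_le.mpr fun t ht n hn => ?_) inf_le_left
        rw [show ⁅t, n⁆ = t * (n * t⁻¹ * n⁻¹) by simp [commutatorElement_def, mul_assoc]]
        exact Subgroup.mul_mem _ ht
          ((Subgroup.mem_normalizer_iff.mp hn t⁻¹).mp (Subgroup.inv_mem _ ht))
      have hcf : ⁅(P : Subgroup G), M⁆ ≤ Subgroup.focalSubgroup (P : Subgroup G) := by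
        rw [hfoc]
        exact le_inf (Subgroup.commutator_mono Subgroup.le_normalizer le_rfl)
          (le_sup_left.trans hle)
      have hCn : C ≤ Subgroup.normalizer
          ((⁅(P : Subgroup G), M⁆ : Subgroup G) : Set G) := by
        intro z hz
        refine Subgroup.centralizer_le_normalizer _ fun c hc => ?_
        exact congrArg Subtype.val (hP.is_comm.comm
          (⟨c, hle (Subgroup.mem_sup_left hc)⟩ : ↥(P : Subgroup G)) ⟨z, hz.1⟩)
      rw [← SetLike.mem_coe, Subgroup.coe_mul_of_right_le_normalizer_left _ _ hCn] at ha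
      obtain ⟨c, hc, z, hz, hcz⟩ := Set.mem_mul.mp ha
      refine ⟨⟨z, hz⟩, ?_⟩
      refine QuotientGroup.eq.mpr ?_
      rw [Subgroup.focalSubgroupOf_def, Subgroup.mem_subgroupOf]
      have : z⁻¹ * (a : G) = z⁻¹ * c * z := by rw [← hcz]; group
      show z⁻¹ * (a : G) ∈ _
      rw [this]
      have hcomm : (c : G) * z = z * c := congrArg Subtype.val (hP.is_comm.comm
        (⟨c, hle (Subgroup.mem_sup_left hc)⟩ : ↥(P : Subgroup G)) ⟨z, hz.1⟩)
      rw [mul_assoc, hcomm, inv_mul_cancel_left]
      exact hcf hc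
  exact ⟨(P : Subgroup G).transferFocal.ker, inferInstance,
    ⟨(Subgroup.transferFocal.quotientKerMulEquivQuotientFocalSubroupOf P).trans
      (MulEquiv.ofBijective f hf).symm⟩⟩
end Cfsg.Agent.S0105
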