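import Cfsg.Statements.S0106
import Cfsg.Agent.H5.SL23Section
import Cfsg.Agent.H2.UniqueSubgroup
import Cfsg.Agent.H86.AutDihedral
-- import your own Cfsg.Agent.* helpers here

set_option autoImplicit false
open Cfsg

namespace Cfsg.Agent.S0106

/-- A finite group with generalized quaternion Sylow 2-subgroups either has a normal 2-complement or has a section isomorphic to SL(2,3). -/
theorem result {G : Type*} [Group G] [Finite G] (T : Sylow 2 G) (n : ℕ) (hn : 1 ≤ n) (hT : Nonempty ((T : Subgroup G) ≃* QuaternionGroup (2 ^ n))) : Cfsg.HasNormalPComplement 2 G ∨ ∃ (H K : Subgroup G) (hK : (K.subgroupOf H).Normal), Nonempty ((H ⧸ K.subgroupOf H) ≃* Matrix.SpecialLinearGroup (Fin 2) (ZMod 3)) := by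
  classical
  obtain ⟨eT⟩ := hT
  by_cases hF : Cfsg.HasNormalPComplement 2 G
  · exact Or.inl hF
  right
  obtain ⟨Q, hQT, g, hgN, hgo, hgC⟩ : ∃ Q : Subgroup G, Q ≤ (T : Subgroup G) ∧
      ∃ g ∈ Subgroup.normalizer (Q : Set G), Nat.Coprime (orderOf g) 2 ∧
        g ∉ Subgroup.centralizer (Q : Set G) := by
    by_contra hcon
    push_neg at hcon
    exact hF (H5.hasNormalPComplement_of_frobenius T hcon)
  have hQp : IsPGroup 2 Q := T.2.to_le hQT
  haveI : NeZero (2 ^ n) := ⟨by positivity⟩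
  -- involutions of `Q` are unique
  have hinv : ∀ x y : ↥(T : Subgroup G), x ≠ 1 → x * x = 1 → y ≠ 1 → y * y = 1 → x = y := by
    have key : ∀ z : QuaternionGroup (2 ^ n), z ≠ 1 → z * z = 1 →
        z = QuaternionGroup.a ((2 ^ n : ℕ) : ZMod (2 * 2 ^ n)) := by
      rintro (i | i) h1 h2
      · rw [QuaternionGroup.a_mul_a, QuaternionGroup.one_def] at h2
        have h3 : i + i = 0 := QuaternionGroup.a.inj h2
        have h4 : i ≠ 0 := fun h => h1 (by rw [h]; rfl)
        congr 1
        apply ZMod.val_injective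
        have h5 := ZMod.val_lt i
        have h6 : (i + i).val = 0 := by rw [h3, ZMod.val_zero]
        rw [ZMod.val_add] at h6
        have h7 : i.val ≠ 0 := fun h => h4 ((ZMod.val_eq_zero i).mp h)
        rw [ZMod.val_natCast, Nat.mod_eq_of_lt (by have := Nat.two_pow_pos n; omega)]
        obtain ⟨c, hc⟩ := Nat.dvd_of_mod_eq_zero h6
        rcases c with _ | _ | c
        · omega
        · omega
        · exfalso
          rw [Nat.mul_add, Nat.mul_one, Nat.mul_add, Nat.mul_one] at hc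
          omega
      · exfalso
        rw [QuaternionGroup.xa_mul_xa, QuaternionGroup.one_def] at h2
        have h3 : ((2 ^ n : ℕ) : ZMod (2 * 2 ^ n)) + i - i = 0 := QuaternionGroup.a.inj h2
        rw [add_sub_cancel_right, ZMod.natCast_eq_zero_iff] at h3
        have := Nat.le_of_dvd (by positivity) h3
        have := Nat.two_pow_pos n
        omega
    intro x y hx hx2 hy hy2
    apply eT.injective
    rw [key (eT x) (by simpa using hx) (by rw [← map_mul, hx2, map_one]),
      key (eT y) (by simpa using hy) (by rw [← map_mul, hy2, map_one])]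
  have huniq : ∀ H K : Subgroup Q, Nat.card H = 2 → Nat.card K = 2 → H = K := by
    intro H K hH hK
    haveI := Fact.mk Nat.prime_two
    obtain ⟨h, hh⟩ := exists_prime_orderOf_dvd_card' (G := H) 2 (by rw [hH])
    obtain ⟨k, hk⟩ := exists_prime_orderOf_dvd_card' (G := K) 2 (by rw [hK])
    have h2 : (h : Q) = k := by
      apply Subgroup.inclusion_injective hQT
      refine hinv _ _ ?_ ?_ ?_ ?_
      · intro he
        rw [← map_one (Subgroup.inclusion hQT)] at he
        have := Subgroup.inclusion_injective hQT he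
        rw [← Subgroup.orderOf_coe, this, orderOf_one] at hh; omega
      · have e1 : h * h = 1 := by
          have e0 := pow_orderOf_eq_one h
          rwa [hh, sq] at e0
        rw [← map_mul, ← Subgroup.coe_mul, e1, Subgroup.coe_one, map_one]
      · intro he
        rw [← map_one (Subgroup.inclusion hQT)] at he
        have := Subgroup.inclusion_injective hQT he
        rw [← Subgroup.orderOf_coe, this, orderOf_one] at hk; omega
      · have e1 : k * k = 1 := by
          have e0 := pow_orderOf_eq_one k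
          rwa [hk, sq] at e0
        rw [← map_mul, ← Subgroup.coe_mul, e1, Subgroup.coe_one, map_one]
    have eH : Subgroup.zpowers (h : Q) = H := Subgroup.eq_of_le_of_card_ge
      (Subgroup.zpowers_le.mpr h.2) (by rw [Nat.card_zpowers, Subgroup.orderOf_coe, hh, hH])
    have eK : Subgroup.zpowers (k : Q) = K := Subgroup.eq_of_le_of_card_ge
      (Subgroup.zpowers_le.mpr k.2) (by rw [Nat.card_zpowers, Subgroup.orderOf_coe, hk, hK])
    rw [← eH, ← eK, h2]
  -- the automorphism induced by `g`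
  set φ : MulAut Q := Q.normalizerMonoidHom ⟨g, hgN⟩ with hφ
  have hφval : ∀ x : Q, ((φ x : Q) : G) = g * x * g⁻¹ := fun x => rfl
  have hφo : Nat.Coprime (orderOf φ) 2 := by
    refine Nat.Coprime.coprime_dvd_left ((orderOf_map_dvd _ _).trans ?_) hgo
    rw [Subgroup.orderOf_mk]
  have hφ1 : φ ≠ 1 := by
    intro h1
    refine hgC fun x hx => ?_
    have h2 := hφval ⟨x, hx⟩
    rw [h1] at h2
    exact (eq_mul_inv_iff_mul_eq.mp (show x = g * x * g⁻¹ from h2))
  have hnot : ¬ IsPGroup 2 (MulAut Q) := by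
    intro hA
    obtain ⟨k, hk⟩ := hA φ
    exact hφ1 (orderOf_eq_one_iff.mp
      (Nat.eq_one_of_dvd_coprimes (hφo.pow_right k) dvd_rfl (orderOf_dvd_of_pow_eq_one hk)))
  -- `Q` is the quaternion group of order eight
  have haut_cyc : IsCyclic Q → IsPGroup 2 (MulAut Q) := by
    intro hc
    haveI := hc
    haveI := Fact.mk Nat.prime_two
    obtain ⟨k, hk⟩ := IsPGroup.iff_card.mp hQp
    rcases Nat.eq_zero_or_pos k with rfl | hk0
    · exact IsPGroup.of_card (n := 0) (by rw [hc.card_mulAut, hk]; rfl)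
    · exact IsPGroup.of_card (n := k - 1)
        (by rw [hc.card_mulAut, hk, Nat.totient_prime_pow Nat.prime_two hk0]; simp)
  obtain ⟨eQ⟩ : Nonempty (Q ≃* QuaternionGroup 2) := by
    rcases H2.cyclic_or_quaternion hQp huniq with hc | ⟨k, ⟨e⟩⟩
    · exact absurd (haut_cyc hc) hnot
    · match k, e with
      | 0, e =>
        refine absurd (haut_cyc ?_) hnot
        haveI : IsCyclic (QuaternionGroup (2 ^ 0)) := QuaternionGroup.quaternionGroup_one_isCyclic
        exact isCyclic_of_surjective e.symm e.symm.surjective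
      | 1, e => exact ⟨e⟩
      | j + 2, e => exact absurd ((H86.isPGroup_two_mulAut_quaternion (j + 2) (by omega)).of_equiv
          (MulAut.congr e).symm) hnot
  have hQ8 : Nat.card Q = 8 := by
    rw [Nat.card_congr eQ.toEquiv, Nat.card_eq_fintype_card, QuaternionGroup.card]
  -- transported computations
  have tab : ∀ x y : Q, x * x ≠ 1 → y ≠ x → y ≠ x⁻¹ → y * y ≠ 1 →
      y * y = x * x ∧ y * x * y⁻¹ = x⁻¹ ∧
      ∀ z : Q, z * z ≠ 1 → z ≠ x → z ≠ x⁻¹ → z ≠ y → z ≠ y⁻¹ → z = x * y ∨ z = y * x := by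
    intro x y h1 h2 h3 h4
    have hsq : ∀ u : Q, u * u ≠ 1 → eQ u * eQ u ≠ 1 := fun u hu h =>
      hu (eQ.injective (by rw [map_mul, h, map_one]))
    obtain ⟨r1, r2, r3⟩ := H5.q8_table (eQ x) (eQ y) (hsq x h1) (eQ.injective.ne h2)
      (by rw [← map_inv]; exact eQ.injective.ne h3) (hsq y h4)
    refine ⟨eQ.injective (by simpa using r1), eQ.injective (by simpa using r2),
      fun z z1 z2 z3 z4 z5 => ?_⟩
    rcases r3 (eQ z) (hsq z z1) (eQ.injective.ne z2) (by rw [← map_inv]; exact eQ.injective.ne z3)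
      (eQ.injective.ne z4) (by rw [← map_inv]; exact eQ.injective.ne z5) with h | h
    · exact Or.inl (eQ.injective (by rw [h, map_mul]))
    · exact Or.inr (eQ.injective (by rw [h, map_mul]))
  have hQinv : ∀ x y : Q, x ≠ 1 → x * x = 1 → y ≠ 1 → y * y = 1 → x = y := fun x y a1 a2 a3 a4 =>
    eQ.injective (H5.q8_involution _ _ (by simpa using a1) (by rw [← map_mul, a2, map_one])
      (by simpa using a3) (by rw [← map_mul, a4, map_one]))
  -- `φ` moves some cyclic subgroup of order four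
  have hodd : ∀ x : Q, φ (φ x) = x → φ x = x := by
    intro x h2
    have hpow : ∀ m : ℕ, (φ ^ (2 * m)) x = x := by
      intro m
      induction m with
      | zero => simp
      | succ m ih =>
        rw [mul_add, pow_add, MulAut.mul_apply, show (φ ^ (2 * 1)) x = x from by
          rw [mul_one, pow_two, MulAut.mul_apply, h2], ih]
    obtain ⟨m, hm⟩ : Odd (orderOf φ) := Nat.coprime_two_right.mp hφo
    have h3 := DFunLike.congr_fun (pow_orderOf_eq_one φ) x
    rw [hm, pow_succ', MulAut.mul_apply, hpow] at h3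
    simpa using h3
  obtain ⟨a, hab1, hab2⟩ : ∃ a : Q, φ a ≠ a ∧ φ a ≠ a⁻¹ := by
    by_contra hcon
    push_neg at hcon
    refine hφ1 (MulEquiv.ext fun x => hodd x ?_)
    by_cases h : φ x = x
    · rw [h, h]
    · rw [hcon x h, map_inv, hcon x h, inv_inv]
  set b := φ a with hb
  have ha2 : a * a ≠ 1 := by
    intro h
    by_cases ha1 : a = 1
    · exact hab1 (by rw [hb, ha1, map_one])
    · exact hab1 (hQinv _ _ (fun h' => ha1 (φ.injective (by rw [map_one]; exact h')))
        (by rw [hb, ← map_mul, h, map_one]) ha1 h)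
  have hb2 : b * b ≠ 1 := by
    rw [hb, ← map_mul]
    exact fun h => ha2 (φ.injective (by rw [h, map_one]))
  obtain ⟨r1, r2, r3⟩ := tab a b ha2 hab1 hab2 hb2
  have hc2 : φ b * φ b ≠ 1 := by
    rw [← map_mul]; exact fun h => hb2 (φ.injective (by rw [h, map_one]))
  have hcb : φ b ≠ b := fun h => hab1 (φ.injective (by rw [← hb]; exact h))
  have hcb' : φ b ≠ b⁻¹ := fun h => hab2 (φ.injective (by rw [map_inv, ← hb]; exact h))
  have hca : φ b ≠ a := fun h => hab1 (hodd a (by rw [← hb]; exact h))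
  have hca' : φ b ≠ a⁻¹ := by
    intro h
    -- then `φ^4` fixes `a`
    have h4 : φ (φ (φ (φ a))) = a := by
      rw [← hb, h, map_inv, ← hb, map_inv, h, inv_inv]
    have h5 : φ (φ a) = a := by
      have hpow : ∀ m : ℕ, (φ ^ (4 * m)) a = a := by
        intro m
        induction m with
        | zero => simp
        | succ m ih =>
          rw [mul_add, pow_add, MulAut.mul_apply, show (φ ^ (4 * 1)) a = a from h4, ih]
      obtain ⟨m, hm⟩ : Odd (orderOf φ) := Nat.coprime_two_right.mp hφo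
      have h6 := DFunLike.congr_fun (pow_orderOf_eq_one (φ ^ 2)) a
      have h7 : (φ ^ 2) ^ (2 * m + 1) = 1 := by
        rw [← pow_mul, mul_comm, pow_mul, ← hm, pow_orderOf_eq_one, one_pow]
      have h8 := DFunLike.congr_fun h7 a
      rw [← pow_mul, show 2 * (2 * m + 1) = 2 + 4 * m by ring, pow_add, MulAut.mul_apply, hpow] at h8
      exact h8
    rw [← hb, h] at h5
    exact ha2 (by conv_lhs => arg 1; rw [← h5]
                  exact inv_mul_cancel a)
  obtain ⟨g₁, hg₁N, hg₁o, hg₁C, hrelφ⟩ : ∃ g₁ : G, ∃ hN : g₁ ∈ Subgroup.normalizer (Q : Set G),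
      Nat.Coprime (orderOf g₁) 2 ∧ g₁ ∉ Subgroup.centralizer (Q : Set G) ∧
      let ψ : MulAut Q := Q.normalizerMonoidHom ⟨g₁, hN⟩
      ψ a ≠ a ∧ ψ a ≠ a⁻¹ ∧ ψ (ψ a) = a * ψ a := by
    rcases r3 (φ b) hc2 hca hca' hcb hcb' with h | h
    · exact ⟨g, hgN, hgo, hgC, hab1, hab2, h⟩
    · have hinvN : g⁻¹ ∈ Subgroup.normalizer (Q : Set G) := Subgroup.inv_mem _ hgN
      refine ⟨g⁻¹, hinvN, by rwa [orderOf_inv], fun hh => hgC (by simpa using Subgroup.inv_mem _ hh), ?_⟩
      have hψ : Q.normalizerMonoidHom ⟨g⁻¹, hinvN⟩ = φ⁻¹ := map_inv Q.normalizerMonoidHom ⟨g, hgN⟩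
      obtain ⟨s1, s2, s3⟩ := H5.q8_aba (eQ a) (eQ b)
        (fun h' => ha2 (eQ.injective (by rw [map_mul, h', map_one])))
        (by rw [← map_mul, r1, map_mul]) (by rw [← map_inv, ← map_mul, ← map_mul, r2, map_inv])
      have t1 : a * b * a = b := eQ.injective (by rw [map_mul, map_mul, s1])
      have t2 : φ (φ b) = a := by
        rw [h, map_mul, h, ← hb]
        calc b * a * b = b * (a * b) := mul_assoc _ _ _
          _ = a := eQ.injective (by rw [map_mul, map_mul, s3])
      simp only [hψ]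
      have e1 : φ⁻¹ a = φ b := φ.injective (by rw [MulAut.apply_inv_self, t2])
      have e2 : φ⁻¹ (φ b) = b := φ.injective (by rw [MulAut.apply_inv_self])
      refine ⟨by rw [e1]; exact hca, by rw [e1]; exact hca', ?_⟩
      rw [e1, e2, h, ← mul_assoc, t1]
  set ψ : MulAut Q := Q.normalizerMonoidHom ⟨g₁, hg₁N⟩ with hψdef
  obtain ⟨hA1, hA2, hA3⟩ := hrelφ
  clear_value ψ
  set b₁ := ψ a with hb₁
  have hψval : ∀ x : Q, ((ψ x : Q) : G) = g₁ * x * g₁⁻¹ := fun x => by rw [hψdef]; rfl
  have hb12 : b₁ * b₁ ≠ 1 := by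
    rw [hb₁, ← map_mul]
    exact fun h => ha2 (ψ.injective (by rw [h, map_one]))
  obtain ⟨u1, u2, -⟩ := tab a b₁ ha2 hA1 hA2 hb12
  obtain ⟨v1, v2, v3⟩ := H5.q8_aba (eQ a) (eQ b₁)
    (fun h' => ha2 (eQ.injective (by rw [map_mul, h', map_one])))
    (by rw [← map_mul, u1, map_mul]) (by rw [← map_inv, ← map_mul, ← map_mul, u2, map_inv])
  have hψ3 : ψ (ψ (ψ a)) = a := by
    rw [← hb₁, hA3, map_mul, ← hb₁, hA3]
    exact eQ.injective (by rw [map_mul, map_mul, v3])
  -- `a` and `b₁` generate `Q`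
  have haG : orderOf a = 4 := by
    have h4 : a ^ 4 = 1 := eQ.injective (by rw [map_pow, H5.q8_pow_four, map_one])
    haveI := Fact.mk Nat.prime_two
    rw [show (4 : ℕ) = 2 ^ (1 + 1) from rfl]
    exact orderOf_eq_prime_pow (by rwa [pow_one, sq]) h4
  have hbz : b₁ ∉ Subgroup.zpowers a := by
    rw [mem_zpowers_iff_mem_range_orderOf, haG]
    intro hmem
    simp only [Finset.mem_image, Finset.mem_range] at hmem
    obtain ⟨i, hi, hie⟩ := hmem
    have a4 : a ^ 4 = 1 := haG ▸ pow_orderOf_eq_one a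
    interval_cases i
    · exact hb12 (by rw [← hie]; simp)
    · exact hA1 (by rw [← hie, pow_one])
    · exact hb12 (by rw [← hie, ← pow_add]; exact a4)
    · exact hA2 (by rw [← hie, eq_inv_iff_mul_eq_one, ← pow_succ]; exact a4)
  have hgen : Subgroup.closure ({a, b₁} : Set Q) = ⊤ := by
    obtain ⟨e⟩ := H67.quat_iso (k := 2) a b₁ (by rw [u1, sq]) u2 (by rw [haG]) hbz
    refine Subgroup.eq_top_of_card_eq _ ?_
    rw [hQ8, Nat.card_congr e.toEquiv, Nat.card_eq_fintype_card, QuaternionGroup.card]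
  have hψcube : ψ ^ 3 = 1 := by
    have h1 : ∀ x : Q, (ψ ^ 3) x = ψ (ψ (ψ x)) := fun x => rfl
    have h2 : (ψ ^ 3).toMonoidHom = MonoidHom.id Q := MonoidHom.eq_of_eqOn_dense hgen (by
      rintro x (rfl | hx)
      · exact (h1 _).trans hψ3
      · rw [Set.mem_singleton_iff] at hx; subst hx
        show (ψ ^ 3) b₁ = b₁
        rw [h1, hb₁, hψ3])
    exact MulEquiv.ext fun x => DFunLike.congr_fun h2 x
  -- the section
  set K := Subgroup.zpowers (g₁ ^ 3) with hK
  set H := Q ⊔ Subgroup.zpowers g₁ with hH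
  have hg₁H : g₁ ∈ H := Subgroup.mem_sup_right (Subgroup.mem_zpowers g₁)
  have haH : (a : G) ∈ H := Subgroup.mem_sup_left a.2
  have hKH : K ≤ H := Subgroup.zpowers_le.mpr (H.pow_mem hg₁H 3)
  have hcent : ∀ k ∈ K, ∀ x ∈ H, x * k = k * x := by
    intro k hk x hx
    obtain ⟨i, rfl⟩ := hk
    have hle : H ≤ Subgroup.centralizer ({g₁ ^ 3} : Set G) := by
      refine sup_le (fun q hq => ?_) (Subgroup.zpowers_le.mpr ?_)
      · rw [Subgroup.mem_centralizer_singleton_iff]
        have h3 := congrArg (fun f : MulAut Q => ((f ⟨q, hq⟩ : Q) : G)) hψcube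
        simp only [MulAut.one_apply] at h3
        have h4 : (((ψ ^ 3) ⟨q, hq⟩ : Q) : G) = g₁ ^ 3 * q * (g₁ ^ 3)⁻¹ := by
          rw [hψdef, ← map_pow]; rfl
        rw [h4, mul_inv_eq_iff_eq_mul] at h3
        exact h3.symm
      · rw [Subgroup.mem_centralizer_singleton_iff]
        exact (Commute.refl g₁).pow_right 3
    have hcm : Commute x (g₁ ^ 3) := Subgroup.mem_centralizer_singleton_iff.mp (hle hx)
    exact hcm.zpow_right i
  have hKn : (K.subgroupOf H).Normal := by
    refine ⟨fun k hk h => ?_⟩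
    have : h * k * h⁻¹ = k := Subtype.ext (by
      simp only [Subgroup.coe_mul, Subgroup.coe_inv]
      rw [hcent (k : G) hk _ h.2, mul_inv_cancel_right])
    rw [this]; exact hk
  haveI := hKn
  refine ⟨H, K, hKn, ?_⟩
  set π := QuotientGroup.mk' (K.subgroupOf H) with hπ
  set A : H ⧸ K.subgroupOf H := π ⟨a, haH⟩ with hA
  set Tt : H ⧸ K.subgroupOf H := π ⟨g₁, hg₁H⟩ with hTt
  have hQK : ∀ x : G, x ∈ Q → x ∈ K → x = 1 := by
    intro x hx hk
    obtain ⟨k, hk'⟩ := hQp ⟨x, hx⟩
    have h2 : orderOf x ∣ 2 ^ k := orderOf_dvd_of_pow_eq_one (congrArg Subtype.val hk')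
    have h3 : orderOf x ∣ orderOf g₁ :=
      (orderOf_dvd_of_mem_zpowers hk).trans (orderOf_pow_dvd 3)
    exact orderOf_eq_one_iff.mp (Nat.eq_one_of_dvd_coprimes (hg₁o.pow_right k) h3 h2)
  let f : Q →* H ⧸ K.subgroupOf H := π.comp (Subgroup.inclusion le_sup_left)
  have hf : Function.Injective f := by
    rw [← MonoidHom.ker_eq_bot_iff, eq_bot_iff]
    intro x hx
    have hx' : (Subgroup.inclusion le_sup_left x : H) ∈ K.subgroupOf H :=
      (QuotientGroup.eq_one_iff _).mp hx
    exact Subgroup.mem_bot.mpr (Subtype.ext (hQK _ x.2 hx'))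
  have hTf : ∀ x : Q, Tt * f x * Tt⁻¹ = f (ψ x) := by
    intro x
    show π _ * π _ * (π _)⁻¹ = π _
    rw [← map_inv, ← map_mul, ← map_mul]
    congr 1
    exact Subtype.ext (hψval x).symm
  have hA' : A = f a := rfl
  have hT3 : Tt ^ 3 = 1 := by
    rw [hTt, ← map_pow]
    exact (QuotientGroup.eq_one_iff _).mpr (Subgroup.mem_zpowers _)
  have hT1 : Tt ≠ 1 := by
    intro h
    have h2 := hTf a
    rw [h, one_mul, inv_one, mul_one] at h2
    exact hA1 (hf h2).symm
  have hordT : orderOf Tt = 3 := orderOf_eq_prime hT3 hT1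
  have hrel : H5.SL23Rel A Tt := by
    refine ⟨?_, hordT, ?_, ?_, ?_, ?_⟩
    · rw [hA', orderOf_injective f hf, haG]
    · rw [hA', hTf, ← MonoidHom.map_zpowers, Subgroup.mem_map_iff_mem hf]; exact hbz
    · rw [hA', hTf, ← map_mul f, ← map_mul f, u1]
    · rw [hA', hTf, ← map_inv f, ← map_mul f, ← map_mul f, ← map_inv f, u2]
    · rw [hA', hTf, hTf, ← map_mul, hA3]
  have hgenq : Subgroup.closure ({A, Tt} : Set (H ⧸ K.subgroupOf H)) = ⊤ := by
    set S := Subgroup.closure ({A, Tt} : Set (H ⧸ K.subgroupOf H)) with hS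
    have hAS : A ∈ S := Subgroup.subset_closure (Or.inl rfl)
    have hTS : Tt ∈ S := Subgroup.subset_closure (Or.inr rfl)
    have hQS : ∀ x : Q, f x ∈ S := by
      intro x
      have hle : Subgroup.closure ({a, b₁} : Set Q) ≤ S.comap f := by
        rw [Subgroup.closure_le]
        rintro y (rfl | hy)
        · exact hAS
        · rw [Set.mem_singleton_iff] at hy; subst hy
          show f b₁ ∈ S
          rw [hb₁, ← hTf]; exact S.mul_mem (S.mul_mem hTS hAS) (S.inv_mem hTS)
      exact hle (hgen ▸ Subgroup.mem_top x)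
    rw [eq_top_iff]
    intro z _
    obtain ⟨⟨x, hx⟩, rfl⟩ := QuotientGroup.mk'_surjective _ z
    have hx2 : x ∈ (S.comap π).map H.subtype := by
      refine (sup_le (fun q hq => ?_) (Subgroup.zpowers_le.mpr ?_) :
        H ≤ (S.comap π).map H.subtype) hx
      · exact ⟨⟨q, Subgroup.mem_sup_left hq⟩, hQS ⟨q, hq⟩, rfl⟩
      · exact ⟨⟨g₁, hg₁H⟩, hTS, rfl⟩
    obtain ⟨y, hy, hyx⟩ := hx2
    exact (Subtype.ext hyx : y = ⟨x, hx⟩) ▸ hy
  obtain ⟨a₂, t₂, hrel₂, hgen₂, hcard₂⟩ := H5.exists_sl23Rel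
  obtain ⟨hle, -⟩ := H5.card_le_of_sl23Rel hrel
  rw [hgenq, Subgroup.card_top] at hle
  have hcard : Nat.card (H ⧸ K.subgroupOf H) = 24 := by
    refine le_antisymm hle (Nat.le_of_dvd Nat.card_pos ?_)
    refine Nat.Coprime.mul_dvd_of_dvd_of_dvd (by norm_num : Nat.Coprime 8 3) ?_ ?_
    · rw [← hQ8]; exact Subgroup.card_dvd_of_injective f hf
    · exact hordT ▸ orderOf_dvd_natCard Tt
  exact H5.mulEquiv_of_sl23Rel hrel hrel₂ hcard hcard₂ hgenq hgen₂
end Cfsg.Agent.S0106
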