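import Cfsg.Statements.S0109
import Cfsg.Agent.H6.FusionZJ
import Cfsg.Agent.H10.StableClosure
import Cfsg.Agent.H10.Thompson
import Cfsg.Agent.H10.OffenderBasics
import Cfsg.Agent.H10.PSolvable
-- import your own Cfsg.Agent.* helpers here

set_option autoImplicit false
open Cfsg
open scoped commutatorElement Pointwise

namespace Cfsg.Agent.S0109

/-- The Thompson factorization Theorem for solvable groups states that, with p odd (and abelian Sylow 2-subgroups when p = 3) and no nontrivial normal subgroup of order prime to p, every element of G is a product of an element normalizing J(P) and an element centralizing the elements of order dividing p in the centre of P. -/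
theorem result {G : Type*} [Group G] [Finite G] {p : ℕ} [Fact p.Prime] (hp : p ≠ 2) (hs : Group.IsSolvable G) (h3 : p = 3 → ∀ T : Sylow 2 G, IsMulCommutative T) (hF : ∀ N : Subgroup G, N.Normal → Nat.Coprime (Nat.card N) p → N = ⊥) (P : Sylow p G) (g : G) : ∃ a ∈ Subgroup.normalizer (Cfsg.thompsonSubgroupOf p (P : Subgroup G) : Set G), ∃ c ∈ Subgroup.centralizer {x : G | x ∈ (P : Subgroup G) ∧ (∀ y ∈ (P : Subgroup G), x * y = y * x) ∧ x ^ p = 1}, g = a * c := by

  classical
  have hsep : Cfsg.IsPSolvable p G := H10.isPSolvable_of_isSolvable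
  have hO : Cfsg.pPrimeCore p G = ⊥ := by
    haveI := H1.pPrimeCore_normal' p G
    exact hF _ inferInstance (H1.card_pPrimeCore_coprime p G)
  set Zs : Set G := {x : G | x ∈ (P : Subgroup G) ∧ (∀ y ∈ (P : Subgroup G), x * y = y * x) ∧ x ^ p = 1} with hZs
  set Q := Cfsg.pCore p G with hQ
  haveI hQn : Q.Normal := H1.pCore_normal' p G
  have hQP : Q ≤ (P : Subgroup G) := H1.pCore_le_sylow P
  have hQc : Subgroup.centralizer (Q : Set G) ≤ Q := H10.centralizer_pCore_le hsep hO
  set Z := Q ⊓ Subgroup.centralizer (Q : Set G) with hZ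
  haveI hZn : Z.Normal := H10.normal_inf_centralizer Q
  haveI hWn : (Cfsg.omegaOne p Z).Normal := H10.omegaOne_normal hZn
  have hWel : Cfsg.IsElementaryAbelian p (Cfsg.omegaOne p Z) := by
    have hcomm : ∀ x ∈ Z, ∀ y ∈ Z, x * y = y * x := fun x hx y hy =>
      (Subgroup.mem_centralizer_iff.mp hx.2 y hy.1).symm
    have hle : ∀ a ∈ Cfsg.omegaOne p Z, a ∈ Z ∧ a ^ p = 1 := by
      intro a ha
      induction ha using Subgroup.closure_induction with
      | mem x hx => exact hx
      | one => exact ⟨one_mem _, one_pow _⟩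
      | mul x y _ _ hx hy =>
        exact ⟨mul_mem hx.1 hy.1, by rw [(show Commute x y from hcomm x hx.1 y hy.1).mul_pow, hx.2, hy.2, mul_one]⟩
      | inv x _ hx => exact ⟨inv_mem hx.1, by rw [inv_pow, hx.2, inv_one]⟩
    exact ⟨⟨⟨fun x y => Subtype.ext (hcomm x (hle x x.2).1 y (hle y y.2).1)⟩⟩, fun a ha => (hle a ha).2⟩
  set V := Subgroup.normalClosure Zs with hV
  have hVW : V ≤ Cfsg.omegaOne p Z := by
    refine Subgroup.normalClosure_le_normal ?_
    rintro x ⟨-, hxc, hxp⟩
    have hx1 : x ∈ Subgroup.centralizer (Q : Set G) :=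
      Subgroup.mem_centralizer_iff.mpr fun q hq => (hxc q (hQP hq)).symm
    exact Subgroup.subset_closure ⟨⟨hQc hx1, hx1⟩, hxp⟩
  have hVel : Cfsg.IsElementaryAbelian p V :=
    H10.IsElementaryAbelian.of_map_le (f := MonoidHom.id G) Function.injective_id hWel
      (by rw [Subgroup.map_id]; exact hVW)
  set C := Subgroup.centralizer (V : Set G) with hC
  haveI hCn : C.Normal := inferInstance
  set π := QuotientGroup.mk' C with hπ
  -- `O_p(G / C) = 1`
  have hcore : Cfsg.pCore p (G ⧸ C) = ⊥ := by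
    haveI : (Cfsg.pCore p (G ⧸ C)).Normal := H1.pCore_normal' p _
    set D := (Cfsg.pCore p (G ⧸ C)).comap π with hD
    obtain ⟨S, hS⟩ := H6.exists_sylow_inf P D
    rw [eq_bot_iff]
    intro y hy
    have hle : D ≤ C ⊔ ((P : Subgroup G) ⊓ D) := by
      intro d hd
      have h1 : π d ∈ ((P : Subgroup G)).map π := by
        rw [← Sylow.coe_mapSurjective (QuotientGroup.mk'_surjective C) P]
        exact H1.pCore_le_sylow _ hd
      obtain ⟨s, hs, hse⟩ := h1
      have hc : d * s⁻¹ ∈ C := by
        refine (QuotientGroup.eq_one_iff _).mp ?_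
        show π (d * s⁻¹) = 1
        rw [map_mul, map_inv, hse, mul_inv_cancel]
      have hsD : s ∈ D := by
        show π s ∈ Cfsg.pCore p (G ⧸ C)
        rw [hse]; exact hd
      rw [show d = (d * s⁻¹) * s by group]
      exact mul_mem (Subgroup.mem_sup_left hc) (Subgroup.mem_sup_right ⟨hs, hsD⟩)
    have hCD : C ≤ D := fun c hc => by
      show π c ∈ Cfsg.pCore p (G ⧸ C)
      rw [show π c = 1 from (QuotientGroup.eq_one_iff c).mpr hc]; exact one_mem _
    have hPD : (P : Subgroup G) ⊓ D ≤ C := by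
      intro s hs
      have hle2 : V ≤ Subgroup.centralizer (((P : Subgroup G) ⊓ D : Subgroup G) : Set G) := by
        refine (Subgroup.closure_le _).mpr ?_
        intro x hx
        obtain ⟨z, hz, hzx⟩ := Group.mem_conjugatesOfSet_iff.mp hx
        obtain ⟨g, rfl⟩ := isConj_iff.mp hzx
        obtain ⟨t, ht, hw⟩ := H6.exists_mul_mem_normalizer S
          (show g ∈ Subgroup.normalizer (D : Set G) by rw [Subgroup.normalizer_eq_top]; exact Subgroup.mem_top g)
        rw [hS] at hw
        obtain ⟨c, hc, r, hr, rfl⟩ : ∃ c ∈ C, ∃ r ∈ (P : Subgroup G) ⊓ D, t = c * r := by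
          have := hle ht
          rw [Subgroup.sup_eq_closure_mul, ← Subgroup.normal_mul] at this
          have h2 : t ∈ ((C ⊔ ((P : Subgroup G) ⊓ D) : Subgroup G) : Set G) := hle ht
          rw [Subgroup.normal_mul] at h2
          obtain ⟨c, hc, r, hr, rfl⟩ := h2
          exact ⟨c, hc, r, hr, rfl⟩
        set n := r * ((c * r)⁻¹ * g) with hn
        have hnN : n ∈ Subgroup.normalizer (((P : Subgroup G) ⊓ D : Subgroup G) : Set G) :=
          mul_mem (Subgroup.le_normalizer hr) hw
        have hgn : g = c * n := by rw [hn]; group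
        refine Subgroup.mem_centralizer_iff.mpr fun q hq => ?_
        have hzC : z ∈ V := Subgroup.subset_normalClosure hz
        have hc' : n⁻¹ * c * n ∈ C := by simpa using hCn.conj_mem c hc n⁻¹
        have e : g * z * g⁻¹ = n * z * n⁻¹ := by
          calc g * z * g⁻¹ = n * ((n⁻¹ * c * n) * z) * (n⁻¹ * c * n)⁻¹ * n⁻¹ := by rw [hgn]; group
            _ = n * (z * (n⁻¹ * c * n)) * (n⁻¹ * c * n)⁻¹ * n⁻¹ := by
              rw [Subgroup.mem_centralizer_iff.mp hc' z hzC]
            _ = n * z * n⁻¹ := by group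
        rw [e]
        have hq' := ((Subgroup.mem_normalizer_iff''.mp hnN q).mp hq)
        have h3 : z * (n⁻¹ * q * n) = (n⁻¹ * q * n) * z := hz.2.1 _ hq'.1
        calc q * (n * z * n⁻¹) = n * ((n⁻¹ * q * n) * z) * n⁻¹ := by group
          _ = n * z * n⁻¹ * q := by rw [← h3]; group
      exact Subgroup.mem_centralizer_iff.mpr fun v hv => (Subgroup.mem_centralizer_iff.mp (hle2 hv) s hs).symm
    obtain ⟨d, rfl⟩ := QuotientGroup.mk'_surjective C y
    refine Subgroup.mem_bot.mpr ((QuotientGroup.eq_one_iff d).mpr ?_)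
    exact (sup_le le_rfl hPD : C ⊔ ((P : Subgroup G) ⊓ D) ≤ C) (hle hy)
  have hst : Cfsg.IsPStableOn p V := by
    by_cases hp5 : 5 ≤ p
    · exact H10.isPStableOn_of_pSolvable hp5 hsep V hVel
    · have hp3 : p = 3 := by
        have h2 := (Fact.out : p.Prime).two_le
        have h4 : p ≠ 4 := fun e => absurd (e ▸ (Fact.out : p.Prime)) (by norm_num)
        omega
      exact H10.isPStableOn_of_comm_sylow_two hp (h3 hp3) V hVel
  have hcentral : ∀ A ∈ Cfsg.maxElementaryAbelianSubgroups p G, A ≤ C := by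
    intro A hA
    by_contra hAC
    have hne : ⁅V, A⁆ ≠ ⊥ := fun e => hAC (fun a ha => Subgroup.mem_centralizer_iff.mpr fun v hv =>
      commutatorElement_eq_one_iff_mul_comm.mp (Subgroup.mem_bot.mp
        (e ▸ Subgroup.commutator_mem_commutator hv ha)))
    obtain ⟨hB, hq, hB1⟩ := H10.max_replacement hVel hA
    refine hB1 hne (Subgroup.commutator_eq_bot_iff_le_centralizer.mpr fun v hv => ?_)
    refine Subgroup.mem_centralizer_iff.mpr fun b hb => ?_
    have hbC : b ∈ C := by
      have h1 := hst b (le_bot_iff.mp (le_trans (Subgroup.commutator_mono (Subgroup.commutator_mono le_rfl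
        (Subgroup.zpowers_le.mpr hb)) (Subgroup.zpowers_le.mpr hb)) hq.le))
      rw [hcore, Subgroup.mem_bot] at h1
      exact (QuotientGroup.eq_one_iff b).mp h1
    exact (Subgroup.mem_centralizer_iff.mp hbC v hv).symm
  set J := Cfsg.thompsonSubgroupOf p (P : Subgroup G) with hJ
  have hJdef : J = sSup (H11.maxFam (fun A : Subgroup G => Cfsg.IsElementaryAbelian p A) (P : Subgroup G)) :=
    H11.thompsonSubgroupOf_eq p _
  have hfam : ∀ A ∈ H11.maxFam (fun A : Subgroup G => Cfsg.IsElementaryAbelian p A) (P : Subgroup G),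
      A ∈ H11.maxFam (fun A : Subgroup G => Cfsg.IsElementaryAbelian p A) (⊤ : Subgroup G) ∧ A ≤ C := by
    intro A hA
    have h := H10.maxFam_sylow P hA
    exact ⟨h, hcentral A ⟨h.2.1, fun B hB => h.2.2 B le_top hB⟩⟩
  obtain ⟨S, hS⟩ := H6.exists_sylow_inf P C
  obtain ⟨t, ht, hw⟩ := H6.exists_mul_mem_normalizer S
    (show g⁻¹ ∈ Subgroup.normalizer (C : Set G) by rw [Subgroup.normalizer_eq_top]; exact Subgroup.mem_top _)
  rw [hS] at hw
  set w := t⁻¹ * g⁻¹ with hwdef
  have hwJ : w ∈ Subgroup.normalizer (J : Set G) := by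
    refine Subgroup.mem_normalizer_iff_map_conj_eq.mpr (Subgroup.eq_of_le_of_card_ge ?_
      (by rw [Subgroup.card_map_of_injective (MulAut.conj w).injective]))
    rw [hJdef]
    refine Subgroup.map_le_iff_le_comap.mpr (sSup_le fun A hA => Subgroup.map_le_iff_le_comap.mp ?_)
    refine le_sSup (H11.mem_maxFam_of_mem le_top ?_ ?_)
    · have h := H11.map_mem_maxFam (H11.replProp_elem (G := G) p) (MulAut.conj w) (hfam A hA).1
      rwa [Subgroup.map_top_of_surjective (MulAut.conj w).toMonoidHom (MulAut.conj w).surjective] at h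
    · rintro _ ⟨a, ha, rfl⟩
      exact ((Subgroup.mem_normalizer_iff.mp hw a).mp ⟨hA.1 ha, (hfam A hA).2 ha⟩).1
  refine ⟨w⁻¹, inv_mem hwJ, t⁻¹, ?_, by rw [hwdef]; group⟩
  refine inv_mem (Subgroup.mem_centralizer_iff.mpr fun x hx => ?_)
  exact Subgroup.mem_centralizer_iff.mp ht x (Subgroup.subset_normalClosure hx)

end Cfsg.Agent.S0109
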