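import Cfsg.Statements.S0115
import Cfsg.Agent.H6.MaxClass
-- import your own Cfsg.Agent.* helpers here

set_option autoImplicit false
open Cfsg

namespace Cfsg.Agent.S0115

/-- A 2-group of order 2^n, n ≥ 3, is of maximal class exactly when its commutator quotient is a Klein four-group. -/
theorem result {X : Type*} [Group X] [Finite X] (n : ℕ) (hn : 3 ≤ n) (hX : Nat.card X = 2 ^ n) : Group.nilpotencyClass X = n - 1 ↔ IsKleinFour (X ⧸ commutator X) := by
  haveI : Fact (Nat.Prime 2) := ⟨Nat.prime_two⟩
  constructor
  · intro hc
    have hab : (commutator X).index = 4 := by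
      rw [H6.maximalClass_index_commutator (p := 2) n X hX (by omega) hc]; norm_num
    exact H6.isKleinFour_abelianization hn hX hab
  · intro h
    exact H6.nilpotencyClass_of_index_commutator_four n X hX (by omega)
      (by rw [Subgroup.index_eq_card]; exact h.card_four)

end Cfsg.Agent.S0115
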