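import Cfsg.Statements.S0125
-- import your own Cfsg.Agent.* helpers here

set_option autoImplicit false
open Cfsg

namespace Cfsg.Agent.S0125

/-- The centralizer of a self-centralizing normal subgroup A of a Sylow p-subgroup is the direct product of A with a normal p'-subgroup. -/
theorem result {G : Type*} [Group G] [Finite G] {p : ℕ} [Fact p.Prime] (R : Sylow p G) (A : Subgroup G) (hAR : A ≤ (R : Subgroup G)) (hAn : (R : Subgroup G) ≤ Subgroup.normalizer (A : Set G)) (hC : (R : Subgroup G) ⊓ Subgroup.centralizer (A : Set G) = A) : ∃ H : Subgroup G, H ≤ Subgroup.centralizer (A : Set G) ∧ Nat.Coprime (Nat.card H) p ∧ Subgroup.centralizer (A : Set G) ≤ Subgroup.normalizer (H : Set G) ∧ H ⊓ A = ⊥ ∧ H ⊔ A = Subgroup.centralizer (A : Set G) := by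
  set C := Subgroup.centralizer (A : Set G) with hCdef
  have hAC : A ≤ C := hC ▸ inf_le_right
  have hRC : (R : Subgroup G) ≤ Subgroup.normalizer (C : Set G) := fun r hr => by
    rw [Subgroup.mem_normalizer_iff]
    intro c
    have hr' := Subgroup.mem_normalizer_iff.mp (hAn hr)
    have hr'' := Subgroup.mem_normalizer_iff''.mp (hAn hr)
    simp only [SetLike.mem_coe, hCdef, Subgroup.mem_centralizer_iff]
    constructor
    · intro h a ha
      have h1 := h _ ((hr'' a).mp ha)
      calc a * (r * c * r⁻¹) = r * ((r⁻¹ * a * r) * c) * r⁻¹ := by group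
        _ = r * c * r⁻¹ * a := by rw [h1]; group
    · intro h a ha
      have h1 := h _ ((hr' a).mp ha)
      calc a * c = r⁻¹ * ((r * a * r⁻¹) * (r * c * r⁻¹)) * r := by group
        _ = c * a := by rw [h1]; group
  set L := C ⊔ (R : Subgroup G) with hLdef
  have hCL : (C.subgroupOf L).Normal := Subgroup.normal_subgroupOf_of_le_normalizer
    (sup_le Subgroup.le_normalizer hRC)
  have hLrel : C.relIndex L = C.relIndex (R : Subgroup G) := by
    haveI := hCL
    have h := Subgroup.relIndex_sup_right (H := (R : Subgroup G).subgroupOf L) (K := C.subgroupOf L)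
    have h1 := Subgroup.relIndex_subgroupOf (H := C) (le_refl L)
    have h2 := Subgroup.relIndex_subgroupOf (H := C) (le_sup_right : (R : Subgroup G) ≤ L)
    rw [← h1, ← h2, ← h]
    congr 1
    rw [sup_comm, ← Subgroup.subgroupOf_sup (le_sup_left : C ≤ L) (le_sup_right : (R : Subgroup G) ≤ L)]
  have hcA : Nat.card C = Nat.card A * (R : Subgroup G).relIndex L := by
    have h1 := Subgroup.relIndex_mul_relIndex ⊥ C L bot_le le_sup_left
    have h2 := Subgroup.relIndex_mul_relIndex ⊥ (R : Subgroup G) L bot_le le_sup_right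
    have h3 := Subgroup.relIndex_mul_relIndex ⊥ ((R : Subgroup G) ⊓ C) (R : Subgroup G) bot_le inf_le_left
    rw [Subgroup.inf_relIndex_left, hC] at h3
    rw [Subgroup.relIndex_bot_left, Subgroup.relIndex_bot_left] at h1 h2 h3
    have hne : C.relIndex (R : Subgroup G) ≠ 0 :=
      ne_zero_of_dvd_ne_zero Nat.card_pos.ne' (Subgroup.relIndex_dvd_card C (R : Subgroup G))
    apply Nat.eq_of_mul_eq_mul_right (Nat.pos_of_ne_zero hne)
    rw [hLrel] at h1
    rw [h1, ← h2, ← h3]
    ring
  have hApg : IsPGroup p (A.subgroupOf C) :=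
    ((R.isPGroup'.to_le hAR)).of_equiv (Subgroup.subgroupOfEquivOfLe hAC).symm
  have hidx : ¬ p ∣ (A.subgroupOf C).index := by
    intro hdvd
    apply R.not_dvd_index
    have h4 : (A.subgroupOf C).index = (R : Subgroup G).relIndex L := by
      have h5 := Subgroup.relIndex_mul_relIndex ⊥ A C bot_le hAC
      rw [Subgroup.relIndex_bot_left, Subgroup.relIndex_bot_left, hcA] at h5
      exact Nat.eq_of_mul_eq_mul_left Nat.card_pos h5
    exact (h4 ▸ hdvd).trans (Subgroup.relIndex_dvd_index_of_le le_sup_right |>.trans dvd_rfl)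
  let S : Sylow p C := hApg.toSylow hidx
  have hcent : Subgroup.normalizer ((S : Subgroup C) : Set C) ≤ Subgroup.centralizer ((S : Subgroup C) : Set C) := by
    intro x _
    rw [Subgroup.mem_centralizer_iff]
    intro a ha
    exact Subtype.ext (Subgroup.mem_centralizer_iff.mp x.2 (a : G) ha)
  obtain ⟨K, hKn, hK, hKcard⟩ : ∃ K : Subgroup C, K.Normal ∧ Subgroup.IsComplement' K (S : Subgroup C) ∧
      ¬ p ∣ Nat.card K :=
    ⟨_, MonoidHom.normal_ker _, MonoidHom.ker_transferSylow_isComplement' S hcent,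
      MonoidHom.not_dvd_card_ker_transferSylow S hcent⟩
  have hmap : (S : Subgroup C).map C.subtype = A := by
    show (A.subgroupOf C).map C.subtype = A
    rw [Subgroup.map_subgroupOf_eq_of_le hAC]
  refine ⟨K.map C.subtype, Subgroup.map_subtype_le K, ?_, ?_, ?_, ?_⟩
  · rw [Subgroup.card_map_of_injective C.subtype_injective, Nat.coprime_comm]
    exact (Fact.out : p.Prime).coprime_iff_not_dvd.mpr hKcard
  · intro x hx
    rw [Subgroup.mem_normalizer_iff]
    intro k
    constructor
    · rintro ⟨k, hk, rfl⟩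
      exact ⟨⟨x, hx⟩ * k * ⟨x, hx⟩⁻¹, hKn.conj_mem k hk _, rfl⟩
    · rintro ⟨k', hk', heq⟩
      refine ⟨⟨x, hx⟩⁻¹ * k' * ⟨x, hx⟩⁻¹⁻¹, hKn.conj_mem k' hk' _, ?_⟩
      simp only [map_mul, map_inv, inv_inv, heq]
      simp
      group
  · rw [← hmap, ← Subgroup.map_inf _ _ _ C.subtype_injective, hK.disjoint.eq_bot, Subgroup.map_bot]
  · rw [← hmap, ← Subgroup.map_sup, hK.sup_eq_top, ← MonoidHom.range_eq_map, Subgroup.range_subtype]

end Cfsg.Agent.S0125
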