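import Cfsg.Statements.S0129
import Cfsg.Agent.H6.NormalAbelian
-- import your own Cfsg.Agent.* helpers here

set_option autoImplicit false
open Cfsg

namespace Cfsg.Agent.S0129

/-- The order of a p-group is bounded by p^(a(a+1)/2) when it has a maximal normal abelian subgroup of order p^a. -/
theorem result {G : Type*} [Group G] [Finite G] {p : ℕ} [Fact p.Prime] (hG : IsPGroup p G) (A : Subgroup G) [A.Normal] (hA : IsMulCommutative A) (hmax : ∀ B : Subgroup G, B.Normal → IsMulCommutative B → A ≤ B → B = A) (a : ℕ) (ha : Nat.card A = p ^ a) : Nat.card G ≤ p ^ (a * (a + 1) / 2) := by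
  have hC : Subgroup.centralizer (A : Set G) = A :=
    H6.centralizer_eq_of_maximal_normal_abelian hG hA hmax
  have h := H6.index_centralizer_normal_le hG a A inferInstance ha
  rw [hC] at h
  rw [← A.card_mul_index, ha]
  refine (Nat.mul_le_mul_left _ h).trans (le_of_eq ?_)
  rw [← pow_add]
  congr 1
  rcases a with _ | a
  · simp
  · have : (a + 1) * (a + 1 + 1) = (a + 1) * (a + 1 - 1) + (a + 1) * 2 := by
      simp only [Nat.add_sub_cancel]; ring
    rw [this, Nat.add_mul_div_right _ _ (by norm_num : 0 < 2)]
    omega

end Cfsg.Agent.S0129
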