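import Cfsg.Statements.S0131
-- import your own Cfsg.Agent.* helpers here

set_option autoImplicit false
open Cfsg
open scoped commutatorElement

namespace Cfsg.Agent.S0131

/-- P/P' has a normal complement in G exactly when the focal subgroup G' ∩ P is as small as possible, namely P'. -/
theorem result {G : Type*} [Group G] [Finite G] {p : ℕ} [Fact p.Prime] (P : Sylow p G) : (∃ N : Subgroup G, N.Normal ∧ N ⊓ (P : Subgroup G) = ⁅(P : Subgroup G), (P : Subgroup G)⁆ ∧ N ⊔ (P : Subgroup G) = ⊤) ↔ commutator G ⊓ (P : Subgroup G) = ⁅(P : Subgroup G), (P : Subgroup G)⁆ := by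
  constructor
  · rintro ⟨N, hN, hNP, hsup⟩
    haveI := hN
    refine le_antisymm ?_ ?_
    · have hsurj : Function.Surjective ((QuotientGroup.mk' N).comp (P : Subgroup G).subtype) := by
        intro q
        obtain ⟨g, rfl⟩ := QuotientGroup.mk_surjective q
        have hg : g ∈ ((N ⊔ (P : Subgroup G) : Subgroup G) : Set G) := by rw [hsup]; exact Subgroup.mem_top g
        rw [Subgroup.normal_mul] at hg
        obtain ⟨x, hx, y, hy, rfl⟩ := hg
        refine ⟨⟨y, hy⟩, ?_⟩
        show (y : G ⧸ N) = ((x * y : G) : G ⧸ N)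
        rw [QuotientGroup.mk_mul, (QuotientGroup.eq_one_iff x).mpr hx, one_mul]
      haveI : IsMulCommutative (G ⧸ N) := by
        refine ⟨⟨fun u v => ?_⟩⟩
        obtain ⟨a, rfl⟩ := hsurj u
        obtain ⟨b, rfl⟩ := hsurj v
        rw [← commutatorElement_eq_one_iff_mul_comm, ← map_commutatorElement]
        show QuotientGroup.mk' N _ = 1
        rw [QuotientGroup.mk'_apply, QuotientGroup.eq_one_iff]
        have : ((⁅a, b⁆ : (P : Subgroup G)) : G) ∈ ⁅(P : Subgroup G), (P : Subgroup G)⁆ :=
          Subgroup.commutator_mem_commutator a.2 b.2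
        rw [← hNP] at this
        exact this.1
      rw [← hNP]
      exact inf_le_inf_right _ (Subgroup.Normal.quotient_commutative_iff_commutator_le.mp inferInstance)
    · exact le_inf (Subgroup.commutator_mono le_top le_top) (Subgroup.commutator_le.mpr fun a ha b hb =>
        mul_mem (mul_mem (mul_mem ha hb) (inv_mem ha)) (inv_mem hb))
  · intro h
    refine ⟨P.transferFocal.ker, inferInstance, ?_, ?_⟩
    · rw [Subgroup.ker_transferFocal_inf_eq_focalSubgroup, ← Subgroup.commutator_inf_eq_focalSubgroup, h]
    · rw [eq_top_iff]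
      intro g _
      obtain ⟨y, hy⟩ := Subgroup.focalSubgroupOf.pow_index_surjective P (P.transferFocal g)
      obtain ⟨x, rfl⟩ := QuotientGroup.mk_surjective y
      have hx : P.transferFocal (x : G) = P.transferFocal g := (Subgroup.transferFocal_eq_pow _ x).trans hy
      have h1 : g * (x : G)⁻¹ ∈ P.transferFocal.ker := by
        rw [MonoidHom.mem_ker, map_mul, map_inv, hx, mul_inv_cancel]
      have := Subgroup.mul_mem_sup h1 x.2
      rwa [inv_mul_cancel_right] at this

end Cfsg.Agent.S0131
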