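import Cfsg.Statements.S0138
import Cfsg.Agent.H12.Basic

set_option autoImplicit false
open Cfsg

namespace Cfsg.Agent.S0138

/-- A character value has absolute value equal to the degree exactly when the group element acts by a scalar. -/
theorem result {G : Type*} [Group G] [Finite G] {V : Type*} [AddCommGroup V] [Module ℂ V] [FiniteDimensional ℂ V] (ρ : Representation ℂ G V) (g : G) : ‖ρ.character g‖ = (Module.finrank ℂ V : ℝ) ↔ ∃ ω : ℂ, ρ g = ω • (LinearMap.id : V →ₗ[ℂ] V) := by
  constructor
  · intro h
    obtain ⟨μ, h1, h2, h3⟩ := H12.exists_char_eigenvalues ρ g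
    have hn := fun i => H12.norm_eq_one_of_pow_eq_one (orderOf_pos g).ne' (h1 i)
    have hg1 : ρ.character g = ∑ i, μ i := by simpa using h2 1
    by_cases h0 : ρ.character g = 0
    · have hd : Module.finrank ℂ V = 0 := by
        rw [h0, norm_zero] at h; exact_mod_cast h.symm
      exact ⟨1, h3 1 fun i => absurd i.2 (by omega)⟩
    · let ω : ℂ := ρ.character g / (‖ρ.character g‖ : ℂ)
      have hω : ‖ω‖ = 1 := by simp [ω, h0]
      refine ⟨ω, h3 ω fun i => ?_⟩
      have hsum : ∑ j, (starRingEnd ℂ ω * μ j).re = ∑ _j : Fin (Module.finrank ℂ V), (1 : ℝ) := by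
        rw [← Complex.re_sum, ← Finset.mul_sum, ← hg1]
        have : starRingEnd ℂ ω * ρ.character g = (‖ρ.character g‖ : ℂ) := by
          simp only [ω, map_div₀, Complex.conj_ofReal]
          rw [div_mul_eq_mul_div, Complex.conj_mul', sq, mul_div_assoc,
            div_self (by simpa using h0), mul_one]
        rw [this, h]
        simp
      have hle : ∀ j ∈ (Finset.univ : Finset (Fin (Module.finrank ℂ V))),
          (starRingEnd ℂ ω * μ j).re ≤ 1 := fun j _ =>
        (Complex.re_le_norm _).trans (by simp [hω, hn j])
      have hr := (Finset.sum_eq_sum_iff_of_le hle).1 hsum i (Finset.mem_univ i)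
      have hz : starRingEnd ℂ ω * μ i = 1 := by
        apply Complex.ext
        · simpa using hr
        · have hn' : ‖starRingEnd ℂ ω * μ i‖ = 1 := by simp [hω, hn i]
          have h' := Complex.sq_norm (starRingEnd ℂ ω * μ i)
          rw [hn', Complex.normSq_apply, hr] at h'
          simp only [Complex.one_im]
          nlinarith
      rw [← Complex.inv_eq_conj hω] at hz
      have hω0 : ω ≠ 0 := fun hh => by simp [hh] at hω
      field_simp at hz
      exact hz
  · rintro ⟨ω, hω⟩
    by_cases hd : Module.finrank ℂ V = 0
    · rw [hd]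
      have := H12.norm_character_le ρ g
      rw [hd] at this
      simpa using le_antisymm this (by simp)
    obtain ⟨μ, h1, h2, -⟩ := H12.exists_char_eigenvalues ρ g
    have hpow : ρ g ^ orderOf g = 1 := H12.rep_pow_orderOf ρ g
    have hωn : ω ^ orderOf g = 1 := by
      have : Nontrivial V := Module.nontrivial_of_finrank_pos (Nat.pos_of_ne_zero hd)
      obtain ⟨v, hv⟩ := exists_ne (0 : V)
      have h := congrArg (fun T : Module.End ℂ V => T v) hpow
      rw [hω, ← Module.End.one_eq_id, smul_pow, one_pow] at h
      exact smul_left_injective ℂ hv (by simpa using h)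
    have : ρ.character g = ω * (Module.finrank ℂ V : ℂ) := by
      simp [Representation.character, hω]
    rw [this, norm_mul, H12.norm_eq_one_of_pow_eq_one (orderOf_pos g).ne' hωn]
    simp

end Cfsg.Agent.S0138
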