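import Cfsg.Statements.S0149
import Cfsg.Agent.H12.Induction

set_option autoImplicit false
open Cfsg

namespace Cfsg.Agent.S0149

/-- Let T be a subset of G meeting each of its conjugates by elements outside its normalizer N only in the identity, and let ψ be a class function of N vanishing on N away from T. Then the function induced from ψ agrees with ψ at every non-identity element of T. -/
theorem result {G : Type*} [Group G] [Fintype G] (T : Set G) (hTI : ∀ g : G, g ∉ Subgroup.normalizer T → ∀ t ∈ T, g * t * g⁻¹ ∈ T → t = 1) (hTN : T ⊆ Subgroup.normalizer T) (ψ : Subgroup.normalizer T → ℂ) (hψ : Cfsg.IsClassFunction (Subgroup.normalizer T) ψ) (hψT : ∀ x : Subgroup.normalizer T, (x : G) ∉ T → ψ x = 0) (t : Subgroup.normalizer T) (htT : (t : G) ∈ T) (ht1 : t ≠ 1) : Cfsg.indFun (Subgroup.normalizer T) ψ t = ψ t := by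
  classical
  have hcalc : ∀ x : G, Cfsg.extendByZero (Subgroup.normalizer T) ψ (x⁻¹ * (t : G) * x) =
      if x ∈ Subgroup.normalizer T then ψ t else 0 := by
    intro x
    split_ifs with hx
    · rw [show x⁻¹ * (t : G) * x =
        ((⟨x, hx⟩⁻¹ * t * ⟨x, hx⟩ : Subgroup.normalizer T) : G) from rfl,
        H12.extendByZero_coe]
      have h := hψ t (⟨x, hx⟩ : Subgroup.normalizer T)⁻¹
      rwa [inv_inv] at h
    · by_cases hm : x⁻¹ * (t : G) * x ∈ Subgroup.normalizer T
      · rw [H12.extendByZero_mk _ _ hm]
        by_cases hT : x⁻¹ * (t : G) * x ∈ T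
        · exact absurd (Subtype.ext (hTI x⁻¹ (fun h => hx (by simpa using inv_mem h)) t htT
            (by simpa using hT))) ht1
        · exact hψT _ hT
      · exact H12.extendByZero_of_notMem _ _ hm
  rw [H12.indFun_apply]
  simp only [hcalc, Finset.sum_ite, Finset.sum_const_zero, add_zero, Finset.sum_const,
    nsmul_eq_mul]
  rw [← Fintype.card_subtype, ← Nat.card_eq_fintype_card, ← mul_assoc,
    inv_mul_cancel₀ (by exact_mod_cast Nat.card_pos.ne'), one_mul]

end Cfsg.Agent.S0149
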