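import Cfsg.Statements.S0155
import Cfsg.Agent.H12.Orth

set_option autoImplicit false
open Cfsg

namespace Cfsg.Agent.S0155

/-- The character of the left regular representation of a finite group takes the value |G| at the identity and 0 at every other element. -/
theorem result {G : Type*} [Group G] [Fintype G] [DecidableEq G] (g : G) : (Representation.leftRegular ℂ G).character g = if g = 1 then (Nat.card G : ℂ) else 0 := by
  rw [Representation.character,
    LinearMap.trace_eq_matrix_trace ℂ (Module.Basis.ofRepr (MonoidAlgebra.coeffLinearEquiv ℂ)),
    Matrix.trace]
  have key : ∀ x : G, (LinearMap.toMatrix (Module.Basis.ofRepr (MonoidAlgebra.coeffLinearEquiv ℂ))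
      (Module.Basis.ofRepr (MonoidAlgebra.coeffLinearEquiv ℂ))
      (Representation.leftRegular ℂ G g)).diag x = if g = 1 then 1 else 0 := by
    intro x
    simp [LinearMap.toMatrix_apply, Representation.ofMulAction_single, Finsupp.single_apply]
  simp only [key]
  split_ifs <;> simp [Nat.card_eq_fintype_card]

end Cfsg.Agent.S0155
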