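import Cfsg.Statements.S0157
import Cfsg.Agent.H12.Induction
import Cfsg.Agent.H14.Basic

set_option autoImplicit false
open Cfsg

namespace Cfsg.Agent.S0157

/-- For a transitive action of a finite group on a finite set with at least two points: the action is 2-transitive if and only if the function sending g to (number of fixed points of g) − 1 is an irreducible character. -/
theorem result {G : Type*} [Group G] [Finite G] (X : Type*) [MulAction G X] [Finite X] [MulAction.IsPretransitive G X] (hX : 2 ≤ Nat.card X) : Cfsg.IsIrrCharacter G (fun g => (Nat.card (MulAction.fixedBy X g) : ℂ) - 1) ↔ MulAction.IsMultiplyPretransitive G X 2 := by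
  classical
  have : Fintype G := Fintype.ofFinite G
  have : Fintype X := Fintype.ofFinite X
  have hne : Nonempty X := (Nat.card_pos_iff.1 (by omega)).1
  obtain ⟨x⟩ := hne
  let H := MulAction.stabilizer G x
  have : Fintype H := Fintype.ofFinite H
  have : Fintype (Quotient (MulAction.orbitRel H X)) := Fintype.ofFinite _
  let π : G → ℂ := fun g => (Nat.card (MulAction.fixedBy X g) : ℂ)
  have hπ : π = Cfsg.indFun H (fun _ => 1) := by
    funext g
    rw [H14.indFun_stabilizer_one]
    refine congrArg Nat.cast (Nat.card_congr ?_)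
    exact
      { toFun := fun y => ⟨⟨y.1, MulAction.mem_orbit_iff.2 (MulAction.exists_smul_eq G x y.1)⟩, y.2⟩
        invFun := fun y => ⟨y.1.1, y.2⟩
        left_inv := fun y => rfl
        right_inv := fun y => rfl }
  have hπchar : Cfsg.IsCharacter G π := by
    rw [hπ]
    exact H12.IsCharacter.indFun H12.isCharacter_one
  have hπcl := H12.IsCharacter.isClassFunction hπchar
  let one : G → ℂ := (H12.oneIrr G : G → ℂ)
  have h1 : Cfsg.classInner π one = 1 := by
    rw [hπ, H12.classInner_indFun H _ (H12.irr_isClassFunction _)]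
    exact H12.classInner_irr_self (H12.oneIrr H)
  have hr : Cfsg.classInner π π = (Nat.card (Quotient (MulAction.orbitRel H X)) : ℂ) := by
    have e : Cfsg.classInner π π = Cfsg.classInner (fun _ : H => (1 : ℂ)) (fun h : H => π h) := by
      conv_lhs => arg 1; rw [hπ]
      exact H12.classInner_indFun H _ hπcl
    rw [e, H12.classInner_def]
    simp only [π, one_mul, Complex.conj_natCast]
    rw [← Nat.cast_sum]
    have hb : (∑ h : H, Nat.card (MulAction.fixedBy X (h : G))) =
        Nat.card (Quotient (MulAction.orbitRel H X)) * Nat.card H := by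
      rw [Nat.card_eq_fintype_card, Nat.card_eq_fintype_card,
        ← MulAction.sum_card_fixedBy_eq_card_orbits_mul_card_group H X]
      refine Finset.sum_congr rfl fun h _ => ?_
      rw [Nat.card_eq_fintype_card]
      exact Fintype.card_congr (Equiv.refl _)
    rw [hb, Nat.cast_mul, mul_comm, mul_assoc, mul_inv_cancel₀ H12.card_ne_zero', mul_one]
  have hfun : (fun g => (Nat.card (MulAction.fixedBy X g) : ℂ) - 1) = π - one := rfl
  have hnorm : Cfsg.classInner (π - one) (π - one) =
      (Nat.card (Quotient (MulAction.orbitRel H X)) : ℂ) - 1 := by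
    have h1' : Cfsg.classInner one π = 1 := by
      rw [← H12.conj_classInner, h1, map_one]
    rw [H12.classInner_sub_left, H12.classInner_sub_right, H12.classInner_sub_right, hr, h1, h1',
      H12.classInner_irr_self]
    ring
  have hchar : Cfsg.IsCharacter G (π - one) := by
    refine H12.isCharacter_iff.2 ⟨H12.IsClassFunction.sub hπcl (H12.irr_isClassFunction _),
      fun χ => ?_⟩
    rw [H12.classInner_sub_left]
    by_cases hχ : χ = H12.oneIrr G
    · exact ⟨0, by rw [hχ, h1, H12.classInner_irr_self]; simp⟩
    · obtain ⟨k, hk⟩ := H12.IsCharacter.classInner_nat hπchar (H12.isCharacter_irr χ)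
      exact ⟨k, by rw [hk, H12.classInner_irr_ne (Ne.symm hχ), sub_zero]⟩
  rw [hfun]
  have htwo : Cfsg.IsIrrCharacter G (π - one) ↔
      Nat.card (Quotient (MulAction.orbitRel H X)) = 2 := by
    constructor
    · intro h
      have h2 := H12.classInner_irr_self (⟨_, h⟩ : Cfsg.IrrCharacter G)
      rw [hnorm] at h2
      have h3 : (Nat.card (Quotient (MulAction.orbitRel H X)) : ℂ) = ((2 : ℕ) : ℂ) := by
        push_cast; linear_combination h2
      exact_mod_cast h3
    · intro h
      refine H12.isIrrCharacter_of_classInner_self_eq_one hchar ?_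
      rw [hnorm, h]
      norm_num
  rw [htwo, MulAction.is_two_pretransitive_iff]
  let cl : X → Quotient (MulAction.orbitRel H X) := fun y => Quotient.mk _ y
  have hcl : ∀ y z, cl y = cl z ↔ ∃ h : H, (h : G) • z = y := by
    intro y z
    rw [Quotient.eq, MulAction.orbitRel_apply, MulAction.mem_orbit_iff]
    rfl
  have hclx : ∀ y, cl y = cl x → y = x := by
    intro y hy
    obtain ⟨h, hh⟩ := (hcl y x).1 hy
    rw [← hh]
    exact h.2
  obtain ⟨x', hx'⟩ : ∃ x' : X, x' ≠ x := by
    have : Nontrivial X := (Finite.one_lt_card_iff_nontrivial (α := X)).1 (by omega)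
    exact exists_ne x
  constructor
  · intro hcard a b c d hab hcd
    obtain ⟨g₁, rfl⟩ := MulAction.exists_smul_eq G x a
    obtain ⟨g₂, rfl⟩ := MulAction.exists_smul_eq G x c
    have hb : g₁⁻¹ • b ≠ x := fun h => hab (by rw [← h, smul_inv_smul])
    have hd : g₂⁻¹ • d ≠ x := fun h => hcd (by rw [← h, smul_inv_smul])
    have key : ∀ y, y ≠ x → cl y = cl x' := by
      intro y hy
      obtain ⟨u, v, huv, huniv⟩ := Nat.card_eq_two_iff.1 hcard
      have hmem : ∀ q, q = u ∨ q = v := fun q => by
        have := Set.eq_univ_iff_forall.1 huniv q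
        simpa using this
      have n1 : cl y ≠ cl x := fun h => hy (hclx y h)
      have n2 : cl x' ≠ cl x := fun h => hx' (hclx x' h)
      rcases hmem (cl y) with e1 | e1 <;> rcases hmem (cl x') with e2 | e2 <;>
        rcases hmem (cl x) with e3 | e3 <;> simp_all
    obtain ⟨h, hh⟩ := (hcl _ _).1 ((key _ hd).trans (key _ hb).symm)
    refine ⟨g₂ * h * g₁⁻¹, ?_, ?_⟩
    · rw [mul_smul, inv_smul_smul, mul_smul, (MulAction.mem_stabilizer_iff.1 h.2)]
    · rw [mul_smul, mul_smul, hh, smul_inv_smul]
  · intro htr
    refine Nat.card_eq_two_iff.2 ⟨cl x, cl x', fun h => hx' (hclx x' h.symm), ?_⟩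
    refine Set.eq_univ_iff_forall.2 fun q => ?_
    induction q using Quotient.inductionOn with
    | _ y =>
      by_cases hy : y = x
      · left; rw [hy]
      · right
        obtain ⟨g, hg1, hg2⟩ := htr (Ne.symm hx') (Ne.symm hy)
        exact (hcl y x').2 ⟨⟨g, hg1⟩, hg2⟩

end Cfsg.Agent.S0157
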