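import Cfsg.Statements.S0160
import Cfsg.Agent.H13.PermutationLemma

set_option autoImplicit false
open Cfsg

namespace Cfsg.Agent.S0160

/-- A finite group has as many real-valued irreducible complex characters as conjugacy classes closed under taking inverses. -/
theorem result {G : Type*} [Group G] [Finite G] : Nat.card {χ : Cfsg.IrrCharacter G // ∀ g : G, ((χ : G → ℂ) g).im = 0} = Nat.card {C : ConjClasses G // ∀ g : G, ConjClasses.mk g = C → IsConj g g⁻¹} := by
  have : Fintype G := Fintype.ofFinite G
  have hfix := H13.card_fixed_irr_eq (fun g : G => g⁻¹)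
    (fun a b h => by
      obtain ⟨c, rfl⟩ := isConj_iff.1 h
      exact isConj_iff.2 ⟨c, by group⟩)
    (fun χ => by
      have : ((χ : G → ℂ) ∘ fun g : G => g⁻¹) = fun g => starRingEnd ℂ ((χ : G → ℂ) g) :=
        funext fun g => H12.irr_inv χ g
      rw [this]; exact H12.isIrrCharacter_conj χ.2)
  rw [Nat.card_congr (Equiv.subtypeEquivRight fun χ : Cfsg.IrrCharacter G => ?_), hfix,
    Nat.card_congr (Equiv.subtypeEquivRight fun C : ConjClasses G => ?_)]
  · constructor
    · intro h g hg
      have hgc : IsConj g (H13.classRep C) :=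
        ConjClasses.mk_eq_mk_iff_isConj.1 (hg.trans (H13.mk_classRep C).symm)
      obtain ⟨c, hc⟩ := isConj_iff.1 hgc
      have hinv : IsConj g⁻¹ (H13.classRep C)⁻¹ := isConj_iff.2 ⟨c, by rw [← hc]; group⟩
      exact ((hinv.trans h).trans hgc.symm).symm
    · intro h
      exact (h _ (H13.mk_classRep C)).symm
  · constructor
    · intro h
      funext g
      rw [Function.comp_apply, H12.irr_inv]
      exact Complex.conj_eq_iff_im.2 (h g)
    · intro h g
      apply Complex.conj_eq_iff_im.1
      rw [← H12.irr_inv]
      exact congrFun h g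

end Cfsg.Agent.S0160
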