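import Cfsg.Statements.S0162
import Cfsg.Agent.H13.PermutationLemma
import Cfsg.Agent.H12.Integral

set_option autoImplicit false
open Cfsg

namespace Cfsg.Agent.S0162

/-- If a finite group has odd order, its order is congruent to its number of conjugacy classes modulo 16. -/
theorem result {G : Type*} [Group G] [Finite G] (hodd : Odd (Nat.card G)) : Nat.card G ≡ Nat.card (ConjClasses G) [MOD 16] := by
  classical
  have : Fintype G := Fintype.ofFinite G
  have h8 : ∀ χ : Cfsg.IrrCharacter G,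
      (8 : ℕ) ∣ H12.degree (χ : G → ℂ) ^ 2 - 1 := by
    intro χ
    obtain ⟨k, hk⟩ := Odd.of_dvd_nat hodd (H12.irr_degree_dvd_card χ)
    rw [hk]
    obtain ⟨m, hm⟩ := Nat.even_mul_succ_self k
    refine ⟨m, ?_⟩
    have : (2 * k + 1) ^ 2 = 4 * (k * (k + 1)) + 1 := by ring
    omega
  have hzero : ∑ χ : Cfsg.IrrCharacter G,
      (((H12.degree (χ : G → ℂ) ^ 2 - 1 : ℕ) : ZMod 16)) = 0 := by
    refine Finset.sum_involution (fun χ _ => H12.conjIrr χ) (fun χ _ => ?_) (fun χ _ hne => ?_)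
      (fun χ _ => Finset.mem_univ _) (fun χ _ => H12.conjIrr_conjIrr χ)
    · have hd : H12.degree (H12.conjIrr χ : G → ℂ) = H12.degree (χ : G → ℂ) := by
        simp [H12.degree, H12.conjIrr_apply]
      obtain ⟨m, hm⟩ := h8 χ
      rw [hd, hm, ← Nat.cast_add, ZMod.natCast_eq_zero_iff]
      exact ⟨m, by ring⟩
    · intro heq
      apply hne
      have h1 : (χ : G → ℂ) = fun _ => 1 :=
        H13.eq_one_of_real_of_odd hodd χ.2 fun g => by
          rw [← H12.conjIrr_apply, heq]
      simp [H12.degree, h1]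
  rw [← ZMod.natCast_eq_natCast_iff, ← H12.card_irrCharacter, ← H12.sum_degree_sq_nat (G := G),
    Nat.cast_sum]
  have hsplit : ∀ χ : Cfsg.IrrCharacter G, ((H12.degree (χ : G → ℂ) ^ 2 : ℕ) : ZMod 16) =
      ((H12.degree (χ : G → ℂ) ^ 2 - 1 : ℕ) : ZMod 16) + 1 := by
    intro χ
    have := H12.irr_degree_pos χ
    have hpos : 0 < H12.degree (χ : G → ℂ) ^ 2 := by positivity
    conv_lhs => rw [show H12.degree (χ : G → ℂ) ^ 2 = (H12.degree (χ : G → ℂ) ^ 2 - 1) + 1 by omega]
    rw [Nat.cast_add, Nat.cast_one]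
  simp only [hsplit, Finset.sum_add_distrib, hzero, zero_add, Finset.sum_const, Finset.card_univ,
    nsmul_eq_mul, mul_one, Nat.card_eq_fintype_card]

end Cfsg.Agent.S0162
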