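import Cfsg.Statements.S0163
import Cfsg.Agent.H12.Monomial
import Cfsg.Agent.H14.BrauerInduction

set_option autoImplicit false
open Cfsg

namespace Cfsg.Agent.S0163

/-- Brauer's induction Theorem: every character of a finite group is a ℤ-linear combination of functions induced from linear characters (homomorphisms to ℂˣ) of elementary subgroups. -/
theorem result {G : Type*} [Group G] [Fintype G] (χ : G → ℂ) (hχ : Cfsg.IsCharacter G χ) : ∃ l : List ((E : Subgroup G) × ((E →* ℂˣ) × ℤ)), (∀ t ∈ l, ∃ p : ℕ, p.Prime ∧ Cfsg.IsElementary p t.1) ∧ χ = (l.map fun t => (t.2.2 : ℂ) • Cfsg.indFun t.1 (fun e => (t.2.1 e : ℂ))).sum := by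
  classical
  let S : Set (G → ℂ) := {f | ∃ (E : Subgroup G) (ν : E →* ℂˣ),
    (∃ p : ℕ, p.Prime ∧ Cfsg.IsElementary p E) ∧ f = Cfsg.indFun E (fun e => (ν e : ℂ))}
  have h1 : χ ∈ AddSubgroup.closure S := by
    have hone := H14.brauer_one (G := G)
    have key : ∀ f ∈ H14.elemLinearAll (G := G), χ * f ∈ AddSubgroup.closure S := by
      intro f hf
      induction hf using AddSubgroup.closure_induction with
      | mem x hx =>
        obtain ⟨E, ν, ⟨p, hp, hE⟩, rfl⟩ := hx
        have : Fintype E := Fintype.ofFinite E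
        have : Group.IsNilpotent E := H12.IsElementary.isNilpotent hp hE
        have hcl := H12.IsCharacter.isClassFunction hχ
        rw [H14.mul_indFun E _ χ hcl]
        obtain ⟨m, hm⟩ := H12.IsCharacter.exists_mult (G := E)
          (H12.IsCharacter.mul (H12.IsCharacter.res hχ E) (H12.isCharacter_monoidHom ν))
        have e : (fun x : E => χ x * (ν x : ℂ)) = ∑ θ, (m θ : ℂ) • (θ : E → ℂ) := hm
        rw [e, H12.indFun_sum]
        refine AddSubgroup.sum_mem _ fun θ _ => ?_
        rw [H12.indFun_smul, Nat.cast_smul_eq_nsmul]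
        refine AddSubgroup.nsmul_mem _ ?_ _
        obtain ⟨H, μ, hμ⟩ := H12.nilpotent_monomial E θ
        rw [← hμ, H12.indFun_map_subtype]
        refine AddSubgroup.subset_closure ⟨H.map E.subtype,
          μ.comp (H.equivMapOfInjective E.subtype E.subtype_injective).symm.toMonoidHom,
          ⟨p, hp, ?_⟩, rfl⟩
        exact H12.IsElementary.of_injective hp hE
          (Subgroup.inclusion (Subgroup.map_subtype_le H)) (Subgroup.inclusion_injective _)
      | zero => rw [mul_zero]; exact AddSubgroup.zero_mem _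
      | add x y _ _ hx hy => rw [mul_add]; exact AddSubgroup.add_mem _ hx hy
      | neg x _ hx => rw [mul_neg]; exact AddSubgroup.neg_mem _ hx
    have := key _ hone
    simpa [Pi.mul_def] using this
  clear hχ
  induction h1 using AddSubgroup.closure_induction with
  | mem x hx =>
    obtain ⟨E, ν, hE, rfl⟩ := hx
    exact ⟨[⟨E, ν, 1⟩], by simpa using hE, by simp⟩
  | zero => exact ⟨[], by simp, by simp⟩
  | add x y _ _ hx hy =>
    obtain ⟨l, hl, rfl⟩ := hx
    obtain ⟨l', hl', rfl⟩ := hy
    refine ⟨l ++ l', fun t ht => ?_, by rw [List.map_append, List.sum_append]⟩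
    rcases List.mem_append.1 ht with ht | ht
    exacts [hl t ht, hl' t ht]
  | neg x hxS hx =>
    obtain ⟨l, hl, rfl⟩ := hx
    refine ⟨l.map (fun t => ⟨t.1, t.2.1, -t.2.2⟩), fun t ht => ?_, ?_⟩
    · obtain ⟨t', ht', rfl⟩ := List.mem_map.1 ht
      exact hl t' ht'
    · clear hl hxS
      rw [List.map_map]
      induction l with
      | nil => simp
      | cons a l ih =>
        rw [List.map_cons, List.sum_cons, List.map_cons, List.sum_cons, neg_add, ih]
        congr 1
        simp

end Cfsg.Agent.S0163
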