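import Cfsg.Statements.S0166
import Cfsg.Agent.H12.Splitting

set_option autoImplicit false
open Cfsg

namespace Cfsg.Agent.S0166

/-- Brauer's splitting field Theorem: a complex representation of a finite group of exponent m is equivalent to a representation by matrices with entries in ℚ adjoined exp(2πi/m). -/
theorem result {G : Type*} [Group G] [Finite G] (n : ℕ) (ρ : Representation ℂ G (Fin n → ℂ)) : ∃ σ : Representation ℂ G (Fin n → ℂ), Nonempty (ρ.Equiv σ) ∧ ∀ g : G, ∀ i j : Fin n, LinearMap.toMatrix' (σ g) i j ∈ Algebra.adjoin ℚ ({Complex.exp (2 * Real.pi * Complex.I / (Monoid.exponent G : ℂ))} : Set ℂ) := by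
  classical
  have : Fintype G := Fintype.ofFinite G
  set m := Monoid.exponent G with hm
  have hm0 : m ≠ 0 := Monoid.exponent_ne_zero_of_finite
  have : NeZero m := ⟨hm0⟩
  set ζ : ℂ := Complex.exp (2 * Real.pi * Complex.I / (m : ℂ)) with hζdef
  have hζ : IsPrimitiveRoot ζ m := Complex.isPrimitiveRoot_exp m hm0
  let K : IntermediateField ℚ ℂ := IntermediateField.adjoin ℚ ({ζ} : Set ℂ)
  have halg : IsAlgebraic ℚ ζ := ((hζ.isIntegral (Nat.pos_of_ne_zero hm0)).tower_top).isAlgebraic
  have hK : ∀ a : K, (a : ℂ) ∈ Algebra.adjoin ℚ ({ζ} : Set ℂ) := by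
    intro a
    rw [← IntermediateField.adjoin_simple_toSubalgebra_of_isAlgebraic halg]
    exact a.2
  have hroot : ∀ z : ℂ, z ^ m = 1 → ∃ a : K, K.val.toRingHom a = z := by
    intro z hz
    obtain ⟨i, -, rfl⟩ := hζ.eq_pow_of_pow_eq_one hz
    exact ⟨⟨ζ, IntermediateField.subset_adjoin ℚ _ rfl⟩ ^ i, by simp⟩
  obtain ⟨d, X, hX⟩ := H12.realizableOver_of_character K.val.toRingHom ⟨n, ρ, rfl⟩ hroot
  have hd : d = n := by
    have h1 := hX 1
    simp only [Representation.char_one, Module.finrank_fin_fun, map_natCast] at h1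
    exact_mod_cast h1.symm
  subst hd
  refine ⟨H12.scalarExt K.val.toRingHom X, H12.nonempty_equiv_of_character_eq ρ _
    (funext fun g => (hX g).trans (H12.scalarExt_character _ X g).symm), fun g i j => ?_⟩
  rw [H12.toMatrix'_scalarExt, Matrix.map_apply]
  exact hK _

end Cfsg.Agent.S0166
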