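import Cfsg.Statements.S0167
import Cfsg.Agent.H12.Products

set_option autoImplicit false
open Cfsg

namespace Cfsg.Agent.S0167

/-- An element g of a finite group is a commutator if and only if the sum over the irreducible characters χ of χ g / χ 1 is nonzero. -/
theorem result {G : Type*} [Group G] [Finite G] (g : G) : (∃ a b : G, g = a * b * a⁻¹ * b⁻¹) ↔ ∑ᶠ χ : Cfsg.IrrCharacter G, (χ : G → ℂ) g / (χ : G → ℂ) 1 ≠ 0 := by
  classical
  have : Fintype G := Fintype.ofFinite G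
  rw [finsum_eq_sum_of_fintype]
  let N : G → ℕ := fun a =>
    if IsConj a⁻¹ (a⁻¹ * g) then Nat.card (Subgroup.centralizer ({a⁻¹} : Set G)) else 0
  have hcomm : (∃ a b : G, g = a * b * a⁻¹ * b⁻¹) ↔ ∃ a : G, N a ≠ 0 := by
    constructor
    · rintro ⟨a, b, rfl⟩
      refine ⟨a, ?_⟩
      simp only [N]
      rw [if_pos (isConj_iff.2 ⟨b, by group⟩)]
      exact Nat.card_pos.ne'
    · rintro ⟨a, ha⟩
      by_cases hc : IsConj a⁻¹ (a⁻¹ * g)
      · obtain ⟨b, hb⟩ := isConj_iff.1 hc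
        exact ⟨a, b, by rw [eq_inv_mul_iff_mul_eq] at hb; rw [← hb]; group⟩
      · exact absurd (if_neg hc) ha
  have hsum : ((∑ a, N a : ℕ) : ℂ) =
      starRingEnd ℂ ((Nat.card G : ℂ) * ∑ χ : Cfsg.IrrCharacter G, (χ : G → ℂ) g / (χ : G → ℂ) 1) := by
    rw [Finset.mul_sum, map_sum, Nat.cast_sum]
    have hN : ∀ a : G, (N a : ℂ) =
        ∑ χ : Cfsg.IrrCharacter G, (χ : G → ℂ) a⁻¹ * starRingEnd ℂ ((χ : G → ℂ) (a⁻¹ * g)) := by
      intro a
      rw [H12.column_orthogonality]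
      simp only [N, Nat.cast_ite, Nat.cast_zero]
    simp only [hN]
    rw [Finset.sum_comm]
    refine Finset.sum_congr rfl fun χ _ => ?_
    rw [← mul_div_assoc, ← H12.irr_convolution χ g, map_sum]
    refine Fintype.sum_equiv (Equiv.inv G) _ _ fun a => ?_
    simp only [Equiv.inv_apply, map_mul, Complex.conj_conj]
    rw [H12.IsClassFunction.of_isConj (H12.irr_isClassFunction χ)
      (isConj_iff.2 ⟨a, by group⟩ : IsConj (a⁻¹ * g) (g * a⁻¹)), mul_comm]
  rw [hcomm]
  constructor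
  · rintro ⟨a, ha⟩ h0
    rw [h0, mul_zero, map_zero] at hsum
    exact ha ((Finset.sum_eq_zero_iff.1 (Nat.cast_eq_zero.1 hsum)) a (Finset.mem_univ a))
  · intro hne
    by_contra hcon
    push_neg at hcon
    simp only [hcon, Finset.sum_const_zero, Nat.cast_zero] at hsum
    rw [eq_comm, map_eq_zero, mul_eq_zero] at hsum
    exact hne (hsum.resolve_left H12.card_ne_zero')

end Cfsg.Agent.S0167
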