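import Cfsg.Statements.S0170
import Cfsg.Agent.S0150
import Cfsg.Agent.H16.TypeP

set_option autoImplicit false
open Cfsg

namespace Cfsg.Agent.S0170

/-- Exceptional characters. Let S be a subset of a finite group contained in its normalizer N and meeting its conjugates by elements outside N only in the identity. Given n ≥ 2 distinct irreducible characters of N of equal degree that vanish on N away from S, there exist a sign ε and n distinct irreducible characters θ_i of G such that inducing χ_i − χ_j to G gives ε (θ_i − θ_j) for all i, j. -/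
theorem result {G : Type*} [Group G] [Fintype G] (S : Set G) (hSN : S ⊆ Subgroup.normalizer S) (hTI : ∀ g : G, g ∉ Subgroup.normalizer S → ∀ s ∈ S, g * s * g⁻¹ ∈ S → s = 1) (n : ℕ) (hn : 2 ≤ n) (χ : Fin n → (Subgroup.normalizer S → ℂ)) (hirr : ∀ i, Cfsg.IsIrrCharacter (Subgroup.normalizer S) (χ i)) (hinj : Function.Injective χ) (hvan : ∀ i, ∀ x : Subgroup.normalizer S, (x : G) ∉ S → χ i x = 0) (hdeg : ∀ i j, χ i 1 = χ j 1) : ∃ ε : ℂ, (ε = 1 ∨ ε = -1) ∧ ∃ θ : Fin n → (G → ℂ), (∀ i, Cfsg.IsIrrCharacter G (θ i)) ∧ Function.Injective θ ∧ ∀ i j, Cfsg.indFun (Subgroup.normalizer S) (χ i) - Cfsg.indFun (Subgroup.normalizer S) (χ j) = ε • (θ i - θ j) := by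
  classical
  let N := Subgroup.normalizer S
  have : Fintype N := Fintype.ofFinite N
  have hcl : ∀ i, Cfsg.IsClassFunction N (χ i) := fun i => H12.irr_isClassFunction ⟨χ i, hirr i⟩
  let i0 : Fin n := ⟨0, by omega⟩
  let D : {k : Fin n // k ≠ i0} → G → ℂ := fun k => Cfsg.indFun N (χ i0) - Cfsg.indFun N (χ k.1)
  have hD : ∀ k, D k = Cfsg.indFun N (χ i0 - χ k.1) := fun k => (H12.indFun_sub N _ _).symm
  have hgen : ∀ k, Cfsg.IsGeneralizedCharacter G (D k) := fun k =>
    ⟨_, _, H12.IsCharacter.indFun (H12.isCharacter_of_isIrrCharacter (hirr i0)),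
      H12.IsCharacter.indFun (H12.isCharacter_of_isIrrCharacter (hirr k.1)), rfl⟩
  have h1 : ∀ k, D k 1 = 0 := fun k => by
    rw [hD, H12.indFun_one, Pi.sub_apply, hdeg i0 k.1, sub_self, mul_zero]
  have hinner : ∀ i j, Cfsg.classInner (χ i) (χ j) = if i = j then 1 else 0 := by
    intro i j
    rw [show χ i = ((⟨χ i, hirr i⟩ : Cfsg.IrrCharacter N) : N → ℂ) from rfl,
      show χ j = ((⟨χ j, hirr j⟩ : Cfsg.IrrCharacter N) : N → ℂ) from rfl, H12.classInner_irr]
    simp [Subtype.ext_iff, hinj.eq_iff]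
  have hinD : ∀ k l : {k : Fin n // k ≠ i0},
      Cfsg.classInner (D k) (D l) = if k = l then 2 else 1 := by
    intro k l
    rw [hD, hD, Cfsg.Agent.S0150.result S hTI hSN (χ i0 - χ k.1) (χ i0 - χ l.1)
      (H12.IsClassFunction.sub (hcl _) (hcl _)) (H12.IsClassFunction.sub (hcl _) (hcl _))
      (fun x hx => by rw [Pi.sub_apply, hvan _ x hx, hvan _ x hx, sub_self])
      (fun x hx => by rw [Pi.sub_apply, hvan _ x hx, hvan _ x hx, sub_self])
      (by rw [Pi.sub_apply, hdeg i0 k.1, sub_self]),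
      H12.classInner_sub_left, H12.classInner_sub_right, H12.classInner_sub_right,
      hinner, hinner, hinner, hinner, if_pos rfl, if_neg (Ne.symm l.2), if_neg k.2]
    by_cases hkl : k = l
    · rw [if_pos hkl, if_pos (congrArg Subtype.val hkl)]; norm_num
    · rw [if_neg hkl, if_neg (fun h => hkl (Subtype.ext h))]; norm_num
  have hn2 : ∀ k, Cfsg.classInner (D k) (D k) = 2 := fun k => by rw [hinD, if_pos rfl]
  suffices hstar : ∃ (ε : ℂ) (μ₀ : G → ℂ) (ν : {k : Fin n // k ≠ i0} → G → ℂ),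
      (ε = 1 ∨ ε = -1) ∧ Cfsg.IsIrrCharacter G μ₀ ∧
      (∀ i, Cfsg.IsIrrCharacter G (ν i) ∧ ν i ≠ μ₀ ∧ D i = ε • (μ₀ - ν i)) ∧
      Function.Injective ν by
    obtain ⟨ε, μ₀, ν, hε, hμ, hν, hνinj⟩ := hstar
    let θ : Fin n → G → ℂ := fun i => if h : i = i0 then μ₀ else ν ⟨i, h⟩
    have key : ∀ i, Cfsg.indFun N (χ i0) - Cfsg.indFun N (χ i) = ε • (μ₀ - θ i) := by
      intro i
      by_cases hi : i = i0
      · rw [show θ i = μ₀ from dif_pos hi, hi, sub_self, sub_self, smul_zero]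
      · simp only [θ, dif_neg hi]
        exact (hν ⟨i, hi⟩).2.2
    refine ⟨ε, hε, θ, fun i => ?_, fun i j hij => ?_, fun i j => ?_⟩
    · by_cases hi : i = i0
      · simp only [θ, dif_pos hi]; exact hμ
      · simp only [θ, dif_neg hi]; exact (hν _).1
    · by_cases hi : i = i0 <;> by_cases hj : j = i0
      · rw [hi, hj]
      · simp only [θ, dif_pos hi, dif_neg hj] at hij
        exact absurd hij.symm (hν _).2.1
      · simp only [θ, dif_pos hj, dif_neg hi] at hij
        exact absurd hij (hν _).2.1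
      · simp only [θ, dif_neg hi, dif_neg hj] at hij
        exact congrArg Subtype.val (hνinj hij)
    · have e : Cfsg.indFun N (χ i) - Cfsg.indFun N (χ j) =
          (Cfsg.indFun N (χ i0) - Cfsg.indFun N (χ j)) -
            (Cfsg.indFun N (χ i0) - Cfsg.indFun N (χ i)) := by abel
      rw [e, key, key, ← smul_sub]
      congr 1
      abel
  by_cases hn3 : n = 2
  · let k0 : {k : Fin n // k ≠ i0} := ⟨⟨1, by omega⟩, by simp [i0]⟩
    have hall : ∀ k, k = k0 := by
      rintro ⟨k, hk⟩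
      apply Subtype.ext
      have := k.2
      have : (k : ℕ) ≠ 0 := fun h => hk (Fin.ext h)
      exact Fin.ext (by show (k : ℕ) = 1; omega)
    obtain ⟨a, b, ha, hb, hab, he⟩ := H16.norm_two (hgen k0) (hn2 k0) (h1 k0)
    refine ⟨1, a, fun _ => b, Or.inl rfl, ha, fun i => ⟨hb, hab.symm, ?_⟩, fun i j _ => ?_⟩
    · rw [hall i, one_smul]; exact he
    · rw [hall i, hall j]
  · refine H16.exists_star D ⟨⟨1, by omega⟩, by simp [i0]⟩ ⟨⟨2, by omega⟩, by simp [i0]⟩
      (by simp) hgen h1 hn2 fun k l hkl => by rw [hinD, if_neg hkl]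

end Cfsg.Agent.S0170
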