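import Cfsg.Statements.S0171
import Cfsg.Agent.H13.Clifford
import Cfsg.Agent.H13.PermutationLemma
import Cfsg.Agent.H13.FrobeniusClassCount

set_option autoImplicit false
open Cfsg

namespace Cfsg.Agent.S0171

/-- Let G = K H with K normal, K ⊓ H trivial, and no non-identity element of H commuting with a non-identity element of K (a Frobenius group with kernel K and complement H). Then every non-principal irreducible character of K induces to an irreducible character of G. -/
theorem result {G : Type*} [Group G] [Fintype G] (K H : Subgroup G) [K.Normal] (hKH : K ⊓ H = ⊥) (hKH' : K ⊔ H = ⊤) (hfpf : ∀ h ∈ H, h ≠ 1 → ∀ k ∈ K, h * k = k * h → k = 1) (τ : K → ℂ) (hτ : Cfsg.IsIrrCharacter K τ) (hτ1 : τ ≠ fun _ => 1) : Cfsg.IsIrrCharacter G (Cfsg.indFun K τ) := by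
  classical
  refine H13.isIrrCharacter_indFun_of_inertia K hτ fun x hx => ?_
  by_contra hxK
  -- `x` fixes only the trivial class, hence only the trivial character
  have hK := H13.frob_conj_bijective K H hKH hKH' hfpf
  obtain ⟨⟨m, h⟩, hmh⟩ := hK.2 ⟨x, hxK⟩
  have hfix : ∀ k : K, IsConj (MulAut.conjNormal x k) k → k = 1 := by
    intro k hk
    obtain ⟨c, hc⟩ := isConj_iff.1 hk
    have hc' : ((c : G) * x) * k * ((c : G) * x)⁻¹ = k := by
      have := congrArg Subtype.val hc
      simpa [mul_assoc] using this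
    have hnot : (c : G) * x ∉ K := fun hh => hxK ((Subgroup.mul_mem_cancel_left K c.2).1 hh)
    obtain ⟨⟨m', h'⟩, e⟩ := hK.2 ⟨_, hnot⟩
    have e : (m' : G) * (h'.1 : G) * (m' : G)⁻¹ = (c : G) * x := congrArg Subtype.val e
    have h1 : (m' : G)⁻¹ * k * m' = 1 := by
      apply hfpf h'.1 h'.1.2 (fun hh1 => h'.2 (Subtype.ext hh1)) _
      · simpa using Subgroup.Normal.conj_mem inferInstance (k : G) k.2 (m' : G)⁻¹
      · rw [← e] at hc'
        calc (h'.1 : G) * ((m' : G)⁻¹ * k * m')
            = (m' : G)⁻¹ * (((m' : G) * h'.1 * (m' : G)⁻¹) * k *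
                ((m' : G) * h'.1 * (m' : G)⁻¹)⁻¹) * m' * h'.1 := by group
          _ = _ := by rw [hc']
    apply Subtype.ext
    calc (k : G) = (m' : G) * ((m' : G)⁻¹ * k * m') * (m' : G)⁻¹ := by group
      _ = 1 := by rw [h1]; group
  have hone : Subsingleton
      {χ : Cfsg.IrrCharacter K // (χ : K → ℂ) ∘ (MulAut.conjNormal x : K ≃* K) = (χ : K → ℂ)} := by
    rw [← Finite.card_le_one_iff_subsingleton, ← H13.card_fixed_irr_mulEquiv,
      Finite.card_le_one_iff_subsingleton]
    refine ⟨fun a b => Subtype.ext ?_⟩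
    have key : ∀ C : {C : ConjClasses K //
        ConjClasses.map (MulAut.conjNormal x : K ≃* K).toMonoidHom C = C}, C.1 = ConjClasses.mk 1 := by
      rintro ⟨C, hC⟩
      obtain ⟨k, rfl⟩ := ConjClasses.exists_rep C
      exact congrArg ConjClasses.mk (hfix k (ConjClasses.mk_eq_mk_iff_isConj.1 hC))
    rw [key a, key b]
  have h1 : (⟨τ, hτ⟩ : Cfsg.IrrCharacter K) = H12.oneIrr K := by
    have ha : τ ∘ (MulAut.conjNormal x : K ≃* K) = τ := by
      conv_rhs => rw [← (H13.mem_inertia K).1 hx, H13.twist_eq_comp]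
      rfl
    exact congrArg Subtype.val
      (hone.elim ⟨⟨τ, hτ⟩, ha⟩ ⟨H12.oneIrr K, rfl⟩)
  exact hτ1 (congrArg Subtype.val h1)

end Cfsg.Agent.S0171
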