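import Cfsg.Statements.S0174
import Cfsg.Agent.H13.Clifford

set_option autoImplicit false
open Cfsg

namespace Cfsg.Agent.S0174

/-- The Clifford Theorem for characters: if θ is an irreducible character of a finite group G, N is a normal subgroup and χ is an irreducible character of N occurring in the restriction of θ, then θ restricted to N equals e times the sum of the distinct G-conjugates of χ, where e is the inner product of the restriction with χ. -/
theorem result {G : Type*} [Group G] [Fintype G] (N : Subgroup G) [Fintype N] (hN : N.Normal) (θ : G → ℂ) (hθ : Cfsg.IsIrrCharacter G θ) (χ : N → ℂ) (hχ : Cfsg.IsIrrCharacter N χ) (hconst : Cfsg.classInner (fun n : N => θ n) χ ≠ 0) : (fun n : N => θ n) = Cfsg.classInner (fun n : N => θ n) χ • ∑ᶠ ψ ∈ {ψ : N → ℂ | ∃ g : G, ψ = fun n : N => χ ⟨g * n * g⁻¹, hN.conj_mem n n.2 g⟩}, ψ := by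
  classical
  haveI := hN
  conv_lhs => rw [H13.clifford_res N hθ hχ hconst
    (Finset.univ.filter fun ψ : Cfsg.IrrCharacter N => ∃ x, H13.twist N x χ = ψ) (by simp)]
  congr 1
  rw [finsum_mem_eq_finite_toFinset_sum _ ?_]
  swap
  · refine Set.Finite.subset (Set.finite_range fun g : G => H13.twist N g χ) ?_
    rintro ψ ⟨g, rfl⟩
    exact ⟨g, rfl⟩
  refine Finset.sum_bij (fun ψ _ => (ψ : N → ℂ)) ?_ ?_ ?_ ?_
  · intro ψ hψ
    obtain ⟨x, hx⟩ := (Finset.mem_filter.1 hψ).2
    rw [Set.Finite.mem_toFinset]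
    exact ⟨x, hx.symm⟩
  · intro a _ b _ h
    exact Subtype.ext h
  · intro φ hφ
    rw [Set.Finite.mem_toFinset] at hφ
    obtain ⟨g, rfl⟩ := hφ
    exact ⟨⟨_, H13.isIrrCharacter_twist N g hχ⟩, Finset.mem_filter.2 ⟨Finset.mem_univ _, g, rfl⟩, rfl⟩
  · intros; rfl

end Cfsg.Agent.S0174
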