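import Cfsg.Statements.S0184
import Cfsg.Agent.H13.QuaternionSylow
import Cfsg.Agent.H12.Orth
import Cfsg.Agent.H6.Basic

set_option autoImplicit false
open Cfsg

namespace Cfsg.Agent.S0184

/-- A finite p-group admits a faithful irreducible complex representation if and only if its centre is cyclic. -/
theorem result {G : Type*} [Group G] [Finite G] (p : ℕ) [Fact p.Prime] (hG : IsPGroup p G) : (∃ (n : ℕ) (ρ : Representation ℂ G (Fin n → ℂ)), ρ.IsIrreducible ∧ Function.Injective ρ) ↔ IsCyclic (Subgroup.center G) := by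
  classical
  haveI := Fintype.ofFinite G
  constructor
  · rintro ⟨n, ρ, hρ, hinj⟩
    haveI := hρ
    haveI := H12.nontrivial_of_isIrreducible ρ
    have hsc : ∀ z : Subgroup.center G, ∃ c : ℂ, ρ z = c • (1 : Module.End ℂ (Fin n → ℂ)) :=
      fun z => H12.exists_scalar_of_commute ρ (ρ z) fun h => by
        rw [← map_mul, ← map_mul, Subgroup.mem_center_iff.1 z.2 h]
    choose c hc using hsc
    obtain ⟨v, hv⟩ := exists_ne (0 : Fin n → ℂ)
    have hcinj : ∀ a b : ℂ, a • (1 : Module.End ℂ (Fin n → ℂ)) = b • 1 → a = b := fun a b h =>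
      smul_left_injective ℂ hv (by simpa using congrArg (fun T => T v) h)
    let f : Subgroup.center G →* ℂ :=
      { toFun := c
        map_one' := hcinj _ _ (by rw [← hc, one_smul]; exact map_one ρ)
        map_mul' := fun a b => hcinj _ _ (by
          rw [← hc, Subgroup.coe_mul, map_mul, hc, hc, smul_mul_smul_comm, one_mul]) }
    refine isCyclic_of_injective_ringHom (f := f) ?_
    intro a b h
    exact Subtype.ext (hinj (by rw [hc, hc]; exact congrArg (fun t => t • _) h))
  · intro hcyc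
    rcases subsingleton_or_nontrivial G with hG1 | hG1
    · exact ⟨1, Representation.trivial ℂ G (Fin 1 → ℂ),
        H12.isIrreducible_of_finrank_eq_one _ (by simp), fun a b _ => Subsingleton.elim a b⟩
    haveI := IsPGroup.center_nontrivial hG
    obtain ⟨k, hk, hk'⟩ := (hG.to_subgroup (Subgroup.center G)).exists_card_eq.imp
      fun k hk => (⟨hk, Nat.pos_of_ne_zero fun h0 => by
        rw [h0, pow_zero] at hk
        exact absurd hk (Finite.one_lt_card (α := Subgroup.center G)).ne'⟩ :
          Nat.card (Subgroup.center G) = p ^ k ∧ 0 < k)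
    obtain ⟨z, hz⟩ := exists_prime_orderOf_dvd_card' (G := Subgroup.center G) p
      (hk ▸ dvd_pow_self p hk'.ne')
    have hzG : orderOf (z : G) = p := by rw [Subgroup.orderOf_coe, hz]
    have hzne : (z : G) ≠ 1 := fun h => (Fact.out : p.Prime).ne_one (by
      rw [← hzG, h, orderOf_one])
    obtain ⟨χ, hχ⟩ : ∃ χ : Cfsg.IrrCharacter G, (χ : G → ℂ) z ≠ (χ : G → ℂ) 1 := by
      by_contra h
      simp only [not_exists, not_not] at h
      exact hzne (isConj_one_left.1 ((H12.isConj_iff_irr _ _).2 h))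
    obtain ⟨n, ρ, hρ, hχρ⟩ := χ.2
    refine ⟨n, ρ, hρ, ?_⟩
    rw [← MonoidHom.ker_eq_bot_iff]
    by_contra hne
    haveI : Nontrivial (MonoidHom.ker ρ) := (Subgroup.nontrivial_iff_ne_bot _).2 hne
    have hmeet : MonoidHom.ker ρ ⊓ Subgroup.center G ≠ ⊥ := H6.inf_center_ne_bot hG hne
    haveI : Nontrivial (MonoidHom.ker ρ ⊓ Subgroup.center G : Subgroup G) :=
      (Subgroup.nontrivial_iff_ne_bot _).2 hmeet
    obtain ⟨j, hj, hj'⟩ := (hG.to_subgroup
      (MonoidHom.ker ρ ⊓ Subgroup.center G)).exists_card_eq.imp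
      fun j hj => (⟨hj, Nat.pos_of_ne_zero fun h0 => by
        rw [h0, pow_zero] at hj
        exact absurd hj (Finite.one_lt_card
          (α := (MonoidHom.ker ρ ⊓ Subgroup.center G : Subgroup G))).ne'⟩ :
          Nat.card (MonoidHom.ker ρ ⊓ Subgroup.center G : Subgroup G) = p ^ j ∧ 0 < j)
    obtain ⟨w, hw⟩ := exists_prime_orderOf_dvd_card'
      (G := (MonoidHom.ker ρ ⊓ Subgroup.center G : Subgroup G)) p (hj ▸ dvd_pow_self p hj'.ne')
    have hwG : orderOf (w : G) = p := by rw [Subgroup.orderOf_coe, hw]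
    have heq := H13.eq_of_le_cyclic hcyc (A := Subgroup.zpowers (z : G))
      (B := Subgroup.zpowers (w : G)) (Subgroup.zpowers_le.2 z.2)
      (Subgroup.zpowers_le.2 w.2.2) (by rw [Nat.card_zpowers, Nat.card_zpowers, hzG, hwG])
    have hzker : (z : G) ∈ MonoidHom.ker ρ := by
      have : Subgroup.zpowers (w : G) ≤ MonoidHom.ker ρ := Subgroup.zpowers_le.2 w.2.1
      rw [← heq] at this
      exact this (Subgroup.mem_zpowers _)
    apply hχ
    rw [← hχρ]
    show LinearMap.trace ℂ _ (ρ z) = LinearMap.trace ℂ _ (ρ 1)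
    exact congrArg _ ((MonoidHom.mem_ker.1 hzker).trans (map_one ρ).symm)

end Cfsg.Agent.S0184
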