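import Cfsg.Statements.S0185
import Cfsg.Agent.H12.Integral
import Cfsg.Agent.H13.Linear

set_option autoImplicit false
open Cfsg

namespace Cfsg.Agent.S0185

/-- If a finite group has a faithful complex representation of degree less than the smallest prime dividing its order, the group is abelian. -/
theorem result {G : Type*} [Group G] [Finite G] {V : Type*} [AddCommGroup V] [Module ℂ V] [FiniteDimensional ℂ V] (ρ : Representation ℂ G V) (hfaithful : Function.Injective ρ) (hdeg : ∀ p : ℕ, p.Prime → p ∣ Nat.card G → Module.finrank ℂ V < p) (a b : G) : a * b = b * a := by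
  classical
  haveI := Fintype.ofFinite G
  obtain ⟨m, hm⟩ := H12.IsCharacter.exists_mult (H12.isCharacter_character ρ)
  have hd := congrFun hm 1
  rw [Representation.char_one, Finset.sum_apply] at hd
  simp only [Pi.smul_apply, smul_eq_mul, H12.irr_apply_one] at hd
  have hdn : Module.finrank ℂ V
      = ∑ χ : Cfsg.IrrCharacter G, m χ * H12.degree (χ : G → ℂ) := by exact_mod_cast hd
  have hlin : ∀ χ : Cfsg.IrrCharacter G, m χ ≠ 0 → (χ : G → ℂ) 1 = 1 := by
    intro χ hχ
    rw [H12.irr_apply_one, Nat.cast_eq_one]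
    by_contra h1
    obtain ⟨p, hp, hpd⟩ := Nat.exists_prime_and_dvd h1
    have h2 := hdeg p hp (hpd.trans (H12.irr_degree_dvd_card χ))
    have h3 := Finset.single_le_sum (f := fun ψ : Cfsg.IrrCharacter G => m ψ * H12.degree (ψ : G → ℂ))
      (fun _ _ => Nat.zero_le _) (Finset.mem_univ χ)
    rw [← hdn] at h3
    have h4 := Nat.le_of_dvd (H12.irr_degree_pos χ) hpd
    have h5 : H12.degree (χ : G → ℂ) ≤ m χ * H12.degree (χ : G → ℂ) :=
      Nat.le_mul_of_pos_left _ (Nat.pos_of_ne_zero hχ)
    omega
  have hker : ρ.character (a * b * a⁻¹ * b⁻¹) = ρ.character 1 := by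
    rw [hm, Finset.sum_apply, Finset.sum_apply]
    refine Finset.sum_congr rfl fun χ _ => ?_
    simp only [Pi.smul_apply, smul_eq_mul]
    by_cases hχ : m χ = 0
    · simp [hχ]
    · rw [H13.linear_commutator (H12.isCharacter_irr χ) (hlin χ hχ), hlin χ hχ]
  rw [Representation.char_one, H12.character_eq_finrank_iff] at hker
  have h1 : a * b * a⁻¹ * b⁻¹ = 1 := hfaithful (hker.trans (map_one ρ).symm)
  calc a * b = (a * b * a⁻¹ * b⁻¹) * (b * a) := by group
    _ = b * a := by rw [h1, one_mul]

end Cfsg.Agent.S0185
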