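import Cfsg.Statements.S0186
import Cfsg.Agent.H12.Linear
import Cfsg.Agent.H12.Integral
import Cfsg.Agent.H13.Linear

set_option autoImplicit false
set_option linter.unusedSectionVars false
open Cfsg Module

namespace Cfsg.Agent.S0186

/-- In a nonabelian simple group with a nonabelian Sylow `p`-subgroup, nonprincipal irreducible
degrees exceed `p`. -/
theorem lt_degree_of_ne_one {G : Type*} [Group G] [Fintype G] [IsSimpleGroup G] {p : ℕ}
    (hp : p.Prime) (P : Subgroup G) (hP : IsPGroup p P)
    (hnc : ¬ ∀ a b : P, a * b = b * a) (χ : IrrCharacter G) (hχ : χ ≠ H12.oneIrr G) :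
    p < H12.degree (χ : G → ℂ) := by
  classical
  by_contra hle
  rw [not_lt] at hle
  haveI := Fact.mk hp
  haveI : Fintype P := Fintype.ofFinite _
  have hGnc : ¬ ∀ a b : G, a * b = b * a := fun h => hnc fun a b => Subtype.ext (h a b)
  obtain ⟨d, ρ, hρ, hρc⟩ := χ.2
  have hinj : Function.Injective ρ := by
    have hk : MonoidHom.ker ρ = ⊥ := by
      refine (MonoidHom.normal_ker ρ).eq_bot_or_eq_top.resolve_right fun htop => hχ ?_
      have hconst : ∀ g, (χ : G → ℂ) g = (χ : G → ℂ) 1 := fun g => by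
        have hg : g ∈ MonoidHom.ker ρ := by rw [htop]; trivial
        rw [← hρc]
        show LinearMap.trace ℂ _ (ρ g) = LinearMap.trace ℂ _ (ρ 1)
        rw [MonoidHom.mem_ker.1 hg, map_one ρ]
      by_contra hne
      have h0 := H12.classInner_irr_ne hne
      rw [H12.classInner_def] at h0
      simp only [hconst, H12.oneIrr_apply, map_one, mul_one, Finset.sum_const, Finset.card_univ,
        ← Nat.card_eq_fintype_card, nsmul_eq_mul] at h0
      rw [← mul_assoc, inv_mul_cancel₀ H12.card_ne_zero', one_mul] at h0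
      exact H12.irr_apply_one_ne_zero χ h0
    exact (MonoidHom.ker_eq_bot_iff ρ).1 hk
  -- restriction to P
  have hres : IsCharacter P ((χ : G → ℂ) ∘ P.subtype) :=
    H12.IsCharacter.comp (H12.isCharacter_irr χ) P.subtype
  obtain ⟨m, hm⟩ := H12.IsCharacter.exists_mult hres
  have hd := congrFun hm 1
  rw [Function.comp_apply, map_one, H12.irr_apply_one, Finset.sum_apply] at hd
  simp only [Pi.smul_apply, smul_eq_mul, H12.irr_apply_one] at hd
  have hdn : H12.degree (χ : G → ℂ) = ∑ φ : IrrCharacter P, m φ * H12.degree (φ : P → ℂ) := by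
    exact_mod_cast hd
  by_cases hall : ∀ φ : IrrCharacter P, m φ ≠ 0 → (φ : P → ℂ) 1 = 1
  · refine hnc fun a b => ?_
    have hker : (χ : G → ℂ) ((a * b * a⁻¹ * b⁻¹ : P) : G) = (χ : G → ℂ) 1 := by
      have e1 := congrFun hm (a * b * a⁻¹ * b⁻¹)
      have e2 := congrFun hm 1
      rw [Function.comp_apply] at e1 e2
      rw [map_one] at e2
      rw [Subgroup.subtype_apply] at e1
      rw [e1, e2, Finset.sum_apply, Finset.sum_apply]
      refine Finset.sum_congr rfl fun φ _ => ?_
      simp only [Pi.smul_apply, smul_eq_mul]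
      by_cases hφ : m φ = 0
      · simp [hφ]
      · rw [H13.linear_commutator (H12.isCharacter_irr φ) (hall φ hφ), hall φ hφ]
    rw [← hρc, Representation.char_one, H12.character_eq_finrank_iff] at hker
    have h1 : a * b * a⁻¹ * b⁻¹ = 1 := Subtype.ext (hinj (hker.trans (map_one ρ).symm))
    calc a * b = (a * b * a⁻¹ * b⁻¹) * (b * a) := by group
      _ = b * a := by rw [h1, one_mul]
  · push Not at hall
    obtain ⟨φ, hφm, hφ1⟩ := hall
    -- the degree of φ is a nontrivial power of p
    have hφd : p ≤ H12.degree (φ : P → ℂ) := by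
      obtain ⟨e, he⟩ := (IsPGroup.iff_card.1 hP)
      have h1 := H12.irr_degree_dvd_card φ
      rw [he] at h1
      obtain ⟨i, -, hi⟩ := (Nat.dvd_prime_pow hp).1 h1
      rw [hi]
      refine Nat.le_self_pow ?_ p
      rintro rfl
      exact hφ1 (by rw [H12.irr_apply_one, hi, pow_zero, Nat.cast_one])
    have hsingle : m φ * H12.degree (φ : P → ℂ) ≤ H12.degree (χ : G → ℂ) := by
      rw [hdn]
      exact Finset.single_le_sum (f := fun ψ : IrrCharacter P => m ψ * H12.degree (ψ : P → ℂ))
        (fun _ _ => Nat.zero_le _) (Finset.mem_univ φ)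
    have hmul : H12.degree (φ : P → ℂ) ≤ m φ * H12.degree (φ : P → ℂ) :=
      Nat.le_mul_of_pos_left _ (Nat.pos_of_ne_zero hφm)
    have hm1 : m φ = 1 := by
      have h2 : m φ * H12.degree (φ : P → ℂ) = 1 * H12.degree (φ : P → ℂ) := by omega
      exact Nat.eq_of_mul_eq_mul_right (H12.irr_degree_pos φ) h2
    have hzero : ∀ ψ : IrrCharacter P, ψ ≠ φ → m ψ = 0 := by
      intro ψ hψ
      have h2 := Finset.add_sum_erase Finset.univ
        (fun ψ : IrrCharacter P => m ψ * H12.degree (ψ : P → ℂ)) (Finset.mem_univ φ)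
      rw [← hdn] at h2
      have h3 : ∑ ψ ∈ Finset.univ.erase φ, m ψ * H12.degree (ψ : P → ℂ) = 0 := by omega
      have h4 := (Finset.sum_eq_zero_iff.1 h3) ψ (Finset.mem_erase.2 ⟨hψ, Finset.mem_univ _⟩)
      exact (Nat.mul_eq_zero.1 h4).resolve_right (H12.irr_degree_pos ψ).ne'
    have heq : ∀ x : P, (χ : G → ℂ) (x : G) = (φ : P → ℂ) x := by
      intro x
      have e := congrFun hm x
      rw [Function.comp_apply, Subgroup.subtype_apply] at e
      rw [e, Finset.sum_apply, Finset.sum_eq_single φ]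
      · simp [hm1]
      · intro ψ _ hψ; simp [hzero ψ hψ]
      · simp
    haveI : Nontrivial P := by
      by_contra h
      rw [not_nontrivial_iff_subsingleton] at h
      exact hnc fun a b => Subsingleton.elim _ _
    haveI := hP.center_nontrivial
    obtain ⟨⟨z, hz⟩, hz1⟩ := exists_ne (1 : Subgroup.center P)
    obtain ⟨e, σ, hσ, hσc⟩ := φ.2
    haveI := hσ
    obtain ⟨c, hc⟩ := H12.exists_scalar_of_commute σ (σ z) fun h => by
      rw [← map_mul, ← map_mul, Subgroup.mem_center_iff.1 hz h]
    have hnorm : ‖(χ : G → ℂ) (z : G)‖ = (H12.degree (χ : G → ℂ) : ℝ) := by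
      have h1 := heq 1
      rw [OneMemClass.coe_one, H12.irr_apply_one, H12.irr_apply_one, Nat.cast_inj] at h1
      have hv : (φ : P → ℂ) z = c * (H12.degree (φ : P → ℂ) : ℂ) := by
        rw [← hσc, H12.degree_character]
        show LinearMap.trace ℂ _ (σ z) = _
        rw [hc, map_smul, LinearMap.trace_one, smul_eq_mul]
      have hpow : c ^ orderOf z = 1 := by
        have h2 := H12.rep_pow_orderOf σ z
        rw [hc, smul_pow, one_pow] at h2
        haveI := H12.nontrivial_of_isIrreducible σ
        obtain ⟨v, hv'⟩ := exists_ne (0 : Fin e → ℂ)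
        refine smul_left_injective ℂ hv' ?_
        simpa using congrArg (fun T : Module.End ℂ (Fin e → ℂ) => T v) h2
      rw [heq, hv, norm_mul, H12.norm_eq_one_of_pow_eq_one (orderOf_pos z).ne' hpow, one_mul,
        Complex.norm_natCast, h1]
    rw [← hρc, H12.degree_character] at hnorm
    obtain ⟨ω, hω⟩ := H12.exists_scalar_of_norm_eq ρ (z : G) hnorm
    have hzc : (z : G) ∈ Subgroup.center G := by
      rw [Subgroup.mem_center_iff]
      intro g
      apply hinj
      rw [map_mul, map_mul, hω]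
      ext v i
      simp
    have htop : Subgroup.center G = ⊤ := by
      refine (Subgroup.Normal.eq_bot_or_eq_top (H := Subgroup.center G) inferInstance).resolve_left ?_
      intro hb
      rw [hb, Subgroup.mem_bot] at hzc
      exact hz1 (Subtype.ext (Subtype.ext hzc))
    exact hGnc fun a b => (Subgroup.mem_center_iff.1 (htop ▸ Subgroup.mem_top a : a ∈ Subgroup.center G) b).symm

/-- Let G be a finite simple group of order n and p a prime dividing n. If G has more than n / p^2 conjugacy classes, then every Sylow p-subgroup of G is abelian. -/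
theorem result {G : Type*} [Group G] [Finite G] [IsSimpleGroup G] (p : ℕ) [Fact p.Prime] (hp : p ∣ Nat.card G) (hmany : Nat.card G < p ^ 2 * Nat.card (ConjClasses G)) (P : Sylow p G) (a b : G) (ha : a ∈ P) (hb : b ∈ P) : a * b = b * a := by
  classical
  haveI := Fintype.ofFinite G
  have hpr : p.Prime := Fact.out
  by_contra hab
  have hnc : ¬ ∀ x y : (P : Subgroup G), x * y = y * x := fun h =>
    hab (congrArg Subtype.val (h ⟨a, ha⟩ ⟨b, hb⟩))
  obtain ⟨e, he⟩ := IsPGroup.iff_card.1 P.isPGroup'
  have he3 : 3 ≤ e := by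
    by_contra h
    apply hnc
    rcases (by omega : e ≤ 1 ∨ e = 2) with h1 | h1
    · haveI : IsCyclic (P : Subgroup G) := isCyclic_of_card_dvd_prime (p := p) (by
        rw [he]; exact (pow_dvd_pow p h1).trans (by rw [pow_one]))
      exact fun x y => IsCyclic.commGroup.mul_comm x y
    · subst h1
      exact fun x y => IsPGroup.commutative_of_card_eq_prime_sq he x y
  have hcube : p ^ 3 ≤ Nat.card G :=
    (Nat.pow_le_pow_right hpr.pos he3).trans (he ▸ Nat.le_of_dvd Nat.card_pos
      (Subgroup.card_subgroup_dvd_card _))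
  have hsum := H12.sum_degree_sq_nat (G := G)
  rw [← Finset.add_sum_erase _ _ (Finset.mem_univ (H12.oneIrr G))] at hsum
  have h1 : H12.degree ((H12.oneIrr G : IrrCharacter G) : G → ℂ) = 1 := by
    simp [H12.degree, H12.oneIrr_apply]
  have hge : ∀ χ ∈ (Finset.univ : Finset (IrrCharacter G)).erase (H12.oneIrr G),
      (p + 1) ^ 2 ≤ H12.degree (χ : G → ℂ) ^ 2 := fun χ hχ =>
    Nat.pow_le_pow_left (lt_degree_of_ne_one hpr _ P.isPGroup' hnc χ (Finset.mem_erase.1 hχ).1) 2
  have hs := Finset.card_nsmul_le_sum _ _ _ hge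
  rw [Finset.card_erase_of_mem (Finset.mem_univ _), Finset.card_univ, ← Nat.card_eq_fintype_card,
    H12.card_irrCharacter, smul_eq_mul] at hs
  rw [h1] at hsum
  obtain ⟨k, hk⟩ : ∃ k, Nat.card (ConjClasses G) = k + 1 :=
    ⟨Nat.card (ConjClasses G) - 1, (Nat.sub_add_cancel Nat.card_pos).symm⟩
  rw [hk] at hs hmany
  simp only [Nat.add_sub_cancel] at hs
  have hA : k * (p + 1) ^ 2 + 1 < p ^ 2 * (k + 1) := by omega
  have hB : p ^ 3 < p ^ 2 * (k + 1) := by omega
  have hkp : p ≤ k := by
    rw [pow_succ] at hB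
    exact Nat.lt_succ_iff.1 (Nat.lt_of_mul_lt_mul_left hB)
  nlinarith

end Cfsg.Agent.S0186
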