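import Cfsg.Statements.S0191
import Cfsg.Agent.H19.GaloisAvg
import Cfsg.Agent.H12.Orth

set_option autoImplicit false
open Cfsg

namespace Cfsg.Agent.S0191

/-- An irreducible complex representation of a finite group of degree greater than 1 has a character that vanishes somewhere. -/
theorem result {G : Type*} [Group G] [Finite G] {V : Type*} [AddCommGroup V] [Module ℂ V] [FiniteDimensional ℂ V] (ρ : Representation ℂ G V) [ρ.IsIrreducible] (hdeg : 1 < Module.finrank ℂ V) : ∃ g : G, ρ.character g = 0 := by
  classical
  haveI := Fintype.ofFinite G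
  by_contra h
  simp only [not_exists] at h
  have hc := H12.isCharacter_character ρ
  have hle := H19.card_le_sum_normSq hc (Finset.univ.erase 1) (fun j hj g hg => by
    refine Finset.mem_erase.2 ⟨fun e => ?_, Finset.mem_univ _⟩
    exact Finset.ne_of_mem_erase hg ((powCoprime hj).injective (by simpa using e))) (fun g _ => h g)
  have hs := H19.sum_normSq_irr (H12.irrOf ρ) (H12.classInner_irr_self _)
  rw [← Finset.add_sum_erase _ _ (Finset.mem_univ (1 : G))] at hs
  simp only [H12.irrOf, Representation.char_one, Complex.norm_natCast] at hs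
  rw [Finset.card_erase_of_mem (Finset.mem_univ _), Finset.card_univ, ← Nat.card_eq_fintype_card,
    Nat.cast_sub (Nat.one_le_iff_ne_zero.2 Nat.card_pos.ne'), Nat.cast_one] at hle
  have h2 : (2 : ℝ) ≤ (Module.finrank ℂ V : ℝ) := by exact_mod_cast hdeg
  nlinarith

end Cfsg.Agent.S0191
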