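import Cfsg.Statements.S0192
import Cfsg.Agent.H12.Orth
import Cfsg.Agent.H13.AbelianDegree

set_option autoImplicit false
open Cfsg

namespace Cfsg.Agent.S0192

/-- Brauer's generation criterion. Let G be a finite simple group, H₁ and H₂ subgroups, and χ a non-principal irreducible character. If the multiplicity of the principal character in χ restricted to H₁ ⊓ H₂ is less than the sum of the corresponding multiplicities for H₁ and H₂, then H₁ and H₂ do not generate G. -/
theorem result {G : Type*} [Group G] [Fintype G] [IsSimpleGroup G] (H₁ H₂ : Subgroup G) [Fintype H₁] [Fintype H₂] [Fintype ↥(H₁ ⊓ H₂)] (χ : G → ℂ) (hχ : Cfsg.IsIrrCharacter G χ) (hχ1 : χ ≠ fun _ => 1) (hlt : (Cfsg.classInner (fun x : ↥(H₁ ⊓ H₂) => χ x) (fun _ => 1)).re < (Cfsg.classInner (fun x : H₁ => χ x) (fun _ => 1)).re + (Cfsg.classInner (fun x : H₂ => χ x) (fun _ => 1)).re) : H₁ ⊔ H₂ ≠ ⊤ := by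
  classical
  obtain ⟨n, ρ, hρ, rfl⟩ := hχ
  intro htop
  have key : ∀ (L : Subgroup G) [Fintype L],
      (Cfsg.classInner (fun x : L => ρ.character x) (fun _ => 1)).re
        = (Module.finrank ℂ (Representation.invariants (ρ.comp L.subtype)) : ℝ) := by
    intro L _
    haveI : Invertible (Nat.card L : ℂ) := invertibleOfNonzero H12.card_ne_zero'
    have h := Representation.card_inv_mul_sum_char_eq_finrank (ρ.comp L.subtype)
    rw [H12.classInner_def]
    simp only [map_one, mul_one]
    have h' : (Nat.card L : ℂ)⁻¹ * ∑ x : L, ρ.character x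
        = (Module.finrank ℂ (Representation.invariants (ρ.comp L.subtype)) : ℂ) := h
    rw [h', Complex.natCast_re]
  rw [key, key, key] at hlt
  have hlt' : Module.finrank ℂ (Representation.invariants (ρ.comp (H₁ ⊓ H₂).subtype)) <
      Module.finrank ℂ (Representation.invariants (ρ.comp H₁.subtype))
        + Module.finrank ℂ (Representation.invariants (ρ.comp H₂.subtype)) := by exact_mod_cast hlt
  have hsup : (Representation.invariants (ρ.comp H₁.subtype)) ⊔ (Representation.invariants (ρ.comp H₂.subtype))
      ≤ (Representation.invariants (ρ.comp (H₁ ⊓ H₂).subtype)) := by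
    refine sup_le ?_ ?_
    · exact fun v hv x => hv ⟨x.1, x.2.1⟩
    · exact fun v hv x => hv ⟨x.1, x.2.2⟩
  have hd := Submodule.finrank_sup_add_finrank_inf_eq (Representation.invariants (ρ.comp H₁.subtype))
    (Representation.invariants (ρ.comp H₂.subtype))
  have hs := Submodule.finrank_mono hsup
  have hne : (Representation.invariants (ρ.comp H₁.subtype)) ⊓ (Representation.invariants (ρ.comp H₂.subtype)) ≠ ⊥ := by
    intro h
    rw [h, finrank_bot] at hd
    omega
  have hfix : ∀ v ∈ (Representation.invariants (ρ.comp H₁.subtype)) ⊓ (Representation.invariants (ρ.comp H₂.subtype)),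
      ∀ g : G, ρ g v = v := by
    intro v hv g
    have hg : g ∈ H₁ ⊔ H₂ := by rw [htop]; exact Subgroup.mem_top g
    let S : Subgroup G :=
      { carrier := {g | ρ g v = v}
        one_mem' := by simp
        mul_mem' := fun {a b} ha hb => by
          show ρ (a * b) v = v
          rw [map_mul, Module.End.mul_apply, show ρ b v = v from hb, show ρ a v = v from ha]
        inv_mem' := fun {a} ha => by
          show ρ a⁻¹ v = v
          conv_lhs => rw [← (show ρ a v = v from ha), ← Module.End.mul_apply, ← map_mul,
            inv_mul_cancel, map_one]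
          rfl }
    exact (sup_le (fun x hx => hv.1 ⟨x, hx⟩) (fun x hx => hv.2 ⟨x, hx⟩) : H₁ ⊔ H₂ ≤ S) hg
  haveI := hρ
  have htop' := H13.eq_top_of_irreducible ρ _
    (fun g v hv => by rw [hfix v hv g]; exact hv) hne
  have hid : ∀ g : G, ρ g = 1 := fun g =>
    LinearMap.ext fun v => hfix v (htop' ▸ Submodule.mem_top) g
  have hab : ∀ v : Fin n → ℂ, ∀ g : G, ρ g v = v := fun v g => by rw [hid]; rfl
  apply hχ1
  have hn : n = 1 := by
    have h1 := H12.classInner_character_self ρ
    rw [H12.classInner_def] at h1
    simp only [Representation.character, hid, LinearMap.trace_one] at h1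
    simp only [Module.finrank_fintype_fun_eq_card, Fintype.card_fin, Complex.conj_natCast,
      Finset.sum_const, Finset.card_univ, nsmul_eq_mul, ← Nat.card_eq_fintype_card, ← mul_assoc,
      inv_mul_cancel₀ (H12.card_ne_zero' (G := G)), one_mul] at h1
    simp only [Nat.card_fin] at h1
    have h2 : n * n = 1 := by exact_mod_cast h1
    exact Nat.eq_one_of_mul_eq_one_right h2
  subst hn
  funext g
  simp [Representation.character, hid]

end Cfsg.Agent.S0192
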