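import Cfsg.Statements.S0194
import Cfsg.Agent.H13.Clifford
import Cfsg.Agent.H13.PermutationLemma

set_option autoImplicit false
open scoped ComplexConjugate
open Cfsg

namespace Cfsg.Agent.S0194

/-- Let G have odd order, H be a normal subgroup and θ a non-principal irreducible character of H. Then the function induced from θ is orthogonal to its complex conjugate. -/
theorem result {G : Type*} [Group G] [Fintype G] (hodd : Odd (Nat.card G)) (H : Subgroup G) [H.Normal] (θ : H → ℂ) (hθ : Cfsg.IsIrrCharacter H θ) (hθ1 : θ ≠ fun _ => 1) : Cfsg.classInner (fun g => conj (Cfsg.indFun H θ g)) (Cfsg.indFun H θ) = 0 := by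
  classical
  have hc : (fun g => conj (Cfsg.indFun H θ g)) = Cfsg.indFun H (fun h => conj (θ h)) := by
    funext g
    simp only [Cfsg.indFun, map_mul, map_inv₀, Complex.conj_natCast, map_sum]
    congr 1
    refine Finset.sum_congr rfl fun x _ => ?_
    by_cases h : x⁻¹ * g * x ∈ H
    · simp only [H13.extendByZero_mem _ _ h]
    · simp only [H13.extendByZero_notMem _ _ h, map_zero]
  rw [hc, H13.classInner_indFun_indFun H (H12.isIrrCharacter_conj hθ) hθ]
  have hempty : IsEmpty {x : G // H13.twist H x (fun h => conj (θ h)) = θ} := by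
    constructor
    rintro ⟨x, hx⟩
    have hsq : x ^ 2 ∈ H13.inertia H θ := by
      rw [H13.mem_inertia]
      funext n
      have h1 := congrArg (starRingEnd ℂ)
        (congrFun hx ⟨x * (n : G) * x⁻¹, Subgroup.Normal.conj_mem inferInstance (n : G) n.2 x⟩)
      have h2 := congrFun hx n
      simp only [H13.twist_apply, Complex.conj_conj] at h1 h2 ⊢
      rw [h2] at h1
      rw [← h1]
      exact congrArg θ (Subtype.ext (by simp [pow_two, mul_assoc]))
    obtain ⟨k, hk⟩ := hodd
    have hx1 : x = (x ^ 2) ^ (k + 1) := by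
      rw [← pow_mul, show 2 * (k + 1) = (2 * k + 1) + 1 by ring, pow_succ, ← hk,
        pow_card_eq_one', one_mul]
    have hmem : x ∈ H13.inertia H θ := hx1 ▸ Subgroup.pow_mem _ hsq _
    have hH : Odd (Nat.card H) := Odd.of_dvd_nat ⟨k, hk⟩ (Subgroup.card_subgroup_dvd_card H)
    refine hθ1 (H13.eq_one_of_real_of_odd hH hθ fun n => ?_)
    have hn : n = ⟨x * ((⟨x⁻¹ * n * x, by
        simpa using Subgroup.Normal.conj_mem inferInstance (n : G) n.2 x⁻¹⟩ : H) : G) * x⁻¹,
        by simpa [mul_assoc] using n.2⟩ := Subtype.ext (by simp [mul_assoc])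
    have a := congrFun hx ⟨x⁻¹ * n * x, by
      simpa using Subgroup.Normal.conj_mem inferInstance (n : G) n.2 x⁻¹⟩
    have b := congrFun ((H13.mem_inertia H).1 hmem) ⟨x⁻¹ * n * x, by
      simpa using Subgroup.Normal.conj_mem inferInstance (n : G) n.2 x⁻¹⟩
    simp only [H13.twist_apply] at a b
    rw [← hn] at a b
    rw [a, b]
  simp

end Cfsg.Agent.S0194
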