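import Cfsg.Statements.S0211
import Cfsg.Agent.H65.Dihedral

set_option autoImplicit false
open Cfsg

namespace Cfsg.Agent.S0211

/-- Let x, y be involutions with xy of even order n and z = (xy)^(n/2). Then xz is conjugate to x by an element of the subgroup generated by x, y if and only if 4 divides n. -/
theorem result {G : Type*} [Group G] [Finite G] (x y : G) (hx : orderOf x = 2) (hy : orderOf y = 2) (heven : Even (orderOf (x * y))) : (∃ d ∈ Subgroup.closure ({x, y} : Set G), d * x * d⁻¹ = x * (x * y) ^ (orderOf (x * y) / 2)) ↔ 4 ∣ orderOf (x * y) := by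
  rw [H65.conj_left_mem_closure_iff hx hy]
  obtain ⟨m, hm⟩ := heven
  have hpos := orderOf_pos (x * y)
  have hm2 : orderOf (x * y) / 2 = m := by omega
  rw [hm2]
  constructor
  · rintro ⟨j, hj⟩
    have h1 : (x * y) ^ (m : ℤ) = (x * y) ^ (2 * j) := by
      rw [zpow_natCast]; exact mul_left_cancel hj
    obtain ⟨b, hb⟩ := Int.ModEq.dvd (zpow_eq_zpow_iff_modEq.1 h1)
    rw [hm] at hb
    have h2 : (2 : ℤ) ∣ m := ⟨j - (m : ℤ) * b, by push_cast at hb; linarith⟩
    omega
  · intro h4
    obtain ⟨l, hl⟩ : 2 ∣ m := by omega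
    refine ⟨(l : ℤ), ?_⟩
    rw [← zpow_natCast, hl]
    push_cast
    rfl

end Cfsg.Agent.S0211
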