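import Cfsg.Statements.S0216
import Cfsg.Agent.H65.Dihedral

set_option autoImplicit false
open Cfsg

namespace Cfsg.Agent.S0216

/-- For an involution u in a Sylow 2-subgroup P of a finite group G, the following are equivalent: no G-conjugate of u other than u lies in P; every commutator of u with an element of G has odd order. -/
theorem result {G : Type*} [Group G] [Finite G] (P : Sylow 2 G) (u : G) (hu : orderOf u = 2) (huP : u ∈ P) : (∀ g : G, g * u * g⁻¹ ∈ P → g * u * g⁻¹ = u) ↔ (∀ g : G, Odd (orderOf (u * g * u⁻¹ * g⁻¹))) := by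
  constructor
  · intro hiso g
    have e : u * g * u⁻¹ * g⁻¹ = u * (g * u * g⁻¹) := by
      conv_lhs => rw [H65.inv_of_two hu]
      group
    rw [e]
    exact H65.isolated_odd hu hiso (IsConj.refl u) (isConj_iff.2 ⟨g, rfl⟩)
  · intro h g hg
    have e : u * g * u⁻¹ * g⁻¹ = u * (g * u * g⁻¹) := by
      conv_lhs => rw [H65.inv_of_two hu]
      group
    have hodd := h g
    rw [e] at hodd
    have hmem : u * (g * u * g⁻¹) ∈ (P : Subgroup G) := mul_mem huP hg
    obtain ⟨k, hk⟩ := IsPGroup.iff_orderOf.1 P.2 ⟨_, hmem⟩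
    rw [Subgroup.orderOf_mk] at hk
    rcases k with _ | k
    · rw [pow_zero, orderOf_eq_one_iff] at hk
      rw [eq_inv_of_mul_eq_one_right hk, H65.inv_of_two hu]
    · rw [hk] at hodd
      exact absurd hodd (Nat.not_odd_iff_even.2 ⟨2 ^ k, by ring⟩)

end Cfsg.Agent.S0216
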