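import Cfsg.Statements.S0225
import Cfsg.Agent.H85.BrauerSuzuki

set_option autoImplicit false
open Cfsg

namespace Cfsg.Agent.S0225

/-- If a finite group G has even order but contains no Klein four-subgroup (2-rank 1), then some involution z of G is central modulo a normal subgroup of odd order: there is a normal subgroup N of odd order containing every commutator z g z⁻¹ g⁻¹. -/
theorem result {G : Type*} [Group G] [Finite G] (heven : Even (Nat.card G)) (hrank : ∀ E : Subgroup G, ¬ IsKleinFour E) : ∃ z : G, orderOf z = 2 ∧ ∃ N : Subgroup G, N.Normal ∧ Odd (Nat.card N) ∧ ∀ g : G, z * g * z⁻¹ * g⁻¹ ∈ N := by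
  haveI : Fact (Nat.Prime 2) := ⟨Nat.prime_two⟩
  obtain ⟨z, hz⟩ := exists_prime_orderOf_dvd_card' (G := G) 2 (even_iff_two_dvd.1 heven)
  have hzz := H66.mul_self_of_orderOf_two hz
  refine ⟨z, hz, Cfsg.pPrimeCore 2 G, H1.pPrimeCore_normal' 2 G,
    Nat.coprime_two_right.1 (H1.card_pPrimeCore_coprime 2 G),
    H85.zStar ⟨hz, fun g hg => ?_⟩⟩
  set t := g * z * g⁻¹ with ht
  by_contra hne
  have htt : t * t = 1 := by rw [ht, conj_mul, hzz, mul_one, mul_inv_cancel]
  have ht1 : t ≠ 1 := fun h => by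
    rw [ht, conj_eq_one_iff] at h
    rw [h, orderOf_one] at hz
    exact absurd hz (by norm_num)
  have hz1 : z ≠ 1 := fun h => by rw [h, orderOf_one] at hz; exact absurd hz (by norm_num)
  have hc : t * z = z * t := hg.eq.symm
  have h1 : z * (z * t) = t := by rw [← mul_assoc, hzz, one_mul]
  have h2 : t * (z * t) = z := by rw [← mul_assoc, hc, mul_assoc, htt, mul_one]
  have h3 : z * t * z = t := by rw [← hc, mul_assoc, hzz, mul_one]
  have h4 : z * t * t = z := by rw [mul_assoc, htt, mul_one]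
  have h5 : z * t * (z * t) = 1 := by rw [← mul_assoc, h3, htt]
  let E : Subgroup G :=
    { carrier := {1, z, t, z * t}
      one_mem' := by simp
      mul_mem' := by
        rintro a b (rfl | rfl | rfl | rfl) (rfl | rfl | rfl | rfl) <;>
          simp [hzz, htt, hc, h1, h2, h3, h4, h5]
      inv_mem' := by
        rintro a (rfl | rfl | rfl | rfl) <;>
          simp [H66.inv_eq_self_of_sq hzz, H66.inv_eq_self_of_sq htt,
            H66.inv_eq_self_of_sq h5] }
  refine hrank E ⟨?_, ?_⟩
  · classical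
    show Nat.card ↥({1, z, t, z * t} : Set G) = 4
    rw [Nat.card_coe_set_eq]
    have hzt1 : z * t ≠ 1 := fun h => hne (by
      rw [mul_eq_one_iff_eq_inv, H66.inv_eq_self_of_sq htt] at h; exact h.symm)
    have hzt2 : z * t ≠ z := fun h => ht1 (mul_eq_left.1 h)
    have hzt3 : z * t ≠ t := fun h => hz1 (mul_eq_right.1 h)
    rw [Set.ncard_insert_of_notMem (by simp [hz1.symm, ht1.symm, hzt1.symm]),
      Set.ncard_insert_of_notMem (by simp [Ne.symm hne, hzt2.symm]),
      Set.ncard_insert_of_notMem (by simp [hzt3.symm]), Set.ncard_singleton]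
  · haveI : Nontrivial E := ⟨⟨z, Or.inr (Or.inl rfl)⟩, 1, fun h => hz1 (congrArg Subtype.val h)⟩
    refine Monoid.exponent_eq_prime_iff Nat.prime_two |>.2 fun a ha => ?_
    refine orderOf_eq_prime_iff.2 ⟨?_, ha⟩
    obtain ⟨a, (rfl | rfl | rfl | rfl)⟩ := a <;> ext <;> simp [pow_two, hzz, htt, h5]

end Cfsg.Agent.S0225
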