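import Cfsg.Statements.S0229
import Cfsg.Agent.H65.Dihedral

set_option autoImplicit false
open Cfsg

namespace Cfsg.Agent.S0229

/-- Let t be an involution of a Sylow 2-subgroup S of a finite group G, conjugate in G to no other element of S, and let s be an involution of G not conjugate to t. Then the order of st is twice an odd number. -/
theorem result {G : Type*} [Group G] [Finite G] (S : Sylow 2 G) (t : G) (ht : orderOf t = 2) (htS : t ∈ S) (hiso : ∀ g : G, g * t * g⁻¹ ∈ S → g * t * g⁻¹ = t) (s : G) (hs : orderOf s = 2) (hns : ¬ IsConj s t) : orderOf (s * t) % 4 = 2 := by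
  obtain ⟨heven, -⟩ := H65.exists_commuting_of_not_isConj hs ht hns
  by_contra hne
  have h4 : 4 ∣ orderOf (t * s) := by
    have e : orderOf (t * s) = orderOf (s * t) := by
      rw [← orderOf_inv, mul_inv_rev, H65.inv_of_two hs, H65.inv_of_two ht]
    obtain ⟨m, hm⟩ := heven
    omega
  obtain ⟨l, hl⟩ := h4
  have hpos := orderOf_pos (t * s)
  have hzne : t * s ≠ 1 := fun h => by simp [h] at hl; omega
  obtain ⟨hz, hzt, -⟩ := H65.central_of_even ht hs hzne (isOfFinOrder_of_finite _) ⟨2 * l, by omega⟩
  set z := (t * s) ^ (orderOf (t * s) / 2) with hzdef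
  have hconj : IsConj t (t * z) := by
    obtain ⟨d, -, hd⟩ := (H65.conj_left_mem_closure_iff ht hs (w := t * z)).2 ⟨(l : ℤ), by
      rw [hzdef, ← zpow_natCast]
      congr 2
      omega⟩
    exact isConj_iff.2 ⟨d, hd⟩
  have ht2 := H65.two_of_isConj ht hconj
  have hP : IsPGroup 2 ↥(Subgroup.closure ({t, t * z} : Set G)) := by
    refine H65.isPGroup_closure_pair ht ht2 (k := 1) ?_
    rw [H65.mul_mul_self ht, hz]
    rfl
  have heq := H65.isolated_unique hiso hP (IsConj.refl t) hconj (Subgroup.subset_closure (by simp))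
    (Subgroup.subset_closure (by simp))
  exact H65.ne_one_of_two hz (mul_left_cancel (heq.symm.trans (mul_one t).symm))

end Cfsg.Agent.S0229
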