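import Cfsg.Statements.S0268
import Cfsg.Agent.H37.Two
-- import your own Cfsg.Agent.* helpers here

set_option autoImplicit false
open Cfsg

namespace Cfsg.Agent.S0268

/-- For q odd, -1 is the unique involution of SL_2(q). -/
theorem result {F : Type*} [Field F] [Fintype F] (hF : Odd (Fintype.card F)) (g : Matrix.SpecialLinearGroup (Fin 2) F) (h1 : g ≠ 1) (h2 : g * g = 1) : (g : Matrix (Fin 2) (Fin 2) F) = -1 := by
  refine H37.involution_eq_neg_one (fun h => ?_) g h1 h2
  have h' := (FiniteField.even_card_of_char_two (F := F) (ringChar.eq_iff.2 (CharTwo.of_one_ne_zero_of_two_eq_zero one_ne_zero h)))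
  exact (Nat.not_even_iff_odd.2 hF) (Nat.even_iff.2 h')

end Cfsg.Agent.S0268
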