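import Cfsg.Statements.S0282
import Cfsg.Agent.H50.SU32Struct
-- import your own Cfsg.Agent.* helpers here

set_option autoImplicit false
open Cfsg

namespace Cfsg.Agent.S0282

/-- PSU_3(2) is a solvable group of order 72. -/
theorem result {F : Type*} [Field F] [Fintype F] (hF : Fintype.card F = 4) : Nat.card (Cfsg.PSU 3 F 2) = 72 ∧ Group.IsSolvable (Cfsg.PSU 3 F 2) := by
  obtain ⟨N, hN, h9, -, hcomm, ⟨e⟩, h72⟩ := H50.SU32S.structure_PSU32 hF
  refine ⟨h72, ?_⟩
  haveI := hN
  haveI : IsMulCommutative N := ⟨⟨fun a b => Subtype.ext (hcomm a a.2 b b.2)⟩⟩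
  haveI : Group.IsSolvable N := Group.isSolvable_of_comm fun a b => Subtype.ext (hcomm a a.2 b b.2)
  haveI : Fact (Nat.Prime 2) := ⟨Nat.prime_two⟩
  haveI : Group.IsNilpotent (QuaternionGroup 2) :=
    IsPGroup.isNilpotent (p := 2) (IsPGroup.of_card (n := 3) (by
      rw [Nat.card_eq_fintype_card, QuaternionGroup.card]; rfl))
  haveI : Group.IsSolvable (QuaternionGroup 2) := inferInstance
  haveI : Group.IsSolvable (Cfsg.PSU 3 F 2 ⧸ N) :=
    Group.isSolvable_of_isSolvable_injective (f := e.toMonoidHom) e.injective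
  exact Group.isSolvable_of_ker_le_range N.subtype (QuotientGroup.mk' N) (by simp)

end Cfsg.Agent.S0282
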