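import Cfsg.Statements.S0285
import Cfsg.Agent.H50.Count

set_option autoImplicit false
open Cfsg

namespace Cfsg.Agent.S0285

/-- The standard Hermitian form on F^n, |F| = q^2, has exactly (q^n - (-1)^n)(q^(n-1) + (-1)^n) non-zero isotropic vectors; counting the zero vector too: -/
theorem result {F : Type*} [Field F] [Fintype F] {q : ℕ} (hF : Fintype.card F = q ^ 2) (n : ℕ) : Nat.card {v : Fin n → F // Cfsg.hermForm n F q v v = 0} = (if Even n then (q ^ n - 1) * (q ^ (n - 1) + 1) else (q ^ n + 1) * (q ^ (n - 1) - 1)) + 1 := by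
  have h := H50.q_mul_norm_zero_count hF (n := n)
  have hq : (q : ℤ) ≠ 0 := by have := H50.two_le hF; omega
  rcases Nat.eq_zero_or_pos n with rfl | hn
  · rw [Nat.card_eq_one_iff_unique.2
      ⟨⟨fun a b => Subtype.ext (Subsingleton.elim _ _)⟩, ⟨⟨0, by simp [Cfsg.hermForm]⟩⟩⟩]
    simp
  obtain ⟨m, rfl⟩ := Nat.exists_eq_add_of_le' hn
  have h1 : 1 ≤ q ^ (m + 1) := Nat.one_le_pow _ _ (H50.q_pos hF)
  have h2 : 1 ≤ q ^ m := Nat.one_le_pow _ _ (H50.q_pos hF)
  apply Int.ofNat_inj.1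
  refine mul_left_cancel₀ hq (h.trans ?_)
  rcases Nat.even_or_odd (m + 1) with he | he
  · rw [if_pos he, Even.neg_one_pow he, Nat.add_sub_cancel]
    push_cast [Nat.cast_sub h1]
    ring
  · rw [if_neg (Nat.not_even_iff_odd.2 he), Odd.neg_one_pow he, Nat.add_sub_cancel]
    push_cast [Nat.cast_sub h2]
    ring

end Cfsg.Agent.S0285
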