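import Cfsg.Statements.S0298
import Cfsg.Agent.H38.Omega3

set_option autoImplicit false
open Cfsg

namespace Cfsg.Agent.S0298

/-- PΩ_3(q) is isomorphic to PSL_2(q) for q odd. -/
theorem result {F : Type*} [Field F] [Fintype F] (hodd : Odd (Fintype.card F)) : Nonempty (Cfsg.POmega F (Cfsg.quadFormOdd 1 F) ≃* Matrix.ProjectiveSpecialLinearGroup (Fin 2) F) := by
  classical
  have h2 : (2 : F) ≠ 0 := H38.two_ne_zero_of_odd hodd
  let e : (Unit ⊕ (Fin 1 ⊕ Fin 1) → F) ≃ₗ[F] F × (F × F) :=
    (H38.sumSplit F _ _).trans ((LinearEquiv.funUnique Unit F F).prodCongr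
      ((H38.sumSplit F _ _).trans ((LinearEquiv.funUnique (Fin 1) F F).prodCongr
        (LinearEquiv.funUnique (Fin 1) F F))))
  have he : ∀ v, H38.tzForm (e v) = id (Cfsg.quadFormOdd 1 F v) := fun v => by
    simp [e, H38.tzForm, Cfsg.quadFormOdd, H38.sumSplit_apply]
  let ψ := H38.liftIso (f := Cfsg.quadFormOdd 1 F) e id Function.injective_id he
    (H38.autOfEnd H38.adEnd) H38.adEnd_mem
  have hker : ψ.ker = Subgroup.center (Matrix.SpecialLinearGroup (Fin 2) F) := by
    ext A
    rw [MonoidHom.mem_ker, H38.liftIso_eq_one, H38.autOfEnd_eq_one_iff]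
    refine ⟨fun h => (H38.adEnd_ker h).2, fun h v => ?_⟩
    obtain ⟨c, hc, hA⟩ := Matrix.SpecialLinearGroup.mem_center_iff.mp h
    rw [Fintype.card_fin] at hc
    rw [H38.adEnd_apply, ← hA]
    have : (Matrix.scalar (Fin 2) c * H38.tzMat v * (Matrix.scalar (Fin 2) c).adjugate) =
        H38.tzMat v := by
      ext i j
      fin_cases i <;> fin_cases j <;>
        simp [H38.tzMat_apply, Matrix.adjugate_fin_two, Matrix.mul_apply, Fin.sum_univ_two] <;>
        first | linear_combination (v.1) * hc | linear_combination (-v.1) * hc |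
          linear_combination (v.2.1) * hc | linear_combination (v.2.2) * hc
    rw [this, H38.tzCoord_mat]
  have hidx : (Cfsg.Omega F (Cfsg.quadFormOdd 1 F)).index = 4 := by
    rw [← H43.coe_qOdd, H43.omega_index]
    exact H43.commutator_index_odd (H43.qOdd_nondeg h2 1) h2 (by rw [H43.finrank_qOdd]; omega)
  have hΩ : Nat.card (Cfsg.Omega F (Cfsg.quadFormOdd 1 F)) * Nat.card ψ.ker =
      Nat.card (Matrix.SpecialLinearGroup (Fin 2) F) := by
    have h1 := (Cfsg.Omega F (Cfsg.quadFormOdd 1 F)).card_mul_index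
    rw [hidx, H38.card_odd h2 1] at h1
    have h3 := H37.card_SL_fin (F := F) 2 (by omega)
    have hq : 1 < Fintype.card F := Fintype.one_lt_card
    obtain ⟨r, hr⟩ := hodd
    have hg : Nat.gcd 2 (Fintype.card F - 1) = 2 := Nat.gcd_eq_left ⟨r, by omega⟩
    rw [hker, H37.card_center_SL, Fintype.card_fin, Nat.card_eq_fintype_card (α := F), hg]
    simp only [Fin.prod_univ_two, Finset.prod_range_succ, Finset.prod_range_zero, one_mul,
      Nat.card_eq_fintype_card (α := F), zero_add, mul_one, one_pow, pow_one, Fin.val_zero, Fin.val_one,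
      pow_zero] at h1 h3
    have e1 : Fintype.card F ^ 2 - 1 = (Fintype.card F + 1) * (Fintype.card F - 1) := by
      simpa using Nat.sq_sub_sq (Fintype.card F) 1
    have e2 : Fintype.card F ^ 2 - Fintype.card F = Fintype.card F * (Fintype.card F - 1) := by
      rw [sq, Nat.mul_sub, mul_one]
    rw [e1] at h1 h3
    rw [e2] at h3
    have hpos : 0 < Fintype.card F - 1 := by omega
    apply Nat.eq_of_mul_eq_mul_left hpos
    rw [h3]
    nlinarith [h1]
  have hsq : H38.sqClosure (Matrix.SpecialLinearGroup (Fin 2) F) = ⊤ := H38.sqClosure_SL (Or.inl h2)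
  have hrange := H38.range_eq_Omega (H43.coe_qOdd 1 F) (H43.qOdd_nondeg h2 1)
    (H43.reflGenerates_of_two_ne_zero h2) (by simp) hsq ψ hΩ
  exact H38.nonempty_POmega_equiv hsq ψ hrange
    (fun g hg => H38.adEnd_ker ((H38.autOfEnd_eq_one_iff _ g).mp ((H38.liftIso_eq_one _ _ _ _ _ _ g).mp hg)))

end Cfsg.Agent.S0298
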