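import Cfsg.Statements.S0299
import Cfsg.Agent.H38.Omega4

set_option autoImplicit false
open Cfsg

namespace Cfsg.Agent.S0299

/-- PΩ^+_4(q) is isomorphic to PSL_2(q) x PSL_2(q) for q at least 3. -/
theorem result {F : Type*} [Field F] [Fintype F] (hF : 3 ≤ Fintype.card F) : Nonempty (Cfsg.POmega F (Cfsg.quadFormPlus 2 F) ≃* Matrix.ProjectiveSpecialLinearGroup (Fin 2) F × Matrix.ProjectiveSpecialLinearGroup (Fin 2) F) := by
  classical
  let S := Matrix.SpecialLinearGroup (Fin 2) F
  let ψ := H38.liftIso (f := Cfsg.quadFormPlus 2 F) (H38.detCoord F) id Function.injective_id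
    H38.detCoord_det (H38.autOfEnd H38.biEnd) H38.biEnd_mem
  have hmem : ∀ g, ψ g = 1 ↔ g.1 = g.2 ∧ g.2 ∈ Subgroup.center S := fun g => by
    rw [H38.liftIso_eq_one, H38.autOfEnd_eq_one_iff, H38.biEnd_eq_self_iff]
  have hker : Nat.card ψ.ker = Nat.gcd 2 (Fintype.card F - 1) := by
    have hcc : Nat.card (Subgroup.center S) = Nat.gcd 2 (Fintype.card F - 1) := by
      rw [H37.card_center_SL, Fintype.card_fin, Nat.card_eq_fintype_card]
    rw [← hcc]
    exact Nat.card_congr
      { toFun := fun g => ⟨g.1.2, ((hmem _).mp g.2).2⟩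
        invFun := fun c => ⟨(c.1, c.1), (hmem _).mpr ⟨rfl, c.2⟩⟩
        left_inv := fun g => Subtype.ext (Prod.ext ((hmem _).mp g.2).1.symm rfl)
        right_inv := fun c => rfl }
  have hgen : H43.ReflGenerates F (Fin 2 ⊕ Fin 2 → F) :=
    H43.reflGenerates_of_card (Or.inl (by omega))
  have hn : 2 ≤ Module.finrank F (Fin 2 ⊕ Fin 2 → F) := by rw [H43.finrank_qPlus]; omega
  have hQ := H43.qPlus_nondeg (F := F) 2
  have hsq1 : H38.sqClosure S = ⊤ := H38.sqClosure_SL (Or.inr (by
    by_contra h
    push Not at h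
    have hle : (Finset.univ : Finset F) ⊆ {0, 1} := fun x _ => by
      by_cases hx : x = 0 <;> simp [hx, h x]
    have := (Finset.card_le_card hle).trans Finset.card_le_two
    rw [Finset.card_univ] at this
    omega))
  have hsq := H38.sqClosure_prod hsq1 hsq1
  have hidx : (Cfsg.Omega F (Cfsg.quadFormPlus 2 F)).index * 1 =
      2 * Nat.gcd 2 (Fintype.card F - 1) := by
    rw [mul_one, ← H43.coe_qPlus, H43.omega_index]
    rcases Nat.even_or_odd (Fintype.card F) with he | ho
    · have h2 : (2 : F) = 0 := by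
        by_contra h
        have := FiniteField.odd_card_of_char_ne_two (F := F) (fun hc => h (by
          have : CharP F 2 := ringChar.of_eq hc; exact CharTwo.two_eq_zero))
        rw [Nat.even_iff] at he; omega
      obtain ⟨r, hr⟩ := he
      rw [H43.commutator_index_even hQ hgen hn h2, Nat.gcd_rec,
        show (Fintype.card F - 1) % 2 = 1 by omega]
      simp
    · have h2 := H38.two_ne_zero_of_odd ho
      obtain ⟨r, hr⟩ := ho
      rw [H43.commutator_index_odd hQ h2 hn, Nat.gcd_eq_left (show 2 ∣ Fintype.card F - 1 from ⟨r, by omega⟩)]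
  have hΩ : Nat.card (Cfsg.Omega F (Cfsg.quadFormPlus 2 F)) * Nat.card ψ.ker = Nat.card (S × S) := by
    have h1 := (Cfsg.Omega F (Cfsg.quadFormPlus 2 F)).card_mul_index
    rw [mul_one] at hidx
    rw [hidx, H38.card_plus 1] at h1
    rw [hker, Nat.card_prod, H38.card_SL_two]
    simp only [Finset.prod_range_one, zero_add, one_mul, mul_one] at h1
    apply Nat.eq_of_mul_eq_mul_left (show 0 < 2 by norm_num)
    linear_combination h1
  have hrange := H38.range_eq_Omega (H43.coe_qPlus 2 F) hQ hgen (by simp) hsq ψ hΩ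
  obtain ⟨e1⟩ := H38.nonempty_POmega_equiv hsq ψ hrange (fun g hg => by
    obtain ⟨h12, hc⟩ := (hmem g).mp hg
    obtain ⟨c, hc1, hA⟩ := Matrix.SpecialLinearGroup.mem_center_iff.mp hc
    have hsq2 : g.2 * g.2 = 1 := Subtype.ext (by
      rw [Matrix.SpecialLinearGroup.coe_mul, ← hA, ← map_mul, Matrix.SpecialLinearGroup.coe_one,
        show c * c = c ^ 2 by ring, show c ^ 2 = 1 from hc1, map_one])
    refine ⟨Prod.ext (by simpa [h12] using hsq2) hsq2, ?_⟩
    rw [Subgroup.mem_center_iff] at hc ⊢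
    exact fun x => Prod.ext (by simpa [h12] using hc x.1) (hc x.2))
  let φ : S × S →* Matrix.ProjectiveSpecialLinearGroup (Fin 2) F × Matrix.ProjectiveSpecialLinearGroup (Fin 2) F :=
    (QuotientGroup.mk' (Subgroup.center S)).prodMap (QuotientGroup.mk' (Subgroup.center S))
  have hφ : Function.Surjective φ :=
    (QuotientGroup.mk'_surjective _).prodMap (QuotientGroup.mk'_surjective _)
  have hk : φ.ker = Subgroup.center (S × S) := by
    rw [MonoidHom.ker_prodMap, QuotientGroup.ker_mk', Subgroup.center_prod]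
  exact ⟨e1.trans ((QuotientGroup.quotientMulEquivOfEq hk.symm).trans
    (QuotientGroup.quotientKerEquivOfSurjective φ hφ))⟩

end Cfsg.Agent.S0299
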