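import Cfsg.Statements.S0300
import Cfsg.Agent.H38.Omega4
import Cfsg.Agent.H38.Omega4Minus
-- import your own Cfsg.Agent.* helpers here

set_option autoImplicit false
open Cfsg

namespace Cfsg.Agent.S0300

/-- PΩ^-_4(q) is isomorphic to PSL_2(q^2). -/
theorem result {F K : Type*} [Field F] [Fintype F] [Field K] [Fintype K] {q : ℕ} (hF : Fintype.card F = q) (hK : Fintype.card K = q ^ 2) (a b : F) (hab : ∀ z₁ z₂ : F, z₁ ^ 2 + a * z₁ * z₂ + b * z₂ ^ 2 = 0 → z₁ = 0 ∧ z₂ = 0) : Nonempty (Cfsg.POmega F (Cfsg.quadFormMinus 1 F a b) ≃* Matrix.ProjectiveSpecialLinearGroup (Fin 2) K) := by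
  classical
  obtain ⟨ι, θ, -, -, -, hbij, hfixq, hnorm⟩ := H38.exists_quadExt hF hK a b hab
  letI : Algebra F K := ι.toAlgebra
  let σ : K →ₐ[F] K := FiniteField.frobeniusAlgHom F K
  have hσq : ∀ z, σ z = z ^ q := fun z => by simp [σ, hF]
  have hσ : ∀ z, σ (σ z) = z := fun z => by
    rw [hσq, hσq, ← pow_mul, ← sq, ← hK, FiniteField.pow_card]
  have hfix : ∀ z, σ z = z → ∃ x, algebraMap F K x = z := fun z hz => (hfixq z).mp (by rw [← hσq, hz])
  obtain ⟨r, hr'⟩ := LinearMap.exists_leftInverse_of_injective (Algebra.linearMap F K)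
    (LinearMap.ker_eq_bot.mpr ι.injective)
  have hr : ∀ x, r (algebraMap F K x) = x := fun x => LinearMap.congr_fun hr' x
  let l : (F × F) →ₗ[F] K :=
    (Algebra.linearMap F K).coprod ((LinearMap.mulRight F θ).comp (Algebra.linearMap F K))
  let le : (F × F) ≃ₗ[F] K := LinearEquiv.ofBijective l hbij
  let e : ((Fin 1 ⊕ Fin 1) ⊕ Fin 2 → F) ≃ₗ[F] (F × F) × K :=
    (H38.sumSplit F _ _).trans (((H38.sumSplit F _ _).trans
      ((LinearEquiv.funUnique (Fin 1) F F).prodCongr (LinearEquiv.funUnique (Fin 1) F F))).prodCongr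
        ((LinearEquiv.finTwoArrow F F).trans le))
  have he : ∀ v, H38.herForm σ (e v) = ι (Cfsg.quadFormMinus 1 F a b v) := fun v => by
    have hev : e v = ((v (.inl (.inl 0)), v (.inl (.inr 0))), ι (v (.inr 0)) + ι (v (.inr 1)) * θ) := rfl
    rw [hev, H38.herForm, H38.herMat_apply, Matrix.det_fin_two_of, hσq, ← pow_succ', hnorm]
    simp [Cfsg.quadFormMinus, RingHom.algebraMap_toAlgebra]
    ring
  let S := Matrix.SpecialLinearGroup (Fin 2) K
  let ψ := H38.liftIso (f := Cfsg.quadFormMinus 1 F a b) e ι ι.injective he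
    (H38.autOfEnd (H38.herEnd hσ hfix hr)) (H38.herEnd_mem hσ hfix hr)
  have hmem : ∀ g, ψ g = 1 ↔ g ∈ Subgroup.center S := fun g => by
    rw [H38.liftIso_eq_one, H38.autOfEnd_eq_one_iff, H38.herEnd_eq_self_iff]
  have hq : 2 ≤ q := hF ▸ Fintype.one_lt_card
  have hker : Nat.card ψ.ker = Nat.gcd 2 (q - 1) := by
    rw [show ψ.ker = Subgroup.center S from Subgroup.ext fun g => hmem g, H37.card_center_SL,
      Fintype.card_fin, Nat.card_eq_fintype_card, hK]
    have e : (q ^ 2 - 1) % 2 = (q - 1) % 2 := by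
      have h1 : q ^ 2 % 2 = q % 2 := by
        rcases Nat.mod_two_eq_zero_or_one q with h | h <;> simp [Nat.pow_mod, h]
      have h2 : q ≤ q ^ 2 := Nat.le_self_pow two_ne_zero q
      omega
    rw [Nat.gcd_rec 2 (q ^ 2 - 1), Nat.gcd_rec 2 (q - 1), e]
  have hperf : commutator S = ⊤ := H38.sl2_perfect (by rw [hK]; nlinarith)
  have hS : Nat.card S = q ^ 2 * (q ^ 4 - 1) := by
    rw [H38.card_SL_two, hK, ← pow_mul]
  have hO : Nat.card (Cfsg.isometryGroup F (Cfsg.quadFormMinus 1 F a b)) = 2 * (q ^ 2 * (q ^ 4 - 1)) := by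
    rw [H38.card_minus 1 a b hab, Finset.prod_range_one, hF]
    simp only [zero_add, mul_one, one_mul]
    rw [show q ^ 4 - 1 = (q ^ 2 + 1) * (q ^ 2 - 1) by
      rw [← Nat.sq_sub_sq (q ^ 2) 1, ← pow_mul, one_pow]]
    ring
  have hle : Nat.card (Cfsg.Omega F (Cfsg.quadFormMinus 1 F a b)) * Nat.card ψ.ker ≤ Nat.card S := by
    have h1 := (Cfsg.Omega F (Cfsg.quadFormMinus 1 F a b)).card_mul_index
    by_cases hq2 : q = 2
    · have hidx : ψ.range.index = 2 := by
        have h2 := ψ.range.card_mul_index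
        rw [← Subgroup.index_ker] at h2
        have h3 := ψ.ker.card_mul_index
        rw [hker, hS] at h3
        rw [hO] at h2
        subst hq2
        norm_num at h2 h3
        rw [h3] at h2
        omega
      have hΩ : Cfsg.Omega F (Cfsg.quadFormMinus 1 F a b) ≤ ψ.range := H38.commutator_le_of_index_two hidx
      calc _ ≤ Nat.card ψ.range * Nat.card ψ.ker :=
            Nat.mul_le_mul_right _ (Subgroup.card_le_of_le hΩ)
        _ = Nat.card S := by rw [← Subgroup.index_ker, mul_comm, Subgroup.card_mul_index]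
    · have hgen : H43.ReflGenerates F ((Fin 1 ⊕ Fin 1) ⊕ Fin 2 → F) :=
        H43.reflGenerates_of_card (Or.inl (by omega))
      have hn : 2 ≤ Module.finrank F ((Fin 1 ⊕ Fin 1) ⊕ Fin 2 → F) := by simp
      have hQ := H43.qMinus_nondeg (F := F) 1 hab
      have hidx : (Cfsg.Omega F (Cfsg.quadFormMinus 1 F a b)).index = 2 * Nat.gcd 2 (q - 1) := by
        rw [← H43.coe_qMinus, H43.omega_index]
        rcases Nat.even_or_odd q with he2 | ho
        · have h2 : (2 : F) = 0 := by
            by_contra h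
            have h' := FiniteField.odd_card_of_char_ne_two (F := F) (fun hc => h (by
              have : CharP F 2 := ringChar.of_eq hc; exact CharTwo.two_eq_zero))
            rw [Nat.even_iff] at he2; rw [hF] at h'; omega
          obtain ⟨c, hc⟩ := he2
          rw [H43.commutator_index_even hQ hgen hn h2, Nat.gcd_rec,
            show (q - 1) % 2 = 1 by omega]
          simp
        · have h2 := H38.two_ne_zero_of_odd (F := F) (hF ▸ ho)
          obtain ⟨c, hc⟩ := ho
          rw [H43.commutator_index_odd hQ h2 hn, Nat.gcd_eq_left (show 2 ∣ q - 1 from ⟨c, by omega⟩)]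
      rw [hidx, hO] at h1
      rw [hker, hS]
      exact le_of_eq (Nat.eq_of_mul_eq_mul_left (show 0 < 2 by norm_num) (by linear_combination h1))
  have hrange := H38.range_eq_Omega_of_perfect hperf ψ hle
  exact H38.nonempty_POmega_equiv (H38.sqClosure_of_perfect hperf) ψ hrange fun g hg => by
    have hc := (hmem g).mp hg
    refine ⟨?_, hc⟩
    obtain ⟨c, hc1, hA⟩ := Matrix.SpecialLinearGroup.mem_center_iff.mp hc
    refine Subtype.ext ?_
    rw [Matrix.SpecialLinearGroup.coe_mul, ← hA, ← map_mul, Matrix.SpecialLinearGroup.coe_one,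
      show c * c = c ^ 2 by ring, show c ^ 2 = 1 from hc1, map_one]

end Cfsg.Agent.S0300
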