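import Cfsg.Statements.S0301
import Cfsg.Agent.H38.Omega5
-- import your own Cfsg.Agent.* helpers here

set_option autoImplicit false
open Cfsg

namespace Cfsg.Agent.S0301

/-- PΩ_5(q) is isomorphic to PSp_4(q) for q odd. -/
theorem result {F : Type*} [Field F] [Fintype F] (hodd : Odd (Fintype.card F)) : Nonempty (Cfsg.POmega F (Cfsg.quadFormOdd 2 F) ≃* Cfsg.PSp 2 F) := by
  classical
  have h2 : (2 : F) ≠ 0 := H38.two_ne_zero_of_odd hodd
  have h3 : 3 ≤ Fintype.card F := by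
    have := Fintype.one_lt_card (α := F)
    obtain ⟨c, hc⟩ := hodd
    omega
  let ψ := H38.liftIso (f := Cfsg.quadFormOdd 2 F) (Q' := fun v => H38.pf4 (H38.emb5 (F := F) v))
    (LinearEquiv.refl F _) id Function.injective_id (fun v => H38.pf4_emb v)
    (H38.autOfEnd H38.spEnd) H38.spEnd_mem
  have hmem : ∀ g, ψ g = 1 ↔ ∃ c : F, c ^ 2 = 1 ∧
      (g : Matrix (Fin 2 ⊕ Fin 2) (Fin 2 ⊕ Fin 2) F) = Matrix.scalar _ c := fun g =>
    (H38.liftIso_eq_one _ _ _ _ _ _ g).trans ((H38.autOfEnd_eq_one_iff _ g).trans (H38.spEnd_eq_self_iff h2 g))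
  have hker : Nat.card ψ.ker = Nat.gcd 2 (Fintype.card F - 1) := by
    rw [← H38.card_sq_eq_one (F := F)]
    exact (Nat.card_eq_of_bijective
      (fun c : {c : F // c ^ 2 = 1} =>
        (⟨⟨Matrix.scalar _ c.1, H38.scalar_mem_symplectic c.2⟩, (hmem _).mpr ⟨c.1, c.2, rfl⟩⟩ : ψ.ker))
      ⟨fun c d h => Subtype.ext (Matrix.scalar_inj.mp
          (congrArg (fun g : ψ.ker => (g.1 : Matrix (Fin 2 ⊕ Fin 2) (Fin 2 ⊕ Fin 2) F)) h)),
       fun g => by
        obtain ⟨c, hc, hg⟩ := (hmem _).mp g.2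
        exact ⟨⟨c, hc⟩, Subtype.ext (Subtype.ext hg.symm)⟩⟩).symm
  have hperf : commutator (Matrix.symplecticGroup (Fin 2) F) = ⊤ :=
    H48.perfect (Or.inr (Or.inl ⟨by simp, h3⟩))
  have hgen : H43.ReflGenerates F (Unit ⊕ (Fin 2 ⊕ Fin 2) → F) :=
    H43.reflGenerates_of_two_ne_zero h2
  have hle : Nat.card (Cfsg.Omega F (Cfsg.quadFormOdd 2 F)) * Nat.card ψ.ker ≤
      Nat.card (Matrix.symplecticGroup (Fin 2) F) := by
    have h1 := (Cfsg.Omega F (Cfsg.quadFormOdd 2 F)).card_mul_index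
    rw [H38.omega_index_gcd (H43.coe_qOdd 2 F) (H43.qOdd_nondeg h2 2) hgen (by simp), H38.card_odd h2 2] at h1
    rw [hker, H48.card_sp, Fintype.card_fin]
    simp only [Finset.prod_range_succ, Finset.prod_range_zero, zero_add, one_mul, mul_one] at h1 ⊢
    exact le_of_eq (Nat.eq_of_mul_eq_mul_left (show 0 < 2 by norm_num) (by linear_combination h1))
  have hrange := H38.range_eq_Omega_of_perfect hperf ψ hle
  exact H38.nonempty_POmega_equiv (H38.sqClosure_of_perfect hperf) ψ hrange fun g hg => by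
    obtain ⟨c, hc, hA⟩ := (hmem g).mp hg
    refine ⟨Subtype.ext ?_, Subgroup.mem_center_iff.mpr fun x => Subtype.ext ?_⟩
    · show (g : Matrix (Fin 2 ⊕ Fin 2) (Fin 2 ⊕ Fin 2) F) * g = 1
      rw [hA, ← map_mul, ← sq, hc, map_one]
    · show (x : Matrix (Fin 2 ⊕ Fin 2) (Fin 2 ⊕ Fin 2) F) * g = g * x
      rw [hA]
      exact (Matrix.scalar_commute c (fun r => Commute.all c r) _).symm.eq

end Cfsg.Agent.S0301
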