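import Cfsg.Statements.S0302
import Cfsg.Agent.H38.Omega6
-- import your own Cfsg.Agent.* helpers here

set_option autoImplicit false
open Cfsg

namespace Cfsg.Agent.S0302

/-- PΩ^+_6(q) is isomorphic to PSL_4(q). -/
theorem result {F : Type*} [Field F] [Fintype F] : Nonempty (Cfsg.POmega F (Cfsg.quadFormPlus 3 F) ≃* Matrix.ProjectiveSpecialLinearGroup (Fin 4) F) := by
  classical
  let S := Matrix.SpecialLinearGroup (Fin 4) F
  let ψ := H38.liftIso (f := Cfsg.quadFormPlus 3 F) (Q' := H38.pf4) (LinearEquiv.refl F _) id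
    Function.injective_id (fun v => H38.pf4_eq v) (H38.autOfEnd H38.altEnd) H38.altEnd_mem
  have hmem : ∀ g : Matrix.SpecialLinearGroup (Fin 4) F, ψ g = 1 ↔
      ∃ c : F, c ^ 2 = 1 ∧ (g : Matrix (Fin 4) (Fin 4) F) = Matrix.scalar (Fin 4) c := fun g => by
    exact (H38.liftIso_eq_one _ _ _ _ _ _ g).trans ((H38.autOfEnd_eq_one_iff _ g).trans (H38.altEnd_eq_self_iff g))
  have hker : Nat.card ψ.ker = Nat.gcd 2 (Fintype.card F - 1) :=
    H38.card_ker_scalar (by simp; decide) ψ hmem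
  have hperf : commutator S = ⊤ := H37.commutator_SL_eq_top (by simp)
  have hgen : H43.ReflGenerates F (Fin 3 ⊕ Fin 3 → F) :=
    H43.reflGenerates_of_card (Or.inr (by rw [H43.finrank_qPlus]; omega))
  have hle : Nat.card (Cfsg.Omega F (Cfsg.quadFormPlus 3 F)) * Nat.card ψ.ker ≤ Nat.card S := by
    have h1 := (Cfsg.Omega F (Cfsg.quadFormPlus 3 F)).card_mul_index
    rw [H38.omega_index_gcd (H43.coe_qPlus 3 F) (H43.qPlus_nondeg 3) hgen (by simp), H38.card_plus 2] at h1
    rw [hker, H38.card_SL_four]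
    simp only [Finset.prod_range_succ, Finset.prod_range_zero, zero_add, one_mul, mul_one] at h1
    exact le_of_eq (Nat.eq_of_mul_eq_mul_left (show 0 < 2 by norm_num) (by linear_combination h1))
  have hrange := H38.range_eq_Omega_of_perfect hperf ψ hle
  exact H38.nonempty_POmega_equiv (H38.sqClosure_of_perfect hperf) ψ hrange fun g hg => by
    obtain ⟨c, hc, hA⟩ := (hmem g).mp hg
    refine ⟨Subtype.ext ?_, Matrix.SpecialLinearGroup.mem_center_iff.mpr ⟨c, ?_, hA.symm⟩⟩
    · rw [Matrix.SpecialLinearGroup.coe_mul, hA, ← map_mul, Matrix.SpecialLinearGroup.coe_one, ← sq,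
        hc, map_one]
    · rw [Fintype.card_fin, show (4 : ℕ) = 2 * 2 from rfl, pow_mul, hc, one_pow]

end Cfsg.Agent.S0302
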