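import Cfsg.Statements.S0305
import Cfsg.Agent.H38.StdForms

set_option autoImplicit false
open Cfsg

namespace Cfsg.Agent.S0305

/-- GO^+_2(q) is dihedral of order 2(q-1). -/
theorem result {F : Type*} [Field F] [Fintype F] {q : ℕ} (hF : Fintype.card F = q) : Nonempty (Cfsg.isometryGroup F (Cfsg.quadFormPlus 1 F) ≃* DihedralGroup (q - 1)) := by
  subst hF
  have hq : 1 < Fintype.card F := Fintype.one_lt_card
  have : NeZero (Fintype.card F - 1) := ⟨by omega⟩
  have hcard : Nat.card (Cfsg.isometryGroup F (Cfsg.quadFormPlus 1 F)) =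
      2 * (Fintype.card F - 1) := by simpa using H38.card_plus (F := F) 0
  let e : (Fin 1 ⊕ Fin 1 → F) ≃ₗ[F] F × F :=
    (H38.sumSplit F _ _).trans ((LinearEquiv.funUnique (Fin 1) F F).prodCongr
      (LinearEquiv.funUnique (Fin 1) F F))
  let E := H38.isometryGroupCongr (Q := Cfsg.quadFormPlus 1 F) (Q' := fun v : F × F => v.1 * v.2) e
    (fun v => by simp [e, Cfsg.quadFormPlus, H38.sumSplit_apply])
  let φ : Fˣ →* ((F × F) ≃ₗ[F] (F × F)) := MonoidHom.mk'
    (fun u => (LinearEquiv.smulOfUnit u).prodCongr (LinearEquiv.smulOfUnit u⁻¹))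
    (fun u v => by
      apply LinearEquiv.ext; intro w
      simp only [LinearEquiv.mul_apply, LinearEquiv.prodCongr_apply]
      simp [LinearEquiv.smulOfUnit, mul_smul, smul_comm v⁻¹ u⁻¹])
  have hφ : ∀ (u : Fˣ) (w : F × F), φ u w = ((u : F) * w.1, ((u⁻¹ : Fˣ) : F) * w.2) := fun u w => rfl
  have hφinj : Function.Injective φ := fun u v h => by
    have := LinearEquiv.congr_fun h (1, 0)
    simpa [hφ, Units.ext_iff] using this
  have hφG : ∀ u, φ u ∈ H38.isoGroup F (fun v : F × F => v.1 * v.2) := fun u w => by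
    show (φ u w).1 * (φ u w).2 = w.1 * w.2
    rw [hφ]
    simp only [Units.val_inv_eq_inv_val]
    field_simp
  obtain ⟨ζ, hζ⟩ := IsCyclic.exists_generator (α := Fˣ)
  have hζo : orderOf ζ = Fintype.card F - 1 := by
    rw [orderOf_eq_card_of_forall_mem_zpowers hζ, Nat.card_units, Nat.card_eq_fintype_card]
  have hsG : LinearEquiv.prodComm F F F ∈ H38.isoGroup F (fun v : F × F => v.1 * v.2) :=
    fun w => mul_comm _ _
  obtain ⟨d⟩ := H38.nonempty_mulEquiv_dihedral
    (⟨φ ζ, hφG ζ⟩ : H38.isoGroup F (fun v : F × F => v.1 * v.2)) ⟨LinearEquiv.prodComm F F F, hsG⟩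
    (n := Fintype.card F - 1)
    (by rw [← Subgroup.orderOf_coe]; exact (orderOf_injective φ hφinj ζ).trans hζo)
    (by ext1; exact LinearEquiv.ext fun w => rfl)
    (by
      ext1; apply LinearEquiv.ext; intro w
      show (LinearEquiv.prodComm F F F) (φ ζ ((LinearEquiv.prodComm F F F) w)) = (φ ζ)⁻¹ w
      rw [← map_inv, hφ, hφ, inv_inv]
      rfl)
    (by
      intro hmem
      obtain ⟨k, hk⟩ := Subgroup.mem_zpowers_iff.mp hmem
      have h2 : φ (ζ ^ k) = LinearEquiv.prodComm F F F := by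
        rw [map_zpow]; exact congrArg Subtype.val hk
      have h3 := congrArg Prod.snd (LinearEquiv.congr_fun h2 (1, 0))
      rw [hφ] at h3
      simp at h3)
    (by rw [← hcard]; exact (Nat.card_congr E.toEquiv).symm)
  exact ⟨E.trans d⟩

end Cfsg.Agent.S0305
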