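import Cfsg.Statements.S0307
-- import your own Cfsg.Agent.* helpers here

set_option autoImplicit false
open Cfsg

namespace Cfsg.Agent.S0307

/-- PSL_n(q) is normal in PGL_n(q) with cyclic quotient of order gcd(n, q-1): the image of the natural map PSL_n → PGL_n is the kernel of a surjective homomorphism onto the cyclic group of that order. -/
theorem result {F : Type*} [Field F] [Fintype F] {q : ℕ} (hF : Fintype.card F = q) (n : ℕ) (hn : 1 ≤ n) : ∃ g : Matrix.ProjGenLinGroup (Fin n) F →* Multiplicative (ZMod (Nat.gcd n (q - 1))), Function.Surjective g ∧ g.ker = (Matrix.ProjectiveSpecialLinearGroup.toPGL : Matrix.ProjectiveSpecialLinearGroup (Fin n) F →* Matrix.ProjGenLinGroup (Fin n) F).range := by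
  classical
  subst hF
  let P : Subgroup Fˣ := (powMonoidHom n : Fˣ →* Fˣ).range
  let d : Matrix.GeneralLinearGroup (Fin n) F →* Fˣ ⧸ P :=
    (QuotientGroup.mk' P).comp Matrix.GeneralLinearGroup.det
  have hscal : ∀ u : Fˣ, Matrix.GeneralLinearGroup.det (Matrix.GeneralLinearGroup.scalar (Fin n) u) =
      u ^ n := fun u => by ext; simp
  have hle : Subgroup.center (Matrix.GeneralLinearGroup (Fin n) F) ≤ d.ker := by
    rw [Matrix.GeneralLinearGroup.center_eq_range_scalar]
    rintro _ ⟨u, rfl⟩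
    rw [MonoidHom.mem_ker, MonoidHom.comp_apply, hscal]
    exact (QuotientGroup.eq_one_iff _).mpr ⟨u, rfl⟩
  let g0 : Matrix.ProjGenLinGroup (Fin n) F →* Fˣ ⧸ P := QuotientGroup.lift _ d hle
  have hg0mk : ∀ M, g0 (Matrix.ProjGenLinGroup.mk M) = d M := fun M => rfl
  have hsurj : Function.Surjective g0 := by
    intro c
    obtain ⟨u, rfl⟩ := QuotientGroup.mk'_surjective P c
    have : Nonempty (Fin n) := ⟨⟨0, hn⟩⟩
    obtain ⟨M, hM⟩ := Matrix.GeneralLinearGroup.det_surjective (n := Fin n) u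
    exact ⟨Matrix.ProjGenLinGroup.mk M, by rw [hg0mk]; simp [d, hM]⟩
  haveI : IsCyclic (Fˣ ⧸ P) :=
    isCyclic_of_surjective (QuotientGroup.mk' P) (QuotientGroup.mk'_surjective P)
  have hcard : Nat.card (Fˣ ⧸ P) = Nat.card (Multiplicative (ZMod (Nat.gcd n (Fintype.card F - 1)))) := by
    rw [← Subgroup.index_eq_card, IsCyclic.index_powMonoidHom_range, Nat.card_units,
      Nat.card_eq_fintype_card, Nat.gcd_comm,
      Nat.card_congr Multiplicative.toAdd, Nat.card_zmod]
  let e := mulEquivOfCyclicCardEq hcard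
  refine ⟨e.toMonoidHom.comp g0, e.surjective.comp hsurj, ?_⟩
  ext x
  induction x using Matrix.ProjGenLinGroup.induction_on with | mk M =>
  rw [MonoidHom.mem_ker, MonoidHom.comp_apply, MulEquiv.coe_toMonoidHom, MulEquiv.map_eq_one_iff,
    hg0mk, MonoidHom.comp_apply, QuotientGroup.mk'_apply, QuotientGroup.eq_one_iff]
  constructor
  · rintro ⟨c, hc⟩
    have hc' : Matrix.GeneralLinearGroup.det M = c ^ n := hc.symm
    have hdet : (M * (Matrix.GeneralLinearGroup.scalar (Fin n) c)⁻¹ :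
        Matrix.GeneralLinearGroup (Fin n) F).det = 1 := by
      rw [map_mul, map_inv, hscal, hc', mul_inv_cancel]
    refine ⟨QuotientGroup.mk ⟨((M * (Matrix.GeneralLinearGroup.scalar (Fin n) c)⁻¹ :
      Matrix.GeneralLinearGroup (Fin n) F) : Matrix (Fin n) (Fin n) F), ?_⟩, ?_⟩
    · rw [← Matrix.GeneralLinearGroup.val_det_apply, hdet, Units.val_one]
    · show Matrix.ProjGenLinGroup.mk (Matrix.SpecialLinearGroup.toGL
        (⟨_, _⟩ : Matrix.SpecialLinearGroup (Fin n) F)) = _
      rw [Matrix.ProjGenLinGroup.mk_eq_mk_iff]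
      refine ⟨c, ?_⟩
      ext1
      rw [Units.val_mul]
      show (((M * (Matrix.GeneralLinearGroup.scalar (Fin n) c)⁻¹ :
        Matrix.GeneralLinearGroup (Fin n) F) : Matrix (Fin n) (Fin n) F)) * _ = _
      rw [← Units.val_mul, inv_mul_cancel_right]
  · rintro ⟨S, hS⟩
    obtain ⟨S, rfl⟩ := QuotientGroup.mk_surjective S
    rw [Matrix.ProjectiveSpecialLinearGroup.toPGL_mk, Matrix.ProjGenLinGroup.mk_eq_mk_iff] at hS
    obtain ⟨u, rfl⟩ := hS
    refine ⟨u, ?_⟩
    rw [map_mul, hscal, show Matrix.GeneralLinearGroup.det (Matrix.SpecialLinearGroup.toGL S) = 1 by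
      ext; simp, one_mul]
    rfl

end Cfsg.Agent.S0307
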