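import Cfsg.Statements.S0316
import Cfsg.Agent.H56.BNParabolic

set_option autoImplicit false
open Cfsg

namespace Cfsg.Agent.S0316

open H56

/-- The map `J ↦ P_J` is a lattice isomorphism from the power set of the set of distinguished generators onto the
subgroups containing `B`. -/
theorem result {G : Type*} [Group G] (P : Cfsg.BNPair G) :
    ∃ e : Set P.S ≃o {M : Subgroup G // P.B ≤ M},
      ∀ J : Set P.S, ((e J : {M : Subgroup G // P.B ≤ M}) : Subgroup G) = P.parabolic (Subtype.val '' J) := by
  have hsub : ∀ J : Set P.S, Subtype.val '' J ⊆ P.S := fun J => by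
    rintro x ⟨y, _, rfl⟩; exact y.2
  refine ⟨{ toFun := fun J => ⟨P.parabolic (Subtype.val '' J), B_le_parabolic P _⟩
            invFun := fun M => {s : P.S | (s : G) ∈ M.1}
            left_inv := ?_
            right_inv := ?_
            map_rel_iff' := ?_ }, fun J => rfl⟩
  · intro J
    ext s
    show (s : G) ∈ P.parabolic _ ↔ _
    rw [simple_mem_parabolic_iff P (hsub J) s.2]
    simp
  · intro M
    apply Subtype.ext
    show P.parabolic _ = M.1
    conv_rhs => rw [eq_parabolic_of_le P M.2]
    congr 1
    ext x
    simp [and_comm]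
  · intro J K
    show P.parabolic _ ≤ P.parabolic _ ↔ _
    rw [parabolic_le_iff P (hsub J) (hsub K), Set.image_subset_image_iff Subtype.val_injective]

end Cfsg.Agent.S0316
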