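import Cfsg.Statements.S0321
import Cfsg.Agent.H56.BNParabolic

set_option autoImplicit false
open Cfsg

namespace Cfsg.Agent.S0321

open H56

/-- For `n ∈ N` not in `B`, the union `B ∪ B n B` is (the underlying set of) a subgroup exactly when `n` agrees
modulo `B ⊓ N` with one of the distinguished representatives; thus the distinguished involutions are
determined by `B` and `N`. -/
theorem result {G : Type*} [Group G] (P : Cfsg.BNPair G) {n : G}
    (hn : n ∈ P.N) (hnB : n ∉ P.B) :
    (∃ H : Subgroup G, (H : Set G) = (P.B : Set G) ∪ DoubleCoset.doubleCoset n (P.B : Set G) P.B) ↔ ∃ s ∈ P.S, s⁻¹ * n ∈ P.B := by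
  constructor
  · rintro ⟨H, hH⟩
    have hBH : P.B ≤ H := fun b hb => by
      rw [← SetLike.mem_coe, hH]; exact Or.inl hb
    have hnH : n ∈ H := by
      rw [← SetLike.mem_coe, hH]; exact Or.inr (self_mem_cell P n)
    have hne : ∃ s ∈ P.S, s ∈ H := by
      by_contra hh
      push Not at hh
      have hH' := eq_parabolic_of_le P hBH
      have he : {s ∈ P.S | s ∈ H} = ∅ := by
        ext s; simpa using hh s
      rw [he] at hH'
      simp [Cfsg.BNPair.parabolic] at hH'
      exact hnB (hH' ▸ hnH)
    obtain ⟨s, hs, hsH⟩ := hne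
    refine ⟨s, hs, ?_⟩
    rw [← SetLike.mem_coe, hH] at hsH
    rcases hsH with h | h
    · exact absurd h (S_not_mem_B P hs)
    · exact (toW_eq_iff P).1 (eq_of_mem_cellW P (v := toW P ⟨s, P.subset hs⟩)
        (w := toW P ⟨n, hn⟩) (x := s)
        (by rw [cellW_toW]; exact self_mem_cell P s) (by rw [cellW_toW]; exact h))
  · rintro ⟨s, hs, hsn⟩
    refine ⟨P.parabolic {s}, ?_⟩
    have hJ : ({s} : Set G) ⊆ P.S := by simpa using hs
    ext g
    rw [SetLike.mem_coe, mem_parabolic_iff P hJ, Set.mem_union]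
    change _ ↔ g ∈ P.B ∨ g ∈ cell P n
    rw [cell_eq_of_inv_mul_mem P hsn]
    constructor
    · rintro ⟨m, hm, hg⟩
      rw [Subgroup.mem_closure_singleton] at hm
      obtain ⟨k, rfl⟩ := hm
      rcases Int.even_or_odd k with ⟨j, rfl⟩ | ⟨j, rfl⟩
      · left
        have hmem : s ^ (j + j) ∈ P.B := by
          rw [← two_mul, zpow_mul, zpow_two]
          exact zpow_mem (P.sq_mem s hs) j
        rwa [cell_eq_of_inv_mul_mem P (g := 1) (by simpa using hmem), cell_one] at hg
      · right
        have hmem : s ^ (2 * j) ∈ P.B := by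
          rw [zpow_mul, zpow_two]
          exact zpow_mem (P.sq_mem s hs) j
        rwa [zpow_add, zpow_one, cell_mul_left P hmem] at hg
    · rintro (h | h)
      · exact ⟨1, one_mem _, by rw [cell_one]; exact h⟩
      · exact ⟨s, Subgroup.subset_closure rfl, h⟩

end Cfsg.Agent.S0321
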