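import Cfsg.Statements.S0322
import Cfsg.Agent.H56.BNParabolic

set_option autoImplicit false
open Cfsg

namespace Cfsg.Agent.S0322

open H56

/-- A group with a (B,N)-pair of rank one acts doubly transitively on the left cosets of `B`. -/
theorem result {G : Type*} [Group G] (P : Cfsg.BNPair G) (h : P.rank = 1) : MulAction.IsMultiplyPretransitive G (G ⧸ P.B) 2 := by
  obtain ⟨hsub, ⟨⟨s, hs⟩⟩⟩ := Nat.card_eq_one_iff_unique.1 h
  have hls : ∀ x : P.S, x = ⟨s, hs⟩ := fun x => hsub.elim _ _
  have hall : ∀ g : G, g ∈ P.B ∨ g ∈ cell P s := by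
    intro g
    obtain ⟨n, hn, hg⟩ := exists_cell_N P g
    obtain ⟨l, hl, he⟩ := exists_red P (toW P ⟨n, hn⟩)
    have hc := cellW_toW P ⟨n, hn⟩
    rw [← he] at hc
    match l with
    | [] =>
      left
      rw [ws_nil, cellW_one] at hc
      exact SetLike.mem_coe.1 (hc ▸ hg)
    | [x] =>
      right
      obtain rfl := hls x
      rw [ws_cons, ws_nil, mul_one, cellW_simW] at hc
      exact hc ▸ hg
    | x :: y :: l' =>
      exfalso
      obtain rfl := hls x
      obtain rfl := hls y
      have := lenW_ws_le P l'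
      unfold Red at hl
      rw [ws_cons, ws_cons, simW_mul_cancel, List.length_cons, List.length_cons] at hl
      omega
  rw [MulAction.is_two_pretransitive_iff]
  have key : ∀ a b : G ⧸ P.B, a ≠ b → ∃ g : G, g • ((1 : G) : G ⧸ P.B) = a ∧
      g • ((s : G) : G ⧸ P.B) = b := by
    intro a b hab
    induction a using QuotientGroup.induction_on with | _ x => ?_
    induction b using QuotientGroup.induction_on with | _ y => ?_
    rw [Ne, QuotientGroup.eq] at hab
    obtain ⟨p, hp, q, hq, e⟩ := (mem_cell P).1 ((hall (x⁻¹ * y)).resolve_left hab)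
    refine ⟨x * p, ?_, ?_⟩
    · rw [MulAction.Quotient.smul_coe, QuotientGroup.eq]
      simpa [smul_eq_mul] using inv_mem hp
    · rw [MulAction.Quotient.smul_coe, QuotientGroup.eq]
      have e2 : (x * p * s)⁻¹ * y = q := by
        calc (x * p * s)⁻¹ * y = (p * s)⁻¹ * (x⁻¹ * y) := by group
          _ = q := by rw [e]; group
      rw [smul_eq_mul, e2]
      exact hq
  intro a b c d hab hcd
  obtain ⟨g, hg1, hg2⟩ := key a b hab
  obtain ⟨k, hk1, hk2⟩ := key c d hcd
  refine ⟨k * g⁻¹, ?_, ?_⟩
  · rw [mul_smul, ← hg1, inv_smul_smul, hk1]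
  · rw [mul_smul, ← hg2, inv_smul_smul, hk2]

end Cfsg.Agent.S0322
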