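import Cfsg.Statements.S0323
import Cfsg.Agent.H56.BNParabolic

set_option autoImplicit false
open scoped Pointwise
open Cfsg

namespace Cfsg.Agent.S0323

open H56

/-- A doubly transitive action on a set with at least three points yields a (B,N)-pair of rank one:
`B` is the stabiliser of a point `x`, `N` the setwise stabiliser of a pair `{x, y}`. -/
theorem result {G Ω : Type*} [Group G] [MulAction G Ω]
    (h2 : MulAction.IsMultiplyPretransitive G Ω 2) {x y z : Ω} (hxy : x ≠ y) (hyz : y ≠ z) (hxz : x ≠ z) :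
    ∃ P : Cfsg.BNPair G, P.B = MulAction.stabilizer G x ∧
      P.N = MulAction.stabilizer G ({x, y} : Set Ω) ∧ P.rank = 1 := by
  rw [MulAction.is_two_pretransitive_iff] at h2
  obtain ⟨s, hsx, hsy⟩ := h2 hxy hxy.symm
  let B := MulAction.stabilizer G x
  let N := MulAction.stabilizer G ({x, y} : Set Ω)
  have memB : ∀ g, g ∈ B ↔ g • x = x := fun g => Iff.rfl
  have memN : ∀ g, g ∈ N ↔ (g • x = x ∧ g • y = y) ∨ (g • x = y ∧ g • y = x) := by
    intro g
    show g • ({x, y} : Set Ω) = {x, y} ↔ _
    rw [Set.smul_set_insert, Set.smul_set_singleton, Set.pair_eq_pair_iff]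
  have hsN : s ∈ N := (memN s).2 (Or.inr ⟨hsx, hsy⟩)
  have hsB : s ∉ B := fun h => hxy.symm (hsx.symm.trans ((memB s).1 h))
  have hss : s * s ∈ B := by rw [memB, mul_smul, hsx, hsy]
  have hcell : ∀ g, g ∉ B → g ∈ DoubleCoset.doubleCoset s (B : Set G) B := by
    intro g hg
    have hne : x ≠ g • x := fun h => hg ((memB g).2 h.symm)
    obtain ⟨b, hb1, hb2⟩ := h2 hxy hne
    refine DoubleCoset.mem_doubleCoset.2 ⟨b, (memB b).2 hb1, (b * s)⁻¹ * g, ?_, by group⟩
    have : (b * s) • x = g • x := by rw [mul_smul, hsx, hb2]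
    show ((b * s)⁻¹ * g) • x = x
    rw [mul_smul, ← this, inv_smul_smul]
  refine ⟨{
    B := B
    N := N
    S := {s}
    sup_eq_top := ?_
    conj_mem := ?_
    subset := by simpa using hsN
    sq_mem := by simpa using hss
    inj := by simp
    closure_sup := ?_
    mul_mem_union := ?_
    conj_ne := ?_ }, rfl, rfl, by simp [Cfsg.BNPair.rank]⟩
  · rw [eq_top_iff]
    intro g _
    by_cases hg : g ∈ B
    · exact Subgroup.mem_sup_left hg
    · obtain ⟨p, hp, q, hq, rfl⟩ := DoubleCoset.mem_doubleCoset.1 (hcell g hg)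
      exact mul_mem (mul_mem (Subgroup.mem_sup_left hp) (Subgroup.mem_sup_right hsN))
        (Subgroup.mem_sup_left hq)
  · rintro n hn t ⟨htx, htn⟩
    have ht : t • x = x := (memB t).1 htx
    have hty : t • y = y := by
      rcases (memN t).1 htn with h | h
      · exact h.2
      · exact absurd (ht.symm.trans h.1) hxy
    show (n * t * n⁻¹) • x = x
    rcases (memN n).1 hn with h | h
    · have : n⁻¹ • x = x := by rw [inv_smul_eq_iff, h.1]
      rw [mul_smul, mul_smul, this, ht, h.1]
    · have : n⁻¹ • x = y := by rw [inv_smul_eq_iff, h.2]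
      rw [mul_smul, mul_smul, this, hty, h.2]
  · refine le_antisymm (sup_le ((Subgroup.closure_le _).2 (by simpa using hsN)) inf_le_right) ?_
    intro n hn
    by_cases hnB : n ∈ B
    · exact Subgroup.mem_sup_right ⟨hnB, hn⟩
    · have hnx : n • x = y := by
        rcases (memN n).1 hn with h | h
        · exact absurd h.1 hnB
        · exact h.1
      have h1 : s⁻¹ * n ∈ B ⊓ N := by
        refine Subgroup.mem_inf.2 ⟨?_, mul_mem (inv_mem hsN) hn⟩
        show (s⁻¹ * n) • x = x
        rw [mul_smul, hnx, inv_smul_eq_iff, hsx]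
      have := mul_mem (Subgroup.mem_sup_left (T := B ⊓ N) (Subgroup.subset_closure (k := {s}) rfl))
        (Subgroup.mem_sup_right (S := Subgroup.closure {s}) h1)
      simpa using this
  · rintro t rfl n hn b hb
    by_cases hnB : n ∈ B
    · left
      have htn : t * n ∉ B := fun h => hsB (by simpa using mul_mem h (inv_mem hnB))
      rw [DoubleCoset.doubleCoset_eq_of_mem (hcell _ htn)]
      refine hcell _ (fun h => hsB ?_)
      simpa using mul_mem (mul_mem h (inv_mem hnB)) (inv_mem hb)
    · have hnx : n • x = y := by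
        rcases (memN n).1 hn with h | h
        · exact absurd h.1 hnB
        · exact h.1
      have htn : t * n ∈ B := by rw [memB, mul_smul, hnx, hsy]
      by_cases h : t * b * n ∈ B
      · exact Or.inl (DoubleCoset.mem_doubleCoset.2 ⟨1, one_mem _, (t * n)⁻¹ * (t * b * n),
          mul_mem (inv_mem htn) h, by group⟩)
      · right
        rw [DoubleCoset.doubleCoset_eq_of_mem (hcell _ hnB)]
        exact hcell _ h
  · rintro t rfl h
    obtain ⟨b, hb1, hb2⟩ := h2 hxy hxz
    have hmem : t * b * t ∈ B := by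
      rw [← SetLike.mem_coe, ← h]; exact ⟨b, (memB b).2 hb1, rfl⟩
    have h3 : t • b • y = x := by simpa [memB, mul_smul, hsx] using hmem
    rw [hb2] at h3
    exact hyz.symm (MulAction.injective t (h3.trans hsy.symm))

end Cfsg.Agent.S0323
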