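import Cfsg.Statements.S0328
import Cfsg.Agent.H57.SzStab
-- import your own Cfsg.Agent.* helpers here

set_option autoImplicit false
open Cfsg

namespace Cfsg.Agent.S0328

/-- The stabiliser in the Suzuki group of the two ovoid points spanned by `(1,0,0,0)` and `(0,0,0,1)` is
isomorphic to the multiplicative group of the field (cyclic of order `q - 1`). -/
theorem result {F : Type*} [Field F] [Fintype F] {m : ℕ} (hm : 1 ≤ m)
    (hF : Fintype.card F = 2 ^ (2 * m + 1)) :
    Nonempty (↥(MulAction.stabilizer (Cfsg.Sz F m) (Cfsg.suzukiPointInfinity F) ⊓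
        MulAction.stabilizer (Cfsg.Sz F m) (Cfsg.suzukiPointZero F)) ≃* Fˣ) :=
  by
  classical
  let f := (H57.dHom hF).codRestrict
    (MulAction.stabilizer (Cfsg.Sz F m) (Cfsg.suzukiPointInfinity F) ⊓
      MulAction.stabilizer (Cfsg.Sz F m) (Cfsg.suzukiPointZero F)) fun k => by
      rw [Subgroup.mem_inf, MulAction.mem_stabilizer_iff, MulAction.mem_stabilizer_iff,
        ← H57.ovPt_zero (m := m)]
      exact ⟨H57.dEl_infty hF k, H57.dEl_ovPt_zero hF k⟩
  refine ⟨(MulEquiv.ofBijective f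
    ⟨fun k l h => H57.dHom_injective hF (congrArg Subtype.val h), ?_⟩).symm⟩
  rintro ⟨g, hg⟩
  rw [Subgroup.mem_inf, MulAction.mem_stabilizer_iff, MulAction.mem_stabilizer_iff,
    ← H57.ovPt_zero (m := m)] at hg
  obtain ⟨k, hk⟩ := H57.fix_two hm hF g hg.1 hg.2
  exact ⟨k, Subtype.ext hk.symm⟩

end Cfsg.Agent.S0328
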