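import Cfsg.Statements.S0330
import Cfsg.Agent.H57.SzTwo
-- import your own Cfsg.Agent.* helpers here

set_option autoImplicit false
open Cfsg

namespace Cfsg.Agent.S0330

/-- A Sylow 2-subgroup `P` of the Suzuki group (field with `q = 2^(2m+1)` elements, `m ≥ 1`) has order `q²` and
exponent `4`; its centre coincides with its commutator subgroup and has order `q`. -/
theorem result {F : Type*} [Field F] [Fintype F] {m : ℕ} (hm : 1 ≤ m)
    (hF : Fintype.card F = 2 ^ (2 * m + 1)) (P : Sylow 2 (Cfsg.Sz F m)) :
    Nat.card P = (2 ^ (2 * m + 1)) ^ 2 ∧ Monoid.exponent P = 4 ∧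
      Subgroup.center P = commutator P ∧ Nat.card (Subgroup.center P) = 2 ^ (2 * m + 1) :=
  by
  obtain ⟨e⟩ := H57.sylow_two_equiv hm hF P
  refine ⟨(Nat.card_congr e.toEquiv).trans (H57.card_tSub hF),
    (Monoid.exponent_eq_of_mulEquiv e).trans (H57.exponent_tSub hF), ?_, ?_⟩
  · have h : Subgroup.center (H57.tSub (m := m) hF) = commutator (H57.tSub (m := m) hF) :=
      (H57.center_tSub hm hF).trans (H57.commutator_tSub hm hF).symm
    ext x
    have h1 : x ∈ Subgroup.center P ↔ e x ∈ Subgroup.center (H57.tSub (m := m) hF) := by
      simp only [Subgroup.mem_center_iff]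
      constructor
      · intro hx y
        obtain ⟨y, rfl⟩ := e.surjective y
        rw [← map_mul, ← map_mul, hx y]
      · intro hx y
        exact e.injective (by rw [map_mul, map_mul, hx (e y)])
    have h2 : x ∈ commutator P ↔ e x ∈ commutator (H57.tSub (m := m) hF) := by
      have hmap : (commutator P).map e.toMonoidHom = commutator (H57.tSub (m := m) hF) := by
        rw [commutator_def, commutator_def, Subgroup.map_commutator,
          Subgroup.map_top_of_surjective e.toMonoidHom e.surjective]
      rw [← hmap]
      exact (Subgroup.mem_map_iff_mem (f := e.toMonoidHom) e.injective).symm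
    rw [h1, h2, h]
  · have : Nat.card (Subgroup.center P) = Nat.card (Subgroup.center (H57.tSub (m := m) hF)) :=
      Nat.card_congr (Subgroup.centerCongr e).toEquiv
    rw [this, H57.center_tSub hm hF, H57.card_zSub]

end Cfsg.Agent.S0330
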