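import Cfsg.Statements.S0333
import Cfsg.Agent.H57.SzTorusOrder
-- import your own Cfsg.Agent.* helpers here

set_option autoImplicit false
open Cfsg

namespace Cfsg.Agent.S0333

/-- With `q = 2^(2m+1)` and `r = 2^m`, the Suzuki group has cyclic subgroups of orders `q + 2r + 1` and
`q - 2r + 1`; each is the centraliser of each of its non-identity elements and has index `4` in its normaliser. -/
theorem result {F : Type*} [Field F] [Fintype F] {m : ℕ} (hm : 1 ≤ m)
    (hF : Fintype.card F = 2 ^ (2 * m + 1)) :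
    ∀ k ∈ ({2 ^ (2 * m + 1) + 2 ^ (m + 1) + 1, 2 ^ (2 * m + 1) - 2 ^ (m + 1) + 1} : Set ℕ),
      ∃ U : Subgroup (Cfsg.Sz F m), IsCyclic U ∧ Nat.card U = k ∧
        (∀ u ∈ U, u ≠ 1 → Subgroup.centralizer {u} = U) ∧ Nat.card (Subgroup.normalizer (U : Set (Cfsg.Sz F m))) = 4 * k :=
  by
  obtain ⟨Ap, Am, hp, hm', hcp, hcm, -, hN⟩ := H57.tor_summary hm hF
  have cyc : ∀ A, H57.IsTor A → IsCyclic ↥(A : Subgroup (Cfsg.Sz F m)) := by
    rintro A ⟨g, hg, rfl⟩
    exact H57.torEl_centralizer_cyclic hF hg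
  intro k hk
  rcases hk with rfl | hk
  · exact ⟨Ap, cyc _ hp, hcp, fun u hu h1 => H57.tor_centralizer hm hF hp hu h1, by
      rw [hN _ hp, hcp]⟩
  · rw [Set.mem_singleton_iff] at hk
    subst hk
    exact ⟨Am, cyc _ hm', hcm, fun u hu h1 => H57.tor_centralizer hm hF hm' hu h1, by
      rw [hN _ hm', hcm]⟩

end Cfsg.Agent.S0333
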