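import Cfsg.Statements.S0335
import Cfsg.Agent.H57.SzSimple
-- import your own Cfsg.Agent.* helpers here

set_option autoImplicit false
open Cfsg

namespace Cfsg.Agent.S0335

/-- The Suzuki–Tits point set is an ovoid: any three distinct points of it are projectively independent
(no line of projective 3-space meets it in more than two points). -/
theorem result {F : Type*} [Field F] [Fintype F] {m : ℕ} (hm : 1 ≤ m)
    (hF : Fintype.card F = 2 ^ (2 * m + 1)) (p : Fin 3 ↪ Cfsg.suzukiOvoid F m) :
    Projectivization.Independent (fun i => (p i : Projectivization F (Fin 4 → F))) :=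
  by
  obtain ⟨g, h0, h1⟩ := H57.exists_to_base hF (p 0).2 (p 1).2
    (fun h => (by decide : (0 : Fin 3) ≠ 1) (p.injective (Subtype.ext h)))
  rcases H57.mem_ovoid.mp (H57.sz_smul_mem g⁻¹ (p 2).2) with he | ⟨x, y, he⟩
  · exact absurd (p.injective (Subtype.ext (by rw [← h0, ← he, smul_inv_smul] : ((p 2).1 = (p 0).1))))
      (by decide : (2 : Fin 3) ≠ 0)
  have hxy : ¬ (x = 0 ∧ y = 0) := by
    rintro ⟨rfl, rfl⟩
    exact (by decide : (2 : Fin 3) ≠ 1)
      (p.injective (Subtype.ext (by rw [← h1, ← he, smul_inv_smul] : ((p 2).1 = (p 1).1))))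
  set A := ((g : Matrix.SpecialLinearGroup (Fin 4) F) : Matrix (Fin 4) (Fin 4) F) with hA
  let v : Fin 3 → Fin 4 → F := ![![1, 0, 0, 0], H57.ovV m 0 0, H57.ovV m x y]
  let w : Fin 3 → Fin 4 → F := fun i => A.mulVec (v i)
  have hli : LinearIndependent F v := by
    rw [Fintype.linearIndependent_iff]
    intro c hc
    have e0 := congrFun hc 0
    have e1 := congrFun hc 1
    have e2 := congrFun hc 2
    have e3 := congrFun hc 3
    simp [v, H57.ovV, H57.oF, Fin.sum_univ_succ] at e0 e1 e2 e3
    have hc2 : c 2 = 0 := by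
      rcases e1 with h | h
      · exact h
      · rcases e2 with h' | h'
        · exact h'
        · exact absurd ⟨h', h⟩ hxy
    simp [hc2] at e0 e3
    intro i; fin_cases i
    · exact e0
    · exact e3
    · exact hc2
  have hinj : Function.Injective A.mulVecLin := by
    rw [Matrix.coe_mulVecLin, Matrix.mulVec_injective_iff_isUnit, Matrix.isUnit_iff_isUnit_det,
      show A.det = 1 from g.1.2]
    exact isUnit_one
  have hw : LinearIndependent F w := hli.map' A.mulVecLin (LinearMap.ker_eq_bot.mpr hinj)
  have hwne : ∀ i, w i ≠ 0 := fun i => hw.ne_zero i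
  have hp : (fun i => ((p i : Projectivization F (Fin 4 → F)))) =
      fun i => Projectivization.mk F (w i) (hwne i) := by
    funext i
    fin_cases i
    · exact h0.symm.trans (H57.smul_pt _ _ _ (c := 1) (one_smul F _).symm)
    · exact h1.symm.trans (H57.smul_pt _ _ _ (c := 1) (one_smul F _).symm)
    · exact ((smul_inv_smul g _).symm.trans (congrArg (g • ·) he)).trans
        (H57.smul_pt _ _ _ (c := 1) (one_smul F _).symm)
  rw [hp]
  exact Projectivization.Independent.mk w hwne hw

end Cfsg.Agent.S0335
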