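import Cfsg.Statements.S0423
import Cfsg.Agent.H91.J2Points

set_option autoImplicit false
open Cfsg

namespace Cfsg.Agent.S0423

/-- Existence of a simple group of order 604800. -/
theorem result : ∃ G : Subgroup (Equiv.Perm (Fin 100)), Cfsg.IsJ2 G := by
  obtain ⟨f, hf⟩ := H91.J2A.exists_perm_embedding
  haveI := H91.J2A.J2_isSimple
  refine ⟨f.range, (MonoidHom.ofInjective hf).symm.isSimpleGroup, ?_⟩
  rw [← Nat.card_congr (MonoidHom.ofInjective hf).toEquiv, H96.J2.card_J2]

end Cfsg.Agent.S0423
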