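import Cfsg.Statements.S0439
-- import your own Cfsg.Agent.* helpers here

set_option autoImplicit false
open Cfsg

namespace Cfsg.Agent.S0439

theorem swap_pair {α : Type*} [DecidableEq α] {x y u v : α} (hxy : x ≠ y) (huv : u ≠ v) :
    (Equiv.swap x y * Equiv.swap u v) ^ 2 = 1 ∨ (Equiv.swap x y * Equiv.swap u v) ^ 3 = 1 := by
  have key : ∀ a b c : α, a ≠ b → a ≠ c → b ≠ c →
      (Equiv.swap a b * Equiv.swap a c) ^ 3 = 1 := by
    intro a b c hab hac hbc
    apply Equiv.ext
    intro t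
    simp only [pow_succ, pow_zero, one_mul, Equiv.Perm.mul_apply, Equiv.Perm.one_apply]
    by_cases h1 : t = a
    · subst h1; simp [Equiv.swap_apply_of_ne_of_ne, hab, hac, hbc, hab.symm, hac.symm, hbc.symm]
    by_cases h2 : t = b
    · subst h2; simp [Equiv.swap_apply_of_ne_of_ne, hab, hac, hbc, hab.symm, hac.symm, hbc.symm]
    by_cases h3 : t = c
    · subst h3; simp [Equiv.swap_apply_of_ne_of_ne, hab, hac, hbc, hab.symm, hac.symm, hbc.symm]
    simp [Equiv.swap_apply_of_ne_of_ne, h1, h2, h3]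
  by_cases h1 : u = x
  · subst h1
    by_cases h2 : v = y
    · subst h2; left; rw [Equiv.swap_mul_self, one_pow]
    · right; exact key _ _ _ hxy huv (Ne.symm h2)
  by_cases h2 : v = x
  · subst h2
    by_cases h3 : u = y
    · subst h3; left; rw [Equiv.swap_comm u v, Equiv.swap_mul_self, one_pow]
    · right; rw [Equiv.swap_comm u v]; exact key _ _ _ hxy (Ne.symm h1) (Ne.symm h3)
  by_cases h3 : u = y
  · subst h3; right; rw [Equiv.swap_comm x u]; exact key _ _ _ hxy.symm huv (Ne.symm h2)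
  by_cases h4 : v = y
  · subst h4; right; rw [Equiv.swap_comm x v, Equiv.swap_comm u v]
    exact key _ _ _ hxy.symm huv.symm (Ne.symm h1)
  left
  have hc : Commute (Equiv.swap x y) (Equiv.swap u v) := by
    apply Equiv.ext
    intro t
    simp only [Equiv.Perm.mul_apply, Equiv.swap_apply_def]
    split_ifs <;> simp_all
  rw [hc.mul_pow, sq, sq, Equiv.swap_mul_self, Equiv.swap_mul_self, one_mul]

/-- In the symmetric group of degree n ≥ 2, the set of transpositions is a conjugacy class of 3-transpositions which generates the group. -/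
theorem result (n : ℕ) (hn : 2 ≤ n) : Cfsg.IsThreeTranspositionClass {σ : Equiv.Perm (Fin n) | σ.IsSwap} := by
  refine ⟨⟨?_, ?_⟩, ?_, Equiv.Perm.closure_isSwap⟩
  · rintro d ⟨x, y, hxy, rfl⟩
    refine orderOf_eq_prime ?_ (by simpa [Equiv.swap_eq_one_iff] using hxy)
    rw [sq, Equiv.swap_mul_self]
  · rintro d ⟨x, y, hxy, rfl⟩ e ⟨u, v, huv, rfl⟩
    exact swap_pair hxy huv
  · refine ⟨Equiv.swap ⟨0, by omega⟩ ⟨1, by omega⟩, ⟨_, _, by simp [Fin.ext_iff], rfl⟩, ?_⟩
    ext σ
    show σ.IsSwap ↔ IsConj _ σ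
    refine ⟨?_, fun h => ?_⟩
    · rintro ⟨x, y, hxy, rfl⟩
      exact Equiv.Perm.isConj_swap (by simp [Fin.ext_iff]) hxy
    · obtain ⟨c, hc⟩ := isConj_iff.mp h
      refine ⟨c ⟨0, by omega⟩, c ⟨1, by omega⟩, ?_, ?_⟩
      · simp [Fin.ext_iff]
      · rw [← hc, Equiv.swap_apply_apply]

end Cfsg.Agent.S0439
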