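import Cfsg.Statements.S0442
-- import your own Cfsg.Agent.* helpers here

set_option autoImplicit false
open Cfsg

namespace Cfsg.Agent.S0442

/-- A standard trick for producing elements of an involution centraliser: for an involution a and an element g, let b be the conjugate g⁻¹ * a * g. If a * b has odd order 2m + 1 then g * (a * b) ^ m commutes with a; if a * b has even order 2m then (a * b) ^ m and (a * (g * a * g⁻¹)) ^ m commute with a. -/
theorem result {G : Type*} [Group G] (a g : G) (ha : orderOf a = 2) : (∀ m : ℕ, orderOf (a * (g⁻¹ * a * g)) = 2 * m + 1 → Commute (g * (a * (g⁻¹ * a * g)) ^ m) a) ∧ (∀ m : ℕ, orderOf (a * (g⁻¹ * a * g)) = 2 * m → Commute ((a * (g⁻¹ * a * g)) ^ m) a ∧ Commute ((a * (g * a * g⁻¹)) ^ m) a) := by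
  have hai : a⁻¹ = a := by
    apply inv_eq_of_mul_eq_one_right
    rw [← sq, ← ha]; exact pow_orderOf_eq_one a
  have haa : a * a = 1 := by nth_rewrite 1 [← hai]; exact inv_mul_cancel a
  obtain ⟨b, hb⟩ : ∃ b, g⁻¹ * a * g = b := ⟨_, rfl⟩
  have hbi : b⁻¹ = b := by rw [← hb, mul_inv_rev, mul_inv_rev, hai, inv_inv, mul_assoc]
  have hc : ∀ (c : G), c⁻¹ = c → ∀ n : ℕ, a * (a * c) ^ n * a⁻¹ = ((a * c) ^ n)⁻¹ := by
    intro c hci n
    have h1 : a * (a * c) * a⁻¹ = (a * c)⁻¹ := by
      rw [mul_inv_rev, hci, hai, ← mul_assoc, haa, one_mul]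
    rw [← conj_pow, h1, inv_pow]
  rw [hb]
  refine ⟨fun m hm => ?_, fun m hm => ?_⟩
  · have hord : (a * b) ^ (2 * m + 1) = 1 := hm ▸ pow_orderOf_eq_one _
    have h3 : (a * b) ^ m * a = b * (a * b) ^ m := by
      have h4 : (a * b) ^ m * a = a * ((a * b) ^ m)⁻¹ := by
        rw [← hc b hbi m, hai]
        simp only [← mul_assoc]; rw [haa, one_mul]
      have h5 : b = a * (a * b) := by rw [← mul_assoc, haa, one_mul]
      rw [h4]
      conv_rhs => arg 1; rw [h5]
      rw [mul_assoc, ← pow_succ']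
      congr 1
      rw [inv_eq_iff_mul_eq_one, ← pow_add, ← hord]; congr 1; omega
    show g * (a * b) ^ m * a = a * (g * (a * b) ^ m)
    rw [mul_assoc, h3, ← hb]
    simp only [← mul_assoc, mul_inv_cancel, one_mul]
  · have hord : ∀ c : G, c⁻¹ = c → (a * c) ^ (2 * m) = 1 → Commute ((a * c) ^ m) a := by
      intro c hci hcm
      have h1 : ((a * c) ^ m)⁻¹ = (a * c) ^ m := by
        rw [inv_eq_iff_mul_eq_one, ← pow_add, ← two_mul, hcm]
      have h2 := hc c hci m
      rw [h1, mul_inv_eq_iff_eq_mul] at h2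
      exact h2.symm
    refine ⟨hord b hbi (hm ▸ pow_orderOf_eq_one _), hord _ ?_ ?_⟩
    · rw [mul_inv_rev, mul_inv_rev, hai, inv_inv, mul_assoc]
    · have h1 : a * (g * a * g⁻¹) = g * (a * b)⁻¹ * g⁻¹ := by
        rw [mul_inv_rev, hbi, hai, ← hb]
        simp only [← mul_assoc, mul_inv_cancel, one_mul]
      have hord2 : (a * b) ^ (2 * m) = 1 := hm ▸ pow_orderOf_eq_one _
      rw [h1, conj_pow, inv_pow, hord2]
      simp

end Cfsg.Agent.S0442
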