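import Cfsg.Statements.S0443
-- import your own Cfsg.Agent.* helpers here

set_option autoImplicit false
open Cfsg

namespace Cfsg.Agent.S0443

/-- Two definitions of a 2-central involution agree: an element t of order 2 of a finite group lies in the centre of some Sylow 2-subgroup if and only if its centraliser contains some Sylow 2-subgroup. -/
theorem result {G : Type*} [Group G] [Finite G] (t : G) (ht : orderOf t = 2) : Cfsg.IsTwoCentralInvolution t ↔ ∃ P : Sylow 2 G, (P : Subgroup G) ≤ Subgroup.centralizer ({t} : Set G) := by
  refine ⟨fun h => ?_, fun ⟨P, hP⟩ => ?_⟩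
  · obtain ⟨-, P, -, hP⟩ := h
    exact ⟨P, fun x hx => Subgroup.mem_centralizer_singleton_iff.mpr (hP x hx)⟩
  · have hc : ∀ x ∈ P, x * t = t * x := fun x hx =>
      Subgroup.mem_centralizer_singleton_iff.mp (hP hx)
    refine ⟨ht, P, ?_, hc⟩
    have hT : IsPGroup 2 (Subgroup.zpowers t) :=
      IsPGroup.of_card (n := 1) (by rw [Nat.card_zpowers, ht, pow_one])
    have hn : t ∈ Subgroup.normalizer ((P : Subgroup G) : Set G) := by
      rw [Subgroup.mem_normalizer_iff]
      intro x
      constructor
      · intro hx
        have h1 : t * x * t⁻¹ = x := by rw [← hc x hx, mul_inv_cancel_right]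
        rw [h1]; exact hx
      · intro hx
        have h1 := hc _ hx
        have h2 : x = t * x * t⁻¹ := by
          apply mul_left_cancel (a := t)
          rw [← h1]; group
        rw [h2]; exact hx
    have : t ∈ Subgroup.zpowers t ⊓ (P : Subgroup G) := by
      rw [← IsPGroup.inf_normalizer_sylow hT P]
      exact ⟨Subgroup.mem_zpowers t, hn⟩
    exact this.2

end Cfsg.Agent.S0443
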