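import Cfsg.Statements.S0444
import Cfsg.Agent.H91.ThreeTransp
import Cfsg.Agent.H91.DihedralLift

set_option autoImplicit false
open Cfsg

namespace Cfsg.Agent.S0444

theorem closure_pair_equiv {G : Type*} [Group G] {d e : G} (hd : d * d = 1) (he : e * e = 1)
    (h3 : (d * e) ^ 3 = 1) (hc : ¬ Commute d e) :
    Nonempty (Subgroup.closure ({d, e} : Set G) ≃* DihedralGroup 3) := by
  have hdi : d⁻¹ = d := inv_eq_of_mul_eq_one_right hd
  have hei : e⁻¹ = e := inv_eq_of_mul_eq_one_right he
  have hdu : d * (d * e) * d⁻¹ = (d * e)⁻¹ := by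
    rw [mul_inv_rev, hei, hdi, ← mul_assoc, hd, one_mul]
  let f := H91.dihedralLift (n := 3) (d * e) d h3 hd hdu
  have hde : d * e ≠ 1 := by
    intro h1
    apply hc
    have h2 : e = d := (eq_inv_of_mul_eq_one_right h1).trans hdi
    rw [h2]
  have hu1 : f (.r 1) = d * e := by
    show (d * e) ^ (1 : ZMod 3).val = d * e
    simp [ZMod.val_one]
  have hd0 : f (.sr 0) = d := by
    show d * (d * e) ^ (0 : ZMod 3).val = d
    simp
  have hinj : Function.Injective f := by
    rw [← MonoidHom.ker_eq_bot_iff, eq_bot_iff]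
    rintro (i | i) hi
    · change (d * e) ^ i.val = 1 at hi
      have hv : i.val = 0 := by
        by_contra hv
        have hord : orderOf (d * e) = 3 := orderOf_eq_prime h3 hde
        have := Nat.le_of_dvd (by omega) (hord ▸ orderOf_dvd_of_pow_eq_one hi)
        have := ZMod.val_lt i
        omega
      rw [Subgroup.mem_bot, (ZMod.val_eq_zero i).mp hv]
      rfl
    · exfalso
      change d * (d * e) ^ i.val = 1 at hi
      apply hc
      have h2 : (d * e) ^ i.val = d := (eq_inv_of_mul_eq_one_right hi).trans hdi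
      have h4 : Commute d (d * e) := by
        have h := (Commute.refl (d * e)).pow_left i.val
        rwa [h2] at h
      have h5 : Commute d (d⁻¹ * (d * e)) := (Commute.refl d).inv_right.mul_right h4
      rwa [inv_mul_cancel_left] at h5
  have hrange : f.range = Subgroup.closure ({d, e} : Set G) := by
    apply le_antisymm
    · have hm : d * e ∈ Subgroup.closure ({d, e} : Set G) :=
        mul_mem (Subgroup.subset_closure (Or.inl rfl)) (Subgroup.subset_closure (Or.inr rfl))
      rintro x ⟨(i | i), rfl⟩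
      · exact pow_mem hm _
      · exact mul_mem (Subgroup.subset_closure (Or.inl rfl)) (pow_mem hm _)
    · rw [Subgroup.closure_le]
      rintro x (rfl | rfl)
      · exact ⟨_, hd0⟩
      · exact ⟨(DihedralGroup.sr 0 * DihedralGroup.r 1 : DihedralGroup 3), by rw [map_mul, hd0, hu1, ← mul_assoc, hd, one_mul]⟩
  exact ⟨((MonoidHom.ofInjective hinj).trans (MulEquiv.subgroupCongr hrange)).symm⟩

/-- Two members of a set of 3-transpositions which do not commute generate a subgroup isomorphic to the symmetric group on three letters. -/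
theorem result {G : Type*} [Group G] {E : Set G} (hE : Cfsg.IsThreeTranspositionSet E) {d e : G} (hd : d ∈ E) (he : e ∈ E) (h : ¬ Commute d e) : Nonempty (Subgroup.closure ({d, e} : Set G) ≃* Equiv.Perm (Fin 3)) := by
  have h23 := (hE.2 d hd e he).resolve_left (fun h2 => h (by
    have h' : d * e * (d * e) = 1 := by rw [← sq]; exact h2
    have h'' := eq_inv_of_mul_eq_one_left h'
    rw [mul_inv_rev, H91.inv_eq_of_orderTwo (hE.1 d hd),
      H91.inv_eq_of_orderTwo (hE.1 e he)] at h''
    exact h''))
  obtain ⟨eq1⟩ := closure_pair_equiv (H91.mul_self_of_orderTwo (hE.1 d hd))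
    (H91.mul_self_of_orderTwo (hE.1 e he)) h23 h
  have hs : ∀ x y : Equiv.Perm (Fin 3),
      x = Equiv.swap 0 1 → y = Equiv.swap 1 2 → ¬ Commute x y := by
    rintro x y rfl rfl hxy
    have := congrArg (fun p : Equiv.Perm (Fin 3) => p 0) hxy.eq
    revert this; decide
  obtain ⟨eq2⟩ := closure_pair_equiv (G := Equiv.Perm (Fin 3)) (d := Equiv.swap 0 1)
    (e := Equiv.swap 1 2) (Equiv.swap_mul_self _ _) (Equiv.swap_mul_self _ _) (by decide)
    (hs _ _ rfl rfl)
  have htop : Subgroup.closure ({Equiv.swap 0 1, Equiv.swap 1 2} : Set (Equiv.Perm (Fin 3))) = ⊤ := by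
    apply Subgroup.eq_top_of_card_eq
    rw [Nat.card_congr eq2.toEquiv, DihedralGroup.nat_card, Nat.card_perm, Nat.card_fin]
    rfl
  exact ⟨eq1.trans (eq2.symm.trans ((MulEquiv.subgroupCongr htop).trans Subgroup.topEquiv))⟩

end Cfsg.Agent.S0444
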