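import Cfsg.Statements.S0445
import Mathlib
-- import your own Cfsg.Agent.* helpers here

set_option autoImplicit false
open Cfsg

namespace Cfsg.Agent.S0445

theorem two_cases (x : ZMod 2) : x = 0 ∨ x = 1 := by revert x; decide

theorem mul_three {x y z : ZMod 2} (h : x * (y * z) = 1) : x = 1 ∧ y = 1 ∧ z = 1 := by
  revert x y z; decide

theorem card_det_one : Nat.card {A : Matrix (Fin 3) (Fin 3) (ZMod 2) // A.det = 1} = 168 := by
  have e : GL (Fin 3) (ZMod 2) ≃ {A : Matrix (Fin 3) (Fin 3) (ZMod 2) // A.det = 1} :=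
    { toFun := fun g => ⟨g.1, (two_cases _).resolve_left (Matrix.GeneralLinearGroup.det_ne_zero g)⟩
      invFun := fun A => Matrix.GeneralLinearGroup.mkOfDetNeZero A.1 (by rw [A.2]; exact one_ne_zero)
      left_inv := fun g => Units.ext rfl
      right_inv := fun A => Subtype.ext rfl }
  rw [← Nat.card_congr e, Matrix.card_GL_field]
  simp [Fin.prod_univ_three, ZMod.card]

/-- The matrices commuting with the transvection. -/
def Good (M : Matrix (Fin 5) (Fin 5) (ZMod 2)) : Prop :=
  (∀ i, i ≠ 0 → M i 0 = 0) ∧ (∀ j, j ≠ 1 → M 1 j = 0) ∧ M 0 0 = M 1 1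

theorem commute_iff_good (M : Matrix (Fin 5) (Fin 5) (ZMod 2)) :
    M * Matrix.transvection 0 1 1 = Matrix.transvection 0 1 1 * M ↔ Good M := by
  constructor
  · intro h
    have h' : ∀ i j, (M * Matrix.transvection 0 1 1 : Matrix (Fin 5) (Fin 5) (ZMod 2)) i j =
        (Matrix.transvection 0 1 1 * M : Matrix (Fin 5) (Fin 5) (ZMod 2)) i j := fun i j => by rw [h]
    refine ⟨fun i hi => ?_, fun j hj => ?_, ?_⟩
    · have := h' i 1
      simpa [Matrix.mul_transvection_apply_same, Matrix.transvection_mul_apply_of_ne, hi] using this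
    · have := h' 0 j
      simpa [Matrix.mul_transvection_apply_of_ne, Matrix.transvection_mul_apply_same, hj] using this
    · have := h' 0 1
      simp [Matrix.mul_transvection_apply_same, Matrix.transvection_mul_apply_same] at this
      linear_combination this
  · rintro ⟨h1, h2, h3⟩
    ext i j
    by_cases hj : j = 1
    · subst hj
      by_cases hi : i = 0
      · subst hi; simp [h3, add_comm]
      · simp [hi, h1 i hi]
    · by_cases hi : i = 0
      · subst hi; simp [hj, h2 j hj]
      · simp [hi, hj]

/-- A good matrix built from its free entries. -/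
def build (x : ZMod 2) (r c : Fin 3 → ZMod 2) (A : Matrix (Fin 3) (Fin 3) (ZMod 2)) :
    Matrix (Fin 5) (Fin 5) (ZMod 2) :=
  !![1, x, r 0, r 1, r 2;
     0, 1, 0, 0, 0;
     0, c 0, A 0 0, A 0 1, A 0 2;
     0, c 1, A 1 0, A 1 1, A 1 2;
     0, c 2, A 2 0, A 2 1, A 2 2]

def low (M : Matrix (Fin 5) (Fin 5) (ZMod 2)) : Matrix (Fin 3) (Fin 3) (ZMod 2) :=
  M.submatrix (fun i => i.succ.succ) (fun i => i.succ.succ)

theorem det_good {M : Matrix (Fin 5) (Fin 5) (ZMod 2)} (h : Good M) :
    M.det = M 0 0 * (M 1 1 * (low M).det) := by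
  obtain ⟨h1, h2, -⟩ := h
  rw [Matrix.det_succ_column_zero, Finset.sum_eq_single 0]
  · rw [Matrix.det_succ_row_zero, Finset.sum_eq_single 0]
    · simp [low, Matrix.submatrix_submatrix, Function.comp_def]
    · intro b _ hb
      have : M 1 b.succ = 0 := h2 _ (by intro e; exact hb (Fin.succ_injective _ (e.trans rfl)))
      simp [this]
    · simp
  · intro b _ hb; simp [h1 b hb]
  · simp

/-- In the special linear group of dimension 5 over the field with two elements, the centraliser of a transvection has order 21504 = 2 ^ 7 · 168 (it is an extension of an extraspecial group of order 2 ^ 7 by the simple group of order 168). -/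
theorem result (s : Matrix.SpecialLinearGroup (Fin 5) (ZMod 2)) (hs : (s : Matrix (Fin 5) (Fin 5) (ZMod 2)) = Matrix.transvection 0 1 1) : Nat.card (Subgroup.centralizer ({s} : Set (Matrix.SpecialLinearGroup (Fin 5) (ZMod 2)))) = 21504 := by
  classical
  have he : ∀ M : Matrix.SpecialLinearGroup (Fin 5) (ZMod 2),
      M ∈ Subgroup.centralizer ({s} : Set (Matrix.SpecialLinearGroup (Fin 5) (ZMod 2))) ↔
        Good M.1 := by
    intro M
    rw [Subgroup.mem_centralizer_singleton_iff, ← commute_iff_good, ← hs]
    exact ⟨fun h => congrArg Subtype.val h, fun h => Subtype.ext h⟩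
  have hb : ∀ x r c A, A.det = 1 → (build x r c A).det = 1 ∧ Good (build x r c A) := by
    intro x r c A hA
    have hg : Good (build x r c A) := by
      refine ⟨fun i hi => ?_, fun j hj => ?_, rfl⟩
      · fin_cases i <;> first | exact absurd rfl hi | rfl
      · fin_cases j <;> first | exact absurd rfl hj | rfl
    refine ⟨?_, hg⟩
    have hl : low (build x r c A) = A := by
      ext i j; fin_cases i <;> fin_cases j <;> rfl
    rw [det_good hg, hl, hA]; rfl
  let e : (ZMod 2 × (Fin 3 → ZMod 2) × (Fin 3 → ZMod 2) ×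
      {A : Matrix (Fin 3) (Fin 3) (ZMod 2) // A.det = 1}) ≃
      Subgroup.centralizer ({s} : Set (Matrix.SpecialLinearGroup (Fin 5) (ZMod 2))) :=
    { toFun := fun p => ⟨⟨build p.1 p.2.1 p.2.2.1 p.2.2.2.1, (hb _ _ _ _ p.2.2.2.2).1⟩,
        (he _).mpr (hb _ _ _ _ p.2.2.2.2).2⟩
      invFun := fun M => ⟨M.1.1 0 1, fun j => M.1.1 0 j.succ.succ, fun i => M.1.1 i.succ.succ 1,
        ⟨low M.1.1, (mul_three ((det_good ((he _).mp M.2)).symm.trans M.1.2)).2.2⟩⟩
      left_inv := fun p => by
        obtain ⟨x, r, c, A, hA⟩ := p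
        refine Prod.ext rfl (Prod.ext ?_ (Prod.ext ?_ (Subtype.ext ?_)))
        · funext j; fin_cases j <;> rfl
        · funext j; fin_cases j <;> rfl
        · ext i j; fin_cases i <;> fin_cases j <;> rfl
      right_inv := fun M => by
        apply Subtype.ext
        apply Subtype.ext
        obtain ⟨g1, g2, -⟩ := (he _).mp M.2
        obtain ⟨e0, e1, -⟩ := mul_three ((det_good ((he _).mp M.2)).symm.trans M.1.2)
        ext i j
        fin_cases i <;> fin_cases j <;>
          first
            | exact e0.symm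
            | exact e1.symm
            | exact (g1 _ (by decide)).symm
            | exact (g2 _ (by decide)).symm
            | rfl }
  rw [← Nat.card_congr e, Nat.card_prod, Nat.card_prod, Nat.card_prod, card_det_one,
    Nat.card_fun, Nat.card_zmod, Nat.card_fin]
  norm_num

end Cfsg.Agent.S0445
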