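import Cfsg.Statements.S0447
import Cfsg.Agent.H91.DoubleCoverSplit
import Cfsg.Agent.H91.CliffordA8

set_option autoImplicit false
open Cfsg

namespace Cfsg.Agent.S0447

open Equiv in
theorem invol_cycleType {n : ℕ} (hn : n ≤ 7) (g : alternatingGroup (Fin n)) (hg : g * g = 1)
    (hg1 : g ≠ 1) : (g : Perm (Fin n)).cycleType = {2, 2} := by
  have : Fact (Nat.Prime 2) := ⟨Nat.prime_two⟩
  have h2 : orderOf (g : Perm (Fin n)) = 2 :=
    orderOf_eq_prime (by rw [sq, ← Subgroup.coe_mul, hg]; rfl) (fun e => hg1 (Subtype.ext e))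
  obtain ⟨k, hk⟩ := Perm.cycleType_prime_order (σ := (g : Perm (Fin n))) (by rw [h2]; exact Nat.prime_two)
  rw [h2] at hk
  have hsum := Perm.sum_cycleType (g : Perm (Fin n))
  have hle := (g : Perm (Fin n)).support.card_le_univ
  rw [Fintype.card_fin] at hle
  rw [hk, Multiset.sum_replicate, smul_eq_mul] at hsum
  have hs := Perm.sign_of_cycleType (g : Perm (Fin n))
  rw [Perm.mem_alternatingGroup.mp g.2, hk, Multiset.sum_replicate, Multiset.card_replicate,
    smul_eq_mul] at hs
  have hk3 : k ≤ 2 := by omega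
  interval_cases k
  · exact absurd hs.symm (by decide)
  · rw [hk]; rfl
  · exact absurd hs.symm (by decide)

open Equiv in
theorem invol_conj {n : ℕ} (hn : n ≤ 7) (g h : alternatingGroup (Fin n)) (hg : g * g = 1)
    (hg1 : g ≠ 1) (hh : h * h = 1) (hh1 : h ≠ 1) : IsConj g h := by
  have ch := invol_cycleType hn h hh hh1
  have hc : IsConj (g : Perm (Fin n)) (h : Perm (Fin n)) :=
    Perm.isConj_of_cycleType_eq ((invol_cycleType hn g hg hg1).trans ch.symm)
  obtain ⟨c, hc⟩ := isConj_iff.mp hc
  obtain ⟨x, hx⟩ : ∃ x, x ∈ (h : Perm (Fin n)).support := by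
    refine Finset.nonempty_iff_ne_empty.mpr (fun e => hh1 (Subtype.ext ?_))
    exact Perm.support_eq_empty_iff.mp e
  have hne : (h : Perm (Fin n)) x ≠ x := Perm.mem_support.mp hx
  -- an odd permutation commuting with h
  have hinv : ∀ t, (h : Perm (Fin n)) ((h : Perm (Fin n)) t) = t := fun t => by
    rw [← Perm.mul_apply, ← Subgroup.coe_mul, hh]; rfl
  have hcomm : Commute (swap x ((h : Perm (Fin n)) x)) (h : Perm (Fin n)) := by
    show swap x _ * (h : Perm (Fin n)) = (h : Perm (Fin n)) * swap x _
    rw [mul_swap_eq_swap_mul, hinv, swap_comm]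
  rcases Int.units_eq_one_or (Perm.sign c) with hs | hs
  · exact isConj_iff.mpr ⟨⟨c, Perm.mem_alternatingGroup.mpr hs⟩, Subtype.ext hc⟩
  · refine isConj_iff.mpr ⟨⟨swap x ((h : Perm (Fin n)) x) * c,
      Perm.mem_alternatingGroup.mpr (by rw [map_mul, Perm.sign_swap hne.symm, hs]; rfl)⟩,
      Subtype.ext ?_⟩
    show swap x ((h : Perm (Fin n)) x) * c * (g : Perm (Fin n)) * (swap x ((h : Perm (Fin n)) x) * c)⁻¹ = (h : Perm (Fin n))
    rw [mul_inv_rev, swap_inv]
    calc swap x ((h : Perm (Fin n)) x) * c * (g : Perm (Fin n)) * (c⁻¹ * swap x ((h : Perm (Fin n)) x))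
        = swap x ((h : Perm (Fin n)) x) * (c * (g : Perm (Fin n)) * c⁻¹) * swap x ((h : Perm (Fin n)) x) := by
          simp only [mul_assoc]
      _ = (h : Perm (Fin n)) := by rw [hc, hcomm.eq, mul_assoc, swap_mul_self, mul_one]

open Equiv in
theorem split_le_seven {n : ℕ} (hn : n ≤ 7) {H : Type} [Group H] [Finite H]
    (f : H →* alternatingGroup (Fin n)) (hf : Function.Surjective f)
    (hker : f.ker = Subgroup.center H) (hZ : Nat.card (Subgroup.center H) = 2) (x : H)
    (hx : x * x = 1) (hxZ : x ∉ Subgroup.center H) :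
    ∃ L : Subgroup H, (Subgroup.center H).IsComplement' L := by
  have hmem : ∀ h, h ∈ Subgroup.center H ↔ f h = 1 := fun h => by
    rw [← hker, MonoidHom.mem_ker]
  have hsq : ∀ g : H, g ^ 2 ∈ Subgroup.center H → g ^ 2 = 1 := by
    have hc2 : ∀ c ∈ Subgroup.center H, c * c = 1 := by
      intro c hc
      have := pow_card_eq_one' (x := (⟨c, hc⟩ : Subgroup.center H))
      rw [hZ, sq] at this
      exact congrArg Subtype.val this
    intro g hg
    rw [sq]
    by_cases hgZ : g ∈ Subgroup.center H
    · exact hc2 g hgZ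
    rw [hmem, map_pow, sq] at hg
    obtain ⟨c, hc⟩ := isConj_iff.mp (invol_conj hn (f x) (f g) (by rw [← map_mul, hx, map_one])
      (mt (hmem x).mpr hxZ) hg (mt (hmem g).mpr hgZ))
    obtain ⟨c, rfl⟩ := hf c
    obtain ⟨d, hd, rfl⟩ : ∃ d ∈ Subgroup.center H, c * x * c⁻¹ * d = g :=
      ⟨(c * x * c⁻¹)⁻¹ * g, (hmem _).mpr (by
        rw [map_mul, map_inv, map_mul, map_mul, map_inv, hc, inv_mul_cancel]),
        mul_inv_cancel_left _ _⟩
    calc c * x * c⁻¹ * d * (c * x * c⁻¹ * d) = c * x * c⁻¹ * (d * (c * x * c⁻¹)) * d := by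
          simp only [mul_assoc]
      _ = c * x * c⁻¹ * ((c * x * c⁻¹) * d) * d := by rw [← Subgroup.mem_center_iff.mp hd]
      _ = c * (x * x) * c⁻¹ * (d * d) := by simp [mul_assoc]
      _ = 1 := by rw [hx, hc2 d hd]; simp
  have hA : ∀ c, (if n ≤ 1 then 1 else n.factorial / 2) = c →
      Nat.card (alternatingGroup (Fin n)) = c := by
    intro c hc
    rw [← hc, Nat.card_eq_fintype_card]
    split_ifs with h
    · exact Fintype.card_eq_one_iff.mpr ⟨1, fun σ => Subtype.ext (by
        have : Subsingleton (Fin n) := Fin.subsingleton_iff_le_one.mpr h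
        exact Subsingleton.elim _ _)⟩
    · have : Nontrivial (Fin n) := Fin.nontrivial_iff_two_le.mpr (by omega)
      rw [← Nat.card_eq_fintype_card, nat_card_alternatingGroup]
      simp
  interval_cases n
  · refine H91.complement_of_retraction hZ (Subgroup.center H) ?_ (MonoidHom.id _)
      (fun c _ => rfl) le_rfl
    rw [← hker, Subgroup.index_ker, MonoidHom.range_eq_top.mpr hf, Subgroup.card_top, hA _ rfl]
    decide
  · refine H91.complement_of_retraction hZ (Subgroup.center H) ?_ (MonoidHom.id _)
      (fun c _ => rfl) le_rfl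
    rw [← hker, Subgroup.index_ker, MonoidHom.range_eq_top.mpr hf, Subgroup.card_top, hA _ rfl]
    decide
  · refine H91.complement_of_retraction hZ (Subgroup.center H) ?_ (MonoidHom.id _)
      (fun c _ => rfl) le_rfl
    rw [← hker, Subgroup.index_ker, MonoidHom.range_eq_top.mpr hf, Subgroup.card_top, hA _ rfl]
    decide
  · refine H91.complement_of_retraction hZ (Subgroup.center H) ?_ (MonoidHom.id _)
      (fun c _ => rfl) le_rfl
    rw [← hker, Subgroup.index_ker, MonoidHom.range_eq_top.mpr hf, Subgroup.card_top, hA _ rfl]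
    decide
  · let s : alternatingGroup (Fin 4) := ⟨swap 0 2 * swap 1 3, Perm.mem_alternatingGroup.mpr (by decide)⟩
    let t : alternatingGroup (Fin 4) := ⟨swap 0 1 * swap 2 3, Perm.mem_alternatingGroup.mpr (by decide)⟩
    let φ := H91.dihedralLift (n := 2) (s * t) s (by decide) (by decide) (by decide)
    have hinj : Function.Injective φ := by unfold φ; decide
    refine H91.complement_of_dihedral f hf hker hZ hsq (by decide) φ hinj ?_
    have hcard := Subgroup.card_mul_index φ.range
    rw [← Nat.card_congr (MonoidHom.ofInjective hinj).toEquiv, DihedralGroup.nat_card, hA 12 rfl] at hcard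
    exact ⟨1, by omega⟩
  · let s : alternatingGroup (Fin 5) := ⟨swap 0 2 * swap 1 3, Perm.mem_alternatingGroup.mpr (by decide)⟩
    let t : alternatingGroup (Fin 5) := ⟨swap 0 1 * swap 2 3, Perm.mem_alternatingGroup.mpr (by decide)⟩
    let φ := H91.dihedralLift (n := 2) (s * t) s (by decide) (by decide) (by decide)
    have hinj : Function.Injective φ := by unfold φ; decide
    refine H91.complement_of_dihedral f hf hker hZ hsq (by decide) φ hinj ?_
    have hcard := Subgroup.card_mul_index φ.range
    rw [← Nat.card_congr (MonoidHom.ofInjective hinj).toEquiv, DihedralGroup.nat_card, hA 60 rfl] at hcard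
    exact ⟨7, by omega⟩
  · let s : alternatingGroup (Fin 6) := ⟨swap 0 2 * swap 1 3, Perm.mem_alternatingGroup.mpr (by decide)⟩
    let t : alternatingGroup (Fin 6) := ⟨swap 0 1 * swap 4 5, Perm.mem_alternatingGroup.mpr (by decide)⟩
    let φ := H91.dihedralLift (n := 4) (s * t) s (by decide) (by decide) (by decide)
    have hinj : Function.Injective φ := by unfold φ; decide
    refine H91.complement_of_dihedral f hf hker hZ hsq (by decide) φ hinj ?_
    have hcard := Subgroup.card_mul_index φ.range
    rw [← Nat.card_congr (MonoidHom.ofInjective hinj).toEquiv, DihedralGroup.nat_card, hA 360 rfl] at hcard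
    exact ⟨22, by omega⟩
  · let s : alternatingGroup (Fin 7) := ⟨swap 0 2 * swap 1 3, Perm.mem_alternatingGroup.mpr (by decide)⟩
    let t : alternatingGroup (Fin 7) := ⟨swap 0 1 * swap 4 5, Perm.mem_alternatingGroup.mpr (by decide)⟩
    let φ := H91.dihedralLift (n := 4) (s * t) s (by decide) (by decide) (by decide)
    have hinj : Function.Injective φ := by unfold φ; decide
    refine H91.complement_of_dihedral f hf hker hZ hsq (by decide) φ hinj ?_
    have hcard := Subgroup.card_mul_index φ.range
    rw [← Nat.card_congr (MonoidHom.ofInjective hinj).toEquiv, DihedralGroup.nat_card, hA 2520 rfl] at hcard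
    exact ⟨157, by omega⟩

/-- Involutions in double covers of alternating groups: for n ≤ 7, a finite non-split double cover of the alternating group of degree n has exactly one element of order 2 (the central one); for degree 8 there is a non-split double cover with two distinct involutions. -/
theorem result : (∀ (n : ℕ) (H : Type) (_ : Group H) (_ : Finite H), n ≤ 7 → Cfsg.IsNonsplitDoubleCover H (alternatingGroup (Fin n)) → ∀ x y : H, orderOf x = 2 → orderOf y = 2 → x = y) ∧ ∃ (H : Type) (_ : Group H) (_ : Finite H), Cfsg.IsNonsplitDoubleCover H (alternatingGroup (Fin 8)) ∧ ∃ x y : H, x ≠ y ∧ orderOf x = 2 ∧ orderOf y = 2 := by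
  constructor
  · intro n H _ _ hn ⟨hZ, ⟨e⟩, hns⟩ x y hx hy
    have key : ∀ x : H, orderOf x = 2 → x ∈ Subgroup.center H := by
      intro x hx
      by_contra hxZ
      have hker : (e.toMonoidHom.comp (QuotientGroup.mk' (Subgroup.center H))).ker =
          Subgroup.center H := by
        exact (MonoidHom.ker_comp_of_injective _ _ e.injective).trans (QuotientGroup.ker_mk' _)
      obtain ⟨L, hL⟩ := split_le_seven hn _ (e.surjective.comp (QuotientGroup.mk'_surjective _))
        hker hZ x (by rw [← sq, ← hx]; exact pow_orderOf_eq_one x) hxZ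
      exact hns L hL
    have hne : ∀ x : H, orderOf x = 2 → x ≠ 1 := fun x hx e => by rw [e, orderOf_one] at hx; omega
    exact congrArg Subtype.val (((Nat.card_eq_two_iff' (1 : Subgroup.center H)).mp hZ).unique
      (y₁ := ⟨x, key x hx⟩) (y₂ := ⟨y, key y hy⟩)
      (fun e => hne x hx (congrArg Subtype.val e)) (fun e => hne y hy (congrArg Subtype.val e)))
  · haveI : Finite H91.CliffordA8.Rˣ := inferInstance
    exact ⟨H91.SpinA8.cover H91.CliffordA8.model, inferInstance, inferInstance,
      H91.SpinA8.isCover _, H91.SpinA8.two_involutions _⟩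

end Cfsg.Agent.S0447
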