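import Cfsg.Statements.S0476
import Cfsg.Agent.H42.J4Cent.Main
import Cfsg.Agent.H94.J4.Cover

set_option autoImplicit false
open Cfsg

open H42.J4Cent in
theorem H42.J4Cent.jSetup_s_eq (hJ : Cfsg.IsJ4 Cfsg.Spor.J4) : H84.J4N.jSetup.s = sG := by
  have hi := rho_injective hJ
  rw [H84.J4N.jSetup_s]
  refine hi ?_
  have hs : rho sG = H54.J4.Lower.uS :=
    Units.ext ((is_s.trans (congrArg (H26.BitCode.matC 112)
      (show Data.cS = H54.J4.LowerData.cE0 by decide +kernel))).trans H54.J4.Lower.isS.symm)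
  rw [hs]
  rfl

open H42.J4Cent in
theorem H42.J4Cent.qRep_eq (hJ : Cfsg.IsJ4 Cfsg.Spor.J4) :
    ∀ i, H94.J4.qRep i = rep i := by
  have hs := jSetup_s_eq hJ
  have hy : (gy : J)⁻¹ = gy * gy := H54.J4.jY_inv
  have hyy : ∀ w : J, gy * (gy * (gy * w)) = w := fun w => by
    rw [← mul_assoc, ← mul_assoc, show gy * gy * gy = (1 : J) from H54.J4.jY_cube, one_mul]
  intro i
  fin_cases i <;>
    simp [H94.J4.qRep, rep, evG, CountData.wi, letG, let0, hs, hy, hyy, mul_assoc,
      show H54.J4.jX = gx from rfl, show H54.J4.jY = gy from rfl,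
      show H84.J4N.jT = gt from rfl]

namespace Cfsg.Agent.S0476

/-- In some simple group of the order of Janko's fourth group there is an involution whose centraliser C has a normal extraspecial subgroup Q of order 2 ^ 13, a normal subgroup N of order 3 · 2 ^ 13 containing Q, and a subgroup M of index 2 containing N as a normal subgroup with M / N simple of order 443520. -/
theorem result : ∃ (G : Type) (_ : Group G) (_ : Finite G), Cfsg.IsJ4 G ∧ ∃ z : G, orderOf z = 2 ∧ ∃ (Q N M : Subgroup (Subgroup.centralizer ({z} : Set G))), Q.Normal ∧ N.Normal ∧ Q ≤ N ∧ N ≤ M ∧ Nat.card Q = 2 ^ 13 ∧ Cfsg.IsExtraspecial 2 Q ∧ Nat.card N = 3 * 2 ^ 13 ∧ M.index = 2 ∧ ∃ (_ : (N.subgroupOf M).Normal), Cfsg.IsM22 (M ⧸ N.subgroupOf M) := by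
  have hJ := H94.J4.isJ4
  haveI : Finite Cfsg.Spor.J4 := Nat.finite_of_card_ne_zero (by rw [hJ.2]; norm_num)
  haveI : Finite H94.J4.NN := Nat.finite_of_card_ne_zero (by rw [H94.J4.card_NN]; norm_num)
  exact ⟨Cfsg.Spor.J4, inferInstance, inferInstance, hJ,
    H42.J4Cent.body_of_cover hJ H94.J4.iota H94.J4.iota_range H94.J4.q H94.J4.St
      (fun i => (H94.J4.q_eq i).trans (congrArg _ (H42.J4Cent.qRep_eq hJ i)))
      H94.J4.hfix (fun i => (H94.J4.hidx i).trans (by revert i; decide)) H94.J4.hcov⟩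

end Cfsg.Agent.S0476
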