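import Cfsg.Statements.S0481
-- import your own Cfsg.Agent.* helpers here

set_option autoImplicit false
open Cfsg

namespace Cfsg.Agent.S0481

/-- Large extraspecial subgroups: let z be an involution of a finite group G whose centraliser C contains a normal 2-subgroup Q with centre of order 2 and all squares central, such that every element of G centralising Q lies in Q. Then C contains a Sylow 2-subgroup of G, and any involution of G whose centraliser contains a Sylow 2-subgroup of G is conjugate to z. -/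
theorem result {G : Type*} [Group G] [Finite G] (z : G) (hz : orderOf z = 2) (Q : Subgroup G) (hQC : Q ≤ Subgroup.centralizer ({z} : Set G)) (hQn : ∀ g ∈ Subgroup.centralizer ({z} : Set G), ∀ q ∈ Q, g * q * g⁻¹ ∈ Q) (hQ2 : IsPGroup 2 Q) (hZ : Nat.card (Subgroup.center Q) = 2) (hsq : ∀ x : Q, x ^ 2 ∈ Subgroup.center Q) (hlarge : Subgroup.centralizer (Q : Set G) ≤ Q) : (∃ P : Sylow 2 G, (P : Subgroup G) ≤ Subgroup.centralizer ({z} : Set G)) ∧ ∀ u : G, orderOf u = 2 → (∃ P : Sylow 2 G, (P : Subgroup G) ≤ Subgroup.centralizer ({u} : Set G)) → IsConj z u := by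
  set C := Subgroup.centralizer ({z} : Set G) with hC
  obtain ⟨w, hw⟩ : ∃ w : Subgroup.center Q, w ≠ 1 :=
    haveI : Nontrivial (Subgroup.center Q) := Finite.one_lt_card_iff_nontrivial.mp (by omega)
    exists_ne 1
  have hcz : ∀ u : G, u ∈ Subgroup.centralizer (Q : Set G) → u ≠ 1 → u = ((w : Q) : G) := by
    intro u hu hu1
    have huQ := hlarge hu
    have huz : (⟨u, huQ⟩ : Q) ∈ Subgroup.center Q := by
      rw [Subgroup.mem_center_iff]
      intro q
      exact Subtype.ext (Subgroup.mem_centralizer_iff.mp hu q q.2)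
    have h2 := (Nat.card_eq_two_iff' (1 : Subgroup.center Q)).mp hZ
    have := h2.unique (y₁ := ⟨⟨u, huQ⟩, huz⟩) (y₂ := w)
      (fun e => hu1 (congrArg (fun x : Subgroup.center Q => ((x : Q) : G)) e)) hw
    exact congrArg (fun x : Subgroup.center Q => ((x : Q) : G)) this
  have hzQ : z ∈ Subgroup.centralizer (Q : Set G) := by
    rw [Subgroup.mem_centralizer_iff]
    intro q hq
    exact Subgroup.mem_centralizer_singleton_iff.mp (hQC hq)
  have hz1 : z ≠ 1 := fun e => by simp [e] at hz
  have hzw := hcz z hzQ hz1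
  obtain ⟨R, hR⟩ := (hQ2.comap_subtype (K := C)).exists_le_sylow
  obtain ⟨P, hP⟩ := (R.2.map C.subtype).exists_le_sylow
  have hQP : ∀ q ∈ Q, q ∈ P := fun q hq =>
    hP ⟨⟨q, hQC hq⟩, hR (Subgroup.mem_comap.mpr hq), rfl⟩
  have hPC : (P : Subgroup G) ≤ C := by
    haveI : Nontrivial (P : Subgroup G) := ⟨⟨⟨z, hQP z (hlarge hzQ)⟩, 1, fun e => hz1
      (congrArg Subtype.val e)⟩⟩
    haveI := P.2.center_nontrivial
    obtain ⟨y, hy⟩ := exists_ne (1 : Subgroup.center (P : Subgroup G))
    have hyc : ((y : (P : Subgroup G)) : G) ∈ Subgroup.centralizer (Q : Set G) := by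
      rw [Subgroup.mem_centralizer_iff]
      intro q hq
      exact congrArg Subtype.val (Subgroup.mem_center_iff.mp y.2 ⟨q, hQP q hq⟩)
    have hyz : ((y : (P : Subgroup G)) : G) = z := by
      rw [hzw]
      exact hcz _ hyc fun e => hy (Subtype.ext (Subtype.ext e))
    intro x hx
    rw [hC, Subgroup.mem_centralizer_singleton_iff, ← hyz]
    exact congrArg Subtype.val (Subgroup.mem_center_iff.mp y.2 ⟨x, hx⟩)
  refine ⟨⟨P, hPC⟩, fun u hu ⟨S, hS⟩ => ?_⟩
  obtain ⟨g, rfl⟩ := MulAction.exists_smul_eq G P S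
  have hu' : g⁻¹ * u * g ∈ Subgroup.centralizer (Q : Set G) := by
    rw [Subgroup.mem_centralizer_iff]
    intro q hq
    have hmem : g * q * g⁻¹ ∈ g • P := by
      rw [← SetLike.mem_coe, Sylow.coe_smul]
      exact ⟨q, hQP q hq, by simp [MulAut.conj_apply]⟩
    have h1 := Subgroup.mem_centralizer_singleton_iff.mp (hS hmem)
    calc q * (g⁻¹ * u * g) = g⁻¹ * ((g * q * g⁻¹) * u) * g := by group
      _ = g⁻¹ * (u * (g * q * g⁻¹)) * g := by rw [h1]
      _ = g⁻¹ * u * g * q := by group
  have h2 := hcz _ hu' fun e => by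
    have : u = 1 := by
      calc u = g * (g⁻¹ * u * g) * g⁻¹ := by group
        _ = 1 := by rw [e]; group
    simp [this] at hu
  rw [← hzw] at h2
  exact isConj_iff.mpr ⟨g, by rw [← h2]; group⟩

end Cfsg.Agent.S0481
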