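import Cfsg.Statements.S0493
import Cfsg.Agent.H65.SmallSimple

set_option autoImplicit false
open Cfsg

namespace Cfsg.Agent.S0493

/-- A finite simple group of order at most 100 that is not cyclic has order 60. -/
theorem result {G : Type*} [Group G] [Finite G] [IsSimpleGroup G]
    (hG : ¬ IsCyclic G) (h : Nat.card G ≤ 100) : Nat.card G = 60 := by
  refine H65.card_eq_sixty (fun hc => hG ?_) h
  haveI := hc
  letI : CommGroup G := { (inferInstance : Group G) with mul_comm := mul_comm' }
  exact IsSimpleGroup.isCyclic

end Cfsg.Agent.S0493
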