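import Cfsg.Statements.S0499
import Cfsg.Agent.H65.SmallSimple
import Cfsg.Agent.H5.Frobenius
import Cfsg.Agent.S0992

set_option autoImplicit false
open Cfsg

namespace Cfsg.Agent.S0499

/-- A non-abelian finite simple group of even order has order divisible by 12, 16 or 56. -/
theorem result {G : Type*} [Group G] [Finite G] [IsSimpleGroup G]
    (hG : ¬ IsMulCommutative G) (h2 : Even (Nat.card G)) :
    12 ∣ Nat.card G ∨ 16 ∣ Nat.card G ∨ 56 ∣ Nat.card G := by
  haveI : Fact (Nat.Prime 2) := ⟨Nat.prime_two⟩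
  have hd : 2 ∣ Nat.card G := h2.two_dvd
  obtain ⟨T⟩ : Nonempty (Sylow 2 G) := inferInstance
  by_cases h8 : 8 ∣ Nat.card G
  swap
  · obtain ⟨hK, hr⟩ := Cfsg.Agent.S0992.result hG h2 h8 T
    refine Or.inl ?_
    have h4 : 4 ∣ Nat.card G := hK.card_four ▸ Subgroup.card_subgroup_dvd_card _
    have h3 : 3 ∣ Nat.card G := hr ▸
      ((Subgroup.relIndex_dvd_card _ _).trans (Subgroup.card_subgroup_dvd_card _))
    exact (show Nat.Coprime 4 3 by decide).mul_dvd_of_dvd_of_dvd h4 h3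
  by_cases h16 : 16 ∣ Nat.card G
  · exact Or.inr (Or.inl h16)
  by_contra hcon
  push Not at hcon
  obtain ⟨hn12, -, hn56⟩ := hcon
  have h3 : ¬ 3 ∣ Nat.card G := fun h => hn12 ((show Nat.Coprime 4 3 by decide).mul_dvd_of_dvd_of_dvd
    ((show 4 ∣ 8 by norm_num).trans h8) h)
  have h7 : ¬ 7 ∣ Nat.card G := fun h =>
    hn56 ((show Nat.Coprime 8 7 by decide).mul_dvd_of_dvd_of_dvd h8 h)
  obtain ⟨P, N, hN, hc⟩ : Cfsg.HasNormalPComplement 2 G := by
    refine H5.hasNormalPComplement_of_frobenius T fun Q hQ g hg hcop => ?_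
    by_contra hgC
    set φ : MulAut Q := Subgroup.normalizerMonoidHom Q ⟨g, hg⟩ with hφ
    have hφ1 : orderOf φ ≠ 1 := by
      intro h
      have h1 : φ = 1 := orderOf_eq_one_iff.1 h
      refine hgC ?_
      have hk : (⟨g, hg⟩ : Subgroup.normalizer (Q : Set G)) ∈ (Subgroup.normalizerMonoidHom Q).ker := h1
      rw [Subgroup.normalizerMonoidHom_ker] at hk
      exact hk
    obtain ⟨q, hq, hqd⟩ := Nat.exists_prime_and_dvd hφ1
    have hdg : orderOf φ ∣ orderOf g := by
      have := orderOf_map_dvd (Subgroup.normalizerMonoidHom Q) ⟨g, hg⟩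
      rwa [Subgroup.orderOf_mk] at this
    have hqg : q ∣ orderOf g := hqd.trans hdg
    have hq2 : q ≠ 2 := fun h => Nat.not_coprime_of_dvd_of_dvd one_lt_two (h ▸ hqg) dvd_rfl hcop
    have hQ8 : Nat.card Q ≤ 8 := by
      obtain ⟨k, hk⟩ := IsPGroup.iff_card.1 T.2
      have hTd : 2 ^ k ∣ Nat.card G := hk ▸ Subgroup.card_subgroup_dvd_card _
      refine (Subgroup.card_le_of_le hQ).trans ?_
      rw [hk]
      have hk3 : k ≤ 3 := by
        by_contra hk4
        exact h16 ((pow_dvd_pow 2 (by omega : 4 ≤ k)).trans hTd)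
      exact (Nat.pow_le_pow_right two_pos hk3).trans (le_of_eq (by norm_num))
    rcases H65.aut_prime_order (T.2.to_le hQ) hQ8 (φ ^ (orderOf φ / q)) hq hq2
      (orderOf_pow_orderOf_div (orderOf_pos φ).ne' hqd) with h | h
    · exact h3 (h ▸ hqg.trans (orderOf_dvd_natCard g))
    · exact h7 (h ▸ hqg.trans (orderOf_dvd_natCard g))
  rcases hN.eq_bot_or_eq_top with h | h
  · have h1 := hc.index_eq_card
    rw [h, Subgroup.card_bot, Subgroup.index_eq_one] at h1
    have hPG : IsPGroup 2 (⊤ : Subgroup G) := h1 ▸ P.2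
    exact H62.not_isPGroup_of_simple hG 2 (hPG.of_equiv Subgroup.topEquiv)
  · have h1 := hc.symm.index_eq_card
    rw [h, Subgroup.index_top] at h1
    have h2d := P.dvd_card_of_dvd_card hd
    rw [← h1] at h2d
    omega

end Cfsg.Agent.S0499
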