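import Cfsg.Statements.S0518
import Cfsg.Agent.S2947
import Cfsg.Agent.S2954
import Cfsg.Agent.H16.ZN.Local
import Cfsg.Agent.H77.ZFinal
-- import your own Cfsg.Agent.* helpers here

set_option autoImplicit false
open Cfsg

namespace Cfsg.Agent.S0518

/-- Let G be a finite group of characteristic 2 type with trivial 2-core in which every 2-local subgroup is solvable
and, for every Sylow 2-subgroup S, the centralizer of the set of central involutions of S lies in the normalizer of S.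
Then either G has a strongly embedded subgroup, or the subgroup generated by the elements of odd order has two distinct
maximal 2-local subgroups, each isomorphic to the symmetric group of degree 4, whose intersection has order 8. -/
theorem result {G : Type*} [Group G] [Finite G]
    (hL : Cfsg.IsCharacteristicTwoType G) (hO : Cfsg.pCore 2 G = ⊥)
    (hN : ∀ N : Subgroup G, Cfsg.IsTwoLocal N → Group.IsSolvable N)
    (hZ : ∀ S : Sylow 2 G,
      Subgroup.centralizer {z : G | z ∈ (S : Subgroup G) ∧ z ^ 2 = 1 ∧ ∀ s ∈ (S : Subgroup G), s * z = z * s} ≤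
        Subgroup.normalizer ((S : Subgroup G) : Set G))
    (H : Subgroup G) (hH : H = Subgroup.closure {g : G | Odd (orderOf g)}) :
    (∃ K : Subgroup G, Cfsg.IsStronglyEmbedded K) ∨
      ∃ M₁ M₂ : Subgroup H, M₁ ≠ M₂ ∧ Cfsg.IsMaximalTwoLocal M₁ ∧ Cfsg.IsMaximalTwoLocal M₂ ∧
        Nonempty (M₁ ≃* Equiv.Perm (Fin 4)) ∧ Nonempty (M₂ ≃* Equiv.Perm (Fin 4)) ∧ Nat.card ↥(M₁ ⊓ M₂) = 8 := by
  open H77.ZC H16.ZN in
  haveI : Fact (Nat.Prime 2) := ⟨Nat.prime_two⟩
  have hcen : ∀ S : Sylow 2 G, Subgroup.centralizer (Cfsg.omegaCenterOf (S : Subgroup G) : Set G) ≤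
      Subgroup.normalizer ((S : Subgroup G) : Set G) := by
    intro S c hc
    refine hZ S (Subgroup.mem_centralizer_iff.2 fun u hu => ?_)
    obtain ⟨huS, hu2, huc⟩ := hu
    exact Subgroup.mem_centralizer_iff.1 hc u
      (H77.mem_omegaCenterOf.2 ⟨huS, huc, by rw [← sq]; exact hu2⟩)
  have hHr : H = Cfsg.pResidual 2 G := by
    rw [hH, Cfsg.pResidual]
    congr 1
    ext g
    exact Nat.coprime_two_right.symm
  subst hHr
  clear hH
  obtain ⟨S⟩ : Nonempty (Sylow 2 G) := inferInstance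
  have hS1 : (S : Subgroup G) ≠ ⊥ := S.ne_bot_of_dvd_card (even_iff_two_dvd.1 hL.1)
  set M := Subgroup.normalizer (Cfsg.thompsonSubgroupOf 2 (S : Subgroup G) : Set G) with hMdef
  have hM : Cfsg.IsTwoLocal M :=
    ⟨_, S.2.to_le (Subgroup.map_subtype_le _), H77.thompson_ne_bot S.2 hS1, rfl⟩
  by_cases hstr : Cfsg.straddlingTwoSubgroups M = ∅
  · exact Or.inl ⟨M, (Cfsg.Agent.S2947.result hL hN hcen hO S M hM le_rfl).2 hstr⟩
  right
  obtain ⟨T, hT⟩ := H77.ZC.exists_maxStraddling hstr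
  obtain ⟨P₁, P₂, hne, hm₁, hm₂, ht₁, ht₂, hiso⟩ :=
    Cfsg.Agent.S2954.result hL hN hcen hO S M hM le_rfl T hT
  have hTcard : ∀ {P : Subgroup G} {a b : ℕ}, Cfsg.IsSylowTwoIn T P → Nat.card ↥P = 2 ^ a * b → Odd b →
      Nat.card ↥T = 2 ^ a := by
    intro P a b ht hP hb
    obtain ⟨k, hk⟩ := IsPGroup.iff_card.1 ht.2.1
    have h1 := Subgroup.card_mul_index (T.subgroupOf P)
    rw [Nat.card_congr (Subgroup.subgroupOfEquivOfLe ht.1).toEquiv, hk, hP] at h1
    have hr : ¬ 2 ∣ T.relIndex P := fun hd => Nat.not_even_iff_odd.2 ht.2.2 (even_iff_two_dvd.2 hd)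
    have hb' : ¬ 2 ∣ b := fun hd => Nat.not_even_iff_odd.2 hb (even_iff_two_dvd.2 hd)
    have h2 := congrArg (fun n => n.factorization 2) h1
    replace h2 : (2 ^ k * (T.subgroupOf P).index).factorization 2 = (2 ^ a * b).factorization 2 := h2
    rw [Nat.factorization_mul (by positivity) (fun h => hr (by rw [Subgroup.relIndex, h]; exact dvd_zero 2)),
      Nat.factorization_mul (pow_ne_zero a two_ne_zero) (fun h : b = 0 => hb' (by rw [h]; exact dvd_zero 2))] at h2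
    simp [Nat.prime_two.factorization_pow, Nat.factorization_eq_zero_of_not_dvd hb',
      Nat.factorization_eq_zero_of_not_dvd (show ¬ 2 ∣ (T.subgroupOf P).index from hr)] at h2
    rw [hk, h2]
  rcases hiso with ⟨⟨e₁⟩, ⟨e₂⟩⟩ | ⟨⟨e₁⟩, ⟨e₂⟩⟩
  · -- `Σ₄`
    obtain ⟨V₁, hV₁, hc₁⟩ := four_of_iso e₁
    obtain ⟨V₂, hV₂, hc₂⟩ := four_of_iso e₂
    have hT8 : Nat.card ↥T = 8 :=
      hTcard (a := 3) (b := 3) ht₁ (by rw [card_of_iso e₁]; norm_num) (by decide)
    have hVT : ∀ {P V : Subgroup G}, Four P V → Cfsg.IsSylowTwoIn T P → V ≤ T := fun hF ht =>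
      (H77.le_pCoreOf hF.le (IsPGroup.of_card (n := 2) (by rw [hF.card]; norm_num)) hF.norm).trans
        (H77.pCoreOf_le_sylTwo ht)
    have hb : ∀ {P V : Subgroup G}, Four P V → V ≠ ⊥ := fun hF e => by
      have := hF.card; rw [e, Subgroup.card_bot] at this; omega
    have hn : ∀ {P V : Subgroup G}, Cfsg.IsMaximalTwoLocal P → Four P V →
        Subgroup.normalizer (V : Set G) = P := fun hm hF =>
      normalizer_eq_of_max hm (IsPGroup.of_card (n := 2) (by rw [hF.card]; norm_num)) (hb hF) hF.norm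
    have hVne : V₁ ≠ V₂ := fun e => hne (by rw [← hn hm₁ hV₁, e, hn hm₂ hV₂])
    have hsup : V₁ ⊔ V₂ = T := by
      refine Subgroup.eq_of_le_of_card_ge (sup_le (hVT hV₁ ht₁) (hVT hV₂ ht₂)) ?_
      have hd : Nat.card ↥(V₁ ⊔ V₂) ∣ 8 := hT8 ▸ Subgroup.card_dvd_of_le (sup_le (hVT hV₁ ht₁) (hVT hV₂ ht₂))
      have hlt : 4 < Nat.card ↥(V₁ ⊔ V₂) := by
        by_contra hc
        push Not at hc
        have h1 := Subgroup.eq_of_le_of_card_ge (le_sup_left : V₁ ≤ V₁ ⊔ V₂) (by rw [hV₁.card]; exact hc)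
        have h2 := Subgroup.eq_of_le_of_card_ge (le_sup_right : V₂ ≤ V₁ ⊔ V₂) (by rw [hV₂.card]; exact hc)
        exact hVne (h1.trans h2.symm)
      obtain ⟨i, hi, hie⟩ := (Nat.dvd_prime_pow Nat.prime_two).1 (show Nat.card ↥(V₁ ⊔ V₂) ∣ 2 ^ 3 from hd)
      rw [hie] at hlt ⊢
      rw [hT8]
      interval_cases i <;> omega
    have hTr : T ≤ Cfsg.pResidual 2 G := hsup ▸ sup_le hV₁.res hV₂.res
    exact pair_sub (le_residual e₁ ht₁.1 hT8 hTr) (le_residual e₂ ht₂.1 hT8 hTr) e₁ e₂ hV₁ hV₂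
      (fun g _ hg => (hn hm₁ hV₁) ▸ hg) (fun g _ hg => (hn hm₂ hV₂) ▸ hg) hne hT8 ht₁.1 ht₂.1
  · -- `Σ₄ × ℤ₂`
    obtain ⟨V₁, c₁, s₁⟩ := side_of_iso e₁
    obtain ⟨V₂, c₂, s₂⟩ := side_of_iso e₂
    obtain ⟨z, v, w, f⟩ := (Pair.mk hne hm₁ hm₂ s₁ s₂ ht₁ ht₂).exists_frame
    obtain ⟨z', v', w', f'⟩ := (Pair.mk hne.symm hm₂ hm₁ s₂ s₁ ht₂ ht₁).exists_frame
    have hD : V₁ ⊔ V₂ ≤ Cfsg.pResidual 2 G := f.D_le_res
    have hD₁ : V₁ ⊔ V₂ ≤ P₁ := f.D_le_T.trans ht₁.1
    have hD₂ : V₁ ⊔ V₂ ≤ P₂ := f.D_le_T.trans ht₂.1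
    have hcen₀ : ∀ {P V : Subgroup G} {c : G}, Side P V c → c ∉ Cfsg.pResidual 2 G →
        ∀ x ∈ P, (∀ p ∈ P, p * x = x * p) → x ∈ Cfsg.pResidual 2 G → x = 1 := by
      intro P V c s hc x hxP hxc hxr
      by_contra hx1
      rcases s.cen x hxP (fun a ha => (hxc a (s.le ha)).symm) with h | h
      · obtain ⟨b, hb, hb1, hbx⟩ : ∃ b ∈ V, b ≠ 1 ∧ b ≠ x := by
          by_contra hcon
          push Not at hcon
          classical
          have hsub : (V : Set G) ⊆ (({1, x} : Finset G) : Set G) := fun a ha => by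
            simp only [Finset.coe_insert, Finset.coe_singleton, Set.mem_insert_iff, Set.mem_singleton_iff]
            by_cases ha1 : a = 1
            · exact Or.inl ha1
            · exact Or.inr (hcon a ha ha1)
          have h1 := Nat.card_mono (Finset.finite_toSet ({1, x} : Finset G)) hsub
          rw [Nat.card_coe_set_eq, Nat.card_coe_set_eq, Set.ncard_coe_finset, ← Nat.card_coe_set_eq] at h1
          have h2 : Nat.card ↥V ≤ 2 := h1.trans Finset.card_le_two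
          rw [s.card] at h2
          omega
        obtain ⟨g, hg, hgb⟩ := s.trans x h b hb hx1 hb1
        exact hbx (by rw [← hgb, hxc g hg, mul_inv_cancel_right])
      · refine hc ?_
        have h1 : c * x ∈ Cfsg.pResidual 2 G := s.res h
        have h2 := mul_mem h1 (inv_mem hxr)
        rwa [mul_inv_cancel_right] at h2
    obtain ⟨g₁⟩ := inf_residual_iso s₁ e₁ (hcen₀ s₁ (c_not_mem_residual f)) hD₁ f.card_D hD
    obtain ⟨g₂⟩ := inf_residual_iso s₂ e₂ (hcen₀ s₂ (c_not_mem_residual f')) hD₂ f.card_D hD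
    have hFour : ∀ {P V : Subgroup G} {c : G}, Side P V c →
        (↥(P ⊓ Cfsg.pResidual 2 G) ≃* Equiv.Perm (Fin 4)) → Four (P ⊓ Cfsg.pResidual 2 G) V := by
      intro P V c s g
      obtain ⟨W, hW, -⟩ := four_of_iso g
      have hVW : V ≤ W := two_normal_le g hW.le hW.norm hW.card (le_inf s.le s.res)
        (inf_le_left.trans s.norm) s.V_pgroup
      rwa [Subgroup.eq_of_le_of_card_ge hVW (by rw [s.card, hW.card])]
    have hn : ∀ {P V : Subgroup G} {c : G}, Cfsg.IsMaximalTwoLocal P → Side P V c →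
        Subgroup.normalizer (V : Set G) = P := fun hm s =>
      normalizer_eq_of_max hm s.V_pgroup
        (fun e => by have := s.card; rw [e, Subgroup.card_bot] at this; omega) s.norm
    refine pair_sub inf_le_right inf_le_right g₁ g₂ (hFour s₁ g₁) (hFour s₂ g₂)
      (fun g hgH hg => ⟨(hn hm₁ s₁) ▸ hg, hgH⟩) (fun g hgH hg => ⟨(hn hm₂ s₂) ▸ hg, hgH⟩) ?_ f.card_D
      (le_inf hD₁ hD) (le_inf hD₂ hD)
    intro hK
    set K := P₁ ⊓ Cfsg.pResidual 2 G with hKdef
    have hDn : K ≤ Subgroup.normalizer ((V₁ ⊔ V₂ : Subgroup G) : Set G) :=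
      Cfsg.Comp.sup_le_normalizer (inf_le_left.trans s₁.norm) (hK.le.trans (inf_le_left.trans s₂.norm))
    haveI : ((V₁ ⊔ V₂).subgroupOf K).Normal := Subgroup.normal_subgroupOf_of_le_normalizer hDn
    haveI : (((V₁ ⊔ V₂).subgroupOf K).map g₁.toMonoidHom).Normal :=
      Subgroup.Normal.map inferInstance _ g₁.surjective
    refine no_eight (((V₁ ⊔ V₂).subgroupOf K).map g₁.toMonoidHom) ?_
    rw [Subgroup.card_map_of_injective g₁.injective,
      Nat.card_congr (Subgroup.subgroupOfEquivOfLe (le_inf hD₁ hD)).toEquiv, f.card_D]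

end Cfsg.Agent.S0518
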