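import Cfsg.Statements.S0520
import Cfsg.Agent.H66.FourCore

set_option autoImplicit false
open Cfsg

namespace Cfsg.Agent.S0520

/-- Let G be a finite group of 2-rank at least 2 and S a Sylow 2-subgroup whose commuting graph of Klein four-subgroups is
connected. Then the commuting graph of Klein four-subgroups of G is disconnected if and only if the 2-generated core — the
subgroup generated by the normalizers N_G(Q) of the subgroups Q of S that contain a Klein four-group — is a proper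
subgroup of G. -/
theorem result {G : Type*} [Group G] [Finite G] (h2 : ¬ Cfsg.PRankLE 2 1 G)
    (S : Sylow 2 G) (hS : Cfsg.IsFourConnected (S : Subgroup G)) :
    ¬ Cfsg.IsFourConnected G ↔
      (⨆ Q : {Q : Subgroup G // Q ≤ (S : Subgroup G) ∧ ¬ Cfsg.PRankLE 2 1 Q},
          Subgroup.normalizer ((Q : Subgroup G) : Set G)) ≠ ⊤ := by
  haveI : Fact (Nat.Prime 2) := ⟨Nat.prime_two⟩
  obtain ⟨W, hW, hWS⟩ : ∃ W : Subgroup G, IsKleinFour W ∧ W ≤ (S : Subgroup G) := by
    have h2' : ¬ Cfsg.PRankLE 2 1 (⊤ : Subgroup G) := fun h => h2 (fun A hAc hA2 => by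
      have e := Subgroup.subgroupOfEquivOfLe (le_top : A ≤ ⊤)
      have := h (A.subgroupOf ⊤) ⟨⟨fun a b => Subtype.ext (Subtype.ext
        (show (a.1.1 : G) * b.1.1 = b.1.1 * a.1.1 from
          congrArg (fun x : A => (x : G)) (hAc.is_comm.comm ⟨a.1.1, a.2⟩ ⟨b.1.1, b.2⟩)))⟩⟩
        (fun a ha => Subtype.ext (hA2 a.1 ha))
      rwa [Nat.card_congr e.toEquiv] at this)
    obtain ⟨V, hV, -⟩ := H66.Four.exists_four_of_rank h2'
    obtain ⟨T, hT⟩ := (IsPGroup.of_card (p := 2) (n := 2) hV.card_four).exists_le_sylow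
    obtain ⟨g, rfl⟩ := MulAction.exists_smul_eq G S T
    refine ⟨_, H66.Four.klein_smul g⁻¹ hV, ?_⟩
    rintro _ ⟨x, hx, rfl⟩
    have hx1 := hT hx
    rw [Sylow.coe_subgroup_smul] at hx1
    obtain ⟨y, hy, rfl⟩ := hx1
    show g⁻¹ * (g * y * g⁻¹) * g⁻¹⁻¹ ∈ _
    rw [show g⁻¹ * (g * y * g⁻¹) * g⁻¹⁻¹ = y by group]
    exact hy
  constructor
  · exact fun hn h => hn (H66.Four.connected_of_core_top S hW hWS hS h)
  · exact fun hn h => hn (H66.Four.core_top_of_connected S hW hWS h)

end Cfsg.Agent.S0520
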