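import Cfsg.Statements.S0521
import Cfsg.Agent.H66.SylowDerived

set_option autoImplicit false
open Cfsg

namespace Cfsg.Agent.S0521

/-- Let X be a finite solvable group of odd order, p a prime and S a Sylow p-subgroup of X whose commutator subgroup is
cyclic. Then the product of the largest normal subgroup of X of order prime to p with S is a normal subgroup of X. -/
theorem result {X : Type*} [Group X] [Finite X] [Group.IsSolvable X]
    (hX : Odd (Nat.card X)) (p : ℕ) [Fact p.Prime] (S : Sylow p X) (hS : IsCyclic (commutator (S : Subgroup X))) :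
    (Cfsg.pPrimeCore p X ⊔ (S : Subgroup X)).Normal := by
  classical
  haveI hNn := H1.pPrimeCore_normal' p X
  set N := Cfsg.pPrimeCore p X with hN
  set π := QuotientGroup.mk' N with hπ
  set Y := X ⧸ N
  haveI : Group.IsSolvable Y := Group.isSolvable_of_surjective (QuotientGroup.mk'_surjective N)
  have hY0 : Cfsg.pPrimeCore p Y = ⊥ := H1.pPrimeCore_quotient_pPrimeCore (G := X) p
  have hYodd : Odd (Nat.card Y) := hX.of_dvd_nat (Subgroup.card_quotient_dvd_card N)
  haveI hPn : (Cfsg.pCore p Y).Normal := H1.pCore_normal' p Y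
  set P := Cfsg.pCore p Y with hP
  set Φ : Subgroup Y := (frattini ↥P).map P.subtype with hΦ
  haveI hΦn : Φ.Normal := inferInstance
  set ρ := QuotientGroup.mk' Φ with hρ
  set V : Subgroup (Y ⧸ Φ) := P.map ρ with hV
  haveI : V.Normal := hPn.map _ (QuotientGroup.mk'_surjective Φ)
  have hC : Subgroup.centralizer (P : Set Y) ≤ P :=
    H10.centralizer_pCore_le H10.isPSolvable_of_isSolvable hY0
  have hPp : IsPGroup p P := H1.isPGroup_pCore p Y
  have hVc : ∀ u ∈ V, ∀ v ∈ V, u * v = v * u := by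
    rintro _ ⟨u, hu, rfl⟩ _ ⟨v, hv, rfl⟩
    have h1 := H31.commutator_le_frattini hPp (Subgroup.commutator_mem_commutator
      (Subgroup.mem_top (⟨u, hu⟩ : P)) (Subgroup.mem_top (⟨v, hv⟩ : P)))
    rw [← commutatorElement_eq_one_iff_mul_comm, ← map_commutatorElement]
    exact (QuotientGroup.eq_one_iff _).mpr ⟨_, h1, by simp [commutatorElement_def]⟩
  have hVp : ∀ v ∈ V, v ^ p = 1 := by
    rintro _ ⟨u, hu, rfl⟩
    rw [← map_pow]
    exact (QuotientGroup.eq_one_iff _).mpr ⟨_, H31.pow_mem_frattini hPp ⟨u, hu⟩, by simp⟩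
  have hVC : Subgroup.centralizer (V : Set (Y ⧸ Φ)) ≤ V := by
    intro z hz
    obtain ⟨y, rfl⟩ := (QuotientGroup.mk'_surjective Φ : Function.Surjective ρ) z
    refine ⟨y, ?_, rfl⟩
    refine H68.mem_pCore_of_trivial_mod_frattini hC fun q hq => ?_
    refine (QuotientGroup.eq_one_iff _).mp ?_
    have h1 := Subgroup.mem_centralizer_iff.mp hz _ ⟨q, hq, rfl⟩
    show ρ (y * q * y⁻¹ * q⁻¹) = 1
    simp only [map_mul, map_inv]; simp only [hρ] at h1 ⊢
    rw [← h1]
    group
  -- the images of `S`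
  have hπs := QuotientGroup.mk'_surjective N
  have hρs := QuotientGroup.mk'_surjective Φ
  set SY : Sylow p Y := S.mapSurjective hπs with hSY
  set T : Sylow p (Y ⧸ Φ) := SY.mapSurjective hρs with hT
  have hVT : V ≤ (T : Subgroup (Y ⧸ Φ)) := by
    rw [hT, Sylow.coe_mapSurjective]
    exact Subgroup.map_mono (H1.pCore_le_sylow SY)
  have hTcyc : IsCyclic (commutator ↥(T : Subgroup (Y ⧸ Φ))) := by
    haveI := hS
    have hT2 : (T : Subgroup (Y ⧸ Φ)) = (S : Subgroup X).map (ρ.comp π) := by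
      rw [hT, hSY, Sylow.coe_mapSurjective, Sylow.coe_mapSurjective, Subgroup.map_map]
    let f : ↥(S : Subgroup X) →* ↥(T : Subgroup (Y ⧸ Φ)) :=
      ((ρ.comp π).comp (S : Subgroup X).subtype).codRestrict _ fun s => hT2 ▸ ⟨s, s.2, rfl⟩
    have hf : Function.Surjective f := by
      rintro ⟨z, hz⟩
      rw [hT2] at hz
      obtain ⟨s, hs, rfl⟩ := hz
      exact ⟨⟨s, hs⟩, rfl⟩
    have hc : (commutator ↥(S : Subgroup X)).map f = commutator ↥(T : Subgroup (Y ⧸ Φ)) := by
      rw [commutator_def, Subgroup.map_commutator, Subgroup.map_top_of_surjective f hf, commutator_def]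
    rw [← hc]
    exact isCyclic_of_surjective (f.subgroupMap _) (f.subgroupMap_surjective _)
  have hTn : (T : Subgroup (Y ⧸ Φ)).Normal :=
    H66.SD.normal_of_cyclic_commutator (hYodd.of_dvd_nat (Subgroup.card_quotient_dvd_card Φ))
      hVc hVp hVC T hVT hTcyc
  have hSYn : (SY : Subgroup Y).Normal := by
    have h1 : ((T : Subgroup (Y ⧸ Φ))).comap ρ = (SY : Subgroup Y) := by
      rw [hT, Sylow.coe_mapSurjective, Subgroup.comap_map_eq, QuotientGroup.ker_mk', sup_eq_left]
      exact (Subgroup.map_subtype_le _).trans (H1.pCore_le_sylow SY)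
    exact h1 ▸ hTn.comap ρ
  have h2 : ((SY : Subgroup Y)).comap π = N ⊔ (S : Subgroup X) := by
    rw [hSY, Sylow.coe_mapSurjective, Subgroup.comap_map_eq, QuotientGroup.ker_mk', sup_comm]
  exact h2 ▸ hSYn.comap π

end Cfsg.Agent.S0521
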