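import Cfsg.Statements.S0522
import Cfsg.Agent.H66.TransOdd

set_option autoImplicit false
open Cfsg

namespace Cfsg.Agent.S0522

/-- Transitivity Theorem (odd-order setting). Let X be a finite group of odd order in which the normalizer of every
nontrivial p-subgroup is solvable, P a Sylow p-subgroup, and B an abelian subgroup of P, normalized by P, with
C_P(B) = B and containing an elementary abelian subgroup of order p^3. Then for every prime q ≠ p, any two q-subgroups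
that are maximal among the q-subgroups normalized by B are conjugate by an element of the centralizer of B. -/
theorem result {X : Type*} [Group X] [Finite X] (hX : Odd (Nat.card X)) (p : ℕ)
    [Fact p.Prime] (hloc : ∀ T : Subgroup X, IsPGroup p T → T ≠ ⊥ → Group.IsSolvable (Subgroup.normalizer (T : Set X)))
    (P : Sylow p X) (B : Subgroup X) (hBP : B ≤ (P : Subgroup X))
    (hBn : ∀ x ∈ (P : Subgroup X), ∀ b ∈ B, x * b * x⁻¹ ∈ B) (hBa : IsMulCommutative B)
    (hBc : (P : Subgroup X) ⊓ Subgroup.centralizer (B : Set X) = B)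
    (hB3 : ∃ E : Subgroup X, E ≤ B ∧ (∀ e ∈ E, e ^ p = 1) ∧ p ^ 3 ≤ Nat.card E)
    (q : ℕ) [Fact q.Prime] (hqp : q ≠ p) (Q₁ Q₂ : Subgroup X)
    (h₁ : IsPGroup q Q₁ ∧ B ≤ Subgroup.normalizer (Q₁ : Set X) ∧
      ∀ R : Subgroup X, IsPGroup q R → B ≤ Subgroup.normalizer (R : Set X) → Q₁ ≤ R → R = Q₁)
    (h₂ : IsPGroup q Q₂ ∧ B ≤ Subgroup.normalizer (Q₂ : Set X) ∧
      ∀ R : Subgroup X, IsPGroup q R → B ≤ Subgroup.normalizer (R : Set X) → Q₂ ≤ R → R = Q₂) :
    ∃ c ∈ Subgroup.centralizer (B : Set X), Q₂ = Q₁.map (MulAut.conj c).toMonoidHom := by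
  obtain ⟨E, hEB, hE, hE3⟩ := hB3
  have hp2 : p ≠ 2 := by
    rintro rfl
    obtain ⟨n, hn⟩ := IsPGroup.iff_card.mp (P.isPGroup'.to_le (hEB.trans hBP))
    have hd : 2 ∣ Nat.card X := by
      refine dvd_trans ?_ (Subgroup.card_subgroup_dvd_card E)
      rw [hn]
      refine dvd_pow_self 2 ?_
      rintro rfl
      rw [hn] at hE3
      norm_num at hE3
    exact (Nat.not_even_iff_odd.mpr hX) (even_iff_two_dvd.mpr hd)
  have hscn : Cfsg.IsSCN (P : Subgroup X) B := by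
    refine ⟨hBP, fun x hx => Subgroup.mem_set_normalizer_iff.mpr fun b => ⟨hBn x hx b, fun hb => ?_⟩, hBc⟩
    have := hBn x⁻¹ (inv_mem hx) _ hb
    simpa [mul_assoc] using this
  have mk : ∀ Q : Subgroup X, (IsPGroup q Q ∧ B ≤ Subgroup.normalizer (Q : Set X) ∧
      ∀ R : Subgroup X, IsPGroup q R → B ≤ Subgroup.normalizer (R : Set X) → Q ≤ R → R = Q) →
      Q ∈ Cfsg.maxInvSubgroups ⊤ B ({q} : Set ℕ) := fun Q h =>
    ⟨H81.mem_inv_iff.mpr ⟨h.1, h.2.1⟩, fun R hR hle =>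
      h.2.2 R (H81.mem_inv_iff.mp hR).1 (H81.mem_inv_iff.mp hR).2 hle⟩
  exact H66.TO.transitive hp2 hloc hscn hBa hEB hE hE3 hqp (Nat.card X) (mk Q₁ h₁) (mk Q₂ h₂)
    (Nat.le_add_right _ _)

end Cfsg.Agent.S0522
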