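import Cfsg.Statements.S0555
import Cfsg.Agent.H3.SsProps

set_option autoImplicit false
open Cfsg

namespace Cfsg.Agent.S0555

/-- Let i ≥ 1. If in the derived series of a group the quotient of the i-th term by the (i+1)-st and the quotient of the (i+1)-st by the (i+2)-nd are both cyclic, then the (i+1)-st and (i+2)-nd terms coincide. -/
theorem result {G : Type*} [Group G] (i : ℕ) (hi : 1 ≤ i) (h₁ : IsCyclic (↥(derivedSeries G i) ⧸ (derivedSeries G (i + 1)).subgroupOf (derivedSeries G i))) (h₂ : IsCyclic (↥(derivedSeries G (i + 1)) ⧸ (derivedSeries G (i + 2)).subgroupOf (derivedSeries G (i + 1)))) : derivedSeries G (i + 1) = derivedSeries G (i + 2) := by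
  set L := derivedSeries G (i + 2)
  haveI : L.Normal := derivedSeries_normal G _
  set π : G →* G ⧸ L := QuotientGroup.mk' L
  have hπ : Function.Surjective π := QuotientGroup.mk'_surjective L
  set D : ℕ → Subgroup (G ⧸ L) := derivedSeries (G ⧸ L)
  have hD : ∀ j, (derivedSeries G j).map π = D j := map_derivedSeries_eq hπ
  haveI : (D (i + 1)).Normal := derivedSeries_normal (G ⧸ L) _
  haveI : IsCyclic (D (i + 1)) := by
    rw [← hD]
    refine isCyclic_of_surjective
      (QuotientGroup.lift (L.subgroupOf (derivedSeries G (i + 1)))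
        (π.subgroupMap (derivedSeries G (i + 1))) ?_) ?_
    · intro x hx
      apply Subtype.ext
      exact (QuotientGroup.eq_one_iff (x : G)).mpr hx
    · exact QuotientGroup.lift_surjective_of_surjective _ _ (MonoidHom.subgroupMap_surjective _ _) _
  obtain ⟨q, hq⟩ := h₁.exists_generator
  obtain ⟨k, rfl⟩ := QuotientGroup.mk_surjective q
  have hDi : D i ≤ Subgroup.zpowers (π (k : G)) ⊔ D (i + 1) := by
    rw [← hD, ← hD]
    rintro _ ⟨x, hx, rfl⟩
    obtain ⟨n, hn⟩ := hq (QuotientGroup.mk ⟨x, hx⟩)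
    change (QuotientGroup.mk k) ^ n = _ at hn
    rw [← QuotientGroup.mk_zpow, QuotientGroup.eq, Subgroup.mem_subgroupOf] at hn
    have hx' : π x = π (k : G) ^ n * π ((k : G) ^ (-n) * x) := by
      simp [map_mul, map_zpow]
    rw [hx']
    refine Subgroup.mul_mem_sup (Subgroup.zpow_mem_zpowers _ n) ⟨_, ?_, rfl⟩
    simpa using hn
  have hcen : D i ≤ Subgroup.centralizer (D (i + 1) : Set (G ⧸ L)) := by
    refine le_trans ?_ (H3.commutator_le_centralizer_of_cyclic_normal (D (i + 1)))
    rw [← derivedSeries_one]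
    exact derivedSeries_antitone (G := G ⧸ L) hi
  set z := π (k : G)
  have hz : z ∈ D i := by rw [← hD]; exact ⟨k, k.2, rfl⟩
  have hS : Subgroup.zpowers z ⊔ D (i + 1) ≤
      Subgroup.centralizer ((Subgroup.zpowers z ⊔ D (i + 1) : Subgroup (G ⧸ L)) : Set (G ⧸ L)) := by
    refine sup_le ?_ ?_ <;> rw [Subgroup.le_centralizer_iff] <;> refine sup_le ?_ ?_
    · exact Subgroup.le_centralizer _
    · exact Subgroup.le_centralizer_iff.mp ((Subgroup.zpowers_le.mpr hz).trans hcen)
    · exact (Subgroup.zpowers_le.mpr hz).trans hcen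
    · exact Subgroup.le_centralizer _
  have hbot : D (i + 1) = ⊥ := by
    show ⁅D i, D i⁆ = ⊥
    rw [Subgroup.commutator_eq_bot_iff_le_centralizer]
    exact hDi.trans (hS.trans (Subgroup.centralizer_le hDi))
  rw [← hD, Subgroup.map_eq_bot_iff, QuotientGroup.ker_mk'] at hbot
  exact le_antisymm hbot (derivedSeries_antitone (G := G) (Nat.le_succ _))
end Cfsg.Agent.S0555
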