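import Cfsg.Statements.S0563
import Cfsg.Agent.H4.KegelWielandt

set_option autoImplicit false
open Pointwise
open Cfsg

namespace Cfsg.Agent.S0563

/-- If a finite group G is the product AB of two nilpotent subgroups of coprime orders, then G is solvable, and for every Sylow p-subgroup P of A and Sylow q-subgroup Q of B the product set PQ is a subgroup. -/
theorem result {G : Type*} [Group G] [Finite G] (A B : Subgroup G) (hA : Group.IsNilpotent A) (hB : Group.IsNilpotent B) (hcop : (Nat.card A).Coprime (Nat.card B)) (hAB : ∀ g : G, ∃ a ∈ A, ∃ b ∈ B, g = a * b) : Group.IsSolvable G ∧ ∀ (p q : ℕ) [Fact p.Prime] [Fact q.Prime] (P : Sylow p A) (Q : Sylow q B), ∃ S : Subgroup G, (S : Set G) = (((P : Subgroup A).map A.subtype : Subgroup G) : Set G) * (((Q : Subgroup B).map B.subtype : Subgroup G) : Set G) := by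
  haveI hsol := H4.isSolvable_of_coprime A B hA hB hcop hAB
  refine ⟨hsol, fun p q _ _ P Q => ?_⟩
  haveI := hA
  haveI := hB
  have key : ∀ (X Y : Subgroup G), Group.IsNilpotent X → (Nat.card X).Coprime (Nat.card Y) →
      H4.Factorizes X Y → ∀ (r : ℕ) [Fact r.Prime] (R : Sylow r X),
      (((R : Subgroup X).map X.subtype).subgroupOf X).Normal ∧
      (Nat.card ↥((R : Subgroup X).map X.subtype)).Coprime
        ((R : Subgroup X).map X.subtype).index := by
    intro X Y hX hc hf r _ R
    haveI := hX
    refine ⟨?_, ?_⟩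
    · rw [Subgroup.subgroupOf, Subgroup.comap_map_eq_self_of_injective X.subtype_injective]
      exact Sylow.normal_of_normalizerCondition Group.normalizerCondition_of_isNilpotent R
    · obtain ⟨k, hk⟩ := IsPGroup.iff_card.mp R.2
      rw [Subgroup.card_map_of_injective X.subtype_injective, hk]
      rcases Nat.eq_zero_or_pos k with h0 | h0
      · simp [h0]
      refine ((Fact.out : r.Prime).coprime_iff_not_dvd.mpr fun hd => ?_).pow_left k
      rw [Subgroup.index_map_subtype] at hd
      have hcard := hf.card_mul_card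
      rw [(Subgroup.disjoint_of_coprime_natCard hc).eq_bot, Subgroup.card_bot, mul_one] at hcard
      have hi : X.index = Nat.card Y :=
        Nat.eq_of_mul_eq_mul_left Nat.card_pos (X.card_mul_index.trans hcard)
      rcases (Fact.out : r.Prime).dvd_mul.mp hd with h | h
      · exact R.not_dvd_index h
      · exact Nat.not_coprime_of_dvd_of_dvd (Fact.out : r.Prime).one_lt
          ((dvd_pow_self r h0.ne').trans (hk ▸ Subgroup.card_subgroup_dvd_card _)) (hi ▸ h) hc
  obtain ⟨hPn, hPh⟩ := key A B hA hcop hAB p P
  obtain ⟨hQn, hQh⟩ := key B A hB hcop.symm (H4.Factorizes.symm hAB) q Q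
  exact H4.exists_subgroup_eq_mul_of_hall hAB (Subgroup.map_subtype_le _) hPn
    (Subgroup.map_subtype_le _) hQn hPh hQh
end Cfsg.Agent.S0563
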