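import Cfsg.Statements.S0567


set_option autoImplicit false
open Cfsg commutatorElement

namespace Cfsg.Agent.S0567

/-- A subgroup H of a group G is subnormal exactly when, for some m, the subgroup obtained from G by taking the commutator with H m times in succession is contained in H. -/
theorem result {G : Type*} [Group G] (H : Subgroup G) : H.IsSubnormal ↔ ∃ m : ℕ, (fun K : Subgroup G => ⁅K, H⁆)^[m] ⊤ ≤ H := by
  constructor
  · intro hH
    induction hH with
    | top => exact ⟨0, le_rfl⟩
    | step H K hle _ hN ih =>
      obtain ⟨m, hm⟩ := ih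
      refine ⟨m + 1, ?_⟩
      have hmono : ∀ j : ℕ, (fun L : Subgroup G => ⁅L, H⁆)^[j] ⊤ ≤ (fun L : Subgroup G => ⁅L, K⁆)^[j] ⊤ := by
        intro j
        induction j with
        | zero => exact le_rfl
        | succ j ihj =>
          rw [Function.iterate_succ_apply', Function.iterate_succ_apply']
          exact Subgroup.commutator_mono ihj hle
      rw [Function.iterate_succ_apply']
      refine (Subgroup.commutator_mono ((hmono m).trans hm) le_rfl).trans ?_
      exact Subgroup.le_normalizer_iff_commutator_le_right.mp
        ((Subgroup.normal_subgroupOf_iff_le_normalizer hle).mp hN)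
  · rintro ⟨m, hm⟩
    set K : ℕ → Subgroup G := fun j => (fun L : Subgroup G => ⁅L, H⁆)^[j] ⊤ with hK
    have hKs : ∀ j, K (j + 1) = ⁅K j, H⁆ := fun j => Function.iterate_succ_apply' _ j _
    have hHn : ∀ j, H ≤ Subgroup.normalizer (K j : Set G) := by
      intro j
      cases j with
      | zero =>
        exact (Subgroup.normalizer_eq_top (H := (⊤ : Subgroup G))).ge.trans' le_top
      | succ j => rw [hKs]; exact Subgroup.normalizer_commutator_ge_right _ _
    have hdec : ∀ j, K (j + 1) ≤ K j := fun j => by
      rw [hKs]
      exact Subgroup.le_normalizer_iff_commutator_le_left.mp (hHn j)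
    have hsn : ∀ j, (H ⊔ K j).IsSubnormal := by
      intro j
      induction j with
      | zero => simp [hK]
      | succ j ihj =>
        refine Subgroup.IsSubnormal.step _ (H ⊔ K j) (sup_le_sup_left (hdec j) _) ihj ?_
        rw [Subgroup.normal_subgroupOf_iff_le_normalizer (sup_le_sup_left (hdec j) _)]
        refine sup_le (le_sup_left.trans Subgroup.le_normalizer) ?_
        have hconj : ∀ x ∈ K j, ∀ z ∈ H ⊔ K (j + 1), x * z * x⁻¹ ∈ H ⊔ K (j + 1) := by
          intro x hx z hz
          have hle : H ⊔ K (j + 1) ≤ (H ⊔ K (j + 1)).comap (MulAut.conj x).toMonoidHom := by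
            refine sup_le (fun h hh => ?_) (fun h hh => ?_)
            · show x * h * x⁻¹ ∈ H ⊔ K (j + 1)
              have : ⁅x, h⁆ ∈ K (j + 1) := by rw [hKs]; exact Subgroup.commutator_mem_commutator hx hh
              have h2 := Subgroup.mul_mem _ (Subgroup.mem_sup_right (S := H) this)
                (Subgroup.mem_sup_left (T := K (j + 1)) hh)
              rwa [← conj_eq_commutatorElement_mul] at h2
            · show x * h * x⁻¹ ∈ H ⊔ K (j + 1)
              have hx' : x ∈ Subgroup.normalizer (K (j + 1) : Set G) := by
                rw [hKs]; exact Subgroup.normalizer_commutator_ge_left _ _ hx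
              exact Subgroup.mem_sup_right ((Subgroup.mem_normalizer_iff.mp hx' h).mp hh)
          exact hle hz
        intro x hx
        rw [Subgroup.mem_normalizer_iff]
        refine fun z => ⟨hconj x hx z, fun hz => ?_⟩
        simpa [mul_assoc] using hconj x⁻¹ ((K j).inv_mem hx) _ hz
    have := hsn m
    rwa [sup_eq_left.mpr hm] at this
end Cfsg.Agent.S0567
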