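import Cfsg.Statements.S0568
import Cfsg.Agent.H4.SystemCover

set_option autoImplicit false
open Cfsg

namespace Cfsg.Agent.S0568

/-- Let D be the system normalizer of a Hall complement system of a finite solvable group G, and let A < B be normal subgroups with no normal subgroup of G strictly between them (a chief factor). If G centralizes B modulo A then B ≤ A ⊔ D (D covers the factor); otherwise B ∩ D ≤ A (D avoids it). -/
theorem result {G : Type*} [Group G] [Finite G] [Group.IsSolvable G] (K : Nat.Primes → Subgroup G) (hK : Cfsg.IsComplementSystem K) (A B : Subgroup G) [A.Normal] [B.Normal] (hAB : A < B) (hchief : ∀ N : Subgroup G, N.Normal → A ≤ N → N ≤ B → N = A ∨ N = B) : (⁅B, (⊤ : Subgroup G)⁆ ≤ A → B ≤ A ⊔ Cfsg.systemNormalizer K) ∧ (¬ ⁅B, (⊤ : Subgroup G)⁆ ≤ A → B ⊓ Cfsg.systemNormalizer K ≤ A) := by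
  have hD := H3.systemNormalizer_map hK A
  set q := QuotientGroup.mk' A with hq
  have hsurj := QuotientGroup.mk'_surjective A
  haveI : (B.map q).Normal := Subgroup.Normal.map inferInstance q hsurj
  have hcomap : (B.map q).comap q = B := by
    rw [Subgroup.comap_map_eq, QuotientGroup.ker_mk', sup_eq_left.mpr hAB.le]
  have hbot : (⁅B.map q, (⊤ : Subgroup (G ⧸ A))⁆ ≤ ⊥) ↔ ⁅B, (⊤ : Subgroup G)⁆ ≤ A := by
    rw [← Subgroup.map_top_of_surjective q hsurj, ← Subgroup.map_commutator, le_bot_iff,
      Subgroup.map_eq_bot_iff, QuotientGroup.ker_mk']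
  have hne : B.map q ≠ ⊥ := by
    intro h
    rw [Subgroup.map_eq_bot_iff, QuotientGroup.ker_mk'] at h
    exact hAB.ne (le_antisymm hAB.le h)
  have hmin : ∀ N : Subgroup (G ⧸ A), N.Normal → N ≤ B.map q → N = ⊥ ∨ N = B.map q := by
    intro N hN hle
    haveI := hN
    rcases hchief (N.comap q) inferInstance (QuotientGroup.le_comap_mk' A N)
      (hcomap ▸ Subgroup.comap_mono hle) with h | h
    · left
      rw [← Subgroup.map_comap_eq_self_of_surjective hsurj N, h, QuotientGroup.map_mk'_self]
    · right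
      rw [← Subgroup.map_comap_eq_self_of_surjective hsurj N, h]
  refine ⟨fun hc => ?_, fun hnc => ?_⟩
  · have hcen : B.map q ≤ Cfsg.systemNormalizer (fun p => (K p).map q) := by
      intro b hb
      rw [H3.mem_systemNormalizer]
      intro p
      have hbc : b ∈ Subgroup.centralizer ((⊤ : Subgroup (G ⧸ A)) : Set (G ⧸ A)) :=
        Subgroup.commutator_eq_bot_iff_le_centralizer.mp (le_bot_iff.mp (hbot.mpr hc)) hb
      rw [Subgroup.mem_normalizer_iff]
      intro x
      rw [← Subgroup.mem_centralizer_iff.mp hbc x (Subgroup.mem_top x), mul_inv_cancel_right]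
    rw [hD] at hcen
    have := Subgroup.comap_mono (f := q) hcen
    rw [hcomap, Subgroup.comap_map_eq, QuotientGroup.ker_mk', sup_comm] at this
    exact this
  · have h := H4.inf_systemNormalizer_eq_bot (H3.cs_map_quotient hK A) (B.map q) hne hmin
      (fun h => hnc (hbot.mp h))
    rw [hD] at h
    intro x hx
    have hx' : q x ∈ (B.map q) ⊓ (Cfsg.systemNormalizer K).map q :=
      ⟨⟨x, hx.1, rfl⟩, ⟨x, hx.2, rfl⟩⟩
    rw [h, Subgroup.mem_bot] at hx'
    exact (QuotientGroup.eq_one_iff x).mp hx'
end Cfsg.Agent.S0568
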