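import Cfsg.Statements.S0570
import Cfsg.Agent.H4.CarterSystem

set_option autoImplicit false
open Cfsg

namespace Cfsg.Agent.S0570

/-- Let G be a finite group with a nilpotent normal subgroup F such that G modulo F is nilpotent (nilpotent length at most two). Then a subgroup of G is a Carter subgroup if and only if it is the system normalizer of some Hall complement system. -/
theorem result {G : Type*} [Group G] [Finite G] (F : Subgroup G) [F.Normal] (hF : Group.IsNilpotent F) (hGF : Group.IsNilpotent (G ⧸ F)) (C : Subgroup G) : Cfsg.IsCarterSubgroup C ↔ ∃ K : Nat.Primes → Subgroup G, Cfsg.IsComplementSystem K ∧ C = Cfsg.systemNormalizer K := by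
  haveI := hF
  haveI := hGF
  haveI : Group.IsSolvable G := (Group.isSolvable_iff_subgroup_quotient F).mpr ⟨inferInstance, inferInstance⟩
  have key : ∀ D : Subgroup G, H2.IsCarter D → ∃ K : Nat.Primes → Subgroup G,
      Cfsg.IsComplementSystem K ∧ D = Cfsg.systemNormalizer K := by
    intro D hD
    obtain ⟨K, hK, hKD⟩ := H4.exists_cs_reducing D
    exact ⟨K, hK, le_antisymm (H4.carter_le_systemNormalizer F hF hGF hD hK hKD)
      (H4.systemNormalizer_le_carter hD hK hKD)⟩
  refine ⟨key C, ?_⟩
  rintro ⟨K, hK, rfl⟩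
  obtain ⟨D, hD⟩ := H2.carter_exists G
  obtain ⟨L, hL, rfl⟩ := key D hD
  obtain ⟨g, hg⟩ := H3.cs_conjugate L K hL hK
  rw [H4.systemNormalizer_conj hg]
  exact hD.conj g
end Cfsg.Agent.S0570
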