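import Cfsg.Statements.S0576
import Cfsg.Agent.H4.Frattini

set_option autoImplicit false
open Cfsg

namespace Cfsg.Agent.S0576

/-- Let H be a normal subgroup of a finite group G with H contained in the Frattini subgroup of G. Then the group of inner automorphisms of H is contained in the Frattini subgroup of the automorphism group of H. -/
theorem result {G : Type*} [Group G] [Finite G] (H : Subgroup G) [H.Normal] (hH : H ≤ frattini G) : (MulAut.conj : ↥H →* MulAut ↥H).range ≤ frattini (MulAut ↥H) := by
  set f : G →* MulAut H := MulAut.conjNormal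
  set X : Subgroup (MulAut H) := f.range
  haveI : ((MulAut.conj : ↥H →* MulAut ↥H).range).Normal := by
    constructor
    rintro _ ⟨h, rfl⟩ φ
    refine ⟨φ h, ?_⟩
    ext x
    simp [MulAut.mul_apply, MulAut.conj_apply]
  apply H4.le_frattini_of_le_frattini_subgroup (X := X)
  rintro _ ⟨h, rfl⟩
  have hh : f.rangeRestrict (h : G) ∈ frattini X :=
    frattini_le_comap_frattini_of_surjective f.rangeRestrict_surjective (hH h.2)
  refine ⟨_, hh, ?_⟩
  ext x
  simp [f, MulAut.conjNormal_apply, MulAut.conj_apply]
end Cfsg.Agent.S0576
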