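import Cfsg.Statements.S0578
import Mathlib


set_option autoImplicit false
open Cfsg

namespace Cfsg.Agent.S0578

/-- If in a finite group the normalizer of each abelian subgroup coincides with its centralizer, then the group is abelian. -/
theorem result {G : Type*} [Group G] [Finite G] (h : ∀ A : Subgroup G, IsMulCommutative A → Subgroup.normalizer (A : Set G) = Subgroup.centralizer (A : Set G)) : IsMulCommutative G := by
  have hab : ∀ (p : ℕ) [Fact p.Prime] (P : Sylow p G), IsMulCommutative (P : Subgroup G) := by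
    intro p _ P
    obtain ⟨A, ⟨hAn, hAc⟩, hmax⟩ := (wellFounded_gt (α := Subgroup (P : Subgroup G))).has_min
      {A | A.Normal ∧ IsMulCommutative A} ⟨⊥, inferInstance, inferInstance⟩
    haveI := hAn; haveI := hAc
    set A' := A.map (P : Subgroup G).subtype
    haveI hA'c : IsMulCommutative A' := by
      rw [← Subgroup.commutator_self_eq_bot_iff, ← Subgroup.map_commutator,
        Subgroup.commutator_self_eq_bot_iff.mpr hAc, Subgroup.map_bot]
    have hPn : (P : Subgroup G) ≤ Subgroup.centralizer (A' : Set G) := by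
      rw [← h A' hA'c]
      intro g hg
      rw [Subgroup.mem_normalizer_iff]
      intro y
      constructor
      · rintro ⟨a, ha, rfl⟩
        exact ⟨⟨g, hg⟩ * a * (⟨g, hg⟩ : (P : Subgroup G))⁻¹, hAn.conj_mem a ha _, rfl⟩
      · rintro ⟨a, ha, he⟩
        refine ⟨(⟨g, hg⟩ : (P : Subgroup G))⁻¹ * a * ⟨g, hg⟩, ?_, ?_⟩
        · simpa using hAn.conj_mem a ha (⟨g, hg⟩ : (P : Subgroup G))⁻¹
        · simp only [map_mul, map_inv]
          rw [he]
          simp [mul_assoc]
    have hcen : A ≤ Subgroup.center (P : Subgroup G) := by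
      intro a ha
      rw [Subgroup.mem_center_iff]
      intro g
      exact Subtype.ext (Subgroup.mem_centralizer_iff.mp (hPn g.2) a ⟨a, ha, rfl⟩).symm
    have htop : A = ⊤ := by
      by_contra hne
      haveI : Group.IsNilpotent (P : Subgroup G) := P.2.isNilpotent
      haveI : Nontrivial ((P : Subgroup G) ⧸ A) := QuotientGroup.nontrivial_iff.mpr hne
      obtain ⟨z, hz, hz1⟩ := (Subgroup.bot_or_exists_ne_one
        (Subgroup.center ((P : Subgroup G) ⧸ A))).resolve_left (Group.IsNilpotent.center_ne_bot _)
      obtain ⟨w, rfl⟩ := QuotientGroup.mk'_surjective A z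
      have hwA : w ∉ A := fun hw => hz1 ((QuotientGroup.eq_one_iff w).mpr hw)
      set B := A ⊔ Subgroup.zpowers w with hB
      have hBn : B.Normal := by
        have hBe : B = (Subgroup.zpowers (QuotientGroup.mk' A w)).comap (QuotientGroup.mk' A) := by
          rw [hB, ← MonoidHom.map_zpowers, Subgroup.comap_map_eq, QuotientGroup.ker_mk', sup_comm]
        rw [hBe]
        haveI : (Subgroup.zpowers (QuotientGroup.mk' A w)).Normal := ⟨fun n hn g => by
          obtain ⟨i, rfl⟩ := Subgroup.mem_zpowers_iff.mp hn
          rw [Subgroup.mem_center_iff.mp (Subgroup.zpow_mem _ hz i) g, mul_inv_cancel_right]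
          exact hn⟩
        exact Subgroup.normal_comap _
      have hBc : IsMulCommutative B := by
        rw [← Subgroup.commutator_self_eq_bot_iff, Subgroup.commutator_eq_bot_iff_le_centralizer]
        refine sup_le ?_ ?_ <;> rw [Subgroup.le_centralizer_iff] <;> refine sup_le ?_ ?_
        · exact Subgroup.le_centralizer _
        · exact Subgroup.le_centralizer_iff.mp (hcen.trans (Subgroup.center_le_centralizer _))
        · exact hcen.trans (Subgroup.center_le_centralizer _)
        · exact Subgroup.le_centralizer _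
      exact hmax B ⟨hBn, hBc⟩ (lt_of_le_of_ne le_sup_left fun he => hwA (by rw [he]; exact Subgroup.mem_sup_right (Subgroup.mem_zpowers w)))
    refine ⟨⟨fun x y => ?_⟩⟩
    exact Subgroup.mem_center_iff.mp (hcen (htop ▸ Subgroup.mem_top y)) x
  have hcompl : ∀ (p : ℕ) [Fact p.Prime] (P : Sylow p G), commutator G ⊓ (P : Subgroup G) = ⊥ := by
    intro p _ P
    haveI := hab p P
    have hP : Subgroup.normalizer ((P : Subgroup G) : Set G) ≤ Subgroup.centralizer ((P : Subgroup G) : Set G) :=
      (h _ (hab p P)).le
    rw [← le_bot_iff, ← (MonoidHom.ker_transferSylow_isComplement' P hP).disjoint.eq_bot]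
    open scoped IsMulCommutative in
    exact inf_le_inf_right _ (Abelianization.commutator_subset_ker _)
  rw [← commutator_eq_bot_iff, Subgroup.eq_bot_iff_card]
  refine Nat.eq_one_iff_not_exists_prime_dvd.mpr fun p hp hpd => ?_
  haveI := Fact.mk hp
  obtain ⟨x, hx⟩ := exists_prime_orderOf_dvd_card' p hpd
  have hpg : IsPGroup p (Subgroup.zpowers (x : G)) := by
    refine IsPGroup.of_card_dvd_pow (n := 1) ?_
    rw [Nat.card_zpowers, Subgroup.orderOf_coe, hx, pow_one]
  obtain ⟨P, hP⟩ := hpg.exists_le_sylow
  have h1 : (x : G) ∈ commutator G ⊓ (P : Subgroup G) := ⟨x.2, hP (Subgroup.mem_zpowers _)⟩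
  rw [hcompl p P, Subgroup.mem_bot] at h1
  exact hp.ne_one (hx.symm.trans (orderOf_eq_one_iff.mpr (Subtype.ext h1)))
end Cfsg.Agent.S0578
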