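import Cfsg.Statements.S0583
import Mathlib


set_option autoImplicit false
open Cfsg

namespace Cfsg.Agent.S0583

/-- In a finite group the Fitting subgroup is contained in the centralizer of each minimal normal subgroup. -/
theorem result {G : Type*} [Group G] [Finite G] (M : Subgroup G) [M.Normal] (hM : M ≠ ⊥) (hmin : ∀ K : Subgroup G, K.Normal → K ≤ M → K = ⊥ ∨ K = M) : Cfsg.fittingSubgroup G ≤ Subgroup.centralizer (M : Set G) := by
  apply sSup_le
  rintro N ⟨hN, hnil⟩
  haveI := hN
  rw [← Subgroup.commutator_eq_bot_iff_le_centralizer]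
  rcases hmin (N ⊓ M) inferInstance inf_le_right with h | h
  · rw [← le_bot_iff, ← h]
    exact Subgroup.commutator_le_inf _ _
  · have hMN : M ≤ N := inf_eq_right.mp h
    rcases hmin ⁅N, M⁆ inferInstance (Subgroup.commutator_le_right _ _) with h' | h'
    · exact h'
    · exfalso
      have hk : ∀ k : ℕ, M ≤ N.lowerCentralSeries k := by
        intro k
        induction k with
        | zero => exact hMN
        | succ k ih =>
          rw [Subgroup.lowerCentralSeries_succ]
          calc M = ⁅N, M⁆ := h'.symm
            _ = ⁅M, N⁆ := Subgroup.commutator_comm _ _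
            _ ≤ _ := Subgroup.commutator_mono ih le_rfl
      obtain ⟨n, hn⟩ := Subgroup.nilpotent_iff_lowerCentralSeries.mp hnil
      have hn' : N.lowerCentralSeries n = ⊥ := by
        rw [← Subgroup.top_subtype_lowerCentralSeries N n, hn, Subgroup.map_bot]
      exact hM (le_bot_iff.mp (hn' ▸ hk n))
end Cfsg.Agent.S0583
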