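import Cfsg.Statements.S0586
import Cfsg.Agent.H4.Frattini
import Cfsg.Agent.H1.Fitting

set_option autoImplicit false
open Cfsg

namespace Cfsg.Agent.S0586

/-- If the Frattini subgroup of a finite group G is trivial, then the Fitting subgroup of G equals the join of all abelian minimal normal subgroups of G. -/
theorem result {G : Type*} [Group G] [Finite G] (hΦ : frattini G = ⊥) : Cfsg.fittingSubgroup G = sSup {N : Subgroup G | N.Normal ∧ N ≠ ⊥ ∧ IsMulCommutative N ∧ ∀ K : Subgroup G, K.Normal → K ≤ N → K = ⊥ ∨ K = N} := by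
  set F := Cfsg.fittingSubgroup G
  haveI hFn : F.Normal := H1.fittingSubgroup_normal G
  have hnil : Group.IsNilpotent F := H1.isNilpotent_fittingSubgroup G
  have hFΦ : frattini F = ⊥ := by
    rw [← Subgroup.map_eq_bot_iff_of_injective _ F.subtype_injective, ← le_bot_iff, ← hΦ]
    exact H4.map_subtype_frattini_le F
  haveI hFc : IsMulCommutative F := by
    rw [← commutator_eq_bot_iff, ← le_bot_iff, ← hFΦ, H4.le_frattini_iff]
    intro M hM
    haveI := (Group.isNilpotent_of_finite_tfae.out 0 2 rfl rfl).mp hnil M hM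
    obtain ⟨g, hg⟩ : ∃ g : F, g ∉ M := by
      by_contra hc
      push Not at hc
      exact hM.1 (eq_top_iff.mpr fun x _ => hc x)
    -- the quotient by a maximal normal subgroup is cyclic
    have hgen : M ⊔ Subgroup.zpowers g = ⊤ :=
      hM.2 _ (lt_of_le_of_ne le_sup_left fun he => hg (by rw [he]; exact Subgroup.mem_sup_right (Subgroup.mem_zpowers g)))
    haveI : IsCyclic (F ⧸ M) := by
      refine ⟨QuotientGroup.mk' M g, fun x => ?_⟩
      obtain ⟨y, rfl⟩ := QuotientGroup.mk'_surjective M x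
      have hy : y ∈ M ⊔ Subgroup.zpowers g := hgen ▸ Subgroup.mem_top y
      rw [Subgroup.mem_sup_of_normal_left] at hy
      obtain ⟨m, hm, z, hz, rfl⟩ := hy
      obtain ⟨i, rfl⟩ := Subgroup.mem_zpowers_iff.mp hz
      refine ⟨i, ?_⟩
      simp only [map_mul, map_zpow]
      rw [show QuotientGroup.mk' M m = 1 from (QuotientGroup.eq_one_iff m).mpr hm, one_mul]
    exact Subgroup.Normal.quotient_commutative_iff_commutator_le.mp IsCyclic.isMulCommutative
  set S := sSup {N : Subgroup G | N.Normal ∧ N ≠ ⊥ ∧ IsMulCommutative N ∧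
      ∀ K : Subgroup G, K.Normal → K ≤ N → K = ⊥ ∨ K = N}
  have hSF : S ≤ F := by
    refine sSup_le fun N hN => ?_
    haveI := hN.1; haveI := hN.2.2.1
    refine H1.le_fittingSubgroup (Subgroup.isNilpotent_of_lowerCentralSeries_eq_bot (n := 1) ?_)
    rw [Subgroup.lowerCentralSeries_succ, Subgroup.lowerCentralSeries_zero]
    exact Subgroup.commutator_self_eq_bot_iff.mpr hN.2.2.1
  refine le_antisymm ?_ hSF
  haveI hSn : S.Normal := H1.sSup_normal _ fun N hN => hN.1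
  haveI : IsMulCommutative S := ⟨⟨fun a b => by
    apply Subtype.ext
    show (a : G) * b = b * a
    have := mul_comm' (⟨a, hSF a.2⟩ : F) ⟨b, hSF b.2⟩
    exact congrArg Subtype.val this⟩⟩
  obtain ⟨H, hH⟩ := H4.exists_isComplement'_of_inf_frattini S (by rw [hΦ, inf_bot_eq])
  have hcomm : ∀ {a b : G}, a ∈ F → b ∈ F → a * b = b * a := fun {a b} ha hb =>
    congrArg Subtype.val (mul_comm' (⟨a, ha⟩ : F) ⟨b, hb⟩)
  haveI : (F ⊓ H).Normal := by
    refine ⟨fun n hn g => ?_⟩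
    obtain ⟨⟨⟨s, hs⟩, ⟨t, ht⟩⟩, rfl⟩ := (hH.existsUnique g).exists
    have h1 : t * n * t⁻¹ ∈ F ⊓ H :=
      ⟨hFn.conj_mem n hn.1 t, H.mul_mem (H.mul_mem ht hn.2) (H.inv_mem ht)⟩
    have h2 : s * (t * n * t⁻¹) * s⁻¹ = t * n * t⁻¹ := by
      rw [hcomm (hSF hs) h1.1, mul_inv_cancel_right]
    show s * t * n * (s * t)⁻¹ ∈ F ⊓ H
    rw [show s * t * n * (s * t)⁻¹ = s * (t * n * t⁻¹) * s⁻¹ by group, h2]
    exact h1
  have hFH : F ⊓ H = ⊥ := by
    by_contra hne
    obtain ⟨N, ⟨hNn, hNb, hNle⟩, hmin⟩ := (wellFounded_lt (α := Subgroup G)).has_min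
      {N | N.Normal ∧ N ≠ ⊥ ∧ N ≤ F ⊓ H} ⟨_, inferInstance, hne, le_rfl⟩
    have hNS : N ≤ S := by
      refine le_sSup ⟨hNn, hNb, ⟨⟨fun a b => Subtype.ext (hcomm (hNle a.2).1 (hNle b.2).1)⟩⟩, ?_⟩
      intro K hK hKN
      by_contra hc
      push Not at hc
      exact hmin K ⟨hK, hc.1, hKN.trans hNle⟩ (lt_of_le_of_ne hKN hc.2)
    exact hNb (le_bot_iff.mp (hH.disjoint hNS (hNle.trans inf_le_right)))
  intro f hf
  obtain ⟨⟨⟨s, hs⟩, ⟨t, ht⟩⟩, rfl⟩ := (hH.existsUnique f).exists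
  have : t ∈ F ⊓ H := ⟨by simpa using F.mul_mem (F.inv_mem (hSF hs)) hf, ht⟩
  rw [hFH, Subgroup.mem_bot] at this
  simpa [this] using hs
end Cfsg.Agent.S0586
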