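import Cfsg.Statements.S0587
import Cfsg.Agent.H1.Cores
import Mathlib

set_option autoImplicit false
open Cfsg

namespace Cfsg.Agent.S0587

/-- Let G be a finite group whose largest normal p-subgroup L is nontrivial, and M a maximal subgroup of G with trivial normal core. Then L is elementary abelian, M is a complement to L, L is a minimal normal subgroup of G, the centralizer of L is L, and for every prime q such that the largest normal q-subgroup of M is nontrivial, the order of L is congruent to 1 modulo q and q ≠ p. -/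
theorem result {G : Type*} [Group G] [Finite G] (p : ℕ) [Fact p.Prime] (hL : Cfsg.pCore p G ≠ ⊥) (M : Subgroup G) (hM : IsCoatom M) (hcore : M.normalCore = ⊥) : Cfsg.IsElementaryAbelian p (Cfsg.pCore p G) ∧ Subgroup.IsComplement' (Cfsg.pCore p G) M ∧ (∀ K : Subgroup G, K.Normal → K ≤ Cfsg.pCore p G → K = ⊥ ∨ K = Cfsg.pCore p G) ∧ Subgroup.centralizer ((Cfsg.pCore p G : Subgroup G) : Set G) = Cfsg.pCore p G ∧ ∀ (q : ℕ) [Fact q.Prime], Cfsg.pCore q ↥M ≠ ⊥ → Nat.card (Cfsg.pCore p G) % q = 1 % q ∧ q ≠ p := by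
  set L := Cfsg.pCore p G
  haveI hLn : L.Normal := H1.pCore_normal' p G
  have hLp : IsPGroup p L := H1.isPGroup_pCore p G
  obtain ⟨N, ⟨hN, hN1, hNL⟩, hmin⟩ := (wellFounded_lt (α := Subgroup G)).has_min
    {N | N.Normal ∧ N ≠ ⊥ ∧ N ≤ L} ⟨L, hLn, hL, le_rfl⟩
  haveI := hN
  have hmin' : ∀ K : Subgroup G, K.Normal → K ≤ N → K = ⊥ ∨ K = N := by
    intro K hK hKN
    by_contra hc
    push Not at hc
    exact hmin K ⟨hK, hc.1, hKN.trans hNL⟩ (lt_of_le_of_ne hKN hc.2)
  have hNp : IsPGroup p N := hLp.to_le hNL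
  haveI : Group.IsNilpotent N := hNp.isNilpotent
  haveI hNc : IsMulCommutative N := by
    rw [← Subgroup.commutator_self_eq_bot_iff]
    refine (hmin' ⁅N, N⁆ inferInstance (Subgroup.commutator_le_self N)).resolve_right fun h => hN1 ?_
    obtain ⟨n, hn⟩ := N.isNilpotent_iff_lowerCentralSeries.mp inferInstance
    have hk : ∀ k : ℕ, N ≤ N.lowerCentralSeries k := by
      intro k
      induction k with
      | zero => exact le_rfl
      | succ k ih => exact h.ge.trans (Subgroup.commutator_mono ih le_rfl)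
    exact le_bot_iff.mp (hn ▸ hk n)
  have hcomm : ∀ {a b : G}, a ∈ N → b ∈ N → a * b = b * a := fun {a b} ha hb =>
    congrArg Subtype.val (mul_comm' (⟨a, ha⟩ : N) ⟨b, hb⟩)
  have hexp : ∀ a ∈ N, a ^ p = 1 := by
    let T : Subgroup G :=
      { carrier := {x | x ∈ N ∧ x ^ p = 1}
        one_mem' := ⟨N.one_mem, one_pow p⟩
        mul_mem' := fun {a b} ha hb =>
          ⟨N.mul_mem ha.1 hb.1, by rw [Commute.mul_pow (hcomm ha.1 hb.1), ha.2, hb.2, one_mul]⟩
        inv_mem' := fun {a} ha => ⟨N.inv_mem ha.1, by rw [inv_pow, ha.2, inv_one]⟩ }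
    have hTn : T.Normal := ⟨fun x hx g => ⟨hN.conj_mem x hx.1 g, by
      rw [conj_pow, hx.2, mul_one, mul_inv_cancel]⟩⟩
    rcases hmin' T hTn (fun x hx => hx.1) with h | h
    · exfalso
      obtain ⟨k, hk⟩ := IsPGroup.iff_card.mp hNp
      have h0 : k ≠ 0 := fun h0 => hN1 (Subgroup.eq_bot_of_card_eq N (by rw [hk, h0, pow_zero]))
      obtain ⟨x, hx⟩ := exists_prime_orderOf_dvd_card' p (hk ▸ dvd_pow_self p h0 : p ∣ Nat.card N)
      have hxT : (x : G) ∈ T := ⟨x.2, by rw [← hx, ← Subgroup.orderOf_coe x]; exact pow_orderOf_eq_one _⟩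
      rw [h, Subgroup.mem_bot] at hxT
      exact (Fact.out : p.Prime).ne_one (hx.symm.trans (orderOf_eq_one_iff.mpr (Subtype.ext hxT)))
    · exact fun a ha => (h.ge ha).2
  have hNM : ¬ N ≤ M := fun h => hN1 (le_bot_iff.mp (hcore ▸ Subgroup.normal_le_normalCore.mpr h))
  have hsup : N ⊔ M = ⊤ := hM.2 _ (lt_of_le_of_ne le_sup_right fun he => hNM (he ▸ le_sup_left))
  have hdec : ∀ g : G, ∃ n ∈ N, ∃ m ∈ M, g = n * m := by
    intro g
    have hg : g ∈ N ⊔ M := hsup ▸ Subgroup.mem_top g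
    rw [Subgroup.mem_sup_of_normal_left] at hg
    obtain ⟨n, hn, m, hm, e⟩ := hg
    exact ⟨n, hn, m, hm, e.symm⟩
  -- a subgroup of `M` normalised by `M` and by `N` is trivial
  have hbot : ∀ X : Subgroup G, X ≤ M → (∀ m ∈ M, ∀ x ∈ X, m * x * m⁻¹ ∈ X) →
      (∀ n ∈ N, ∀ x ∈ X, n * x * n⁻¹ = x) → X = ⊥ := by
    intro X hXM h1 h2
    have hXn : X.Normal := ⟨fun x hx g => by
      obtain ⟨n, hn, m, hm, rfl⟩ := hdec g
      have := h2 n hn _ (h1 m hm x hx)
      rw [show n * m * x * (n * m)⁻¹ = n * (m * x * m⁻¹) * n⁻¹ by group, this]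
      exact h1 m hm x hx⟩
    exact le_bot_iff.mp (hcore ▸ (@Subgroup.normal_le_normalCore _ _ M X hXn).mpr hXM)
  have hNMbot : N ⊓ M = ⊥ := hbot _ inf_le_right
    (fun m hm x hx => ⟨hN.conj_mem x hx.1 m, M.mul_mem (M.mul_mem hm hx.2) (M.inv_mem hm)⟩)
    (fun n hn x hx => by rw [hcomm hn hx.1, mul_inv_cancel_right])
  set C := Subgroup.centralizer (N : Set G)
  have hCM : C ⊓ M = ⊥ := hbot _ inf_le_right
    (fun m hm x hx => ⟨(inferInstance : C.Normal).conj_mem x hx.1 m,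
      M.mul_mem (M.mul_mem hm hx.2) (M.inv_mem hm)⟩)
    (fun n hn x hx => by rw [Subgroup.mem_centralizer_iff.mp hx.1 n hn, mul_inv_cancel_right])
  have hNC : N ≤ C := Subgroup.le_centralizer N
  have hC : C = N := by
    refine le_antisymm (fun c hc => ?_) hNC
    obtain ⟨n, hn, m, hm, rfl⟩ := hdec c
    have hmC : m ∈ C ⊓ M := ⟨by simpa using C.mul_mem (C.inv_mem (hNC hn)) hc, hm⟩
    rw [hCM, Subgroup.mem_bot] at hmC
    simpa [hmC] using hn
  have hLN : L = N := by
    refine le_antisymm ?_ hNL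
    rw [← hC, ← Subgroup.commutator_eq_bot_iff_le_centralizer]
    refine (hmin' ⁅L, N⁆ inferInstance (Subgroup.commutator_le_right _ _)).resolve_right fun h => hN1 ?_
    haveI : Group.IsNilpotent L := hLp.isNilpotent
    obtain ⟨n, hn⟩ := L.isNilpotent_iff_lowerCentralSeries.mp inferInstance
    have hk : ∀ k : ℕ, N ≤ L.lowerCentralSeries k := by
      intro k
      induction k with
      | zero => exact hNL
      | succ k ih => exact ((h.ge).trans (Subgroup.commutator_comm L N).le).trans (Subgroup.commutator_mono ih le_rfl)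
    exact le_bot_iff.mp (hn ▸ hk n)
  rw [hLN]
  refine ⟨⟨hNc, hexp⟩, ?_, hmin', hC, fun q _ hq => ?_⟩
  · exact Subgroup.isComplement'_of_disjoint_and_mul_eq_univ (disjoint_iff.mpr hNMbot)
      (by rw [← Subgroup.normal_mul, hsup, Subgroup.coe_top])
  set Q := (Cfsg.pCore q M).map M.subtype with hQdef
  have hQ1 : Q ≠ ⊥ := fun h => hq ((Subgroup.map_eq_bot_iff_of_injective _ M.subtype_injective).mp h)
  have hQM : Q ≤ M := Subgroup.map_subtype_le _
  have hQp : IsPGroup q Q := (H1.isPGroup_pCore q M).map M.subtype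
  have hQn : ∀ m ∈ M, ∀ x ∈ Q, m * x * m⁻¹ ∈ Q := by
    rintro m hm _ ⟨x, hx, rfl⟩
    exact ⟨_, (H1.pCore_normal' q M).conj_mem x hx ⟨m, hm⟩, rfl⟩
  have hfix : N ⊓ Subgroup.centralizer (Q : Set G) = ⊥ := by
    have hWn : (N ⊓ Subgroup.centralizer (Q : Set G)).Normal := ⟨fun x hx g => by
      obtain ⟨n, hn, m, hm, rfl⟩ := hdec g
      have h1 : m * x * m⁻¹ ∈ N ⊓ Subgroup.centralizer (Q : Set G) := by
        refine ⟨hN.conj_mem x hx.1 m, ?_⟩
        show m * x * m⁻¹ ∈ Subgroup.centralizer (Q : Set G)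
        rw [Subgroup.mem_centralizer_iff]
        intro y hy
        have := Subgroup.mem_centralizer_iff.mp hx.2 _ (hQn m⁻¹ (M.inv_mem hm) y hy)
        rw [inv_inv] at this
        calc y * (m * x * m⁻¹) = m * (m⁻¹ * y * m * x) * m⁻¹ := by group
          _ = m * (x * (m⁻¹ * y * m)) * m⁻¹ := by rw [this]
          _ = m * x * m⁻¹ * y := by group
      rw [show n * m * x * (n * m)⁻¹ = n * (m * x * m⁻¹) * n⁻¹ by group, hcomm hn h1.1, mul_inv_cancel_right]
      exact h1⟩
    refine (hmin' _ hWn inf_le_left).resolve_right fun h => hQ1 ?_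
    have hle : Q ≤ C ⊓ M := le_inf (Subgroup.le_centralizer_iff.mp (inf_eq_left.mp h)) hQM
    exact le_bot_iff.mp (hCM ▸ hle)
  let φ : Q →* MulAut N := MulAut.conjNormal.comp Q.subtype
  letI : MulAction Q N := MulAction.compHom N φ
  have hmod := hQp.card_modEq_card_fixedPoints N
  have hfp : Nat.card (MulAction.fixedPoints Q N) = 1 := by
    refine Nat.card_eq_one_iff_unique.mpr ⟨⟨?_⟩, ⟨⟨1, fun y => map_one (φ y)⟩⟩⟩
    suffices h : ∀ x : MulAction.fixedPoints Q N, ((x : N) : G) = 1 by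
      exact fun a b => Subtype.ext (Subtype.ext ((h a).trans (h b).symm))
    rintro ⟨x, hx⟩
    have hxW : (x : G) ∈ N ⊓ Subgroup.centralizer (Q : Set G) := by
      refine ⟨x.2, Subgroup.mem_centralizer_iff.mpr fun y hy => ?_⟩
      have := congrArg Subtype.val (hx ⟨y, hy⟩)
      change y * (x : G) * y⁻¹ = x at this
      exact mul_inv_eq_iff_eq_mul.mp this
    rw [hfix, Subgroup.mem_bot] at hxW
    exact hxW
  rw [hfp] at hmod
  have hmod' : Nat.card N % q = 1 % q := hmod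
  refine ⟨hmod', ?_⟩
  rintro rfl
  obtain ⟨k, hk⟩ := IsPGroup.iff_card.mp hNp
  have h0 : k ≠ 0 := fun h0 => hN1 (Subgroup.eq_bot_of_card_eq N (by rw [hk, h0, pow_zero]))
  rw [hk, Nat.mod_eq_zero_of_dvd (dvd_pow_self _ h0), Nat.one_mod_eq_one.mpr (Fact.out : Nat.Prime _).ne_one] at hmod'
  exact zero_ne_one hmod'
end Cfsg.Agent.S0587
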