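import Cfsg.Statements.S0588
import Mathlib


set_option autoImplicit false
open Cfsg

namespace Cfsg.Agent.S0588

/-- If a subgroup H of a finite group G contains the centralizer of every non-identity element of H, then the order of H is coprime to its index. -/
theorem result {G : Type*} [Group G] [Finite G] (H : Subgroup G) (h : ∀ x ∈ H, x ≠ 1 → Subgroup.centralizer ({x} : Set G) ≤ H) : (Nat.card H).Coprime H.index := by
  refine Nat.coprime_of_dvd fun p hp hpH hpi => ?_
  haveI := Fact.mk hp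
  obtain ⟨P⟩ := (inferInstance : Nonempty (Sylow p H))
  have hPpg : IsPGroup p ((P : Subgroup H).map H.subtype) := P.2.map H.subtype
  obtain ⟨S, hPS⟩ := hPpg.exists_le_sylow
  have hPne : (P : Subgroup H).map H.subtype ≠ ⊥ := by
    rw [Ne, Subgroup.map_eq_bot_iff_of_injective _ H.subtype_injective]
    exact P.ne_bot_of_dvd_card hpH
  have hPH : (P : Subgroup H).map H.subtype ≤ H := Subgroup.map_subtype_le _
  obtain ⟨x, hxP, hx⟩ := (Subgroup.ne_bot_iff_exists_ne_one.mp hPne) |>.elim (fun x hx => (⟨x.1, x.2, fun h1 => hx (Subtype.ext h1)⟩ : ∃ x, x ∈ (P : Subgroup H).map H.subtype ∧ x ≠ 1))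
  haveI : Nontrivial (S : Subgroup G) := (Subgroup.nontrivial_iff_exists_ne_one _).mpr ⟨x, hPS hxP, hx⟩
  haveI : Nontrivial (Subgroup.center (S : Subgroup G)) := S.2.center_nontrivial
  obtain ⟨⟨z, hz⟩, hz1⟩ := exists_ne (1 : Subgroup.center (S : Subgroup G))
  have hcomm : ∀ s ∈ (S : Subgroup G), s * (z : G) = (z : G) * s := fun s hs =>
    congrArg Subtype.val (Subgroup.mem_center_iff.mp hz ⟨s, hs⟩)
  have hzH : (z : G) ∈ H := h x (hPH hxP) hx (Subgroup.mem_centralizer_singleton_iff.mpr (hcomm x (hPS hxP)).symm)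
  have hSH : (S : Subgroup G) ≤ H := fun s hs =>
    h z hzH (fun h1 => hz1 (Subtype.ext (Subtype.ext h1)))
      (Subgroup.mem_centralizer_singleton_iff.mpr (hcomm s hs))
  exact S.not_dvd_index (hpi.trans (Subgroup.index_dvd_of_le hSH))
end Cfsg.Agent.S0588
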