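import Cfsg.Statements.S0590
import Cfsg.Agent.H10.QuadGroup

set_option autoImplicit false
set_option linter.style.haveILetI false
open Cfsg

namespace Cfsg.Agent.S0590

/-- Quadratic action on an elementary abelian p-group forces the acting group modulo the kernel of the action to be elementary abelian. -/
theorem result {G : Type*} [Group G] [Finite G] {p : ℕ} [Fact p.Prime] (V H : Subgroup G) (hV : Cfsg.IsElementaryAbelian p V) (hHV : H ≤ Subgroup.normalizer (V : Set G)) (hq : ⁅⁅V, H⁆, H⁆ = ⊥) : ⁅H, H⁆ ≤ Subgroup.centralizer (V : Set G) ∧ ∀ a ∈ H, a ^ p ∈ Subgroup.centralizer (V : Set G) := by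
  have h1 : ⁅⁅H, V⁆, H⁆ = ⊥ := by rw [Subgroup.commutator_comm H V]; exact hq
  refine ⟨?_, fun a ha => ?_⟩
  · rw [← Subgroup.commutator_eq_bot_iff_le_centralizer]
    exact Subgroup.commutator_commutator_eq_bot_of_rotate h1 hq
  · refine H10.IsQuadOn.pow_mem_centralizer hV (hHV ha) ?_
    refine le_bot_iff.mp (le_trans ?_ hq.le)
    exact Subgroup.commutator_mono (Subgroup.commutator_mono le_rfl (Subgroup.zpowers_le.mpr ha))
      (Subgroup.zpowers_le.mpr ha)

end Cfsg.Agent.S0590
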