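import Cfsg.Statements.S0591
import Cfsg.Agent.H10.QuadGroup

set_option autoImplicit false
set_option linter.style.haveILetI false
open Cfsg

namespace Cfsg.Agent.S0591

/-- For a quadratically acting element a on an elementary abelian p-group V, the fixed points C_V(a) have order at least the square root of the order of V. -/
theorem result {G : Type*} [Group G] [Finite G] {p : ℕ} [Fact p.Prime] (V : Subgroup G) (hV : Cfsg.IsElementaryAbelian p V) (a : G) (ha : a ∈ Subgroup.normalizer (V : Set G)) (hq : ⁅⁅V, Subgroup.zpowers a⁆, Subgroup.zpowers a⁆ = ⊥) : Nat.card V ≤ Nat.card ↥(V ⊓ Subgroup.centralizer (Subgroup.zpowers a : Set G)) ^ 2 := by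
  have hmem : ∀ v ∈ V, a * v * a⁻¹ * v⁻¹ ∈ V := fun v hv =>
    mul_mem ((Subgroup.mem_normalizer_iff.mp ha v).mp hv) (inv_mem hv)
  have hcomm : ∀ x ∈ V, ∀ y ∈ V, x * y = y * x := fun x hx y hy =>
    congrArg Subtype.val (hV.1.is_comm.comm ⟨x, hx⟩ ⟨y, hy⟩)
  let f : V →* V :=
    { toFun := fun v => ⟨a * v * a⁻¹ * (v : G)⁻¹, hmem v v.2⟩
      map_one' := Subtype.ext (by simp)
      map_mul' := fun x y => Subtype.ext (by
        show a * ((x : G) * y) * a⁻¹ * ((x : G) * y)⁻¹ =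
          (a * x * a⁻¹ * (x : G)⁻¹) * (a * y * a⁻¹ * (y : G)⁻¹)
        have h1 := hcomm _ (inv_mem x.2) _ (hmem y y.2)
        calc a * ((x : G) * y) * a⁻¹ * ((x : G) * y)⁻¹
            = a * x * a⁻¹ * ((a * y * a⁻¹ * (y : G)⁻¹) * (x : G)⁻¹) := by group
          _ = a * x * a⁻¹ * ((x : G)⁻¹ * (a * y * a⁻¹ * (y : G)⁻¹)) := by rw [h1]
          _ = _ := by group) }
  set C := V ⊓ Subgroup.centralizer (Subgroup.zpowers a : Set G) with hC
  have hC' : ∀ v ∈ V, Commute v a → v ∈ C := fun v hv hva => by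
    refine ⟨hv, Subgroup.mem_centralizer_iff.mpr ?_⟩
    intro z hz
    obtain ⟨k, rfl⟩ := Subgroup.mem_zpowers_iff.mp hz
    exact ((hva.zpow_right k).symm).eq
  have hker : Nat.card f.ker ∣ Nat.card C := by
    rw [← Subgroup.card_subtype V f.ker]
    refine Subgroup.card_dvd_of_le ?_
    rintro _ ⟨v, hv, rfl⟩
    refine hC' v v.2 ?_
    have h1 : a * v * a⁻¹ * (v : G)⁻¹ = 1 := congrArg Subtype.val (MonoidHom.mem_ker.mp hv)
    rw [mul_inv_eq_one, mul_inv_eq_iff_eq_mul] at h1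
    exact h1.symm
  have hrange : Nat.card f.range ∣ Nat.card C := by
    rw [← Subgroup.card_subtype V f.range]
    refine Subgroup.card_dvd_of_le ?_
    rintro _ ⟨_, ⟨v, rfl⟩, rfl⟩
    exact hC' _ (f v).2 (H10.IsQuadOn.commute hq v.2)
  have hcard : Nat.card V = Nat.card f.ker * Nat.card f.range := by
    rw [← Subgroup.index_ker, Subgroup.card_mul_index]
  rw [hcard, pow_two]
  exact Nat.mul_le_mul (Nat.le_of_dvd Nat.card_pos hker) (Nat.le_of_dvd Nat.card_pos hrange)

end Cfsg.Agent.S0591
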