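import Cfsg.Statements.S0592
import Cfsg.Agent.H10.QuadPair

set_option autoImplicit false
set_option linter.style.haveILetI false
open Cfsg

namespace Cfsg.Agent.S0592

/-- Two quadratically acting generators of a linear group that is not a p-group, with the p'-part of the order of their product dividing q - 1, give a homomorphism onto a subgroup of SL(2, q) that is not a p-group. -/
theorem result {K : Type*} [Field K] [Fintype K] {p : ℕ} [Fact p.Prime] [CharP K p] {W : Type*} [AddCommGroup W] [Module K W] [FiniteDimensional K W] [Finite W] [Nontrivial W] (H : Subgroup (W ≃ₗ[K] W)) (a b : W ≃ₗ[K] W) (hH : H = Subgroup.closure {a, b}) (ha : ∀ w : W, a (a w - w) = a w - w) (hb : ∀ w : W, b (b w - w) = b w - w) (hnp : ¬ IsPGroup p H) (hk : ∃ e k : ℕ, orderOf (a * b) = p ^ e * k ∧ k ∣ Fintype.card K - 1) : ∃ φ : H →* Matrix.SpecialLinearGroup (Fin 2) K, ¬ IsPGroup p φ.range := by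
  obtain ⟨e, k, hord, hk⟩ := hk
  have hk0 : k ≠ 0 := by
    rintro rfl
    have := Fintype.one_lt_card (α := K)
    rw [zero_dvd_iff] at hk
    omega
  haveI : Finite H := by
    haveI : Finite (W ≃ₗ[K] W) :=
      Finite.of_injective (fun f => (f : W → W)) fun f g h => DFunLike.coe_injective h
    infer_instance
  have haH : a ∈ H := hH ▸ Subgroup.subset_closure (Set.mem_insert _ _)
  have hbH : b ∈ H := hH ▸ Subgroup.subset_closure (Set.mem_insert_of_mem _ rfl)
  have hgen : Subgroup.closure ({(⟨a, haH⟩ : H), ⟨b, hbH⟩} : Set H) = ⊤ := by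
    apply Subgroup.map_injective H.subtype_injective
    rw [MonoidHom.map_closure, Set.image_pair, ← MonoidHom.range_eq_map, Subgroup.range_subtype]
    exact hH.symm
  have hsplit : (Polynomial.X ^ (p ^ e * k) - 1 : Polynomial K).Splits := by
    haveI : CharP (Polynomial K) p := inferInstance
    have h1 : (Polynomial.X ^ (p ^ e * k) - 1 : Polynomial K) =
        (Polynomial.X ^ k - 1) ^ (p ^ e) := by
      rw [sub_pow_char_pow, one_pow, ← pow_mul, mul_comm]
    rw [h1]
    refine Polynomial.Splits.pow ?_ _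
    have hs : (Polynomial.X ^ (Fintype.card K) - Polynomial.X : Polynomial K).Splits := by
      have := FiniteField.roots_X_pow_card_sub_X K
      rw [Polynomial.splits_iff_card_roots, this,
        FiniteField.X_pow_card_sub_X_natDegree_eq K Fintype.one_lt_card]
      exact Finset.card_univ
    refine hs.of_dvd (FiniteField.X_pow_card_sub_X_ne_zero K Fintype.one_lt_card) ?_
    obtain ⟨m, hm⟩ := hk
    have h2 : (Polynomial.X ^ k - 1 : Polynomial K) ∣ Polynomial.X ^ (Fintype.card K - 1) - 1 := by
      rw [hm, pow_mul]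
      exact sub_one_dvd_pow_sub_one _ m
    refine h2.trans ⟨Polynomial.X, ?_⟩
    rw [sub_mul, one_mul, ← pow_succ, Nat.sub_add_cancel Fintype.card_pos]
  set ρ : H →* Module.End K W :=
    (LinearEquiv.automorphismGroup.toLinearMapMonoidHom (R := K) (M := W)).comp H.subtype with hρ
  have hρinj : Function.Injective ρ := fun x y h =>
    Subtype.ext (LinearEquiv.toLinearMap_injective h)
  have hqa : ∀ (c : W ≃ₗ[K] W) (hc : c ∈ H), (∀ w : W, c (c w - w) = c w - w) →
      (ρ ⟨c, hc⟩ - 1) * (ρ ⟨c, hc⟩ - 1) = 0 := by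
    intro c hc hcq
    refine LinearMap.ext fun w => ?_
    show c (c w - w) - (c w - w) = 0
    rw [hcq, sub_self]
  obtain ⟨φ, -, -, hφ⟩ := H10.exists_sl2_of_quadratic_pair (p := p) _ _ hgen
    (N := p ^ e * k) (mul_ne_zero (pow_ne_zero _ (Fact.out : p.Prime).ne_zero) hk0) hsplit
    (by rw [← hord]; exact Subtype.ext (by simpa using pow_orderOf_eq_one (a * b))) ρ
    (hqa a haH ha) (hqa b hbH hb)
    (fun hall => hnp fun h => by
      obtain ⟨j, hj⟩ := hall h
      exact ⟨j, hρinj (by rw [map_pow, map_one]; exact hj)⟩)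
  refine ⟨φ, fun hp' => hφ fun h => ?_⟩
  obtain ⟨j, hj⟩ := hp' ⟨φ h, h, rfl⟩
  exact ⟨j, congrArg Subtype.val hj⟩

end Cfsg.Agent.S0592
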