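import Cfsg.Statements.S0594
import Cfsg.Agent.H10.QuadGroup

set_option autoImplicit false
set_option linter.style.haveILetI false
open Cfsg

namespace Cfsg.Agent.S0594

/-- For odd p, two quadratic generators of a faithful group that is not a p-group, one of which acts nontrivially on a normal subgroup of order prime to p, force p = 3 and a section isomorphic to SL(2,3). -/
theorem result {G : Type*} [Group G] [Finite G] {p : ℕ} [Fact p.Prime] (hp : p ≠ 2) (V H : Subgroup G) (hV : Cfsg.IsElementaryAbelian p V) (hHV : H ≤ Subgroup.normalizer (V : Set G)) (hf : H ⊓ Subgroup.centralizer (V : Set G) = ⊥) (a b : G) (hab : H = Subgroup.closure {a, b}) (ha : ⁅⁅V, Subgroup.zpowers a⁆, Subgroup.zpowers a⁆ = ⊥) (hb : ⁅⁅V, Subgroup.zpowers b⁆, Subgroup.zpowers b⁆ = ⊥) (hnp : ¬ IsPGroup p H) (Q : Subgroup G) (hQH : Q ≤ H) (hQn : H ≤ Subgroup.normalizer (Q : Set G)) (hQ : (Nat.card Q).Coprime p) (hQa : ⁅Q, Subgroup.zpowers a⁆ ≠ ⊥) : p = 3 ∧ ∃ (K L : Subgroup G) (hL : (L.subgroupOf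 K).Normal), K ≤ H ∧ Nonempty ((K ⧸ L.subgroupOf K) ≃* Matrix.SpecialLinearGroup (Fin 2) (ZMod 3)) := by
  have haH : a ∈ H := hab ▸ Subgroup.subset_closure (Set.mem_insert _ _)
  obtain ⟨n, ρ, hinj, hquad⟩ := H10.exists_faithful_rep hV hHV hf
  haveI hn : (Q.subgroupOf H).Normal := Subgroup.normal_subgroupOf_of_le_normalizer hQn
  obtain ⟨hp3, K, L, hKL, hiso⟩ := H10.end_sl23_of_pPrime hp hinj (hquad ⟨a, haH⟩ ha)
    (Q := Q.subgroupOf H)
    (by rw [Nat.card_congr (Subgroup.subgroupOfEquivOfLe hQH).toEquiv]; exact hQ)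
    (by rw [Subgroup.normalizer_eq_top]; exact Subgroup.mem_top _)
    (fun hc => hQa (by
      rw [Subgroup.commutator_eq_bot_iff_le_centralizer]
      intro x hx
      rw [Subgroup.mem_centralizer_iff]
      intro z hz
      obtain ⟨k, rfl⟩ := Subgroup.mem_zpowers_iff.mp hz
      have h1 : Commute (x : G) a :=
        congrArg Subtype.val (Subgroup.mem_centralizer_iff.mp hc ⟨x, hQH hx⟩ hx)
      exact ((h1.zpow_right k).symm).eq))
  obtain ⟨hn', -, hiso'⟩ := H10.section_map H.subtype H.subtype_injective hiso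
  exact ⟨hp3, K.map H.subtype, L.map H.subtype, hn', Subgroup.map_subtype_le _, hiso'⟩

end Cfsg.Agent.S0594
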