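import Cfsg.Statements.S0613
import Cfsg.Agent.H10.FFConj

set_option autoImplicit false
open Cfsg

namespace Cfsg.Agent.S0613

/-- A minimal nontrivially-acting best offender and a conjugate of it under a non-centralizing element of the p'-core generate SL(2, p) acting naturally on a plane, and p is 2 or 3. -/
theorem result {G : Type*} [Group G] [Finite G] {p : ℕ} [Fact p.Prime] (V H : Subgroup G) (hV : Cfsg.IsElementaryAbelian p V) (hHV : H ≤ Subgroup.normalizer (V : Set G)) (hf : H ⊓ Subgroup.centralizer (V : Set G) = ⊥) (hS1 : Subgroup.centralizer (Cfsg.pPrimeCore p ↥H : Set ↥H) ≤ Cfsg.pPrimeCore p ↥H) (hS3 : H = ⨆ A : {A : Subgroup G // A ≤ H ∧ Cfsg.IsBestOffenderOn p V A}, (A : Subgroup G)) (hH1 : H ≠ ⊥) (A : Subgroup G) (hAH : A ≤ H) (hA : Cfsg.IsBestOffenderOn p V A) (hAV : ⁅V, A⁆ ≠ ⊥) (hmin : ∀ B : Subgroup G, B ≤ A → Cfsg.IsBestOffenderOn p V B → ⁅V, B⁆ ≠ ⊥ → B = A) (x : G) (hx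 : x ∈ ((Cfsg.pPrimeCore p ↥H).map H.subtype)) (hxA : x ∉ Subgroup.centralizer (A : Set G)) : (p = 2 ∨ p = 3) ∧ Nat.card ↥(⁅V, A ⊔ A.map (MulAut.conj x).toMonoidHom⁆) = p ^ 2 ∧ (A ⊔ A.map (MulAut.conj x).toMonoidHom) ⊓ Subgroup.centralizer ((⁅V, A ⊔ A.map (MulAut.conj x).toMonoidHom⁆ : Subgroup G) : Set G) = ⊥ ∧ Nonempty (↥(A ⊔ A.map (MulAut.conj x).toMonoidHom) ≃* Matrix.SpecialLinearGroup (Fin 2) (ZMod p)) := by
  have h : H10.FFHyp p V H := ⟨hV, hHV, hf, hS1⟩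
  have hT := h.isTv_of_minimal hAH hA hAV hmin
  obtain ⟨a, ha⟩ := H10.exists_zpowers_eq hT.2.1
  have hP := h.tvPair (ha.symm ▸ hT) hx (H10.not_commute_of_not_mem_centralizer ha hxA)
  have e : A ⊔ A.map (MulAut.conj x).toMonoidHom = hP.gp := by
    rw [← ha, H10.map_conj_zpowers]
  rw [e]
  refine ⟨hP.p_eq h, by rw [hP.commutator_eq h]; exact hP.card_plane h, ?_, hP.nonempty_iso h⟩
  rw [hP.commutator_eq h, eq_bot_iff]
  intro y hy
  rw [Subgroup.mem_bot]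
  exact hP.eq_one_of_centralizes h (hP.gp_le hy.1) hy.2
    (Subgroup.mem_centralizer_iff.mpr fun v hv => (hP.fix_comm hy.1 hv).symm)

end Cfsg.Agent.S0613
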