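import Cfsg.Statements.S0614
import Cfsg.Agent.H10.FFFactor

set_option autoImplicit false
open Cfsg

namespace Cfsg.Agent.S0614

/-- The commutator of the p'-core with a minimal nontrivially-acting best offender is a 3-group (when p = 2) or a non-abelian 2-group (when p = 3). -/
theorem result {G : Type*} [Group G] [Finite G] {p : ℕ} [Fact p.Prime] (V H : Subgroup G) (hV : Cfsg.IsElementaryAbelian p V) (hHV : H ≤ Subgroup.normalizer (V : Set G)) (hf : H ⊓ Subgroup.centralizer (V : Set G) = ⊥) (hS1 : Subgroup.centralizer (Cfsg.pPrimeCore p ↥H : Set ↥H) ≤ Cfsg.pPrimeCore p ↥H) (hS3 : H = ⨆ A : {A : Subgroup G // A ≤ H ∧ Cfsg.IsBestOffenderOn p V A}, (A : Subgroup G)) (hH1 : H ≠ ⊥) (A : Subgroup G) (hAH : A ≤ H) (hA : Cfsg.IsBestOffenderOn p V A) (hAV : ⁅V, A⁆ ≠ ⊥) (hmin : ∀ B : Subgroup G, B ≤ A → Cfsg.IsBestOffenderOn p V B → ⁅V, B⁆ ≠ ⊥ → B = A) : (p = 2 ∧ IsPGroup 3 ↥(⁅((Cfsg.pPrimeCore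 p ↥H).map H.subtype), A⁆)) ∨ (p = 3 ∧ IsPGroup 2 ↥(⁅((Cfsg.pPrimeCore p ↥H).map H.subtype), A⁆) ∧ ¬ IsMulCommutative ↥(⁅((Cfsg.pPrimeCore p ↥H).map H.subtype), A⁆)) := by
  have h : H10.FFHyp p V H := ⟨hV, hHV, hf, hS1⟩
  have hT := h.isTv_of_minimal hAH hA hAV hmin
  obtain ⟨a, rfl⟩ := H10.exists_zpowers_eq hT.2.1
  rcases h.isPGroup_commutator hT with h2 | ⟨hp3, h3⟩
  · exact Or.inl h2
  refine Or.inr ⟨hp3, h3, fun hcomm => ?_⟩
  obtain ⟨x, hx, hxa⟩ := h.exists_not_commute hT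
  have hP := h.tvPair hT hx hxa
  have h1 : x * a * x⁻¹ * a⁻¹ ∈ ⁅H10.oppCore p H, Subgroup.zpowers a⁆ := by
    rw [← commutatorElement_def]
    exact Subgroup.commutator_mem_commutator hx (Subgroup.mem_zpowers a)
  have h2 := (Subgroup.mem_normalizer_iff.mp
    (H1.right_le_normalizer_commutator (K := H10.oppCore p H) (Subgroup.mem_zpowers a)) _).mp h1
  exact hP.not_commute_conj h hp3 (H11.comm_of_mulCommutative hcomm h1 h2).eq

end Cfsg.Agent.S0614
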