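import Cfsg.Statements.S0621
import Cfsg.Agent.H8.ThompsonFixed

set_option autoImplicit false
open Cfsg

namespace Cfsg.Agent.S0621

/-- Let K be p-separable with O_p'(K) = 1, normalized by an elementary abelian q-group X for a prime q not dividing the order of K. If the Thompson factorization fails in K, then p is 2 or 3 and the fixed points of X contain a plane W of order p² and a subgroup inducing SL(2, p) on it. -/
theorem result {G : Type*} [Group G] [Finite G] {p : ℕ} [Fact p.Prime] {q : ℕ} [Fact q.Prime] (K X : Subgroup G) (hXK : X ≤ Subgroup.normalizer (K : Set G)) (hX : Cfsg.IsElementaryAbelian q X) (hq : ¬ q ∣ Nat.card K) (hsep : Cfsg.IsPSolvable p ↥K) (hO : Cfsg.pPrimeCore p ↥K = ⊥) (hnf : ¬ Cfsg.IsThompsonFactorizable p ↥K) : (p = 2 ∨ p = 3) ∧ ∃ W D : Subgroup G, W ≤ K ⊓ Subgroup.centralizer (X : Set G) ∧ D ≤ K ⊓ Subgroup.centralizer (X : Set G) ∧ Cfsg.IsElementaryAbelian p W ∧ Nat.card W = p ^ 2 ∧ D ≤ Subgroup.normalizer (W : Set G) ∧ ∃ hn : ((Subgroup.centralizer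 (W : Set G)).subgroupOf D).Normal, Nonempty ((↥D ⧸ (Subgroup.centralizer (W : Set G)).subgroupOf D) ≃* Matrix.SpecialLinearGroup (Fin 2) (ZMod p)) := by
  have hXq : IsPGroup q ↥X := H10.isPGroup_of_elementary hX
  obtain ⟨hp, W, D, hWX, hDX, hW, hWc, hDW, γ, hγ, hγ'⟩ :=
    H8.exists_fixed_plane (q := q) (H8.operatorHom K X hXK) hsep hO hq hXq hnf
  rw [H8.fixedSubgroup_operatorHom K X hXK] at hWX hDX
  have hK : ∀ A : Subgroup ↥K, A ≤ (Subgroup.centralizer (X : Set G)).subgroupOf K →
      A.map K.subtype ≤ K ⊓ Subgroup.centralizer (X : Set G) := by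
    rintro A hA _ ⟨a, ha, rfl⟩
    exact ⟨a.2, hA ha⟩
  refine ⟨hp, W.map K.subtype, D.map K.subtype, hK W hWX, hK D hDX,
    H10.isElementaryAbelian_map hW _, ?_,
    (Subgroup.map_mono hDW).trans (Subgroup.le_normalizer_map _), ?_⟩
  · rw [← hWc]
    exact (Nat.card_congr (W.equivMapOfInjective K.subtype K.subtype_injective).toEquiv).symm
  let γ' := γ.comp (D.equivMapOfInjective K.subtype K.subtype_injective).symm.toMonoidHom
  have hk : γ'.ker = (Subgroup.centralizer ((W.map K.subtype : Subgroup G) : Set G)).subgroupOf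
      (D.map K.subtype) := by
    ext x
    obtain ⟨x, rfl⟩ := (D.equivMapOfInjective K.subtype K.subtype_injective).surjective x
    rw [MonoidHom.mem_ker, Subgroup.mem_subgroupOf]
    show γ ((D.equivMapOfInjective _ _).symm _) = 1 ↔ _
    rw [MulEquiv.symm_apply_apply, hγ']
    rw [Subgroup.mem_centralizer_iff, Subgroup.mem_centralizer_iff]
    constructor
    · rintro h _ ⟨w, hw, rfl⟩
      exact congrArg Subtype.val (h w hw)
    · intro h w hw
      exact Subtype.ext (h w ⟨w, hw, rfl⟩)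
  have hnor : ((Subgroup.centralizer ((W.map K.subtype : Subgroup G) : Set G)).subgroupOf
      (D.map K.subtype)).Normal := hk ▸ γ'.normal_ker
  refine ⟨hnor, ?_⟩
  haveI := hnor
  exact ⟨(QuotientGroup.quotientMulEquivOfEq hk.symm).trans
    (QuotientGroup.quotientKerEquivOfSurjective γ' (hγ.comp (MulEquiv.surjective _)))⟩

end Cfsg.Agent.S0621
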