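import Cfsg.Statements.S0630
import Cfsg.Agent.H11.PConstrained

set_option autoImplicit false
open Cfsg

namespace Cfsg.Agent.S0630

/-- p-constraint passes to and from the quotient by the largest normal subgroup of order prime to p. -/
theorem result {G : Type*} [Group G] [Finite G] {p : ℕ} [Fact p.Prime] : Cfsg.IsPConstrained p G ↔ Cfsg.IsPConstrained p (G ⧸ Cfsg.pPrimeCore p G) := by
  haveI := H1.pPrimeCore_normal' p G
  rw [H11.isPConstrained_iff_core (G := G)]
  refine (H11.isPConstrained_iff_of_hom (MonoidHom.id (G ⧸ Cfsg.pPrimeCore p G)) (fun x => ⟨x, rfl⟩) ?_).symm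
  rw [H1.pPrimeCore_quotient_pPrimeCore]
  exact MonoidHom.ker_id

end Cfsg.Agent.S0630
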