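import Cfsg.Statements.S0633
import Cfsg.Agent.H11.HallHigmanCore
import Cfsg.Agent.H11.HallHigmanInvariant
import Cfsg.Agent.H10.PSolvableDual
import Cfsg.Agent.H1.Cores

set_option autoImplicit false
set_option linter.style.haveILetI false
open Cfsg

namespace Cfsg.Agent.S0633

/-- Theorem B of Hall and Higman on the minimal polynomial of a p-element of order p^n in a p-solvable linear group on a nonzero vector space in characteristic p with no nontrivial normal p-subgroup: its degree is p^n, except when some p^n₀ - 1 (n₀ ≤ n) is a power of a prime q for which the Sylow q-subgroups are non-abelian, in which case the degree is at least p^(n-n₀)(p^n₀ - 1). -/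
theorem result {F : Type*} [Field F] {p : ℕ} [Fact p.Prime] [CharP F p] {V : Type*} [AddCommGroup V] [Module F V] [FiniteDimensional F V] [Nontrivial V] (H : Subgroup (V ≃ₗ[F] V)) [Finite H] (hsol : Cfsg.IsPSolvable p H) (hOp : Cfsg.pCore p H = ⊥) (x : V ≃ₗ[F] V) (hx : x ∈ H) (n : ℕ) (hn : orderOf x = p ^ n) (r : ℕ) (hr : minpoly F (x : Module.End F V) = (Polynomial.X - 1) ^ r) : r = p ^ n ∨ ∃ n₀ q m : ℕ, 1 ≤ n₀ ∧ n₀ ≤ n ∧ q.Prime ∧ 1 ≤ m ∧ p ^ n₀ - 1 = q ^ m ∧ (∀ Q : Sylow q H, ¬ IsMulCommutative Q) ∧ p ^ (n - n₀) * (p ^ n₀ - 1) ≤ r := by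
  set E := Module.End F V
  set X₀ : Module.End F V := (x : Module.End F V) with hX₀
  have hrz : (X₀ - 1) ^ r = 0 := by
    have := minpoly.aeval F X₀
    rw [hr] at this
    simpa using this
  have hr0 : r ≠ 0 := by
    rintro rfl
    exact minpoly.ne_one F X₀ (by rw [hr, pow_zero])
  have hrmin : ∀ j, (X₀ - 1) ^ j = 0 → r ≤ j := by
    intro j hj
    have hdvd : minpoly F X₀ ∣ (Polynomial.X - 1) ^ j := minpoly.dvd F X₀ (by simpa using hj)
    rw [hr] at hdvd
    have := Polynomial.natDegree_le_of_dvd hdvd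
      (pow_ne_zero _ (by simpa using Polynomial.X_sub_C_ne_zero (1 : F)))
    rw [show (Polynomial.X - 1 : Polynomial F) = Polynomial.X - Polynomial.C 1 by simp,
      Polynomial.natDegree_pow, Polynomial.natDegree_pow, Polynomial.natDegree_X_sub_C] at this
    simpa using this
  have hXN : (X₀ - 1) ^ (p ^ n) = 0 := by
    rw [H11.HB.sub_one_pow_eq (K := F), hX₀]
    show (LinearEquiv.automorphismGroup.toLinearMapMonoidHom x) ^ (p ^ n) - 1 = 0
    rw [← map_pow, ← hn, pow_orderOf_eq_one, map_one, sub_self]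
  have hrle : r ≤ p ^ n := hrmin _ hXN
  by_cases hn0 : n = 0
  · subst hn0
    left
    rw [pow_zero] at hrle ⊢
    omega
  have hp := (Fact.out : p.Prime)
  let x' : H := ⟨x, hx⟩
  set b := x' ^ (p ^ (n - 1)) with hb
  have hxpow : x' ^ (p ^ n) = 1 := Subtype.ext (by
    show x ^ (p ^ n) = 1
    rw [← hn, pow_orderOf_eq_one])
  have hb1 : b ≠ 1 := by
    intro h
    have h' : x ^ (p ^ (n - 1)) = 1 := congrArg Subtype.val h
    have := orderOf_dvd_of_pow_eq_one h'
    rw [hn, Nat.pow_dvd_pow_iff_le_right hp.one_lt] at this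
    omega
  have hco := H10.pPrimeCore_coprime (G := H) (p := p)
  set R := Cfsg.pPrimeCore p H with hR
  have hnb : b ∉ Subgroup.centralizer (R : Set H) := by
    intro h
    have hbR := H10.centralizer_pPrimeCore_le hsol hOp h
    apply hb1
    have hbp : b ^ p = 1 := by
      rw [hb, ← pow_mul, ← pow_succ, Nat.sub_add_cancel (by omega : 1 ≤ n), hxpow]
    have h1 : (⟨b, hbR⟩ : R) = 1 := by
      rw [← orderOf_eq_one_iff]
      refine Nat.eq_one_of_dvd_coprimes hco (orderOf_dvd_natCard _) ?_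
      exact orderOf_dvd_of_pow_eq_one (Subtype.ext hbp)
    exact congrArg Subtype.val h1
  haveI hRn : R.Normal := H1.pPrimeCore_normal' p H
  obtain ⟨q, hq, hqp, Q, -, hQq, hxQ, hbQ⟩ := H11.exists_invariant_qgroup_of R hco hxpow
    (by rw [Subgroup.normalizer_eq_top]; trivial) hnb
  haveI := Fact.mk hq
  let d := Module.finrank F V
  let K := AlgebraicClosure F
  haveI : CharP K p := charP_of_injective_algebraMap (algebraMap F K).injective p
  let B := Module.finBasis F V
  let Rh : Module.End F V →+* Module.End K (Fin d → K) :=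
    ((algEquivMatrix' (R := K) (n := Fin d)).symm.toRingEquiv.toRingHom.comp
      (algebraMap F K).mapMatrix).comp (algEquivMatrix B).toRingEquiv.toRingHom
  have hRinj : Function.Injective Rh :=
    (algEquivMatrix' (R := K) (n := Fin d)).symm.injective.comp
      ((Matrix.map_injective (algebraMap F K).injective).comp (algEquivMatrix B).injective)
  let ρ : H →* Module.End K (Fin d → K) :=
    Rh.toMonoidHom.comp (LinearEquiv.automorphismGroup.toLinearMapMonoidHom.comp H.subtype)
  have hρinj : Function.Injective ρ := fun a c h =>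
    Subtype.ext (LinearEquiv.toLinearMap_injective (hRinj h))
  have hpowne : ∀ j, (ρ x' - 1) ^ j ≠ 0 → j < r := by
    intro j hj
    by_contra hlt
    apply hj
    have h0 : (X₀ - 1) ^ j = 0 := pow_eq_zero_of_le (not_lt.mp hlt) hrz
    have := congrArg Rh h0
    rw [map_pow, map_sub, map_one, map_zero] at this
    exact this
  have hd : H11.HB.Data p q n ρ Q x' := by
    refine ⟨hQq, fun g hg => (Subgroup.mem_normalizer_iff.mp hxQ g).mp hg, by omega, hxpow, ?_⟩
    by_contra hcon
    push Not at hcon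
    apply hbQ
    rw [Subgroup.mem_centralizer_iff]
    intro g hg
    exact (hρinj (hcon g hg)).symm
  rcases H11.HB.hall_higman_b p q hq hqp _ (Fin d → K) H ρ Q x' n (Nat.lt_succ_self _) hd with
    h | ⟨n₀, m, h1, h2, h3, h4, ⟨g, hg, g', hg', hne⟩, h6⟩
  · left
    have := hpowne _ h
    omega
  · right
    refine ⟨n₀, q, m, h1, h2, hq, h3, h4, fun S hS => hne ?_, by have := hpowne _ h6; omega⟩
    obtain ⟨S₀, hS₀⟩ := hQq.exists_le_sylow
    obtain ⟨c, hc⟩ := MulAction.exists_smul_eq H S₀ S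
    have hm : ∀ a ∈ Q, c * a * c⁻¹ ∈ (S : Subgroup H) := by
      intro a ha
      rw [← hc]
      exact ⟨a, hS₀ ha, rfl⟩
    have he : (⟨_, hm g hg⟩ : (S : Subgroup H)) * ⟨_, hm g' hg'⟩ =
        ⟨_, hm g' hg'⟩ * ⟨_, hm g hg⟩ := hS.is_comm.comm _ _
    have he' : c * g * c⁻¹ * (c * g' * c⁻¹) = c * g' * c⁻¹ * (c * g * c⁻¹) :=
      congrArg Subtype.val he
    simp only [conj_mul, mul_left_inj, mul_right_inj] at he'
    rw [he']

end Cfsg.Agent.S0633
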