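import Cfsg.Statements.S0634
import Cfsg.Agent.H11.PConstrained
import Cfsg.Agent.H10.UpperSeries

set_option autoImplicit false
open Cfsg

namespace Cfsg.Agent.S0634

/-- In a p-soluble group each p-factor of the upper p-series contains its own centralizer in the corresponding quotient. -/
theorem result {G : Type*} [Group G] [Finite G] {p : ℕ} [Fact p.Prime] (hsol : Cfsg.IsPSolvable p G) (k : ℕ) : Subgroup.centralizer ((((Cfsg.upperPSeries p G (2 * k + 2)).1.map (QuotientGroup.mk' (Cfsg.upperPSeries p G (2 * k + 1)).1)) : Subgroup (G ⧸ (Cfsg.upperPSeries p G (2 * k + 1)).1)) : Set (G ⧸ (Cfsg.upperPSeries p G (2 * k + 1)).1)) ≤ (Cfsg.upperPSeries p G (2 * k + 2)).1.map (QuotientGroup.mk' (Cfsg.upperPSeries p G (2 * k + 1)).1) := by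
  have h1 : ¬ Even (2 * k + 1) := by simp [parity_simps]
  have h0 : Even (2 * k) := even_two_mul k
  set U' := (Cfsg.upperPSeries p G (2 * k)).1 with hU'
  set U := (Cfsg.upperPSeries p G (2 * k + 1)).1 with hU
  rw [show 2 * k + 2 = (2 * k + 1) + 1 by ring, H10.upperPSeries_succ_of_not_even h1,
    Subgroup.map_comap_eq_self_of_surjective (QuotientGroup.mk'_surjective _)]
  haveI := H1.pPrimeCore_normal' p (G ⧸ U')
  let g := (QuotientGroup.mk' (Cfsg.pPrimeCore p (G ⧸ U'))).comp (QuotientGroup.mk' U')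
  have hg : Function.Surjective g :=
    (QuotientGroup.mk'_surjective _).comp (QuotientGroup.mk'_surjective _)
  have hker : U = g.ker := by
    rw [hU, H10.upperPSeries_succ_of_even h0, ← MonoidHom.comap_ker, QuotientGroup.ker_mk']
  have e : G ⧸ U ≃* (G ⧸ U') ⧸ Cfsg.pPrimeCore p (G ⧸ U') :=
    (QuotientGroup.quotientMulEquivOfEq hker).trans
      (QuotientGroup.quotientKerEquivOfSurjective g hg)
  exact H11.coreSelfCentralizing_of_equiv e.symm
    (H10.centralizer_pCore_le (H10.isPSolvable_quotient (H10.isPSolvable_quotient hsol U') _)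
      H10.pPrimeCore_quotient_pPrimeCore)

end Cfsg.Agent.S0634
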