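import Cfsg.Statements.S0636
import Cfsg.Agent.H9.PGroup
import Cfsg.Agent.H30.CyclicNormal
import Cfsg.Agent.H65.RankThree

set_option autoImplicit false
open Cfsg

namespace Cfsg.Agent.S0636

/-- For odd p, every non-cyclic normal subgroup of a p-group contains a normal elementary abelian subgroup of the whole group of order p². -/
theorem result {R : Type*} [Group R] [Finite R] {p : ℕ} [Fact p.Prime] (hp : p ≠ 2) (hR : IsPGroup p R) (S : Subgroup R) [S.Normal] (hS : ¬ IsCyclic S) : ∃ A : Subgroup R, A ≤ S ∧ A.Normal ∧ Cfsg.IsElementaryAbelian p A ∧ Nat.card A = p ^ 2 := by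
  obtain ⟨B, hBn, hBS, hBab, hBC⟩ := H9.exists_self_centralizing hR S
  by_cases hBc : IsCyclic B
  · obtain ⟨b, hb⟩ := Subgroup.isCyclic_iff_exists_zpowers_eq_top B |>.mp hBc
    have hbS : b ∈ S := hBS (hb ▸ Subgroup.mem_zpowers b)
    set u : S := ⟨b, hbS⟩ with hu
    have hmap : (Subgroup.zpowers u).map S.subtype = B := by
      rw [MonoidHom.map_zpowers]; exact hb
    haveI hUn : (Subgroup.zpowers u).Normal := by
      refine ⟨fun x hx g => ?_⟩
      have h1 : (g : R) * x * (g : R)⁻¹ ∈ B := hBn.conj_mem _ (hmap ▸ Subgroup.mem_map_of_mem _ hx) g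
      rw [← hmap] at h1
      obtain ⟨y, hy, he⟩ := h1
      rwa [show g * x * g⁻¹ = y from Subtype.ext he.symm]
    have hCu : Subgroup.centralizer (Subgroup.zpowers u : Set S) = Subgroup.zpowers u := by
      refine le_antisymm (fun y hy => ?_) (fun y hy => Subgroup.mem_centralizer_iff.mpr fun z hz => ?_)
      · have h1 : (y : R) ∈ S ⊓ Subgroup.centralizer (B : Set R) := by
          refine Subgroup.mem_inf.mpr ⟨y.2, Subgroup.mem_centralizer_iff.mpr fun z hz => ?_⟩
          obtain ⟨z', hz', rfl⟩ := hmap.ge hz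
          exact congrArg Subtype.val (Subgroup.mem_centralizer_iff.mp hy z' hz')
        rw [hBC, ← hmap] at h1
        obtain ⟨z, hz, he⟩ := h1
        rwa [← (Subtype.ext he : z = y)]
      · obtain ⟨i, rfl⟩ := Subgroup.mem_zpowers_iff.mp hy
        obtain ⟨j, rfl⟩ := Subgroup.mem_zpowers_iff.mp hz
        exact (Commute.refl u).zpow_zpow j i
    have hna : ¬ IsMulCommutative S := by
      intro hab
      apply hS
      have htop : Subgroup.zpowers u = ⊤ := by
        rw [← hCu, eq_top_iff]
        exact fun y _ => Subgroup.mem_centralizer_iff.mpr fun z _ => Std.Commutative.comm z y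
      exact ⟨u, fun x => Subgroup.mem_zpowers_iff.mp (htop ▸ Subgroup.mem_top x)⟩
    obtain ⟨n, hn, hn1, hcase⟩ :=
      H30.cyclic_selfCentralizing_cases (hR.to_subgroup S) hna hUn hCu
    rcases hcase with ⟨h2, -⟩ | ⟨h2, x, hx⟩
    · exact absurd h2 hp
    obtain ⟨-, E, hEdef, hEmem, hEab, hEcard, -, -⟩ := H30.good_structure hUn hCu hn hn1 h2 hx
    refine ⟨E.map S.subtype, Subgroup.map_subtype_le E, ?_, ⟨inferInstance, ?_⟩, ?_⟩
    · rw [← Subgroup.normalizer_eq_top_iff, eq_top_iff]
      intro g _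
      have hgen : ∀ g : R, ∀ a ∈ E, g * (a : R) * g⁻¹ ∈ E.map S.subtype := by
        intro g a ha
        refine ⟨⟨g * (a : R) * g⁻¹, (inferInstance : S.Normal).conj_mem _ a.2 g⟩, ?_, rfl⟩
        rw [hEdef]
        refine Subgroup.subset_closure ⟨Subgroup.mem_centralizer_iff.mpr fun z hz => ?_, ?_⟩
        · obtain ⟨i, rfl⟩ := Subgroup.mem_zpowers_iff.mp hz
          have hub : (g⁻¹ * b * g) ∈ B := by
            simpa using hBn.conj_mem b (hb ▸ Subgroup.mem_zpowers b) g⁻¹
          rw [← hb] at hub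
          obtain ⟨j, hj⟩ := Subgroup.mem_zpowers_iff.mp hub
          have hc := Subgroup.mem_centralizer_iff.mp (hEmem a ha).1 (((u ^ p) ^ i) ^ j)
            (Subgroup.zpow_mem _ (Subgroup.zpow_mem _ (Subgroup.mem_zpowers _) i) j)
          have hc' : ((b ^ p) ^ i) ^ j * (a : R) = (a : R) * ((b ^ p) ^ i) ^ j := by
            have := congrArg Subtype.val hc
            simpa [hu] using this
          have e1 : g * ((b ^ p) ^ i) ^ j * g⁻¹ = (b ^ p) ^ i := by
            have : (b ^ j) = g⁻¹ * b * g := hj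
            have e2 : ((b ^ p) ^ i) ^ j = ((b ^ j) ^ p) ^ i := by
              rw [← zpow_natCast b p, ← zpow_natCast (b ^ j) p, ← zpow_mul, ← zpow_mul, ← zpow_mul,
                ← zpow_mul]
              congr 1
              ring
            rw [e2, this, ← conj_zpow (a := g), ← conj_pow (a := g)]
            simp [mul_assoc]
          apply Subtype.ext
          show ((b ^ p) ^ i) * (g * (a : R) * g⁻¹) = (g * (a : R) * g⁻¹) * ((b ^ p) ^ i)
          rw [← e1]
          simp only [mul_assoc, inv_mul_cancel_left]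
          rw [← mul_assoc _ (a : R), hc', mul_assoc]
        · apply Subtype.ext
          show (g * (a : R) * g⁻¹) ^ p = 1
          rw [conj_pow, show (a : R) ^ p = 1 from congrArg Subtype.val (hEmem a ha).2, mul_one, mul_inv_cancel]
      rw [Subgroup.mem_normalizer_iff]
      intro y
      constructor
      · rintro ⟨a, ha, rfl⟩; exact hgen g a ha
      · rintro ⟨a, ha, he⟩
        have := hgen g⁻¹ a ha
        simp only [Subgroup.coe_subtype] at he
        rw [he] at this
        simpa [mul_assoc] using this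
    · rintro _ ⟨a, ha, rfl⟩
      exact congrArg Subtype.val (hEmem a ha).2
    · rw [Subgroup.card_map_of_injective S.subtype_injective, hEcard]
  · obtain ⟨V, hVn, hVB, hVc, hVp⟩ := H65.exists_normal_sq_of_noncyclic hR hBn hBab hBc
    refine ⟨V, hVB.trans hBS, hVn, ⟨?_, hVp⟩, by rw [hVc, sq]⟩
    exact ⟨⟨fun x y => Subtype.ext (show (x : R) * y = y * x from congrArg Subtype.val (hBab.is_comm.comm ⟨x, hVB x.2⟩ ⟨y, hVB y.2⟩))⟩⟩

end Cfsg.Agent.S0636
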