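import Cfsg.Statements.S0638
import Cfsg.Agent.H30.CyclicDerived
import Cfsg.Agent.H83.Metacyclic
import Cfsg.Agent.H82.PRankOne

set_option autoImplicit false
open Cfsg

namespace Cfsg.Agent.S0638

/-- For odd p, in a non-cyclic metacyclic p-group the elements of order dividing p generate an elementary abelian subgroup of order p². -/
theorem result {R : Type*} [Group R] [Finite R] {p : ℕ} [Fact p.Prime] (hp : p ≠ 2) (hR : IsPGroup p R) (hm : Cfsg.IsMetacyclic R) (hnc : ¬ IsCyclic R) : Cfsg.IsElementaryAbelian p (Cfsg.omegaOne p (⊤ : Subgroup R)) ∧ Nat.card ↥(Cfsg.omegaOne p (⊤ : Subgroup R)) = p ^ 2 := by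
  haveI : IsCyclic (_root_.commutator R) := by
    obtain ⟨N, hN, hc, hq⟩ := hm
    have hle : _root_.commutator R ≤ N := by
      rw [_root_.commutator_def, Subgroup.commutator_le]
      intro x _ y _
      rw [← QuotientGroup.eq_one_iff, ← QuotientGroup.mk'_apply, map_commutatorElement,
        commutatorElement_eq_one_iff_mul_comm]
      letI := hq.commGroup
      exact mul_comm _ _
    exact Subgroup.isCyclic_of_le hle
  set Ω := Cfsg.omegaOne p (⊤ : Subgroup R) with hΩ
  have hexp : ∀ x ∈ Ω, x ^ p = 1 := by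
    intro x hx
    induction hx using Subgroup.closure_induction with
    | mem y hy => exact hy.2
    | one => exact one_pow p
    | mul a b _ _ ha hb => simpa using H30.mul_pow_eq_one hp hR (k := 1) (by simpa using ha) (by simpa using hb)
    | inv a _ ha => rw [inv_pow, ha, inv_one]
  have hle : Nat.card Ω ≤ p ^ 2 :=
    H83.card_le_sq_of_isMetacyclic (Fact.out : p.Prime).pos
      (H83.isMetacyclic_of_injective Ω.subtype Ω.subtype_injective hm)
      fun x => Subtype.ext (hexp x x.2)
  obtain ⟨A, -, hA, hAc⟩ := H82.exists_elemAb_sq hp (P := (⊤ : Subgroup R)) (hR.to_subgroup ⊤)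
    (fun h => hnc (isCyclic_of_surjective Subgroup.topEquiv.toMonoidHom Subgroup.topEquiv.surjective))
  have hAΩ : A ≤ Ω := fun a ha => Subgroup.subset_closure ⟨Subgroup.mem_top a, hA.2 a ha⟩
  have heq : A = Ω := Subgroup.eq_of_le_of_card_ge hAΩ (hAc ▸ hle)
  exact ⟨heq ▸ hA, heq ▸ hAc⟩

end Cfsg.Agent.S0638
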