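import Cfsg.Statements.S0640
import Cfsg.Agent.H80.Rank2Cor

set_option autoImplicit false
open Cfsg

namespace Cfsg.Agent.S0640

/-- For odd p, a prime q ≠ p dividing the order of the automorphism group of a p-group of rank at most 2 divides p² - 1 and is less than p. -/
theorem result {R : Type*} [Group R] [Finite R] {p : ℕ} [Fact p.Prime] (hp : p ≠ 2) (hR : IsPGroup p R) (hrk : Cfsg.PRankLE p 2 R) (q : ℕ) (hq : q.Prime) (hqp : q ≠ p) (hdvd : q ∣ Nat.card (MulAut R)) : q ∣ p ^ 2 - 1 ∧ q < p := by
  classical
  haveI : Finite (R ≃* R) := Finite.of_injective (fun e => ⇑e) DFunLike.coe_injective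
  have hp3 : 3 ≤ p := by have := (Fact.out : p.Prime).two_le; omega
  rcases eq_or_ne q 2 with rfl | hq2
  · refine ⟨?_, by omega⟩
    have hodd : Odd p := (Fact.out : p.Prime).odd_of_ne_two hp
    obtain ⟨j, rfl⟩ := hodd
    rw [show (2 * j + 1) ^ 2 = 2 * (2 * j * j + 2 * j) + 1 by ring, Nat.add_sub_cancel]
    exact Dvd.intro _ rfl
  let S := R ⋊[MonoidHom.id (MulAut R)] MulAut R
  haveI : Finite S := Finite.of_equiv _ SemidirectProduct.equivProd.symm
  let i : R →* S := SemidirectProduct.inl
  let j : MulAut R →* S := SemidirectProduct.inr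
  have hi : Function.Injective i := SemidirectProduct.inl_injective
  have hj : Function.Injective j := SemidirectProduct.inr_injective
  have hA : j.range ≤ Subgroup.normalizer (i.range : Set S) := by
    haveI : i.range.Normal := by
      rw [show i.range = (SemidirectProduct.rightHom : S →* MulAut R).ker from
        SemidirectProduct.range_inl_eq_ker_rightHom]
      infer_instance
    rw [Subgroup.normalizer_eq_top_iff.mpr inferInstance]
    exact le_top
  have hfaith : j.range ⊓ Subgroup.centralizer (i.range : Set S) = ⊥ := by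
    rw [eq_bot_iff]
    rintro _ ⟨⟨a, rfl⟩, ha⟩
    rw [Subgroup.mem_bot]
    have : a = 1 := by
      ext x
      have h1 := Subgroup.mem_centralizer_iff.mp ha (i x) ⟨x, rfl⟩
      have h2 : i (a x) = i x := by
        have e : i (a x) = j a * i x * j a⁻¹ := (SemidirectProduct.inl_aut (φ := MonoidHom.id _) a x)
        rw [e, ← h1, mul_assoc, ← map_mul, mul_inv_cancel, map_one, mul_one]
      exact hi h2
    rw [this, map_one]
  have hRi : IsPGroup p i.range := hR.of_equiv (MonoidHom.ofInjective hi)
  have hr : Cfsg.PRankLE p 2 i.range :=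
    H80.pRankLE_of_injective (MonoidHom.ofInjective hi).symm.toMonoidHom
      (MonoidHom.ofInjective hi).symm.injective hrk
  have hd : q ∣ Nat.card j.range := by
    rwa [← Nat.card_congr (MonoidHom.ofInjective hj).toEquiv]
  refine ⟨?_, H80.rank2_prime_lt hp hRi hr hA hfaith hq hq2 hqp hd⟩
  have hsq : p ^ 2 - 1 = (p + 1) * (p - 1) := by simpa using Nat.sq_sub_sq p 1
  rw [hsq]
  rcases H80.rank2_prime_dvd hp hRi hr hA hfaith hq hq2 hqp hd with h | h
  · exact ((Dvd.intro_left 2 rfl).trans h).mul_left _
  · exact ((Dvd.intro_left 2 rfl).trans h).mul_right _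

end Cfsg.Agent.S0640
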