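import Cfsg.Statements.S0645
import Cfsg.Agent.H11.CyclicMaximal

set_option autoImplicit false
open Cfsg

namespace Cfsg.Agent.S0645

/-- Classification of p-groups with a cyclic maximal subgroup, odd p: a non-abelian one of order p^n has generators a of order p^(n-1) and b of order p, b outside the cyclic subgroup generated by a, with b a b⁻¹ = a^(1 + p^(n-2)). -/
theorem result {G : Type*} [Group G] [Finite G] {p : ℕ} [Fact p.Prime] (hp : p ≠ 2) (n : ℕ) (hn : 3 ≤ n) (hG : Nat.card G = p ^ n) (C : Subgroup G) (hC : IsCyclic C) (hCi : C.index = p) (hna : ∃ x y : G, x * y ≠ y * x) : ∃ a b : G, orderOf a = p ^ (n - 1) ∧ orderOf b = p ∧ b ∉ Subgroup.zpowers a ∧ b * a * b⁻¹ = a ^ (1 + p ^ (n - 2)) := by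
  obtain ⟨u, hu, hN, -, hcent⟩ := H11.cyclicMaximal_setup hG C hC hCi hna
  obtain ⟨m, rfl⟩ : ∃ m, n = m + 3 := ⟨n - 3, by omega⟩
  have hpG : IsPGroup p G := IsPGroup.of_card hG
  have hna' : ¬ IsMulCommutative G := by
    intro h
    obtain ⟨x, y, hxy⟩ := hna
    exact hxy (h.is_comm.comm x y)
  obtain ⟨k, hk, hk1, hcase⟩ := H30.cyclic_selfCentralizing_cases hpG hna' hN hcent
  rcases hcase with ⟨h2, -⟩ | ⟨h2, x, hx⟩
  · exact absurd h2 hp
  obtain ⟨b, hb, hbp, hbu⟩ := H11.exists_modular_generator hN hcent hk hk1 h2 hx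
  have hkm : k + 1 = m + 3 - 1 :=
    Nat.pow_right_injective (Fact.out : p.Prime).two_le (hk.symm.trans hu)
  refine ⟨u, b, hu, hbp, hb, ?_⟩
  rw [hbu, show m + 3 - 2 = k by omega]

end Cfsg.Agent.S0645
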