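import Cfsg.Statements.S0647
import Cfsg.Agent.H11.MaxFam

set_option autoImplicit false
open Cfsg

namespace Cfsg.Agent.S0647

/-- For a nonempty family of maximal abelian subgroups of a finite group, the intersection of the family is the centre of the subgroup it generates, which is also the full centralizer of that subgroup. -/
theorem result {S : Type*} [Group S] [Finite S] (𝒜 : Set (Subgroup S)) (hne : 𝒜.Nonempty) (hab : ∀ A ∈ 𝒜, IsMulCommutative A) (hmax : ∀ A ∈ 𝒜, ∀ B : Subgroup S, IsMulCommutative B → A ≤ B → B = A) : sInf 𝒜 = sSup 𝒜 ⊓ Subgroup.centralizer ((sSup 𝒜 : Subgroup S) : Set S) ∧ sInf 𝒜 = Subgroup.centralizer ((sSup 𝒜 : Subgroup S) : Set S) := by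
  have hle := H11.sInf_le_sSup_inf_centralizer hne hab
  have hge : Subgroup.centralizer ((sSup 𝒜 : Subgroup S) : Set S) ≤ sInf 𝒜 := by
    refine le_sInf fun A hA x hx => ?_
    have hc : ∀ a ∈ A, a * x = x * a := fun a ha =>
      Subgroup.mem_centralizer_iff.mp hx a (le_sSup (α := Subgroup S) hA ha)
    have h := hmax A hA (A ⊔ Subgroup.zpowers x)
      (H11.isMulCommutative_sup (hab A hA) inferInstance fun a ha y hy => by
        obtain ⟨k, rfl⟩ := Subgroup.mem_zpowers_iff.mp hy
        exact (Commute.zpow_right (hc a ha) k).eq) le_sup_left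
    rw [← h]
    exact Subgroup.mem_sup_right (Subgroup.mem_zpowers x)
  exact ⟨le_antisymm hle (inf_le_right.trans hge), le_antisymm (hle.trans inf_le_right) hge⟩

end Cfsg.Agent.S0647
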