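import Cfsg.Statements.S0655
import Cfsg.Agent.H11.MaxFam

set_option autoImplicit false
open Cfsg

namespace Cfsg.Agent.S0655

/-- In a p-group the intersection of all elementary abelian subgroups of largest order is the subgroup generated by the elements of order dividing p in the centre (equivalently the centralizer) of the elementary-version Thompson subgroup. -/
theorem result {S : Type*} [Group S] [Finite S] {p : ℕ} [Fact p.Prime] (hS : IsPGroup p S) : sInf (Cfsg.maxElementaryAbelianSubgroups p S) = Cfsg.omegaCenterThompson p S ∧ Cfsg.omegaCenterThompson p S = Cfsg.omegaOne p (Subgroup.centralizer (Cfsg.thompsonSubgroup p S : Set S)) := by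
  obtain ⟨A0, hA0, hA0'⟩ : (Cfsg.maxElementaryAbelianSubgroups p S).Nonempty := by
    obtain ⟨A, -, hA, hA'⟩ := H11.maxFam_nonempty (H11.replProp_elem (G := S) p).bot ⊤
    exact ⟨A, hA, fun B hB => hA' B le_top hB⟩
  have hle : sInf (Cfsg.maxElementaryAbelianSubgroups p S) ≤ Cfsg.omegaCenterThompson p S := by
    intro x hx
    have h : x ∈ {x : S | x ∈ Cfsg.thompsonSubgroup p S ⊓
        Subgroup.centralizer (Cfsg.thompsonSubgroup p S : Set S) ∧ x ^ p = 1} :=
      ⟨H11.sInf_le_sSup_inf_centralizer (𝒜 := Cfsg.maxElementaryAbelianSubgroups p S)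
        ⟨A0, hA0, hA0'⟩ (fun A hA => hA.1.1) hx,
        hA0.2 x (Subgroup.mem_sInf.mp hx A0 ⟨hA0, hA0'⟩)⟩
    exact Subgroup.subset_closure h
  have h12 : Cfsg.omegaCenterThompson p S ≤
      Cfsg.omegaOne p (Subgroup.centralizer (Cfsg.thompsonSubgroup p S : Set S)) :=
    Subgroup.closure_mono fun x hx => ⟨hx.1.2, hx.2⟩
  have hge : Cfsg.omegaOne p (Subgroup.centralizer (Cfsg.thompsonSubgroup p S : Set S)) ≤
      sInf (Cfsg.maxElementaryAbelianSubgroups p S) := by
    refine (Subgroup.closure_le _).mpr ?_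
    rintro x ⟨hx, hxp⟩
    rw [SetLike.mem_coe, Subgroup.mem_sInf]
    intro A hA
    exact H11.mem_of_commute_maxFam_elem (p := p) (D := ⊤)
      ⟨le_top, hA.1, fun B _ hB => hA.2 B hB⟩ (Subgroup.mem_top x) hxp fun a ha =>
        Subgroup.mem_centralizer_iff.mp hx a (le_sSup (α := Subgroup S) hA ha)
  exact ⟨le_antisymm hle (h12.trans hge), le_antisymm h12 (hge.trans hle)⟩

end Cfsg.Agent.S0655
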