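import Cfsg.Statements.S0660
import Cfsg.Agent.H29.AbelianInvariantSplit

set_option autoImplicit false
open Cfsg

namespace Cfsg.Agent.S0660

/-- Under a coprime action on an abelian group, an invariant subgroup that is complemented admits an invariant complement. -/
theorem result {G : Type*} [Group G] [Finite G] (V A U : Subgroup G) (hVab : IsMulCommutative V) (hAV : A ≤ Subgroup.normalizer (V : Set G)) (hcop : (Nat.card A).Coprime (Nat.card V)) (hUV : U ≤ V) (hAU : A ≤ Subgroup.normalizer (U : Set G)) (W : Subgroup G) (hWV : W ≤ V) (hUW : U ⊓ W = ⊥) (hUWV : U ⊔ W = V) : ∃ W' : Subgroup G, W' ≤ V ∧ A ≤ Subgroup.normalizer (W' : Set G) ∧ U ⊓ W' = ⊥ ∧ U ⊔ W' = V := by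
  classical
  letI : CommGroup V := { (inferInstance : Group V) with mul_comm := hVab.is_comm.comm }
  let φ : A →* MulAut V := V.normalizerMonoidHom.comp (Subgroup.inclusion hAV)
  have hφ : ∀ (a : A) (v : V), ((φ a v : V) : G) = a * v * (a : G)⁻¹ := fun a v => rfl
  have hcop' : (Nat.card φ.range).Coprime (Nat.card (U.subgroupOf V)) :=
    (hcop.coprime_dvd_left (Subgroup.card_range_dvd φ)).coprime_dvd_right (Subgroup.card_subgroup_dvd_card _)
  have hint : W.subgroupOf V ⊓ U.subgroupOf V = ⊥ := by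
    rw [eq_bot_iff]
    intro x hx
    have : (x : G) ∈ U ⊓ W := ⟨hx.2, hx.1⟩
    rw [hUW] at this
    exact Subgroup.mem_bot.mpr (Subtype.ext (Subgroup.mem_bot.mp this))
  have hsup : W.subgroupOf V ⊔ U.subgroupOf V = ⊤ := by
    apply Subgroup.map_injective V.subtype_injective
    rw [Subgroup.map_sup, Subgroup.map_subgroupOf_eq_of_le hWV, Subgroup.map_subgroupOf_eq_of_le hUV,
      sup_comm, hUWV, ← MonoidHom.range_eq_map, Subgroup.range_subtype]
  obtain ⟨C, hCinv, -, -, hCU, hCtop⟩ := H29.exists_invariant_complement φ.range ⊤ (U.subgroupOf V) ⊥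
    (W.subgroupOf V) hcop' (fun x _ a _ => Subgroup.mem_top _)
    (by
      rintro x ⟨a, rfl⟩ v hv
      show ((φ a v : V) : G) ∈ U
      rw [hφ]
      exact (Subgroup.mem_normalizer_iff.mp (hAU a.2) _).mp hv)
    (fun x _ a ha => by rw [Subgroup.mem_bot.mp ha, map_one]; exact one_mem _)
    bot_le le_top le_top hint hsup
  refine ⟨C.map V.subtype, Subgroup.map_subtype_le C, ?_, ?_, ?_⟩
  · intro a ha
    rw [Subgroup.mem_normalizer_iff]
    intro g
    constructor
    · rintro ⟨v, hv, rfl⟩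
      exact ⟨_, hCinv _ ⟨⟨a, ha⟩, rfl⟩ v hv, rfl⟩
    · rintro ⟨v, hv, he⟩
      refine ⟨_, hCinv _ ⟨⟨a, ha⟩⁻¹, rfl⟩ v hv, ?_⟩
      show ((φ _ v : V) : G) = g
      rw [hφ, show (v : G) = a * g * a⁻¹ from he]
      simp [mul_assoc]
  · rw [← Subgroup.map_subgroupOf_eq_of_le hUV, ← Subgroup.map_inf _ _ _ V.subtype_injective,
      inf_comm, hCU, Subgroup.map_bot]
  · rw [← Subgroup.map_subgroupOf_eq_of_le hUV, ← Subgroup.map_sup, sup_comm, hCtop,
      ← MonoidHom.range_eq_map, Subgroup.range_subtype]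

end Cfsg.Agent.S0660
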