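import Cfsg.Statements.S0663
import Cfsg.Agent.H1.CoprimeAction2
import Cfsg.Agent.H83.TrivAction
import Cfsg.Agent.H1.SchurZassenhausConj

set_option autoImplicit false
open Cfsg

open scoped commutatorElement

namespace Cfsg.Agent.S0663

/-- A p-group acts uniserially on a p-group N of order p^n exactly when the iterated commutator chain from N has length n; in that case the chain terms are all the invariant subgroups of N and they are normal in N. -/
theorem result {L : Type*} [Group L] [Finite L] {p : ℕ} [Fact p.Prime] (N G : Subgroup L) (hN : IsPGroup p N) (hG : IsPGroup p G) (hGN : G ≤ Subgroup.normalizer (N : Set L)) (n : ℕ) (hn : Nat.card N = p ^ n) : ((∀ H : Subgroup L, H ≤ N → G ≤ Subgroup.normalizer (H : Set L) → H ≠ ⊥ → (⁅H, G⁆).relIndex H = p) ↔ Cfsg.iterCommutator N G (n - 1) ≠ ⊥ ∨ n = 0) ∧ ((∀ H : Subgroup L, H ≤ N → G ≤ Subgroup.normalizer (H : Set L) → H ≠ ⊥ → (⁅H, G⁆).relIndex H = p) → ∀ H : Subgroup L, H ≤ N → G ≤ Subgroup.normalizer (H : Set L) → (∃ i ≤ n, H = Cfsg.iterCommutator N G i) ∧ N ≤ Subgroup.normalizer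 (H : Set L)) := by
  classical
  set C := Cfsg.iterCommutator N G with hCdef
  have hC0 : C 0 = N := rfl
  have hCs : ∀ i, C (i + 1) = ⁅C i, G⁆ := fun i => rfl
  have hCinv : ∀ i, G ≤ Subgroup.normalizer (C i : Set L) := by
    intro i
    induction i with
    | zero => exact hGN
    | succ i ih => exact hCs i ▸ H83.le_normalizer_commutator ih Subgroup.le_normalizer
  have hstep : ∀ i, C i ≤ N → C (i + 1) ≤ C i ∧ C (i + 1) ≤ N := by
    intro i hi
    have : ⁅C i, G⁆ ≤ C i := Subgroup.commutator_le.mpr fun c hc g hg => by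
      rw [commutatorElement_def, mul_assoc, mul_assoc, ← mul_assoc g]
      exact mul_mem hc ((Subgroup.mem_normalizer_iff.mp (hCinv i hg) _).mp (inv_mem hc))
    exact ⟨hCs i ▸ this, hCs i ▸ this.trans hi⟩
  have hCN : ∀ i, C i ≤ N := fun i => by
    induction i with
    | zero => exact le_rfl
    | succ i ih => exact (hstep i ih).2
  have hmono : ∀ i j, i ≤ j → C j ≤ C i := fun i j h =>
    Nat.le_induction le_rfl (fun k _ ih => (hstep k (hCN k)).1.trans ih) j h
  have hlt : ∀ (B H : Subgroup L), IsPGroup p B → H ≤ N → B ≤ Subgroup.normalizer (H : Set L) → H ≠ ⊥ →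
      Nat.card ↥⁅H, B⁆ * p ≤ Nat.card H := by
    intro B H hB hH hBH hne
    have hl := H1.commutator_lt_of_isPGroup hB (hN.to_le hH) hBH hne
    obtain ⟨a, ha⟩ := IsPGroup.iff_card.mp (hN.to_le (hl.le.trans hH))
    obtain ⟨b, hb⟩ := IsPGroup.iff_card.mp (hN.to_le hH)
    have h1 : Nat.card ↥⁅H, B⁆ < Nat.card H :=
      lt_of_not_ge fun hge => hl.ne (Subgroup.eq_of_le_of_card_ge hl.le hge)
    rw [ha, hb] at h1 ⊢
    rw [← pow_succ]
    exact Nat.pow_le_pow_right (Fact.out : p.Prime).pos
      ((Nat.pow_lt_pow_iff_right (Fact.out : p.Prime).one_lt).mp h1)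
  have hup : ∀ i, i ≤ n → Nat.card (C i) * p ^ i ≤ p ^ n := by
    intro i
    induction i with
    | zero => intro _; rw [pow_zero, mul_one, hC0, hn]
    | succ i ih =>
      intro hi
      by_cases hb : C i = ⊥
      · have hb' : C (i + 1) = ⊥ := le_bot_iff.mp (hb ▸ (hstep i (hCN i)).1)
        rw [hb', Subgroup.card_bot, one_mul]
        exact Nat.pow_le_pow_right (Fact.out : p.Prime).pos hi
      · calc Nat.card (C (i + 1)) * p ^ (i + 1) = Nat.card (C (i + 1)) * p * p ^ i := by ring
          _ ≤ Nat.card (C i) * p ^ i :=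
            Nat.mul_le_mul_right _ (hlt G (C i) hG (hCN i) (hCinv i) hb)
          _ ≤ p ^ n := ih (by omega)
  have hfwd : (∀ H : Subgroup L, H ≤ N → G ≤ Subgroup.normalizer (H : Set L) → H ≠ ⊥ → (⁅H, G⁆).relIndex H = p) →
      Cfsg.iterCommutator N G (n - 1) ≠ ⊥ ∨ n = 0 := by
    intro hU
    have hcard : ∀ i, i ≤ n → Nat.card (C i) * p ^ i = p ^ n := by
      intro i
      induction i with
      | zero => intro _; rw [pow_zero, mul_one, hC0, hn]
      | succ i ih =>
        intro hi
        have hcard := ih (by omega)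
        have hb : C i ≠ ⊥ := by
          intro hb
          rw [hb, Subgroup.card_bot, one_mul] at hcard
          have := Nat.pow_right_injective (Fact.out : p.Prime).two_le hcard
          omega
        have h := hU (C i) (hCN i) (hCinv i) hb
        have h2 := Subgroup.card_mul_index ((C (i + 1)).subgroupOf (C i))
        rw [Nat.card_congr (Subgroup.subgroupOfEquivOfLe (hstep i (hCN i)).1).toEquiv] at h2
        have h3 : ((C (i + 1)).subgroupOf (C i)).index = p := by rw [hCs i]; exact h
        rw [h3, hCs i] at h2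
        rw [hCs i, ← hcard, ← h2]; ring
    rcases Nat.eq_zero_or_pos n with h | h
    · exact Or.inr h
    · left
      intro hb
      have h1 := hcard (n - 1) (by omega)
      rw [show C (n - 1) = ⊥ from hb, Subgroup.card_bot, one_mul] at h1
      have := Nat.pow_right_injective (Fact.out : p.Prime).two_le h1
      omega
  have hmain : (Cfsg.iterCommutator N G (n - 1) ≠ ⊥ ∨ n = 0) →
      (∀ H : Subgroup L, H ≤ N → G ≤ Subgroup.normalizer (H : Set L) → H ≠ ⊥ → (⁅H, G⁆).relIndex H = p) ∧
      ∀ H : Subgroup L, H ≤ N → G ≤ Subgroup.normalizer (H : Set L) →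
        (∃ i ≤ n, H = Cfsg.iterCommutator N G i) ∧ N ≤ Subgroup.normalizer (H : Set L) := by
    intro hne
    rcases Nat.eq_zero_or_pos n with h0 | hn0
    · subst h0
      have hNbot : N = ⊥ := Subgroup.card_eq_one.mp (by simpa using hn)
      refine ⟨fun H hH _ h => absurd (le_bot_iff.mp (hNbot ▸ hH)) h, fun H hH _ => ⟨⟨0, le_rfl, ?_⟩, ?_⟩⟩
      · show H = N
        rw [hNbot]; exact le_bot_iff.mp (hNbot ▸ hH)
      · rw [hNbot]; exact bot_le
    have hlast : C (n - 1) ≠ ⊥ := hne.resolve_right (by omega)
    have hdown : ∀ d i, i + d + 1 = n → p ^ (d + 1) ≤ Nat.card (C i) := by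
      intro d
      induction d with
      | zero =>
        intro i hi
        rw [show i = n - 1 by omega]
        obtain ⟨a, ha⟩ := IsPGroup.iff_card.mp (hN.to_le (hCN (n - 1)))
        rw [ha]
        refine Nat.pow_le_pow_right (Fact.out : p.Prime).pos (Nat.pos_of_ne_zero fun h => hlast ?_)
        exact Subgroup.card_eq_one.mp (by rw [ha, h, pow_zero])
      | succ d ih =>
        intro i hi
        have hb : C i ≠ ⊥ := fun h => hlast (le_bot_iff.mp (h ▸ hmono i (n - 1) (by omega)))
        calc p ^ (d + 1 + 1) = p ^ (d + 1) * p := pow_succ _ _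
          _ ≤ Nat.card (C (i + 1)) * p := Nat.mul_le_mul_right _ (ih (i + 1) (by omega))
          _ ≤ _ := hlt G (C i) hG (hCN i) (hCinv i) hb
    have hcard : ∀ i, i ≤ n → Nat.card (C i) = p ^ (n - i) := by
      intro i hi
      have hu := hup i hi
      rw [show p ^ n = p ^ (n - i) * p ^ i by rw [← pow_add, Nat.sub_add_cancel hi]] at hu
      refine le_antisymm (Nat.le_of_mul_le_mul_right hu (pow_pos (Fact.out : p.Prime).pos i)) ?_
      rcases eq_or_lt_of_le hi with rfl | hi'
      · rw [Nat.sub_self, pow_zero]; exact Nat.card_pos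
      · have := hdown (n - i - 1) i (by omega)
        rwa [show n - i - 1 + 1 = n - i by omega] at this
    have hbotn : C n = ⊥ := Subgroup.card_eq_one.mp (by rw [hcard n le_rfl, Nat.sub_self, pow_zero])
    -- the chain is normal in `N`
    have hSp : IsPGroup p ↥(N ⊔ G) := hN.to_sup_of_normal_left' hG hGN
    have hnorm : ∀ i, i ≤ n → N ⊔ G ≤ Subgroup.normalizer (C i : Set L) ∧
        ∀ j, j + 1 = i → C i = ⁅C j, N ⊔ G⁆ := by
      intro i
      induction i with
      | zero => intro _; exact ⟨sup_le Subgroup.le_normalizer hGN, fun j hj => by omega⟩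
      | succ i ih =>
        intro hi
        have hS := (ih (by omega)).1
        have hle : C (i + 1) ≤ ⁅C i, N ⊔ G⁆ := hCs i ▸ Subgroup.commutator_mono le_rfl le_sup_right
        have hb : C i ≠ ⊥ := fun h => hlast (le_bot_iff.mp (h ▸ hmono i (n - 1) (by omega)))
        have heq : C (i + 1) = ⁅C i, N ⊔ G⁆ := by
          refine Subgroup.eq_of_le_of_card_ge hle (Nat.le_of_mul_le_mul_right ?_ (Fact.out : p.Prime).pos)
          refine (hlt (N ⊔ G) (C i) hSp (hCN i) hS hb).trans (le_of_eq ?_)
          rw [hcard i (by omega), hcard (i + 1) hi, ← pow_succ, show n - (i + 1) + 1 = n - i by omega]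
        refine ⟨heq ▸ H83.le_normalizer_commutator hS Subgroup.le_normalizer, fun j hj => ?_⟩
        rw [show j = i by omega]
        exact heq
    have hcomm : ∀ j, j ≤ n → ∀ d ∈ C j, ∀ x ∈ N, ⁅d, x⁆ ∈ C (j + 1) := by
      intro j hj d hd x hx
      rcases eq_or_lt_of_le hj with rfl | hj'
      · rw [hbotn, Subgroup.mem_bot] at hd
        rw [hd, commutatorElement_one_left]
        exact one_mem _
      · rw [(hnorm (j + 1) hj').2 j rfl]
        exact Subgroup.commutator_mem_commutator hd (Subgroup.mem_sup_left hx)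
    have hclass : ∀ H : Subgroup L, H ≤ N → G ≤ Subgroup.normalizer (H : Set L) → ∃ i ≤ n, H = C i := by
      intro H hH hGH
      set i := Nat.findGreatest (fun k => H ≤ C k) n with hi
      have hin : i ≤ n := Nat.findGreatest_le n
      have hHi : H ≤ C i := by
        refine Nat.findGreatest_spec (P := fun k => H ≤ C k) (Nat.zero_le n) ?_
        exact hH
      refine ⟨i, hin, ?_⟩
      rcases eq_or_lt_of_le hin with he | hlti
      · rw [he] at hHi ⊢
        rw [hbotn] at hHi ⊢
        exact le_bot_iff.mp hHi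
      have hnot : ¬ H ≤ C (i + 1) :=
        Nat.findGreatest_is_greatest (P := fun k => H ≤ C k) (Nat.lt_succ_self i) hlti
      have hbase : C i ≤ H ⊔ C (i + 1) := by
        have h1 : C (i + 1) < H ⊔ C (i + 1) := lt_of_le_of_ne le_sup_right fun h => hnot (h ▸ le_sup_left)
        have h2 : H ⊔ C (i + 1) ≤ C i := sup_le hHi (hmono i (i + 1) (by omega))
        refine (Subgroup.eq_of_le_of_card_ge h2 ?_).ge
        obtain ⟨a, ha⟩ := IsPGroup.iff_card.mp (hN.to_le (h2.trans (hCN i)))
        have hl : Nat.card (C (i + 1)) < Nat.card ↥(H ⊔ C (i + 1)) :=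
          lt_of_not_ge fun hge => h1.ne (Subgroup.eq_of_le_of_card_ge h1.le hge)
        rw [hcard (i + 1) (by omega), ha] at hl
        rw [hcard i hin, ha]
        have := (Nat.pow_lt_pow_iff_right (Fact.out : p.Prime).one_lt).mp hl
        exact Nat.pow_le_pow_right (Fact.out : p.Prime).pos (by omega)
      have hall : ∀ k, i + k + 1 ≤ n → C (i + k) ≤ H ⊔ C (i + k + 1) := by
        intro k
        induction k with
        | zero => intro _; exact hbase
        | succ k ih =>
          intro hk
          rw [show i + (k + 1) = i + k + 1 by omega, hCs (i + k), Subgroup.commutator_le]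
          intro c hc g hg
          have hnC : H ≤ Subgroup.normalizer (C (i + k + 1) : Set L) :=
            (hH.trans le_sup_left).trans (hnorm _ (by omega)).1
          have hc' : c ∈ C (i + k + 1) ⊔ H := sup_comm H (C (i + k + 1)) ▸ ih (by omega) hc
          obtain ⟨d, hd, h, hh, rfl⟩ := H1.exists_mul_of_mem_sup hnC hc'
          have hy : ⁅h, g⁆ ∈ H := by
            rw [commutatorElement_def, mul_assoc, mul_assoc, ← mul_assoc g]
            exact mul_mem hh ((Subgroup.mem_normalizer_iff.mp (hGH hg) _).mp (inv_mem hh))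
          have he : ⁅d * h, g⁆ = ⁅d, ⁅h, g⁆⁆ * ⁅h, g⁆ * ⁅d, g⁆ := by
            simp only [commutatorElement_def]; group
          rw [he]
          refine mul_mem (mul_mem (Subgroup.mem_sup_right ?_) (Subgroup.mem_sup_left hy)) (Subgroup.mem_sup_right ?_)
          · exact hcomm _ (by omega) d hd _ (hH hy)
          · rw [hCs (i + k + 1)]
            exact Subgroup.commutator_mem_commutator hd hg
      have hdownH : ∀ d j, i ≤ j → j + d = n → C j ≤ H := by
        intro d
        induction d with
        | zero =>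
          intro j _ hj
          rw [show j = n by omega, hbotn]
          exact bot_le
        | succ d ih =>
          intro j hij hj
          have h1 := hall (j - i) (by omega)
          rw [show i + (j - i) = j by omega] at h1
          exact h1.trans (sup_le le_rfl (ih (j + 1) (by omega) (by omega)))
      exact le_antisymm hHi (hdownH (n - i) i le_rfl (by omega))
    refine ⟨fun H hH hGH hne' => ?_, fun H hH hGH => ?_⟩
    · obtain ⟨i, hi, rfl⟩ := hclass H hH hGH
      have hin : i < n := lt_of_le_of_ne hi fun h => hne' (h ▸ hbotn)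
      rw [← hCs i]
      have h2 := Subgroup.card_mul_index ((C (i + 1)).subgroupOf (C i))
      rw [Nat.card_congr (Subgroup.subgroupOfEquivOfLe (hstep i (hCN i)).1).toEquiv,
        hcard (i + 1) (by omega), hcard i hi, show n - i = n - (i + 1) + 1 by omega, pow_succ] at h2
      exact Nat.eq_of_mul_eq_mul_left (pow_pos (Fact.out : p.Prime).pos _) h2
    · obtain ⟨i, hi, rfl⟩ := hclass H hH hGH
      exact ⟨⟨i, hi, rfl⟩, le_sup_left.trans (hnorm i hi).1⟩
  exact ⟨⟨hfwd, fun h => (hmain h).1⟩, fun hU => (hmain (hfwd hU)).2⟩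

end Cfsg.Agent.S0663
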