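import Cfsg.Statements.S0666
import Cfsg.Agent.H2.FPFSubgroup

set_option autoImplicit false
open Cfsg

namespace Cfsg.Agent.S0666

/-- A Frobenius group acting on a nontrivial abelian group of order prime to that of its kernel, with the kernel acting without nontrivial fixed points, has a complement with a nontrivial fixed point. -/
theorem result {G : Type*} [Group G] [Finite G] (V F : Subgroup G) (hVab : IsMulCommutative V) (hV1 : V ≠ ⊥) (hFV : F ≤ Subgroup.normalizer (V : Set G)) (H : Subgroup ↥F) (hH : Cfsg.IsFrobeniusComplement H) (hcop : (Nat.card V).Coprime (Nat.card (Cfsg.frobeniusKernel H))) (hCK : V ⊓ Subgroup.centralizer (Subtype.val '' Cfsg.frobeniusKernel H : Set G) = ⊥) : V ⊓ Subgroup.centralizer ((H.map F.subtype : Subgroup G) : Set G) ≠ ⊥ := by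
  haveI := hVab
  letI := H2.commGroupOfComm V
  letI := H2.conjActionOfLe F V hFV
  haveI : Nontrivial V := V.nontrivial_iff_ne_bot.mpr hV1
  obtain ⟨m, hm1, hfix⟩ := H2.exists_fixed_complement (M := V) hH hcop (fun m hm => by
    have : (m : G) ∈ V ⊓ Subgroup.centralizer (Subtype.val '' Cfsg.frobeniusKernel H : Set G) := by
      refine Subgroup.mem_inf.mpr ⟨m.2, Subgroup.mem_centralizer_iff.mpr ?_⟩
      rintro _ ⟨f, hf, rfl⟩
      have h2 : (f : G) * m * (f : G)⁻¹ = m := congrArg Subtype.val (hm f hf)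
      exact mul_inv_eq_iff_eq_mul.mp h2
    rw [hCK, Subgroup.mem_bot] at this
    exact Subtype.ext this)
  intro hbot
  apply hm1
  have : (m : G) ∈ V ⊓ Subgroup.centralizer ((H.map F.subtype : Subgroup G) : Set G) := by
    refine Subgroup.mem_inf.mpr ⟨m.2, Subgroup.mem_centralizer_iff.mpr ?_⟩
    rintro _ ⟨f, hf, rfl⟩
    have h2 : (f : G) * m * (f : G)⁻¹ = m := congrArg Subtype.val (hfix f hf)
    exact mul_inv_eq_iff_eq_mul.mp h2
  rw [hbot, Subgroup.mem_bot] at this
  exact Subtype.ext this

end Cfsg.Agent.S0666
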