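import Cfsg.Statements.S0669


set_option autoImplicit false
open Cfsg

namespace Cfsg.Agent.S0669

/-- The rank of a transitive action: orbits on ordered pairs correspond to orbits of a point stabiliser. -/
theorem result {G : Type*} [Group G] {Ω : Type*} [Finite Ω] [MulAction G Ω] [MulAction.IsPretransitive G Ω] (a : Ω) : Nat.card (MulAction.orbitRel.Quotient G (Ω × Ω)) = Nat.card (MulAction.orbitRel.Quotient (MulAction.stabilizer G a) Ω) := by
  refine Nat.card_congr (Equiv.ofBijective
    (Quotient.lift (fun y => (Quotient.mk'' (a, y) : MulAction.orbitRel.Quotient G (Ω × Ω))) ?_)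
    ⟨?_, ?_⟩).symm
  · intro y y' h
    obtain ⟨g, rfl⟩ := h
    exact Quotient.sound ⟨(g : G), Prod.ext g.2 rfl⟩
  · intro x x' h
    induction x using Quotient.inductionOn' with
    | h y =>
      induction x' using Quotient.inductionOn' with
      | h y' =>
        obtain ⟨g, hg⟩ := Quotient.exact h
        simp only [Prod.smul_mk, Prod.mk.injEq] at hg
        exact Quotient.sound ⟨⟨g, hg.1⟩, hg.2⟩
  · intro z
    induction z using Quotient.inductionOn' with
    | h xy =>
      obtain ⟨x, y⟩ := xy
      obtain ⟨g, hg⟩ := MulAction.exists_smul_eq G x a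
      exact ⟨Quotient.mk'' (g • y), Quotient.sound ⟨g, Prod.ext hg rfl⟩⟩

end Cfsg.Agent.S0669
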