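import Cfsg.Statements.S0673
import Cfsg.Agent.H58.CyclicModule

set_option autoImplicit false
open Cfsg

namespace Cfsg.Agent.S0673

/-- In characteristic `p`, the translation-invariant subspaces of the space of functions on `ZMod p` are exactly the spaces of polynomial functions of degree less than `r`, one for each `r ≤ p`, of dimension `r`. -/
theorem result {p : ℕ} [Fact p.Prime] {K : Type*} [Field K] [CharP K p] (W : Submodule K (ZMod p → K)) (hW : ∀ f ∈ W, (fun j => f (j - 1)) ∈ W) : ∃ r : ℕ, r ≤ p ∧ Module.finrank K W = r ∧ ∀ f : ZMod p → K, f ∈ W ↔ ∃ P : Polynomial K, P.degree < r ∧ ∀ j : ZMod p, f j = P.eval (ZMod.cast j : K) := by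
  have hsub : ∀ (n : ℕ), ∀ f ∈ W, (fun j => f (j - n)) ∈ W := by
    intro n
    induction n with
    | zero => intro f hf; simpa using hf
    | succ n ih =>
      intro f hf
      have := hW _ (ih f hf)
      convert this using 1
      funext j
      congr 1
      push_cast
      ring
  have hadd : ∀ f ∈ W, (fun j => f (j + 1)) ∈ W := by
    intro f hf
    have := hsub (p - 1) f hf
    convert this using 1
    funext j
    congr 1
    have hp := (Fact.out : p.Prime).one_lt
    rw [Nat.cast_sub (by omega), ZMod.natCast_self]
    ring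
  obtain ⟨r, hr, rfl⟩ := H58.exists_eq_diffKer_of_shift W hadd
  exact ⟨r, hr, H58.finrank_diffKer hr, fun f => H58.mem_diffKer_iff hr f⟩

end Cfsg.Agent.S0673
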