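import Cfsg.Statements.S0674
import Cfsg.Agent.H58.PrimeDegree

set_option autoImplicit false
open Cfsg

namespace Cfsg.Agent.S0674

/-- Let `G` be a non-solvable transitive permutation group of prime degree `p` and `K` a field of characteristic `p`. Then the heart of the permutation module is irreducible: an invariant subspace containing the constants and contained in the sum-zero functions is one or the other. -/
theorem result {α : Type*} [Fintype α] [DecidableEq α] {p : ℕ} [Fact p.Prime] (hα : Fintype.card α = p) (G : Subgroup (Equiv.Perm α)) [MulAction.IsPretransitive G α] (hG : ¬ Group.IsSolvable G) {K : Type*} [Field K] [CharP K p] (W : Subrepresentation (Cfsg.permRep K G α)) (h₁ : (Cfsg.permConstants K G α).toSubmodule ≤ W.toSubmodule) (h₂ : W.toSubmodule ≤ (Cfsg.permSumZero K G α).toSubmodule) : W = Cfsg.permConstants K G α ∨ W = Cfsg.permSumZero K G α := by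
  obtain ⟨e, c, hcG, -, hc⟩ := H58.exists_numbering hα G
  obtain ⟨r, hr, hW, haff⟩ := H58.pullback_eq_diffKer G hcG hc W
  have hp := (Fact.out : p.Prime).two_le
  have hsum : ∀ f : α → K, f ∈ (Cfsg.permSumZero K G α).toSubmodule ↔
      (fun j => f (e j)) ∈ H58.diffKer K p (p - 1) := by
    intro f
    rw [H58.mem_diffKer_pred_iff]
    change ∑ x, f x = 0 ↔ ∑ j, f (e j) = 0
    rw [e.sum_comp]
  have hconst : ∀ f : α → K, f ∈ (Cfsg.permConstants K G α).toSubmodule ↔
      (fun j => f (e j)) ∈ H58.diffKer K p 1 := by
    intro f
    constructor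
    · intro hf
      obtain ⟨a, rfl⟩ := Submodule.mem_span_singleton.mp hf
      exact H58.const_mem_diffKer le_rfl (a • (1 : K))
    · intro hf
      rw [H58.mem_diffKer_succ, H58.diffKer_zero, Submodule.mem_bot] at hf
      refine Submodule.mem_span_singleton.mpr ⟨f (e 0), funext fun x => ?_⟩
      have := H58.eq_const_of_fdiff_eq_zero hf (e.symm x)
      simp only [e.apply_symm_apply] at this
      simp [this]
  by_cases h2 : 2 ≤ r
  · right
    by_cases h3 : r + 2 ≤ p
    · exact absurd (haff h2 h3).isSolvable hG
    · refine Subrepresentation.toSubmodule_injective (le_antisymm h₂ fun f hf => ?_)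
      rw [hW]
      exact H58.diffKer_mono (by omega) ((hsum f).mp hf)
  · left
    refine Subrepresentation.toSubmodule_injective (le_antisymm (fun f hf => ?_) h₁)
    rw [hconst]
    exact H58.diffKer_mono (by omega) ((hW f).mp hf)

end Cfsg.Agent.S0674
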