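import Cfsg.Statements.S0680
import Cfsg.Agent.H58.SharplyTwo

set_option autoImplicit false
open Cfsg

namespace Cfsg.Agent.S0680

/-- A finite sharply doubly transitive permutation group has degree a prime power `p ^ j`; a Sylow `p`-subgroup is normal, elementary abelian and regular, and consists of the identity together with the elements without fixed points. (Frobenius' Theorem is not needed.) -/
theorem result {α : Type*} [Fintype α] [DecidableEq α] (G : Subgroup (Equiv.Perm α)) [MulAction.IsMultiplyPretransitive G α 2] (hsharp : ∀ x : Fin 2 ↪ α, MulAction.stabilizer G x = ⊥) (h2 : 2 ≤ Fintype.card α) : ∃ p j : ℕ, p.Prime ∧ 1 ≤ j ∧ Fintype.card α = p ^ j ∧ ∀ (hp : Fact p.Prime) (P : Sylow p G), (P : Subgroup G).Normal ∧ IsMulCommutative (P : Subgroup G) ∧ (∀ x ∈ (P : Subgroup G), x ^ p = 1) ∧ MulAction.IsPretransitive (P : Subgroup G) α ∧ (∀ a : α, MulAction.stabilizer (P : Subgroup G) a = ⊥) ∧ ∀ g : G, g ∈ (P : Subgroup G) ↔ g = 1 ∨ ∀ a : α, g • a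 ≠ a := by
  have hfix : ∀ (g : G) (a b : α), a ≠ b → g • a = a → g • b = b → g = 1 :=
    fun g a b hab ha hb => H58.sharp_fix_two rfl hsharp hab ha hb
  obtain ⟨N, hNn, hN, hcomm, hcard, hG, hreg, p, j, hp, hj, hpj, hexp⟩ :=
    H58.sharplyTwo_kernel inferInstance hfix h2
  refine ⟨p, j, hp, hj, hpj, fun hpf P => ?_⟩
  have hPN : (P : Subgroup G) = N := by
    have hNp : IsPGroup p N := IsPGroup.of_card (n := j) (hcard.trans hpj)
    obtain ⟨Q, hQ⟩ := hNp.exists_le_sylow
    have hQN : (Q : Subgroup G) = N := by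
      refine (Subgroup.eq_of_le_of_card_ge hQ ?_).symm
      rw [Sylow.card_eq_multiplicity, hcard, hpj]
      refine Nat.pow_le_pow_right hp.pos ?_
      rw [hG, hpj, Nat.factorization_mul (pow_ne_zero _ hp.ne_zero) (by
        have : 2 ≤ p ^ j := le_trans hp.two_le (Nat.le_self_pow (by omega) p)
        omega)]
      simp [hp.factorization_pow]
      refine Nat.factorization_eq_zero_of_not_dvd fun h => ?_
      have hdp : p ∣ p ^ j := dvd_pow_self p (by omega)
      have := Nat.dvd_sub hdp h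
      have hpos : 1 ≤ p ^ j := Nat.one_le_pow _ _ hp.pos
      rw [Nat.sub_sub_self hpos] at this
      exact hp.not_dvd_one this
    obtain ⟨g, hg⟩ := MulAction.exists_smul_eq G Q P
    haveI : N.Normal := hNn
    haveI : (Q : Subgroup G).Normal := hQN ▸ hNn
    rw [← hg, Sylow.smul_eq_of_normal, hQN]
  rw [hPN]
  refine ⟨hNn, ⟨⟨fun u v => Subtype.ext (hcomm _ u.2 _ v.2)⟩⟩, hexp, ⟨fun a b => ?_⟩,
    fun a => ?_, hN⟩
  · obtain ⟨g, hg, -⟩ := hreg a b
    exact ⟨⟨g, hg.1⟩, hg.2⟩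
  · rw [Subgroup.eq_bot_iff_forall]
    rintro ⟨g, hg⟩ hga
    obtain ⟨u, -, hu⟩ := hreg a a
    exact Subtype.ext ((hu g ⟨hg, hga⟩).trans (hu 1 ⟨N.one_mem, one_smul _ _⟩).symm)

end Cfsg.Agent.S0680
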