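import Cfsg.Statements.S0681
import Mathlib

set_option autoImplicit false
open Cfsg

namespace Cfsg.Agent.S0681

/-- The affine maps `x ↦ x * a + b`, `a ≠ 0`, of a near-field form a sharply doubly transitive permutation group. -/
theorem result {F : Type*} [Cfsg.NearField F] : ∃ H : Subgroup (Equiv.Perm F), (∀ σ : Equiv.Perm F, σ ∈ H ↔ ∃ a b : F, a ≠ 0 ∧ ∀ x : F, σ x = x * a + b) ∧ MulAction.IsMultiplyPretransitive H F 2 ∧ ∀ x : Fin 2 ↪ F, MulAction.stabilizer H x = ⊥ := by
  have hz : ∀ a : F, (0 : F) * a = 0 := fun a => by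
    have h := NearField.right_distrib (0 : F) 0 a
    rw [add_zero] at h
    exact left_eq_add.mp h
  have hneg : ∀ x a : F, (-x) * a = -(x * a) := fun x a => by
    apply eq_neg_of_add_eq_zero_left
    rw [← NearField.right_distrib, neg_add_cancel, hz]
  have hne : ∀ a c : F, a ≠ 0 → c ≠ 0 → a * c ≠ 0 := by
    intro a c ha hc h
    obtain ⟨d, hd, -⟩ := NearField.exists_inv c hc
    apply ha
    rw [← mul_one a, ← hd, ← mul_assoc, h, hz]
  let H : Subgroup (Equiv.Perm F) :=
    { carrier := {σ | ∃ a b : F, a ≠ 0 ∧ ∀ x : F, σ x = x * a + b}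
      one_mem' := ⟨1, 0, NearField.zero_ne_one.symm, fun x => by simp⟩
      mul_mem' := by
        rintro σ τ ⟨a, b, ha, hσ⟩ ⟨c, d, hc, hτ⟩
        refine ⟨c * a, d * a + b, hne c a hc ha, fun x => ?_⟩
        rw [Equiv.Perm.mul_apply, hτ, hσ, NearField.right_distrib, mul_assoc, add_assoc]
      inv_mem' := by
        rintro σ ⟨a, b, ha, hσ⟩
        obtain ⟨a', h1, h2⟩ := NearField.exists_inv a ha
        refine ⟨a', (-b) * a', ?_, fun x => ?_⟩
        · rintro rfl
          exact NearField.zero_ne_one ((NearField.mul_zero a).symm.trans h1)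
        · apply σ.injective
          rw [Equiv.Perm.inv_def, Equiv.apply_symm_apply, hσ, ← NearField.right_distrib, mul_assoc,
            h2, mul_one, neg_add_cancel_right] }
  have hH : ∀ σ : Equiv.Perm F, σ ∈ H ↔ ∃ a b : F, a ≠ 0 ∧ ∀ x : F, σ x = x * a + b :=
    fun σ => Iff.rfl
  refine ⟨H, hH, ?_, ?_⟩
  · rw [MulAction.is_two_pretransitive_iff]
    intro x0 x1 y0 y1 hx hy
    have hd : x1 + -x0 ≠ 0 := fun h => hx (by rw [← neg_neg x0]; exact (eq_neg_of_add_eq_zero_left h).symm)
    obtain ⟨d', h1, h2⟩ := NearField.exists_inv _ hd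
    set a := d' * (y1 + -y0) with hadef
    have hda : (x1 + -x0) * a = y1 + -y0 := by rw [hadef, ← mul_assoc, h1, one_mul]
    have ha : a ≠ 0 := by
      intro h
      rw [h, NearField.mul_zero] at hda
      exact hy (by rw [← neg_neg y0]; exact (eq_neg_of_add_eq_zero_left hda.symm).symm)
    obtain ⟨a', ha1, ha2⟩ := NearField.exists_inv a ha
    set b := -(x0 * a) + y0 with hb
    let σ : Equiv.Perm F :=
      { toFun := fun x => x * a + b
        invFun := fun x => (x + -b) * a'
        left_inv := fun x => by simp [mul_assoc, ha1]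
        right_inv := fun x => by simp [mul_assoc, ha2] }
    refine ⟨⟨σ, a, b, ha, fun x => rfl⟩, ?_, ?_⟩
    · change x0 * a + b = y0
      rw [hb, add_neg_cancel_left]
    · change x1 * a + b = y1
      rw [hb, ← add_assoc, ← hneg, ← NearField.right_distrib, hda, neg_add_cancel_right]
  · intro x
    rw [Subgroup.eq_bot_iff_forall]
    rintro ⟨σ, a, b, ha, hσ⟩ hg
    have e : ∀ i, x i * a + b = x i := fun i => (hσ (x i)).symm.trans (DFunLike.congr_fun hg i)
    have hd : x 1 + -(x 0) ≠ 0 := fun h =>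
      x.injective.ne (show (1 : Fin 2) ≠ 0 by decide)
        (by rw [← neg_neg (x 0)]; exact eq_neg_of_add_eq_zero_left h)
    have hda : (x 1 + -(x 0)) * a = x 1 + -(x 0) := by
      rw [NearField.right_distrib, hneg]
      conv_rhs => rw [← e 1, ← e 0, neg_add_rev, add_assoc, add_neg_cancel_left]
    obtain ⟨d', h1, h2⟩ := NearField.exists_inv _ hd
    have ha1 : a = 1 := by rw [← one_mul a, ← h2, mul_assoc, hda]
    have hb0 : b = 0 := by
      have := e 0
      rwa [ha1, mul_one, add_eq_left] at this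
    exact Subtype.ext (Equiv.ext fun y => by simp [hσ, ha1, hb0])

end Cfsg.Agent.S0681
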