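import Cfsg.Statements.S0687
import Cfsg.Agent.H58.RegularLinearSL25

set_option autoImplicit false
open Cfsg

namespace Cfsg.Agent.S0687

/-- In a linear group over the prime field that is regular on non-zero vectors and has no irreducible cyclic normal subgroup, a normal subgroup `N` minimal among the non-abelian normal subgroups centralising a maximal normal abelian subgroup `A` is irreducible on `V`, and its centraliser is `A`. -/
theorem result {p : ℕ} [Fact p.Prime] {V : Type*} [AddCommGroup V] [Module (ZMod p) V] [Finite V] (H : Subgroup (V ≃ₗ[ZMod p] V)) (hreg : ∀ v w : V, v ≠ 0 → w ≠ 0 → ∃! h : H, (h : V ≃ₗ[ZMod p] V) v = w) (hI : ∀ A : Subgroup H, A.Normal → IsCyclic A → ∃ W : Submodule (ZMod p) V, W ≠ ⊥ ∧ W ≠ ⊤ ∧ ∀ a ∈ A, ∀ v ∈ W, ((a : H) : V ≃ₗ[ZMod p] V) v ∈ W) (A : Subgroup H) (hAn : A.Normal) (hAc : IsMulCommutative A) (hAmax : ∀ B : Subgroup H, B.Normal → IsMulCommutative B → A ≤ B → B = A) (N : Subgroup H) (hNn : N.Normal) (hNle : N ≤ Subgroup.centralizer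 (A : Set H)) (hNna : ¬ IsMulCommutative N) (hNmin : ∀ M : Subgroup H, M.Normal → M ≤ N → ¬ IsMulCommutative M → M = N) : (∀ W : Submodule (ZMod p) V, (∀ n ∈ N, ∀ v ∈ W, ((n : H) : V ≃ₗ[ZMod p] V) v ∈ W) → W = ⊥ ∨ W = ⊤) ∧ Subgroup.centralizer (N : Set H) = A := by
  haveI := hNn
  haveI : Nontrivial V := H58.RegLin.nontrivial_space hI
  have hA : H58.RegLin.MaxAb A := ⟨hAn, hAc, hAmax⟩
  obtain ⟨hV, hC⟩ : Nat.card V = p ^ 2 ∧ Subgroup.centralizer (N : Set H) = A := by
    by_cases hder : IsMulCommutative (⁅N, N⁆ : Subgroup H)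
    · obtain ⟨e⟩ := H58.RegLin.quaternion_of_minimal hreg hA hNle hNna hNmin hder
      obtain ⟨h1, -, h2⟩ := H58.RegLin.quaternion_case hreg hI hA hNle e
      exact ⟨h1, h2⟩
    · have h1 := hNmin _ inferInstance (Subgroup.commutator_le_left N N) hder
      haveI : Nontrivial N := by
        by_contra hnt
        rw [not_nontrivial_iff_subsingleton] at hnt
        exact hNna ⟨⟨fun a b => Subsingleton.elim _ _⟩⟩
      have hperf : commutator N = ⊤ := Subgroup.map_injective N.subtype_injective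
        (by rw [Subgroup.map_subtype_commutator, h1, ← MonoidHom.range_eq_map, Subgroup.range_subtype])
      obtain ⟨e⟩ := H58.RegLin.perfect_iso_sl25 hreg hperf
      obtain ⟨h2, h3, -⟩ := H58.RegLin.sl25_case hreg hI hA hNle e hperf
      exact ⟨h2, h3⟩
  exact ⟨fun W hW => H58.RegLin.irreducible_plane hreg hV hNna W hW, hC⟩


end Cfsg.Agent.S0687
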