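import Cfsg.Statements.S0689
import Cfsg.Agent.H58.RegularLinearSL25

set_option autoImplicit false
open Cfsg

namespace Cfsg.Agent.S0689

/-- The insoluble sharply doubly transitive groups: a non-solvable linear group over the prime field that is regular on the non-zero vectors of `V` occurs only for `|V| = 11², 29², 59²`, and is `SL(2,5) × C_m` with `m = 1, 7, 29` respectively. -/
theorem result {p : ℕ} [Fact p.Prime] {V : Type*} [AddCommGroup V] [Module (ZMod p) V] [Finite V] (H : Subgroup (V ≃ₗ[ZMod p] V)) (hreg : ∀ v w : V, v ≠ 0 → w ≠ 0 → ∃! h : H, (h : V ≃ₗ[ZMod p] V) v = w) (hsolv : ¬ Group.IsSolvable H) : (Nat.card V = 121 ∧ Nonempty (H ≃* Matrix.SpecialLinearGroup (Fin 2) (ZMod 5))) ∨ (Nat.card V = 841 ∧ Nonempty (H ≃* Matrix.SpecialLinearGroup (Fin 2) (ZMod 5) × Multiplicative (ZMod 7))) ∨ (Nat.card V = 3481 ∧ Nonempty (H ≃* Matrix.SpecialLinearGroup (Fin 2) (ZMod 5) × Multiplicative (ZMod 29))) := by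
  obtain ⟨m, hm, hV, N, M, ⟨e⟩, hc, hM, ⟨e'⟩⟩ := H58.RegLin.nonsolvable_structure hreg hsolv
  haveI := hc
  have key : ∀ n : ℕ, m = n → 0 < n → Nonempty (H ≃* Matrix.SpecialLinearGroup (Fin 2) (ZMod 5) × Multiplicative (ZMod n)) := by
    intro n hn hpos
    haveI : NeZero n := ⟨hpos.ne'⟩
    exact ⟨e'.symm.trans (e.prodCongr (mulEquivOfCyclicCardEq (by simp [hM, hn])))⟩
  rcases hm with ⟨rfl, rfl⟩ | ⟨rfl, rfl⟩ | ⟨rfl, rfl⟩
  · haveI : Subsingleton M := (Nat.card_eq_one_iff_unique.mp hM).1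
    letI : Unique M := ⟨⟨1⟩, fun x => Subsingleton.elim x 1⟩
    exact Or.inl ⟨hV.trans (by norm_num), ⟨e'.symm.trans ((MulEquiv.prodUnique : N × M ≃* N).trans e)⟩⟩
  · exact Or.inr (Or.inl ⟨hV.trans (by norm_num), key 7 rfl (by norm_num)⟩)
  · exact Or.inr (Or.inr ⟨hV.trans (by norm_num), key 29 rfl (by norm_num)⟩)


end Cfsg.Agent.S0689
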