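import Cfsg.Statements.S0691
import Cfsg.Agent.H58.LinearCheck

set_option autoImplicit false
open Cfsg

namespace Cfsg.Agent.S0691


/-- Generators as codes. -/
def gens : List H58.Code := [(2, 0, 0, 3), (0, 4, 1, 0), (1, 2, 1, 3)]

/-- The other group elements as codes. -/
def tail : List H58.Code :=
     [(2, 0, 0, 3), (0, 4, 1, 0), (1, 2, 1, 3), (4, 0, 0, 4), (0, 3, 3, 0), (2, 4, 3, 4),
      (0, 2, 2, 0), (4, 2, 1, 2), (2, 1, 2, 4), (3, 3, 4, 1), (3, 0, 0, 2), (0, 1, 4, 0),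
      (4, 3, 4, 2), (3, 4, 3, 1), (1, 1, 2, 3), (3, 1, 2, 1), (1, 4, 3, 3), (1, 3, 4, 3),
      (3, 2, 1, 1), (2, 2, 1, 4), (2, 3, 4, 4), (4, 4, 3, 2), (4, 1, 2, 2)]

instance factPrime0691 : Fact (Nat.Prime 5) := ⟨by norm_num⟩

set_option maxRecDepth 20000 in
theorem checked : H58.regularCheck 5 1 1 gens tail = true := by decide +kernel

/-- An exceptional sharply doubly transitive group of degree 5^2: the listed matrices generate a subgroup of GL(2,5) of order 24 acting regularly on the non-zero vectors. -/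
theorem result (A : Matrix.GeneralLinearGroup (Fin 2) (ZMod 5)) (B : Matrix.GeneralLinearGroup (Fin 2) (ZMod 5)) (C : Matrix.GeneralLinearGroup (Fin 2) (ZMod 5)) (hA : (A : Matrix (Fin 2) (Fin 2) (ZMod 5)) = !![2, 0; 0, -2]) (hB : (B : Matrix (Fin 2) (Fin 2) (ZMod 5)) = !![0, -1; 1, 0]) (hC : (C : Matrix (Fin 2) (Fin 2) (ZMod 5)) = !![1, 2; 1, -2]) : Nat.card (Subgroup.closure ({A, B, C} : Set (Matrix.GeneralLinearGroup (Fin 2) (ZMod 5)))) = 24 ∧ ∀ v w : Fin 2 → ZMod 5, v ≠ 0 → w ≠ 0 → ∃! h : Subgroup.closure ({A, B, C} : Set (Matrix.GeneralLinearGroup (Fin 2) (ZMod 5))), Matrix.mulVec ((h : Matrix.GeneralLinearGroup (Fin 2) (ZMod 5)) : Matrix (Fin 2) (Fin 2) (ZMod 5)) v = w := by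
  have hA' : (A : Matrix (Fin 2) (Fin 2) (ZMod 5)) = H58.toMat 5 (2, 0, 0, 3) := by rw [hA]; decide
  have hB' : (B : Matrix (Fin 2) (Fin 2) (ZMod 5)) = H58.toMat 5 (0, 4, 1, 0) := by rw [hB]; decide
  have hC' : (C : Matrix (Fin 2) (Fin 2) (ZMod 5)) = H58.toMat 5 (1, 2, 1, 3) := by rw [hC]; decide
  have h := H58.regular_of_check checked ({A, B, C} : Set _) ?_ ?_ ⟨1, Subgroup.one_mem _, by simp⟩
  · exact ⟨h.1, h.2⟩
  · rintro t (rfl | rfl | rfl)
    exacts [Or.inr ⟨_, by simp [gens], hA'⟩, Or.inr ⟨_, by simp [gens], hB'⟩, Or.inr ⟨_, by simp [gens], hC'⟩]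
  · intro g hg
    simp only [gens, List.mem_cons, List.not_mem_nil, or_false] at hg
    rcases hg with rfl | rfl | rfl
    exacts [⟨A, Subgroup.subset_closure (by simp), hA'⟩, ⟨B, Subgroup.subset_closure (by simp), hB'⟩, ⟨C, Subgroup.subset_closure (by simp), hC'⟩]

end Cfsg.Agent.S0691
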