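import Cfsg.Statements.S0703
import Cfsg.Agent.H56.TransMinNormal

set_option autoImplicit false
open Cfsg

namespace Cfsg.Agent.S0703

open H56

/-- An abelian transitive minimal normal subgroup `M` of a permutation group on a finite set is self-centralising in the symmetric group, regular, elementary abelian, and is the unique minimal normal subgroup. -/
theorem result {α : Type*} [Finite α] (G : Subgroup (Equiv.Perm α)) (M : Subgroup G) [M.Normal] (hM : M ≠ ⊥) (hmin : ∀ L : Subgroup G, L.Normal → L ≤ M → L = ⊥ ∨ L = M) (hab : IsMulCommutative M) (htrans : MulAction.IsPretransitive M α) : Subgroup.centralizer ((M.map G.subtype : Subgroup (Equiv.Perm α)) : Set (Equiv.Perm α)) = M.map G.subtype ∧ (∀ a : α, MulAction.stabilizer M a = ⊥) ∧ (∃ p : ℕ, p.Prime ∧ ∀ m ∈ M, m ^ p = 1) ∧ ∀ L : Subgroup G, L.Normal → L ≠ ⊥ → (∀ L' : Subgroup G, L'.Normal → L' ≤ L → L' = ⊥ ∨ L' = L) → L = M := by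
  have hcomm : ∀ a ∈ M, ∀ b ∈ M, a * b = b * a := fun a ha b hb => setLike_mul_comm ha hb
  have hC := centralizer_eq_of_trans htrans htrans hcomm
  refine ⟨hC, fun a => ?_, exists_prime_pow_eq_one hM hmin hcomm, fun L hLn hL hLmin => ?_⟩
  · rw [Subgroup.eq_bot_iff_forall]
    intro m hm
    have h1 := perm_eq_one_of_commute_trans (map_subtype_trans htrans)
      (c := ((m : G) : Equiv.Perm α)) (by rw [hC]; exact ⟨m, m.2, rfl⟩) (x := a) hm
    exact Subtype.ext (Subtype.ext h1)
  · by_contra hne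
    have hd := inf_eq_bot_of_min hmin hLmin (Ne.symm hne)
    apply hL
    rw [Subgroup.eq_bot_iff_forall]
    intro l hl
    have h1 : (l : Equiv.Perm α) ∈ M.map G.subtype := by
      rw [← hC]
      refine Subgroup.mem_centralizer_iff.2 ?_
      rintro _ ⟨m, hm, rfl⟩
      exact congrArg Subtype.val (normal_commute hd m hm l hl)
    obtain ⟨m, hm, hml⟩ := h1
    have : l ∈ M ⊓ L := Subgroup.mem_inf.2 ⟨(Subtype.ext hml : m = l) ▸ hm, hl⟩
    rwa [hd, Subgroup.mem_bot] at this

end Cfsg.Agent.S0703
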