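import Cfsg.Statements.S0704
import Cfsg.Agent.H56.TransMinNormal

set_option autoImplicit false
open Cfsg

namespace Cfsg.Agent.S0704

open H56

/-- Two distinct transitive minimal normal subgroups `M`, `N` of a permutation group are regular, non-abelian, isomorphic, each other's centraliser in the symmetric group, and the only minimal normal subgroups. -/
theorem result {α : Type*} (G : Subgroup (Equiv.Perm α)) (M N : Subgroup G) [M.Normal] [N.Normal] (hM : M ≠ ⊥) (hN : N ≠ ⊥) (hMmin : ∀ L : Subgroup G, L.Normal → L ≤ M → L = ⊥ ∨ L = M) (hNmin : ∀ L : Subgroup G, L.Normal → L ≤ N → L = ⊥ ∨ L = N) (hMN : M ≠ N) (hMt : MulAction.IsPretransitive M α) (hNt : MulAction.IsPretransitive N α) : (∀ a : α, MulAction.stabilizer M a = ⊥) ∧ (∀ a : α, MulAction.stabilizer N a = ⊥) ∧ ¬ IsMulCommutative M ∧ Nonempty (M ≃* N) ∧ Subgroup.centralizer ((M.map G.subtype : Subgroup (Equiv.Perm α)) : Set (Equiv.Perm α)) = N.map G.subtype ∧ Subgroup.centralizer ((N.map G.subtype : Subgroup (Equiv.Perm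 α)) : Set (Equiv.Perm α)) = M.map G.subtype ∧ ∀ L : Subgroup G, L.Normal → L ≠ ⊥ → (∀ L' : Subgroup G, L'.Normal → L' ≤ L → L' = ⊥ ∨ L' = L) → L = M ∨ L = N := by
  have hd := inf_eq_bot_of_min hMmin hNmin hMN
  have hc := normal_commute hd
  have hCM := centralizer_eq_of_trans hMt hNt hc
  have hCN := centralizer_eq_of_trans hNt hMt (fun n hn m hm => (hc m hm n hn).symm)
  have hrM : ∀ a : α, ∀ m ∈ M, (m : Equiv.Perm α) a = a → m = 1 := fun a m hm h =>
    Subtype.ext (perm_eq_one_of_commute_trans (map_subtype_trans hNt)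
      (c := ((m : G) : Equiv.Perm α)) (by rw [hCN]; exact ⟨m, hm, rfl⟩) h)
  have hrN : ∀ a : α, ∀ n ∈ N, (n : Equiv.Perm α) a = a → n = 1 := fun a n hn h =>
    Subtype.ext (perm_eq_one_of_commute_trans (map_subtype_trans hMt)
      (c := ((n : G) : Equiv.Perm α)) (by rw [hCM]; exact ⟨n, hn, rfl⟩) h)
  obtain ⟨a⟩ : Nonempty α := by
    by_contra h
    rw [not_nonempty_iff] at h
    apply hM
    rw [Subgroup.eq_bot_iff_forall]
    exact fun m _ => Subtype.ext (Subsingleton.elim _ _)
  refine ⟨fun a => ?_, fun a => ?_, ?_, ?_, hCM, hCN, ?_⟩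
  · rw [Subgroup.eq_bot_iff_forall]
    exact fun m hm => Subtype.ext (hrM a m.1 m.2 hm)
  · rw [Subgroup.eq_bot_iff_forall]
    exact fun m hm => Subtype.ext (hrN a m.1 m.2 hm)
  · intro hab
    have h1 := centralizer_eq_of_trans hMt hMt (fun m hm m' hm' => setLike_mul_comm hm hm')
    rw [hCM] at h1
    exact hMN (Subgroup.map_injective G.subtype_injective h1).symm
  · have hex : ∀ m : M, ∃ n : N, n • a = m⁻¹ • a := fun m => hNt.exists_smul_eq a _
    choose f hf using hex
    have hNinj : ∀ n n' : N, n • a = n' • a → n = n' := fun n n' h => by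
      have h' : ((n'⁻¹ * n : N) • a) = a := by rw [mul_smul, h, inv_smul_smul]
      exact (inv_mul_eq_one.1 (Subtype.ext (hrN a _ (n'⁻¹ * n).2 h'))).symm
    have hMinj : ∀ m m' : M, m • a = m' • a → m = m' := fun m m' h => by
      have h' : ((m'⁻¹ * m : M) • a) = a := by rw [mul_smul, h, inv_smul_smul]
      exact (inv_mul_eq_one.1 (Subtype.ext (hrM a _ (m'⁻¹ * m).2 h'))).symm
    have hswap : ∀ (m : M) (n : N) (y : α), n • m • y = m • n • y := fun m n y => by
      show (n : G) • (m : G) • y = (m : G) • (n : G) • y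
      rw [← mul_smul, ← mul_smul, hc m.1 m.2 n.1 n.2]
    let φ : M →* N := MonoidHom.mk' f fun m m' => hNinj _ _ (by
      rw [hf, mul_smul, hf m', hswap, hf m, mul_inv_rev, mul_smul])
    refine ⟨MulEquiv.ofBijective φ ⟨fun m m' h => ?_, fun n => ?_⟩⟩
    · have h' := congrArg (fun n : N => n • a) (show f m = f m' from h)
      simp only [hf] at h'
      exact inv_injective (hMinj _ _ h')
    · obtain ⟨m, hm⟩ := hMt.exists_smul_eq a (n • a)
      exact ⟨m⁻¹, hNinj _ _ (by show f m⁻¹ • a = n • a; rw [hf, inv_inv, hm])⟩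
  · intro L hLn hL hLmin
    by_contra h
    push Not at h
    have hdM := inf_eq_bot_of_min hMmin hLmin (Ne.symm h.1)
    have hdN := inf_eq_bot_of_min hNmin hLmin (Ne.symm h.2)
    apply hL
    rw [Subgroup.eq_bot_iff_forall]
    intro l hl
    have h1 : (l : Equiv.Perm α) ∈ N.map G.subtype := by
      rw [← hCM]
      refine Subgroup.mem_centralizer_iff.2 ?_
      rintro _ ⟨m, hm, rfl⟩
      exact congrArg Subtype.val (normal_commute hdM m hm l hl)
    obtain ⟨n, hn, hnl⟩ := h1
    have : l ∈ N ⊓ L := Subgroup.mem_inf.2 ⟨(Subtype.ext hnl : n = l) ▸ hn, hl⟩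
    rwa [hdN, Subgroup.mem_bot] at this

end Cfsg.Agent.S0704
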