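import Cfsg.Statements.S0707
import Mathlib

set_option autoImplicit false
open Cfsg

namespace Cfsg.Agent.S0707

/-- In a primitive permutation group, distinct points have distinct stabilisers unless the group is regular of prime degree. -/
theorem result {α : Type*} (G : Subgroup (Equiv.Perm α)) [MulAction.IsPreprimitive G α] (h : ¬ (Nat.card α).Prime ∨ ∃ a : α, MulAction.stabilizer G a ≠ ⊥) {a b : α} (hab : a ≠ b) : MulAction.stabilizer G a ≠ MulAction.stabilizer G b := by
  intro heq
  haveI : Nontrivial α := ⟨⟨a, b, hab⟩⟩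
  have hco : IsCoatom (MulAction.stabilizer G a) :=
    MulAction.IsPreprimitive.isCoatom_stabilizer_of_isPreprimitive G a
  obtain ⟨g, hg⟩ := MulAction.exists_smul_eq G a b
  have hgN : g ∈ Subgroup.normalizer ((MulAction.stabilizer G a : Subgroup G) : Set G) := by
    rw [Subgroup.mem_normalizer_iff]
    intro x
    conv_rhs => rw [heq, ← hg]
    simp [MulAction.mem_stabilizer_iff, mul_smul]
  have hgnot : g ∉ MulAction.stabilizer G a := fun h => hab (h.symm.trans hg)
  have htop : Subgroup.normalizer ((MulAction.stabilizer G a : Subgroup G) : Set G) = ⊤ :=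
    hco.2 _ (lt_of_le_of_ne Subgroup.le_normalizer fun h => hgnot (h ▸ hgN))
  have hbot : ∀ c : α, MulAction.stabilizer G c = ⊥ := by
    intro c
    rw [Subgroup.eq_bot_iff_forall]
    intro x hx
    refine Subtype.ext (Equiv.ext fun y => ?_)
    obtain ⟨k, hk⟩ := MulAction.exists_smul_eq G y a
    obtain ⟨l, hl⟩ := MulAction.exists_smul_eq G c a
    have hxa : l * x * l⁻¹ ∈ MulAction.stabilizer G a := by
      rw [MulAction.mem_stabilizer_iff, mul_smul, mul_smul, inv_smul_eq_iff.mpr hl.symm, hx, hl]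
    have := (Subgroup.mem_normalizer_iff.mp (htop ▸ Subgroup.mem_top (k * l⁻¹)) _).mp hxa
    have e : k * l⁻¹ * (l * x * l⁻¹) * (k * l⁻¹)⁻¹ = k * x * k⁻¹ := by group
    rw [e, MulAction.mem_stabilizer_iff, mul_smul, mul_smul, inv_smul_eq_iff.mpr hk.symm,
      smul_eq_iff_eq_inv_smul, inv_smul_eq_iff.mpr hk.symm] at this
    exact this
  rw [hbot a] at hco hgnot
  have hg1 : g ≠ 1 := fun h => hgnot (h ▸ Subgroup.one_mem _)
  have hgen : ∀ y : G, y ≠ 1 → Subgroup.zpowers y = ⊤ := fun y hy =>
    hco.2 _ (bot_lt_iff_ne_bot.mpr (fun h => hy (Subgroup.zpowers_eq_bot.mp h)))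
  have hfin : IsOfFinOrder g := by
    by_cases h2 : g ^ 2 = 1
    · exact isOfFinOrder_iff_pow_eq_one.mpr ⟨2, by norm_num, h2⟩
    · obtain ⟨k, hk⟩ : g ∈ Subgroup.zpowers (g ^ 2) := (hgen _ h2).symm ▸ Subgroup.mem_top g
      refine isOfFinOrder_iff_zpow_eq_one.mpr ⟨2 * k - 1, by omega, ?_⟩
      rw [zpow_sub_one, zpow_mul, zpow_ofNat]
      exact mul_inv_eq_one.mpr hk
  have hord : 1 < orderOf g := by
    have h0 := hfin.orderOf_pos
    have h1 : orderOf g ≠ 1 := fun h => hg1 (orderOf_eq_one_iff.mp h)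
    omega
  set p := (orderOf g).minFac
  have hp : p.Prime := Nat.minFac_prime (by omega)
  have hordp : orderOf g = p := by
    by_contra hne
    have hlt : p < orderOf g := lt_of_le_of_ne (Nat.minFac_le (by omega)) (Ne.symm hne)
    have h1 : g ^ p ≠ 1 := fun h => by
      have := Nat.le_of_dvd hp.pos (orderOf_dvd_of_pow_eq_one h)
      omega
    have h2 := congrArg (fun K : Subgroup G => Nat.card K) ((hgen _ h1).trans (hgen g hg1).symm)
    simp only [Nat.card_zpowers] at h2
    rw [orderOf_pow_of_dvd hp.ne_zero (Nat.minFac_dvd _)] at h2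
    exact absurd h2 (Nat.div_lt_self (by omega) hp.one_lt).ne
  have hcard : Nat.card α = p := by
    rw [← MulAction.index_stabilizer_of_transitive G a, hbot, Subgroup.index_bot,
      ← Subgroup.card_top, ← hgen g hg1, Nat.card_zpowers, hordp]
  rcases h with h | ⟨c, hc⟩
  · exact h (hcard ▸ hp)
  · exact hc (hbot c)

end Cfsg.Agent.S0707
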