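import Cfsg.Statements.S0710
import Mathlib

set_option autoImplicit false
open Cfsg

namespace Cfsg.Agent.S0710

/-- No transitive permutation group on 13 points has order `13 * 12 * 11 * 10 * 9 * 8`. -/
theorem result {α : Type*} [Fintype α] [DecidableEq α] (hα : Fintype.card α = 13) (G : Subgroup (Equiv.Perm α)) [MulAction.IsPretransitive G α] : Nat.card G ≠ 13 * 12 * 11 * 10 * 9 * 8 := by
  intro hcard
  haveI : Fact (Nat.Prime 13) := ⟨by norm_num⟩
  obtain ⟨P⟩ := (inferInstance : Nonempty (Sylow 13 G))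
  have hP : Nat.card (P : Subgroup G) = 13 := by
    rw [Sylow.card_eq_multiplicity, hcard]
    have h13 : (Nat.factorization (13 * 12 * 11 * 10 * 9 * 8)) 13 = 1 := by
      rw [show 13 * 12 * 11 * 10 * 9 * 8 = 13 ^ 1 * (12 * 11 * 10 * 9 * 8) by norm_num,
        Nat.factorization_mul (by norm_num) (by norm_num), Finsupp.add_apply,
        Nat.Prime.factorization_pow (by norm_num), Finsupp.single_eq_same,
        Nat.factorization_eq_zero_of_not_dvd (by norm_num)]
    rw [h13, pow_one]
  set N := Subgroup.normalizer ((P : Subgroup G) : Set G)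
  have hmod := card_sylow_modEq_one 13 G
  rw [show Nat.card (Sylow 13 G) = N.index from P.card_eq_index_normalizer] at hmod
  have hNi := Subgroup.card_mul_index N
  -- the centraliser of `P` in `G` is `P`
  obtain ⟨⟨c, hcP⟩, hc⟩ := exists_prime_orderOf_dvd_card' (G := (P : Subgroup G)) 13 (by rw [hP])
  have hc' : orderOf (c : Equiv.Perm α) = 13 := (Subgroup.orderOf_coe c).trans ((Subgroup.orderOf_mk c hcP).symm.trans hc)
  have hcyc : (c : Equiv.Perm α).IsCycle :=
    Equiv.Perm.isCycle_of_prime_order' (by rw [hc']; norm_num) (by rw [hc', hα]; norm_num)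
  have hsupp : (c : Equiv.Perm α).support = Finset.univ :=
    Finset.eq_univ_of_card _ (by rw [← hcyc.orderOf, hc', hα])
  have hPz : (P : Subgroup G) = Subgroup.zpowers c := by
    refine (Subgroup.eq_of_le_of_card_ge (Subgroup.zpowers_le.mpr hcP) ?_).symm
    rw [hP, Nat.card_zpowers, ← hc, Subgroup.orderOf_mk]
  -- normaliser elements are determined by the conjugate of `c` and the image of one point
  haveI : Nonempty α := Fintype.card_pos_iff.mp (by omega)
  obtain ⟨a⟩ := (inferInstance : Nonempty α)
  let K := Subgroup.centralizer ({c} : Set G) ⊓ N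
  have hKle : Nat.card K ∣ 13 := by
    have hinj : ∀ k : G, k * c = c * k → ((k : Equiv.Perm α) a = a) → k = 1 := by
      intro k hk ha
      refine Subtype.ext (Equiv.ext fun x => ?_)
      obtain ⟨i, hi⟩ : ∃ i : ℕ, ((c : Equiv.Perm α) ^ i) a = x :=
        (hcyc.exists_pow_eq (Equiv.Perm.mem_support.mp (hsupp ▸ Finset.mem_univ a))
          (Equiv.Perm.mem_support.mp (hsupp ▸ Finset.mem_univ x)))
      have hki : ((k * c ^ i : G) : Equiv.Perm α) = ((c ^ i * k : G) : Equiv.Perm α) := by
        rw [((Commute.pow_right (show Commute k c from hk) i)).eq]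
      have := Equiv.congr_fun hki a
      simp only [Subgroup.coe_mul, SubmonoidClass.coe_pow, Equiv.Perm.mul_apply, hi, ha] at this
      simpa using this
    have hle : K ≤ (P : Subgroup G) := by
      intro k hk
      have hkc : k * c = c * k := Subgroup.mem_centralizer_singleton_iff.mp hk.1
      obtain ⟨i, hi⟩ : ∃ i : ℕ, ((c : Equiv.Perm α) ^ i) a = (k : Equiv.Perm α) a :=
        (hcyc.exists_pow_eq (Equiv.Perm.mem_support.mp (hsupp ▸ Finset.mem_univ a))
          (Equiv.Perm.mem_support.mp (hsupp ▸ Finset.mem_univ _)))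
      have hc1 : ((c ^ i)⁻¹ * k) * c = c * ((c ^ i)⁻¹ * k) :=
        ((((Commute.refl c).pow_left i).inv_left).mul_left hkc)
      have := hinj _ hc1 (by
        rw [Subgroup.coe_mul, Equiv.Perm.mul_apply, ← hi, Subgroup.coe_inv, SubmonoidClass.coe_pow]
        exact Equiv.symm_apply_apply _ _)
      rw [inv_mul_eq_one] at this
      exact this ▸ Subgroup.pow_mem _ hcP i
    exact hP ▸ Subgroup.card_dvd_of_le hle
  -- so the normaliser is small
  have hNcard : Nat.card N ∣ 13 * 12 := by
    let f : N → MulAut (P : Subgroup G) := fun n => Subgroup.normalizerMonoidHom _ n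
    let φ : N →* MulAut (P : Subgroup G) := Subgroup.normalizerMonoidHom _
    have hk : Nat.card φ.ker ∣ 13 := by
      refine dvd_trans ?_ hKle
      rw [Nat.card_congr (Subgroup.equivMapOfInjective φ.ker N.subtype (Subgroup.subtype_injective N)).toEquiv]
      refine Subgroup.card_dvd_of_le ?_
      rintro _ ⟨⟨n, hn⟩, hker, rfl⟩
      refine ⟨Subgroup.mem_centralizer_singleton_iff.mpr ?_, hn⟩
      have h := congrArg Subtype.val (DFunLike.congr_fun (MonoidHom.mem_ker.mp hker) ⟨c, hcP⟩)
      change n * c * n⁻¹ = c at h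
      exact mul_inv_eq_iff_eq_mul.mp h
    have hr : Nat.card φ.range ∣ 12 := by
      refine dvd_trans (Subgroup.card_subgroup_dvd_card _) ?_
      haveI : IsCyclic (P : Subgroup G) := isCyclic_of_prime_card hP
      rw [IsCyclic.card_mulAut, hP]
      decide
    rw [← Subgroup.card_mul_index φ.ker, Subgroup.index_ker]
    exact mul_dvd_mul hk hr
  have hPN : 13 ∣ Nat.card N := hP ▸ Subgroup.card_dvd_of_le Subgroup.le_normalizer
  obtain ⟨d, hd⟩ := hPN
  rw [hd, Nat.mul_dvd_mul_iff_left (by norm_num)] at hNcard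
  rw [hd, hcard] at hNi
  have hd' : d ≤ 12 := Nat.le_of_dvd (by norm_num) hNcard
  have hd0 : 0 < d := Nat.pos_of_dvd_of_pos hNcard (by norm_num)
  unfold Nat.ModEq at hmod
  interval_cases d <;> omega

end Cfsg.Agent.S0710
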