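import Cfsg.Statements.S0714
import Mathlib

set_option autoImplicit false
open Cfsg

namespace Cfsg.Agent.S0714

/-- Over any field, the permutation module of the alternating group of degree at least 5 has exactly four invariant subspaces: zero, the constant functions, the functions with coordinate sum zero, and everything. -/
theorem result {α : Type*} [Fintype α] [DecidableEq α] (hα : 5 ≤ Fintype.card α) {K : Type*} [Field K] (W : Subrepresentation (Cfsg.permRep K (alternatingGroup α) α)) : W.toSubmodule = ⊥ ∨ W = Cfsg.permConstants K (alternatingGroup α) α ∨ W = Cfsg.permSumZero K (alternatingGroup α) α ∨ W.toSubmodule = ⊤ := by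
  classical
  haveI h3 : MulAction.IsMultiplyPretransitive (alternatingGroup α) α 3 := by
    haveI := alternatingGroup.isMultiplyPretransitive α
    exact MulAction.isMultiplyPretransitive_of_le (n := Nat.card α - 2)
      (by rw [Nat.card_eq_fintype_card]; omega) (Nat.sub_le _ _)
  have hW : ∀ g : (alternatingGroup α), ∀ w ∈ W.toSubmodule, (fun x => w ((g : Equiv.Perm α) x)) ∈ W.toSubmodule := by
    intro g w hw
    have := W.apply_mem_toSubmodule (g⁻¹ : (alternatingGroup α)) hw
    simpa [Cfsg.permRep] using! this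
  by_cases hconst : ∀ w ∈ W.toSubmodule, ∀ a b, w a = w b
  · by_cases hbot : W.toSubmodule = ⊥
    · exact Or.inl hbot
    refine Or.inr (Or.inl (Subrepresentation.toSubmodule_injective (le_antisymm ?_ ?_)))
    · intro w hw
      haveI : Nonempty α := Fintype.card_pos_iff.mp (by omega)
      obtain ⟨a⟩ := (inferInstance : Nonempty α)
      exact Submodule.mem_span_singleton.mpr ⟨w a, funext fun x => by simp [hconst w hw x a]⟩
    · obtain ⟨w, hw, hw0⟩ := (Submodule.ne_bot_iff _).mp hbot
      obtain ⟨a, ha⟩ := Function.ne_iff.mp hw0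
      refine Submodule.span_le.mpr (Set.singleton_subset_iff.mpr ?_)
      have e : (fun _ => 1 : α → K) = (w a)⁻¹ • w := funext fun x => by
        rw [Pi.smul_apply, smul_eq_mul, hconst w hw x a, inv_mul_cancel₀ ha]
      rw [SetLike.mem_coe, e]
      exact W.toSubmodule.smul_mem _ hw
  push Not at hconst
  obtain ⟨f, hf, a, b, hab'⟩ := hconst
  have hab : a ≠ b := fun e => hab' (e ▸ rfl)
  -- three further points
  obtain ⟨T, hT, hTc⟩ := Finset.exists_subset_card_eq (n := 3) (s := (Finset.univ \ {a, b} : Finset α))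
    (by rw [Finset.card_sdiff_of_subset (Finset.subset_univ _), Finset.card_pair hab, Finset.card_univ]; omega)
  obtain ⟨c, d, e, hcd, hce, hde, rfl⟩ := Finset.card_eq_three.mp hTc
  have hc := Finset.mem_sdiff.mp (hT (show c ∈ _ by simp))
  have hd := Finset.mem_sdiff.mp (hT (show d ∈ _ by simp))
  have he := Finset.mem_sdiff.mp (hT (show e ∈ _ by simp))
  simp only [Finset.mem_univ, true_and, Finset.mem_insert, Finset.mem_singleton, not_or] at hc hd he
  let δ : α → (α → K) := fun x => Pi.single x 1
  have hg : Equiv.swap a b * Equiv.swap c d ∈ (alternatingGroup α) := by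
    simp [Equiv.Perm.mem_alternatingGroup, Equiv.Perm.sign_swap hab, Equiv.Perm.sign_swap hcd]
  have hh : (f b - f a) • (δ a - δ b) + (f d - f c) • (δ c - δ d) ∈ W.toSubmodule := by
    have h1 := W.toSubmodule.sub_mem (hW ⟨_, hg⟩ f hf) hf
    convert h1 using 1
    funext x
    simp only [Pi.add_apply, Pi.smul_apply, Pi.sub_apply, smul_eq_mul, Equiv.Perm.mul_apply, δ]
    rcases eq_or_ne x a with rfl | hxa
    · simp [hab, (Ne.symm hc.1), (Ne.symm hd.1), Equiv.swap_apply_of_ne_of_ne (Ne.symm hc.1) (Ne.symm hd.1)]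
    rcases eq_or_ne x b with rfl | hxb
    · simp [hab.symm, (Ne.symm hc.2), (Ne.symm hd.2), Equiv.swap_apply_of_ne_of_ne (Ne.symm hc.2) (Ne.symm hd.2)]
    rcases eq_or_ne x c with rfl | hxc
    · simp [hxa, hxb, hcd, Equiv.swap_apply_of_ne_of_ne hd.1 hd.2]
    rcases eq_or_ne x d with rfl | hxd
    · simp [hxa, hxb, hxc, Equiv.swap_apply_of_ne_of_ne hc.1 hc.2]
    simp [hxa, hxb, hxc, hxd, Equiv.swap_apply_of_ne_of_ne]
  have hne : f b - f a ≠ 0 := sub_ne_zero.mpr (Ne.symm hab')
  have move : ∀ {x y z x' y' z' : α}, x ≠ y → x ≠ z → y ≠ z → x' ≠ y' → x' ≠ z' → y' ≠ z' →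
      ∃ g : (alternatingGroup α), (g : Equiv.Perm α) x = x' ∧ (g : Equiv.Perm α) y = y' ∧ (g : Equiv.Perm α) z = z' := by
    intro x y z x' y' z' h1 h2 h3' h4 h5 h6
    let u : Fin 3 ↪ α := ⟨![x, y, z], fun i j h => by
      fin_cases i <;> fin_cases j <;> simp_all [h1.symm, h2.symm, h3'.symm]⟩
    let v : Fin 3 ↪ α := ⟨![x', y', z'], fun i j h => by
      fin_cases i <;> fin_cases j <;> simp_all [h4.symm, h5.symm, h6.symm]⟩
    obtain ⟨g, hg⟩ := h3.exists_smul_eq u v
    exact ⟨g, DFunLike.congr_fun hg 0, DFunLike.congr_fun hg 1, DFunLike.congr_fun hg 2⟩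
  have hpull : ∀ (g : (alternatingGroup α)) (x : α), (fun y => δ x ((g : Equiv.Perm α) y)) = δ ((g : Equiv.Perm α).symm x) := by
    intro g x
    funext y
    simp [δ, Pi.single_apply, Equiv.eq_symm_apply]
  obtain ⟨p, q, hpq, hdiff⟩ : ∃ p q, p ≠ q ∧ δ p - δ q ∈ W.toSubmodule := by
    by_cases hβ : f d - f c = 0
    · refine ⟨a, b, hab, ?_⟩
      rw [hβ, zero_smul, add_zero] at hh
      simpa [smul_smul, hne] using W.toSubmodule.smul_mem (f b - f a)⁻¹ hh
    · -- a three-cycle on `c, d, e`
      have h3c : Equiv.swap c d * Equiv.swap d e ∈ (alternatingGroup α) := by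
        simp [Equiv.Perm.mem_alternatingGroup, Equiv.Perm.sign_swap hcd, Equiv.Perm.sign_swap hde]
      have hu : δ c + δ c - δ d - δ e ∈ W.toSubmodule := by
        have h1 := W.toSubmodule.sub_mem hh (hW ⟨_, h3c⟩ _ hh)
        have h2 := W.toSubmodule.smul_mem (f d - f c)⁻¹ h1
        convert h2 using 1
        funext x
        simp only [Pi.add_apply, Pi.smul_apply, Pi.sub_apply, smul_eq_mul, Equiv.Perm.mul_apply, δ]
        rcases eq_or_ne x c with rfl | hxc
        · simp [hc.1, hc.2, hd.1, hd.2, he.1, he.2, hcd, hce, hcd.symm, Equiv.swap_apply_of_ne_of_ne hcd hce]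
          field_simp
          ring
        rcases eq_or_ne x d with rfl | hxd
        · simp [hc.1, hc.2, hd.1, hd.2, he.1, he.2, hcd.symm, hde, hce.symm, hde.symm,
            Equiv.swap_apply_of_ne_of_ne hce.symm hde.symm]
          field_simp
          ring
        rcases eq_or_ne x e with rfl | hxe
        · simp [hc.1, hc.2, hd.1, hd.2, he.1, he.2, hce.symm, hde.symm, hcd, hcd.symm]
          field_simp
          ring
        simp [hxc, hxd, hxe, Equiv.swap_apply_of_ne_of_ne]
      obtain ⟨g, g1, g2, g3⟩ := move hc.1 hce (Ne.symm he.1) hcd hce hde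
      have h4 := hW g _ hu
      have e1 : (g : Equiv.Perm α).symm c = c := by rw [Equiv.symm_apply_eq]; exact g1.symm
      have e2 : (g : Equiv.Perm α).symm d = a := by rw [Equiv.symm_apply_eq]; exact g2.symm
      have e3 : (g : Equiv.Perm α).symm e = e := by rw [Equiv.symm_apply_eq]; exact g3.symm
      have h5 : (fun x => (δ c + δ c - δ d - δ e) ((g : Equiv.Perm α) x)) = δ c + δ c - δ a - δ e := by
        funext x
        simp only [Pi.add_apply, Pi.sub_apply, congrFun (hpull g c) x, congrFun (hpull g d) x,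
          congrFun (hpull g e) x, e1, e2, e3]
      rw [h5] at h4
      refine ⟨a, d, Ne.symm hd.1, ?_⟩
      convert W.toSubmodule.sub_mem hu h4 using 1
      abel
  have hall : ∀ x y, δ x - δ y ∈ W.toSubmodule := by
    intro x y
    rcases eq_or_ne x y with rfl | hxy
    · simp
    haveI h2 : MulAction.IsMultiplyPretransitive (alternatingGroup α) α 2 :=
      MulAction.isMultiplyPretransitive_of_le (n := 3) (by norm_num) (by rw [Nat.card_eq_fintype_card]; omega)
    have h2' : ∀ {u v u' v' : α}, u ≠ v → u' ≠ v' → ∃ g : (alternatingGroup α), g • u = u' ∧ g • v = v' :=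
      MulAction.is_two_pretransitive_iff.mp h2
    obtain ⟨g, gx, gy⟩ := h2' hxy hpq
    have h4 := hW g _ hdiff
    have e1 : (g : Equiv.Perm α).symm p = x := by rw [Equiv.symm_apply_eq]; exact gx.symm
    have e2 : (g : Equiv.Perm α).symm q = y := by rw [Equiv.symm_apply_eq]; exact gy.symm
    convert h4 using 1
    funext z
    simp only [Pi.sub_apply, congrFun (hpull g p) z, congrFun (hpull g q) z, e1, e2]
  have hdec : ∀ w : α → K, w = ∑ x, w x • (δ x - δ a) + (∑ x, w x) • δ a := by
    intro w
    funext z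
    simp [δ, Finset.sum_apply, mul_sub, Finset.sum_sub_distrib, Pi.single_apply, Finset.sum_mul]
  have hsum : (Cfsg.permSumZero K (alternatingGroup α) α).toSubmodule ≤ W.toSubmodule := by
    intro w hw
    rw [hdec w, show ∑ x, w x = 0 from hw, zero_smul, add_zero]
    exact Submodule.sum_mem _ fun x _ => W.toSubmodule.smul_mem _ (hall x a)
  right; right
  by_cases hout : ∃ w ∈ W.toSubmodule, ∑ x, w x ≠ 0
  · right
    obtain ⟨w, hw, hws⟩ := hout
    have hda : δ a ∈ W.toSubmodule := by
      have h1 := W.toSubmodule.sub_mem hw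
        (Submodule.sum_mem _ fun x (_ : x ∈ Finset.univ) => W.toSubmodule.smul_mem (w x) (hall x a))
      rw [sub_eq_of_eq_add' (hdec w)] at h1
      simpa [smul_smul, hws] using W.toSubmodule.smul_mem (∑ x, w x)⁻¹ h1
    refine eq_top_iff.mpr fun v _ => ?_
    rw [hdec v]
    exact W.toSubmodule.add_mem
      (Submodule.sum_mem _ fun x _ => W.toSubmodule.smul_mem _ (hall x a))
      (W.toSubmodule.smul_mem _ hda)
  · left
    push Not at hout
    exact Subrepresentation.toSubmodule_injective (le_antisymm hout hsum)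

end Cfsg.Agent.S0714
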