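import Cfsg.Statements.S0718
import Cfsg.Agent.H13.PermChar

set_option autoImplicit false
open Cfsg

namespace Cfsg.Agent.S0718

/-- Multiplicity-freeness of the permutation character is equivalent to commutativity of the centraliser ring, i.e. of the algebra of `G`-equivariant endomorphisms of the complex permutation module. -/
theorem result {G : Type*} [Group G] [Fintype G] {Ω : Type*} [Fintype Ω] [MulAction G Ω] : (∀ χ : G → ℂ, Cfsg.IsIrrCharacter G χ → Cfsg.classInner (fun g : G => (Nat.card (MulAction.fixedBy Ω g) : ℂ)) χ = 0 ∨ Cfsg.classInner (fun g : G => (Nat.card (MulAction.fixedBy Ω g) : ℂ)) χ = 1) ↔ ∀ S T : (Ω → ℂ) →ₗ[ℂ] (Ω → ℂ), S ∈ ((Cfsg.permRep ℂ G Ω).linHom (Cfsg.permRep ℂ G Ω)).invariants → T ∈ ((Cfsg.permRep ℂ G Ω).linHom (Cfsg.permRep ℂ G Ω)).invariants → S ∘ₗ T = T ∘ₗ S := by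
  rw [← H13.multFree_iff_forall, ← H13.commutantComm_iff_multFree]
  have hinv : ∀ S : (Ω → ℂ) →ₗ[ℂ] (Ω → ℂ),
      S ∈ ((Cfsg.permRep ℂ G Ω).linHom (Cfsg.permRep ℂ G Ω)).invariants ↔
        ∀ g, S * Cfsg.permRep ℂ G Ω g = Cfsg.permRep ℂ G Ω g * S := by
    intro S
    refine forall_congr' fun g => ?_
    show Cfsg.permRep ℂ G Ω g * (S * Cfsg.permRep ℂ G Ω g⁻¹) = S ↔ _
    constructor
    · intro h
      conv_lhs => rw [← h]
      rw [mul_assoc, mul_assoc, ← map_mul (Cfsg.permRep ℂ G Ω), inv_mul_cancel,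
        map_one (Cfsg.permRep ℂ G Ω), mul_one]
    · intro h
      rw [← mul_assoc, ← h, mul_assoc, ← map_mul (Cfsg.permRep ℂ G Ω), mul_inv_cancel,
        map_one (Cfsg.permRep ℂ G Ω), mul_one]
  exact ⟨fun h S T hS hT => h S T ((hinv S).1 hS) ((hinv T).1 hT),
    fun h S T hS hT => h S T ((hinv S).2 hS) ((hinv T).2 hT)⟩

end Cfsg.Agent.S0718
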