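import Cfsg.Statements.S0720
import Cfsg.Agent.H58.TwiceP

set_option autoImplicit false
open Cfsg

namespace Cfsg.Agent.S0720

/-- Wielandt's Theorem on primitive groups of degree `2p`: such a group is doubly transitive, or it has rank 3, `p = 2a² + 2a + 1`, and subdegrees `a(2a+1)` and `(a+1)(2a+1)`. -/
theorem result {α : Type*} [Fintype α] [DecidableEq α] {p : ℕ} (hp : p.Prime) (hα : Fintype.card α = 2 * p) (G : Subgroup (Equiv.Perm α)) (hG : MulAction.IsPreprimitive G α) (a₀ : α) : MulAction.IsMultiplyPretransitive G α 2 ∨ (Nat.card (MulAction.orbitRel.Quotient (MulAction.stabilizer G a₀) α) = 3 ∧ ∃ a : ℕ, 0 < a ∧ p = 2 * a ^ 2 + 2 * a + 1 ∧ ∀ b : α, b ≠ a₀ → Nat.card (MulAction.orbit (MulAction.stabilizer G a₀) b) = a * (2 * a + 1) ∨ Nat.card (MulAction.orbit (MulAction.stabilizer G a₀) b) = (a + 1) * (2 * a + 1)) := by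
  classical
  haveI : Fact p.Prime := ⟨hp⟩
  haveI : MulAction.IsPretransitive G α := hG.toIsPretransitive
  rcases H58.TwiceP.main G hG hp hα with h | ⟨⟨C⟩⟩
  · exact Or.inl h
  have h3 := H58.TwiceP.card_orbs_le G C hG a₀
  rcases Nat.lt_or_ge (H58.TwiceP.orbs G a₀).card 2 with h | h
  · exact Or.inl (H58.TwiceP.two_transitive_of_card_orbs_le_one G a₀ (by omega))
  · refine Or.inr ⟨?_, H58.TwiceP.rank_three G C hG a₀ (le_antisymm h3 h)⟩
    rw [H58.TwiceP.card_quotient G a₀, le_antisymm h3 h]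

end Cfsg.Agent.S0720
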