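import Cfsg.Statements.S0724
import Mathlib

set_option autoImplicit false
open Cfsg

namespace Cfsg.Agent.S0724

/-- Blichfeldt's Theorem: if a finite set `L` of natural numbers contains the number of fixed points of every non-identity element of a permutation group `G` of degree `n`, then the order of `G` divides `∏ (n - l)` over `l ∈ L`. -/
theorem result {α : Type*} [Fintype α] [DecidableEq α] (G : Subgroup (Equiv.Perm α)) (L : Finset ℕ) (hL : ∀ g ∈ G, g ≠ 1 → Nat.card (MulAction.fixedBy α g) ∈ L) : Nat.card G ∣ ∏ l ∈ L, (Fintype.card α - l) := by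
  classical
  set n := Fintype.card α with hn
  by_cases hle : ∃ l ∈ L, n ≤ l
  · obtain ⟨l, hl, hnl⟩ := hle
    rw [Finset.prod_eq_zero hl (Nat.sub_eq_zero_of_le hnl)]
    exact dvd_zero _
  · push_neg at hle
    set P : Polynomial ℤ := ∏ l ∈ L, (Polynomial.X - Polynomial.C (l : ℤ)) with hP
    set π : G → ℤ := fun g => (Fintype.card (MulAction.fixedBy α g) : ℤ) with hπ
    have hpow : ∀ j : ℕ, (Fintype.card G : ℤ) ∣ ∑ g : G, π g ^ j := by
      intro j
      haveI : Fintype (Quotient (MulAction.orbitRel G (Fin j → α))) := Fintype.ofFinite _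
      have h := MulAction.sum_card_fixedBy_eq_card_orbits_mul_card_group G (Fin j → α)
      have h' : ∀ g : G, Fintype.card (MulAction.fixedBy (Fin j → α) g)
          = Fintype.card (MulAction.fixedBy α g) ^ j := by
        intro g
        have e : MulAction.fixedBy (Fin j → α) g ≃ (Fin j → MulAction.fixedBy α g) :=
          { toFun := fun f i => ⟨f.1 i, congrFun f.2 i⟩
            invFun := fun f => ⟨fun i => (f i).1, funext fun i => (f i).2⟩
            left_inv := fun f => rfl
            right_inv := fun f => rfl }
        rw [Fintype.card_congr e]; simp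
      simp only [h'] at h
      have : (∑ g : G, π g ^ j) = ((Fintype.card (Quotient (MulAction.orbitRel G (Fin j → α))) * Fintype.card G : ℕ) : ℤ) := by
        rw [← h]; push_cast; rfl
      rw [this]; push_cast; exact dvd_mul_left _ _
    have hsum : (Fintype.card G : ℤ) ∣ ∑ g : G, P.eval (π g) := by
      have : ∑ g : G, P.eval (π g) = ∑ j ∈ Finset.range (P.natDegree + 1), P.coeff j * ∑ g : G, π g ^ j := by
        simp only [Polynomial.eval_eq_sum_range, Finset.mul_sum]
        exact Finset.sum_comm
      rw [this]
      exact Finset.dvd_sum fun j _ => Dvd.dvd.mul_left (hpow j) _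
    have hone : ∑ g : G, P.eval (π g) = P.eval (π 1) := by
      refine Finset.sum_eq_single 1 (fun g _ hg => ?_) (by simp)
      have hm := hL g g.2 (by simpa using hg)
      have : MulAction.fixedBy α ((g : Equiv.Perm α)) = MulAction.fixedBy α g := rfl
      rw [this, Nat.card_eq_fintype_card] at hm
      rw [hP, Polynomial.eval_prod]
      exact Finset.prod_eq_zero hm (by simp [hπ])
    have h1 : π 1 = (n : ℤ) := by
      simp [hπ, hn, MulAction.fixedBy_one_eq_univ]
    rw [hone, h1, hP, Polynomial.eval_prod] at hsum
    rw [Nat.card_eq_fintype_card]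
    have : ((∏ l ∈ L, (n - l) : ℕ) : ℤ) = ∏ l ∈ L, Polynomial.eval (n : ℤ) (Polynomial.X - Polynomial.C (l : ℤ)) := by
      push_cast
      refine Finset.prod_congr rfl fun l hl => ?_
      simp [(hle l hl).le]
    exact_mod_cast this ▸ hsum

end Cfsg.Agent.S0724
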