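import Cfsg.Statements.S0726
import Mathlib

set_option autoImplicit false
open Cfsg

namespace Cfsg.Agent.S0726

/-- The left and right regular permutation representations of a group are each other's centralisers in the symmetric group: the centraliser of the left regular image is the right regular image, and a transitive subgroup centralising the left regular image is the whole right regular image. -/
theorem result {G : Type*} [Group G] : Subgroup.centralizer ((MulAction.toPermHom G G).range : Set (Equiv.Perm G)) = (MulAction.toPermHom Gᵐᵒᵖ G).range ∧ ∀ H : Subgroup (Equiv.Perm G), H ≤ Subgroup.centralizer ((MulAction.toPermHom G G).range : Set (Equiv.Perm G)) → MulAction.IsPretransitive H G → H = (MulAction.toPermHom Gᵐᵒᵖ G).range := by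
  classical
  have key : ∀ σ ∈ Subgroup.centralizer ((MulAction.toPermHom G G).range : Set (Equiv.Perm G)),
      ∀ x : G, σ x = x * σ 1 := by
    intro σ hσ x
    rw [Subgroup.mem_centralizer_iff] at hσ
    have := hσ (MulAction.toPermHom G G x) ⟨x, rfl⟩
    have h := congrArg (fun e : Equiv.Perm G => e 1) this
    simp only [Equiv.Perm.mul_apply, MulAction.toPermHom_apply, MulAction.toPerm_apply, smul_eq_mul, mul_one] at h
    exact h.symm
  have mk : ∀ σ : Equiv.Perm G, ∀ c : G, (∀ x, σ x = x * c) → σ = MulAction.toPermHom Gᵐᵒᵖ G (MulOpposite.op c) := by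
    intro σ c h
    ext x
    simp [h x]
  refine ⟨?_, ?_⟩
  · ext σ
    constructor
    · intro hσ
      exact ⟨_, (mk σ _ (key σ hσ)).symm⟩
    · rintro ⟨c, rfl⟩
      rw [Subgroup.mem_centralizer_iff]
      rintro _ ⟨g, rfl⟩
      ext x
      simp [mul_assoc]
  · intro H hH htr
    apply le_antisymm
    · intro σ hσ
      exact ⟨_, (mk σ _ (key σ (hH hσ))).symm⟩
    · rintro _ ⟨c, rfl⟩
      obtain ⟨h, hh⟩ := htr.exists_smul_eq 1 c.unop
      have h1 : (h : Equiv.Perm G) 1 = c.unop := hh
      have := mk (h : Equiv.Perm G) c.unop (fun x => by rw [key _ (hH h.2) x, h1])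
      rw [MulOpposite.op_unop] at this
      rw [← this]
      exact h.2

end Cfsg.Agent.S0726
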