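import Cfsg.Statements.S0727
import Cfsg.Agent.H18.SharpThree


set_option autoImplicit false
open Cfsg

namespace Cfsg.Agent.S0727

/-- A sharply triply transitive permutation group of degree `2^f + 1` is isomorphic to the projective general linear group of degree 2 over the field with `2^f` elements. -/
theorem result {α : Type*} [Fintype α] [DecidableEq α] {f : ℕ} (hf : 1 ≤ f) (hα : Fintype.card α = 2 ^ f + 1) (G : Subgroup (Equiv.Perm α)) (h3 : MulAction.IsMultiplyPretransitive G α 3) (hsharp : ∀ x : Fin 3 ↪ α, MulAction.stabilizer G x = ⊥) : ∃ (F : Type) (_ : Field F) (_ : Fintype F), Fintype.card F = 2 ^ f ∧ Nonempty (G ≃* Matrix.ProjGenLinGroup (Fin 2) F) := by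
  classical
  have h2 : 2 ≤ 2 ^ f := by
    calc 2 = 2 ^ 1 := by norm_num
      _ ≤ 2 ^ f := Nat.pow_le_pow_right (by norm_num) hf
  have hodd : Odd (Fintype.card α) := hα ▸ (Nat.even_pow.mpr ⟨even_two, by omega⟩).add_one
  obtain ⟨a, ha, hca, F, iF, iFt, hF, ⟨e⟩⟩ := H18.sharp_three_odd (by omega) hodd h3
    fun g x y z hxy hxz hyz hx hy hz => by
      let t : Fin 3 ↪ α := ⟨![x, y, z], fun i j h => by
        fin_cases i <;> fin_cases j <;>
          simp [hxy, hxz, hyz, hxy.symm, hxz.symm, hyz.symm] at h ⊢⟩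
      have hg : g ∈ MulAction.stabilizer G t := by
        rw [MulAction.mem_stabilizer_iff]
        ext i
        fin_cases i <;> assumption
      rwa [hsharp, Subgroup.mem_bot] at hg
  have haf : 2 ^ a = 2 ^ f := by omega
  have hchar : ringChar F = 2 := by
    obtain ⟨n, hp, hc⟩ := FiniteField.card F (ringChar F)
    rw [hF] at hc
    have h := dvd_pow_self (ringChar F) n.pos.ne'
    rw [← hc] at h
    exact (Nat.prime_dvd_prime_iff_eq hp Nat.prime_two).mp (hp.dvd_of_dvd_pow h)
  haveI : CharP F 2 := hchar ▸ ringChar.charP F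
  let φ : Matrix.SpecialLinearGroup (Fin 2) F →* Matrix.ProjGenLinGroup (Fin 2) F :=
    Matrix.ProjGenLinGroup.mk.comp Matrix.SpecialLinearGroup.toGL
  have hφ : Function.Bijective φ := by
    refine ⟨(injective_iff_map_eq_one φ).mpr fun M hM => ?_, fun x => ?_⟩
    · have h := Matrix.ProjGenLinGroup.mk_eq_one.mp hM
      rw [Matrix.GeneralLinearGroup.center_eq_range_scalar] at h
      obtain ⟨u, hu⟩ := h
      refine H18.sl2_eq_of_three M 1 H37.stdTriple fun i => ?_
      rw [← H37.toGL_smul_pt, ← hu, H37.scalar_smul_pt, one_smul]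
    · obtain ⟨g, rfl⟩ := Matrix.ProjGenLinGroup.mk_surjective x
      obtain ⟨r, hr⟩ := FiniteField.isSquare_of_char_two hchar
        ((Matrix.GeneralLinearGroup.det g : Fˣ) : F)
      have hr0 : r ≠ 0 := fun h0 => (Matrix.GeneralLinearGroup.det g).ne_zero (by rw [hr, h0, mul_zero])
      set g' := g * Matrix.GeneralLinearGroup.scalar (Fin 2) (Units.mk0 r hr0)⁻¹ with hg'
      have hdet : Matrix.GeneralLinearGroup.det g' = 1 := by
        rw [hg', map_mul, Matrix.GeneralLinearGroup.det_scalar, Fintype.card_fin, inv_pow,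
          mul_inv_eq_one]
        exact Units.ext (by rw [hr, Units.val_pow_eq_pow_val, Units.val_mk0, pow_two])
      refine ⟨⟨(g' : Matrix (Fin 2) (Fin 2) F), by simpa using congrArg Units.val hdet⟩, ?_⟩
      change Matrix.ProjGenLinGroup.mk _ = _
      rw [show Matrix.SpecialLinearGroup.toGL
        ⟨(g' : Matrix (Fin 2) (Fin 2) F), by simpa using congrArg Units.val hdet⟩ = g' from
        Units.ext rfl, hg', map_mul, Matrix.ProjGenLinGroup.mk_scalar, mul_one]
  exact ⟨F, iF, iFt, hF.trans haf, ⟨e.trans (MulEquiv.ofBijective φ hφ)⟩⟩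

end Cfsg.Agent.S0727
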