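import Cfsg.Statements.S0728
import Mathlib

set_option autoImplicit false
open Cfsg
open scoped Pointwise

namespace Cfsg.Agent.S0728

theorem triple_inj {α : Type*} {u v w : α} (h1 : u ≠ v) (h2 : u ≠ w) (h3 : v ≠ w) :
    Function.Injective ![u, v, w] := by
  intro i j h
  fin_cases i <;> fin_cases j <;> first | rfl | (exfalso; simp only [Matrix.cons_val_zero, Matrix.cons_val_one, Matrix.cons_val, Fin.zero_eta, Fin.mk_one, Fin.reduceFinMk] at h; first | exact h1 h | exact h2 h | exact h3 h | exact h1 h.symm | exact h2 h.symm | exact h3 h.symm)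

/-- In a sharply triply transitive group of even degree at least 6 (degree `q + 1`, `q` odd), a two-point stabiliser has at most one subgroup of order 3. -/
theorem result {α : Type*} [Fintype α] [DecidableEq α] (heven : Even (Fintype.card α)) (h6 : 6 ≤ Fintype.card α) (G : Subgroup (Equiv.Perm α)) (h3 : MulAction.IsMultiplyPretransitive G α 3) (hsharp : ∀ x : Fin 3 ↪ α, MulAction.stabilizer G x = ⊥) {a b : α} (hab : a ≠ b) (A B : Subgroup G) (hA : A ≤ MulAction.stabilizer G a ⊓ MulAction.stabilizer G b) (hB : B ≤ MulAction.stabilizer G a ⊓ MulAction.stabilizer G b) (hA3 : Nat.card A = 3) (hB3 : Nat.card B = 3) : A = B := by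
  classical
  have tri : ∀ u v w : α, u ≠ v → u ≠ w → v ≠ w → ∃ e : Fin 3 ↪ α, e 0 = u ∧ e 1 = v ∧ e 2 = w := fun u v w h1 h2 h3 =>
    ⟨⟨![u, v, w], triple_inj h1 h2 h3⟩, rfl, rfl, rfl⟩
  haveI : MulAction.IsMultiplyPretransitive G α 3 := h3
  set n := Fintype.card α with hn
  have huniq : ∀ (x : Fin 3 ↪ α) (g h : G), g • x = h • x → g = h := by
    intro x g h e
    have : h⁻¹ * g ∈ MulAction.stabilizer G x := by
      rw [MulAction.mem_stabilizer_iff, mul_smul]; exact (congrArg (h⁻¹ • ·) e).trans (inv_smul_smul h x)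
    rw [hsharp, Subgroup.mem_bot, inv_mul_eq_one] at this
    exact this.symm
  let T : Finset G := Finset.univ.filter (fun g => orderOf g = 3)
  let F : G → Finset α := fun g => Finset.univ.filter (fun z => g • z = z)
  have hle2 : ∀ g : G, g ≠ 1 → (F g).card ≤ 2 := by
    intro g hg
    by_contra! h
    obtain ⟨u, hu, v, hv, w, hw, huv, huw, hvw⟩ := Finset.two_lt_card.1 h
    simp only [F, Finset.mem_filter, Finset.mem_univ, true_and] at hu hv hw
    obtain ⟨e, e0, e1, e2⟩ := tri u v w huv huw hvw
    have he : ∀ i, g • e i = e i := by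
      intro i; fin_cases i
      · show g • e 0 = e 0; rw [e0]; exact hu
      · show g • e 1 = e 1; rw [e1]; exact hv
      · show g • e 2 = e 2; rw [e2]; exact hw
    exact hg (huniq e g 1 (by ext i; simp [he i]))
  have hn1 : ∀ g ∈ T, g ≠ 1 := by
    intro g hg h
    simp only [T, Finset.mem_filter] at hg
    rw [h, orderOf_one] at hg
    exact absurd hg.2 (by norm_num)
  have hmod : ∀ g ∈ T, (F g).card % 3 = n % 3 := by
    intro g hg
    simp only [T, Finset.mem_filter] at hg
    have h := Equiv.Perm.card_compl_support_modEq (p := 3) (n := 1) (σ := (g : Equiv.Perm α)) (by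
      rw [pow_one, ← Subgroup.coe_pow, ← hg.2, pow_orderOf_eq_one]; rfl)
    have he : (g : Equiv.Perm α).supportᶜ = F g := by
      ext x; simp [F]; rfl
    rw [he] at h
    exact h
  have hmemA : ∀ (C : Subgroup G), C ≤ MulAction.stabilizer G a ⊓ MulAction.stabilizer G b → Nat.card C = 3 →
      ∀ g ∈ C, g ≠ 1 → g ∈ T ∧ g • a = a ∧ g • b = b := by
    intro C hC hC3 g hg hg1
    refine ⟨?_, (hC hg).1, (hC hg).2⟩
    simp only [T, Finset.mem_filter, Finset.mem_univ, true_and]
    have h1 : orderOf g ∣ 3 := by
      rw [← hC3, ← Subgroup.orderOf_mk g hg]; exact orderOf_dvd_natCard _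
    rcases (Nat.dvd_prime Nat.prime_three).1 h1 with h | h
    · exact absurd (orderOf_eq_one_iff.1 h) hg1
    · exact h
  obtain ⟨g0, hg0A, hg01⟩ : ∃ g ∈ A, g ≠ 1 := by
    by_contra! h
    have : A = ⊥ := (Subgroup.eq_bot_iff_forall A).2 h
    rw [this, Subgroup.card_bot] at hA3
    omega
  have hmod2 : n % 3 = 2 := by
    obtain ⟨h1, h2, h3'⟩ := hmemA A hA hA3 g0 hg0A hg01
    rw [← hmod g0 h1]
    have h4 := hle2 g0 hg01
    have h5 : 2 ≤ (F g0).card := by
      rw [← Finset.card_pair hab]
      apply Finset.card_le_card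
      simp [F, Finset.insert_subset_iff, h2, h3']
    omega
  have hF2 : ∀ g ∈ T, (F g).card = 2 := by
    intro g hg
    have := hmod g hg
    have := hle2 g (hn1 g hg)
    omega
  -- moved points of elements of order 3 correspond to triples of points
  have hcount1 : T.card * (n - 2) = n * (n - 1) * (n - 2) := by
    have hL : T.card * (n - 2) = (T.sigma (fun g => (F g)ᶜ)).card := by
      rw [Finset.card_sigma, Finset.sum_congr rfl (fun g hg => by rw [Finset.card_compl, hF2 g hg]), Finset.sum_const, smul_eq_mul]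
    rw [hL]
    have hR : n * (n - 1) * (n - 2) = Fintype.card (Fin 3 ↪ α) := by
      rw [Fintype.card_embedding_eq, Fintype.card_fin]
      simp [Nat.descFactorial]
      ring
    rw [hR, ← Finset.card_univ]
    refine Finset.card_bij (fun q hq => (⟨![q.2, q.1 • q.2, q.1 • q.1 • q.2], ?_⟩ : Fin 3 ↪ α)) (fun q hq => Finset.mem_univ _) ?_ ?_
    · simp only [Finset.mem_sigma, Finset.mem_compl, F, Finset.mem_filter, Finset.mem_univ, true_and] at hq
      obtain ⟨hqT, hmv⟩ := hq
      simp only [T, Finset.mem_filter] at hqT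
      have h3 : q.1 • q.1 • q.1 • q.2 = q.2 := by
        rw [← mul_smul, ← mul_smul]
        have : q.1 * q.1 * q.1 = 1 := by
          have := pow_orderOf_eq_one q.1; rwa [hqT.2, pow_three, ← mul_assoc] at this
        rw [this, one_smul]
      have e1 : q.1 • q.1 • q.2 ≠ q.2 := by
        intro e
        have h' := congrArg (q.1 • ·) e
        simp only [h3] at h'
        exact hmv h'.symm
      have e2 : q.1 • q.1 • q.2 ≠ q.1 • q.2 := fun e => hmv (smul_left_cancel q.1 e)
      exact triple_inj (Ne.symm hmv) (Ne.symm e1) (Ne.symm e2)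
    · intro q hq r hr e
      have hfun : ∀ i : Fin 3, ![q.2, q.1 • q.2, q.1 • q.1 • q.2] i = ![r.2, r.1 • r.2, r.1 • r.1 • r.2] i := fun i => DFunLike.congr_fun e i
      have e0 : q.2 = r.2 := hfun 0
      have e1 : q.1 • q.2 = r.1 • r.2 := hfun 1
      have e2 : q.1 • q.1 • q.2 = r.1 • r.1 • r.2 := hfun 2
      simp only [Finset.mem_sigma, Finset.mem_compl, F, Finset.mem_filter, Finset.mem_univ, true_and] at hq hr
      have h3 : ∀ (g : G), g ∈ T → ∀ z : α, g • g • g • z = z := by
        intro g hg z
        simp only [T, Finset.mem_filter] at hg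
        rw [← mul_smul, ← mul_smul]
        have : g * g * g = 1 := by
          have := pow_orderOf_eq_one g; rwa [hg.2, pow_three, ← mul_assoc] at this
        rw [this, one_smul]
      have hg : q.1 = r.1 := by
        obtain ⟨u, hu⟩ : ∃ u : Fin 3 ↪ α, ∀ i, u i = ![q.2, q.1 • q.2, q.1 • q.1 • q.2] i := by
          have hn1 : q.1 • q.2 ≠ q.2 := hq.2
          have hn3 : q.1 • q.1 • q.2 ≠ q.1 • q.2 := fun e => hn1 (smul_left_cancel q.1 e)
          have hn2 : q.1 • q.1 • q.2 ≠ q.2 := by
            intro e
            have h' := congrArg (q.1 • ·) e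
            simp only [h3 _ hq.1] at h'
            exact hn1 h'.symm
          exact ⟨⟨![q.2, q.1 • q.2, q.1 • q.1 • q.2], triple_inj (Ne.symm hn1) (Ne.symm hn2) (Ne.symm hn3)⟩, fun i => rfl⟩
        refine huniq u q.1 r.1 ?_
        ext i
        simp only [Function.Embedding.smul_apply, hu]
        fin_cases i
        · show q.1 • q.2 = r.1 • q.2
          rw [e1, e0]
        · show q.1 • q.1 • q.2 = r.1 • q.1 • q.2
          rw [e2, e1]
        · show q.1 • q.1 • q.1 • q.2 = r.1 • q.1 • q.1 • q.2
          rw [h3 _ hq.1, e2, h3 _ hr.1, e0]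
      exact Sigma.ext hg (heq_of_eq e0)
    · intro x _
      have hinj := x.injective
      let y : Fin 3 ↪ α := ⟨![x 1, x 2, x 0], triple_inj (fun e => absurd (hinj e) (by decide)) (fun e => absurd (hinj e) (by decide)) (fun e => absurd (hinj e) (by decide))⟩
      obtain ⟨g, hg⟩ := MulAction.exists_smul_eq G x y
      have g0 : g • x 0 = x 1 := by rw [← Function.Embedding.smul_apply, hg]; rfl
      have g1 : g • x 1 = x 2 := by rw [← Function.Embedding.smul_apply, hg]; rfl
      have g2 : g • x 2 = x 0 := by rw [← Function.Embedding.smul_apply, hg]; rfl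
      have hg3 : g * g * g = 1 := huniq x _ _ (by
        ext i
        fin_cases i <;> simp [mul_smul, g0, g1, g2])
      have hT' : g ∈ T := by
        simp only [T, Finset.mem_filter, Finset.mem_univ, true_and]
        refine orderOf_eq_prime (by rw [pow_three, ← mul_assoc, hg3]) ?_
        intro h
        rw [h, one_smul] at g0
        exact absurd (hinj g0) (by decide)
      refine ⟨⟨g, x 0⟩, ?_, ?_⟩
      · simp only [Finset.mem_sigma, Finset.mem_compl, F, Finset.mem_filter, Finset.mem_univ, true_and]
        refine ⟨hT', ?_⟩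
        rw [g0]
        exact fun e => absurd (hinj e) (by decide)
      · ext i
        fin_cases i <;> simp [g0, g1]
  have hTcard : T.card = n * (n - 1) := Nat.eq_of_mul_eq_mul_right (by omega) hcount1
  -- all two-point stabilisers contain equally many elements of order 3
  let c : α × α → ℕ := fun q => (T.filter (fun g => g • q.1 = q.1 ∧ g • q.2 = q.2)).card
  haveI : MulAction.IsMultiplyPretransitive G α 2 := MulAction.isMultiplyPretransitive_of_le (show 2 ≤ 3 by omega) (by
    rw [Nat.card_eq_fintype_card]; omega)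
  have hc : ∀ q ∈ (Finset.univ : Finset α).offDiag, c q = c (a, b) := by
    intro q hq
    simp only [Finset.mem_offDiag, Finset.mem_univ, true_and] at hq
    obtain ⟨k, hk1, hk2⟩ := (MulAction.is_two_pretransitive_iff (G := G) (α := α)).1 inferInstance hq hab
    refine Finset.card_bij (fun g _ => k * g * k⁻¹) ?_ ?_ ?_
    · intro g hg
      simp only [T, Finset.mem_filter, Finset.mem_univ, true_and] at hg ⊢
      refine ⟨(orderOf_injective (MulAut.conj k).toMonoidHom (MulAut.conj k).injective g).trans hg.1, ?_, ?_⟩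
      · rw [mul_smul, mul_smul, inv_smul_eq_iff.2 hk1.symm, hg.2.1, hk1]
      · rw [mul_smul, mul_smul, inv_smul_eq_iff.2 hk2.symm, hg.2.2, hk2]
    · intro g _ h _ e
      exact mul_left_cancel (mul_right_cancel e)
    · intro g hg
      simp only [T, Finset.mem_filter, Finset.mem_univ, true_and] at hg ⊢
      refine ⟨k⁻¹ * g * k, ⟨?_, ?_, ?_⟩, by group⟩
      · refine Eq.trans ?_ ((orderOf_injective (MulAut.conj k⁻¹).toMonoidHom (MulAut.conj k⁻¹).injective g).trans hg.1)
        simp
      · rw [mul_smul, mul_smul, hk1, hg.2.1, ← hk1, inv_smul_smul]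
      · rw [mul_smul, mul_smul, hk2, hg.2.2, ← hk2, inv_smul_smul]
  have hc2 : c (a, b) = 2 := by
    have h1 : T.card * 2 = ∑ q ∈ (Finset.univ : Finset α).offDiag, c q := by
      have := Finset.sum_card_bipartiteAbove_eq_sum_card_bipartiteBelow (s := T) (t := (Finset.univ : Finset α).offDiag)
        (fun g q => g • q.1 = q.1 ∧ g • q.2 = q.2)
      rw [Finset.sum_congr rfl (fun g hg => ?_), Finset.sum_const, smul_eq_mul] at this
      · exact this
      · show (Finset.filter _ _).card = 2
        have : ((Finset.univ : Finset α).offDiag.filter (fun q => g • q.1 = q.1 ∧ g • q.2 = q.2)) = (F g).offDiag := by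
          ext q; simp only [F, Finset.mem_filter, Finset.mem_offDiag, Finset.mem_univ, true_and]; tauto
        rw [this, Finset.offDiag_card, hF2 g hg]
    rw [Finset.sum_congr rfl hc, Finset.sum_const, smul_eq_mul, Finset.offDiag_card, Finset.card_univ, hTcard,
      show Fintype.card α * Fintype.card α - Fintype.card α = n * (n - 1) by rw [hn, Nat.mul_sub, mul_one]] at h1
    exact (Nat.eq_of_mul_eq_mul_left (Nat.mul_pos (by omega) (by omega)) h1).symm
  have hkey : ∀ (C : Subgroup G), C ≤ MulAction.stabilizer G a ⊓ MulAction.stabilizer G b → Nat.card C = 3 →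
      (Finset.univ.filter (fun g => g ∈ C ∧ g ≠ 1)) = T.filter (fun g => g • (a, b).1 = (a, b).1 ∧ g • (a, b).2 = (a, b).2) := by
    intro C hC hC3
    refine Finset.eq_of_subset_of_card_le ?_ ?_
    · intro g hg
      simp only [Finset.mem_filter, Finset.mem_univ, true_and] at hg ⊢
      exact hmemA C hC hC3 g hg.1 hg.2
    · change c (a, b) ≤ _
      rw [hc2]
      have : (Finset.univ.filter (fun g => g ∈ C ∧ g ≠ 1)) = (Finset.univ.filter (fun g => g ∈ C)).erase 1 := by
        ext g; simp [and_comm]
      rw [this, Finset.card_erase_of_mem (by simp [one_mem]), ← Fintype.card_subtype]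
      have h := hC3
      rw [Nat.card_eq_fintype_card] at h
      omega
  have hAB := (hkey A hA hA3).trans (hkey B hB hB3).symm
  ext g
  by_cases hg : g = 1
  · simp [hg, one_mem]
  · have := Finset.ext_iff.1 hAB g
    simpa [hg] using this

end Cfsg.Agent.S0728
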