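import Cfsg.Statements.S0729
import Cfsg.Agent.H59.IndexTwo
import Cfsg.Agent.S0728

set_option autoImplicit false
open Cfsg

namespace Cfsg.Agent.S0729

/-- In a sharply triply transitive group of even degree at least 6, the two-point stabiliser `H = G_{a,b}` has a normal subgroup of index 2 that is normalised by the element `s` interchanging `a, b` and fixing a third point `c`. -/
theorem result {α : Type*} [Fintype α] [DecidableEq α] (heven : Even (Fintype.card α)) (h6 : 6 ≤ Fintype.card α) (G : Subgroup (Equiv.Perm α)) (h3 : MulAction.IsMultiplyPretransitive G α 3) (hsharp : ∀ x : Fin 3 ↪ α, MulAction.stabilizer G x = ⊥) {a b c : α} (hab : a ≠ b) (hac : a ≠ c) (hbc : b ≠ c) (s : G) (hsa : s • a = b) (hsb : s • b = a) (hsc : s • c = c) : ∃ N : Subgroup G, N ≤ MulAction.stabilizer G a ⊓ MulAction.stabilizer G b ∧ (N.subgroupOf (MulAction.stabilizer G a ⊓ MulAction.stabilizer G b)).Normal ∧ N.relIndex (MulAction.stabilizer G a ⊓ MulAction.stabilizer G b) = 2 ∧ ∀ n ∈ N, s * n * s⁻¹ ∈ N := by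
  classical
  have hfix : ∀ g : G, ∀ a b c : α, a ≠ b → a ≠ c → b ≠ c → g • a = a → g • b = b → g • c = c → g = 1 := by
    intro g a b c hab hac hbc ha hb hc
    obtain ⟨e, e0, e1, e2⟩ := H59.triple_exists hab hac hbc
    have : g ∈ MulAction.stabilizer G e := by
      rw [MulAction.mem_stabilizer_iff]
      ext i
      fin_cases i
      · show g • e 0 = e 0; rw [e0]; exact ha
      · show g • e 1 = e 1; rw [e1]; exact hb
      · show g • e 2 = e 2; rw [e2]; exact hc
    rwa [hsharp, Subgroup.mem_bot] at this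
  have hcard : 3 ≤ Fintype.card α := by omega
  haveI := H59.finite_of_sharp (G := G) hcard hfix
  obtain ⟨NF, hY, -, -⟩ := H59.exists_nearfield_coord (G := G) hcard h3 hfix a
  obtain ⟨p, f, hp, -, hpf, -, -⟩ := Cfsg.Agent.S0682.result (F := SubMulAction.ofStabilizer G a)
  have hq : Fintype.card α = p ^ f + 1 := by omega
  haveI : Fact p.Prime := ⟨hp⟩
  obtain ⟨o, V, iV, iM, iF, iN, ρ, ho, hV, hinj, hfpf, hneg⟩ :=
    H59.exists_linear_coord hcard h3 hfix a hq
  obtain ⟨e1, he1a, he1o⟩ : ∃ x : α, x ≠ a ∧ x ≠ o := by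
    have h := Finset.card_compl ({a, o} : Finset α)
    rw [Finset.card_pair (Ne.symm ho)] at h
    obtain ⟨x, hx⟩ := Finset.card_pos.1 (show 0 < ({a, o} : Finset α)ᶜ.card by omega)
    simp at hx
    exact ⟨x, hx.1, hx.2⟩
  obtain ⟨t, ta, tb, -⟩ := H59.exists_three h3 hab hac hbc (Ne.symm ho) he1a.symm he1o.symm
  obtain ⟨e⟩ := H59.st2_equiv (G := G) t ta tb
  obtain ⟨γ, hγ, hγfix, -⟩ := H59.exists_sigma heven h6 h3 hfix hab hac hbc hsa hsb hsc
  have hHcard : Nat.card (H59.st2 G a b) = p ^ f - 1 := by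
    rw [H59.card_st2 h3 hfix hcard hab]; omega
  have hM : ∃ M : Subgroup (H59.st2 G a b), M.index = 2 := by
    refine H59.exists_index_two_fpf hp (ρ.comp e.toMonoidHom) hV (hinj.comp e.injective) ?_ hHcard ?_ ?_ γ hγ
      hγfix ?_
    · intro g hg x hx
      exact hfpf (e g) (fun h => hg (e.injective (h.trans (map_one e).symm))) x hx
    · rw [hHcard]
      obtain ⟨k, hk⟩ := heven
      exact ⟨k - 1, by omega⟩
    · intro g h hg hg1 hh hh1
      refine e.injective (hinj ((hneg _ (by rw [← map_mul, hg, map_one]) ?_).trans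
        (hneg _ (by rw [← map_mul, hh, map_one]) ?_).symm))
      · exact fun h' => hg1 (e.injective (h'.trans (map_one e).symm))
      · exact fun h' => hh1 (e.injective (h'.trans (map_one e).symm))
    · intro A B hA hB
      refine Subgroup.map_injective (H59.st2 G a b).subtype_injective ?_
      exact Cfsg.Agent.S0728.result heven h6 G h3 hsharp hab _ _ (Subgroup.map_subtype_le A)
        (Subgroup.map_subtype_le B) (by rw [Subgroup.card_map_of_injective Subtype.val_injective, hA])
        (by rw [Subgroup.card_map_of_injective Subtype.val_injective, hB])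
  obtain ⟨A, hA2, -, hAs⟩ := H59.exists_half heven h6 h3 hfix hab hac hbc hsa hsb hsc hM
  refine ⟨A.map (H59.st2 G a b).subtype, Subgroup.map_subtype_le A, ?_, ?_, ?_⟩
  · show ((A.map (H59.st2 G a b).subtype).subgroupOf (H59.st2 G a b)).Normal
    rw [Subgroup.subgroupOf, Subgroup.comap_map_eq_self_of_injective Subtype.val_injective]
    exact Subgroup.normal_of_index_eq_two hA2
  · show (A.map (H59.st2 G a b).subtype).relIndex (H59.st2 G a b) = 2
    rw [Subgroup.relIndex, Subgroup.subgroupOf,
      Subgroup.comap_map_eq_self_of_injective Subtype.val_injective, hA2]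
  · rintro _ ⟨x, hx, rfl⟩
    obtain ⟨y, hy, hxy⟩ := hAs x hx
    exact ⟨y, hy, hxy⟩

end Cfsg.Agent.S0729
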