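import Cfsg.Statements.S0733
import Mathlib

set_option autoImplicit false
open Cfsg
open scoped Pointwise

namespace Cfsg.Agent.S0733

/-- A permutation group of affine type — generated by the translations of a finite vector space `V` over `ZMod p` together with a group `G₀` of linear automorphisms — is primitive on `V` if and only if `G₀` is irreducible on `V`. -/
theorem result {p : ℕ} [Fact p.Prime] {V : Type*} [AddCommGroup V] [Module (ZMod p) V] [Finite V] [Nontrivial V] (G₀ : Subgroup (V ≃ₗ[ZMod p] V)) (G : Subgroup (Equiv.Perm V)) (hG : ∀ σ : Equiv.Perm V, σ ∈ G ↔ ∃ g ∈ G₀, ∃ b : V, ∀ x : V, σ x = (g : V ≃ₗ[ZMod p] V) x + b) : MulAction.IsPreprimitive G V ↔ ∀ W : Submodule (ZMod p) V, (∀ g ∈ G₀, ∀ v ∈ W, (g : V ≃ₗ[ZMod p] V) v ∈ W) → W = ⊥ ∨ W = ⊤ := by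
  classical
  have htr : ∀ b : V, Equiv.addRight b ∈ G := fun b => (hG _).2 ⟨1, G₀.one_mem, b, fun x => rfl⟩
  have hlin : ∀ g ∈ G₀, (g : V ≃ₗ[ZMod p] V).toEquiv ∈ G := fun g hg => (hG _).2 ⟨g, hg, 0, fun x => by simp⟩
  haveI : MulAction.IsPretransitive G V := ⟨fun x y => ⟨⟨_, htr (-x + y)⟩, by
    show x + (-x + y) = y
    simp⟩⟩
  constructor
  · intro hP W hW
    have hB : MulAction.IsBlock G (W : Set V) := by
      intro g₁ g₂ hne
      rw [Set.disjoint_left]
      rintro y ⟨u, hu, rfl⟩ ⟨v, hv, hvu⟩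
      apply hne
      obtain ⟨l₁, hl₁, b₁, hb₁⟩ := (hG _).1 g₁.2
      obtain ⟨l₂, hl₂, b₂, hb₂⟩ := (hG _).1 g₂.2
      have hmem : ∀ l ∈ G₀, ∀ w : V, (l : V ≃ₗ[ZMod p] V) w ∈ W ↔ w ∈ W := by
        intro l hl w
        refine ⟨fun h => ?_, hW l hl w⟩
        have := hW l⁻¹ (G₀.inv_mem hl) _ h
        simpa using this
      have hd : (l₂ : V ≃ₗ[ZMod p] V) v + b₂ = (l₁ : V ≃ₗ[ZMod p] V) u + b₁ := by
        rw [← hb₁ u, ← hb₂ v]; exact hvu
      have hdd : b₂ - b₁ ∈ W := by
        have : b₂ - b₁ = (l₁ : V ≃ₗ[ZMod p] V) u - (l₂ : V ≃ₗ[ZMod p] V) v := by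
          rw [sub_eq_sub_iff_add_eq_add, add_comm, hd]
        rw [this]
        exact W.sub_mem ((hmem _ hl₁ u).2 hu) ((hmem _ hl₂ v).2 hv)
      have himg : ∀ (g : G) (l : V ≃ₗ[ZMod p] V) (b : V), l ∈ G₀ → (∀ x, (g : Equiv.Perm V) x = l x + b) →
          ∀ z, z ∈ g • (W : Set V) ↔ z - b ∈ W := by
        intro g l b hl hb z
        constructor
        · rintro ⟨w, hw, rfl⟩
          have : g • w = l w + b := hb w
          show g • w - b ∈ W
          rw [this, add_sub_cancel_right]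
          exact (hmem l hl w).2 hw
        · intro hz
          refine ⟨l.symm (z - b), ?_, ?_⟩
          · exact (hmem l hl _).1 (by simpa using hz)
          · show g • _ = z
            rw [show g • l.symm (z - b) = (g : Equiv.Perm V) (l.symm (z - b)) from rfl, hb]
            simp
      ext z
      rw [himg g₁ l₁ b₁ hl₁ hb₁, himg g₂ l₂ b₂ hl₂ hb₂]
      have e : z - b₁ = (z - b₂) + (b₂ - b₁) := by abel
      rw [e]
      exact W.add_mem_iff_left hdd
    rcases hP.isTrivialBlock_of_isBlock hB with h | h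
    · exact Or.inl ((Submodule.eq_bot_iff W).2 fun w hw => h hw W.zero_mem)
    · exact Or.inr (SetLike.coe_injective (by simpa using h))
  · intro hirr
    refine MulAction.IsPreprimitive.of_isTrivialBlock_base 0 fun {B} h0 hB => ?_
    have hadd : ∀ x ∈ B, ∀ y ∈ B, x + y ∈ B := by
      intro x hx y hy
      have := hB.smul_eq_of_mem (g := (⟨_, htr y⟩ : G)) h0 (show (0 : V) + y ∈ B by simpa using hy)
      rw [← this]
      exact ⟨x, hx, rfl⟩
    let M : AddSubmonoid V := { carrier := B, add_mem' := fun {x y} hx hy => hadd x hx y hy, zero_mem' := h0 }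
    let A : AddSubgroup V := { M with
      neg_mem' := fun {x} hx => by
        have h := M.nsmul_mem (show x ∈ M from hx) (p - 1)
        have : (p - 1) • x = -x := by
          rw [← Nat.cast_smul_eq_nsmul (ZMod p), Nat.cast_sub (Fact.out (p := p.Prime)).one_le]
          simp
        rwa [this] at h }
    have hW : ∀ g ∈ G₀, ∀ v ∈ AddSubgroup.toZModSubmodule p A, (g : V ≃ₗ[ZMod p] V) v ∈ AddSubgroup.toZModSubmodule p A := by
      intro g hg v hv
      have := hB.smul_eq_of_mem (g := (⟨_, hlin g hg⟩ : G)) h0 (show (g : V ≃ₗ[ZMod p] V) 0 ∈ B by simpa using h0)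
      show (g : V ≃ₗ[ZMod p] V) v ∈ B
      rw [← this]
      exact ⟨v, hv, rfl⟩
    rcases hirr _ hW with h | h
    · left
      intro x hx y hy
      have hx' : x ∈ AddSubgroup.toZModSubmodule p A := hx
      have hy' : y ∈ AddSubgroup.toZModSubmodule p A := hy
      rw [h, Submodule.mem_bot] at hx' hy'
      rw [hx', hy']
    · right
      refine Set.eq_univ_of_forall fun x => ?_
      show x ∈ AddSubgroup.toZModSubmodule p A
      rw [h]; trivial

end Cfsg.Agent.S0733
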