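import Cfsg.Statements.S0734
import Mathlib

set_option autoImplicit false
open Cfsg
open scoped Pointwise

namespace Cfsg.Agent.S0734

/-- Higman's criterion for primitivity: a transitive action on a finite set is primitive if and only if every non-trivial orbital graph (edges = images of a fixed pair of distinct points) is connected. -/
theorem result {G : Type*} [Group G] {Ω : Type*} [Finite Ω] [MulAction G Ω] [MulAction.IsPretransitive G Ω] [Nontrivial Ω] : MulAction.IsPreprimitive G Ω ↔ ∀ a b : Ω, a ≠ b → (SimpleGraph.fromRel fun x y : Ω => ∃ g : G, g • a = x ∧ g • b = y).Connected := by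
  constructor
  · intro hP a b hab
    set Γ := SimpleGraph.fromRel fun x y : Ω => ∃ g : G, g • a = x ∧ g • b = y with hΓ
    have hadj : ∀ (g : G) x y, Γ.Adj x y → Γ.Adj (g • x) (g • y) := by
      intro g x y h
      rw [hΓ, SimpleGraph.fromRel_adj] at h ⊢
      refine ⟨fun e => h.1 (smul_left_cancel g e), ?_⟩
      rcases h.2 with ⟨k, h1, h2⟩ | ⟨k, h1, h2⟩
      · exact Or.inl ⟨g * k, by rw [mul_smul, h1], by rw [mul_smul, h2]⟩
      · exact Or.inr ⟨g * k, by rw [mul_smul, h1], by rw [mul_smul, h2]⟩
    have hr : ∀ (g : G) x y, Γ.Reachable x y → Γ.Reachable (g • x) (g • y) := by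
      intro g x y h
      exact h.map ⟨fun z => g • z, fun {u v} huv => hadj g u v huv⟩
    set B := {y | Γ.Reachable a y} with hBdef
    have hmem : ∀ (g : G) y, y ∈ g • B ↔ Γ.Reachable (g • a) y := by
      intro g y
      rw [Set.mem_smul_set_iff_inv_smul_mem]
      constructor
      · intro h; have := hr g _ _ h; rwa [smul_inv_smul] at this
      · intro h; have := hr g⁻¹ _ _ h; rwa [inv_smul_smul] at this
    have hB : MulAction.IsBlock G B := by
      intro g₁ g₂ hne
      rw [Set.disjoint_left]
      intro y h1 h2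
      apply hne
      ext z
      rw [hmem] at h1 h2 ⊢
      rw [hmem]
      exact ⟨fun h => h2.trans (h1.symm.trans h), fun h => h1.trans (h2.symm.trans h)⟩
    have hbB : b ∈ B := SimpleGraph.Adj.reachable (by
      rw [hΓ, SimpleGraph.fromRel_adj]
      exact ⟨hab, Or.inl ⟨1, one_smul _ _, one_smul _ _⟩⟩)
    have haB : a ∈ B := SimpleGraph.Reachable.refl a
    rcases hP.isTrivialBlock_of_isBlock hB with h | h
    · exact absurd (h haB hbB) hab
    · refine ⟨fun x y => ?_⟩
      have hx : x ∈ B := h ▸ Set.mem_univ x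
      have hy : y ∈ B := h ▸ Set.mem_univ y
      exact SimpleGraph.Reachable.trans (SimpleGraph.Reachable.symm hx) hy
  · intro H
    refine MulAction.IsPreprimitive.mk fun {B} hB => ?_
    rcases B.subsingleton_or_nontrivial with h | ⟨a, ha, b, hb, hab⟩
    · exact Or.inl h
    refine Or.inr (Set.eq_univ_of_forall fun c => ?_)
    obtain ⟨w⟩ := (H a b hab).preconnected a c
    revert ha
    clear hab
    revert hb
    generalize hs : a = s at w ⊢
    subst hs
    intro hb ha
    suffices ∀ {u v : Ω}, (SimpleGraph.fromRel fun x y : Ω => ∃ g : G, g • a = x ∧ g • b = y).Walk u v → u ∈ B → v ∈ B from this w ha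
    intro u v w
    induction w with
    | nil => exact id
    | cons h _ ih =>
      intro hu
      apply ih
      rw [SimpleGraph.fromRel_adj] at h
      rcases h.2 with ⟨g, h1, h2⟩ | ⟨g, h1, h2⟩
      · have := hB.smul_eq_of_mem ha (h1 ▸ hu)
        exact this ▸ h2 ▸ Set.smul_mem_smul_set hb
      · have := hB.smul_eq_of_mem hb (h2 ▸ hu)
        exact this ▸ h1 ▸ Set.smul_mem_smul_set ha

end Cfsg.Agent.S0734
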