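import Cfsg.Statements.S0745
import Cfsg.Agent.H59.LW.Exceptions
import Cfsg.Agent.H91.JordanK

set_option autoImplicit false
open Cfsg

namespace Cfsg.Agent.S0745

open H59.LW Equiv MulAction

theorem arith_two : ∀ m : Fin 25, ∀ r : Fin 7,
    1 ≤ (m : ℕ) ∧ 2 ≤ (r : ℕ) ∧ 24 % ((r : ℕ) * ((m : ℕ) + 1)) = 0 ∧ ((m : ℕ) + 2) % (r : ℕ) = 0 ∧
      6 % (r : ℕ) = 0 →
      ((m : ℕ) = 1 ∧ (r : ℕ) = 3) ∨ ((m : ℕ) = 2 ∧ (r : ℕ) = 2) ∨ ((m : ℕ) = 7 ∧ (r : ℕ) = 3) := by
  decide +kernel

theorem arith_three : ∀ m : Fin 61, ∀ r : Fin 25,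
    1 ≤ (m : ℕ) ∧ 2 ≤ (r : ℕ) ∧ 120 % ((r : ℕ) * ((m : ℕ) + 1)) = 0 ∧ ((m : ℕ) + 2) % (r : ℕ) = 0 ∧
      24 % (r : ℕ) = 0 ∧ ((m : ℕ) + 2) / (r : ℕ) % 2 = 1 →
      ((m : ℕ) = 1 ∧ (r : ℕ) = 3) ∨ ((m : ℕ) = 2 ∧ (r : ℕ) = 4) ∨ ((m : ℕ) = 4 ∧ (r : ℕ) = 2) ∨
        ((m : ℕ) = 4 ∧ (r : ℕ) = 6) ∨ ((m : ℕ) = 7 ∧ (r : ℕ) = 3) ∨ ((m : ℕ) = 19 ∧ (r : ℕ) = 3) := by
  decide +kernel

/-- Let `G` have degree `n` and `3 ≤ k ≤ n`; suppose `G` is `(k-2)`-transitive but not `(k-1)`-transitive, and is `(k-1)`-homogeneous and `k`-homogeneous. Then `k = n` and `G` is the alternating group, or `n = 5, k = 4, |G| = 20`, or `n = 6, k = 5, |G| = 120`, or `n = 9, k = 5, |G| ∈ {504, 1512}`. -/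
theorem result {α : Type*} [Fintype α] [DecidableEq α] (G : Subgroup (Equiv.Perm α)) {k : ℕ} (hk : 3 ≤ k) (hkn : k ≤ Fintype.card α) (ht : MulAction.IsMultiplyPretransitive G α (k - 2)) (hnt : ¬ MulAction.IsMultiplyPretransitive G α (k - 1)) (hh1 : MulAction.IsPretransitive G (Set.powersetCard α (k - 1))) (hh : MulAction.IsPretransitive G (Set.powersetCard α k)) : (k = Fintype.card α ∧ G = alternatingGroup α) ∨ (Fintype.card α = 5 ∧ k = 4 ∧ Nat.card G = 20) ∨ (Fintype.card α = 6 ∧ k = 5 ∧ Nat.card G = 120) ∨ (Fintype.card α = 9 ∧ k = 5 ∧ (Nat.card G = 504 ∨ Nat.card G = 1512)) := by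
  classical
  have hG : Trans G α (k - 2) := trans_of_multiply ht (by omega)
  have hnt' : ¬ Trans G α (k - 1) := fun h => hnt (multiply_of_trans h)
  rcases eq_or_lt_of_le hkn with heq | hlt
  · refine Or.inl ⟨heq, le_antisymm (fun g hg => ?_)
      (IsMultiplyPretransitive.alternatingGroup_le α G (by rw [Nat.card_eq_fintype_card, ← heq]; exact ht))⟩
    have hle : alternatingGroup α ≤ G :=
      IsMultiplyPretransitive.alternatingGroup_le α G (by rw [Nat.card_eq_fintype_card, ← heq]; exact ht)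
    rw [Perm.mem_alternatingGroup]
    by_contra hodd
    have hgs : Perm.sign g = -1 := (Int.units_eq_one_or _).resolve_left hodd
    refine hnt' fun T _ σ => ⟨⟨σ, ?_⟩, fun x _ => rfl⟩
    rcases Int.units_eq_one_or (Perm.sign σ) with h1 | h1
    · exact hle (Perm.mem_alternatingGroup.2 h1)
    · have h2 : σ * g⁻¹ ∈ G := hle (Perm.mem_alternatingGroup.2 (by
        rw [map_mul, map_inv, h1, hgs]; rfl))
      simpa using G.mul_mem h2 hg
  right
  -- only the identity fixes `k - 1` points
  have hfixeq : ∀ {i : ℕ}, IsPretransitive G (Set.powersetCard α i) → ∀ {A B : Finset α},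
      A.card = i → B.card = i → Nat.card (fixer G A) = Nat.card (fixer G B) := by
    intro i hi A B hA hB
    obtain ⟨g, hg⟩ := exists_image_of_homog hi hA hB
    rw [← hg, card_fixer_image]
  obtain ⟨T₀, -, hT₀⟩ := Finset.exists_superset_card_eq (s := (∅ : Finset α)) (n := k - 1) (by simp)
    (by omega)
  obtain ⟨U₀, -, hU₀⟩ := Finset.exists_superset_card_eq (s := (∅ : Finset α)) (n := k) (by simp)
    (by omega)
  have hP : ∀ g : G, k - 1 ≤ (fixSet g : Finset α).card → g = 1 := by
    intro g hg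
    obtain ⟨T, hTsub, hT⟩ := Finset.exists_subset_card_eq hg
    by_cases hl : 1 < Nat.card (fixer G T₀)
    · exact absurd (Cfsg.Agent.S0744.result G (k := k) (by omega) hkn
        (Nat.card (fixer G T₀)) (Nat.card (fixer G U₀)) hl
        (fun s hs => hfixeq hh1 hs hT₀) (fun s hs => hfixeq hh hs hU₀)) hnt
    · have h1 : fixer G T = ⊥ := Subgroup.eq_bot_of_card_eq _ (by
        have := Nat.card_pos (α := fixer G T)
        rw [hfixeq hh1 hT hT₀] at this ⊢
        omega)
      have h2 : g ∈ fixer G T := mem_fixer.2 fun v hv => mem_fixSet.1 (hTsub hv)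
      rwa [h1, Subgroup.mem_bot] at h2
  obtain ⟨t, rfl⟩ : ∃ t, k = t + 2 := ⟨k - 2, by omega⟩
  rw [show t + 2 - 2 = t by omega] at hG ht
  rw [show t + 2 - 1 = t + 1 by omega] at hnt hnt' hh1 hP
  have hnoFull : ¬ ∃ Δ : Finset α, Δ.card = t + 1 ∧ Full G Δ := fun ⟨Δ, h1, h2⟩ =>
    hnt' (trans_of_full hh1 (by omega) h1 h2)
  obtain ⟨T, -, hT⟩ := Finset.exists_superset_card_eq (s := (∅ : Finset α)) (n := t) (by simp)
    (by omega)
  obtain ⟨s, hs⟩ : ∃ s, s = Nat.card (fixer G T) := ⟨_, rfl⟩
  obtain ⟨hsdvd, hseq⟩ := semiregular_orbits (by omega) hG hP hT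
  rw [← hs] at hsdvd hseq
  have hsne : s ≠ Fintype.card α - t := fun h => hnt' (hseq h)
  have hspos : 0 < s := hs ▸ Nat.card_pos
  have hcard := card_eq_descFactorial_mul (by omega) hG hT
  rw [← hs] at hcard
  have hdvd1 : (Fintype.card α).choose (t + 1) ∣ Nat.card G := choose_dvd_card hh1 (by omega)
  have hdvd2 : (Fintype.card α).choose (t + 2) ∣ Nat.card G := choose_dvd_card hh (by omega)
  have hinv : 3 ≤ t → ∀ g : G, g * g = 1 → t ≤ (fixSet g : Finset α).card → g = 1 := by
    intro ht3 g hg hgf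
    by_contra hg1
    have halt : ∀ Δ : Finset α, Δ.card = t + 1 → AltFull G Δ := fun Δ hΔ =>
      altFull_of_two ht3 hG (fun T' hT' => two_of_involution (by omega) hG hP hg1 hg hgf hT') hΔ
    exact hnoFull (full_of_involution (by omega) halt hg1 hg (by omega))
  have hsodd : 3 ≤ t → s % 2 = 1 := by
    intro ht3
    by_contra hse
    haveI : Fact (Nat.Prime 2) := ⟨Nat.prime_two⟩
    obtain ⟨x, hx⟩ := exists_prime_orderOf_dvd_card' (G := fixer G T) 2 (by rw [← hs]; omega)
    rw [← Subgroup.orderOf_coe] at hx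
    have hx2 : (x : G) * x = 1 := by
      have := pow_orderOf_eq_one (x : G); rwa [hx, sq] at this
    have h7 := hinv ht3 _ hx2 (hT ▸ Finset.card_le_card fun v hv => mem_fixSet.2 (mem_fixer.1 x.2 v hv))
    rw [h7, orderOf_one] at hx
    omega
  rcases (show t = 1 ∨ t = 2 ∨ t = 3 ∨ 4 ≤ t by omega) with rfl | rfl | rfl | ht4
  · -- `k = 3`
    exfalso
    obtain ⟨heven', -⟩ := Cfsg.Agent.S0735.result G hh1 (by omega)
    have hodd : Odd (Nat.card G) := by
      rw [← Nat.not_even_iff_odd]
      exact fun h => hnt (heven' h)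
    obtain ⟨A, hAT⟩ : ∃ A : Set.powersetCard α 2, True := ⟨⟨T₀, hT₀⟩, trivial⟩
    have hst : stabilizer G A = ⊥ := by
      rw [Subgroup.eq_bot_iff_forall]
      intro g hg
      have hgA : (A : Finset α).image (fun x => g • x) = (A : Finset α) := congrArg Subtype.val hg
      obtain ⟨a, b, hab, hAe⟩ := Finset.card_eq_two.1 A.2
      have hsq : g * g = 1 := by
        refine hP _ (le_of_eq_of_le (Finset.card_pair hab).symm (Finset.card_le_card fun x hx => ?_))
        rw [mem_fixSet, mul_smul]
        rw [hAe] at hgA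
        have ha : g • a ∈ ({a, b} : Finset α) := by rw [← hgA]; simp
        have hb : g • b ∈ ({a, b} : Finset α) := by rw [← hgA]; simp
        simp only [Finset.mem_insert, Finset.mem_singleton] at ha hb hx
        rcases hx with rfl | rfl
        · rcases ha with h1 | h1
          · rw [h1, h1]
          · rw [h1]
            rcases hb with h2 | h2
            · exact h2
            · exact absurd (MulAction.injective g (h1.trans h2.symm)) hab
        · rcases hb with h1 | h1
          · rw [h1]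
            rcases ha with h2 | h2
            · exact absurd (MulAction.injective g (h2.trans h1.symm)) hab
            · exact h2
          · rw [h1, h1]
      by_contra hg1
      have h2 : orderOf g = 2 := orderOf_eq_prime (by rw [sq, hsq]) hg1
      exact hodd.not_two_dvd_nat (h2 ▸ orderOf_dvd_natCard g)
    have h1 := (stabilizer G A).card_mul_index
    rw [hst, Subgroup.card_bot, one_mul] at h1
    have h2 := index_stabilizer_of_transitive (G := G) A
    rw [Set.powersetCard.card, Nat.card_eq_fintype_card, hst] at h2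
    rw [← h1, h2] at hdvd2 hodd
    have h3 := Nat.le_of_dvd (Nat.choose_pos (by omega)) hdvd2
    have h4 := Nat.choose_succ_right_eq (Fintype.card α) 2
    have h5 : 0 < (Fintype.card α).choose 2 := Nat.choose_pos (by omega)
    have h6 : (Fintype.card α).choose 2 * (Fintype.card α - 2) ≤ (Fintype.card α).choose 2 * 3 := by
      rw [← h4]; exact Nat.mul_le_mul_right 3 h3
    have h7 := Nat.le_of_mul_le_mul_left h6 h5
    rcases (show Fintype.card α = 4 ∨ Fintype.card α = 5 by omega) with h8 | h8 <;>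
      rw [h8] at hodd <;> revert hodd <;> decide
  · -- `k = 4`
    obtain ⟨r, hr⟩ := hsdvd
    obtain ⟨m, hm⟩ : ∃ m, Fintype.card α = m + 4 := ⟨Fintype.card α - 4, by omega⟩
    have hr' : m + 2 = s * r := by omega
    have hr2 : 2 ≤ r := by
      rcases r with _ | _ | r
      · omega
      · exfalso; apply hsne; omega
      · omega
    have h1 : (Fintype.card α).descFactorial 4 ∣ 24 * Nat.card G := by
      rw [Nat.descFactorial_eq_factorial_mul_choose]
      exact Nat.mul_dvd_mul dvd_rfl hdvd2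
    have h1' : (Fintype.card α).descFactorial 3 ∣ 6 * Nat.card G := by
      rw [Nat.descFactorial_eq_factorial_mul_choose]
      exact Nat.mul_dvd_mul dvd_rfl hdvd1
    rw [hcard, hm] at h1 h1'
    have e2 : (m + 4).descFactorial 2 = (m + 4) * (m + 3) := by simp [Nat.descFactorial]; ring
    have e3 : (m + 4).descFactorial 3 = (m + 4) * (m + 3) * (m + 2) := by
      simp [Nat.descFactorial]; ring
    have e4 : (m + 4).descFactorial 4 = (m + 4) * (m + 3) * ((m + 2) * (m + 1)) := by
      simp [Nat.descFactorial]; ring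
    rw [e4, e2, show 24 * ((m + 4) * (m + 3) * s) = (m + 4) * (m + 3) * (24 * s) by ring] at h1
    rw [e3, e2, show 6 * ((m + 4) * (m + 3) * s) = (m + 4) * (m + 3) * (6 * s) by ring] at h1'
    have h3 := Nat.dvd_of_mul_dvd_mul_left (by positivity) h1
    rw [hr', mul_comm 24 s, mul_assoc] at h3
    have h24 := Nat.dvd_of_mul_dvd_mul_left hspos h3
    have h3' := Nat.dvd_of_mul_dvd_mul_left (by positivity) h1'
    rw [hr', mul_comm 6 s] at h3'
    have h6 := Nat.dvd_of_mul_dvd_mul_left hspos h3'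
    have hr6 : r ≤ 6 := Nat.le_of_dvd (by norm_num) h6
    have hm24 : m + 1 ≤ 24 := Nat.le_of_dvd (by norm_num) ((dvd_mul_left (m + 1) r).trans h24)
    have h4' : (m = 1 ∧ r = 3) ∨ (m = 2 ∧ r = 2) ∨ (m = 7 ∧ r = 3) :=
      arith_two ⟨m, by omega⟩ ⟨r, by omega⟩ ⟨by show 1 ≤ m; omega, hr2, Nat.mod_eq_zero_of_dvd h24,
        by show (m + 2) % r = 0; rw [hr']; simp, Nat.mod_eq_zero_of_dvd h6⟩
    rcases h4' with ⟨rfl, rfl⟩ | ⟨rfl, rfl⟩ | ⟨rfl, rfl⟩
    · refine Or.inl ⟨hm, rfl, ?_⟩
      rw [hcard, hm, show s = 1 by omega]; decide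
    · exact absurd (no_six hm hh1 hP (by rw [hcard, hm, show s = 2 by omega]; decide) hT
        (by rw [← hs]; omega)) (fun h => h)
    · exfalso
      have hL := card_eq_descFactorial_mul (k := 0) (by omega) (hG.mono (Nat.zero_le _))
        (T := (∅ : Finset α)) rfl
      rw [hcard, hm, show s = 3 by omega] at hL
      rw [show Nat.descFactorial (7 + 4) 2 = 110 by decide, show Nat.descFactorial (7 + 4) 0 = 1 by decide] at hL
      exact no_normal_sylow (k := 2) (p := 3) (q := 11) (m := 30) (by norm_num) (by norm_num) hP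
        (Finset.empty_subset T) hT (by omega) (by norm_num) (by rw [← hs]; omega) (by omega)
        (by norm_num) (by decide +kernel) (by decide +kernel)
  · -- `k = 5`
    obtain ⟨r, hr⟩ := hsdvd
    obtain ⟨m, hm⟩ : ∃ m, Fintype.card α = m + 5 := ⟨Fintype.card α - 5, by omega⟩
    have hr' : m + 2 = s * r := by omega
    have hr2 : 2 ≤ r := by
      rcases r with _ | _ | r
      · omega
      · exfalso; apply hsne; omega
      · omega
    have h1 : (Fintype.card α).descFactorial 5 ∣ 120 * Nat.card G := by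
      rw [Nat.descFactorial_eq_factorial_mul_choose]
      exact Nat.mul_dvd_mul dvd_rfl hdvd2
    have h1' : (Fintype.card α).descFactorial 4 ∣ 24 * Nat.card G := by
      rw [Nat.descFactorial_eq_factorial_mul_choose]
      exact Nat.mul_dvd_mul dvd_rfl hdvd1
    rw [hcard, hm] at h1 h1'
    have e3 : (m + 5).descFactorial 3 = (m + 5) * (m + 4) * (m + 3) := by
      simp [Nat.descFactorial]; ring
    have e4 : (m + 5).descFactorial 4 = (m + 5) * (m + 4) * (m + 3) * (m + 2) := by
      simp [Nat.descFactorial]; ring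
    have e5 : (m + 5).descFactorial 5 = (m + 5) * (m + 4) * (m + 3) * ((m + 2) * (m + 1)) := by
      simp [Nat.descFactorial]; ring
    rw [e5, e3, show 120 * ((m + 5) * (m + 4) * (m + 3) * s) =
      (m + 5) * (m + 4) * (m + 3) * (120 * s) by ring] at h1
    rw [e4, e3, show 24 * ((m + 5) * (m + 4) * (m + 3) * s) =
      (m + 5) * (m + 4) * (m + 3) * (24 * s) by ring] at h1'
    have h3 := Nat.dvd_of_mul_dvd_mul_left (by positivity) h1
    rw [hr', mul_comm 120 s, mul_assoc] at h3
    have h120 := Nat.dvd_of_mul_dvd_mul_left hspos h3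
    have h3' := Nat.dvd_of_mul_dvd_mul_left (by positivity) h1'
    rw [hr', mul_comm 24 s] at h3'
    have h24 := Nat.dvd_of_mul_dvd_mul_left hspos h3'
    have hr24 : r ≤ 24 := Nat.le_of_dvd (by norm_num) h24
    have hm120 : m ≤ 60 := by
      have h5 := Nat.le_of_dvd (by norm_num) h120
      nlinarith
    have h4' : (m = 1 ∧ r = 3) ∨ (m = 2 ∧ r = 4) ∨ (m = 4 ∧ r = 2) ∨ (m = 4 ∧ r = 6) ∨
        (m = 7 ∧ r = 3) ∨ (m = 19 ∧ r = 3) :=
      arith_three ⟨m, by omega⟩ ⟨r, by omega⟩ ⟨by show 1 ≤ m; omega, hr2, Nat.mod_eq_zero_of_dvd h120,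
        by show (m + 2) % r = 0; rw [hr']; simp, Nat.mod_eq_zero_of_dvd h24,
        by show (m + 2) / r % 2 = 1; rw [hr', Nat.mul_div_cancel _ (by omega)]; exact hsodd le_rfl⟩
    obtain ⟨a, ha⟩ := Finset.card_pos.1 (show 0 < T.card by omega)
    have ha' : (T.erase a).card = 2 := by rw [Finset.card_erase_of_mem ha, hT]
    have hL2 := card_eq_descFactorial_mul (k := 2) (by omega) (hG.mono (by norm_num)) ha'
    have hL1 := card_eq_descFactorial_mul (k := 1) (by omega) (hG.mono (by norm_num))
      (T := {a}) (Finset.card_singleton a)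
    rcases h4' with ⟨rfl, rfl⟩ | ⟨rfl, rfl⟩ | ⟨rfl, rfl⟩ | ⟨rfl, rfl⟩ | ⟨rfl, rfl⟩ | ⟨rfl, rfl⟩
    · refine Or.inr (Or.inl ⟨hm, rfl, ?_⟩)
      rw [hcard, hm, show s = 1 by omega]; decide
    · exfalso
      rw [hcard, hm, show s = 1 by omega, show Nat.descFactorial (2 + 5) 3 = 210 by decide,
        show Nat.descFactorial (2 + 5) 1 = 7 by decide] at hL1
      refine no_seven G hm (fun g hg => ?_) (a := a) (by omega)
      have h1 : fixer G T = ⊥ := Subgroup.eq_bot_of_card_eq _ (by rw [← hs]; omega)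
      obtain ⟨T', hT'sub, hT'⟩ := Finset.exists_subset_card_eq (n := 3) hg
      have h2 : g ∈ fixer G T' := mem_fixer.2 fun v hv => mem_fixSet.1 (hT'sub hv)
      have h4 : fixer G T' = ⊥ := Subgroup.eq_bot_of_card_eq _
        (by rw [← hG.card_fixer_eq hT.le (hT.trans hT'.symm), ← hs]; omega)
      rwa [h4, Subgroup.mem_bot] at h2
    · refine Or.inr (Or.inr ⟨hm, rfl, Or.inr ?_⟩)
      rw [hcard, hm, show s = 3 by omega]; decide
    · refine Or.inr (Or.inr ⟨hm, rfl, Or.inl ?_⟩)
      rw [hcard, hm, show s = 1 by omega]; decide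
    · exfalso
      rw [hcard, hm, show s = 3 by omega, show Nat.descFactorial (7 + 5) 3 = 1320 by decide,
        show Nat.descFactorial (7 + 5) 1 = 12 by decide] at hL1
      exact no_normal_sylow (k := 3) (p := 3) (q := 11) (m := 30) (by norm_num) (by norm_num) hP
        (Finset.singleton_subset_iff.2 ha) hT (by omega) (by norm_num) (by rw [← hs]; omega) (by omega)
        (by norm_num) (by decide +kernel) (by decide +kernel)
    · exfalso
      rw [hcard, hm, show s = 7 by omega, show Nat.descFactorial (19 + 5) 3 = 12144 by decide,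
        show Nat.descFactorial (19 + 5) 2 = 552 by decide] at hL2
      exact no_normal_sylow (k := 3) (p := 7) (q := 11) (m := 14) (by norm_num) (by norm_num) hP
        (Finset.erase_subset a T) hT (by omega) (by norm_num) (by rw [← hs]; omega) (by omega)
        (by norm_num) (by decide +kernel) (by decide +kernel)
  · -- `k ≥ 6`
    exfalso
    have hP2 := hinv (by omega)
    have hn7 := card_le_of_odd_stabilizer ht4 (by omega) hG hP hP2
    by_cases hsmall : Fintype.card α - t < 3 * s
    · have halt : ∀ Δ : Finset α, Δ.card = t + 1 → AltFull G Δ := fun Δ hΔ =>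
        altFull_of_two (by omega) hG (fun T' hT' => two_of_card hP hT'
          (by rw [hG.card_fixer_eq hT'.le (hT'.trans hT.symm), ← hs]; exact hsmall)) hΔ
      obtain ⟨z, hz1, hz, hzf⟩ := exists_fixing_involution (α := α) (k := t) (by omega) (by omega) hG
      have hfk : (fixSet z : Finset α).card < t - 1 := by
        by_contra h
        exact hnoFull (full_of_involution (j := t + 1) (by omega) halt hz1 hz (by omega))
      rcases eq_or_lt_of_le ht4 with h4 | h5
      · subst h4
        exact hnoFull (exists_full_five (by omega) hG halt)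
      · have := involution_fix_parity (α := α) hz
        exact hnoFull (full_of_three_pairs (by omega) halt hz (by omega) (by omega))
    · have hs1 : s = 1 := by
        have := hsodd (by omega)
        omega
      have hsharp : ∀ x : Fin t ↪ α, stabilizer G x = ⊥ := by
        intro x
        rw [Subgroup.eq_bot_iff_forall]
        intro g hg
        have h1 : fixer G (Finset.univ.map x) = ⊥ := Subgroup.eq_bot_of_card_eq _ (by
          rw [← hG.card_fixer_eq hT.le (hT.trans (by simp)), ← hs, hs1])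
        have h2 : g ∈ fixer G (Finset.univ.map x) := mem_fixer.2 fun v hv => by
          obtain ⟨i, -, rfl⟩ := Finset.mem_map.1 hv
          exact DFunLike.congr_fun (show g • x = x from hg) i
        rwa [h1, Subgroup.mem_bot] at h2
      rcases (show t = 4 ∨ t = 5 ∨ 6 ≤ t by omega) with rfl | rfl | h6
      · have := H91.jordan_four ht hsharp (by omega)
        rw [show Fintype.card α = 11 by omega] at hdvd1 hcard
        rw [hcard, hs1] at hdvd1
        revert hdvd1; decide +kernel
      · have := H91.jordan_five ht hsharp (by omega)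
        rw [show Fintype.card α = 12 by omega] at hdvd1 hcard
        rw [hcard, hs1] at hdvd1
        revert hdvd1; decide +kernel
      · have := H91.jordan_k t h6 ht hsharp (by omega)
        omega

end Cfsg.Agent.S0745
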