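import Cfsg.Statements.S0748
import Cfsg.Agent.H59.LW.Homog
import Cfsg.Agent.H59.LW.Five

set_option autoImplicit false
open Cfsg

namespace Cfsg.Agent.S0748

/-- The Livingstone–Wagner Theorem: a `k`-homogeneous permutation group of degree `n` with `10 ≤ 2k ≤ n` is `k`-transitive. -/
theorem result {α : Type*} [Fintype α] [DecidableEq α] (G : Subgroup (Equiv.Perm α)) {k : ℕ} (hk : 5 ≤ k) (hkn : 2 * k ≤ Fintype.card α) (hh : MulAction.IsPretransitive G (Set.powersetCard α k)) : MulAction.IsMultiplyPretransitive G α k := by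
  classical
  have hG : H59.LW.Trans G α (k - 1) := H59.LW.trans_pred k (by omega) G hkn hh
  refine H59.LW.multiply_of_trans ?_
  obtain ⟨Δ₀, hΔ₀, halt₀⟩ := H59.LW.exists_altFull (Fintype.card α) G (k := k - 1) rfl (by omega) (by omega) hG
  have hΔ₀' : Δ₀.card = k := by omega
  have halt : ∀ Δ : Finset α, Δ.card = k → H59.LW.AltFull G Δ := fun Δ hΔ =>
    H59.LW.altFull_of_homog hh hΔ₀' hΔ halt₀
  by_contra hnt
  have hno : ¬ ∃ Δ : Finset α, Δ.card = k ∧ H59.LW.Full G Δ := fun ⟨Δ, h1, h2⟩ =>
    hnt (H59.LW.trans_of_full hh (by omega) h1 h2)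
  by_cases hk5 : k = 5
  · subst hk5
    exact hno (H59.LW.exists_full_five (by omega) hG halt)
  have hfix : ∀ g : G, g * g = 1 → k - 2 ≤ (H59.LW.fixSet g : Finset α).card → g = 1 := fun g hg hf =>
    by_contra fun h => hno (H59.LW.full_of_involution (j := k) (by omega) halt h hg hf)
  obtain ⟨z, hz1, hz, hzf⟩ :=
    H59.LW.exists_fixing_involution (α := α) (k := k - 1) (by omega) (by omega) hG
  have hfk : (H59.LW.fixSet z : Finset α).card < k - 2 := by
    by_contra h
    exact hz1 (hfix z hz (not_lt.1 h))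
  -- six fewer fixed points and three cycles
  obtain ⟨E, hEsub, hE⟩ := Finset.exists_subset_card_eq (s := (H59.LW.fixSet z : Finset α)) (n := k - 6)
    (by omega)
  have hzz : ∀ w : α, z • z • w = w := fun w => by rw [← mul_smul, hz, one_smul]
  have hpick : ∀ S : Finset α, S.card + 1 ≤ Fintype.card α - (H59.LW.fixSet z : Finset α).card →
      ∃ a : α, z • a ≠ a ∧ a ∉ S := by
    intro S hS
    by_contra hcon
    push Not at hcon
    have h1 : (H59.LW.fixSet z : Finset α)ᶜ ⊆ S := fun a ha =>
      hcon a fun e => (Finset.mem_compl.1 ha) (H59.LW.mem_fixSet.2 e)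
    have h2 := Finset.card_le_card h1
    rw [Finset.card_compl] at h2
    omega
  obtain ⟨a, ha, -⟩ := hpick ∅ (by rw [Finset.card_empty]; omega)
  obtain ⟨b, hb, hbS⟩ := hpick {a, z • a} (by
    have := Finset.card_le_two (a := a) (b := z • a); omega)
  obtain ⟨c, hc, hcS⟩ := hpick {a, z • a, b, z • b} (by
    have := Finset.card_le_four (a := a) (b := z • a) (c := b) (d := z • b); omega)
  simp only [Finset.mem_insert, Finset.mem_singleton, not_or] at hbS hcS
  obtain ⟨hba, hbza⟩ := hbS
  obtain ⟨hca, hcza, hcb, hczb⟩ := hcS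
  replace hba : b ≠ a := hba
  replace hbza : b ≠ z • a := hbza
  replace hca : c ≠ a := hca
  replace hcza : c ≠ z • a := hcza
  replace hcb : c ≠ b := hcb
  replace hczb : c ≠ z • b := hczb
  have hza : z • z • a ≠ z • a := fun h => ha (MulAction.injective z h)
  have hzba : z • b ≠ a := fun h => hbza (by rw [← h, hzz])
  have hzbza : z • b ≠ z • a := fun h => hba (MulAction.injective z h)
  have hzca : z • c ≠ a := fun h => hcza (by rw [← h, hzz])
  have hzcza : z • c ≠ z • a := fun h => hca (MulAction.injective z h)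
  have hzcb : z • c ≠ b := fun h => hczb (by rw [← h, hzz])
  have hzczb : z • c ≠ z • b := fun h => hcb (MulAction.injective z h)
  obtain ⟨M, hM⟩ : ∃ M : Finset α, M = {a, z • a, b, z • b, c, z • c} := ⟨_, rfl⟩
  have hMcard : M.card = 6 := by
    rw [hM, Finset.card_insert_of_notMem, Finset.card_insert_of_notMem, Finset.card_insert_of_notMem,
      Finset.card_insert_of_notMem, Finset.card_pair hc.symm]
    · simp [hczb.symm, hzczb.symm]
    · simp [hb.symm, hcb.symm, hzcb.symm]
    · simp [hbza.symm, hzbza.symm, hcza.symm, hzcza.symm]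
    · simp [ha.symm, hba.symm, hzba.symm, hca.symm, hzca.symm]
  have hMmove : ∀ w ∈ M, z • w ≠ w := by
    intro w hw
    rw [hM] at hw
    simp only [Finset.mem_insert, Finset.mem_singleton] at hw
    rcases hw with rfl | rfl | rfl | rfl | rfl | rfl
    exacts [ha, hza, hb, fun h => hb (MulAction.injective z h), hc, fun h => hc (MulAction.injective z h)]
  have hd : Disjoint E M := Finset.disjoint_left.2 fun w hwE hwM =>
    hMmove w hwM (H59.LW.mem_fixSet.1 (hEsub hwE))
  have hcard : (E ∪ M).card = k := by rw [Finset.card_union_of_disjoint hd, hE, hMcard]; omega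
  refine hno ⟨E ∪ M, hcard, H59.LW.full_of_alt_odd (halt _ hcard)
    (τ := Equiv.swap a (z • a) * Equiv.swap b (z • b) * Equiv.swap c (z • c))
    ⟨fun w hw => ?_, z, fun w hw => ?_⟩ ?_⟩
  · rw [Finset.mem_union, hM] at hw
    simp only [Finset.mem_insert, Finset.mem_singleton, not_or] at hw
    obtain ⟨-, w1, w2, w3, w4, w5, w6⟩ := hw
    simp [Equiv.Perm.mul_apply, Equiv.swap_apply_of_ne_of_ne, w1, w2, w3, w4, w5, w6]
  · rcases Finset.mem_union.1 hw with hw | hw
    · have hne : ∀ v ∈ M, w ≠ v := fun v hv h => Finset.disjoint_left.1 hd hw (h ▸ hv)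
      rw [H59.LW.mem_fixSet.1 (hEsub hw)]
      rw [hM] at hne
      simp [Equiv.Perm.mul_apply, Equiv.swap_apply_of_ne_of_ne, hne]
    · rw [hM] at hw
      simp only [Finset.mem_insert, Finset.mem_singleton] at hw
      rcases hw with rfl | rfl | rfl | rfl | rfl | rfl <;>
        simp [Equiv.Perm.mul_apply, Equiv.swap_apply_left, Equiv.swap_apply_right,
          Equiv.swap_apply_of_ne_of_ne, hzz, ha, hb, hc, hba, hba.symm, hbza, hbza.symm, hca, hca.symm, hcza,
          hcza.symm, hcb, hcb.symm, hczb, hczb.symm, hzba, hzba.symm, hzbza, hzbza.symm, hzca, hzca.symm,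
          hzcza, hzcza.symm, hzcb, hzcb.symm, hzczb, hzczb.symm]
  · rw [Equiv.Perm.sign_mul, Equiv.Perm.sign_mul, Equiv.Perm.sign_swap ha.symm,
      Equiv.Perm.sign_swap hb.symm, Equiv.Perm.sign_swap hc.symm]
    rfl

end Cfsg.Agent.S0748
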