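import Cfsg.Statements.S0749
import Cfsg.Agent.H38.Witt

set_option autoImplicit false
open Cfsg

namespace Cfsg.Agent.S0749

/-- Witt's Lemma for alternating forms. If B is a non-degenerate alternating bilinear form on a finite-dimensional vector space V (over any field) and φ is a linear equivalence between subspaces X and Y of V preserving B, then φ extends to a B-preserving linear automorphism of V. -/
theorem result {F V : Type*} [Field F] [AddCommGroup V] [Module F V] [FiniteDimensional F V] (B : LinearMap.BilinForm F V) (hB : B.Nondegenerate) (hA : B.IsAlt) (X Y : Submodule F V) (φ : X ≃ₗ[F] Y) (hφ : ∀ x x' : X, B (φ x : V) (φ x' : V) = B (x : V) (x' : V)) : ∃ g : V ≃ₗ[F] V, (∀ u v : V, B (g u) (g v) = B u v) ∧ ∀ x : X, g (x : V) = (φ x : V) := by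
  obtain ⟨g, hg, hgf⟩ := H38.witt_pmap B Function.surjective_id hB.1
    (fun x y h => by
      have := LinearMap.IsAlt.neg hA x y
      rw [h, neg_zero] at this
      exact this.symm) (fun a => -a) (fun x y => (LinearMap.IsAlt.neg hA x y).symm)
    (fun W W' hW hW' => by
      obtain ⟨a, ha, b, hb, hab⟩ := hW
      obtain ⟨a', ha', b', hb', hab'⟩ := hW'
      exact ⟨a, ha, fun h => hab (by simp [h]), a', ha', fun h => hab' (by simp [h]),
        by rw [hA a, hA a']⟩)
    (fun r y _ _ => ⟨0, hA _⟩)
    ⟨X, Y.subtype.comp φ.toLinearMap⟩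
    (fun x hx => φ.injective (Subtype.ext (by simpa using hx)))
    (fun x y => hφ x y)
  exact ⟨g, hg, hgf⟩

end Cfsg.Agent.S0749
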