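import Cfsg.Statements.S0757
import Cfsg.Agent.H43.Forms

set_option autoImplicit false
open Cfsg

namespace Cfsg.Agent.S0757

/-- The two diagonal forms Σ x_i^2 and Σ_(i<n) x_i^2 + α x_n^2 on F^(n+1), with α a non-square and 2 ≠ 0 in F, are inequivalent quadratic forms (so over a finite field of odd order there are exactly two classes of non-singular symmetric bilinear forms in each dimension). -/
theorem result {F : Type*} [Field F] (h2 : (2 : F) ≠ 0) (n : ℕ) (α : F) (hα : ¬ IsSquare α) : ¬ (QuadraticMap.weightedSumSquares F (fun _ : Fin (n + 1) => (1 : F))).Equivalent (QuadraticMap.weightedSumSquares F (fun i : Fin (n + 1) => if i = Fin.last n then α else (1 : F))) := by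
  rintro ⟨f⟩
  set w : Fin (n + 1) → F := fun i => if i = Fin.last n then α else 1 with hw
  have h := H43.gram_det_comp (QuadraticMap.weightedSumSquares F (fun _ : Fin (n + 1) => (1 : F)))
    (QuadraticMap.weightedSumSquares F w) (f.toLinearEquiv : (Fin (n + 1) → F) →ₗ[F] (Fin (n + 1) → F))
    (fun v => f.map_app v)
  rw [H43.gram_weightedSumSquares, H43.gram_weightedSumSquares, Matrix.det_diagonal,
    Matrix.det_diagonal, Finset.prod_mul_distrib, Finset.prod_mul_distrib, Finset.prod_const_one,
    mul_one, Finset.prod_const, Finset.card_univ, Fintype.card_fin,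
    show (∏ i, w i) = α by simp [hw, Finset.prod_ite_eq']] at h
  set d := LinearMap.det (f.toLinearEquiv : (Fin (n + 1) → F) →ₗ[F] (Fin (n + 1) → F))
  have hd : d * d * α = 1 := mul_left_cancel₀ (pow_ne_zero (n + 1) h2) (by rw [mul_one]; linear_combination -h)
  have hd0 : d ≠ 0 := by
    intro h0
    rw [h0, mul_zero, zero_mul] at hd
    exact zero_ne_one hd
  exact hα ⟨d⁻¹, by field_simp; linear_combination hd⟩

end Cfsg.Agent.S0757
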