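import Cfsg.Statements.S0758
-- import your own Cfsg.Agent.* helpers here

set_option autoImplicit false
open Cfsg

namespace Cfsg.Agent.S0758

/-- For a finite field F of odd order q and a non-square α: the form x² + y² is isotropic iff q ≡ 1 mod 4, and the form x² + α y² is isotropic iff q ≡ 3 mod 4. -/
theorem result {F : Type*} [Field F] [Fintype F] (h2 : (2 : F) ≠ 0) (α : F) (hα : ¬ IsSquare α) : ((∃ x y : F, (x ≠ 0 ∨ y ≠ 0) ∧ x ^ 2 + y ^ 2 = 0) ↔ Fintype.card F % 4 = 1) ∧ ((∃ x y : F, (x ≠ 0 ∨ y ≠ 0) ∧ x ^ 2 + α * y ^ 2 = 0) ↔ Fintype.card F % 4 = 3) := by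
  classical
  have hchar : ringChar F ≠ 2 := by
    intro h
    have : CharP F 2 := ringChar.of_eq h
    exact h2 (CharTwo.two_eq_zero)
  have hodd : Fintype.card F % 2 = 1 := FiniteField.odd_card_of_char_ne_two hchar
  have hiff : IsSquare (-1 : F) ↔ Fintype.card F % 4 = 1 := by
    rw [FiniteField.isSquare_neg_one_iff]; omega
  have key : ∀ c : F, c ≠ 0 →
      ((∃ x y : F, (x ≠ 0 ∨ y ≠ 0) ∧ x ^ 2 + c * y ^ 2 = 0) ↔ IsSquare (-c)) := by
    intro c hc
    constructor
    · rintro ⟨x, y, hne, h⟩
      have hy : y ≠ 0 := by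
        rintro rfl
        simp at h
        simp [h] at hne
      exact ⟨x / y, by field_simp; linear_combination -h⟩
    · rintro ⟨r, hr⟩
      exact ⟨r, 1, Or.inr one_ne_zero, by linear_combination -hr⟩
  have hα0 : α ≠ 0 := by rintro rfl; exact hα ⟨0, by simp⟩
  constructor
  · have := key 1 one_ne_zero
    simp only [one_mul] at this
    rw [this, hiff]
  · rw [key α hα0]
    constructor
    · intro hs
      by_contra h3
      have h1 : IsSquare (-1 : F) := hiff.mpr (by omega)
      apply hα
      have := h1.mul hs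
      simpa using this
    · intro h3
      have hn : ¬ IsSquare (-1 : F) := by rw [hiff]; omega
      have e1 : quadraticChar F α = -1 := quadraticChar_neg_one_iff_not_isSquare.mpr hα
      have e2 : quadraticChar F (-1) = -1 := quadraticChar_neg_one_iff_not_isSquare.mpr hn
      have e3 : quadraticChar F (-α) = 1 := by
        rw [show -α = (-1) * α by ring, map_mul, e1, e2]; norm_num
      exact (quadraticChar_one_iff_isSquare (neg_ne_zero.mpr hα0)).mp e3

end Cfsg.Agent.S0758
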