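import Cfsg.Statements.S0759
import Cfsg.Agent.H38.SumSquares

set_option autoImplicit false
open Cfsg

namespace Cfsg.Agent.S0759

/-- Type of the orthonormal form: over a finite field of odd order q and for m ≥ 1, the quadratic form Σ_(i<2m) x_i² on F^(2m) admits an m-dimensional subspace on which it vanishes identically if and only if it is not the case that q ≡ 3 (mod 4) and m is odd. -/
theorem result {F : Type*} [Field F] [Fintype F] (h2 : (2 : F) ≠ 0) (m : ℕ) (hm : 1 ≤ m) : (∃ W : Submodule F (Fin (2 * m) → F), Module.finrank F W = m ∧ ∀ w ∈ W, ∑ i, w i ^ 2 = 0) ↔ ¬ (Fintype.card F % 4 = 3 ∧ Odd m) := by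
  classical
  have hchar : ringChar F ≠ 2 := by
    intro h
    have : CharP F 2 := ringChar.of_eq h
    exact h2 (CharTwo.two_eq_zero)
  have hodd : Fintype.card F % 2 = 1 := FiniteField.odd_card_of_char_ne_two hchar
  constructor
  · rintro ⟨W, hW, hiso⟩ ⟨h3, hm'⟩
    have := H38.isSquare_of_halfIso (by omega) h2 W hW hiso
    rw [hm'.neg_one_pow, FiniteField.isSquare_neg_one_iff] at this
    exact this h3
  · intro hnot
    let e : Fin m ⊕ Fin m ≃ Fin (2 * m) := finSumFinEquiv.trans (finCongr (by omega))
    rcases em (Fintype.card F % 4 = 3) with h3 | h3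
    · have hev : Even m := Nat.not_odd_iff_even.mp fun h => hnot ⟨h3, h⟩
      obtain ⟨r, rfl⟩ := hev
      obtain ⟨a, b, hab⟩ := H38.exists_sq_add_sq_neg_one hodd
      let f : Fin r ⊕ Fin r ≃ Fin (r + r) := finSumFinEquiv
      let A : Matrix (Fin r ⊕ Fin r) (Fin r ⊕ Fin r) F :=
        Matrix.fromBlocks (a • 1) (b • 1) (-(b • 1)) (a • 1)
      obtain ⟨W, hW, hW'⟩ := H38.halfIso_of_skewRoot ((f.sumCongr f).trans e) A (by
        simp only [A, Matrix.fromBlocks_transpose, Matrix.fromBlocks_multiply, Matrix.transpose_smul,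
          Matrix.transpose_neg, Matrix.transpose_one]
        rw [← Matrix.fromBlocks_one, Matrix.fromBlocks_neg, Matrix.fromBlocks_inj]
        simp only [Matrix.smul_mul, Matrix.mul_smul, Matrix.one_mul, Matrix.neg_mul, Matrix.mul_neg,
          smul_neg, neg_neg, smul_smul, neg_zero]
        refine ⟨?_, ?_, ?_, ?_⟩
        · rw [← add_smul, show a * a + b * b = -1 by linear_combination hab, neg_smul, one_smul]
        · rw [mul_comm b a, add_neg_cancel]
        · rw [mul_comm b a, add_neg_cancel]
        · rw [← add_smul, show b * b + a * a = -1 by linear_combination hab, neg_smul, one_smul])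
      exact ⟨W, by simpa using hW, hW'⟩
    · obtain ⟨i, hi⟩ := FiniteField.isSquare_neg_one_iff.mpr h3
      obtain ⟨W, hW, hW'⟩ := H38.halfIso_of_skewRoot e (i • (1 : Matrix (Fin m) (Fin m) F)) (by
        rw [Matrix.transpose_smul, Matrix.transpose_one, Matrix.smul_mul, Matrix.one_mul, smul_smul,
          ← hi, neg_smul, one_smul])
      exact ⟨W, by simpa using hW, hW'⟩

end Cfsg.Agent.S0759
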