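import Cfsg.Statements.S0761
-- import your own Cfsg.Agent.* helpers here

set_option autoImplicit false
open Cfsg

namespace Cfsg.Agent.S0761

/-- Hyperbolic partners: let B be a non-degenerate bilinear form on a finite-dimensional space, either alternating, or symmetric with 2 ≠ 0. If Z is a subspace on which B vanishes, x ∉ Z is isotropic and orthogonal to Z, then there is an isotropic y with B x y = 1 which is orthogonal to Z. -/
theorem result {F V : Type*} [Field F] [AddCommGroup V] [Module F V] [FiniteDimensional F V] (B : LinearMap.BilinForm F V) (hB : B.Nondegenerate) (hform : B.IsAlt ∨ (B.IsSymm ∧ (2 : F) ≠ 0)) (x : V) (Z : Submodule F V) (hxZ : x ∉ Z) (hx : B x x = 0) (hxz : ∀ z ∈ Z, B x z = 0) (hZ : ∀ z ∈ Z, ∀ z' ∈ Z, B z z' = 0) : ∃ y : V, B y y = 0 ∧ B x y = 1 ∧ ∀ z ∈ Z, B z y = 0 := by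
  classical
  obtain ⟨g, hgx, hgZ⟩ : ∃ g : Module.Dual F V, g x = 1 ∧ ∀ z ∈ Z, g z = 0 := by
    obtain ⟨g, hg, hgZ⟩ := Submodule.exists_dual_map_eq_bot_of_notMem hxZ inferInstance
    refine ⟨(g x)⁻¹ • g, by simp [hg], fun z hz => ?_⟩
    have : g z ∈ Z.map g := Submodule.mem_map_of_mem hz
    rw [hgZ, Submodule.mem_bot] at this
    simp [this]
  have hinj : Function.Injective (B.flip : V → Module.Dual F V) := by
    rw [← LinearMap.ker_eq_bot, LinearMap.ker_eq_bot']
    exact fun v hv => hB.2 v fun u => LinearMap.congr_fun hv u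
  obtain ⟨y0, hy0⟩ := (LinearMap.injective_iff_surjective_of_finrank_eq_finrank
    (f := B.flip) Subspace.dual_finrank_eq.symm).mp hinj g
  have hy : ∀ u, B u y0 = g u := fun u => by rw [← hy0]; rfl
  rcases hform with halt | ⟨hsymm, h2⟩
  · exact ⟨y0, halt y0, by rw [hy, hgx], fun z hz => by rw [hy, hgZ z hz]⟩
  · refine ⟨y0 - (B y0 y0 / 2) • x, ?_, ?_, fun z hz => ?_⟩
    · have h1 : B x y0 = 1 := by rw [hy, hgx]
      have h1' : B y0 x = 1 := by rw [hsymm.eq, h1]
      simp [hx, h1, h1']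
      field_simp
      ring
    · simp [hx, hy, hgx]
    · simp [hy, hgZ z hz, hsymm.eq z x, hxz z hz]

end Cfsg.Agent.S0761
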