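import Cfsg.Statements.S0763
import Cfsg.Agent.H43.Finite

set_option autoImplicit false
open Cfsg

namespace Cfsg.Agent.S0763

/-- Binary quadratic forms in characteristic two over a finite field: if Q is a quadratic form on a 2-dimensional space whose polar form is non-degenerate, then either there are vectors v, w with Q v = Q w = 0 and polar value 1 (Q is xy in these coordinates), or there are v, w and μ with Q v = 1, Q w = μ, polar value 1 and x² + x + μ without roots in F (Q is x² + xy + μy²). -/
theorem result {F V : Type*} [Field F] [Finite F] [CharP F 2] [AddCommGroup V] [Module F V] (Q : QuadraticForm F V) (h2 : Module.finrank F V = 2) (hQ : (QuadraticMap.polarBilin Q).Nondegenerate) : (∃ v w : V, LinearIndependent F ![v, w] ∧ Q v = 0 ∧ Q w = 0 ∧ QuadraticMap.polar Q v w = 1) ∨ (∃ (v w : V) (μ : F), LinearIndependent F ![v, w] ∧ (∀ x : F, x ^ 2 + x + μ ≠ 0) ∧ Q v = 1 ∧ Q w = μ ∧ QuadraticMap.polar Q v w = 1) := by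
  have h2F : (2 : F) = 0 := CharTwo.two_eq_zero
  by_cases hiso : ∃ c : V, c ≠ 0 ∧ Q c = 0
  · obtain ⟨c, hc0, hc⟩ := hiso
    haveI : FiniteDimensional F V := Module.finite_of_finrank_eq_succ (n := 1) h2
    obtain ⟨c', hp⟩ := H43.exists_hypPair hQ hc hc0
    exact Or.inl ⟨c, c', hp.linearIndependent, hp.left, hp.right, hp.pair⟩
  · push Not at hiso
    haveI : Nontrivial V := Module.nontrivial_of_finrank_pos (R := F) (by omega)
    obtain ⟨v₀, hv₀⟩ := exists_ne (0 : V)
    obtain ⟨r, hr⟩ := H43.isSquare_of_two_eq_zero h2F (1 / Q v₀)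
    have hv : Q (r • v₀) = 1 := by rw [H43.qmap_smul, ← hr, div_mul_cancel₀ _ (hiso v₀ hv₀)]
    set v := r • v₀
    have hv0 : v ≠ 0 := fun h => by rw [h, QuadraticMap.map_zero] at hv; exact zero_ne_one hv
    obtain ⟨w, hw⟩ := H43.exists_polB_eq hQ hv0 1
    have hli : LinearIndependent F ![v, w] := by
      rw [LinearIndependent.pair_iff' hv0]
      intro s hs
      rw [← hs, map_smul, H43.polB_self, h2F] at hw
      simp at hw
    refine Or.inr ⟨v, w, Q w, hli, fun x hx => ?_, hv, rfl, hw⟩
    refine hiso (x • v + w) (fun h => ?_) ?_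
    · rw [LinearIndependent.pair_iff] at hli
      exact one_ne_zero (hli x 1 (by rw [one_smul]; exact h)).2
    · rw [H43.qmap_add, H43.qmap_smul, show H43.polB Q (x • v) w = x * H43.polB Q v w by simp, hw, hv]
      linear_combination hx

end Cfsg.Agent.S0763
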