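import Cfsg.Statements.S0768
import Cfsg.Agent.H48.Simple
-- import your own Cfsg.Agent.* helpers here

set_option autoImplicit false
open scoped LinearAlgebra.Projectivization
open Cfsg

namespace Cfsg.Agent.S0768

/-- Primitivity: for m ≥ 1 and F finite, the symplectic group of the form sympForm (as a subgroup of the general linear group) acts primitively on the projective space of F^(2m). -/
theorem result {F : Type*} [Field F] [Finite F] (m : ℕ) (hm : 1 ≤ m) : MulAction.IsPreprimitive ↥(Cfsg.spGL m F) (ℙ F (Fin m ⊕ Fin m → F)) := by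
  haveI : Nonempty (Fin m) := ⟨⟨0, by omega⟩⟩
  haveI := H48.preprimitive_points (l := Fin m) (F := F)
  let φ : Matrix.symplecticGroup (Fin m) F →* ↥(Cfsg.spGL m F) :=
    { toFun := fun g => ⟨⟨g.1, (g⁻¹).1, by rw [← Submonoid.coe_mul, mul_inv_cancel]; rfl,
          by rw [← Submonoid.coe_mul, inv_mul_cancel]; rfl⟩, H48.mem_symplectic_iff.1 g.2⟩
      map_one' := Subtype.ext (Units.ext rfl)
      map_mul' := fun g h => Subtype.ext (Units.ext rfl) }
  let f : ℙ F (Fin m ⊕ Fin m → F) →ₑ[φ] ℙ F (Fin m ⊕ Fin m → F) :=
    { toFun := id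
      map_smul' := fun g p => by
        induction p using Projectivization.ind with | _ x hx => rfl }
  exact MulAction.IsPreprimitive.of_surjective (f := f) Function.surjective_id

end Cfsg.Agent.S0768
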