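import Cfsg.Statements.S0769
-- import your own Cfsg.Agent.* helpers here

set_option autoImplicit false
open Cfsg

namespace Cfsg.Agent.S0769

/-- Order of the Borel subgroup of GL_n(q): the invertible lower-triangular n × n matrices over a field with q elements number q^(n(n-1)/2) (q-1)^n (unitriangular part times the diagonal torus). -/
theorem result {F : Type*} [Field F] [Fintype F] {q : ℕ} (hF : Fintype.card F = q) (n : ℕ) : Nat.card {g : Matrix.GeneralLinearGroup (Fin n) F // ∀ i j : Fin n, i < j → (g : Matrix (Fin n) (Fin n) F) i j = 0} = q ^ (n * (n - 1) / 2) * (q - 1) ^ n := by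
  classical
  subst hF
  let T := {g : Matrix.GeneralLinearGroup (Fin n) F //
    ∀ i j : Fin n, i < j → (g : Matrix (Fin n) (Fin n) F) i j = 0}
  let S := {p : Fin n × Fin n // p.2 < p.1}
  let mat : (Fin n → Fˣ) × (S → F) → Matrix (Fin n) (Fin n) F := fun x =>
    Matrix.of fun i j => if h : j < i then x.2 ⟨(i, j), h⟩ else if i = j then (x.1 i : F) else 0
  have hlow : ∀ x i j, i < j → mat x i j = 0 := fun x i j h => by
    simp [mat, not_lt.mpr h.le, h.ne]
  have hdiag : ∀ x i, mat x i i = (x.1 i : F) := fun x i => by simp [mat]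
  have hdetmat : ∀ x, (mat x).det ≠ 0 := fun x => by
    rw [Matrix.det_of_isLowerTriangular (M := mat x) (fun i j h => hlow x i j h)]
    exact Finset.prod_ne_zero_iff.mpr fun i _ => by rw [hdiag]; exact Units.ne_zero _
  have hT : ∀ (g : T) (i : Fin n), (g.1 : Matrix (Fin n) (Fin n) F) i i ≠ 0 := fun g i => by
    have h1 : (g.1 : Matrix (Fin n) (Fin n) F).det ≠ 0 :=
      ((Matrix.isUnit_iff_isUnit_det _).mp g.1.isUnit).ne_zero
    rw [Matrix.det_of_isLowerTriangular (M := (g.1 : Matrix (Fin n) (Fin n) F)) (fun i j h => g.2 i j h),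
      Finset.prod_ne_zero_iff] at h1
    exact h1 i (Finset.mem_univ i)
  let E : T ≃ (Fin n → Fˣ) × (S → F) :=
    { toFun := fun g => (fun i => Units.mk0 _ (hT g i), fun p => (g.1 : Matrix _ _ F) p.1.1 p.1.2)
      invFun := fun x => ⟨Matrix.GeneralLinearGroup.mkOfDetNeZero (mat x) (hdetmat x),
        fun i j h => hlow x i j h⟩
      left_inv := fun g => by
        apply Subtype.ext
        apply Units.ext
        ext i j
        rcases lt_trichotomy i j with h | h | h
        · simp [Matrix.GeneralLinearGroup.mkOfDetNeZero, hlow _ i j h, g.2 i j h]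
        · subst h; simp [Matrix.GeneralLinearGroup.mkOfDetNeZero, hdiag]
        · simp [Matrix.GeneralLinearGroup.mkOfDetNeZero, mat, h]
      right_inv := fun x => by
        refine Prod.ext (funext fun i => Units.ext ?_) (funext fun p => ?_)
        · simp [Matrix.GeneralLinearGroup.mkOfDetNeZero, hdiag]
        · obtain ⟨⟨i, j⟩, h⟩ := p
          have h' : j < i := h
          simp [Matrix.GeneralLinearGroup.mkOfDetNeZero, mat, h'] }
  have hS : Nat.card S = n * (n - 1) / 2 := by
    rw [← Finset.sum_range_id, ← Fin.sum_univ_eq_sum_range (fun i => i) n,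
      Nat.card_congr (β := Σ i : Fin n, {j : Fin n // j < i})
        { toFun := fun p => ⟨p.1.1, p.1.2, p.2⟩
          invFun := fun s => ⟨(s.1, s.2.1), s.2.2⟩
          left_inv := fun p => rfl
          right_inv := fun s => rfl }]
    rw [Nat.card_eq_fintype_card, Fintype.card_sigma]
    refine Finset.sum_congr rfl fun i _ => ?_
    rw [Fintype.card_subtype, ← Fin.card_Iio i]
    congr 1
    ext j; simp
  rw [Nat.card_congr E, Nat.card_prod, Nat.card_fun, Nat.card_fun, hS, Nat.card_units, mul_comm]
  simp [Nat.card_eq_fintype_card]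

end Cfsg.Agent.S0769
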