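import Cfsg.Statements.S0770
-- import your own Cfsg.Agent.* helpers here

set_option autoImplicit false
open Cfsg

namespace Cfsg.Agent.S0770

/-- For a field with at least 3 elements, an invertible matrix normalises the subgroup of invertible diagonal matrices of GL_n if and only if it is monomial (exactly one non-zero entry in each row). -/
theorem result {F : Type*} [Field F] (hF : ∃ a : F, a ≠ 0 ∧ a ≠ 1) (n : ℕ) (g : Matrix.GeneralLinearGroup (Fin n) F) : g ∈ Subgroup.normalizer ((Units.map (Matrix.diagonalRingHom (Fin n) F).toMonoidHom).range : Subgroup (Matrix.GeneralLinearGroup (Fin n) F)) ↔ ∀ i : Fin n, ∃! j : Fin n, (g : Matrix (Fin n) (Fin n) F) i j ≠ 0 := by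
  classical
  set D : Subgroup (Matrix.GeneralLinearGroup (Fin n) F) :=
    (Units.map (Matrix.diagonalRingHom (Fin n) F).toMonoidHom).range
  have hmem : ∀ d : (Fin n → F)ˣ, Units.map (Matrix.diagonalRingHom (Fin n) F).toMonoidHom d ∈ D :=
    fun d => ⟨d, rfl⟩
  have hval : ∀ d : (Fin n → F)ˣ,
      ((Units.map (Matrix.diagonalRingHom (Fin n) F).toMonoidHom d :
        Matrix.GeneralLinearGroup (Fin n) F) : Matrix (Fin n) (Fin n) F) = Matrix.diagonal d :=
    fun d => rfl
  have hdet : (g : Matrix (Fin n) (Fin n) F).det ≠ 0 :=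
    ((Matrix.isUnit_iff_isUnit_det _).mp g.isUnit).ne_zero
  rw [Subgroup.mem_normalizer_iff]
  constructor
  · intro hN i
    obtain ⟨j, hj⟩ : ∃ j, (g : Matrix (Fin n) (Fin n) F) i j ≠ 0 := by
      by_contra h
      push Not at h
      exact hdet (Matrix.det_eq_zero_of_row_eq_zero i h)
    refine ⟨j, hj, fun k hk => ?_⟩
    by_contra hne
    obtain ⟨a, ha0, ha1⟩ := hF
    have hfun : IsUnit (Function.update (1 : Fin n → F) j a) := by
      rw [Pi.isUnit_iff]
      intro l
      rcases eq_or_ne l j with rfl | hl <;> simp [*]
    obtain ⟨d', hd'⟩ := (hN _).mp (hmem hfun.unit)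
    have hm : Units.map (Matrix.diagonalRingHom (Fin n) F).toMonoidHom d' * g =
        g * Units.map (Matrix.diagonalRingHom (Fin n) F).toMonoidHom hfun.unit := by
      rw [hd']; group
    have he := congrArg (fun M : Matrix.GeneralLinearGroup (Fin n) F =>
      (M : Matrix (Fin n) (Fin n) F)) hm
    simp only [Units.val_mul, hval] at he
    have hj' := congrFun (congrFun he i) j
    have hk' := congrFun (congrFun he i) k
    simp [Matrix.diagonal_mul, Matrix.mul_diagonal, hne] at hj' hk'
    have h1 : (d' : Fin n → F) i = 1 := mul_right_cancel₀ hk (by rw [one_mul]; exact hk')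
    rw [h1, one_mul] at hj'
    exact ha1 (mul_left_cancel₀ hj (by rw [mul_one]; exact hj'.symm))
  · intro hmono
    choose σ hσ hσu using hmono
    have hentry : ∀ i j, j ≠ σ i → (g : Matrix (Fin n) (Fin n) F) i j = 0 := fun i j h => by
      by_contra hne
      exact h (hσu i j hne)
    have hinj : Function.Injective σ := by
      intro i i' h
      by_contra hne
      apply hdet
      set M := (g : Matrix (Fin n) (Fin n) F)
      rw [← Matrix.det_updateRow_add_smul_self M hne (-(M i (σ i) / M i' (σ i)))]
      refine Matrix.det_eq_zero_of_row_eq_zero i fun j => ?_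
      rw [Matrix.updateRow_self]
      rcases eq_or_ne j (σ i) with rfl | hj
      · have h' : M i' (σ i) ≠ 0 := by rw [h]; exact hσ i'
        simp
        field_simp
        ring
      · have h2 : M i j = 0 := hentry i j hj
        have h3 : M i' j = 0 := hentry i' j (h ▸ hj)
        simp [h2, h3]
    let e : Fin n ≃ Fin n := Equiv.ofBijective σ (Finite.injective_iff_bijective.mp hinj)
    have he : ∀ d : (Fin n → F), (g : Matrix (Fin n) (Fin n) F) * Matrix.diagonal d =
        Matrix.diagonal (fun i => d (σ i)) * (g : Matrix (Fin n) (Fin n) F) := fun d => by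
      ext i j
      rw [Matrix.mul_diagonal, Matrix.diagonal_mul]
      rcases eq_or_ne j (σ i) with rfl | hj
      · ring
      · rw [hentry i j hj]; ring
    intro h
    constructor
    · rintro ⟨d, rfl⟩
      have hu : IsUnit (fun i => (d : Fin n → F) (σ i)) := by
        rw [Pi.isUnit_iff]
        exact fun i => (Pi.isUnit_iff.mp d.isUnit) (σ i)
      refine ⟨hu.unit, ?_⟩
      rw [eq_mul_inv_iff_mul_eq]
      ext1
      simp only [Units.val_mul, hval]
      exact (he d).symm
    · rintro ⟨d', hd'⟩
      have hu : IsUnit (fun j => (d' : Fin n → F) (e.symm j)) := by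
        rw [Pi.isUnit_iff]
        exact fun j => (Pi.isUnit_iff.mp d'.isUnit) (e.symm j)
      refine ⟨hu.unit, ?_⟩
      have h1 : g * Units.map (Matrix.diagonalRingHom (Fin n) F).toMonoidHom hu.unit =
          Units.map (Matrix.diagonalRingHom (Fin n) F).toMonoidHom d' * g := by
        ext1
        simp only [Units.val_mul, hval, IsUnit.unit_spec]
        rw [he]
        congr 2
        funext i
        show (d' : Fin n → F) (e.symm (e i)) = _
        rw [Equiv.symm_apply_apply]
      apply mul_left_cancel (a := g)
      rw [h1, hd', inv_mul_cancel_right]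

end Cfsg.Agent.S0770
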