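import Cfsg.Statements.S0778
import Cfsg.Agent.H48.Parabolic
-- import your own Cfsg.Agent.* helpers here

set_option autoImplicit false
open Cfsg

namespace Cfsg.Agent.S0778

/-- The elements of Sp_2m(F) stabilising both W = ⟨e_1..e_m⟩ and U = ⟨f_1..f_m⟩ form a subgroup isomorphic to GL_m(F) (block-diagonal matrices diag(X, X^(−ᵀ)) up to the sign convention of J), for m ≥ 1 or m = 0 alike. -/
theorem result {F : Type*} [Field F] (m : ℕ) : Nonempty (↥(Cfsg.stabilizing (Cfsg.spToMat m F) {v : Fin m ⊕ Fin m → F | ∀ i : Fin m, v (Sum.inr i) = 0} ⊓ Cfsg.stabilizing (Cfsg.spToMat m F) {v : Fin m ⊕ Fin m → F | ∀ i : Fin m, v (Sum.inl i) = 0}) ≃* Matrix.GeneralLinearGroup (Fin m) F) := by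
  classical
  set S := Cfsg.stabilizing (Cfsg.spToMat m F) {v : Fin m ⊕ Fin m → F | ∀ i : Fin m, v (Sum.inr i) = 0} ⊓
    Cfsg.stabilizing (Cfsg.spToMat m F) {v : Fin m ⊕ Fin m → F | ∀ i : Fin m, v (Sum.inl i) = 0} with hS
  have hblock : ∀ g : S, (g.1.1).toBlocks₁₂ = 0 ∧ (g.1.1).toBlocks₂₁ = 0 := by
    intro g
    have h1 := (Subgroup.mem_inf.1 g.2).1
    have h2 := (Subgroup.mem_inf.1 g.2).2
    constructor
    · ext i j
      have := ((h2 (Pi.single (Sum.inr j) 1)).1 (by simp)) i
      simpa [Matrix.toBlocks₁₂] using this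
    · ext i j
      have := ((h1 (Pi.single (Sum.inl j) 1)).1 (by simp)) i
      simpa [Matrix.toBlocks₂₁] using this
  have hrel : ∀ g : S, (g.1.1).toBlocks₁₁.transpose * (g.1.1).toBlocks₂₂ = 1 := by
    intro g
    have hm := g.1.2
    rw [← Matrix.fromBlocks_toBlocks g.1.1, (hblock g).1, (hblock g).2,
      SymplecticGroup.fromBlocks_mem_iff] at hm
    simpa using hm.2.2
  have hmem : ∀ X : Matrix.GeneralLinearGroup (Fin m) F,
      Matrix.fromBlocks (X : Matrix (Fin m) (Fin m) F) 0 0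
        ((X⁻¹ : Matrix.GeneralLinearGroup (Fin m) F) : Matrix (Fin m) (Fin m) F).transpose
        ∈ Matrix.symplecticGroup (Fin m) F := by
    intro X
    rw [SymplecticGroup.fromBlocks_mem_iff]
    simp [← Matrix.transpose_mul]
  have hunit : ∀ g : S, (g.1.1).toBlocks₂₂.transpose * (g.1.1).toBlocks₁₁ = 1 := fun g => by
    rw [← Matrix.transpose_inj, Matrix.transpose_mul, Matrix.transpose_transpose, hrel,
      Matrix.transpose_one]
  refine ⟨{ toFun := fun g => ⟨(g.1.1).toBlocks₁₁, (g.1.1).toBlocks₂₂.transpose,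
              mul_eq_one_comm.1 (hunit g), hunit g⟩
            invFun := fun X => ⟨⟨_, hmem X⟩, Subgroup.mem_inf.2 ⟨?_, ?_⟩⟩
            left_inv := fun g => Subtype.ext (Subtype.ext ?_)
            right_inv := fun X => Units.ext ?_
            map_mul' := fun g h => Units.ext ?_ }⟩
  · refine H48.mem_stabilizing_of_maps (W :=
      { carrier := {v : Fin m ⊕ Fin m → F | ∀ i : Fin m, v (Sum.inr i) = 0}
        add_mem' := fun ha hb i => by simp [ha i, hb i]
        zero_mem' := fun i => rfl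
        smul_mem' := fun c a ha i => by simp [ha i] }) ?_
    intro v hv i
    have hv0 : v ∘ Sum.inr = 0 := funext hv
    simp [H48.spSmulDef, Matrix.fromBlocks_mulVec, hv0]
  · refine H48.mem_stabilizing_of_maps (W :=
      { carrier := {v : Fin m ⊕ Fin m → F | ∀ i : Fin m, v (Sum.inl i) = 0}
        add_mem' := fun ha hb i => by simp [ha i, hb i]
        zero_mem' := fun i => rfl
        smul_mem' := fun c a ha i => by simp [ha i] }) ?_
    intro v hv i
    have hv0 : v ∘ Sum.inl = 0 := funext hv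
    simp [H48.spSmulDef, Matrix.fromBlocks_mulVec, hv0]
  · show Matrix.fromBlocks _ 0 0 _ = g.1.1
    conv_rhs => rw [← Matrix.fromBlocks_toBlocks g.1.1, (hblock g).1, (hblock g).2]
    simp
  · simp
  · show (g.1.1 * h.1.1).toBlocks₁₁ = (g.1.1).toBlocks₁₁ * (h.1.1).toBlocks₁₁
    conv_lhs => rw [← Matrix.fromBlocks_toBlocks g.1.1, ← Matrix.fromBlocks_toBlocks h.1.1,
      (hblock g).1, Matrix.fromBlocks_multiply]
    simp

end Cfsg.Agent.S0778
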