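import Cfsg.Statements.S0779
import Cfsg.Agent.H50.Form

set_option autoImplicit false
open Cfsg

namespace Cfsg.Agent.S0779

/-- Unitary transvections: let |F| = q², h the standard Hermitian form Σ x_i y_i^q and v ≠ 0 with h(v, v) = 0. The linear map x ↦ x + c h(x, v) v is an isometry of h if and only if c = 0 or c^(q−1) = −1. -/
theorem result {F : Type*} [Field F] [Fintype F] {q : ℕ} (hF : Fintype.card F = q ^ 2) (n : ℕ) (v : Fin n → F) (hv : v ≠ 0) (hv0 : Cfsg.hermForm n F q v v = 0) (c : F) : (∀ x y : Fin n → F, Cfsg.hermForm n F q ((Cfsg.unitaryTransvection n q v c).mulVec x) ((Cfsg.unitaryTransvection n q v c).mulVec y) = Cfsg.hermForm n F q x y) ↔ (c = 0 ∨ c ^ (q - 1) = -1) := by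
  change H50.IsIso q (unitaryTransvection n q v c) ↔ _
  rw [H50.ut_isIso_iff hF hv, hv0, mul_zero, add_zero]
  have hq : q - 1 + 1 = q := by have := H50.q_pos hF; omega
  constructor
  · intro h
    rcases eq_or_ne c 0 with hc | hc
    · exact Or.inl hc
    · refine Or.inr (mul_right_cancel₀ hc ?_)
      rw [← pow_succ, hq]
      linear_combination h
  · rintro (rfl | h)
    · simp [zero_pow (H50.q_ne_zero hF)]
    · have : c ^ q = -c := by rw [← hq, pow_succ, h, neg_one_mul]
      rw [this]; ring

end Cfsg.Agent.S0779
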