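import Cfsg.Statements.S0781
import Cfsg.Agent.H50.Generation

set_option autoImplicit false
open Cfsg

namespace Cfsg.Agent.S0781

/-- In SU_n(q) with n ≥ 4, or n = 3 and q > 2, every element whose matrix is a unitary transvection x ↦ x + c h(x, v) v (v isotropic) is a commutator ⁅B, C⁆ of two elements of SU_n(q). -/
theorem result {F : Type*} [Field F] [Fintype F] {q : ℕ} (hF : Fintype.card F = q ^ 2) (n : ℕ) (hn : 4 ≤ n ∨ (n = 3 ∧ 3 ≤ q)) (A : ↥(Cfsg.SU n F q)) (v : Fin n → F) (c : F) (hv0 : Cfsg.hermForm n F q v v = 0) (hA : ((A : Matrix.SpecialLinearGroup (Fin n) F) : Matrix (Fin n) (Fin n) F) = Cfsg.unitaryTransvection n q v c) : A ∈ commutatorSet ↥(Cfsg.SU n F q) := by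
  have hn3 : 3 ≤ n := by omega
  rcases eq_or_ne v 0 with rfl | hv
  · refine ⟨1, 1, ?_⟩
    rw [commutatorElement_one_left]
    refine (H50.SU_ext ?_).symm
    rw [hA]
    simp [Cfsg.unitaryTransvection]
  have hc : c + c ^ q = 0 := by
    have hi : H50.IsIso q (Cfsg.unitaryTransvection n q v c) := hA ▸ H50.SU_isIso A
    have := (H50.ut_isIso_iff hF hv).1 hi
    rwa [hv0, mul_zero, add_zero] at this
  obtain ⟨f, hf⟩ := H50.exists_hyp_partner hF hv hv0
  obtain ⟨z, hz, hzv, -⟩ := H50.exists_norm_one_perp_hyp hF hn3 hf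
  have hvz := (H50.h_eq_zero_comm hF).1 hzv
  obtain ⟨s, hs⟩ := H50.exists_trace_eq hF (one_pow q)
  -- `μ ^ q - μ = c`
  set μ := -(c * s) with hμ
  have hμc : μ ^ q - μ = c := by
    have hcq : c ^ q = -c := by linear_combination hc
    rw [hμ, H50.neg_pow_q hF, mul_pow, hcq]
    linear_combination c * hs
  obtain ⟨a, ha⟩ := H50.exists_trace_eq hF (c := -Cfsg.hermForm n F q z z)
    (by rw [H50.neg_pow_q hF, H50.h_self_fixed hF])
  obtain ⟨b, hb⟩ := H50.exists_trace_eq hF (c := -Cfsg.hermForm n F q (μ • z) (μ • z))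
    (by rw [H50.neg_pow_q hF, H50.h_self_fixed hF])
  have hwz : Cfsg.hermForm n F q (μ • z) v = 0 := by rw [H50.h_smul_left, hzv, mul_zero]
  let B := H50.eich hF v z a hv0 hzv (by linear_combination ha)
  let C := H50.eich hF v (μ • z) b hv0 hwz (by linear_combination hb)
  refine ⟨B, C, ?_⟩
  rw [commutatorElement_def]
  have hmat : H50.suMat A = Cfsg.unitaryTransvection n q v c := hA
  have key : B * C = A * (C * B) := by
    refine H50.suMat_ext fun x => ?_
    rw [H50.suMat_mulVec_mul, H50.suMat_mulVec_mul, H50.suMat_mulVec_mul, hmat, H50.ut_mulVec]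
    simp only [B, C, H50.suMat_eich, H50.h_add_left, H50.h_smul_left, hv0, hzv, hvz, hz,
      H50.h_smul_right hF, mul_zero, add_zero, mul_one]
    rw [← hμc]
    module
  rw [key]
  group

end Cfsg.Agent.S0781
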