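import Cfsg.Statements.S0783
import Cfsg.Agent.H50.Center

set_option autoImplicit false
open Cfsg

namespace Cfsg.Agent.S0783

/-- PGU_n(q)/PSU_n(q) is cyclic of order (n, q+1): for n ≥ 2 and |F| = q² there is a surjective homomorphism from GU_n(q) onto the cyclic group of order gcd(n, q + 1) whose kernel is generated by the determinant-one elements together with the centre. -/
theorem result {F : Type*} [Field F] [Fintype F] {q : ℕ} (hF : Fintype.card F = q ^ 2) (n : ℕ) (hn : 2 ≤ n) : ∃ φ : ↥(Cfsg.GU n F q) →* Multiplicative (ZMod (Nat.gcd n (q + 1))), Function.Surjective φ ∧ φ.ker = (Matrix.GeneralLinearGroup.det : Matrix.GeneralLinearGroup (Fin n) F →* Fˣ).ker.subgroupOf (Cfsg.GU n F q) ⊔ Subgroup.center ↥(Cfsg.GU n F q) := by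
  classical
  let C : Subgroup Fˣ := (powMonoidHom (q + 1) : Fˣ →* Fˣ).ker
  let ψ : ↥(Cfsg.GU n F q) →* C :=
    (H50.detGU).codRestrict C fun g => by
      show H50.detGU g ∈ (powMonoidHom (q + 1) : Fˣ →* Fˣ).ker
      rw [← H50.detGU_range hF (n := n) (by omega)]; exact ⟨g, rfl⟩
  have hψ : Function.Surjective ψ := by
    rintro ⟨u, hu⟩
    have hu' : u ∈ (H50.detGU (n := n) (F := F) (q := q)).range := by
      rw [H50.detGU_range hF (by omega)]; exact hu
    obtain ⟨g, hg⟩ := hu'
    exact ⟨g, Subtype.ext hg⟩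
  let P : Subgroup C := (powMonoidHom n : C →* C).range
  have hP : Nat.card (C ⧸ P) = Nat.gcd n (q + 1) := by
    show P.index = _
    rw [IsCyclic.index_powMonoidHom_range, H50.natCard_norm_ker hF, Nat.gcd_comm]
  haveI : IsCyclic (C ⧸ P) := isCyclic_of_surjective _ (QuotientGroup.mk'_surjective P)
  let e : (C ⧸ P) ≃* Multiplicative (ZMod (Nat.gcd n (q + 1))) :=
    mulEquivOfCyclicCardEq (by rw [hP]; exact (Nat.card_zmod _).symm)
  refine ⟨e.toMonoidHom.comp ((QuotientGroup.mk' P).comp ψ),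
    e.surjective.comp ((QuotientGroup.mk'_surjective P).comp hψ), ?_⟩
  have hker : (e.toMonoidHom.comp ((QuotientGroup.mk' P).comp ψ)).ker = P.comap ψ := by
    rw [← MonoidHom.comap_ker, MonoidHom.ker_eq_bot_iff _ |>.2 e.injective, MonoidHom.comap_bot,
      ← MonoidHom.comap_ker, QuotientGroup.ker_mk']
  rw [hker]
  apply le_antisymm
  · intro g hg
    obtain ⟨u, hu⟩ := hg
    have hu1 : ((u : Fˣ) : F) ^ (q + 1) = 1 := by simpa using congrArg Units.val u.2
    have hs : H50.IsIso q (((u : Fˣ) : F) • (1 : Matrix (Fin n) (Fin n) F)) := fun x y => by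
      rw [Matrix.smul_mulVec, Matrix.smul_mulVec, Matrix.one_mulVec, Matrix.one_mulVec,
        H50.h_smul_left, H50.h_smul_right hF, ← mul_assoc, ← pow_succ', hu1, one_mul]
    let s := H50.mkGU hF _ hs
    have hcen : s ∈ Subgroup.center ↥(Cfsg.GU n F q) := Subgroup.mem_center_iff.2 fun k => by
      refine H50.GU_ext ?_
      show _ * (((u : Fˣ) : F) • (1 : Matrix (Fin n) (Fin n) F)) = _
      rw [Matrix.mul_smul, Matrix.mul_one]
      show _ = (((u : Fˣ) : F) • (1 : Matrix (Fin n) (Fin n) F)) * _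
      rw [Matrix.smul_mul, Matrix.one_mul]
    have hdet : H50.detGU s = (u : Fˣ) ^ n := by
      ext
      rw [H50.detGU_apply, H50.mkGU_coe, Matrix.det_smul, Matrix.det_one, mul_one,
        Fintype.card_fin, Units.val_pow_eq_pow_val]
    have hgdet : H50.detGU g = (u : Fˣ) ^ n := (congrArg Subtype.val hu).symm
    rw [show g = (g * s⁻¹) * s by group]
    refine Subgroup.mul_mem_sup ?_ hcen
    rw [Subgroup.mem_subgroupOf, MonoidHom.mem_ker]
    show H50.detGU (g * s⁻¹) = 1
    rw [map_mul, map_inv, hdet, hgdet, mul_inv_cancel]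
  · refine sup_le ?_ ?_
    · intro g hg
      rw [Subgroup.mem_comap]
      have : ψ g = 1 := Subtype.ext hg
      rw [this]
      exact one_mem _
    · intro g hg
      obtain ⟨l, hl1, hl⟩ := H50.scalar_of_isotropic_eigen hF hn (H50.GU_isIso g) fun v hv hvv => by
        obtain ⟨d, hd0, hd⟩ := H50.exists_trace_zero_ne_zero hF
        obtain ⟨f, hf⟩ := H50.exists_hyp_partner hF hv hvv
        let t := H50.mkGU hF _ (H50.ut_isIso_isotropic hF hvv hd)
        have hc := congrArg (fun k : ↥(Cfsg.GU n F q) =>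
          ((k : GL (Fin n) F) : Matrix (Fin n) (Fin n) F).mulVec f) (Subgroup.mem_center_iff.1 hg t)
        simp only [t, Subgroup.coe_mul, Units.val_mul, H50.mkGU_coe, ← Matrix.mulVec_mulVec,
          H50.ut_mulVec, (hf.symm hF).2.2, mul_one, Matrix.mulVec_add, Matrix.mulVec_smul] at hc
        have h2 := congrArg (fun x => d⁻¹ • (x - ((g : GL (Fin n) F) : Matrix (Fin n) (Fin n) F).mulVec f)) hc
        simp only [add_sub_cancel_left, smul_smul, ← mul_assoc, inv_mul_cancel₀ hd0, one_mul,
          one_smul] at h2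
        exact ⟨_, h2.symm⟩
      have hl0 : l ≠ 0 := by
        rintro rfl; rw [zero_pow (by omega)] at hl1; exact zero_ne_one hl1
      refine ⟨⟨Units.mk0 l hl0, Units.ext (by simpa using hl1)⟩, Subtype.ext (Units.ext ?_)⟩
      show l ^ n = ((H50.detGU g : Fˣ) : F)
      rw [H50.detGU_apply, hl, Matrix.det_smul, Matrix.det_one, mul_one, Fintype.card_fin]

end Cfsg.Agent.S0783
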