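import Cfsg.Statements.S0786
import Cfsg.Agent.H43.Bridge
import Cfsg.Agent.H43.Omega

set_option autoImplicit false
open Cfsg

namespace Cfsg.Agent.S0786

/-- Generation by reflections: if F is finite, Q is a quadratic form on F^n with non-degenerate polar form, and (|F|, n) ≠ (2, 4), then the isometry group of Q is generated by the reflections r_v, Q(v) ≠ 0. -/
theorem result {F : Type*} [Field F] [Fintype F] {n : ℕ} (Q : QuadraticForm F (Fin n → F)) (hQ : (QuadraticMap.polarBilin Q).Nondegenerate) (h : Fintype.card F ≠ 2 ∨ n ≠ 4) : Subgroup.closure {g : ↥(Cfsg.isometryGroup F ⇑Q) | ∃ v : Fin n → F, Q v ≠ 0 ∧ ((g : Matrix.GeneralLinearGroup (Fin n) F) : Matrix (Fin n) (Fin n) F) = Cfsg.reflectionMatrix ⇑Q v} = ⊤ := by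
  have hgen := H43.closure_reflSet (Q := Q) hQ
    (H43.reflGenerates_of_card (by simpa using h))
  rw [← Subgroup.comap_map_eq_self_of_injective (f := (H43.toOrth Q).toMonoidHom)
    (H43.toOrth Q).injective (Subgroup.closure _), MonoidHom.map_closure, eq_top_iff]
  intro g _
  rw [Subgroup.mem_comap]
  have hg : H43.toOrth Q g ∈ Subgroup.closure (H43.reflSet Q) := by rw [hgen]; trivial
  refine Subgroup.closure_mono ?_ hg
  rintro _ ⟨v, hv, rfl⟩
  refine ⟨(H43.toOrth Q).symm (H43.refl Q v), ⟨v, hv, ?_⟩, (H43.toOrth Q).apply_symm_apply _⟩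
  exact (H43.toOrth_eq_refl_iff _ v).mp ((H43.toOrth Q).apply_symm_apply _)

end Cfsg.Agent.S0786
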