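import Cfsg.Statements.S0787
import Cfsg.Agent.H43.Bridge
import Cfsg.Agent.H43.Omega

set_option autoImplicit false
open Cfsg

namespace Cfsg.Agent.S0787

/-- Existence and uniqueness of Ω: if F is finite, n ≥ 2, Q is a quadratic form on F^n with non-degenerate polar form and (|F|, n) ≠ (2, 4), then the group of isometries of determinant one has a unique subgroup of index 2. -/
theorem result {F : Type*} [Field F] [Fintype F] {n : ℕ} (hn : 2 ≤ n) (Q : QuadraticForm F (Fin n → F)) (hQ : (QuadraticMap.polarBilin Q).Nondegenerate) (h : Fintype.card F ≠ 2 ∨ n ≠ 4) : ∃! H : Subgroup ↥(Cfsg.specialIsometryGroup F ⇑Q), H.index = 2 := by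
  have hmap : (Cfsg.specialIsometryGroup F ⇑Q).map (H43.toOrth Q).toMonoidHom
      = H43.specialOrth Q := by
    ext x
    rw [Subgroup.mem_map_equiv, H43.mem_special_iff, MulEquiv.apply_symm_apply,
      H43.mem_specialOrth, Units.ext_iff, H43.coe_detHom]
    rfl
  let e : ↥(Cfsg.specialIsometryGroup F ⇑Q) ≃* H43.specialOrth Q :=
    ((H43.toOrth Q).subgroupMap _).trans (MulEquiv.subgroupCongr hmap)
  obtain ⟨H, hH, huniq⟩ := H43.unique_index_two_specialOrth hQ
    (H43.reflGenerates_of_card (by simpa using h)) (by simpa using hn)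
  refine ⟨H.comap e.toMonoidHom, ?_, fun K hK => ?_⟩
  · show (H.comap e.toMonoidHom).index = 2
    rw [Subgroup.index_comap_of_surjective _ e.surjective, hH]
  · have := huniq (K.map e.toMonoidHom) (by
      show (K.map e.toMonoidHom).index = 2
      rw [Subgroup.index_map_of_bijective e.bijective, hK])
    rw [← this]
    exact (Subgroup.comap_map_eq_self_of_injective e.injective K).symm

end Cfsg.Agent.S0787
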