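import Cfsg.Statements.S0792
import Cfsg.Agent.H43.Bridge
import Cfsg.Agent.H43.Omega

set_option autoImplicit false
open Cfsg

namespace Cfsg.Agent.S0792

/-- For q odd and Q with non-degenerate polar form on F^n, the determinant-one isometries form the subgroup generated by all products r_u r_v of two reflections (Q(u), Q(v) ≠ 0). -/
theorem result {F : Type*} [Field F] [Fintype F] (h2 : (2 : F) ≠ 0) {n : ℕ} (Q : QuadraticForm F (Fin n → F)) (hQ : (QuadraticMap.polarBilin Q).Nondegenerate) : Cfsg.specialIsometryGroup F ⇑Q = Subgroup.closure {g : ↥(Cfsg.isometryGroup F ⇑Q) | ∃ u v : Fin n → F, Q u ≠ 0 ∧ Q v ≠ 0 ∧ ((g : Matrix.GeneralLinearGroup (Fin n) F) : Matrix (Fin n) (Fin n) F) = Cfsg.reflectionMatrix ⇑Q u * Cfsg.reflectionMatrix ⇑Q v} := by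
  have hmap : ∀ g : ↥(Cfsg.isometryGroup F ⇑Q), g ∈ Cfsg.specialIsometryGroup F ⇑Q ↔
      H43.toOrth Q g ∈ H43.specialOrth Q := fun g => by
    rw [H43.mem_special_iff, H43.mem_specialOrth, Units.ext_iff, H43.coe_detHom]
    rfl
  ext g
  rw [hmap, H43.specialOrth_eq_closure hQ h2,
    ← Subgroup.mem_map_iff_mem (f := (H43.toOrth Q).toMonoidHom) (H43.toOrth Q).injective,
    MonoidHom.map_closure]
  have key : H43.reflPairSet Q = (H43.toOrth Q).toMonoidHom '' {g | ∃ u v : Fin n → F, Q u ≠ 0 ∧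
      Q v ≠ 0 ∧ ((g : Matrix.GeneralLinearGroup (Fin n) F) : Matrix (Fin n) (Fin n) F)
        = Cfsg.reflectionMatrix ⇑Q u * Cfsg.reflectionMatrix ⇑Q v} := by
    ext x
    constructor
    · rintro ⟨a, b, ha, hb, rfl⟩
      refine ⟨(H43.toOrth Q).symm (H43.refl Q a) * (H43.toOrth Q).symm (H43.refl Q b),
        ⟨a, b, ha, hb, ?_⟩, by simp⟩
      show _ * _ = _
      rw [(H43.toOrth_eq_refl_iff _ a).mp ((H43.toOrth Q).apply_symm_apply _),
        (H43.toOrth_eq_refl_iff _ b).mp ((H43.toOrth Q).apply_symm_apply _)]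
    · rintro ⟨k, ⟨a, b, ha, hb, hk⟩, rfl⟩
      refine ⟨a, b, ha, hb, (H43.toOrth_eq_iff k _).mpr fun x => ?_⟩
      rw [hk, ← Matrix.mulVec_mulVec, H43.orth_mul_apply, H43.reflectionMatrix_mulVec_eq,
        H43.reflectionMatrix_mulVec_eq]
  rw [key]
  rfl

end Cfsg.Agent.S0792
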