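import Cfsg.Statements.S0793
import Cfsg.Agent.H43.Bridge

set_option autoImplicit false
open Cfsg

namespace Cfsg.Agent.S0793

/-- Root elements: if Q(u) = Q(v) = 0 and f(u, v) = 0 (f the polar form), then for every c the Siegel matrix T_(u,v)(c) preserves Q, fixes u and v, and T(c) T(d) = T(c + d). -/
theorem result {F : Type*} [Field F] {n : ℕ} (Q : QuadraticForm F (Fin n → F)) (u v : Fin n → F) (hu : Q u = 0) (hv : Q v = 0) (huv : QuadraticMap.polar ⇑Q u v = 0) : (∀ c x, Q ((Cfsg.siegelMatrix ⇑Q u v c).mulVec x) = Q x) ∧ (∀ c, (Cfsg.siegelMatrix ⇑Q u v c).mulVec u = u ∧ (Cfsg.siegelMatrix ⇑Q u v c).mulVec v = v) ∧ ∀ c d, Cfsg.siegelMatrix ⇑Q u v c * Cfsg.siegelMatrix ⇑Q u v d = Cfsg.siegelMatrix ⇑Q u v (c + d) := by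
  have h0 : ∀ c : F, H43.polB Q u (c • v) = 0 := fun c => by
    rw [map_smul, show H43.polB Q u v = 0 from huv, smul_zero]
  refine ⟨fun c x => ?_, fun c => ⟨?_, ?_⟩, fun c d => ?_⟩
  · rw [H43.siegelMatrix_mulVec_eq hu hv huv]; exact H43.orth_qmap _ x
  · rw [H43.siegelMatrix_mulVec_eq hu hv huv]
    exact H43.eichler_fix hu (h0 c) (by rw [H43.polB_self, hu, mul_zero]) (h0 c)
  · rw [H43.siegelMatrix_mulVec_eq hu hv huv]
    exact H43.eichler_fix hu (h0 c) (by rw [H43.polB_comm]; exact huv)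
      (by rw [map_smul, H43.polB_self, hv]; simp)
  · refine Matrix.toLin'.injective (LinearMap.ext fun x => ?_)
    rw [Matrix.toLin'_apply, Matrix.toLin'_apply, ← Matrix.mulVec_mulVec,
      H43.siegelMatrix_mulVec_eq hu hv huv, H43.siegelMatrix_mulVec_eq hu hv huv,
      H43.siegelMatrix_mulVec_eq hu hv huv, ← H43.orth_mul_apply, H43.eichler_mul hu (h0 c) (h0 d),
      add_smul]

end Cfsg.Agent.S0793
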