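import Cfsg.Statements.S0794
import Cfsg.Agent.H43.Bridge
import Cfsg.Agent.H43.Witt

set_option autoImplicit false
open Cfsg

namespace Cfsg.Agent.S0794

/-- For q odd, n ≥ 5 and Q with non-degenerate polar form: an isometry whose matrix is a Siegel transformation T_(u,v)(c) (u, v singular and orthogonal) is a commutator in the isometry group, so lies in Ω. -/
theorem result {F : Type*} [Field F] [Fintype F] (h2 : (2 : F) ≠ 0) {n : ℕ} (hn : 5 ≤ n) (Q : QuadraticForm F (Fin n → F)) (hQ : (QuadraticMap.polarBilin Q).Nondegenerate) (u v : Fin n → F) (hu : Q u = 0) (hv : Q v = 0) (huv : QuadraticMap.polar ⇑Q u v = 0) (c : F) (g : ↥(Cfsg.isometryGroup F ⇑Q)) (hg : ((g : Matrix.GeneralLinearGroup (Fin n) F) : Matrix (Fin n) (Fin n) F) = Cfsg.siegelMatrix ⇑Q u v c) : g ∈ commutatorSet ↥(Cfsg.isometryGroup F ⇑Q) ∧ g ∈ Cfsg.Omega F ⇑Q := by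
  suffices hc : g ∈ commutatorSet ↥(Cfsg.isometryGroup F ⇑Q) from
    ⟨hc, by rw [Cfsg.Omega, commutator_eq_closure]; exact Subgroup.subset_closure hc⟩
  have huv' : H43.polB Q u v = 0 := huv
  have hgE : H43.toOrth Q g = H43.eichler Q u (c • v) :=
    (H43.toOrth_eq_siegel_iff g hu hv huv' c).mpr hg
  have h0 : ∀ c : F, H43.polB Q u (c • v) = 0 := fun c => by rw [map_smul, huv', smul_zero]
  by_cases hli : LinearIndependent F ![u, v]
  · obtain ⟨k, hku, hkv⟩ := H43.exists_orth_map₂ hQ (x := u) (x' := v) (y := u) (y' := -v) hli (by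
      rw [LinearIndependent.pair_iff] at hli ⊢
      intro s t hst
      have := hli s (-t) (by rw [← hst]; module)
      exact ⟨this.1, neg_eq_zero.mp this.2⟩)
      rfl (H43.qmap_neg v).symm (by rw [map_neg, huv', neg_zero])
    set E := H43.eichler Q u ((-c / 2) • v)
    have hcomm : k * E * k⁻¹ * E⁻¹ = H43.eichler Q u (c • v) := by
      rw [H43.eichler_conj k hu (h0 _), hku, map_smul, hkv, H43.eichler_inv hu (h0 _),
        H43.eichler_mul hu (by rw [smul_neg, map_neg, h0, neg_zero])
          (by rw [map_neg, h0, neg_zero])]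
      congr 1
      match_scalars
      field_simp
      ring
    refine ⟨(H43.toOrth Q).symm k, (H43.toOrth Q).symm E, ?_⟩
    apply (H43.toOrth Q).injective
    simp only [commutatorElement_def, map_mul, map_inv, MulEquiv.apply_symm_apply]
    rw [hgE, hcomm]
  · refine ⟨1, 1, ?_⟩
    apply (H43.toOrth Q).injective
    rw [commutatorElement_one_left, map_one, hgE]
    symm
    apply H43.orth_ext
    intro x
    rw [H43.eichler_apply hu (h0 c), H43.orth_one_apply, H43.qmap_smul, hv, mul_zero, zero_mul,
      zero_smul, sub_zero, map_smul, smul_eq_mul]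
    rw [LinearIndependent.pair_iff] at hli
    push Not at hli
    obtain ⟨s, t, hst, hne⟩ := hli
    by_cases ht : t = 0
    · have hu0 : u = 0 := by
        rw [ht, zero_smul, add_zero] at hst
        exact (smul_eq_zero.mp hst).resolve_left fun hs => hne hs ht
      simp [hu0]
    · have hvs : v = (-s / t) • u := by
        have : t • v = -(s • u) := eq_neg_of_add_eq_zero_right hst
        rw [eq_comm, ← inv_smul_smul₀ ht v, this]
        module
      rw [hvs, map_smul, smul_eq_mul]
      module

end Cfsg.Agent.S0794
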