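import Cfsg.Statements.S0797
import Cfsg.Agent.H43.Bridge
import Cfsg.Agent.H43.Omega

set_option autoImplicit false
open Cfsg

namespace Cfsg.Agent.S0797

/-- O^ε_2m(q) ≅ Ω.2² for q odd: if F is finite of odd characteristic, n ≥ 2 is even and Q has non-degenerate polar form on F^n, the isometry group of Q has exactly three subgroups of index 2. -/
theorem result {F : Type*} [Field F] [Fintype F] (h2 : (2 : F) ≠ 0) {n : ℕ} (hn : 2 ≤ n) (heven : Even n) (Q : QuadraticForm F (Fin n → F)) (hQ : (QuadraticMap.polarBilin Q).Nondegenerate) : Nat.card {H : Subgroup ↥(Cfsg.isometryGroup F ⇑Q) // H.index = 2} = 3 := by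
  classical
  set O := ↥(Cfsg.isometryGroup F ⇑Q)
  have hgen : H43.ReflGenerates F (Fin n → F) := H43.reflGenerates_of_two_ne_zero h2
  have hn' : 2 ≤ Module.finrank F (Fin n → F) := by simpa using hn
  obtain ⟨α, hα, hαne, hall⟩ := H43.exists_sqc_cases F
  have hα1 := hαne h2
  let f : O →* Multiplicative (ZMod 2) × H43.SqClass F :=
    (H43.invHom hQ hgen).comp (H43.toOrth Q).toMonoidHom
  have hfs : Function.Surjective f :=
    (H43.invHom_surjective hQ hgen hn').comp (H43.toOrth Q).surjective
  have hle : ∀ H : Subgroup O, H.index = 2 → f.ker ≤ H := by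
    intro H hH g hg
    haveI := Subgroup.normal_of_index_eq_two hH
    have hmem : g ∈ Cfsg.Omega F ⇑Q := by
      rw [H43.mem_Omega_iff, H43.commutator_eq_invKer hQ hgen hn']
      exact hg
    revert g
    suffices Cfsg.Omega F ⇑Q ≤ H from fun g _ hmem => this hmem
    rw [Cfsg.Omega, commutator_def, Subgroup.commutator_le]
    intro a _ b _
    simp only [commutatorElement_def, Subgroup.mul_mem_iff_of_index_two hH, Subgroup.inv_mem_iff]
    tauto
  let e : {H : Subgroup O // H.index = 2}
      ≃ {H : Subgroup (Multiplicative (ZMod 2) × H43.SqClass F) // H.index = 2} :=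
    { toFun := fun H => ⟨H.1.map f, by rw [Subgroup.index_map_eq _ hfs (hle _ H.2), H.2]⟩
      invFun := fun H => ⟨H.1.comap f, by rw [Subgroup.index_comap_of_surjective _ hfs, H.2]⟩
      left_inv := fun H => Subtype.ext (Subgroup.comap_map_eq_self (hle _ H.2))
      right_inv := fun H => Subtype.ext (Subgroup.map_comap_eq_self_of_surjective hfs _) }
  rw [Nat.card_congr e]
  have hcases : ∀ x : Multiplicative (ZMod 2), x = 1 ∨ x = Multiplicative.ofAdd 1 := by decide
  let g₂ : Multiplicative (ZMod 2) →* H43.SqClass F :=
    { toFun := fun x => if x = 1 then 1 else H43.sqc α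
      map_one' := if_pos rfl
      map_mul' := fun x y => by
        have hx := hcases x
        have hy := hcases y
        have hne : (Multiplicative.ofAdd 1 : Multiplicative (ZMod 2)) ≠ 1 := by decide
        have hsq : (Multiplicative.ofAdd 1 : Multiplicative (ZMod 2)) * Multiplicative.ofAdd 1 = 1 := by
          rfl
        rcases hx with rfl | rfl <;> rcases hy with rfl | rfl <;>
          simp [hne, hsq, H43.sqClass_mul_self] }
  let g₁ : Multiplicative (ZMod 2) ≃* H43.SqClass F := MulEquiv.ofBijective g₂ (by
    constructor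
    · intro x y hxy
      have hx := hcases x
      have hy := hcases y
      have hne : (Multiplicative.ofAdd 1 : Multiplicative (ZMod 2)) ≠ 1 := by decide
      rcases hx with rfl | rfl <;> rcases hy with rfl | rfl <;>
        simp [g₂, hne, hα1, Ne.symm hα1] at hxy ⊢
    · intro s
      rcases hall s with rfl | rfl
      · exact ⟨1, rfl⟩
      · refine ⟨Multiplicative.ofAdd 1, ?_⟩
        have hne : (Multiplicative.ofAdd 1 : Multiplicative (ZMod 2)) ≠ 1 := by decide
        simp [g₂, hne])
  let K := Multiplicative (ZMod 2) × Multiplicative (ZMod 2)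
  let eK : K ≃* Multiplicative (ZMod 2) × H43.SqClass F := (MulEquiv.refl _).prodCongr g₁
  let e2 : {H : Subgroup K // H.index = 2}
      ≃ {H : Subgroup (Multiplicative (ZMod 2) × H43.SqClass F) // H.index = 2} :=
    eK.mapSubgroup.toEquiv.subtypeEquiv fun H => by
      show H.index = 2 ↔ (H.map eK.toMonoidHom).index = 2
      rw [Subgroup.index_map_of_bijective eK.bijective]
  rw [← Nat.card_congr e2]
  have hK : Nat.card K = 4 := by simp [K, Nat.card_eq_fintype_card]
  let ez : {x : K // x ≠ 1} → {H : Subgroup K // H.index = 2} := fun x =>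
    ⟨Subgroup.zpowers x.1, by
      have h1 := (Subgroup.zpowers x.1).index_mul_card
      have h2 : orderOf x.1 = 2 := orderOf_eq_prime (by
        have : ∀ y : K, y ^ 2 = 1 := by decide
        exact this _) x.2
      rw [Nat.card_zpowers, h2, hK] at h1
      omega⟩
  have hez : Function.Bijective ez := by
    constructor
    · rintro ⟨x, hx⟩ ⟨y, hy⟩ hxy
      have hxy' := congrArg Subtype.val hxy
      have hmem : x ∈ Subgroup.zpowers y := by
        rw [← show Subgroup.zpowers x = Subgroup.zpowers y from hxy']
        exact Subgroup.mem_zpowers x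
      obtain ⟨k, hk⟩ := Subgroup.mem_zpowers_iff.mp hmem
      have hy2 : y * y = 1 := by
        have : ∀ y : K, y * y = 1 := by decide
        exact this y
      rcases Int.even_or_odd' k with ⟨l, rfl | rfl⟩
      · rw [zpow_mul, zpow_two, hy2, one_zpow] at hk; exact absurd hk.symm hx
      · rw [zpow_add_one, zpow_mul, zpow_two, hy2, one_zpow, one_mul] at hk
        exact Subtype.ext hk.symm
    · rintro ⟨H, hH⟩
      have h1 := H.index_mul_card
      rw [hH, hK] at h1
      obtain ⟨x, hxH, hx⟩ : ∃ x ∈ H, x ≠ 1 := by
        by_contra hcon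
        push Not at hcon
        have : H = ⊥ := (Subgroup.eq_bot_iff_forall H).mpr hcon
        rw [this, Subgroup.card_bot] at h1
        omega
      refine ⟨⟨x, hx⟩, Subtype.ext ?_⟩
      apply Subgroup.eq_of_le_of_card_ge
      · show Subgroup.zpowers x ≤ H
        rwa [Subgroup.zpowers_le]
      · show Nat.card H ≤ Nat.card (Subgroup.zpowers x)
        rw [Nat.card_zpowers, orderOf_eq_prime (by
          have : ∀ y : K, y ^ 2 = 1 := by decide
          exact this x) hx]
        omega
  rw [← Nat.card_eq_of_bijective ez hez, Nat.card_eq_fintype_card]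
  decide

end Cfsg.Agent.S0797
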