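import Cfsg.Statements.S0798
import Cfsg.Agent.H43.Bridge
import Cfsg.Agent.H43.NormClass

set_option autoImplicit false
open Cfsg

namespace Cfsg.Agent.S0798

/-- For q odd, n ≥ 2 even, Q with non-degenerate polar form (n, |F|) ≠ (4, 3), and a fixed c ≠ 0: the subgroup of the isometry group generated by the reflections r_v with Q(v) ∈ c·(F^×)² has index 2. -/
theorem result {F : Type*} [Field F] [Fintype F] (h2 : (2 : F) ≠ 0) {n : ℕ} (hn : 2 ≤ n) (heven : Even n) (Q : QuadraticForm F (Fin n → F)) (hQ : (QuadraticMap.polarBilin Q).Nondegenerate) (h43 : ¬ (n = 4 ∧ Fintype.card F = 3)) (c : F) (hc : c ≠ 0) : (Subgroup.closure {g : ↥(Cfsg.isometryGroup F ⇑Q) | ∃ (v : Fin n → F) (t : F), t ≠ 0 ∧ Q v = c * t ^ 2 ∧ ((g : Matrix.GeneralLinearGroup (Fin n) F) : Matrix (Fin n) (Fin n) F) = Cfsg.reflectionMatrix ⇑Q v}).index = 2 := by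
  have key : (Subgroup.closure {g : ↥(Cfsg.isometryGroup F ⇑Q) | ∃ (v : Fin n → F) (t : F),
      t ≠ 0 ∧ Q v = c * t ^ 2 ∧ ((g : Matrix.GeneralLinearGroup (Fin n) F) :
        Matrix (Fin n) (Fin n) F) = Cfsg.reflectionMatrix ⇑Q v}).map (H43.toOrth Q).toMonoidHom
      = Subgroup.closure (H43.normClassSet Q c) := by
    rw [MonoidHom.map_closure]
    congr 1
    ext x
    constructor
    · rintro ⟨g, ⟨v, t, ht, hv, hg⟩, rfl⟩
      have hv0 : Q v ≠ 0 := by rw [hv]; exact mul_ne_zero hc (pow_ne_zero _ ht)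
      refine ⟨v, hv0, ?_, (H43.toOrth_eq_refl_iff g v).mpr hg⟩
      exact (H43.sqc_eq_iff hv0 hc).mpr ⟨t, ht, by rw [hv]; ring⟩
    · rintro ⟨v, hv, hvc, rfl⟩
      obtain ⟨t, ht, hvt⟩ := (H43.sqc_eq_iff hv hc).mp hvc
      refine ⟨(H43.toOrth Q).symm (H43.refl Q v), ⟨v, t, ht, by rw [hvt]; ring, ?_⟩,
        (H43.toOrth Q).apply_symm_apply _⟩
      exact (H43.toOrth_eq_refl_iff _ v).mp ((H43.toOrth Q).apply_symm_apply _)
  rw [← Subgroup.index_map_of_bijective (f := (H43.toOrth Q).toMonoidHom) (H43.toOrth Q).bijective]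
  refine (congrArg Subgroup.index key).trans ?_
  exact H43.normClass_index hQ h2 (by simpa using hn) (by simpa using heven)
    (by simpa using h43) hc

end Cfsg.Agent.S0798
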