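import Cfsg.Statements.S0799
import Cfsg.Agent.H39.Dickson

set_option autoImplicit false
open Cfsg

namespace Cfsg.Agent.S0799

/-- Dickson's classification of the subgroups of PSL_2(q), q a power of the prime p, d = gcd(2, q − 1): every subgroup H is (a) cyclic or dihedral with k dividing (q+1)/d or (q−1)/d (cyclic of order k, or dihedral of order 2k), (b) isomorphic to a subgroup of the normaliser of a Sylow p-subgroup, (c) isomorphic to A_4, S_4 or A_5, or (d) isomorphic to PSL_2(K) or PGL_2(K) for a finite field K with |K|^m = q. -/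
theorem result {F : Type*} [Field F] [Fintype F] {q : ℕ} (hF : Fintype.card F = q) (p : ℕ) [Fact p.Prime] [CharP F p] (H : Subgroup (Matrix.ProjectiveSpecialLinearGroup (Fin 2) F)) : (∃ k : ℕ, (k ∣ (q + 1) / Nat.gcd 2 (q - 1) ∨ k ∣ (q - 1) / Nat.gcd 2 (q - 1)) ∧ ((IsCyclic H ∧ Nat.card H = k) ∨ Nonempty (H ≃* DihedralGroup k))) ∨ (∃ (P : Sylow p (Matrix.ProjectiveSpecialLinearGroup (Fin 2) F)) (K : Subgroup (Matrix.ProjectiveSpecialLinearGroup (Fin 2) F)), K ≤ Subgroup.normalizer ((P : Subgroup (Matrix.ProjectiveSpecialLinearGroup (Fin 2) F)) : Set (Matrix.ProjectiveSpecialLinearGroup (Fin 2) F)) ∧ Nonempty (H ≃* K)) ∨ Nonempty (H ≃* alternatingGroup (Fin 4)) ∨ Nonempty (H ≃* Equiv.Perm (Fin 4)) ∨ Nonempty (H ≃* alternatingGroup (Fin 5)) ∨ (∃ (K : Type) (_ : Field K) (_ : Fintype K) (m : ℕ), Fintype.card K ^ m = q ∧ (Nonempty (H ≃* Matrix.ProjectiveSpecialLinearGroup (Fin 2) K) ∨ Nonempty (H ≃* Matrix.ProjGenLinGroup (Fin 2) K))) := by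
  classical
  subst hF
  cases H39.dickson p H with
  | cyclic hc hk => exact Or.inl ⟨_, hk, Or.inl ⟨hc, rfl⟩⟩
  | dihedral k hc hk => exact Or.inl ⟨k, hk, Or.inr hc⟩
  | borel P h hz =>
    obtain ⟨S, hS⟩ := H39.exists_sylow_transl (F := F) p
    exact Or.inr (Or.inl ⟨S, H.map (H39.cjP P).toMonoidHom, h.trans (H39.borelP_le_normalizer p hS),
      ⟨Subgroup.equivMapOfInjective H _ (H39.cjP P).injective⟩⟩)
  | a4 h => exact Or.inr (Or.inr (Or.inl h))
  | s4 h => exact Or.inr (Or.inr (Or.inr (Or.inl h)))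
  | a5 h => exact Or.inr (Or.inr (Or.inr (Or.inr (Or.inl h))))
  | field P K h he =>
    haveI : Fintype K := Fintype.ofFinite K
    obtain ⟨⟨n, hn0⟩, -, hn⟩ := FiniteField.card K p
    simp only [PNat.mk_coe] at hn
    haveI : Fintype (GaloisField p n) := Fintype.ofFinite _
    have hG : Fintype.card (GaloisField p n) = Fintype.card K := by
      rw [← Nat.card_eq_fintype_card, GaloisField.card p n (by omega), hn]
    let e : K ≃+* GaloisField p n := FiniteField.ringEquivOfCardEq hG.symm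
    refine Or.inr (Or.inr (Or.inr (Or.inr (Or.inr ⟨GaloisField p n, inferInstance, inferInstance,
      Module.finrank K F, ?_, ?_⟩))))
    · rw [hG]; exact Module.card_eq_pow_finrank.symm
    · rcases he with he | he
      · obtain ⟨e'⟩ := he
        exact Or.inr ⟨e'.trans (H39.pglCongr e)⟩
      · obtain ⟨e'⟩ := he
        exact Or.inl ⟨e'.trans (H39.pslCongr e)⟩

end Cfsg.Agent.S0799
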