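import Cfsg.Statements.S2362
import Cfsg.Agent.H43.TorusUnipotent
import Cfsg.Agent.H43.Primitive
import Cfsg.Agent.H43.Simple
import Cfsg.Agent.H43.Bridge
import Cfsg.Agent.H49.SpElements
import Cfsg.Agent.H49.PSpOrder

set_option autoImplicit false
open Cfsg

namespace Cfsg.Agent.S2362

/-- the distinguishing element order is realised in `PSp_2n` -/
theorem mem_psp {F : Type*} [Field F] [Finite F] {p : ℕ} [Fact p.Prime] [CharP F p] (hp : p ≠ 2)
    {n : ℕ} (hn : 2 ≤ n) (hpq : p ∣ Nat.card F) :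
    p * (Nat.card F ^ (n - 1) + 1) ∈ Set.range (orderOf : Cfsg.PSp n F → ℕ) := by
  have hd : 0 < n - 1 := by omega
  obtain ⟨g, hg⟩ := H49.exists_orderOf_sp (F := F) hd (M := Nat.card F ^ (n - 1) + 1) (Or.inr dvd_rfl)
  obtain ⟨u, hu⟩ := H49.exists_orderOf_sp_prime_pow (F := F) (p := p) (k := 1) (a := 1)
    (Or.inr (by norm_num))
  let e : Fin n ≃ Fin (n - 1) ⊕ Fin 1 :=
    (finCongr (show n = (n - 1) + 1 by omega)).trans finSumFinEquiv.symm
  haveI : Nonempty (Fin n) := ⟨⟨0, by omega⟩⟩
  set N := Nat.card F ^ (n - 1) + 1 with hN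
  have hpN : ¬ p ∣ N := fun h =>
    (Fact.out : p.Prime).not_dvd_one ((Nat.dvd_add_right (hpq.trans (dvd_pow_self _ (by omega)))).1 h)
  set s := H49.spBlock (F := F) e (g, u) with hs
  have ho : orderOf s = p * N := by
    rw [hs, orderOf_injective _ (H49.spBlock_injective e), Prod.orderOf, hg, hu, pow_one, mul_comm]
    exact Nat.Coprime.lcm_eq_mul ((Nat.Prime.coprime_iff_not_dvd Fact.out).2 hpN).symm
  refine ⟨QuotientGroup.mk s, Nat.dvd_antisymm ?_ ?_⟩
  · exact ho ▸ orderOf_map_dvd (QuotientGroup.mk' _) s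
  · set j := orderOf (QuotientGroup.mk s : Cfsg.PSp n F) with hj
    have hc : s ^ j ∈ Subgroup.center _ := by
      rw [← QuotientGroup.eq_one_iff, QuotientGroup.mk_pow, hj, pow_orderOf_eq_one]
    rw [← ho]
    apply orderOf_dvd_of_pow_eq_one
    rcases H49.eq_one_or_negOne_of_mem_center hc with h | h
    · exact h
    · exfalso
      have hneg : H49.spBlock (F := F) e (H49.spNegOne (Fin (n - 1)) F, H49.spNegOne (Fin 1) F)
          = H49.spNegOne (Fin n) F := by
        refine H48.sp_ext fun v => ?_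
        obtain ⟨a, rfl⟩ := (H49.blockEquiv (F := F) e).surjective v
        rw [H49.spBlock_smul, H49.spNegOne_smul, H49.spNegOne_smul, H49.spNegOne_smul, ← map_neg]
        rfl
      rw [hs, ← map_pow, ← hneg] at h
      have h2 : u ^ j = H49.spNegOne (Fin 1) F := congrArg Prod.snd (H49.spBlock_injective e h)
      have h3 : (H49.spNegOne (Fin 1) F) ^ p = 1 := by
        rw [← h2, ← pow_mul, mul_comm, pow_mul, show u ^ p = 1 by
          rw [← pow_one p, ← hu]; exact pow_orderOf_eq_one u, one_pow]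
      have h4 : H49.spNegOne (Fin 1) F = 1 := by
        obtain ⟨k, hk⟩ := (Fact.out : p.Prime).odd_of_ne_two hp
        rwa [hk, pow_succ, pow_mul, pow_two, H49.spNegOne_mul_self, one_pow, one_mul] at h3
      have h5 : (2 : F) ≠ 0 := Ring.two_ne_zero (by rw [ringChar.eq F p]; exact hp)
      have h6 := congrArg (fun A : Matrix.symplecticGroup (Fin 1) F =>
        (A : Matrix (Fin 1 ⊕ Fin 1) (Fin 1 ⊕ Fin 1) F) (Sum.inl 0) (Sum.inl 0)) h4
      simp [H49.spNegOne] at h6
      exact h5 (by linear_combination -h6)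

/-- Let F be a finite field of odd order and n ≥ 3. The simple orthogonal group PΩ(2n+1, F) (type B_n) and the projective symplectic group PSp(2n, F) (type C_n), which have the same order, do not have the same set of element orders. -/
theorem result {F : Type*} [Field F] [Fintype F] (hodd : Odd (Fintype.card F)) (n : ℕ) (hn : 3 ≤ n) :
    Set.range (orderOf : Cfsg.POmega F (Cfsg.quadFormOdd n F) → ℕ) ≠ Set.range (orderOf : Cfsg.PSp n F → ℕ) := by
  classical
  obtain ⟨p, hp⟩ := CharP.exists F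
  haveI : Fact p.Prime := ⟨CharP.char_is_prime F p⟩
  obtain ⟨j, -, hj⟩ := FiniteField.card F p
  have hpq : p ∣ Fintype.card F := by rw [hj]; exact dvd_pow_self p j.ne_zero
  have hp2 : p ≠ 2 := fun h => by
    subst h
    exact (Nat.not_even_iff_odd.2 hodd) (even_iff_two_dvd.2 hpq)
  have hq3 : 3 ≤ Fintype.card F := by
    have := (Fact.out : p.Prime).two_le
    have := Nat.le_of_dvd Fintype.card_pos hpq
    omega
  intro heq
  have hmem := mem_psp (F := F) hp2 (n := n) (by omega) (by rwa [Nat.card_eq_fintype_card])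
  rw [← heq, Nat.card_eq_fintype_card] at hmem
  obtain ⟨x, hx⟩ := hmem
  obtain ⟨r, hr, hrd, hord⟩ :=
    H43.exists_primitive_prime (q := Fintype.card F) (n := 2 * (n - 1)) hq3 (by omega)
  haveI : Fact r.Prime := ⟨hr⟩
  have hrN : r ∣ Fintype.card F ^ (n - 1) + 1 := by
    have h1 : r ∣ (Fintype.card F ^ (n - 1) + 1) * (Fintype.card F ^ (n - 1) - 1) := by
      rw [show 2 * (n - 1) = (n - 1) * 2 by ring, pow_mul, ← one_pow 2, Nat.sq_sub_sq] at hrd
      exact hrd
    refine (hr.dvd_mul.1 h1).resolve_right fun h => ?_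
    rw [← ZMod.natCast_eq_zero_iff, Nat.cast_sub (Nat.one_le_pow _ _ (by omega)), Nat.cast_one,
      sub_eq_zero, Nat.cast_pow] at h
    have := Nat.le_of_dvd (by omega) (orderOf_dvd_of_pow_eq_one h)
    omega
  have h2 : (2 : F) ≠ 0 := Ring.two_ne_zero (by rw [ringChar.eq F p]; exact hp2)
  have hQ := H43.qOdd_nondeg (F := F) h2 n
  revert x
  rw [← H43.coe_qOdd]
  intro x hx
  obtain ⟨g, rfl⟩ := QuotientGroup.mk_surjective x
  have hbot : ∀ c ∈ Subgroup.center (Cfsg.Omega F ⇑(H43.qOdd n F)), c = 1 := by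
    intro c hc
    rcases (H43.omega_center_iff hQ (by simp; omega) c).1 hc with h | h
    · exact Subtype.ext (Subtype.ext (Units.ext h))
    · exfalso
      have hdet := (H43.mem_commutator_iff_odd hQ h2 (by rw [H43.finrank_qOdd]; omega) _).1
        ((H43.mem_Omega_iff c.1).1 c.2)
      have hneg : H43.toOrth (H43.qOdd n F) c.1 = H43.negOrth (H43.qOdd n F) :=
        H43.orth_ext fun v => by
          rw [H43.toOrth_apply, h, H43.negOrth_apply, Matrix.neg_mulVec, Matrix.one_mulVec]
      have h1 := hdet.1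
      rw [hneg, H43.detHom_negOrth, H43.finrank_qOdd, Odd.neg_one_pow ⟨n, by ring⟩] at h1
      exact h2 (by have := congrArg Units.val h1; simp at this; linear_combination -this)
  have hinj : Function.Injective
      (QuotientGroup.mk' (Subgroup.center (Cfsg.Omega F ⇑(H43.qOdd n F)))) := by
    rw [← MonoidHom.ker_eq_bot_iff, QuotientGroup.ker_mk', Subgroup.eq_bot_iff_forall]
    exact hbot
  rw [show (QuotientGroup.mk g : Cfsg.POmega F ⇑(H43.qOdd n F)) = QuotientGroup.mk' _ g from rfl,
    orderOf_injective _ hinj, ← Subgroup.orderOf_coe g,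
    ← orderOf_injective (H43.toOrth (H43.qOdd n F)).toMonoidHom
      (H43.toOrth (H43.qOdd n F)).injective] at hx
  exact H43.orderOf_omega_odd_ne hQ hp2 hn (H43.finrank_qOdd n) hord hrN
    ((H43.mem_Omega_iff g.1).1 g.2) hx

end Cfsg.Agent.S2362
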