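import Cfsg.Statements.S0823
import Cfsg.Agent.H38.SOThree
-- import your own Cfsg.Agent.* helpers here

set_option autoImplicit false
open Cfsg

namespace Cfsg.Agent.S0823

/-- SO_3(3) ≅ S_4: the determinant-one isometries of the form x_0² + x_1y_1 over the field with 3 elements form a group isomorphic to the symmetric group on 4 letters. -/
theorem result {F : Type*} [Field F] [Fintype F] (hF : Fintype.card F = 3) : Nonempty (↥(Cfsg.specialIsometryGroup F (Cfsg.quadFormOdd 1 F)) ≃* Equiv.Perm (Fin 4)) := by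
  classical
  have hall : ∀ x : F, x = 0 ∨ x = 1 ∨ x = -1 := by
    intro x
    let r : ZMod 3 ≃+* F := ZMod.ringEquivOfPrime F Nat.prime_three hF
    obtain ⟨y, rfl⟩ := r.surjective x
    rcases (by clear * -; decide : ∀ z : ZMod 3, z = 0 ∨ z = 1 ∨ z = -1) y with rfl | rfl | rfl <;> simp
  have h2 : (2 : F) ≠ 0 := H38.two_ne_zero_of_odd (by rw [hF]; decide)
  let r : F ≃+* ZMod 3 := (ZMod.ringEquivOfPrime F Nat.prime_three hF).symm
  let T := H38.isometryGroupFieldEquiv r (Q := Cfsg.quadFormOdd 1 F) (Q' := Cfsg.quadFormOdd 1 (ZMod 3))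
    (fun v => by simp [Cfsg.quadFormOdd, map_sum])
  let ψ := (H38.ptPerm.comp T.toMonoidHom).comp (Cfsg.specialIsometryGroup F (Cfsg.quadFormOdd 1 F)).subtype
  have hinj : Function.Injective ψ := by
    rw [injective_iff_map_eq_one]
    intro g hg
    have hT : H38.isoMat (T g.1) =
        (((g.1 : GL (Unit ⊕ (Fin 1 ⊕ Fin 1)) F) : Matrix _ _ F)).map r := rfl
    have hdet : (H38.isoMat (T g.1)).det = 1 := by
      rw [hT]
      show (r.toRingHom.mapMatrix ((g.1 : GL (Unit ⊕ (Fin 1 ⊕ Fin 1)) F) :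
        Matrix (Unit ⊕ (Fin 1 ⊕ Fin 1)) (Unit ⊕ (Fin 1 ⊕ Fin 1)) F)).det = 1
      rw [← RingHom.map_det,
        show ((g.1 : GL (Unit ⊕ (Fin 1 ⊕ Fin 1)) F) : Matrix (Unit ⊕ (Fin 1 ⊕ Fin 1)) (Unit ⊕ (Fin 1 ⊕ Fin 1)) F).det = 1 from congrArg Units.val g.2, map_one]
    rcases H38.ptPerm_ker (T g.1) hg with h | h
    · refine Subtype.ext (Subtype.ext (Units.ext ?_))
      ext i j
      apply r.injective
      rw [hT] at h
      have := congr_fun (congr_fun h i) j
      simp [Matrix.one_apply] at this ⊢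
      rw [this]
    · exfalso
      rw [h, Matrix.det_neg, Matrix.det_one] at hdet
      revert hdet
      clear * -
      decide
  have hcard : Nat.card (Cfsg.specialIsometryGroup F (Cfsg.quadFormOdd 1 F)) = 24 := by
    let d := Matrix.GeneralLinearGroup.det.comp (Cfsg.isometryGroup F (Cfsg.quadFormOdd 1 F)).subtype
    have hneg : (-1 : GL (Unit ⊕ (Fin 1 ⊕ Fin 1)) F) ∈ Cfsg.isometryGroup F (Cfsg.quadFormOdd 1 F) :=
      H38.mem_isometryGroup'.mpr fun v => by simp [Cfsg.quadFormOdd, Matrix.neg_mulVec]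
    have hrange : d.range = ⊤ := by
      rw [eq_top_iff]
      intro u _
      rcases hall (u : F) with h | h | h
      · exact absurd h u.ne_zero
      · exact ⟨1, by rw [map_one]; exact Units.ext h.symm⟩
      · exact ⟨⟨-1, hneg⟩, Units.ext (by
          rw [h]
          show Matrix.det (-1 : Matrix (Unit ⊕ (Fin 1 ⊕ Fin 1)) (Unit ⊕ (Fin 1 ⊕ Fin 1)) F) = -1
          rw [Matrix.det_neg, Matrix.det_one]
          simp
          norm_num)⟩
    have h := d.ker.card_mul_index
    rw [Subgroup.index_ker, hrange, Subgroup.card_top, Nat.card_units, Nat.card_eq_fintype_card (α := F),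
      H38.card_odd h2 1, hF] at h
    norm_num [-Nat.card_eq_fintype_card, Finset.prod_range_succ] at h
    show Nat.card d.ker = 24
    change Nat.card d.ker * 2 = 48 at h
    omega
  exact ⟨MulEquiv.ofBijective ψ ((Nat.bijective_iff_injective_and_card ψ).2 ⟨hinj, by
    rw [hcard, Nat.card_perm, Nat.card_fin]
    rfl⟩)⟩

end Cfsg.Agent.S0823
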