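import Cfsg.Statements.S0828
import Cfsg.Agent.H48.Parabolic
-- import your own Cfsg.Agent.* helpers here

set_option autoImplicit false
open Cfsg

namespace Cfsg.Agent.S0828

/-- The symplectic generalised quadrangle over a field with q elements: the number of 2-dimensional subspaces of F^4 on which the symplectic form vanishes is (q + 1)(q² + 1), and every non-zero vector lies in exactly q + 1 of them. -/
theorem result {F : Type*} [Field F] [Fintype F] {q : ℕ} (hF : Fintype.card F = q) : Nat.card {W : Submodule F (Fin 2 ⊕ Fin 2 → F) // Module.finrank F W = 2 ∧ ∀ u ∈ W, ∀ v ∈ W, Cfsg.sympForm 2 F u v = 0} = (q + 1) * (q ^ 2 + 1) ∧ ∀ v : Fin 2 ⊕ Fin 2 → F, v ≠ 0 → Nat.card {W : Submodule F (Fin 2 ⊕ Fin 2 → F) // Module.finrank F W = 2 ∧ v ∈ W ∧ ∀ u ∈ W, ∀ w ∈ W, Cfsg.sympForm 2 F u w = 0} = q + 1 := by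
  subst hF
  set q := Fintype.card F
  have hq : 1 < q := Fintype.one_lt_card
  have h3 : q ^ 3 - q = (q + 1) * (q ^ 2 - q) := by
    have e2 : q ≤ q ^ 2 := Nat.le_self_pow two_ne_zero q
    have e3 : q ≤ q ^ 3 := Nat.le_self_pow three_ne_zero q
    zify [e2, e3]
    ring
  have hpos : 0 < q ^ 2 - q := by
    have : q ^ 2 = q * q := sq q
    have : 2 * q ≤ q * q := Nat.mul_le_mul_right q hq
    omega
  constructor
  · have h := H48.card_isotropic_mul (m := 2) (F := F) 2
    rw [H48.card_frames, Fin.prod_univ_two, Fintype.card_fin] at h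
    simp only [Finset.prod_range_succ, Finset.prod_range_zero, one_mul, Nat.sub_zero, pow_zero,
      Fin.val_zero, Fin.val_one, pow_one, show 2 * 2 - 1 = 3 from rfl] at h
    rw [h3] at h
    refine Nat.eq_of_mul_eq_mul_right (Nat.mul_pos (show 0 < q ^ 2 - 1 from ?_) hpos) (h.trans ?_)
    · have := Nat.one_lt_pow two_ne_zero hq
      omega
    · have h4 : q ^ (2 * 2) - 1 = (q ^ 2 + 1) * (q ^ 2 - 1) := by
        rw [show q ^ (2 * 2) = (q ^ 2) ^ 2 by ring]
        exact Nat.sq_sub_sq (q ^ 2) 1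
      rw [h4]
      ring
  · intro v hv
    have h := H48.card_isotropic_planes_through (m := 2) (F := F) hv
    rw [show 2 * 2 - 1 = 3 from rfl, h3] at h
    exact Nat.eq_of_mul_eq_mul_right hpos h

end Cfsg.Agent.S0828
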