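import Cfsg.Statements.S0830
import Cfsg.Agent.H50.TotIso

set_option autoImplicit false
open Cfsg

namespace Cfsg.Agent.S0830

/-- The unitary quadrangle of PSU_5(q): with |F| = q², the number of 2-dimensional subspaces of F^5 on which the Hermitian form vanishes is (q³ + 1)(q⁵ + 1). -/
theorem result {F : Type*} [Field F] [Fintype F] {q : ℕ} (hF : Fintype.card F = q ^ 2) : Nat.card {W : Submodule F (Fin 5 → F) // Module.finrank F W = 2 ∧ ∀ u ∈ W, ∀ v ∈ W, Cfsg.hermForm 5 F q u v = 0} = (q ^ 3 + 1) * (q ^ 5 + 1) := by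
  have h := H50.card_TISpace_mul hF 5 2
  rw [H50.card_TIFrame_rec hF 3 1, H50.card_TIFrame_rec hF 1 0, H50.card_TIFrame_zero hF,
    Fin.prod_univ_two] at h
  simp only [Fin.val_zero, Fin.val_one, pow_zero, pow_one, mul_one, one_mul] at h
  have hq := H50.two_le hF
  have h1 := H50.norm_zero_count_sub_one hF 3
  have h2 := H50.norm_zero_count_sub_one hF 1
  norm_num at h1 h2
  have e1 : 1 ≤ (q ^ 2) ^ 2 := Nat.one_le_pow _ _ (by positivity)
  have e2 : q ^ 2 ≤ (q ^ 2) ^ 2 := Nat.le_self_pow (by norm_num) _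
  have hz := congrArg (Nat.cast : ℕ → ℤ) h
  push_cast [Nat.cast_sub e1, Nat.cast_sub e2] at hz
  rw [h1, h2] at hz
  apply Int.ofNat_inj.1
  push_cast
  have hq2 : (1 : ℤ) < (q : ℤ) ^ 2 := by nlinarith [(by exact_mod_cast hq : (2 : ℤ) ≤ q)]
  have hne : (((q : ℤ) ^ 2) ^ 2 - 1) * (((q : ℤ) ^ 2) ^ 2 - (q : ℤ) ^ 2) ≠ 0 := by
    refine mul_ne_zero ?_ ?_ <;> nlinarith
  refine mul_right_cancel₀ hne (hz.trans ?_)
  ring

end Cfsg.Agent.S0830
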