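import Cfsg.Statements.S0832
import Cfsg.Agent.H43.MaxSing

set_option autoImplicit false
open Cfsg

namespace Cfsg.Agent.S0832

/-- For the form Σ x_i y_i on F^(2m) over a finite field, m ≥ 1: an (m−1)-dimensional subspace on which the form vanishes is contained in exactly two m-dimensional subspaces on which it vanishes. -/
theorem result {F : Type*} [Field F] [Finite F] (m : ℕ) (hm : 1 ≤ m) (U : Submodule F (Fin m ⊕ Fin m → F)) (hU : Module.finrank F U + 1 = m ∧ ∀ u ∈ U, Cfsg.quadFormPlus m F u = 0) : Nat.card {W : Submodule F (Fin m ⊕ Fin m → F) // Module.finrank F W = m ∧ (∀ w ∈ W, Cfsg.quadFormPlus m F w = 0) ∧ U ≤ W} = 2 := by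
  rw [← H43.coe_qPlus] at hU ⊢
  obtain ⟨W, W', hne, hiff⟩ := H43.exists_two_through (H43.qPlus_nondeg m) (H43.finrank_qPlus m)
    (H43.stdTS_isTS m F) hU.1 hU.2
  rw [Nat.card_eq_two_iff]
  refine ⟨⟨W, ((hiff W).mpr (Or.inl rfl)).1.1, ((hiff W).mpr (Or.inl rfl)).1.2,
    ((hiff W).mpr (Or.inl rfl)).2⟩, ⟨W', ((hiff W').mpr (Or.inr rfl)).1.1,
    ((hiff W').mpr (Or.inr rfl)).1.2, ((hiff W').mpr (Or.inr rfl)).2⟩,
    fun h => hne (congrArg Subtype.val h), Set.eq_univ_of_forall ?_⟩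
  rintro ⟨A, hA1, hA2, hA3⟩
  rcases (hiff A).mp ⟨⟨hA1, hA2⟩, hA3⟩ with rfl | rfl <;> simp

end Cfsg.Agent.S0832
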