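import Cfsg.Statements.S0833
import Cfsg.Agent.H43.Forms

set_option autoImplicit false
open Cfsg

namespace Cfsg.Agent.S0833

/-- If B₁, B₂ are non-degenerate alternating forms on U (dim 2k) and W (dim 2l), then B₁ ⊗ B₂ on U ⊗ W is symmetric, non-degenerate, and vanishes identically on some subspace of dimension 2kl (half of dim U ⊗ W). -/
theorem result {F U W : Type*} [Field F] [Fintype F] [AddCommGroup U] [Module F U] [FiniteDimensional F U] [AddCommGroup W] [Module F W] [FiniteDimensional F W] (B₁ : LinearMap.BilinForm F U) (B₂ : LinearMap.BilinForm F W) (h₁ : B₁.Nondegenerate) (h₂ : B₂.Nondegenerate) (hA₁ : B₁.IsAlt) (hA₂ : B₂.IsAlt) (k l : ℕ) (hU : Module.finrank F U = 2 * k) (hW : Module.finrank F W = 2 * l) : (B₁.tmul B₂).IsSymm ∧ (B₁.tmul B₂).Nondegenerate ∧ (∃ X : Submodule F (TensorProduct F U W), Module.finrank F X = 2 * k * l ∧ ∀ x ∈ X, ∀ y ∈ X, (B₁.tmul B₂) x y = 0) := by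
  classical
  obtain ⟨m₁, k₁, b₁, hs₁, hmk₁, ha1, ha2, ha3, ha4⟩ :=
    H43.exists_symplectic_basis (F := F) _ U B₁ hA₁ rfl
  obtain ⟨m₂, k₂, b₂, hs₂, hmk₂, hb1, hb2, hb3, hb4⟩ :=
    H43.exists_symplectic_basis (F := F) _ W B₂ hA₂ rfl
  let c₁ := basisOfTopLeSpanOfCardEqFinrank b₁ hs₁.ge (by simp; omega)
  let c₂ := basisOfTopLeSpanOfCardEqFinrank b₂ hs₂.ge (by simp; omega)
  have hk₁ : k₁ = 0 := by
    by_contra hne
    apply c₁.ne_zero (Sum.inr ⟨0, Nat.pos_of_ne_zero hne⟩)
    exact h₁.1 _ fun v => by rw [coe_basisOfTopLeSpanOfCardEqFinrank]; exact ha4 _ v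
  have htmul : ∀ a b a' b', (B₁.tmul B₂) (TensorProduct.tmul F a b) (TensorProduct.tmul F a' b')
      = B₁ a a' * B₂ b b' := fun a b a' b' => by simp [mul_comm]
  have hsymm : ∀ x y, (B₁.tmul B₂) x y = (B₁.tmul B₂) y x := by
    intro x y
    induction x using TensorProduct.induction_on generalizing y with
    | zero => simp
    | tmul a b =>
      induction y using TensorProduct.induction_on with
      | zero => simp
      | tmul a' b' => rw [htmul, htmul, ← hA₁.neg_eq a' a, ← hA₂.neg_eq b' b]; ring
      | add y₁ y₂ h1 h2 => simp only [map_add, LinearMap.add_apply, h1, h2]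
    | add x₁ x₂ h1 h2 => simp only [map_add, LinearMap.add_apply, h1, h2]
  refine ⟨⟨hsymm⟩, ?_, ?_⟩
  · have key : ∀ x, (∀ y, (B₁.tmul B₂) x y = 0) → x = 0 := by
      intro x hx
      let e₁ : TensorProduct F U W →ₗ[F] TensorProduct F (Module.Dual F U) (Module.Dual F W) :=
        TensorProduct.map B₁ B₂
      have hinj : Function.Injective e₁ :=
        (TensorProduct.congr (B₁.toDual h₁) (B₂.toDual h₂)).injective
      have hcomp : ∀ z y, (B₁.tmul B₂) z y = TensorProduct.dualDistrib F U W (e₁ z) y := by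
        intro z y
        induction z using TensorProduct.induction_on with
        | zero => simp
        | tmul a b =>
          induction y using TensorProduct.induction_on with
          | zero => simp
          | tmul a' b' => rw [htmul]; simp [e₁, mul_comm]
          | add y₁ y₂ h1 h2 => rw [map_add, map_add, h1, h2]
        | add z₁ z₂ h1 h2 => simp only [map_add, LinearMap.add_apply, h1, h2]
      have h0 : TensorProduct.dualDistrib F U W (e₁ x) = 0 :=
        LinearMap.ext fun y => by rw [← hcomp, hx y]; rfl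
      have : e₁ x = 0 := (TensorProduct.dualDistribEquiv F U W).injective (by
        rw [map_zero]; exact h0)
      exact hinj (this.trans (map_zero _).symm)
    exact ⟨key, fun x hx => key x fun y => by rw [hsymm]; exact hx y⟩
  · let f : Fin m₁ × ((Fin m₂ ⊕ Fin m₂) ⊕ Fin k₂) → TensorProduct F U W :=
      fun p => TensorProduct.tmul F (b₁ (.inl (.inl p.1))) (b₂ p.2)
    have hli : LinearIndependent F f := by
      have := (c₁.tensorProduct c₂).linearIndependent.comp
        (fun p : Fin m₁ × ((Fin m₂ ⊕ Fin m₂) ⊕ Fin k₂) =>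
          ((Sum.inl (Sum.inl p.1), p.2) : ((Fin m₁ ⊕ Fin m₁) ⊕ Fin k₁) × _))
        (fun p q h => by
          simp only [Prod.mk.injEq, Sum.inl.injEq] at h
          exact Prod.ext h.1 h.2)
      have hf : f = ⇑(c₁.tensorProduct c₂) ∘ (fun p : Fin m₁ × ((Fin m₂ ⊕ Fin m₂) ⊕ Fin k₂) =>
          ((Sum.inl (Sum.inl p.1), p.2) : ((Fin m₁ ⊕ Fin m₁) ⊕ Fin k₁) × _)) := by
        funext p
        simp [f, c₁, c₂]
      rw [hf]
      exact this
    refine ⟨Submodule.span F (Set.range f), ?_, fun x hx y hy => ?_⟩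
    · rw [finrank_span_eq_card hli]
      simp
      rw [hU, hk₁] at hmk₁
      rw [hW] at hmk₂
      have e1 : m₁ = k := by omega
      rw [e1]
      rw [show m₂ + m₂ + k₂ = 2 * l from hmk₂]
      ring
    · induction hx using Submodule.span_induction with
      | mem x hx =>
        induction hy using Submodule.span_induction with
        | mem y hy =>
          obtain ⟨p, rfl⟩ := hx
          obtain ⟨q, rfl⟩ := hy
          simp only [f]
          rw [htmul, ha2, zero_mul]
        | zero => simp
        | add a b _ _ h1 h2 => rw [map_add, h1, h2, add_zero]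
        | smul r a _ h1 => rw [map_smul, h1, smul_zero]
      | zero => simp
      | add a b _ _ h1 h2 => rw [map_add, LinearMap.add_apply, h1, h2, add_zero]
      | smul r a _ h1 => rw [map_smul, LinearMap.smul_apply, h1, smul_zero]

end Cfsg.Agent.S0833
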