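import Cfsg.Statements.S0835
import Cfsg.Agent.H38.WittType
-- import your own Cfsg.Agent.* helpers here

set_option autoImplicit false
open Cfsg

namespace Cfsg.Agent.S0835

/-- Over a finite field with 2 ≠ 0: if B₁ on U (dim 2k, k ≥ 1) is non-degenerate symmetric of minus type (no totally isotropic k-subspace) and B₂ on W (dim 2l + 1) is non-degenerate symmetric, then B₁ ⊗ B₂ (dimension 2k(2l+1)) admits no totally isotropic subspace of dimension k(2l+1) (minus type). -/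
theorem result {F U W : Type*} [Field F] [Fintype F] [AddCommGroup U] [Module F U] [FiniteDimensional F U] [AddCommGroup W] [Module F W] [FiniteDimensional F W] (h2 : (2 : F) ≠ 0) (B₁ : LinearMap.BilinForm F U) (B₂ : LinearMap.BilinForm F W) (h₁ : B₁.Nondegenerate) (h₂ : B₂.Nondegenerate) (hS₁ : B₁.IsSymm) (hS₂ : B₂.IsSymm) (k l : ℕ) (hk : 1 ≤ k) (hU : Module.finrank F U = 2 * k) (hW : Module.finrank F W = 2 * l + 1) (hm₁ : ¬ (∃ X : Submodule F (U), Module.finrank F X = k ∧ ∀ x ∈ X, ∀ y ∈ X, (B₁) x y = 0)) : ¬ (∃ X : Submodule F (TensorProduct F U W), Module.finrank F X = k * (2 * l + 1) ∧ ∀ x ∈ X, ∀ y ∈ X, (B₁.tmul B₂) x y = 0) := by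
  classical
  let b := Module.finBasisOfFinrankEq F U hU
  let c := Module.finBasisOfFinrankEq F W hW
  have hd₁ := H38.gram_det_ne_zero' B₁ h₁ b
  have hd₂ := H38.gram_det_ne_zero' B₂ h₂ c
  set d₁ := (Matrix.of fun i j => B₁ (b i) (b j)).det
  set d₂ := (Matrix.of fun i j => B₂ (c i) (c j)).det
  have hns : ¬ IsSquare ((-1) ^ k * d₁) := fun h =>
    hm₁ ((H38.exists_half_isotropic_iff h2 B₁ hS₁ hU b hd₁).mpr h)
  have hfr : Module.finrank F (TensorProduct F U W) = 2 * (k * (2 * l + 1)) := by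
    rw [Module.finrank_tensorProduct, hU, hW]; ring
  have hdet := H38.tmul_gram_det B₁ B₂ b c
  rw [Fintype.card_fin, Fintype.card_fin] at hdet
  rw [H38.exists_half_isotropic_iff h2 (B₁.tmul B₂) (H38.tmul_isSymm B₁ B₂ hS₁ hS₂) hfr (b.tensorProduct c)
    (by rw [hdet]; exact mul_ne_zero (pow_ne_zero _ hd₁) (pow_ne_zero _ hd₂)), hdet]
  intro h
  apply hns
  have hne : ((-1) ^ k * d₁) ^ l * d₂ ^ k ≠ 0 :=
    mul_ne_zero (pow_ne_zero _ (mul_ne_zero (pow_ne_zero _ (neg_ne_zero.mpr one_ne_zero)) hd₁))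
      (pow_ne_zero _ hd₂)
  rw [← H44.isSquare_sq_mul_iff hne]
  convert h using 1
  ring

end Cfsg.Agent.S0835
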