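import Cfsg.Statements.S0836
-- import your own Cfsg.Agent.* helpers here

set_option autoImplicit false
open Cfsg

open scoped commutatorElement

namespace Cfsg.Agent.S0836

/-- For i ≠ j and any scalar c, the elementary transvection 1 + c E_ij is a commutator ⁅g, h⁆ of two elements of SL_n(F) provided n ≥ 3, or n = 2 and F contains x ≠ 0 with x² ≠ 1. -/
theorem result {F : Type*} [Field F] (n : ℕ) (hn : 3 ≤ n ∨ (n = 2 ∧ ∃ x : F, x ≠ 0 ∧ x ^ 2 ≠ 1)) (i j : Fin n) (hij : i ≠ j) (c : F) (t : Matrix.SpecialLinearGroup (Fin n) F) (ht : (t : Matrix (Fin n) (Fin n) F) = Matrix.transvection i j c) : t ∈ commutatorSet (Matrix.SpecialLinearGroup (Fin n) F) := by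
  have key : ∀ (a b : F) (k : Fin n) (hik : i ≠ k) (hkj : k ≠ j), a * b = c →
      t = ⁅Matrix.SpecialLinearGroup.transvection hik a,
        Matrix.SpecialLinearGroup.transvection hkj b⁆ := by
    intro a b k hik hkj hab
    apply Subtype.ext
    rw [commutatorElement_def, Matrix.SpecialLinearGroup.transvection_inv,
      Matrix.SpecialLinearGroup.transvection_inv]
    simp only [Matrix.SpecialLinearGroup.coe_mul, Matrix.SpecialLinearGroup.transvection_coe, ht,
      Matrix.transvection]
    simp [add_mul, mul_add, Matrix.single_mul_single_of_ne, hik, hkj, hij, hik.symm, hkj.symm,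
      hij.symm, hab, ← Matrix.single_add, ← Matrix.single_neg]
    abel
  rcases hn with h3 | ⟨h2, x, hx0, hx⟩
  · obtain ⟨k, hk⟩ : ∃ k : Fin n, k ∉ ({i, j} : Finset (Fin n)) := by
      by_contra h
      push Not at h
      have := Finset.card_le_card (s := Finset.univ) (t := ({i, j} : Finset (Fin n))) fun k _ => h k
      have h2 := Finset.card_le_two (a := i) (b := j)
      simp at this
      omega
    simp only [Finset.mem_insert, Finset.mem_singleton, not_or] at hk
    exact ⟨_, _, (key c 1 k (Ne.symm hk.1) hk.2 (mul_one c)).symm⟩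
  · subst h2
    refine ⟨Matrix.SpecialLinearGroup.diag2n hij x hx0,
      Matrix.SpecialLinearGroup.transvection hij (c / (x ^ 2 - 1)), ?_⟩
    have hd : x ^ 2 - 1 ≠ 0 := sub_ne_zero.2 hx
    rw [commutatorElement_def, mul_inv_eq_iff_eq_mul, mul_inv_eq_iff_eq_mul]
    apply Subtype.ext
    simp only [Matrix.SpecialLinearGroup.coe_mul, Matrix.SpecialLinearGroup.transvection_coe,
      Matrix.SpecialLinearGroup.diag2n_coe, ht]
    fin_cases i <;> fin_cases j <;> simp at hij <;>
    · ext a b
      fin_cases a <;> fin_cases b <;>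
        simp [Matrix.mul_apply, Fin.sum_univ_two, Matrix.transvection, Matrix.single,
          Matrix.diagonal] <;> field_simp <;> ring

end Cfsg.Agent.S0836
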