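import Cfsg.Statements.S0838
import Cfsg.Agent.H43.Forms

set_option autoImplicit false
open Cfsg

namespace Cfsg.Agent.S0838

/-- Over a finite field with 2 ≠ 0 and n odd: two quadratic forms Q₁, Q₂ on F^n with non-degenerate polar forms are similar — there are an invertible linear map g and a scalar c ≠ 0 with Q₂ (g v) = c · Q₁ v for all v. -/
theorem result {F : Type*} [Field F] [Fintype F] (h2 : (2 : F) ≠ 0) {n : ℕ} (hn : Odd n) (Q₁ Q₂ : QuadraticForm F (Fin n → F)) (h₁ : (QuadraticMap.polarBilin Q₁).Nondegenerate) (h₂ : (QuadraticMap.polarBilin Q₂).Nondegenerate) : ∃ (g : (Fin n → F) ≃ₗ[F] (Fin n → F)) (c : F), c ≠ 0 ∧ ∀ v, Q₂ (g v) = c * Q₁ v := by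
  classical
  obtain ⟨k, rfl⟩ : ∃ k, n = k + 1 := ⟨n - 1, by obtain ⟨j, rfl⟩ := hn; omega⟩
  obtain ⟨α, hα⟩ := FiniteField.exists_nonsquare (F := F) fun h => h2 (by
    have := ringChar.Nat.cast_ringChar (R := F)
    rw [h] at this
    exact_mod_cast this)
  have hα0 : α ≠ 0 := fun h => hα (h ▸ IsSquare.zero)
  let w : F → Fin (k + 1) → F := fun c i => if i = Fin.last k then c else 1
  have norm : ∀ Q : QuadraticForm F (Fin (k + 1) → F), (H43.polB Q).Nondegenerate →
      ∃ (c : F) (g : (Fin (k + 1) → F) ≃ₗ[F] (Fin (k + 1) → F)), (c = 1 ∨ c = α) ∧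
        ∀ x, Q (g x) = (2 : F)⁻¹ * ∑ i, w c i * (x i * x i) := by
    intro Q hQ
    obtain ⟨b, horth, hone, hlast⟩ := H43.exists_orth_basis h2 (H43.polB Q)
      ⟨fun x y => H43.polB_comm x y⟩ hQ (n := k) (by simp) α hα
    refine ⟨H43.polB Q (b (Fin.last k)) (b (Fin.last k)), b.equivFun.symm, hlast, fun x => ?_⟩
    have e : H43.polB Q (b.equivFun.symm x) (b.equivFun.symm x)
        = ∑ i, H43.polB Q (b i) (b i) * (x i * x i) := by
      simp only [Module.Basis.equivFun_symm_apply, map_sum, LinearMap.sum_apply]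
      refine Finset.sum_congr rfl fun i _ => ?_
      rw [Finset.sum_eq_single i]
      · simp; ring
      · intro j _ hj; simp [horth j i hj, horth i j (Ne.symm hj)]
      · simp
    rw [H43.polB_self] at e
    have h3 : ∀ i, H43.polB Q (b i) (b i) * (x i * x i)
        = w (H43.polB Q (b (Fin.last k)) (b (Fin.last k))) i * (x i * x i) := by
      intro i
      by_cases hi : i = Fin.last k
      · subst hi; simp [w]
      · simp [w, hi, hone i hi]
    rw [← Finset.sum_congr rfl (fun i _ => h3 i), ← e, ← mul_assoc, inv_mul_cancel₀ h2, one_mul]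
  obtain ⟨c₁, g₁, hc₁, hg₁⟩ := norm Q₁ h₁
  obtain ⟨c₂, g₂, hc₂, hg₂⟩ := norm Q₂ h₂
  have hα₁ : (H43.polB (α • Q₁)).Nondegenerate := by
    have key : ∀ x, (∀ y, H43.polB (α • Q₁) x y = 0) → x = 0 := fun x hx => h₁.1 x fun y => by
      have h := hx y
      simp only [H43.polB_apply, QuadraticMap.polar, QuadraticMap.smul_apply, smul_eq_mul] at h
      show QuadraticMap.polar ⇑Q₁ x y = 0
      rw [QuadraticMap.polar]
      exact (mul_eq_zero.mp (by linear_combination h : α * (Q₁ (x + y) - Q₁ x - Q₁ y) = 0)).resolve_left hα0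
    exact ⟨key, fun x hx => key x fun y => by rw [H43.polB_comm]; exact hx y⟩
  obtain ⟨c₃, g₃, hc₃, hg₃⟩ := norm (α • Q₁) hα₁
  by_cases h12 : c₁ = c₂
  · refine ⟨g₁.symm.trans g₂, 1, one_ne_zero, fun v => ?_⟩
    rw [LinearEquiv.trans_apply, hg₂, ← h12, ← hg₁, LinearEquiv.apply_symm_apply, one_mul]
  have hne : c₁ ≠ c₃ := by
    intro h13
    have h := H43.gram_det_comp (α • Q₁) Q₁ ((g₃.symm.trans g₁ : _ ≃ₗ[F] _) :
      (Fin (k + 1) → F) →ₗ[F] (Fin (k + 1) → F)) (fun v => by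
        rw [LinearEquiv.coe_coe, LinearEquiv.trans_apply, hg₁, h13, ← hg₃,
          LinearEquiv.apply_symm_apply])
    rw [H43.gram_smul, Matrix.det_smul, Fintype.card_fin] at h
    set d := LinearMap.det ((g₃.symm.trans g₁ : _ ≃ₗ[F] _) :
      (Fin (k + 1) → F) →ₗ[F] (Fin (k + 1) → F))
    have hd : α ^ (k + 1) = d * d := mul_right_cancel₀ (H43.gram_det_ne_zero h₁) h
    obtain ⟨j, hj⟩ := hn
    rw [hj, pow_succ, pow_mul] at hd
    refine hα ⟨d / α ^ j, ?_⟩
    field_simp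
    linear_combination hd
  have h32 : c₃ = c₂ := by
    rcases hc₁ with rfl | rfl <;> rcases hc₂ with rfl | rfl <;> rcases hc₃ with rfl | rfl <;>
      simp_all
  refine ⟨g₃.symm.trans g₂, α, hα0, fun v => ?_⟩
  rw [LinearEquiv.trans_apply, hg₂, ← h32, ← hg₃, LinearEquiv.apply_symm_apply]
  simp

end Cfsg.Agent.S0838
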