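import Cfsg.Statements.S0839
-- import your own Cfsg.Agent.* helpers here

set_option autoImplicit false
open Cfsg

open scoped Matrix

namespace Cfsg.Agent.S0839

/-- Every transvection t ∈ SL_(n+2)(F) (rank(t − 1) = 1, (t − 1)² = 0) is conjugate in SL_(n+2)(F) to 1 + v·e_0ᵀ for some column vector v with v_0 = 0 (the group A of matrices that are the identity except in the first column below the diagonal); the dimension is written n + 2 ≥ 2. -/
theorem result {F : Type*} [Field F] (n : ℕ) (t : Matrix.SpecialLinearGroup (Fin (n + 2)) F) (ht : Cfsg.IsTransvection (t : Matrix (Fin (n + 2)) (Fin (n + 2)) F)) : ∃ (g : Matrix.SpecialLinearGroup (Fin (n + 2)) F) (v : Fin (n + 2) → F), v 0 = 0 ∧ ((g⁻¹ * t * g : Matrix.SpecialLinearGroup (Fin (n + 2)) F) : Matrix (Fin (n + 2)) (Fin (n + 2)) F) = 1 + Matrix.vecMulVec v (Pi.single 0 1) := by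
  classical
  obtain ⟨hr, hsq⟩ := ht
  set N : Matrix (Fin (n + 2)) (Fin (n + 2)) F := (t : Matrix (Fin (n + 2)) (Fin (n + 2)) F) - 1 with hN
  rw [Matrix.rank_eq_finrank_span_row, finrank_eq_one_iff'] at hr
  obtain ⟨⟨w, hwm⟩, hw0, hw⟩ := hr
  have hw0' : w ≠ 0 := fun h => hw0 (Subtype.ext h)
  choose v hv using fun i => hw ⟨N.row i, Submodule.subset_span ⟨i, rfl⟩⟩
  have hNv : N = Matrix.vecMulVec v w := by
    ext i k
    exact (congrFun (congrArg Subtype.val (hv i)) k).symm
  obtain ⟨k, hk⟩ := Function.ne_iff.1 hw0'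
  set A : Matrix (Fin (n + 2)) (Fin (n + 2)) F := (1 : Matrix _ _ F).updateRow k w
  have hA : A.det = w k := by
    have h := Matrix.det_updateRow_sum (1 : Matrix (Fin (n + 2)) (Fin (n + 2)) F) k w
    rw [Matrix.det_one, smul_eq_mul, mul_one] at h
    rw [← h]
    simp only [A]
    congr 2
    funext l
    simp [Matrix.one_apply]
  set B : Matrix (Fin (n + 2)) (Fin (n + 2)) F := A.submatrix (Equiv.swap 0 k) id
  have hB : B.det ≠ 0 := by
    rw [show B.det = Equiv.Perm.sign (Equiv.swap 0 k) * A.det from Matrix.det_permute _ _, hA]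
    rcases Int.units_eq_one_or (Equiv.Perm.sign (Equiv.swap 0 k)) with h | h <;> simp [h] <;>
      exact hk
  set C := B.updateRow 1 (B.det⁻¹ • B 1)
  have hC : C.det = 1 := by
    simp only [C, Matrix.det_updateRow_smul, Matrix.updateRow_eq_self]
    exact inv_mul_cancel₀ hB
  have h01 : (0 : Fin (n + 2)) ≠ 1 := by simp
  have hC0 : C 0 = w := by
    simp only [C, Matrix.updateRow_ne h01]
    funext l
    simp [B, A]
  let M : Matrix.SpecialLinearGroup (Fin (n + 2)) F := ⟨C, hC⟩
  refine ⟨M⁻¹, C *ᵥ v, ?_, ?_⟩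
  · have hne : v ≠ 0 := by
      rintro rfl
      rw [Matrix.zero_vecMulVec] at hNv
      have : N.rank = 1 := by
        rw [Matrix.rank_eq_finrank_span_row, finrank_eq_one_iff']
        exact ⟨⟨w, hwm⟩, hw0, hw⟩
      simp [hNv] at this
    obtain ⟨a, ha⟩ := Function.ne_iff.1 hne
    have h := congrFun (congrFun hsq a) k
    rw [hNv, Matrix.vecMulVec_mul_vecMulVec] at h
    simp only [Matrix.vecMulVec_apply, Pi.smul_apply, smul_eq_mul, Matrix.zero_apply,
      mul_eq_zero] at h
    rcases h with h | h | h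
    · exact absurd h ha
    · rw [Matrix.mulVec, hC0]; exact h
    · exact absurd h hk
  · have hMM : (M : Matrix (Fin (n + 2)) (Fin (n + 2)) F) *
        ((M⁻¹ : Matrix.SpecialLinearGroup (Fin (n + 2)) F) : Matrix (Fin (n + 2)) (Fin (n + 2)) F) = 1 := by
      rw [← Matrix.SpecialLinearGroup.coe_mul, mul_inv_cancel, Matrix.SpecialLinearGroup.coe_one]
    have ht' : (t : Matrix (Fin (n + 2)) (Fin (n + 2)) F) = 1 + Matrix.vecMulVec v w := by
      rw [← hNv, hN]; abel
    rw [inv_inv, Matrix.SpecialLinearGroup.coe_mul, Matrix.SpecialLinearGroup.coe_mul, ht', mul_add,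
      mul_one, add_mul, hMM, Matrix.mul_vecMulVec, Matrix.vecMulVec_mul]
    congr 2
    have : w = Matrix.vecMul (Pi.single 0 1) (M : Matrix (Fin (n + 2)) (Fin (n + 2)) F) := by
      rw [Matrix.single_one_vecMul]; exact hC0.symm
    rw [this, Matrix.vecMul_vecMul, hMM, Matrix.vecMul_one]

end Cfsg.Agent.S0839
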