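import Cfsg.Statements.S0841
import Mathlib.GroupTheory.Commutator.Basic
import Mathlib.Tactic


set_option autoImplicit false
open Cfsg

namespace Cfsg.Agent.S0841

/-- If the commutator subgroup of G lies in the centre, then for all x, y in G and every natural number n one has (x * y) ^ n = x ^ n * y ^ n * c ^ (n * (n - 1) / 2) with c = y⁻¹ * x⁻¹ * y * x. -/
theorem result {G : Type*} [Group G] (hG : commutator G ≤ Subgroup.center G) (x y : G) (n : ℕ) : (x * y) ^ n = x ^ n * y ^ n * (y⁻¹ * x⁻¹ * y * x) ^ (n * (n - 1) / 2) := by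
  set c := y⁻¹ * x⁻¹ * y * x with hc
  have hcen : ∀ z : G, z * c = c * z := by
    intro z
    have hmem : c ∈ commutator G := by
      have h := Subgroup.commutator_mem_commutator (H₁ := ⊤) (H₂ := ⊤)
        (Subgroup.mem_top (y⁻¹)) (Subgroup.mem_top (x⁻¹))
      simpa [commutatorElement_def, hc, commutator_def] using h
    exact Subgroup.mem_center_iff.1 (hG hmem) z
  have hyx : y * x = x * y * c := by rw [hc]; group
  have hcm : ∀ (z : G) (m : ℕ), z * c ^ m = c ^ m * z := fun z m =>
    ((Commute.pow_right (show Commute z c from hcen z)) m).eq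
  have hyn : ∀ m : ℕ, y ^ m * x = x * y ^ m * c ^ m := by
    intro m
    induction m with
    | zero => simp
    | succ m ih =>
      calc y ^ (m + 1) * x = y ^ m * (y * x) := by rw [pow_succ, mul_assoc]
        _ = (y ^ m * x) * (y * c) := by rw [hyx]; simp [mul_assoc]
        _ = x * y ^ m * ((c ^ m * y) * c) := by rw [ih]; simp [mul_assoc]
        _ = x * y ^ m * ((y * c ^ m) * c) := by rw [hcm]
        _ = x * y ^ (m+1) * c ^ (m+1) := by simp [pow_succ, mul_assoc]
  induction n with
  | zero => simp
  | succ n ih =>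
    have harith : (n + 1) * (n + 1 - 1) / 2 = n * (n - 1) / 2 + n := by
      have h1 := Finset.sum_range_id (n + 1)
      have h2 := Finset.sum_range_id n
      rw [Finset.sum_range_succ] at h1
      omega
    rw [harith, pow_succ (x * y) n, ih, pow_add c]
    calc x ^ n * y ^ n * c ^ (n * (n - 1) / 2) * (x * y)
        = x ^ n * (y ^ n * (c ^ (n * (n - 1) / 2) * x)) * y := by simp [mul_assoc]
      _ = x ^ n * ((y ^ n * x) * c ^ (n * (n - 1) / 2)) * y := by rw [← hcm]; simp [mul_assoc]
      _ = x ^ (n+1) * y ^ n * ((c ^ n * c ^ (n * (n - 1) / 2)) * y) := by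
            rw [hyn]; simp [pow_succ, mul_assoc]
      _ = x ^ (n + 1) * y ^ (n + 1) * (c ^ (n * (n - 1) / 2) * c ^ n) := by
            rw [← pow_add, ← hcm, ← pow_add, Nat.add_comm n (n*(n-1)/2)]
            simp [pow_succ, mul_assoc]

end Cfsg.Agent.S0841
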