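import Cfsg.Statements.S0845
import Cfsg.Agent.H14.BrauerSuzukiTheorem
import Cfsg.Agent.H13.Kernel

set_option autoImplicit false
open Cfsg

namespace Cfsg.Agent.S0845

/-- Suppose a Sylow 2-subgroup S of the finite group G is generalized quaternion of order at least 16. Then G has a normal subgroup M of even order such that G / M is non-abelian, that is, M does not contain the commutator subgroup of G. -/
theorem result {G : Type*} [Group G] [Finite G] (S : Sylow 2 G) (n : ℕ) (e : (S : Subgroup G) ≃* QuaternionGroup (2 ^ (n + 2))) : ∃ M : Subgroup G, M.Normal ∧ Even (Nat.card M) ∧ ¬ commutator G ≤ M := by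
  classical
  letI := Fintype.ofFinite G
  obtain ⟨χ₁, χ₂, h1, h2, -, -, hdeg, -, hinv, -⟩ := H14.quat_exceptional S n e
  obtain ⟨z, hz⟩ := H14.exists_involution S n e
  obtain ⟨M, hMn, hM⟩ := H24.exists_ker (H12.isCharacter_of_isIrrCharacter h1)
  refine ⟨M, hMn, ?_, fun hle => ?_⟩
  · have hzM : z ∈ M := (hM z).mpr (hinv z hz).1
    have := orderOf_dvd_natCard (⟨z, hzM⟩ : M)
    rw [Subgroup.orderOf_mk, hz] at this
    exact even_iff_two_dvd.mpr this
  · haveI := hMn
    haveI : Fintype (G ⧸ M) := Fintype.ofFinite _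
    obtain ⟨ψ, hψ⟩ := H13.exists_irr_of_le_kernel M h1 (fun k hk => (hM k).mp hk)
    have hcomm : ∀ a b : G ⧸ M, a * b = b * a := by
      intro a b
      obtain ⟨a, rfl⟩ := QuotientGroup.mk_surjective a
      obtain ⟨b, rfl⟩ := QuotientGroup.mk_surjective b
      rw [← QuotientGroup.mk_mul, ← QuotientGroup.mk_mul, QuotientGroup.eq]
      have h := Subgroup.commutator_mem_commutator (H₁ := (⊤ : Subgroup G)) (H₂ := (⊤ : Subgroup G))
        (Subgroup.mem_top b⁻¹) (Subgroup.mem_top a⁻¹)
      rw [commutatorElement_def] at h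
      have e' : (a * b)⁻¹ * (b * a) = b⁻¹ * a⁻¹ * b⁻¹⁻¹ * a⁻¹⁻¹ := by group
      rw [e']
      exact hle h
    have hone := H12.irr_apply_one_of_comm hcomm ψ
    have h11 := hψ 1
    rw [QuotientGroup.mk_one, hone, hdeg] at h11
    obtain ⟨d, hd, ed⟩ := H16.irr_one h2
    rw [ed] at h11
    have : d + 1 = 1 := by exact_mod_cast h11
    omega

end Cfsg.Agent.S0845
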