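import Cfsg.Statements.S0849
import Cfsg.Agent.H14.Basic

set_option autoImplicit false
open Cfsg

namespace Cfsg.Agent.S0849

/-- Let H be a subgroup of a finite group G and S a subset of H that is mapped to itself under conjugation by H, is disjoint from its conjugate by any element outside H, and is closed under inverses. Let φ be a class function of H vanishing on H away from S, and let u, v be involutions of G. Then the sum of the induced function of φ over all products a * b with a conjugate to u and b conjugate to v equals the index of H times the sum of φ (a * b) over such pairs with a and b in H. -/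
theorem result {G : Type*} [Group G] [Fintype G] (H : Subgroup G) (S : Set G) (hSH : S ⊆ H) (hHS : ∀ h ∈ H, ∀ s ∈ S, h * s * h⁻¹ ∈ S) (hTI : ∀ g : G, g ∉ H → ∀ s ∈ S, g * s * g⁻¹ ∉ S) (hinv : ∀ s ∈ S, s⁻¹ ∈ S) (φ : H → ℂ) (hφ : Cfsg.IsClassFunction H φ) (hφS : ∀ x : H, (x : G) ∉ S → φ x = 0) (u v : G) (hu : orderOf u = 2) (hv : orderOf v = 2) : ∑ᶠ p ∈ {p : G × G | IsConj u p.1 ∧ IsConj v p.2}, Cfsg.indFun H φ (p.1 * p.2) = (H.index : ℂ) * ∑ᶠ p ∈ {p : H × H | IsConj u (p.1 : G) ∧ IsConj v (p.2 : G)}, φ (p.1 * p.2) := by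
  classical
  let P : Finset (G × G) := Finset.univ.filter fun p => IsConj u p.1 ∧ IsConj v p.2
  have hmemP : ∀ p, p ∈ P ↔ IsConj u p.1 ∧ IsConj v p.2 := fun p => by simp [P]
  have hconj : ∀ (z a b : G), IsConj a b → IsConj a (z * b * z⁻¹) := fun z a b h =>
    h.trans (isConj_iff.mpr ⟨z, rfl⟩)
  -- the sum over the pairs is invariant under conjugation
  have hshift : ∀ z : G, ∑ p ∈ P, Cfsg.extendByZero H φ (z⁻¹ * (p.1 * p.2) * z) =
      ∑ p ∈ P, Cfsg.extendByZero H φ (p.1 * p.2) := by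
    intro z
    refine Finset.sum_nbij' (fun p => (z⁻¹ * p.1 * z, z⁻¹ * p.2 * z))
      (fun p => (z * p.1 * z⁻¹, z * p.2 * z⁻¹)) ?_ ?_ ?_ ?_ ?_
    · intro p hp
      obtain ⟨h1, h2⟩ := (hmemP p).mp hp
      refine (hmemP _).mpr ⟨?_, ?_⟩
      · simpa using hconj z⁻¹ _ _ h1
      · simpa using hconj z⁻¹ _ _ h2
    · intro p hp
      obtain ⟨h1, h2⟩ := (hmemP p).mp hp
      exact (hmemP _).mpr ⟨hconj z _ _ h1, hconj z _ _ h2⟩
    · intro p _; ext <;> simp [mul_assoc]
    · intro p _; ext <;> simp [mul_assoc]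
    · intro p _; congr 1; simp [mul_assoc]
  -- the involutions whose product lies in S lie in H
  have hinvol : ∀ p ∈ P, p.1 * p.1 = 1 ∧ p.2 * p.2 = 1 := by
    intro p hp
    obtain ⟨h1, h2⟩ := (hmemP p).mp hp
    obtain ⟨c, hc⟩ := isConj_iff.mp h1
    obtain ⟨d, hd⟩ := isConj_iff.mp h2
    have hu' : u * u = 1 := by rw [← pow_two, ← hu]; exact pow_orderOf_eq_one u
    have hv' : v * v = 1 := by rw [← pow_two, ← hv]; exact pow_orderOf_eq_one v
    constructor
    · rw [← hc, show c * u * c⁻¹ * (c * u * c⁻¹) = c * (u * u) * c⁻¹ by group, hu']; group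
    · rw [← hd, show d * v * d⁻¹ * (d * v * d⁻¹) = d * (v * v) * d⁻¹ by group, hv']; group
  have hsupp : ∀ p ∈ P, Cfsg.extendByZero H φ (p.1 * p.2) ≠ 0 → p.1 ∈ H ∧ p.2 ∈ H := by
    intro p hp hne
    obtain ⟨h1, h2⟩ := hinvol p hp
    have hS : p.1 * p.2 ∈ S := by
      by_contra hns
      by_cases hH : p.1 * p.2 ∈ H
      · rw [H14.extendByZero_of_mem _ _ hH] at hne
        exact hne (hφS _ hns)
      · exact hne (H14.extendByZero_of_not_mem _ _ hH)
    have ha : p.1 ∈ H := by
      by_contra ha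
      refine hTI p.1 ha _ hS ?_
      have : p.1 * (p.1 * p.2) * p.1⁻¹ = (p.1 * p.2)⁻¹ := by
        rw [← mul_assoc, h1, one_mul, mul_inv_rev, inv_eq_of_mul_eq_one_right h2]
      rw [this]
      exact hinv _ hS
    refine ⟨ha, ?_⟩
    have := H.mul_mem (H.inv_mem ha) (hSH hS)
    simpa using this
  -- evaluate both sides
  rw [finsum_mem_eq_sum_of_subset _ (t := P) (by intro p hp; simpa [P] using hp.1) (by simp [P])]
  letI : Fintype H := Fintype.ofFinite _
  let Q : Finset (H × H) := Finset.univ.filter fun p => IsConj u (p.1 : G) ∧ IsConj v (p.2 : G)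
  rw [finsum_mem_eq_sum_of_subset _ (t := Q) (by intro p hp; simpa [Q] using hp.1) (by simp [Q])]
  have hQ : ∑ p ∈ P, Cfsg.extendByZero H φ (p.1 * p.2) = ∑ p ∈ Q, φ (p.1 * p.2) := by
    symm
    refine Finset.sum_bij_ne_zero (fun p _ _ => ((p.1 : G), (p.2 : G))) ?_ ?_ ?_ ?_
    · intro p hp _
      exact (hmemP _).mpr (by simpa [Q] using hp)
    · intro p _ _ q _ _ hpq
      simp only [Prod.mk.injEq] at hpq
      exact Prod.ext (Subtype.ext hpq.1) (Subtype.ext hpq.2)
    · intro p hp hne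
      obtain ⟨ha, hb⟩ := hsupp p hp hne
      refine ⟨(⟨p.1, ha⟩, ⟨p.2, hb⟩), ?_, ?_, rfl⟩
      · simpa [Q] using (hmemP p).mp hp
      · rw [H14.extendByZero_of_mem _ _ (H.mul_mem ha hb)] at hne
        exact hne
    · intro p _ _
      exact (H14.extendByZero_apply H φ (p.1 * p.2)).symm
  unfold Cfsg.indFun
  rw [← Finset.mul_sum, Finset.sum_comm, Finset.sum_congr rfl (fun z _ => hshift z), Finset.sum_const,
    nsmul_eq_mul, hQ, Finset.card_univ, ← Nat.card_eq_fintype_card, ← H.card_mul_index, Nat.cast_mul]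
  field_simp [H14.natCard_cast_ne_zero]

end Cfsg.Agent.S0849
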