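import Cfsg.Statements.S0851
import Cfsg.Agent.H14.FrobeniusTI

set_option autoImplicit false
open Cfsg

namespace Cfsg.Agent.S0851

/-- Let K be a subgroup of the finite group G that meets each conjugate by an element outside its normalizer N trivially, is properly contained in N, and contains the centralizer of each of its non-identity elements (a T.I. subgroup with Frobenius normalizer). Suppose K is abelian, let e be the index of K in N, and call an irreducible character of N relevant when it takes at some element of K a value different from its degree. Then either there is exactly one relevant character and K is an elementary abelian p-group of order e + 1 for some prime p, or there are a sign ε and an injective map f from the relevant characters to the irreducible characters of G such that inducing χ - ξ to G gives ε (f χ - f ξ) for all relevant χ and ξ. -/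
theorem result {G : Type*} [Group G] [Fintype G] (K : Subgroup G) (hTI : ∀ g : G, g ∉ Subgroup.normalizer (K : Set G) → ∀ k ∈ K, g * k * g⁻¹ ∈ K → k = 1) (hlt : K < Subgroup.normalizer (K : Set G)) (hC : ∀ k ∈ K, k ≠ 1 → Subgroup.centralizer ({k} : Set G) ≤ K) (hab : ∀ a ∈ K, ∀ b ∈ K, a * b = b * a) : (Nat.card {χ : Cfsg.IrrCharacter (Subgroup.normalizer (K : Set G)) // ∃ k : Subgroup.normalizer (K : Set G), (k : G) ∈ K ∧ (χ : ↥(Subgroup.normalizer (K : Set G)) → ℂ) k ≠ (χ : ↥(Subgroup.normalizer (K : Set G)) → ℂ) 1} = 1 ∧ ∃ p : ℕ, p.Prime ∧ Cfsg.IsElementaryAbelian p K ∧ Nat.card K = (K.subgroupOf (Subgroup.normalizer (K : Set G))).index + 1) ∨ ∃ (ε : ℂ) (f : {χ : Cfsg.IrrCharacter (Subgroup.normalizer (K : Set G)) // ∃ k : Subgroup.normalizer (K : Set G), (k : G) ∈ K ∧ (χ : ↥(Subgroup.normalizer (K : Set G)) → ℂ) k ≠ (χ : ↥(Subgroup.normalizer (K : Set G)) → ℂ) 1} → Cfsg.IrrCharacter G), (ε = 1 ∨ ε = -1) ∧ Function.Injective f ∧ ∀ χ ξ, Cfsg.indFun (Subgroup.normalizer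 (K : Set G)) ((χ.1 : ↥(Subgroup.normalizer (K : Set G)) → ℂ) - (ξ.1 : ↥(Subgroup.normalizer (K : Set G)) → ℂ)) = ε • ((f χ : G → ℂ) - (f ξ : G → ℂ)) := by
  classical
  letI : Fintype ↥(Subgroup.normalizer (K : Set G)) := Fintype.ofFinite _
  haveI : (K.subgroupOf (Subgroup.normalizer (K : Set G))).Normal :=
    Subgroup.normal_subgroupOf_of_le_normalizer le_rfl
  have hfix := H14.fix_of_ti K hC
  have hab' : ∀ a ∈ K.subgroupOf (Subgroup.normalizer (K : Set G)),
      ∀ b ∈ K.subgroupOf (Subgroup.normalizer (K : Set G)), a * b = b * a :=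
    fun a ha b hb => Subtype.ext (hab a ha b hb)
  have hdeg : ∀ φ ∈ H14.nontrivOn (K.subgroupOf (Subgroup.normalizer (K : Set G))),
      φ 1 = ((K.subgroupOf (Subgroup.normalizer (K : Set G))).index : ℂ) :=
    fun φ hφ => H14.degree_eq_index _ hfix hab' hφ
  rcases subsingleton_or_nontrivial {χ : Cfsg.IrrCharacter (Subgroup.normalizer (K : Set G)) //
      ∃ k : Subgroup.normalizer (K : Set G), (k : G) ∈ K ∧
        (χ : ↥(Subgroup.normalizer (K : Set G)) → ℂ) k ≠ (χ : ↥(Subgroup.normalizer (K : Set G)) → ℂ) 1}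
    with hs | hs
  · rcases isEmpty_or_nonempty {χ : Cfsg.IrrCharacter (Subgroup.normalizer (K : Set G)) //
      ∃ k : Subgroup.normalizer (K : Set G), (k : G) ∈ K ∧
        (χ : ↥(Subgroup.normalizer (K : Set G)) → ℂ) k ≠ (χ : ↥(Subgroup.normalizer (K : Set G)) → ℂ) 1}
      with he | hne
    · exact Or.inr ⟨1, isEmptyElim, Or.inl rfl, fun a => isEmptyElim a, fun a => isEmptyElim a⟩
    left
    obtain ⟨u⟩ := hne
    refine ⟨Nat.card_of_subsingleton u, ?_⟩
    have hu : (u.1 : ↥(Subgroup.normalizer (K : Set G)) → ℂ) ∈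
        H14.nontrivOn (K.subgroupOf (Subgroup.normalizer (K : Set G))) := ⟨u.1.2, u.2⟩
    have h := H14.sum_degree_sq_nontrivOn (K.subgroupOf (Subgroup.normalizer (K : Set G)))
    rw [Finset.sum_eq_single u.1] at h
    · rw [hdeg _ hu, eq_sub_iff_add_eq] at h
      have hN := (K.subgroupOf (Subgroup.normalizer (K : Set G))).card_mul_index
      have h' : (K.subgroupOf (Subgroup.normalizer (K : Set G))).index *
          (K.subgroupOf (Subgroup.normalizer (K : Set G))).index +
          (K.subgroupOf (Subgroup.normalizer (K : Set G))).index =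
          Nat.card ↥(Subgroup.normalizer (K : Set G)) := by exact_mod_cast h
      have hcard : Nat.card (K.subgroupOf (Subgroup.normalizer (K : Set G))) =
          (K.subgroupOf (Subgroup.normalizer (K : Set G))).index + 1 := by
        refine Nat.eq_of_mul_eq_mul_right (Nat.pos_of_ne_zero (Subgroup.index_ne_zero_of_finite (H := K.subgroupOf (Subgroup.normalizer (K : Set G))))) ?_
        rw [hN, ← h', add_mul, one_mul]
      obtain ⟨p, hp, hpow⟩ := H14.elementary_of_unique _ hfix hab' hcard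
      refine ⟨p, hp, ⟨⟨⟨fun a b => Subtype.ext (hab a a.2 b b.2)⟩⟩, fun a ha => ?_⟩, ?_⟩
      · exact congrArg Subtype.val (hpow ⟨a, hlt.le ha⟩ ha)
      · rw [← hcard, Nat.card_congr (Subgroup.subgroupOfEquivOfLe hlt.le).toEquiv]
    · intro φ hφ hne'
      exact absurd (congrArg Subtype.val (Subsingleton.elim
        (⟨φ, (Finset.mem_filter.mp hφ).2.2⟩ : {χ : Cfsg.IrrCharacter (Subgroup.normalizer (K : Set G)) //
          ∃ k : Subgroup.normalizer (K : Set G), (k : G) ∈ K ∧ (χ : ↥(Subgroup.normalizer (K : Set G)) → ℂ) k ≠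
            (χ : ↥(Subgroup.normalizer (K : Set G)) → ℂ) 1}) u)) hne'
    · intro hn
      exact (hn (Finset.mem_filter.mpr ⟨Finset.mem_univ u.1, hu⟩)).elim
  · right
    obtain ⟨u, v, huv⟩ := exists_pair_ne {χ : Cfsg.IrrCharacter (Subgroup.normalizer (K : Set G)) //
      ∃ k : Subgroup.normalizer (K : Set G), (k : G) ∈ K ∧
        (χ : ↥(Subgroup.normalizer (K : Set G)) → ℂ) k ≠ (χ : ↥(Subgroup.normalizer (K : Set G)) → ℂ) 1}
    have hu : (u.1 : ↥(Subgroup.normalizer (K : Set G)) → ℂ) ∈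
        H14.nontrivOn (K.subgroupOf (Subgroup.normalizer (K : Set G))) := ⟨u.1.2, u.2⟩
    have hv : (v.1 : ↥(Subgroup.normalizer (K : Set G)) → ℂ) ∈
        H14.nontrivOn (K.subgroupOf (Subgroup.normalizer (K : Set G))) := ⟨v.1.2, v.2⟩
    have hτ1 : ∀ α ∈ Cfsg.zspanOn (H14.nontrivOn (K.subgroupOf (Subgroup.normalizer (K : Set G))))
        ({1}ᶜ : Set ↥(Subgroup.normalizer (K : Set G))),
        Cfsg.indFun (Subgroup.normalizer (K : Set G)) α 1 = 0 := fun α hα => by
      rw [H13.indFun_apply_one, (H16.mem_zspanOn_one.mp hα).2, mul_zero]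
    obtain ⟨-, σ, hσ, hσext⟩ := H16.coherent_irr_equal_degree _ _ (fun φ hφ => hφ.1)
      (H14.ind_isometry K hTI hlt hC) hτ1 (fun φ hφ χ hχ => (hdeg φ hφ).trans (hdeg χ hχ).symm)
      _ _ hu hv (fun h => huv (Subtype.ext (Subtype.ext h.symm)))
    obtain ⟨ε, hε, hεirr, hεinj⟩ := H16.uniform_signs _ (fun φ hφ => hφ.1) _ hu σ hσ (fun α hα h1 => by
      rw [hσext α (H16.mem_zspanOn_one.mpr ⟨hα, h1⟩)]
      exact hτ1 α (H16.mem_zspanOn_one.mpr ⟨hα, h1⟩))
    have hεε : ε * ε = 1 := by rcases hε with rfl | rfl <;> norm_num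
    refine ⟨ε, fun χ => ⟨ε • σ (χ.1 : ↥(Subgroup.normalizer (K : Set G)) → ℂ), hεirr _ ⟨χ.1.2, χ.2⟩⟩, hε,
      fun a b hab'' => ?_, fun χ ξ => ?_⟩
    · refine Subtype.ext (Subtype.ext (hεinj _ ⟨a.1.2, a.2⟩ _ ⟨b.1.2, b.2⟩ ?_))
      have h := congrArg Subtype.val hab''
      simp only at h
      have h2 := congrArg (fun F : G → ℂ => ε • F) h
      simpa [smul_smul, hεε] using h2
    · have hχ : (χ.1 : ↥(Subgroup.normalizer (K : Set G)) → ℂ) ∈
          H14.nontrivOn (K.subgroupOf (Subgroup.normalizer (K : Set G))) := ⟨χ.1.2, χ.2⟩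
      have hξ : (ξ.1 : ↥(Subgroup.normalizer (K : Set G)) → ℂ) ∈
          H14.nontrivOn (K.subgroupOf (Subgroup.normalizer (K : Set G))) := ⟨ξ.1.2, ξ.2⟩
      simp only
      rw [← smul_sub, smul_smul, hεε, one_smul, ← H16.iso_sub' hσ (H16.zspan_of_mem hχ) (H16.zspan_of_mem hξ)]
      refine (hσext _ (H16.mem_zspanOn_one.mpr
        ⟨H16.zspan_sub (H16.zspan_of_mem hχ) (H16.zspan_of_mem hξ), ?_⟩)).symm
      rw [Pi.sub_apply, hdeg _ hχ, hdeg _ hξ, sub_self]

end Cfsg.Agent.S0851
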