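import Cfsg.Statements.S0852
import Cfsg.Agent.H14.FrobeniusTI

set_option autoImplicit false
open Cfsg

namespace Cfsg.Agent.S0852

/-- Let K be a subgroup of the finite group G that meets each conjugate by an element outside its normalizer N trivially, is properly contained in N, and contains the centralizer of each of its non-identity elements (a T.I. subgroup with Frobenius normalizer). Let S be the set of irreducible characters of N taking at some element of K a value different from their degree, suppose S has at least two members, and let star be a linear isometry on the integer span of S into the generalized characters of G that agrees with induction on the members vanishing at the identity (so S is coherent, with star as the extending isometry). Then an irreducible character ψ of G is of the form star χ or -star χ for some χ in S if and only if ψ is not constant on the non-identity elements of K. -/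
theorem result {G : Type*} [Group G] [Fintype G] (K : Subgroup G) (hTI : ∀ g : G, g ∉ Subgroup.normalizer (K : Set G) → ∀ k ∈ K, g * k * g⁻¹ ∈ K → k = 1) (hlt : K < Subgroup.normalizer (K : Set G)) (hC : ∀ k ∈ K, k ≠ 1 → Subgroup.centralizer ({k} : Set G) ≤ K) [Fintype ↥(Subgroup.normalizer (K : Set G))] (S : Set (↥(Subgroup.normalizer (K : Set G)) → ℂ)) (hS : S = {χ : ↥(Subgroup.normalizer (K : Set G)) → ℂ | Cfsg.IsIrrCharacter ↥(Subgroup.normalizer (K : Set G)) χ ∧ ∃ k : ↥(Subgroup.normalizer (K : Set G)), (k : G) ∈ K ∧ χ k ≠ χ 1}) (htwo : ∃ χ ∈ S, ∃ ξ ∈ S, χ ≠ ξ) (star : (↥(Subgroup.normalizer (K : Set G)) → ℂ) → (G → ℂ)) (hstar : Cfsg.IsLinearIsometryOn (Cfsg.zspan S) star) (hext : ∀ α ∈ Cfsg.zspanOn S ({1}ᶜ : Set ↥(Subgroup.normalizer (K : Set G))), star α = Cfsg.indFun (Subgroup.normalizer (K : Set G)) α) (ψ : G → ℂ) (hψ : Cfsg.IsIrrCharacter G ψ) : (∃ χ ∈ S, ψ = star χ ∨ ψ = -star χ) ↔ ∃ a ∈ K, ∃ b ∈ K, a ≠ 1 ∧ b ≠ 1 ∧ ψ a ≠ ψ b := by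
  subst hS
  haveI : (K.subgroupOf (Subgroup.normalizer (K : Set G))).Normal :=
    Subgroup.normal_subgroupOf_of_le_normalizer le_rfl
  change (∃ χ ∈ H14.nontrivOn (K.subgroupOf (Subgroup.normalizer (K : Set G))), ψ = star χ ∨ ψ = -star χ) ↔ _
  replace htwo : ∃ χ ∈ H14.nontrivOn (K.subgroupOf (Subgroup.normalizer (K : Set G))),
      ∃ ξ ∈ H14.nontrivOn (K.subgroupOf (Subgroup.normalizer (K : Set G))), χ ≠ ξ := htwo
  replace hstar : Cfsg.IsLinearIsometryOn
      (Cfsg.zspan (H14.nontrivOn (K.subgroupOf (Subgroup.normalizer (K : Set G))))) star := hstar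
  constructor
  · rintro ⟨χ, hχ, hψχ⟩
    have key : ∃ a : ℤ, a ≠ 0 ∧ ∀ ξ ∈ H14.nontrivOn (K.subgroupOf (Subgroup.normalizer (K : Set G))),
        Cfsg.classInner ψ (star ξ) = (a : ℂ) * Cfsg.classInner χ ξ := by
      rcases hψχ with h | h
      · refine ⟨1, one_ne_zero, fun ξ hξ => ?_⟩
        rw [h, hstar.2.2.1 _ (H16.zspan_of_mem hχ) _ (H16.zspan_of_mem hξ)]
        simp
      · refine ⟨-1, by norm_num, fun ξ hξ => ?_⟩
        rw [h, H16.ci_neg_left, hstar.2.2.1 _ (H16.zspan_of_mem hχ) _ (H16.zspan_of_mem hξ)]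
        simp
    obtain ⟨a, ha, hinner⟩ := key
    obtain ⟨w, hw⟩ := H14.value_of_star K star hstar hext ψ (H16.gen_of_irr hψ) χ hχ a hinner
    obtain ⟨ξ, hξ, hne⟩ : ∃ ξ ∈ H14.nontrivOn (K.subgroupOf (Subgroup.normalizer (K : Set G))), χ ≠ ξ := by
      obtain ⟨χ', hχ', ξ', hξ', h⟩ := htwo
      by_cases hc : χ = χ'
      · exact ⟨ξ', hξ', hc ▸ h⟩
      · exact ⟨χ', hχ', hc⟩
    obtain ⟨x, hx, y, hy, hx1, hy1, hxy⟩ := H14.not_constant _ (H14.fix_of_ti K hC) hχ hξ hne
    refine ⟨x, hx, y, hy, fun h => hx1 (Subtype.ext h), fun h => hy1 (Subtype.ext h), fun h => hxy ?_⟩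
    rw [hw x hx hx1, hw y hy hy1] at h
    exact mul_left_cancel₀ (Int.cast_ne_zero.mpr ha) (add_left_cancel h)
  · rintro ⟨a, ha, b, hb, ha1, hb1, hab⟩
    by_contra hcon
    push Not at hcon
    obtain ⟨χ, hχ, -⟩ := htwo
    obtain ⟨w, hw⟩ := H14.value_of_star K star hstar hext ψ (H16.gen_of_irr hψ) χ hχ 0 (fun ξ hξ => by
      rw [Int.cast_zero, zero_mul]
      rcases H16.iso_signed hstar (H16.zspan_of_mem hξ) hξ.1 with h | h
      · exact H16.ci_irr_ne hψ h (hcon ξ hξ).1
      · rw [← neg_neg (star ξ), H16.ci_neg_right, H16.ci_irr_ne hψ h (hcon ξ hξ).2, neg_zero])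
    have haN : a ∈ Subgroup.normalizer (K : Set G) := hlt.le ha
    have hbN : b ∈ Subgroup.normalizer (K : Set G) := hlt.le hb
    have h1 := hw ⟨a, haN⟩ ha (fun h => ha1 (congrArg Subtype.val h))
    have h2 := hw ⟨b, hbN⟩ hb (fun h => hb1 (congrArg Subtype.val h))
    simp only [Int.cast_zero, zero_mul, add_zero] at h1 h2
    exact hab (h1.trans h2.symm)

end Cfsg.Agent.S0852
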