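import Cfsg.Statements.S0853
import Cfsg.Agent.H14.FrobeniusTI

set_option autoImplicit false
open Cfsg

namespace Cfsg.Agent.S0853

/-- Let K be a subgroup of the finite group G that meets each conjugate by an element outside its normalizer N trivially, is properly contained in N, and contains the centralizer of each of its non-identity elements (a T.I. subgroup with Frobenius normalizer). Let S be the set of irreducible characters of N taking at some element of K a value different from their degree, suppose S has at least two members, and let star be a linear isometry on the integer span of S into the generalized characters of G that agrees with induction on the members vanishing at the identity (so S is coherent, with star as the extending isometry). Then there is a single integer m such that star χ k - χ k = m * χ 1 / e for every χ in S and every non-identity element k of K, where e is the index of K in N. -/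
theorem result {G : Type*} [Group G] [Fintype G] (K : Subgroup G) (hTI : ∀ g : G, g ∉ Subgroup.normalizer (K : Set G) → ∀ k ∈ K, g * k * g⁻¹ ∈ K → k = 1) (hlt : K < Subgroup.normalizer (K : Set G)) (hC : ∀ k ∈ K, k ≠ 1 → Subgroup.centralizer ({k} : Set G) ≤ K) [Fintype ↥(Subgroup.normalizer (K : Set G))] (S : Set (↥(Subgroup.normalizer (K : Set G)) → ℂ)) (hS : S = {χ : ↥(Subgroup.normalizer (K : Set G)) → ℂ | Cfsg.IsIrrCharacter ↥(Subgroup.normalizer (K : Set G)) χ ∧ ∃ k : ↥(Subgroup.normalizer (K : Set G)), (k : G) ∈ K ∧ χ k ≠ χ 1}) (htwo : ∃ χ ∈ S, ∃ ξ ∈ S, χ ≠ ξ) (star : (↥(Subgroup.normalizer (K : Set G)) → ℂ) → (G → ℂ)) (hstar : Cfsg.IsLinearIsometryOn (Cfsg.zspan S) star) (hext : ∀ α ∈ Cfsg.zspanOn S ({1}ᶜ : Set ↥(Subgroup.normalizer (K : Set G))), star α = Cfsg.indFun (Subgroup.normalizer (K : Set G)) α) : ∃ m : ℤ, ∀ χ ∈ S, ∀ k : ↥(Subgroup.normalizer (K : Set G)), (k : G) ∈ K → k ≠ 1 → star χ k - χ k = (m : ℂ) * χ 1 / ((K.subgroupOf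 (Subgroup.normalizer (K : Set G))).index : ℂ) := by
  subst hS
  classical
  haveI : (K.subgroupOf (Subgroup.normalizer (K : Set G))).Normal :=
    Subgroup.normal_subgroupOf_of_le_normalizer le_rfl
  have hfix := H14.fix_of_ti K hC
  change ∃ m : ℤ, ∀ χ ∈ H14.nontrivOn (K.subgroupOf (Subgroup.normalizer (K : Set G))),
    ∀ k : ↥(Subgroup.normalizer (K : Set G)), (k : G) ∈ K → k ≠ 1 → _
  obtain ⟨χ₀, hχ₀, -⟩ := htwo
  replace hχ₀ : χ₀ ∈ H14.nontrivOn (K.subgroupOf (Subgroup.normalizer (K : Set G))) := hχ₀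
  replace hstar : Cfsg.IsLinearIsometryOn
      (Cfsg.zspan (H14.nontrivOn (K.subgroupOf (Subgroup.normalizer (K : Set G))))) star := hstar
  have hdiff : ∀ χ ∈ H14.nontrivOn (K.subgroupOf (Subgroup.normalizer (K : Set G))),
      ∃ z : ℤ, ∀ k ∈ K.subgroupOf (Subgroup.normalizer (K : Set G)), k ≠ 1 → star χ k - χ k = (z : ℂ) := by
    intro χ hχ
    have hgen := hstar.2.2.2 _ (H16.zspan_of_mem hχ)
    obtain ⟨w, hw⟩ := H14.value_of_star K star hstar hext (star χ) hgen χ hχ 1 (fun ξ hξ => by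
      rw [hstar.2.2.1 _ (H16.zspan_of_mem hχ) _ (H16.zspan_of_mem hξ)]; simp)
    obtain ⟨k₀, hk₀, hk₀ne⟩ := hχ.2
    have hk₀1 : k₀ ≠ 1 := fun e => hk₀ne (by rw [e])
    obtain ⟨p, q, hp, hq, hpq⟩ := hgen
    have hwint : IsIntegral ℤ (w : ℂ) := by
      have h := hw k₀ hk₀ hk₀1
      rw [Int.cast_one, one_mul, hpq, Pi.sub_apply] at h
      have e : (w : ℂ) = p (k₀ : G) - q (k₀ : G) - χ k₀ := by linear_combination -h
      rw [e]
      exact (((H12.IsCharacter.isIntegral hp _).sub (H12.IsCharacter.isIntegral hq _)).sub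
        (H12.IsCharacter.isIntegral (H12.isCharacter_of_isIrrCharacter hχ.1) _))
    obtain ⟨z, rfl⟩ := H12.exists_int_of_isIntegral_rat hwint
    refine ⟨z, fun k hk hk1 => ?_⟩
    rw [hw k hk hk1, Int.cast_one, one_mul]
    push_cast
    ring
  choose! z hz using hdiff
  have hrel : ∀ χ ∈ H14.nontrivOn (K.subgroupOf (Subgroup.normalizer (K : Set G))),
      (z χ : ℂ) * χ₀ 1 = (z χ₀ : ℂ) * χ 1 := by
    intro χ hχ
    obtain ⟨k, hk, hkne⟩ := hχ₀.2
    have hk1 : k ≠ 1 := fun e => hkne (by rw [e])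
    have hχ1 : χ 1 = (H12.degree χ : ℂ) := H12.irr_apply_one ⟨χ, hχ.1⟩
    have hχ₀1 : χ₀ 1 = (H12.degree χ₀ : ℂ) := H12.irr_apply_one ⟨χ₀, hχ₀.1⟩
    have hαmem : ((H12.degree χ₀ : ℤ) • χ - (H12.degree χ : ℤ) • χ₀) ∈ Cfsg.zspanOn
        (H14.nontrivOn (K.subgroupOf (Subgroup.normalizer (K : Set G))))
        ({1}ᶜ : Set ↥(Subgroup.normalizer (K : Set G))) :=
      H16.mem_zspanOn_one.mpr ⟨H16.zspan_sub (H16.zspan_zsmul _ (H16.zspan_of_mem hχ))
        (H16.zspan_zsmul _ (H16.zspan_of_mem hχ₀)), by simp [hχ1, hχ₀1, mul_comm]⟩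
    have h1 := H14.ind_restricts K hTI hlt hC hαmem k
    rw [← hext _ hαmem, H16.iso_sub' hstar (H16.zspan_zsmul _ (H16.zspan_of_mem hχ))
      (H16.zspan_zsmul _ (H16.zspan_of_mem hχ₀)), hstar.2.1 _ (H16.zspan_of_mem hχ),
      hstar.2.1 _ (H16.zspan_of_mem hχ₀)] at h1
    simp only [Pi.sub_apply, Pi.smul_apply, Pi.mul_apply, Pi.natCast_apply, Pi.intCast_apply, zsmul_eq_mul, Int.cast_natCast] at h1
    rw [hχ1, hχ₀1, ← hz χ hχ k hk hk1, ← hz χ₀ hχ₀ k hk hk1]
    linear_combination h1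
  obtain ⟨t, ht⟩ : H12.degree χ₀ ∣ Nat.card ↥(Subgroup.normalizer (K : Set G)) :=
    H12.irr_degree_dvd_card ⟨χ₀, hχ₀.1⟩
  have hχ₀1 : χ₀ 1 = (H12.degree χ₀ : ℂ) := H12.irr_apply_one ⟨χ₀, hχ₀.1⟩
  have hd0 : χ₀ 1 ≠ 0 := H12.irr_apply_one_ne_zero ⟨χ₀, hχ₀.1⟩
  refine ⟨z χ₀ * t - ∑ ξ ∈ Finset.univ.filter (fun ξ : Cfsg.IrrCharacter ↥(Subgroup.normalizer (K : Set G)) =>
      (ξ : ↥(Subgroup.normalizer (K : Set G)) → ℂ) ∈
        H14.nontrivOn (K.subgroupOf (Subgroup.normalizer (K : Set G)))),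
      (H12.degree (ξ : ↥(Subgroup.normalizer (K : Set G)) → ℂ) : ℤ) *
        z (ξ : ↥(Subgroup.normalizer (K : Set G)) → ℂ), fun χ hχ k hk hk1 => ?_⟩
  rw [hz χ hχ k hk hk1, eq_div_iff (Nat.cast_ne_zero.mpr Subgroup.index_ne_zero_of_finite)]
  apply mul_right_cancel₀ hd0
  have hsum : ((∑ ξ ∈ Finset.univ.filter (fun ξ : Cfsg.IrrCharacter ↥(Subgroup.normalizer (K : Set G)) =>
      (ξ : ↥(Subgroup.normalizer (K : Set G)) → ℂ) ∈
        H14.nontrivOn (K.subgroupOf (Subgroup.normalizer (K : Set G)))),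
      (H12.degree (ξ : ↥(Subgroup.normalizer (K : Set G)) → ℂ) : ℤ) *
        z (ξ : ↥(Subgroup.normalizer (K : Set G)) → ℂ) : ℤ) : ℂ) * χ₀ 1 =
      (z χ₀ : ℂ) * ((Nat.card ↥(Subgroup.normalizer (K : Set G)) : ℂ) -
        ((K.subgroupOf (Subgroup.normalizer (K : Set G))).index : ℂ)) := by
    rw [← H14.sum_degree_sq_nontrivOn, Finset.mul_sum]
    push_cast
    rw [Finset.sum_mul]
    refine Finset.sum_congr rfl fun ξ hξ => ?_
    have h := hrel _ (Finset.mem_filter.mp hξ).2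
    rw [mul_assoc, h, H12.irr_apply_one ξ]
    ring
  have htc : (Nat.card ↥(Subgroup.normalizer (K : Set G)) : ℂ) = χ₀ 1 * (t : ℂ) := by
    rw [hχ₀1, ht]; push_cast; ring
  have h := hrel χ hχ
  push_cast at hsum ⊢
  linear_combination (((K.subgroupOf (Subgroup.normalizer (K : Set G))).index : ℂ)) * h + χ 1 * hsum +
    (z χ₀ : ℂ) * χ 1 * htc

end Cfsg.Agent.S0853
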