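import Cfsg.Statements.S0855
import Cfsg.Agent.H14.DegreeIndex

set_option autoImplicit false
open Cfsg

namespace Cfsg.Agent.S0855

/-- For a finite group G and a prime p: every irreducible character of G has degree a power of p if and only if G has an abelian normal subgroup whose order is prime to p and whose index is a power of p. -/
theorem result {G : Type*} [Group G] [Finite G] (p : ℕ) (hp : p.Prime) : (∀ χ : Cfsg.IrrCharacter G, ∃ k : ℕ, (χ : G → ℂ) 1 = (p : ℂ) ^ k) ↔ ∃ A : Subgroup G, A.Normal ∧ (∀ a ∈ A, ∀ b ∈ A, a * b = b * a) ∧ Nat.Coprime (Nat.card A) p ∧ ∃ k : ℕ, A.index = p ^ k := by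
  constructor
  · intro h
    exact H14.exists_normal_complement_of_degrees p hp (Nat.card G + 1) G (Nat.lt_succ_self _) fun χ => by
      obtain ⟨k, hk⟩ := h χ
      rw [H12.irr_apply_one] at hk
      exact ⟨k, by exact_mod_cast hk⟩
  · rintro ⟨A, hA, hab, hcop, k, hk⟩ χ
    haveI := hA
    have hd := H14.degree_dvd_index_of_abelian_coprime A hab (by rw [hk]; exact hcop.pow_right k) χ
    rw [hk] at hd
    obtain ⟨j, -, hj⟩ := (Nat.dvd_prime_pow hp).mp hd
    exact ⟨j, by rw [H12.irr_apply_one, hj]; push_cast; rfl⟩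

end Cfsg.Agent.S0855
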