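import Cfsg.Statements.S0857
import Cfsg.Agent.H14.GoingDown

set_option autoImplicit false
open Cfsg

namespace Cfsg.Agent.S0857

/-- Let L < K be normal subgroups of the finite group G with no normal subgroup of G strictly between them and with K / L abelian (the commutator subgroup of K lies in L). Let ϑ be an irreducible character of K invariant under conjugation by G. Then the restriction of ϑ to L is irreducible; or it equals e times an irreducible character of L with e ^ 2 equal to the index of L in K; or it is the sum of a family of pairwise distinct irreducible characters of L indexed by a set whose size is the index of L in K. -/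
theorem result {G : Type*} [Group G] [Fintype G] (K L : Subgroup G) [hK : K.Normal] [L.Normal] (hLK : L < K) (hchief : ∀ M : Subgroup G, M.Normal → L ≤ M → M ≤ K → M = L ∨ M = K) (hab : ⁅K, K⁆ ≤ L) (ϑ : K → ℂ) (hϑ : Cfsg.IsIrrCharacter K ϑ) (hinv : ∀ (g : G) (n : K), ϑ ⟨g * n * g⁻¹, hK.conj_mem (n : G) n.2 g⟩ = ϑ n) : Cfsg.IsIrrCharacter L (fun x : L => ϑ ⟨(x : G), hLK.le x.2⟩) ∨ (∃ (φ : L → ℂ) (e : ℕ), Cfsg.IsIrrCharacter L φ ∧ (fun x : L => ϑ ⟨(x : G), hLK.le x.2⟩) = (e : ℂ) • φ ∧ e ^ 2 = L.relIndex K) ∨ (∃ F : Finset (L → ℂ), (∀ φ ∈ F, Cfsg.IsIrrCharacter L φ) ∧ F.card = L.relIndex K ∧ (fun x : L => ϑ ⟨(x : G), hLK.le x.2⟩) = ∑ φ ∈ F, φ) := by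
  classical
  letI : Fintype K := Fintype.ofFinite _
  haveI : (L.subgroupOf K).Normal := inferInstance
  letI : Fintype (L.subgroupOf K) := Fintype.ofFinite _
  letI : Fintype L := Fintype.ofFinite _
  let em : L ≃* L.subgroupOf K := (Subgroup.subgroupOfEquivOfLe hLK.le).symm
  have hcomm : commutator K ≤ L.subgroupOf K := by
    refine Subgroup.map_le_iff_le_comap.mp ?_
    rw [commutator_def, Subgroup.map_commutator, ← MonoidHom.range_eq_map, Subgroup.range_subtype]
    exact hab
  have hne : L.subgroupOf K ≠ ⊤ := fun h => hLK.not_ge (Subgroup.subgroupOf_eq_top.mp h)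
  have H := H14.going_down (L.subgroupOf K) hcomm hne (Set.range (MulAut.conjNormal : G →* MulAut K))
    (by
      rintro _ ⟨g, rfl⟩ x hx
      rw [Subgroup.mem_subgroupOf, MulAut.conjNormal_apply]
      exact Subgroup.Normal.conj_mem (H := L) inferInstance _ hx g)
    (by
      intro U hU hinvU
      have hn : (U.map K.subtype).Normal := ⟨by
        rintro _ ⟨u, hu, rfl⟩ g
        exact ⟨MulAut.conjNormal g u, hinvU _ ⟨g, rfl⟩ u hu, MulAut.conjNormal_apply g u⟩⟩
      have h1 : L ≤ U.map K.subtype := fun l hl => ⟨⟨l, hLK.le hl⟩, hU (Subgroup.mem_subgroupOf.mpr hl), rfl⟩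
      rcases hchief _ hn h1 (Subgroup.map_subtype_le U) with h | h
      · refine Or.inl (Subgroup.map_injective K.subtype_injective ?_)
        rw [h, Subgroup.map_subgroupOf_eq_of_le hLK.le]
      · refine Or.inr (Subgroup.map_injective K.subtype_injective ?_)
        rw [h, ← MonoidHom.range_eq_map, Subgroup.range_subtype])
    hϑ (by
      rintro _ ⟨g, rfl⟩ x
      rw [← hinv g x]
      exact congrArg ϑ (Subtype.ext (MulAut.conjNormal_apply g x)))
  have hfun : (fun x : L => ϑ ⟨(x : G), hLK.le x.2⟩) = (fun y : L.subgroupOf K => ϑ y) ∘ em := rfl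
  rw [hfun]
  rcases H with h | ⟨φ, e, hφ, hres, he⟩ | ⟨F, hF, hcard, hres⟩
  · exact Or.inl (H13.isIrrCharacter_comp_equiv em h)
  · refine Or.inr (Or.inl ⟨φ ∘ em, e, H13.isIrrCharacter_comp_equiv em hφ, ?_, he⟩)
    rw [hres]; rfl
  · refine Or.inr (Or.inr ⟨F.image (fun φ => φ ∘ em), ?_, ?_, ?_⟩)
    · intro ψ hψ
      obtain ⟨φ, hφ, rfl⟩ := Finset.mem_image.mp hψ
      exact H13.isIrrCharacter_comp_equiv em (hF φ hφ)
    · rw [Finset.card_image_of_injective _ em.surjective.injective_comp_right]
      exact hcard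
    · rw [hres, Finset.sum_image (fun a _ b _ h => em.surjective.injective_comp_right h)]
      funext x
      simp only [Function.comp_apply, Finset.sum_apply]

end Cfsg.Agent.S0857
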