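import Cfsg.Statements.S0859
import Cfsg.Agent.H14.AGroupMonomial

set_option autoImplicit false
open Cfsg

namespace Cfsg.Agent.S0859

/-- Let G be a finite solvable group and N a normal subgroup such that for every prime p every Sylow p-subgroup of N is abelian. Suppose every irreducible character of G is induced from an irreducible character of some subgroup containing N whose restriction to N is irreducible. Then every irreducible character of G is induced from a character of degree 1 of some subgroup. -/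
theorem result {G : Type*} [Group G] [Fintype G] [Group.IsSolvable G] (N : Subgroup G) [N.Normal] (hab : ∀ (p : ℕ) [Fact p.Prime] (P : Sylow p N), ∀ a ∈ P, ∀ b ∈ P, a * b = b * a) (hrel : ∀ χ : G → ℂ, Cfsg.IsIrrCharacter G χ → ∃ (H : Subgroup G) (hNH : N ≤ H) (ψ : H → ℂ), Cfsg.IsIrrCharacter H ψ ∧ Cfsg.indFun H ψ = χ ∧ Cfsg.IsIrrCharacter N (fun n : N => ψ ⟨(n : G), hNH n.2⟩)) (χ : G → ℂ) (hχ : Cfsg.IsIrrCharacter G χ) : ∃ (U : Subgroup G) (lam : U → ℂ), Cfsg.IsCharacter U lam ∧ lam 1 = 1 ∧ Cfsg.indFun U lam = χ := by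
  classical
  obtain ⟨H, hNH, ψ, hψ, hind, hres⟩ := hrel χ hχ
  letI : Fintype H := Fintype.ofFinite _
  haveI : Group.IsSolvable H := inferInstance
  have hA : H14.AbelianPParts N := by
    intro p _ P hP hPp a ha b hb
    obtain ⟨Q, hQ⟩ := (hPp.comap_of_injective N.subtype N.subtype_injective).exists_le_sylow
    exact congrArg Subtype.val (hab p Q ⟨a, hP ha⟩ (hQ ha) ⟨b, hP hb⟩ (hQ hb))
  obtain ⟨U, lam, hlam, hlam1, hU⟩ := H14.agroup_monomial_aux _ (G := H) rfl (N.subgroupOf H)
    (H14.abelianPParts_subgroupOf hA) ψ hψ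
    (H13.isIrrCharacter_comp_equiv (Subgroup.subgroupOfEquivOfLe hNH) hres)
  obtain ⟨eU, heU, hirrU, hindU⟩ := H14.indFun_stages H U hlam
  exact ⟨U.map H.subtype, lam ∘ eU, H12.isCharacter_of_isIrrCharacter hirrU,
    by rw [Function.comp_apply, map_one, hlam1], by rw [hindU, hU, hind]⟩

end Cfsg.Agent.S0859
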