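import Cfsg.Statements.S0860
import Cfsg.Agent.H12.Orth

set_option autoImplicit false
open Cfsg

namespace Cfsg.Agent.S0860

/-- Let a group A act on the set of irreducible characters and on the set of conjugacy classes of a finite group G in such a way that (a • χ) evaluated on the class a • C equals χ evaluated on C, for all a, χ and C. Then every element of A fixes exactly as many irreducible characters as it fixes conjugacy classes. -/
theorem result {G : Type*} [Group G] [Finite G] {A : Type*} [Group A] [MulAction A (Cfsg.IrrCharacter G)] [MulAction A (ConjClasses G)] (hcompat : ∀ (a : A) (χ : Cfsg.IrrCharacter G) (g g' : G), ConjClasses.mk g' = a • ConjClasses.mk g → ((a • χ : Cfsg.IrrCharacter G) : G → ℂ) g' = (χ : G → ℂ) g) (a : A) : Nat.card {χ : Cfsg.IrrCharacter G // a • χ = χ} = Nat.card {C : ConjClasses G // a • C = C} := by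
  classical
  letI : Fintype G := Fintype.ofFinite _
  letI : Fintype (ConjClasses G) := Fintype.ofFinite _
  -- a representative of the preimage class
  let s : G → G := fun g => (a⁻¹ • ConjClasses.mk g).out
  have hs : ∀ g, ConjClasses.mk (s g) = a⁻¹ • ConjClasses.mk g := fun g => Quotient.out_eq _
  have hval : ∀ (χ : Cfsg.IrrCharacter G) (g : G),
      ((a • χ : Cfsg.IrrCharacter G) : G → ℂ) g = (χ : G → ℂ) (s g) := fun χ g =>
    hcompat a χ (s g) g (by rw [hs, smul_inv_smul])
  have hfix : ∀ g, IsConj (s g) g ↔ a • ConjClasses.mk g = ConjClasses.mk g := by
    intro g
    rw [← ConjClasses.mk_eq_mk_iff_isConj, hs, inv_smul_eq_iff, eq_comm]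
  have key : (Nat.card {χ : Cfsg.IrrCharacter G // a • χ = χ} : ℂ) =
      (Nat.card {C : ConjClasses G // a • C = C} : ℂ) := by
    calc (Nat.card {χ : Cfsg.IrrCharacter G // a • χ = χ} : ℂ)
        = ∑ χ : Cfsg.IrrCharacter G,
            Cfsg.classInner ((a • χ : Cfsg.IrrCharacter G) : G → ℂ) (χ : G → ℂ) := by
          rw [Nat.card_eq_fintype_card, Fintype.card_subtype, Finset.card_filter]
          push_cast
          refine Finset.sum_congr rfl fun χ _ => ?_
          split_ifs with h
          · rw [h, H12.classInner_irr_self]
          · rw [H12.classInner_irr_ne h]
      _ = (Nat.card G : ℂ)⁻¹ * ∑ g : G,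
            if a • ConjClasses.mk g = ConjClasses.mk g then
              (Nat.card (Subgroup.centralizer ({s g} : Set G)) : ℂ) else 0 := by
          simp only [Cfsg.classInner, ← Finset.mul_sum]
          congr 1
          rw [Finset.sum_comm]
          refine Finset.sum_congr rfl fun g _ => ?_
          simp only [hval]
          rw [H12.column_orthogonality]
          simp only [hfix]
      _ = (Nat.card {C : ConjClasses G // a • C = C} : ℂ) := by
          rw [Nat.card_eq_fintype_card (α := {C : ConjClasses G // a • C = C}), Fintype.card_subtype,
            Finset.card_filter, ← Finset.sum_fiberwise Finset.univ (fun g : G => ConjClasses.mk g),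
            Finset.mul_sum]
          push_cast
          refine Finset.sum_congr rfl fun C _ => ?_
          by_cases hC : a • C = C
          · rw [if_pos hC]
            obtain ⟨g0, rfl⟩ := ConjClasses.mk_surjective C
            have hcl : (Finset.univ.filter fun g : G => ConjClasses.mk g = ConjClasses.mk g0) =
                Finset.univ.filter fun x : G => IsConj g0 x := by
              ext x
              simp only [Finset.mem_filter, Finset.mem_univ, true_and, ConjClasses.mk_eq_mk_iff_isConj]
              exact ⟨IsConj.symm, IsConj.symm⟩
            have hterm : ∀ g ∈ (Finset.univ.filter fun g : G => ConjClasses.mk g = ConjClasses.mk g0),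
                (if a • ConjClasses.mk g = ConjClasses.mk g then
                  (Nat.card (Subgroup.centralizer ({s g} : Set G)) : ℂ) else 0) =
                (Nat.card (Subgroup.centralizer ({g0} : Set G)) : ℂ) := by
              intro g hg
              have hg' : ConjClasses.mk g = ConjClasses.mk g0 := (Finset.mem_filter.mp hg).2
              rw [if_pos (by rw [hg']; exact hC)]
              have hc : IsConj g0 (s g) := by
                rw [← ConjClasses.mk_eq_mk_iff_isConj, hs, hg', eq_inv_smul_iff, hC]
              have h1 := H12.card_conjClass_mul_card_centralizer (s g)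
              have h2 := H12.card_conjClass_mul_card_centralizer g0
              have e : (Finset.univ.filter fun x : G => IsConj (s g) x) = Finset.univ.filter fun x : G => IsConj g0 x := by
                ext x
                simp only [Finset.mem_filter, Finset.mem_univ, true_and]
                exact ⟨hc.trans, hc.symm.trans⟩
              rw [e, ← h2] at h1
              have hpos : 0 < ({x : G | IsConj g0 x} : Finset G).card :=
                Finset.card_pos.2 ⟨g0, Finset.mem_filter.2 ⟨Finset.mem_univ _, IsConj.refl g0⟩⟩
              exact_mod_cast Nat.eq_of_mul_eq_mul_left hpos h1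
            rw [Finset.sum_congr rfl hterm, Finset.sum_const, nsmul_eq_mul, hcl, ← Nat.cast_mul,
              H12.card_conjClass_mul_card_centralizer]
            exact inv_mul_cancel₀ (Nat.cast_ne_zero.mpr Nat.card_pos.ne')
          · rw [if_neg hC, Finset.sum_eq_zero, mul_zero]
            intro g hg
            rw [if_neg]
            rw [(Finset.mem_filter.mp hg).2]
            exact hC
  exact_mod_cast key

end Cfsg.Agent.S0860
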