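import Cfsg.Statements.S0868
import Cfsg.Agent.H14.Averages

set_option autoImplicit false
open scoped ComplexConjugate
open Cfsg

namespace Cfsg.Agent.S0868

/-- Let N be a normal subgroup of the finite group G, χ an irreducible character of G whose restriction ϑ to N is irreducible, and ψ an irreducible character of G. Define η on G by η g = (1 / order of N) * Σ over n in N of ψ (n * g) * conj (χ (n * g)). Then: if the restriction of ψ to N has nonzero inner product with ϑ, η is an irreducible character of G; if that inner product is zero, η vanishes identically; and if ψ = χ then η is identically 1. -/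
theorem result {G : Type*} [Group G] [Fintype G] (N : Subgroup G) [N.Normal] [Fintype N] (χ : G → ℂ) (hχ : Cfsg.IsIrrCharacter G χ) (hχN : Cfsg.IsIrrCharacter N (fun n : N => χ n)) (ψ : G → ℂ) (hψ : Cfsg.IsIrrCharacter G ψ) (η : G → ℂ) (hη : η = fun g => (Nat.card N : ℂ)⁻¹ * ∑ n : N, ψ ((n : G) * g) * conj (χ ((n : G) * g))) : (Cfsg.classInner (fun n : N => ψ n) (fun n : N => χ n) ≠ 0 → Cfsg.IsIrrCharacter G η) ∧ (Cfsg.classInner (fun n : N => ψ n) (fun n : N => χ n) = 0 → η = 0) ∧ (ψ = χ → η = fun _ => 1) := by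
  classical
  haveI : Fintype (G ⧸ N) := Fintype.ofFinite _
  have hχc := H12.isCharacter_of_isIrrCharacter hχ
  have hη' : η = H14.cosetAvg N ψ χ := hη
  have hfact : ∀ β : Cfsg.IrrCharacter (G ⧸ N), ψ = (H13.inflateIrr N β : G → ℂ) * χ →
      η = (H13.inflateIrr N β : G → ℂ) := by
    intro β hβ
    funext g
    have h1 := congrFun (H14.cosetAvg_self N hχc hχN) g
    simp only [H14.cosetAvg] at h1
    rw [hη]
    simp only [hβ, Pi.mul_apply, H14.inflate_coset N β _ (SetLike.coe_mem _), mul_assoc, ← Finset.mul_sum]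
    rw [← mul_assoc, mul_comm _ ((H13.inflateIrr N β : G → ℂ) g), mul_assoc, h1, mul_one]
  refine ⟨?_, ?_, ?_⟩
  · intro hne
    obtain ⟨β, hβ⟩ := H13.gallagher_exists N hχc hχN hψ hne
    rw [hfact β hβ]
    exact (H13.inflateIrr N β).2
  · intro h0
    rw [hη']
    refine H14.eq_zero_of_coset_orthogonal N _ (H14.cosetAvg_class N
      (H12.IsCharacter.isClassFunction (H12.isCharacter_of_isIrrCharacter hψ))
      (H12.IsCharacter.isClassFunction hχc)) (H14.cosetAvg_coset N ψ χ) fun β => ?_
    rw [H14.classInner_cosetAvg N ψ χ _ (H14.inflate_coset N β)]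
    by_contra hne
    have heq : (⟨ψ, hψ⟩ : Cfsg.IrrCharacter G) = ⟨_, H13.gallagher_isIrr N hχc hχN β⟩ := by
      by_contra hd
      exact hne (H12.classInner_irr_ne hd)
    have hval : ∀ n : N, ψ n = (H13.inflateIrr N β : G → ℂ) 1 * χ n := by
      intro n
      have hh : ψ n = (H13.inflateIrr N β : G → ℂ) n * χ n := congrFun (congrArg Subtype.val heq) (n : G)
      rw [hh, H13.inflateIrr_kernel N β n.2]
    have : Cfsg.classInner (fun n : N => ψ n) (fun n : N => χ n) = (H13.inflateIrr N β : G → ℂ) 1 := by
      rw [show (fun n : N => ψ n) = (H13.inflateIrr N β : G → ℂ) 1 • (fun n : N => χ n) from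
        funext hval, H12.classInner_smul_left]
      rw [show Cfsg.classInner (fun n : N => χ n) (fun n : N => χ n) = 1 from
        H12.classInner_irr_self (⟨_, hχN⟩ : Cfsg.IrrCharacter N), mul_one]
    rw [h0] at this
    exact H12.irr_apply_one_ne_zero (H13.inflateIrr N β) this.symm
  · intro h
    subst h
    rw [hη']
    exact H14.cosetAvg_self N hχc hχN

end Cfsg.Agent.S0868
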