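import Cfsg.Statements.S0869
import Mathlib

set_option autoImplicit false
open Cfsg

namespace Cfsg.Agent.S0869

/-- Let S be a nonempty finite type and R an additive subgroup of the integer-valued functions on S that is closed under pointwise multiplication. If the constant function 1 is not in R, then there exist a point x of S and a prime p such that p divides f x for every f in R. -/
theorem result {S : Type*} [Finite S] [Nonempty S] (R : AddSubgroup (S → ℤ)) (hmul : ∀ f ∈ R, ∀ g ∈ R, f * g ∈ R) (h1 : (1 : S → ℤ) ∉ R) : ∃ (x : S) (p : ℕ), p.Prime ∧ ∀ f ∈ R, (p : ℤ) ∣ f x := by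
  classical
  by_contra hcon
  push Not at hcon
  have hone : ∀ x : S, ∃ f ∈ R, f x = 1 := by
    intro x
    obtain ⟨d, hd⟩ := Int.subgroup_cyclic (R.map (Pi.evalAddMonoidHom (fun _ : S => ℤ) x))
    have hdvd : ∀ f ∈ R, d ∣ f x := by
      intro f hf
      have : f x ∈ R.map (Pi.evalAddMonoidHom (fun _ : S => ℤ) x) :=
        AddSubgroup.mem_map_of_mem _ hf
      rw [hd, AddSubgroup.mem_closure_singleton] at this
      obtain ⟨k, hk⟩ := this
      exact ⟨k, by rw [← hk]; simp [mul_comm]⟩
    have hmem : d ∈ R.map (Pi.evalAddMonoidHom (fun _ : S => ℤ) x) := by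
      rw [hd]; exact AddSubgroup.subset_closure rfl
    obtain ⟨f, hf, hfx⟩ := hmem
    simp only [Pi.evalAddMonoidHom_apply] at hfx
    by_cases h : d.natAbs = 1
    · rcases Int.natAbs_eq_iff.mp h with h' | h'
      · exact ⟨f, hf, by rw [hfx]; simpa using h'⟩
      · exact ⟨-f, R.neg_mem hf, by simp [Pi.neg_apply, hfx, h']⟩
    · obtain ⟨g, hg, hnd⟩ := hcon x d.natAbs.minFac (Nat.minFac_prime h)
      refine absurd ((Int.natCast_dvd_natCast.mpr d.natAbs.minFac_dvd).trans ?_) hnd
      exact (Int.natAbs_dvd).mpr (hdvd g hg)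
  have key : ∀ s : Finset S, ∃ f ∈ R, ∀ x ∈ s, f x = 1 := by
    intro s
    induction s using Finset.induction_on with
    | empty => exact ⟨0, R.zero_mem, by simp⟩
    | @insert a s ha ih =>
      obtain ⟨f, hf, hfs⟩ := ih
      obtain ⟨g, hg, hga⟩ := hone a
      refine ⟨f + g - f * g, R.sub_mem (R.add_mem hf hg) (hmul f hf g hg), ?_⟩
      intro x hx
      rcases Finset.mem_insert.mp hx with rfl | hx
      · simp [hga]
      · simp [hfs x hx]
  have := Fintype.ofFinite S
  obtain ⟨f, hf, hf1⟩ := key Finset.univ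
  exact h1 ((funext fun x => by simpa using hf1 x (Finset.mem_univ x) : f = 1) ▸ hf)

end Cfsg.Agent.S0869
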