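import Cfsg.Statements.S0873
import Cfsg.Agent.H14.Basic

set_option autoImplicit false
open Cfsg

namespace Cfsg.Agent.S0873

/-- Let C be a normal subgroup of the finite group G of order prime to p and P a p-subgroup with C ⊔ P = G. Let λ be a character of C of degree 1 invariant under conjugation by G and equal to 1 at every element of C centralized by P. Then λ is identically 1. -/
theorem result {G : Type*} [Group G] [Finite G] (p : ℕ) [Fact p.Prime] (C P : Subgroup G) [hC : C.Normal] (hP : IsPGroup p P) (hcop : Nat.Coprime (Nat.card C) p) (hCP : C ⊔ P = ⊤) (lam : C → ℂ) (hlam : Cfsg.IsCharacter C lam ∧ lam 1 = 1) (hinv : ∀ (g : G) (c : C), lam ⟨g * c * g⁻¹, hC.conj_mem (c : G) c.2 g⟩ = lam c) (hker : ∀ c : C, (c : G) ∈ Subgroup.centralizer (P : Set G) → lam c = 1) : lam = fun _ => 1 := by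
  classical
  obtain ⟨hc, h1⟩ := hlam
  have hmul := H14.linear_char_mul hc h1
  let f : C →* ℂ := { toFun := lam, map_one' := h1, map_mul' := hmul }
  funext c
  let act : MulAction P {d : C // lam d = lam c} :=
    { smul := fun g d => ⟨⟨(g : G) * (d.1 : G) * (g : G)⁻¹, hC.conj_mem _ d.1.2 _⟩,
        (hinv (g : G) d.1).trans d.2⟩
      one_smul := fun d => Subtype.ext (Subtype.ext (by
        change ((1 : P) : G) * (d.1 : G) * ((1 : P) : G)⁻¹ = (d.1 : G)
        simp))
      mul_smul := fun g h d => Subtype.ext (Subtype.ext (by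
        change ((g * h : P) : G) * (d.1 : G) * ((g * h : P) : G)⁻¹ =
          (g : G) * ((h : G) * (d.1 : G) * (h : G)⁻¹) * (g : G)⁻¹
        simp [mul_assoc])) }
  letI := act
  have hinv' : ∀ d : C, lam d⁻¹ * lam d = 1 := fun d => by rw [← hmul, inv_mul_cancel, h1]
  have hcard : Nat.card {d : C // lam d = lam c} = Nat.card f.ker := by
    refine Nat.card_congr
      { toFun := fun d => ⟨c⁻¹ * d.1, ?_⟩
        invFun := fun k => ⟨c * k.1, ?_⟩
        left_inv := fun d => Subtype.ext (mul_inv_cancel_left _ _)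
        right_inv := fun k => Subtype.ext (inv_mul_cancel_left _ _) }
    · change lam (c⁻¹ * d.1) = 1
      rw [hmul, d.2, hinv']
    · have : lam k.1 = 1 := k.2
      rw [hmul, this, mul_one]
  have hnd : ¬ p ∣ Nat.card {d : C // lam d = lam c} := by
    rw [hcard]
    intro hd
    have := Nat.dvd_gcd (hd.trans f.ker.card_subgroup_dvd_card) (dvd_refl p)
    rw [hcop.gcd_eq_one] at this
    exact (Fact.out : p.Prime).not_dvd_one this
  obtain ⟨d, hd⟩ := hP.nonempty_fixed_point_of_prime_not_dvd_card _ hnd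
  have hd' : ((d.1 : C) : G) ∈ Subgroup.centralizer (P : Set G) := by
    intro g hg
    have h := congrArg (fun z : {d : C // lam d = lam c} => ((z.1 : C) : G)) (hd ⟨g, hg⟩)
    change g * (d.1 : G) * g⁻¹ = (d.1 : G) at h
    calc g * (d.1 : G) = g * (d.1 : G) * g⁻¹ * g := by group
      _ = (d.1 : G) * g := by rw [h]
  rw [← d.2]
  exact hker d.1 hd'

end Cfsg.Agent.S0873
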