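import Cfsg.Statements.S0878
import Cfsg.Agent.H14.Basic

set_option autoImplicit false
open Cfsg

namespace Cfsg.Agent.S0878

/-- Let G be a Zassenhaus group on the finite set Ω, a a point, and let H be the subgroup of the stabilizer of a consisting of the identity and the elements fixing no point other than a (given here as a subgroup of the stabilizer of order one less than the number of points whose non-identity elements fix only a; it is the Frobenius kernel of the stabilizer). Then an element outside the stabilizer of a conjugates no non-identity element of H into H, and the normalizer of H is exactly the stabilizer of a. -/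
theorem result {G Ω : Type*} [Group G] [Finite G] [MulAction G Ω] [Fintype Ω] (hZ : Cfsg.IsZassenhausGroup G Ω) (a : Ω) (H : Subgroup G) (hHa : H ≤ MulAction.stabilizer G a) (hHcard : Nat.card H + 1 = Fintype.card Ω) (hHfix : ∀ u ∈ H, u ≠ 1 → ∀ c : Ω, u • c = c → c = a) : (∀ g : G, g ∉ MulAction.stabilizer G a → ∀ u ∈ H, g * u * g⁻¹ ∈ H → u = 1) ∧ Subgroup.normalizer (H : Set G) = MulAction.stabilizer G a := by
  classical
  obtain ⟨hfaith, h2t, h3, hex, hlast⟩ := hZ
  have hpart1 : ∀ g : G, g ∉ MulAction.stabilizer G a → ∀ u ∈ H, g * u * g⁻¹ ∈ H → u = 1 := by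
    intro g hg u hu hgu
    by_contra hu1
    refine hg (hHfix _ hgu (fun h => hu1 ?_) (g • a) ?_)
    · simpa using h
    · rw [mul_smul, mul_smul, inv_smul_smul, MulAction.mem_stabilizer_iff.mp (hHa hu)]
  refine ⟨hpart1, ?_⟩
  have hΩ : 3 ≤ Fintype.card Ω := by
    obtain ⟨g, hg1, x, y, hxy, hgx, hgy⟩ := hex
    obtain ⟨z, hz⟩ : ∃ z : Ω, g • z ≠ z := by
      by_contra h
      push Not at h
      exact hg1 (hfaith.eq_of_smul_eq_smul (fun z => by rw [h z, one_smul]))
    have hzx : z ≠ x := fun h => hz (by rw [h, hgx])
    have hzy : z ≠ y := fun h => hz (by rw [h, hgy])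
    have : ({x, y, z} : Finset Ω).card = 3 := by
      simp [hxy, hzx.symm, hzy.symm]
    exact this ▸ Finset.card_le_univ _
  obtain ⟨u, hu, hu1⟩ : ∃ u ∈ H, u ≠ 1 := by
    refine (Subgroup.nontrivial_iff_exists_ne_one H).mp ?_
    rw [← Finite.one_lt_card_iff_nontrivial]
    omega
  refine le_antisymm ?_ ?_
  · intro g hg
    by_contra hga
    exact hu1 (hpart1 g hga u hu ((Subgroup.mem_normalizer_iff.mp hg u).mp hu))
  -- the fixed-point-free elements on the other points
  letI : Fintype G := Fintype.ofFinite _
  let A := MulAction.stabilizer G a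
  let X := SubMulAction.ofStabilizer G a
  haveI hpre : MulAction.IsPretransitive A X := by
    haveI : MulAction.IsPretransitive G Ω := MulAction.isPretransitive_of_is_two_pretransitive
    rw [← MulAction.is_one_pretransitive_iff]
    exact (SubMulAction.ofStabilizer.isMultiplyPretransitive (G := G) (a := a)).mp h2t
  have hXcard : Fintype.card X + 1 = Fintype.card Ω := by
    rw [← Nat.card_eq_fintype_card, ← Nat.card_eq_fintype_card]
    exact SubMulAction.nat_card_ofStabilizer_add_one_eq G a
  have hne : Nonempty X := Fintype.card_pos_iff.mp (by omega)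
  have hfix : ∀ m : A, m ≠ 1 → Fintype.card (MulAction.fixedBy X m) ≤ 1 := by
    intro m hm
    rw [Fintype.card_le_one_iff]
    rintro ⟨x, hx⟩ ⟨y, hy⟩
    refine Subtype.ext ?_
    by_contra hxy
    have hx' : (m : G) • (x : Ω) = x := congrArg Subtype.val hx
    have hy' : (m : G) • (y : Ω) = y := congrArg Subtype.val hy
    exact hm (Subtype.ext (h3 (m : G) a x y (Ne.symm x.2) (fun h => hxy (Subtype.ext h))
      (Ne.symm y.2) m.2 hx' hy'))
  let D : Finset A := Finset.univ.filter fun m => Fintype.card (MulAction.fixedBy X m) = 0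
  have hD : D.card + 1 = Fintype.card X := by
    have hburn := MulAction.sum_card_fixedBy_eq_card_orbits_mul_card_group A X
    have : Fintype.card (Quotient (MulAction.orbitRel A X)) = 1 := by
      rw [Fintype.card_eq_one_iff]
      obtain ⟨x0⟩ := hne
      refine ⟨Quotient.mk'' x0, fun q => ?_⟩
      induction q using Quotient.inductionOn' with
      | h y => exact Quotient.sound' (MulAction.exists_smul_eq A x0 y)
    rw [this, one_mul] at hburn
    have h1 : Fintype.card (MulAction.fixedBy X (1 : A)) = Fintype.card X :=
      Fintype.card_congr (Equiv.subtypeUnivEquiv fun x => one_smul A x)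
    have e : ∀ m : A, Fintype.card (MulAction.fixedBy X m) + (if m = 1 then 1 else 0) +
        (if Fintype.card (MulAction.fixedBy X m) = 0 then 1 else 0) =
        1 + (if m = 1 then Fintype.card X else 0) := by
      intro m
      by_cases hm : m = 1
      · subst hm
        rw [if_pos rfl, if_pos rfl, h1, if_neg (by omega)]
        omega
      · rw [if_neg hm, if_neg hm]
        have := hfix m hm
        split_ifs with h <;> omega
    have esum := Finset.sum_congr (rfl : (Finset.univ : Finset A) = _) (fun m _ => e m)
    rw [Finset.sum_add_distrib, Finset.sum_add_distrib, Finset.sum_add_distrib, hburn,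
      ← Finset.card_filter, ← Finset.card_filter] at esum
    rw [Finset.sum_ite_eq' Finset.univ (1 : A) (fun _ => Fintype.card X), if_pos (Finset.mem_univ _),
      ← Finset.card_eq_sum_ones, Finset.filter_eq', if_pos (Finset.mem_univ _), Finset.card_singleton,
      Finset.card_univ] at esum
    change _ + D.card = _ at esum
    omega
  let HD : Finset A := Finset.univ.filter fun m => (m : G) ∈ H ∧ m ≠ 1
  have hsub : HD ⊆ D := by
    intro m hm
    obtain ⟨-, hmH, hm1⟩ := Finset.mem_filter.mp hm
    refine Finset.mem_filter.mpr ⟨Finset.mem_univ _, Fintype.card_eq_zero_iff.mpr ⟨?_⟩⟩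
    rintro ⟨x, hx⟩
    exact x.2 (hHfix _ hmH (fun h => hm1 (Subtype.ext h)) x (congrArg Subtype.val hx))
  have hHD : HD.card + 1 = Nat.card H := by
    have h : (Finset.univ.filter fun m : A => (m : G) ∈ H).card = Nat.card H := by
      rw [← Fintype.card_subtype, ← Nat.card_eq_fintype_card]
      exact Nat.card_congr
        { toFun := fun m => ⟨m.1, m.2⟩
          invFun := fun m => ⟨⟨m.1, hHa m.2⟩, m.2⟩
          left_inv := fun m => rfl
          right_inv := fun m => rfl }
    have e : HD = (Finset.univ.filter fun m : A => (m : G) ∈ H).erase 1 := by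
      ext m; simp [HD, and_comm]
    rw [e, Finset.card_erase_of_mem (by simp), h]
    have := Nat.card_pos (α := H)
    omega
  have hHeq : HD = D := Finset.eq_of_subset_of_card_le hsub (by omega)
  have hmem : ∀ g ∈ MulAction.stabilizer G a, ∀ h ∈ H, g * h * g⁻¹ ∈ H := by
    intro g hg h hh
    by_cases h1 : h = 1
    · simp [h1]
    have hA : g * h * g⁻¹ ∈ A := A.mul_mem (A.mul_mem hg (hHa hh)) (A.inv_mem hg)
    have : (⟨_, hA⟩ : A) ∈ D := by
      refine Finset.mem_filter.mpr ⟨Finset.mem_univ _, Fintype.card_eq_zero_iff.mpr ⟨?_⟩⟩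
      rintro ⟨x, hx⟩
      have hx' : (g * h * g⁻¹) • (x : Ω) = x := congrArg Subtype.val hx
      have hfa : g⁻¹ • (x : Ω) = a := hHfix h hh h1 _ (by
        rw [mul_smul, mul_smul, smul_eq_iff_eq_inv_smul] at hx'
        exact hx')
      exact x.2 (show (x : Ω) = a by
        rw [inv_smul_eq_iff, MulAction.mem_stabilizer_iff.mp hg] at hfa
        exact hfa)
    rw [← hHeq] at this
    exact (Finset.mem_filter.mp this).2.1
  intro g hg
  rw [Subgroup.mem_normalizer_iff]
  intro h
  refine ⟨hmem g hg h, fun hh => ?_⟩
  have := hmem g⁻¹ ((MulAction.stabilizer G a).inv_mem hg) _ hh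
  simpa [mul_assoc] using this

end Cfsg.Agent.S0878
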