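import Cfsg.Statements.S0880
import Cfsg.Agent.H14.ZassenhausCount

set_option autoImplicit false
open Cfsg

namespace Cfsg.Agent.S0880

/-- Let G be a finite simple Zassenhaus group on Ω with n points whose two-point stabilizer E has odd order less than n - 2. Then there are two elements of G, each fixing no point of Ω, that are not conjugate. -/
theorem result {G Ω : Type*} [Group G] [Finite G] [MulAction G Ω] [Fintype Ω] (hZ : Cfsg.IsZassenhausGroup G Ω) {a b : Ω} (hab : a ≠ b) [IsSimpleGroup G] (hodd : Odd (Nat.card ↥(MulAction.stabilizer G a ⊓ MulAction.stabilizer G b : Subgroup G))) (hlt : Nat.card ↥(MulAction.stabilizer G a ⊓ MulAction.stabilizer G b : Subgroup G) < Fintype.card Ω - 2) : ∃ x y : G, (∀ c : Ω, x • c ≠ c) ∧ (∀ c : Ω, y • c ≠ c) ∧ ¬ IsConj x y := by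
  classical
  haveI : Fintype G := Fintype.ofFinite G
  obtain ⟨hfaith, h2, h3, hex, -⟩ := hZ
  set n := Fintype.card Ω with hn
  set e := Nat.card ↥(MulAction.stabilizer G a ⊓ MulAction.stabilizer G b : Subgroup G) with hedef
  have he : (Finset.univ.filter fun g : G => g • a = a ∧ g • b = b).card = e := by
    rw [hedef, Nat.card_eq_fintype_card, Fintype.card_subtype]
    congr 1
    ext g
    simp
  obtain ⟨hG, hD⟩ := H14.two_mul_card_derangements h2 h3 hab e n hn.symm he
  have he3 : 3 ≤ e := by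
    obtain ⟨g, hg1, p, q, hpq, hgp, hgq⟩ := hex
    have h1 : 1 < (Finset.univ.filter fun g : G => g • p = p ∧ g • q = q).card :=
      Finset.one_lt_card.mpr ⟨1, by simp, g, by simp [hgp, hgq], Ne.symm hg1⟩
    rw [H14.card_pair_map h2 hab hpq hpq, he] at h1
    obtain ⟨k, hk⟩ := hodd
    omega
  have hn6 : 6 ≤ n := by omega
  by_contra hcon
  push Not at hcon
  set Dset := Finset.univ.filter fun g : G => ∀ c : Ω, g • c ≠ c with hDset
  have hne : Dset.Nonempty := by
    rw [← Finset.card_pos]
    by_contra h0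
    have hz : Dset.card = 0 := by omega
    rw [hz] at hD
    have hn' : (6 : ℤ) ≤ (n : ℤ) := by exact_mod_cast hn6
    have he' : (3 : ℤ) ≤ (e : ℤ) := by exact_mod_cast he3
    push_cast at hD
    have hpos : (0 : ℤ) ≤ (n : ℤ) * ((n : ℤ) - 1) * ((e : ℤ) - 1) :=
      mul_nonneg (mul_nonneg (by linarith) (by linarith)) (by linarith)
    linarith
  obtain ⟨x, hx⟩ := hne
  have hx' := (Finset.mem_filter.mp hx).2
  -- the derangements are the class of `x`
  have hclass : Dset = Finset.univ.image fun g : G => g * x * g⁻¹ := by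
    ext y
    simp only [hDset, Finset.mem_filter, Finset.mem_univ, true_and, Finset.mem_image]
    constructor
    · exact fun hy => isConj_iff.mp (hcon x y hx' hy)
    · rintro ⟨g, rfl⟩ c hc
      rw [mul_smul, mul_smul, ← eq_inv_smul_iff] at hc
      exact hx' _ hc
  set c := (Finset.univ.filter fun g : G => g * x * g⁻¹ = x).card with hcdef
  have hGc : Fintype.card G = Dset.card * c := by
    rw [← Finset.card_univ, Finset.card_eq_sum_card_fiberwise (f := fun g : G => g * x * g⁻¹) (t := Dset)
      (fun g _ => by rw [hclass]; exact Finset.mem_coe.mpr (Finset.mem_image_of_mem _ (Finset.mem_univ g)))]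
    rw [Finset.sum_congr rfl (g := fun _ => c), Finset.sum_const, smul_eq_mul]
    intro y hy
    rw [hclass] at hy
    obtain ⟨u, -, rfl⟩ := Finset.mem_image.mp hy
    refine Finset.card_equiv (Equiv.mulLeft u⁻¹) fun g => ?_
    simp only [Finset.mem_filter, Finset.mem_univ, true_and, Equiv.coe_mulLeft, mul_inv_rev, inv_inv]
    constructor
    · intro h
      calc u⁻¹ * g * x * (g⁻¹ * u) = u⁻¹ * (g * x * g⁻¹) * u := by group
        _ = x := by rw [h]; group
    · intro h
      calc g * x * g⁻¹ = u * (u⁻¹ * g * x * (g⁻¹ * u)) * u⁻¹ := by group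
        _ = u * x * u⁻¹ := by rw [h]
  have hkey : (c : ℤ) * ((n : ℤ) * ((e : ℤ) - 1) + 2) = 2 * (n : ℤ) * e := by
    have h1 : ((n * (n - 1) * e : ℕ) : ℤ) = (Dset.card : ℤ) * c := by
      rw [← hG, hGc]; push_cast; ring
    push_cast [Nat.cast_sub (by omega : 1 ≤ n)] at h1
    have hne0 : ((n : ℤ) - 1) ≠ 0 := by
      have : (6 : ℤ) ≤ (n : ℤ) := by exact_mod_cast hn6
      omega
    apply mul_left_cancel₀ hne0
    linear_combination (-(c : ℤ)) * hD - 2 * h1
  have hn' : (6 : ℤ) ≤ (n : ℤ) := by exact_mod_cast hn6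
  have he' : (3 : ℤ) ≤ (e : ℤ) := by exact_mod_cast he3
  rcases Nat.lt_or_ge c 3 with hc | hc
  · interval_cases c
    · push_cast at hkey; nlinarith
    · push_cast at hkey; nlinarith
    · push_cast at hkey; nlinarith
  · have hc' : (3 : ℤ) ≤ (c : ℤ) := by exact_mod_cast hc
    have hA : (0 : ℤ) ≤ (n : ℤ) * ((e : ℤ) - 1) + 2 := by nlinarith
    have := mul_le_mul_of_nonneg_right hc' hA
    nlinarith

end Cfsg.Agent.S0880
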