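import Cfsg.Statements.S0882
import Cfsg.Agent.H66.ZassCorollaries

set_option autoImplicit false
open Cfsg

namespace Cfsg.Agent.S0882

/-- Let G be a finite simple Zassenhaus group on Ω with n = h + 1 points whose two-point stabilizer E has odd order e with 2e < h - 1. Then any two involutions of G are conjugate, and the number of involutions is e * (h + 1) if h is even and e * h if h is odd. -/
theorem result {G Ω : Type*} [Group G] [Finite G] [MulAction G Ω] [Fintype Ω] (hZ : Cfsg.IsZassenhausGroup G Ω) {a b : Ω} (hab : a ≠ b) [IsSimpleGroup G] (h e : ℕ) (hh : Fintype.card Ω = h + 1) (he : Nat.card ↥(MulAction.stabilizer G a ⊓ MulAction.stabilizer G b : Subgroup G) = e) (hodd : Odd e) (hlt : 2 * e < h - 1) : (∀ x y : G, orderOf x = 2 → orderOf y = 2 → IsConj x y) ∧ Nat.card {x : G // orderOf x = 2} = (if Even h then e * (h + 1) else e * h) := by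
  classical
  rcases H66.Feit.odd_cases hZ hab (he ▸ hodd) with h1 | ⟨U, -, -, hna, hcard, hΩ, -, v, hva, hC⟩
  · rw [Nat.card_eq_fintype_card (α := Ω), hh, he] at h1
    omega
  have hS := hC.setup
  have htwo : ∀ x : G, orderOf x = 2 ↔ x ≠ 1 ∧ x * x = 1 := fun x => by
    constructor
    · intro hx
      exact ⟨fun e' => by rw [e', orderOf_one] at hx; omega, H66.mul_self_of_orderOf_two hx⟩
    · rintro ⟨h1, h2⟩
      exact orderOf_eq_prime (by rw [pow_two]; exact h2) h1
  have hconj : ∀ x y : G, orderOf x = 2 → orderOf y = 2 → IsConj x y := fun x y hx hy => by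
    obtain ⟨g, hg⟩ :=
      H66.R1.invol_conj hS ((htwo x).1 hx).1 ((htwo x).1 hx).2 ((htwo y).1 hy).1 ((htwo y).1 hy).2
    exact isConj_iff.2 ⟨g, hg⟩
  refine ⟨hconj, ?_⟩
  obtain ⟨s, hs⟩ := H66.R1.exists_invol hS
  have hso : orderOf s = 2 := (htwo s).2 ⟨hs.2.1, hs.2.2⟩
  have hcent : Subgroup.centralizer ({s} : Set G) = U := by
    refine le_antisymm (fun x hx => ?_) (fun x hx => ?_)
    · exact H66.ZS.commute_invol hC hs (Subgroup.mem_centralizer_singleton_iff.mp hx)
    · exact Subgroup.mem_centralizer_singleton_iff.mpr (H66.ZS.central hC hs hx).symm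
  have hset : Nat.card {x : G // orderOf x = 2} = (Subgroup.centralizer ({s} : Set G)).index := by
    rw [← H31.card_isConj]
    refine Nat.card_congr (Equiv.subtypeEquivRight fun x => ⟨fun hx => hconj s x hso hx, ?_⟩)
    intro hx
    obtain ⟨g, rfl⟩ := isConj_iff.1 hx
    rw [show g * s * g⁻¹ = MulAut.conj g s from rfl, MulEquiv.orderOf_eq, hso]
  have hD : Nat.card (H66.R1.twoPt G a v) = e := by
    show Nat.card ↥(MulAction.stabilizer G a ⊓ MulAction.stabilizer G (v • a)) = e
    rw [hva, he]
  have hG := H66.R1.card_group hS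
  have hU := Subgroup.card_mul_index U
  rw [hcent] at hset
  rw [hG, hD] at hU
  rw [Nat.card_eq_fintype_card (α := Ω), hh, he] at *
  have hhU : h = Nat.card U := by omega
  have hev : Even h := by
    rw [hhU, hcard, Nat.even_pow]
    exact ⟨hodd.add_one, two_ne_zero⟩
  rw [hset, if_pos hev, hhU]
  refine Nat.eq_of_mul_eq_mul_left (Nat.card_pos (α := U)) ?_
  rw [hU]
  ring

end Cfsg.Agent.S0882
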