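import Cfsg.Statements.S0883
import Cfsg.Agent.H66.ZassCorollaries

set_option autoImplicit false
open Cfsg

namespace Cfsg.Agent.S0883

/-- Let G be a finite simple Zassenhaus group on Ω with h + 1 points whose two-point stabilizer E has odd order e with 2e < h - 1, and let H be the subgroup of the stabilizer of a consisting of the identity and the elements fixing no point other than a (given here as a subgroup of the stabilizer of order one less than the number of points whose non-identity elements fix only a; it is the Frobenius kernel of the stabilizer). If a non-identity element u of H is a product of two involutions of G, then u is an involution. -/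
theorem result {G Ω : Type*} [Group G] [Finite G] [MulAction G Ω] [Fintype Ω] (hZ : Cfsg.IsZassenhausGroup G Ω) {a b : Ω} (hab : a ≠ b) [IsSimpleGroup G] (h e : ℕ) (hh : Fintype.card Ω = h + 1) (he : Nat.card ↥(MulAction.stabilizer G a ⊓ MulAction.stabilizer G b : Subgroup G) = e) (hodd : Odd e) (hlt : 2 * e < h - 1) (H : Subgroup G) (hHa : H ≤ MulAction.stabilizer G a) (hHcard : Nat.card H + 1 = Fintype.card Ω) (hHfix : ∀ u ∈ H, u ≠ 1 → ∀ c : Ω, u • c = c → c = a) (u : G) (hu : u ∈ H) (hu1 : u ≠ 1) (x y : G) (hx : orderOf x = 2) (hy : orderOf y = 2) (hxy : x * y = u) : orderOf u = 2 := by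
  rcases H66.Feit.odd_cases hZ hab (he ▸ hodd) with h1 | ⟨U, hUle, -, -, -, -, huniq, v, -, hC⟩
  · rw [Nat.card_eq_fintype_card (α := Ω), hh, he] at h1
    omega
  obtain rfl := huniq H hHa (by rw [Nat.card_eq_fintype_card (α := Ω)]; exact hHcard) hHfix
  have hS := hC.setup
  have hx2 := H66.mul_self_of_orderOf_two hx
  have hy2 := H66.mul_self_of_orderOf_two hy
  have hua : u • a = a := MulAction.mem_stabilizer_iff.mp (hUle hu)
  have hya : y = x * u := by rw [← hxy, ← mul_assoc, hx2, one_mul]
  have hxa : x • a = a := by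
    refine hHfix u hu hu1 _ ?_
    have e1 : u * x = x * u⁻¹ := by
      rw [← hxy, mul_inv_rev, H66.inv_eq_self_of_sq hx2, H66.inv_eq_self_of_sq hy2]; group
    rw [← mul_smul, e1, mul_smul, inv_smul_eq_iff.mpr hua.symm]
  have hx1 : x ≠ 1 := fun e' => by rw [e', orderOf_one] at hx; omega
  have hxQ := H66.R1.invol_mem_Q hS hxa hx2
  have hyQ : y ∈ H := by rw [hya]; exact mul_mem hxQ hu
  have hc := H66.ZS.central hC (s := x)
    ⟨MulAction.mem_stabilizer_iff.mpr hxa, by simpa using hx1, hx2⟩ hyQ
  refine orderOf_eq_prime ?_ hu1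
  rw [← hxy, pow_two]
  calc x * y * (x * y) = x * (y * x) * y := by group
    _ = (x * x) * (y * y) := by rw [← hc]; group
    _ = 1 := by rw [hx2, hy2, one_mul]

end Cfsg.Agent.S0883
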