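import Cfsg.Statements.S0884
import Cfsg.Agent.H66.ZassCorollaries

set_option autoImplicit false
open Cfsg

namespace Cfsg.Agent.S0884

/-- Let G be a finite simple Zassenhaus group on Ω with h + 1 points whose two-point stabilizer E has odd order e with 2e < h - 1, and let H be the subgroup of the stabilizer of a consisting of the identity and the elements fixing no point other than a (given here as a subgroup of the stabilizer of order one less than the number of points whose non-identity elements fix only a; it is the Frobenius kernel of the stabilizer). Then at least e conjugacy classes of G contain no element of H. -/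
theorem result {G Ω : Type*} [Group G] [Finite G] [MulAction G Ω] [Fintype Ω] (hZ : Cfsg.IsZassenhausGroup G Ω) {a b : Ω} (hab : a ≠ b) [IsSimpleGroup G] (h e : ℕ) (hh : Fintype.card Ω = h + 1) (he : Nat.card ↥(MulAction.stabilizer G a ⊓ MulAction.stabilizer G b : Subgroup G) = e) (hodd : Odd e) (hlt : 2 * e < h - 1) (H : Subgroup G) (hHa : H ≤ MulAction.stabilizer G a) (hHcard : Nat.card H + 1 = Fintype.card Ω) (hHfix : ∀ u ∈ H, u ≠ 1 → ∀ c : Ω, u • c = c → c = a) : e ≤ Nat.card {C : ConjClasses G // ∀ g : G, ConjClasses.mk g = C → g ∉ H} := by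
  classical
  rcases H66.Feit.odd_cases hZ hab (he ▸ hodd) with h1 | ⟨U, hUle, hU2, -, -, -, huniq, v, hva, hC⟩
  · rw [Nat.card_eq_fintype_card (α := Ω), hh, he] at h1
    omega
  obtain rfl := huniq H hHa (by rw [Nat.card_eq_fintype_card (α := Ω)]; exact hHcard) hHfix
  have hS := hC.setup
  obtain ⟨s, hs⟩ := H66.R1.exists_invol hS
  have hD : Nat.card (H66.R1.twoPt G a v) = e := by
    show Nat.card ↥(MulAction.stabilizer G a ⊓ MulAction.stabilizer G (v • a)) = e
    rw [hva, he]
  let f : H66.R1.twoPt G a v → {C : ConjClasses G // ∀ g : G, ConjClasses.mk g = C → g ∉ H} :=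
    fun x => ⟨ConjClasses.mk ((x : G) * s * (x : G)⁻¹ * v), fun g hg hgH => by
      obtain ⟨k, hk⟩ := isConj_iff.1 (ConjClasses.mk_eq_mk_iff_isConj.1 hg.symm)
      have hy1 : (x : G) * s * (x : G)⁻¹ * v ≠ 1 := fun e' => H66.R1.ta_ne hS (by
        have e1 : (x : G) * s * (x : G)⁻¹ = v :=
          (eq_inv_of_mul_eq_one_left e').trans (H66.R1.t_inv hS)
        rw [← e1]
        exact MulAction.mem_stabilizer_iff.mp (H66.ZS.S_invol hC hs x.2).1)
      have ho : Odd (orderOf g) := by
        rw [← hk, ← MulAut.conj_apply, MulEquiv.orderOf_eq]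
        exact H66.odd_orderOf_of_mem_odd_card (H66.ZS.canon_centralizer hC hs x.2).1 _
          (Subgroup.mem_centralizer_singleton_iff.mpr rfl)
      obtain ⟨j, hj⟩ := hU2 ⟨g, hgH⟩
      obtain ⟨i, -, hi⟩ := (Nat.dvd_prime_pow Nat.prime_two).mp
        (orderOf_dvd_of_pow_eq_one (congrArg Subtype.val hj : g ^ 2 ^ j = 1))
      rcases i with _ | i
      · have hg1 : g = 1 := orderOf_eq_one_iff.mp (by simpa using hi)
        rw [hg1, conj_eq_one_iff] at hk
        exact hy1 hk
      · exact absurd (hi ▸ ⟨2 ^ i, by ring⟩ : Even (orderOf g)) (Nat.not_even_iff_odd.mpr ho)⟩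
  have hf : Function.Injective f := fun x x' hxx => by
    obtain ⟨g, hg⟩ := isConj_iff.1 (ConjClasses.mk_eq_mk_iff_isConj.1 (congrArg Subtype.val hxx))
    exact Subtype.ext (H66.ZS.canon_unique hC hs x.2 x'.2 hg)
  rw [← hD]
  exact Nat.card_le_card_of_injective f hf

end Cfsg.Agent.S0884
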