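import Cfsg.Statements.S0892
import Cfsg.Agent.H61.AltStemBig
import Cfsg.Agent.H61.AltStemSmall

set_option autoImplicit false
open Cfsg

namespace Cfsg.Agent.S0892

/-- Let n ≥ 4 with n ≠ 6 and n ≠ 7, and let Γ be a finite group with a subgroup Z contained in both the centre and the commutator subgroup of Γ such that Γ / Z is isomorphic to the alternating group on n letters. Then Z has order at most 2. -/
theorem result (n : ℕ) (hn : 4 ≤ n) (h6 : n ≠ 6) (h7 : n ≠ 7) {Γ : Type*} [Group Γ] [Finite Γ] (Z : Subgroup Γ) [Z.Normal] (hZc : Z ≤ Subgroup.center Γ) (hZd : Z ≤ commutator Γ) (e : Γ ⧸ Z ≃* alternatingGroup (Fin n)) : Nat.card Z ≤ 2 := by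
  classical
  let φ : Γ →* Equiv.Perm (Fin n) :=
    (alternatingGroup (Fin n)).subtype.comp (e.toMonoidHom.comp (QuotientGroup.mk' Z))
  have hker : φ.ker = Z := by
    ext g
    rw [MonoidHom.mem_ker, ← QuotientGroup.eq_one_iff]
    exact ⟨fun h => e.injective ((Subtype.ext h).trans (map_one e).symm),
      fun h => by simp [φ, h]⟩
  have hrange : φ.range = alternatingGroup (Fin n) := by
    refine le_antisymm (fun σ ⟨g, hg⟩ => hg ▸ (e (g : Γ ⧸ Z)).2) fun σ hσ => ?_
    obtain ⟨g, hg⟩ := QuotientGroup.mk'_surjective Z (e.symm ⟨σ, hσ⟩)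
    exact ⟨g, by simp only [φ, MonoidHom.comp_apply, hg]; simp⟩
  rw [← hker] at hZc hZd ⊢
  by_cases h8 : 8 ≤ n
  · obtain ⟨k, rfl⟩ : ∃ k, n = k + 8 := ⟨n - 8, by omega⟩
    exact H61.AltStem.card_kernel_le_two_of_large φ hrange hZc hZd
  have hcard : Nat.card φ.range * 2 = n.factorial := by
    haveI : Nontrivial (Fin n) := Fin.nontrivial_iff_two_le.2 (by omega)
    rw [hrange, mul_comm, two_mul_nat_card_alternatingGroup, Nat.card_perm, Nat.card_fin]
  have hn' : n = 4 ∨ n = 5 := by omega
  refine H61.AltStem.card_kernel_le_two_of_small φ hZc hZd ?_ ?_ ?_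
  · intro p hp hp2 hdvd
    have hd : p ^ 2 ∣ 60 := by
      rcases hn' with rfl | rfl <;> simp only [Nat.factorial] at hcard
      · exact hdvd.trans ⟨5, by rw [show Nat.card φ.range = 12 by omega]; norm_num⟩
      · exact hdvd.trans ⟨1, by rw [show Nat.card φ.range = 60 by omega]; norm_num⟩
    have hle : p ^ 2 ≤ 60 := Nat.le_of_dvd (by norm_num) hd
    have : p ≤ 7 := by nlinarith
    interval_cases p <;> first | omega | (norm_num at hp) | (norm_num at hd)
  · intro hdvd
    rcases hn' with rfl | rfl <;> simp only [Nat.factorial] at hcard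
    · rw [show Nat.card φ.range = 12 by omega] at hdvd; norm_num at hdvd
    · rw [show Nat.card φ.range = 60 by omega] at hdvd; norm_num at hdvd
  · intro q hq h4
    rw [hrange, Equiv.Perm.mem_alternatingGroup] at hq
    rcases hn' with rfl | rfl
    · revert q; decide +kernel
    · revert q; decide +kernel

end Cfsg.Agent.S0892
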