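import Cfsg.Statements.S0897
import Cfsg.Agent.H15.ExtendCentralSylow
import Cfsg.Agent.H16.Inner

set_option autoImplicit false
open Cfsg

namespace Cfsg.Agent.S0897

/-- Let N be a normal subgroup of the finite group G with the index of N a power of the prime p, and P a Sylow p-subgroup of G such that P ⊓ N lies in the centre of P and every character of degree 1 of P ⊓ N is the restriction of a character of degree 1 of P. Then every irreducible character of N invariant under conjugation by G is the restriction of an irreducible character of G. -/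
theorem result {G : Type*} [Group G] [Fintype G] (p : ℕ) [Fact p.Prime] (N : Subgroup G) [hN : N.Normal] (hind : ∃ k : ℕ, N.index = p ^ k) (P : Sylow p G) (hcent : ∀ x ∈ (P : Subgroup G) ⊓ N, ∀ y ∈ (P : Subgroup G), x * y = y * x) (hlin : ∀ lam : ↥((P : Subgroup G) ⊓ N) → ℂ, Cfsg.IsCharacter ↥((P : Subgroup G) ⊓ N) lam → lam 1 = 1 → ∃ μ : ↥(P : Subgroup G) → ℂ, Cfsg.IsCharacter ↥(P : Subgroup G) μ ∧ μ 1 = 1 ∧ ∀ x : ↥((P : Subgroup G) ⊓ N), μ ⟨(x : G), x.2.1⟩ = lam x) (ϑ : N → ℂ) (hϑ : Cfsg.IsIrrCharacter N ϑ) (hinv : ∀ (g : G) (n : N), ϑ ⟨g * n * g⁻¹, hN.conj_mem (n : G) n.2 g⟩ = ϑ n) : ∃ χ : G → ℂ, Cfsg.IsIrrCharacter G χ ∧ ∀ n : N, χ n = ϑ n := by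
  classical
  haveI := Fintype.ofFinite N
  have hp : p.Prime := Fact.out
  have htw : ∀ g : G, H13.twist N g ϑ = ϑ := fun g => funext fun n => hinv g n
  obtain ⟨E, hF, φ, hE, htop, hφ, -, m, hm, hin⟩ := H15.dade_good N p hp hind hϑ htw
  obtain ⟨ψ, hψ⟩ := H15.exists_linear_extension p N hind P hcent hlin E hE hφ
  set I := indFun E fun e => (ψ e : ℂ) with hI
  have hIc : IsCharacter G I := H12.IsCharacter.indFun (H12.isCharacter_monoidHom ψ)
  have hIm : classInner (fun n : N => I n) ϑ = (m : ℂ) := by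
    rw [hI, H15.inner_res_indFun_supplement N E (by rw [sup_comm]; exact htop)
      (H12.IsCharacter.isClassFunction (H12.isCharacter_monoidHom ψ)) htw,
      show (fun l : ↥(E ⊓ N) => (ψ ⟨l, l.2.1⟩ : ℂ)) = φ from funext hψ]
    rw [H16.ci_symm]
    refine (congrArg (starRingEnd ℂ) hin).trans ?_
    exact Complex.conj_natCast m
  obtain ⟨c, hc⟩ := H12.IsCharacter.exists_mult hIc
  choose e he using fun χ : IrrCharacter G => H12.IsCharacter.classInner_nat
    (H12.IsCharacter.res (H12.isCharacter_irr χ) N) (H12.isCharacter_of_isIrrCharacter hϑ)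
  have hsum : m = ∑ χ, c χ * e χ := by
    have h : (m : ℂ) = ((∑ χ, c χ * e χ : ℕ) : ℂ) := by
      rw [← hIm, hc]
      simp only [Finset.sum_apply, Pi.smul_apply, smul_eq_mul]
      rw [show (fun n : N => ∑ χ : IrrCharacter G, (c χ : ℂ) * (χ : G → ℂ) n) =
        ∑ χ : IrrCharacter G, (c χ : ℂ) • fun n : N => (χ : G → ℂ) n by funext n; simp,
        H16.ci_sum_left]
      push_cast
      exact Finset.sum_congr rfl fun χ _ => by rw [H16.ci_smul_left, he]
    exact_mod_cast h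
  obtain ⟨χ, -, hχ⟩ : ∃ χ ∈ Finset.univ, ¬ p ∣ c χ * e χ := by
    by_contra hall
    push Not at hall
    exact hm (hsum ▸ Finset.dvd_sum hall)
  have hpe : ¬ p ∣ e χ := fun h => hχ (dvd_mul_of_dvd_right h _)
  have he0 : e χ ≠ 0 := fun h => hpe (h ▸ dvd_zero p)
  have hcl := H13.clifford_res N χ.2 hϑ (by rw [he]; exact_mod_cast he0) {⟨ϑ, hϑ⟩} (fun φ' => by
    rw [Finset.mem_singleton]
    constructor
    · rintro rfl; exact ⟨1, htw 1⟩
    · rintro ⟨g, hg⟩; exact Subtype.ext (hg.symm.trans (htw g)))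
  rw [Finset.sum_singleton, he] at hcl
  obtain ⟨r, hr⟩ := hind
  obtain ⟨j, -, hj⟩ := (Nat.dvd_prime_pow hp).mp
    (hr ▸ H15.ramification_dvd_index χ.2 hϑ htw (e χ) he0 hcl)
  rcases Nat.eq_zero_or_pos j with hj0 | hj0
  · refine ⟨χ, χ.2, fun n => ?_⟩
    have := congrFun hcl n
    rw [hj, hj0, pow_zero, Nat.cast_one, one_smul] at this
    exact this
  · exact absurd (hj ▸ dvd_pow_self p hj0.ne') hpe

end Cfsg.Agent.S0897
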