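import Cfsg.Statements.S0903
import Cfsg.Agent.H20.GroupAlg

set_option autoImplicit false
open Cfsg

namespace Cfsg.Agent.S0903

/-- Let P be a p-subgroup of the finite group G, let c centralize P and let g, h ∈ G. The number of pairs (x, y) with x conjugate to g, y conjugate to h and x * y = c is congruent modulo p to the number of such pairs in which x and y both centralize P. (This is why the Brauer map on class sums is multiplicative.) -/
theorem result {G : Type*} [Group G] [Finite G] (p : ℕ) [Fact p.Prime] (P : Subgroup G) (hP : IsPGroup p P) (c : G) (hc : c ∈ Subgroup.centralizer (P : Set G)) (g h : G) : Nat.card {xy : G × G // IsConj g xy.1 ∧ IsConj h xy.2 ∧ xy.1 * xy.2 = c} ≡ Nat.card {xy : G × G // IsConj g xy.1 ∧ IsConj h xy.2 ∧ xy.1 * xy.2 = c ∧ xy.1 ∈ Subgroup.centralizer (P : Set G) ∧ xy.2 ∈ Subgroup.centralizer (P : Set G)} [MOD p] := by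
  classical
  let C := Subgroup.centralizer (P : Set G)
  let T := {xy : G × G // IsConj g xy.1 ∧ IsConj h xy.2 ∧ xy.1 * xy.2 = c}
  have hconj : ∀ (u : P) (x : G), IsConj x ((u : G) * x * (u : G)⁻¹) := fun u x =>
    isConj_iff.2 ⟨u, rfl⟩
  have hcu : ∀ u : P, (u : G) * c * (u : G)⁻¹ = c := fun u => by
    rw [mul_inv_eq_iff_eq_mul]; exact hc u u.2
  letI : MulAction P T :=
    { smul := fun u t => ⟨((u : G) * t.1.1 * (u : G)⁻¹, (u : G) * t.1.2 * (u : G)⁻¹),
        t.2.1.trans (hconj u _), t.2.2.1.trans (hconj u _), by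
          conv_rhs => rw [← hcu u, ← t.2.2.2]
          group⟩
      one_smul := fun t => Subtype.ext (by
        show ((((1 : P) : G) * _ * _, _) : G × G) = _
        simp)
      mul_smul := fun u v t => Subtype.ext (by
        show ((((u * v : P) : G) * _ * _, _) : G × G) = ((u : G) * (_ * _ * _) * _, (u : G) * (_ * _ * _) * _)
        simp [mul_assoc]) }
  refine (hP.card_modEq_card_fixedPoints T).trans (congrArg (· % p) (Nat.card_congr ?_))
  refine Equiv.trans ?_ ((Equiv.subtypeSubtypeEquivSubtypeInter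
    (fun xy : G × G => IsConj g xy.1 ∧ IsConj h xy.2 ∧ xy.1 * xy.2 = c)
    (fun xy : G × G => xy.1 ∈ C ∧ xy.2 ∈ C)).trans
    (Equiv.subtypeEquivRight fun xy => by simp [C, and_assoc]))
  refine Equiv.subtypeEquivRight fun t => ?_
  show (∀ u : P, u • t = t) ↔ _
  constructor
  · intro H
    constructor <;> intro u hu <;> have h2 := congrArg Subtype.val (H ⟨u, hu⟩)
    · exact mul_inv_eq_iff_eq_mul.1 (congrArg Prod.fst h2)
    · exact mul_inv_eq_iff_eq_mul.1 (congrArg Prod.snd h2)
  · intro H u
    exact Subtype.ext (Prod.ext (mul_inv_eq_iff_eq_mul.2 (H.1 u u.2))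
      (mul_inv_eq_iff_eq_mul.2 (H.2 u u.2)))

end Cfsg.Agent.S0903
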