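import Cfsg.Statements.S0905
import Cfsg.Agent.H20.GroupAlg
import Cfsg.Agent.H1.Cores
import Mathlib.Algebra.BigOperators.Finprod

set_option autoImplicit false
open Cfsg

namespace Cfsg.Agent.S0905

/-- Let F be a field of characteristic p and let g be an element of the finite group G no conjugate of which centralizes O_p(G). Then the class sum of g is a nilpotent element of the group algebra F[G]. -/
theorem result {G : Type*} [Group G] [Finite G] (p : ℕ) [Fact p.Prime] (F : Type*) [Field F] [CharP F p] (g : G) (hg : ∀ x : G, IsConj g x → x ∉ Subgroup.centralizer (Cfsg.pCore p G : Set G)) : IsNilpotent (∑ᶠ x ∈ ConjClasses.carrier (ConjClasses.mk g), MonoidAlgebra.single x (1 : F) : MonoidAlgebra F G) := by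
  classical
  haveI := Fintype.ofFinite G
  set P := Cfsg.pCore p G with hPdef
  haveI : P.Normal := H1.pCore_normal' p G
  have hP : IsPGroup p P := H1.isPGroup_pCore p G
  set a : MonoidAlgebra F G := H20.ofFun fun x => if IsConj g x then 1 else 0 with ha
  have haeq : (∑ᶠ x ∈ ConjClasses.carrier (ConjClasses.mk g), MonoidAlgebra.single x (1 : F) :
      MonoidAlgebra F G) = a := by
    rw [finsum_mem_eq_toFinset_sum]
    ext y
    simp only [MonoidAlgebra.coeff_sum, Finsupp.coe_finset_sum, Finset.sum_apply,
      MonoidAlgebra.coeff_single, Finsupp.single_apply, Finset.sum_ite_eq', Set.mem_toFinset,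
      ConjClasses.mem_carrier_iff_mk_eq, ha, H20.coeff_ofFun]
    exact if_congr (ConjClasses.mk_eq_mk_iff_isConj.trans isConj_comm) rfl rfl
  rw [haeq]
  refine H20.isNilpotent_of_mapDomain_eq_zero (p := p) hP ?_
  ext q
  simp only [MonoidAlgebra.mapDomainRingHom_apply, MonoidAlgebra.coeff_mapDomain,
    MonoidAlgebra.coeff_zero, Finsupp.coe_zero, Pi.zero_apply, Finsupp.mapDomain]
  rw [Finsupp.sum_fintype _ _ (fun _ => by simp)]
  simp only [Finsupp.coe_finset_sum, Finset.sum_apply, Finsupp.single_apply]
  letI : MulAction P G := MulAction.compHom G (MulAut.conj.comp P.subtype)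
  have hsmul : ∀ (u : P) (x : G), u • x = u * x * (u : G)⁻¹ := fun u x => rfl
  have hmk : ∀ (u : P) (x : G), (QuotientGroup.mk' P) (u • x) = (QuotientGroup.mk' P) x := by
    intro u x
    rw [hsmul, map_mul, map_mul, map_inv,
      show (QuotientGroup.mk' P) (u : G) = 1 from (QuotientGroup.eq_one_iff _).2 u.2]
    group
  rw [H20.sum_eq_sum_fixedPoints hP (fun r : F => by rw [nsmul_eq_mul, CharP.cast_eq_zero F p,
    zero_mul])]
  · refine Finset.sum_eq_zero fun x hx => ?_
    have hxC : x ∈ Subgroup.centralizer (P : Set G) := by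
      intro u hu
      have h := (Finset.mem_filter.1 hx).2 ⟨u, hu⟩
      rw [hsmul, mul_inv_eq_iff_eq_mul] at h
      exact h
    have : ¬ IsConj g x := fun h => hg x h hxC
    simp [ha, this, -isConj_iff]
  · intro u x
    have hc : IsConj g (u • x) ↔ IsConj g x := by
      have : IsConj x (u • x) := isConj_iff.2 ⟨u, (hsmul u x).symm⟩
      exact ⟨fun h => h.trans this.symm, fun h => h.trans this⟩
    simp [ha, hc, hmk, -isConj_iff]

end Cfsg.Agent.S0905
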