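import Cfsg.Statements.S0911
import Cfsg.Agent.H20.Defect

set_option autoImplicit false
open Cfsg

namespace Cfsg.Agent.S0911

/-- The min–max Theorem for defect classes. Let B be a block of the finite group G relative to a maximal ideal M of the algebraic integers containing the prime p, let g represent a defect class of B and let D be a Sylow p-subgroup of the centralizer of g (viewed in G). For any h: (a) if the idempotent coefficient of B at h is a local integer outside the local ideal, then some conjugate of D contains a Sylow p-subgroup of the centralizer of h; (b) if the central character of some member of B at h is outside the local ideal, then some conjugate of D is contained in a Sylow p-subgroup of the centralizer of h. -/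
theorem result {G : Type*} [Group G] [Finite G] (p : ℕ) [Fact p.Prime] (M : Ideal Cfsg.AlgInt) (hM : Cfsg.IsPModular p M) (B : Set (Cfsg.IrrCharacter G)) (hB : Cfsg.IsPBlock M B) (g : G) (hg : Cfsg.IsDefectClass M B g) (D : Sylow p (Subgroup.centralizer ({g} : Set G))) (h : G) : (Cfsg.MemLocalRing M (Cfsg.blockCoeff B h) → ¬ Cfsg.MemLocalIdeal M (Cfsg.blockCoeff B h) → ∃ (x : G) (Q : Sylow p (Subgroup.centralizer ({h} : Set G))), (Q : Subgroup (Subgroup.centralizer ({h} : Set G))).map (Subgroup.centralizer ({h} : Set G)).subtype ≤ ((D : Subgroup (Subgroup.centralizer ({g} : Set G))).map (Subgroup.centralizer ({g} : Set G)).subtype).map (MulAut.conj x).toMonoidHom) ∧ ((∃ χ ∈ B, ¬ Cfsg.MemLocalIdeal M (Cfsg.centralChar (χ : G → ℂ) h)) → ∃ (x : G) (Q : Sylow p (Subgroup.centralizer ({h} : Set G))), ((D : Subgroup (Subgroup.centralizer ({g} : Set G))).map (Subgroup.centralizer ({g} : Set G)).subtype).map (MulAut.conj x).toMonoidHom ≤ (Q : Subgroup (Subgroup.centralizer ({h} : Set G))).map (Subgroup.centralizer ({h} : Set G)).subtype)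 := by
  haveI := H20.isPrime_of_modular hM
  haveI := Fintype.ofFinite G
  set D' := (D : Subgroup (Subgroup.centralizer ({g} : Set G))).map
    (Subgroup.centralizer ({g} : Set G)).subtype with hD'
  have hDS : H20.IsSylC p g D' := ⟨D, rfl⟩
  have hdef : Cfsg.IsDefectGroup p M B D' := ⟨g, hg, D, rfl⟩
  constructor
  · intro hr hni
    obtain ⟨Q, hQ⟩ := H20.exists_isSylC p h
    have he : (H20.eRed M B).coeff h ≠ 0 := by
      rw [H20.coeff_eRed, Ne, H20.redC_eq_zero_iff hr]; exact hni
    obtain ⟨x, hx⟩ := H20.sylC_le_defectGroup hM hB hdef he hQ.isPGroup hQ.mem_centralizer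
    obtain ⟨S, rfl⟩ := hQ
    exact ⟨x, S, hx⟩
  · rintro ⟨χ, hχ, hl⟩
    have hl' : H20.lam M χ (H20.clSum (H20.k M) h) ≠ 0 := by
      rw [H20.lam_clSum, Ne, H20.redC_eq_zero_iff (H20.memRing_centralChar χ h)]; exact hl
    obtain ⟨h', hc, hh'⟩ := H20.defectGroup_le_sylC hM hB hdef hχ hl'
    obtain ⟨c, hc'⟩ := isConj_iff.1 hc.symm
    have hm : h ∈ Subgroup.centralizer (H20.conjSub c D' : Set G) :=
      hc' ▸ H20.mem_centralizer_conjSub hh'
    obtain ⟨Q, hQ, hle⟩ := H20.exists_isSylC_ge (p := p) (hDS.isPGroup.map _) hm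
    obtain ⟨S, rfl⟩ := hQ
    exact ⟨c, S, hle⟩

end Cfsg.Agent.S0911
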