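import Cfsg.Statements.S0916
import Cfsg.Agent.H20.FirstMain

set_option autoImplicit false
open Cfsg

namespace Cfsg.Agent.S0916

/-- Let P be a p-subgroup of the finite group G, C its centralizer and N its normalizer. Say that a conjugacy class (of G, or of N) has defect group P when P is a Sylow p-subgroup of the centralizer (in G, respectively in N) of some element of the class. Then: (i) if the class of g in G has defect group P, the elements of that class lying in C form a single N-class, again with defect group P; (ii) every N-class with defect group P arises this way from exactly one G-class with defect group P. -/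
theorem result {G : Type*} [Group G] [Finite G] (p : ℕ) [Fact p.Prime] (P : Subgroup G) (hP : IsPGroup p P) : (∀ g : G, (∃ S : Sylow p (Subgroup.centralizer ({g} : Set G)), (S : Subgroup (Subgroup.centralizer ({g} : Set G))).map (Subgroup.centralizer ({g} : Set G)).subtype = P) → (∃ c : G, IsConj g c ∧ c ∈ Subgroup.centralizer (P : Set G)) ∧ (∀ c₁ c₂ : G, IsConj g c₁ → IsConj g c₂ → c₁ ∈ Subgroup.centralizer (P : Set G) → c₂ ∈ Subgroup.centralizer (P : Set G) → ∃ n ∈ Subgroup.normalizer (P : Set G), n * c₁ * n⁻¹ = c₂)) ∧ (∀ c : G, c ∈ Subgroup.centralizer (P : Set G) → (∃ S : Sylow p (Subgroup.centralizer ({c} : Set G) ⊓ Subgroup.normalizer (P : Set G) : Subgroup G), (S : Subgroup ↥(Subgroup.centralizer ({c} : Set G) ⊓ Subgroup.normalizer (P : Set G))).map (Subgroup.centralizer ({c} : Set G) ⊓ Subgroup.normalizer (P : Set G)).subtype = P) → ∃ S : Sylow p (Subgroup.centralizer ({c} : Set G)), (S : Subgroup (Subgroup.centralizer ({c} : Set G))).map (Subgroup.centralizer ({c} : Set G)).subtype = P) := by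
  classical
  refine ⟨fun g ⟨S, hS⟩ => ?_, fun c hc ⟨S, hS⟩ => ?_⟩
  · have hg : H20.IsSylC p g P := ⟨S, hS.symm⟩
    refine ⟨⟨g, IsConj.refl g, hg.mem_centralizer⟩, fun c₁ c₂ h1 h2 hc1 hc2 => ?_⟩
    have key : ∀ c, IsConj g c → c ∈ Subgroup.centralizer (P : Set G) → H20.IsSylC p c P := by
      intro c hgc hc
      obtain ⟨t, rfl⟩ := isConj_iff.1 hgc
      exact H20.isSylC_of_card hP hc (by rw [hg.card, H20.card_centralizer_conj])
    exact H20.exists_normalizer_conj (key c₁ h1 hc1) (key c₂ h2 hc2) (h1.symm.trans h2)
  · let N := Subgroup.normalizer (P : Set G)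
    have hcN : c ∈ N := Subgroup.mem_normalizer_iff.2 fun u =>
      ⟨fun hu => by rw [← hc u hu, mul_inv_cancel_right]; exact hu, fun hu => by
        have h2 := hc _ hu
        rw [inv_mul_cancel_right] at h2
        rwa [mul_left_cancel h2]⟩
    have e : Subgroup.centralizer ({(⟨c, hcN⟩ : N)} : Set N)
        ≃ (Subgroup.centralizer ({c} : Set G) ⊓ N : Subgroup G) :=
      { toFun := fun x => ⟨(x.1 : G), Subgroup.mem_centralizer_singleton_iff.2
          (congrArg Subtype.val (Subgroup.mem_centralizer_singleton_iff.1 x.2)), x.1.2⟩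
        invFun := fun y => ⟨⟨y.1, y.2.2⟩, Subgroup.mem_centralizer_singleton_iff.2
          (Subtype.ext (Subgroup.mem_centralizer_singleton_iff.1 y.2.1))⟩
        left_inv := fun _ => rfl
        right_inv := fun _ => rfl }
    have hcard : Nat.card P = p ^ (Nat.card (Subgroup.centralizer ({(⟨c, hcN⟩ : N)} : Set N))).factorization p := by
      rw [Nat.card_congr e, ← S.card_eq_multiplicity]
      conv_lhs => rw [← hS]
      exact Subgroup.card_map_of_injective
        (Subgroup.subtype_injective (Subgroup.centralizer ({c} : Set G) ⊓ N))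
    have hs : H20.IsSylC p (⟨c, hcN⟩ : N) (P.subgroupOf N) :=
      H20.isSylC_of_card (hP.comap_subtype : IsPGroup p (P.subgroupOf N))
        (fun u hu => Subtype.ext (hc u (Subgroup.mem_subgroupOf.1 hu)))
        ((Nat.card_congr (Subgroup.subgroupOfEquivOfLe Subgroup.le_normalizer).toEquiv).trans hcard)
    obtain ⟨T, hT⟩ := H20.isSylC_of_normalizer hP hs
    exact ⟨T, hT.symm⟩

end Cfsg.Agent.S0916
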