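import Cfsg.Statements.S0918
import Cfsg.Agent.H20.Induced

set_option autoImplicit false
open Cfsg

namespace Cfsg.Agent.S0918

/-- Let P be a p-subgroup of the finite group G and H a subgroup with P·C_G(P) ≤ H ≤ N_G(P); let b be a block of H and B a block of G relative to a maximal ideal M of the algebraic integers containing p. Then b induces B if and only if, for every g ∈ G, every ξ ∈ b and every χ ∈ B, the central character of χ at g is congruent modulo the local ideal at M to the sum of ξ h / ξ 1 over the elements h of H conjugate in G to g and centralizing P. -/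
theorem result {G : Type*} [Group G] [Finite G] (p : ℕ) [Fact p.Prime] (M : Ideal Cfsg.AlgInt) (hM : Cfsg.IsPModular p M) (P H : Subgroup G) (hP : IsPGroup p P) (hPH : P ≤ H) (hCH : Subgroup.centralizer (P : Set G) ≤ H) (hHN : H ≤ Subgroup.normalizer (P : Set G)) (b : Set (Cfsg.IrrCharacter H)) (hb : Cfsg.IsPBlock M b) (B : Set (Cfsg.IrrCharacter G)) (hB : Cfsg.IsPBlock M B) : Cfsg.IsInducedBlock M H b B ↔ ∀ ξ ∈ b, ∀ χ ∈ B, ∀ g : G, Cfsg.MemLocalIdeal M (Cfsg.brauerCentralChar P H (ξ : H → ℂ) g - Cfsg.centralChar (χ : G → ℂ) g) := by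
  haveI := H20.isPrime_of_modular hM
  haveI := Fintype.ofFinite G
  haveI := Fintype.ofFinite H
  classical
  have hbr : ∀ (ξ : Cfsg.IrrCharacter H) (g : G),
      Cfsg.brauerCentralChar P H (ξ : H → ℂ) g
        = H20.omega (ξ : H → ℂ) (H20.resAlg H (H20.br P (H20.clSum ℂ g))) := by
    intro ξ g
    rw [Cfsg.brauerCentralChar, H20.omega, Finset.sum_div, H20.finsum_mem_eq_sum_ite
      {h : H | IsConj g (h : G) ∧ (h : G) ∈ Subgroup.centralizer (P : Set G)}]
    refine Finset.sum_congr rfl fun h _ => ?_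
    rw [H20.coeff_resAlg]
    by_cases hc : (h : G) ∈ Subgroup.centralizer (P : Set G)
    · rw [H20.coeff_br_of_mem _ hc, H20.coeff_clSum]
      by_cases hg : IsConj g (h : G) <;> simp [hg, hc, -isConj_iff]
    · rw [H20.coeff_br_of_notMem _ hc]
      simp [hc]
  have hred : ∀ (ξ : Cfsg.IrrCharacter H) (g : G),
      Cfsg.MemLocalRing M (Cfsg.brauerCentralChar P H (ξ : H → ℂ) g) ∧
      H20.redC M (Cfsg.brauerCentralChar P H (ξ : H → ℂ) g)
        = H20.lam M ξ (H20.resAlg H (H20.clSum (H20.k M) g)) := by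
    intro ξ g
    have hcl : H20.IsCl (H20.resAlg H (H20.br P (H20.clSum (H20.O M) g))) := fun x c => by
      simp only [H20.coeff_resAlg, Subgroup.coe_mul, Subgroup.coe_inv]
      exact H20.br_isInv hHN ((H20.isCl_clSum _ g).isInv H) (x : G) (c : G) c.2
    have h1 : H20.emb (H20.resAlg H (H20.br P (H20.clSum (H20.O M) g)))
        = H20.resAlg H (H20.br P (H20.clSum ℂ g)) := by
      ext h
      simp [H20.coeff_resAlg, H20.br, H20.coeff_clSum, apply_ite (fun z : H20.O M => (z : ℂ))]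
    have h2 : H20.rd (H20.resAlg H (H20.br P (H20.clSum (H20.O M) g)))
        = H20.resAlg H (H20.br P (H20.clSum (H20.k M) g)) := by
      ext h
      simp [H20.coeff_resAlg, H20.br, H20.coeff_clSum, apply_ite (H20.red M)]
    rw [← H20.lam_res_br hM hP hPH hHN ξ (H20.isCl_clSum _ g), ← h2, H20.lam_rd ξ hcl, hbr, ← h1]
    exact ⟨H20.memRing_omega ξ hcl, rfl⟩
  constructor
  · intro h ξ hξ χ hχ g
    obtain ⟨h1, h2⟩ := hred ξ g
    rw [← H20.redC_eq_iff h1 (H20.memRing_centralChar χ g), h2, ← H20.lam_clSum]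
    exact ((H20.inducedBlock_iff H).1 h).2.2 ξ hξ χ hχ _ (H20.isCl_clSum _ g)
  · intro h
    refine (H20.inducedBlock_iff H).2 ⟨hb, hB, fun ξ hξ χ hχ a ha => ?_⟩
    refine H20.lam_res_ext H ξ χ (fun g => ?_) ha
    obtain ⟨h1, h2⟩ := hred ξ g
    rw [← h2, H20.lam_clSum, H20.redC_eq_iff h1 (H20.memRing_centralChar χ g)]
    exact h ξ hξ χ hχ g

end Cfsg.Agent.S0918
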