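import Cfsg.Statements.S0933
import Cfsg.Agent.H20.Induced

set_option autoImplicit false
open Cfsg

namespace Cfsg.Agent.S0933

/-- Let H be a subgroup of the finite group G and ξ an irreducible character of H such that the induced function ξ^G is an irreducible character of G. Then, relative to any maximal ideal M of the algebraic integers containing the prime p, the block of ξ induces the block of ξ^G. -/
theorem result {G : Type*} [Group G] [Fintype G] (p : ℕ) [Fact p.Prime] (M : Ideal Cfsg.AlgInt) (hM : Cfsg.IsPModular p M) (H : Subgroup G) (ξ : Cfsg.IrrCharacter H) (hind : Cfsg.IsIrrCharacter G (Cfsg.indFun H (ξ : H → ℂ))) : Cfsg.IsInducedBlock M H (Cfsg.blockOf M (ξ : H → ℂ)) (Cfsg.blockOf M (Cfsg.indFun H (ξ : H → ℂ))) := by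
  haveI := H20.isPrime_of_modular hM
  haveI := Fintype.ofFinite H
  let χ : Cfsg.IrrCharacter G := ⟨_, hind⟩
  have hB : Cfsg.IsPBlock M (Cfsg.blockOf M (χ : G → ℂ)) := H20.isPBlock_blockOf χ
  refine (H20.inducedBlock_iff H).2 ⟨H20.isPBlock_blockOf ξ, hB, fun η hη φ hφ a ha => ?_⟩
  rw [H20.lam_single_block_eq (H20.isPBlock_blockOf ξ) (H20.mem_blockOf_self ξ) η hη,
    H20.lam_single_block_eq hB (H20.mem_blockOf_self χ) φ hφ]
  refine H20.lam_res_ext H ξ χ (fun g => ?_) ha
  obtain ⟨-, h2⟩ := H20.redC_inducedCentralChar (M := M) H ξ g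
  rw [← h2, H20.inducedCentralChar_eq_centralChar_indFun, H20.lam_clSum]

end Cfsg.Agent.S0933
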