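import Cfsg.Statements.S0939
import Cfsg.Agent.H20.BlockNormal
import Cfsg.Agent.H1.Cores

set_option autoImplicit false
open Cfsg

namespace Cfsg.Agent.S0939

/-- Let G be a finite group with a normal p-complement (the largest normal subgroup O_p'(G) of order prime to p has p-power index). Then, relative to any maximal ideal M of the algebraic integers containing p, the principal block of G is the set of irreducible characters χ with χ n = χ 1 for every n ∈ O_p'(G). -/
theorem result {G : Type*} [Group G] [Finite G] (p : ℕ) [Fact p.Prime] (M : Ideal Cfsg.AlgInt) (hM : Cfsg.IsPModular p M) (hnc : ∃ k : ℕ, (Cfsg.pPrimeCore p G).index = p ^ k) : Cfsg.principalBlock M G = {χ : Cfsg.IrrCharacter G | ∀ n ∈ Cfsg.pPrimeCore p G, (χ : G → ℂ) n = (χ : G → ℂ) 1} := by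
  haveI := H20.isPrime_of_modular hM
  haveI := Fintype.ofFinite G
  haveI : (Cfsg.pPrimeCore p G).Normal := H1.pPrimeCore_normal' p G
  haveI := Fintype.ofFinite (Cfsg.pPrimeCore p G)
  have hN : ¬ p ∣ Nat.card (Cfsg.pPrimeCore p G) := fun hd =>
    hM.1.not_dvd_one (Nat.eq_one_of_dvd_coprimes (H1.card_pPrimeCore_coprime p G) hd dvd_rfl ▸ dvd_rfl)
  ext χ
  constructor
  · intro h
    exact H20.kernel_of_sameBlock hM _ hN (χ := H12.oneIrr G) h (fun n _ => rfl)
  · intro h
    have hc : ∀ φ : Cfsg.IrrCharacter G, (∀ n ∈ Cfsg.pPrimeCore p G, (φ : G → ℂ) n = (φ : G → ℂ) 1) →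
        H20.IsConstituent _ φ (H12.oneIrr (Cfsg.pPrimeCore p G)) := by
      intro φ hφ h0
      have h1 : (fun n : Cfsg.pPrimeCore p G => (φ : G → ℂ) n)
          = (φ : G → ℂ) 1 • (H12.oneIrr (Cfsg.pPrimeCore p G) : _ → ℂ) := by
        funext n
        simp [hφ n n.2, H12.oneIrr_apply]
      rw [h1, H12.classInner_smul_left, H12.classInner_irr_self, mul_one] at h0
      exact H12.irr_apply_one_ne_zero φ h0
    exact H20.sameBlock_of_constituent hM _ hnc (χ := H12.oneIrr G) (hc _ fun n _ => rfl) (hc χ h)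

end Cfsg.Agent.S0939
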