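import Cfsg.Statements.S0943
import Cfsg.Agent.H20.Omega

set_option autoImplicit false
open Cfsg

namespace Cfsg.Agent.S0943

/-- Let χ be an irreducible character of the finite group G and u, v ∈ G. If χ (x * y) = χ (u * v) whenever x is conjugate to u and y is conjugate to v, then χ u * χ v = χ 1 * χ (u * v). (Multiply the class sums of u and v and apply the central character of χ.) -/
theorem result {G : Type*} [Group G] [Finite G] (χ : Cfsg.IrrCharacter G) (u v : G) (hc : ∀ x y : G, IsConj u x → IsConj v y → (χ : G → ℂ) (x * y) = (χ : G → ℂ) (u * v)) : (χ : G → ℂ) u * (χ : G → ℂ) v = (χ : G → ℂ) 1 * (χ : G → ℂ) (u * v) := by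
  classical
  haveI := Fintype.ofFinite G
  have h := H20.omega_mul χ (H20.isCl_clSum ℂ u) (H20.clSum ℂ v)
  rw [H20.omega_clSum, H20.omega_clSum] at h
  have h2 : H20.omega (χ : G → ℂ) (H20.clSum ℂ u * H20.clSum ℂ v)
      = ((Subgroup.centralizer ({u} : Set G)).index : ℂ) *
        ((Subgroup.centralizer ({v} : Set G)).index : ℂ) * (χ : G → ℂ) (u * v) / (χ : G → ℂ) 1 := by
    rw [H20.omega]
    congr 1
    simp only [H20.coeff_mul_group, Finset.sum_mul, H20.coeff_clSum, ite_mul, one_mul, zero_mul,
      ← ite_and]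
    rw [Finset.sum_comm]
    have hx : ∀ x : G, ∑ z : G, (if IsConj u x ∧ IsConj v (x⁻¹ * z) then (χ : G → ℂ) z else 0)
        = if IsConj u x then ((Subgroup.centralizer ({v} : Set G)).index : ℂ) * (χ : G → ℂ) (u * v)
          else 0 := by
      intro x
      split_ifs with hu
      · simp only [hu, true_and]
        rw [← Equiv.sum_comp (Equiv.mulLeft x)]
        simp only [Equiv.coe_mulLeft, inv_mul_cancel_left, ← Finset.sum_filter]
        rw [Finset.sum_eq_card_nsmul (b := (χ : G → ℂ) (u * v))
          (fun y hy => hc x y hu (Finset.mem_filter.1 hy).2), nsmul_eq_mul,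
          H20.index_centralizer_eq_card_class, Nat.subtype_card]
        simp
      · simp [hu, -isConj_iff]
    simp only [hx]
    rw [← Finset.sum_filter, Finset.sum_const, nsmul_eq_mul, ← mul_assoc,
      H20.index_centralizer_eq_card_class u, Nat.subtype_card]
    simp
  rw [h2] at h
  have h1 := H12.irr_apply_one_ne_zero χ
  have hu0 : ((Subgroup.centralizer ({u} : Set G)).index : ℂ) ≠ 0 :=
    Nat.cast_ne_zero.2 Subgroup.index_ne_zero_of_finite
  have hv0 : ((Subgroup.centralizer ({v} : Set G)).index : ℂ) ≠ 0 :=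
    Nat.cast_ne_zero.2 Subgroup.index_ne_zero_of_finite
  unfold Cfsg.centralChar at h
  field_simp at h
  linear_combination -h

end Cfsg.Agent.S0943
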