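import Cfsg.Statements.S0950
import Cfsg.Agent.H85.QuatEightSylow

set_option autoImplicit false
open Cfsg

namespace Cfsg.Agent.S0950

/-- Let S be a Sylow 2-subgroup of the finite group G that is isomorphic to the quaternion group of order 8, and suppose S has no normal complement in G. Then any two subgroups of order 4 of S are conjugate by an element of the normalizer of S. -/
theorem result {G : Type*} [Group G] [Finite G] (S : Sylow 2 G) (e : (S : Subgroup G) ≃* QuaternionGroup 2) (hnc : ∀ N : Subgroup G, N.Normal → ¬ Subgroup.IsComplement' N (S : Subgroup G)) (A B : Subgroup G) (hA : A ≤ S) (hB : B ≤ S) (hA4 : Nat.card A = 4) (hB4 : Nat.card B = 4) : ∃ n ∈ Subgroup.normalizer ((S : Subgroup G) : Set G), B = A.map (MulAut.conj n).toMonoidHom := by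
  have hnc' : ¬ Cfsg.HasNormalPComplement 2 G := by
    rintro ⟨T, N, hN, hNT⟩
    refine hnc N hN ?_
    haveI : Fact (Nat.Prime 2) := ⟨Nat.prime_two⟩
    have hcard : Nat.card T = Nat.card S := Nat.card_congr (Sylow.equiv T S).toEquiv
    have h2 := hNT.card_mul_card
    rw [hcard] at h2
    refine Subgroup.isComplement'_of_coprime h2 ?_
    obtain ⟨k, hk⟩ := IsPGroup.iff_card.1 S.2
    rw [hk]
    refine Nat.Coprime.pow_right k (Nat.coprime_two_right.2 (Nat.odd_iff.2
      (Nat.two_dvd_ne_zero.1 fun hdvd => T.not_dvd_index ?_)))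
    have h3 := (T : Subgroup G).card_mul_index
    rw [← hNT.card_mul_card, mul_comm (Nat.card T)] at h3
    rwa [Nat.eq_of_mul_eq_mul_right Nat.card_pos h3]
  have hq : ∀ a b : QuaternionGroup 2, a ≠ 1 → a * a = 1 → b ≠ 1 → b * b = 1 → a = b := by
    decide +kernel
  have hgen : ∀ C : Subgroup G, C ≤ S → Nat.card C = 4 →
      ∃ c ∈ C, c * c ≠ 1 ∧ C = Subgroup.zpowers c := by
    intro C hC hC4
    obtain ⟨c, hc, hc2⟩ : ∃ c ∈ C, c * c ≠ 1 := by
      by_contra hcon
      push Not at hcon
      let f : C → Bool := fun c => decide (e ⟨c, hC c.2⟩ = 1)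
      have hf : Function.Injective f := by
        intro c d hcd
        have hsq : ∀ c : C, e ⟨c, hC c.2⟩ * e ⟨c, hC c.2⟩ = 1 := fun c => by
          rw [← map_mul, MulEquiv.map_eq_one_iff]
          exact Subtype.ext (hcon c c.2)
        have heq : e ⟨c, hC c.2⟩ = e ⟨d, hC d.2⟩ := by
          by_cases h : e ⟨c, hC c.2⟩ = 1 <;> by_cases h' : e ⟨d, hC d.2⟩ = 1
          · rw [h, h']
          · simp [f, h, h'] at hcd
          · simp [f, h, h'] at hcd
          · exact hq _ _ h (hsq c) h' (hsq d)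
        exact Subtype.ext (congrArg (fun w : (S : Subgroup G) => (w : G)) (e.injective heq))
      have := Nat.card_le_card_of_injective f hf
      simp [hC4] at this
    refine ⟨c, hc, hc2, (Subgroup.eq_of_le_of_card_ge (Subgroup.zpowers_le.2 hc) ?_).symm⟩
    rw [hC4, Nat.card_zpowers]
    have hdvd : orderOf c ∣ 4 := hC4 ▸ Subgroup.orderOf_dvd_natCard C hc
    by_contra hlt
    have hle := Nat.le_of_dvd (by norm_num) hdvd
    have hdvd2 : orderOf c ∣ 2 := by
      interval_cases h : orderOf c <;> omega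
    exact hc2 (by rw [← pow_two]; exact orderOf_dvd_iff_pow_eq_one.1 hdvd2)
  obtain ⟨a, ha, ha2, rfl⟩ := hgen A hA hA4
  obtain ⟨b, hb, hb2, rfl⟩ := hgen B hB hB4
  obtain ⟨n, hn, rfl⟩ := H85.exists_conj_q8 S e hnc' (hA ha) (hB hb) ha2 hb2
  exact ⟨n, hn, by rw [MonoidHom.map_zpowers]; rfl⟩

end Cfsg.Agent.S0950
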