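import Cfsg.Statements.S0953
import Cfsg.Agent.H20.FirstMain

set_option autoImplicit false
open Cfsg

namespace Cfsg.Agent.S0953

/-- Let P be a Sylow p-subgroup of the finite group G with normalizer N, and fix a maximal ideal M of the algebraic integers containing p. The number of blocks of G having P as a defect group equals the number of conjugacy classes of N consisting of elements of order prime to p that centralize P. -/
theorem result {G : Type*} [Group G] [Finite G] (p : ℕ) [Fact p.Prime] (M : Ideal Cfsg.AlgInt) (hM : Cfsg.IsPModular p M) (P : Sylow p G) : Nat.card {B : Set (Cfsg.IrrCharacter G) // Cfsg.IsPBlock M B ∧ Cfsg.IsDefectGroup p M B (P : Subgroup G)} = Nat.card {C : ConjClasses (Subgroup.normalizer ((P : Subgroup G) : Set G)) // ∀ n : Subgroup.normalizer ((P : Subgroup G) : Set G), ConjClasses.mk n = C → ¬ p ∣ orderOf n ∧ (n : G) ∈ Subgroup.centralizer ((P : Subgroup G) : Set G)} := by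
  haveI := H20.isPrime_of_modular hM
  haveI := Fintype.ofFinite G
  set N := Subgroup.normalizer ((P : Subgroup G) : Set G) with hNdef
  haveI := Fintype.ofFinite N
  have hPN : (P : Subgroup G) ≤ N := Subgroup.le_normalizer
  let P' : Sylow p N := P.subtype hPN
  haveI : (P' : Subgroup N).Normal :=
    (Subgroup.normal_subgroupOf_iff_le_normalizer hPN).2 le_rfl
  have hall : ∀ b : Set (Cfsg.IrrCharacter N), Cfsg.IsPBlock M b →
      Cfsg.IsDefectGroup p M b ((P : Subgroup G).subgroupOf N) := by
    intro b hb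
    obtain ⟨Q, hQ⟩ := H20.exists_defectGroup hM hb
    have hle := H20.normal_le_defectGroup hM hb (Q := (P' : Subgroup N)) P'.2 hQ
    have heq : Q = ((P : Subgroup G).subgroupOf N) :=
      P'.is_maximal' (H20.IsDefectGroup.isPGroup hQ) hle
    rw [← heq]
    exact hQ
  have hfm : ∀ b : {b : Set (Cfsg.IrrCharacter N) // Cfsg.IsPBlock M b},
      ∃ B : Set (Cfsg.IrrCharacter G), Cfsg.IsPBlock M B ∧
        Cfsg.IsDefectGroup p M B (P : Subgroup G) ∧ Cfsg.IsInducedBlock M N b.1 B :=
    fun b => H20.first_main_left hM P.2 b.2 (hall _ b.2)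
  choose F hF1 hF2 hF3 using hfm
  have hbij : Function.Bijective (fun b => (⟨F b, hF1 b, hF2 b⟩ :
      {B : Set (Cfsg.IrrCharacter G) // Cfsg.IsPBlock M B ∧
        Cfsg.IsDefectGroup p M B (P : Subgroup G)})) := by
    constructor
    · intro b b' h
      have h' : F b = F b' := congrArg Subtype.val h
      exact Subtype.ext (H20.first_main_unique hM P.2 (hall _ b.2) (hF3 b) (h' ▸ hF3 b'))
    · rintro ⟨B, hB, hBD⟩
      obtain ⟨b, hb, -, hind⟩ := H20.first_main_exists hM P.2 hB hBD
      exact ⟨⟨b, hb⟩, Subtype.ext (H20.inducedBlock_unique N (hF3 ⟨b, hb⟩) hind)⟩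
  rw [← Nat.card_eq_of_bijective _ hbij, H20.card_blocks_normal_sylow hM P']
  refine Nat.card_congr (Equiv.subtypeEquivRight fun C => forall_congr' fun n => ?_)
  refine imp_congr_right fun _ => and_congr_right fun _ => ?_
  refine ⟨fun h u hu => ?_, fun h u hu => Subtype.ext (h u hu)⟩
  exact congrArg Subtype.val (h ⟨u, hPN hu⟩ hu)

end Cfsg.Agent.S0953
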