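import Cfsg.Statements.S0955
import Cfsg.Agent.H20.FirstMain
import Cfsg.Agent.H1.Cores

set_option autoImplicit false
open Cfsg

namespace Cfsg.Agent.S0955

/-- Let D be a defect group of a block of the finite group G relative to a maximal ideal M of the algebraic integers containing the prime p. Then D is the largest normal p-subgroup of its own normalizer: O_p(N_G(D)) = D. -/
theorem result {G : Type*} [Group G] [Finite G] (p : ℕ) [Fact p.Prime] (M : Ideal Cfsg.AlgInt) (hM : Cfsg.IsPModular p M) (B : Set (Cfsg.IrrCharacter G)) (hB : Cfsg.IsPBlock M B) (D : Subgroup G) (hD : Cfsg.IsDefectGroup p M B D) : (Cfsg.pCore p (Subgroup.normalizer (D : Set G))).map (Subgroup.normalizer (D : Set G)).subtype = D := by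
  haveI := H20.isPrime_of_modular hM
  haveI := Fintype.ofFinite G
  haveI := Fintype.ofFinite (Subgroup.normalizer (D : Set G))
  have hDp := H20.IsDefectGroup.isPGroup hD
  set N := Subgroup.normalizer (D : Set G)
  obtain ⟨b, hb, hbD, -⟩ := H20.first_main_exists hM hDp hB hD
  haveI : (Cfsg.pCore p N).Normal := H1.pCore_normal' p N
  haveI : (D.subgroupOf N).Normal :=
    (Subgroup.normal_subgroupOf_iff_le_normalizer Subgroup.le_normalizer).2 le_rfl
  have h1 : Cfsg.pCore p N ≤ D.subgroupOf N :=
    H20.normal_le_defectGroup hM hb (H1.isPGroup_pCore p N) hbD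
  have h2 : D.subgroupOf N ≤ Cfsg.pCore p N := H1.le_pCore hDp.comap_subtype
  rw [le_antisymm h1 h2, Subgroup.subgroupOf_map_subtype, inf_eq_left.2 Subgroup.le_normalizer]

end Cfsg.Agent.S0955
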