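import Cfsg.Statements.S0958
import Cfsg.Agent.H21.BrauerInduced

set_option autoImplicit false
open Cfsg

namespace Cfsg.Agent.S0958

/-- Let P be a p-subgroup of the finite group G and H a subgroup with P ⊔ C_G(P) ≤ H ≤ N_G(P); fix a maximal ideal M of the algebraic integers containing p. Then a block B of G is induced by some block of H if and only if some conjugate of P is contained in a defect group of B. -/
theorem result {G : Type*} [Group G] [Finite G] (p : ℕ) [Fact p.Prime] (M : Ideal Cfsg.AlgInt) (hM : Cfsg.IsPModular p M) (P H : Subgroup G) (hP : IsPGroup p P) (hPH : P ⊔ Subgroup.centralizer (P : Set G) ≤ H) (hHN : H ≤ Subgroup.normalizer (P : Set G)) (B : Set (Cfsg.IrrCharacter G)) (hB : Cfsg.IsPBlock M B) : (∃ b : Set (Cfsg.IrrCharacter H), Cfsg.IsInducedBlock M H b B) ↔ ∃ D : Subgroup G, Cfsg.IsDefectGroup p M B D ∧ ∃ x : G, P.map (MulAut.conj x).toMonoidHom ≤ D := by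
  haveI : M.IsPrime := hM.2.1.isPrime
  haveI := Fintype.ofFinite G
  rw [H21.exists_induces_iff_coeff hM hP hPH hHN hB]
  constructor
  · rintro ⟨h, hh, he⟩
    obtain ⟨D, hD⟩ := H20.exists_defectGroup hM hB
    obtain ⟨x, hx⟩ := H20.sylC_le_defectGroup hM hB hD he hP hh
    refine ⟨D, hD, x⁻¹, ?_⟩
    have h1 := H20.conjSub_mono x⁻¹ hx
    rw [H20.conjSub_conjSub, inv_mul_cancel, H20.conjSub_one] at h1
    exact h1
  · rintro ⟨D, ⟨g, hg, hS⟩, x, hx⟩
    have h1 : g ∈ Subgroup.centralizer (H20.conjSub x P : Set G) := fun u hu =>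
      H20.IsSylC.mem_centralizer (p := p) (hS : H20.IsSylC p g D) u (hx hu)
    have h2 := H20.mem_centralizer_conjSub (x := x⁻¹) h1
    rw [H20.conjSub_conjSub, inv_mul_cancel, H20.conjSub_one] at h2
    refine ⟨_, h2, ?_⟩
    rw [H20.isCl_eRed B g x⁻¹]
    exact ((H20.isDefectClass_iff hB g).1 hg).1

end Cfsg.Agent.S0958
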