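import Cfsg.Statements.S0959
import Cfsg.Agent.H21.BrauerInduced

set_option autoImplicit false
open Cfsg

namespace Cfsg.Agent.S0959

/-- Let B be a block of the finite group G with defect group D (relative to a maximal ideal M of the algebraic integers containing the prime p), and let P be a p-subgroup. Then there is an element g whose idempotent coefficient for B is a local integer outside the local ideal at M and which has a conjugate centralizing P, if and only if some conjugate of P is contained in D. -/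
theorem result {G : Type*} [Group G] [Finite G] (p : ℕ) [Fact p.Prime] (M : Ideal Cfsg.AlgInt) (hM : Cfsg.IsPModular p M) (B : Set (Cfsg.IrrCharacter G)) (hB : Cfsg.IsPBlock M B) (D : Subgroup G) (hD : Cfsg.IsDefectGroup p M B D) (P : Subgroup G) (hP : IsPGroup p P) : (∃ g : G, Cfsg.MemLocalRing M (Cfsg.blockCoeff B g) ∧ ¬ Cfsg.MemLocalIdeal M (Cfsg.blockCoeff B g) ∧ ∃ c : G, IsConj g c ∧ c ∈ Subgroup.centralizer (P : Set G)) ↔ ∃ x : G, P.map (MulAut.conj x).toMonoidHom ≤ D := by
  haveI : M.IsPrime := hM.2.1.isPrime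
  haveI := Fintype.ofFinite G
  constructor
  · rintro ⟨g, hg1, hg2, c, hc, hcP⟩
    have he : (H20.eRed M B).coeff c ≠ 0 := by
      rw [← (H20.isCl_eRed B).of_isConj hc, H20.coeff_eRed, Ne, H20.redC_eq_zero_iff hg1]
      exact hg2
    obtain ⟨x, hx⟩ := H20.sylC_le_defectGroup hM hB hD he hP hcP
    refine ⟨x⁻¹, ?_⟩
    have h1 := H20.conjSub_mono x⁻¹ hx
    rw [H20.conjSub_conjSub, inv_mul_cancel, H20.conjSub_one] at h1
    exact h1
  · rintro ⟨x, hx⟩
    obtain ⟨g, hg, hS⟩ := hD
    have h1 : g ∈ Subgroup.centralizer (H20.conjSub x P : Set G) := fun u hu =>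
      H20.IsSylC.mem_centralizer (p := p) (hS : H20.IsSylC p g D) u (hx hu)
    have h2 := H20.mem_centralizer_conjSub (x := x⁻¹) h1
    rw [H20.conjSub_conjSub, inv_mul_cancel, H20.conjSub_one] at h2
    exact ⟨g, hg.1, hg.2.1, x⁻¹ * g * x⁻¹⁻¹, isConj_iff.2 ⟨x⁻¹, rfl⟩, h2⟩

end Cfsg.Agent.S0959
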