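import Cfsg.Statements.S0962
import Cfsg.Agent.H22.BlockClasses

set_option autoImplicit false
open Cfsg

namespace Cfsg.Agent.S0962

/-- Fix a maximal ideal M of the algebraic integers containing the prime p and a natural number d. The number of blocks of the finite group G of defect at least d is at most the number of conjugacy classes of p-regular elements of G of defect at least d, where the defect of a class is the exponent of p in the order of the centralizer of any of its elements. -/
theorem result {G : Type*} [Group G] [Finite G] (p : ℕ) [Fact p.Prime] (M : Ideal Cfsg.AlgInt) (hM : Cfsg.IsPModular p M) (d : ℕ) : Nat.card {B : Set (Cfsg.IrrCharacter G) // Cfsg.IsPBlock M B ∧ d ≤ Cfsg.blockDefect p B} ≤ Nat.card {C : ConjClasses G // ∃ g : G, ConjClasses.mk g = C ∧ Cfsg.IsPRegular p g ∧ d ≤ (Nat.card (Subgroup.centralizer ({g} : Set G))).factorization p} := by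
  classical
  haveI : M.IsPrime := hM.2.1.isPrime
  haveI : Fintype G := Fintype.ofFinite G
  have : Fintype (ConjClasses G) := Fintype.ofFinite _
  set ι := {B : Set (Cfsg.IrrCharacter G) // Cfsg.IsPBlock M B ∧ d ≤ Cfsg.blockDefect p B}
  set κ := {C : ConjClasses G // ∃ g : G, ConjClasses.mk g = C ∧ Cfsg.IsPRegular p g ∧
    d ≤ (Nat.card (Subgroup.centralizer ({g} : Set G))).factorization p}
  have : Fintype ι := Fintype.ofFinite _
  choose rep hrep using fun B : ι => H20.block_nonempty B.2.1
  let A : Matrix ι κ (H20.k M) := Matrix.of fun B C =>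
    H20.redC M (Cfsg.blockCoeff B.1 C.1.out)
  let V : Matrix κ ι (H20.k M) := Matrix.of fun C B =>
    H20.redC M (Cfsg.centralChar (rep B : G → ℂ) C.1.out)
  have hAV : A * V = 1 := by
    ext B B'
    rw [Matrix.mul_apply, Matrix.one_apply]
    have h := H22.sum_redC_coeff_mul B.2.1 (rep B')
    have hiff : rep B' ∈ B.1 ↔ B = B' :=
      ⟨fun h => Subtype.ext (H20.block_eq_of_mem B.2.1 B'.2.1 h (hrep B')),
        fun h => h ▸ hrep B⟩
    simp only [hiff] at h
    rw [← h]
    let P : ConjClasses G → Prop := fun C => ∃ g : G, ConjClasses.mk g = C ∧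
      Cfsg.IsPRegular p g ∧ d ≤ (Nat.card (Subgroup.centralizer ({g} : Set G))).factorization p
    rw [← Finset.sum_filter_add_sum_filter_not Finset.univ P,
      Finset.sum_eq_zero (s := Finset.univ.filter fun C => ¬ P C), add_zero]
    · refine (Finset.sum_subtype (Finset.univ.filter P) (fun C => ?_)
        (fun C => H20.redC M (Cfsg.blockCoeff B.1 C.out) *
          H20.redC M (Cfsg.centralChar (rep B' : G → ℂ) C.out))).symm
      simp [P]
    · intro C hC
      simp only [P, Finset.mem_filter, Finset.mem_univ, true_and] at hC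
      have haR := H20.memRing_blockCoeff B.2.1 (M := M) C.out
      rw [mul_eq_zero]
      by_cases hreg : p ∣ orderOf C.out
      · left
        rw [H22.blockCoeff_eq_zero_of_dvd (H22.weakOrth_of_block hM B.2.1) hreg, H20.redC_zero]
      · right
        rw [H20.redC_eq_zero_iff (H20.memRing_centralChar (rep B') _)]
        refine H22.centralChar_memIdeal_of_cenExp_lt hM B'.2.1 (hrep B') (lt_of_lt_of_le ?_ B'.2.2)
        exact not_le.1 fun hle => hC ⟨C.out, Quotient.out_eq C, hreg, hle⟩
  rw [Nat.card_eq_fintype_card, Nat.card_eq_fintype_card]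
  calc Fintype.card ι = (1 : Matrix ι ι (H20.k M)).rank := Matrix.rank_one.symm
    _ ≤ A.rank := hAV ▸ Matrix.rank_mul_le_left A V
    _ ≤ Fintype.card κ := A.rank_le_card_width

end Cfsg.Agent.S0962
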