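import Cfsg.Statements.S0966
import Cfsg.Agent.H22.BlockClasses
import Cfsg.Agent.H21.Covering
import Cfsg.Agent.H21.RegPart
import Cfsg.Agent.H12.Induction

set_option autoImplicit false
open Cfsg

namespace Cfsg.Agent.S0966

/-- Let N be a normal subgroup of p-power index in the finite group G and b a block of N relative to a maximal ideal M of the algebraic integers containing p. Then there is exactly one block B of G containing a character whose restriction to N has a constituent in b. -/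
theorem result {G : Type*} [Group G] [Fintype G] (p : ℕ) [Fact p.Prime] (M : Ideal Cfsg.AlgInt) (hM : Cfsg.IsPModular p M) (N : Subgroup G) [N.Normal] [Fintype N] (hidx : ∃ k : ℕ, N.index = p ^ k) (b : Set (Cfsg.IrrCharacter N)) (hb : Cfsg.IsPBlock M b) : ∃! B : Set (Cfsg.IrrCharacter G), Cfsg.IsPBlock M B ∧ ∃ χ ∈ B, ∃ θ ∈ b, Cfsg.classInner (fun n : N => (χ : G → ℂ) n) (θ : N → ℂ) ≠ 0 := by
  classical
  haveI : M.IsPrime := hM.2.1.isPrime
  have : Fintype (ConjClasses G) := Fintype.ofFinite _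
  obtain ⟨θ, hθ⟩ := H20.block_nonempty hb
  obtain ⟨k, hk⟩ := hidx
  obtain ⟨χ, hχ⟩ : ∃ χ : Cfsg.IrrCharacter G,
      Cfsg.classInner (fun n : N => (χ : G → ℂ) n) (θ : N → ℂ) ≠ 0 := by
    by_contra hall
    push Not at hall
    have hz : ∀ χ : Cfsg.IrrCharacter G,
        Cfsg.classInner (Cfsg.indFun N (θ : N → ℂ)) (χ : G → ℂ) = 0 := fun χ => by
      have h := H21.classInner_indFun N (θ : N → ℂ) _ (H12.irr_isClassFunction χ)
      have h2 := congrArg (starRingEnd ℂ) (hall χ)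
      rw [H12.conj_classInner, map_zero] at h2
      rw [h]
      exact h2
    have h0 := H12.eq_zero_of_classInner_irr_eq_zero (H21.indFun_conj_eq N (θ : N → ℂ)) hz
    have h1 := congrFun h0 1
    rw [H12.indFun_one, Pi.zero_apply, mul_eq_zero] at h1
    rcases h1 with h1 | h1
    · exact N.index_ne_zero_of_finite (by exact_mod_cast h1)
    · exact H12.irr_apply_one_ne_zero θ h1
  refine ⟨Cfsg.blockOf M (χ : G → ℂ), ⟨H20.isPBlock_blockOf χ, χ, H20.mem_blockOf_self χ, θ, hθ, hχ⟩,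
    ?_⟩
  rintro B' ⟨hB', hcov'⟩
  obtain ⟨χ', hχ'⟩ := H20.block_nonempty hB'
  have hB := H20.isPBlock_blockOf (M := M) χ
  have c1 := (H21.covers_iff N hB hb).1 ⟨χ, H20.mem_blockOf_self χ, θ, hθ, hχ⟩ χ
    (H20.mem_blockOf_self χ) θ hθ
  have c2 := (H21.covers_iff N hB' hb).1 hcov' χ' hχ' θ hθ
  have h1 := H22.sum_redC_coeff_mul hB χ
  have h2 := H22.sum_redC_coeff_mul hB χ'
  rw [if_pos (H20.mem_blockOf_self χ)] at h1
  by_cases hmem : χ' ∈ Cfsg.blockOf M (χ : G → ℂ)
  · exact H20.block_eq_of_mem hB' hB hχ' hmem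
  exfalso
  rw [if_neg hmem] at h2
  apply one_ne_zero (α := H20.k M)
  rw [← h1, ← h2]
  refine Finset.sum_congr rfl fun C _ => ?_
  by_cases hreg : p ∣ orderOf C.out
  · rw [H22.blockCoeff_eq_zero_of_dvd (H22.weakOrth_of_block hM hB) hreg, H20.redC_zero]
    simp
  · have hN : C.out ∈ N := H21.mem_of_coprime_index N (by
      rw [hk]
      exact Nat.Coprime.pow_right k ((Nat.Prime.coprime_iff_not_dvd Fact.out).2 hreg).symm)
    have e1 := (H20.redC_eq_iff (H20.memRing_centralChar χ _)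
      (H21.memRing_induced N θ ⟨_, hN⟩)).2 (c1 ⟨_, hN⟩)
    have e2 := (H20.redC_eq_iff (H20.memRing_centralChar χ' _)
      (H21.memRing_induced N θ ⟨_, hN⟩)).2 (c2 ⟨_, hN⟩)
    rw [e1, e2]

end Cfsg.Agent.S0966
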