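import Cfsg.Statements.S0971
import Cfsg.Agent.H21.BrauerInduced
import Cfsg.Agent.H21.Covering

set_option autoImplicit false
open Cfsg

namespace Cfsg.Agent.S0971

/-- Let Q be a normal p-subgroup of the finite group G, let N = Q ⊔ C_G(Q) (a normal subgroup) and let b be a block of N relative to a maximal ideal M of the algebraic integers containing p. Then b induces some block of G, and every block B of G containing a character whose restriction to N has a constituent in b is induced by b. -/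
theorem result {G : Type*} [Group G] [Fintype G] (p : ℕ) [Fact p.Prime] (M : Ideal Cfsg.AlgInt) (hM : Cfsg.IsPModular p M) (Q : Subgroup G) [Q.Normal] (hQ : IsPGroup p Q) [Fintype ↥(Q ⊔ Subgroup.centralizer (Q : Set G))] (b : Set (Cfsg.IrrCharacter ↥(Q ⊔ Subgroup.centralizer (Q : Set G)))) (hb : Cfsg.IsPBlock M b) : Cfsg.InducedBlockDefined M (Q ⊔ Subgroup.centralizer (Q : Set G)) b ∧ ∀ B : Set (Cfsg.IrrCharacter G), Cfsg.IsPBlock M B → (∃ χ ∈ B, ∃ θ ∈ b, Cfsg.classInner (fun n : ↥(Q ⊔ Subgroup.centralizer (Q : Set G)) => (χ : G → ℂ) n) (θ : ↥(Q ⊔ Subgroup.centralizer (Q : Set G)) → ℂ) ≠ 0) → Cfsg.IsInducedBlock M (Q ⊔ Subgroup.centralizer (Q : Set G)) b B := by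
  haveI : M.IsPrime := hM.2.1.isPrime
  haveI hC : (Subgroup.centralizer (Q : Set G)).Normal := inferInstance
  haveI hN : (Q ⊔ Subgroup.centralizer (Q : Set G)).Normal := inferInstance
  have hHN : (Q ⊔ Subgroup.centralizer (Q : Set G)) ≤ Subgroup.normalizer (Q : Set G) := by
    rw [Subgroup.normalizer_eq_top Q]; exact le_top
  refine ⟨H21.exists_inducedBlock hM hQ le_rfl hHN hb, ?_⟩
  rintro B hB ⟨χ, hχ, θ, hθ, hc⟩
  refine (H21.isInducedBlock_iff hb hB hθ hχ).2 fun a ha =>
    H21.indLam_eq_lam_of_clSum (Q ⊔ Subgroup.centralizer (Q : Set G)) θ χ (fun g => ?_) ha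
  rw [H21.indLam_clSum, H20.lam_clSum]
  by_cases hg : g ∈ (Q ⊔ Subgroup.centralizer (Q : Set G))
  · rw [H21.centralChar_eq_induced (Q ⊔ Subgroup.centralizer (Q : Set G)) χ θ hc ⟨g, hg⟩]
  · have h0 : inducedCentralChar (Q ⊔ Subgroup.centralizer (Q : Set G)) (θ : ↥(Q ⊔ Subgroup.centralizer (Q : Set G)) → ℂ) g = 0 := by
      rw [inducedCentralChar]
      refine finsum_mem_eq_zero_of_forall_eq_zero fun h hh => ?_
      exact absurd (H21.mem_of_isConj (Q ⊔ Subgroup.centralizer (Q : Set G)) h.2 (IsConj.symm hh)) hg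
    rw [h0, H20.redC_zero, ← H20.lam_clSum]
    by_contra hne
    exact hg (le_sup_right (a := Q) (H20.mem_centralizer_of_lam_ne_zero hM hQ (Ne.symm hne)))

end Cfsg.Agent.S0971
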