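import Cfsg.Statements.S0982
import Cfsg.Agent.H62.PSLChecks
-- import your own Cfsg.Agent.* helpers here

set_option autoImplicit false
open Cfsg

namespace Cfsg.Agent.S0982

/-- A simple group of order 6072 is isomorphic to the projective special linear group of dimension 2 over the field with 23 elements. -/
theorem result {G : Type*} [Group G] [Finite G] [IsSimpleGroup G] (h : Nat.card G = 6072) {F : Type*} [Field F] [Fintype F] (hF : Fintype.card F = 23) : Nonempty (G ≃* Matrix.ProjectiveSpecialLinearGroup (Fin 2) F) := by
  have hG : ¬ IsMulCommutative G := H62.not_comm_of_not_prime (by rw [h]; norm_num)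
  have hk := H62.sylow_number (p := 23) (a := 1) (m := 264) hG (h.trans (by norm_num)) (by norm_num) one_pos 1
    (by rw [h]; decide)
  rw [show (Nat.divisors 264).filter (fun d => d % 23 = 1 ∧ 1 < d) = {24} by decide +kernel, Finset.mem_singleton] at hk
  exact H65.psl_two_of_order _ _ _ H62.checkW_23 (fun e he => nomatch he)
    (Or.inr rfl) (by decide) hG (by norm_num) hk (by rw [h]; norm_num) hF

end Cfsg.Agent.S0982
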