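import Cfsg.Statements.S0986
import Cfsg.Agent.H62.Intersect
-- import your own Cfsg.Agent.* helpers here

set_option autoImplicit false
open Cfsg

namespace Cfsg.Agent.S0986

/-- Let P and Q be distinct Sylow p-subgroups of a finite group G chosen so that the order of P ∩ Q is as large as possible among intersections of two distinct Sylow p-subgroups, and let N be the normalizer of P ∩ Q. Then N has more than one Sylow p-subgroup, any two distinct Sylow p-subgroups of N intersect exactly in P ∩ Q, and each Sylow p-subgroup of N lies in exactly one Sylow p-subgroup of G. -/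
theorem result {G : Type*} [Group G] [Finite G] (p : ℕ) [Fact p.Prime] (P Q : Sylow p G) (hPQ : P ≠ Q) (hmax : ∀ P' Q' : Sylow p G, P' ≠ Q' → Nat.card ↥((P' : Subgroup G) ⊓ (Q' : Subgroup G)) ≤ Nat.card ↥((P : Subgroup G) ⊓ (Q : Subgroup G))) : 1 < Nat.card (Sylow p ↥(Subgroup.normalizer (((P : Subgroup G) ⊓ (Q : Subgroup G) : Subgroup G) : Set G))) ∧ (∀ S T : Sylow p ↥(Subgroup.normalizer (((P : Subgroup G) ⊓ (Q : Subgroup G) : Subgroup G) : Set G)), S ≠ T → (S : Subgroup _) ⊓ (T : Subgroup _) = ((P : Subgroup G) ⊓ (Q : Subgroup G)).subgroupOf (Subgroup.normalizer (((P : Subgroup G) ⊓ (Q : Subgroup G) : Subgroup G) : Set G))) ∧ ∀ S : Sylow p ↥(Subgroup.normalizer (((P : Subgroup G) ⊓ (Q : Subgroup G) : Subgroup G) : Set G)), ∃! T : Sylow p G, (S : Subgroup _).map (Subgroup.normalizer (((P : Subgroup G) ⊓ (Q : Subgroup G) : Subgroup G) : Set G)).subtype ≤ (T : Subgroup G) := by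
  classical
  set D : Subgroup G := (P : Subgroup G) ⊓ (Q : Subgroup G) with hD
  set N : Subgroup G := Subgroup.normalizer (D : Set G) with hN
  -- every Sylow subgroup of `G` meeting `N` in more than `D` is determined by that intersection
  have hproper : ∀ (R : Sylow p G), D ≤ (R : Subgroup G) → D ≠ (R : Subgroup G) →
      D < (R : Subgroup G) ⊓ N := by
    intro R hle hne
    refine lt_of_le_of_ne (le_inf hle Subgroup.le_normalizer) fun he => ?_
    have hnil : Group.IsNilpotent (R : Subgroup G) := R.isPGroup'.isNilpotent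
    have hlt : D.subgroupOf (R : Subgroup G) < ⊤ := lt_of_le_of_ne le_top fun h =>
      hne (le_antisymm hle (Subgroup.subgroupOf_eq_top.1 h))
    have := Group.normalizerCondition_of_isNilpotent (G := (R : Subgroup G)) _ hlt
    apply this.ne
    rw [← Subgroup.subgroupOf_normalizer_eq hle]
    rw [← hN]
    nth_rewrite 1 [he]
    rw [Subgroup.inf_subgroupOf_left]
  have huniq : ∀ (R R' : Sylow p G) (K : Subgroup G), K ≤ (R : Subgroup G) → K ≤ (R' : Subgroup G) →
      D < K → R = R' := by
    intro R R' K h1 h2 hDK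
    by_contra hne
    have h3 := (Subgroup.card_le_of_le (le_inf h1 h2)).trans (hmax R R' hne)
    exact hDK.ne (Subgroup.eq_of_le_of_card_ge hDK.le h3)
  have hDP : D ≠ (P : Subgroup G) := fun h => hPQ (Sylow.ext (P.3 Q.isPGroup' (h ▸ inf_le_right)).symm)
  have hDQ : D ≠ (Q : Subgroup G) := fun h => hPQ (Sylow.ext (Q.3 P.isPGroup' (h ▸ inf_le_left)))
  have hP := hproper P inf_le_left hDP
  have hQ := hproper Q inf_le_right hDQ
  have hDn : (D.subgroupOf N).Normal := Subgroup.normal_in_normalizer
  have hDpg : IsPGroup p (D.subgroupOf N) :=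
    (P.isPGroup'.to_le inf_le_left).comap_of_injective N.subtype N.subtype_injective
  -- every Sylow subgroup of `N` strictly contains `D`
  have hS : ∀ S : Sylow p N, D < (S : Subgroup N).map N.subtype := by
    intro S
    have hSle : D.subgroupOf N ≤ (S : Subgroup N) := hDpg.le_sylow_of_normal S
    have h1 : D ≤ (S : Subgroup N).map N.subtype := by
      intro x hx
      exact ⟨⟨x, Subgroup.le_normalizer hx⟩, hSle hx, rfl⟩
    refine lt_of_le_of_ne h1 fun he => ?_
    obtain ⟨S', hS'⟩ :=
      ((P.isPGroup'.to_le (inf_le_left : (P : Subgroup G) ⊓ N ≤ P)).comap_of_injective N.subtype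
        N.subtype_injective).exists_le_sylow
    have h2 : Nat.card ↥((P : Subgroup G) ⊓ N) ≤ Nat.card (S' : Subgroup N) := by
      have := Subgroup.card_le_of_le hS'
      rwa [show Subgroup.comap N.subtype ((P : Subgroup G) ⊓ N) = ((P : Subgroup G) ⊓ N).subgroupOf N from rfl,
        Nat.card_congr (Subgroup.subgroupOfEquivOfLe inf_le_right).toEquiv] at this
    rw [H62.card_sylow_eq S' S, ← Subgroup.card_map_of_injective (K := (S : Subgroup N))
      N.subtype_injective, ← he] at h2
    exact hP.ne (Subgroup.eq_of_le_of_card_ge hP.le h2)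
  refine ⟨?_, ?_, ?_⟩
  · by_contra hle
    have : Subsingleton (Sylow p N) := by
      rw [← Finite.card_le_one_iff_subsingleton]; omega
    obtain ⟨S⟩ := (inferInstance : Nonempty (Sylow p N))
    obtain ⟨R, hR⟩ := (S.isPGroup'.map N.subtype).exists_le_sylow
    have key : ∀ (T : Sylow p G), D < (T : Subgroup G) ⊓ N → T = R := by
      intro T hT
      refine huniq T R ((T : Subgroup G) ⊓ N) inf_le_left ?_ hT
      obtain ⟨S', hS'⟩ :=
        ((T.isPGroup'.to_le (inf_le_left : (T : Subgroup G) ⊓ N ≤ T)).comap_of_injective N.subtype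
          N.subtype_injective).exists_le_sylow
      rw [Subsingleton.elim S' S] at hS'
      intro x hx
      exact hR ⟨⟨x, hx.2⟩, hS' hx, rfl⟩
    exact hPQ ((key P hP).trans (key Q hQ).symm)
  · intro S T hST
    refine le_antisymm ?_ (le_inf (hDpg.le_sylow_of_normal S) (hDpg.le_sylow_of_normal T))
    obtain ⟨R, hR⟩ := (S.isPGroup'.map N.subtype).exists_le_sylow
    obtain ⟨R', hR'⟩ := (T.isPGroup'.map N.subtype).exists_le_sylow
    have hRR : R ≠ R' := by
      rintro rfl
      apply hST
      have hK : IsPGroup p ((R : Subgroup G).subgroupOf N) :=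
        R.isPGroup'.comap_of_injective N.subtype N.subtype_injective
      exact Sylow.ext ((S.3 hK (Subgroup.map_le_iff_le_comap.1 hR)).symm.trans
        (T.3 hK (Subgroup.map_le_iff_le_comap.1 hR')))
    intro x hx
    have hxD : (x : G) ∈ ((S : Subgroup N) ⊓ (T : Subgroup N)).map N.subtype := ⟨x, hx, rfl⟩
    have h1 : D ≤ (R : Subgroup G) ⊓ (R' : Subgroup G) :=
      le_inf ((hS S).le.trans hR) ((hS T).le.trans hR')
    have h2 := Subgroup.eq_of_le_of_card_ge h1 (hmax R R' hRR)
    show (x : G) ∈ D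
    rw [h2]
    exact ⟨hR ⟨x, hx.1, rfl⟩, hR' ⟨x, hx.2, rfl⟩⟩
  · intro S
    obtain ⟨R, hR⟩ := (S.isPGroup'.map N.subtype).exists_le_sylow
    exact ⟨R, hR, fun T hT => huniq T R _ hT hR (hS S)⟩

end Cfsg.Agent.S0986
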