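import Cfsg.Statements.S0987
import Cfsg.Agent.H62.Intersect
-- import your own Cfsg.Agent.* helpers here

set_option autoImplicit false
open Cfsg

namespace Cfsg.Agent.S0987

/-- If a finite group has order pqr for primes p < q < r, then its Sylow r-subgroups are normal. -/
theorem result {G : Type*} [Group G] [Finite G] (p q r : ℕ) (hp : p.Prime) (hq : q.Prime) [Fact r.Prime] (hpq : p < q) (hqr : q < r) (hG : Nat.card G = p * q * r) (R : Sylow r G) : (R : Subgroup G).Normal := by
  classical
  have : Fact p.Prime := ⟨hp⟩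
  have : Fact q.Prime := ⟨hq⟩
  have hr : r.Prime := Fact.out
  have hp2 := hp.two_le
  have hq2 := hq.two_le
  have hndr : ¬ r ∣ p * q := by
    rw [hr.dvd_mul]
    rintro (h | h)
    · have := Nat.le_of_dvd hp.pos h; omega
    · have := Nat.le_of_dvd hq.pos h; omega
  have hndq : ¬ q ∣ p * r := by
    rw [hq.dvd_mul]
    rintro (h | h)
    · have := Nat.le_of_dvd hp.pos h; omega
    · have := (Nat.prime_dvd_prime_iff_eq hq hr).1 h; omega
  have hR : Nat.card G = r ^ 1 * (p * q) := by rw [hG, pow_one]; ring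
  have hQ : Nat.card G = q ^ 1 * (p * r) := by rw [hG, pow_one]; ring
  rcases eq_or_ne (Nat.card (Sylow r G)) 1 with h1 | h1
  · exact Subgroup.normalizer_eq_top_iff.1 ((H62.card_sylow_eq_one_iff R).1 h1)
  exfalso
  have hnr : Nat.card (Sylow r G) = p * q := by
    have hd := H62.card_sylow_dvd hR hndr
    have hmod : Nat.card (Sylow r G) % r = 1 := H62.card_sylow_mod
    obtain ⟨a, b, ha, hb, hab⟩ := exists_dvd_and_dvd_of_dvd_mul hd
    rw [Nat.dvd_prime hp] at ha
    rw [Nat.dvd_prime hq] at hb
    rcases ha with rfl | rfl <;> rcases hb with rfl | rfl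
    · simp [hab] at h1
    · rw [hab, one_mul, Nat.mod_eq_of_lt hqr] at hmod; omega
    · rw [hab, mul_one, Nat.mod_eq_of_lt (hpq.trans hqr)] at hmod; omega
    · exact hab
  set S : Sylow q G := default
  have hnq : Nat.card (Sylow q G) = 1 := by
    by_contra hne
    have hd := H62.card_sylow_dvd hQ hndq
    have hmod : Nat.card (Sylow q G) % q = 1 := H62.card_sylow_mod
    obtain ⟨a, b, ha, hb, hab⟩ := exists_dvd_and_dvd_of_dvd_mul hd
    rw [Nat.dvd_prime hp] at ha
    rw [Nat.dvd_prime hr] at hb
    have hge : r ≤ Nat.card (Sylow q G) := by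
      rcases ha with rfl | rfl <;> rcases hb with rfl | rfl
      · simp [hab] at hne
      · simp [hab]
      · rw [hab, mul_one, Nat.mod_eq_of_lt hpq] at hmod; omega
      · rw [hab]; exact Nat.le_mul_of_pos_left _ hp.pos
    have e1 := H62.card_orderOf_eq_prime R (by rw [H62.card_sylow_coe hR hndr, pow_one])
    have e2 := H62.card_orderOf_eq_prime S (by rw [H62.card_sylow_coe hQ hndq, pow_one])
    have hle : Nat.card ({g : G // orderOf g = r} ⊕ {g : G // orderOf g = q}) ≤ Nat.card G := by
      refine Nat.card_le_card_of_injective (Sum.elim Subtype.val Subtype.val) ?_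
      rintro (⟨a, ha⟩ | ⟨a, ha⟩) (⟨b, hb⟩ | ⟨b, hb⟩) h <;> simp only [Sum.elim_inl, Sum.elim_inr] at h <;>
        subst h
      · rfl
      · omega
      · omega
      · rfl
    rw [Nat.card_sum, e1, e2, hnr, hG] at hle
    have h3 : p * q + 1 ≤ r * (q - 1) + 1 := by
      have h4 : (q + 1) * (q - 1) = q * q - 1 := by
        rw [Nat.mul_sub, mul_one, Nat.add_mul, one_mul]; omega
      have h5 : (q + 1) * (q - 1) ≤ r * (q - 1) := Nat.mul_le_mul_right _ (by omega)
      have h6 : (p + 1) * q ≤ q * q := Nat.mul_le_mul_right q hpq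
      have h7 : (p + 1) * q = p * q + q := by ring
      omega
    have h8 : p * q * (r - 1) + p * q = p * q * r := by
      rw [← Nat.mul_succ, Nat.succ_eq_add_one, Nat.sub_add_cancel hr.one_le]
    have h9 : r * (q - 1) ≤ Nat.card (Sylow q G) * (q - 1) := Nat.mul_le_mul_right _ hge
    have h10 : 0 < p * q := Nat.mul_pos hp.pos hq.pos
    have h11 : (q - 1) * r = r * (q - 1) := by ring
    have h12 : p * q < r * (q - 1) ∨ p * q = r * (q - 1) := lt_or_eq_of_le (by omega)
    rcases h12 with h | h
    · omega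
    · have : r ∣ p * q := ⟨q - 1, h⟩
      exact hndr this
  have hSn : (S : Subgroup G).Normal := Subgroup.normalizer_eq_top_iff.1 ((H62.card_sylow_eq_one_iff S).1 hnq)
  -- the image of `R` in `G ⧸ S` is normal
  have hqc : Nat.card (G ⧸ (S : Subgroup G)) = r ^ 1 * p := by
    rw [← Subgroup.index, H62.index_sylow hQ hndq, pow_one, mul_comm]
  have hndp : ¬ r ∣ p := fun h => hndr (h.mul_right q)
  have hn' : Nat.card (Sylow r (G ⧸ (S : Subgroup G))) = 1 := by
    have hd := H62.card_sylow_dvd hqc hndp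
    have hmod : Nat.card (Sylow r (G ⧸ (S : Subgroup G))) % r = 1 := H62.card_sylow_mod
    rw [Nat.dvd_prime hp] at hd
    rcases hd with h | h
    · exact h
    · rw [h, Nat.mod_eq_of_lt (hpq.trans hqr)] at hmod; omega
  obtain ⟨T⟩ := (inferInstance : Nonempty (Sylow r (G ⧸ (S : Subgroup G))))
  have : (T : Subgroup (G ⧸ (S : Subgroup G))).Normal :=
    Subgroup.normalizer_eq_top_iff.1 ((H62.card_sylow_eq_one_iff T).1 hn')
  set K : Subgroup G := (T : Subgroup (G ⧸ (S : Subgroup G))).comap (QuotientGroup.mk' _) with hK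
  have hKc : Nat.card K = r ^ 1 * q := by
    have h1 := Subgroup.card_mul_index K
    rw [hK, Subgroup.index_comap_of_surjective _ (QuotientGroup.mk'_surjective _),
      H62.index_sylow hqc hndp T, hG] at h1
    have h2 : Nat.card K * p = r ^ 1 * q * p := by rw [hK, h1, pow_one]; ring
    exact Nat.eq_of_mul_eq_mul_right hp.pos h2
  have hRK : (R : Subgroup G) ≤ K := by
    intro x hx
    rw [hK, Subgroup.mem_comap]
    have : Subsingleton (Sylow r (G ⧸ (S : Subgroup G))) := by
      rw [← Finite.card_le_one_iff_subsingleton, hn']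
    obtain ⟨T', hT'⟩ := (R.isPGroup'.map (QuotientGroup.mk' (S : Subgroup G))).exists_le_sylow
    rw [Subsingleton.elim T' T] at hT'
    exact hT' ⟨x, hx, rfl⟩
  have hndq' : ¬ r ∣ q := fun h => hndr (h.mul_left p)
  have hnK : Nat.card (Sylow r K) = 1 := by
    have hd := H62.card_sylow_dvd hKc hndq'
    have hmod : Nat.card (Sylow r K) % r = 1 := H62.card_sylow_mod
    rw [Nat.dvd_prime hq] at hd
    rcases hd with h | h
    · exact h
    · rw [h, Nat.mod_eq_of_lt hqr] at hmod; omega
  have hRn : ((R.subtype hRK : Sylow r K) : Subgroup K).Normal :=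
    Subgroup.normalizer_eq_top_iff.1 ((H62.card_sylow_eq_one_iff _).1 hnK)
  have hKn : K.Normal := inferInstance
  have htop := Subgroup.normalizer_eq_top_iff.2
    (Subgroup.normalizer_eq_top_iff.1 ((H62.card_sylow_eq_one_iff (R.subtype hRK)).1 hnK))
  have hle : K ≤ Subgroup.normalizer ((R : Subgroup G) : Set G) :=
    (Subgroup.normal_subgroupOf_iff_le_normalizer hRK).1 hRn
  have : Subgroup.normalizer ((R : Subgroup G) : Set G) ⊔ K = ⊤ := R.normalizer_sup_eq_top' hRK
  rw [sup_eq_left.2 hle] at this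
  exact h1 ((H62.card_sylow_eq_one_iff R).2 this)

end Cfsg.Agent.S0987
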