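import Cfsg.Statements.S0995
import Cfsg.Agent.H62.Intersect
-- import your own Cfsg.Agent.* helpers here

set_option autoImplicit false
open Cfsg

namespace Cfsg.Agent.S0995

/-- Let G be a finite perfect group containing an element z of prime order p whose centralizer is the cyclic group it generates. Let t be the number of conjugacy classes of elements of order p. Then t divides p - 1, the number of Sylow p-subgroups has the form 1 + n * p, and |G| * t = (p - 1) * p * (1 + n * p). -/
theorem result {G : Type*} [Group G] [Finite G] (hperf : commutator G = ⊤) (p : ℕ) [Fact p.Prime] (z : G) (hz : orderOf z = p) (hC : Subgroup.centralizer ({z} : Set G) = Subgroup.zpowers z) : ∃ n t : ℕ, t = Nat.card {c : ConjClasses G // ∃ g : G, ConjClasses.mk g = c ∧ orderOf g = p} ∧ t ∣ p - 1 ∧ Nat.card (Sylow p G) = 1 + n * p ∧ Nat.card G * t = (p - 1) * p * (1 + n * p) := by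
  classical
  have hp : p.Prime := Fact.out
  have hzp : IsPGroup p (Subgroup.zpowers z) :=
    IsPGroup.of_card (n := 1) (by rw [Nat.card_zpowers, hz, pow_one])
  obtain ⟨P, hP⟩ := hzp.exists_le_sylow
  have hzP : z ∈ (P : Subgroup G) := hP (Subgroup.mem_zpowers z)
  have hPz : (P : Subgroup G) = Subgroup.zpowers z := by
    have : Nontrivial (P : Subgroup G) := by
      refine ⟨⟨⟨z, hzP⟩, 1, ?_⟩⟩
      intro h
      have : z = 1 := congrArg Subtype.val h
      rw [this, orderOf_one] at hz
      exact hp.ne_one hz.symm
    have : Nontrivial (Subgroup.center (P : Subgroup G)) := P.isPGroup'.center_nontrivial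
    obtain ⟨w, hw⟩ := exists_ne (1 : Subgroup.center (P : Subgroup G))
    have hwz : ((w : (P : Subgroup G)) : G) ∈ Subgroup.zpowers z := by
      rw [← hC, Subgroup.mem_centralizer_singleton_iff]
      exact congrArg Subtype.val (Subgroup.mem_center_iff.1 w.2 ⟨z, hzP⟩).symm
    refine le_antisymm ?_ hP
    intro q hq
    rw [← hC, Subgroup.mem_centralizer_singleton_iff]
    have hw1 : ((w : (P : Subgroup G)) : G) ≠ 1 := by
      intro h; exact hw (Subtype.ext (Subtype.ext h))
    have hgen : z ∈ Subgroup.zpowers ((w : (P : Subgroup G)) : G) := by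
      have := mem_zpowers_of_prime_card (G := Subgroup.zpowers z) (p := p)
        (g := ⟨_, hwz⟩) (g' := ⟨z, Subgroup.mem_zpowers z⟩) (by rw [Nat.card_zpowers, hz])
        (fun h => hw1 (congrArg Subtype.val h))
      obtain ⟨k, hk⟩ := Subgroup.mem_zpowers_iff.1 this
      exact Subgroup.mem_zpowers_iff.2 ⟨k, congrArg Subtype.val hk⟩
    obtain ⟨k, hk⟩ := Subgroup.mem_zpowers_iff.1 hgen
    have hc : Commute q ((w : (P : Subgroup G)) : G) :=
      congrArg Subtype.val (Subgroup.mem_center_iff.1 w.2 ⟨q, hq⟩)
    rw [← hk]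
    exact (hc.zpow_right k).eq
  have hcard : Nat.card (P : Subgroup G) = p := by rw [hPz, Nat.card_zpowers, hz]
  set t := Nat.card {c : ConjClasses G // ∃ g : G, ConjClasses.mk g = c ∧ orderOf g = p} with ht
  set nP := Nat.card (Sylow p G) with hnP
  have hmod : nP % p = 1 := H62.card_sylow_mod
  have hN := H62.card_normalizer_mul P
  set M := Nat.card (Subgroup.normalizer ((P : Subgroup G) : Set G)) with hM
  -- elements with the same conjugacy class as an element of order `p`
  have hclass : ∀ g : G, orderOf g = p → Nat.card {h : G // IsConj g h} * p = Nat.card G := by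
    intro g hg
    obtain ⟨R, hR⟩ := (IsPGroup.of_card (n := 1) (by rw [Nat.card_zpowers, hg, pow_one] :
      Nat.card (Subgroup.zpowers g) = p ^ 1)).exists_le_sylow
    obtain ⟨c, hc⟩ := MulAction.exists_smul_eq G P R
    have hgR : g ∈ (R : Subgroup G) := hR (Subgroup.mem_zpowers g)
    rw [← hc, Sylow.coe_subgroup_smul] at hgR
    obtain ⟨w, hw, hwg⟩ := hgR
    have hwg : c * w * c⁻¹ = g := hwg
    have hCw : Subgroup.centralizer ({w} : Set G) = Subgroup.zpowers z := by
      have hw1 : w ≠ 1 := by
        rintro rfl
        rw [mul_one, mul_inv_cancel] at hwg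
        rw [← hwg, orderOf_one] at hg
        exact hp.ne_one hg.symm
      have hzw : Subgroup.zpowers w = Subgroup.zpowers z := by
        refine Subgroup.eq_of_le_of_card_ge (Subgroup.zpowers_le.2 (hPz ▸ hw)) ?_
        rw [Nat.card_zpowers, Nat.card_zpowers, hz]
        have hd : orderOf w ∣ p := by
          have := orderOf_dvd_natCard (⟨w, hw⟩ : (P : Subgroup G))
          rwa [hcard, Subgroup.orderOf_mk] at this
        exact ((hp.eq_one_or_self_of_dvd _ hd).resolve_left
          (fun h => hw1 (orderOf_eq_one_iff.1 h))).ge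
      rw [← Subgroup.centralizer_closure, ← Subgroup.zpowers_eq_closure, hzw,
        Subgroup.zpowers_eq_closure, Subgroup.centralizer_closure, hC,
        Subgroup.zpowers_eq_closure]
    have horb : Nat.card {h : G // IsConj g h} = Nat.card {h : G // IsConj w h} := by
      apply Nat.card_congr
      refine Equiv.subtypeEquivRight fun h => ?_
      have : IsConj w g := isConj_iff.2 ⟨c, hwg⟩
      exact ⟨this.trans, this.symm.trans⟩
    rw [horb, ← hz, ← Nat.card_zpowers, ← hCw, Subgroup.nat_card_centralizer_nat_card_stabilizer]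
    have hcg : Nat.card G = Nat.card (ConjAct G) := rfl
    rw [hcg, ← Nat.card_congr (MulAction.orbitProdStabilizerEquivGroup (ConjAct G) w), Nat.card_prod]
    congr 1
    apply Nat.card_congr
    refine Equiv.subtypeEquivRight fun h => ?_
    rw [ConjAct.mem_orbit_conjAct, isConj_comm]
  have hcount : t * Nat.card G = nP * (p - 1) * p := by
    have e : {g : G // orderOf g = p} ≃
        Σ c : {c : ConjClasses G // ∃ g : G, ConjClasses.mk g = c ∧ orderOf g = p},
          {g : G // ConjClasses.mk g = c.1} :=
      { toFun := fun g => ⟨⟨ConjClasses.mk g.1, g.1, rfl, g.2⟩, g.1, rfl⟩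
        invFun := fun x => ⟨x.2.1, by
          obtain ⟨g, hg, hgo⟩ := x.1.2
          obtain ⟨c, hc⟩ := isConj_iff.1 (ConjClasses.mk_eq_mk_iff_isConj.1 (hg.trans x.2.2.symm))
          rw [← hc, ← hgo]
          exact MulEquiv.orderOf_eq (MulAut.conj c) g⟩
        left_inv := fun g => rfl
        right_inv := by
          rintro ⟨⟨c, hc⟩, g, hg⟩
          simp only at hg
          subst hg
          rfl }
    have : Fintype {c : ConjClasses G // ∃ g : G, ConjClasses.mk g = c ∧ orderOf g = p} := Fintype.ofFinite _
    rw [hnP, ← H62.card_orderOf_eq_prime P hcard, Nat.card_congr e, Nat.card_sigma, Finset.sum_mul]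
    rw [ht, Nat.card_eq_fintype_card, ← smul_eq_mul, ← Finset.card_univ, ← Finset.sum_const]
    apply Finset.sum_congr rfl
    rintro ⟨c, g, rfl, hg⟩ -
    rw [← hclass g hg]
    congr 1
    exact Nat.card_congr (Equiv.subtypeEquivRight fun h => by
      rw [ConjClasses.mk_eq_mk_iff_isConj, isConj_comm])
  refine ⟨nP / p, t, rfl, ?_, ?_, ?_⟩
  · have h1 : t * M = (p - 1) * p := by
      have : t * M * nP = (p - 1) * p * nP := by rw [mul_assoc, hN, hcount]; ring
      exact Nat.eq_of_mul_eq_mul_right Nat.card_pos this
    have hMp : p ≤ M := hcard ▸ Subgroup.card_le_of_le (P : Subgroup G).le_normalizer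
    have htp : t < p := by
      have h2 := hp.two_le
      by_contra h
      have : p * p ≤ t * M := Nat.mul_le_mul (not_lt.1 h) hMp
      have : (p - 1) * p < p * p := Nat.mul_lt_mul_of_pos_right (by omega) hp.pos
      omega
    have ht0 : 0 < t := by
      rcases Nat.eq_zero_or_pos t with h | h
      · exfalso
        rw [h, zero_mul] at h1
        have h2 := hp.two_le
        have : 0 < (p - 1) * p := Nat.mul_pos (by omega) hp.pos
        omega
      · exact h
    exact (Nat.Coprime.dvd_of_dvd_mul_right
      ((hp.coprime_iff_not_dvd.2 fun h => by have := Nat.le_of_dvd ht0 h; omega).symm) ⟨M, h1.symm⟩)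
  · have := Nat.div_add_mod nP p
    rw [hmod] at this
    rw [mul_comm]; omega
  · have := Nat.div_add_mod nP p
    rw [hmod] at this
    have h : 1 + nP / p * p = nP := by rw [mul_comm]; omega
    rw [h, mul_comm, hcount]; ring

end Cfsg.Agent.S0995
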