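import Cfsg.Statements.S1001
import Cfsg.Agent.H62.SelfCentral
import Cfsg.Agent.H33.TwoPrime

set_option autoImplicit false
open Cfsg

namespace Cfsg.Agent.S1001

/-- In a finite simple group whose order has the form p * 3^a * 2^b with p prime, the centralizer of any element of order p is the cyclic group it generates. -/
theorem result {G : Type*} [Group G] [Finite G] [IsSimpleGroup G] (p a b : ℕ) (hp : p.Prime) (hG : Nat.card G = p * 3 ^ a * 2 ^ b) (x : G) (hx : orderOf x = p) : Subgroup.centralizer ({x} : Set G) = Subgroup.zpowers x := by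
  haveI : Fact p.Prime := ⟨hp⟩
  by_cases h23 : p = 2 ∨ p = 3
  · have hs : Group.IsSolvable G := H33.isSolvable_of_two_primes Nat.prime_two Nat.prime_three (by
      intro r hr hd
      rw [hG] at hd
      rcases hr.dvd_mul.1 hd with h | h
      · rcases hr.dvd_mul.1 h with h' | h'
        · rcases h23 with rfl | rfl
          · exact Or.inl ((Nat.prime_dvd_prime_iff_eq hr hp).1 h')
          · exact Or.inr ((Nat.prime_dvd_prime_iff_eq hr hp).1 h')
        · exact Or.inr ((Nat.prime_dvd_prime_iff_eq hr Nat.prime_three).1 (hr.dvd_of_dvd_pow h'))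
      · exact Or.inl ((Nat.prime_dvd_prime_iff_eq hr Nat.prime_two).1 (hr.dvd_of_dvd_pow h)))
    letI : CommGroup G := { (inferInstance : Group G) with
      mul_comm := fun u v => (IsSimpleGroup.comm_iff_isSolvable.2 hs) u v }
    have hpc : (Nat.card G).Prime := IsSimpleGroup.prime_card
    have hxp : Nat.card G = p :=
      ((Nat.prime_dvd_prime_iff_eq hp hpc).1 (hx ▸ orderOf_dvd_natCard x)).symm
    have hz : Subgroup.zpowers x = ⊤ :=
      Subgroup.eq_top_of_card_eq _ (by rw [Nat.card_zpowers, hx, hxp])
    exact le_antisymm (hz ▸ le_top) (fun g _ => Subgroup.mem_centralizer_singleton_iff.2 (mul_comm g x))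
  · simp only [not_or] at h23
    have hG' : Nat.card G = 2 ^ b * 3 ^ a * p := by rw [hG]; ring
    have hm : ¬ p ∣ 2 ^ b * 3 ^ a := by
      intro h
      rcases hp.dvd_mul.1 h with h' | h'
      · exact h23.1 ((Nat.prime_dvd_prime_iff_eq hp Nat.prime_two).1 (hp.dvd_of_dvd_pow h'))
      · exact h23.2 ((Nat.prime_dvd_prime_iff_eq hp Nat.prime_three).1 (hp.dvd_of_dvd_pow h'))
    exact H62.centralizer_singleton_eq_zpowers
      (fun (P : Sylow p G) => by
        have h1 : Nat.card G = p ^ 1 * (2 ^ b * 3 ^ a) := by rw [hG']; ring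
        rw [H62.card_sylow_coe h1 hm P, pow_one])
      (fun P => Cfsg.Agent.S0904.result 2 3 p b a Nat.prime_two Nat.prime_three (by decide)
        (Ne.symm h23.1) (Ne.symm h23.2) hG' P) hx

end Cfsg.Agent.S1001
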