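import Cfsg.Statements.S1002
import Cfsg.Agent.H62.Fixed
-- import your own Cfsg.Agent.* helpers here

set_option autoImplicit false
open Cfsg

namespace Cfsg.Agent.S1002

/-- No finite simple group has order 1004913 = 3^3 * 7 * 13 * 409. -/
theorem result {G : Type*} [Group G] [Finite G] [IsSimpleGroup G] : Nat.card G ≠ 1004913 := by
  classical
  intro h
  have hG : ¬ IsMulCommutative G := H62.not_comm_of_not_prime (by rw [h]; norm_num)
  have hp409 : Nat.Prime 409 := by norm_num
  have : Fact (Nat.Prime 409) := ⟨hp409⟩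
  have : Fact (Nat.Prime 13) := ⟨by norm_num⟩
  have : Fact (Nat.Prime 7) := ⟨by norm_num⟩
  have : Fact (Nat.Prime 3) := ⟨Nat.prime_three⟩
  have c409 : Nat.card G = 409 ^ 1 * 2457 := by rw [h]; norm_num
  have c13 : Nat.card G = 13 ^ 1 * 77301 := by rw [h]; norm_num
  have c7 : Nat.card G = 7 ^ 1 * 143559 := by rw [h]; norm_num
  have hgt : ∀ (p : ℕ) [Fact p.Prime], p ∣ Nat.card G → 409 ≤ Nat.card (Sylow p G) := by
    intro p _ hp
    refine hp409.dvd_factorial.1 (dvd_trans ?_ (H62.two_mul_card_dvd_factorial_card_sylow hG hp))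
    rw [c409, pow_one]
    exact Dvd.dvd.mul_left (dvd_mul_right 409 2457) 2
  have key : ∀ (p m v : ℕ) [Fact p.Prime], Nat.card G = p ^ 1 * m → ¬ p ∣ m →
      (∀ t < m / 409 + 1, t ∣ m → (m / t) % p = 1 → m / t = v) → Nat.card (Sylow p G) = v := by
    intro p m v _ h1 h2 h3
    obtain ⟨t, ht⟩ := H62.card_sylow_dvd (p := p) h1 h2
    have hn : 409 ≤ Nat.card (Sylow p G) := hgt p (h1 ▸ (dvd_pow_self p one_ne_zero).mul_right m)
    have hm : Nat.card (Sylow p G) % p = 1 := H62.card_sylow_mod
    have h4 : 409 * t ≤ m := ht ▸ Nat.mul_le_mul_right t hn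
    have ht0 : 0 < t := by
      rcases Nat.eq_zero_or_pos t with h0 | h0
      · exact absurd (by rw [ht, h0, mul_zero]; exact dvd_zero p) h2
      · exact h0
    have hdiv : m / t = Nat.card (Sylow p G) := by rw [ht, Nat.mul_div_cancel _ ht0]
    have h5 := h3 t (by have := (Nat.le_div_iff_mul_le (by norm_num : 0 < 409)).2 (by linarith : t * 409 ≤ m); omega)
      (Dvd.intro_left _ ht.symm) (by rw [hdiv]; exact hm)
    omega
  have s409 : Nat.card (Sylow 409 G) = 819 := key 409 2457 819 c409 (by norm_num) (by decide +kernel)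
  have s13 : Nat.card (Sylow 13 G) = 25767 := key 13 77301 25767 c13 (by norm_num) (by decide +kernel)
  have s7 : Nat.card (Sylow 7 G) = 47853 := key 7 143559 47853 c7 (by norm_num) (by decide +kernel)
  obtain ⟨P⟩ := (inferInstance : Nonempty (Sylow 409 G))
  obtain ⟨P13⟩ := (inferInstance : Nonempty (Sylow 13 G))
  obtain ⟨P7⟩ := (inferInstance : Nonempty (Sylow 7 G))
  have hP : Nat.card (P : Subgroup G) = 409 := by rw [H62.card_sylow_coe c409 (by norm_num), pow_one]
  have e409 := H62.card_orderOf_eq_prime P hP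
  have e13 := H62.card_orderOf_eq_prime P13 (by rw [H62.card_sylow_coe c13 (by norm_num), pow_one])
  have e7 := H62.card_orderOf_eq_prime P7 (by rw [H62.card_sylow_coe c7 (by norm_num), pow_one])
  rw [s409] at e409; rw [s13] at e13; rw [s7] at e7
  set N : Subgroup G := Subgroup.normalizer ((P : Subgroup G) : Set G) with hN
  have hNc : Nat.card N = 1227 := by
    have := H62.card_normalizer_mul P
    rw [s409, h, ← hN] at this
    omega
  have hNi : N.index = 819 := by rw [hN]; exact P.card_eq_index_normalizer.symm.trans s409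
  obtain ⟨x, hx⟩ := exists_prime_orderOf_dvd_card' (G := N) 3 (by rw [hNc]; norm_num)
  have hx3 : orderOf (x : G) = 3 := by rw [Subgroup.orderOf_coe, hx]
  have hab : IsMulCommutative (P : Subgroup G) := by
    have := isCyclic_of_prime_card hP
    exact IsCyclic.isMulCommutative
  have hPC : (P : Subgroup G) ≤ Subgroup.centralizer ((P : Subgroup G) : Set G) :=
    Subgroup.le_centralizer_iff_isMulCommutative.2 hab
  have hxc : (x : G) ∉ Subgroup.centralizer ((P : Subgroup G) : Set G) := by
    intro hxc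
    apply H62.not_normalizer_le_centralizer (p := 409) hG (by rw [h]; norm_num) P
    rw [← hN]
    have h1 : (P : Subgroup G) ⊔ Subgroup.zpowers (x : G) ≤ N ⊓ Subgroup.centralizer ((P : Subgroup G) : Set G) :=
      sup_le (le_inf Subgroup.le_normalizer hPC) (Subgroup.zpowers_le.2 ⟨x.2, hxc⟩)
    have hd : 1227 ∣ Nat.card ↥((P : Subgroup G) ⊔ Subgroup.zpowers (x : G)) := by
      have h409 := Subgroup.card_dvd_of_le (le_sup_left : (P : Subgroup G) ≤ (P : Subgroup G) ⊔ Subgroup.zpowers (x : G))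
      have h3 := Subgroup.card_dvd_of_le (le_sup_right : Subgroup.zpowers (x : G) ≤ (P : Subgroup G) ⊔ Subgroup.zpowers (x : G))
      rw [hP] at h409
      rw [Nat.card_zpowers, hx3] at h3
      exact Nat.Coprime.mul_dvd_of_dvd_of_dvd (by norm_num : Nat.Coprime 3 409) h3 h409
    have h2 := Subgroup.eq_of_le_of_card_ge (inf_le_left : N ⊓ Subgroup.centralizer ((P : Subgroup G) : Set G) ≤ N)
      (by rw [hNc]; exact Nat.le_of_dvd Nat.card_pos (hd.trans (Subgroup.card_dvd_of_le h1)))
    exact fun g hg => (h2.ge hg).2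
  have hfix : Nat.card (MulAction.fixedBy (G ⧸ N) (x : G)) ≤ 3 := by
    have h1 := H62.card_fixedBy_le_card_orbits (α := G ⧸ N) (P : Subgroup G) hP (x : G) x.2 hxc
    have h2 : Nat.card (MulAction.orbitRel.Quotient (P : Subgroup G) (G ⧸ N)) * 409 =
        Nat.card (Sylow 409 G) + (409 - 1) := H62.card_orbits_normalizer P hP
    rw [s409] at h2
    refine le_trans (h1.trans (le_of_eq ?_)) (show (3 : ℕ) ≤ 3 from le_rfl)
    exact Nat.eq_of_mul_eq_mul_right (by norm_num : 0 < 409) (h2.trans (by norm_num))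
  -- the classes of `x` and its inverse are large and distinct
  have hclass : ∀ y : G, y ∈ N → orderOf y = 3 → y ∉ Subgroup.centralizer ((P : Subgroup G) : Set G) →
      Nat.card (MulAction.fixedBy (G ⧸ N) y) ≤ 3 → 111657 ≤ Nat.card {g : G // IsConj y g} := by
    intro y hy hy3 hyc hyf
    have hk : 409 ≤ Nat.card {g : G // IsConj y g ∧ g ∈ N} := by
      rw [← hP]
      refine Nat.card_le_card_of_injective (fun u => ⟨(u : G) * y * (u : G)⁻¹, isConj_iff.2 ⟨u, rfl⟩,
        N.mul_mem (N.mul_mem (Subgroup.le_normalizer u.2) hy) (N.inv_mem (Subgroup.le_normalizer u.2))⟩) ?_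
      intro u v huv
      have he : (u : G) * y * (u : G)⁻¹ = (v : G) * y * (v : G)⁻¹ := congrArg Subtype.val huv
      by_contra hne
      apply hyc
      have hw1 : v⁻¹ * u ≠ 1 := fun h1 => hne (inv_mul_eq_one.1 h1).symm
      have hcomm : Commute ((v⁻¹ * u : (P : Subgroup G)) : G) y := by
        show (v : G)⁻¹ * u * y = y * ((v : G)⁻¹ * u)
        have := congrArg (fun g => (v : G)⁻¹ * g * u) he
        simpa [mul_assoc] using this
      rw [Subgroup.mem_centralizer_iff]
      intro w hw
      obtain ⟨k, hk⟩ := Subgroup.mem_zpowers_iff.1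
        (mem_zpowers_of_prime_card (g' := (⟨w, hw⟩ : (P : Subgroup G))) hP hw1)
      have hw' : w = ((v⁻¹ * u : (P : Subgroup G)) : G) ^ k := by simpa using (congrArg Subtype.val hk).symm
      rw [hw']
      exact (hcomm.zpow_left k).eq
    have heq := H62.card_fixedBy_mul_card_class N y
    rw [hNi] at heq
    have h1 : Nat.card (MulAction.fixedBy (G ⧸ N) y) * Nat.card {g : G // IsConj y g} ≤
        3 * Nat.card {g : G // IsConj y g} := Nat.mul_le_mul_right _ hyf
    omega
  have hxi : (x : G)⁻¹ ∉ Subgroup.centralizer ((P : Subgroup G) : Set G) := fun hc =>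
    hxc (inv_inv (x : G) ▸ Subgroup.inv_mem _ hc)
  have hfix' : Nat.card (MulAction.fixedBy (G ⧸ N) (x : G)⁻¹) ≤ 3 := by
    rwa [MulAction.fixedBy_inv]
  have b1 := hclass (x : G) x.2 hx3 hxc hfix
  have b2 := hclass (x : G)⁻¹ (N.inv_mem x.2) (by rw [orderOf_inv, hx3]) hxi hfix'
  have hne : ¬ IsConj (x : G) (x : G)⁻¹ := by
    intro hc
    obtain ⟨g, hg⟩ := isConj_iff.1 hc
    have hodd : ¬ 2 ∣ orderOf g := fun hd => by
      have := hd.trans (orderOf_dvd_natCard g); rw [h] at this; omega
    have h2 : Commute (g ^ 2) (x : G) := by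
      show g ^ 2 * x = x * g ^ 2
      have := congrArg (fun z => z⁻¹) hg
      simp only [mul_inv_rev, inv_inv] at this
      calc g ^ 2 * (x : G) = g * (g * x * g⁻¹) * g := by simp [sq, mul_assoc]
      _ = (g * (x : G)⁻¹ * g⁻¹) * g ^ 2 := by rw [hg]; simp [sq, mul_assoc]
      _ = x * g ^ 2 := by rw [mul_assoc g, this]
    obtain ⟨m, hm⟩ := exists_pow_eq_self_of_coprime (x := g) (n := 2)
      ((Nat.prime_two.coprime_iff_not_dvd).2 hodd)
    have h3 : Commute g (x : G) := hm ▸ h2.pow_left m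
    rw [h3.eq, mul_inv_cancel_right] at hg
    have : (x : G) ^ 2 = 1 := by rw [sq, mul_eq_one_iff_eq_inv, ← hg]
    have := orderOf_dvd_of_pow_eq_one this
    rw [hx3] at this
    norm_num at this
  -- five disjoint sets of elements
  let f : ({g : G // orderOf g = 409} ⊕ {g : G // orderOf g = 13}) ⊕ ({g : G // orderOf g = 7} ⊕
      ({g : G // IsConj (x : G) g} ⊕ {g : G // IsConj (x : G)⁻¹ g})) → G :=
    Sum.elim (Sum.elim Subtype.val Subtype.val) (Sum.elim Subtype.val (Sum.elim Subtype.val Subtype.val))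
  have hord : ∀ (y g : G), orderOf y = 3 → IsConj y g → orderOf g = 3 := by
    intro y g hy hc
    obtain ⟨c, rfl⟩ := isConj_iff.1 hc
    rw [← hy]
    exact MulEquiv.orderOf_eq (MulAut.conj c) y
  have hfi : Function.Injective f := by
    rintro ((⟨a, ha⟩ | ⟨a, ha⟩) | (⟨a, ha⟩ | (⟨a, ha⟩ | ⟨a, ha⟩))) ((⟨b, hb⟩ | ⟨b, hb⟩) | (⟨b, hb⟩ | (⟨b, hb⟩ | ⟨b, hb⟩))) he <;>
      simp only [f, Sum.elim_inl, Sum.elim_inr] at he <;> subst he <;>
      first
      | rfl
      | omega
      | (have := hord _ _ hx3 ha; omega)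
      | (have := hord _ _ hx3 hb; omega)
      | (have := hord _ _ (by rw [orderOf_inv, hx3]) ha; omega)
      | (have := hord _ _ (by rw [orderOf_inv, hx3]) hb; omega)
      | exact absurd (ha.trans hb.symm) hne
      | exact absurd (hb.trans ha.symm) hne
  have hcount := Nat.card_le_card_of_injective f hfi
  simp only [Nat.card_sum, e409, e13, e7, h] at hcount
  omega

end Cfsg.Agent.S1002
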