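import Cfsg.Statements.S1009
import Cfsg.Agent.H62.Intersect
-- import your own Cfsg.Agent.* helpers here

set_option autoImplicit false
open Cfsg

namespace Cfsg.Agent.S1009

/-- Brodkey's Theorem: if a finite group has abelian Sylow p-subgroups, then there are two Sylow p-subgroups whose intersection equals the intersection of all Sylow p-subgroups. -/
theorem result {G : Type*} [Group G] [Finite G] (p : ℕ) [Fact p.Prime] (hab : ∀ P : Sylow p G, IsMulCommutative ↥(P : Subgroup G)) : ∃ P Q : Sylow p G, (P : Subgroup G) ⊓ (Q : Subgroup G) = ⨅ R : Sylow p G, (R : Subgroup G) := by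
  classical
  obtain ⟨⟨P, Q⟩, hmin⟩ := Finite.exists_min
    (fun z : Sylow p G × Sylow p G => Nat.card ↥((z.1 : Subgroup G) ⊓ (z.2 : Subgroup G)))
  refine ⟨P, Q, le_antisymm (le_iInf fun R => ?_) (le_inf (iInf_le _ P) (iInf_le _ Q))⟩
  set D : Subgroup G := (P : Subgroup G) ⊓ (Q : Subgroup G) with hD
  set N : Subgroup G := Subgroup.normalizer (D : Set G) with hN
  have hle : ∀ (T : Sylow p G), D ≤ (T : Subgroup G) → (T : Subgroup G) ≤ N := by
    intro T hT g hg
    refine Subgroup.centralizer_le hT |>.trans ?_ (Subgroup.le_centralizer_iff_isMulCommutative.2 (hab T) hg)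
    intro c hc
    rw [Subgroup.mem_normalizer_iff]
    intro x
    constructor
    · intro hx
      have h := Subgroup.mem_centralizer_iff.1 hc x hx
      rwa [← h, mul_inv_cancel_right]
    · intro hx
      have h := Subgroup.mem_centralizer_iff.1 hc _ hx
      rw [inv_mul_cancel_right] at h
      have h' : c * x * c⁻¹ = x := mul_left_cancel h.symm
      rwa [h'] at hx
  have hPN : (P : Subgroup G) ≤ N := hle P inf_le_left
  have hQN : (Q : Subgroup G) ≤ N := hle Q inf_le_right
  -- move `R ⊓ N` into `P` inside `N`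
  obtain ⟨S, hS⟩ :=
    ((R.isPGroup'.to_le (inf_le_left : (R : Subgroup G) ⊓ N ≤ R)).comap_of_injective N.subtype
      N.subtype_injective).exists_le_sylow
  obtain ⟨n, hn⟩ := MulAction.exists_smul_eq N S (P.subtype hPN)
  have key : ((((n : G) • R) : Sylow p G) : Subgroup G) ⊓ N ≤ P := by
    intro y hy
    obtain ⟨hy1, hy2⟩ := hy
    rw [Sylow.coe_subgroup_smul] at hy1
    obtain ⟨r, hr, rfl⟩ := hy1
    have hrN : r ∈ N := by
      have h2 : (n : G) * r * (n : G)⁻¹ ∈ N := hy2
      have := N.mul_mem (N.mul_mem (N.inv_mem n.2) h2) n.2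
      simpa [mul_assoc] using this
    have hrS : (⟨r, hrN⟩ : N) ∈ S := hS ⟨hr, hrN⟩
    have h3 : n * ⟨r, hrN⟩ * n⁻¹ ∈ ((n • S : Sylow p N) : Subgroup N) := by
      rw [Sylow.coe_subgroup_smul]
      exact ⟨_, hrS, rfl⟩
    rw [hn] at h3
    exact h3
  have h1 : ((((n : G) • R) : Sylow p G) : Subgroup G) ⊓ (Q : Subgroup G) ≤ D :=
    le_inf (le_trans (inf_le_inf_left _ hQN) key) inf_le_right
  have h2 := Subgroup.eq_of_le_of_card_ge h1 (hmin ((n : G) • R, Q))
  intro x hx
  have hx' : (n : G) * x * (n : G)⁻¹ ∈ D := (Subgroup.mem_normalizer_iff.1 n.2 x).1 hx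
  rw [← h2] at hx'
  have hx'' := hx'.1
  rw [Sylow.coe_subgroup_smul] at hx''
  obtain ⟨r, hr, hre⟩ := hx''
  rwa [← (MulAut.conj (n : G)).injective (show MulAut.conj (n : G) r = MulAut.conj (n : G) x from hre)]

end Cfsg.Agent.S1009
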