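import Cfsg.Statements.S1013
import Cfsg.Agent.H62.PermSylow
-- import your own Cfsg.Agent.* helpers here

set_option autoImplicit false
open Cfsg

namespace Cfsg.Agent.S1013

/-- Let G be a transitive permutation group of prime degree p having more than one Sylow p-subgroup, and suppose a Sylow p-subgroup P has prime index in its normalizer. Then G is simple. -/
theorem result {α : Type*} [Fintype α] [DecidableEq α] {p : ℕ} [Fact p.Prime] (hα : Fintype.card α = p) (G : Subgroup (Equiv.Perm α)) [MulAction.IsPretransitive ↥G α] (P : Sylow p ↥G) (hn : 1 < Nat.card (Sylow p ↥G)) (ht : (((P : Subgroup ↥G).subgroupOf (Subgroup.normalizer ((P : Subgroup ↥G) : Set ↥G))).index).Prime) : IsSimpleGroup ↥G := by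
  classical
  have hp : p.Prime := Fact.out
  have hαp : Nat.card α = p := by rw [Nat.card_eq_fintype_card, hα]
  have : Nonempty α := Fintype.card_pos_iff.1 (hα ▸ hp.pos)
  have hprim : MulAction.IsPreprimitive ↥G α := MulAction.IsPreprimitive.of_prime_card (hαp.symm ▸ hp)
  -- a nontrivial normal subgroup is transitive, so its order is divisible by `p`
  have htrans : ∀ M : Subgroup ↥G, M.Normal → M ≠ ⊥ → p ∣ Nat.card M := by
    intro M hM hne
    have hfix : MulAction.fixedPoints M α ≠ Set.univ := by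
      intro h
      apply hne
      rw [Subgroup.eq_bot_iff_forall]
      intro m hm
      apply Subtype.ext
      apply Equiv.ext
      intro a
      exact (h ▸ Set.mem_univ a : a ∈ MulAction.fixedPoints M α) ⟨m, hm⟩
    have := MulAction.IsQuasiPreprimitive.isPretransitive_of_normal hfix
    obtain ⟨a⟩ := (inferInstance : Nonempty α)
    have h := MulAction.index_stabilizer_of_transitive M a
    rw [← hαp, ← h]
    exact Subgroup.index_dvd_card _
  obtain ⟨m, hm, hmd⟩ := H62.card_perm_eq_prime_mul (α := α) (p := p) hα.ge (by rw [hα]; have := hp.pos; omega)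
  have hPc : Nat.card (P : Subgroup ↥G) = p := by
    have hdG : p ∣ Nat.card G := by
      obtain ⟨a⟩ := (inferInstance : Nonempty α)
      rw [← hαp, ← MulAction.index_stabilizer_of_transitive G a]
      exact Subgroup.index_dvd_card _
    obtain ⟨k, hk⟩ := P.isPGroup'.exists_card_eq
    have h1 : p ^ k ∣ p ^ 1 * m := hk ▸ hm ▸ (Subgroup.card_subgroup_dvd_card _).trans (Subgroup.card_subgroup_dvd_card G)
    have h2 : p ∣ p ^ k := hk ▸ P.dvd_card_of_dvd_card hdG
    rcases k with _ | _ | k
    · rw [pow_zero, Nat.dvd_one] at h2; exact absurd h2 hp.ne_one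
    · rwa [pow_one] at hk
    · exfalso
      have h4 : p ^ 1 * p ∣ p ^ 1 * m := (dvd_trans (by rw [← pow_succ]; exact pow_dvd_pow p (by omega)) h1)
      exact hmd (Nat.dvd_of_mul_dvd_mul_left (by rw [pow_one]; exact hp.pos) h4)
  set Q : Subgroup ↥G := (P : Subgroup ↥G) with hQ
  set NP : Subgroup ↥G := Subgroup.normalizer (Q : Set ↥G) with hNP
  have : Nontrivial ↥G := by
    rw [← Finite.one_lt_card_iff_nontrivial]
    exact hp.one_lt.trans_le (hPc ▸ Subgroup.card_le_card_group _)
  refine { eq_bot_or_eq_top_of_normal := fun N hN => ?_ }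
  rcases eq_or_ne N ⊥ with h0 | h0
  · exact Or.inl h0
  right
  have hall : ∀ R : Sylow p ↥G, (R : Subgroup ↥G) ≤ N := by
    intro R
    obtain ⟨x, hx⟩ := exists_prime_orderOf_dvd_card' (G := N) p (htrans N hN h0)
    have hx' : orderOf (x : ↥G) = p := by rw [Subgroup.orderOf_coe, hx]
    obtain ⟨R', hR'⟩ := (IsPGroup.of_card (n := 1) (by rw [Nat.card_zpowers, hx', pow_one] :
      Nat.card (Subgroup.zpowers (x : ↥G)) = p ^ 1)).exists_le_sylow
    have hR'N : (R' : Subgroup ↥G) ≤ N := by
      rw [← Subgroup.eq_of_le_of_card_ge hR' (by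
        rw [H62.card_sylow_eq R' P, hPc, Nat.card_zpowers, hx'])]
      exact Subgroup.zpowers_le.2 x.2
    obtain ⟨g, rfl⟩ := MulAction.exists_smul_eq ↥G R' R
    rw [Sylow.coe_subgroup_smul]
    rintro _ ⟨y, hy, rfl⟩
    exact hN.conj_mem y (hR'N hy) g
  have hsup : NP ⊔ N = ⊤ := P.normalizer_sup_eq_top' (hall P)
  have hPle : Q ≤ N ⊓ NP := le_inf (hall P) Subgroup.le_normalizer
  rcases (Nat.dvd_prime ht).1 (show (N.subgroupOf NP).index ∣ (Q.subgroupOf NP).index from
      Subgroup.relIndex_dvd_of_le_left NP (hall P)) with h1 | h1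
  · rw [sup_eq_right.2 (Subgroup.subgroupOf_eq_top.1 (Subgroup.index_eq_one.1 h1))] at hsup
    exact hsup
  exfalso
  have hinf : N ⊓ NP = Q := by
    have hc1 := Subgroup.card_mul_index (N.subgroupOf NP)
    have hc2 := Subgroup.card_mul_index (Q.subgroupOf NP)
    have he : Nat.card (N.subgroupOf NP) = Nat.card (Q.subgroupOf NP) := by
      rw [h1, ← hc2] at hc1
      exact Nat.eq_of_mul_eq_mul_right (Nat.pos_of_ne_zero ht.ne_zero) hc1
    rw [← Subgroup.inf_subgroupOf_right N NP,
      Nat.card_congr (Subgroup.subgroupOfEquivOfLe inf_le_right).toEquiv,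
      Nat.card_congr (Subgroup.subgroupOfEquivOfLe Subgroup.le_normalizer).toEquiv] at he
    exact (Subgroup.eq_of_le_of_card_ge hPle he.le).symm
  set P' : Sylow p N := P.subtype (hall P) with hP'
  have hP'N : Subgroup.normalizer ((P' : Subgroup N) : Set N) ≤ Subgroup.centralizer ((P' : Subgroup N) : Set N) := by
    have h1 : Subgroup.normalizer ((P' : Subgroup N) : Set N) = (P' : Subgroup N) := by
      rw [hP', Sylow.coe_subtype]
      show Subgroup.normalizer ((Q.subgroupOf N : Subgroup N) : Set N) = Q.subgroupOf N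
      rw [← Subgroup.subgroupOf_normalizer_eq (hall P), ← hNP, ← Subgroup.inf_subgroupOf_left, hinf]
    rw [h1, Subgroup.le_centralizer_iff_isMulCommutative]
    have : IsCyclic (P' : Subgroup N) := by
      apply isCyclic_of_prime_card (p := p)
      rw [hP', Sylow.coe_subtype]
      refine Eq.trans ?_ hPc
      exact Nat.card_congr (Subgroup.subgroupOfEquivOfLe (hall P)).toEquiv
    exact IsCyclic.isMulCommutative
  set K := (MonoidHom.transferSylow P' hP'N).ker with hK
  have hKnd : ¬ p ∣ Nat.card K := MonoidHom.not_dvd_card_ker_transferSylow P' hP'N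
  have hchar : ∀ x : N, x ∈ K ↔ ¬ p ∣ orderOf x := by
    intro x
    constructor
    · intro hx hd
      exact hKnd (hd.trans (by rw [← Subgroup.orderOf_mk x hx]; exact orderOf_dvd_natCard _))
    · intro hx
      rw [hK, MonoidHom.mem_ker, ← orderOf_eq_one_iff]
      have h1 := orderOf_map_dvd (MonoidHom.transferSylow P' hP'N) x
      obtain ⟨k, hk⟩ := P'.isPGroup'.exists_card_eq
      have h2 := orderOf_dvd_natCard (MonoidHom.transferSylow P' hP'N x)
      rw [hk] at h2
      exact Nat.eq_one_of_dvd_coprimes ((hp.coprime_iff_not_dvd.2 hx).pow_left k) h2 h1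
  have hKn : (K.map N.subtype).Normal := by
    refine ⟨fun a ha g => ?_⟩
    obtain ⟨x, hx, rfl⟩ := ha
    refine ⟨⟨g * (x : ↥G) * g⁻¹, hN.conj_mem _ x.2 g⟩, (hchar _).2 ?_, rfl⟩
    rw [Subgroup.orderOf_mk, show g * (x : ↥G) * g⁻¹ = MulAut.conj g (x : ↥G) from rfl,
      MulEquiv.orderOf_eq, Subgroup.orderOf_coe]
    exact (hchar x).1 hx
  rcases eq_or_ne (K.map N.subtype) ⊥ with hb | hb
  · rw [Subgroup.map_eq_bot_iff_of_injective _ N.subtype_injective] at hb
    have hc := MonoidHom.ker_transferSylow_isComplement' P' hP'N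
    rw [← hK, hb, Subgroup.isComplement'_bot_left, hP', Sylow.coe_subtype,
      Subgroup.subgroupOf_eq_top] at hc
    have he : N = Q := le_antisymm hc (hall P)
    have hPn : (P : Subgroup ↥G).Normal := by rw [← hQ, ← he]; exact hN
    have := (H62.card_sylow_eq_one_iff P).2 (Subgroup.normalizer_eq_top_iff.2 hPn)
    omega
  · have := htrans _ hKn hb
    rw [Subgroup.card_map_of_injective N.subtype_injective] at this
    exact hKnd this

end Cfsg.Agent.S1013
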