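import Cfsg.Statements.S1014
import Cfsg.Agent.H62.PermSylow
-- import your own Cfsg.Agent.* helpers here

set_option autoImplicit false
open Cfsg

namespace Cfsg.Agent.S1014

/-- No finite simple group has order 1104 = 2^4 * 3 * 23. -/
theorem result {G : Type*} [Group G] [Finite G] [IsSimpleGroup G] : Nat.card G ≠ 1104 := by
  intro h
  have hG : ¬ IsMulCommutative G := H62.not_comm_of_not_prime (by rw [h]; norm_num)
  have : Fact (Nat.Prime 23) := ⟨by norm_num⟩
  have hc : Nat.card G = 23 ^ 1 * 48 := by rw [h]; norm_num
  have hn := H62.sylow_number (p := 23) hG hc (by norm_num) one_pos 1 (by rw [h]; decide)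
  have h24 : Nat.card (Sylow 23 G) = 24 := by
    revert hn
    generalize Nat.card (Sylow 23 G) = n
    intro hn
    have hs : (Nat.divisors 48).filter (fun d => d % 23 = 1 ∧ 1 < d) = {24} := by decide +kernel
    rw [hs, Finset.mem_singleton] at hn
    exact hn
  obtain ⟨P⟩ := (inferInstance : Nonempty (Sylow 23 G))
  have hN := H62.card_normalizer_mul P
  rw [h24, h] at hN
  have hd := H62.two_mul_card_normalizer_sylow_dvd hG (by norm_num) P
    (by rw [H62.card_sylow_coe hc (by norm_num) P, pow_one]) (by omega)
  rw [h24, show Nat.card (Subgroup.normalizer ((P : Subgroup G) : Set G)) = 46 by omega] at hd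
  norm_num [Nat.factorial] at hd

end Cfsg.Agent.S1014
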