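import Cfsg.Statements.S1015
import Cfsg.Agent.H62.Intersect
-- import your own Cfsg.Agent.* helpers here

set_option autoImplicit false
open Cfsg

namespace Cfsg.Agent.S1015

/-- No finite simple group has order 1200 = 2^4 * 3 * 5^2. -/
theorem result {G : Type*} [Group G] [Finite G] [IsSimpleGroup G] : Nat.card G ≠ 1200 := by
  intro h
  have hG : ¬ IsMulCommutative G := H62.not_comm_of_not_prime (by rw [h]; norm_num)
  have : Fact (Nat.Prime 5) := ⟨by norm_num⟩
  have hc : Nat.card G = 5 ^ 2 * 48 := by rw [h]; norm_num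
  have h8 : ¬ 2 * Nat.card G ∣ Nat.factorial 8 := by rw [h]; decide +kernel
  have hn := H62.sylow_number (p := 5) hG hc (by norm_num) two_pos 8 h8
  have h16 : Nat.card (Sylow 5 G) = 16 := by
    revert hn
    generalize Nat.card (Sylow 5 G) = n
    intro hn
    have hs : (Nat.divisors 48).filter (fun d => d % 5 = 1 ∧ 8 < d) = {16} := by decide +kernel
    rw [hs, Finset.mem_singleton] at hn
    exact hn
  obtain ⟨D, M, -, -, hM, k, d, -, hik, hdk, hd1, hdm, -⟩ :=
    H62.exists_index_of_not_modEq (p := 5) hc (by norm_num) le_rfl (by rw [h16]; decide)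
  have hi := H62.lt_index hG h8 M hM
  have hk : 0 < k := by
    rcases Nat.eq_zero_or_pos k with rfl | hk
    · simp at hik
    · exact hk
  have hd6 : 6 ≤ d := by omega
  have := Nat.le_of_dvd hk hdk
  have : 9 * 6 ≤ M.index * k := Nat.mul_le_mul hi (by omega)
  omega

end Cfsg.Agent.S1015
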