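import Cfsg.Statements.S1058
import Cfsg.Agent.H52.B2Two

set_option autoImplicit false
open Cfsg

namespace Cfsg.Agent.S1058

/-- B₂(2) ≅ S₆. -/
theorem result {F : Type*} [Field F] [Fintype F] (hF : Fintype.card F = 2) :
    Nonempty (↥(Cfsg.Lie.chevB2.group F) ≃* Equiv.Perm (Fin 6)) := by
  let f : ZMod 2 ≃+* F := ZMod.ringEquivOfPrime F Nat.prime_two hF
  obtain ⟨e⟩ := H52.exists_group_congr Cfsg.Lie.chevB2 f
  obtain ⟨i⟩ := H52.b2_two_iso
  exact ⟨e.symm.trans i⟩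

end Cfsg.Agent.S1058
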