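import Cfsg.Statements.S1081
import Cfsg.Agent.H53.GraphTables

set_option autoImplicit false
open Cfsg

namespace Cfsg.Agent.S1081

/-- Graph automorphisms: for E₆ with ρ = (p₁ p₆)(p₃ p₅) and for D₄ with ρ the 3-cycle on the outer nodes there is a group automorphism sending `x_p(t) ↦ x_{ρ(p)}(t)` and `x_{-p}(t) ↦ x_{-ρ(p)}(t)` for every fundamental root `p`. -/
theorem result {F : Type*} [Field F] (p : Cfsg.Lie.ChevalleyDatum × List ℕ)
    (hp : p ∈ [(Cfsg.Lie.chevE6, [5, 1, 4, 3, 2, 0]), (Cfsg.Lie.chevD4, [2, 1, 3, 0]), (Cfsg.Lie.chevD4, [3, 1, 0, 2])]) :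
    ∃ α : ↥(p.1.group F) ≃* ↥(p.1.group F), ∀ (g : ↥(p.1.group F)) (i : ℕ) (t : F), i < p.1.rank →
      (((g : GL p.1.Idx F) : Matrix p.1.Idx p.1.Idx F) = p.1.x F (p.1.simple i) t →
        ((α g : GL p.1.Idx F) : Matrix p.1.Idx p.1.Idx F) = p.1.x F (p.1.simple (p.2.getD i 0)) t) ∧
      (((g : GL p.1.Idx F) : Matrix p.1.Idx p.1.Idx F) = p.1.x F (p.1.neg (p.1.simple i)) t →
        ((α g : GL p.1.Idx F) : Matrix p.1.Idx p.1.Idx F) = p.1.x F (p.1.neg (p.1.simple (p.2.getD i 0))) t) := by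
  simp only [List.mem_cons, List.not_mem_nil, or_false] at hp
  rcases hp with rfl | rfl | rfl
  · refine ⟨H53.BasisSym.aut F H53.e6Sym H53.e6Sym_valid, fun g i t hi => ?_⟩
    obtain ⟨h1, h2, h3, h4, h5, h6⟩ := H53.e6Sym_simple ⟨i, hi⟩
    refine ⟨fun h => ?_, fun h => ?_⟩
    · rw [H53.BasisSym.aut_x H53.e6Sym_valid F g _ t h5 h, h1, h2, Int.cast_one, one_mul]
    · rw [H53.BasisSym.aut_x H53.e6Sym_valid F g _ t h6 h, h3, h4, Int.cast_one, one_mul]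
  · refine ⟨H53.BasisSym.aut F H53.d4Sym H53.d4Sym_valid, fun g i t hi => ?_⟩
    obtain ⟨h1, h2, h3, h4, h5, h6⟩ := H53.d4Sym_simple ⟨i, hi⟩
    refine ⟨fun h => ?_, fun h => ?_⟩
    · rw [H53.BasisSym.aut_x H53.d4Sym_valid F g _ t h5 h, h1, h2, Int.cast_one, one_mul]
    · rw [H53.BasisSym.aut_x H53.d4Sym_valid F g _ t h6 h, h3, h4, Int.cast_one, one_mul]
  · refine ⟨H53.BasisSym.aut F H53.d4Sym2 H53.d4Sym2_valid, fun g i t hi => ?_⟩
    obtain ⟨h1, h2, h3, h4, h5, h6⟩ := H53.d4Sym2_simple ⟨i, hi⟩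
    refine ⟨fun h => ?_, fun h => ?_⟩
    · rw [H53.BasisSym.aut_x H53.d4Sym2_valid F g _ t h5 h, h1, h2, Int.cast_one, one_mul]
    · rw [H53.BasisSym.aut_x H53.d4Sym2_valid F g _ t h6 h, h3, h4, Int.cast_one, one_mul]

end Cfsg.Agent.S1081
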