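import Cfsg.Statements.S1098
import Cfsg.Agent.H53.ExcTables

set_option autoImplicit false
open Cfsg

namespace Cfsg.Agent.S1098

open Cfsg.Lie in
theorem graph_of_spec {K : Type*} [Field K] {D : ChevalleyDatum} {k : ℕ} {T : H52.Tables} (hC : H52.Checked D T)
    (W : H53.WeylFor D) (hok : H54.chainOK D = true) {sp : H53.IdealSpec D k} (hsp : sp.Ok) (hc : (sp.c : K) = 0)
    (hperf : ∀ x : K, ∃ y : K, y ^ sp.c = x) (l : List (ℕ × ℕ))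
    (htab : ∀ i : Fin D.rank, ∀ h : D.simple i.val < D.nroots, ∀ h' : D.neg (D.simple i.val) < D.nroots,
      (sp.ρ ⟨_, h⟩).val = D.simple (l.getD i.val (0, 1)).1 ∧
      (sp.ρ ⟨_, h'⟩).val = D.neg (D.simple (l.getD i.val (0, 1)).1) ∧
      sp.lam ⟨_, h⟩ = (l.getD i.val (0, 1)).2 ∧ sp.lam ⟨_, h'⟩ = (l.getD i.val (0, 1)).2) :
    ∃ α : ↥(D.group K) ≃* ↥(D.group K), ∀ (g : ↥(D.group K)) (i : ℕ) (t : K), i < D.rank →
      (((g : GL D.Idx K) : Matrix D.Idx D.Idx K) = D.x K (D.simple i) t →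
        ((α g : GL D.Idx K) : Matrix D.Idx D.Idx K) =
          D.x K (D.simple (l.getD i (0, 1)).1) (t ^ (l.getD i (0, 1)).2)) ∧
      (((g : GL D.Idx K) : Matrix D.Idx D.Idx K) = D.x K (D.neg (D.simple i)) t →
        ((α g : GL D.Idx K) : Matrix D.Idx D.Idx K) =
          D.x K (D.neg (D.simple (l.getD i (0, 1)).1)) (t ^ (l.getD i (0, 1)).2)) := by
  refine ⟨sp.graphAut hC hsp hc W hok hperf, fun g i t hi => ?_⟩
  have key : ∀ (r : Fin D.nroots) (s e : ℕ), (sp.ρ r).val = s → sp.lam r = e →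
      ((g : GL D.Idx K) : Matrix D.Idx D.Idx K) = D.x K r.val t →
      ((sp.graphAut hC hsp hc W hok hperf g : GL D.Idx K) : Matrix D.Idx D.Idx K) = D.x K s (t ^ e) := by
    intro r s e hs he hg
    have : g = (H53.matSys D K).x r t := Subtype.ext (hC.eq_rt hg)
    rw [this, sp.graphAut_x hC hsp hc W hok hperf, ← hs, ← he]
    exact hC.coe_rt _ _
  have h := hC.simple_lt hi
  obtain ⟨h1, h2, h3, h4⟩ := htab ⟨i, hi⟩ h (hC.neg_lt h)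
  exact ⟨key ⟨_, h⟩ _ _ h1 h3, key ⟨_, hC.neg_lt h⟩ _ _ h2 h4⟩

set_option backward.isDefEq.respectTransparency false in
theorem tabB2 : ∀ i : Fin Cfsg.Lie.chevB2.rank, ∀ h : Cfsg.Lie.chevB2.simple i.val < Cfsg.Lie.chevB2.nroots,
    ∀ h' : Cfsg.Lie.chevB2.neg (Cfsg.Lie.chevB2.simple i.val) < Cfsg.Lie.chevB2.nroots,
    (H53.b2Ideal.ρ ⟨_, h⟩).val = Cfsg.Lie.chevB2.simple ([(1, 2), (0, 1)].getD i.val (0, 1)).1 ∧
    (H53.b2Ideal.ρ ⟨_, h'⟩).val = Cfsg.Lie.chevB2.neg (Cfsg.Lie.chevB2.simple ([(1, 2), (0, 1)].getD i.val (0, 1)).1) ∧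
    H53.b2Ideal.lam ⟨_, h⟩ = ([(1, 2), (0, 1)].getD i.val (0, 1)).2 ∧
    H53.b2Ideal.lam ⟨_, h'⟩ = ([(1, 2), (0, 1)].getD i.val (0, 1)).2 := by decide +kernel

set_option backward.isDefEq.respectTransparency false in
theorem tabF4 : ∀ i : Fin Cfsg.Lie.chevF4.rank, ∀ h : Cfsg.Lie.chevF4.simple i.val < Cfsg.Lie.chevF4.nroots,
    ∀ h' : Cfsg.Lie.chevF4.neg (Cfsg.Lie.chevF4.simple i.val) < Cfsg.Lie.chevF4.nroots,
    (H53.f4Ideal.ρ ⟨_, h⟩).val = Cfsg.Lie.chevF4.simple ([(3, 2), (2, 2), (1, 1), (0, 1)].getD i.val (0, 1)).1 ∧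
    (H53.f4Ideal.ρ ⟨_, h'⟩).val =
      Cfsg.Lie.chevF4.neg (Cfsg.Lie.chevF4.simple ([(3, 2), (2, 2), (1, 1), (0, 1)].getD i.val (0, 1)).1) ∧
    H53.f4Ideal.lam ⟨_, h⟩ = ([(3, 2), (2, 2), (1, 1), (0, 1)].getD i.val (0, 1)).2 ∧
    H53.f4Ideal.lam ⟨_, h'⟩ = ([(3, 2), (2, 2), (1, 1), (0, 1)].getD i.val (0, 1)).2 := by decide +kernel

end Cfsg.Agent.S1098

namespace Cfsg.Agent.S1098

/-- Graph automorphisms in characteristic 2 (K perfect): for B₂ (a short, b long) `x_a(t) ↦ x_b(t²)`, `x_b(t) ↦ x_a(t)`, and for F₄ (p₁, p₂ short, p₃, p₄ long) `x_{p₁}(t) ↦ x_{p₄}(t²)`, `x_{p₂}(t) ↦ x_{p₃}(t²)`, `x_{p₃}(t) ↦ x_{p₂}(t)`, `x_{p₄}(t) ↦ x_{p₁}(t)`, likewise on the negatives, extend to an automorphism of the group. -/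
theorem result {K : Type*} [Field K] [CharP K 2] (hperf : ∀ x : K, ∃ y : K, y ^ 2 = x)
    (p : Cfsg.Lie.ChevalleyDatum × List (ℕ × ℕ))
    (hp : p ∈ [(Cfsg.Lie.chevB2, [(1, 2), (0, 1)]), (Cfsg.Lie.chevF4, [(3, 2), (2, 2), (1, 1), (0, 1)])]) :
    ∃ α : ↥(p.1.group K) ≃* ↥(p.1.group K), ∀ (g : ↥(p.1.group K)) (i : ℕ) (t : K), i < p.1.rank →
      (((g : GL p.1.Idx K) : Matrix p.1.Idx p.1.Idx K) = p.1.x K (p.1.simple i) t →
        ((α g : GL p.1.Idx K) : Matrix p.1.Idx p.1.Idx K) = p.1.x K (p.1.simple (p.2.getD i (0, 1)).1) (t ^ (p.2.getD i (0, 1)).2)) ∧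
      (((g : GL p.1.Idx K) : Matrix p.1.Idx p.1.Idx K) = p.1.x K (p.1.neg (p.1.simple i)) t →
        ((α g : GL p.1.Idx K) : Matrix p.1.Idx p.1.Idx K) = p.1.x K (p.1.neg (p.1.simple (p.2.getD i (0, 1)).1)) (t ^ (p.2.getD i (0, 1)).2)) := by
  have h2 : ((2 : ℕ) : K) = 0 := CharP.cast_eq_zero K 2
  simp only [List.mem_cons, List.not_mem_nil, or_false] at hp
  rcases hp with rfl | rfl
  · exact graph_of_spec H52.checkedB2 H53.weylForB2 (H54.chainOK_of_mem _ (by simp)) H53.b2Ideal_ok h2 hperf _ tabB2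
  · exact graph_of_spec H52.checkedF4 H53.weylForF4 (H54.chainOK_of_mem _ (by simp)) H53.f4Ideal_ok h2 hperf _ tabF4

end Cfsg.Agent.S1098
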