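import Cfsg.Statements.S1099
import Cfsg.Agent.H53.ExcTables
import Cfsg.Prelude.Def_LieTwisted

set_option autoImplicit false
open Cfsg

namespace Cfsg.Agent.S1099

/-- Graph automorphism of G₂ in characteristic 3 (K perfect): `x_a(t) ↦ x_b(t³)`, `x_b(t) ↦ x_a(t)`, `x_{-a}(t) ↦ x_{-b}(t³)`, `x_{-b}(t) ↦ x_{-a}(t)` extend to an automorphism of the group. -/
theorem result {K : Type*} [Field K] [CharP K 3] (hperf : ∀ x : K, ∃ y : K, y ^ 3 = x) :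
    ∃ α : ↥(Cfsg.Lie.chevG2.group K) ≃* ↥(Cfsg.Lie.chevG2.group K), ∀ (g : ↥(Cfsg.Lie.chevG2.group K)) (t : K),
      (((g : GL Cfsg.Lie.chevG2.Idx K) : Matrix _ _ K) = Cfsg.Lie.chevG2.x K Cfsg.Lie.g2a t →
        ((α g : GL Cfsg.Lie.chevG2.Idx K) : Matrix _ _ K) = Cfsg.Lie.chevG2.x K Cfsg.Lie.g2b (t ^ 3)) ∧
      (((g : GL Cfsg.Lie.chevG2.Idx K) : Matrix _ _ K) = Cfsg.Lie.chevG2.x K Cfsg.Lie.g2b t →
        ((α g : GL Cfsg.Lie.chevG2.Idx K) : Matrix _ _ K) = Cfsg.Lie.chevG2.x K Cfsg.Lie.g2a t) ∧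
      (((g : GL Cfsg.Lie.chevG2.Idx K) : Matrix _ _ K) = Cfsg.Lie.chevG2.x K Cfsg.Lie.g2ma t →
        ((α g : GL Cfsg.Lie.chevG2.Idx K) : Matrix _ _ K) = Cfsg.Lie.chevG2.x K Cfsg.Lie.g2mb (t ^ 3)) ∧
      (((g : GL Cfsg.Lie.chevG2.Idx K) : Matrix _ _ K) = Cfsg.Lie.chevG2.x K Cfsg.Lie.g2mb t →
        ((α g : GL Cfsg.Lie.chevG2.Idx K) : Matrix _ _ K) = Cfsg.Lie.chevG2.x K Cfsg.Lie.g2ma t) := by
  have hc : ((H53.g2Ideal.c : ℕ) : K) = 0 := CharP.cast_eq_zero K 3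
  let W := H53.weylForG2
  have hok : H54.chainOK Cfsg.Lie.chevG2 = true := H54.chainOK_of_mem _ (by simp)
  refine ⟨H53.g2Ideal.graphAut H52.checkedG2 H53.g2Ideal_ok hc W hok hperf, fun g t => ?_⟩
  have key : ∀ (r : Fin Cfsg.Lie.chevG2.nroots) (s e : ℕ), (H53.g2Ideal.ρ r).val = s → H53.g2Ideal.lam r = e →
      ((g : GL Cfsg.Lie.chevG2.Idx K) : Matrix _ _ K) = Cfsg.Lie.chevG2.x K r.val t →
      ((H53.g2Ideal.graphAut H52.checkedG2 H53.g2Ideal_ok hc W hok hperf g : GL Cfsg.Lie.chevG2.Idx K) :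
        Matrix _ _ K) = Cfsg.Lie.chevG2.x K s (t ^ e) := by
    intro r s e hs he hg
    have : g = (H53.matSys Cfsg.Lie.chevG2 K).x r t := Subtype.ext (H52.checkedG2.eq_rt hg)
    rw [this, H53.g2Ideal.graphAut_x H52.checkedG2 H53.g2Ideal_ok hc W hok hperf, ← hs, ← he]
    exact H52.checkedG2.coe_rt _ _
  refine ⟨key ⟨7, by decide +kernel⟩ _ 3 (by decide +kernel) (by decide +kernel), fun hg => ?_,
    key ⟨4, by decide +kernel⟩ _ 3 (by decide +kernel) (by decide +kernel), fun hg => ?_⟩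
  · have := key ⟨6, by decide +kernel⟩ Cfsg.Lie.g2a 1 (by decide +kernel) (by decide +kernel) hg
    rwa [pow_one] at this
  · have := key ⟨5, by decide +kernel⟩ Cfsg.Lie.g2ma 1 (by decide +kernel) (by decide +kernel) hg
    rwa [pow_one] at this

end Cfsg.Agent.S1099
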