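import Cfsg.Statements.S1118
import Cfsg.Agent.H66.RankOne

set_option autoImplicit false
open Cfsg

namespace Cfsg.Agent.S1118

/-- In the rank-one set-up (`G` finite and doubly transitive on `Ω`, `t` an involution moving `a`, `Q` normal in `G_a` with `G_a = Q D`, `Q ⊓ D = 1` for the two-point stabiliser `D = G_a ⊓ G_{t • a}`, `|Q|` even, `|D|` odd), the normaliser of a subset of `Q` containing a non-identity element lies in `G_a`; consequently `N_G(Q) = N_G(G_a) = G_a`. -/
theorem result {G Ω : Type*} [Group G] [Finite G] [MulAction G Ω] {a : Ω} {t : G} {Q : Subgroup G}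
    (hS : Cfsg.IsRankOneSetup G Ω a t Q) :
    (∀ X : Set G, X ⊆ (Q : Set G) → (∃ x ∈ X, x ≠ 1) → Subgroup.normalizer X ≤ MulAction.stabilizer G a) ∧
      Subgroup.normalizer (Q : Set G) = MulAction.stabilizer G a ∧
      Subgroup.normalizer (MulAction.stabilizer G a : Set G) = MulAction.stabilizer G a := by
  have hne : Q ≠ ⊥ := fun h => by simpa [h] using hS.even_card
  obtain ⟨q, hq, hq1⟩ := Q.bot_or_exists_ne_one.resolve_left hne
  have hN : ∀ X : Set G, X ⊆ (Q : Set G) → (∃ x ∈ X, x ≠ 1) →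
      Subgroup.normalizer X ≤ MulAction.stabilizer G a := by
    rintro X hX ⟨x, hx, hx1⟩ g hg
    have h1 : g⁻¹ * x * g ∈ X := by
      have := (Subgroup.mem_set_normalizer_iff.mp (inv_mem hg) x).mp hx
      rwa [inv_inv] at this
    have h2 := H66.R1.fix_a hS (hX h1)
    rw [mul_smul, mul_smul, inv_smul_eq_iff] at h2
    by_contra hga
    exact hx1 (H66.R1.eq_one_of_fix hS (hX hx) hga h2)
  refine ⟨hN, le_antisymm (hN _ le_rfl ⟨q, hq, hq1⟩) (H66.R1.le_normalizer hS),
    le_antisymm ?_ Subgroup.le_normalizer⟩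
  intro g hg
  have h2 : g⁻¹ * q * g ∈ MulAction.stabilizer G a := by
    have := (Subgroup.mem_normalizer_iff.mp (inv_mem hg) q).mp (hS.le hq)
    rwa [inv_inv] at this
  have h3 : (g⁻¹ * q * g) • a = a := h2
  rw [mul_smul, mul_smul, inv_smul_eq_iff] at h3
  by_contra hga
  exact hq1 (H66.R1.eq_one_of_fix hS hq hga h3)

end Cfsg.Agent.S1118
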