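import Cfsg.Statements.S1124
import Cfsg.Agent.H66.Inverted

set_option autoImplicit false
open scoped Pointwise
open Cfsg

namespace Cfsg.Agent.S1124

/-- Let `t` be an element of order 2 of a finite group normalising a subgroup `X` of odd order, `Y = C_X(t)` and `Z` the set of elements of `X` inverted by `t`. Then `(y, z) ↦ y z` is a bijection `Y × Z → X`, so `|X| = |Y| |Z|`, and the subgroup generated by `Z` is normal in `X`. -/
theorem result {M : Type*} [Group M] [Finite M]
    (t : M) (ht : orderOf t = 2) (X : Subgroup M) (hodd : Odd (Nat.card X))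
    (hnorm : ∀ x ∈ X, t * x * t⁻¹ ∈ X) :
    (∀ x ∈ X, ∃! p : M × M, p.1 ∈ X ⊓ Subgroup.centralizer {t} ∧ p.2 ∈ Cfsg.invertedBy X t ∧ x = p.1 * p.2) ∧
      Nat.card X = Nat.card ↥(X ⊓ Subgroup.centralizer {t}) * Nat.card (Cfsg.invertedBy X t) ∧
      ∀ x ∈ X, MulAut.conj x • Subgroup.closure (Cfsg.invertedBy X t) = Subgroup.closure (Cfsg.invertedBy X t) := by
  have htt := H66.mul_self_of_orderOf_two ht
  have hX := H66.odd_orderOf_of_mem_odd_card hodd
  refine ⟨fun x hx => H66.inverted_factor hX htt hnorm hx,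
    H66.card_inverted_factor hX htt hnorm, fun x hx => ?_⟩
  ext w
  rw [Subgroup.mem_pointwise_smul_iff_inv_smul_mem, ← map_inv]
  constructor
  · intro h
    have h' := H66.conj_closure_inverted hX htt hnorm hx h
    simpa [MulAut.smul_def, MulAut.conj_apply, mul_assoc] using h'
  · intro h
    have h' := H66.conj_closure_inverted hX htt hnorm (inv_mem hx) h
    simpa [MulAut.smul_def, MulAut.conj_apply, mul_assoc] using h'

end Cfsg.Agent.S1124
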