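import Cfsg.Statements.S1132
import Cfsg.Agent.H66.RankOne3
import Cfsg.Agent.S1129
import Cfsg.Agent.S1130
import Cfsg.Agent.S1131

set_option autoImplicit false
open Cfsg

namespace Cfsg.Agent.S1132

/-- In the rank-one set-up (`G` finite and doubly transitive on `Ω`, `t` an involution moving `a`, `Q` normal in `G_a` with `G_a = Q D`, `Q ⊓ D = 1` for the two-point stabiliser `D = G_a ⊓ G_{t • a}`, `|Q|` even, `|D|` odd), with the action faithful and `G` containing two distinct commuting involutions: a Sylow 2-subgroup of `Q` is abelian or a Suzuki 2-group. -/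
theorem result {G Ω : Type*} [Group G] [Finite G] [MulAction G Ω] [FaithfulSMul G Ω] {a : Ω} {t : G} {Q : Subgroup G}
    (hS : Cfsg.IsRankOneSetup G Ω a t Q)
    (h2 : ∃ x y : G, x ≠ 1 ∧ y ≠ 1 ∧ x ≠ y ∧ x * x = 1 ∧ y * y = 1 ∧ x * y = y * x)
    (S : Sylow 2 ↥Q) : IsMulCommutative (S : Subgroup ↥Q) ∨ Cfsg.IsSuzukiTwoGroup ↥(S : Subgroup ↥Q) := by
  classical
  by_cases hab : IsMulCommutative (S : Subgroup ↥Q)
  · exact Or.inl hab
  right
  haveI hnil := Cfsg.Agent.S1129.result hS h2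
  obtain ⟨hcen, -⟩ := Cfsg.Agent.S1130.result hS h2
  obtain ⟨C, hC, hCc, -⟩ := Cfsg.Agent.S1131.result hS h2
  haveI : (S : Subgroup Q).Normal :=
    (((Group.isNilpotent_of_finite_tfae (G := Q)).out 0 3 :) :
      Group.IsNilpotent Q ↔ ∀ (p : ℕ) (_ : Fact p.Prime) (P : Sylow p Q), (P : Subgroup Q).Normal).1
      hnil 2 inferInstance S
  haveI : Subsingleton (Sylow 2 Q) :=
    @Unique.instSubsingleton _ (Sylow.unique_of_normal S inferInstance)
  -- involutions of the point stabiliser lie in `S`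
  have hinS : ∀ s ∈ Cfsg.involutionsIn (MulAction.stabilizer G a : Set G),
      ∃ h : s ∈ Q, (⟨s, h⟩ : Q) ∈ (S : Subgroup Q) := by
    intro s hs
    refine ⟨(hcen s hs).1, ?_⟩
    set s' : Q := ⟨s, (hcen s hs).1⟩ with hs'
    have hp : IsPGroup 2 (Subgroup.zpowers s') := by
      refine IsPGroup.of_card (n := 1) ?_
      rw [Nat.card_zpowers, pow_one]
      exact orderOf_eq_prime (by rw [sq]; exact Subtype.ext hs.2.2)
        fun h => hs.2.1 (congrArg Subtype.val h)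
    obtain ⟨P, hP⟩ := hp.exists_le_sylow
    exact (Subsingleton.elim P S) ▸ hP (Subgroup.mem_zpowers s')
  have hfix : ∀ c ∈ C, c • a = a := fun c hc => by
    have h : c ∈ Cfsg.invertedBy (H66.R1.twoPt G a t) t := hC ▸ hc
    exact (H66.R1.mem_twoPt.1 h.1).1
  have hCK : ∀ c ∈ C, c⁻¹ ∈ Cfsg.invertedBy (H66.R1.twoPt G a t) t :=
    fun c hc => hC ▸ (inv_mem hc : c⁻¹ ∈ (C : Set G))
  have hmap : ∀ c ∈ C, ∀ x : Q, x ∈ (S : Subgroup Q) →
      ∃ h : c * (x : G) * c⁻¹ ∈ Q, (⟨_, h⟩ : Q) ∈ (S : Subgroup Q) := by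
    intro c hc x hx
    refine ⟨hS.conj_mem c (hfix c hc) _ x.2, ?_⟩
    let e : Q →* Q :=
      { toFun := fun y => ⟨c * y * c⁻¹, hS.conj_mem c (hfix c hc) _ y.2⟩
        map_one' := Subtype.ext (by simp)
        map_mul' := fun y z => Subtype.ext (by simp [mul_assoc]) }
    obtain ⟨P, hP⟩ := (S.isPGroup'.map e).exists_le_sylow
    exact (Subsingleton.elim P S) ▸ hP ⟨x, hx, rfl⟩
  let f : C → MulAut (S : Subgroup Q) := fun c =>
    { toFun := fun x => ⟨⟨c * ((x : Q) : G) * (c : G)⁻¹, (hmap c c.2 x x.2).1⟩, (hmap c c.2 x x.2).2⟩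
      invFun := fun x => ⟨⟨(c : G)⁻¹ * ((x : Q) : G) * (c : G)⁻¹⁻¹,
        (hmap (c : G)⁻¹ (inv_mem c.2) x x.2).1⟩, (hmap (c : G)⁻¹ (inv_mem c.2) x x.2).2⟩
      left_inv := fun x => Subtype.ext (Subtype.ext (by simp [mul_assoc]))
      right_inv := fun x => Subtype.ext (Subtype.ext (by simp [mul_assoc]))
      map_mul' := fun x y => Subtype.ext (Subtype.ext (by simp [mul_assoc])) }
  let F : C →* MulAut (S : Subgroup Q) :=
    { toFun := f
      map_one' := MulEquiv.ext fun x => Subtype.ext (Subtype.ext (by simp [f]))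
      map_mul' := fun c d => MulEquiv.ext fun x =>
        Subtype.ext (Subtype.ext (by simp [f, mul_assoc])) }
  have hinv : ∀ x : (S : Subgroup Q), x ≠ 1 → x * x = 1 →
      ((x : Q) : G) ∈ Cfsg.involutionsIn (MulAction.stabilizer G a : Set G) := by
    intro x hx1 hx2
    exact ⟨hS.le (x : Q).2, fun h => hx1 (Subtype.ext (Subtype.ext h)),
      congrArg (fun z : (S : Subgroup Q) => ((z : Q) : G)) hx2⟩
  haveI := hCc
  haveI : IsCyclic F.range := isCyclic_of_surjective _ F.rangeRestrict_surjective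
  refine ⟨inferInstance, S.isPGroup', ?_, ?_, F.range, inferInstance, ?_⟩
  · by_contra hcon
    push Not at hcon
    exact hab ⟨⟨hcon⟩⟩
  · obtain ⟨k, hk, hk1⟩ := H66.R1.exists_inverted_ne_one hS h2
    obtain ⟨s, hs⟩ := H66.R1.exists_invol hS
    have hs' := H66.R1.conj_involutionsIn' hS hs (H66.R1.mem_twoPt.1 hk.1).1
    obtain ⟨h1, h1'⟩ := hinS s hs
    obtain ⟨h3, h3'⟩ := hinS _ hs'
    refine ⟨⟨⟨s, h1⟩, h1'⟩, ⟨⟨_, h3⟩, h3'⟩, ?_, fun h => hs.2.1 ?_, ?_, fun h => hs'.2.1 ?_, ?_⟩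
    · intro h
      have h4 : s = k⁻¹ * s * k := congrArg (fun z : (S : Subgroup Q) => ((z : Q) : G)) h
      have h1K : (1 : G) ∈ Cfsg.invertedBy (H66.R1.twoPt G a t) t := ⟨one_mem _, by simp⟩
      exact hk1 (H66.R1.conj_injective hS hs hk h1K (by simpa using h4.symm))
    · exact congrArg (fun z : (S : Subgroup Q) => ((z : Q) : G)) h
    · exact Subtype.ext (Subtype.ext hs.2.2)
    · exact congrArg (fun z : (S : Subgroup Q) => ((z : Q) : G)) h
    · exact Subtype.ext (Subtype.ext hs'.2.2)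
  · intro x y hx1 hx2 hy1 hy2
    obtain ⟨k, hk, hke⟩ := H66.R1.exists_conj_inverted hS (hinv x hx1 hx2) (hinv y hy1 hy2)
    have hkC : k⁻¹ ∈ C := inv_mem (show k ∈ (C : Set G) from hC.symm ▸ hk)
    refine ⟨⟨F ⟨k⁻¹, hkC⟩, _, rfl⟩, Subtype.ext (Subtype.ext ?_), ?_⟩
    · show k⁻¹ * _ * k⁻¹⁻¹ = _
      rw [inv_inv, hke]
    · rintro ⟨g, c, rfl⟩ hg
      have h1 : (c : G) * ((x : Q) : G) * (c : G)⁻¹ = ((y : Q) : G) :=
        congrArg (fun z : (S : Subgroup Q) => ((z : Q) : G)) hg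
      have h3 : (c : G)⁻¹ = k :=
        H66.R1.conj_injective hS (hinv x hx1 hx2) (hCK c c.2) hk (by rw [inv_inv, h1, hke])
      refine Subtype.ext (congrArg F (Subtype.ext ?_))
      show (c : G) = k⁻¹
      rw [← h3, inv_inv]

end Cfsg.Agent.S1132
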