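import Cfsg.Statements.S1133
import Cfsg.Agent.H66.RankOneLin

set_option autoImplicit false
open Cfsg

namespace Cfsg.Agent.S1133

/-- In the rank-one set-up (`G` finite and doubly transitive on `Ω`, `t` an involution moving `a`, `Q` normal in `G_a` with `G_a = Q D`, `Q ⊓ D = 1` for the two-point stabiliser `D = G_a ⊓ G_{t • a}`, `|Q|` even, `|D|` odd), with the action faithful and `G` containing two distinct commuting involutions, with `V = C_D(t)`, `K` the elements of `D` inverted by `t` and `W = C_V(K)`: `V/W` is cyclic, i.e. `V = W ⟨v⟩` for some `v ∈ V`. -/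
theorem result {G Ω : Type*} [Group G] [Finite G] [MulAction G Ω] [FaithfulSMul G Ω] {a : Ω} {t : G} {Q : Subgroup G}
    (hS : Cfsg.IsRankOneSetup G Ω a t Q)
    (h2 : ∃ x y : G, x ≠ 1 ∧ y ≠ 1 ∧ x ≠ y ∧ x * x = 1 ∧ y * y = 1 ∧ x * y = y * x) :
    ∃ v ∈ (MulAction.stabilizer G a ⊓ MulAction.stabilizer G (t • a)) ⊓ Subgroup.centralizer {t},
      ((MulAction.stabilizer G a ⊓ MulAction.stabilizer G (t • a)) ⊓ Subgroup.centralizer {t} ⊓ Subgroup.centralizer (Cfsg.invertedBy (MulAction.stabilizer G a ⊓ MulAction.stabilizer G (t • a)) t)) ⊔ Subgroup.closure {v} =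
        (MulAction.stabilizer G a ⊓ MulAction.stabilizer G (t • a)) ⊓ Subgroup.centralizer {t} := by
  obtain ⟨Y, _, φ, A, hAn, hφ, hAc, hself, hmax, hfix, hker, hVc⟩ :=
    H66.RankOneLin.exists_rep hS h2
  rw [(Cfsg.Agent.S1127.result hS).2]
  set D := MulAction.stabilizer G a ⊓ MulAction.stabilizer G (t • a) with hD
  have hcyc := hVc (((D ⊓ Subgroup.centralizer {t}).subgroupOf D).map φ) (by
    rw [eq_bot_iff]
    rintro y ⟨⟨v, hv, rfl⟩, hvA⟩
    exact Subgroup.mem_bot.2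
      (hfix v (Subgroup.mem_centralizer_singleton_iff.1 (Subgroup.mem_subgroupOf.1 hv).2) hvA))
  obtain ⟨⟨g, v, hv, rfl⟩, hg⟩ := hcyc.exists_generator
  have hv' : (v : G) ∈ D ⊓ Subgroup.centralizer {t} := Subgroup.mem_subgroupOf.1 hv
  refine ⟨(v : G), hv', le_antisymm (sup_le ?_ ((Subgroup.closure_le _).2
    (Set.singleton_subset_iff.2 hv'))) ?_⟩
  · rw [← (Cfsg.Agent.S1127.result hS).2]
    exact inf_le_left
  · intro x hx
    obtain ⟨j, hj⟩ := Subgroup.mem_zpowers_iff.1 (hg ⟨φ ⟨x, hx.1⟩, _, Subgroup.mem_subgroupOf.2 hx, rfl⟩)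
    have hj' : φ v ^ j = φ ⟨x, hx.1⟩ := congrArg Subtype.val hj
    set w : D := ⟨x, hx.1⟩ * (v ^ j)⁻¹ with hwdef
    have hw : φ w = 1 := by rw [hwdef, map_mul, map_inv, map_zpow, hj', mul_inv_cancel]
    have hxe : x = (w : G) * (v : G) ^ j := by
      rw [hwdef]; simp
    rw [hxe]
    have e1 : (w : G) ∈ D ⊓ Subgroup.centralizer
        (Cfsg.involutionsIn (MulAction.stabilizer G a : Set G)) := ⟨w.2, (hker w).1 hw⟩
    have e2 : (v : G) ^ j ∈ Subgroup.closure ({(v : G)} : Set G) :=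
      Subgroup.zpow_mem _ (Subgroup.subset_closure (Set.mem_singleton _)) j
    exact Subgroup.mul_mem_sup e1 e2

end Cfsg.Agent.S1133
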