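import Cfsg.Statements.S1150
import Cfsg.Agent.H54.ReeTorus

set_option autoImplicit false
open Cfsg

namespace Cfsg.Agent.S1150

/-- In the small Ree group ²G₂(3^(2m+1)) the subgroup H¹ = G¹ ∩ H is cyclic. -/
theorem result {K : Type*} [Field K] [Fintype K] {m : ℕ} (hK : Fintype.card K = 3 ^ (2 * m + 1)) :
    IsCyclic ↥(Cfsg.Lie.chevG2.diagonalSubgroup K ⊓ Cfsg.Lie.twistedG2 K (3 ^ m)) := by
  obtain ⟨f, hf, -⟩ := H54.Ree.exists_embedding hK
  exact isCyclic_of_injective f hf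

end Cfsg.Agent.S1150
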