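import Cfsg.Statements.S1156
import Cfsg.Agent.H52.ReeTori

set_option autoImplicit false
open Cfsg

namespace Cfsg.Agent.S1156

/-- In the small Ree group ²G₂(q), q = 3^(2m+1) with m ≥ 1, realised as G¹ inside the Chevalley group G₂ over the field with q elements (θ the 3^m-th power map): for every prime `p > 3` the Sylow `p`-subgroups of `G¹` are cyclic. -/
theorem result {K : Type*} [Field K] [Fintype K] {m : ℕ} (hm : 1 ≤ m) (hK : Fintype.card K = 3 ^ (2 * m + 1))
    {p : ℕ} [Fact p.Prime] (hp : 3 < p) (P : Sylow p ↥(Cfsg.Lie.twistedG2 K (3 ^ m))) : IsCyclic (P : Subgroup ↥(Cfsg.Lie.twistedG2 K (3 ^ m))) := by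
  by_cases hd : p ∣ Nat.card ↥(Cfsg.Lie.twistedG2 K (3 ^ m))
  · obtain ⟨T, n, k, hT, hpn, -⟩ := H52.Ree2.prime_cases hK hm Fact.out hp hd
    exact hT.sylow_cyclic hpn P
  · have h : (P : Subgroup ↥(Cfsg.Lie.twistedG2 K (3 ^ m))) = ⊥ := by
      obtain ⟨k, hk⟩ := P.2.exists_card_eq
      rcases k with _ | k
      · exact Subgroup.card_eq_one.1 (by simpa using hk)
      · exact absurd ((Dvd.intro_left _ (pow_succ p k).symm).trans (hk ▸ Subgroup.card_subgroup_dvd_card _)) hd
    have : Subsingleton ↥(P : Subgroup ↥(Cfsg.Lie.twistedG2 K (3 ^ m))) := by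
      rw [h]; infer_instance
    infer_instance

end Cfsg.Agent.S1156
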