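import Cfsg.Statements.S1161
import Cfsg.Agent.S3360
import Cfsg.Agent.S0205
import Cfsg.Agent.H1.Fitting
import Cfsg.Agent.H81.Fitting

set_option autoImplicit false
open Cfsg

namespace Cfsg.Agent.S1161

universe uD uE

/-- The geometric sum is too large to be supported on `l` and `m`. -/
theorem geom_contra {l m b : ℕ} (hl : l.Prime) (hl2 : l ≠ 2) (hm : 0 < m)
    (h : (2 ^ m) ^ l - 1 ∣ l ^ b * (2 ^ m - 1) * (l * m)) : False := by
  haveI := Fact.mk hl
  set q := 2 ^ m with hq
  have hq1 : 1 < q := Nat.one_lt_two_pow hm.ne'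
  set P := ∑ i ∈ Finset.range l, q ^ i with hP
  have hgeom : q ^ l - 1 = (q - 1) * P := by
    zify [Nat.one_le_pow l q (by omega), hq1.le]
    rw [hP]
    push_cast
    exact (mul_geom_sum (q : ℤ) l).symm
  have hd : P ∣ l ^ (b + 1) * m := by
    have h1 : (q - 1) * P ∣ (q - 1) * (l ^ (b + 1) * m) := by
      rw [← hgeom]
      refine h.trans (dvd_of_eq ?_)
      ring
    exact Nat.dvd_of_mul_dvd_mul_left (by omega) h1
  have he : ¬ l ^ 2 ∣ P := by
    intro h2
    have h0 : ((P : ℕ) : ZMod l) = 0 := (ZMod.natCast_eq_zero_iff _ _).2 ((dvd_pow_self l two_ne_zero).trans h2)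
    have hql : ((q : ℕ) : ZMod l) ^ l = 1 := by
      have h3 : ((q : ℤ) : ZMod l) ^ l - 1 = (((q : ℤ) : ZMod l) - 1) * ((P : ℕ) : ZMod l) := by
        rw [← mul_geom_sum, hP]
        push_cast
        rfl
      rw [h0, mul_zero, sub_eq_zero] at h3
      exact_mod_cast h3
    rw [ZMod.pow_card] at hql
    obtain ⟨k, hk⟩ : l ∣ q - 1 := by
      rw [← ZMod.natCast_eq_zero_iff, Nat.cast_sub hq1.le, hql, Nat.cast_one, sub_self]
    have hx : ((l : ZMod (l ^ 2)) * k) * ((l : ZMod (l ^ 2)) * k) = 0 := by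
      have : ((l ^ 2 : ℕ) : ZMod (l ^ 2)) = 0 := ZMod.natCast_self _
      push_cast at this
      linear_combination (k : ZMod (l ^ 2)) ^ 2 * this
    have hpow : ∀ i : ℕ, (1 + (l : ZMod (l ^ 2)) * k) ^ i = 1 + i * ((l : ZMod (l ^ 2)) * k) := by
      intro i
      induction i with
      | zero => simp
      | succ i ih =>
        rw [pow_succ (1 + (l : ZMod (l ^ 2)) * k) i, ih]
        push_cast
        linear_combination (i : ZMod (l ^ 2)) * hx
    obtain ⟨t, ht⟩ : ∃ t, l = 2 * t + 1 := hl.odd_of_ne_two hl2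
    have hsum : ∑ i ∈ Finset.range l, i = l * t := by
      rw [Finset.sum_range_id, ht, Nat.add_sub_cancel, ← mul_assoc, mul_comm _ 2, mul_assoc,
        Nat.mul_div_cancel_left _ two_pos]
    have hPl : ((P : ℕ) : ZMod (l ^ 2)) = (l : ZMod (l ^ 2)) := by
      have hqk : ((q : ℕ) : ZMod (l ^ 2)) = 1 + (l : ZMod (l ^ 2)) * k := by
        rw [show q = 1 + l * k by omega]
        push_cast
        rfl
      rw [hP, Nat.cast_sum]
      simp only [Nat.cast_pow, hqk, hpow, Finset.sum_add_distrib, Finset.sum_const, Finset.card_range,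
        nsmul_eq_mul, mul_one]
      rw [← Finset.sum_mul, ← Nat.cast_sum, hsum]
      have : ((l ^ 2 : ℕ) : ZMod (l ^ 2)) = 0 := ZMod.natCast_self _
      push_cast at this ⊢
      linear_combination (t : ZMod (l ^ 2)) * k * this
    rw [(ZMod.natCast_eq_zero_iff _ _).2 h2] at hPl
    have := Nat.le_of_dvd hl.pos ((ZMod.natCast_eq_zero_iff l (l ^ 2)).1 hPl.symm)
    nlinarith [hl.two_le]
  have hle : P ≤ l * m := by
    refine Nat.le_of_dvd (Nat.mul_pos hl.pos hm) ?_
    by_cases hlP : l ∣ P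
    · obtain ⟨P', rfl'⟩ := hlP
      rw [rfl'] at he hd ⊢
      have hc : P'.Coprime (l ^ b) := ((hl.coprime_iff_not_dvd.2 fun h' => he (by
        rw [sq]; exact Nat.mul_dvd_mul_left l h')).symm).pow_right b
      refine Nat.mul_dvd_mul_left l (hc.dvd_of_dvd_mul_left (Nat.dvd_of_mul_dvd_mul_left hl.pos ?_))
      refine hd.trans (dvd_of_eq ?_)
      ring
    · exact (((hl.coprime_iff_not_dvd.2 hlP).symm.pow_right (b + 1)).dvd_of_dvd_mul_left hd).mul_left l
  have hbig : q ^ (l - 1) ≤ P :=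
    Finset.single_le_sum (f := fun i => q ^ i) (fun i _ => Nat.zero_le _)
      (Finset.mem_range.2 (Nat.sub_lt hl.pos one_pos))
  have hl3 : 3 ≤ l := by have := hl.two_le; omega
  have h4 : l < 2 ^ (l - 1) := by
    obtain ⟨d, rfl⟩ : ∃ d, l = d + 3 := ⟨l - 3, by omega⟩
    have h5 := Nat.lt_two_pow_self (n := d + 1)
    rw [show d + 3 - 1 = (d + 1) + 1 by omega, pow_succ]
    omega
  have h6 : m ≤ 2 ^ (m - 1) := by
    have := Nat.lt_two_pow_self (n := m - 1)
    omega
  have h7 : 2 ^ (l - 1) * 2 ^ (m - 1) ≤ q ^ (l - 1) := by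
    rw [hq, ← pow_add, ← pow_mul]
    refine Nat.pow_le_pow_right two_pos ?_
    obtain ⟨d, rfl⟩ : ∃ d, l = d + 3 := ⟨l - 3, by omega⟩
    obtain ⟨u, rfl⟩ : ∃ u, m = u + 1 := ⟨m - 1, by omega⟩
    simp only [Nat.add_sub_cancel, show d + 3 - 1 = d + 2 by omega]
    nlinarith
  have h8 : l * m < 2 ^ (l - 1) * 2 ^ (m - 1) :=
    lt_of_lt_of_le (Nat.mul_lt_mul_of_pos_right h4 hm) (Nat.mul_le_mul_left _ h6)
  omega

/-- Automorphisms of a finite field commute. -/
theorem ringAut_comm {F : Type*} [Field F] [Fintype F] (σ τ : F ≃+* F) (x : F) :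
    σ (τ x) = τ (σ x) := by
  by_cases hx : x = 0
  · simp [hx]
  obtain ⟨u, hu⟩ := IsCyclic.exists_generator (α := Fˣ)
  obtain ⟨i, hi⟩ := Subgroup.mem_zpowers_iff.1 (hu (Units.map σ.toRingHom.toMonoidHom u))
  obtain ⟨j, hj⟩ := Subgroup.mem_zpowers_iff.1 (hu (Units.map τ.toRingHom.toMonoidHom u))
  obtain ⟨k, hk⟩ := Subgroup.mem_zpowers_iff.1 (hu (Units.mk0 x hx))
  have key : ∀ (ρ : F ≃+* F) (a : ℤ), (u ^ a : Fˣ) = Units.map ρ.toRingHom.toMonoidHom u →
      ∀ b : ℤ, ρ (((u ^ b : Fˣ) : F)) = ((u ^ (a * b) : Fˣ) : F) := fun ρ a ha b => by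
    rw [zpow_mul, ha, ← map_zpow]
    rfl
  have hx' : x = ((u ^ k : Fˣ) : F) := by rw [hk]; rfl
  rw [hx', key τ j hj, key σ i hi, key σ i hi, key τ j hj, ← mul_assoc, ← mul_assoc, mul_comm i j]

/-- A group of automorphisms of a finite field of order `2 ^ n`: the order divides `n` and the fixed
elements number `2 ^ (n / order)`. -/
theorem fixed_card {F : Type*} [Field F] [Fintype F] {n : ℕ} (hF : Nat.card F = 2 ^ n)
    (H : Subgroup (F ≃+* F)) :
    ∃ j, n = j * Nat.card H ∧ Nat.card (FixedPoints.subfield H F) = 2 ^ j := by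
  haveI : Finite (F ≃+* F) := Finite.of_injective _ DFunLike.coe_injective
  haveI := Fintype.ofFinite H
  set K := FixedPoints.subfield H F
  have hfr : Module.finrank K F = Nat.card H := by
    rw [FixedPoints.finrank_eq_card, Nat.card_eq_fintype_card]
  have h1 : Nat.card F = Nat.card K ^ Nat.card H := by
    rw [Module.natCard_eq_pow_finrank (K := K), hfr]
  obtain ⟨j, -, hj⟩ := (Nat.dvd_prime_pow Nat.prime_two).1
    (show Nat.card K ∣ 2 ^ n from hF ▸ h1 ▸ dvd_pow_self _ Nat.card_pos.ne')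
  refine ⟨j, ?_, hj⟩
  rw [hF, hj, ← pow_mul] at h1
  exact Nat.pow_right_injective le_rfl h1

/-- Let `D` be a finite group of odd order acting faithfully by additive automorphisms on a finite elementary abelian `q`-group `E ≠ 0` (`q` prime), transitively on `E ∖ {0}`. Then the Fitting subgroup `F(D)` is cyclic, its non-identity elements fix only `0`, and `D/F(D)` is abelian (the derived subgroup lies in `F(D)`). -/
theorem result {D E : Type*} [Group D] [Finite D]
    [AddCommGroup E] [Finite E] [Nontrivial E] [DistribMulAction D E] [FaithfulSMul D E]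
    (hodd : Odd (Nat.card D)) {q : ℕ} (hq : q.Prime) (hE : ∀ e : E, q • e = 0)
    (htrans : ∀ a b : E, a ≠ 0 → b ≠ 0 → ∃ d : D, d • a = b) :
    IsCyclic ↥(Cfsg.fittingSubgroup D) ∧
      (∀ g ∈ Cfsg.fittingSubgroup D, g ≠ 1 → ∀ a : E, g • a = a → a = 0) ∧
      commutator D ≤ Cfsg.fittingSubgroup D := by
  classical
  haveI := Fact.mk hq
  letI : Module (ZMod q) E := AddCommGroup.zmodModule (n := q) (G := E) hE
  obtain ⟨v₀, hv₀⟩ := exists_ne (0 : E)
  set n := Module.finrank (ZMod q) E with hn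
  haveI : Module.Finite (ZMod q) E := Module.Finite.of_finite
  have hEcard : Nat.card E = q ^ n := by
    have h1 := Module.natCard_eq_pow_finrank (K := ZMod q) (V := E)
    rwa [Nat.card_zmod, ← hn] at h1
  have hn0 : 0 < n := Nat.pos_of_ne_zero fun h0 =>
    (Finite.one_lt_card (α := E)).ne' (by rw [hEcard, h0, pow_zero])
  have horb : q ^ n - 1 ∣ Nat.card D := by
    have h1 := MulAction.index_stabilizer D v₀
    have h2 : MulAction.orbit D v₀ = ({0}ᶜ : Set E) := by
      ext w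
      refine ⟨?_, fun hw => htrans v₀ w hv₀ hw⟩
      rintro ⟨d, rfl⟩
      exact fun e => hv₀ ((smul_eq_zero_iff_eq d).1 e)
    rw [h2, Set.ncard_compl, Set.ncard_singleton, hEcard] at h1
    exact h1 ▸ Subgroup.index_dvd_card _
  obtain rfl : q = 2 := by
    by_contra h2
    have h3 : Odd (q ^ n) := (hq.odd_of_ne_two h2).pow
    have h4 : Even (q ^ n - 1) := Nat.Odd.sub_odd h3 odd_one
    exact Nat.not_even_iff_odd.2 (hodd.of_dvd_nat horb) h4
  let ρ : D →* (E ≃ₗ[ZMod 2] E) := MonoidHom.mk'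
    (fun d => (DistribMulAction.toAddEquiv E d).toLinearEquiv fun c x => ZMod.map_smul (DistribMulAction.toAddEquiv E d) c x)
    fun d d' => LinearEquiv.ext fun x => mul_smul d d' x
  have hρ : ∀ d x, ρ d x = d • x := fun d x => rfl
  rcases Cfsg.Agent.S3360.result 2 (Cfsg.Agent.S0205.result hodd) ρ
    (fun d d' h => eq_of_smul_eq_smul (α := E) fun x => LinearEquiv.congr_fun h x)
    (fun v w hv hw => (htrans v w hv hw).imp fun d hd => (hρ d v).trans hd) with ⟨F, iF, iFt, e, he⟩ | hbad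
  swap
  · exfalso
    rw [hEcard] at hbad
    have h2 : Even (2 ^ n) := (Nat.even_pow).2 ⟨even_two, hn0.ne'⟩
    simp only [Set.mem_insert_iff, Set.mem_singleton_iff] at hbad
    obtain ⟨r, hr⟩ := h2
    omega
  haveI : Finite (F ≃+* F) := Finite.of_injective _ DFunLike.coe_injective
  have hF : Nat.card F = 2 ^ n := by rw [← hEcard]; exact (Nat.card_congr e.toEquiv).symm
  choose a σ haσ using fun d => he d
  have hval : ∀ d x, e (d • e.symm x) = a d * σ d x := fun d x => by
    rw [← hρ, haσ, AddEquiv.apply_symm_apply]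
  have ha : ∀ d, a d ≠ 0 := fun d h0 => by
    have h1 := hval d 1
    rw [h0, zero_mul, AddEquiv.map_eq_zero_iff, smul_eq_zero_iff_eq, AddEquiv.map_eq_zero_iff] at h1
    exact one_ne_zero h1
  have hmul : ∀ d d' x, a (d * d') * σ (d * d') x = a d * σ d (a d') * σ d (σ d' x) := fun d d' x => by
    rw [← hval, mul_smul]
    have h1 : d' • e.symm x = e.symm (a d' * σ d' x) := by rw [← hval, AddEquiv.symm_apply_apply]
    rw [h1, hval, map_mul, mul_assoc]
  have hamul : ∀ d d', a (d * d') = a d * σ d (a d') := fun d d' => by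
    have := hmul d d' 1
    simpa using this
  have hσmul : ∀ d d', σ (d * d') = σ d * σ d' := fun d d' => RingEquiv.ext fun x => by
    have h1 := hmul d d' x
    rw [hamul] at h1
    exact mul_left_cancel₀ (mul_ne_zero (ha d) (fun h0 => ha d' ((σ d).map_eq_zero_iff.1 h0))) h1
  let π : D →* (F ≃+* F) := MonoidHom.mk' σ hσmul
  set C := π.ker with hC
  have hσ1 : ∀ c ∈ C, ∀ x, σ c x = x := fun c hc x => by
    rw [show σ c = 1 from MonoidHom.mem_ker.1 hc]; rfl
  let f : C →* Fˣ := MonoidHom.mk' (fun c => Units.mk0 (a c) (ha c)) fun c c' => Units.ext (by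
    show a (c * c' : D) = a c * a c'
    rw [hamul, hσ1 c c.2])
  have hone : ∀ c ∈ C, a c = 1 → c = 1 := fun c hc h1 => eq_of_smul_eq_smul (α := E) fun v => by
    rw [one_smul]
    apply e.injective
    have := hval c (e v)
    rwa [AddEquiv.symm_apply_apply, h1, hσ1 c hc, one_mul] at this
  have hf : Function.Injective f := (injective_iff_map_eq_one f).2 fun c hc =>
    Subtype.ext (hone c c.2 (congrArg Units.val hc))
  haveI hCcyc : IsCyclic C := isCyclic_of_injective f hf
  have hCF : C ≤ Cfsg.fittingSubgroup D := by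
    letI := IsCyclic.commGroup (α := C)
    exact H1.le_fittingSubgroup inferInstance
  have hFC : Cfsg.fittingSubgroup D ≤ C := by
    intro g hg
    by_contra hgC
    obtain ⟨l, hl, hld⟩ := Nat.exists_prime_and_dvd (mt orderOf_eq_one_iff.1 hgC : orderOf (π g) ≠ 1)
    haveI := Fact.mk hl
    have hgpos := orderOf_pos g
    obtain ⟨v, k, hlk, hgo⟩ := Nat.exists_eq_pow_mul_and_not_dvd hgpos.ne' l hl.ne_one
    set g₁ := g ^ k with hg₁
    have hg₁p : g₁ ^ l ^ v = 1 := by rw [hg₁, ← pow_mul, mul_comm, ← hgo, pow_orderOf_eq_one]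
    have hπ₁ : π g₁ ≠ 1 := fun h1 => hlk (hld.trans (orderOf_dvd_of_pow_eq_one (by rw [← map_pow]; exact h1)))
    obtain ⟨w, hwv, hw⟩ := (Nat.dvd_prime_pow hl).1
      (orderOf_dvd_of_pow_eq_one (by rw [← map_pow, hg₁p, map_one] : (π g₁) ^ l ^ v = 1))
    obtain ⟨w, rfl⟩ : ∃ w', w = w' + 1 := ⟨w - 1, by
      have : w ≠ 0 := fun h0 => hπ₁ (orderOf_eq_one_iff.1 (by rw [hw, h0, pow_zero]))
      omega⟩
    set g₂ := g₁ ^ l ^ w with hg₂
    have hg₂F : g₂ ∈ Cfsg.fittingSubgroup D := pow_mem (pow_mem hg _) _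
    have hg₂p : g₂ ^ l ^ v = 1 := by rw [hg₂, ← pow_mul, mul_comm, pow_mul, hg₁p, one_pow]
    have hs : orderOf (π g₂) = l := by
      rw [hg₂, map_pow, orderOf_pow' _ (pow_ne_zero _ hl.ne_zero), hw,
        Nat.gcd_eq_right (pow_dvd_pow l (Nat.le_succ w)), pow_succ',
        Nat.mul_div_cancel _ (pow_pos hl.pos _)]
    have hl2 : l ≠ 2 := by
      rintro rfl
      have h1 : 2 ∣ Nat.card D := (hld.trans (orderOf_map_dvd π g)).trans (orderOf_dvd_natCard g)
      exact Nat.not_even_iff_odd.2 hodd (even_iff_two_dvd.2 h1)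
    obtain ⟨m, hnm, hK⟩ := fixed_card hF (Subgroup.zpowers (π g₂))
    rw [Nat.card_zpowers, hs] at hnm
    have hm : 0 < m := Nat.pos_of_ne_zero fun h0 => hn0.ne' (by rw [hnm, h0, zero_mul])
    have hcop : ∀ c ∈ C, (orderOf c).Coprime l → c ^ (2 ^ m - 1) = 1 := by
      intro c hc hco
      have hFn := H1.isNilpotent_fittingSubgroup D
      have hcomm : c * g₂ = g₂ * c := by
        have h1 := H81.commute_of_coprime_orderOf hFn (x := (⟨c, hCF hc⟩ : Cfsg.fittingSubgroup D))
          (y := ⟨g₂, hg₂F⟩) (by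
            rw [Subgroup.orderOf_mk, Subgroup.orderOf_mk]
            exact (hco.pow_right v).coprime_dvd_right (orderOf_dvd_of_pow_eq_one hg₂p))
        exact congrArg Subtype.val h1.eq
      have hfix : σ g₂ (a c) = a c := by
        have h1 := congrArg a hcomm
        rw [hamul, hamul, hσ1 c hc, mul_comm (a c)] at h1
        exact (mul_left_cancel₀ (ha g₂) h1).symm
      have hmem : a c ∈ FixedPoints.subfield (Subgroup.zpowers (π g₂)) F := by
        rintro ⟨ρ', hρ'⟩
        exact (MulAction.mem_stabilizer_iff).1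
          ((Subgroup.zpowers_le.2 (MulAction.mem_stabilizer_iff.2 hfix :
            π g₂ ∈ MulAction.stabilizer (F ≃+* F) (a c))) hρ')
      haveI := Fintype.ofFinite ↥(FixedPoints.subfield (Subgroup.zpowers (π g₂)) F)
      have h2 : (⟨a c, hmem⟩ : FixedPoints.subfield (Subgroup.zpowers (π g₂)) F) ^ (2 ^ m - 1) = 1 := by
        rw [← hK, Nat.card_eq_fintype_card]
        exact FiniteField.pow_card_sub_one_eq_one _ fun h0 => ha c (congrArg Subtype.val h0)
      have h3 : f ⟨c, hc⟩ ^ (2 ^ m - 1) = 1 := Units.ext (congrArg Subtype.val h2)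
      rw [← map_pow] at h3
      exact congrArg Subtype.val (hf (h3.trans (map_one f).symm))
    obtain ⟨b, r, hlr, hCo⟩ := Nat.exists_eq_pow_mul_and_not_dvd (Nat.card_pos (α := C)).ne' l hl.ne_one
    obtain ⟨⟨c₀, hc₀⟩, hgen⟩ := IsCyclic.exists_generator (α := C)
    have hc₀o : orderOf c₀ = Nat.card C := by
      rw [← Subgroup.orderOf_mk c₀ hc₀]; exact orderOf_eq_card_of_forall_mem_zpowers hgen
    have hCd : Nat.card C ∣ l ^ b * (2 ^ m - 1) := by
      rw [← hc₀o]
      refine orderOf_dvd_of_pow_eq_one ?_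
      rw [pow_mul]
      refine hcop _ (pow_mem hc₀ _) (Nat.Coprime.coprime_dvd_left (orderOf_dvd_of_pow_eq_one ?_)
        (hl.coprime_iff_not_dvd.2 hlr).symm)
      rw [← pow_mul, ← hCo, ← hc₀o, pow_orderOf_eq_one]
    obtain ⟨j, hnj, -⟩ := fixed_card hF π.range
    have hD : Nat.card D ∣ l ^ b * (2 ^ m - 1) * (l * m) := by
      rw [← π.ker.card_mul_index, Subgroup.index_ker, mul_comm l m, ← hnm]
      exact Nat.mul_dvd_mul hCd ⟨j, by rw [mul_comm]; exact hnj⟩
    refine geom_contra (b := b) hl hl2 hm ((dvd_of_eq ?_).trans (horb.trans hD))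
    rw [← pow_mul, ← hnm]
  have hFe : Cfsg.fittingSubgroup D = C := le_antisymm hFC hCF
  rw [hFe]
  refine ⟨hCcyc, fun g hg hg1 v hv => ?_, ?_⟩
  · by_contra hv0
    refine hg1 (hone g hg ?_)
    have h1 := hval g (e v)
    rw [AddEquiv.symm_apply_apply, hv, hσ1 g hg] at h1
    exact (mul_eq_right₀ fun h0 => hv0 (e.map_eq_zero_iff.1 h0)).1 h1.symm
  · rw [commutator_def, Subgroup.commutator_le]
    intro x _ y _
    rw [hC, MonoidHom.mem_ker, map_commutatorElement, commutatorElement_eq_one_iff_mul_comm]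
    exact RingEquiv.ext fun z => ringAut_comm (π x) (π y) z

end Cfsg.Agent.S1161
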