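import Cfsg.Statements.S1163
import Cfsg.Agent.H57.SzForm
import Cfsg.Agent.H57.SzTwo
-- import your own Cfsg.Agent.* helpers here

set_option autoImplicit false
open Cfsg

namespace Cfsg.Agent.S1163

/-- For the Suzuki group Sz(q), q = 2^(2m+1) ≥ 8, realised as the elements g of Sp₄(F) with g* = g^θ (θ the 2^(m+1)-th power map, so that θ² is squaring): `|Sz(q)| = q² (q - 1) (q² + 1)`, and there is a Sylow 2-subgroup `S` whose normaliser `H` has order `q²(q-1)` and index `q² + 1`, the action of `Sz(q)` on the cosets of `H` is doubly transitive, and `S` acts regularly on the cosets other than `H` itself. -/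
theorem result {F : Type*} [Field F] [Fintype F] {m : ℕ} (hm : 1 ≤ m) (hF : Fintype.card F = 2 ^ (2 * m + 1)) :
    Nat.card ↥(Cfsg.Lie.Sz F (2 ^ (m + 1))) = (2 ^ (2 * m + 1)) ^ 2 * (2 ^ (2 * m + 1) - 1) * ((2 ^ (2 * m + 1)) ^ 2 + 1) ∧
    ∃ S : Sylow 2 ↥(Cfsg.Lie.Sz F (2 ^ (m + 1))),
      Nat.card (Subgroup.normalizer ((S : Subgroup ↥(Cfsg.Lie.Sz F (2 ^ (m + 1)))) : Set ↥(Cfsg.Lie.Sz F (2 ^ (m + 1))))) = (2 ^ (2 * m + 1)) ^ 2 * (2 ^ (2 * m + 1) - 1) ∧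
      (Subgroup.normalizer ((S : Subgroup ↥(Cfsg.Lie.Sz F (2 ^ (m + 1)))) : Set ↥(Cfsg.Lie.Sz F (2 ^ (m + 1))))).index = (2 ^ (2 * m + 1)) ^ 2 + 1 ∧
      MulAction.IsMultiplyPretransitive ↥(Cfsg.Lie.Sz F (2 ^ (m + 1))) (↥(Cfsg.Lie.Sz F (2 ^ (m + 1))) ⧸ Subgroup.normalizer ((S : Subgroup ↥(Cfsg.Lie.Sz F (2 ^ (m + 1)))) : Set ↥(Cfsg.Lie.Sz F (2 ^ (m + 1))))) 2 ∧
      ∀ x y : ↥(Cfsg.Lie.Sz F (2 ^ (m + 1))) ⧸ Subgroup.normalizer ((S : Subgroup ↥(Cfsg.Lie.Sz F (2 ^ (m + 1)))) : Set ↥(Cfsg.Lie.Sz F (2 ^ (m + 1)))),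
        x ≠ (QuotientGroup.mk 1) → y ≠ (QuotientGroup.mk 1) → ∃! s : ↥(S : Subgroup ↥(Cfsg.Lie.Sz F (2 ^ (m + 1)))), (s : ↥(Cfsg.Lie.Sz F (2 ^ (m + 1)))) • x = y :=
  by
  classical
  haveI : Fact (Nat.Prime 2) := ⟨Nat.prime_two⟩
  let e := H57.lieSzEquiv hm hF
  have hG : Nat.card ↥(Cfsg.Lie.Sz F (2 ^ (m + 1))) =
      (2 ^ (2 * m + 1)) ^ 2 * (2 ^ (2 * m + 1) - 1) * ((2 ^ (2 * m + 1)) ^ 2 + 1) := by
    rw [← Nat.card_congr e.toEquiv, H57.card_sz hm hF]; ring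
  refine ⟨hG, ?_⟩
  set T := (H57.tSub hF).map e.toMonoidHom with hTdef
  have hTcard : Nat.card T = (2 ^ (2 * m + 1)) ^ 2 := by
    rw [hTdef, Subgroup.card_map_of_injective (f := e.toMonoidHom) e.injective, H57.card_tSub]
  have hTi : ¬ 2 ∣ T.index := by
    rw [hTdef]
    exact (Subgroup.index_map_equiv (H57.tSub hF) e).symm ▸ H57.tSub_index_odd hm hF
  let S : Sylow 2 ↥(Cfsg.Lie.Sz F (2 ^ (m + 1))) :=
    ((H57.tSub_isPGroup hF).map e.toMonoidHom).toSylow hTi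
  refine ⟨S, ?_⟩
  set B := MulAction.stabilizer (Cfsg.Sz F m) (Cfsg.suzukiPointInfinity F) with hB
  have hN : Subgroup.normalizer ((S : Subgroup ↥(Cfsg.Lie.Sz F (2 ^ (m + 1)))) :
      Set ↥(Cfsg.Lie.Sz F (2 ^ (m + 1)))) = B.map e.toMonoidHom := by
    show Subgroup.normalizer (T : Set ↥(Cfsg.Lie.Sz F (2 ^ (m + 1)))) = _
    rw [hTdef, ← Subgroup.map_equiv_normalizer_eq, H57.normalizer_tSub hm hF]
  rw [hN]
  set H := B.map e.toMonoidHom
  have hcH : Nat.card H = (2 ^ (2 * m + 1)) ^ 2 * (2 ^ (2 * m + 1) - 1) := by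
    rw [Subgroup.card_map_of_injective (f := e.toMonoidHom) e.injective, hB,
      H57.card_stab_infty hm hF]
  have hidx : H.index = (2 ^ (2 * m + 1)) ^ 2 + 1 := by
    have h := H.card_mul_index
    rw [hcH, hG] at h
    have h1 : 2 ≤ 2 ^ (2 * m + 1) := Nat.le_self_pow (by omega) 2
    exact Nat.eq_of_mul_eq_mul_left (Nat.mul_pos (pow_pos (by omega) 2) (by omega)) h
  refine ⟨hcH, hidx, ?_, ?_⟩
  all_goals
    have hmemH : ∀ g : Cfsg.Sz F m, e g ∈ H ↔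
        g • Cfsg.suzukiPointInfinity F = Cfsg.suzukiPointInfinity F := fun g => by
      rw [← MulAction.mem_stabilizer_iff, ← hB]
      exact Subgroup.mem_map_iff_mem (f := e.toMonoidHom) e.injective
    have hmk : ∀ g g' : Cfsg.Sz F m, (QuotientGroup.mk (e g) : _ ⧸ H) = QuotientGroup.mk (e g') ↔
        g • Cfsg.suzukiPointInfinity F = g' • Cfsg.suzukiPointInfinity F := fun g g' => by
      rw [QuotientGroup.eq, ← map_inv, ← map_mul, hmemH, mul_smul, inv_smul_eq_iff, eq_comm]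
    have hsur : ∀ x : _ ⧸ H, ∃ g : Cfsg.Sz F m, x = QuotientGroup.mk (e g) := fun x => by
      obtain ⟨y, rfl⟩ := QuotientGroup.mk_surjective x
      exact ⟨e.symm y, by rw [MulEquiv.apply_symm_apply]⟩
  · rw [MulAction.is_two_pretransitive_iff]
    intro a b c d hab hcd
    obtain ⟨a, rfl⟩ := hsur a
    obtain ⟨b, rfl⟩ := hsur b
    obtain ⟨c, rfl⟩ := hsur c
    obtain ⟨d, rfl⟩ := hsur d
    rw [Ne, hmk] at hab hcd
    haveI := H57.two_pretransitive (m := m) hF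
    have h2 : ∀ {a b c d : Cfsg.suzukiOvoid F m}, a ≠ b → c ≠ d →
        ∃ g : Cfsg.Sz F m, g • a = c ∧ g • b = d :=
      MulAction.is_two_pretransitive_iff.mp
        (inferInstanceAs (MulAction.IsMultiplyPretransitive (Cfsg.Sz F m) (Cfsg.suzukiOvoid F m) 2))
    obtain ⟨g, hga, hgb⟩ := h2
      (a := ⟨_, H57.sz_smul_mem a H57.infty_mem⟩) (b := ⟨_, H57.sz_smul_mem b H57.infty_mem⟩)
      (c := ⟨_, H57.sz_smul_mem c H57.infty_mem⟩) (d := ⟨_, H57.sz_smul_mem d H57.infty_mem⟩)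
      (fun h => hab (congrArg Subtype.val h)) (fun h => hcd (congrArg Subtype.val h))
    refine ⟨e g, ?_, ?_⟩
    · rw [MulAction.Quotient.smul_mk, smul_eq_mul, ← map_mul, hmk, mul_smul]
      exact congrArg Subtype.val hga
    · rw [MulAction.Quotient.smul_mk, smul_eq_mul, ← map_mul, hmk, mul_smul]
      exact congrArg Subtype.val hgb
  · intro x y hx hy
    obtain ⟨x, rfl⟩ := hsur x
    obtain ⟨y, rfl⟩ := hsur y
    rw [← map_one e, Ne, hmk, one_smul] at hx hy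
    obtain ⟨a, b, hab⟩ := (H57.mem_ovoid.mp (H57.sz_smul_mem x H57.infty_mem)).resolve_left hx
    obtain ⟨c, d, hcd⟩ := (H57.mem_ovoid.mp (H57.sz_smul_mem y H57.infty_mem)).resolve_left hy
    refine ⟨⟨e (H57.tEl hF (c - a) (d - b - H57.th m (c - a) * a)),
      ⟨_, H57.tEl_mem_tSub hF _ _, rfl⟩⟩, ?_, ?_⟩
    · show e _ • (QuotientGroup.mk (e x) : _ ⧸ H) = _
      rw [MulAction.Quotient.smul_mk, smul_eq_mul, ← map_mul, hmk, mul_smul, hab, hcd, H57.tEl_ovPt]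
      congr 1 <;> ring
    · rintro ⟨_, s, ⟨a', b', rfl⟩, rfl⟩ hs
      have hs' : e (H57.tEl hF a' b') • (QuotientGroup.mk (e x) : _ ⧸ H) =
          QuotientGroup.mk (e y) := hs
      rw [MulAction.Quotient.smul_mk, smul_eq_mul, ← map_mul, hmk, mul_smul, hab, hcd,
        H57.tEl_ovPt] at hs'
      obtain ⟨h1, h2⟩ := H57.ovPt_inj hs'
      have ha : a' = c - a := by rw [← h1]; ring
      subst ha
      have hb : b' = d - b - H57.th m (c - a) * a := by rw [← h2]; ring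
      subst hb
      rfl

end Cfsg.Agent.S1163
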