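import Cfsg.Statements.S1176
import Cfsg.Agent.H66.Isolated

set_option autoImplicit false
open Cfsg
open scoped commutatorElement

namespace Cfsg.Agent.S1176

/-- Let x₀ be an involution of the finite group G and D its conjugacy class. Assume (a) for each x ∈ D the subgroup W(x) generated by the members of D commuting with x is a 2-group of nilpotency class at most 2, and (b) the product of two distinct commuting members of D again lies in D. Then for all x, y ∈ D, if xy has even order greater than 2, its order is 4. -/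
theorem result {G : Type*} [Group G] [Finite G] (x₀ : G) (hx₀ : orderOf x₀ = 2) (ha : ∀ x : G, IsConj x₀ x → IsPGroup 2 ↥(Subgroup.closure {y : G | IsConj x₀ y ∧ Commute y x}) ∧ ⁅⁅Subgroup.closure {y : G | IsConj x₀ y ∧ Commute y x}, Subgroup.closure {y : G | IsConj x₀ y ∧ Commute y x}⁆, Subgroup.closure {y : G | IsConj x₀ y ∧ Commute y x}⁆ = ⊥) (hb : ∀ x y : G, IsConj x₀ x → IsConj x₀ y → x ≠ y → Commute x y → IsConj x₀ (x * y)) (x y : G) (hx : IsConj x₀ x) (hy : IsConj x₀ y) (heven : Even (orderOf (x * y))) (hgt : 2 < orderOf (x * y)) : orderOf (x * y) = 4 := by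
  have hconj : ∀ (w g : G), IsConj x₀ w → IsConj x₀ (g * w * g⁻¹) := fun w g hw =>
    hw.trans (isConj_iff.mpr ⟨g, rfl⟩)
  have hsq : ∀ w, IsConj x₀ w → w * w = 1 := fun w hw => by
    obtain ⟨g, rfl⟩ := isConj_iff.mp hw
    rw [conj_mul, H66.mul_self_of_orderOf_two hx₀, mul_one, mul_inv_cancel]
  have hxx := hsq x hx
  have hyy := hsq y hy
  set c := x * y with hc
  obtain ⟨m, hm⟩ := heven
  set z := c ^ m with hz
  have hz1 : z ≠ 1 := fun h => by
    have := Nat.le_of_dvd (by omega) (orderOf_dvd_of_pow_eq_one h)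
    omega
  have hzz : z * z = 1 := by rw [hz, ← pow_add, ← hm, pow_orderOf_eq_one]
  have hxc : x * c * x⁻¹ = c⁻¹ := H66.inverts_mul hxx hyy
  have hxci : ∀ i : ℕ, c ^ i * x * (c ^ i)⁻¹ = c ^ (2 * i) * x := fun i => by
    have h := H66.inverted_of_mem_zpowers hxc (Subgroup.npow_mem_zpowers c i)
    rw [mul_inv_eq_iff_eq_mul] at h
    have h2 : x * (c ^ i)⁻¹ = c ^ i * x := by
      calc x * (c ^ i)⁻¹ = c ^ i * ((c ^ i)⁻¹ * x) * (c ^ i)⁻¹ := by group
        _ = c ^ i * (x * c ^ i) * (c ^ i)⁻¹ := by rw [← h]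
        _ = c ^ i * x := by group
    rw [mul_assoc, h2, ← mul_assoc, ← pow_add, ← two_mul]
  have hzx : z * x = x * z := by
    have h := H66.inverted_of_mem_zpowers hxc (Subgroup.npow_mem_zpowers c m)
    rw [← hz, H66.inv_eq_self_of_sq hzz, mul_inv_eq_iff_eq_mul] at h
    exact h.symm
  have hye : y = x * c := by rw [hc, ← mul_assoc, hxx, one_mul]
  have hzy : z * y = y * z := by
    rw [hye]
    exact (Commute.mul_right hzx ((Commute.refl c).pow_left m)).eq
  have hzD : IsConj x₀ z := by
    obtain ⟨j, hj | hj⟩ := Nat.even_or_odd' m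
    · have h1 : IsConj x₀ (z * x) := by
        rw [hz, hj, ← hxci]; exact hconj _ _ hx
      have h2 := hb x (z * x) hx h1 (fun h => hz1 (by simpa using h.symm)) (by
        exact Commute.mul_right (show Commute x z from hzx.symm) (Commute.refl x))
      rwa [hzx, ← mul_assoc, hxx, one_mul] at h2
    · have h1 : IsConj x₀ (y * z) := by
        have e : y * z = c ^ (2 * j) * x := by
          have hci : c⁻¹ * x = y := by
            rw [hc, mul_inv_rev, H66.inv_eq_self_of_sq hxx, H66.inv_eq_self_of_sq hyy,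
              mul_assoc, hxx, mul_one]
          rw [← hzy, ← hci, hz, hj, pow_succ]
          group
        rw [e, ← hxci]; exact hconj _ _ hx
      have h2 := hb y (y * z) hy h1 (fun h => hz1 (by simpa using h.symm)) (by
        show y * (y * z) = y * z * y
        rw [mul_assoc y z y, hzy])
      rwa [← mul_assoc, hyy, one_mul] at h2
  obtain ⟨hp, hcl⟩ := ha z hzD
  set W := Subgroup.closure {w : G | IsConj x₀ w ∧ Commute w z}
  have hxW : x ∈ W := Subgroup.subset_closure ⟨hx, hzx.symm⟩
  have hyW : y ∈ W := Subgroup.subset_closure ⟨hy, hzy.symm⟩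
  have hcc : ⁅⁅x, y⁆, x⁆ = 1 := by
    have h := Subgroup.commutator_mem_commutator (Subgroup.commutator_mem_commutator hxW hyW) hxW
    rw [hcl] at h
    exact Subgroup.mem_bot.mp h
  have hxy : ⁅x, y⁆ = c ^ 2 := by
    rw [commutatorElement_def, H66.inv_eq_self_of_sq hxx, H66.inv_eq_self_of_sq hyy, pow_two, hc]
    group
  rw [hxy, commutatorElement_def] at hcc
  have h4 : c ^ 4 = 1 := by
    have hi : x * (c ^ 2)⁻¹ * x⁻¹ = c ^ 2 := by
      have h := H66.inverted_of_mem_zpowers hxc (inv_mem (Subgroup.npow_mem_zpowers c 2))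
      rwa [inv_inv] at h
    calc c ^ 4 = c ^ 2 * (x * (c ^ 2)⁻¹ * x⁻¹) := by rw [hi, ← pow_add]
      _ = 1 := by rw [← hcc]; group
  obtain ⟨k, hk⟩ := orderOf_dvd_of_pow_eq_one h4
  have hle : orderOf c ≤ 4 := Nat.le_of_dvd (by norm_num) ⟨k, hk⟩
  omega

end Cfsg.Agent.S1176
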