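import Cfsg.Statements.S1177
import Cfsg.Agent.H66.Isolated

set_option autoImplicit false
open Cfsg

namespace Cfsg.Agent.S1177

/-- Let A be a nontrivial elementary abelian 2-subgroup of a finite group G which is a T.I. set (each conjugate of A meets A trivially or equals A) and which does not commute elementwise with any conjugate of A other than A itself. Then for every a ∈ A, a ≠ 1, every conjugate of A contained in C_G(a) is equal to A (A is weakly closed in C_G(a)). -/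
theorem result {G : Type*} [Group G] [Finite G] (A : Subgroup G) (hA : Cfsg.IsElementaryAbelian 2 A) (hA1 : A ≠ ⊥) (hTI : ∀ g : G, A.map (MulAut.conj g).toMonoidHom ⊓ A = ⊥ ∨ A.map (MulAut.conj g).toMonoidHom = A) (hb : ∀ g : G, (∀ a ∈ A, ∀ b ∈ A.map (MulAut.conj g).toMonoidHom, a * b = b * a) → A.map (MulAut.conj g).toMonoidHom = A) (a : G) (ha : a ∈ A) (ha1 : a ≠ 1) (g : G) (hg : A.map (MulAut.conj g).toMonoidHom ≤ Subgroup.centralizer ({a} : Set G)) : A.map (MulAut.conj g).toMonoidHom = A := by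
  haveI : Fact (Nat.Prime 2) := ⟨Nat.prime_two⟩
  obtain ⟨hAc, hAe⟩ := hA
  set B := A.map (MulAut.conj g).toMonoidHom with hB
  by_contra hne
  have hdisj : B ⊓ A = ⊥ := (hTI g).resolve_right hne
  have hcard : Nat.card B = Nat.card A :=
    (Nat.card_congr (A.equivMapOfInjective _ (MulAut.conj g).injective).toEquiv).symm
  have hBc : ∀ x ∈ B, ∀ y ∈ B, x * y = y * x := by
    rintro _ ⟨x, hx, rfl⟩ _ ⟨y, hy, rfl⟩
    rw [← map_mul, ← map_mul, setLike_mul_comm hx hy]
  have hBa : ∀ b ∈ B, b * a * b⁻¹ = a := fun b hb => by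
    rw [Subgroup.mem_centralizer_singleton_iff.mp (hg hb), mul_inv_cancel_right]
  have hBnorm : ∀ b ∈ B, ∀ x ∈ A, b * x * b⁻¹ ∈ A := by
    intro b hb x hx
    rcases hTI b with h | h
    · exfalso
      have : a ∈ A.map (MulAut.conj b).toMonoidHom ⊓ A := ⟨⟨a, ha, hBa b hb⟩, ha⟩
      rw [h] at this
      exact ha1 this
    · exact h ▸ ⟨x, hx, rfl⟩
  -- every element of `A` centralises some non-trivial element of `B`
  have hfix : ∀ x ∈ A, ∃ b ∈ B, b ≠ 1 ∧ x * b * x⁻¹ = b := by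
    intro x hx
    by_cases hx1 : x = 1
    · subst hx1
      have : B ≠ ⊥ := by
        intro hb0
        apply hA1
        rw [← Subgroup.card_eq_one] at hb0 ⊢
        omega
      obtain ⟨b, hb⟩ := B.bot_or_exists_ne_one.resolve_left this
      exact ⟨b, hb.1, hb.2, by group⟩
    · by_contra hcon
      push Not at hcon
      let f : B → A := fun b => ⟨b * x * (b : G)⁻¹, hBnorm b b.2 x hx⟩
      have hinj : Function.Injective f := by
        intro b c hbc
        have e : (b : G) * x * (b : G)⁻¹ = c * x * (c : G)⁻¹ := congrArg Subtype.val hbc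
        by_contra hbc'
        apply hcon ((c : G)⁻¹ * b) (mul_mem (inv_mem c.2) b.2)
          (fun h => hbc' (Subtype.ext (inv_mul_eq_one.mp h).symm))
        have : ((c : G)⁻¹ * b) * x * ((c : G)⁻¹ * b)⁻¹ = x := by
          calc ((c : G)⁻¹ * b) * x * ((c : G)⁻¹ * b)⁻¹
              = (c : G)⁻¹ * ((b : G) * x * (b : G)⁻¹) * c := by group
            _ = x := by rw [e]; group
        rw [← mul_inv_eq_iff_eq_mul.mp this, mul_inv_cancel_right]
      obtain ⟨b, hb⟩ := (hinj.bijective_of_nat_card_le hcard.ge).2 1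
      have : (b : G) * x * (b : G)⁻¹ = 1 := congrArg Subtype.val hb
      exact hx1 (by simpa using this)
  have hAnorm : ∀ x ∈ A, ∀ c ∈ B, x * c * x⁻¹ ∈ B := by
    intro x hx c hc
    obtain ⟨b, hb, hb1, hxb⟩ := hfix x hx
    obtain ⟨b₀, hb₀, hb₀e⟩ := hb
    obtain ⟨c₀, hc₀, rfl⟩ := hc
    have hm : (g⁻¹ * x * g) * b₀ * (g⁻¹ * x * g)⁻¹ = b₀ := by
      have e : g * b₀ * g⁻¹ = b := hb₀e
      calc (g⁻¹ * x * g) * b₀ * (g⁻¹ * x * g)⁻¹ = g⁻¹ * (x * (g * b₀ * g⁻¹) * x⁻¹) * g := by group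
        _ = g⁻¹ * (g * b₀ * g⁻¹) * g := by rw [e, hxb]
        _ = b₀ := by group
    rcases hTI (g⁻¹ * x * g) with h | h
    · exfalso
      have : b₀ ∈ A.map (MulAut.conj (g⁻¹ * x * g)).toMonoidHom ⊓ A := ⟨⟨b₀, hb₀, hm⟩, hb₀⟩
      rw [h, Subgroup.mem_bot] at this
      exact hb1 (by rw [← hb₀e, this, map_one])
    · refine ⟨(g⁻¹ * x * g) * c₀ * (g⁻¹ * x * g)⁻¹, h ▸ ⟨c₀, hc₀, rfl⟩, ?_⟩
      simp [MulAut.conj_apply, mul_assoc]
  apply hne
  apply hb g
  intro x hx y hy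
  have h1 : x * y * x⁻¹ * y⁻¹ ∈ B ⊓ A := by
    refine ⟨B.mul_mem (hAnorm x hx y hy) (B.inv_mem hy), ?_⟩
    have e : x * y * x⁻¹ * y⁻¹ = x * (y * x⁻¹ * y⁻¹) := by group
    rw [e]
    exact A.mul_mem hx (hBnorm y hy _ (A.inv_mem hx))
  rw [hdisj, Subgroup.mem_bot] at h1
  calc x * y = (x * y * x⁻¹ * y⁻¹) * (y * x) := by group
    _ = y * x := by rw [h1, one_mul]

end Cfsg.Agent.S1177
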