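import Cfsg.Statements.S1178

set_option autoImplicit false
open Cfsg

namespace Cfsg.Agent.S1178

/-- Let A be a subgroup of a Sylow 2-subgroup S of the finite group G which is weakly closed in S. If a conjugate g A g⁻¹ commutes elementwise with A, then g A g⁻¹ = A. -/
theorem result {G : Type*} [Group G] [Finite G] (S : Sylow 2 G) (A : Subgroup G) (hW : Cfsg.IsWeaklyClosed A (S : Subgroup G)) (g : G) (hc : ∀ a ∈ A, ∀ b ∈ A.map (MulAut.conj g).toMonoidHom, a * b = b * a) : A.map (MulAut.conj g).toMonoidHom = A := by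
  haveI : Fact (Nat.Prime 2) := ⟨Nat.prime_two⟩
  obtain ⟨hAS, hclosed⟩ := hW
  set B := A.map (MulAut.conj g).toMonoidHom with hB
  have hAp : IsPGroup 2 A := S.isPGroup'.to_le hAS
  have hBp : IsPGroup 2 B := hAp.map _
  have hnorm : B ≤ Subgroup.normalizer (A : Set G) := fun b hb => by
    rw [Subgroup.mem_normalizer_iff]
    intro a
    constructor
    · intro ha
      rwa [← hc a ha b hb, mul_inv_cancel_right]
    · intro ha
      have e := hc _ ha b hb
      rw [inv_mul_cancel_right] at e
      rwa [← mul_left_cancel e] at ha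
  obtain ⟨T, hT⟩ := (hAp.to_sup_of_normal_left' hBp hnorm).exists_le_sylow
  obtain ⟨h, hh⟩ := MulAction.exists_smul_eq G T S
  have hTS : ∀ x : G, x ∈ (T : Subgroup G) → h * x * h⁻¹ ∈ (S : Subgroup G) := fun x hx => by
    rw [← hh, Sylow.coe_subgroup_smul]
    exact Subgroup.smul_mem_pointwise_smul x (MulAut.conj h) _ hx
  have h1 : A.map (MulAut.conj h).toMonoidHom = A := hclosed h (by
    rintro _ ⟨a, ha, rfl⟩
    exact hTS a (hT (Subgroup.mem_sup_left ha)))
  have h2 : A.map (MulAut.conj (h * g)).toMonoidHom = A := hclosed (h * g) (by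
    rintro _ ⟨a, ha, rfl⟩
    have := hTS _ (hT (Subgroup.mem_sup_right (⟨a, ha, rfl⟩ : (MulAut.conj g).toMonoidHom a ∈ B)))
    simpa [MulAut.conj_apply, mul_assoc] using this)
  apply Subgroup.map_injective (MulAut.conj h).injective (f := (MulAut.conj h).toMonoidHom)
  rw [h1, hB, Subgroup.map_map]
  convert h2 using 2
  ext x
  simp [MulAut.conj_apply, mul_assoc]

end Cfsg.Agent.S1178
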