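import Cfsg.Statements.S1181
import Cfsg.Agent.H66.Isolated

set_option autoImplicit false
open Cfsg

namespace Cfsg.Agent.S1181

/-- Let z be an isolated involution of the finite group G and N a normal subgroup with z ∉ N. Then the centralizer of zN in G/N is the image of C_G(z), and zN is an isolated involution of G/N. -/
theorem result {G : Type*} [Group G] [Finite G] (z : G) (hz : Cfsg.IsIsolatedInvolution z) (N : Subgroup G) [N.Normal] (hzN : z ∉ N) : Subgroup.centralizer ({(QuotientGroup.mk z : G ⧸ N)} : Set (G ⧸ N)) = (Subgroup.centralizer ({z} : Set G)).map (QuotientGroup.mk' N) ∧ Cfsg.IsIsolatedInvolution (QuotientGroup.mk z : G ⧸ N) := by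
  have hzz := H66.iso_sq hz
  have hcent : Subgroup.centralizer ({(QuotientGroup.mk z : G ⧸ N)} : Set (G ⧸ N)) =
      (Subgroup.centralizer ({z} : Set G)).map (QuotientGroup.mk' N) := by
    apply le_antisymm
    · intro q hq
      obtain ⟨g, rfl⟩ := QuotientGroup.mk_surjective q
      rw [Subgroup.mem_centralizer_singleton_iff, ← QuotientGroup.mk_mul, ← QuotientGroup.mk_mul,
        QuotientGroup.eq_iff_div_mem] at hq
      set H := Subgroup.zpowers z ⊔ N with hH
      have hzH : z ∈ H := Subgroup.mem_sup_left (Subgroup.mem_zpowers z)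
      have hgH : g * z * g⁻¹ ∈ H := by
        have e : g * z * g⁻¹ = g * z / (z * g) * z := by rw [div_eq_mul_inv]; group
        rw [e]
        exact mul_mem (Subgroup.mem_sup_right hq) hzH
      obtain ⟨h, hh, hconj⟩ := H66.iso_conj_in hz H hzH g hgH
      obtain ⟨a, ha, n, hn, rfl⟩ := Subgroup.mem_sup_of_normal_right.mp hh
      have hc : g⁻¹ * (a * n) ∈ Subgroup.centralizer ({z} : Set G) := by
        rw [Subgroup.mem_centralizer_singleton_iff]
        have : (g⁻¹ * (a * n)) * z * (g⁻¹ * (a * n))⁻¹ = z := by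
          calc (g⁻¹ * (a * n)) * z * (g⁻¹ * (a * n))⁻¹
              = g⁻¹ * ((a * n) * z * (a * n)⁻¹) * g := by group
            _ = z := by rw [hconj]; group
        exact mul_inv_eq_iff_eq_mul.mp this
      have hac : a ∈ Subgroup.centralizer ({z} : Set G) := by
        rw [Subgroup.mem_centralizer_singleton_iff]
        obtain ⟨i, rfl⟩ := Subgroup.mem_zpowers_iff.mp ha
        exact (Commute.zpow_self z i).eq
      refine ⟨a * (g⁻¹ * (a * n))⁻¹, mul_mem hac (inv_mem hc), ?_⟩
      simp only [QuotientGroup.mk'_apply, QuotientGroup.mk_mul, QuotientGroup.mk_inv,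
        (QuotientGroup.eq_one_iff n).mpr hn, mul_one, mul_inv_rev, inv_inv]
      group
    · rintro q ⟨c, hc, rfl⟩
      rw [SetLike.mem_coe, Subgroup.mem_centralizer_singleton_iff] at hc
      rw [Subgroup.mem_centralizer_singleton_iff]
      simp only [QuotientGroup.mk'_apply, ← QuotientGroup.mk_mul, hc]
  refine ⟨hcent, H66.orderOf_two_of_sq ?_ ?_, ?_⟩
  · exact fun h => hzN ((QuotientGroup.eq_one_iff z).mp h)
  · rw [← QuotientGroup.mk_mul, hzz, QuotientGroup.mk_one]
  · intro q hq
    obtain ⟨g, rfl⟩ := QuotientGroup.mk_surjective q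
    have h1 : ((g * z * g⁻¹ : G) : G ⧸ N) ∈ (Subgroup.centralizer ({z} : Set G)).map (QuotientGroup.mk' N) := by
      rw [← hcent, Subgroup.mem_centralizer_singleton_iff]
      exact hq.symm.eq
    obtain ⟨c, hc, hce⟩ := h1
    set H := Subgroup.centralizer ({z} : Set G) ⊔ N with hH
    have hzH : z ∈ H := Subgroup.mem_sup_left (by simp [Subgroup.mem_centralizer_singleton_iff])
    have hgH : g * z * g⁻¹ ∈ H := by
      have e : g * z * g⁻¹ = c * (c⁻¹ * (g * z * g⁻¹)) := by group
      rw [e]
      exact mul_mem (Subgroup.mem_sup_left hc) (Subgroup.mem_sup_right (QuotientGroup.eq.mp hce))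
    obtain ⟨h, hh, hconj⟩ := H66.iso_conj_in hz H hzH g hgH
    obtain ⟨d, hd, n, hn, rfl⟩ := Subgroup.mem_sup_of_normal_right.mp hh
    rw [Subgroup.mem_centralizer_singleton_iff] at hd
    rw [← QuotientGroup.mk_inv, ← QuotientGroup.mk_mul, ← QuotientGroup.mk_mul, ← hconj]
    simp only [QuotientGroup.mk_mul, QuotientGroup.mk_inv,
      (QuotientGroup.eq_one_iff n).mpr hn, mul_one]
    rw [← QuotientGroup.mk_mul, hd, QuotientGroup.mk_mul, mul_inv_cancel_right]

end Cfsg.Agent.S1181
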