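import Cfsg.Statements.S1183
import Cfsg.Agent.H66.Isolated

set_option autoImplicit false
open Cfsg

namespace Cfsg.Agent.S1183

/-- Let z be an isolated involution of the finite group G and C = C_G(z). Then the subgroup of G generated by its elements of odd order is all of G if and only if the subgroup of C generated by its elements of odd order is all of C. -/
theorem result {G : Type*} [Group G] [Finite G] (z : G) (hz : Cfsg.IsIsolatedInvolution z) : Cfsg.pResidual 2 G = ⊤ ↔ Cfsg.pResidual 2 ↥(Subgroup.centralizer ({z} : Set G)) = ⊤ := by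
  haveI : Fact (Nat.Prime 2) := ⟨Nat.prime_two⟩
  set C := Subgroup.centralizer ({z} : Set G) with hC
  have hmem : ∀ c : G, c ∈ C ↔ Commute c z := fun c => by
    rw [hC, Subgroup.mem_centralizer_singleton_iff]; rfl
  constructor
  · intro hG
    by_contra hne
    set R := Cfsg.pResidual 2 ↥C with hR
    haveI hRn : R.Normal := ⟨fun x hx c => by
      have hle : R ≤ R.comap (MulAut.conj c).toMonoidHom := by
        rw [hR, Cfsg.pResidual, Subgroup.closure_le]
        intro y hy
        refine Subgroup.subset_closure ?_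
        show Nat.Coprime (orderOf ((MulAut.conj c) y)) 2
        rw [MulEquiv.orderOf_eq]
        exact hy
      exact hle hx⟩
    have hQp : IsPGroup 2 (↥C ⧸ R) := by
      intro q
      obtain ⟨c, rfl⟩ := QuotientGroup.mk_surjective q
      obtain ⟨k, m, hm, hcm⟩ := Nat.exists_eq_two_pow_mul_odd (orderOf_pos c).ne'
      refine ⟨k, ?_⟩
      rw [← QuotientGroup.mk_pow, QuotientGroup.eq_one_iff]
      refine Subgroup.subset_closure ?_
      show Nat.Coprime (orderOf (c ^ 2 ^ k)) 2
      rw [orderOf_pow_of_dvd (by positivity) (hcm ▸ dvd_mul_right _ _), hcm,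
        Nat.mul_div_cancel_left _ (by positivity), Nat.coprime_two_right]
      exact hm
    haveI : Group.IsNilpotent (↥C ⧸ R) := hQp.isNilpotent
    haveI : Group.IsSolvable (↥C ⧸ R) := inferInstance
    haveI : Nontrivial (↥C ⧸ R) := by
      by_contra hn
      rw [not_nontrivial_iff_subsingleton] at hn
      exact hne ((Subgroup.eq_top_iff' R).mpr fun c =>
        (QuotientGroup.eq_one_iff c).mp (Subsingleton.elim _ _))
    have hab : commutator (↥C ⧸ R) < ⊤ := Group.IsSolvable.commutator_lt_top_of_nontrivial _
    let φ : ↥C →* Abelianization (↥C ⧸ R) := Abelianization.of.comp (QuotientGroup.mk' R)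
    obtain ⟨q, -, hq⟩ := SetLike.exists_of_lt hab
    obtain ⟨c, rfl⟩ := QuotientGroup.mk_surjective q
    have hφc : φ c ≠ 1 := fun h => hq ((QuotientGroup.eq_one_iff _).mp h)
    classical
    haveI : Fintype G := Fintype.ofFinite G
    letI := C.fintypeQuotientOfFiniteIndex
    let T : G →* Abelianization (↥C ⧸ R) := MonoidHom.transfer φ
    have hTone : ∀ g : G, T g = 1 := by
      intro g
      have hker : Cfsg.pResidual 2 G ≤ T.ker := by
        rw [Cfsg.pResidual, Subgroup.closure_le]
        intro y hy
        obtain ⟨k, hk⟩ := (hQp.of_surjective Abelianization.of QuotientGroup.mk_surjective) (T y)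
        have h2 : T y ^ orderOf y = 1 := by rw [← map_pow, pow_orderOf_eq_one, map_one]
        have hy' : Nat.Coprime (2 ^ k) (orderOf y) :=
          Nat.Coprime.pow_left k (Nat.Coprime.symm hy)
        have h3 := pow_gcd_eq_one.mpr ⟨hk, h2⟩
        rw [hy', pow_one] at h3
        exact h3
      rw [hG] at hker
      exact hker (Subgroup.mem_top g)
    have hT : T c = φ c ^ C.index := by
      show MonoidHom.transfer φ (c : G) = _
      rw [MonoidHom.transfer_eq_prod_quotient_orbitRel_zpowers_quot,
        Subgroup.index_eq_sum_minimalPeriod C (c : G), ← Finset.prod_pow_eq_pow_sum]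
      refine Finset.prod_congr rfl fun q _ => ?_
      generalize hy : (⟨_, QuotientGroup.out_conj_pow_minimalPeriod_mem C (c : G) q.out⟩ : ↥C) = y
      have hyc : (y : G) = q.out.out⁻¹ * (c : G) ^ Function.minimalPeriod ((c : G) • ·) q.out
          * q.out.out⁻¹⁻¹ := by
        rw [← hy, inv_inv]
      obtain ⟨d, -, hdz, hd⟩ := H66.iso_centralizer_fusion hz ⊤
        (Subgroup.le_normalizer (Subgroup.mem_top z))
        ((c : G) ^ Function.minimalPeriod ((c : G) • ·) q.out) (y : G)
        (((hmem _).mp c.2).pow_left _) ((hmem _).mp y.2) q.out.out⁻¹ (Subgroup.mem_top _) hyc.symm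
      have he : y = (⟨d, (hmem _).mpr hdz⟩ : ↥C) * c ^ Function.minimalPeriod ((c : G) • ·) q.out
          * (⟨d, (hmem _).mpr hdz⟩ : ↥C)⁻¹ := by
        apply Subtype.ext
        simp [hd]
      rw [he, map_mul, map_mul, map_inv, map_pow, mul_inv_cancel_comm]
    obtain ⟨k, hk⟩ := (hQp.of_surjective Abelianization.of QuotientGroup.mk_surjective) (φ c)
    have h1 : φ c ^ C.index = 1 := by rw [← hT, hTone]
    have hco : Nat.Coprime (2 ^ k) C.index :=
      Nat.Coprime.pow_left k (Nat.coprime_two_left.mpr (H66.iso_index_odd hz))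
    have h3 := pow_gcd_eq_one.mpr ⟨hk, h1⟩
    rw [hco, pow_one] at h3
    exact hφc h3
  · intro hCtop
    have hsub : C ≤ Cfsg.pResidual 2 G := by
      have h1 : (Cfsg.pResidual 2 ↥C).map C.subtype ≤ Cfsg.pResidual 2 G := by
        rw [Cfsg.pResidual, MonoidHom.map_closure, Subgroup.closure_le]
        rintro _ ⟨y, hy, rfl⟩
        refine Subgroup.subset_closure ?_
        show Nat.Coprime (orderOf (y : G)) 2
        rw [Subgroup.orderOf_coe]
        exact hy
      rw [hCtop, ← MonoidHom.range_eq_map, Subgroup.range_subtype] at h1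
      exact h1
    rw [Subgroup.eq_top_iff']
    intro g
    obtain ⟨k, ⟨⟨hk, -⟩, hkc⟩, -⟩ := H66.iso_coset_rep hz g
    have e : g = k * (g⁻¹ * k)⁻¹ := by group
    rw [e]
    refine mul_mem (Subgroup.subset_closure ?_) (hsub (inv_mem hkc))
    exact Nat.coprime_two_right.mpr hk

end Cfsg.Agent.S1183
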