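import Cfsg.Statements.S1186
import Cfsg.Agent.H66.Inverted

set_option autoImplicit false
open Cfsg

namespace Cfsg.Agent.S1186

/-- Let z be an isolated involution of the finite group G, C = C_G(z), K the set of elements of odd order inverted by z, and s an involution of C. Then |G| = |C| · |C_K(sz)| · |C_K(s)|. -/
theorem result {G : Type*} [Group G] [Finite G] (z : G) (hz : Cfsg.IsIsolatedInvolution z) (s : G) (hs : orderOf s = 2) (hsz : Commute s z) : Nat.card G = Nat.card (Subgroup.centralizer ({z} : Set G)) * Nat.card {k : G // Odd (orderOf k) ∧ z * k * z⁻¹ = k⁻¹ ∧ Commute k (s * z)} * Nat.card {k : G // Odd (orderOf k) ∧ z * k * z⁻¹ = k⁻¹ ∧ Commute k s} := by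
  rw [H66.iso_card hz, mul_assoc]
  congr 1
  have hss := H66.mul_self_of_orderOf_two hs
  have hK := H66.iso_oddTwisted hz
  rw [hK.card_factor (MulAut.conj s).toMonoidHom ?_ ?_, mul_comm]
  · congr 1
    · refine Nat.card_congr (Equiv.subtypeEquivRight fun k => ?_)
      show (Odd (orderOf k) ∧ z * k * z⁻¹ = k⁻¹) ∧ s * k * s⁻¹ = k⁻¹ ↔ _
      have key : z * k * z⁻¹ = k⁻¹ → (s * k * s⁻¹ = k⁻¹ ↔ Commute k (s * z)) := fun hk => by
        rw [commute_iff_eq, eq_comm (a := k * (s * z)), ← mul_inv_eq_iff_eq_mul,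
          show s * z * k * (s * z)⁻¹ = (s * (z * k * z⁻¹) * s⁻¹) by group, hk, ← conj_inv,
          inv_eq_iff_eq_inv]
      constructor
      · rintro ⟨⟨h1, h2⟩, h3⟩; exact ⟨h1, h2, (key h2).mp h3⟩
      · rintro ⟨h1, h2, h3⟩; exact ⟨⟨h1, h2⟩, (key h2).mpr h3⟩
    · refine Nat.card_congr (Equiv.subtypeEquivRight fun k => ?_)
      show (Odd (orderOf k) ∧ z * k * z⁻¹ = k⁻¹) ∧ s * k * s⁻¹ = k ↔ _
      rw [commute_iff_eq, eq_comm (a := k * s), ← mul_inv_eq_iff_eq_mul, and_assoc]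
  · rintro k ⟨h1, h2⟩
    refine ⟨by rw [MulEquiv.coe_toMonoidHom, MulEquiv.orderOf_eq]; exact h1, ?_⟩
    show z * (s * k * s⁻¹) * z⁻¹ = (s * k * s⁻¹)⁻¹
    calc z * (s * k * s⁻¹) * z⁻¹ = (z * s) * k * (z * s)⁻¹ := by group
      _ = (s * z) * k * (s * z)⁻¹ := by rw [hsz.eq]
      _ = s * (z * k * z⁻¹) * s⁻¹ := by group
      _ = _ := by rw [h2]; group
  · intro k _
    show s * (s * k * s⁻¹) * s⁻¹ = k
    calc s * (s * k * s⁻¹) * s⁻¹ = (s * s) * k * (s * s)⁻¹ := by group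
      _ = k := by rw [hss]; group

end Cfsg.Agent.S1186
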