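import Cfsg.Statements.S1220
import Cfsg.Agent.H29.SEB.Main

set_option autoImplicit false
open Cfsg

namespace Cfsg.Agent.S1220

/-- Let H be a strongly embedded subgroup of the finite group G. Then either G acts doubly transitively on the cosets of H (H permutes transitively the cosets gH with g ∉ H), or every Sylow 2-subgroup of G is cyclic or generalized quaternion and G = O(G)H. -/
theorem result {G : Type*} [Group G] [Finite G] (H : Subgroup G) (hH : Cfsg.IsStronglyEmbedded H) : (∀ g₁ g₂ : G, g₁ ∉ H → g₂ ∉ H → ∃ h ∈ H, g₂⁻¹ * (h * g₁) ∈ H) ∨ ((∀ S : Sylow 2 G, IsCyclic S ∨ ∃ m : ℕ, 1 ≤ m ∧ Nonempty ((S : Subgroup G) ≃* QuaternionGroup (2 ^ m))) ∧ Cfsg.oddCore G ⊔ H = ⊤) := by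
  by_cases h : ∃ a b : G, orderOf a = 2 ∧ orderOf b = 2 ∧ Commute a b ∧ a ≠ b
  · obtain ⟨a, b, ha, hb, hc, hne⟩ := h
    exact Or.inl fun g₁ g₂ h₁ h₂ => H29SEB.transitive_off hH ha hb hne hc h₁ h₂
  · have hno : ∀ a b : G, orderOf a = 2 → orderOf b = 2 → Commute a b → a = b :=
      fun a b ha hb hc => by_contra fun hne => h ⟨a, b, ha, hb, hc, hne⟩
    exact Or.inr ⟨H29SEB.sylow_cyclic_or_quaternion hno, H29SEB.sup_core_eq_top hH hno⟩

end Cfsg.Agent.S1220
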