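import Cfsg.Statements.S1233
import Cfsg.Agent.H60.QQMain

set_option autoImplicit false
open Cfsg

namespace Cfsg.Agent.S1233

/-- Let S be a finite 2-group and Q a subgroup of order 32 generated by two elementwise-commuting subgroups Q₁, Q₂ each isomorphic to the quaternion group of order 8 (so Q = Q₁ ∗ Q₂). If C_S(Q) ≤ Q, then every section of S has 2-rank at most 4. -/
theorem result {S : Type*} [Group S] [Finite S] (hS : IsPGroup 2 S) (Q Q₁ Q₂ : Subgroup S) (e₁ : Q₁ ≃* QuaternionGroup 2) (e₂ : Q₂ ≃* QuaternionGroup 2) (hcomm : ∀ a ∈ Q₁, ∀ b ∈ Q₂, a * b = b * a) (hQ : Q₁ ⊔ Q₂ = Q) (hQ32 : Nat.card Q = 32) (hC : Subgroup.centralizer (Q : Set S) ≤ Q) : Cfsg.SectionalPRankLE 2 4 S := by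
  classical
  set f := Q₁.subtype.comp e₁.symm.toMonoidHom with hf
  set g := Q₂.subtype.comp e₂.symm.toMonoidHom with hg
  have hfi : Function.Injective f := Q₁.subtype_injective.comp e₁.symm.injective
  have hgi : Function.Injective g := Q₂.subtype_injective.comp e₂.symm.injective
  have hfg : ∀ a b, Commute (f a) (g b) := fun a b => hcomm _ (e₁.symm a).2 _ (e₂.symm b).2
  set μ := f.noncommCoprod g hfg with hμ
  have hfr : f.range = Q₁ := by
    rw [hf, MonoidHom.range_comp, MonoidHom.range_eq_top.mpr e₁.symm.surjective, ← MonoidHom.range_eq_map,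
      Subgroup.range_subtype]
  have hgr : g.range = Q₂ := by
    rw [hg, MonoidHom.range_comp, MonoidHom.range_eq_top.mpr e₂.symm.surjective, ← MonoidHom.range_eq_map,
      Subgroup.range_subtype]
  have hr : μ.range = Q := by rw [hμ, MonoidHom.noncommCoprod_range, hfr, hgr, hQ]
  have hk2 : Nat.card μ.ker = 2 := by
    have h := Subgroup.card_mul_index μ.ker
    rw [Subgroup.index_ker, hr, hQ32, Nat.card_prod, Nat.card_eq_fintype_card (α := QuaternionGroup 2),
      QuaternionGroup.card] at h
    omega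
  have hkmem : ∀ p : H60.QQ.W, μ p = 1 → H60.QQ.Kc p := by
    rintro ⟨u, v⟩ hp
    rw [hμ, MonoidHom.noncommCoprod_apply] at hp
    have hfu : f u = (g v)⁻¹ := eq_inv_of_mul_eq_one_left hp
    have hgv : g v = (f u)⁻¹ := eq_inv_of_mul_eq_one_right hp
    have hu : u = 1 ∨ u = QuaternionGroup.a 2 := (H60.QQ.center_iff u).mp fun w => hfi (by
      rw [map_mul, map_mul, hfu]; exact ((hfg w v).inv_right).eq)
    have hv : v = 1 ∨ v = QuaternionGroup.a 2 := (H60.QQ.center_iff v).mp fun w => hgi (by
      rw [map_mul, map_mul, hgv]; exact ((hfg u w).inv_left).symm.eq)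
    rcases hu with rfl | rfl <;> rcases hv with rfl | rfl
    · exact Or.inl rfl
    · rw [map_one, inv_one] at hgv
      exact absurd (hgi (hgv.trans (map_one g).symm)) (by decide)
    · rw [map_one, inv_one] at hfu
      exact absurd (hfi (hfu.trans (map_one f).symm)) (by decide)
    · exact Or.inr rfl
  have hc : μ (QuaternionGroup.a 2, QuaternionGroup.a 2) = 1 := by
    by_contra hne
    have hb : μ.ker ≤ ⊥ := fun p hp => Subgroup.mem_bot.mpr
      ((hkmem p hp).resolve_right fun e => hne (e ▸ hp))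
    rw [le_bot_iff.mp hb, Subgroup.card_bot] at hk2
    omega
  have hker : ∀ p, μ p = 1 ↔ H60.QQ.Kc p := fun p => ⟨hkmem p, by
    rintro (rfl | rfl)
    · exact map_one μ
    · exact hc⟩
  exact H31.SR.sr_of_bd (H60.QQ.bd_top hS hker (by rw [hr]; exact hC))

end Cfsg.Agent.S1233
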