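import Cfsg.Statements.S1234
import Cfsg.Agent.H31.SmallCentralizer

set_option autoImplicit false
open Cfsg
open scoped commutatorElement

namespace Cfsg.Agent.S1234

/-- Let S be a finite 2-group and Q ≤ S a subgroup of order 32 having an elementary abelian subgroup E of order 16 and an involution s ∉ E whose centralizer in E has order 4 (so Q ≅ (Z₂ × Z₂) ≀ Z₂). If C_S(Z(Q)) = Q, then every section of S has 2-rank at most 4. -/
theorem result {S : Type*} [Group S] [Finite S] (hS : IsPGroup 2 S) (Q E : Subgroup S) (hEQ : E ≤ Q) (hE : Cfsg.IsElementaryAbelian 2 E) (hE16 : Nat.card E = 16) (hQ32 : Nat.card Q = 32) (s : S) (hsQ : s ∈ Q) (hsE : s ∉ E) (hs : orderOf s = 2) (hfix : Nat.card ↥(E ⊓ Subgroup.centralizer ({s} : Set S)) = 4) (hC : Subgroup.centralizer (((Subgroup.center Q).map Q.subtype : Subgroup S) : Set S) = Q) : Cfsg.SectionalPRankLE 2 4 S := by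
  classical
  set F := E ⊓ Subgroup.centralizer ({s} : Set S) with hF
  have hss : s * s = 1 := by rw [← pow_two, ← hs, pow_orderOf_eq_one]
  have hEc : ∀ a ∈ E, ∀ b ∈ E, a * b = b * a := fun a ha b hb => congrArg Subtype.val (hE.1.is_comm.comm ⟨a, ha⟩ ⟨b, hb⟩)
  have hEsq : ∀ a ∈ E, a * a = 1 := fun a ha => by rw [← pow_two]; exact hE.2 a ha
  have hidx : (E.subgroupOf Q).index = 2 := by
    have h1 := Subgroup.card_mul_index (E.subgroupOf Q)
    rw [Nat.card_congr (Subgroup.subgroupOfEquivOfLe hEQ).toEquiv, hE16, hQ32] at h1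
    omega
  have hdec : ∀ q ∈ Q, q ∈ E ∨ q * s ∈ E := by
    intro q hq
    by_cases hqE : q ∈ E
    · exact Or.inl hqE
    · have := (Subgroup.mul_mem_iff_of_index_two hidx (a := (⟨q, hq⟩ : Q)) (b := (⟨s, hsQ⟩ : Q))).mpr
        (iff_of_false hqE hsE)
      exact Or.inr this
  have hEn : ∀ q ∈ Q, ∀ e ∈ E, q * e * q⁻¹ ∈ E := by
    intro q hq e he
    haveI := Subgroup.normal_of_index_eq_two hidx
    exact Subgroup.Normal.conj_mem (inferInstance : (E.subgroupOf Q).Normal) ⟨e, hEQ he⟩ he ⟨q, hq⟩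
  have hFcen : ∀ q ∈ Q, ∀ x ∈ F, q * x = x * q := by
    rintro q hq x ⟨hxE, hxs⟩
    have hsx : x * s = s * x := Subgroup.mem_centralizer_singleton_iff.mp hxs
    rcases hdec q hq with h | h
    · exact hEc q h x hxE
    · have h1 := hEc _ h x hxE
      rw [mul_assoc, ← hsx, ← mul_assoc, ← mul_assoc x] at h1
      exact mul_right_cancel h1
  have hcenQ : ((Subgroup.center Q).map Q.subtype : Subgroup S) = F := by
    ext x
    constructor
    · rintro ⟨⟨y, hy⟩, hyc, rfl⟩
      have hc : ∀ q ∈ Q, q * y = y * q := fun q hq => congrArg Subtype.val (Subgroup.mem_center_iff.mp hyc ⟨q, hq⟩)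
      refine ⟨?_, Subgroup.mem_centralizer_singleton_iff.mpr (hc s hsQ).symm⟩
      by_contra hyE
      have h := (hdec y hy).resolve_left hyE
      have hle : E ≤ F := fun e he => ⟨he, Subgroup.mem_centralizer_singleton_iff.mpr (by
        have h1 := hEc _ h e he
        rw [← mul_assoc, hc e (hEQ he), mul_assoc, mul_assoc] at h1
        exact (mul_left_cancel h1).symm)⟩
      have := Subgroup.card_le_of_le hle
      omega
    · intro hx
      exact ⟨⟨x, hEQ hx.1⟩, Subgroup.mem_center_iff.mpr fun q => Subtype.ext (hFcen q q.2 x hx), rfl⟩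
  rw [hcenQ] at hC
  obtain ⟨z, hzc, hz, hz1⟩ := H31.SR.exists_central hS (v := s) (fun e => hsE (e ▸ E.one_mem))
  have hzF : z ∈ F := by
    have hzQ : z ∈ Q := hC ▸ Subgroup.mem_centralizer_iff.mpr fun x _ => hzc x
    rw [← hcenQ]
    exact ⟨⟨z, hzQ⟩, Subgroup.mem_center_iff.mpr fun q => Subtype.ext (hzc q), rfl⟩
  obtain ⟨v, hvF, hv⟩ : ∃ v ∈ F, v ∉ Subgroup.zpowers z := by
    apply SetLike.not_le_iff_exists.mp
    intro hle
    have h1 := Subgroup.card_le_of_le hle
    rw [hfix, H31.SR.card_pair hz hz1] at h1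
    omega
  have hv1 : v ≠ 1 := fun e => hv (e ▸ one_mem _)
  have hvz : v ≠ z := fun e => hv (e ▸ Subgroup.mem_zpowers z)
  have hF4 : ∀ x ∈ F, x = 1 ∨ x = z ∨ x = v ∨ x = z * v := by
    have hab : z * v = v * z := (hzc v).symm
    have hv2 : v * v = 1 := hEsq v hvF.1
    have hle : H31.SR.four z v hz hv2 hab ≤ F := fun x hx => by
      rcases H31.SR.mem_four.mp hx with rfl | rfl | rfl | rfl
      exacts [one_mem _, hzF, hvF, mul_mem hzF hvF]
    have heq := Subgroup.eq_of_le_of_card_ge hle (by rw [hfix, H31.SR.card_four hz1 hv1 hvz.symm])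
    exact fun x hx => H31.SR.mem_four.mp (heq ▸ hx : x ∈ H31.SR.four z v hz hv2 hab)
  have hCv : Subgroup.centralizer ({v} : Set S) = Q := by
    refine le_antisymm (fun x hx => ?_) (fun q hq => Subgroup.mem_centralizer_singleton_iff.mpr (hFcen q hq v hvF))
    rw [← hC, Subgroup.mem_centralizer_iff]
    intro y hy
    have hxv : x * v = v * x := Subgroup.mem_centralizer_singleton_iff.mp hx
    rcases hF4 y hy with rfl | rfl | rfl | rfl
    · rw [one_mul, mul_one]
    · exact (hzc x).symm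
    · exact hxv.symm
    · rw [mul_assoc, ← hxv, ← mul_assoc, ← hzc x, mul_assoc]
  have hFcomm : F ≤ ⁅Q, Q⁆ := by
    let f : E →* S := MonoidHom.mk' (fun e => ⁅(e : S), s⁆) fun a b => by
      have hmem : ∀ e : E, ⁅(e : S), s⁆ ∈ E := fun e => by
        rw [show ⁅(e : S), s⁆ = (e : S) * (s * (e : S)⁻¹ * s⁻¹) by simp only [commutatorElement_def]; group]
        exact E.mul_mem e.2 (hEn s hsQ _ (E.inv_mem e.2))
      show ⁅(a : S) * b, s⁆ = ⁅(a : S), s⁆ * ⁅(b : S), s⁆
      rw [H31.SR.mul_conj, hEc _ a.2 _ (hmem b), mul_inv_cancel_right]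
      exact hEc _ (hmem b) _ (hmem a)
    have hrangeQ : f.range ≤ ⁅Q, Q⁆ := by
      rintro _ ⟨e, rfl⟩
      exact Subgroup.commutator_mem_commutator (hEQ e.2) hsQ
    have hsi : s⁻¹ = s := inv_eq_of_mul_eq_one_right hss
    have hrangeF : f.range ≤ F := by
      rintro _ ⟨e, rfl⟩
      have hmem : f e ∈ E := by
        show ⁅(e : S), s⁆ ∈ E
        rw [show ⁅(e : S), s⁆ = (e : S) * (s * (e : S)⁻¹ * s⁻¹) by simp only [commutatorElement_def]; group]
        exact E.mul_mem e.2 (hEn s hsQ _ (E.inv_mem e.2))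
      refine ⟨hmem, Subgroup.mem_centralizer_singleton_iff.mpr ?_⟩
      have hei : (e : S)⁻¹ = e := inv_eq_of_mul_eq_one_right (hEsq e e.2)
      have he2 := hEsq _ hmem
      change ⁅(e : S), s⁆ * ⁅(e : S), s⁆ = 1 at he2
      show ⁅(e : S), s⁆ * s = s * ⁅(e : S), s⁆
      calc ⁅(e : S), s⁆ * s = (e : S) * s * e := by
            rw [commutatorElement_def, hei, hsi, mul_assoc _ s s, hss, mul_one]
        _ = s * (⁅(e : S), s⁆)⁻¹ := by
            rw [commutatorElement_def, hei, hsi]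
            simp only [mul_inv_rev, hei, hsi, ← mul_assoc, hss, one_mul]
        _ = s * ⁅(e : S), s⁆ := by rw [inv_eq_of_mul_eq_one_right he2]
    have hker : Nat.card f.ker ≤ 4 := by
      rw [← hfix, ← Subgroup.card_map_of_injective (f := E.subtype) E.subtype_injective]
      refine Subgroup.card_le_of_le ?_
      rintro _ ⟨e, he, rfl⟩
      exact ⟨e.2, Subgroup.mem_centralizer_singleton_iff.mpr (commutatorElement_eq_one_iff_mul_comm.mp he)⟩
    have h4 : 4 ≤ Nat.card f.range := by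
      have h1 := Subgroup.card_mul_index f.ker
      rw [Subgroup.index_ker, hE16] at h1
      by_contra hlt
      have := Nat.mul_le_mul hker (show Nat.card f.range ≤ 3 by omega)
      omega
    have heq := Subgroup.eq_of_le_of_card_ge hrangeF (by rw [hfix]; exact h4)
    exact heq ▸ hrangeQ
  refine H31.SR.sr_of_bd (H31.SR.bd_four _ hS v rfl hv1 ?_ ?_)
  · rw [hCv, hQ32]
  · rw [hCv]; exact hFcomm hvF

end Cfsg.Agent.S1234
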