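import Cfsg.Statements.S1236
import Cfsg.Agent.H67.QDStruct

set_option autoImplicit false
open Cfsg

namespace Cfsg.Agent.S1236

/-- In a dihedral group every four-group is self-centralising. -/
theorem dihedral_klein_centralizer {Q : Type*} [Group Q] [Finite Q] {m : ℕ} (hm : 2 ≤ m)
    (e : Q ≃* DihedralGroup m) (V : Subgroup Q) (hV : IsKleinFour V) :
    Subgroup.centralizer (V : Set Q) = V := by
  haveI : NeZero m := ⟨by omega⟩
  haveI : IsMulCommutative V := @IsKleinFour.isMulCommutative _ _ hV
  have hinv : ∀ v ∈ V, v * v = 1 := fun v hv =>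
    congrArg Subtype.val (@IsKleinFour.mul_self _ _ hV ⟨v, hv⟩)
  have hhalf : ∀ j : ZMod m, j + j = 0 → j ≠ 0 → 2 * j.val = m := by
    intro j hj hj0
    have h1 : m ∣ 2 * j.val := by
      rw [← ZMod.natCast_eq_zero_iff, Nat.cast_mul, ZMod.natCast_zmod_val]
      simpa [two_mul] using hj
    have h2 := ZMod.val_lt j
    have h3 : j.val ≠ 0 := fun h => hj0 ((ZMod.val_eq_zero j).1 h)
    obtain ⟨k, hk⟩ := h1
    rcases k with _ | _ | k
    · omega
    · omega
    · nlinarith
  have huniq : ∀ j k : ZMod m, j + j = 0 → k + k = 0 → (j = 0 ↔ k = 0) → j = k := by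
    intro j k hj hk hjk
    by_cases h : j = 0
    · rw [h, hjk.1 h]
    · have h1 := hhalf j hj h
      have h2 := hhalf k hk (fun h' => h (hjk.2 h'))
      exact ZMod.val_injective m (by omega)
  classical
  obtain ⟨v, hv, i, hvi⟩ : ∃ v ∈ V, ∃ i, e v = DihedralGroup.sr i := by
    by_contra hne
    push Not at hne
    have hall : ∀ v : V, ∃ j : ZMod m, e v = DihedralGroup.r j ∧ j + j = 0 := by
      rintro ⟨v, hv⟩
      rcases hj : e v with j | j
      · refine ⟨j, rfl, ?_⟩
        have := congrArg e (hinv v hv)
        rw [map_mul, hj, map_one, DihedralGroup.r_mul_r, DihedralGroup.one_def] at this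
        exact DihedralGroup.r.inj this
      · exact absurd hj (hne v hv j)
    choose j hj hj2 using hall
    have h2 := Nat.card_le_card_of_injective (fun v : V => decide (j v = 0)) (by
      intro v w hvw
      have hjw : j v = j w := huniq _ _ (hj2 v) (hj2 w) (by simpa using hvw)
      exact Subtype.ext (e.injective (by rw [hj v, hj w, hjw])))
    rw [hV.card_four, Nat.card_eq_fintype_card, Fintype.card_bool] at h2
    omega
  have hle : Subgroup.centralizer (V : Set Q) ≤ Subgroup.centralizer ({v} : Set Q) :=
    Subgroup.centralizer_le (by simpa using hv)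
  refine (Subgroup.eq_of_le_of_card_ge (Subgroup.le_centralizer V) ?_).symm
  refine (Subgroup.card_le_of_le hle).trans ?_
  have hcom : ∀ g : Subgroup.centralizer ({v} : Set Q),
      e g * DihedralGroup.sr i = DihedralGroup.sr i * e g := by
    intro g
    rw [← hvi, ← map_mul, ← map_mul, Subgroup.mem_centralizer_singleton_iff.1 g.2]
  let f : Subgroup.centralizer ({v} : Set Q) → Bool × Bool := fun g =>
    match e g with
    | .r j => (true, decide (j = 0))
    | .sr j => (false, decide (j - i = 0))
  have hf : Function.Injective f := by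
    intro a b hab
    have ha := hcom a
    have hb := hcom b
    apply Subtype.ext
    apply e.injective
    simp only [f] at hab
    rcases hea : e a with j | j <;> rcases heb : e b with k | k <;>
      rw [hea, heb] at hab <;> simp only [Prod.mk.injEq, Bool.true_eq_false, Bool.false_eq_true,
        false_and, decide_eq_decide, true_and] at hab
    · rw [hea, DihedralGroup.r_mul_sr, DihedralGroup.sr_mul_r, DihedralGroup.sr.injEq] at ha
      rw [heb, DihedralGroup.r_mul_sr, DihedralGroup.sr_mul_r, DihedralGroup.sr.injEq] at hb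
      rw [huniq j k (by linear_combination -ha) (by linear_combination -hb) hab]
    · rw [hea, DihedralGroup.sr_mul_sr, DihedralGroup.sr_mul_sr, DihedralGroup.r.injEq] at ha
      rw [heb, DihedralGroup.sr_mul_sr, DihedralGroup.sr_mul_sr, DihedralGroup.r.injEq] at hb
      rw [sub_left_injective (huniq (j - i) (k - i) (by linear_combination -ha)
        (by linear_combination -hb) hab)]
  refine (Nat.card_le_card_of_injective f hf).trans ?_
  rw [hV.card_four]
  simp


/-- Let R be a finite group, t a central involution of R such that R ⧸ ⟨t⟩ is dihedral (of order ≥ 4) or quasi-dihedral, and A ≤ R an elementary abelian subgroup of order 8 containing t. Then C_R(A) = A. -/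
theorem result {R : Type*} [Group R] [Finite R] (t : R) (ht : orderOf t = 2) (htz : t ∈ Subgroup.center R) [(Subgroup.zpowers t).Normal] (hq : (∃ m : ℕ, 2 ≤ m ∧ Nonempty (R ⧸ Subgroup.zpowers t ≃* DihedralGroup m)) ∨ Cfsg.IsQuasiDihedral (R ⧸ Subgroup.zpowers t)) (A : Subgroup R) (hA : Cfsg.IsElementaryAbelian 2 A) (hA8 : Nat.card A = 8) (htA : t ∈ A) : Subgroup.centralizer (A : Set R) = A := by
  set π := QuotientGroup.mk' (Subgroup.zpowers t) with hπ
  haveI := hA.1
  set V := A.map π with hV
  have hker : π.ker ≤ A := by rw [hπ, QuotientGroup.ker_mk', Subgroup.zpowers_le]; exact htA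
  have hV4 : Nat.card V = 4 := by
    have h1 := (π.subgroupMap A).ker.card_mul_index
    rw [Subgroup.index_ker, MonoidHom.range_eq_top.2 (π.subgroupMap_surjective A), Subgroup.card_top,
      hA8] at h1
    have h2 : Nat.card (π.subgroupMap A).ker = 2 := by
      rw [MonoidHom.ker, ← ht, ← Nat.card_zpowers t]
      refine Nat.card_congr
        { toFun := fun a => ⟨a.1, (QuotientGroup.eq_one_iff (a.1 : R)).1 (congrArg Subtype.val a.2)⟩
          invFun := fun a => ⟨⟨a, Subgroup.zpowers_le.2 htA a.2⟩,
            Subtype.ext ((QuotientGroup.eq_one_iff (a : R)).2 a.2)⟩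
          left_inv := fun a => rfl
          right_inv := fun a => rfl }
    rw [h2] at h1
    change 2 * Nat.card V = 8 at h1
    omega
  have hVK : IsKleinFour V := by
    refine ⟨hV4, ?_⟩
    refine (Nat.prime_two.eq_one_or_self_of_dvd _ ?_).resolve_left ?_
    · refine Monoid.exponent_dvd_of_forall_pow_eq_one fun g => ?_
      obtain ⟨_, a, ha, rfl⟩ := g
      apply Subtype.ext
      show (π a) ^ 2 = 1
      rw [← map_pow, hA.2 a ha, map_one]
    · intro h1
      rw [Monoid.exp_eq_one_iff] at h1
      rw [Nat.card_eq_one_iff_unique.2 ⟨h1, ⟨1⟩⟩] at hV4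
      omega
  have hC : Subgroup.centralizer (V : Set (R ⧸ Subgroup.zpowers t)) = V := by
    rcases hq with ⟨m, hm, ⟨e⟩⟩ | hq
    · exact dihedral_klein_centralizer hm e V hVK
    · obtain ⟨n, x, y, h⟩ := H67.exists_QD hq
      exact h.kleinFour_centralizer V hVK
  refine le_antisymm (fun g hg => ?_) (Subgroup.le_centralizer A)
  have hgV : π g ∈ V := by
    rw [← hC, Subgroup.mem_centralizer_iff]
    rintro _ ⟨a, ha, rfl⟩
    rw [← map_mul, ← map_mul, Subgroup.mem_centralizer_iff.1 hg a ha]
  obtain ⟨a, ha, hag⟩ := hgV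
  have : a⁻¹ * g ∈ π.ker := by rw [MonoidHom.mem_ker, map_mul, map_inv, hag, inv_mul_cancel]
  simpa using A.mul_mem ha (hker this)

end Cfsg.Agent.S1236
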