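import Cfsg.Statements.S1239
import Cfsg.Agent.H67.WeakFix
import Cfsg.Agent.H67.InvolCent
import Cfsg.Agent.H67.WRAut

set_option autoImplicit false
open Cfsg

namespace Cfsg.Agent.S1239

/-- Let X be a finite group whose Sylow 2-subgroup S is quasi-dihedral or wreathed, and suppose some involution of S is isolated in X. Then the product of the largest normal odd-order subgroup O(X) with the centre of S is normal in X. -/
theorem result {X : Type*} [Group X] [Finite X] (S : Sylow 2 X) (hS : Cfsg.IsQuasiDihedral (S : Subgroup X) ∨ Cfsg.IsWreathed (S : Subgroup X)) (z : X) (hzS : z ∈ S) (hz : Cfsg.IsIsolatedInvolution z) : (Cfsg.oddCore X ⊔ (Subgroup.center (S : Subgroup X)).map (S : Subgroup X).subtype).Normal := by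
  classical
  haveI : Fact (Nat.Prime 2) := ⟨Nat.prime_two⟩
  set O := Cfsg.oddCore X with hOdef
  haveI hOn : O.Normal := H1.pPrimeCore_normal' 2 X
  have hOS : ∀ v ∈ O, v ∈ (S : Subgroup X) → v = 1 := by
    intro v hvO hvS
    obtain ⟨k, hk⟩ := S.2 ⟨v, hvS⟩
    obtain ⟨j, -, hj⟩ := (Nat.dvd_prime_pow Nat.prime_two).mp
      (orderOf_dvd_of_pow_eq_one (congrArg Subtype.val hk : v ^ 2 ^ k = 1))
    have ho := H85.odd_orderOf_of_mem_core hvO
    rcases Nat.eq_zero_or_pos j with rfl | hj0
    · exact orderOf_eq_one_iff.mp hj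
    · rw [hj] at ho
      exact absurd ho (Nat.not_odd_iff_even.mpr ((Nat.even_pow).mpr ⟨even_two, hj0.ne'⟩))
  have hzc : ∀ g : X, z * g * z⁻¹ * g⁻¹ ∈ O := H85.zStar hz
  have hzcen : (⟨z, hzS⟩ : ↥(S : Subgroup X)) ∈ Subgroup.center ↥(S : Subgroup X) := by
    refine Subgroup.mem_center_iff.mpr fun s => Subtype.ext ?_
    have := hOS _ (hzc s) (mul_mem (mul_mem (mul_mem hzS s.2) (inv_mem hzS)) (inv_mem s.2))
    show (s : X) * z = z * (s : X)
    rw [mul_inv_eq_one, mul_inv_eq_iff_eq_mul] at this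
    exact this.symm
  have hz2 : (⟨z, hzS⟩ : ↥(S : Subgroup X)) * ⟨z, hzS⟩ = 1 :=
    Subtype.ext (show z * z = 1 by rw [← sq, ← hz.1, pow_orderOf_eq_one])
  have hz1 : (⟨z, hzS⟩ : ↥(S : Subgroup X)) ≠ 1 := fun e => by
    have h1 := hz.1
    rw [show z = 1 from congrArg Subtype.val e, orderOf_one] at h1
    omega
  set Z := (Subgroup.center ↥(S : Subgroup X)).map (S : Subgroup X).subtype with hZ
  have hfix : ∀ v ∈ Z, ∀ g : X, v * g * v⁻¹ * g⁻¹ ∈ O := by
    rcases hS with hq | hw
    · obtain ⟨n, x, y, h⟩ := H67.exists_QD hq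
      rintro _ ⟨v, hv, rfl⟩ g
      rw [h.center_eq, SetLike.mem_coe, Subgroup.mem_zpowers_iff] at hv
      obtain ⟨k, rfl⟩ := hv
      have hcc : x ^ (2 * H67.qdQ n) * x ^ (2 * H67.qdQ n) = 1 := by
        have := pow_orderOf_eq_one (x ^ (2 * H67.qdQ n))
        rwa [h.orderOf_c, pow_two] at this
      have hc : ⟨z, hzS⟩ = x ^ (2 * H67.qdQ n) := by
        have h1 := hzcen
        rw [h.center_eq, Subgroup.mem_zpowers_iff] at h1
        obtain ⟨m, hm⟩ := h1
        rcases Int.even_or_odd m with ⟨t, rfl⟩ | ⟨t, rfl⟩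
        · refine absurd ?_ hz1
          rw [← hm, ← two_mul, zpow_mul, zpow_two, hcc, one_zpow]
        · rw [← hm, zpow_add, zpow_mul, zpow_two, hcc, one_zpow, one_mul, zpow_one]
      rcases Int.even_or_odd k with ⟨t, rfl⟩ | ⟨t, rfl⟩
      · rw [← hc, ← two_mul, zpow_mul, zpow_two, hz2, one_zpow]
        simp
      · rw [← hc, zpow_add, zpow_mul, zpow_two, hz2, one_zpow, one_mul, zpow_one]
        exact hzc g
    · obtain ⟨n, x, y, w, h⟩ := H67.exists_WR hw
      have hzC : z = h.ptC := by
        rcases h.center_invol hzcen hz2 with e | e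
        · exact absurd e hz1
        · exact congrArg Subtype.val e
      have hU : ¬ h.FusedU := by
        intro hU
        obtain ⟨g, hg⟩ := isConj_iff.mp hU.symm
        have := hz.2 g (by rw [hzC, hg]; exact (h.c_comm (h.gE_mem _ _)).symm)
        rw [hzC, hg] at this
        exact h.c_ne_A this.symm
      have hwf : H85.WeaklyFixed (S : Subgroup X) Z := by
        by_cases hV : h.FusedV
        · exact H67.weaklyFixed_center_of_weaklyClosed S fun Z₀ hZ₀ => h.weakly_closed hU hV Z₀ hZ₀
        · obtain ⟨P, N, hNn, hNP⟩ := h.case_two_two hU hV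
          have hNodd : ¬ 2 ∣ Nat.card N := by
            rw [← hNP.index_eq_card]
            exact P.not_dvd_index
          have hNS : ∀ v ∈ N, v ∈ (S : Subgroup X) → v = 1 := by
            intro v hvN hvS
            obtain ⟨k, hk⟩ := S.2 ⟨v, hvS⟩
            obtain ⟨j, -, hj⟩ := (Nat.dvd_prime_pow Nat.prime_two).mp
              (orderOf_dvd_of_pow_eq_one (congrArg Subtype.val hk : v ^ 2 ^ k = 1))
            rcases Nat.eq_zero_or_pos j with rfl | hj0
            · exact orderOf_eq_one_iff.mp hj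
            · exact absurd ((dvd_pow_self 2 hj0.ne').trans
                (hj ▸ Subgroup.orderOf_dvd_natCard N hvN)) hNodd
          have htop : N ⊔ (S : Subgroup X) = ⊤ := by
            have h1 : (N ⊔ (S : Subgroup X)).index ∣ (S : Subgroup X).index :=
              Subgroup.index_dvd_of_le le_sup_right
            have h2 : (N ⊔ (S : Subgroup X)).index ∣ N.index := Subgroup.index_dvd_of_le le_sup_left
            rw [hNP.symm.index_eq_card] at h2
            obtain ⟨k, hk⟩ := IsPGroup.iff_card.mp P.2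
            rw [hk] at h2
            exact Subgroup.index_eq_one.mp (Nat.eq_one_of_dvd_coprimes
              ((Nat.prime_two.coprime_iff_not_dvd.mpr S.not_dvd_index).pow_left k) h2 h1)
          rintro _ ⟨v, hv, rfl⟩
          refine ⟨v.2, fun g hg => ?_⟩
          obtain ⟨m, hm, s, hs, rfl⟩ : ∃ m ∈ N, ∃ s ∈ (S : Subgroup X), m * s = g := by
            have : g ∈ ((N ⊔ (S : Subgroup X) : Subgroup X) : Set X) := by rw [htop]; trivial
            rw [Subgroup.normal_mul] at this
            exact Set.mem_mul.mp this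
          have e : s * (v : X) * s⁻¹ = (v : X) := by
            rw [mul_inv_eq_iff_eq_mul]
            exact congrArg Subtype.val (Subgroup.mem_center_iff.mp hv ⟨s, hs⟩)
          have e2 : m * s * (v : X) * (m * s)⁻¹ = m * (v : X) * m⁻¹ := by
            calc m * s * (v : X) * (m * s)⁻¹ = m * (s * (v : X) * s⁻¹) * m⁻¹ := by group
              _ = m * (v : X) * m⁻¹ := by rw [e]
          simp only [Subgroup.subtype_apply] at hg ⊢
          rw [e2] at hg ⊢
          have h3 := hNS ((v : X)⁻¹ * (m * (v : X) * m⁻¹))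
            (by
              rw [show (v : X)⁻¹ * (m * (v : X) * m⁻¹) = (v : X)⁻¹ * m * (v : X)⁻¹⁻¹ * m⁻¹ by group]
              exact mul_mem (hNn.conj_mem m hm _) (inv_mem hm))
            (mul_mem (inv_mem v.2) hg)
          exact (inv_mul_eq_one.mp h3).symm
      intro v hv g
      exact H85.mem_core_of_weaklyFixed _ X S Z hwf v hv rfl g
  refine ⟨fun a ha g => ?_⟩
  rw [← SetLike.mem_coe, Subgroup.normal_mul] at ha
  obtain ⟨o, ho, v, hv, rfl⟩ := Set.mem_mul.mp ha
  have e : g * (o * v) * g⁻¹ = g * o * g⁻¹ * ((v * g * v⁻¹ * g⁻¹)⁻¹) * v := by group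
  rw [e]
  exact mul_mem (Subgroup.mem_sup_left (mul_mem (hOn.conj_mem o ho g) (inv_mem (hfix v hv g))))
    (Subgroup.mem_sup_right hv)

end Cfsg.Agent.S1239
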