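import Cfsg.Statements.S1241
import Cfsg.Agent.H68.TransferMod

set_option autoImplicit false
open Cfsg

namespace Cfsg.Agent.S1241

/-- Let G be a finite group, p a prime, H a subgroup of index prime to p, K a subgroup of H normal in H with H/K commutative, and g ∈ H ∖ K an element of p-power order such that for all integers m and all a ∈ G with a g^m a⁻¹ ∈ H one has a g^m a⁻¹ ∈ g^m K. Then g ∉ G'. -/
theorem result {G : Type*} [Group G] [Finite G] {p : ℕ} [Fact p.Prime] (H K : Subgroup G) (hHK : K ≤ H) (hKn : (K.subgroupOf H).Normal) (hab : ∀ x ∈ H, ∀ y ∈ H, x * y * x⁻¹ * y⁻¹ ∈ K) (hidx : Nat.Coprime p H.index) (g : G) (hgH : g ∈ H) (hgK : g ∉ K) (hgp : ∃ k : ℕ, orderOf g = p ^ k) (hctrl : ∀ (m : ℤ) (a : G), a * g ^ m * a⁻¹ ∈ H → (a * g ^ m * a⁻¹) * (g ^ m)⁻¹ ∈ K) : g ∉ commutator G := by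
  intro hg'
  set K' := K.subgroupOf H with hK'
  haveI := hKn
  haveI hcomm : IsMulCommutative (↥H ⧸ K') := by
    refine ⟨⟨fun a b => ?_⟩⟩
    obtain ⟨x, rfl⟩ := QuotientGroup.mk'_surjective K' a
    obtain ⟨y, rfl⟩ := QuotientGroup.mk'_surjective K' b
    rw [← map_mul, ← map_mul]
    refine QuotientGroup.eq.mpr ?_
    have := hab _ (H.inv_mem y.2) _ (H.inv_mem x.2)
    rw [Subgroup.mem_subgroupOf]
    simpa [mul_assoc] using this
  letI : CommGroup (↥H ⧸ K') := { (inferInstance : Group (↥H ⧸ K')) with mul_comm := mul_comm' }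
  let φ : H →* ↥H ⧸ K' := QuotientGroup.mk' K'
  have hV : MonoidHom.transfer φ g = φ ⟨g, hgH⟩ ^ H.index := by
    refine H68.transfer_eq_pow_mod φ g hgH fun k a ha => ?_
    rw [← map_pow]
    refine (QuotientGroup.eq.mpr ?_).symm
    have h2 := hctrl (k : ℤ) a⁻¹
    rw [zpow_natCast, inv_inv] at h2
    have hkey : a⁻¹ * g ^ k * a * (g ^ k)⁻¹ ∈ K := h2 ha
    rw [Subgroup.mem_subgroupOf]
    have hconj := hKn.conj_mem (⟨_, hHK hkey⟩ : H) (Subgroup.mem_subgroupOf.mpr hkey)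
      (⟨g ^ k, H.pow_mem hgH k⟩ : H)⁻¹
    rw [Subgroup.mem_subgroupOf] at hconj
    simpa [mul_assoc] using hconj
  have h1 : MonoidHom.transfer φ g = 1 := MonoidHom.mem_ker.mp
    (Abelianization.commutator_subset_ker _ hg')
  rw [hV] at h1
  obtain ⟨k, hk⟩ := hgp
  have h2 : orderOf (φ ⟨g, hgH⟩) = 1 := by
    refine Nat.eq_one_of_dvd_coprimes (Nat.Coprime.pow_left k hidx) ?_ (orderOf_dvd_of_pow_eq_one h1)
    exact hk ▸ (orderOf_map_dvd φ ⟨g, hgH⟩).trans (dvd_of_eq (Subgroup.orderOf_mk g hgH))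
  rw [orderOf_eq_one_iff, ← MonoidHom.mem_ker, QuotientGroup.ker_mk', Subgroup.mem_subgroupOf] at h2
  exact hgK h2

end Cfsg.Agent.S1241
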