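import Cfsg.Statements.S1242
import Cfsg.Agent.H68.TransferMod
import Cfsg.Agent.H5.PResidual
import Cfsg.Agent.H5.Frobenius

set_option autoImplicit false
open Cfsg

namespace Cfsg.Agent.S1242

/-- Let G be a finite group, p a prime and H a subgroup of index prime to p such that any two elements of H of p-power order that are conjugate in G are conjugate in H. Then (O^p(G)·G') ∩ H = O^p(H)·H', where O^p denotes the subgroup generated by the elements of order prime to p. -/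
theorem result {G : Type*} [Group G] [Finite G] {p : ℕ} [Fact p.Prime] (H : Subgroup G) (hidx : Nat.Coprime p H.index) (hfus : ∀ g ∈ H, (∃ k : ℕ, orderOf g = p ^ k) → ∀ a : G, a * g * a⁻¹ ∈ H → ∃ h ∈ H, h * g * h⁻¹ = a * g * a⁻¹) : (Cfsg.pResidual p G ⊔ commutator G) ⊓ H = (Cfsg.pResidual p ↥H ⊔ commutator ↥H).map H.subtype := by
  set M : Subgroup H := Cfsg.pResidual p ↥H ⊔ commutator ↥H with hM
  refine le_antisymm ?_ (le_inf ?_ (Subgroup.map_subtype_le M))
  swap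
  · rw [hM, Subgroup.map_sup]
    refine sup_le_sup (H5.pResidual_subtype_map_le H) ?_
    rw [Subgroup.map_subtype_commutator]
    exact Subgroup.commutator_mono le_top le_top
  haveI hMn : M.Normal := inferInstance
  haveI : IsMulCommutative (↥H ⧸ M) :=
    Subgroup.Normal.quotient_commutative_iff_commutator_le.mpr le_sup_right
  letI : CommGroup (↥H ⧸ M) := { (inferInstance : Group (↥H ⧸ M)) with mul_comm := mul_comm' }
  have hA : IsPGroup p (↥H ⧸ M) := by
    refine (H5.isPGroup_quotient_pResidual (G := ↥H) (p := p)).of_surjective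
      (QuotientGroup.map (Cfsg.pResidual p ↥H) M (MonoidHom.id _) (fun x hx => Subgroup.mem_sup_left hx)) ?_
    intro y
    obtain ⟨x, rfl⟩ := QuotientGroup.mk'_surjective M y
    exact ⟨QuotientGroup.mk x, rfl⟩
  let φ : H →* ↥H ⧸ M := QuotientGroup.mk' M
  let V : G →* ↥H ⧸ M := MonoidHom.transfer φ
  have hker : Cfsg.pResidual p G ⊔ commutator G ≤ V.ker :=
    sup_le (H5.pResidual_le_ker V hA) (Abelianization.commutator_subset_ker V)
  rintro x ⟨hxO, hxH⟩
  obtain ⟨u, v, huv, ⟨k, hu⟩, hv, huz, hvz⟩ := H5.exists_p_decomposition (p := p) x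
  have huH : u ∈ H := Subgroup.zpowers_le.mpr hxH huz
  have hvH : v ∈ H := Subgroup.zpowers_le.mpr hxH hvz
  obtain ⟨j, -, hj⟩ := (Nat.dvd_prime_pow Fact.out).mp (orderOf_dvd_of_pow_eq_one hu)
  have hVu : V u = φ ⟨u, huH⟩ ^ H.index := by
    refine H68.transfer_eq_pow_mod φ u huH fun m a ha => ?_
    obtain ⟨i, -, hi⟩ := (Nat.dvd_prime_pow Fact.out).mp
      ((orderOf_pow_dvd (x := u) m).trans (dvd_of_eq hj))
    obtain ⟨h, hh, he⟩ := hfus (u ^ m) (H.pow_mem huH m) ⟨i, hi⟩ a⁻¹ (by rwa [inv_inv])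
    rw [inv_inv] at he
    have : (⟨a⁻¹ * u ^ m * a, ha⟩ : H) = ⟨h, hh⟩ * ⟨u, huH⟩ ^ m * (⟨h, hh⟩ : H)⁻¹ :=
      Subtype.ext he.symm
    rw [this, map_mul, map_mul, map_inv, map_pow, mul_inv_cancel_comm]
  have h1 : V u = 1 := MonoidHom.mem_ker.mp (hker (Subgroup.zpowers_le.mpr hxO huz))
  rw [hVu] at h1
  have h2 : orderOf (φ ⟨u, huH⟩) = 1 := by
    refine Nat.eq_one_of_dvd_coprimes (Nat.Coprime.pow_left j hidx) ?_ (orderOf_dvd_of_pow_eq_one h1)
    exact hj ▸ (orderOf_map_dvd φ ⟨u, huH⟩).trans (dvd_of_eq (Subgroup.orderOf_mk u huH))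
  rw [orderOf_eq_one_iff, ← MonoidHom.mem_ker, QuotientGroup.ker_mk'] at h2
  have hvM : (⟨v, hvH⟩ : H) ∈ M :=
    Subgroup.mem_sup_left (H5.mem_pResidual_of_coprime (by rwa [Subgroup.orderOf_mk]))
  exact ⟨⟨u, huH⟩ * ⟨v, hvH⟩, M.mul_mem h2 hvM, huv.symm⟩

end Cfsg.Agent.S1242
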