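import Cfsg.Statements.S1243
import Cfsg.Agent.H68.Basic
import Cfsg.Agent.H68.Sylow

set_option autoImplicit false
open Cfsg

namespace Cfsg.Agent.S1243

/-- Let T be a Sylow p-subgroup of the finite group G and W ≤ T a subgroup weakly closed in T. If d and g d g⁻¹ both centralize W, then g d g⁻¹ = h d h⁻¹ for some h ∈ N_G(W). -/
theorem result {G : Type*} [Group G] [Finite G] {p : ℕ} [Fact p.Prime] (T : Sylow p G) (W : Subgroup G) (hW : Cfsg.IsWeaklyClosed W (T : Subgroup G)) (d g : G) (hd : d ∈ Subgroup.centralizer (W : Set G)) (hgd : g * d * g⁻¹ ∈ Subgroup.centralizer (W : Set G)) : ∃ h ∈ Subgroup.normalizer (W : Set G), h * d * h⁻¹ = g * d * g⁻¹ := by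
  haveI := Fact.out (p := p.Prime)
  set K := Subgroup.centralizer ({d} : Set G) with hK
  have hW1 : W ≤ K := fun w hw =>
    Subgroup.mem_centralizer_singleton_iff.mpr (Subgroup.mem_centralizer_iff.mp hd w hw)
  have hW2 : H70.cj g⁻¹ W ≤ K := by
    rintro x ⟨w, hw, rfl⟩
    have h := Subgroup.mem_centralizer_iff.mp hgd w hw
    apply Subgroup.mem_centralizer_singleton_iff.mpr
    simp only [MulEquiv.coe_toMonoidHom, MulAut.conj_apply, inv_inv]
    calc g⁻¹ * w * g * d = g⁻¹ * (w * (g * d * g⁻¹)) * g := by group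
      _ = g⁻¹ * (g * d * g⁻¹ * w) * g := by rw [h]
      _ = d * (g⁻¹ * w * g) := by group
  obtain ⟨c, hc, b, hb1, hb2⟩ := H68.exists_cj_pair_le_sylow T K W (H70.cj g⁻¹ W)
    (T.2.to_le hW.1) ((T.2.to_le hW.1).map _) hW1 hW2
  rw [H70.cj_cj, H70.cj_cj] at hb2
  have he1 : H70.cj b W = W := hW.2 b hb1
  have he2 : H70.cj (b * c * g⁻¹) W = W := hW.2 _ hb2
  refine ⟨g * c⁻¹, ?_, ?_⟩
  · rw [← H70.cj_eq_self_iff]
    have : H70.cj b⁻¹ W = W := by rw [← H70.cj_eq_iff.mp he1]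
    have h3 : H70.cj (b⁻¹ * (b * c * g⁻¹)) W = W := by
      rw [← H70.cj_cj, he2, this]
    rw [show b⁻¹ * (b * c * g⁻¹) = (g * c⁻¹)⁻¹ by group] at h3
    have h4 := congrArg (H70.cj (g * c⁻¹)) h3
    rw [H70.cj_cj, mul_inv_cancel, H70.cj_one] at h4
    exact h4.symm
  · have h := Subgroup.mem_centralizer_singleton_iff.mp hc
    calc g * c⁻¹ * d * (g * c⁻¹)⁻¹ = g * (c⁻¹ * (d * c)) * g⁻¹ := by group
      _ = g * d * g⁻¹ := by rw [← h]; group

end Cfsg.Agent.S1243
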