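import Cfsg.Statements.S1244
import Cfsg.Agent.H5.Burnside
import Cfsg.Agent.H6.Basic

set_option autoImplicit false
open Cfsg

namespace Cfsg.Agent.S1244

/-- Let G be a finite group with no subgroup of index 2 whose Sylow 2-subgroup S is commutative, and let R ≤ S be a subgroup whose 2-rank is exactly one less than the 2-rank r of S. Then every involution of S is conjugate, by an element of N_G(S), to an element of R. -/
theorem result {G : Type*} [Group G] [Finite G] (hG : ∀ H : Subgroup G, H.index ≠ 2) (S : Sylow 2 G) (hS : IsMulCommutative (S : Subgroup G)) (r : ℕ) (hr1 : 1 ≤ r) (hSr : Cfsg.PRankLE 2 r (S : Subgroup G) ∧ ¬ Cfsg.PRankLE 2 (r - 1) (S : Subgroup G)) (R : Subgroup G) (hRS : R ≤ S) (hRr : Cfsg.PRankLE 2 (r - 1) R ∧ (r = 1 ∨ ¬ Cfsg.PRankLE 2 (r - 2) R)) (t : G) (ht : orderOf t = 2) (htS : t ∈ S) : ∃ n ∈ Subgroup.normalizer ((S : Subgroup G) : Set G), n * t * n⁻¹ ∈ R := by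
  haveI := hS
  haveI : Fact (Nat.Prime 2) := ⟨Nat.prime_two⟩
  by_contra hcon
  push Not at hcon
  set S' : Subgroup G := (S : Subgroup G) with hS'
  have hcommS : ∀ a ∈ S', ∀ b ∈ S', a * b = b * a := fun a ha b hb =>
    congrArg Subtype.val (mul_comm' (⟨a, ha⟩ : S') ⟨b, hb⟩)
  letI : CommGroup S' := { (inferInstance : Group S') with mul_comm := mul_comm' }
  -- the involutions of `S` and of `R`
  let Ω : Subgroup S' := (powMonoidHom 2 : S' →* S').ker
  let R' : Subgroup S' := Ω ⊓ R.subgroupOf S'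
  have hΩmem : ∀ x : S', x ∈ Ω ↔ x ^ 2 = 1 := fun x => Iff.rfl
  have hΩle : Nat.card Ω ≤ 2 ^ r := hSr.1 Ω inferInstance (fun a ha => (hΩmem a).mp ha)
  have hΩgt : 2 ^ (r - 1) < Nat.card Ω := by
    obtain ⟨A, hA1, hA2, hA3⟩ : ∃ A : Subgroup S', IsMulCommutative A ∧ (∀ a ∈ A, a ^ 2 = 1) ∧
        2 ^ (r - 1) < Nat.card A := by
      by_contra h
      push Not at h
      exact hSr.2 (fun A h1 h2 => h A h1 h2)
    exact hA3.trans_le (Subgroup.card_le_of_le (fun a ha => (hΩmem a).mpr (hA2 a ha)))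
  have hp : ∀ B : Subgroup S', ∃ k, Nat.card B = 2 ^ k := fun B => (S.2.to_subgroup B).exists_card_eq
  have hR'2 : Nat.card Ω ≤ 2 * Nat.card R' := by
    obtain ⟨a, ha⟩ := hp Ω
    obtain ⟨b, hb⟩ := hp R'
    have hle : a ≤ r := (Nat.pow_le_pow_iff_right (by norm_num)).mp (ha ▸ hΩle)
    have hb' : r - 1 ≤ b := by
      rcases hRr.2 with h | h
      · omega
      obtain ⟨A, hA1, hA2, hA3⟩ : ∃ A : Subgroup R, IsMulCommutative A ∧ (∀ x ∈ A, x ^ 2 = 1) ∧
          2 ^ (r - 2) < Nat.card A := by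
        by_contra hh
        push Not at hh
        exact h (fun A h1 h2 => hh A h1 h2)
      have hmap : A.map (Subgroup.inclusion hRS) ≤ R' := by
        rintro _ ⟨x, hx, rfl⟩
        refine ⟨(hΩmem _).mpr ?_, x.2⟩
        rw [← map_pow, hA2 x hx, map_one]
      have hlt := hA3.trans_le ((Subgroup.card_map_of_injective (Subgroup.inclusion_injective hRS)).ge.trans
        (Subgroup.card_le_of_le hmap))
      rw [hb, Nat.pow_lt_pow_iff_right (by norm_num)] at hlt
      omega
    rw [ha, hb, ← pow_succ']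
    exact Nat.pow_le_pow_right (by norm_num) (by omega)
  -- products of two elements of `Ω` outside `R'` lie in `R'`
  have hprod2 : ∀ x ∈ Ω, x ∉ R' → ∀ y ∈ Ω, y ∉ R' → x * y ∈ R' := by
    intro x hx hx' y hy hy'
    have hi : (R'.subgroupOf Ω).index = 2 := by
      have h := (R'.subgroupOf Ω).index_mul_card
      rw [Nat.card_congr (Subgroup.subgroupOfEquivOfLe (inf_le_left : R' ≤ Ω)).toEquiv] at h
      have h1 : (R'.subgroupOf Ω).index ≤ 2 := by
        refine Nat.le_of_mul_le_mul_right (c := Nat.card R') ?_ Nat.card_pos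
        rw [h]; exact hR'2
      have h2 : (R'.subgroupOf Ω).index ≠ 1 := by
        rw [Ne, Subgroup.index_eq_one, Subgroup.subgroupOf_eq_top]
        exact fun hle => hx' (hle hx)
      have h3 : (R'.subgroupOf Ω).index ≠ 0 := Subgroup.index_ne_zero_of_finite
      omega
    have := (Subgroup.mul_mem_iff_of_index_two hi (a := ⟨x, hx⟩) (b := ⟨y, hy⟩))
    simp only [Subgroup.mem_subgroupOf, Subgroup.coe_mul] at this
    exact this.mpr (by simp [hx', hy'])
  -- the product over the orbit of `t`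
  set N := Subgroup.normalizer (S' : Set G) with hN
  set T := S'.subgroupOf N with hT
  letI : Fintype (↥N ⧸ T) := Fintype.ofFinite _
  let c : ↥N → S' := fun n => ⟨(n : G) * t * (n : G)⁻¹, (Subgroup.mem_normalizer_iff.mp n.2 t).mp htS⟩
  have hcT : ∀ n : ↥N, ∀ s ∈ T, c (n * s) = c n := by
    intro n s hs
    apply Subtype.ext
    show (n : G) * s * t * ((n : G) * s)⁻¹ = (n : G) * t * (n : G)⁻¹
    rw [mul_assoc (n : G) (s : G) t, hcommS (s : G) hs t htS]
    group
  let f : ↥N ⧸ T → S' := fun q => c q.out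
  have hfc : ∀ n : ↥N, f (QuotientGroup.mk n) = c n := by
    intro n
    obtain ⟨s, hs⟩ := QuotientGroup.mk_out_eq_mul T n
    show c (Quotient.out (QuotientGroup.mk n : ↥N ⧸ T)) = c n
    rw [hs]; exact hcT n s s.2
  have hfΩ : ∀ q, f q ∈ Ω := by
    intro q
    rw [hΩmem]
    apply Subtype.ext
    show ((q.out : G) * t * (q.out : G)⁻¹) ^ 2 = 1
    rw [conj_pow, ← ht, pow_orderOf_eq_one, mul_one, mul_inv_cancel]
  have hfR : ∀ q, f q ∉ R' := fun q h => hcon _ (q.out : ↥N).2 h.2
  have hodd : Odd (Fintype.card (↥N ⧸ T)) := by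
    rw [← Nat.card_eq_fintype_card, Nat.odd_iff, ← Nat.two_dvd_ne_zero]
    intro hd
    exact S.not_dvd_index (hd.trans (Subgroup.relIndex_dvd_index_of_le Subgroup.le_normalizer))
  set e : S' := ∏ q, f q with he
  have heR : e ∉ R' := by
    classical
    have key : ∀ s : Finset (↥N ⧸ T), (∏ q ∈ s, f q) ∈ Ω ∧ ((∏ q ∈ s, f q) ∈ R' ↔ Even s.card) := by
      intro s
      induction s using Finset.induction with
      | empty => simp [Subgroup.one_mem]
      | insert q s hq ih =>
        rw [Finset.prod_insert hq, Finset.card_insert_of_notMem hq]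
        refine ⟨Ω.mul_mem (hfΩ q) ih.1, ?_⟩
        by_cases hev : Even s.card
        · have h1 := ih.2.mpr hev
          refine iff_of_false (fun h => hfR q ((R'.mul_mem_cancel_right h1).mp h)) ?_
          rw [Nat.not_even_iff_odd]; exact hev.add_one
        · have h1 : (∏ q ∈ s, f q) ∉ R' := fun h => hev (ih.2.mp h)
          exact iff_of_true (hprod2 _ (hfΩ q) (hfR q) _ ih.1 h1)
            (Nat.not_even_iff_odd.mp hev).add_one
    intro h
    exact (Nat.not_even_iff_odd.mpr hodd) ((key Finset.univ).2.mp h)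
  have hefix : ∀ n : ↥N, (n : G) * (e : G) * (n : G)⁻¹ = (e : G) := by
    intro n
    let ψ : S' →* G := (MulAut.conj (n : G)).toMonoidHom.comp S'.subtype
    have hmap : ∀ x : S', (n : G) * (x : G) * (n : G)⁻¹ ∈ S' := fun x =>
      (Subgroup.mem_normalizer_iff.mp n.2 (x : G)).mp x.2
    let χ : S' →* S' := ψ.codRestrict S' hmap
    have h1 : χ e = e := by
      rw [he, map_prod]
      refine Fintype.prod_equiv (MulAction.toPerm n) _ _ fun q => ?_
      obtain ⟨m, rfl⟩ := QuotientGroup.mk_surjective q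
      show χ (f (QuotientGroup.mk m)) = f (QuotientGroup.mk (n * m))
      rw [hfc, hfc]
      apply Subtype.ext
      show (n : G) * ((m : G) * t * (m : G)⁻¹) * (n : G)⁻¹ = (n : G) * m * t * ((n : G) * m)⁻¹
      group
    exact congrArg Subtype.val h1
  -- transfer into `S` is nontrivial
  haveI : IsMulCommutative (S : Subgroup G) := hS
  have hkey : ∀ (k : ℕ) (g₀ : G), g₀⁻¹ * (e : G) ^ k * g₀ ∈ S' → g₀⁻¹ * (e : G) ^ k * g₀ = (e : G) ^ k := by
    intro k g₀ hk
    obtain ⟨m, hm, hm'⟩ := H5.control_of_commutative S _ (S'.pow_mem e.2 k) g₀⁻¹ (by rwa [inv_inv])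
    rw [inv_inv] at hm'
    rw [← hm', ← conj_pow, hefix ⟨m, hm⟩]
  let V : G →* S' := MonoidHom.transfer (MonoidHom.id S')
  have hVe : V e = e := by
    have h := MonoidHom.transfer_eq_pow (MonoidHom.id S') (e : G) hkey
    refine h.trans (Subtype.ext ?_)
    show (e : G) ^ S'.index = e
    obtain ⟨j, hj⟩ : Odd S'.index := Nat.odd_iff.mpr (Nat.two_dvd_ne_zero.mp S.not_dvd_index)
    have h2 : e ^ 2 = 1 := by
      have := (hΩmem e).mp (Subgroup.prod_mem Ω (fun q _ => hfΩ q))
      exact this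
    rw [hj, pow_succ, pow_mul, show (e : G) ^ 2 = 1 from congrArg Subtype.val h2, one_pow, one_mul]
  have hne : V.range ≠ ⊥ := fun h => heR (by
    have : V e ∈ V.range := ⟨e, rfl⟩
    rw [h, Subgroup.mem_bot, hVe] at this
    exact this ▸ R'.one_mem)
  obtain ⟨M, hM, -⟩ := (eq_top_or_exists_le_coatom (⊥ : Subgroup V.range)).resolve_left (by
    intro h
    haveI := (Subgroup.nontrivial_iff_ne_bot _).mpr hne
    exact bot_ne_top h)
  refine hG (M.comap V.rangeRestrict) ?_
  rw [Subgroup.index_comap_of_surjective _ V.rangeRestrict_surjective]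
  exact H6.index_eq_prime_of_isCoatom (S.2.to_subgroup V.range) hM

end Cfsg.Agent.S1244
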