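import Cfsg.Statements.S1246
import Cfsg.Agent.H68.CharP

set_option autoImplicit false
open Cfsg

namespace Cfsg.Agent.S1246

/-- Let V ≤ U be p-subgroups of the finite group G. If the generalized Fitting subgroup of C_G(V) is a p-group, then so is that of C_G(U). -/
theorem result {G : Type*} [Group G] [Finite G] {p : ℕ} [Fact p.Prime] (U V : Subgroup G) (hVU : V ≤ U) (hU : IsPGroup p U) (hV : IsPGroup p ↥(Cfsg.generalizedFittingSubgroup ↥(Subgroup.centralizer (V : Set G)))) : IsPGroup p ↥(Cfsg.generalizedFittingSubgroup ↥(Subgroup.centralizer (U : Set G))) := by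
  suffices key : ∀ (n : ℕ) (W : Subgroup G), V ≤ W → W ≤ U → Nat.card U ≤ Nat.card W + n →
      IsPGroup p ↥(Cfsg.generalizedFittingSubgroup ↥(Subgroup.centralizer (W : Set G))) →
      IsPGroup p ↥(Cfsg.generalizedFittingSubgroup ↥(Subgroup.centralizer (U : Set G))) from
    key (Nat.card U) V le_rfl hVU (Nat.le_add_left _ _) hV
  intro n
  induction n with
  | zero =>
    intro W _ hWU hc h
    rwa [Subgroup.eq_of_le_of_card_ge hWU (by omega)] at h
  | succ n ih =>
    intro W hVW hWU hc h
    by_cases he : W = U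
    · rwa [he] at h
    haveI : Group.IsNilpotent U := hU.isNilpotent
    have hlt : W.subgroupOf U < ⊤ := lt_top_iff_ne_top.mpr (by
      rw [Ne, Subgroup.subgroupOf_eq_top]; exact fun hh => he (le_antisymm hWU hh))
    obtain ⟨u, huN, huW⟩ := SetLike.exists_of_lt (Group.normalizerCondition_of_isNilpotent (G := U) _ hlt)
    set W' : Subgroup G := U ⊓ Subgroup.normalizer (W : Set G) with hW'
    have hWW' : W ≤ W' := le_inf hWU Subgroup.le_normalizer
    have hu : (u : G) ∈ W' := by
      refine ⟨u.2, ?_⟩
      have := Subgroup.le_normalizer_map U.subtype ⟨u, huN, rfl⟩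
      rwa [Subgroup.map_subgroupOf_eq_of_le hWU] at this
    have hlt' : Nat.card W < Nat.card W' := by
      refine lt_of_le_of_ne (Subgroup.card_le_of_le hWW') (fun hh => huW ?_)
      rw [Subgroup.mem_subgroupOf, Subgroup.eq_of_le_of_card_ge hWW' hh.ge]
      exact hu
    have hN : W' ≤ Subgroup.normalizer ((Subgroup.centralizer (W : Set G) : Subgroup G) : Set G) :=
      Cfsg.Comp.le_normalizer_centralizer inf_le_right
    have h2 := H68.centralizer_pCore_le_inf_centralizer (hU.to_le inf_le_left) hN
      (H68.centralizer_pCore_le_of_gfs h)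
    rw [inf_eq_right.mpr (Subgroup.centralizer_le hWW')] at h2
    exact ih W' (hVW.trans hWW') inf_le_left (by omega) (H68.gfs_isPGroup_iff.mpr h2)

end Cfsg.Agent.S1246
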