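import Cfsg.Statements.S1247
import Cfsg.Agent.H68.BenderTwo

set_option autoImplicit false
open Cfsg

namespace Cfsg.Agent.S1247

/-- Let G be a non-abelian finite simple group, A a maximal subgroup, F = F*(A) its generalized Fitting subgroup (viewed in G), and S ≤ F a subgroup subnormal in F with C_F(S) ≤ S. Let B be any subgroup of G containing S. Then (a) for every prime q not dividing |F(A)|, O_q(B) ∩ A = 1; and (b) for every prime p dividing |F(A)|, O_p(B) commutes elementwise with the subgroup of F generated by its elements of order prime to p. -/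
theorem result {G : Type*} [Group G] [Finite G] [IsSimpleGroup G] (hna : ¬ IsMulCommutative G) (A : Subgroup G) (hA : IsCoatom A) (S : Subgroup G) (hSF : S ≤ (Cfsg.generalizedFittingSubgroup ↥A).map A.subtype) (hSsn : (S.subgroupOf ((Cfsg.generalizedFittingSubgroup ↥A).map A.subtype)).IsSubnormal) (hSC : (Cfsg.generalizedFittingSubgroup ↥A).map A.subtype ⊓ Subgroup.centralizer (S : Set G) ≤ S) (B : Subgroup G) (hSB : S ≤ B) : (∀ q : ℕ, q.Prime → ¬ q ∣ Nat.card (Cfsg.fittingSubgroup ↥A) → (Cfsg.pCore q ↥B).map B.subtype ⊓ A = ⊥) ∧ (∀ p : ℕ, p.Prime → p ∣ Nat.card (Cfsg.fittingSubgroup ↥A) → ∀ x ∈ (Cfsg.pCore p ↥B).map B.subtype, ∀ y ∈ (Cfsg.pResidual p ↥(Cfsg.generalizedFittingSubgroup ↥A)).map ((Cfsg.generalizedFittingSubgroup ↥A).subtype) , x * (A.subtype y) = (A.subtype y) * x) := by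
  set Fs := Cfsg.generalizedFittingSubgroup A with hFs
  set F := Fs.map A.subtype with hF
  have hSA : S ≤ A := hSF.trans (Subgroup.map_subtype_le _)
  set S₀ := S.subgroupOf A with hS₀
  have hS₀F : S₀ ≤ Fs := by
    intro s hs
    obtain ⟨s', hs', he⟩ := hSF hs
    exact (Subtype.ext he : s' = s) ▸ hs'
  have hS₀n : S₀.IsSubnormal := by
    refine Subgroup.IsSubnormal.trans hS₀F ?_
      (inferInstance : (Cfsg.generalizedFittingSubgroup A).Normal).isSubnormal
    exact hSsn.comap (Fs.equivMapOfInjective A.subtype A.subtype_injective).toMonoidHom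
  have hS₀C : Fs ⊓ Subgroup.centralizer (S₀ : Set A) ≤ S₀ := by
    rintro a ⟨ha, hac⟩
    refine hSC ⟨⟨a, ha, rfl⟩, Subgroup.mem_centralizer_iff.2 fun s hs => ?_⟩
    exact congrArg Subtype.val (Subgroup.mem_centralizer_iff.1 hac ⟨s, hSA hs⟩ hs)
  have hBN : ∀ r : ℕ, S ≤ Subgroup.normalizer (((Cfsg.pCore r B).map B.subtype : Subgroup G) : Set G) := by
    intro r
    have h := Subgroup.le_normalizer_map (H := Cfsg.pCore r B) B.subtype
    rw [Subgroup.normalizer_eq_top_iff.2 inferInstance, ← MonoidHom.range_eq_map,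
      Subgroup.range_subtype] at h
    exact hSB.trans h
  refine ⟨fun q hq hqd => ?_, fun p hp hpd x hx y hy => ?_⟩
  · haveI := Fact.mk hq
    have h0 : ((Cfsg.pCore q B).map B.subtype).subgroupOf A = ⊥ := by
      refine H68.eq_bot_of_not_dvd_fitting S₀ hS₀F hS₀n hS₀C hqd
        (((Cfsg.Comp.pCore_isPGroup q).map _).comap_of_injective A.subtype A.subtype_injective)
        (fun s hs => Subgroup.mem_normalizer_iff.2 fun a => ?_)
      rw [Subgroup.mem_subgroupOf, Subgroup.mem_subgroupOf]
      push_cast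
      exact Subgroup.mem_normalizer_iff.1 (hBN q hs) (a : G)
    rw [Subgroup.subgroupOf_eq_bot] at h0
    exact h0.eq_bot
  · haveI := Fact.mk hp
    obtain ⟨g, hg, rfl⟩ := hy
    have hle : Cfsg.pResidual p Fs ≤ (Subgroup.centralizer ({x} : Set G)).comap
        (A.subtype.comp Fs.subtype) := by
      refine (Subgroup.closure_le _).2 fun w hw => ?_
      refine Subgroup.mem_centralizer_singleton_iff.2 ?_
      refine (H68.commute_pResidual_fStar A hA S₀ hS₀F hS₀n hS₀C hpd _
        ((Cfsg.Comp.pCore_isPGroup p).map B.subtype) ?_ w.2 ?_ hx).symm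
      · rw [hS₀, Subgroup.subgroupOf_map_subtype]
        exact inf_le_left.trans (hBN p)
      · rw [Subgroup.orderOf_coe]
        exact (hp.coprime_iff_not_dvd).1 (Nat.Coprime.symm hw)
    exact (Subgroup.mem_centralizer_singleton_iff.1 (hle hg)).symm

end Cfsg.Agent.S1247
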