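import Cfsg.Statements.S1249
import Cfsg.Agent.H68.Basic

set_option autoImplicit false
open Cfsg

namespace Cfsg.Agent.S1249

/-- Let P and Q be Sylow p-subgroups of the finite group G both containing the subgroup A. If A is strongly closed in P, then A is strongly closed in Q. -/
theorem result {G : Type*} [Group G] [Finite G] {p : ℕ} [Fact p.Prime] (P Q : Sylow p G) (A : Subgroup G) (hAQ : A ≤ Q) (hA : Cfsg.IsStronglyClosed A (P : Subgroup G)) : Cfsg.IsStronglyClosed A (Q : Subgroup G) := by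
  obtain ⟨g, hg⟩ := MulAction.exists_smul_eq G P Q
  have hmem : ∀ x : G, x ∈ (Q : Subgroup G) ↔ g⁻¹ * x * g ∈ (P : Subgroup G) := by
    intro x
    rw [← hg, Sylow.coe_subgroup_smul]
    exact H70.mem_cj
  have hle : H70.cj g⁻¹ A ≤ A := by
    rintro y ⟨a, ha, rfl⟩
    have h1 := (hmem a).mp (hAQ ha)
    have := hA.2 a ha g⁻¹ (by simpa using h1)
    simpa using this
  have heq : H70.cj g⁻¹ A = A := H70.eq_of_cj_le hle
  refine ⟨hAQ, fun x hx h hxQ => ?_⟩
  have h1 := (hmem _).mp hxQ
  have h2 := hA.2 x hx (g⁻¹ * h) (by simpa [mul_assoc] using h1)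
  rw [← heq, H70.mem_cj] at h2
  simpa [mul_assoc] using h2

end Cfsg.Agent.S1249
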