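import Cfsg.Statements.S1250
import Cfsg.Agent.H68.Basic

set_option autoImplicit false
open Cfsg

namespace Cfsg.Agent.S1250

/-- Let S be a Sylow p-subgroup of the finite group G, A ≤ S strongly closed in S, and N a normal subgroup. Then the image of A in G ⧸ N is strongly closed in the image of S (which is a Sylow p-subgroup of G ⧸ N). -/
theorem result {G : Type*} [Group G] [Finite G] {p : ℕ} [Fact p.Prime] (S : Sylow p G) (A : Subgroup G) (hA : Cfsg.IsStronglyClosed A (S : Subgroup G)) (N : Subgroup G) [N.Normal] : Cfsg.IsStronglyClosed (A.map (QuotientGroup.mk' N)) ((S : Subgroup G).map (QuotientGroup.mk' N)) := by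
  refine ⟨Subgroup.map_mono hA.1, ?_⟩
  rintro x ⟨a, ha, rfl⟩ y
  obtain ⟨g, rfl⟩ := QuotientGroup.mk'_surjective N y
  intro hx
  rw [← map_inv, ← map_mul, ← map_mul] at hx ⊢
  have hK : g * a * g⁻¹ ∈ N ⊔ (S : Subgroup G) := by
    have h1 := Subgroup.mem_comap.mpr hx
    rw [Subgroup.comap_map_eq, QuotientGroup.ker_mk', sup_comm] at h1
    exact h1
  have hSK : (S : Subgroup G) ≤ N ⊔ (S : Subgroup G) := le_sup_right
  have hQ : IsPGroup p (Subgroup.zpowers (g * a * g⁻¹)) := by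
    obtain ⟨k, hk⟩ := IsPGroup.iff_orderOf.mp S.2 ⟨a, hA.1 ha⟩
    rw [Subgroup.orderOf_mk] at hk
    refine IsPGroup.of_card (n := k) ?_
    rw [Nat.card_zpowers, ← hk]
    exact (MulAut.conj g).orderOf_eq a
  obtain ⟨h, hh, hc⟩ := H70.exists_cj_le_sylow S hSK hQ (Subgroup.zpowers_le.mpr hK)
  have hmem : h * (g * a * g⁻¹) * h⁻¹ ∈ (S : Subgroup G) :=
    hc (H68.mem_cj_of (Subgroup.mem_zpowers _))
  obtain ⟨n, hn, s, hs, rfl⟩ := (Subgroup.mem_sup_of_normal_left (s := N)).mp hh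
  -- replace `n * s` by an element of `N`
  have hs' : s⁻¹ * (n * s * (g * a * g⁻¹) * (n * s)⁻¹) * s ∈ (S : Subgroup G) :=
    mul_mem (mul_mem (inv_mem hs) hmem) hs
  have hin := hA.2 a ha (s⁻¹ * n * s * g) (by simpa [mul_assoc] using hs')
  refine ⟨_, hin, ?_⟩
  have hn' : QuotientGroup.mk' N (s⁻¹ * n * s) = 1 := by
    rw [QuotientGroup.mk'_apply, QuotientGroup.eq_one_iff]
    simpa using (inferInstance : N.Normal).conj_mem n hn s⁻¹
  rw [show s⁻¹ * n * s * g * a * (s⁻¹ * n * s * g)⁻¹ = (s⁻¹ * n * s) * (g * a * g⁻¹) * (s⁻¹ * n * s)⁻¹ by group,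
    map_mul, map_mul, map_inv, hn']
  simp

end Cfsg.Agent.S1250
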