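import Cfsg.Statements.S1253
import Cfsg.Agent.H9.InvSylow
import Cfsg.Agent.H66.Isolated
import Cfsg.Agent.H68.Basic
set_option autoImplicit false
open Cfsg

namespace Cfsg.Agent.S1253

/-- Let z be an isolated involution of the finite group G with centralizer C, p an odd prime and P a Sylow p-subgroup of G normalized by z. Then P ∩ C has p-power-free index in C (it is a Sylow p-subgroup of C), and |P : C_P(z)| equals the number of elements x ∈ P with z x z⁻¹ = x⁻¹. -/
theorem result {G : Type*} [Group G] [Finite G] (z : G) (hz : Cfsg.IsIsolatedInvolution z) {p : ℕ} [Fact p.Prime] (hp : p ≠ 2) (P : Sylow p G) (hzP : z ∈ Subgroup.normalizer ((P : Subgroup G) : Set G)) : ¬ p ∣ ((P : Subgroup G) ⊓ Subgroup.centralizer ({z} : Set G)).relIndex (Subgroup.centralizer ({z} : Set G)) ∧ ((P : Subgroup G) ⊓ Subgroup.centralizer ({z} : Set G)).relIndex (P : Subgroup G) = Nat.card {x : G // x ∈ P ∧ z * x * z⁻¹ = x⁻¹} := by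
  classical
  have hp2 : p.Prime := Fact.out
  refine ⟨?_, ?_⟩
  · set C := Subgroup.centralizer ({z} : Set G) with hC
    obtain ⟨Q⟩ := (inferInstance : Nonempty (Sylow p ↥C))
    let Q' : Subgroup G := (Q : Subgroup ↥C).map C.subtype
    have hQ' : IsPGroup p Q' := Q.isPGroup'.map _
    have hzQ : z ∈ Subgroup.normalizer (Q' : Set G) := by
      refine Subgroup.centralizer_le_normalizer _ ?_
      rw [Subgroup.mem_centralizer_iff]
      rintro _ ⟨y, -, rfl⟩
      exact Subgroup.mem_centralizer_singleton_iff.mp y.2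
    obtain ⟨R, hR⟩ : ∃ R : Subgroup G, Maximal (fun R : Subgroup G =>
        IsPGroup p R ∧ z ∈ Subgroup.normalizer (R : Set G) ∧ Q' ≤ R) R :=
      Set.Finite.exists_maximal (Set.toFinite {R : Subgroup G |
        IsPGroup p R ∧ z ∈ Subgroup.normalizer (R : Set G) ∧ Q' ≤ R}) ⟨Q', hQ', hzQ, le_rfl⟩
    obtain ⟨S, hS⟩ := H9.maximal_invariant_is_sylow hz hR.1.1 hR.1.2.1 fun T h1 h2 h3 =>
      le_antisymm (hR.2 ⟨h1, h2, hR.1.2.2.trans h3⟩ h3) h3
    obtain ⟨g, hg⟩ := MulAction.exists_smul_eq G P S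
    have hPS : (S : Subgroup G) = (P : Subgroup G).map (MulAut.conj g).toMonoidHom := by
      rw [← hg]; rfl
    have hzg : g⁻¹ * z * g ∈ Subgroup.normalizer ((P : Subgroup G) : Set G) := by
      rw [← H70.cj_eq_self_iff]
      have h1 : H70.cj z (H70.cj g (P : Subgroup G)) = H70.cj g (P : Subgroup G) := by
        rw [H70.cj_eq_self_iff]
        show z ∈ Subgroup.normalizer (((P : Subgroup G).map (MulAut.conj g).toMonoidHom : Subgroup G) : Set G)
        rw [← hPS, hS]
        exact hR.1.2.1
      calc H70.cj (g⁻¹ * z * g) (P : Subgroup G)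
          = H70.cj g⁻¹ (H70.cj z (H70.cj g (P : Subgroup G))) := by rw [H70.cj_cj, H70.cj_cj]
        _ = (P : Subgroup G) := by rw [h1, H70.cj_cj, inv_mul_cancel, H70.cj_one]
    obtain ⟨h, hh, hhz⟩ := H66.iso_conj_in hz _ hzP g⁻¹ (by simpa using hzg)
    rw [inv_inv] at hhz
    have hc : g * h ∈ C := by
      rw [hC, Subgroup.mem_centralizer_singleton_iff]
      calc g * h * z = g * (h * z * h⁻¹) * h := by group
        _ = z * (g * h) := by rw [hhz]; group
    have hSc : (S : Subgroup G) ⊓ C = H70.cj (g * h) ((P : Subgroup G) ⊓ C) := by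
      rw [H68.cj_inf, H70.cj_of_mem hc, ← H70.cj_cj, H70.cj_eq_self_iff.mpr hh]
      rw [show H70.cj g (P : Subgroup G) = (S : Subgroup G) from hPS.symm]
    have hle : (Q : Subgroup ↥C) ≤ ((S : Subgroup G) ⊓ C).subgroupOf C := fun y hy =>
      ⟨hS.ge (hR.1.2.2 (Subgroup.mem_map_of_mem _ hy)), y.2⟩
    have heq : ((S : Subgroup G) ⊓ C).subgroupOf C = (Q : Subgroup ↥C) :=
      Q.is_maximal' ((S.isPGroup'.to_le inf_le_left).comap_of_injective C.subtype Subtype.coe_injective) hle
    have hcard : Nat.card ↥(((P : Subgroup G) ⊓ C).subgroupOf C) = Nat.card Q := by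
      rw [Nat.card_congr (Subgroup.subgroupOfEquivOfLe inf_le_right).toEquiv,
        ← H70.card_cj (g * h), ← hSc, ← Nat.card_congr (Subgroup.subgroupOfEquivOfLe
          (inf_le_right : (S : Subgroup G) ⊓ C ≤ C)).toEquiv, heq]
    have hidx : (((P : Subgroup G) ⊓ C).subgroupOf C).index = (Q : Subgroup ↥C).index := by
      have h1 := Subgroup.card_mul_index (((P : Subgroup G) ⊓ C).subgroupOf C)
      have h2 := Subgroup.card_mul_index (Q : Subgroup ↥C)
      rw [hcard, ← h2] at h1
      exact Nat.eq_of_mul_eq_mul_left Nat.card_pos h1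
    rw [Subgroup.relIndex, hidx]
    exact Q.not_dvd_index
  · set D := (P : Subgroup G) ⊓ Subgroup.centralizer ({z} : Set G) with hD
    have hz2 : z * z = 1 := H66.iso_sq hz
    have hzi : z⁻¹ = z := H66.inv_eq_self_of_sq hz2
    have hconj : ∀ x ∈ (P : Subgroup G), z * x * z ∈ (P : Subgroup G) := fun x hx => by
      have := (Subgroup.mem_normalizer_iff.mp hzP x).mp hx
      rwa [hzi] at this
    let f : ↥(P : Subgroup G) ⧸ D.subgroupOf (P : Subgroup G) →
        {x : G // x ∈ P ∧ z * x * z⁻¹ = x⁻¹} :=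
      Quotient.lift (fun x : ↥(P : Subgroup G) => ⟨(x : G) * (z * (x : G)⁻¹ * z),
        Subgroup.mul_mem _ x.2 (hconj _ (Subgroup.inv_mem _ x.2)), by
          rw [hzi, mul_inv_rev, mul_inv_rev, mul_inv_rev, inv_inv, hzi]
          simp only [mul_assoc]
          rw [hz2, mul_one]⟩) (by
        intro a b hab
        have h1 : a⁻¹ * b ∈ D.subgroupOf (P : Subgroup G) := QuotientGroup.leftRel_apply.mp hab
        have h2 : ((a : G)⁻¹ * b) * z = z * ((a : G)⁻¹ * b) :=
          Subgroup.mem_centralizer_singleton_iff.mp h1.2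
        refine Subtype.ext ?_
        show (a : G) * (z * (a : G)⁻¹ * z) = (b : G) * (z * (b : G)⁻¹ * z)
        calc (a : G) * (z * (a : G)⁻¹ * z)
            = (a : G) * (((a : G)⁻¹ * b) * z * ((a : G)⁻¹ * b)⁻¹) * (a : G)⁻¹ * z := by
              rw [h2]; group
          _ = (b : G) * (z * (b : G)⁻¹ * z) := by group)
    have hf : Function.Bijective f := by
      constructor
      · intro a b
        induction a using Quotient.inductionOn with
        | _ a =>
          induction b using Quotient.inductionOn with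
          | _ b =>
            intro hab
            have h1 : (a : G) * (z * (a : G)⁻¹ * z) = (b : G) * (z * (b : G)⁻¹ * z) :=
              congrArg Subtype.val hab
            refine Quotient.sound (QuotientGroup.leftRel_apply.mpr ⟨((a⁻¹ * b)).2, ?_⟩)
            show ((a : G)⁻¹ * b) ∈ Subgroup.centralizer ({z} : Set G)
            rw [Subgroup.mem_centralizer_singleton_iff]
            calc (a : G)⁻¹ * b * z = (a : G)⁻¹ * ((b : G) * (z * (b : G)⁻¹ * z)) * z⁻¹ * b := by group
              _ = z * ((a : G)⁻¹ * b) := by rw [← h1]; group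
      · rintro ⟨i, hi, hii⟩
        have hodd : Odd (orderOf i) := by
          obtain ⟨k, hk⟩ := IsPGroup.iff_orderOf.mp P.isPGroup' ⟨i, hi⟩
          rw [Subgroup.orderOf_mk] at hk
          rw [hk]
          exact (hp2.odd_of_ne_two hp).pow
        obtain ⟨y, hy, hyy⟩ := H66.exists_sqrt_of_odd hodd
        refine ⟨Quotient.mk'' ⟨y, Subgroup.zpowers_le.mpr hi hy⟩, Subtype.ext ?_⟩
        show y * (z * y⁻¹ * z) = i
        have h1 := H66.inverted_of_mem_zpowers hii hy
        calc y * (z * y⁻¹ * z) = y * (z * y * z⁻¹)⁻¹ := by rw [mul_inv_rev, mul_inv_rev, inv_inv, hzi, mul_assoc]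
          _ = i := by rw [h1, inv_inv, hyy]
    rw [Subgroup.relIndex, Subgroup.index, Nat.card_congr (Equiv.ofBijective f hf)]

end Cfsg.Agent.S1253
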