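import Cfsg.Statements.S1255
import Cfsg.Agent.H68.DihedralFusion

set_option autoImplicit false
open Cfsg

namespace Cfsg.Agent.S1255

/-- Let X be a finite group whose Sylow 2-subgroup S is dihedral of order 2m ≥ 4. Then X has no subgroup of index 2 and no isolated involution if and only if either all involutions of X are conjugate, or for every Klein four-subgroup U ≤ S the index |N_X(U) : C_X(U)| equals 3 when |S| = 4 and equals 6 when |S| > 4. -/
theorem result {X : Type*} [Group X] [Finite X] (S : Sylow 2 X) (m : ℕ) (hm : 2 ≤ m) (eS : (S : Subgroup X) ≃* DihedralGroup m) : ((∀ H : Subgroup X, H.index ≠ 2) ∧ (∀ z : X, ¬ Cfsg.IsIsolatedInvolution z)) ↔ ((∀ a b : X, orderOf a = 2 → orderOf b = 2 → IsConj a b) ∨ (∀ U : Subgroup X, U ≤ S → IsKleinFour U → (Subgroup.centralizer (U : Set X)).relIndex (Subgroup.normalizer (U : Set X)) = (if Nat.card S = 4 then 3 else 6))) := by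
  haveI : Fact (Nat.Prime 2) := ⟨Nat.prime_two⟩
  obtain ⟨c, h, -⟩ := H68.exists_dih S.2 hm eS
  constructor
  · exact fun hX => Or.inl fun a b ha hb =>
      (H68.isConj_dz S h hX.1 ha).trans (H68.isConj_dz S h hX.1 hb).symm
  intro hX
  have hall : ∀ a b : X, orderOf a = 2 → orderOf b = 2 → IsConj a b := by
    rcases hX with hX | hX
    · exact hX
    have key : ∀ t : X, orderOf t = 2 → IsConj (H68.dz c) t := by
      intro t ht
      obtain ⟨g, hg⟩ := H68.exists_cj_le S (Q := Subgroup.zpowers t)
        (IsPGroup.of_card (n := 1) (by rw [Nat.card_zpowers, ht, pow_one]))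
      have hgt : g * t * g⁻¹ ∈ (S : Subgroup X) := hg ⟨t, Subgroup.mem_zpowers t, rfl⟩
      refine IsConj.trans ?_ (isConj_iff.2 ⟨g, rfl⟩ : IsConj t (g * t * g⁻¹)).symm
      by_cases hA : g * t * g⁻¹ ∈ Subgroup.zpowers c
      · rw [h.dz_unique (H65.two_conj ht g) hA]
      · refine H68.isConj_of_three_dvd h hgt hA ?_
        rw [hX _ (h.four_le hgt hA) (h.isKleinFour_four hgt hA)]
        split_ifs <;> norm_num
    exact fun a b ha hb => (key a ha).symm.trans (key b hb)
  exact ⟨H68.index_ne_two_of_one_class S h hall, H68.not_isolated_of_one_class S h hall⟩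

end Cfsg.Agent.S1255
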