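import Cfsg.Statements.S1256
import Cfsg.Agent.H68.DihedralFour

set_option autoImplicit false
open Cfsg

namespace Cfsg.Agent.S1256

/-- Let X be a finite group whose Sylow 2-subgroup S is dihedral of order 2m ≥ 4. If |S| = 4, any two Klein four-subgroups of X are conjugate; if |S| > 4, there are Klein four-subgroups U₁, U₂ of X that are not conjugate, and every Klein four-subgroup of X is conjugate to U₁ or to U₂. -/
theorem result {X : Type*} [Group X] [Finite X] (S : Sylow 2 X) (m : ℕ) (hm : 2 ≤ m) (eS : (S : Subgroup X) ≃* DihedralGroup m) : (Nat.card S = 4 → ∀ U V : Subgroup X, IsKleinFour U → IsKleinFour V → (∃ x : X, U.map (MulAut.conj x).toMonoidHom = V)) ∧ (4 < Nat.card S → ∃ U₁ U₂ : Subgroup X, IsKleinFour U₁ ∧ IsKleinFour U₂ ∧ ¬ (∃ x : X, U₁.map (MulAut.conj x).toMonoidHom = U₂) ∧ ∀ V : Subgroup X, IsKleinFour V → (∃ x : X, V.map (MulAut.conj x).toMonoidHom = U₁) ∨ (∃ x : X, V.map (MulAut.conj x).toMonoidHom = U₂)) := by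
  haveI : Fact (Nat.Prime 2) := ⟨Nat.prime_two⟩
  obtain ⟨c, h, hcm⟩ := H68.exists_dih S.2 hm eS
  constructor
  · intro h4 U V hU hV
    obtain ⟨g, hg⟩ := H68.exists_cj_le S (H68.klein_isPGroup hU)
    obtain ⟨k, hk⟩ := H68.exists_cj_le S (H68.klein_isPGroup hV)
    have e1 := Subgroup.eq_of_le_of_card_ge hg (by rw [h4, H70.card_cj, hU.card_four])
    have e2 := Subgroup.eq_of_le_of_card_ge hk (by rw [h4, H70.card_cj, hV.card_four])
    exact ⟨k⁻¹ * g, by
      rw [show U.map (MulAut.conj (k⁻¹ * g)).toMonoidHom = H70.cj (k⁻¹ * g) U from rfl,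
        ← H70.cj_cj, e1, ← e2, H70.cj_cj, inv_mul_cancel, H70.cj_one]⟩
  · intro h4
    obtain ⟨y, hy, hyA⟩ := h.exists_out
    have hy' : y * c ∈ (S : Subgroup X) := mul_mem hy h.mem
    have hyA' : y * c ∉ Subgroup.zpowers c := by
      have := h.mul_zpow_not_mem hyA 1
      rwa [zpow_one] at this
    have h4c : 4 ∣ orderOf c := by
      obtain ⟨k, hk, hc⟩ := h.ord
      rw [h.card_eq, hc] at h4
      rw [hc]
      refine (show (4 : ℕ) = 2 ^ 2 by norm_num) ▸ pow_dvd_pow 2 ?_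
      by_contra hlt
      rw [show k = 1 by omega] at h4
      omega
    refine ⟨h.four hy hyA, h.four hy' hyA', h.isKleinFour_four hy hyA, h.isKleinFour_four hy' hyA',
      fun ⟨x, hx⟩ => H68.four_not_conj S eS h h4c hy hyA hy' hyA' x hx, fun V hV => ?_⟩
    obtain ⟨g, hg⟩ := H68.exists_cj_le S (H68.klein_isPGroup hV)
    rcases H68.four_classes h hy hyA hy' hyA' (H68.cj_isKleinFour hV g) hg with ⟨s, hs⟩ | ⟨s, hs⟩
    · exact Or.inl ⟨s * g, (H70.cj_cj s g V).symm.trans hs⟩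
    · exact Or.inr ⟨s * g, (H70.cj_cj s g V).symm.trans hs⟩

end Cfsg.Agent.S1256
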