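import Cfsg.Statements.S1258
import Cfsg.Agent.CompLayer

set_option autoImplicit false
open Cfsg
open scoped commutatorElement

namespace Cfsg.Agent.S1258

/-- If the central quotient of a finite group X is non-abelian simple, then X = X' Z(X) and the commutator subgroup X' is quasisimple. -/
theorem result {X : Type*} [Group X] [Finite X] (hs : IsSimpleGroup (X ⧸ Subgroup.center X)) (hna : ¬ IsMulCommutative (X ⧸ Subgroup.center X)) : commutator X ⊔ Subgroup.center X = ⊤ ∧ Cfsg.IsQuasisimple ↥(commutator X) := by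
  have hperfQ : commutator (X ⧸ Subgroup.center X) = ⊤ := by
    rcases (inferInstance : (commutator (X ⧸ Subgroup.center X)).Normal).eq_bot_or_eq_top with h | h
    · exact absurd ((commutator_eq_bot_iff _).mp h) hna
    · exact h
  set f := QuotientGroup.mk' (Subgroup.center X) with hf
  have hfs : Function.Surjective f := QuotientGroup.mk'_surjective _
  have hD : (commutator X).map f = ⊤ := by
    rw [map_commutator_eq, MonoidHom.range_eq_top.mpr hfs]
    exact hperfQ
  have hsup : commutator X ⊔ Subgroup.center X = ⊤ := by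
    have := congrArg (Subgroup.comap f) hD
    rwa [Subgroup.comap_map_eq, QuotientGroup.ker_mk', Subgroup.comap_top] at this
  refine ⟨hsup, ?_⟩
  set D := commutator X
  -- the commutator subgroup is perfect
  have hperf : ⁅D, D⁆ = D := by
    refine le_antisymm D.commutator_le_self ?_
    show ⁅(⊤ : Subgroup X), ⊤⁆ ≤ ⁅D, D⁆
    rw [Subgroup.commutator_le]
    intro a _ b _
    obtain ⟨a₁, ha₁, a₂, ha₂, rfl⟩ := Subgroup.mem_sup_of_normal_right.mp
      (show a ∈ D ⊔ Subgroup.center X from hsup ▸ Subgroup.mem_top a)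
    obtain ⟨b₁, hb₁, b₂, hb₂, rfl⟩ := Subgroup.mem_sup_of_normal_right.mp
      (show b ∈ D ⊔ Subgroup.center X from hsup ▸ Subgroup.mem_top b)
    have ca : ∀ w, a₂ * w = w * a₂ := fun w => (Subgroup.mem_center_iff.mp ha₂ w).symm
    have cb : ∀ w, b₂ * w = w * b₂ := fun w => (Subgroup.mem_center_iff.mp hb₂ w).symm
    have : ⁅a₁ * a₂, b₁ * b₂⁆ = ⁅a₁, b₁⁆ := by
      rw [commutatorElement_mul_left_eq_conj_mul, commutatorElement_mul_right_eq_mul_conj a₁,
        commutatorElement_eq_one_iff_mul_comm.mpr (ca _),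
        commutatorElement_eq_one_iff_mul_comm.mpr ((cb a₁).symm)]
      group
    rw [this]
    exact Subgroup.commutator_mem_commutator ha₁ hb₁
  have hq : IsQuasisimple (X ⧸ Subgroup.center X) := by
    refine Cfsg.Comp.isQuasisimple_of_dichotomy hperfQ fun N hN => ?_
    rcases hN.eq_bot_or_eq_top with h | h
    · exact .inr (h ▸ bot_le)
    · exact .inl h
  refine Cfsg.Comp.isQuasisimple_of_ker_le_center (Subgroup.isPerfect_iff.mpr hperf).commutator_eq_top
    hq (f.comp D.subtype) ?_ ?_
  · intro q
    have : q ∈ D.map f := hD ▸ Subgroup.mem_top q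
    obtain ⟨x, hx, rfl⟩ := this
    exact ⟨⟨x, hx⟩, rfl⟩
  · intro x hx
    have : (x : X) ∈ Subgroup.center X := by
      rw [← QuotientGroup.ker_mk' (Subgroup.center X)]
      exact hx
    exact Subgroup.mem_center_iff.mpr fun y => Subtype.ext (Subgroup.mem_center_iff.mp this y)

end Cfsg.Agent.S1258
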