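import Cfsg.Statements.S1273
import Cfsg.Agent.CompPComp

set_option autoImplicit false
open Cfsg

namespace Cfsg.Agent.S1273

/-- Let K be a p-component of the finite group X and N a normal subgroup of K whose index in K is prime to p. Then N = K. -/
theorem result {X : Type*} [Group X] [Finite X] (p : ℕ) [Fact p.Prime] (K : Subgroup X) (hK : Cfsg.IsPComponent p K) (N : Subgroup ↥K) [N.Normal] (hidx : (N.index).Coprime p) : N = ⊤ := by
  have hni : ¬ p ∣ N.index := Cfsg.Comp.coprime_iff_not_dvd.mp hidx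
  have hle : Cfsg.Comp.pGen p K ≤ N.map K.subtype := by
    rw [Cfsg.Comp.pGen, Subgroup.closure_le]
    rintro g ⟨hg, k, hk⟩
    refine ⟨⟨g, hg⟩, ?_, rfl⟩
    have h1 : (QuotientGroup.mk' N ⟨g, hg⟩) ^ p ^ k = 1 := by
      rw [← map_pow, show (⟨g, hg⟩ : K) ^ p ^ k = 1 from Subtype.ext hk, map_one]
    have := Cfsg.Comp.eq_one_of_pow_eq_one h1 hni (by
      rw [Subgroup.index_eq_card]; exact pow_card_eq_one')
    rwa [QuotientGroup.mk'_apply, QuotientGroup.eq_one_iff] at this
  rw [Cfsg.Comp.isPComponent_pGen_self hK] at hle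
  refine Subgroup.eq_top_iff' N |>.mpr fun x => ?_
  obtain ⟨y, hy, hyx⟩ := hle x.2
  exact (Subtype.ext hyx : y = x) ▸ hy

end Cfsg.Agent.S1273
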