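import Cfsg.Statements.S1277
import Cfsg.Agent.CompPComp

set_option autoImplicit false
open Cfsg

namespace Cfsg.Agent.S1277

/-- For a finite group X with core O(X): the image of E(X) in X / O(X) is all of E(X / O(X)) if and only if every 2-component of X is a component, i.e. L_{2'}(X) ≤ E(X). -/
theorem result {X : Type*} [Group X] [Finite X] : (Cfsg.layer X).map (QuotientGroup.mk' (Cfsg.oddCore X)) = Cfsg.layer (X ⧸ Cfsg.oddCore X) ↔ Cfsg.pLayer 2 X ≤ Cfsg.layer X := by
  constructor
  · intro h
    refine sSup_le fun K hK => ?_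
    have hKE : K.map (QuotientGroup.mk' (pPrimeCore 2 X)) ≤
        (layer X).map (QuotientGroup.mk' (pPrimeCore 2 X)) :=
      (Cfsg.Comp.le_layer hK.2.1).trans h.ge
    -- the image is the image of some component
    obtain ⟨L, hL, hLK⟩ : ∃ L : Subgroup X, IsComponent L ∧
        L.map (QuotientGroup.mk' (pPrimeCore 2 X)) = K.map (QuotientGroup.mk' (pPrimeCore 2 X)) := by
      by_contra hne
      push Not at hne
      have hKc : layer X ≤ (Subgroup.centralizer
          (K.map (QuotientGroup.mk' (pPrimeCore 2 X)) : Set (X ⧸ pPrimeCore 2 X))).comap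
            (QuotientGroup.mk' (pPrimeCore 2 X)) := by
        refine Cfsg.Comp.layer_le_iff.mpr fun L hL => ?_
        rw [← Subgroup.map_le_iff_le_comap]
        by_cases hb : L.map (QuotientGroup.mk' (pPrimeCore 2 X)) = ⊥
        · rw [hb]; exact bot_le
        · exact Subgroup.commutator_eq_bot_iff_le_centralizer.mp
            ((Cfsg.Comp.component_eq_or_commute
              (Cfsg.Comp.isComponent_map_of_ne_bot (QuotientGroup.mk'_surjective _) hL hb)
              hK.2.1).resolve_left (hne L hL))
      exact Cfsg.Comp.isComponent_not_le_centralizer hK.2.1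
        (hKE.trans (Subgroup.map_le_iff_le_comap.mpr hKc))
    have hKL : K ≤ L := by
      rw [Cfsg.Comp.isPComponent_eq_pGen hK]
      exact Cfsg.Comp.pGen_comap_le_of_map_ge hL.1 hLK.ge
    exact hKL.trans (Cfsg.Comp.le_layer hL)
  · intro h
    exact le_antisymm (Cfsg.Comp.layer_map_le (QuotientGroup.mk'_surjective _))
      (Cfsg.Comp.map_pLayer.ge.trans (Subgroup.map_mono h))

end Cfsg.Agent.S1277
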