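import Cfsg.Statements.S1281
import Cfsg.Agent.H7.Signalizer

set_option autoImplicit false
open Cfsg

namespace Cfsg.Agent.S1281

/-- Let θ be a solvable A-signalizer functor on the finite group G (A a noncyclic elementary abelian p-subgroup) and N a normal subgroup of order prime to p. Then for all non-identity a, b ∈ A, the image of θ a in G / N meets the centralizer of the image of b inside the image of θ b. -/
theorem result {G : Type*} [Group G] [Finite G] (p : ℕ) [Fact p.Prime] (A : Subgroup G) (hA : Cfsg.IsElementaryAbelian p A) (hA2 : p ^ 2 ≤ Nat.card ↥A) (θ : G → Subgroup G) (hθ : Cfsg.IsSolvableSignalizerFunctor p A θ) (N : Subgroup G) [N.Normal] (hN : ¬ p ∣ Nat.card ↥N) (a b : G) (ha : a ∈ A) (ha1 : a ≠ 1) (hb : b ∈ A) (hb1 : b ≠ 1) : (θ a).map (QuotientGroup.mk' N) ⊓ Subgroup.centralizer {QuotientGroup.mk' N b} ≤ (θ b).map (QuotientGroup.mk' N) := by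
  rintro _ ⟨⟨g, hg, rfl⟩, hgb⟩
  have hAθ : A ≤ Subgroup.normalizer (θ a : Set G) :=
    Subgroup.le_normalizer_iff.mpr (hθ.1.2.2.1 a ha ha1)
  obtain ⟨d, hd, hdg⟩ := Cfsg.Comp.exists_mul_mem_centralizer (p := p) (D := N ⊓ θ a)
    ((H7.elemAb_isPGroup hA).to_le (Subgroup.zpowers_le.mpr hb))
    (Cfsg.Comp.inf_le_normalizer Cfsg.Comp.le_normalizer_of_normal
      ((Subgroup.zpowers_le.mpr hb).trans hAθ))
    (fun h => hN (h.trans (Subgroup.card_dvd_of_le inf_le_left))) g (by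
      intro c hc
      refine ⟨?_, (mul_mem (Cfsg.Comp.conj_mem_of_le_normalizer
        ((Subgroup.zpowers_le.mpr hb).trans hAθ) hc hg) (inv_mem hg) : c * g * c⁻¹ * g⁻¹ ∈ θ a)⟩
      obtain ⟨k, rfl⟩ := hc
      show b ^ k * g * (b ^ k)⁻¹ * g⁻¹ ∈ N
      rw [← QuotientGroup.eq_one_iff]
      have h1 : Commute (QuotientGroup.mk' N b) (QuotientGroup.mk' N g) :=
        (Subgroup.mem_centralizer_singleton_iff.mp hgb).symm
      have h2 : QuotientGroup.mk' N (b ^ k * g * (b ^ k)⁻¹ * g⁻¹) = 1 := by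
        rw [map_mul, map_mul, map_mul, map_inv, map_inv, map_zpow, (h1.zpow_left k).eq]
        group
      exact h2)
  rw [H7.centralizer_zpowers] at hdg
  refine ⟨d * g, hθ.1.2.2.2 a ha ha1 b hb hb1 ⟨mul_mem hd.2 hg, hdg⟩, ?_⟩
  rw [map_mul, show QuotientGroup.mk' N d = 1 from (QuotientGroup.eq_one_iff d).mpr hd.1, one_mul]

end Cfsg.Agent.S1281
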