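import Cfsg.Statements.S1286
import Mathlib

set_option autoImplicit false
open Cfsg

namespace Cfsg.Agent.S1286

/-- The two generators of the four-group. -/
def a₁ : Equiv.Perm (Fin 5) := Equiv.swap 0 1
/-- See `a₁`. -/
def a₂ : Equiv.Perm (Fin 5) := Equiv.swap 3 4
/-- A 3-cycle centralized by `a₁` and inverted by `a₂`. -/
def y₁ : Equiv.Perm (Fin 5) := Equiv.swap 2 3 * Equiv.swap 3 4
/-- A 3-cycle centralized by `a₂` and inverted by `a₁`. -/
def y₂ : Equiv.Perm (Fin 5) := Equiv.swap 0 1 * Equiv.swap 1 2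
/-- The elements of the four-group. -/
def As : Finset (Equiv.Perm (Fin 5)) := {1, a₁, a₂, a₁ * a₂}
/-- The elements of `⟨y₁⟩`. -/
def Y₁s : Finset (Equiv.Perm (Fin 5)) := {1, y₁, y₁ * y₁}
/-- The elements of `⟨y₂⟩`. -/
def Y₂s : Finset (Equiv.Perm (Fin 5)) := {1, y₂, y₂ * y₂}
/-- The four-group. -/
def A₀ : Subgroup (Equiv.Perm (Fin 5)) where
  carrier := {g | g ∈ As}
  one_mem' := by show _ ∈ As; decide +kernel
  mul_mem' := fun {a b} ha hb => (by decide +kernel : ∀ a ∈ As, ∀ b ∈ As, a * b ∈ As) a ha b hb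
  inv_mem' := fun {a} ha => (by decide +kernel : ∀ a ∈ As, a⁻¹ ∈ As) a ha
/-- The group generated by `y₁`. -/
def Y₁ : Subgroup (Equiv.Perm (Fin 5)) where
  carrier := {g | g ∈ Y₁s}
  one_mem' := by show _ ∈ Y₁s; decide +kernel
  mul_mem' := fun {a b} ha hb => (by decide +kernel : ∀ a ∈ Y₁s, ∀ b ∈ Y₁s, a * b ∈ Y₁s) a ha b hb
  inv_mem' := fun {a} ha => (by decide +kernel : ∀ a ∈ Y₁s, a⁻¹ ∈ Y₁s) a ha
/-- The group generated by `y₂`. -/
def Y₂ : Subgroup (Equiv.Perm (Fin 5)) where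
  carrier := {g | g ∈ Y₂s}
  one_mem' := by show _ ∈ Y₂s; decide +kernel
  mul_mem' := fun {a b} ha hb => (by decide +kernel : ∀ a ∈ Y₂s, ∀ b ∈ Y₂s, a * b ∈ Y₂s) a ha b hb
  inv_mem' := fun {a} ha => (by decide +kernel : ∀ a ∈ Y₂s, a⁻¹ ∈ Y₂s) a ha
/-- The values of the functor, as finite sets. -/
def Ts (a : Equiv.Perm (Fin 5)) : Finset (Equiv.Perm (Fin 5)) :=
  if a = a₁ then Y₁s else if a = a₂ then Y₂s else {1}
/-- The functor. -/
def θ₀ (a : Equiv.Perm (Fin 5)) : Subgroup (Equiv.Perm (Fin 5)) :=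
  if a = a₁ then Y₁ else if a = a₂ then Y₂ else ⊥
theorem hθ (a g : Equiv.Perm (Fin 5)) : g ∈ θ₀ a ↔ g ∈ Ts a := by
  unfold θ₀ Ts
  split
  · exact Iff.rfl
  · split
    · exact Iff.rfl
    · simp


/-- There exist a finite group X, an elementary abelian subgroup A of order 4 and a solvable A-signalizer functor θ on X for the prime 2 which is not complete. -/
theorem result : ∃ (X : Type) (_ : Group X) (_ : Finite X) (A : Subgroup X) (θ : X → Subgroup X), Cfsg.IsElementaryAbelian 2 A ∧ Nat.card ↥A = 4 ∧ Cfsg.IsSolvableSignalizerFunctor 2 A θ ∧ ¬ Cfsg.IsCompleteSignalizerFunctor 2 A θ := by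
  classical
  refine ⟨Equiv.Perm (Fin 5), inferInstance, inferInstance, Subgroup.closure {a₁, a₂}, θ₀, ?_⟩
  have hA : ∀ g, g ∈ Subgroup.closure ({a₁, a₂} : Set (Equiv.Perm (Fin 5))) ↔ g ∈ As := by
    have hle : Subgroup.closure ({a₁, a₂} : Set (Equiv.Perm (Fin 5))) ≤ A₀ := by
      rw [Subgroup.closure_le]; rintro g (rfl | rfl) <;> (show _ ∈ As; decide +kernel)
    intro g
    refine ⟨fun h => hle h, fun h => ?_⟩
    simp only [As, Finset.mem_insert, Finset.mem_singleton] at h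
    rcases h with rfl | rfl | rfl | rfl
    · exact one_mem _
    · exact Subgroup.subset_closure (by simp)
    · exact Subgroup.subset_closure (by simp)
    · exact mul_mem (Subgroup.subset_closure (by simp)) (Subgroup.subset_closure (by simp))
  have hA' : Subgroup.closure ({a₁, a₂} : Set (Equiv.Perm (Fin 5))) = A₀ :=
    SetLike.ext fun g => hA g
  rw [hA']
  have hcard : Nat.card ↥A₀ = 4 := by
    show Nat.card {g : Equiv.Perm (Fin 5) // g ∈ As} = 4
    rw [Nat.card_eq_fintype_card, Fintype.card_coe]; decide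
  have hY₁ : Y₁ ≠ ⊥ := fun h => by
    have : y₁ ∈ (⊥ : Subgroup (Equiv.Perm (Fin 5))) := h ▸ (show y₁ ∈ Y₁s by decide +kernel)
    exact absurd (Subgroup.mem_bot.1 this) (by decide +kernel)
  refine ⟨⟨⟨⟨fun a b => ?_⟩⟩, fun a ha => ?_⟩, hcard, ⟨⟨?_, ?_, ?_, ?_⟩, ?_⟩, ?_⟩
  · exact Subtype.ext ((by decide +kernel : ∀ a ∈ As, ∀ b ∈ As, a * b = b * a) a a.2 b b.2)
  · exact (by decide +kernel : ∀ a ∈ As, a ^ 2 = 1) a ha
  · intro a ha ha1 g hg
    rw [Subgroup.mem_centralizer_singleton_iff]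
    exact (by decide +kernel : ∀ a ∈ As, a ≠ 1 → ∀ g ∈ Ts a, g * a = a * g) a ha ha1 g ((hθ a g).1 hg)
  · intro a ha ha1
    have e : Nat.card ↥(θ₀ a) = (Ts a).card := by
      rw [← Fintype.card_coe, ← Nat.card_eq_fintype_card]
      exact Nat.card_congr (Equiv.subtypeEquivRight (hθ a))
    rw [e]
    exact (by decide +kernel : ∀ a ∈ As, a ≠ 1 → ¬ 2 ∣ (Ts a).card) a ha ha1
  · intro a ha ha1 b hb g hg
    rw [hθ] at hg ⊢
    exact (by decide +kernel : ∀ a ∈ As, a ≠ 1 → ∀ b ∈ As, ∀ g ∈ Ts a, b * g * b⁻¹ ∈ Ts a)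
      a ha ha1 b hb g hg
  · intro a ha ha1 b hb hb1 g hg
    rw [Subgroup.mem_inf, hθ, Subgroup.mem_centralizer_singleton_iff] at hg
    rw [hθ]
    exact (by decide +kernel : ∀ a ∈ As, a ≠ 1 → ∀ b ∈ As, b ≠ 1 → ∀ g ∈ Ts a, g * b = b * g → g ∈ Ts b)
      a ha ha1 b hb hb1 g hg.1 hg.2
  · intro a ha ha1
    have : ∀ u ∈ θ₀ a, ∀ v ∈ θ₀ a, u * v = v * u := fun u hu v hv =>
      (by decide +kernel : ∀ a ∈ As, ∀ u ∈ Ts a, ∀ v ∈ Ts a, u * v = v * u) a ha u ((hθ a u).1 hu) v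
        ((hθ a v).1 hv)
    exact Group.isSolvable_of_comm fun u v => Subtype.ext (this u u.2 v v.2)
  · rintro ⟨-, X, -, hodd, hX⟩
    have h₁ : y₁ ∈ X := by
      have : y₁ ∈ θ₀ a₁ := (hθ a₁ y₁).2 (by decide +kernel)
      rw [← hX a₁ (by show a₁ ∈ As; decide +kernel) (by decide +kernel)] at this
      exact this.1
    have h₂ : y₂ ∈ X := by
      have : y₂ ∈ θ₀ a₂ := (hθ a₂ y₂).2 (by decide +kernel)
      rw [← hX a₂ (by show a₂ ∈ As; decide +kernel) (by decide +kernel)] at this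
      exact this.1
    have hw : y₁ * y₁ * y₂ * y₁ * y₂ ∈ X :=
      mul_mem (mul_mem (mul_mem (mul_mem h₁ h₁) h₂) h₁) h₂
    apply hodd
    have ho : orderOf (y₁ * y₁ * y₂ * y₁ * y₂) = 2 :=
      orderOf_eq_prime (by decide +kernel) (by decide +kernel)
    exact ho ▸ Subgroup.orderOf_dvd_natCard X hw

end Cfsg.Agent.S1286
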