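import Cfsg.Statements.S1288
import Mathlib
import Cfsg.Agent.H8.Coprime
import Cfsg.Agent.H7.LocalLayer
import Cfsg.Agent.H1.Fitting
import Cfsg.Agent.H1.Cores

set_option autoImplicit false
open Cfsg
open scoped commutatorElement

namespace Cfsg.Agent.S1288

/-- Let A be a noncyclic elementary abelian p-subgroup of a finite group H normalizing a solvable subgroup K of order prime to p, q a prime dividing |K|, and U ≤ K a subgroup of order prime to q such that ⁅U, C_K(B)⁆ has order prime to q for every subgroup B of index p in A. Then U ≤ O_{q'}(K). -/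
theorem result {H : Type*} [Group H] [Finite H] (p : ℕ) [Fact p.Prime] (A K : Subgroup H) (hA : Cfsg.IsElementaryAbelian p A) (hA2 : p ^ 2 ≤ Nat.card ↥A) (hK : ¬ p ∣ Nat.card ↥K) (hKs : Group.IsSolvable ↥K) (hAK : A ≤ Subgroup.normalizer (K : Set H)) (q : ℕ) [Fact q.Prime] (hqK : q ∣ Nat.card ↥K) (U : Subgroup H) (hU : U ≤ K) (hUq : ¬ q ∣ Nat.card ↥U) (hcomm : ∀ B : Subgroup H, B ≤ A → B.relIndex A = p → ¬ q ∣ Nat.card ↥⁅U, K ⊓ Subgroup.centralizer (B : Set H)⁆) : U ≤ (Cfsg.pPrimeCore q ↥K).map K.subtype := by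
  have hp := (Fact.out : p.Prime)
  have hA1 : A ≠ ⊥ := by
    rintro rfl
    rw [Subgroup.card_bot] at hA2
    have := Nat.one_lt_pow two_ne_zero hp.one_lt
    omega
  set O := Cfsg.pPrimeCore q ↥K
  set f := QuotientGroup.mk' O
  set P := Cfsg.pPrimePCore q ↥K
  haveI : P.Characteristic := Subgroup.characteristic_iff_map_le.2 fun e => by
    rintro _ ⟨x, hx, rfl⟩
    let ē : (↥K ⧸ O) ≃* (↥K ⧸ O) := QuotientGroup.congr O O e (H1.map_pPrimeCore_equiv q e)
    show f (e x) ∈ Cfsg.pCore q (↥K ⧸ O)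
    rw [← H1.map_pCore_equiv q ē]
    exact ⟨f x, hx, rfl⟩
  have hPK : P.map K.subtype ≤ K := Subgroup.map_subtype_le _
  have hAP : A ≤ Subgroup.normalizer ((P.map K.subtype : Subgroup H) : Set H) :=
    hAK.trans (Cfsg.Comp.le_normalizer_map_subtype P)
  -- the image of `U` centralizes `O_q(K / O)`
  let U' : Subgroup (↥K ⧸ O) := (U.subgroupOf K).map f
  let W : Subgroup ↥K := (Subgroup.centralizer (U' : Set (↥K ⧸ O))).comap f
  have hW : P.map K.subtype ≤ W.map K.subtype := by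
    refine H8.generation hA hA1 hAP (H8.not_dvd_card_of_le hPK hK) fun B hBA hB m hm => ?_
    obtain ⟨⟨m', hm', rfl⟩, hmB⟩ := hm
    refine ⟨m', Subgroup.mem_centralizer_iff.2 ?_, rfl⟩
    rintro _ ⟨u, hu, rfl⟩
    have hc : (⁅(u : H), (m' : H)⁆ : H) ∈ ⁅U, K ⊓ Subgroup.centralizer (B : Set H)⁆ :=
      Subgroup.commutator_mem_commutator hu ⟨m'.2, hmB⟩
    have hq : ¬ q ∣ orderOf (f ⁅u, m'⁆) := fun h => hcomm B hBA hB (by
      refine h.trans ((orderOf_map_dvd f _).trans ?_)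
      rw [← orderOf_injective K.subtype K.subtype_injective, map_commutatorElement]
      exact Subgroup.orderOf_dvd_natCard _ hc)
    have hmem : f ⁅u, m'⁆ ∈ Cfsg.pCore q (↥K ⧸ O) := by
      rw [map_commutatorElement]
      exact Subgroup.commutator_le_right (⊤ : Subgroup (↥K ⧸ O)) _
        (Subgroup.commutator_mem_commutator (Subgroup.mem_top _) hm')
    obtain ⟨k, hk⟩ := Cfsg.Comp.pCore_isPGroup q ⟨_, hmem⟩
    have h1 : f ⁅u, m'⁆ = 1 :=
      Cfsg.Comp.eq_one_of_pow_eq_one (congrArg Subtype.val hk) hq (pow_orderOf_eq_one _)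
    rw [map_commutatorElement] at h1
    exact commutatorElement_eq_one_iff_mul_comm.1 h1
  haveI : Group.IsSolvable (↥K ⧸ O) :=
    Group.isSolvable_of_surjective (f := f) (QuotientGroup.mk'_surjective _)
  have hC : Subgroup.centralizer (Cfsg.pCore q (↥K ⧸ O) : Set (↥K ⧸ O)) ≤
      Cfsg.pCore q (↥K ⧸ O) := by
    rw [← H7.fitting_eq_pCore Cfsg.Comp.pPrimeCore_quotient_eq_bot]
    exact H1.centralizer_fitting_le_of_isSolvable inferInstance
  intro u hu
  refine ⟨⟨u, hU hu⟩, (QuotientGroup.eq_one_iff _).1 ?_, rfl⟩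
  have hu' : f ⟨u, hU hu⟩ ∈ Cfsg.pCore q (↥K ⧸ O) := hC (Subgroup.mem_centralizer_iff.2 fun y hy => by
    obtain ⟨x, rfl⟩ := QuotientGroup.mk'_surjective O y
    obtain ⟨x', hx', hxx⟩ := hW ⟨x, hy, rfl⟩
    have hxe : x' = x := Subtype.ext hxx
    subst hxe
    exact (Subgroup.mem_centralizer_iff.1 hx' _ ⟨⟨u, hU hu⟩, hu, rfl⟩).symm)
  obtain ⟨k, hk⟩ := Cfsg.Comp.pCore_isPGroup q ⟨_, hu'⟩
  have hord : ¬ q ∣ orderOf (⟨u, hU hu⟩ : ↥K) := by
    rw [Subgroup.orderOf_mk]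
    exact fun h => hUq (h.trans (Subgroup.orderOf_dvd_natCard U hu))
  exact Cfsg.Comp.eq_one_of_pow_eq_one (congrArg Subtype.val hk)
    (fun h => hord (h.trans (orderOf_map_dvd f _))) (pow_orderOf_eq_one _)

end Cfsg.Agent.S1288
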