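import Cfsg.Statements.S1289
import Mathlib
import Cfsg.Agent.CompPComp

set_option autoImplicit false
open Cfsg
open scoped commutatorElement

namespace Cfsg.Agent.S1289

/-- A p-component K of the finite group X is subnormal, perfect, of order divisible by p, and minimal among the subnormal perfect subgroups of X of order divisible by p. -/
theorem result {X : Type*} [Group X] [Finite X] (p : ℕ) [Fact p.Prime] (K : Subgroup X) (hK : Cfsg.IsPComponent p K) : K.IsSubnormal ∧ ⁅K, K⁆ = K ∧ p ∣ Nat.card ↥K ∧ ∀ H : Subgroup X, H ≤ K → H.IsSubnormal → ⁅H, H⁆ = H → p ∣ Nat.card ↥H → H = K := by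
  set f := QuotientGroup.mk' (Cfsg.pPrimeCore p X)
  have hO := Cfsg.Comp.pPrimeCore_quotient_eq_bot (G := X) (p := p)
  have hperf := Cfsg.Comp.isPComponent_perfect hK
  refine ⟨hK.1, hperf, ?_, fun H hHK hHsn hH hpH => ?_⟩
  · exact (Cfsg.Comp.dvd_card_component hO hK.2.1).trans (Subgroup.card_map_dvd K f)
  · refine hK.2.2 H hHsn hHK ?_
    have hperfH : ⁅H.map f, H.map f⁆ = H.map f := by rw [← Subgroup.map_commutator, hH]
    have hle : H.map f ≤ K.map f := Subgroup.map_mono hHK
    rcases Cfsg.Comp.subnormal_eq_top_or_le_center hK.2.1.2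
      (((hHsn.map (QuotientGroup.mk'_surjective _))).subgroupOf (K := K.map f)) with h | h
    · exact le_antisymm hle (Subgroup.subgroupOf_eq_top.1 h)
    · exfalso
      have hbot : H.map f = ⊥ := by
        rw [← hperfH, Subgroup.commutator_eq_bot_iff_le_centralizer]
        intro x hx
        rw [Subgroup.mem_centralizer_iff]
        intro y hy
        exact congrArg Subtype.val
          (Subgroup.mem_center_iff.1 (h (x := ⟨x, hle hx⟩) hx) ⟨y, hle hy⟩)
      rw [Subgroup.map_eq_bot_iff, QuotientGroup.ker_mk'] at hbot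
      exact Cfsg.Comp.not_dvd_card_pPrimeCore p (hpH.trans (Subgroup.card_dvd_of_le hbot))

end Cfsg.Agent.S1289
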