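import Cfsg.Statements.S1292
import Mathlib
import Cfsg.Agent.H7.LocalLayer

set_option autoImplicit false
open Cfsg
open scoped commutatorElement

namespace Cfsg.Agent.S1292

/-- Let G be a finite group such that F*(C_G(t)) = O_2(C_G(t)) for every involution t. Then F*(N_G(T)) = O_2(N_G(T)) for every nontrivial 2-subgroup T of G. -/
theorem result {G : Type*} [Group G] [Finite G] (h : ∀ t : G, orderOf t = 2 → Cfsg.generalizedFittingSubgroup ↥(Subgroup.centralizer ({t} : Set G)) = Cfsg.pCore 2 ↥(Subgroup.centralizer ({t} : Set G))) (T : Subgroup G) (hT : IsPGroup 2 ↥T) (hT1 : T ≠ ⊥) : Cfsg.generalizedFittingSubgroup ↥(Subgroup.normalizer (T : Set G)) = Cfsg.pCore 2 ↥(Subgroup.normalizer (T : Set G)) := by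
  set N := Subgroup.normalizer (T : Set G) with hN
  haveI : Nontrivial ↥T := (Subgroup.nontrivial_iff_ne_bot T).2 hT1
  haveI : Nontrivial (Subgroup.center ↥T) := hT.center_nontrivial
  have hZ : IsPGroup 2 (Subgroup.center ↥T) := hT.to_subgroup _
  obtain ⟨z, hz⟩ := exists_prime_orderOf_dvd_card' (G := Subgroup.center ↥T) 2
    ((IsPGroup.card_eq_or_dvd hZ).resolve_left (Finite.one_lt_card (α := Subgroup.center ↥T)).ne')
  set t : G := ((z : T) : G) with ht_def
  have ht : orderOf t = 2 := by
    rw [ht_def, Subgroup.orderOf_coe, Subgroup.orderOf_coe, hz]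
  set K := Subgroup.centralizer ({t} : Set G) with hK
  have hTK : T ≤ K := fun x hx => by
    rw [hK, Subgroup.mem_centralizer_singleton_iff]
    exact congrArg Subtype.val (Subgroup.mem_center_iff.1 z.2 ⟨x, hx⟩)
  have hCTK : Subgroup.centralizer (T : Set G) ≤ K :=
    Subgroup.centralizer_le (by simpa [ht_def] using (z : T).2)
  set M := Subgroup.normalizer ((T.subgroupOf K : Subgroup K) : Set K) with hM
  have hM2 := H7.fStar_normalizer (h t ht) (P := T.subgroupOf K) (hT.comap_subtype)
  -- the centralizer of `T` sits normally in both normalizers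
  set C := Subgroup.centralizer (T : Set G) with hC
  have hCN : C ≤ N := Subgroup.centralizer_le_normalizer _
  haveI hCn : (C.subgroupOf N).Normal := Subgroup.normal_subgroupOf_of_le_normalizer
    (Cfsg.Comp.le_normalizer_centralizer le_rfl)
  let e : ↥(M.map K.subtype) ≃* ↥M := (Subgroup.equivMapOfInjective M _ K.subtype_injective).symm
  have hCM : C ≤ M.map K.subtype := by
    intro c hc
    refine ⟨⟨c, hCTK hc⟩, ?_, rfl⟩
    rw [hM, SetLike.mem_coe, Subgroup.mem_normalizer_iff]
    intro x
    exact Subgroup.mem_normalizer_iff.1 (Subgroup.centralizer_le_normalizer _ hc) (x : G)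
  have hMN : M.map K.subtype ≤ N := by
    rintro _ ⟨m, hm, rfl⟩
    refine Subgroup.mem_normalizer_iff.2 fun x => ⟨fun hx => ?_, fun hx => ?_⟩
    · exact (Subgroup.mem_normalizer_iff.1 hm ⟨x, hTK hx⟩).1 hx
    · have hxK : x ∈ K := by
        have := mul_mem (mul_mem (inv_mem m.2) (hTK hx)) m.2
        simpa [mul_assoc] using this
      exact (Subgroup.mem_normalizer_iff.1 hm ⟨x, hxK⟩).2 hx
  -- anything subnormal in `N` inside `C` lands in `F*(M)`
  have key : ∀ (V : Subgroup G), V ≤ C → (V.subgroupOf N).IsSubnormal →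
      (Cfsg.IsComponent (V.subgroupOf N) ∨ Group.IsNilpotent ↥V) → IsPGroup 2 ↥V := by
    intro V hVC hVn hV
    have hsnC : (V.subgroupOf C).IsSubnormal := by
      have := hVn.comap (Subgroup.inclusion hCN)
      exact this
    set V' := (V.subgroupOf (M.map K.subtype)).map e.toMonoidHom
    have hsn : V'.IsSubnormal := by
      refine Subgroup.IsSubnormal.map e.surjective ?_
      refine Subgroup.IsSubnormal.trans (K := C.subgroupOf (M.map K.subtype))
        (fun x hx => hVC hx) ?_ ?_
      · have h1 := hsnC.map (f := (Subgroup.subgroupOfEquivOfLe hCM).symm.toMonoidHom)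
          (MulEquiv.surjective _)
        convert h1 using 1
        ext x
        constructor
        · intro hx
          exact ⟨Subgroup.subgroupOfEquivOfLe hCM x, hx, MulEquiv.symm_apply_apply _ _⟩
        · rintro ⟨y, hy, rfl⟩
          exact hy
      · exact (Subgroup.normal_subgroupOf_of_le_normalizer
          (hMN.trans (Cfsg.Comp.le_normalizer_centralizer le_rfl))).isSubnormal
    have e' : ↥V ≃* ↥V' := (Subgroup.subgroupOfEquivOfLe (hVC.trans hCM)).symm.trans
      ((V.subgroupOf _).equivMapOfInjective e.toMonoidHom e.injective)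
    have hle : V' ≤ Cfsg.generalizedFittingSubgroup ↥M := by
      rcases hV with hc | hn
      · refine le_trans (Cfsg.Comp.le_layer ⟨hsn, ?_⟩) Cfsg.Comp.layer_le_fStar
        exact Cfsg.Comp.isQuasisimple_of_equiv
          ((Subgroup.subgroupOfEquivOfLe (hVC.trans hCN)).trans e') hc.2
      · exact le_trans (Cfsg.Comp.le_fitting_of_subnormal hsn ((Group.isNilpotent_congr e').1 hn))
          Cfsg.Comp.fitting_le_fStar
    rw [hM2] at hle
    exact ((Cfsg.Comp.pCore_isPGroup 2).to_le hle).of_injective e'.toMonoidHom e'.injective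
  have hTN : T.subgroupOf N ≤ Cfsg.pCore 2 N :=
    Cfsg.Comp.le_pCore inferInstance hT.comap_subtype
  have hcent : ∀ V : Subgroup N, ⁅V, Cfsg.pCore 2 ↥N⁆ = ⊥ → V.map N.subtype ≤ C := by
    rintro V hV _ ⟨v, hv, rfl⟩
    rw [hC, Subgroup.mem_centralizer_iff]
    intro x hx
    exact (congrArg Subtype.val (Cfsg.Comp.commute_of_commutator_eq_bot hV hv
      (hTN (show (⟨x, Subgroup.le_normalizer hx⟩ : N) ∈ T.subgroupOf N from hx)))).symm
  have hsub : ∀ V : Subgroup N, (V.map N.subtype).subgroupOf N = V := fun V =>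
    Subgroup.comap_map_eq_self_of_injective N.subtype_injective V
  have hlayer : Cfsg.layer ↥N = ⊥ := by
    refine le_bot_iff.1 (Cfsg.Comp.layer_le_iff.2 fun L hL => ?_)
    exfalso
    have h2 := key (L.map N.subtype) (hcent L (Cfsg.Comp.component_commute_solvable_normal hL
      (by haveI := (Cfsg.Comp.pCore_isPGroup (G := N) 2).isNilpotent; infer_instance)))
      (by rw [hsub]; exact hL.1) (Or.inl (by rw [hsub]; exact hL))
    haveI := h2.isNilpotent
    exact Cfsg.Comp.isComponent_not_isSolvable hL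
      (Group.isSolvable_of_isSolvable_injective
        (f := (L.equivMapOfInjective N.subtype N.subtype_injective).toMonoidHom)
        (MulEquiv.injective _))
  show Cfsg.layer ↥N ⊔ Cfsg.fittingSubgroup ↥N = Cfsg.pCore 2 ↥N
  rw [hlayer, bot_sup_eq]
  refine le_antisymm ?_ (Cfsg.Comp.pCore_le_fitting 2)
  rw [Cfsg.Comp.fitting_eq_iSup_pCore]
  refine iSup_le fun q => ?_
  haveI := Fact.mk q.2
  by_cases hq : (q : ℕ) = 2
  · rw [hq]
  · set W := Cfsg.pCore (q : ℕ) ↥N
    have hWq := Cfsg.Comp.pCore_isPGroup (G := N) (q : ℕ)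
    have hcW : ⁅W, Cfsg.pCore 2 ↥N⁆ = ⊥ :=
      Subgroup.commutator_eq_bot_of_disjoint
        (IsPGroup.disjoint_of_ne _ _ hq _ _ hWq (Cfsg.Comp.pCore_isPGroup 2))
    have h2 := key (W.map N.subtype) (hcent W hcW)
      (by rw [hsub]; exact (inferInstance : W.Normal).isSubnormal)
      (Or.inr (hWq.map _).isNilpotent)
    have hd := IsPGroup.disjoint_of_ne _ _ hq _ _ (hWq.map N.subtype) h2
    have : W.map N.subtype = ⊥ := disjoint_self.1 hd
    rw [(Subgroup.map_eq_bot_iff_of_injective W N.subtype_injective).1 this]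
    exact bot_le

end Cfsg.Agent.S1292
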