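import Cfsg.Statements.S1293
import Mathlib
import Cfsg.Agent.H7.LocalLayer
import Cfsg.Agent.H71.Local
import Cfsg.Agent.H1.Cores
import Cfsg.Agent.H82.SylowIn

set_option autoImplicit false
open Cfsg

namespace Cfsg.Agent.S1293

/-- Let G be finite with L_{p'}(G) = 1, and H = N_G(P) for a nontrivial p-subgroup P. Then L_{p'}(H) = 1 and O_{p'}(H) ≤ O_{p'}(G). -/
theorem result {G : Type*} [Group G] [Finite G] (p : ℕ) [Fact p.Prime] (hL : Cfsg.pLayer p G = ⊥) (P : Subgroup G) (hP : IsPGroup p ↥P) (hP1 : P ≠ ⊥) : Cfsg.pLayer p ↥(Subgroup.normalizer (P : Set G)) = ⊥ ∧ (Cfsg.pPrimeCore p ↥(Subgroup.normalizer (P : Set G))).map (Subgroup.normalizer (P : Set G)).subtype ≤ Cfsg.pPrimeCore p G := by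
  set N := Subgroup.normalizer (P : Set G) with hN
  set f := QuotientGroup.mk' (Cfsg.pPrimeCore p G)
  have hsurj : Function.Surjective f := QuotientGroup.mk'_surjective _
  set Q := G ⧸ Cfsg.pPrimeCore p G
  have hO : Cfsg.pPrimeCore p Q = ⊥ := Cfsg.Comp.pPrimeCore_quotient_eq_bot
  have hlayer : Cfsg.layer Q = ⊥ := by
    show Cfsg.layer (G ⧸ Cfsg.pPrimeCore p G) = ⊥
    rw [← Cfsg.Comp.map_pLayer, hL, Subgroup.map_bot]
  have hF : Cfsg.generalizedFittingSubgroup Q = Cfsg.pCore p Q := by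
    rw [Cfsg.generalizedFittingSubgroup, hlayer, bot_sup_eq, H7.fitting_eq_pCore hO]
  have hQC : Subgroup.centralizer (Cfsg.pCore p Q : Set Q) ≤ Cfsg.pCore p Q := by
    have := Cfsg.Comp.centralizer_fStar_le (G := Q)
    rwa [hF] at this
  -- the core of the local subgroup maps to the identity
  have hcore : (Cfsg.pPrimeCore p ↥N).map N.subtype ≤ Cfsg.pPrimeCore p G := by
    intro y hy
    have h1 := hQC (H71.localCore_image P hP hy).1
    obtain ⟨k, hk⟩ := Cfsg.Comp.pCore_isPGroup p ⟨f y, h1⟩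
    obtain ⟨y', hy', rfl⟩ := hy
    have ho : ¬ p ∣ orderOf (y' : G) := fun hd => Cfsg.Comp.not_dvd_card_pPrimeCore p
      ((hd.trans (by rw [Subgroup.orderOf_coe])).trans (Subgroup.orderOf_dvd_natCard _ hy'))
    refine (QuotientGroup.eq_one_iff (y' : G)).1 ?_
    refine Cfsg.Comp.eq_one_of_pow_eq_one (p := p) (congrArg Subtype.val hk) ho ?_
    show f (y' : G) ^ orderOf (y' : G) = 1
    rw [← map_pow, pow_orderOf_eq_one, map_one]
  refine ⟨?_, hcore⟩
  -- the image of `N` is the local subgroup of the image of `P`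
  have himg : N.map f = Subgroup.normalizer ((P.map f : Subgroup Q) : Set Q) := by
    refine le_antisymm (Subgroup.le_normalizer_map f) ?_
    intro z hz
    obtain ⟨g, rfl⟩ := hsurj z
    set O := Cfsg.pPrimeCore p G
    have hle : ∀ x ∈ P, g * x * g⁻¹ ∈ P ⊔ O := by
      intro x hx
      have := (Subgroup.mem_normalizer_iff.1 hz (f x)).1 ⟨x, hx, rfl⟩
      rw [← map_inv, ← map_mul, ← map_mul, ← Subgroup.mem_comap, Subgroup.comap_map_eq,
        QuotientGroup.ker_mk'] at this
      exact this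
    have hPs : H82.SylowIn p P (P ⊔ O) := by
      refine ⟨le_sup_left, hP, ?_⟩
      intro h
      have h1 : Nat.card ↥(P ⊔ O) ∣ Nat.card ↥P * Nat.card ↥O := H1.card_sup_dvd_mul P O
      rw [← H82.card_mul_relIndex (le_sup_left : P ≤ P ⊔ O)] at h1
      exact Cfsg.Comp.not_dvd_card_pPrimeCore p
        (h.trans (Nat.dvd_of_mul_dvd_mul_left Nat.card_pos h1))
    obtain ⟨m, hm, hmP⟩ := hPs.exists_conj_le (Q := P.map (MulAut.conj g).toMonoidHom) (hP.map _)
      (by rintro _ ⟨x, hx, rfl⟩; exact hle x hx)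
    rw [← H82.map_conj_mul] at hmP
    have hmg : m * g ∈ N := H82.mem_normalizer_of_map_le hmP
    rw [← SetLike.mem_coe, Subgroup.coe_mul_of_left_le_normalizer_right _ _
      Cfsg.Comp.le_normalizer_of_normal] at hm
    obtain ⟨a, ha, o, ho, rfl⟩ := hm
    have : o * g ∈ N := by
      have := mul_mem (inv_mem (Subgroup.le_normalizer ha)) hmg
      simpa [mul_assoc] using this
    refine ⟨o * g, this, ?_⟩
    rw [map_mul, show f o = 1 from (QuotientGroup.eq_one_iff o).2 ho, one_mul]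
  set M := N.map f
  have hML : Cfsg.layer ↥M = ⊥ := by
    have hfs := H7.fStar_normalizer hF (P := P.map f) (hP.map f)
    rw [← himg] at hfs
    refine le_bot_iff.1 (Cfsg.Comp.layer_le_iff.2 fun L hL' => ?_)
    exfalso
    have hle : L ≤ Cfsg.pCore p ↥M := hfs ▸ (Cfsg.Comp.le_layer hL').trans Cfsg.Comp.layer_le_fStar
    haveI := (Cfsg.Comp.pCore_isPGroup (G := M) p).isNilpotent
    exact H7.no_component_in_solvable (S := Cfsg.pCore p ↥M) hL' hle
  -- transfer to `N / O_{p'}(N)`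
  set g := f.subgroupMap N
  have hg : Function.Surjective g := MonoidHom.subgroupMap_surjective _ _
  have hker : g.ker = Cfsg.pPrimeCore p ↥N := by
    refine le_antisymm (Cfsg.Comp.le_pPrimeCore inferInstance ?_) fun y hy => ?_
    · rw [Cfsg.Comp.coprime_iff_not_dvd]
      intro h
      refine Cfsg.Comp.not_dvd_card_pPrimeCore (G := G) p (h.trans ?_)
      rw [← Cfsg.Comp.card_map_subtype]
      refine Subgroup.card_dvd_of_le ?_
      rintro _ ⟨x, hx, rfl⟩
      exact (QuotientGroup.eq_one_iff (x : G)).1 (congrArg Subtype.val hx)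
    · exact MonoidHom.mem_ker.2 (Subtype.ext ((QuotientGroup.eq_one_iff (y : G)).2
        (hcore ⟨y, hy, rfl⟩)))
  let e : (↥N ⧸ Cfsg.pPrimeCore p ↥N) ≃* ↥M :=
    (QuotientGroup.quotientMulEquivOfEq hker.symm).trans
      (QuotientGroup.quotientKerEquivOfSurjective g hg)
  have hlN : Cfsg.layer (↥N ⧸ Cfsg.pPrimeCore p ↥N) = ⊥ := by
    have := Cfsg.Comp.layer_map_equiv e
    rw [hML] at this
    exact (Subgroup.map_eq_bot_iff_of_injective _ e.injective).1 this
  refine sSup_eq_bot.2 fun K hK => ?_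
  exfalso
  have := Cfsg.Comp.le_layer hK.2.1
  rw [hlN, le_bot_iff] at this
  exact Cfsg.Comp.isComponent_ne_bot hK.2.1 this

end Cfsg.Agent.S1293
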