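import Cfsg.Statements.S1297
import Cfsg.Agent.H8.LocalBalanceQuot

set_option autoImplicit false
open Cfsg

namespace Cfsg.Agent.S1297

/-- Let G be finite. Suppose that for every involution x, writing C = C_G(x), every component K of C / O(C) has K / Z(K) locally balanced. Then G is balanced. -/
theorem result {G : Type*} [Group G] [Finite G] (h : ∀ x : G, orderOf x = 2 → ∀ K : Subgroup (↥(Subgroup.centralizer ({x} : Set G)) ⧸ Cfsg.oddCore ↥(Subgroup.centralizer ({x} : Set G))), Cfsg.IsComponent K → Cfsg.IsLocallyBalanced (↥K ⧸ Subgroup.center ↥K)) : Cfsg.IsBalanced G := by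
  haveI : Fact (Nat.Prime 2) := ⟨Nat.prime_two⟩
  have hb : Cfsg.IsKBalanced 2 1 G := H8.isKBalanced_of_centralQuot le_rfl fun x hx K hK =>
    H8.isLocallyKBalanced_one_of_isLocallyBalanced (h x hx K hK)
  have key : ∀ x y : G, orderOf x = 2 → orderOf y = 2 → x * y = y * x →
      Cfsg.centralizerPPrimeCore 2 x ⊓ Subgroup.centralizer {y} ≤
        Cfsg.centralizerPPrimeCore 2 y ⊓ Subgroup.centralizer {x} := by
    intro x y hx hy hxy
    refine le_inf (le_trans ?_ (hb (Subgroup.zpowers x) ⟨inferInstance, fun a ha => ?_⟩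
      (by rw [Nat.card_zpowers, hx, pow_one]) y hy fun a ha => ?_))
      (inf_le_left.trans (H71.centralizerPPrimeCore_le x))
    · refine inf_le_inf_right _ (H71.le_signalizerDelta fun b hb hb1 => ?_)
      obtain ⟨n, rfl⟩ := Subgroup.mem_zpowers_iff.1 hb
      obtain h' | h' : x ^ n = x ∨ x ^ n = 1 := by
        rcases Int.even_or_odd n with ⟨m, rfl⟩ | ⟨m, rfl⟩
        · right
          rw [← two_mul, zpow_mul, zpow_two, ← pow_two, ← hx, pow_orderOf_eq_one, one_zpow]
        · left
          rw [zpow_add, zpow_mul, zpow_two, ← pow_two, ← hx, pow_orderOf_eq_one, one_zpow, one_mul,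
            zpow_one]
      · rw [h']
      · exact absurd h' hb1
    · obtain ⟨n, rfl⟩ := Subgroup.mem_zpowers_iff.1 ha
      rw [← zpow_natCast, ← zpow_mul, mul_comm, zpow_mul, zpow_natCast, ← hx, pow_orderOf_eq_one, one_zpow]
    · obtain ⟨n, rfl⟩ := Subgroup.mem_zpowers_iff.1 ha
      exact ((show Commute x y from hxy).zpow_left n).eq
  exact fun x y hx hy hxy => le_antisymm (key x y hx hy hxy) (key y x hy hx hxy.symm)

end Cfsg.Agent.S1297
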