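import Cfsg.Statements.S1299
import Cfsg.Agent.H71.Delta
import Cfsg.Agent.H8.BalancedGeneration

set_option autoImplicit false
open Cfsg

namespace Cfsg.Agent.S1299

/-- A subgroup of a `p`-group of order at least `p ^ k` contains one of order exactly `p ^ k`. -/
theorem exists_le_card {G : Type*} [Group G] [Finite G] {p k : ℕ} [Fact p.Prime] {T : Subgroup G}
    (hT : IsPGroup p T) (h : p ^ k ≤ Nat.card T) : ∃ D : Subgroup G, D ≤ T ∧ Nat.card D = p ^ k := by
  obtain ⟨D, hD⟩ := Sylow.exists_subgroup_card_pow_prime (G := T) p (n := k) (by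
    obtain ⟨m, hm⟩ := hT.exists_card_eq
    rw [hm] at h ⊢
    exact pow_dvd_pow p ((Nat.pow_le_pow_iff_right (Fact.out : p.Prime).one_lt).1 h))
  exact ⟨D.map T.subtype, Subgroup.map_subtype_le _, by
    rw [Subgroup.card_map_of_injective T.subtype_injective, hD]⟩

/-- Let G be finite and k-balanced for the prime p (k ≥ 1), A an elementary abelian p-subgroup of order at least p^(k+2) such that O_{p'}(C_G(a)) is solvable for every non-identity a ∈ A. For a ∈ A put θ a = the subgroup generated by the Δ_G(D) ∩ C_G(a) over the subgroups D ≤ A of order p^k. Then θ is an A-signalizer functor. -/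
theorem result {G : Type*} [Group G] [Finite G] (p k : ℕ) [Fact p.Prime] (hk : 1 ≤ k) (hbal : Cfsg.IsKBalanced p k G) (A : Subgroup G) (hA : Cfsg.IsElementaryAbelian p A) (hAk : p ^ (k + 2) ≤ Nat.card ↥A) (hsolv : ∀ a ∈ A, a ≠ 1 → Group.IsSolvable ↥(Cfsg.centralizerPPrimeCore p a)) : Cfsg.IsSignalizerFunctor p A (fun a => ⨆ D : {D : Subgroup G // D ≤ A ∧ Nat.card ↥D = p ^ k}, Cfsg.signalizerDelta p (D : Subgroup G) ⊓ Subgroup.centralizer {a}) := by
  haveI := hA.1
  have hp := (Fact.out : p.Prime)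
  have hA1 : A ≠ ⊥ := H71.ne_bot_of_pow_le (by omega) hAk
  have hAp : IsPGroup p A := fun a => ⟨1, by apply Subtype.ext; rw [pow_one]; exact hA.2 _ a.2⟩
  have hcomm : ∀ x ∈ A, ∀ y ∈ A, x * y = y * x := fun x hx y hy =>
    congrArg Subtype.val (mul_comm' (⟨x, hx⟩ : A) ⟨y, hy⟩)
  have hsub : ∀ T : Subgroup G, T ≤ A → p ^ k ≤ Nat.card T → ∀ a ∈ A, a ≠ 1 →
      Cfsg.signalizerDelta p T ⊓ Subgroup.centralizer {a} ≤ Cfsg.centralizerPPrimeCore p a := by
    intro T hT hTk a ha ha1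
    obtain ⟨D, hDT, hDk⟩ := exists_le_card (hAp.to_le hT) hTk
    refine le_trans (inf_le_inf_right _ ?_) (hbal D (H71.isElementaryAbelian_mono hA (hDT.trans hT)) hDk a
      (orderOf_eq_prime (hA.2 a ha) ha1) fun d hd => hcomm d (hT (hDT hd)) a ha)
    exact H71.le_signalizerDelta fun d hd hd1 => H71.signalizerDelta_le (hDT hd) hd1
  have hhyp : ∀ H : Subgroup G, H8.IsHyperplane p A H → p ^ (k + 1) ≤ Nat.card H := by
    intro H hH
    have h := H82.card_mul_relIndex hH.1
    rw [hH.2] at h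
    rw [← h, pow_succ] at hAk
    exact Nat.le_of_mul_le_mul_right hAk hp.pos
  have hAC : ∀ a ∈ A, A ≤ Subgroup.centralizer ({a} : Set G) := fun a ha x hx =>
    Subgroup.mem_centralizer_singleton_iff.2 (hcomm x hx a ha)
  -- the fixed points in `C(a)` of a hyperplane
  set U : G → Subgroup G → Subgroup G := fun a H =>
    Cfsg.signalizerDelta p H ⊓ Subgroup.centralizer {a} ⊓ Subgroup.centralizer (H : Set G) with hUdef
  have hfix : ∀ a ∈ A, a ≠ 1 → ∀ T : Subgroup G, T ≤ A → p ^ k ≤ Nat.card T → ∀ H : Subgroup G, H ≤ A →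
      Cfsg.signalizerDelta p T ⊓ Subgroup.centralizer {a} ⊓ Subgroup.centralizer (H : Set G) ≤ U a H := by
    intro a ha ha1 T hT hTk H hH
    refine le_inf (le_inf (H71.le_signalizerDelta fun h hh hh1 => ?_) (inf_le_left.trans inf_le_right))
      inf_le_right
    refine le_trans (le_inf (inf_le_left.trans inf_le_left) (inf_le_right.trans ?_))
      (hsub T hT hTk h (hH hh) hh1)
    exact Subgroup.centralizer_le (by simpa using hh)
  have hD : ∀ D : {D : Subgroup G // D ≤ A ∧ Nat.card ↥D = p ^ k}, p ^ k ≤ Nat.card D.1 := fun D => D.2.2.ge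
  have hle : ∀ a ∈ A, a ≠ 1 → (⨆ D : {D : Subgroup G // D ≤ A ∧ Nat.card ↥D = p ^ k},
      Cfsg.signalizerDelta p (D : Subgroup G) ⊓ Subgroup.centralizer {a}) ≤ Cfsg.centralizerPPrimeCore p a :=
    fun a ha ha1 => iSup_le fun D => hsub D.1 D.2.1 (hD D) a ha ha1
  have hnorm : ∀ a ∈ A, ∀ T : Subgroup G, T ≤ A →
      A ≤ Subgroup.normalizer ((Cfsg.signalizerDelta p T ⊓ Subgroup.centralizer {a} : Subgroup G) : Set G) :=
    fun a ha T hT => H8.le_normalizer_inf (H71.le_normalizer_signalizerDelta hT)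
      ((hAC a ha).trans Subgroup.le_normalizer)
  have hθn : ∀ a ∈ A, A ≤ Subgroup.normalizer ((⨆ D : {D : Subgroup G // D ≤ A ∧ Nat.card ↥D = p ^ k},
      Cfsg.signalizerDelta p (D : Subgroup G) ⊓ Subgroup.centralizer {a} : Subgroup G) : Set G) :=
    fun a ha => H8.le_normalizer_iSup _ fun D => hnorm a ha D.1 D.2.1
  refine ⟨fun a _ _ => iSup_le fun D => inf_le_right, fun a ha ha1 =>
    H8.not_dvd_card_of_le (hle a ha ha1) (H71.not_dvd_centralizerPPrimeCore a), ?_, ?_⟩
  · intro a ha _ b hb x hx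
    exact H8.conj_mem_of_le_normalizer (hθn a ha) hb hx
  intro a ha ha1 b hb hb1
  haveI : Group.IsSolvable ↥(Cfsg.centralizerPPrimeCore p a) := hsolv a ha ha1
  set θa := ⨆ D : {D : Subgroup G // D ≤ A ∧ Nat.card ↥D = p ^ k},
      Cfsg.signalizerDelta p (D : Subgroup G) ⊓ Subgroup.centralizer {a} with hθa
  -- `θ a` is generated by the fixed points of hyperplanes
  have hgen : θa ≤ ⨆ H : {H : Subgroup G // H8.IsHyperplane p A H}, U a H := by
    refine iSup_le fun D => H8.generation hA hA1 (hnorm a ha D.1 D.2.1)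
      (H8.not_dvd_card_of_le (hsub D.1 D.2.1 (hD D) a ha ha1) (H71.not_dvd_centralizerPPrimeCore a))
      fun H hH hHi => ?_
    exact (hfix a ha ha1 D.1 D.2.1 (hD D) H hH).trans
      (le_iSup (fun H : {H : Subgroup G // H8.IsHyperplane p A H} => U a H) ⟨H, hH, hHi⟩)
  refine H8.generation hA hA1 (H8.le_normalizer_inf (hθn a ha)
    ((hAC b hb).trans Subgroup.le_normalizer))
    (H8.not_dvd_card_of_le (inf_le_left.trans (hle a ha ha1)) (H71.not_dvd_centralizerPPrimeCore a))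
    fun H hH hHi => ?_
  have hHk : p ^ k ≤ Nat.card H :=
    (Nat.pow_le_pow_right hp.pos (Nat.le_succ k)).trans (hhyp H ⟨hH, hHi⟩)
  have key : θa ⊓ Subgroup.centralizer (H : Set G) ≤ U a H := by
    refine (inf_le_inf_right _ hgen).trans (H8.generation_balanced hA hA1
      (H71.not_dvd_centralizerPPrimeCore (p := p) a) (U a) (fun H₁ h₁ => ⟨inf_le_right, ?_⟩)
      (fun H₁ H₂ h₁ h₂ => ?_) ⟨hH, hHi⟩)
    · exact H8.le_normalizer_inf (hnorm a ha H₁ h₁.1)
        (H8.le_normalizer_centralizer_of_le_normalizer (H8.le_normalizer_of_comm h₁.1))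
    have hT : p ^ k ≤ Nat.card (H₁ ⊓ H₂ : Subgroup G) := by
      have h := H82.card_mul_relIndex (inf_le_left : H₁ ⊓ H₂ ≤ H₁)
      have hi : (H₁ ⊓ H₂).relIndex H₁ ≤ p := by
        rw [Subgroup.inf_relIndex_left, ← h₂.2]
        exact Subgroup.relIndex_le_of_le_right h₁.1 (by rw [h₂.2]; exact hp.ne_zero)
      have h3 := hhyp H₁ h₁
      rw [← h, pow_succ] at h3
      exact Nat.le_of_mul_le_mul_right (h3.trans (Nat.mul_le_mul_left _ hi)) hp.pos
    have hmono : ∀ H', H₁ ⊓ H₂ ≤ H' → U a H' ≤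
        Cfsg.signalizerDelta p (H₁ ⊓ H₂) ⊓ Subgroup.centralizer {a} := fun H' hle' =>
      inf_le_left.trans (inf_le_inf_right _
        (H71.le_signalizerDelta fun d hd hd1 => H71.signalizerDelta_le (hle' hd) hd1))
    exact ⟨_, hsub _ (inf_le_left.trans h₁.1) hT a ha ha1, hnorm a ha _ (inf_le_left.trans h₁.1),
      hmono H₁ inf_le_left, hmono H₂ inf_le_right,
      fun H₃ h₃ => hfix a ha ha1 _ (inf_le_left.trans h₁.1) hT H₃ h₃.1⟩
  obtain ⟨D, hDH, hDk⟩ := exists_le_card (hAp.to_le hH) hHk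
  refine le_trans ?_ (le_iSup (fun D : {D : Subgroup G // D ≤ A ∧ Nat.card ↥D = p ^ k} =>
    Cfsg.signalizerDelta p (D : Subgroup G) ⊓ Subgroup.centralizer {b}) ⟨D, hDH.trans hH, hDk⟩)
  refine le_inf ?_ (inf_le_left.trans inf_le_right)
  refine le_trans (le_inf (inf_le_left.trans inf_le_left) inf_le_right) (key.trans ?_)
  exact (inf_le_left.trans inf_le_left).trans
    (H71.le_signalizerDelta fun d hd hd1 => H71.signalizerDelta_le (hDH hd) hd1)

end Cfsg.Agent.S1299
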