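import Cfsg.Statements.S1300
import Mathlib

set_option autoImplicit false
open Cfsg
open scoped commutatorElement

namespace Cfsg.Agent.S1300

/-- For a finite group G, balance in the sense of commuting involutions is the same as 1-balance for the prime 2. -/
theorem result {G : Type*} [Group G] [Finite G] : Cfsg.IsBalanced G ↔ Cfsg.IsKBalanced 2 1 G := by
  constructor
  · intro h A hA hcard b hb hcomm
    rw [pow_one] at hcard
    obtain ⟨a, ha, ha1⟩ : ∃ a ∈ A, a ≠ 1 := by
      by_contra hh
      push_neg at hh
      have : A = ⊥ := (Subgroup.eq_bot_iff_forall A).2 hh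
      rw [this] at hcard; simp at hcard
    have ho : orderOf a = 2 := orderOf_eq_prime (by have := hA.2 a ha; exact this) ha1
    refine le_trans (inf_le_inf_right _ (iInf_le _ ⟨a, ha, ha1⟩)) ?_
    rw [h a b ho hb (hcomm a ha)]
    exact inf_le_left
  · intro h
    have key : ∀ x y : G, orderOf x = 2 → orderOf y = 2 → x * y = y * x →
        Cfsg.centralizerPPrimeCore 2 x ⊓ Subgroup.centralizer {y} ≤
          Cfsg.centralizerPPrimeCore 2 y ⊓ Subgroup.centralizer {x} := by
      intro x y hx hy hxy
      refine le_inf ?_ (le_trans inf_le_left (Subgroup.map_subtype_le _))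
      have hel : Cfsg.IsElementaryAbelian 2 (Subgroup.zpowers x) := by
        refine ⟨inferInstance, ?_⟩
        rintro a ⟨k, rfl⟩
        show (x ^ k) ^ 2 = 1
        rw [← zpow_natCast, ← zpow_mul, mul_comm, zpow_mul, zpow_natCast, ← hx,
          pow_orderOf_eq_one, one_zpow]
      refine le_trans (inf_le_inf_right _ ?_) (h (Subgroup.zpowers x) hel
        (by rw [pow_one, Nat.card_zpowers, hx]) y hy ?_)
      · refine le_iInf ?_
        rintro ⟨a, ⟨k, rfl⟩, ha1⟩
        have : x ^ k = x := by
          rcases Int.even_or_odd' k with ⟨j, rfl | rfl⟩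
          · exfalso; apply ha1
            show x ^ (2 * j) = 1
            rw [zpow_mul, show (2 : ℤ) = ((2 : ℕ) : ℤ) from rfl, zpow_natCast, ← hx,
              pow_orderOf_eq_one, one_zpow]
          · rw [zpow_add, zpow_mul, show (2 : ℤ) = ((2 : ℕ) : ℤ) from rfl, zpow_natCast, ← hx,
              pow_orderOf_eq_one, one_zpow, one_mul, zpow_one]
        show _ ≤ Cfsg.centralizerPPrimeCore 2 (x ^ k)
        rw [this]
      · rintro a ⟨k, rfl⟩
        exact (Commute.zpow_left hxy k).eq
    exact fun x y hx hy hxy => le_antisymm (key x y hx hy hxy) (key y x hy hx hxy.symm)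

end Cfsg.Agent.S1300
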