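import Cfsg.Statements.S1302
import Mathlib
import Cfsg.Agent.H84.BaerTrick
import Cfsg.Agent.H11.PConstrained
import Cfsg.Agent.CompPComp
import Cfsg.Agent.H8.Coprime

set_option autoImplicit false
open Cfsg
open scoped commutatorElement

namespace Cfsg.Agent.S1302

/-- Let X be a finite p-constrained group, p an odd prime, and A an abelian p-subgroup of X containing every element of order p of C_X(A). Then every subgroup of X of order prime to p that is normalized by A lies in O_{p'}(X). -/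
theorem result {X : Type*} [Group X] [Finite X] (p : ℕ) [Fact p.Prime] (hp : p ≠ 2) (hX : Cfsg.IsPConstrained p X) (A : Subgroup X) (hA : IsMulCommutative ↥A) (hAp : IsPGroup p ↥A) (hΩ : ∀ x ∈ Subgroup.centralizer (A : Set X), orderOf x = p → x ∈ A) (Q : Subgroup X) (hQ : ¬ p ∣ Nat.card ↥Q) (hAQ : A ≤ Subgroup.normalizer (Q : Set X)) : Q ≤ Cfsg.pPrimeCore p X := by
  haveI := H1.pPrimeCore_normal' p X
  set O := Cfsg.pPrimeCore p X with hO
  set f := QuotientGroup.mk' O
  set P := Cfsg.pCore p (X ⧸ O)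
  have hC : Subgroup.centralizer (P : Set (X ⧸ O)) ≤ P := H84.centralizer_pCore_quotient_le hX
  have hP : IsPGroup p P := Cfsg.Comp.pCore_isPGroup p
  have hQb : ¬ p ∣ Nat.card (Q.map f) := fun h => hQ (h.trans (Subgroup.card_map_dvd Q f))
  have hAQb : A.map f ≤ Subgroup.normalizer ((Q.map f : Subgroup (X ⧸ O)) : Set (X ⧸ O)) :=
    (Subgroup.map_mono hAQ).trans (Subgroup.le_normalizer_map f)
  let T : Set (X ⧸ O) := {z | z ∈ A.map f ∧ z ∈ P}
  have hT : Q.map f ≤ Subgroup.centralizer T := by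
    intro q hq
    rw [Subgroup.mem_centralizer_iff]
    rintro z ⟨hzA, hzP⟩
    rw [← commutatorElement_eq_one_iff_mul_comm]
    have h1 : ⁅z, q⁆ ∈ Q.map f :=
      mul_mem ((Subgroup.mem_normalizer_iff.1 (hAQb hzA) q).1 hq) (inv_mem hq)
    have h2 : ⁅z, q⁆ ∈ P :=
      Subgroup.commutator_le_left P ⊤ (Subgroup.commutator_mem_commutator hzP (Subgroup.mem_top q))
    have h3 := Cfsg.Comp.inf_eq_bot_of_isPGroup hP hQb
    exact Subgroup.mem_bot.1 (h3 ▸ ⟨h2, h1⟩)
  have hcent : Q.map f ≤ Subgroup.centralizer (P : Set (X ⧸ O)) := by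
    refine H84.le_centralizer_of_odd hp (hAp.map f) hQb hAQb T hT P ?_ le_rfl hP
      Cfsg.Comp.le_normalizer_of_normal Cfsg.Comp.le_normalizer_of_normal
    intro W hWP h1 hAW hpow hdvd
    letI := H84.conjSetAction (A.map f) W hAW
    obtain ⟨b, hb, hne⟩ := (hAp.map f).exists_fixed_point_of_prime_dvd_card_of_fixed_point W hdvd
      (a := (⟨1, h1⟩ : W)) (fun e => Subtype.ext (show (e : X ⧸ O) * 1 * (e : X ⧸ O)⁻¹ = 1 by simp))
    have hb1 : (b : X ⧸ O) ≠ 1 := fun h => hne (Subtype.ext h.symm)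
    -- replace `b` by an element of order `p`
    obtain ⟨k, hk⟩ := hP ⟨b, hWP b.2⟩
    have hk' : (b : X ⧸ O) ^ p ^ k = 1 := congrArg Subtype.val hk
    obtain ⟨j, hj, hjo⟩ := (Nat.dvd_prime_pow (Fact.out : p.Prime)).1
      (orderOf_dvd_of_pow_eq_one hk')
    have hj0 : j ≠ 0 := by
      rintro rfl
      exact hb1 (orderOf_eq_one_iff.1 (by simpa using hjo))
    set z := (b : X ⧸ O) ^ p ^ (j - 1) with hz
    have hzo : orderOf z = p := by
      have h0 : p ^ (j - 1) ∣ orderOf (b : X ⧸ O) := hjo ▸ pow_dvd_pow p (Nat.sub_le j 1)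
      rw [hz, orderOf_pow_of_dvd (pow_ne_zero _ (Fact.out : p.Prime).ne_zero) h0, hjo,
        Nat.pow_div (Nat.sub_le j 1) (Fact.out : p.Prime).pos,
        show j - (j - 1) = 1 by omega, pow_one]
    have hzW : z ∈ W := hpow _ b.2 _
    have hzA : ∀ a ∈ A, f a * z = z * f a := by
      intro a ha
      have h := congrArg Subtype.val (hb ⟨f a, ⟨a, ha, rfl⟩⟩)
      have hc : Commute (f a) (b : X ⧸ O) := mul_inv_eq_iff_eq_mul.1 h
      exact (hc.pow_right _).eq
    obtain ⟨x, hxz⟩ := QuotientGroup.mk'_surjective O z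
    obtain ⟨d, hd, hdc⟩ := H8.exists_fixed_coset hAp
      (Cfsg.Comp.le_normalizer_of_normal : A ≤ Subgroup.normalizer (O : Set X))
      (Cfsg.Comp.not_dvd_card_pPrimeCore p) (x := x) (fun a ha => by
        rw [← QuotientGroup.eq_one_iff]
        show f (x⁻¹ * (a * x * a⁻¹)) = 1
        rw [map_mul, map_mul, map_mul, map_inv, map_inv, hxz, hzA a ha]
        group)
    set c := x * d with hc
    have hfc : f c = z := by
      rw [hc, map_mul, show f d = 1 from (QuotientGroup.eq_one_iff d).2 hd, mul_one, hxz]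
    obtain ⟨e, m, hm, hem⟩ := Nat.exists_eq_pow_mul_and_not_dvd (orderOf_pos c).ne' p
      (Fact.out : p.Prime).ne_one
    have hcm : orderOf (c ^ m) = p := by
      refine orderOf_eq_prime ?_ ?_
      · have hmem : (c ^ m) ^ p ∈ O := by
          refine (QuotientGroup.eq_one_iff _).1 ?_
          show f ((c ^ m) ^ p) = 1
          rw [map_pow, map_pow, hfc, ← pow_mul, mul_comm, pow_mul, ← hzo, pow_orderOf_eq_one, one_pow]
        refine Cfsg.Comp.eq_one_of_pow_eq_one (p := p) (k := e)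
          (show ((c ^ m) ^ p) ^ p ^ e = 1 from ?_) (Cfsg.Comp.not_dvd_card_pPrimeCore p)
          (congrArg Subtype.val (pow_card_eq_one' (x := (⟨_, hmem⟩ : O))))
        rw [← pow_mul, ← pow_mul, show m * (p * p ^ e) = p ^ e * m * p by ring, ← hem, pow_mul,
          pow_orderOf_eq_one, one_pow]
      · intro h
        have : z ^ m = 1 := by rw [← hfc, ← map_pow, h, map_one]
        exact hm (hzo ▸ orderOf_dvd_of_pow_eq_one this)
    have hcmA : c ^ m ∈ A := hΩ _ (pow_mem hdc m) hcm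
    refine ⟨z ^ m, hpow z hzW m, fun h => hm (hzo ▸ orderOf_dvd_of_pow_eq_one h), ?_, ?_⟩
    · exact ⟨c ^ m, hcmA, by rw [map_pow, hfc]⟩
    · exact pow_mem (hWP hzW) m
  intro q hq
  refine (QuotientGroup.eq_one_iff q).1 ?_
  have h := Cfsg.Comp.inf_eq_bot_of_isPGroup hP hQb
  exact Subgroup.mem_bot.1 (h ▸ ⟨hC (hcent ⟨q, hq, rfl⟩), ⟨q, hq, rfl⟩⟩)

end Cfsg.Agent.S1302
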