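import Cfsg.Statements.S1303
import Mathlib

set_option autoImplicit false
open Cfsg

namespace Cfsg.Agent.S1303

local notation "SL23" => Matrix.SpecialLinearGroup (Fin 2) (ZMod 3)

/-- The quaternion subgroup of `SL(2,3)`. -/
def q8 : Subgroup SL23 where
  carrier := {g | g ^ 4 = 1}
  one_mem' := by simp
  mul_mem' := fun {a b} ha hb =>
    (by decide +kernel : ∀ a b : SL23, a ^ 4 = 1 → b ^ 4 = 1 → (a * b) ^ 4 = 1) a b ha hb
  inv_mem' := fun {a} ha => by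
    show a⁻¹ ^ 4 = 1
    rw [inv_pow, show a ^ 4 = 1 from ha, inv_one]


/-- The group X = SL(2, 3): it is 2-constrained, O_{2'}(X) = 1, its centre A = Z(X) contains every involution of X = C_X(A), and X has a subgroup of order 3 (normalized by A) not contained in O_{2'}(X). -/
theorem result : Cfsg.IsPConstrained 2 (Matrix.SpecialLinearGroup (Fin 2) (ZMod 3)) ∧ Cfsg.pPrimeCore 2 (Matrix.SpecialLinearGroup (Fin 2) (ZMod 3)) = ⊥ ∧ (∀ t : Matrix.SpecialLinearGroup (Fin 2) (ZMod 3), orderOf t = 2 → t ∈ Subgroup.center (Matrix.SpecialLinearGroup (Fin 2) (ZMod 3))) ∧ ∃ Q : Subgroup (Matrix.SpecialLinearGroup (Fin 2) (ZMod 3)), Nat.card ↥Q = 3 ∧ ¬ (Q ≤ Cfsg.pPrimeCore 2 (Matrix.SpecialLinearGroup (Fin 2) (ZMod 3))) := by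
  have hN : q8.Normal := ⟨fun n hn g => by
    show (g * n * g⁻¹) ^ 4 = 1
    rw [conj_pow, show n ^ 4 = 1 from hn]; group⟩
  have hP : IsPGroup 2 ↥q8 := fun g => ⟨2, Subtype.ext g.2⟩
  have hO : Cfsg.pPrimeCore 2 SL23 = ⊥ := by
    rw [Cfsg.pPrimeCore, sSup_eq_bot]
    rintro N ⟨hNn, hNc⟩
    rw [Subgroup.eq_bot_iff_forall]
    intro n hn
    by_contra h1
    obtain ⟨g, hg1, hg4⟩ := (by decide +kernel :
      ∀ n : SL23, n ≠ 1 → n ^ 4 = 1 ∨ (∃ g : SL23, g * n * g⁻¹ * n⁻¹ ≠ 1 ∧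
        (g * n * g⁻¹ * n⁻¹) ^ 4 = 1)) n h1 |>.resolve_left (fun h4 => h1 (by
          have h' := (orderOf_dvd_natCard (⟨n, hn⟩ : ↥N))
          rw [Subgroup.orderOf_mk] at h'
          have hd : orderOf n ∣ 2 ^ 2 := orderOf_dvd_of_pow_eq_one h4
          exact orderOf_eq_one_iff.1 (Nat.eq_one_of_dvd_coprimes (hNc.pow_right 2) h' hd)))
    have hm : g * n * g⁻¹ * n⁻¹ ∈ N := mul_mem (hNn.conj_mem n hn g) (inv_mem hn)
    have h' := (orderOf_dvd_natCard (⟨_, hm⟩ : ↥N))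
    rw [Subgroup.orderOf_mk] at h'
    have hd : orderOf (g * n * g⁻¹ * n⁻¹) ∣ 2 ^ 2 := orderOf_dvd_of_pow_eq_one hg4
    exact hg1 (orderOf_eq_one_iff.1 (Nat.eq_one_of_dvd_coprimes (hNc.pow_right 2) h' hd))
  refine ⟨?_, hO, ?_, ?_⟩
  · intro P
    have hle : q8 ≤ Cfsg.pPrimePCore 2 SL23 := by
      rw [Cfsg.pPrimePCore, ← Subgroup.map_le_iff_le_comap]
      exact le_sSup ⟨hN.map _ (QuotientGroup.mk'_surjective _), hP.map _⟩
    have hnn : (q8.subgroupOf (Cfsg.pPrimePCore 2 SL23)).Normal := hN.subgroupOf _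
    have hPP : q8.subgroupOf (Cfsg.pPrimePCore 2 SL23) ≤ (P : Subgroup _) :=
      IsPGroup.le_sylow_of_normal
        ((hP.of_injective (Subgroup.subgroupOfEquivOfLe hle).toMonoidHom
          (MulEquiv.injective _))) P
    intro g hg
    refine hle ?_
    show g ^ 4 = 1
    refine (by decide +kernel : ∀ g : SL23, (∀ h : SL23, h ^ 4 = 1 → h * g = g * h) → g ^ 4 = 1) g
      fun h hh => ?_
    exact Subgroup.mem_centralizer_iff.1 hg h ⟨⟨h, hle hh⟩, hPP hh, rfl⟩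
  · intro t ht
    rw [Subgroup.mem_center_iff]
    exact fun g => (by decide +kernel : ∀ t : SL23, t ^ 2 = 1 → ∀ g, g * t = t * g) t
      (orderOf_eq_iff (by norm_num) |>.1 ht).1 g
  · obtain ⟨x, hx, hx1⟩ := (by decide +kernel : ∃ x : SL23, x ^ 3 = 1 ∧ x ≠ 1)
    have hx3 : orderOf x = 3 := orderOf_eq_prime hx hx1
    refine ⟨Subgroup.zpowers x, by rw [Nat.card_zpowers, hx3], fun h => hx1 ?_⟩
    rw [hO] at h
    exact Subgroup.mem_bot.1 (h (Subgroup.mem_zpowers x))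

end Cfsg.Agent.S1303
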