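import Cfsg.Statements.S1306
import Mathlib
import Cfsg.Agent.CompLayer

set_option autoImplicit false
open Cfsg

namespace Cfsg.Agent.S1306

/-- Let G be finite, x an involution and L ≤ C_G(x) a component of C_G(x). Suppose L is a component of C_G(y) for every involution y ∈ C_G(L), and ⁅L, g L g⁻¹⁆ ≠ 1 whenever g L g⁻¹ ≠ L. Then L is a standard subgroup of G. -/
theorem result {G : Type*} [Group G] [Finite G] (x : G) (hx : orderOf x = 2) (L : Subgroup G) (hLx : L ≤ Subgroup.centralizer ({x} : Set G)) (hL : Cfsg.IsComponent (L.subgroupOf (Subgroup.centralizer ({x} : Set G)))) (hne : ∀ y : G, orderOf y = 2 → y ∈ Subgroup.centralizer (L : Set G) → L ≤ Subgroup.centralizer ({y} : Set G) ∧ Cfsg.IsComponent (L.subgroupOf (Subgroup.centralizer ({y} : Set G)))) (hnc : ∀ g : G, L.map (MulAut.conj g).toMonoidHom ≠ L → ⁅L, L.map (MulAut.conj g).toMonoidHom⁆ ≠ ⊥) : Cfsg.IsStandardSubgroup L := by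
  classical
  have hqs : Cfsg.IsQuasisimple ↥L :=
    Cfsg.Comp.isQuasisimple_of_equiv (Subgroup.subgroupOfEquivOfLe hLx) hL.2
  have hxC : x ∈ Subgroup.centralizer (L : Set G) :=
    Subgroup.mem_centralizer_iff.2 fun l hl => (Subgroup.mem_centralizer_singleton_iff.1 (hLx hl))
  -- two components of one centralizer which commute only if equal
  have key : ∀ y g : G, L ≤ Subgroup.centralizer ({y} : Set G) →
      Cfsg.IsComponent (L.subgroupOf (Subgroup.centralizer ({y} : Set G))) →
      L.map (MulAut.conj g).toMonoidHom ≤ Subgroup.centralizer ({y} : Set G) →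
      Cfsg.IsComponent ((L.map (MulAut.conj g).toMonoidHom).subgroupOf
        (Subgroup.centralizer ({y} : Set G))) →
      L.map (MulAut.conj g).toMonoidHom = L := by
    intro y g h1 h2 h3 h4
    by_contra hne
    refine hnc g hne ?_
    rcases Cfsg.Comp.component_eq_or_commute h2 h4 with h | h
    · exfalso
      apply hne
      rw [← Subgroup.map_subgroupOf_eq_of_le h3, ← h, Subgroup.map_subgroupOf_eq_of_le h1]
    · have e := congrArg (Subgroup.map (Subgroup.centralizer ({y} : Set G)).subtype) h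
      rwa [Subgroup.map_commutator, Subgroup.map_subgroupOf_eq_of_le h1,
        Subgroup.map_subgroupOf_eq_of_le h3, Subgroup.map_bot] at e
  -- transport along conjugation
  have hconj : ∀ y g : G, L ≤ Subgroup.centralizer ({y} : Set G) →
      Cfsg.IsComponent (L.subgroupOf (Subgroup.centralizer ({y} : Set G))) →
      L.map (MulAut.conj g).toMonoidHom ≤ Subgroup.centralizer ({g * y * g⁻¹} : Set G) ∧
      Cfsg.IsComponent ((L.map (MulAut.conj g).toMonoidHom).subgroupOf
        (Subgroup.centralizer ({g * y * g⁻¹} : Set G))) := by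
    intro y g h1 h2
    have hmem : ∀ c, c ∈ Subgroup.centralizer ({y} : Set G) →
        g * c * g⁻¹ ∈ Subgroup.centralizer ({g * y * g⁻¹} : Set G) := by
      intro c hc
      rw [Subgroup.mem_centralizer_singleton_iff] at hc ⊢
      calc g * c * g⁻¹ * (g * y * g⁻¹) = g * (c * y) * g⁻¹ := by group
        _ = g * (y * c) * g⁻¹ := by rw [hc]
        _ = g * y * g⁻¹ * (g * c * g⁻¹) := by group
    have hmem' : ∀ c, c ∈ Subgroup.centralizer ({g * y * g⁻¹} : Set G) →
        g⁻¹ * c * g ∈ Subgroup.centralizer ({y} : Set G) := by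
      intro c hc
      rw [Subgroup.mem_centralizer_singleton_iff] at hc ⊢
      calc g⁻¹ * c * g * y = g⁻¹ * (c * (g * y * g⁻¹)) * g := by group
        _ = g⁻¹ * ((g * y * g⁻¹) * c) * g := by rw [hc]
        _ = y * (g⁻¹ * c * g) := by group
    refine ⟨by rintro _ ⟨l, hl, rfl⟩; exact hmem l (h1 hl), ?_⟩
    let e : ↥(Subgroup.centralizer ({y} : Set G)) ≃*
        ↥(Subgroup.centralizer ({g * y * g⁻¹} : Set G)) :=
      { toFun := fun c => ⟨g * c * g⁻¹, hmem c c.2⟩
        invFun := fun c => ⟨g⁻¹ * c * g, hmem' c c.2⟩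
        left_inv := fun c => Subtype.ext (by show g⁻¹ * (g * c * g⁻¹) * g = c; group)
        right_inv := fun c => Subtype.ext (by show g * (g⁻¹ * c * g) * g⁻¹ = c; group)
        map_mul' := fun a b => Subtype.ext (by
          show g * (a * b) * g⁻¹ = g * a * g⁻¹ * (g * b * g⁻¹); group) }
    have he : (L.subgroupOf (Subgroup.centralizer ({y} : Set G))).map e.toMonoidHom =
        (L.map (MulAut.conj g).toMonoidHom).subgroupOf
          (Subgroup.centralizer ({g * y * g⁻¹} : Set G)) := by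
      ext c
      constructor
      · rintro ⟨d, hd, rfl⟩
        exact ⟨(d : G), hd, rfl⟩
      · rintro ⟨l, hl, hlc⟩
        exact ⟨⟨l, h1 hl⟩, hl, Subtype.ext hlc⟩
    exact he ▸ Cfsg.Comp.isComponent_map_equiv e h2
  have hmapC : ∀ g : G, ∀ c, c ∈ Subgroup.centralizer (L : Set G) →
      g * c * g⁻¹ ∈ Subgroup.centralizer ((L.map (MulAut.conj g).toMonoidHom : Subgroup G) : Set G) := by
    intro g c hc
    rw [Subgroup.mem_centralizer_iff]
    rintro _ ⟨l, hl, rfl⟩
    show g * l * g⁻¹ * (g * c * g⁻¹) = g * c * g⁻¹ * (g * l * g⁻¹)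
    calc g * l * g⁻¹ * (g * c * g⁻¹) = g * (l * c) * g⁻¹ := by group
      _ = g * (c * l) * g⁻¹ := by rw [Subgroup.mem_centralizer_iff.1 hc l hl]
      _ = _ := by group
  have hCmap : ∀ g : G, (Subgroup.centralizer (L : Set G)).map (MulAut.conj g).toMonoidHom ≤
      Subgroup.centralizer ((L.map (MulAut.conj g).toMonoidHom : Subgroup G) : Set G) := by
    rintro g _ ⟨c, hc, rfl⟩
    exact hmapC g c hc
  -- the two normalizers agree
  have hnorm : Subgroup.normalizer (L : Set G) =
      Subgroup.normalizer (Subgroup.centralizer (L : Set G) : Set G) := by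
    refine le_antisymm (Cfsg.Comp.le_normalizer_centralizer le_rfl) fun g hg => ?_
    refine Cfsg.Comp.mem_normalizer_of_map_conj_eq ?_
    have hy : g⁻¹ * x * g ∈ Subgroup.centralizer (L : Set G) := by
      have := (Subgroup.mem_normalizer_iff.1 (inv_mem hg) x).1 hxC
      simpa using this
    have hoy : orderOf (g⁻¹ * x * g) = 2 := by
      rw [show g⁻¹ * x * g = MulAut.conj g⁻¹ x by simp, MulEquiv.orderOf_eq, hx]
    obtain ⟨h1, h2⟩ := hne _ hoy hy
    have h3 := hconj _ g h1 h2
    rw [show g * (g⁻¹ * x * g) * g⁻¹ = x by group] at h3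
    exact key x g hLx hL h3.1 h3.2
  refine ⟨hqs, ⟨?_, fun g hg => ?_⟩, hnc, hnorm⟩
  · rw [even_iff_two_dvd, ← hx]
    exact Subgroup.orderOf_dvd_natCard _ hxC
  · rw [← Nat.not_even_iff_odd, even_iff_two_dvd]
    intro h2d
    haveI := Fact.mk Nat.prime_two
    obtain ⟨⟨y, hy1, hy2⟩, hyo⟩ := exists_prime_orderOf_dvd_card' 2 h2d
    replace hyo : orderOf y = 2 := (Subgroup.orderOf_coe _).trans hyo
    obtain ⟨c, hc, hcy⟩ := hy2
    simp only [MulEquiv.coe_toMonoidHom, MulAut.conj_apply] at hcy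
    have hco : orderOf c = 2 := by
      rw [← hyo, ← hcy, show g * c * g⁻¹ = MulAut.conj g c by simp, MulEquiv.orderOf_eq]
    obtain ⟨h1, h2⟩ := hne _ hyo hy1
    obtain ⟨h3, h4⟩ := hne _ hco hc
    have h5 := hconj c g h3 h4
    rw [hcy] at h5
    have hLeq := key y g h1 h2 h5.1 h5.2
    exact hg (hnorm ▸ Cfsg.Comp.mem_normalizer_of_map_conj_eq hLeq)

end Cfsg.Agent.S1306
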