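import Cfsg.Statements.S1312
import Cfsg.Agent.H7.Bender

set_option autoImplicit false
open Cfsg

namespace Cfsg.Agent.S1312

/-- Let G be a non-abelian finite simple group and M ≠ N maximal subgroups of G with F*(M) ≤ N and F*(N) ≤ M. Then there is a prime p such that F*(M) and F*(N) are both p-groups. -/
theorem result {G : Type*} [Group G] [Finite G] [IsSimpleGroup G] (hna : ¬ IsMulCommutative G) (M N : Subgroup G) (hM : IsCoatom M) (hN : IsCoatom N) (hMN : M ≠ N) (h1 : (Cfsg.generalizedFittingSubgroup ↥M).map M.subtype ≤ N) (h2 : (Cfsg.generalizedFittingSubgroup ↥N).map N.subtype ≤ M) : ∃ p : ℕ, p.Prime ∧ IsPGroup p ↥(Cfsg.generalizedFittingSubgroup ↥M) ∧ IsPGroup p ↥(Cfsg.generalizedFittingSubgroup ↥N) := by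
  have key : ∀ K L : Subgroup G, IsCoatom K → ∀ A : Subgroup G, A ≠ ⊥ → A ≤ K ⊓ L →
      K ≤ Subgroup.normalizer (A : Set G) → L ⊓ Subgroup.normalizer (A : Set G) ≤ K := by
    intro K L hK A hA hle hn
    refine inf_le_right.trans ?_
    by_contra hnle
    have htop : Subgroup.normalizer (A : Set G) = ⊤ := hK.2 _ (lt_of_le_not_ge hn hnle)
    rcases (Subgroup.normalizer_eq_top_iff.mp htop).eq_bot_or_eq_top with h | h
    · exact hA h
    · exact hK.1 (top_unique (h ▸ hle.trans inf_le_left))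
  obtain ⟨p, hp, h3, h4⟩ := H7.bender_pair hMN (key M N hM)
    (fun A hA hle hn => key N M hN A hA (inf_comm M N ▸ hle) hn) h1 h2
  exact ⟨p, hp, h3 ▸ Cfsg.Comp.pCore_isPGroup p, h4 ▸ Cfsg.Comp.pCore_isPGroup p⟩

end Cfsg.Agent.S1312
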