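import Cfsg.Statements.S1313
import Mathlib
import Cfsg.Agent.CompLayer

set_option autoImplicit false
open Cfsg
open scoped commutatorElement

namespace Cfsg.Agent.S1313

/-- For a finite group H, |H| ≤ |F*(H)|!. -/
theorem result {H : Type*} [Group H] [Finite H] : Nat.card H ≤ Nat.factorial (Nat.card ↥(Cfsg.generalizedFittingSubgroup H)) := by
  classical
  set F := Cfsg.generalizedFittingSubgroup H
  set φ : H →* MulAut F := MulAut.conjNormal
  have hker : φ.ker ≤ F := by
    refine le_trans ?_ Cfsg.Comp.centralizer_fStar_le
    intro h hh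
    rw [Subgroup.mem_centralizer_iff]
    intro x hx
    have := congrArg (fun α : MulAut F => ((α ⟨x, hx⟩ : F) : H)) (MonoidHom.mem_ker.1 hh)
    simp only [φ, MulAut.conjNormal_apply, MulAut.one_apply] at this
    exact (mul_inv_eq_iff_eq_mul.1 this).symm
  have hcard : Nat.card H = Nat.card φ.range * Nat.card φ.ker := by
    rw [Subgroup.card_eq_card_quotient_mul_card_subgroup φ.ker,
      Nat.card_congr (QuotientGroup.quotientKerEquivRange φ).toEquiv]
  have h2 : Nat.card φ.range ≤ Nat.factorial (Nat.card F - 1) := by
    refine (Subgroup.card_le_card_group φ.range).trans ?_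
    let ι : MulAut F → Equiv.Perm {x : F // x ≠ 1} := fun α =>
      α.toEquiv.subtypeEquiv fun x => (not_congr (MulEquiv.map_eq_one_iff α)).symm
    have hι : Function.Injective ι := by
      intro α β h
      ext x
      by_cases hx : x = 1
      · simp [hx]
      · exact congrArg Subtype.val (congrArg Subtype.val (Equiv.ext_iff.1 h ⟨x, hx⟩))
    refine (Nat.card_le_card_of_injective ι hι).trans (le_of_eq ?_)
    rw [Nat.card_perm]
    congr 1
    haveI := Fintype.ofFinite F
    rw [Nat.card_eq_fintype_card, Nat.card_eq_fintype_card, Fintype.card_subtype_compl,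
      Fintype.card_subtype_eq]
  calc Nat.card H = Nat.card φ.range * Nat.card φ.ker := hcard
    _ ≤ Nat.factorial (Nat.card F - 1) * Nat.card F :=
        Nat.mul_le_mul h2 (Subgroup.card_le_of_le hker)
    _ = Nat.factorial (Nat.card F) := by
        rw [mul_comm, Nat.mul_factorial_pred Nat.card_pos.ne']

end Cfsg.Agent.S1313
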