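import Cfsg.Statements.S1314
import Mathlib

set_option autoImplicit false
open Cfsg
open scoped commutatorElement

namespace Cfsg.Agent.S1314

/-- Let x be an involution of a group G and L a perfect subgroup with ⁅L, x L x⁻¹⁆ = 1. Then l ↦ l (x l x⁻¹) is a group homomorphism π from L to G whose kernel is central in L and whose image lies in C_G(x); and the commutator subgroup of C_{L ⊔ xLx⁻¹}(x) equals the image of π. -/
theorem result {G : Type*} [Group G] [Finite G] (x : G) (hx : orderOf x = 2) (L : Subgroup G) (hperf : ⁅L, L⁆ = L) (hcomm : ⁅L, L.map (MulAut.conj x).toMonoidHom⁆ = ⊥) : ∃ π : ↥L →* G, (∀ l : ↥L, π l = (l : G) * (x * (l : G) * x⁻¹)) ∧ π.ker ≤ Subgroup.center ↥L ∧ π.range ≤ Subgroup.centralizer ({x} : Set G) ∧ ⁅(L ⊔ L.map (MulAut.conj x).toMonoidHom) ⊓ Subgroup.centralizer ({x} : Set G), (L ⊔ L.map (MulAut.conj x).toMonoidHom) ⊓ Subgroup.centralizer ({x} : Set G)⁆ = π.range := by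
  have hc : ∀ a ∈ L, ∀ b ∈ L, a * (x * b * x⁻¹) = (x * b * x⁻¹) * a := by
    intro a ha b hb
    rw [Subgroup.commutator_eq_bot_iff_le_centralizer] at hcomm
    exact ((Subgroup.mem_centralizer_iff.1 (hcomm ha)) _ ⟨b, hb, rfl⟩).symm
  have hx2 : x * x = 1 := by rw [← pow_two, ← hx, pow_orderOf_eq_one]
  have hxi : x⁻¹ = x := inv_eq_of_mul_eq_one_right hx2
  let π : ↥L →* G :=
    { toFun := fun l => (l : G) * (x * (l : G) * x⁻¹)
      map_one' := by simp
      map_mul' := fun a b => by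
        simp only [Subgroup.coe_mul]
        have := hc _ b.2 _ a.2
        calc (a : G) * b * (x * (a * b) * x⁻¹)
            = a * (b * (x * a * x⁻¹)) * (x * b * x⁻¹) := by group
          _ = a * ((x * a * x⁻¹) * b) * (x * b * x⁻¹) := by rw [this]
          _ = a * (x * a * x⁻¹) * (b * (x * b * x⁻¹)) := by group }
  have hπ : ∀ l : ↥L, π l = (l : G) * (x * (l : G) * x⁻¹) := fun _ => rfl
  have hfix : ∀ l : ↥L, π l * x = x * π l := by
    intro l
    rw [hπ]
    calc (l : G) * (x * l * x⁻¹) * x = (l : G) * (x * l) := by group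
      _ = (x * x) * (l * (x * l * x⁻¹)) * x := by rw [hx2]; group
      _ = x * ((x * l * x⁻¹) * (x * (x * l * x⁻¹) * x⁻¹)) * (x * x) := by group
      _ = x * ((x * l * x⁻¹) * l) := by
          rw [hx2, mul_one]
          congr 2
          calc x * (x * (l : G) * x⁻¹) * x⁻¹ = (x * x) * l * (x * x)⁻¹ := by group
            _ = l := by rw [hx2]; group
      _ = x * (l * (x * l * x⁻¹)) := by rw [hc _ l.2 _ l.2]
  have hrange : π.range ≤ Subgroup.centralizer ({x} : Set G) := by
    rintro _ ⟨l, rfl⟩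
    rw [Subgroup.mem_centralizer_singleton_iff]
    exact hfix l
  refine ⟨π, hπ, ?_, hrange, ?_⟩
  · intro l hl
    rw [MonoidHom.mem_ker, hπ] at hl
    rw [Subgroup.mem_center_iff]
    intro g
    apply Subtype.ext
    have h' : (x * l * x⁻¹) = (l : G)⁻¹ := eq_inv_of_mul_eq_one_right hl
    have := hc _ g.2 _ l.2
    rw [h'] at this
    exact (Commute.inv_right_iff.1 this).eq
  · set M := L ⊔ L.map (MulAut.conj x).toMonoidHom with hM
    set Y := M ⊓ Subgroup.centralizer ({x} : Set G)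
    have hrY : π.range ≤ Y := by
      refine le_inf ?_ hrange
      rintro _ ⟨l, rfl⟩
      rw [hπ]
      exact mul_mem (Subgroup.mem_sup_left l.2) (Subgroup.mem_sup_right ⟨l, l.2, rfl⟩)
    have hperf' : ⁅π.range, π.range⁆ = π.range := by
      rw [MonoidHom.range_eq_map, ← Subgroup.map_commutator]
      congr 1
      apply Subgroup.map_injective L.subtype_injective
      rw [Subgroup.map_commutator, ← MonoidHom.range_eq_map, Subgroup.range_subtype, hperf]
    apply le_antisymm
    · -- every element of `M` is a product of an element of `L` and a conjugate of one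
      have hmem : ∀ m ∈ M, ∃ a ∈ L, ∃ b ∈ L, m = a * (x * b * x⁻¹) := by
        intro m hm
        have hcent : L.map (MulAut.conj x).toMonoidHom ≤ Subgroup.centralizer (L : Set G) := by
          rintro _ ⟨b, hb, rfl⟩
          rw [Subgroup.mem_centralizer_iff]
          exact fun a ha => hc a ha b hb
        rw [← SetLike.mem_coe, hM, Subgroup.coe_mul_of_left_le_normalizer_right] at hm
        · obtain ⟨a, ha, _, ⟨b, hb, rfl⟩, rfl⟩ := hm
          exact ⟨a, ha, b, hb, rfl⟩
        · rw [Subgroup.le_normalizer_iff_commutator_le_right, hcomm]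
          exact bot_le
      rw [Subgroup.commutator_le]
      intro u hu v hv
      obtain ⟨a, ha, b, hb, rfl⟩ := hmem u hu.1
      obtain ⟨c, hc', d, hd, rfl⟩ := hmem v hv.1
      have hcc : ∀ g ∈ L, ∀ k ∈ L, Commute g (x * k * x⁻¹) := fun g hg k hk => hc g hg k hk
      have hcl : ⁅a * (x * b * x⁻¹), c * (x * d * x⁻¹)⁆
          = ⁅a, c⁆ * (x * ⁅b, d⁆ * x⁻¹) := by
        have e1 := (hcc c hc' b hb).eq
        have e2 := ((hcc a ha b hb).inv_left).eq
        have e3 := ((hcc a⁻¹ (inv_mem ha) d hd)).eq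
        have e4 := ((hcc c hc' b hb).inv_right)
        have ac : ⁅a, c⁆ = a * c * a⁻¹ * c⁻¹ := commutatorElement_def a c
        set B := x * b * x⁻¹ with hB
        set D := x * d * x⁻¹ with hD
        have cB : Commute c B := hcc c hc' b hb
        have cD : Commute c D := hcc c hc' d hd
        have aB : Commute a B := hcc a ha b hb
        have aD : Commute a D := hcc a ha d hd
        have : x * ⁅b, d⁆ * x⁻¹ = ⁅B, D⁆ := by rw [hB, hD, conjugate_commutatorElement]
        rw [this, commutatorElement_def, commutatorElement_def, commutatorElement_def]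
        calc a * B * (c * D) * (a * B)⁻¹ * (c * D)⁻¹
            = a * (B * c) * (D * B⁻¹) * a⁻¹ * (D⁻¹ * c⁻¹) := by group
          _ = a * (c * B) * ((D * B⁻¹) * a⁻¹) * (D⁻¹ * c⁻¹) := by rw [cB.eq]; group
          _ = a * (c * B) * (a⁻¹ * (D * B⁻¹)) * (D⁻¹ * c⁻¹) := by
              rw [((aD.mul_right aB.inv_right).inv_left).eq]
          _ = a * c * (B * a⁻¹) * (D * B⁻¹ * D⁻¹) * c⁻¹ := by group
          _ = a * c * (a⁻¹ * B) * (D * B⁻¹ * D⁻¹) * c⁻¹ := by rw [aB.inv_left.eq]
          _ = a * c * a⁻¹ * ((B * D * B⁻¹ * D⁻¹) * c⁻¹) := by group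
          _ = a * c * a⁻¹ * (c⁻¹ * (B * D * B⁻¹ * D⁻¹)) := by
              rw [((((cB.mul_right cD).mul_right cB.inv_right).mul_right cD.inv_right).inv_left).eq]
          _ = a * c * a⁻¹ * c⁻¹ * (B * D * B⁻¹ * D⁻¹) := by group
      -- fixed points of `x` in `M`
      have hfp : ∀ a ∈ L, ∀ b ∈ L, a * (x * b * x⁻¹) * x = x * (a * (x * b * x⁻¹)) →
          ∃ z : ↥L, z ∈ Subgroup.center ↥L ∧ a = b * z := by
        intro a ha b hb h
        have e : a * (x * b * x⁻¹) = b * (x * a * x⁻¹) := by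
          calc a * (x * b * x⁻¹) = a * (x * b * x⁻¹) * x * x⁻¹ := by group
            _ = x * (a * (x * b * x⁻¹)) * x⁻¹ := by rw [h]
            _ = (x * a * x⁻¹) * ((x * x) * b * (x * x)⁻¹) := by group
            _ = (x * a * x⁻¹) * b := by rw [hx2]; group
            _ = b * (x * a * x⁻¹) := (hc b hb a ha).symm
        refine ⟨⟨b⁻¹ * a, mul_mem (inv_mem hb) ha⟩, ?_, by group⟩
        rw [Subgroup.mem_center_iff]
        intro g
        apply Subtype.ext
        have e' : b⁻¹ * a = x * (a * b⁻¹) * x⁻¹ := by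
          calc b⁻¹ * a = b⁻¹ * (a * (x * b * x⁻¹)) * (x * b * x⁻¹)⁻¹ := by group
            _ = b⁻¹ * (b * (x * a * x⁻¹)) * (x * b * x⁻¹)⁻¹ := by rw [e]
            _ = x * (a * b⁻¹) * x⁻¹ := by group
        show (g : G) * (b⁻¹ * a) = (b⁻¹ * a) * g
        rw [e']
        exact hc _ g.2 _ (mul_mem ha (inv_mem hb))
      obtain ⟨z, hz, rfl⟩ := hfp a ha b hb (Subgroup.mem_centralizer_singleton_iff.1 hu.2)
      obtain ⟨w, hw, rfl⟩ := hfp c hc' d hd (Subgroup.mem_centralizer_singleton_iff.1 hv.2)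
      refine ⟨⁅(⟨b, hb⟩ : ↥L), (⟨d, hd⟩ : ↥L)⁆, ?_⟩
      rw [hcl, hπ]
      congr 1
      have hz' : ∀ g : ↥L, Commute z g := fun g => (Subgroup.mem_center_iff.1 hz g).symm
      have hw' : ∀ g : ↥L, Commute w g := fun g => (Subgroup.mem_center_iff.1 hw g).symm
      have : ⁅(⟨b, hb⟩ : ↥L) * z, ⟨d, hd⟩ * w⁆ = ⁅(⟨b, hb⟩ : ↥L), ⟨d, hd⟩⁆ := by
        rw [commutatorElement_mul_left_eq_conj_mul, (hz' _).commutator_eq,
          commutatorElement_mul_right_eq_mul_conj]
        rw [((hw' ⟨b, hb⟩).symm).commutator_eq]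
        simp
      have h2 := congrArg L.subtype this.symm
      rw [map_commutatorElement L.subtype (_ * z)] at h2
      exact h2
    · rw [← hperf']
      exact Subgroup.commutator_mono hrY hrY

end Cfsg.Agent.S1314
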