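import Cfsg.Statements.S1316
import Mathlib
import Cfsg.Agent.CompLayer

set_option autoImplicit false
open Cfsg
open scoped commutatorElement

namespace Cfsg.Agent.S1316

/-- For a finite group X, E(X) equals the intersection of the derived series of F*(X) (its last term). -/
theorem result {X : Type*} [Group X] [Finite X] : (⨅ n : ℕ, (derivedSeries ↥(Cfsg.generalizedFittingSubgroup X) n).map (Cfsg.generalizedFittingSubgroup X).subtype) = Cfsg.layer X := by
  set F := Cfsg.generalizedFittingSubgroup X
  set f := QuotientGroup.mk' (Cfsg.layer X)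
  apply le_antisymm
  · have hsolv : Group.IsSolvable ↥(F.map f) := by
      have e : F.map f = (Cfsg.fittingSubgroup X).map f := by
        show (Cfsg.layer X ⊔ Cfsg.fittingSubgroup X).map f = _
        rw [Subgroup.map_sup, QuotientGroup.map_mk'_self, bot_sup_eq]
      rw [e]
      haveI := Cfsg.Comp.fitting_isSolvable (G := X)
      exact Group.isSolvable_of_surjective
        (f := f.subgroupMap (Cfsg.fittingSubgroup X)) (MonoidHom.subgroupMap_surjective _ _)
    obtain ⟨n, hn⟩ := (Group.isSolvable_def _).1 hsolv
    refine (iInf_le _ n).trans ?_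
    rw [← map_derivedSeries_eq (MonoidHom.subgroupMap_surjective f F)] at hn
    rintro _ ⟨x, hx, rfl⟩
    have : f.subgroupMap F x = 1 := by
      rw [← Subgroup.mem_bot, ← hn]; exact ⟨x, hx, rfl⟩
    exact (QuotientGroup.eq_one_iff (x : X)).1 (congrArg Subtype.val this)
  · refine le_iInf fun n => ?_
    induction n with
    | zero =>
      rw [derivedSeries_zero, ← MonoidHom.range_eq_map, Subgroup.range_subtype]
      exact Cfsg.Comp.layer_le_fStar
    | succ n ih =>
      rw [derivedSeries_succ, Subgroup.map_commutator]
      exact Cfsg.Comp.layer_perfect.ge.trans (Subgroup.commutator_mono ih ih)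

end Cfsg.Agent.S1316
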