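import Cfsg.Statements.S1317
import Cfsg.Agent.H8.FStar

set_option autoImplicit false
open Cfsg
open scoped commutatorElement

namespace Cfsg.Agent.S1317

/-- For a finite group X, the centre of the layer E(X) is F(X) ∩ E(X). -/
theorem result {X : Type*} [Group X] [Finite X] : (Subgroup.center ↥(Cfsg.layer X)).map (Cfsg.layer X).subtype = Cfsg.fittingSubgroup X ⊓ Cfsg.layer X := by
  apply le_antisymm (le_inf H8.center_layer_le_fitting (Subgroup.map_subtype_le _))
  rintro x ⟨hxF, hxE⟩
  refine ⟨⟨x, hxE⟩, Subgroup.mem_center_iff.2 fun g => Subtype.ext ?_, rfl⟩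
  exact Cfsg.Comp.commute_of_commutator_eq_bot Cfsg.Comp.commutator_layer_fitting g.2 hxF

end Cfsg.Agent.S1317
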