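import Cfsg.Statements.S1318
import Cfsg.Agent.H8.FStar

set_option autoImplicit false
open Cfsg
open scoped commutatorElement

namespace Cfsg.Agent.S1318

/-- Let X be finite and S ≤ F*(X) a subgroup subnormal in F*(X). Then F(S) = F(X) ∩ S (inside X) and S = F(S)E(S). -/
theorem result {X : Type*} [Group X] [Finite X] (S : Subgroup X) (hS : S ≤ Cfsg.generalizedFittingSubgroup X) (hsn : (S.subgroupOf (Cfsg.generalizedFittingSubgroup X)).IsSubnormal) : (Cfsg.fittingSubgroup ↥S).map S.subtype = Cfsg.fittingSubgroup X ⊓ S ∧ Cfsg.fittingSubgroup ↥S ⊔ Cfsg.layer ↥S = ⊤ := by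
  have hS' : S.IsSubnormal :=
    hsn.trans hS (inferInstance : (Cfsg.generalizedFittingSubgroup X).Normal).isSubnormal
  refine ⟨H8.fitting_map_subtype_eq hS', eq_top_iff.2 fun x _ => ?_⟩
  have h := H8.le_of_subnormal_le_fStar hS' hS x.2
  have h' : sSup {L : Subgroup X | Cfsg.IsComponent L ∧ L ≤ S} ⊔ (Cfsg.fittingSubgroup X ⊓ S)
      ≤ (Cfsg.fittingSubgroup ↥S ⊔ Cfsg.layer ↥S).map S.subtype := by
    rw [Subgroup.map_sup, H8.fitting_map_subtype_eq hS', sup_comm]
    refine sup_le_sup le_rfl (sSup_le fun L hL => ?_)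
    rw [← Subgroup.map_subgroupOf_eq_of_le hL.2]
    exact Subgroup.map_mono (Cfsg.Comp.le_layer (Cfsg.Comp.isComponent_subgroupOf hL.1 hL.2))
  obtain ⟨y, hy, hyx⟩ := h' h
  exact (Subtype.ext hyx : y = x) ▸ hy

end Cfsg.Agent.S1318
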