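import Cfsg.Statements.S1319
import Cfsg.Agent.H8.FStar

set_option autoImplicit false
open Cfsg
open scoped commutatorElement

namespace Cfsg.Agent.S1319

/-- Let A be a subnormal subgroup of the finite group X with E(A) = A. Then A ≤ E(X) and A is normal in E(X). -/
theorem result {X : Type*} [Group X] [Finite X] (A : Subgroup X) (hsn : A.IsSubnormal) (hA : Cfsg.layer ↥A = ⊤) : A ≤ Cfsg.layer X ∧ (A.subgroupOf (Cfsg.layer X)).Normal := by
  have hmap : A = (Cfsg.layer ↥A).map A.subtype := by
    rw [hA, ← MonoidHom.range_eq_map, Subgroup.range_subtype]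
  have hle : A ≤ Cfsg.layer X := hmap.le.trans (Cfsg.Comp.layer_map_subtype_le hsn)
  refine ⟨hle, Subgroup.normal_subgroupOf_of_le_normalizer fun g hg => ?_⟩
  refine Cfsg.Comp.mem_normalizer_of_map_conj_eq ?_
  rw [hmap, Cfsg.layer, sSup_eq_iSup', Subgroup.map_iSup, Subgroup.map_iSup]
  refine iSup_congr fun L => Cfsg.Comp.map_conj_eq_of_mem_normalizer ?_
  exact Cfsg.Comp.layer_le_normalizer_component
    (Cfsg.Comp.isComponent_map_subtype hsn L.2) hg

end Cfsg.Agent.S1319
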