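import Cfsg.Statements.S1320
import Cfsg.Agent.H8.FStar

set_option autoImplicit false
open Cfsg
open scoped commutatorElement

namespace Cfsg.Agent.S1320

/-- Let B be a normal subgroup of the finite group A. Then F*(A) ∩ B = F*(B). -/
theorem result {A : Type*} [Group A] [Finite A] (B : Subgroup A) [B.Normal] : Cfsg.generalizedFittingSubgroup A ⊓ B = (Cfsg.generalizedFittingSubgroup ↥B).map B.subtype := by
  have hBn : (B : Subgroup A).IsSubnormal := (inferInstance : B.Normal).isSubnormal
  refine le_antisymm ?_ (le_inf (H8.fStar_map_subtype_le hBn) (Subgroup.map_subtype_le _))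
  have hn : (Cfsg.generalizedFittingSubgroup A ⊓ B).Normal := inferInstance
  refine (H8.le_of_subnormal_le_fStar hn.isSubnormal inf_le_left).trans ?_
  show _ ≤ (Cfsg.layer ↥B ⊔ Cfsg.fittingSubgroup ↥B).map B.subtype
  rw [Subgroup.map_sup, H8.fitting_map_subtype_eq hBn]
  refine sup_le_sup (sSup_le fun L hL => ?_) (inf_le_inf_left _ inf_le_right)
  rw [← Subgroup.map_subgroupOf_eq_of_le (hL.2.trans inf_le_right)]
  exact Subgroup.map_mono
    (Cfsg.Comp.le_layer (Cfsg.Comp.isComponent_subgroupOf hL.1 (hL.2.trans inf_le_right)))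

end Cfsg.Agent.S1320
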