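import Cfsg.Statements.S1321
import Cfsg.Agent.H8.FStar

set_option autoImplicit false
open Cfsg
open scoped commutatorElement

namespace Cfsg.Agent.S1321

/-- Let X be finite and U ≤ X. Then E(X) is generated by C_{E(X)}(U) together with ⁅E(X), U⁆ (indeed it is their product, ⁅E(X), U⁆ being normal in E(X)). -/
theorem result {X : Type*} [Group X] [Finite X] (U : Subgroup X) : Cfsg.layer X = (Cfsg.layer X ⊓ Subgroup.centralizer (U : Set X)) ⊔ ⁅Cfsg.layer X, U⁆ ∧ ⁅Cfsg.layer X, U⁆ ≤ Cfsg.layer X := by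
  set E := Cfsg.layer X
  have hle : ⁅E, U⁆ ≤ E := Subgroup.commutator_le_left _ _
  refine ⟨le_antisymm ?_ (sup_le inf_le_left hle), hle⟩
  have hNn : (⁅E, U⁆.subgroupOf E).Normal :=
    Subgroup.normal_subgroupOf_of_le_normalizer (Subgroup.normalizer_commutator_ge_left E U)
  have hsn : ⁅E, U⁆.IsSubnormal :=
    hNn.isSubnormal.trans hle (inferInstance : E.Normal).isSubnormal
  refine Cfsg.Comp.layer_le_iff.2 fun L hL => ?_
  rcases Cfsg.Comp.component_le_or_commute hL hsn with h | h
  · exact le_sup_of_le_right h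
  · refine le_sup_of_le_left (le_inf (Cfsg.Comp.le_layer hL) ?_)
    refine Subgroup.commutator_eq_bot_iff_le_centralizer.1
      (Cfsg.Comp.le_centralizer_of_perfect (Cfsg.Comp.isComponent_perfect hL) ?_)
    refine (Subgroup.commutator_mono (Cfsg.Comp.le_layer hL) le_rfl).trans ?_
    exact Subgroup.le_centralizer_iff.1 (Subgroup.commutator_eq_bot_iff_le_centralizer.1 h)

end Cfsg.Agent.S1321
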