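import Cfsg.Statements.S1322
import Cfsg.Agent.S0205
import Cfsg.Agent.H85.ComponentMax

set_option autoImplicit false
open Cfsg

namespace Cfsg.Agent.S1322

/-- Let G be finite with L_{2'}(G) = E(G), t an involution and L ≤ C_G(t) a component of C_G(t). Then there is a component D of G with: L = D; or L < D and D = ⁅D, ⟨t⟩⁆; or tDt⁻¹ ≠ D and L is the layer of C_{D ⊔ tDt⁻¹}(t). -/
theorem result {G : Type*} [Group G] [Finite G] (hL2 : Cfsg.pLayer 2 G = Cfsg.layer G) (t : G) (ht : orderOf t = 2) (L : Subgroup G) (hLt : L ≤ Subgroup.centralizer ({t} : Set G)) (hL : Cfsg.IsComponent (L.subgroupOf (Subgroup.centralizer ({t} : Set G)))) : ∃ D : Subgroup G, Cfsg.IsComponent D ∧ (L = D ∨ (L < D ∧ D = ⁅D, Subgroup.zpowers t⁆) ∨ (D.map (MulAut.conj t).toMonoidHom ≠ D ∧ L = (Cfsg.layer ↥((D ⊔ D.map (MulAut.conj t).toMonoidHom) ⊓ Subgroup.centralizer ({t} : Set G))).map ((D ⊔ D.map (MulAut.conj t).toMonoidHom) ⊓ Subgroup.centralizer ({t} : Set G)).subtype)) := by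
  have htt : t * t = 1 := by rw [← pow_two, ← ht]; exact pow_orderOf_eq_one t
  refine H85.Tri.trichotomy htt hLt hL ?_
  set C := Subgroup.centralizer ({t} : Set G) with hC
  have hev : 2 ∣ Nat.card ↥(L.subgroupOf C) := by
    by_contra hodd
    haveI := Cfsg.Agent.S0205.result (Nat.odd_iff.mpr (Nat.two_dvd_ne_zero.mp hodd))
    have hperf : commutator ↥(L.subgroupOf C) = ⊤ := hL.2.1.commutator_eq_top
    haveI : Nontrivial ↥(L.subgroupOf C) :=
      (Subgroup.nontrivial_iff_ne_bot _).mpr (Cfsg.Comp.isComponent_ne_bot hL)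
    exact (IsSolvable.commutator_lt_top_of_nontrivial ↥(L.subgroupOf C)).ne hperf
  rw [← hL2]
  have hcl : Subgroup.centralizer ((Subgroup.zpowers t : Subgroup G) : Set G) = C := by
    rw [Subgroup.zpowers_eq_closure, Subgroup.centralizer_closure]
  have h := H85.LBal.pLayer_centralizer_le (Subgroup.zpowers t)
    (IsPGroup.of_card (n := 1) (by rw [Nat.card_zpowers, ht, pow_one]))
  rw [hcl] at h
  refine le_trans ?_ h
  conv_lhs => rw [← Subgroup.map_subgroupOf_eq_of_le hLt]
  exact Subgroup.map_mono (H85.Tri.even_component_le_pLayer hL hev)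

end Cfsg.Agent.S1322
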