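import Cfsg.Statements.S1323
import Cfsg.Agent.CompLayer
import Mathlib
-- import your own Cfsg.Agent.* helpers here

set_option autoImplicit false
open Cfsg

open scoped commutatorElement

namespace Cfsg.Agent.S1323

/-- For n ≥ 9, the subgroup of the alternating group on Fin n fixing each of the points 0, 1, 2, 3 is a standard subgroup. -/
theorem result (n : ℕ) (h4 : 4 ≤ n) (hn : 9 ≤ n) : Cfsg.IsStandardSubgroup (⨅ i : Fin 4, MulAction.stabilizer ↥(alternatingGroup (Fin n)) (Fin.castLE h4 i : Fin n)) := by
  classical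
  set L := ⨅ i : Fin 4, MulAction.stabilizer ↥(alternatingGroup (Fin n)) (Fin.castLE h4 i : Fin n) with hLdef
  let S : Finset (Fin n) := Finset.univ.filter fun x => (x : ℕ) < 4
  have hS : ∀ x, x ∈ S ↔ (x : ℕ) < 4 := by simp [S]
  have hScard : S.card = 4 := by
    have : S = Finset.univ.image (Fin.castLE h4 : Fin 4 → Fin n) := by
      ext x
      rw [hS, Finset.mem_image]
      exact ⟨fun h => ⟨⟨x, h⟩, Finset.mem_univ _, rfl⟩, fun ⟨i, _, h⟩ => h ▸ i.2⟩
    rw [this, Finset.card_image_of_injective _ (Fin.castLE_injective h4), Finset.card_univ,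
      Fintype.card_fin]
  have hL : ∀ g : ↥(alternatingGroup (Fin n)), g ∈ L ↔ ∀ x ∈ S, (g : Equiv.Perm (Fin n)) x = x := by
    intro g
    simp only [hLdef, Subgroup.mem_iInf, MulAction.mem_stabilizer_iff]
    constructor
    · intro h x hx
      exact h ⟨x, (hS x).1 hx⟩
    · intro h i
      exact h _ ((hS _).2 i.2)
  -- `L` as an alternating group
  let T := {x : Fin n // x ∉ S}
  have hT : Nat.card T = n - 4 := by
    rw [Nat.card_eq_fintype_card, Fintype.card_subtype_compl, Fintype.card_fin, Fintype.card_coe, hScard]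
  haveI : Nontrivial T := Finite.one_lt_card_iff_nontrivial.1 (by omega)
  let f : ↥(alternatingGroup T) →* ↥(alternatingGroup (Fin n)) :=
    { toFun := fun g => ⟨Equiv.Perm.ofSubtype (g : Equiv.Perm T), by
        rw [Equiv.Perm.mem_alternatingGroup, Equiv.Perm.sign_ofSubtype]
        exact Equiv.Perm.mem_alternatingGroup.1 g.2⟩
      map_one' := Subtype.ext (map_one _)
      map_mul' := fun a b => Subtype.ext (map_mul _ _ _) }
  have hfinj : Function.Injective f := fun a b h =>
    Subtype.ext (Equiv.Perm.ofSubtype_injective (congrArg Subtype.val h))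
  have hfrange : f.range = L := by
    ext g
    rw [hL]
    constructor
    · rintro ⟨a, rfl⟩ x hx
      exact Equiv.Perm.ofSubtype_apply_of_not_mem _ (not_not_intro hx)
    · intro hg
      have h1 : ∀ x, (g : Equiv.Perm (Fin n)) x ∉ S ↔ x ∉ S := by
        intro x
        refine not_congr ⟨fun h => ?_, fun h => by rwa [hg x h]⟩
        have := (g : Equiv.Perm (Fin n)).injective (hg _ h)
        rwa [← this]
      have h2 : Equiv.Perm.ofSubtype ((g : Equiv.Perm (Fin n)).subtypePerm h1) = (g : Equiv.Perm (Fin n)) :=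
        Equiv.Perm.ofSubtype_subtypePerm _ fun x hx hxS => hx (hg x hxS)
      refine ⟨⟨(g : Equiv.Perm (Fin n)).subtypePerm h1, ?_⟩, Subtype.ext ?_⟩
      · rw [Equiv.Perm.mem_alternatingGroup, ← Equiv.Perm.sign_ofSubtype]
        refine (congrArg Equiv.Perm.sign ?_).trans (Equiv.Perm.mem_alternatingGroup.1 g.2)
        convert h2
      · show Equiv.Perm.ofSubtype _ = _
        convert h2
  let e : ↥(alternatingGroup T) ≃* ↥L :=
    (MonoidHom.ofInjective hfinj).trans (MulEquiv.subgroupCongr hfrange)
  haveI hsimp : IsSimpleGroup ↥(alternatingGroup T) := alternatingGroup.isSimpleGroup (by omega)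
  have hcen : Subgroup.center ↥(alternatingGroup T) = ⊥ :=
    alternatingGroup.center_eq_bot (by omega)
  haveI hnt : Nontrivial ↥(alternatingGroup T) := alternatingGroup.nontrivial_of_three_le_card (by omega)
  have hqs : Cfsg.IsQuasisimple ↥(alternatingGroup T) := by
    refine Cfsg.Comp.isQuasisimple_of_dichotomy ?_ fun N hN => ?_
    · refine (IsSimpleGroup.eq_bot_or_eq_top_of_normal _ inferInstance).resolve_left fun h => ?_
      have : (⊤ : Subgroup ↥(alternatingGroup T)) ≤ Subgroup.center _ := by
        intro a _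
        rw [Subgroup.mem_center_iff]
        intro b
        have hab : ⁅b, a⁆ ∈ commutator ↥(alternatingGroup T) :=
          Subgroup.commutator_mem_commutator (Subgroup.mem_top b) (Subgroup.mem_top a)
        rw [h, Subgroup.mem_bot, commutatorElement_eq_one_iff_mul_comm] at hab
        exact hab
      rw [hcen] at this
      exact top_ne_bot (le_bot_iff.1 this)
    · rcases IsSimpleGroup.eq_bot_or_eq_top_of_normal N hN with h | h
      · exact Or.inr (h ▸ bot_le)
      · exact Or.inl h
  have hLq : Cfsg.IsQuasisimple ↥L := Cfsg.Comp.isQuasisimple_of_equiv e hqs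
  -- the centralizer fixes every point outside `S`
  set K := Subgroup.centralizer (L : Set ↥(alternatingGroup (Fin n))) with hKdef
  have hK : ∀ g : ↥(alternatingGroup (Fin n)), g ∈ K ↔ ∀ x, x ∉ S → (g : Equiv.Perm (Fin n)) x = x := by
    intro g
    constructor
    · intro hg x hx
      obtain ⟨y, hyS, hyx⟩ : ∃ y, y ∉ S ∧ y ∉ ({x} : Finset (Fin n)) := by
        have : (S ∪ {x}).card < (Finset.univ : Finset (Fin n)).card := by
          have := Finset.card_union_le S {x}
          simp only [Finset.card_singleton, Finset.card_univ, Fintype.card_fin] at *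
          omega
        obtain ⟨w, -, hw⟩ := Finset.exists_mem_notMem_of_card_lt_card this
        simp only [Finset.mem_union, not_or] at hw
        exact ⟨w, hw.1, hw.2⟩
      obtain ⟨z, hzS, hzxy⟩ : ∃ z, z ∉ S ∧ z ∉ ({x, y} : Finset (Fin n)) := by
        have : (S ∪ {x, y}).card < (Finset.univ : Finset (Fin n)).card := by
          have := Finset.card_union_le S {x, y}
          have := Finset.card_le_two (a := x) (b := y)
          simp only [Finset.card_univ, Fintype.card_fin] at *
          omega
        obtain ⟨w, -, hw⟩ := Finset.exists_mem_notMem_of_card_lt_card this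
        simp only [Finset.mem_union, not_or] at hw
        exact ⟨w, hw.1, hw.2⟩
      obtain ⟨u, huS, huxyz⟩ : ∃ v, v ∉ S ∧ v ∉ ({x, y, z} : Finset (Fin n)) := by
        have : (S ∪ {x, y, z}).card < (Finset.univ : Finset (Fin n)).card := by
          have := Finset.card_union_le S {x, y, z}
          have := Finset.card_le_three (a := x) (b := y) (c := z)
          simp only [Finset.card_univ, Fintype.card_fin] at *
          omega
        obtain ⟨w, -, hw⟩ := Finset.exists_mem_notMem_of_card_lt_card this
        simp only [Finset.mem_union, not_or] at hw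
        exact ⟨w, hw.1, hw.2⟩
      simp only [Finset.mem_singleton, Finset.mem_insert, not_or] at hyx hzxy huxyz
      -- `g` preserves the support of each 3-cycle in `L`
      have key : ∀ b c : Fin n, b ∉ S → c ∉ S → x ≠ b → x ≠ c → b ≠ c →
          (g : Equiv.Perm (Fin n)) x = x ∨ (g : Equiv.Perm (Fin n)) x = b ∨ (g : Equiv.Perm (Fin n)) x = c := by
        intro b c hb hc hxb hxc hbc
        let σ : Equiv.Perm (Fin n) := Equiv.swap x b * Equiv.swap x c
        have hσ : σ ∈ alternatingGroup (Fin n) := by
          rw [Equiv.Perm.mem_alternatingGroup, map_mul, Equiv.Perm.sign_swap hxb, Equiv.Perm.sign_swap hxc]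
          decide
        have hσfix : ∀ w, w ≠ x → w ≠ b → w ≠ c → σ w = w := fun w h1 h2 h3 => by
          simp [σ, Equiv.swap_apply_of_ne_of_ne h1 h3, Equiv.swap_apply_of_ne_of_ne h1 h2]
        have hσL : (⟨σ, hσ⟩ : ↥(alternatingGroup (Fin n))) ∈ L := (hL _).2 fun w hw =>
          hσfix w (fun h => hx (h ▸ hw)) (fun h => hb (h ▸ hw)) (fun h => hc (h ▸ hw))
        have hcomm := congrArg (fun p : ↥(alternatingGroup (Fin n)) => (p : Equiv.Perm (Fin n)) x)
          (Subgroup.mem_centralizer_iff.1 hg _ hσL)
        simp only [Subgroup.coe_mul, Equiv.Perm.mul_apply] at hcomm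
        by_contra hne
        push Not at hne
        rw [hσfix _ hne.1 hne.2.1 hne.2.2] at hcomm
        have hσx : σ x = c := by
          simp [σ, Equiv.swap_apply_of_ne_of_ne hxc.symm hbc.symm]
        exact hxc (((g : Equiv.Perm (Fin n)).injective hcomm).trans hσx)
      rcases key y z hyS hzS (Ne.symm hyx) (Ne.symm hzxy.1) (Ne.symm hzxy.2) with h | h | h
      · exact h
      · rcases key z u hzS huS (Ne.symm hzxy.1) (Ne.symm huxyz.1) (Ne.symm huxyz.2.2) with h' | h' | h'
        · exact h'
        · exact absurd (h.symm.trans h') (Ne.symm hzxy.2)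
        · exact absurd (h.symm.trans h') (Ne.symm huxyz.2.1)
      · rcases key y u hyS huS (Ne.symm hyx) (Ne.symm huxyz.1) (Ne.symm huxyz.2.1) with h' | h' | h'
        · exact h'
        · exact absurd (h.symm.trans h') hzxy.2
        · exact absurd (h.symm.trans h') (Ne.symm huxyz.2.2)
    · intro hg
      refine Subgroup.mem_centralizer_iff.2 fun l hl => Subtype.ext ?_
      have hd : Equiv.Perm.Disjoint (l : Equiv.Perm (Fin n)) (g : Equiv.Perm (Fin n)) := by
        intro w
        by_cases hw : w ∈ S
        · exact Or.inl ((hL l).1 hl w hw)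
        · exact Or.inr (hg w hw)
      exact hd.commute.eq
  -- involutions of `K` move exactly the points of `S`
  have hinv : ∀ k ∈ K, orderOf k = 2 → (k : Equiv.Perm (Fin n)).support = S := by
    intro k hk hk2
    have hsub : (k : Equiv.Perm (Fin n)).support ⊆ S := fun w hw => by
      by_contra hwS
      exact Equiv.Perm.mem_support.1 hw ((hK k).1 hk w hwS)
    have hk2' : (k : Equiv.Perm (Fin n)) ^ 2 = 1 := by
      rw [← Subgroup.coe_pow, ← hk2, pow_orderOf_eq_one, Subgroup.coe_one]
    have hdvd := Equiv.Perm.two_dvd_card_support hk2'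
    have hle := Finset.card_le_card hsub
    have hne : (k : Equiv.Perm (Fin n)) ≠ 1 := fun h => by
      rw [show k = 1 from Subtype.ext h, orderOf_one] at hk2
      exact absurd hk2 (by norm_num)
    have h2 : (k : Equiv.Perm (Fin n)).support.card ≠ 2 := by
      intro h
      have := (Equiv.Perm.card_support_eq_two.1 h).sign_eq
      rw [Equiv.Perm.mem_alternatingGroup.1 k.2] at this
      exact absurd this (by decide)
    have h0 : (k : Equiv.Perm (Fin n)).support.card ≠ 0 := by
      rwa [Ne, Finset.card_eq_zero, Equiv.Perm.support_eq_empty_iff]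
    exact Finset.eq_of_subset_of_card_le hsub (by omega)
  -- an involution in `K`
  have hex : ∃ k ∈ K, orderOf k = 2 := by
    let p : Fin 4 → Fin n := Fin.castLE h4
    let σ : Equiv.Perm (Fin n) := Equiv.swap (p 0) (p 1) * Equiv.swap (p 2) (p 3)
    have hp : ∀ i j : Fin 4, i ≠ j → p i ≠ p j := fun i j h h' => h (Fin.castLE_injective h4 h')
    have hσ : σ ∈ alternatingGroup (Fin n) := by
      rw [Equiv.Perm.mem_alternatingGroup, map_mul, Equiv.Perm.sign_swap (hp 0 1 (by decide)),
        Equiv.Perm.sign_swap (hp 2 3 (by decide))]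
      decide
    have hfix : ∀ w, w ∉ S → σ w = w := by
      intro w hw
      have hne : ∀ i, w ≠ p i := fun i h => hw (h ▸ (hS _).2 i.2)
      simp [σ, Equiv.swap_apply_of_ne_of_ne (hne 2) (hne 3), Equiv.swap_apply_of_ne_of_ne (hne 0) (hne 1)]
    have hdis : Equiv.Perm.Disjoint (Equiv.swap (p 0) (p 1)) (Equiv.swap (p 2) (p 3)) := by
      intro w
      by_cases h : w = p 0 ∨ w = p 1
      · right
        rcases h with rfl | rfl <;>
          exact Equiv.swap_apply_of_ne_of_ne (hp _ _ (by decide)) (hp _ _ (by decide))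
      · left
        push Not at h
        exact Equiv.swap_apply_of_ne_of_ne h.1 h.2
    refine ⟨⟨σ, hσ⟩, (hK _).2 hfix, orderOf_eq_prime (Subtype.ext ?_) ?_⟩
    · show σ ^ 2 = 1
      rw [hdis.commute.mul_pow]
      simp [pow_two]
    · intro h
      have h1 : σ (p 0) = p 0 := by rw [show σ = 1 from congrArg Subtype.val h]; rfl
      simp [σ, Equiv.swap_apply_of_ne_of_ne (hp 0 2 (by decide)) (hp 0 3 (by decide))] at h1
      exact hp 1 0 (by decide) h1
  obtain ⟨k0, hk0, hk0o⟩ := hex
  -- elements normalizing `L` or `K` preserve `S`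
  have hsupp : ∀ g k : ↥(alternatingGroup (Fin n)),
      ((g * k * g⁻¹ : ↥(alternatingGroup (Fin n))) : Equiv.Perm (Fin n)).support =
        (k : Equiv.Perm (Fin n)).support.map (g : Equiv.Perm (Fin n)).toEmbedding := fun g k => by
    rw [Subgroup.coe_mul, Subgroup.coe_mul, Subgroup.coe_inv]
    exact Equiv.Perm.support_conj
  have hord : ∀ g k : ↥(alternatingGroup (Fin n)), orderOf (g * k * g⁻¹) = orderOf k := fun g k =>
    MulEquiv.orderOf_eq (MulAut.conj g) k
  have hnK : ∀ g, g ∈ Subgroup.normalizer (K : Set ↥(alternatingGroup (Fin n))) →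
      S.map (g : Equiv.Perm (Fin n)).toEmbedding = S := by
    intro g hg
    have h1 := (Subgroup.mem_normalizer_iff.1 hg k0).1 hk0
    rw [← hinv k0 hk0 hk0o, ← hsupp, hinv _ h1 (by rw [hord]; exact hk0o), hinv k0 hk0 hk0o]
  have hmapS : ∀ g : ↥(alternatingGroup (Fin n)), S.map (g : Equiv.Perm (Fin n)).toEmbedding = S →
      ∀ w, (g : Equiv.Perm (Fin n)) w ∈ S ↔ w ∈ S := by
    intro g hg w
    conv_lhs => rw [← hg]
    exact Finset.mem_map' (g : Equiv.Perm (Fin n)).toEmbedding
  have hnormL : ∀ g : ↥(alternatingGroup (Fin n)), S.map (g : Equiv.Perm (Fin n)).toEmbedding = S →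
      g ∈ Subgroup.normalizer (L : Set ↥(alternatingGroup (Fin n))) := by
    intro g hg
    rw [Subgroup.mem_normalizer_iff]
    intro l
    rw [hL, hL]
    constructor
    · intro h w hw
      have hw' : (g : Equiv.Perm (Fin n)).symm w ∈ S := (hmapS g hg _).1 (by simpa using hw)
      simp [Equiv.Perm.inv_def, h _ hw']
    · intro h w hw
      have := h _ ((hmapS g hg w).2 hw)
      simpa [Equiv.Perm.inv_def] using this
  have hnormK : ∀ g : ↥(alternatingGroup (Fin n)), S.map (g : Equiv.Perm (Fin n)).toEmbedding = S →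
      g ∈ Subgroup.normalizer (K : Set ↥(alternatingGroup (Fin n))) := by
    intro g hg
    rw [Subgroup.mem_normalizer_iff]
    intro k
    rw [hK, hK]
    constructor
    · intro h w hw
      have hw' : (g : Equiv.Perm (Fin n)).symm w ∉ S := fun h' =>
        hw (by simpa using (hmapS g hg _).2 h')
      simp [Equiv.Perm.inv_def, h _ hw']
    · intro h w hw
      have := h _ (fun h' => hw ((hmapS g hg w).1 h'))
      simpa [Equiv.Perm.inv_def] using this
  refine ⟨hLq, ⟨?_, ?_⟩, ?_, ?_⟩
  · rw [even_iff_two_dvd, ← hk0o]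
    exact Subgroup.orderOf_dvd_natCard _ hk0
  · intro g hg
    rw [Nat.odd_iff, ← Nat.two_dvd_ne_zero]
    intro hd
    obtain ⟨x, hx⟩ := exists_prime_orderOf_dvd_card' (G := ↥(K ⊓ K.map (MulAut.conj g).toMonoidHom)) 2 hd
    obtain ⟨hxK, k, hk, hkx⟩ := x.2
    have hxo : orderOf (x : ↥(alternatingGroup (Fin n))) = 2 := by rw [Subgroup.orderOf_coe]; exact hx
    apply hg
    apply hnormK
    have h1 : (x : ↥(alternatingGroup (Fin n))) = g * k * g⁻¹ := hkx.symm
    rw [h1, hord] at hxo
    conv_lhs => rw [← hinv k hk hxo]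
    rw [← hsupp, ← h1, hinv _ hxK (by rw [h1, hord]; exact hxo)]
  · intro g _ hbot
    have hle : L.map (MulAut.conj g).toMonoidHom ≤ K := by
      rw [hKdef]
      exact Subgroup.commutator_eq_bot_iff_le_centralizer.1 (by rw [Subgroup.commutator_comm]; exact hbot)
    have hmaps : ∀ (k : ↥K) (w : Fin n), (k : Equiv.Perm (Fin n)) w ∈ S ↔ w ∈ S := by
      intro k w
      by_cases hw : w ∈ S
      · simp only [hw, iff_true]
        by_contra h
        have h1 := (hK k).1 k.2 _ h
        exact h (by rw [(k : Equiv.Perm (Fin n)).injective h1]; exact hw)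
      · rw [(hK k).1 k.2 w hw]
    let ψ : ↥K → Equiv.Perm {x // x ∈ S} := fun k => (k : Equiv.Perm (Fin n)).subtypePerm (hmaps k)
    have hψ : Function.Injective ψ := by
      intro a b h
      refine Subtype.ext (Subtype.ext (Equiv.ext fun w => ?_))
      by_cases hw : w ∈ S
      · exact congrArg (fun p : Equiv.Perm {x // x ∈ S} => (p ⟨w, hw⟩ : Fin n)) h
      · exact ((hK a).1 a.2 w hw).trans ((hK b).1 b.2 w hw).symm
    have h1 := Nat.card_le_card_of_injective ψ hψ
    rw [Nat.card_perm, Nat.card_eq_finsetCard, hScard] at h1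
    have h2 := Subgroup.card_le_of_le hle
    rw [Subgroup.card_map_of_injective (MulAut.conj g).injective, ← Nat.card_congr e.toEquiv] at h2
    have h3 := two_mul_nat_card_alternatingGroup (α := T)
    rw [Nat.card_perm, hT] at h3
    have h4' : Nat.factorial 5 ≤ Nat.factorial (n - 4) := Nat.factorial_le (by omega)
    simp only [Nat.factorial] at h1 h4'
    omega
  · refine le_antisymm (fun g hg => ?_) fun g hg => hnormL g (hnK g hg)
    refine Subgroup.mem_normalizer_iff.2 fun x => ?_
    have hmap : L.map (MulAut.conj g).toMonoidHom = L :=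
      Cfsg.Comp.map_conj_eq_of_mem_normalizer hg
    have key : ∀ h : ↥(alternatingGroup (Fin n)),
        L.map (MulAut.conj h).toMonoidHom = L → ∀ x ∈ K, h * x * h⁻¹ ∈ K := by
      intro h hh x hx
      refine Subgroup.mem_centralizer_iff.2 fun l hl => ?_
      obtain ⟨l', hl', hll⟩ := hh.ge hl
      rw [← show h * l' * h⁻¹ = l from hll]
      calc h * l' * h⁻¹ * (h * x * h⁻¹) = h * (l' * x) * h⁻¹ := by group
        _ = h * (x * l') * h⁻¹ := by rw [Subgroup.mem_centralizer_iff.1 hx l' hl']
        _ = _ := by group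
    refine ⟨key g hmap x, fun hx => ?_⟩
    have := key g⁻¹ (Cfsg.Comp.map_conj_eq_of_mem_normalizer (inv_mem hg)) _ hx
    simpa [mul_assoc] using this

end Cfsg.Agent.S1323
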