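import Cfsg.Statements.S1326
import Cfsg.Agent.CompLayer
-- import your own Cfsg.Agent.* helpers here

set_option autoImplicit false
open Cfsg

namespace Cfsg.Agent.S1326

/-- For a finite group X: the Fitting subgroup contains its centralizer if and only if the layer of X is trivial. -/
theorem result {X : Type*} [Group X] [Finite X] : Subgroup.centralizer (Cfsg.fittingSubgroup X : Set X) ≤ Cfsg.fittingSubgroup X ↔ Cfsg.layer X = ⊥ := by
  constructor
  · intro h
    refine le_bot_iff.mp (Cfsg.Comp.layer_le_iff.mpr fun L hL => ?_)
    exfalso
    refine Cfsg.Comp.isComponent_not_isSolvable hL ?_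
    haveI : Group.IsSolvable ↥(Cfsg.fittingSubgroup X) := Cfsg.Comp.fitting_isSolvable
    exact Group.isSolvable_of_isSolvable_injective (Subgroup.inclusion_injective
      ((Subgroup.commutator_eq_bot_iff_le_centralizer.mp
        (Cfsg.Comp.commutator_component_fitting hL)).trans h))
  · intro h
    have := Cfsg.Comp.centralizer_fStar_le (G := X)
    rwa [Cfsg.generalizedFittingSubgroup, h, bot_sup_eq] at this

end Cfsg.Agent.S1326
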