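import Cfsg.Statements.S1328
import Cfsg.Agent.H9.InvolComp
-- import your own Cfsg.Agent.* helpers here

set_option autoImplicit false
open Cfsg

namespace Cfsg.Agent.S1328

/-- Let G be finite, H ≤ G with O(H) = 1, t an involution of G normalizing H, and Y a nontrivial subgroup of O(C_H(t)). Then some component E of H is normalized by t and by Y and centralized by neither t nor Y. -/
theorem result {G : Type*} [Group G] [Finite G] (H : Subgroup G) (hO : Cfsg.oddCore ↥H = ⊥) (t : G) (ht : orderOf t = 2) (htH : t ∈ Subgroup.normalizer (H : Set G)) (Y : Subgroup G) (hY1 : Y ≠ ⊥) (hY : Y ≤ (Cfsg.oddCore ↥(H ⊓ Subgroup.centralizer ({t} : Set G))).map (H ⊓ Subgroup.centralizer ({t} : Set G)).subtype) : ∃ E : Subgroup ↥H, Cfsg.IsComponent E ∧ (E.map H.subtype).map (MulAut.conj t).toMonoidHom = E.map H.subtype ∧ Y ≤ Subgroup.normalizer ((E.map H.subtype : Subgroup G) : Set G) ∧ ¬ (t ∈ Subgroup.centralizer ((E.map H.subtype : Subgroup G) : Set G)) ∧ ¬ (Y ≤ Subgroup.centralizer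 ((E.map H.subtype : Subgroup G) : Set G)) := by
  classical
  let τ : ↥H ≃* ↥H := H9.conjRestr H t htH
  have ht2 : t * t = 1 := by rw [← pow_two, ← ht]; exact pow_orderOf_eq_one t
  have hτ : ∀ x, τ (τ x) = x := fun x => Subtype.ext (by
    show t * (t * (x : G) * t⁻¹) * t⁻¹ = x
    calc t * (t * (x : G) * t⁻¹) * t⁻¹ = (t * t) * x * (t * t)⁻¹ := by group
      _ = x := by rw [ht2]; group)
  have hC : (H9.fixS τ).map H.subtype = H ⊓ Subgroup.centralizer ({t} : Set G) := by
    ext x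
    constructor
    · rintro ⟨h, hh, rfl⟩
      refine Subgroup.mem_inf.mpr ⟨h.2, Subgroup.mem_centralizer_singleton_iff.mpr ?_⟩
      have h1 : t * (h : G) * t⁻¹ = h := congrArg Subtype.val hh
      rw [mul_inv_eq_iff_eq_mul] at h1
      exact h1.symm
    · intro hx
      obtain ⟨h1, h2⟩ := Subgroup.mem_inf.mp hx
      refine ⟨⟨x, h1⟩, Subtype.ext ?_, rfl⟩
      show t * x * t⁻¹ = x
      rw [← Subgroup.mem_centralizer_singleton_iff.mp h2]
      group
  let e : ↥(H ⊓ Subgroup.centralizer ({t} : Set G)) ≃* ↥(H9.fixS τ) :=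
    (MulEquiv.subgroupCongr hC.symm).trans
      ((H9.fixS τ).equivMapOfInjective H.subtype H.subtype_injective).symm
  have hYH : Y ≤ H := hY.trans ((Subgroup.map_subtype_le _).trans inf_le_left)
  have hYD : Y.subgroupOf H ≤ H9.fixCore τ := by
    intro y hy
    obtain ⟨c, hc, hcy⟩ := hY (Subgroup.mem_subgroupOf.mp hy)
    refine ⟨e c, H9.map_pPrimeCore_le 2 e ⟨c, hc, rfl⟩, Subtype.ext ?_⟩
    refine Eq.trans ?_ hcy
    have := congrArg Subtype.val (((H9.fixS τ).equivMapOfInjective H.subtype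
      H.subtype_injective).apply_symm_apply (MulEquiv.subgroupCongr hC.symm c))
    exact this
  obtain ⟨E, hE, hEt, hEY, hnt, hnY⟩ := H9.exists_component_moved τ hτ hO hYD (by
    rw [Ne, Subgroup.subgroupOf_eq_bot, disjoint_iff, inf_eq_left.mpr hYH]
    exact hY1)
  refine ⟨E, hE, ?_, fun y hy => ?_, fun h => hnt fun x hx => Subtype.ext ?_,
    fun h => hnY fun y hy x hx => Subtype.ext ?_⟩
  · conv_rhs => rw [← hEt]
    rw [Subgroup.map_map, Subgroup.map_map]
    congr 1
  · apply Cfsg.Comp.mem_normalizer_of_map_conj_eq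
    conv_rhs => rw [← hEY ⟨y, hYH hy⟩ (Subgroup.mem_subgroupOf.mpr hy)]
    rw [Subgroup.map_map, Subgroup.map_map]
    congr 1
  · show t * (x : G) * t⁻¹ = x
    rw [← Subgroup.mem_centralizer_iff.mp h (x : G) ⟨x, hx, rfl⟩]
    group
  · exact (Subgroup.mem_centralizer_iff.mp (h (Subgroup.mem_subgroupOf.mp hy)) (x : G)
      ⟨x, hx, rfl⟩).symm

end Cfsg.Agent.S1328
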