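import Cfsg.Statements.S1331
import Cfsg.Agent.H8.Coprime
-- import your own Cfsg.Agent.* helpers here

set_option autoImplicit false
open Cfsg

namespace Cfsg.Agent.S1331

/-- Let θ be a solvable A-signalizer functor on the finite group G for the prime p, A elementary abelian of rank at least 3, X a member of the family of θ, and B ≤ A with |B| ≥ p². Then X is generated by the subgroups X ∩ ⋂_{d ∈ D, d ≠ 1} θ d, D ranging over the subgroups of index p in B. -/
theorem result {G : Type*} [Group G] [Finite G] (p : ℕ) [Fact p.Prime] (A : Subgroup G) (hA : Cfsg.IsElementaryAbelian p A) (hA3 : p ^ 3 ≤ Nat.card ↥A) (θ : G → Subgroup G) (hθ : Cfsg.IsSolvableSignalizerFunctor p A θ) (X : Subgroup G) (hX : X ∈ Cfsg.signalizerFamily p A θ) (B : Subgroup G) (hB : B ≤ A) (hB2 : p ^ 2 ≤ Nat.card ↥B) : X = ⨆ D : {D : Subgroup G // D ≤ B ∧ D.relIndex B = p}, X ⊓ Cfsg.signalizerInf (D : Subgroup G) θ := by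
  have hp : p.Prime := Fact.out
  obtain ⟨-, hXp, hXA, hXθ⟩ := hX
  refine le_antisymm ?_ (iSup_le fun D => inf_le_left)
  refine H8.generation (A := B) ⟨?_, fun b hb => hA.2 b (hB hb)⟩ ?_
    (H8.le_normalizer_of_conj_mem fun b hb => hXA b (hB hb)) hXp fun D hD hrel => ?_
  · haveI := hA.1
    exact ⟨⟨fun a b => Subtype.ext (Subtype.ext_iff.mp
      (mul_comm' (⟨(a : G), hB a.2⟩ : ↥A) ⟨(b : G), hB b.2⟩) : ((a : G) * b = b * a))⟩⟩
  · rintro rfl
    rw [Subgroup.card_bot] at hB2
    exact absurd hB2 (by have := Nat.one_lt_pow two_ne_zero hp.one_lt; omega)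
  refine le_iSup_of_le ⟨D, hD, hrel⟩ (le_inf inf_le_left (le_iInf fun d => ?_))
  exact (inf_le_inf_left X (Subgroup.centralizer_le
    (Set.singleton_subset_iff.mpr d.2.1))).trans (hXθ _ (hB (hD d.2.1)) d.2.2)

end Cfsg.Agent.S1331
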