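import Cfsg.Statements.S1335
-- import your own Cfsg.Agent.* helpers here

set_option autoImplicit false
open Cfsg

namespace Cfsg.Agent.S1335

/-- Let H be a subgroup of the finite group G, p a prime, k ≥ 1, P a Sylow p-subgroup of H of p-rank at least k, and suppose N_G(X) ≤ H for every subgroup X ≤ P of p-rank at least k. Then P is a Sylow p-subgroup of G. -/
theorem result {G : Type*} [Group G] [Finite G] {p : ℕ} [Fact p.Prime] (k : ℕ) (hk : 1 ≤ k) (H : Subgroup G) (P : Sylow p ↥H) (hP : ¬ Cfsg.PRankLE p (k - 1) ↥(P : Subgroup ↥H)) (hΓ : (∀ X : Subgroup G, X ≤ (P : Subgroup ↥H).map H.subtype → ¬ Cfsg.PRankLE p (k - 1) ↥X → Subgroup.normalizer (X : Set G) ≤ H)) : ∃ Q : Sylow p G, (Q : Subgroup G) = (P : Subgroup ↥H).map H.subtype := by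
  classical
  have hp : p.Prime := Fact.out
  set P' : Subgroup G := (P : Subgroup ↥H).map H.subtype with hP'
  have hPpg : IsPGroup p ↥P' := P.isPGroup'.map _
  have hP'rk : ¬ Cfsg.PRankLE p (k - 1) ↥P' := by
    intro h
    apply hP
    let e : ↥(P : Subgroup ↥H) ≃* ↥P' :=
      Subgroup.equivMapOfInjective _ _ H.subtype_injective
    intro A hA hexp
    have h2 := h (A.map e.toMonoidHom) ?_ ?_
    · rwa [Subgroup.card_map_of_injective e.injective] at h2
    · haveI := hA
      exact ⟨⟨by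
        rintro ⟨_, x, hx, rfl⟩ ⟨_, y, hy, rfl⟩
        apply Subtype.ext
        show e x * e y = e y * e x
        rw [← map_mul, ← map_mul]
        have := congrArg Subtype.val (mul_comm' (⟨x, hx⟩ : A) ⟨y, hy⟩)
        exact congrArg e this⟩⟩
    · rintro _ ⟨x, hx, rfl⟩
      rw [← map_pow, hexp x hx, map_one]
  have hN : Subgroup.normalizer (P' : Set G) ≤ H := hΓ P' le_rfl hP'rk
  obtain ⟨Q, hQ⟩ := hPpg.exists_le_sylow
  refine ⟨Q, le_antisymm ?_ hQ⟩
  by_contra hne
  have hlt : P' < (Q : Subgroup G) := lt_of_le_not_ge hQ hne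
  haveI : Group.IsNilpotent ↥(Q : Subgroup G) := Q.isPGroup'.isNilpotent
  have hsub : P'.subgroupOf (Q : Subgroup G) < ⊤ := by
    rw [lt_top_iff_ne_top, Ne, Subgroup.subgroupOf_eq_top]
    exact hne
  obtain ⟨n, hn1, hn2⟩ := SetLike.exists_of_lt
    (Group.normalizerCondition_of_isNilpotent _ hsub)
  have hnN : (n : G) ∈ Subgroup.normalizer (P' : Set G) := by
    rw [Subgroup.mem_normalizer_iff] at hn1 ⊢
    intro x
    constructor
    · intro hx
      have := (hn1 ⟨x, hQ hx⟩).1 (by simpa [Subgroup.mem_subgroupOf] using hx)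
      simpa [Subgroup.mem_subgroupOf] using this
    · intro hx
      have hxQ : x ∈ (Q : Subgroup G) := by
        have h3 := mul_mem (mul_mem (inv_mem n.2) (hQ hx)) n.2
        simpa [mul_assoc] using h3
      have := (hn1 ⟨x, hxQ⟩).2 (by simpa [Subgroup.mem_subgroupOf] using hx)
      simpa [Subgroup.mem_subgroupOf] using this
  -- the p-subgroup generated by `P'` and `n` lies in `H`
  let R : Subgroup ↥H := (P' ⊔ Subgroup.zpowers (n : G)).subgroupOf H
  have hle : P' ⊔ Subgroup.zpowers (n : G) ≤ (Q : Subgroup G) ⊓ H := by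
    refine sup_le (le_inf hQ (Subgroup.map_subtype_le _)) ?_
    rw [Subgroup.zpowers_le]
    exact ⟨n.2, hN hnN⟩
  have hR : IsPGroup p ↥R :=
    (Q.isPGroup'.to_le (hle.trans inf_le_left)).of_equiv
      (Subgroup.subgroupOfEquivOfLe (hle.trans inf_le_right)).symm
  have hPR : (P : Subgroup ↥H) ≤ R := fun x hx =>
    Subgroup.mem_subgroupOf.2 (le_sup_left (α := Subgroup G) ⟨x, hx, rfl⟩)
  have heq := P.is_maximal' hR hPR
  apply hn2
  rw [Subgroup.mem_subgroupOf]
  have hnR : (⟨(n : G), hN hnN⟩ : ↥H) ∈ R :=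
    Subgroup.mem_subgroupOf.2 (le_sup_right (α := Subgroup G) (Subgroup.mem_zpowers _))
  rw [heq] at hnR
  exact ⟨_, hnR, rfl⟩

end Cfsg.Agent.S1335
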