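import Cfsg.Statements.S1336
-- import your own Cfsg.Agent.* helpers here

set_option autoImplicit false
open Cfsg

namespace Cfsg.Agent.S1336


private theorem isElementaryAbelian_zpowers {G : Type*} [Group G] {p : ℕ} {x : G} (hx : x ^ p = 1) :
    Cfsg.IsElementaryAbelian p (Subgroup.zpowers x) := by
  refine ⟨inferInstance, ?_⟩
  rintro _ ⟨k, rfl⟩
  show (x ^ k) ^ p = 1
  rw [← zpow_natCast, ← zpow_mul, mul_comm, zpow_mul, zpow_natCast, hx, one_zpow]

private theorem isElementaryAbelian_map {G G' : Type*} [Group G] [Group G'] (f : G →* G') {p : ℕ}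
    {E : Subgroup G} (hE : Cfsg.IsElementaryAbelian p E) :
    Cfsg.IsElementaryAbelian p (E.map f) := by
  have := hE.1
  refine ⟨Subgroup.map_isMulCommutative E f, ?_⟩
  rintro _ ⟨x, hx, rfl⟩
  rw [← map_pow, hE.2 x hx, map_one]

/-- Let G be finite and p prime. Then G has a proper subgroup H with p ∣ |H| and p ∤ |H ∩ gHg⁻¹| for every g ∉ H (a strongly p-embedded subgroup) if and only if G is not 1-connected for p. -/
theorem result {G : Type*} [Group G] [Finite G] (p : ℕ) [Fact p.Prime] : (∃ H : Subgroup G, H ≠ ⊤ ∧ p ∣ Nat.card ↥H ∧ ∀ g : G, g ∉ H → ¬ p ∣ Nat.card ↥(H ⊓ H.map (MulAut.conj g).toMonoidHom)) ↔ ¬ Cfsg.IsKConnected p 1 G := by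
  classical
  have hp : p.Prime := Fact.out
  let V : Subgroup G → Prop := fun E => Cfsg.IsElementaryAbelian p E ∧ p ^ 1 ≤ Nat.card ↥E
  let R : Subgroup G → Subgroup G → Prop := fun A B : Subgroup G =>
    Cfsg.IsElementaryAbelian p A ∧ p ^ 1 ≤ Nat.card ↥A ∧ Cfsg.IsElementaryAbelian p B ∧
      p ^ 1 ≤ Nat.card ↥B ∧ ∀ a ∈ A, ∀ b ∈ B, a * b = b * a
  have hzp : ∀ x : G, orderOf x = p → V (Subgroup.zpowers x) := by
    intro x hx
    refine ⟨isElementaryAbelian_zpowers (hx ▸ pow_orderOf_eq_one x), ?_⟩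
    rw [Nat.card_zpowers, hx, pow_one]
  -- every vertex contains an element of order p
  have hVx : ∀ E : Subgroup G, V E → ∃ x ∈ E, orderOf x = p := by
    intro E hE
    have h1 : 1 < Nat.card ↥E := lt_of_lt_of_le hp.one_lt (by simpa using hE.2)
    have := Finite.one_lt_card_iff_nontrivial.1 h1
    obtain ⟨x, hx, hx1⟩ := (Subgroup.nontrivial_iff_exists_ne_one E).1 this
    exact ⟨x, hx, orderOf_eq_prime (hE.1.2 x hx) hx1⟩
  let c : G → Subgroup G → Subgroup G := fun g E => E.map (MulAut.conj g).toMonoidHom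
  have hcV : ∀ g E, V E → V (c g E) := fun g E hE => ⟨isElementaryAbelian_map _ hE.1,
    by rw [Subgroup.card_map_of_injective (MulAut.conj g).injective]; exact hE.2⟩
  have hcc : ∀ g h E, c g (c h E) = c (g * h) E := by
    intro g h E
    ext x
    simp [c, Subgroup.map_map, mul_assoc]
  have hc1 : ∀ E, c 1 E = E := by intro E; ext x; simp [c]
  have hRsymm : ∀ {A B}, Relation.ReflTransGen R A B → Relation.ReflTransGen R B A := by
    intro A B h
    induction h with
    | refl => exact .refl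
    | tail _ h2 ih =>
      exact Relation.ReflTransGen.head
        ⟨h2.2.2.1, h2.2.2.2.1, h2.1, h2.2.1, fun a ha b hb => (h2.2.2.2.2 b hb a ha).symm⟩ ih
  have hRconj : ∀ g {A B}, Relation.ReflTransGen R A B →
      Relation.ReflTransGen R (c g A) (c g B) := by
    intro g A B h
    refine h.lift (c g) ?_
    intro A B hAB
    refine ⟨(hcV g A ⟨hAB.1, hAB.2.1⟩).1, (hcV g A ⟨hAB.1, hAB.2.1⟩).2,
      (hcV g B ⟨hAB.2.2.1, hAB.2.2.2.1⟩).1, (hcV g B ⟨hAB.2.2.1, hAB.2.2.2.1⟩).2, ?_⟩
    rintro _ ⟨a, ha, rfl⟩ _ ⟨b, hb, rfl⟩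
    rw [← map_mul, ← map_mul, hAB.2.2.2.2 a ha b hb]
  constructor
  · rintro ⟨H, hHt, hpH, hH⟩ hcon
    obtain ⟨x, hx⟩ := exists_prime_orderOf_dvd_card' (G := ↥H) p hpH
    have hxo : orderOf (x : G) = p := by rw [Subgroup.orderOf_coe]; exact hx
    obtain ⟨g, hg⟩ : ∃ g : G, g ∉ H := by
      by_contra hno
      push Not at hno
      exact hHt (eq_top_iff.2 fun g _ => hno g)
    set E := Subgroup.zpowers (x : G) with hEdef
    have hEH : E ≤ H := Subgroup.zpowers_le.2 x.2
    have hstay : ∀ B, Relation.ReflTransGen R E B → B ≤ H := by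
      intro B h
      induction h with
      | refl => exact hEH
      | @tail A B _ hAB ih =>
        intro b hb
        by_contra hbH
        obtain ⟨a, ha, hao⟩ := hVx A ⟨hAB.1, hAB.2.1⟩
        apply hH b hbH
        have hmem : a ∈ H ⊓ H.map (MulAut.conj b).toMonoidHom := by
          refine ⟨ih ha, a, ih ha, ?_⟩
          simp [← hAB.2.2.2.2 a ha b hb]
        exact hao ▸ Subgroup.orderOf_dvd_natCard _ hmem
    have hgx : c g E ≤ H :=
      hstay _ (hcon E (c g E) (hzp _ hxo).1 (hzp _ hxo).2 (hcV g _ (hzp _ hxo)).1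
        (hcV g _ (hzp _ hxo)).2)
    have hgxm : g * (x : G) * g⁻¹ ∈ c g E := ⟨x, Subgroup.mem_zpowers _, rfl⟩
    apply hH g hg
    have hm : g * (x : G) * g⁻¹ ∈ H ⊓ H.map (MulAut.conj g).toMonoidHom :=
      ⟨hgx hgxm, x, x.2, rfl⟩
    have := Subgroup.orderOf_dvd_natCard _ hm
    rwa [← MulAut.conj_apply, MulEquiv.orderOf_eq, hxo] at this
  · intro hncon
    simp only [Cfsg.IsKConnected] at hncon
    push Not at hncon
    obtain ⟨E1, E2, hE1a, hE1b, hE2a, hE2b, hnot⟩ := hncon
    obtain ⟨e, he, heo⟩ := hVx E1 ⟨hE1a, hE1b⟩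
    have hE1pg : ∀ E, V E → IsPGroup p ↥E := fun E hE a =>
      ⟨1, by ext; simpa using hE.1.2 a a.2⟩
    obtain ⟨P, hP⟩ := (hE1pg E1 ⟨hE1a, hE1b⟩).exists_le_sylow
    -- a central element of order p in P
    have hPne : Nontrivial ↥(P : Subgroup G) :=
      ⟨⟨⟨e, hP he⟩, 1, fun h => hp.one_lt.ne'
        (heo.symm.trans (orderOf_eq_one_iff.2 (congrArg Subtype.val h)))⟩⟩
    have hZne : Nontrivial ↥(Subgroup.center ↥(P : Subgroup G)) :=
      P.isPGroup'.center_nontrivial
    obtain ⟨z0, hz0⟩ := exists_prime_orderOf_dvd_card' (G := ↥(Subgroup.center ↥(P : Subgroup G))) p (by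
      obtain ⟨n, hn, hcard⟩ := (P.isPGroup'.to_subgroup _).nontrivial_iff_card.1 hZne
      exact hcard ▸ dvd_pow_self p (by omega))
    set z : G := ((z0 : ↥(P : Subgroup G)) : G)
    have hzo : orderOf z = p := by rw [Subgroup.orderOf_coe, Subgroup.orderOf_coe]; exact hz0
    set Z := Subgroup.zpowers z
    -- every vertex inside P is adjacent to Z
    have hPZ : ∀ E, V E → E ≤ (P : Subgroup G) → R E Z := by
      intro E hE hEP
      refine ⟨hE.1, hE.2, (hzp z hzo).1, (hzp z hzo).2, ?_⟩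
      intro a ha b hb
      obtain ⟨k, rfl⟩ := hb
      have : Commute a z :=
        congrArg Subtype.val (Subgroup.mem_center_iff.1 z0.2 ⟨a, hEP ha⟩)
      exact this.zpow_right k
    -- every vertex is connected to a conjugate of Z
    have hany : ∀ (K : Subgroup G) (hK : IsPGroup p ↥K), ∃ g : G, c g K ≤ (P : Subgroup G) := by
      intro K hK
      obtain ⟨Q, hQ⟩ := hK.exists_le_sylow
      obtain ⟨g, hg⟩ := MulAction.exists_smul_eq G Q P
      refine ⟨g, ?_⟩
      rw [← hg]
      exact Subgroup.map_mono hQ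
    have hEZ : Relation.ReflTransGen R E1 Z := .single (hPZ E1 ⟨hE1a, hE1b⟩ hP)
    have hV : ∀ E, V E → ∃ g, Relation.ReflTransGen R E (c g Z) := by
      intro E hE
      obtain ⟨g, hg⟩ := hany E (hE1pg E hE)
      refine ⟨g⁻¹, ?_⟩
      have := hRconj g⁻¹ (Relation.ReflTransGen.single (hPZ _ (hcV g E hE) hg))
      rwa [hcc, inv_mul_cancel, hc1] at this
    -- the stabilizer of the connected component of Z
    let H : Subgroup G :=
    { carrier := {g | Relation.ReflTransGen R (c g Z) Z}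
      one_mem' := by simp only [Set.mem_setOf_eq, hc1]; exact .refl
      mul_mem' := fun {a b} ha hb => by
        have := hRconj a hb
        rw [hcc] at this
        exact this.trans ha
      inv_mem' := fun {a} ha => by
        have := hRconj a⁻¹ ha
        rw [hcc, inv_mul_cancel, hc1] at this
        exact hRsymm this }
    have hHdef : ∀ g, g ∈ H ↔ Relation.ReflTransGen R (c g Z) Z := fun g => Iff.rfl
    have hPH : (P : Subgroup G) ≤ H := by
      intro y hy
      rw [hHdef]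
      refine .single (hPZ _ (hcV y _ (hzp z hzo)) ?_)
      rintro _ ⟨w, hw, rfl⟩
      have hwP : w ∈ (P : Subgroup G) :=
        Subgroup.zpowers_le.2 (z0 : ↥(P : Subgroup G)).2 hw
      exact mul_mem (mul_mem hy hwP) (inv_mem hy)
    have hHp : ∀ x ∈ H, orderOf x = p → Relation.ReflTransGen R (Subgroup.zpowers x) Z := by
      intro x hx hxo
      have hK : IsPGroup p ↥((Subgroup.zpowers x).subgroupOf H) := by
        refine (hE1pg _ (hzp x hxo)).of_equiv (Subgroup.subgroupOfEquivOfLe ?_).symm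
        exact Subgroup.zpowers_le.2 hx
      obtain ⟨Q, hQ⟩ := hK.exists_le_sylow
      obtain ⟨h, hh⟩ := MulAction.exists_smul_eq ↥H Q (P.subtype hPH)
      have hxQ : (⟨x, hx⟩ : ↥H) ∈ (Q : Subgroup ↥H) :=
        hQ (Subgroup.mem_subgroupOf.2 (Subgroup.mem_zpowers x))
      have hle : c (h : G) (Subgroup.zpowers x) ≤ (P : Subgroup G) := by
        rintro _ ⟨w, hw, rfl⟩
        have hwH : w ∈ H := (Subgroup.zpowers_le.2 hx) hw
        have hwQ : (⟨w, hwH⟩ : ↥H) ∈ (Q : Subgroup ↥H) := hQ (Subgroup.mem_subgroupOf.2 hw)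
        have : h * ⟨w, hwH⟩ * h⁻¹ ∈ ((P.subtype hPH : Sylow p ↥H) : Subgroup ↥H) := by
          rw [← hh]
          exact ⟨_, hwQ, rfl⟩
        simpa [Sylow.coe_subtype, Subgroup.mem_subgroupOf] using this
      have := hRconj (h : G)⁻¹
        (Relation.ReflTransGen.single (hPZ _ (hcV _ _ (hzp x hxo)) hle))
      rw [hcc, inv_mul_cancel, hc1] at this
      exact this.trans ((hHdef _).1 (inv_mem h.2))
    refine ⟨H, ?_, ?_, ?_⟩
    · intro htop
      obtain ⟨g2, hg2⟩ := hV E2 ⟨hE2a, hE2b⟩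
      have hmem : g2 ∈ H := by rw [htop]; trivial
      exact hnot (hEZ.trans (hRsymm (hg2.trans ((hHdef _).1 hmem))))
    · rw [← hzo]
      exact Subgroup.orderOf_dvd_natCard _ (hPH (z0 : ↥(P : Subgroup G)).2)
    · intro g hg hdvd
      obtain ⟨x, hx⟩ := exists_prime_orderOf_dvd_card' (G := ↥(H ⊓ H.map (MulAut.conj g).toMonoidHom)) p hdvd
      obtain ⟨hxH, w, hw, hwx⟩ := x.2
      have hxo : orderOf (x : G) = p := by rw [Subgroup.orderOf_coe]; exact hx
      have hwo : orderOf w = p := by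
        rw [← hxo, ← hwx]
        exact (orderOf_injective _ (MulAut.conj g).injective w).symm
      have h1 := hRconj g (hHp w hw hwo)
      have h2 : c g (Subgroup.zpowers w) = Subgroup.zpowers (x : G) := by
        show (Subgroup.zpowers w).map _ = _
        rw [MonoidHom.map_zpowers, hwx]
      rw [h2] at h1
      exact hg ((hHdef g).2 ((hRsymm h1).trans (hHp _ hxH hxo)))

end Cfsg.Agent.S1336
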