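import Cfsg.Statements.S1338
import Cfsg.Agent.H9.Three
-- import your own Cfsg.Agent.* helpers here

set_option autoImplicit false
open Cfsg

namespace Cfsg.Agent.S1338

/-- A finite 3-group of 3-rank at least 4 is 2-connected for the prime 3: its commuting graph on elementary abelian subgroups of order ≥ 9 is connected. -/
theorem result {P : Type*} [Group P] [Finite P] (hP : IsPGroup 3 P) (hrk : ¬ Cfsg.PRankLE 3 3 P) : Cfsg.IsKConnected 3 2 P := by
  haveI : Fact (Nat.Prime 3) := ⟨Nat.prime_three⟩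
  simp only [Cfsg.PRankLE] at hrk
  push Not at hrk
  obtain ⟨A, hA1, hA2, hA3⟩ := hrk
  have hA4 : 3 ^ 4 ≤ Nat.card ↥A := H9.card_eq_pow_ge hP hA3
  have hA4' : 3 ^ 3 ≤ Nat.card ↥A := le_trans (by norm_num) hA4
  obtain ⟨B, hBn, hBe, hBc⟩ := H9.exists_normal_elemAb_81 _ P rfl hP ⟨A, ⟨hA1, hA2⟩, hA4⟩
  obtain ⟨U, hUn, hUe, hU⟩ := H9.exists_normal_elemAb_sq hP A ⟨hA1, hA2⟩ hA4'
  haveI := hUn
  haveI := hBn
  have key : ∀ E : Subgroup P, Cfsg.IsElementaryAbelian 3 E → 3 ^ 2 ≤ Nat.card ↥E →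
      Relation.ReflTransGen (H9.SqRel 3) E U := fun E hEe hEc =>
    (H9.connected_to_normal_iff hP ⟨A, ⟨hA1, hA2⟩, hA4'⟩ U hUe hU E hEe hEc).2
      (H9.exists_elemAb_27_centralizing hP B E hBe hBc hEe hEc)
  intro E E' hEe hEc hE'e hE'c
  exact (key E hEe hEc).trans (H9.sqRel_path_symm (key E' hE'e hE'c))

end Cfsg.Agent.S1338
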