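import Cfsg.Statements.S1339
import Cfsg.Agent.CompPComp
-- import your own Cfsg.Agent.* helpers here

set_option autoImplicit false
open Cfsg

namespace Cfsg.Agent.S1339

/-- Let F be a field with 2 elements, n ≥ 3, and t ∈ SL(n, F) a transvection (t = 1 + E_{ij}, i ≠ j). Then the generalized Fitting subgroup of C(t) is O_2(C(t)). -/
theorem result {F : Type*} [Field F] [Fintype F] [DecidableEq F] (hF : Fintype.card F = 2) (n : ℕ) (hn : 3 ≤ n) (i j : Fin n) (hij : i ≠ j) (t : Matrix.SpecialLinearGroup (Fin n) F) (ht : (t : Matrix (Fin n) (Fin n) F) = Matrix.transvection i j 1) : Cfsg.generalizedFittingSubgroup ↥(Subgroup.centralizer ({t} : Set (Matrix.SpecialLinearGroup (Fin n) F))) = Cfsg.pCore 2 ↥(Subgroup.centralizer ({t} : Set (Matrix.SpecialLinearGroup (Fin n) F))) := by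
  classical
  haveI : Fact (Nat.Prime 2) := ⟨Nat.prime_two⟩
  set C := Subgroup.centralizer ({t} : Set (Matrix.SpecialLinearGroup (Fin n) F))
  have htwo : ∀ x : F, x = 0 ∨ x = 1 := by
    intro x
    by_contra h
    push Not at h
    have h3 : ({0, 1, x} : Finset F).card = 3 := by
      rw [Finset.card_insert_of_notMem (by simp [h.1.symm]), Finset.card_pair h.2.symm]
    have := Finset.card_le_univ ({0, 1, x} : Finset F)
    omega
  have htwo' : (1 : F) + 1 = 0 := by
    rcases htwo (1 + 1) with h | h
    · exact h
    · exact absurd (add_eq_right.mp h) one_ne_zero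
  -- entries of an element commuting with `t`
  have hent : ∀ g : ↥C, ∀ a b, ((g : Matrix.SpecialLinearGroup (Fin n) F) : Matrix (Fin n) (Fin n) F) a i *
      (if b = j then 1 else 0) = (if a = i then 1 else 0) *
      ((g : Matrix.SpecialLinearGroup (Fin n) F) : Matrix (Fin n) (Fin n) F) j b := by
    intro g a b
    have hc := congrArg (fun h : Matrix.SpecialLinearGroup (Fin n) F => (h : Matrix (Fin n) (Fin n) F) a b)
      (Subgroup.mem_centralizer_singleton_iff.mp g.2)
    simp only [Matrix.SpecialLinearGroup.coe_mul, ht, Matrix.transvection, Matrix.mul_add,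
      Matrix.add_mul, Matrix.one_mul, Matrix.mul_one, Matrix.add_apply] at hc
    rw [Matrix.mul_apply, Matrix.mul_apply] at hc
    simp only [Matrix.single_apply, mul_ite, mul_one, mul_zero, ite_mul, one_mul, zero_mul] at hc ⊢
    rw [Finset.sum_eq_single i (fun c _ hc' => if_neg (fun h => hc' h.1.symm))
      (fun h => absurd (Finset.mem_univ i) h)] at hc
    rw [Finset.sum_eq_single j (fun c _ hc' => if_neg (fun h => hc' h.2.symm))
      (fun h => absurd (Finset.mem_univ j) h)] at hc
    simpa [eq_comm, and_comm] using hc
  let M : ↥C → Matrix (Fin n) (Fin n) F := fun g =>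
    ((g : Matrix.SpecialLinearGroup (Fin n) F) : Matrix (Fin n) (Fin n) F)
  have hcol : ∀ g a, a ≠ i → M g a i = 0 := by
    intro g a ha
    simpa [M, ha] using hent g a j
  have hrow : ∀ g b, b ≠ j → M g j b = 0 := by
    intro g b hb
    simpa [M, hb] using (hent g i b).symm
  have hMmul : ∀ g h, M (g * h) = M g * M h := fun g h => rfl
  -- the unipotent radical
  let Qp : ↥C → Prop := fun g => ∀ a b, a ≠ i → b ≠ j → M g a b = (1 : Matrix (Fin n) (Fin n) F) a b
  have hQmul : ∀ g h, Qp g → Qp h → Qp (g * h) := by
    intro g h hg hh a b ha hb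
    rw [hMmul, Matrix.mul_apply]
    rw [Finset.sum_eq_single a]
    · by_cases haj : a = j
      · subst haj
        rw [hrow h b hb, mul_zero, Matrix.one_apply_ne (Ne.symm hb)]
      · rw [hg a a ha haj, hh a b ha hb, Matrix.one_apply_eq, one_mul]
    · intro c _ hca
      by_cases hcj : c = j
      · subst hcj; rw [hrow h b hb, mul_zero]
      · rw [hg a c ha hcj, Matrix.one_apply_ne (Ne.symm hca), zero_mul]
    · exact fun h => absurd (Finset.mem_univ a) h
  have hQone : Qp 1 := fun a b _ _ => rfl
  let Q : Subgroup ↥C :=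
  { carrier := {g | Qp g}
    one_mem' := hQone
    mul_mem' := fun {g h} => hQmul g h
    inv_mem' := fun {g} hg => by
      have hpow : ∀ k : ℕ, Qp (g ^ k) := by
        intro k
        induction k with
        | zero => exact hQone
        | succ k ih => rw [pow_succ]; exact hQmul _ _ ih hg
      obtain ⟨k, hk⟩ : ∃ k : ℕ, g ^ k = g⁻¹ := by
        refine ⟨orderOf g - 1, eq_inv_of_mul_eq_one_left ?_⟩
        rw [← pow_succ, Nat.sub_add_cancel (orderOf_pos g), pow_orderOf_eq_one]
      show Qp g⁻¹
      rw [← hk]
      exact hpow k }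
  have hQn : Q.Normal := by
    refine ⟨fun q hq h => ?_⟩
    intro a b ha hb
    have h1 : M (h * q * h⁻¹) - 1 = M h * (M q - 1) * M h⁻¹ := by
      rw [Matrix.mul_sub, Matrix.sub_mul, hMmul, hMmul, Matrix.mul_one,
        ← hMmul h h⁻¹, mul_inv_cancel]
      rfl
    have h2 := congrFun (congrFun h1 a) b
    rw [Matrix.sub_apply, Matrix.mul_apply] at h2
    rw [← sub_eq_zero, h2]
    refine Finset.sum_eq_zero fun d _ => ?_
    by_cases hdj : d = j
    · subst hdj; rw [hrow h⁻¹ b hb, mul_zero]
    rw [Matrix.mul_apply, Finset.sum_eq_zero, zero_mul]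
    intro c _
    by_cases hci : c = i
    · subst hci; rw [hcol h a ha, zero_mul]
    · rw [Matrix.sub_apply, hq c d hci hdj, sub_self, mul_zero]
  have hQp : IsPGroup 2 ↥Q := by
    intro q
    refine ⟨2, Subtype.ext ?_⟩
    set N := M (q : ↥C) - 1 with hN
    have hN0 : ∀ a b, a ≠ i → b ≠ j → N a b = 0 := fun a b ha hb => by
      rw [hN, Matrix.sub_apply, q.2 a b ha hb, sub_self]
    have hNi : ∀ a, a ≠ i → N a i = 0 := fun a ha => hN0 a i ha hij
    have hNj : ∀ b, b ≠ j → N j b = 0 := fun b hb => hN0 j b hij.symm hb
    have hdiag : ∀ a, M (q : ↥C) a a = 1 := by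
      intro a
      by_cases ha : a = i
      · subst ha
        rcases htwo (M (q : ↥C) a a) with h | h
        · exfalso
          have hdet := (q : ↥C).1.2
          rw [Matrix.det_eq_zero_of_column_eq_zero a] at hdet
          · exact zero_ne_one hdet
          · intro c
            by_cases hc : c = a
            · rw [hc]; exact h
            · exact hcol _ c hc
        · exact h
      by_cases ha' : a = j
      · subst ha'
        rcases htwo (M (q : ↥C) a a) with h | h
        · exfalso
          have hdet := (q : ↥C).1.2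
          rw [Matrix.det_eq_zero_of_row_eq_zero a] at hdet
          · exact zero_ne_one hdet
          · intro c
            by_cases hc : c = a
            · rw [hc]; exact h
            · exact hrow _ c hc
        · exact h
      rw [q.2 a a ha ha', Matrix.one_apply_eq]
    have hNd : ∀ a, N a a = 0 := fun a => by
      rw [hN, Matrix.sub_apply, hdiag a, Matrix.one_apply_eq, sub_self]
    have hNN : ∀ a b, ¬ (a = i ∧ b = j) → (N * N) a b = 0 := by
      intro a b hab
      rw [Matrix.mul_apply]
      refine Finset.sum_eq_zero fun c _ => ?_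
      by_cases hci : c = i
      · subst hci
        by_cases hac : a = c
        · subst hac; rw [hNd, zero_mul]
        · rw [hNi a hac, zero_mul]
      by_cases hcj : c = j
      · subst hcj
        by_cases hbc : b = c
        · subst hbc; rw [hNd, mul_zero]
        · rw [hNj b hbc, mul_zero]
      by_cases ha : a = i
      · rw [hN0 c b hci (fun hb => hab ⟨ha, hb⟩), mul_zero]
      · rw [hN0 a c ha hcj, zero_mul]
    have hN4 : N * N * (N * N) = 0 := by
      ext a b
      rw [Matrix.mul_apply, Matrix.zero_apply]
      refine Finset.sum_eq_zero fun c _ => ?_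
      by_cases hc : c = j
      · subst hc; rw [hNN c b (fun h => hij h.1.symm), mul_zero]
      · rw [hNN a c (fun h => hc h.2), zero_mul]
    have hsq : ∀ X : Matrix (Fin n) (Fin n) F, X + X = 0 → (1 + X) * (1 + X) = 1 + X * X := by
      intro X h
      rw [mul_add, add_mul, add_mul, one_mul, one_mul, mul_one, add_assoc (1 : Matrix (Fin n) (Fin n) F) X,
        ← add_assoc X X, h, zero_add]
    have hmm : M (q : ↥C) * M (q : ↥C) = 1 + N * N := by
      have h2 : N + N = 0 := by
        ext a b
        rw [Matrix.add_apply, ← two_mul, show (2 : F) = 1 + 1 from one_add_one_eq_two.symm, htwo',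
          zero_mul, Matrix.zero_apply]
      rw [show M (q : ↥C) = 1 + N by rw [hN]; abel]
      exact hsq N h2
    have h2 : (N * N) + (N * N) = 0 := by
      ext a b
      rw [Matrix.add_apply, ← two_mul, show (2 : F) = 1 + 1 from one_add_one_eq_two.symm, htwo',
        zero_mul, Matrix.zero_apply]
    have h4 : M ((q : ↥C) ^ 2 ^ 2) = 1 := by
      rw [show (q : ↥C) ^ 2 ^ 2 = (q : ↥C) * q * ((q : ↥C) * q) by simp [pow_succ, mul_assoc],
        hMmul, hMmul, hmm, hsq _ h2, hN4, add_zero]
    refine Subtype.ext (Subtype.ext ?_)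
    simpa [M] using h4
  have hQC : Subgroup.centralizer (Q : Set ↥C) ≤ Q := by
    intro g hg a b ha hb
    by_cases haj : a = j
    · subst haj
      rw [hrow g b hb, Matrix.one_apply_ne (Ne.symm hb)]
    -- the transvection with entry `(i, a)`
    let x : Matrix.SpecialLinearGroup (Fin n) F :=
      ⟨Matrix.transvection i a 1, Matrix.det_transvection_of_ne i a (Ne.symm ha) 1⟩
    have hxC : x ∈ C := by
      rw [Subgroup.mem_centralizer_singleton_iff]
      refine Subtype.ext (Matrix.ext fun c d => ?_)
      show ((x : Matrix (Fin n) (Fin n) F) * t) c d = ((t : Matrix (Fin n) (Fin n) F) * x) c d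
      rw [ht]
      show ((Matrix.transvection i a (1 : F) : Matrix (Fin n) (Fin n) F) * (Matrix.transvection i j (1 : F) : Matrix (Fin n) (Fin n) F)) c d =
        ((Matrix.transvection i j (1 : F) : Matrix (Fin n) (Fin n) F) * (Matrix.transvection i a (1 : F) : Matrix (Fin n) (Fin n) F)) c d
      simp only [Matrix.transvection, Matrix.mul_add, Matrix.add_mul, Matrix.one_mul, Matrix.mul_one]
      rw [Matrix.single_mul_single_of_ne (h := ha), Matrix.single_mul_single_of_ne (h := hij.symm)]
      simp only [Matrix.add_apply, Matrix.zero_apply, add_zero]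
      abel
    have hxQ : (⟨x, hxC⟩ : ↥C) ∈ Q := by
      intro c d hc hd
      show Matrix.transvection i a (1 : F) c d = _
      simp [Matrix.transvection, Matrix.single_apply, Ne.symm hc]
    have hc := congrFun (congrFun (congrArg M (Subgroup.mem_centralizer_iff.mp hg _ hxQ)) i) b
    rw [hMmul, hMmul] at hc
    change (Matrix.transvection i a (1 : F) * M g) i b = (M g * Matrix.transvection i a (1 : F)) i b at hc
    rw [Matrix.transvection_mul_apply_same, one_mul] at hc
    by_cases hba : b = a
    · subst hba
      rw [Matrix.mul_transvection_apply_same, one_mul] at hc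
      have hgi : M g i i = 1 := by
        rcases htwo (M g i i) with h | h
        · exfalso
          have hdet := g.1.2
          rw [Matrix.det_eq_zero_of_column_eq_zero i] at hdet
          · exact zero_ne_one hdet
          · intro c
            by_cases hc' : c = i
            · rw [hc']; exact h
            · exact hcol _ c hc'
        · exact h
      rw [add_right_inj, hgi] at hc
      rw [hc, Matrix.one_apply_eq]
    · rw [Matrix.mul_transvection_apply_of_ne (hb := hba)] at hc
      rw [Matrix.one_apply_ne (Ne.symm hba)]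
      exact add_eq_left.mp hc
  have hQO : Q ≤ Cfsg.pCore 2 ↥C := Cfsg.Comp.le_pCore hQn hQp
  refine le_antisymm ?_ ((Cfsg.Comp.pCore_le_fitting 2).trans le_sup_right)
  refine sup_le (Cfsg.Comp.layer_le_iff.mpr fun L hL => ?_) ?_
  · exfalso
    refine Cfsg.Comp.isComponent_not_isSolvable hL ?_
    haveI : Group.IsNilpotent ↥Q := hQp.isNilpotent
    haveI : Group.IsSolvable ↥Q := inferInstance
    exact Group.isSolvable_of_isSolvable_injective (Subgroup.inclusion_injective
      (((Subgroup.commutator_eq_bot_iff_le_centralizer.mp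
        (Cfsg.Comp.commutator_component_fitting hL)).trans
        (Subgroup.centralizer_le (SetLike.coe_subset_coe.mpr
          (hQO.trans (Cfsg.Comp.pCore_le_fitting 2))))).trans hQC))
  · rw [Cfsg.Comp.fitting_eq_iSup_pCore]
    refine iSup_le fun q => ?_
    by_cases hq : (q : ℕ) = 2
    · rw [hq]
    · haveI := Fact.mk q.2
      have hc : Cfsg.pCore (q : ℕ) ↥C ≤ Subgroup.centralizer (Q : Set ↥C) := by
        intro x hx
        refine Subgroup.mem_centralizer_iff.mpr fun y hy => ?_
        exact (Subgroup.commute_of_normal_of_disjoint _ _ (Cfsg.pCore_normal _ _) hQn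
          (IsPGroup.disjoint_of_ne _ 2 hq _ _ (Cfsg.Comp.pCore_isPGroup _) hQp) x y hx hy).eq.symm
      exact (hc.trans hQC).trans hQO

end Cfsg.Agent.S1339
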