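import Cfsg.Statements.S1340
import Cfsg.Agent.H9.PointBlock2
import Cfsg.Agent.CompPComp
-- import your own Cfsg.Agent.* helpers here

set_option autoImplicit false
open Cfsg

namespace Cfsg.Agent.S1340

/-- Let F be a finite field of odd order and n ≥ 3 with (n, |F|) ≠ (3, 3). Then GL(n, F) has a non-central involution t such that C(t) / O(C(t)) has a component. -/
theorem result {F : Type*} [Field F] [Fintype F] [DecidableEq F] (hF : Odd (Fintype.card F)) (n : ℕ) (hn : 3 ≤ n) (h33 : ¬ (n = 3 ∧ Fintype.card F = 3)) : ∃ t : Matrix.GeneralLinearGroup (Fin n) F, orderOf t = 2 ∧ t ∉ Subgroup.center (Matrix.GeneralLinearGroup (Fin n) F) ∧ Cfsg.HasComponent (↥(Subgroup.centralizer ({t} : Set (Matrix.GeneralLinearGroup (Fin n) F))) ⧸ Cfsg.oddCore ↥(Subgroup.centralizer ({t} : Set (Matrix.GeneralLinearGroup (Fin n) F)))) := by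
  classical
  haveI : Fact (Nat.Prime 2) := ⟨Nat.prime_two⟩
  let i0 : Fin n := ⟨0, by omega⟩
  have hne1 : (-1 : F) ≠ 1 := by
    intro h
    have h2 : ((2 : ℕ) : F) = 0 := by
      have h' : (1 : F) + 1 = 0 := by
        nth_rewrite 2 [← h]
        simp
      simpa [one_add_one_eq_two] using h'
    rcases CharP.exists F with ⟨p, hp⟩
    haveI := hp
    obtain ⟨k, hprime, hk⟩ := FiniteField.card F p
    have hp2 : p ∣ 2 := (CharP.cast_eq_zero_iff F p 2).mp h2
    rw [(Nat.prime_dvd_prime_iff_eq hprime Nat.prime_two).mp hp2] at hk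
    rw [hk] at hF
    exact absurd hF (by simp [Nat.odd_pow_iff, k.pos.ne'])
  let d : Fin n → F := fun k => if k = i0 then -1 else 1
  let t : Matrix.GeneralLinearGroup (Fin n) F :=
    Matrix.GeneralLinearGroup.mkOfDetNeZero (Matrix.diagonal d)
      (by simp [d, Matrix.det_diagonal, Finset.prod_ite_eq'])
  have htv : (t : Matrix (Fin n) (Fin n) F) = Matrix.diagonal d := rfl
  set C := Subgroup.centralizer ({t} : Set (Matrix.GeneralLinearGroup (Fin n) F))
  have hC : ∀ g, g ∈ C ↔ H9.InC i0 (g : Matrix (Fin n) (Fin n) F) := by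
    intro g
    rw [Subgroup.mem_centralizer_singleton_iff, Units.ext_iff, Units.val_mul, Units.val_mul, htv,
      ← H9.commute_diag_iff i0 d 1 (-1) (Ne.symm hne1) (fun k hk => if_neg hk) (if_pos rfl)]
    exact eq_comm
  refine ⟨t, orderOf_eq_prime ?_ ?_, ?_, ?_⟩
  · refine Units.ext ?_
    rw [Units.val_pow_eq_pow_val, htv, Matrix.diagonal_pow, Units.val_one, ← Matrix.diagonal_one]
    congr 1
    funext k
    by_cases hk : k = i0 <;> simp [d, hk]
  · intro h
    have h1 := congrArg (fun g : Matrix.GeneralLinearGroup (Fin n) F => (g : Matrix (Fin n) (Fin n) F) i0 i0) h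
    simp only [htv, Units.val_one, Matrix.diagonal_apply_eq, Matrix.one_apply_eq, d, if_pos] at h1
    exact hne1 h1
  · intro hc
    let i1 : Fin n := ⟨1, by omega⟩
    have h01 : i0 ≠ i1 := by simp [i0, i1, Fin.ext_iff]
    let x : Matrix.GeneralLinearGroup (Fin n) F :=
      Matrix.GeneralLinearGroup.mkOfDetNeZero (Matrix.transvection i0 i1 1)
        (by rw [Matrix.det_transvection_of_ne _ _ h01]; exact one_ne_zero)
    have hx : H9.InC i0 (x : Matrix (Fin n) (Fin n) F) :=
      (hC x).mp (Subgroup.mem_centralizer_singleton_iff.mpr (Subgroup.mem_center_iff.mp hc x))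
    have h1 := (hx i1 (Ne.symm h01)).2
    rw [show (x : Matrix (Fin n) (Fin n) F) = Matrix.transvection i0 i1 1 from rfl] at h1
    simp [Matrix.transvection, h01] at h1
  -- the special linear group of the large block
  have hψC : ∀ B, Matrix.SpecialLinearGroup.toGL (H9.slBlock (F := F) i0 B) ∈ C := fun B =>
    (hC _).mpr (H9.inC_blockEmb i0 B.1)
  let ψ : Matrix.SpecialLinearGroup (H9.Rest i0) F →* ↥C :=
    ((Matrix.SpecialLinearGroup.toGL).comp (H9.slBlock i0)).codRestrict C hψC
  let P : ↥C →* F × F :=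
    { toFun := fun g => ((g.1 : Matrix (Fin n) (Fin n) F) i0 i0, (g.1 : Matrix (Fin n) (Fin n) F).det)
      map_one' := by simp
      map_mul' := fun a b => by
        simp only [Subgroup.coe_mul, Units.val_mul, Matrix.det_mul,
          H9.InC.mul_apply_self i0 ((hC _).mp b.2), Prod.mk_mul_mk] }
  have hrange : ψ.range = P.ker := by
    ext g
    constructor
    · rintro ⟨B, rfl⟩
      exact Prod.ext (H9.blockEmb_apply_self i0 B.1) ((H9.det_blockEmb i0 B.1).trans B.2)
    · intro hg
      obtain ⟨h1, h2⟩ := Prod.ext_iff.mp hg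
      obtain ⟨B, hB⟩ := H9.exists_slBlock_eq i0
        (g := ⟨(g.1 : Matrix (Fin n) (Fin n) F), h2⟩) ((hC _).mp g.2) h1
      exact ⟨B, Subtype.ext (Units.ext (congrArg Subtype.val hB))⟩
  have hψinj : Function.Injective ψ := by
    intro a b h
    refine H9.slBlock_injective i0 (Subtype.ext ?_)
    exact congrArg (fun x : ↥C => ((x.1 : Matrix (Fin n) (Fin n) F))) h
  have hcard : Fintype.card (H9.Rest i0) = n - 1 :=
    H9.card_rest i0 (by rw [Fintype.card_fin]; omega)
  have hqs : Cfsg.IsQuasisimple (Matrix.SpecialLinearGroup (H9.Rest i0) F) := by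
    refine H9.isQuasisimple_SL_fintype hcard (by omega) ?_
    rw [Nat.card_eq_fintype_card]
    have : 1 < Fintype.card F := Fintype.one_lt_card
    obtain ⟨k, hk⟩ := hF
    omega
  haveI : (Cfsg.oddCore ↥C).Normal := Subgroup.sSup_normal _ (fun _ h => h.1)
  set q := QuotientGroup.mk' (Cfsg.oddCore ↥C) with hq
  -- an involution in the image
  obtain ⟨u, hu⟩ : ∃ u : Matrix.SpecialLinearGroup (H9.Rest i0) F, orderOf u = 2 := by
    let a : H9.Rest i0 := ⟨⟨1, by omega⟩, by simp [i0, Fin.ext_iff]⟩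
    let b : H9.Rest i0 := ⟨⟨2, by omega⟩, by simp [i0, Fin.ext_iff]⟩
    have hab : a ≠ b := by simp [a, b, Fin.ext_iff]
    have hd : ∀ v : H9.Rest i0 → F,
        Matrix.SpecialLinearGroup.diag2n hab (-1 : F) (by simp) • v =
          fun k => (if k = a then -1 else if k = b then (-1 : F)⁻¹ else 1) * v k := fun v => by
      funext k
      exact Matrix.mulVec_diagonal _ _ _
    refine ⟨Matrix.SpecialLinearGroup.diag2n hab (-1 : F) (by simp), orderOf_eq_prime ?_ ?_⟩
    · apply H37.SL_ext_smul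
      intro v
      rw [pow_two, mul_smul, hd, hd, one_smul]
      funext k
      dsimp only
      split_ifs <;> simp
    · intro h
      have h1 := hd (fun _ => 1)
      rw [h, one_smul] at h1
      have h2 := congrFun h1 a
      simp only [if_pos, mul_one] at h2
      exact hne1 h2.symm
  let f : Matrix.SpecialLinearGroup (H9.Rest i0) F →* ↥((ψ.range).map q) :=
    (q.comp ψ).codRestrict _ (fun B => ⟨ψ B, ⟨B, rfl⟩, rfl⟩)
  have hf : Function.Surjective f := by
    rintro ⟨_, _, ⟨B, rfl⟩, rfl⟩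
    exact ⟨B, rfl⟩
  haveI : Nontrivial ↥((ψ.range).map q) := by
    rw [Subgroup.nontrivial_iff_ne_bot, Ne, Subgroup.map_eq_bot_iff, hq, QuotientGroup.ker_mk']
    intro hle
    have hdvd := Subgroup.orderOf_dvd_natCard _ (hle ⟨u, rfl⟩)
    rw [orderOf_injective ψ hψinj, hu] at hdvd
    exact Cfsg.Comp.not_dvd_card_pPrimeCore 2 hdvd
  refine ⟨(ψ.range).map q, ?_, Cfsg.Comp.isQuasisimple_of_surjective hqs f hf⟩
  rw [hrange]
  exact ((MonoidHom.normal_ker P).map q (QuotientGroup.mk'_surjective _)).isSubnormal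

end Cfsg.Agent.S1340
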