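import Cfsg.Statements.S1346
import Cfsg.Agent.H85.CoreBalance

set_option autoImplicit false
open Cfsg

namespace Cfsg.Agent.S1346

/-- Let G be a finite group all of whose 2-local subgroups have known non-abelian composition factors, and x, y commuting involutions. Then the extended 2-layer of L*_{2'}(C_G(x)) ∩ C_G(y) (as a group) is contained in L*_{2'}(C_G(y)). -/
theorem result {G : Type*} [Group G] [Finite G] (hK : ∀ T : Subgroup G, IsPGroup 2 ↥T → T ≠ ⊥ → Cfsg.IsCompositionKGroup ↥(Subgroup.normalizer (T : Set G))) (x y : G) (hx : orderOf x = 2) (hy : orderOf y = 2) (hxy : x * y = y * x) : (Cfsg.extendedTwoLayer ↥((Cfsg.extendedTwoLayer ↥(Subgroup.centralizer ({x} : Set G))).map (Subgroup.centralizer ({x} : Set G)).subtype ⊓ Subgroup.centralizer ({y} : Set G))).map ((Cfsg.extendedTwoLayer ↥(Subgroup.centralizer ({x} : Set G))).map (Subgroup.centralizer ({x} : Set G)).subtype ⊓ Subgroup.centralizer ({y} : Set G)).subtype ≤ (Cfsg.extendedTwoLayer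 ↥(Subgroup.centralizer ({y} : Set G))).map (Subgroup.centralizer ({y} : Set G)).subtype := by
  set Cx := Subgroup.centralizer ({x} : Set G) with hCx
  set Cy := Subgroup.centralizer ({y} : Set G) with hCy
  set Lx := (Cfsg.extendedTwoLayer ↥Cx).map Cx.subtype with hLx
  have hxy' : x ∈ Cy := Subgroup.mem_centralizer_singleton_iff.2 hxy
  let f : ↥(Lx ⊓ Cy) →* ↥Cy := Subgroup.inclusion inf_le_right
  set R : Subgroup ↥Cy := Subgroup.zpowers ⟨x, hxy'⟩ with hRdef
  have hR : IsPGroup 2 ↥R := IsPGroup.of_card (n := 1) (by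
    rw [hRdef, Nat.card_zpowers, pow_one, ← Subgroup.orderOf_coe]; exact hx)
  have hC : ∀ c : ↥Cy, c ∈ Subgroup.centralizer (R : Set ↥Cy) ↔ (c : G) ∈ Cx := fun c => by
    rw [hRdef, Subgroup.zpowers_eq_closure, Subgroup.centralizer_closure, Subgroup.mem_centralizer_singleton_iff,
      Subgroup.mem_centralizer_singleton_iff, Subtype.ext_iff]
    rfl
  have hn : ((Cfsg.extendedTwoLayer ↥Cx)).Normal := Cfsg.Agent.H9.extendedTwoLayer_normal
  have hrange : f.range ≤ Subgroup.centralizer (R : Set ↥Cy) := by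
    rintro _ ⟨w, rfl⟩
    exact (hC _).2 (Subgroup.map_subtype_le _ w.2.1)
  have hnorm : ∀ c ∈ Subgroup.centralizer (R : Set ↥Cy), ∀ a ∈ f.range, c * a * c⁻¹ ∈ f.range := by
    rintro c hc _ ⟨⟨w, ⟨v, hv, hvw⟩, hwy⟩, rfl⟩
    refine ⟨⟨(c : G) * w * (c : G)⁻¹, ⟨⟨c, (hC c).1 hc⟩ * v * ⟨c, (hC c).1 hc⟩⁻¹,
      hn.conj_mem v hv _, by simp [← hvw]⟩,
      Subgroup.mul_mem _ (Subgroup.mul_mem _ c.2 hwy) (Subgroup.inv_mem _ c.2)⟩, rfl⟩
  have h := Subgroup.map_mono (f := Cy.subtype)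
    (H85.CoreBal.map_extendedTwoLayer_le f (Subgroup.inclusion_injective _) R hR hrange hnorm)
  rw [Subgroup.map_map] at h
  exact h

end Cfsg.Agent.S1346
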