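import Cfsg.Statements.S1348
import Cfsg.Agent.H9.PointBlock2
import Cfsg.Agent.CompPComp
-- import your own Cfsg.Agent.* helpers here

set_option autoImplicit false
open Cfsg

namespace Cfsg.Agent.S1348

/-- Let F be a finite field of odd order, n ≥ 7 odd, and t ∈ SL(n, F) the diagonal matrix with entries −1, …, −1, 1. Then E(C(t)) is a standard subgroup of SL(n, F). -/
theorem result {F : Type*} [Field F] [Fintype F] [DecidableEq F] (hF : Odd (Fintype.card F)) (n : ℕ) (hn : 7 ≤ n) (hodd : Odd n) (t : Matrix.SpecialLinearGroup (Fin n) F) (ht : (t : Matrix (Fin n) (Fin n) F) = Matrix.diagonal (fun i : Fin n => if (i : ℕ) + 1 = n then (1 : F) else -1)) : Cfsg.IsStandardSubgroup ((Cfsg.layer ↥(Subgroup.centralizer ({t} : Set (Matrix.SpecialLinearGroup (Fin n) F)))).map (Subgroup.centralizer ({t} : Set (Matrix.SpecialLinearGroup (Fin n) F))).subtype) := by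
  classical
  let i0 : Fin n := ⟨n - 1, by omega⟩
  have hne1 : (-1 : F) ≠ 1 := by
    intro h
    have h2 : ((2 : ℕ) : F) = 0 := by
      have h' : (1 : F) + 1 = 0 := by
        nth_rewrite 2 [← h]
        simp
      simpa [one_add_one_eq_two] using h'
    rcases CharP.exists F with ⟨p, hp⟩
    haveI := hp
    obtain ⟨k, hprime, hk⟩ := FiniteField.card F p
    have hp2 : p ∣ 2 := (CharP.cast_eq_zero_iff F p 2).mp h2
    rw [(Nat.prime_dvd_prime_iff_eq hprime Nat.prime_two).mp hp2] at hk
    rw [hk] at hF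
    exact absurd hF (by simp [Nat.odd_pow_iff, k.pos.ne'])
  let d : Fin n → F := fun k => if k = i0 then 1 else -1
  have htd : (t : Matrix (Fin n) (Fin n) F) = Matrix.diagonal d := by
    rw [ht]
    congr 1
    funext k
    simp only [d, i0, Fin.ext_iff]
    by_cases hk : (k : ℕ) + 1 = n
    · rw [if_pos hk, if_pos (by omega)]
    · rw [if_neg hk, if_neg (by omega)]
  set C := Subgroup.centralizer ({t} : Set (Matrix.SpecialLinearGroup (Fin n) F)) with hCdef
  have hC : ∀ g, g ∈ C ↔ H9.InC i0 (g : Matrix (Fin n) (Fin n) F) := by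
    intro g
    rw [hCdef, Subgroup.mem_centralizer_singleton_iff]
    refine Subtype.ext_iff.trans ?_
    rw [Matrix.SpecialLinearGroup.coe_mul, Matrix.SpecialLinearGroup.coe_mul, htd,
      ← H9.commute_diag_iff i0 d (-1) 1 hne1 (fun k hk => if_neg hk) (if_pos rfl)]
    exact eq_comm
  set R := (H9.slBlock (F := F) i0).range with hRdef
  have hRC : R ≤ C := by
    rintro _ ⟨B, rfl⟩
    exact (hC _).mpr (H9.inC_blockEmb i0 B.1)
  let P : ↥C →* F :=
    { toFun := fun g => (g.1 : Matrix (Fin n) (Fin n) F) i0 i0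
      map_one' := by simp
      map_mul' := fun a b => H9.InC.mul_apply_self i0 ((hC _).mp b.2) }
  have hker : R.subgroupOf C = P.ker := by
    ext g
    rw [Subgroup.mem_subgroupOf]
    constructor
    · rintro ⟨B, hB⟩
      show (g.1 : Matrix (Fin n) (Fin n) F) i0 i0 = 1
      rw [← hB]
      exact H9.blockEmb_apply_self i0 B.1
    · intro hg
      exact H9.exists_slBlock_eq i0 ((hC _).mp g.2) hg
  have hcard : Fintype.card (H9.Rest i0) = n - 1 :=
    H9.card_rest i0 (by rw [Fintype.card_fin]; omega)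
  have hRq : Cfsg.IsQuasisimple ↥R :=
    Cfsg.Comp.isQuasisimple_of_equiv (MonoidHom.ofInjective (H9.slBlock_injective i0))
      (H9.isQuasisimple_SL_fintype hcard (by omega) (Or.inl (by omega)))
  have htR : t ∈ R := by
    have h1 : (t : Matrix (Fin n) (Fin n) F) i0 i0 = 1 := by
      rw [htd, Matrix.diagonal_apply_eq]; exact if_pos rfl
    exact H9.exists_slBlock_eq i0
      ((hC _).mp (Subgroup.mem_centralizer_singleton_iff.mpr rfl)) h1
  set K := Subgroup.centralizer (R : Set (Matrix.SpecialLinearGroup (Fin n) F)) with hKdef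
  have hKC : K ≤ C := by
    intro g hg
    rw [hCdef, Subgroup.mem_centralizer_singleton_iff]
    exact (Subgroup.mem_centralizer_iff.mp hg t htR).symm
  have htK : t ∈ K := by
    rw [hKdef, Subgroup.mem_centralizer_iff]
    intro r hr
    exact Subgroup.mem_centralizer_singleton_iff.mp (hRC hr)
  have hscal : ∀ g ∈ K, ∃ r : F, ∀ a b, a ≠ i0 → b ≠ i0 →
      (g : Matrix (Fin n) (Fin n) F) a b = if a = b then r else 0 := by
    intro g hg
    refine H9.scalar_of_commute i0 ((hC g).mp (hKC hg)) fun B hB => ?_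
    exact congrArg Subtype.val (Subgroup.mem_centralizer_iff.mp hg _ ⟨⟨B, hB⟩, rfl⟩)
  have hdiag : ∀ g ∈ K, ∀ a b, a ≠ b → (g : Matrix (Fin n) (Fin n) F) a b = 0 := by
    intro g hg a b hab
    obtain ⟨r, hr⟩ := hscal g hg
    by_cases ha : a = i0
    · subst ha; exact (((hC g).mp (hKC hg)) b (Ne.symm hab)).2
    by_cases hb : b = i0
    · subst hb; exact (((hC g).mp (hKC hg)) a hab).1
    rw [hr a b ha hb, if_neg hab]
  have hKcomm : IsMulCommutative ↥K := by
    refine ⟨⟨fun g h => Subtype.ext (Subtype.ext ?_)⟩⟩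
    have hg : (g.1 : Matrix (Fin n) (Fin n) F) = Matrix.diagonal fun a => (g.1 : Matrix (Fin n) (Fin n) F) a a := by
      ext a b
      by_cases hab : a = b
      · subst hab; simp
      · rw [hdiag _ g.2 a b hab, Matrix.diagonal_apply_ne _ hab]
    have hh : (h.1 : Matrix (Fin n) (Fin n) F) = Matrix.diagonal fun a => (h.1 : Matrix (Fin n) (Fin n) F) a a := by
      ext a b
      by_cases hab : a = b
      · subst hab; simp
      · rw [hdiag _ h.2 a b hab, Matrix.diagonal_apply_ne _ hab]
    show (g.1 : Matrix (Fin n) (Fin n) F) * (h.1 : Matrix (Fin n) (Fin n) F) = (h.1 : Matrix (Fin n) (Fin n) F) * (g.1 : Matrix (Fin n) (Fin n) F)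
    rw [hg, hh, Matrix.diagonal_mul_diagonal, Matrix.diagonal_mul_diagonal]
    congr 1
    funext a
    ring
  -- the unique involution of `K`
  have huniq : ∀ g ∈ K, orderOf g = 2 → g = t := by
    intro g hg hg2
    obtain ⟨r, hr⟩ := hscal g hg
    have hsq : ∀ a, (g : Matrix (Fin n) (Fin n) F) a a * (g : Matrix (Fin n) (Fin n) F) a a = 1 := by
      intro a
      have h1 : g * g = 1 := by rw [← pow_two, ← hg2]; exact pow_orderOf_eq_one g
      have h2 := congrFun (congrFun (congrArg Subtype.val h1) a) a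
      rw [Matrix.SpecialLinearGroup.coe_mul, Matrix.SpecialLinearGroup.coe_one, Matrix.mul_apply,
        Finset.sum_eq_single a (fun k _ hk => by rw [hdiag g hg a k (Ne.symm hk), zero_mul])
        (fun h => absurd (Finset.mem_univ a) h), Matrix.one_apply_eq] at h2
      exact h2
    have hgd : (g : Matrix (Fin n) (Fin n) F) =
        Matrix.diagonal fun a => if a = i0 then (g : Matrix (Fin n) (Fin n) F) i0 i0 else r := by
      ext a b
      by_cases hab : a = b
      · subst hab
        rw [Matrix.diagonal_apply_eq]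
        by_cases ha : a = i0
        · subst ha; rw [if_pos rfl]
        · rw [if_neg ha, hr a a ha ha, if_pos rfl]
      · rw [hdiag g hg a b hab, Matrix.diagonal_apply_ne _ hab]
    obtain ⟨a0, ha0⟩ : ∃ a, a ≠ i0 := ⟨⟨0, by omega⟩, by simp [i0, Fin.ext_iff]; omega⟩
    have hr2 : r * r = 1 := by have := hsq a0; rwa [hr a0 a0 ha0 ha0, if_pos rfl] at this
    have hdet := g.2
    rw [hgd, Matrix.det_diagonal, Fintype.prod_eq_mul_prod_compl i0, if_pos rfl] at hdet
    rw [Finset.prod_congr rfl (fun a ha => if_neg (by simpa using ha)), Finset.prod_const,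
      Finset.card_compl, Fintype.card_fin, Finset.card_singleton] at hdet
    obtain ⟨m, hm⟩ := hodd
    rw [show n - 1 = 2 * m by omega, pow_mul, pow_two, hr2, one_pow, mul_one] at hdet
    rcases mul_self_eq_one_iff.mp hr2 with hr1 | hr1
    · exfalso
      have : g = 1 := Subtype.ext (by
        rw [hgd, Matrix.SpecialLinearGroup.coe_one, ← Matrix.diagonal_one]
        congr 1
        funext a
        rw [hdet, hr1, ite_self])
      rw [this, orderOf_one] at hg2
      exact absurd hg2 (by norm_num)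
    · refine Subtype.ext ?_
      rw [htd, hgd]
      congr 1
      funext a
      simp only [d]
      rw [hdet, hr1]
  have hto : orderOf t = 2 := by
    refine orderOf_eq_prime (Subtype.ext ?_) fun h => hne1 ?_
    · rw [Matrix.SpecialLinearGroup.coe_pow, htd, Matrix.diagonal_pow,
        Matrix.SpecialLinearGroup.coe_one, ← Matrix.diagonal_one]
      congr 1
      funext k
      by_cases hk : k = i0 <;> simp [d, hk]
    · obtain ⟨a0, ha0⟩ : ∃ a, a ≠ i0 := ⟨⟨0, by omega⟩, by simp [i0, Fin.ext_iff]; omega⟩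
      have h1 := congrFun (congrFun (congrArg Subtype.val h) a0) a0
      rw [htd, Matrix.diagonal_apply_eq] at h1
      simpa [d, ha0] using h1
  -- the layer of the centralizer
  have hlayer : (Cfsg.layer ↥C).map C.subtype = R := by
    have hcomp : Cfsg.IsComponent (R.subgroupOf C) :=
      ⟨by rw [hker]; exact (MonoidHom.normal_ker P).isSubnormal,
        Cfsg.Comp.isQuasisimple_of_equiv (Subgroup.subgroupOfEquivOfLe hRC).symm hRq⟩
    refine le_antisymm ?_ ?_
    · refine Subgroup.map_le_iff_le_comap.mpr (Cfsg.Comp.layer_le_iff.mpr fun L hL => ?_)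
      rcases Cfsg.Comp.component_eq_or_commute hL hcomp with h | h
      · exact h.le
      · exfalso
        have hLK : L.map C.subtype ≤ K := by
          rintro _ ⟨l, hl, rfl⟩
          rw [hKdef, Subgroup.mem_centralizer_iff]
          intro r hr
          exact (congrArg Subtype.val (Cfsg.Comp.commute_of_commutator_eq_bot h hl
            (y := ⟨r, hRC hr⟩) (Subgroup.mem_subgroupOf.mpr hr))).symm
        refine Cfsg.Comp.isComponent_not_le_centralizer hL fun x hx => ?_
        refine Subgroup.mem_centralizer_iff.mpr fun y hy => C.subtype_injective ?_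
        rw [map_mul, map_mul]
        exact congrArg Subtype.val
          (hKcomm.is_comm.comm ⟨_, hLK ⟨y, hy, rfl⟩⟩ ⟨_, hLK ⟨x, hx, rfl⟩⟩)
    · intro r hr
      exact ⟨⟨r, hRC hr⟩, Cfsg.Comp.le_layer hcomp (Subgroup.mem_subgroupOf.mpr hr), rfl⟩
  rw [hlayer]
  have hCR : C ≤ Subgroup.normalizer (R : Set (Matrix.SpecialLinearGroup (Fin n) F)) := by
    haveI : (R.subgroupOf C).Normal := by rw [hker]; exact MonoidHom.normal_ker P
    exact (Subgroup.normal_subgroupOf_iff_le_normalizer hRC).mp inferInstance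
  have hconjK : ∀ g, g * t * g⁻¹ ∈ K → g ∈ C := by
    intro g hgt
    have h := huniq _ hgt ((MulEquiv.orderOf_eq (MulAut.conj g) t).trans hto)
    rw [hCdef, Subgroup.mem_centralizer_singleton_iff]
    calc g * t = g * t * g⁻¹ * g := by group
      _ = t * g := by rw [h]
  have hRK : Subgroup.normalizer (R : Set (Matrix.SpecialLinearGroup (Fin n) F)) ≤
      Subgroup.normalizer (K : Set (Matrix.SpecialLinearGroup (Fin n) F)) :=
    Cfsg.Comp.le_normalizer_centralizer le_rfl
  refine ⟨hRq, ⟨?_, ?_⟩, ?_, ?_⟩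
  · rw [even_iff_two_dvd, ← hto]
    exact Subgroup.orderOf_dvd_natCard _ htK
  · intro g hg
    rw [Nat.odd_iff, ← Nat.two_dvd_ne_zero]
    intro hd
    haveI : Fact (Nat.Prime 2) := ⟨Nat.prime_two⟩
    obtain ⟨x, hx⟩ := exists_prime_orderOf_dvd_card'
      (G := ↥(K ⊓ K.map (MulAut.conj g).toMonoidHom)) 2 hd
    obtain ⟨hxK, k, hk, hkx⟩ := x.2
    have hxo : orderOf (x : Matrix.SpecialLinearGroup (Fin n) F) = 2 := by
      rw [Subgroup.orderOf_coe]; exact hx
    have hko : orderOf k = 2 := by
      rw [← hxo, ← hkx]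
      exact (MulEquiv.orderOf_eq (MulAut.conj g) k).symm
    have hgt : g * t * g⁻¹ ∈ K := by
      rw [← huniq k hk hko, show g * k * g⁻¹ = (x : Matrix.SpecialLinearGroup (Fin n) F) from hkx]
      exact hxK
    exact hg (hRK (hCR (hconjK g hgt)))
  · intro g _ hbot
    have hle : R.map (MulAut.conj g).toMonoidHom ≤ K := by
      rw [hKdef]
      exact Subgroup.commutator_eq_bot_iff_le_centralizer.mp
        (by rw [Subgroup.commutator_comm]; exact hbot)
    refine Cfsg.Comp.not_isMulCommutative_of_quasisimple hRq ⟨⟨fun a b => Subtype.ext ?_⟩⟩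
    have h := congrArg Subtype.val (hKcomm.is_comm.comm ⟨_, hle ⟨a, a.2, rfl⟩⟩ ⟨_, hle ⟨b, b.2, rfl⟩⟩)
    have h' : g * (a : Matrix.SpecialLinearGroup (Fin n) F) * g⁻¹ * (g * b * g⁻¹) =
        g * b * g⁻¹ * (g * a * g⁻¹) := h
    refine (MulAut.conj g).injective ?_
    rw [Subgroup.coe_mul, Subgroup.coe_mul, map_mul, map_mul]
    exact h'
  · refine le_antisymm hRK fun g hg => hCR (hconjK g ?_)
    exact (Subgroup.mem_normalizer_iff.mp hg t).mp htK

end Cfsg.Agent.S1348
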