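import Cfsg.Statements.S1388
import Cfsg.Agent.H81.TypeP

set_option autoImplicit false
open Cfsg

namespace Cfsg.Agent.S1388

/-- Let M be a subgroup of a finite group G with type-P data (W₁, U, W₂) and H = M_F. Then the derived subgroup of U centralizes H, and if U ≠ 1 then U does not centralize H. -/
theorem result {G : Type*} [Group G] [Finite G] (M W₁ U W₂ : Subgroup G) (hP : Cfsg.IsTypePWith M W₁ U W₂) :
    ⁅U, U⁆ ≤ Subgroup.centralizer (Cfsg.fittingHallOf M : Set G) ∧ (U ≠ ⊥ → ¬ U ≤ Subgroup.centralizer (Cfsg.fittingHallOf M : Set G)) := by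
  have hUM : U ≤ M := hP.U_compl.2.1.trans (H81.derived_le M)
  refine ⟨?_, ?_⟩
  · intro u hu
    have h1 : u ∈ ⁅⁅M, M⁆, ⁅M, M⁆⁆ :=
      Subgroup.commutator_mono hP.U_compl.2.1 hP.U_compl.2.1 hu
    have h2 : u ∈ Cfsg.fittingOf M := by
      rw [← hP.fitting_eq]; exact hP.derived_two_le h1
    exact H81.typeP_fitting_mem_U hP ⟨h2, U.commutator_le_self hu⟩
  · intro hU hUC
    apply hU
    have hD : ⁅M, M⁆ = Cfsg.fittingOf M := by
      refine le_antisymm ?_ hP.fitting_le
      intro m hm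
      obtain ⟨a, ha, b, hb, rfl⟩ := hP.U_compl.2.2.2 m hm
      rw [← hP.fitting_eq]
      exact Subgroup.mul_mem_sup ha ⟨hUM hb, hUC hb⟩
    have hDc : (Nat.card ↥(Cfsg.fittingSubgroup ↥M)).Coprime (Cfsg.fittingSubgroup ↥M).index := by
      have h1 := H81.card_eq_relIndex_of_isComplIn hP.W₁_compl
      have h2 := hP.W₁_hall.symm
      rw [← h1.2, h1.1, hD, Subgroup.relIndex, H81.subgroupOf_fittingOf, Cfsg.fittingOf,
        Subgroup.card_map_of_injective M.subtype_injective] at h2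
      exact h2
    haveI := H81.fittingSubgroup_normal' ↥M
    have hle : Cfsg.fittingOf M ≤ Cfsg.fittingHallOf M :=
      Subgroup.map_mono (H81.le_fittingHall (H81.fittingSubgroup_nilpotent ↥M) hDc)
    rw [eq_bot_iff]
    intro u hu
    have : u ∈ Cfsg.fittingHallOf M ⊓ U := ⟨hle (hD ▸ hP.U_compl.2.1 hu), hu⟩
    rw [hP.U_compl.2.2.1] at this
    exact this

end Cfsg.Agent.S1388
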