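import Cfsg.Statements.S1441
import Cfsg.Agent.H83.TrivAction
-- import your own Cfsg.Agent.* helpers here

set_option autoImplicit false
open Cfsg
open scoped commutatorElement

namespace Cfsg.Agent.S1441

/-- Let G be a finite group, H a solvable subgroup and A a subgroup normalizing H. Suppose there is a chain H = H₀ ≥ H₁ ≥ ⋯ ≥ H_n = 1 of subgroups normal in H and normalized by A such that A acts trivially on each factor H_{i-1}/H_i (that is, [H_{i-1}, A] ≤ H_i). Then every prime dividing the index of C_A(H) in A divides the order of H. -/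
theorem result {G : Type*} [Group G] [Finite G] (H A : Subgroup G) (hH : Group.IsSolvable H) (hA : (A ≤ Subgroup.normalizer (H : Set G)))
    (n : ℕ) (c : Fin (n + 1) → Subgroup G) (hc0 : c 0 = H) (hcn : c (Fin.last n) = ⊥) (hanti : Antitone c)
    (hcN : ∀ i, H ≤ Subgroup.normalizer ((c i : Subgroup G) : Set G)) (hcA : ∀ i, A ≤ Subgroup.normalizer ((c i : Subgroup G) : Set G))
    (htriv : ∀ i : Fin n, ⁅c i.castSucc, A⁆ ≤ c i.succ) :
    ∀ p : ℕ, p.Prime → p ∣ (A ⊓ Subgroup.centralizer (H : Set G)).relIndex A → p ∣ Nat.card H := by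
  intro p hp hdvd
  by_contra hpH
  have : Fact p.Prime := ⟨hp⟩
  obtain ⟨P⟩ : Nonempty (Sylow p A) := inferInstance
  have hPC : (P : Subgroup A) ≤ (A ⊓ Subgroup.centralizer (H : Set G)).subgroupOf A := by
    intro a ha
    have hord : (orderOf (a : G)).Coprime (Nat.card H) := by
      obtain ⟨k, hk⟩ := IsPGroup.iff_orderOf.mp P.isPGroup' ⟨a, ha⟩
      rw [Subgroup.orderOf_coe]
      rw [Subgroup.orderOf_mk] at hk
      rw [hk]
      exact Nat.Coprime.pow_left _ (hp.coprime_iff_not_dvd.mpr hpH)
    refine Subgroup.mem_inf.mpr ⟨a.2, ?_⟩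
    have key : ∀ i : Fin (n + 1), ∀ h ∈ c i, (a : G) * h = h * a := by
      intro i
      induction i using Fin.reverseInduction with
      | last =>
        intro h hh
        rw [hcn, Subgroup.mem_bot] at hh
        subst hh; simp
      | cast i ih =>
        intro h hh
        have hle : c i.castSucc ≤ H := hc0 ▸ hanti (Fin.zero_le _)
        refine H83.commute_of_fixed_commutator hord (H83.conj_commutator_mem hA a.2 (hle hh)) ?_
        refine ih _ ?_
        have := Subgroup.commutator_mem_commutator a.2 hh
        rw [Subgroup.commutator_comm] at this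
        exact htriv i (by simpa [commutatorElement_def] using this)
    refine Subgroup.mem_centralizer_iff.mpr ?_
    intro h hh
    exact (key 0 h (hc0.symm ▸ hh)).symm
  exact P.not_dvd_index (dvd_trans hdvd (Subgroup.index_dvd_of_le hPC))

end Cfsg.Agent.S1441
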