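import Cfsg.Statements.S1447
import Cfsg.Agent.H83.Metacyclic
import Cfsg.Agent.H83.NormalSquare
import Cfsg.Agent.H82.PRankOne
-- import your own Cfsg.Agent.* helpers here

set_option autoImplicit false
open Cfsg
open scoped commutatorElement

namespace Cfsg.Agent.S1447

/-- Let G be a finite group, p an odd prime, R a metacyclic p-subgroup and A a subgroup of order coprime to p normalizing R. Then [R, A] is abelian; R is generated by [R, A] and R ∩ C_G(A), which meet trivially; and if R is non-abelian and A does not centralize R, then [R, A] and R ∩ C_G(A) are nontrivial cyclic groups and [R, R] ≤ [R, A]. -/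
theorem result {G : Type*} [Group G] [Finite G] (p : ℕ) [Fact p.Prime] (hp : p ≠ 2) (R A : Subgroup G) (hR : IsPGroup p R) (hRm : Cfsg.IsMetacyclic R)
    (hA : (A ≤ Subgroup.normalizer (R : Set G))) (hcop : (Nat.card A).Coprime p) :
    IsMulCommutative ↥⁅R, A⁆ ∧ ⁅R, A⁆ ⊔ (R ⊓ Subgroup.centralizer (A : Set G)) = R ∧ ⁅R, A⁆ ⊓ (R ⊓ Subgroup.centralizer (A : Set G)) = ⊥ ∧
      (¬ IsMulCommutative R → ¬ A ≤ Subgroup.centralizer (R : Set G) →
        ⁅R, A⁆ ≠ ⊥ ∧ IsCyclic ↥⁅R, A⁆ ∧ (R ⊓ Subgroup.centralizer (A : Set G)) ≠ ⊥ ∧ IsCyclic ↥(R ⊓ Subgroup.centralizer (A : Set G)) ∧ ⁅R, R⁆ ≤ ⁅R, A⁆) := by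
  have hp' : p.Prime := Fact.out
  obtain ⟨n, hn⟩ := IsPGroup.iff_card.mp hR
  have hcopR : (Nat.card A).Coprime (Nat.card R) := hn ▸ hcop.pow_right _
  have := hR.isNilpotent
  have hsol : Group.IsSolvable R := inferInstance
  set K := ⁅R, A⁆ with hK
  set C := R ⊓ Subgroup.centralizer (A : Set G) with hC
  have hKR : K ≤ R := H83.commutator_le_of_le_normalizer hA
  have hCR : C ≤ R := inf_le_left
  have hAK : A ≤ Subgroup.normalizer (K : Set G) :=
    H83.le_normalizer_commutator hA Subgroup.le_normalizer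
  have hKA : ⁅K, A⁆ = K := H83.commutator_commutator_eq hA hsol hcopR
  have hcopK : (Nat.card A).Coprime (Nat.card K) :=
    hcopR.coprime_dvd_right (Subgroup.card_dvd_of_le hKR)
  have hKm : IsMetacyclic K := H83.isMetacyclic_of_injective (Subgroup.inclusion hKR)
    (Subgroup.inclusion_injective hKR) hRm
  have hKab : ⁅K, K⁆ = ⊥ :=
    H83.commutator_eq_bot_of_metacyclic hp (hR.to_le hKR) hKm hAK hcopK hKA.ge
  have hKcomm : IsMulCommutative K := Subgroup.commutator_self_eq_bot_iff.mp hKab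
  have hKCeq : K ⊔ C = R := H83.commutator_sup_centralizer hA hsol hcopR
  have hdisj : K ⊓ C = ⊥ := by
    rw [eq_bot_iff]
    rintro x ⟨hxK, -, hxA⟩
    refine H83.fixed_mem_of_commutator (M := ⊥) hAK ?_ ?_ bot_le hKab.le hcopK ?_ fun a ha => ?_
    · exact H83.le_normalizer_of_conj_mem fun b _ y hy => by
        rw [Subgroup.mem_bot] at hy; subst hy; simp
    · exact H83.le_normalizer_of_conj_mem fun b _ y hy => by
        rw [Subgroup.mem_bot] at hy; subst hy; simp
    · rw [hKA]; exact Subgroup.mem_sup_left hxK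
    · rw [Subgroup.mem_bot, Subgroup.mem_centralizer_iff.mp hxA a ha]
      group
  refine ⟨hKcomm, hKCeq, hdisj, fun hRnab hAnc => ?_⟩
  have hK1 : K ≠ ⊥ := fun h =>
    hAnc (Subgroup.le_centralizer_iff.mp (Subgroup.commutator_eq_bot_iff_le_centralizer.mp h))
  have hC1 : C ≠ ⊥ := fun h => by
    rw [h, sup_bot_eq] at hKCeq
    exact hRnab (hKCeq ▸ hKcomm)
  have hCm : IsMetacyclic C := H83.isMetacyclic_of_injective (Subgroup.inclusion hCR)
    (Subgroup.inclusion_injective hCR) hRm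
  -- elements of order `p`
  have hex : ∀ X : Subgroup G, X ≤ R → X ≠ ⊥ → ∃ u ∈ X, u ≠ 1 ∧ u ^ p = 1 := by
    intro X hX hX1
    have hdvd : p ∣ Nat.card X := (hR.to_le hX).card_eq_or_dvd.resolve_left
      fun h => hX1 (Subgroup.card_eq_one.mp h)
    obtain ⟨u, hu⟩ := exists_prime_orderOf_dvd_card' p hdvd
    refine ⟨u, u.2, fun h => ?_, ?_⟩
    · rw [← Subgroup.orderOf_coe, h, orderOf_one] at hu
      exact hp'.ne_one hu.symm
    · rw [← hu, ← Subgroup.orderOf_coe, pow_orderOf_eq_one]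
  have hsub : ∀ (V : Subgroup G) (u : G), V ≤ R → u ∈ R → u ∉ V → u ^ p = 1 →
      (∀ v ∈ V, v ^ p = 1) → p ^ 2 ≤ Nat.card V →
      (∀ v ∈ V, u * v = v * u) → (∀ a ∈ V, ∀ b ∈ V, a * b = b * a) → False := by
    intro V u hV hu huV hup hVp hVc hcu hVab
    have hlt : V < V ⊔ Subgroup.zpowers u := lt_of_le_of_ne le_sup_left
      fun h => huV (h ▸ Subgroup.mem_sup_right (Subgroup.mem_zpowers u))
    have hle : V ⊔ Subgroup.zpowers u ≤ R := sup_le hV ((Subgroup.zpowers_le).mpr hu)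
    have hab := H83.mem_centralizer_sup_zpowers (X := V) (e := u)
      (fun v hv => (hcu v hv).symm) hVab
    have hexp : ∀ x ∈ V ⊔ Subgroup.zpowers u, x ^ p = 1 := by
      refine H83.pow_eq_one_sup_zpowers hp hVp hup (fun v hv i => ?_) fun v hv i x _ => ?_
      · rw [((show Commute u v from hcu v hv).zpow_left i).eq, mul_inv_cancel_right]; exact hv
      · rw [((show Commute u v from hcu v hv).zpow_left i).eq]; group
    have h1 := H83.card_le_sq_of_le_metacyclic hp'.pos hRm hle hexp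
    have h2 := H83.card_le_mul_of_lt (hR.to_le hle) hlt
    have h3 : p * p ^ 2 ≤ p ^ 2 := (Nat.mul_le_mul_left p hVc).trans (h2.trans h1)
    have := hp'.two_le
    nlinarith [pow_pos hp'.pos 2]
  obtain ⟨k, hkK, hk1, hkp⟩ := hex K hKR hK1
  obtain ⟨u, huC, hu1, hup⟩ := hex C hCR hC1
  have hKcyc : IsCyclic K := by
    by_contra hnc
    obtain ⟨V, hVK, hV, hVc⟩ := H82.exists_elemAb_sq hp (hR.to_le hKR) hnc
    -- all elements of order dividing `p` of `K` form `V`
    have hVab : ∀ a ∈ V, ∀ b ∈ V, a * b = b * a := fun a ha b hb =>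
      congrArg Subtype.val (hV.1.is_comm.comm ⟨a, ha⟩ ⟨b, hb⟩)
    have hKall : ∀ a ∈ K, ∀ b ∈ K, a * b = b * a := fun a ha b hb =>
      congrArg Subtype.val (hKcomm.is_comm.comm ⟨a, ha⟩ ⟨b, hb⟩)
    have hVeq : ∀ v ∈ K, v ^ p = 1 → v ∈ V := by
      intro v hv hvp
      by_contra hvV
      exact hsub V v (hVK.trans hKR) (hKR hv) hvV hvp hV.2 hVc.ge
        (fun x hx => hKall v hv x (hVK hx)) hVab
    have huV : u ∉ V := fun h => hu1 (Subgroup.mem_bot.mp (hdisj ▸ ⟨hVK h, huC⟩))
    have hVn : ∀ r ∈ R, ∀ v ∈ V, r * v * r⁻¹ ∈ V := fun r hr v hv => by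
      refine hVeq _ (H83.conj_mem_of_le_normalizer (H83.le_normalizer_commutator_left R A) hr
        (hVK hv)) ?_
      rw [conj_pow, hV.2 v hv]; group
    by_cases hall : ∀ v ∈ V, u * v = v * u
    · exact hsub V u (hVK.trans hKR) (hCR huC) huV hup hV.2 hVc.ge hall hVab
    obtain ⟨z, hz, hz1, hzp, hzc⟩ := H83.exists_central_order_p_mem hR (hVK.trans hKR)
      (H83.le_normalizer_of_conj_mem hVn) (by
        intro h
        rw [h, Subgroup.card_bot] at hVc
        nlinarith [hp'.two_le])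
    have hd := H83.commutator_mem_zpowers_of_card_sq hR (hVK.trans hKR)
      (H83.le_normalizer_of_conj_mem hVn) hVc hz hz1 hzp hzc
    set T := V ⊔ Subgroup.zpowers u
    have hTR : T ≤ R := sup_le (hVK.trans hKR) ((Subgroup.zpowers_le).mpr (hCR huC))
    have hexp : ∀ x ∈ T, x ^ p = 1 := by
      refine H83.pow_eq_one_sup_zpowers hp hV.2 hup
        (fun v hv i => hVn _ (R.zpow_mem (hCR huC) i) v hv) fun v hv i x hx => ?_
      obtain ⟨j, hj⟩ := hd _ (R.zpow_mem (hCR huC) i) v hv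
      rw [← hj]
      exact ((show Commute x z from hzc x (hTR hx)).zpow_right j).eq.symm
    have h1 := H83.card_le_sq_of_le_metacyclic hp'.pos hRm hTR hexp
    have h2 := H83.card_le_mul_of_lt (hR.to_le hTR) (lt_of_le_of_ne le_sup_left
      fun h => huV (h ▸ Subgroup.mem_sup_right (Subgroup.mem_zpowers u)) : V < T)
    rw [hVc] at h2
    nlinarith [hp'.two_le, pow_pos hp'.pos 2]
  have hkcen : ∀ r ∈ R, r * k = k * r := by
    refine H83.commute_of_zpowers_invariant hR hkp fun r hr => ?_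
    have hr' : r * k * r⁻¹ ∈ K :=
      H83.conj_mem_of_le_normalizer (H83.le_normalizer_commutator_left R A) hr hkK
    by_contra hnot
    have hWle : Subgroup.zpowers k ⊔ Subgroup.zpowers (r * k * r⁻¹) ≤ K :=
      sup_le ((Subgroup.zpowers_le).mpr hkK) ((Subgroup.zpowers_le).mpr hr')
    have := hKcyc
    have hWc : IsCyclic ↥(Subgroup.zpowers k ⊔ Subgroup.zpowers (r * k * r⁻¹) : Subgroup G) :=
      isCyclic_of_injective (Subgroup.inclusion hWle) (Subgroup.inclusion_injective hWle)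
    have hcom := H83.mem_centralizer_sup_zpowers (X := Subgroup.zpowers k) (e := r * k * r⁻¹)
      (fun x hx => congrArg Subtype.val (hKcomm.is_comm.comm
        ⟨x, (Subgroup.zpowers_le).mpr hkK hx⟩ ⟨_, hr'⟩))
      (fun x hx y hy => congrArg Subtype.val (hKcomm.is_comm.comm
        ⟨x, (Subgroup.zpowers_le).mpr hkK hx⟩ ⟨y, (Subgroup.zpowers_le).mpr hkK hy⟩))
    have hle := @H83.card_le_of_isCyclic_exponent _ _ p hp'.pos hWc (fun x => Subtype.ext (by
      have key : ∀ y ∈ Subgroup.zpowers k ⊔ Subgroup.zpowers (r * k * r⁻¹), y ^ p = 1 :=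
        H83.pow_eq_one_sup_zpowers hp (fun v hv => H83.zpow_pow_eq_one hkp hv)
          (by rw [conj_pow, hkp]; group)
          (fun v hv i => by
            rw [hcom _ (Subgroup.mem_sup_right (Subgroup.zpow_mem_zpowers _ i)) v
              (Subgroup.mem_sup_left hv), mul_inv_cancel_right]
            exact hv)
          (fun v hv i y _ => by
            rw [hcom _ (Subgroup.mem_sup_right (Subgroup.zpow_mem_zpowers _ i)) v
              (Subgroup.mem_sup_left hv)]
            group)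
      simpa using key x x.2))
    have hlt := H83.card_le_mul_of_lt (hR.to_le (hWle.trans hKR)) (lt_of_le_of_ne le_sup_left
      fun h => hnot (h ▸ Subgroup.mem_sup_right (Subgroup.mem_zpowers _)) :
        Subgroup.zpowers k < Subgroup.zpowers k ⊔ Subgroup.zpowers (r * k * r⁻¹))
    rw [Nat.card_zpowers, orderOf_eq_prime hkp hk1] at hlt
    nlinarith [hp'.two_le]
  refine ⟨hK1, hKcyc, hC1, ?_, ?_⟩
  · by_contra hnc
    obtain ⟨V, hVC, hV, hVc⟩ := H82.exists_elemAb_sq hp (hR.to_le hCR) hnc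
    refine hsub V k (hVC.trans hCR) (hKR hkK) (fun h => hk1 ?_) hkp hV.2 hVc.ge
      (fun v hv => (hkcen v (hCR (hVC hv))).symm)
      (fun a ha b hb => congrArg Subtype.val (hV.1.is_comm.comm ⟨a, ha⟩ ⟨b, hb⟩))
    exact Subgroup.mem_bot.mp (hdisj ▸ ⟨hkK, hVC h⟩)
  · -- `R/K` is generated by the image of the cyclic group `C`
    have hCcyc : IsCyclic C := by
      by_contra hnc
      obtain ⟨V, hVC, hV, hVc⟩ := H82.exists_elemAb_sq hp (hR.to_le hCR) hnc
      refine hsub V k (hVC.trans hCR) (hKR hkK) (fun h => hk1 ?_) hkp hV.2 hVc.ge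
        (fun v hv => (hkcen v (hCR (hVC hv))).symm)
        (fun a ha b hb => congrArg Subtype.val (hV.1.is_comm.comm ⟨a, ha⟩ ⟨b, hb⟩))
      exact Subgroup.mem_bot.mp (hdisj ▸ ⟨hkK, hVC h⟩)
    have hn' : (K.subgroupOf R).Normal :=
      Subgroup.normal_subgroupOf_of_le_normalizer (H83.le_normalizer_commutator_left R A)
    have hQ : IsCyclic (R ⧸ K.subgroupOf R) := by
      refine isCyclic_of_surjective ((QuotientGroup.mk' (K.subgroupOf R)).comp
        (Subgroup.inclusion hCR)) ?_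
      intro q
      obtain ⟨x, rfl⟩ := QuotientGroup.mk_surjective q
      have hx' : (x : G) ∈ ((K ⊔ C : Subgroup G) : Set G) := by rw [hKCeq]; exact x.2
      rw [Subgroup.coe_mul_of_right_le_normalizer_left _ _
        (hCR.trans (H83.le_normalizer_commutator_left R A))] at hx'
      obtain ⟨a, ha, b, hb, hab⟩ := hx'
      refine ⟨⟨b, hb⟩, ?_⟩
      show ((Subgroup.inclusion hCR ⟨b, hb⟩ : R) : R ⧸ K.subgroupOf R) = (x : R ⧸ K.subgroupOf R)
      rw [QuotientGroup.eq, Subgroup.mem_subgroupOf]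
      show (b⁻¹ * x : G) ∈ K
      rw [← hab]
      show b⁻¹ * (a * b) ∈ K
      rw [show b⁻¹ * (a * b) = b⁻¹ * a * b⁻¹⁻¹ by group]
      exact H83.conj_mem_of_le_normalizer (H83.le_normalizer_commutator_left R A)
        (hCR (C.inv_mem hb)) ha
    refine Subgroup.commutator_le.mpr fun a ha b hb => ?_
    have h := IsMulCommutative.is_comm.comm (QuotientGroup.mk ⟨a, ha⟩ : R ⧸ K.subgroupOf R)
      (QuotientGroup.mk ⟨b, hb⟩)
    rw [← commutatorElement_eq_one_iff_mul_comm, ← QuotientGroup.mk'_apply, ← QuotientGroup.mk'_apply,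
      ← map_commutatorElement] at h
    exact Subgroup.mem_subgroupOf.mp ((QuotientGroup.eq_one_iff _).mp h)

end Cfsg.Agent.S1447
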