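import Cfsg.Statements.S1452
import Cfsg.Agent.H83.MaxNormalElem
-- import your own Cfsg.Agent.* helpers here

set_option autoImplicit false
open Cfsg
open scoped commutatorElement

namespace Cfsg.Agent.S1452

/-- Let p be an odd prime and R a finite p-group containing an elementary abelian subgroup of order p ^ 3. If E is a normal elementary abelian subgroup of R of order p ^ 2, then E ≤ A for some normal subgroup A of R with C_R(A) = A that contains an elementary abelian subgroup of order p ^ 3. -/
theorem result {R : Type*} [Group R] [Finite R] (p : ℕ) [Fact p.Prime] (hp : p ≠ 2) (hR : IsPGroup p R) (hr : ¬ Cfsg.PRankLE p 2 R)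
    (E : Subgroup R) [E.Normal] (hE : Cfsg.IsElementaryAbelian p E) (hE2 : Nat.card E = p ^ 2) :
    ∃ A : Subgroup R, E ≤ A ∧ A.Normal ∧ Subgroup.centralizer (A : Set R) = A ∧ ¬ Cfsg.PRankLE p 2 A := by
  have hp' : p.Prime := Fact.out
  obtain ⟨B, hEB, hBn, hB, hmax⟩ := H83.exists_maximal_normal_elemAb inferInstance hE
  have := hBn
  have hcard := H83.lt_card_of_maximal_normal_elemAb hp hR hr hB hmax
  obtain ⟨A, hBA, hAn, hAc, hAmax⟩ := H6.exists_maximal_normal_abelian hBn hB.1
  refine ⟨A, hEB.trans hBA, hAn, H6.centralizer_eq_of_maximal_normal_abelian hR hAc hAmax, ?_⟩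
  refine H80.not_pRankLE_of_elemAb hp' hBA hB ?_
  obtain ⟨n, hn⟩ := IsPGroup.iff_card.mp (hR.to_subgroup B)
  rw [hn] at hcard ⊢
  exact Nat.pow_le_pow_right hp'.pos ((Nat.pow_lt_pow_iff_right hp'.one_lt).mp hcard)

end Cfsg.Agent.S1452
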