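import Cfsg.Statements.S1457
import Cfsg.Agent.H84.PStable

set_option autoImplicit false
open Cfsg

namespace Cfsg.Agent.S1457

/-- Let G be a solvable group of odd order, p a prime, S a Sylow p-subgroup of G and A an abelian subgroup of S normal in S. Then A ≤ O_{p',p}(G). -/
theorem result {G : Type*} [Group G] [Finite G] [Group.IsSolvable G] (hodd : Odd (Nat.card G)) (p : ℕ) [Fact p.Prime] (S : Sylow p G) (A : Subgroup G) (hA : A ≤ (S : Subgroup G)) (hAc : IsMulCommutative A)
    (hAn : (S : Subgroup G) ≤ Subgroup.normalizer (A : Set G)) :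
    A ≤ Cfsg.pPrimePCore p G := by
  by_cases hp : p = 2
  · subst hp
    have h1 : (S : Subgroup G) = ⊥ := by
      refine Subgroup.card_eq_one.mp ?_
      obtain ⟨n, hn⟩ := IsPGroup.iff_card.mp S.isPGroup'
      cases n with
      | zero => exact hn
      | succ n =>
        exfalso
        have h2 : 2 ∣ Nat.card G := (dvd_pow_self 2 n.succ_ne_zero).trans
          (hn ▸ Subgroup.card_subgroup_dvd_card (S : Subgroup G))
        exact (Nat.not_even_iff_odd.mpr hodd) (even_iff_two_dvd.mpr h2)
    exact hA.trans (h1.le.trans bot_le)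
  exact H84.abelian_le_pPrimePCore hodd hp S hAn

end Cfsg.Agent.S1457
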