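import Cfsg.Statements.S1458
import Cfsg.Agent.H84.JElem

set_option autoImplicit false
open Cfsg

namespace Cfsg.Agent.S1458

/-- Let G be a solvable group of odd order, p a prime and S a Sylow p-subgroup of G. Then the subgroup generated by the centre of the Thompson subgroup of S and O_{p'}(G) is normal in G. -/
theorem result {G : Type*} [Group G] [Finite G] [Group.IsSolvable G] (hodd : Odd (Nat.card G)) (p : ℕ) [Fact p.Prime] (S : Sylow p G) :
    (Cfsg.centerThompsonOf p (S : Subgroup G) ⊔ Cfsg.pPrimeCore p G).Normal := by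
  rcases eq_or_ne p 2 with rfl | hp
  · have hS : (S : Subgroup G) = ⊥ := by
      rw [← Subgroup.card_eq_one]
      obtain ⟨k, hk⟩ := IsPGroup.iff_card.mp S.isPGroup'
      rcases k with _ | k
      · simpa using hk
      · exfalso
        have h2 : 2 ∣ Nat.card G :=
          (Dvd.intro_left (2 ^ k) (pow_succ 2 k).symm).trans (hk ▸ Subgroup.card_subgroup_dvd_card (S : Subgroup G))
        exact (Nat.not_even_iff_odd.mpr hodd) (even_iff_two_dvd.mpr h2)
    have hZ : Cfsg.centerThompsonOf 2 (S : Subgroup G) = ⊥ :=
      le_bot_iff.mp ((inf_le_left.trans (H84.thompsonOf_le _)).trans hS.le)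
    rw [hZ, bot_sup_eq]
    exact H1.pPrimeCore_normal' 2 G
  · exact H84.zj_elem_sup_pPrimeCore_normal hodd hp S

end Cfsg.Agent.S1458
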