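import Cfsg.Statements.S1459
import Cfsg.Agent.H1.Cores
import Cfsg.Agent.H83.CoprimeAbelian
import Cfsg.Agent.H84.PQLemma

set_option autoImplicit false
open Cfsg
open scoped commutatorElement

namespace Cfsg.Agent.S1459

/-- Let G be a finite solvable group. (a) If H is a normal subgroup of order coprime to its index, K is a complement to H, and H ≤ G', then H = [H, K] and H ∩ C_G(K) ≤ [H, H]. (b) If G' is nilpotent and has prime index in G, then the order of G' is coprime to its index and G' = [G, K] (the subgroup generated by commutators of elements of G with elements of K) for every complement K of G'. -/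
theorem result {G : Type*} [Group G] [Finite G] [Group.IsSolvable G] :
    (∀ (H K : Subgroup G), H.Normal → (Nat.card H).Coprime H.index → Subgroup.IsComplement' H K → H ≤ commutator G →
        H = ⁅H, K⁆ ∧ H ⊓ Subgroup.centralizer (K : Set G) ≤ ⁅H, H⁆) ∧
      (Group.IsNilpotent ↥(commutator G) → (commutator G).index.Prime →
        (Nat.card ↥(commutator G)).Coprime (commutator G).index ∧
        ∀ K : Subgroup G, Subgroup.IsComplement' (commutator G) K → commutator G = ⁅(⊤ : Subgroup G), K⁆) := by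
  have main : ∀ (H K : Subgroup G), H.Normal → (Nat.card H).Coprime H.index →
      Subgroup.IsComplement' H K → H ≤ commutator G →
      H = ⁅H, K⁆ ∧ H ⊓ Subgroup.centralizer (K : Set G) ≤ ⁅H, H⁆ := by
    intro H K hHn hcop hHK hle
    have hHt : ∀ B : Subgroup G, B ≤ Subgroup.normalizer (H : Set G) := fun B =>
      le_top.trans_eq (Subgroup.normalizer_eq_top_iff.mpr hHn).symm
    have hNle : ⁅H, K⁆ ≤ H := Subgroup.le_normalizer_iff_commutator_le_left.mp (hHt K)
    set N := ⁅H, K⁆ with hN
    have hNn : N.Normal := by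
      rw [← Subgroup.normalizer_eq_top_iff, eq_top_iff, ← hHK.sup_eq_top]
      exact sup_le (Subgroup.normalizer_commutator_ge_left H K) (Subgroup.normalizer_commutator_ge_right H K)
    have hcK : (Nat.card K).Coprime (Nat.card H) := by
      rw [← hHK.symm.index_eq_card]; exact hcop.symm
    have heq : H = N := by
      refine le_antisymm ?_ hNle
      set f := QuotientGroup.mk' N
      have hAB : ∀ a ∈ H.map f, ∀ b ∈ K.map f, a * b = b * a := by
        rintro _ ⟨a, ha, rfl⟩ _ ⟨b, hb, rfl⟩
        refine commutatorElement_eq_one_iff_mul_comm.mp ?_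
        rw [← map_commutatorElement]
        exact (QuotientGroup.eq_one_iff _).mpr (Subgroup.commutator_mem_commutator ha hb)
      set A := H.map f
      set B := K.map f
      have hBA : B ≤ Subgroup.normalizer (A : Set (G ⧸ N)) := H84.le_normalizer_of_conj
        fun b hb a ha => by rw [← hAB a ha b hb, mul_inv_cancel_right]; exact ha
      have hAB' : A ⊔ B = ⊤ := by
        rw [← Subgroup.map_sup, hHK.sup_eq_top, Subgroup.map_top_of_surjective _ (QuotientGroup.mk'_surjective N)]
      have hcomm : ⁅(⊤ : Subgroup (G ⧸ N)), ⊤⁆ ≤ ⁅A, A⁆ ⊔ ⁅B, B⁆ := by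
        rw [← hAB', Subgroup.commutator_le]
        intro x hx y hy
        rw [← SetLike.mem_coe, Subgroup.coe_mul_of_right_le_normalizer_left A B hBA] at hx hy
        obtain ⟨a, ha, b, hb, rfl⟩ := hx
        obtain ⟨c, hc, d, hd, rfl⟩ := hy
        have h1 : ⁅a * b, c * d⁆ = ⁅a, c⁆ * ⁅b, d⁆ := by
          have e1 : b * c = c * b := (hAB c hc b hb).symm
          have e2 : a⁻¹ * d = d * a⁻¹ := hAB _ (A.inv_mem ha) d hd
          have e3 : c⁻¹ * (b * d * b⁻¹ * d⁻¹) = (b * d * b⁻¹ * d⁻¹) * c⁻¹ :=
            hAB _ (A.inv_mem hc) _ (B.mul_mem (B.mul_mem (B.mul_mem hb hd) (B.inv_mem hb)) (B.inv_mem hd))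
          have e4 : b⁻¹ * a⁻¹ = a⁻¹ * b⁻¹ := (hAB _ (A.inv_mem ha) _ (B.inv_mem hb)).symm
          have e5 : c⁻¹ * d⁻¹ = d⁻¹ * c⁻¹ := hAB _ (A.inv_mem hc) _ (B.inv_mem hd)
          calc ⁅a * b, c * d⁆ = a * (b * c) * d * (b⁻¹ * a⁻¹) * (d⁻¹ * c⁻¹) := by
                rw [commutatorElement_def]; group
            _ = a * c * b * d * (a⁻¹ * b⁻¹) * (c⁻¹ * d⁻¹) := by rw [e1, e4, e5, ← mul_assoc a c b]
            _ = a * c * a⁻¹ * ((b * d * b⁻¹) * c⁻¹) * d⁻¹ := by
                have e6 : (b * d) * a⁻¹ = a⁻¹ * (b * d) := (hAB _ (A.inv_mem ha) _ (B.mul_mem hb hd)).symm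
                calc a * c * b * d * (a⁻¹ * b⁻¹) * (c⁻¹ * d⁻¹)
                    = a * c * ((b * d) * a⁻¹) * b⁻¹ * c⁻¹ * d⁻¹ := by group
                  _ = _ := by rw [e6]; group
            _ = ⁅a, c⁆ * ⁅b, d⁆ := by
                have e7 : (b * d * b⁻¹) * c⁻¹ = c⁻¹ * (b * d * b⁻¹) :=
                  (hAB _ (A.inv_mem hc) _ (B.mul_mem (B.mul_mem hb hd) (B.inv_mem hb))).symm
                rw [e7, commutatorElement_def, commutatorElement_def]; group
        rw [h1]
        exact Subgroup.mul_mem _ (Subgroup.mem_sup_left (Subgroup.commutator_mem_commutator ha hc))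
          (Subgroup.mem_sup_right (Subgroup.commutator_mem_commutator hb hd))
      have hAle : A ≤ ⁅A, A⁆ := by
        intro a ha
        have h1 : a ∈ ⁅A, A⁆ ⊔ ⁅B, B⁆ := by
          apply hcomm
          rw [← Subgroup.map_top_of_surjective f (QuotientGroup.mk'_surjective N), ← Subgroup.map_commutator]
          obtain ⟨h, hh, rfl⟩ := ha
          exact Subgroup.mem_map_of_mem f (hle hh)
        rw [← SetLike.mem_coe, Subgroup.coe_mul_of_right_le_normalizer_left _ _ (by
          refine H84.le_normalizer_of_conj fun b hb c hc => ?_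
          rw [← hAB c (Subgroup.commutator_le_self A hc) b (Subgroup.commutator_le_self B hb),
            mul_inv_cancel_right]
          exact hc)] at h1
        obtain ⟨c, hc, b, hb, rfl⟩ := h1
        have hbA : b ∈ A := by
          have := A.mul_mem (A.inv_mem (Subgroup.commutator_le_self A hc)) ha
          simpa using this
        have hb1 : b = 1 := H84.eq_one_of_mem_of_coprime
          ((hcK.coprime_dvd_left (Subgroup.card_map_dvd _ _)).coprime_dvd_right (Subgroup.card_map_dvd _ _))
          (Subgroup.commutator_le_self B hb) hbA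
        rw [hb1]
        simpa using hc
      have hA : A = ⊥ := by
        by_contra h
        exact (Group.IsSolvable.commutator_lt_of_ne_bot h).not_ge hAle
      rwa [Subgroup.map_eq_bot_iff, QuotientGroup.ker_mk'] at hA
    refine ⟨heq, fun x hx => ?_⟩
    refine H83.fixed_mem_of_commutator (A := K) (R := H) (M := ⁅H, H⁆) (hHt K)
      (le_top.trans_eq (Subgroup.normalizer_eq_top_iff.mpr inferInstance).symm)
      (le_top.trans_eq (Subgroup.normalizer_eq_top_iff.mpr inferInstance).symm)
      (Subgroup.commutator_le_self H) le_rfl hcK (Subgroup.mem_sup_left (hN ▸ heq.le hx.1)) ?_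
    intro a ha
    rw [Subgroup.mem_centralizer_iff.mp hx.2 a ha, mul_inv_cancel_right, mul_inv_cancel]
    exact Subgroup.one_mem _
  refine ⟨main, fun hnil hprime => ?_⟩
  set F := commutator G with hFdef
  set r := F.index
  have : Fact r.Prime := ⟨hprime⟩
  have hFn : F.Normal := inferInstance
  have : (Cfsg.pPrimeCore r ↥F).Characteristic := H1.pPrimeCore_characteristic r F
  set R := (Cfsg.pPrimeCore r ↥F).map F.subtype with hR
  have hRn : R.Normal := inferInstance
  have hRidx : ∀ q : ℕ, q.Prime → q ∣ (Cfsg.pPrimeCore r ↥F).index → q = r := by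
    intro q hq hdvd
    by_contra hne
    have : Fact q.Prime := ⟨hq⟩
    obtain ⟨P⟩ : Nonempty (Sylow q ↥F) := inferInstance
    have hPn : (P : Subgroup ↥F).Normal :=
      Sylow.normal_of_normalizerCondition Group.normalizerCondition_of_isNilpotent P
    have hPle : (P : Subgroup ↥F) ≤ Cfsg.pPrimeCore r ↥F := H1.le_pPrimeCore (by
      obtain ⟨n, hn⟩ := IsPGroup.iff_card.mp P.2
      rw [hn]
      exact ((Nat.coprime_primes hq hprime).mpr hne).pow_left n)
    exact P.not_dvd_index (hdvd.trans (Subgroup.index_dvd_of_le hPle))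
  have hRi : R.index = (Cfsg.pPrimeCore r ↥F).index * r := by
    rw [hR, Subgroup.index_map_subtype]
  have hQp : IsPGroup r (G ⧸ R) := by
    refine IsPGroup.of_card (n := (Nat.card (G ⧸ R)).primeFactorsList.length) ?_
    refine Nat.eq_prime_pow_of_unique_prime_dvd Nat.card_pos.ne' fun {d} hd hdvd => ?_
    rw [← Subgroup.index_eq_card, hRi] at hdvd
    rcases hd.dvd_mul.mp hdvd with h | h
    · exact hRidx d hd h
    · exact (Nat.prime_dvd_prime_iff_eq hd hprime).mp h
  obtain ⟨g, hg⟩ : ∃ g : G, g ∉ F := by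
    by_contra h
    push Not at h
    exact hprime.ne_one (Subgroup.index_eq_one.mpr ((Subgroup.eq_top_iff' F).mpr h))
  have hgen : Subgroup.zpowers g ⊔ F = ⊤ := by
    have h1 : (Subgroup.zpowers g ⊔ F).index ∣ r := Subgroup.index_dvd_of_le le_sup_right
    rcases (Nat.dvd_prime hprime).mp h1 with h | h
    · exact Subgroup.index_eq_one.mp h
    · exfalso
      apply hg
      have h2 : F = Subgroup.zpowers g ⊔ F := by
        refine Subgroup.eq_of_le_of_card_ge le_sup_right (le_of_eq ?_)
        have e1 := Subgroup.card_mul_index (Subgroup.zpowers g ⊔ F)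
        rw [h, ← Subgroup.card_mul_index F] at e1
        exact Nat.eq_of_mul_eq_mul_right hprime.pos e1
      rw [h2]
      exact Subgroup.mem_sup_left (Subgroup.mem_zpowers g)
  have hFR : F ≤ R := by
    set f := QuotientGroup.mk' R
    have := hQp.isNilpotent
    set C := ⁅⁅(⊤ : Subgroup (G ⧸ R)), (⊤ : Subgroup (G ⧸ R))⁆, (⊤ : Subgroup (G ⧸ R))⁆ with hC
    have hFf : F.map f = ⁅(⊤ : Subgroup (G ⧸ R)), (⊤ : Subgroup (G ⧸ R))⁆ := by
      rw [hFdef, commutator_def, Subgroup.map_commutator, Subgroup.map_top_of_surjective f (QuotientGroup.mk'_surjective R)]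
    have hstep : ⁅(⊤ : Subgroup (G ⧸ R)), (⊤ : Subgroup (G ⧸ R))⁆ ≤ C := by
      rw [Subgroup.commutator_le]
      intro x _ y _
      have hdec : ∀ z : G ⧸ R, ∃ i : ℤ, ∃ c ∈ ⁅(⊤ : Subgroup (G ⧸ R)), (⊤ : Subgroup (G ⧸ R))⁆, z = f g ^ i * c := by
        intro z
        obtain ⟨w, rfl⟩ := QuotientGroup.mk'_surjective R z
        have hw : w ∈ Subgroup.zpowers g ⊔ F := hgen ▸ Subgroup.mem_top w
        rw [← SetLike.mem_coe, Subgroup.coe_mul_of_left_le_normalizer_right _ F
          (le_top.trans_eq (Subgroup.normalizer_eq_top_iff.mpr hFn).symm)] at hw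
        obtain ⟨_, ⟨i, rfl⟩, c, hc, rfl⟩ := hw
        exact ⟨i, f c, hFf ▸ Subgroup.mem_map_of_mem f hc, by simp [f]⟩
      obtain ⟨i, c, hc, rfl⟩ := hdec x
      obtain ⟨j, d, hd, rfl⟩ := hdec y
      rw [← QuotientGroup.eq_one_iff]
      change QuotientGroup.mk' C ⁅_, _⁆ = 1
      rw [map_commutatorElement, commutatorElement_eq_one_iff_mul_comm]
      have hz : ∀ e ∈ ⁅(⊤ : Subgroup (G ⧸ R)), (⊤ : Subgroup (G ⧸ R))⁆, ∀ w, Commute (QuotientGroup.mk' C e) (QuotientGroup.mk' C w) :=
        fun e he w => commutatorElement_eq_one_iff_mul_comm.mp (by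
          rw [← map_commutatorElement]
          exact (QuotientGroup.eq_one_iff _).mpr (Subgroup.commutator_mem_commutator he (Subgroup.mem_top w)))
      simp only [map_mul]
      exact Commute.mul_left
        (Commute.mul_right (by rw [map_zpow, map_zpow]; exact (Commute.refl _).zpow_zpow i j) (hz d hd _).symm)
        (Commute.mul_right (hz c hc _) (hz c hc _))
    have hser : ∀ n, ⁅(⊤ : Subgroup (G ⧸ R)), (⊤ : Subgroup (G ⧸ R))⁆ ≤ (⊤ : Subgroup (G ⧸ R)).lowerCentralSeries n := by
      intro n
      induction n with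
      | zero => exact le_top
      | succ n ih => exact hstep.trans (Subgroup.commutator_mono ih le_rfl)
    obtain ⟨n, hn⟩ := (Subgroup.nilpotent_iff_lowerCentralSeries).mp this
    have h0 : F.map f = ⊥ := le_bot_iff.mp (hFf ▸ hn ▸ hser n)
    rwa [Subgroup.map_eq_bot_iff, QuotientGroup.ker_mk'] at h0
  have hcop : (Nat.card F).Coprime r := by
    have hc : (Nat.card R).Coprime r := by
      rw [hR, Subgroup.card_map_of_injective F.subtype_injective]
      exact H1.card_pPrimeCore_coprime r F
    exact hc.coprime_dvd_left (Subgroup.card_dvd_of_le hFR)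
  refine ⟨hcop, fun K hK => le_antisymm ?_ (Subgroup.commutator_mono le_rfl le_top)⟩
  exact (main F K hFn hcop hK le_rfl).1.le.trans (Subgroup.commutator_mono le_top le_rfl)

end Cfsg.Agent.S1459
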