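import Cfsg.Statements.S1465
import Cfsg.Agent.H84.PStable

set_option autoImplicit false
open Cfsg

namespace Cfsg.Agent.S1465

/-- Let p be an odd prime, G a solvable group of odd order, P a normal p-subgroup of G, and X the subgroup generated by a family of abelian p-subgroups of G each normalized by P. Then the image of X in G/C_G(P) lies in O_p(G/C_G(P)); and if O_{p'}(G) = 1 and O_p(G) ∩ C_G(P) ≤ P then X ≤ O_p(G). -/
theorem result {G : Type*} [Group G] [Finite G] [Group.IsSolvable G] (hodd : Odd (Nat.card G)) (p : ℕ) [Fact p.Prime] (hp : p ≠ 2) (P : Subgroup G) [P.Normal] (hP : IsPGroup p P)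
    (S : Set (Subgroup G)) (hS : ∀ B ∈ S, IsMulCommutative B ∧ IsPGroup p B ∧ P ≤ Subgroup.normalizer (B : Set G)) :
    (sSup S).map (QuotientGroup.mk' (Subgroup.centralizer (P : Set G))) ≤ Cfsg.pCore p (G ⧸ Subgroup.centralizer (P : Set G)) ∧
      (Cfsg.pPrimeCore p G = ⊥ → Cfsg.pCore p G ⊓ Subgroup.centralizer (P : Set G) ≤ P → sSup S ≤ Cfsg.pCore p G) := by
  have hmap : (sSup S).map (QuotientGroup.mk' (Subgroup.centralizer (P : Set G))) ≤
      Cfsg.pCore p (G ⧸ Subgroup.centralizer (P : Set G)) := by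
    rw [Subgroup.map_le_iff_le_comap]
    refine sSup_le fun B hB => ?_
    obtain ⟨hBc, -, hBn⟩ := hS B hB
    rw [← Subgroup.map_le_iff_le_comap]
    refine H84.quad_map_le_pCore_of_normal hodd hp hP ?_
    have h1 : ⁅P, B⁆ ≤ B := Subgroup.commutator_le.mpr fun q hq b hb =>
      mul_mem ((Subgroup.mem_normalizer_iff.mp (hBn hq) b).mp hb) (inv_mem hb)
    rw [eq_bot_iff]
    refine (Subgroup.commutator_mono h1 le_rfl).trans ?_
    exact (Subgroup.commutator_eq_bot_iff_le_centralizer.mpr (Subgroup.le_centralizer B)).le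
  refine ⟨hmap, fun h0 hcap => ?_⟩
  set C := Subgroup.centralizer (P : Set G) with hCdef
  have hC0 : Cfsg.pPrimeCore p C = ⊥ := by
    refine (Subgroup.map_eq_bot_iff_of_injective _ C.subtype_injective).mp ?_
    rw [H1.pPrimeCore_subgroup_map_eq, h0, bot_inf_eq]
  have hOC : (Cfsg.pCore p C).map C.subtype ≤ P := by
    rw [H1.pCore_subgroup_map_eq]; exact hcap
  have hcen : (⊤ : Subgroup C) ≤ Subgroup.centralizer (Cfsg.pCore p C : Set C) := by
    rintro c - k hk
    refine Subtype.ext ?_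
    simp only [Subgroup.coe_mul]
    exact c.2 (k : G) (hOC ⟨k, hk, rfl⟩)
  have hCp : IsPGroup p C := by
    have h := hcen.trans (H10.centralizer_pCore_le H10.isPSolvable_of_isSolvable hC0)
    exact ((H1.isPGroup_pCore p C).to_le h).of_equiv Subgroup.topEquiv
  have : (Cfsg.pCore p (G ⧸ C)).Normal := H1.pCore_normal' p _
  have hJ : IsPGroup p ((Cfsg.pCore p (G ⧸ C)).comap (QuotientGroup.mk' C)) :=
    (H1.isPGroup_pCore p _).comap_of_ker_isPGroup _ (by rwa [QuotientGroup.ker_mk'])
  exact (Subgroup.map_le_iff_le_comap.mp hmap).trans (H1.le_pCore hJ)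

end Cfsg.Agent.S1465
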