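import Cfsg.Statements.S1466
import Cfsg.Agent.H84.PuigBasic

set_option autoImplicit false
open Cfsg

namespace Cfsg.Agent.S1466

/-- Let p be a prime and R a nontrivial finite p-group. Then for every i > 0, Z(R) ≤ C_R(L_i(R)) ≤ L_i(R); likewise Z(R) ≤ C_R(L_*(R)) ≤ L_*(R) and Z(R) ≤ C_R(L(R)) ≤ L(R); and L(R) ≠ 1, L_*(R) ≠ 1. -/
theorem result {R : Type*} [Group R] [Finite R] (p : ℕ) [Fact p.Prime] (hR : IsPGroup p R) [Nontrivial R] :
    (∀ i : ℕ, 0 < i → Subgroup.center R ≤ Subgroup.centralizer ((Cfsg.puigSeq R i : Subgroup R) : Set R) ∧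
        Subgroup.centralizer ((Cfsg.puigSeq R i : Subgroup R) : Set R) ≤ Cfsg.puigSeq R i) ∧
      (Subgroup.center R ≤ Subgroup.centralizer ((Cfsg.puigLower R : Subgroup R) : Set R) ∧ Subgroup.centralizer ((Cfsg.puigLower R : Subgroup R) : Set R) ≤ Cfsg.puigLower R) ∧
      (Subgroup.center R ≤ Subgroup.centralizer ((Cfsg.puigSubgroup R : Subgroup R) : Set R) ∧ Subgroup.centralizer ((Cfsg.puigSubgroup R : Subgroup R) : Set R) ≤ Cfsg.puigSubgroup R) ∧
      Cfsg.puigSubgroup R ≠ ⊥ ∧ Cfsg.puigLower R ≠ ⊥ := by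
  obtain ⟨A, hAn, hAc, hAA⟩ := H30.exists_selfCentralizing' hR
  have hA : A ≠ ⊥ := by
    rintro rfl
    have : Subgroup.centralizer ((⊥ : Subgroup R) : Set R) = ⊤ := by
      rw [eq_top_iff]
      intro x _
      exact Subgroup.mem_centralizer_iff.mpr (by rintro y (rfl : y = 1); simp)
    exact bot_ne_top (hAA.symm.trans this)
  have key : ∀ X : Subgroup R, A ≤ X → Subgroup.center R ≤ Subgroup.centralizer (X : Set R) ∧
      Subgroup.centralizer (X : Set R) ≤ X := fun X hX =>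
    ⟨Subgroup.center_le_centralizer _, (Subgroup.centralizer_le hX).trans (hAA.le.trans hX)⟩
  have h1 := H84.le_puigLower_of_normal hAc
  exact ⟨fun i hi => key _ (H84.le_puigSeq_of_normal hAc hi), key _ h1,
    key _ (h1.trans H84.puigLower_le_puigSubgroup),
    ne_bot_of_le_ne_bot hA (h1.trans H84.puigLower_le_puigSubgroup), ne_bot_of_le_ne_bot hA h1⟩

end Cfsg.Agent.S1466
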