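import Cfsg.Statements.S1482
import Cfsg.Agent.H84.BenderUnique

set_option autoImplicit false
open Cfsg

namespace Cfsg.Agent.S1482

/-- Let G be a minimal simple group of odd order, H a maximal subgroup whose Fitting subgroup F has at least two prime divisors, and M a subgroup of F containing the centre of F such that the only M-invariant subgroup of G of order coprime to #F is the trivial one. Then H is the only maximal subgroup of G containing M. -/
theorem result {G : Type*} [Group G] [Finite G] (hG : Cfsg.IsMinSimpleOddOrder G) (H : Subgroup G) (hH : IsCoatom H) (hF2 : 2 ≤ (Nat.card (Cfsg.fittingOf H)).primeFactors.card)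
    (M : Subgroup G) (hM : M ≤ Cfsg.fittingOf H) (hZM : Cfsg.fittingOf H ⊓ Subgroup.centralizer (Cfsg.fittingOf H : Set G) ≤ M)
    (hinv : ∀ Y ∈ Cfsg.invSubgroups ⊤ M (Cfsg.primesNotDvd (Nat.card (Cfsg.fittingOf H))), Y = ⊥) :
    ∀ L : Subgroup G, IsCoatom L → M ≤ L → L = H := by
  intro L hL hML
  refine H84.coatom_eq_of_zPart_le hG hH hL (fun r hr => ?_) (fun r hr => ?_) fun r hr hne => ?_
  · obtain ⟨a, ha, hne⟩ := Finset.exists_mem_ne hF2 r
    have := Fact.mk (Nat.prime_of_mem_primeFactors ha)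
    exact ⟨a, Nat.prime_of_mem_primeFactors ha, hne,
      (H81.pCoreOf_ne_bot_iff H).mpr (Nat.dvd_of_mem_primeFactors ha)⟩
  · have := Fact.mk hr
    exact (H84.zPart_le_center_fitting r H).trans (hZM.trans hML)
  · have := Fact.mk hr
    rw [H81.pCoreOf_ne_bot_iff]
    by_contra hd
    refine hne (hinv _ ⟨le_top, fun t ht htd => ⟨ht, ?_⟩, hML.trans (H75.le_normalizer_pCoreOf L)⟩)
    obtain ⟨k, hk⟩ := IsPGroup.iff_card.mp (H75.isPGroup_pCoreOf (p := r) L)
    rwa [(Nat.prime_dvd_prime_iff_eq ht hr).mp (ht.dvd_of_dvd_pow (hk ▸ htd))]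

end Cfsg.Agent.S1482
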