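import Cfsg.Statements.S1495
import Mathlib

set_option autoImplicit false
open Cfsg

namespace Cfsg.Agent.S1495

/-- Let p be a prime, ε = exp(2πi/p), and n an integer such that n = (1 − ε) * ω for some algebraic integer ω. Then p divides n. -/
theorem result (p : ℕ) (hp : p.Prime) (n : ℤ) (ω : ℂ) (hω : IsIntegral ℤ ω) (h : (n : ℂ) = (1 - Complex.exp (2 * Real.pi * Complex.I / p)) * ω) : (p : ℤ) ∣ n := by
  set ε : ℂ := Complex.exp (2 * Real.pi * Complex.I / p) with hε
  have hprim : IsPrimitiveRoot ε p := Complex.isPrimitiveRoot_exp p hp.ne_zero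
  have hεint : IsIntegral ℤ ε := hprim.isIntegral hp.pos
  obtain ⟨q, hq⟩ := Nat.exists_eq_succ_of_ne_zero hp.ne_zero
  have hprod : ∏ k ∈ Finset.range q, (1 - ε ^ (k + 1)) = (q + 1 : ℂ) := by
    have hprim' : IsPrimitiveRoot ε (q + 1) := by rw [← Nat.succ_eq_add_one, ← hq]; exact hprim
    exact hprim'.prod_one_sub_pow_eq_order
  -- for each nonzero exponent, `1 - ε` is an integral multiple of `1 - ε ^ k`
  have hdiv : ∀ k ∈ Finset.range q, ∃ u : ℂ, IsIntegral ℤ u ∧ 1 - ε = (1 - ε ^ (k + 1)) * u := by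
    intro k hk
    have hk' : k + 1 < p := by rw [hq]; simpa using Finset.mem_range.mp hk
    have hc : Nat.Coprime (k + 1) p :=
      (hp.coprime_iff_not_dvd.mpr (Nat.not_dvd_of_pos_of_lt k.succ_pos hk')).symm
    obtain ⟨j, hj, hj'⟩ := Nat.exists_mul_mod_eq_one_of_coprime hc hp.one_lt
    refine ⟨∑ i ∈ Finset.range j, (ε ^ (k + 1)) ^ i,
      IsIntegral.sum _ (fun i _ => (hεint.pow _).pow _), ?_⟩
    rw [mul_neg_geom_sum, ← pow_mul]
    congr 1
    rw [← Nat.mod_add_div ((k + 1) * j) p, hj', pow_add, pow_mul, hprim.pow_eq_one]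
    simp
  choose u hu1 hu2 using hdiv
  have key : ((n : ℂ)) ^ q = (p : ℂ) * (ω ^ q * ∏ k ∈ (Finset.range q).attach, u k.1 k.2) := by
    rw [h]
    calc ((1 - ε) * ω) ^ q = (∏ k ∈ (Finset.range q).attach, (1 - ε)) * ω ^ q := by
          rw [mul_pow, Finset.prod_const, Finset.card_attach, Finset.card_range]
      _ = (∏ k ∈ (Finset.range q).attach, (1 - ε ^ (k.1 + 1)) * u k.1 k.2) * ω ^ q := by
          rw [Finset.prod_congr rfl (fun k _ => hu2 k.1 k.2)]
      _ = _ := by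
          rw [Finset.prod_mul_distrib, Finset.prod_attach (Finset.range q) (fun k => 1 - ε ^ (k + 1)),
            hprod, hq]
          push_cast
          ring
  have hint : IsIntegral ℤ (((n : ℚ) ^ q / p : ℚ) : ℂ) := by
    have : (((n : ℚ) ^ q / p : ℚ) : ℂ) = ω ^ q * ∏ k ∈ (Finset.range q).attach, u k.1 k.2 := by
      push_cast
      rw [key, mul_div_cancel_left₀]
      exact_mod_cast hp.ne_zero
    rw [this]
    exact (hω.pow q).mul (IsIntegral.prod _ (fun k _ => hu1 k.1 k.2))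
  have hint' : IsIntegral ℤ ((n : ℚ) ^ q / p : ℚ) :=
    (isIntegral_algebraMap_iff (A := ℚ) (B := ℂ) (algebraMap ℚ ℂ).injective).mp
      (by simpa using hint)
  obtain ⟨z, hz⟩ := IsIntegrallyClosed.isIntegral_iff.mp hint'
  have : (n : ℚ) ^ q = ((p : ℤ) * z : ℤ) := by
    rw [Int.cast_mul, show ((z : ℤ) : ℚ) = (n : ℚ) ^ q / p from by simpa using hz, Int.cast_natCast,
      mul_div_cancel₀]
    exact_mod_cast hp.ne_zero
  have h2 : (p : ℤ) ∣ n ^ q := ⟨z, by exact_mod_cast this⟩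
  exact (Nat.prime_iff_prime_int.mp hp).dvd_of_dvd_pow h2

end Cfsg.Agent.S1495
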