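import Cfsg.Statements.S1497
-- import your own Cfsg.Agent.* helpers here

set_option autoImplicit false
open Cfsg

namespace Cfsg.Agent.S1497

/-- Let A be a nonempty subset of the finite group G not containing 1 and L a subgroup. Then A is a TI-subset whose normaliser is L if and only if the Dade hypothesis holds for A, L and the constant choice H(a) = ⊥. -/
theorem result {G : Type*} [Group G] [Finite G] (A : Set G) (hA : A.Nonempty) (h1 : (1 : G) ∉ A) (L : Subgroup G) : (Cfsg.IsTISubset A ∧ Subgroup.normalizer A = L) ↔ Cfsg.DadeHypothesis A L (fun _ => ⊥) := by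
  constructor
  · rintro ⟨hTI, rfl⟩
    have hN : ∀ a ∈ A, ∀ g : G, g * a * g⁻¹ ∈ A → g ∈ Subgroup.normalizer A := by
      intro a ha g hg
      by_contra hgn
      exact h1 (hTI g hgn a ha hg ▸ ha)
    refine ⟨h1, fun a ha => hN a ha a (by simpa using ha), ?_, ?_, fun a _ => bot_le, ?_,
      fun a _ => bot_inf_eq _, ?_, ?_⟩
    · intro x hx a ha
      exact (Subgroup.mem_set_normalizer_iff.mp hx a).mp ha
    · intro a ha g hg
      exact ⟨g, hN a ha g hg, rfl⟩
    · intro a _ c _ u hu
      simp only [Subgroup.mem_bot] at hu ⊢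
      rw [hu]; group
    · intro a ha
      rw [bot_sup_eq, inf_eq_right]
      intro c hc
      refine hN a ha c ?_
      rw [Subgroup.mem_centralizer_singleton_iff] at hc
      rw [hc]; simpa using ha
    · intro a _ b _
      simp
  · intro hD
    have hC : ∀ a ∈ A, Subgroup.centralizer ({a} : Set G) ≤ L := by
      intro a ha
      have := hD.sup_eq a ha
      rw [bot_sup_eq, inf_eq_right] at this
      exact this
    have hL : ∀ a ∈ A, ∀ g : G, g * a * g⁻¹ ∈ A → g ∈ L := by
      intro a ha g hg
      obtain ⟨x, hx, hxa⟩ := hD.fusion a ha g hg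
      have hc : x⁻¹ * g ∈ Subgroup.centralizer ({a} : Set G) := by
        rw [Subgroup.mem_centralizer_singleton_iff]
        calc x⁻¹ * g * a = x⁻¹ * (g * a * g⁻¹) * g := by group
          _ = x⁻¹ * (x * a * x⁻¹) * g := by rw [hxa]
          _ = _ := by group
      simpa using L.mul_mem hx (hC a ha hc)
    have hLN : L ≤ Subgroup.normalizer A := by
      intro x hx
      rw [Subgroup.mem_set_normalizer_iff]
      intro a
      refine ⟨fun ha => hD.conj_mem x hx a ha, fun ha => ?_⟩
      simpa [mul_assoc] using hD.conj_mem x⁻¹ (inv_mem hx) _ ha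
    refine ⟨fun g hg a ha hga => absurd (hLN (hL a ha g hga)) hg, le_antisymm ?_ hLN⟩
    intro g hg
    obtain ⟨a, ha⟩ := hA
    exact hL a ha g ((Subgroup.mem_set_normalizer_iff.mp hg a).mp ha)

end Cfsg.Agent.S1497
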