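import Cfsg.Statements.S1507
import Cfsg.Agent.H15.CyclicDualCard

set_option autoImplicit false
open Cfsg

namespace Cfsg.Agent.S1507

open Classical in
/-- Let W₁, W₂ ≤ G form a self-normalising cyclic subgroup W = W₁ ⊔ W₂ of odd order with Nat.card W₁ < Nat.card W₂, and χ an orthonormal family of irreducible characters of G up to sign, indexed by the linear characters ω of W, with χ_1 = 1, χ_ω = ω on W outside W₁ ∪ W₂, and the induction identity for (1 − φ)(1 − ψ). Let θ be a class function of G vanishing on W outside W₁ ∪ W₂, and suppose fewer than 2 · Nat.card W₁ linear characters ω of W have ⟨θ, χ ω⟩ ≠ 0. Then one of: all ⟨θ, χ ω⟩ vanish; or there are ψ₀ and a with ⟨θ, χ ω⟩ = a when ω ψ₀⁻¹ is trivial on W₂ and 0 otherwise; or there are φ₀ and a with ⟨θ, χ ω⟩ = a when ω φ₀⁻¹ is trivial on W₁ and 0 otherwise. -/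
theorem result {G : Type*} [Group G] [Fintype G] (W₁ W₂ : Subgroup G) (hW : Cfsg.IsSelfNormalizingCyclic W₁ W₂) (hodd : Odd (Nat.card ↥(W₁ ⊔ W₂))) (χ : (↥(W₁ ⊔ W₂) →* ℂˣ) → (G → ℂ)) (hχ : Cfsg.IsCyclicTIFamily W₁ W₂ χ) (hlt : Nat.card W₁ < Nat.card W₂) (θ : G → ℂ) (hθ : Cfsg.IsClassFunction G θ) (hθV : ∀ w : ↥(W₁ ⊔ W₂), (w : G) ∉ W₁ → (w : G) ∉ W₂ → θ w = 0) (hfew : Nat.card {ω : ↥(W₁ ⊔ W₂) →* ℂˣ // Cfsg.classInner θ (χ ω) ≠ 0} < 2 * Nat.card W₁) : (∀ ω, Cfsg.classInner θ (χ ω) = 0) ∨ (∃ (ψ₀ : ↥(W₁ ⊔ W₂) →* ℂˣ) (a : ℂ), ∀ ω, Cfsg.classInner θ (χ ω) = if (∀ w : ↥(W₁ ⊔ W₂), (w : G) ∈ W₂ → (ω * ψ₀⁻¹) w = 1) then a else 0) ∨ (∃ (φ₀ : ↥(W₁ ⊔ W₂) →* ℂˣ) (a : ℂ), ∀ ω, Cfsg.classInner θ (χ ω) = if (∀ w : ↥(W₁ ⊔ W₂), (w : G) ∈ W₁ → (ω * φ₀⁻¹) w = 1) then a else 0) := by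
  have hc := H15.ti_commute hW
  obtain ⟨hI, hJ⟩ := H15.card_triv hW.2.2.1 hW.2.2.2.1 hc
  let X := {φ : ↥(W₁ ⊔ W₂) →* ℂˣ // H15.TrivOn W₂ φ}
  let Y := {ψ : ↥(W₁ ⊔ W₂) →* ℂˣ // H15.TrivOn W₁ ψ}
  have : Fintype X := Fintype.ofFinite X
  have : Fintype Y := Fintype.ofFinite Y
  let a : (↥(W₁ ⊔ W₂) →* ℂˣ) → ℂ := fun ω => Cfsg.classInner θ (χ ω)
  let x : X → ℂ := fun p => a p.1
  let y : Y → ℂ := fun q => a q.1 - a 1
  have hxy : ∀ (p : X) (q : Y), a (p.1 * q.1) = x p + y q := by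
    intro p q
    have := H15.rect_rule hW hχ θ hθ hθV p.2 q.2
    simp only [a, x, y]
    linear_combination this
  have hbij : Function.Bijective (fun r : X × Y => r.1.1 * r.2.1) := by
    constructor
    · intro r s h
      obtain ⟨h1, h2⟩ := (H15.dual_pair_eq r.1.2 s.1.2 r.2.2 s.2.2).mp h
      exact Prod.ext (Subtype.ext h1) (Subtype.ext h2)
    · intro ω
      obtain ⟨φ, ψ, hφ, hψ, he⟩ := H15.dual_factor hW.2.2.1 hW.2.2.2.1 ω
      exact ⟨(⟨φ, hφ⟩, ⟨ψ, hψ⟩), he⟩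
  have hI2 : 2 ≤ Nat.card W₁ := by
    have h0 : 0 < Nat.card W₁ := Nat.card_pos
    have h1 : Nat.card W₁ ≠ 1 := fun h => hW.1 (Subgroup.card_eq_one.mp h)
    omega
  have hodd' := H15.card_sup_of_disjoint hW.2.2.1 hW.2.2.2.1
  rw [hodd'] at hodd
  obtain ⟨ho1, ho2⟩ := Nat.odd_mul.mp hodd
  have hgap : Nat.card W₁ + 2 ≤ Nat.card W₂ := by
    obtain ⟨k, hk⟩ := ho1
    obtain ⟨l, hl⟩ := ho2
    omega
  have hfew' : Nat.card {r : X × Y // x r.1 + y r.2 ≠ 0} < 2 * Fintype.card X := by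
    rw [← Nat.card_eq_fintype_card, hI]
    refine lt_of_eq_of_lt ?_ hfew
    exact Nat.card_congr ((Equiv.ofBijective _ hbij).subtypeEquiv (fun r => by
      simp only [Equiv.ofBijective_apply]
      rw [show Cfsg.classInner θ (χ (r.1.1 * r.2.1)) = x r.1 + y r.2 from hxy r.1 r.2]))
  rcases H15.few_nonzero x y (by rw [← Nat.card_eq_fintype_card, hI]; exact hI2)
    (by rw [← Nat.card_eq_fintype_card, ← Nat.card_eq_fintype_card, hI, hJ]; exact hgap) hfew' with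
    h | ⟨q₀, c, h⟩ | ⟨p₀, c, h⟩
  · left
    intro ω
    obtain ⟨r, rfl⟩ := hbij.2 ω
    exact (hxy r.1 r.2).trans (h _ _)
  · right; left
    refine ⟨q₀.1, c, fun ω => ?_⟩
    obtain ⟨r, rfl⟩ := hbij.2 ω
    rw [show Cfsg.classInner θ (χ (r.1.1 * r.2.1)) = x r.1 + y r.2 from hxy r.1 r.2]
    split_ifs with hh
    · refine (h r.1 r.2).1 (Subtype.ext (H15.dual_ext
        (fun w hw => by rw [r.2.2 w hw, q₀.2 w hw]) (fun w hw => ?_)))
      have := hh w hw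
      simp only [MonoidHom.mul_apply, MonoidHom.inv_apply, r.1.2 w hw, one_mul] at this
      exact mul_inv_eq_one.mp this
    · refine (h r.1 r.2).2 (fun e => hh (fun w hw => ?_))
      simp only [MonoidHom.mul_apply, MonoidHom.inv_apply, r.1.2 w hw, e, one_mul, mul_inv_cancel]
  · right; right
    refine ⟨p₀.1, c, fun ω => ?_⟩
    obtain ⟨r, rfl⟩ := hbij.2 ω
    rw [show Cfsg.classInner θ (χ (r.1.1 * r.2.1)) = x r.1 + y r.2 from hxy r.1 r.2]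
    split_ifs with hh
    · refine (h r.1 r.2).1 (Subtype.ext (H15.dual_ext (fun w hw => ?_)
        (fun w hw => by rw [r.1.2 w hw, p₀.2 w hw])))
      have := hh w hw
      simp only [MonoidHom.mul_apply, MonoidHom.inv_apply, r.2.2 w hw, mul_one] at this
      exact mul_inv_eq_one.mp this
    · refine (h r.1 r.2).2 (fun e => hh (fun w hw => ?_))
      simp only [MonoidHom.mul_apply, MonoidHom.inv_apply, r.2.2 w hw, e, mul_one, mul_inv_cancel]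

end Cfsg.Agent.S1507
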