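import Cfsg.Statements.S1510
import Mathlib
import Cfsg.Agent.H16.CoprimeCoset
-- import your own Cfsg.Agent.* helpers here

set_option autoImplicit false
open Cfsg
open scoped Pointwise

namespace Cfsg.Agent.S1510

/-- Let L be a finite group with a normal subgroup K and a nontrivial cyclic subgroup W₁ of order coprime to its index, K ⊓ W₁ = ⊥ and K ⊔ W₁ = ⊤; let W₂ ≠ ⊥ be a cyclic subgroup of K with K ⊓ C_L(x) = W₂ for every non-identity x ∈ W₁, and suppose W₁ ⊔ W₂ has odd order. Then (W₁, W₂) is a self-normalising cyclic pair in L. -/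
theorem result {L : Type*} [Group L] [Fintype L] (K W₁ W₂ : Subgroup L) [hK : K.Normal] (hKW₁ : K ⊓ W₁ = ⊥) (hKW₁' : K ⊔ W₁ = ⊤) (hW₁ : W₁ ≠ ⊥) (hW₁c : IsCyclic W₁) (hHall : Nat.Coprime (Nat.card W₁) W₁.index) (hW₂ : W₂ ≠ ⊥) (hW₂c : IsCyclic W₂) (hW₂K : W₂ ≤ K) (hC : ∀ x ∈ W₁, x ≠ 1 → K ⊓ Subgroup.centralizer ({x} : Set L) = W₂) (hodd : Odd (Nat.card ↥(W₁ ⊔ W₂))) : Cfsg.IsSelfNormalizingCyclic W₁ W₂ := by
  have hcard : Nat.card W₁ * Nat.card K = Nat.card L := by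
    have hc : Subgroup.IsComplement' K W₁ :=
      Subgroup.isComplement'_of_disjoint_and_mul_eq_univ (disjoint_iff.mpr hKW₁)
        (by rw [← Subgroup.normal_mul, hKW₁', Subgroup.coe_top])
    exact (mul_comm _ _).trans hc.card_mul
  have hcop : Nat.Coprime (Nat.card W₁) (Nat.card K) := by
    have : W₁.index = Nat.card K := by
      refine Nat.eq_of_mul_eq_mul_left (Nat.card_pos (α := W₁)) ?_
      rw [Subgroup.card_mul_index, hcard]
    rwa [← this]
  have hdis : ∀ a ∈ W₁, a ∈ K → a = 1 := fun a ha hak => by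
    have : a ∈ K ⊓ W₁ := ⟨hak, ha⟩
    rwa [hKW₁, Subgroup.mem_bot] at this
  have hcomm : ∀ a ∈ W₁, ∀ b ∈ W₂, a * b = b * a := by
    intro a ha b hb
    by_cases ha1 : a = 1
    · simp [ha1]
    · rw [← hC a ha ha1] at hb
      exact Subgroup.mem_centralizer_iff.mp hb.2 a rfl
  have hW12 : ∀ g ∈ W₁ ⊔ W₂, ∃ a ∈ W₁, ∃ b ∈ W₂, g = a * b := by
    intro g hg
    rw [Subgroup.sup_eq_closure] at hg
    induction hg using Subgroup.closure_induction with
    | mem y hy =>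
      rcases hy with h | h
      · exact ⟨y, h, 1, one_mem _, (mul_one y).symm⟩
      · exact ⟨1, one_mem _, y, h, (one_mul y).symm⟩
    | one => exact ⟨1, one_mem _, 1, one_mem _, (one_mul 1).symm⟩
    | mul y z _ _ hy hz =>
      obtain ⟨a, ha, b, hb, rfl⟩ := hy
      obtain ⟨a', ha', b', hb', rfl⟩ := hz
      exact ⟨a * a', mul_mem ha ha', b * b', mul_mem hb hb',
        Commute.mul_mul_mul_comm (hcomm a' ha' b hb).symm a b'⟩
    | inv y _ hy =>
      obtain ⟨a, ha, b, hb, rfl⟩ := hy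
      exact ⟨a⁻¹, inv_mem ha, b⁻¹, inv_mem hb, by
        rw [mul_inv_rev, hcomm a⁻¹ (inv_mem ha) b⁻¹ (inv_mem hb)]⟩
  haveI := hW₁c
  haveI := hW₂c
  letI := IsCyclic.commGroup (α := W₁)
  letI := IsCyclic.commGroup (α := W₂)
  have hcyc : IsCyclic ↥(W₁ ⊔ W₂) := by
    haveI : IsCyclic (W₁ × W₂) :=
      Group.isCyclic_prod_iff.mpr ⟨hW₁c, hW₂c, hcop.coprime_dvd_right (Subgroup.card_dvd_of_le hW₂K)⟩
    let f : W₁ × W₂ →* ↥(W₁ ⊔ W₂) :=
      { toFun := fun s => ⟨(s.1 : L) * (s.2 : L),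
          mul_mem (Subgroup.mem_sup_left s.1.2) (Subgroup.mem_sup_right s.2.2)⟩
        map_one' := Subtype.ext (by simp)
        map_mul' := fun s t => Subtype.ext
          (Commute.mul_mul_mul_comm (hcomm _ t.1.2 _ s.2.2) (s.1 : L) (t.2 : L)) }
    refine isCyclic_of_surjective f ?_
    rintro ⟨g, hg⟩
    obtain ⟨a, ha, b, hb, rfl⟩ := hW12 g hg
    exact ⟨(⟨a, ha⟩, ⟨b, hb⟩), rfl⟩
  refine ⟨hW₁, hW₂, le_bot_iff.mp fun y hy => Subgroup.mem_bot.mpr (hdis y hy.1 (hW₂K hy.2)),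
    hcomm, hcyc, fun X hX hne => le_antisymm ?_ ?_⟩
  · intro g hg
    obtain ⟨y, hy⟩ := hne
    have hy' : g * y * g⁻¹ ∈ X := (Subgroup.mem_set_normalizer_iff.mp hg y).mp hy
    obtain ⟨a, ha, b, hb, rfl⟩ := hW12 y (hX hy).1
    obtain ⟨a', ha', b', hb', he⟩ := hW12 _ (hX hy').1
    have hane : a ≠ 1 := fun h => (hX hy).2 (Or.inr (by simpa [h] using hb))
    have hg' : g ∈ (K : Set L) * (W₁ : Set L) := by
      rw [← Subgroup.normal_mul, hKW₁']; exact Subgroup.mem_top g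
    obtain ⟨k, hk, a₀, ha₀, rfl⟩ := hg'
    have hab0 : a₀ * a * a₀⁻¹ = a := by
      have := congrArg Subtype.val (IsMulCommutative.is_comm.comm (⟨a₀, ha₀⟩ : W₁) ⟨a, ha⟩)
      rw [show a₀ * a = a * a₀ from this]
      group
    have hbb0 : a₀ * b * a₀⁻¹ = b := by rw [hcomm a₀ ha₀ b hb]; group
    have he2 : k * (a * b) * k⁻¹ = a' * b' := by
      rw [← he]
      calc k * (a * b) * k⁻¹ = k * ((a₀ * a * a₀⁻¹) * (a₀ * b * a₀⁻¹)) * k⁻¹ := by rw [hab0, hbb0]
        _ = _ := by group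
    obtain ⟨n, hn1, hn2⟩ := Nat.chineseRemainder hcop 1 0
    have p1 : ∀ u ∈ W₁, ∀ v ∈ W₂, (u * v) ^ n = u := by
      intro u hu v hv
      rw [Commute.mul_pow (hcomm u hu v hv)]
      have h1 : u ^ n = u := by
        conv_rhs => rw [← pow_one u]
        exact pow_eq_pow_iff_modEq.mpr (hn1.of_dvd (Subgroup.orderOf_dvd_natCard _ hu))
      have h2 : v ^ n = 1 := orderOf_dvd_iff_pow_eq_one.mp
        ((Subgroup.orderOf_dvd_natCard _ (hW₂K hv)).trans (Nat.modEq_zero_iff_dvd.mp hn2))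
      rw [h1, h2, mul_one]
    have he3 : k * a * k⁻¹ = a' := by
      have := congrArg (· ^ n) he2
      simpa only [conj_pow, p1 a ha b hb, p1 a' ha' b' hb'] using this
    have haa : a' * a⁻¹ = 1 := by
      apply hdis _ (mul_mem ha' (inv_mem ha))
      have : a' * a⁻¹ = k * (a * k⁻¹ * a⁻¹) := by rw [← he3]; group
      rw [this]
      exact mul_mem hk (hK.conj_mem _ (inv_mem hk) a)
    rw [mul_inv_eq_one] at haa
    subst haa
    have hkW : k ∈ W₂ := by
      rw [← hC a' ha hane]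
      refine ⟨hk, Subgroup.mem_centralizer_iff.mpr ?_⟩
      rintro z rfl
      exact (mul_inv_eq_iff_eq_mul.mp he3).symm
    exact mul_mem (Subgroup.mem_sup_right hkW) (Subgroup.mem_sup_left ha₀)
  · intro g hg
    refine Subgroup.mem_set_normalizer_iff.mpr fun h => ?_
    have hfix : ∀ y ∈ X, g * y * g⁻¹ = y := fun y hy => by
      have := congrArg Subtype.val
        (IsMulCommutative.is_comm.comm (⟨g, hg⟩ : ↥(W₁ ⊔ W₂)) ⟨y, (hX hy).1⟩)
      rw [show g * y = y * g from this]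
      group
    constructor
    · intro hh; rwa [hfix h hh]
    · intro hh
      have := hfix _ hh
      have e : g * h * g⁻¹ = h := by
        calc g * h * g⁻¹ = g⁻¹ * (g * (g * h * g⁻¹) * g⁻¹) * g := by group
          _ = g⁻¹ * (g * h * g⁻¹) * g := by rw [this]
          _ = h := by group
      rwa [e] at hh

end Cfsg.Agent.S1510
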