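import Cfsg.Statements.S1512
import Mathlib
import Cfsg.Agent.H16.CoprimeCoset
-- import your own Cfsg.Agent.* helpers here

set_option autoImplicit false
open Cfsg

namespace Cfsg.Agent.S1512

/-- Let K be a normal subgroup of the finite group L and x a non-identity element whose order is coprime to the order of K, such that K ⊓ C_L(y) = W₂ for every non-identity element y of the cyclic group generated by x. Then the number of conjugacy classes of K mapped to themselves by conjugation by x is at most Nat.card W₂. -/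
theorem result {L : Type*} [Group L] [Finite L] (K W₂ : Subgroup L) [hK : K.Normal] (x : L) (hx1 : x ≠ 1) (hx : Nat.Coprime (orderOf x) (Nat.card K)) (hC : ∀ y ∈ Subgroup.zpowers x, y ≠ 1 → K ⊓ Subgroup.centralizer ({y} : Set L) = W₂) : Nat.card {C : ConjClasses K // ConjClasses.map (MulEquiv.toMonoidHom ((MulAut.conjNormal x : MulAut K))) C = C} ≤ Nat.card W₂ := by
  classical
  have hW : K ⊓ Subgroup.centralizer ({x} : Set L) = W₂ := hC x (Subgroup.mem_zpowers x) hx1
  have hWK : W₂ ≤ K := hW ▸ inf_le_left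
  let f : W₂ → ConjClasses K := fun w => ConjClasses.mk ⟨(w : L), hWK w.2⟩
  have key : ∀ C : {C : ConjClasses K //
      ConjClasses.map (MulEquiv.toMonoidHom ((MulAut.conjNormal x : MulAut K))) C = C}, ∃ w, f w = C.1 := by
    rintro ⟨C, hCfix⟩
    obtain ⟨d, rfl⟩ := ConjClasses.mk_surjective C
    have h1 : IsConj ((MulAut.conjNormal x : MulAut K) d) d :=
      ConjClasses.mk_eq_mk_iff_isConj.mp hCfix
    obtain ⟨a, ha⟩ := isConj_iff.mp h1
    have ha' : (a : L) * (x * (d : L) * x⁻¹) * (a : L)⁻¹ = (d : L) := by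
      have := congrArg Subtype.val ha
      simpa [MulAut.conjNormal_apply] using this
    have hcomm : (a : L) * x * (d : L) = (d : L) * ((a : L) * x) := by
      conv_rhs => rw [← ha']
      group
    obtain ⟨c, hc, hcx⟩ := H16.exists_conj_comm K x hx a d a.2 d.2 hcomm
    have hmem : c⁻¹ * (d : L) * c ∈ W₂ := by
      rw [← hW]
      refine Subgroup.mem_inf.mpr ⟨mul_mem (mul_mem (inv_mem hc) d.2) hc,
        Subgroup.mem_centralizer_iff.mpr ?_⟩
      rintro y rfl
      exact hcx.symm
    refine ⟨⟨_, hmem⟩, ConjClasses.mk_eq_mk_iff_isConj.mpr (isConj_iff.mpr ⟨⟨c, hc⟩, ?_⟩)⟩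
    apply Subtype.ext
    show c * (c⁻¹ * (d : L) * c) * c⁻¹ = (d : L)
    group
  choose g hg using key
  exact Nat.card_le_card_of_injective g fun A B h => Subtype.ext (by rw [← hg A, ← hg B, h])

end Cfsg.Agent.S1512
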