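import Cfsg.Statements.S1515
import Mathlib
import Cfsg.Agent.H16.Coherence

set_option autoImplicit false
open Cfsg

namespace Cfsg.Agent.S1515

/-- Let (S, τ, R) be a coherence system from L to G, χ ∈ S, and ψ an integer combination of S with ⟨χ, ψ⟩ = ⟨conj χ, ψ⟩ = 0. Let τ₁ be a linear isometry on the integer combinations of χ − ψ and χ − conj χ, with virtual-character values, agreeing with τ on integer multiples of χ − conj χ. Then the sum over α ∈ R χ of the squared absolute values of ⟨τ₁(χ − ψ), α⟩ is at least ⟨χ, χ⟩; and if ⟨τ₁(χ − ψ), τ₁(χ − ψ)⟩ minus that sum is at least ⟨ψ, ψ⟩, then the sum equals ⟨χ, χ⟩ and every ⟨τ₁(χ − ψ), α⟩ with α ∈ R χ is 0 or 1. -/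
theorem result {L : Type*} [Group L] [Fintype L] {G : Type*} [Group G] [Fintype G] (S : Set (L → ℂ)) (τ : (L → ℂ) → (G → ℂ)) (R : (L → ℂ) → Finset (G → ℂ)) (hS : Cfsg.IsCoherenceSystem S τ R) (χ : L → ℂ) (hχ : χ ∈ S) (ψ : L → ℂ) (hψ : ψ ∈ Cfsg.zspan S) (h1 : Cfsg.classInner χ ψ = 0) (h2 : Cfsg.classInner (Cfsg.conjFun χ) ψ = 0) (τ₁ : (L → ℂ) → (G → ℂ)) (hτ₁ : Cfsg.IsLinearIsometryOn (Cfsg.zspan {χ - ψ, χ - Cfsg.conjFun χ}) τ₁) (hagree : ∀ n : ℤ, τ₁ (n • (χ - Cfsg.conjFun χ)) = τ (n • (χ - Cfsg.conjFun χ))) : (Cfsg.classInner χ χ).re ≤ ∑ α ∈ R χ, ‖Cfsg.classInner (τ₁ (χ - ψ)) α‖ ^ 2 ∧ ((Cfsg.classInner ψ ψ).re ≤ (Cfsg.classInner (τ₁ (χ - ψ)) (τ₁ (χ - ψ))).re - ∑ α ∈ R χ, ‖Cfsg.classInner (τ₁ (χ - ψ)) α‖ ^ 2 → (∑ α ∈ R χ, ‖Cfsg.classInner (τ₁ (χ - ψ)) α‖ ^ 2 = (Cfsg.classInner χ χ).re ∧ ∀ α ∈ R χ, Cfsg.classInner (τ₁ (χ - ψ)) α = 0 ∨ Cfsg.classInner (τ₁ (χ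 - ψ)) α = 1)) := by
  classical
  have hm := H16.sys_sub_conj_mem hS hχ hχ (hS.conj_mem χ hχ)
  have e1 : χ - ψ ∈ Cfsg.zspan ({χ - ψ, χ - Cfsg.conjFun χ} : Set (L → ℂ)) :=
    H16.zspan_of_mem (Set.mem_insert _ _)
  have e2 : χ - Cfsg.conjFun χ ∈ Cfsg.zspan ({χ - ψ, χ - Cfsg.conjFun χ} : Set (L → ℂ)) :=
    H16.zspan_of_mem (Set.mem_insert_of_mem _ rfl)
  have hag : τ₁ (χ - Cfsg.conjFun χ) = τ (χ - Cfsg.conjFun χ) := by simpa using hagree 1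
  set Y := τ₁ (χ - ψ) with hY
  have hYgen : Cfsg.IsGeneralizedCharacter G Y := hτ₁.2.2.2 _ e1
  have h1' : Cfsg.classInner ψ χ = 0 := by rw [H16.ci_symm χ ψ, h1, map_zero]
  have h2' : Cfsg.classInner ψ (Cfsg.conjFun χ) = 0 := by
    rw [H16.ci_symm (Cfsg.conjFun χ) ψ, h2, map_zero]
  have hsum : ∑ α ∈ R χ, Cfsg.classInner Y α = Cfsg.classInner χ χ := by
    rw [← H16.ci_sum_right, ← hS.sum_eq χ hχ, ← hag, hY, hτ₁.2.2.1 _ e1 _ e2]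
    simp only [H16.ci_sub_left, H16.ci_sub_right, h1', h2', H16.sys_orth hS hχ]
    ring
  have hint : ∀ α ∈ R χ, ∃ z : ℤ, Cfsg.classInner Y α = z := fun α hα =>
    H16.gen_inner_int hYgen (hS.virtual χ hχ α hα)
  have hle : ∀ α ∈ R χ, (Cfsg.classInner Y α).re ≤ ‖Cfsg.classInner Y α‖ ^ 2 := by
    intro α hα
    obtain ⟨z, hz⟩ := hint α hα
    rw [hz, Complex.intCast_re, Complex.sq_norm, Complex.normSq_intCast]
    exact_mod_cast (show z ≤ z * z by rcases le_or_gt z 0 with h | h <;> nlinarith)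
  have hres : (Cfsg.classInner χ χ).re = ∑ α ∈ R χ, (Cfsg.classInner Y α).re := by
    rw [← hsum, Complex.re_sum]
  have hfirst : (Cfsg.classInner χ χ).re ≤ ∑ α ∈ R χ, ‖Cfsg.classInner Y α‖ ^ 2 :=
    hres ▸ Finset.sum_le_sum hle
  refine ⟨hfirst, fun hge => ?_⟩
  have hYY : (Cfsg.classInner Y Y).re = (Cfsg.classInner χ χ).re + (Cfsg.classInner ψ ψ).re := by
    rw [hY, hτ₁.2.2.1 _ e1 _ e1]
    simp [H16.ci_sub_left, H16.ci_sub_right, h1, h1']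
  have heq : ∑ α ∈ R χ, ‖Cfsg.classInner Y α‖ ^ 2 = (Cfsg.classInner χ χ).re :=
    le_antisymm (by linarith) hfirst
  refine ⟨heq, fun α hα => ?_⟩
  have hz0 : ∑ β ∈ R χ, (‖Cfsg.classInner Y β‖ ^ 2 - (Cfsg.classInner Y β).re) = 0 := by
    rw [Finset.sum_sub_distrib, heq, hres, sub_self]
  have := (Finset.sum_eq_zero_iff_of_nonneg fun β hβ => sub_nonneg.mpr (hle β hβ)).mp hz0 α hα
  obtain ⟨z, hz⟩ := hint α hα
  rw [hz, Complex.intCast_re, Complex.sq_norm, Complex.normSq_intCast, sub_eq_zero] at this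
  have hz' : z * (z - 1) = 0 := by
    have : z * z = z := by exact_mod_cast this
    linarith
  rcases mul_eq_zero.mp hz' with h | h
  · exact Or.inl (by rw [hz, h, Int.cast_zero])
  · exact Or.inr (by rw [hz, sub_eq_zero.mp h, Int.cast_one])

end Cfsg.Agent.S1515
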