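import Cfsg.Statements.S1527
import Mathlib
-- import your own Cfsg.Agent.* helpers here

set_option autoImplicit false
open Cfsg

namespace Cfsg.Agent.S1527

/-- Let G be a finite group and H i (i in a finite index type) subgroups of pairwise coprime orders, each of whose underlying sets is a TI-subset of G, such that every non-identity element of G is conjugate to an element of some H i. Then Nat.card G − 1 = Σ_i [G : N_G(H i)] · (Nat.card (H i) − 1). -/
theorem result {G : Type*} [Group G] [Finite G] {ι : Type*} [Fintype ι] (H : ι → Subgroup G) (hcop : ∀ i j, i ≠ j → Nat.Coprime (Nat.card (H i)) (Nat.card (H j))) (hTI : ∀ i, Cfsg.IsTISubset (H i : Set G)) (hcover : ∀ g : G, g ≠ 1 → ∃ i, ∃ x : G, x * g * x⁻¹ ∈ H i) : Nat.card G - 1 = ∑ i, (Subgroup.normalizer (H i : Set G)).index * (Nat.card (H i) - 1) := by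
  classical
  let N : ι → Subgroup G := fun i => Subgroup.normalizer (H i : Set G)
  have hnorm : ∀ i (n : G), n ∈ N i → ∀ h ∈ H i, n * h * n⁻¹ ∈ H i := fun i n hn h hh =>
    (Subgroup.mem_normalizer_iff.mp hn h).mp hh
  let f : (Σ i, (G ⧸ N i) × {h : H i // h ≠ 1}) → {g : G // g ≠ 1} := fun s =>
    ⟨s.2.1.out * (s.2.2.1 : G) * s.2.1.out⁻¹, by
      rw [Ne, conj_eq_one_iff]
      exact fun h => s.2.2.2 (Subtype.ext h)⟩
  have hf : Function.Bijective f := by
    constructor
    · rintro ⟨i, a, h⟩ ⟨j, b, k⟩ e
      have e' : a.out * (h.1 : G) * a.out⁻¹ = b.out * (k.1 : G) * b.out⁻¹ := congrArg Subtype.val e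
      obtain rfl : i = j := by
        by_contra hij
        have h1 : orderOf (h.1 : G) = orderOf (k.1 : G) := by
          rw [← MulEquiv.orderOf_eq (MulAut.conj a.out) (h.1 : G),
            ← MulEquiv.orderOf_eq (MulAut.conj b.out) (k.1 : G), MulAut.conj_apply, MulAut.conj_apply, e']
        have h2 : orderOf (h.1 : G) ∣ Nat.card (H i) := by
          rw [Subgroup.orderOf_coe]; exact orderOf_dvd_natCard h.1
        have h3 : orderOf (h.1 : G) ∣ Nat.card (H j) := by
          rw [h1, Subgroup.orderOf_coe]; exact orderOf_dvd_natCard k.1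
        have h4 : orderOf (h.1 : G) ∣ 1 := by
          rw [← Nat.Coprime.gcd_eq_one (hcop i j hij)]; exact Nat.dvd_gcd h2 h3
        exact h.2 (Subtype.ext (orderOf_eq_one_iff.mp (Nat.dvd_one.mp h4)))
      have e2 : (b.out⁻¹ * a.out) * (h.1 : G) * (b.out⁻¹ * a.out)⁻¹ = (k.1 : G) := by
        calc _ = b.out⁻¹ * (a.out * (h.1 : G) * a.out⁻¹) * b.out := by group
          _ = (k.1 : G) := by rw [e']; group
      have hab : a = b := by
        by_contra hne
        refine h.2 (Subtype.ext (hTI i (b.out⁻¹ * a.out) (fun hm => hne ?_) _ h.1.2 ?_))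
        · rw [← QuotientGroup.out_eq' a, ← QuotientGroup.out_eq' b]
          exact (QuotientGroup.eq.mpr hm).symm
        · rw [e2]; exact k.1.2
      subst hab
      have hk : h = k := by
        apply Subtype.ext; apply Subtype.ext
        simpa using e2
      subst hk
      rfl
    · rintro ⟨g, hg⟩
      obtain ⟨i, x, hx⟩ := hcover g hg
      let a : G ⧸ N i := QuotientGroup.mk x⁻¹
      have hn : x * a.out ∈ N i := by
        simpa using QuotientGroup.eq.mp (QuotientGroup.out_eq' a).symm
      have hmem : a.out⁻¹ * g * a.out ∈ H i := by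
        have := hnorm i _ (inv_mem hn) _ hx
        convert this using 1
        group
      refine ⟨⟨i, a, ⟨⟨_, hmem⟩, fun h => hg ?_⟩⟩, ?_⟩
      · have h' : a.out⁻¹ * g * a.out = 1 := congrArg Subtype.val h
        calc g = a.out * (a.out⁻¹ * g * a.out) * a.out⁻¹ := by group
          _ = 1 := by rw [h']; group
      · apply Subtype.ext
        show a.out * (a.out⁻¹ * g * a.out) * a.out⁻¹ = g
        group
  have hc := Nat.card_eq_of_bijective f hf
  have key : ∀ (T : Type _) [Finite T] (t : T), Nat.card {y : T // y ≠ t} = Nat.card T - 1 := by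
    intro T _ t
    have := Fintype.ofFinite T
    rw [Nat.card_eq_fintype_card, Nat.card_eq_fintype_card]
    exact (Fintype.card_subtype_compl _).trans (by simp)
  rw [Nat.card_sigma, key G 1] at hc
  rw [← hc]
  refine Finset.sum_congr rfl fun i _ => ?_
  have hk : Nat.card {y : H i // y ≠ 1} = Nat.card (H i) - 1 := by
    have := Fintype.ofFinite (H i)
    rw [Nat.card_eq_fintype_card, Nat.card_eq_fintype_card]
    exact (Fintype.card_subtype_compl _).trans (by simp)
  rw [Nat.card_prod, hk]
  rfl

end Cfsg.Agent.S1527
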