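import Cfsg.Statements.S1528
import Mathlib
import Cfsg.Agent.H16.FixedChars

set_option autoImplicit false
open Cfsg

namespace Cfsg.Agent.S1528

/-- Let N be a normal subgroup of the finite group G such that every element of G commuting with a non-identity element of N lies in N. If χ is an irreducible character of G with χ n ≠ χ 1 for some n ∈ N, then χ is the function induced from some irreducible character of N. -/
theorem result {G : Type*} [Group G] [Fintype G] (N : Subgroup G) [N.Normal] (hC : ∀ n ∈ N, n ≠ 1 → Subgroup.centralizer ({n} : Set G) ≤ N) (χ : G → ℂ) (hχ : Cfsg.IsIrrCharacter G χ) (hker : ∃ n ∈ N, χ n ≠ χ 1) : ∃ φ : N → ℂ, Cfsg.IsIrrCharacter N φ ∧ χ = Cfsg.indFun N φ := by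
  classical
  obtain ⟨n₀, hn₀, hne0⟩ := hker
  have : Fintype N := Fintype.ofFinite N
  have hres : Cfsg.IsCharacter N (fun n : N => χ n) :=
    H12.IsCharacter.res (H12.isCharacter_of_isIrrCharacter hχ) N
  obtain ⟨φ, hφne, hφ⟩ : ∃ φ : Cfsg.IrrCharacter N, φ ≠ H12.oneIrr N ∧
      Cfsg.classInner (fun n : N => χ n) φ ≠ 0 := by
    by_contra hcon
    push Not at hcon
    have e := H12.classFunction_eq_sum (H12.IsCharacter.isClassFunction hres)
    rw [Finset.sum_eq_single (H12.oneIrr N) (fun b _ hb => by rw [hcon b hb, zero_smul])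
      (fun h => absurd (Finset.mem_univ _) h)] at e
    exact hne0 ((congrFun e ⟨n₀, hn₀⟩).trans (congrFun e 1).symm)
  have hin : H13.inertia N (φ : N → ℂ) ≤ N := by
    intro g hg
    by_contra hgN
    obtain ⟨d, hd, hd1, a, ha, hcomm⟩ := (H16.exists_fixed_twist_iff N g).mp
      ⟨φ, φ.2, fun h => hφne (Subtype.ext h), hg⟩
    have : a * g ∈ N := hC d hd hd1 (Subgroup.mem_centralizer_iff.mpr
      (by rintro y rfl; exact hcomm.symm))
    exact hgN ((Subgroup.mul_mem_cancel_left N ha).mp this)
  have hI := H13.isIrrCharacter_indFun_of_inertia N φ.2 hin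
  refine ⟨φ, φ.2, ?_⟩
  by_contra hne
  apply hφ
  have h0 : Cfsg.classInner (Cfsg.indFun N (φ : N → ℂ)) χ = 0 := by
    exact H12.classInner_irr_ne (χ := ⟨_, hI⟩) (ψ := ⟨χ, hχ⟩)
      fun h => hne (congrArg Subtype.val h).symm
  rw [H13.classInner_indFun_left N _ (H12.IsCharacter.isClassFunction
    (H12.isCharacter_of_isIrrCharacter hχ))] at h0
  rw [← H12.conj_classInner, h0, map_zero]

end Cfsg.Agent.S1528
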