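import Cfsg.Statements.S1532
import Cfsg.Agent.H16.TISetup

set_option autoImplicit false
open Cfsg

namespace Cfsg.Agent.S1532

/-- Let G be a finite group, p an odd prime and P a Sylow p-subgroup that is non-abelian, whose underlying set is a TI-subset of G, with P properly contained in its set normaliser N and C_G(x) ≤ P for every non-identity x ∈ P. Let Z be a nontrivial subgroup of the centre of P normalised by N. Then the set of irreducible characters χ of N with χ z ≠ χ 1 for some z ∈ Z is coherent for the map induced by induction from N to G. -/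
theorem result {G : Type*} [Group G] [Fintype G] (p : ℕ) [Fact p.Prime] (hp : p ≠ 2) (P : Sylow p G) (hna : ¬ IsMulCommutative (P : Subgroup G)) (hTI : Cfsg.IsTISubset ((P : Subgroup G) : Set G)) (hlt : (P : Subgroup G) < Subgroup.normalizer ((P : Subgroup G) : Set G)) (hC : ∀ k ∈ (P : Subgroup G), k ≠ 1 → Subgroup.centralizer ({k} : Set G) ≤ (P : Subgroup G)) [Fintype ↥(Subgroup.normalizer ((P : Subgroup G) : Set G))] (Z : Subgroup G) (hZ1 : Z ≠ ⊥) (hZP : ∀ z ∈ Z, z ∈ (P : Subgroup G) ∧ ∀ y ∈ (P : Subgroup G), z * y = y * z) (hZn : ∀ x ∈ Subgroup.normalizer ((P : Subgroup G) : Set G), ∀ z ∈ Z, x * z * x⁻¹ ∈ Z) : Cfsg.IsCoherent {χ : ↥(Subgroup.normalizer ((P : Subgroup G) : Set G)) → ℂ | Cfsg.IsIrrCharacter ↥(Subgroup.normalizer ((P : Subgroup G) : Set G)) χ ∧ ∃ z : ↥(Subgroup.normalizer ((P : Subgroup G) : Set G)), (z : G) ∈ Z ∧ χ z ≠ χ 1} {1}ᶜ (fun α => Cfsg.indFun (Subgroup.normalizer ((P : Subgroup G) : Set G)) α) := by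
  have hodd := H16.odd_normalizer _ hC hna (H16.sylow_odd_card hp P)
  have hC' := H16.centralizer_subgroupOf _ hC
  haveI : ((P : Subgroup G).subgroupOf (Subgroup.normalizer ((P : Subgroup G) : Set G))).Normal :=
    Subgroup.normal_in_normalizer
  haveI := H16.normal_subgroupOf_normalizer _ Z hZn
  have hZP' : Z.subgroupOf (Subgroup.normalizer ((P : Subgroup G) : Set G)) ≤
      (P : Subgroup G).subgroupOf (Subgroup.normalizer ((P : Subgroup G) : Set G)) :=
    Subgroup.comap_mono fun z hz => (hZP z hz).1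
  obtain ⟨n, hn⟩ := IsPGroup.iff_card.mp P.2
  have hset : {χ : ↥(Subgroup.normalizer ((P : Subgroup G) : Set G)) → ℂ |
      Cfsg.IsIrrCharacter ↥(Subgroup.normalizer ((P : Subgroup G) : Set G)) χ ∧
        ∃ z : ↥(Subgroup.normalizer ((P : Subgroup G) : Set G)), (z : G) ∈ Z ∧ χ z ≠ χ 1} =
      Cfsg.inducedIrrAbove ((P : Subgroup G).subgroupOf (Subgroup.normalizer ((P : Subgroup G) : Set G))) ⊥ \
        Cfsg.inducedIrrAbove ((P : Subgroup G).subgroupOf (Subgroup.normalizer ((P : Subgroup G) : Set G)))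
          (Z.subgroupOf (Subgroup.normalizer ((P : Subgroup G) : Set G))) :=
    (H16.xset_eq _ _ hZP' fun χ h => H16.frob_irr_mem _ hC' h.1).symm
  obtain ⟨hτ, hτ1⟩ := H16.ti_induction_isometry (P : Subgroup G) hTI
  rw [hset]
  refine H16.frob_coherent_center _ hC' (p := p) (n := n) Fact.out hodd ?_ _ ?_ hZP' ?_ _ hτ hτ1
  · rw [Nat.card_congr (Subgroup.subgroupOfEquivOfLe (Subgroup.le_normalizer)).toEquiv, hn]
  · rw [ne_eq, Subgroup.subgroupOf_eq_bot, disjoint_iff, inf_eq_left.mpr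
      (fun z hz => Subgroup.le_normalizer (hZP z hz).1)]
    exact hZ1
  · intro z hz k hk
    exact Subtype.ext ((hZP _ (Subgroup.mem_subgroupOf.mp hz)).2 _ (Subgroup.mem_subgroupOf.mp hk))

end Cfsg.Agent.S1532
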