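import Cfsg.Statements.S1533
import Cfsg.Agent.H16.Sibley
import Cfsg.Agent.H16.FrobAbelian

set_option autoImplicit false
open Cfsg

namespace Cfsg.Agent.S1533

/-- Let G be a finite group, p an odd prime, and P a nontrivial Sylow p-subgroup whose underlying set is a TI-subset of G, with P properly contained in its set normaliser N and C_G(x) ≤ P for every non-identity x ∈ P. Let S be the set of irreducible characters χ of N with χ x ≠ χ 1 for some x ∈ P. Then either S has exactly one member, P is elementary abelian and Nat.card P = [N:P] + 1; or (S, N minus 1, induction to G) is coherent. -/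
theorem result {G : Type*} [Group G] [Fintype G] (p : ℕ) [Fact p.Prime] (hp : p ≠ 2) (P : Sylow p G) (hP1 : (P : Subgroup G) ≠ ⊥) (hTI : Cfsg.IsTISubset ((P : Subgroup G) : Set G)) (hlt : (P : Subgroup G) < Subgroup.normalizer ((P : Subgroup G) : Set G)) (hC : ∀ k ∈ (P : Subgroup G), k ≠ 1 → Subgroup.centralizer ({k} : Set G) ≤ (P : Subgroup G)) [Fintype ↥(Subgroup.normalizer ((P : Subgroup G) : Set G))] : (Nat.card {χ : ↥(Subgroup.normalizer ((P : Subgroup G) : Set G)) → ℂ // Cfsg.IsIrrCharacter ↥(Subgroup.normalizer ((P : Subgroup G) : Set G)) χ ∧ ∃ x : ↥(Subgroup.normalizer ((P : Subgroup G) : Set G)), (x : G) ∈ (P : Subgroup G) ∧ χ x ≠ χ 1} = 1 ∧ Cfsg.IsElementaryAbelian p (P : Subgroup G) ∧ Nat.card (P : Subgroup G) = ((P : Subgroup G).subgroupOf (Subgroup.normalizer ((P : Subgroup G) : Set G))).index + 1) ∨ Cfsg.IsCoherent {χ : ↥(Subgroup.normalizer ((P : Subgroup G) : Set G)) → ℂ | Cfsg.IsIrrCharacter ↥(Subgroup.normalizer ((P : Subgroup G) : Set G)) χ ∧ ∃ x :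 ↥(Subgroup.normalizer ((P : Subgroup G) : Set G)), (x : G) ∈ (P : Subgroup G) ∧ χ x ≠ χ 1} {1}ᶜ (fun α => Cfsg.indFun (Subgroup.normalizer ((P : Subgroup G) : Set G)) α) := by
  classical
  have hC' := H16.centralizer_subgroupOf _ hC
  haveI : ((P : Subgroup G).subgroupOf (Subgroup.normalizer ((P : Subgroup G) : Set G))).Normal :=
    Subgroup.normal_in_normalizer
  obtain ⟨hτ, hτ1⟩ := H16.ti_induction_isometry (P : Subgroup G) hTI
  have hset : {χ : ↥(Subgroup.normalizer ((P : Subgroup G) : Set G)) → ℂ |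
      Cfsg.IsIrrCharacter ↥(Subgroup.normalizer ((P : Subgroup G) : Set G)) χ ∧
        ∃ x : ↥(Subgroup.normalizer ((P : Subgroup G) : Set G)), (x : G) ∈ (P : Subgroup G) ∧ χ x ≠ χ 1} =
      Cfsg.inducedIrrAbove ((P : Subgroup G).subgroupOf (Subgroup.normalizer ((P : Subgroup G) : Set G))) ⊥ := by
    rw [← H16.frob_set_eq _ hC']
    rfl
  rw [hset]
  by_cases hab : IsMulCommutative (P : Subgroup G)
  · have hab' : ∀ a ∈ (P : Subgroup G).subgroupOf (Subgroup.normalizer ((P : Subgroup G) : Set G)),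
        ∀ b ∈ (P : Subgroup G).subgroupOf (Subgroup.normalizer ((P : Subgroup G) : Set G)),
        a * b = b * a := fun a ha b hb => Subtype.ext
      (congrArg Subtype.val (hab.is_comm.comm (⟨a, Subgroup.mem_subgroupOf.mp ha⟩ : (P : Subgroup G))
        ⟨b, Subgroup.mem_subgroupOf.mp hb⟩) :)
    have hP1' : (P : Subgroup G).subgroupOf (Subgroup.normalizer ((P : Subgroup G) : Set G)) ≠ ⊥ := by
      rw [ne_eq, Subgroup.subgroupOf_eq_bot, disjoint_iff, inf_eq_left.mpr Subgroup.le_normalizer]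
      exact hP1
    refine (H16.frob_abelian_case _ hC' hP1' hab' _ hτ hτ1).imp (fun ⟨h1, h2⟩ => ?_) id
    have hcard : Nat.card ↥((P : Subgroup G).subgroupOf
        (Subgroup.normalizer ((P : Subgroup G) : Set G))) = Nat.card (P : Subgroup G) :=
      Nat.card_congr (Subgroup.subgroupOfEquivOfLe Subgroup.le_normalizer).toEquiv
    refine ⟨?_, ⟨hab, ?_⟩, hcard ▸ h2⟩
    · rw [← hset, ← Nat.card_coe_set_eq] at h1
      exact h1
    · obtain ⟨q, hq, hqd, hexp⟩ := H16.frob_exponent_prime _ hC' hP1' h2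
      rw [hcard] at hqd
      obtain ⟨n, hn⟩ := IsPGroup.iff_card.mp P.2
      have hqp : q = p := (Nat.prime_dvd_prime_iff_eq hq Fact.out).mp
        (hq.dvd_of_dvd_pow (hn ▸ hqd))
      subst hqp
      intro a ha
      exact congrArg Subtype.val (hexp ⟨a, Subgroup.le_normalizer ha⟩ (Subgroup.mem_subgroupOf.mpr ha))
  · exact Or.inr (H16.sibley_pgroup P hTI hC hab (H16.odd_normalizer _ hC hab (H16.sylow_odd_card hp P)))

end Cfsg.Agent.S1533
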