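import Cfsg.Statements.S1536
import Mathlib
import Cfsg.Agent.H16.FixedChars

set_option autoImplicit false
open Cfsg

namespace Cfsg.Agent.S1536

/-- Let H be a normal subgroup of the finite group M whose order is coprime to its index. For x ∈ M: some non-principal irreducible character of H is unchanged under h ↦ θ(x h x⁻¹) if and only if some non-identity element of H commutes with x. -/
theorem result {M : Type*} [Group M] [Finite M] (H : Subgroup M) [hN : H.Normal] (hHall : Nat.Coprime (Nat.card H) H.index) (x : M) : (∃ θ : H → ℂ, Cfsg.IsIrrCharacter H θ ∧ θ ≠ (fun _ => 1) ∧ (fun h : H => θ ⟨x * h * x⁻¹, hN.conj_mem h h.2 x⟩) = θ) ↔ ∃ h ∈ H, h ≠ 1 ∧ x * h = h * x := by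
  refine Iff.trans (H16.exists_fixed_twist_iff H x) ?_
  constructor
  · rintro ⟨d, hd, hd1, a, ha, hcomm⟩
    by_cases hco : Nat.Coprime (orderOf x) (Nat.card H)
    · obtain ⟨c, hc, hcx⟩ := H16.exists_conj_comm H x hco a d ha hd hcomm
      refine ⟨c⁻¹ * d * c, mul_mem (mul_mem (inv_mem hc) hd) hc, fun h => hd1 ?_, hcx.symm⟩
      calc d = c * (c⁻¹ * d * c) * c⁻¹ := by group
        _ = 1 := by rw [h]; group
    · obtain ⟨p, hp, hp1, hp2⟩ := Nat.Prime.not_coprime_iff_dvd.mp hco
      set y := x ^ (orderOf x / p) with hy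
      have hop : orderOf y = p := orderOf_pow_orderOf_div (orderOf_pos x).ne' hp1
      refine ⟨y, ?_, fun h => hp.ne_one (by rw [← hop, h, orderOf_one]), (Commute.pow_right rfl _).eq⟩
      rw [← QuotientGroup.eq_one_iff, ← orderOf_eq_one_iff]
      have d1 : orderOf (y : M ⧸ H) ∣ p := hop ▸ orderOf_map_dvd (QuotientGroup.mk' H) y
      have d2 : orderOf (y : M ⧸ H) ∣ H.index := orderOf_dvd_natCard _
      exact Nat.dvd_one.mp (Nat.Coprime.gcd_eq_one (hHall.coprime_dvd_left hp2) ▸ Nat.dvd_gcd d1 d2)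
  · rintro ⟨h, hh, hne, hx⟩
    exact ⟨h, hh, hne, 1, one_mem H, by simpa using hx⟩

end Cfsg.Agent.S1536
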