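import Cfsg.Statements.S1546
-- import your own Cfsg.Agent.* helpers here

set_option autoImplicit false
open Cfsg

namespace Cfsg.Agent.S1546

/-- Let p and q be odd primes and N = (p ^ q − 1) / (p − 1) = 1 + p + ⋯ + p^(q−1). Then N is odd; if p ≡ 1 (mod q) then q ∣ N; and if p is not ≡ 1 (mod q) then N is coprime to p − 1 and every divisor of N is ≡ 1 (mod q). -/
theorem result (p q : ℕ) (hp : p.Prime) (hq : q.Prime) (hp2 : p ≠ 2) (hq2 : q ≠ 2) : Odd ((p ^ q - 1) / (p - 1)) ∧ (p % q = 1 → q ∣ (p ^ q - 1) / (p - 1)) ∧ (p % q ≠ 1 → Nat.Coprime ((p ^ q - 1) / (p - 1)) (p - 1) ∧ ∀ x : ℕ, x ∣ (p ^ q - 1) / (p - 1) → x % q = 1) := by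
  have hN : (p ^ q - 1) / (p - 1) = ∑ k ∈ Finset.range q, p ^ k :=
    (Nat.geomSum_eq hp.two_le q).symm
  rw [hN]
  set N := ∑ k ∈ Finset.range q, p ^ k with hNdef
  have hpodd : Odd p := hp.odd_of_ne_two hp2
  have hqodd : Odd q := hq.odd_of_ne_two hq2
  have hmod : ∀ r : ℕ, p % r = 1 % r → N % r = q % r := by
    intro r hr
    rw [hNdef, Finset.sum_nat_mod]
    have : ∀ k ∈ Finset.range q, p ^ k % r = 1 % r := fun k _ => by
      rw [Nat.pow_mod, hr, ← Nat.pow_mod, one_pow]
    rw [Finset.sum_congr rfl this, Finset.sum_const, Finset.card_range, smul_eq_mul,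
      Nat.mul_mod, Nat.mod_mod, ← Nat.mul_mod, mul_one]
  refine ⟨?_, ?_, ?_⟩
  · rw [Nat.odd_iff, hmod 2 (by rw [Nat.odd_iff.mp hpodd]), Nat.odd_iff.mp hqodd]
  · intro h
    apply Nat.dvd_of_mod_eq_zero
    rw [hmod q (by rw [h, Nat.one_mod_eq_one.mpr hq.ne_one]), Nat.mod_self]
  · intro h
    have hqdvd : ¬ q ∣ p - 1 := by
      intro hd
      have := (Nat.modEq_iff_dvd' hp.one_le).mpr hd
      rw [Nat.ModEq, Nat.one_mod_eq_one.mpr hq.ne_one] at this
      exact h this.symm
    have hgeom : N * (p - 1) = p ^ q - 1 := geom_sum_mul_of_one_le hp.one_le q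
    have hcop : Nat.Coprime N (p - 1) := by
      refine Nat.coprime_of_dvd' fun r hr hrN hrp => ?_
      have h1 : p % r = 1 % r := ((Nat.modEq_iff_dvd' hp.one_le).mpr hrp).symm
      have h2 : r ∣ q := by
        apply Nat.dvd_of_mod_eq_zero
        rw [← hmod r h1, Nat.mod_eq_zero_of_dvd hrN]
      rcases (Nat.dvd_prime hq).mp h2 with h3 | h3
      · exact absurd h3 hr.ne_one
      · exact absurd (h3 ▸ hrp) hqdvd
    refine ⟨hcop, ?_⟩
    have hprime : ∀ r : ℕ, r.Prime → r ∣ N → r % q = 1 := by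
      intro r hr hrN
      haveI := Fact.mk hr
      have hdvd : r ∣ p ^ q - 1 := hgeom ▸ Dvd.dvd.mul_right hrN _
      have hz : ((p : ZMod r)) ^ q = 1 := by
        have : ((1 : ℕ) : ZMod r) = ((p ^ q : ℕ) : ZMod r) :=
          (ZMod.natCast_eq_natCast_iff _ _ _).mpr ((Nat.modEq_iff_dvd' (Nat.one_le_pow _ _ hp.pos)).mpr hdvd)
        simpa using this.symm
      have hne : (p : ZMod r) ≠ 1 := by
        intro he
        have : ((1 : ℕ) : ZMod r) = ((p : ℕ) : ZMod r) := by simp [he]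
        have hd : r ∣ p - 1 :=
          (Nat.modEq_iff_dvd' hp.one_le).mp ((ZMod.natCast_eq_natCast_iff _ _ _).mp this)
        exact hr.not_dvd_one (hcop ▸ Nat.dvd_gcd hrN hd)
      have hp0 : (p : ZMod r) ≠ 0 := by
        intro he
        rw [he, zero_pow hq.ne_zero] at hz
        exact zero_ne_one hz
      have ho : orderOf (p : ZMod r) = q := by
        haveI := Fact.mk hq
        exact orderOf_eq_prime hz hne
      have hd : q ∣ r - 1 := ho ▸ ZMod.orderOf_dvd_card_sub_one hp0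
      have := ((Nat.modEq_iff_dvd' hr.one_le).mpr hd).symm
      rwa [Nat.ModEq, Nat.one_mod_eq_one.mpr hq.ne_one] at this
    have hNpos : 0 < N := by
      rcases Nat.eq_zero_or_pos N with h0 | h0
      · exact absurd (h0 ▸ hgeom) (by
          have : 1 < p ^ q := Nat.one_lt_pow hq.ne_zero hp.one_lt
          omega)
      · exact h0
    intro x hx
    induction x using Nat.recOnMul with
    | zero => rw [zero_dvd_iff] at hx; omega
    | one => exact Nat.one_mod_eq_one.mpr hq.ne_one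
    | prime r hr => exact hprime r hr hx
    | mul a b ha hb =>
      rw [Nat.mul_mod, ha (dvd_trans (dvd_mul_right a b) hx), hb (dvd_trans (dvd_mul_left b a) hx)]
      simpa using Nat.one_mod_eq_one.mpr hq.ne_one

end Cfsg.Agent.S1546
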