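import Cfsg.Statements.S1550
import Cfsg.Agent.H91.M24Max

set_option autoImplicit false
open scoped Pointwise
open Cfsg

namespace Cfsg.Agent.S1550

/-- Every 4-element set of the 24 points is a tetrad of exactly one sextet, and the sextets number 1771. -/
theorem result : (∀ t : Finset Cfsg.GolayPt, t.card = 4 → ∃! S : Finset (Finset Cfsg.GolayPt), S ∈ Cfsg.sextets ∧ t ∈ S) ∧ Cfsg.sextets.ncard = 1771 := by
  refine ⟨fun t ht => ?_, ?_⟩
  · have hb := H91.Orb.sext_listing.sound _ H91.Orb.sextData.base_mem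
    obtain ⟨t0, ht0⟩ := Finset.card_pos.mp (by rw [hb.1]; norm_num :
      0 < (H94.famList H91.Orb.sextBase).card)
    obtain ⟨g, hg, rfl⟩ := H91.Orb.exists_map_finset (s := t0) (t := t)
      (by rw [ht, hb.2.1 t0 ht0]) (by rw [hb.2.1 t0 ht0]; norm_num)
    exact ⟨_, ⟨H91.Orb.smul_sextet hg hb, Finset.smul_mem_smul_finset ht0⟩,
      fun S hS => H94.sextet_unique hS.1 (H91.Orb.smul_sextet hg hb) hS.2
        (Finset.smul_mem_smul_finset ht0)⟩
  · rw [H91.Orb.sextData.ncard_obj, H91.Orb.sextObjs, List.length_map]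
    exact H91.Orb.sext_counts.1

end Cfsg.Agent.S1550
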