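import Cfsg.Statements.S1551
import Cfsg.Agent.H91.SextetTrio

set_option autoImplicit false
open scoped Pointwise
open Cfsg

namespace Cfsg.Agent.S1551

/-- Structure of a sextet stabiliser: it induces every permutation of the six tetrads, the subgroup fixing each tetrad setwise has order 192, and there is a normal subgroup of order 64 consisting of elements squaring to the identity. -/
theorem result (S : Finset (Finset Cfsg.GolayPt)) (hS : S ∈ Cfsg.sextets) : (∀ e : Equiv.Perm ↥S, ∃ g ∈ MulAction.stabilizer Cfsg.M24 S, ∀ t : ↥S, (g : Equiv.Perm Cfsg.GolayPt) • (t : Finset Cfsg.GolayPt) = ((e t : ↥S) : Finset Cfsg.GolayPt)) ∧ Nat.card {g : ↥(MulAction.stabilizer Cfsg.M24 S) // ∀ t ∈ S, ((g : Cfsg.M24) : Equiv.Perm Cfsg.GolayPt) • t = t} = 192 ∧ ∃ N : Subgroup ↥(MulAction.stabilizer Cfsg.M24 S), N.Normal ∧ Nat.card N = 64 ∧ ∀ x ∈ N, x * x = 1 := by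
  classical
  refine ⟨fun e => ?_, ?_, ?_⟩
  · obtain ⟨g, hg⟩ := H91.ST.sext_surjective hS e
    refine ⟨g.1, g.2, fun t => ?_⟩
    rw [← hg]
    rfl
  · rw [← H91.ST.card_sext_kernel hS]
    exact Nat.card_congr (Equiv.subtypeEquivRight fun g => (H91.ST.memAct_ker S g).symm)
  · obtain ⟨k, hk, e⟩ := H91.Orb.sextData.trans S hS _
      (H91.Orb.sextData.listing.sound _ H91.Orb.sextData.base_mem)
    let ψ : ↥(MulAction.stabilizer M24 S) →* Equiv.Perm GolayPt :=
      (MulAut.conj k).toMonoidHom.comp ((M24.subtype).comp (MulAction.stabilizer M24 S).subtype)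
    have hψ : ∀ g : ↥(MulAction.stabilizer M24 S),
        ψ g = k * ((g.1 : M24) : Equiv.Perm GolayPt) * k⁻¹ := fun g => rfl
    let J := H91.Fam.involSubgroup H91.Fam.sext_small H91.Fam.sext_comm
    have hmem : ∀ g : ↥(MulAction.stabilizer M24 S), g ∈ J.comap ψ ↔
        g ∈ (H91.ST.memAct S).ker ∧ g * g = 1 := by
      intro g
      show (ψ g ∈ H91.Fam.Fix H91.Fam.sextFams ∧ ψ g * ψ g = 1) ↔ _
      rw [hψ, H91.ST.mem_sextFix hk e, H91.ST.memAct_ker, and_iff_right g.1.2]
      refine and_congr_right fun _ => ⟨fun h => Subtype.ext (Subtype.ext ?_), fun h => ?_⟩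
      · have h' : k * (((g.1 : M24) : Equiv.Perm GolayPt) * g.1) * k⁻¹ = 1 := by
          rw [← h]; group
        exact conj_eq_one_iff.mp h'
      · rw [← hψ, ← map_mul, h, map_one]
    have hinj : Function.Injective ψ := fun a b h =>
      Subtype.ext (Subtype.ext ((MulAut.conj k).injective h))
    refine ⟨J.comap ψ, ⟨fun n hn g => ?_⟩, ?_, fun x hx => ((hmem x).mp hx).2⟩
    · rw [hmem] at hn ⊢
      refine ⟨(MonoidHom.normal_ker _).conj_mem n hn.1 g, ?_⟩
      rw [show g * n * g⁻¹ * (g * n * g⁻¹) = g * (n * n) * g⁻¹ by group, hn.2]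
      group
    · have hmap : (J.comap ψ).map ψ = J := by
        refine Subgroup.map_comap_eq_self fun f hf => ?_
        obtain ⟨hfM, hft⟩ := (H91.ST.mem_sextFix hk e (k⁻¹ * f * k)).mp (by
          rw [show k * (k⁻¹ * f * k) * k⁻¹ = f by group]; exact hf.1)
        have hst : (k⁻¹ * f * k) • S = S := by
          refine (Finset.eq_of_subset_of_card_le (fun t ht => ?_)
            (by rw [Finset.card_smul_finset])).symm
          rw [← hft t ht]
          exact Finset.smul_mem_smul_finset ht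
        refine ⟨⟨⟨_, hfM⟩, hst⟩, ?_⟩
        rw [hψ]
        group
      rw [Nat.card_congr ((J.comap ψ).equivMapOfInjective ψ hinj).toEquiv, hmap]
      exact H91.Fam.natCard_sextInvol

end Cfsg.Agent.S1551
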