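import Cfsg.Statements.S1552
import Cfsg.Agent.H91.M24Max

set_option autoImplicit false
open scoped Pointwise
open Cfsg

namespace Cfsg.Agent.S1552

/-- A sextet stabiliser has four orbits on the 1771 sextets, of sizes 1, 90, 240, 1440; and the stabiliser is a maximal proper subgroup. -/
theorem result (S : Finset (Finset Cfsg.GolayPt)) (hS : S ∈ Cfsg.sextets) : ∃ X₁ ∈ Cfsg.sextets, ∃ X₂ ∈ Cfsg.sextets, ∃ X₃ ∈ Cfsg.sextets, (MulAction.orbit ↥(MulAction.stabilizer Cfsg.M24 S) X₁).ncard = 90 ∧ (MulAction.orbit ↥(MulAction.stabilizer Cfsg.M24 S) X₂).ncard = 240 ∧ (MulAction.orbit ↥(MulAction.stabilizer Cfsg.M24 S) X₃).ncard = 1440 ∧ Cfsg.sextets = {S} ∪ MulAction.orbit ↥(MulAction.stabilizer Cfsg.M24 S) X₁ ∪ MulAction.orbit ↥(MulAction.stabilizer Cfsg.M24 S) X₂ ∪ MulAction.orbit ↥(MulAction.stabilizer Cfsg.M24 S) X₃ ∧ IsCoatom (MulAction.stabilizer Cfsg.M24 S) := by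
  have D := H91.Orb.sextData
  obtain ⟨-, ⟨c1, c2, c3, c0⟩, hall⟩ := H91.Orb.sext_counts
  obtain ⟨X₁, h₁, v₁, n₁, o₁⟩ := D.orbit_exists hS 2412 90 c1 (by norm_num)
  obtain ⟨X₂, h₂, v₂, n₂, o₂⟩ := D.orbit_exists hS 1600 240 c2 (by norm_num)
  obtain ⟨X₃, h₃, v₃, n₃, o₃⟩ := D.orbit_exists hS 1604 1440 c3 (by norm_num)
  have hb : H91.Orb.famVal H91.Orb.sextBase H91.Orb.sextBase = 3000 := by decide +kernel
  refine ⟨X₁, h₁, X₂, h₂, X₃, h₃, n₁, n₂, n₃, ?_, ?_⟩
  · rw [o₁, o₂, o₃]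
    ext X
    simp only [Set.mem_union, Set.mem_singleton_iff, Set.mem_ofPred_eq]
    constructor
    · intro hX
      have h := D.vals hall hS hX
      simp only [List.mem_cons, List.not_mem_nil, or_false] at h
      rcases h with h | h | h | h
      · exact Or.inl (Or.inl (Or.inl ((D.self_of_val c0 hb hS hX).mp h)))
      · exact Or.inl (Or.inl (Or.inr ⟨hX, h⟩))
      · exact Or.inl (Or.inr ⟨hX, h⟩)
      · exact Or.inr ⟨hX, h⟩
    · rintro (((rfl | ⟨h, -⟩) | ⟨h, -⟩) | ⟨h, -⟩) <;> assumption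
  · refine D.coatom (V := {3000, 2412, 1600, 1604}) c0 hb hall (by decide) ?_
      (fun v => if v = 3000 then 1 else if v = 2412 then 90 else if v = 1600 then 240 else 1440)
      ?_ ?_ hS
    · rw [H91.Orb.sextObjs, List.length_map, H91.Orb.sext_counts.1]; norm_num
    · intro v hv
      simp only [Finset.mem_insert, Finset.mem_singleton] at hv
      rcases hv with rfl | rfl | rfl | rfl <;> simp [c0, c1, c2, c3]
    · rw [H91.Orb.sextObjs, List.length_map, H91.Orb.sext_counts.1]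
      decide +kernel

end Cfsg.Agent.S1552
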