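import Cfsg.Statements.S1553
import Cfsg.Agent.H91.OctadAction

set_option autoImplicit false
open scoped Pointwise
open Cfsg

namespace Cfsg.Agent.S1553

/-- The stabiliser of an octad in the group of the length-24 code induces on the octad exactly its alternating group. -/
theorem result (o : Finset Cfsg.GolayPt) (ho : o ∈ Cfsg.octads) : {e : Equiv.Perm ↥o | ∃ g : Equiv.Perm Cfsg.GolayPt, g ∈ Cfsg.M24 ∧ ∃ h : (∀ x, g x ∈ o ↔ x ∈ o), g.subtypePerm h = e} = (alternatingGroup ↥o : Set (Equiv.Perm ↥o)) := by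
  rw [← H91.Oct.induced_eq ho]
  ext e
  constructor
  · rintro ⟨g, hg, h, rfl⟩
    refine ⟨g, hg, ?_, fun x => rfl⟩
    ext p
    rw [← inv_inv g, H92.mem_inv_smul, Equiv.Perm.inv_def, ← h, Equiv.apply_symm_apply]
  · rintro ⟨g, hg, hgo, hgx⟩
    have h : ∀ x, g x ∈ o ↔ x ∈ o := fun x => by conv_lhs => rw [← hgo, H92.mem_smul_apply]
    exact ⟨g, hg, h, Equiv.ext fun x => Subtype.ext (hgx x)⟩

end Cfsg.Agent.S1553
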