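import Cfsg.Statements.S1554
import Cfsg.Agent.H91.OctadAction

set_option autoImplicit false
open scoped Pointwise
open Cfsg

namespace Cfsg.Agent.S1554

/-- An octad stabiliser is a split extension: the joint stabiliser of the octad and a point outside it is a complement to the pointwise stabiliser of the octad, and is isomorphic to the alternating group of degree 8. -/
theorem result (o : Finset Cfsg.GolayPt) (ho : o ∈ Cfsg.octads) (p : Cfsg.GolayPt) (hp : p ∉ o) : (Cfsg.M24 ⊓ fixingSubgroup (Equiv.Perm Cfsg.GolayPt) (o : Set Cfsg.GolayPt)) ⊓ (Cfsg.M24 ⊓ MulAction.stabilizer (Equiv.Perm Cfsg.GolayPt) o ⊓ MulAction.stabilizer (Equiv.Perm Cfsg.GolayPt) p) = ⊥ ∧ (Cfsg.M24 ⊓ fixingSubgroup (Equiv.Perm Cfsg.GolayPt) (o : Set Cfsg.GolayPt)) ⊔ (Cfsg.M24 ⊓ MulAction.stabilizer (Equiv.Perm Cfsg.GolayPt) o ⊓ MulAction.stabilizer (Equiv.Perm Cfsg.GolayPt) p) = (Cfsg.M24 ⊓ MulAction.stabilizer (Equiv.Perm Cfsg.GolayPt) o) ∧ Nonempty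 (↥(Cfsg.M24 ⊓ MulAction.stabilizer (Equiv.Perm Cfsg.GolayPt) o ⊓ MulAction.stabilizer (Equiv.Perm Cfsg.GolayPt) p) ≃* alternatingGroup (Fin 8)) := by
  classical
  set K := M24 ⊓ fixingSubgroup (Equiv.Perm GolayPt) (o : Set GolayPt) with hK
  set St := M24 ⊓ MulAction.stabilizer (Equiv.Perm GolayPt) o with hSt
  set A := St ⊓ MulAction.stabilizer (Equiv.Perm GolayPt) p with hA
  have memK : ∀ {g}, g ∈ K ↔ g ∈ M24 ∧ ∀ x ∈ o, g x = x := by
    intro g
    rw [hK, Subgroup.mem_inf, mem_fixingSubgroup_iff]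
    simp [Equiv.Perm.smul_def]
  have hKSt : K ≤ St := by
    intro g hg
    rw [memK] at hg
    refine ⟨hg.1, ?_⟩
    have hsub : o ⊆ g • o := fun x hx => by rw [← hg.2 x hx, H92.mem_smul_apply]; exact hx
    exact (Finset.eq_of_subset_of_card_le hsub (by rw [Finset.card_smul_finset])).symm
  have memA : ∀ {g}, g ∈ A ↔ g ∈ M24 ∧ g • o = o ∧ g p = p := by
    intro g
    simp [hA, hSt, and_assoc, Equiv.Perm.smul_def]
  have hbot : ∀ g, g ∈ M24 → (∀ x ∈ o, g x = x) → g p = p → g = 1 :=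
    fun g hg h1 h2 => H91.Oct.eq_one_of_fix_octad ho hp hg h1 h2
  refine ⟨?_, ?_, ?_⟩
  · rw [eq_bot_iff]
    intro g hg
    obtain ⟨hgK, hgA⟩ := Subgroup.mem_inf.mp hg
    exact hbot g (memK.mp hgK).1 (memK.mp hgK).2 (memA.mp hgA).2.2
  · refine le_antisymm (sup_le hKSt inf_le_left) fun g hg => ?_
    have hgo : g • o = o := hg.2
    have hq : g p ∉ o := fun h => hp (by rw [← hgo, H92.mem_smul_apply] at h; exact h)
    obtain ⟨k, hk, hkfix, hkp⟩ := H91.Oct.exists_fix_octad_map ho hp hq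
    have hkK : k ∈ K := memK.mpr ⟨hk, hkfix⟩
    have : k⁻¹ * g ∈ A := by
      refine memA.mpr ⟨M24.mul_mem (M24.inv_mem hk) hg.1, ?_, ?_⟩
      · rw [mul_smul, hgo, inv_smul_eq_iff]
        exact ((hKSt hkK).2 : k • o = o).symm
      · rw [Equiv.Perm.mul_apply, Equiv.Perm.inv_def, Equiv.symm_apply_eq, hkp]
    rw [show g = k * (k⁻¹ * g) from (mul_inv_cancel_left k g).symm]
    exact Subgroup.mul_mem_sup hkK this
  · have hmem : ∀ g : ↥A, ∀ x, (g : Equiv.Perm GolayPt) x ∈ o ↔ x ∈ o := fun g x => by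
      conv_lhs => rw [← (memA.mp g.2).2.1, H92.mem_smul_apply]
    let φ : ↥A →* ↥(H91.Oct.induced o) :=
      { toFun := fun g => ⟨(g : Equiv.Perm GolayPt).subtypePerm (hmem g),
          g, (memA.mp g.2).1, (memA.mp g.2).2.1, fun _ => rfl⟩
        map_one' := by ext; rfl
        map_mul' := fun _ _ => by ext; rfl }
    have hbij : Function.Bijective φ := by
      constructor
      · rw [injective_iff_map_eq_one]
        intro g hg
        have hfix : ∀ x ∈ o, (g : Equiv.Perm GolayPt) x = x := fun x hx =>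
          congrArg (fun e : ↥(H91.Oct.induced o) => ((e : Equiv.Perm ↥o) ⟨x, hx⟩ : GolayPt)) hg
        exact Subtype.ext (hbot g (memA.mp g.2).1 hfix (memA.mp g.2).2.2)
      · rintro ⟨e, g, hg, hgo, hgx⟩
        have hq : g p ∉ o := fun h => hp (by rw [← hgo, H92.mem_smul_apply] at h; exact h)
        obtain ⟨k, hk, hkfix, hkp⟩ := H91.Oct.exists_fix_octad_map ho hp hq
        have hko : k • o = o := (hKSt (memK.mpr ⟨hk, hkfix⟩)).2
        refine ⟨⟨k⁻¹ * g, memA.mpr ⟨M24.mul_mem (M24.inv_mem hk) hg, ?_, ?_⟩⟩, ?_⟩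
        · rw [mul_smul, hgo, inv_smul_eq_iff, hko]
        · rw [Equiv.Perm.mul_apply, Equiv.Perm.inv_def, Equiv.symm_apply_eq, hkp]
        · refine Subtype.ext (Equiv.ext fun x => Subtype.ext ?_)
          show (k⁻¹ * g) x.1 = (e x : GolayPt)
          rw [Equiv.Perm.mul_apply, hgx, Equiv.Perm.inv_def, Equiv.symm_apply_eq, hkfix _ (e x).2]
    obtain ⟨ε⟩ : Nonempty (↥o ≃ Fin 8) :=
      ⟨Fintype.equivFinOfCardEq (by rw [Fintype.card_coe, ho.2])⟩
    exact ⟨(MulEquiv.ofBijective φ hbij).trans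
      ((MulEquiv.subgroupCongr (H91.Oct.induced_eq ho)).trans (Equiv.altCongrHom ε))⟩

end Cfsg.Agent.S1554
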