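import Cfsg.Statements.S1555
import Cfsg.Agent.H91.M24Max

set_option autoImplicit false
open scoped Pointwise
open Cfsg

namespace Cfsg.Agent.S1555

open scoped Pointwise in
theorem count_in (o s : Finset GolayPt) (ho : o ∈ octads) (hs : s ⊆ o) (k c : ℕ) (hk : s.card = k)
    (h5 : k ≤ 5) (hmask : H90.setOf' (2 ^ k - 1) = ((List.range k).map H94.ptN).toFinset)
    (hbase : H94.baseOctad < 2 ^ 24)
    (hc : (H92.objs 8 fun m => Nat.beq (H94.baseOctad &&& m) (2 ^ k - 1)).length = c) :
    {o' : Finset GolayPt | o' ∈ octads ∧ o ∩ o' = s}.ncard = c := by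
  obtain ⟨g, hg, go, gs⟩ := H91.Orb.normal_subset ho hs (hk.symm ▸ h5)
  rw [hk] at gs
  refine (H92.ncard_transport hg 8 fun x => o ∩ x = s).trans ?_
  rw [← hc]
  refine H92.ncard_words_filter 8 _ _ fun m hm => ?_
  rw [← (MulAction.injective g).eq_iff, Finset.smul_finset_inter, smul_inv_smul, go, gs, ← hmask,
    ← H90.setOf'_and]
  constructor
  · intro e
    rw [H90.setOf'_injOn (lt_of_le_of_lt Nat.and_le_left hbase)
      (lt_of_le_of_lt (Nat.sub_le _ _) (Nat.pow_lt_pow_right (by norm_num) (by omega))) e]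
    exact Nat.beq_refl _
  · intro e; rw [Nat.eq_of_beq_eq_true e]

/-- Bottom row of the Leech triangle: an octad is met in a prescribed pair of its points by exactly 16 octads and in a prescribed 4-subset by exactly 4 octads. -/
theorem result (o : Finset Cfsg.GolayPt) (ho : o ∈ Cfsg.octads) (s : Finset Cfsg.GolayPt) (hs : s ⊆ o) : (s.card = 2 → {o' : Finset Cfsg.GolayPt | o' ∈ Cfsg.octads ∧ o ∩ o' = s}.ncard = 16) ∧ (s.card = 4 → {o' : Finset Cfsg.GolayPt | o' ∈ Cfsg.octads ∧ o ∩ o' = s}.ncard = 4) := by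
  have hb : H94.baseOctad < 2 ^ 24 := by decide +kernel
  exact ⟨fun h => count_in o s ho hs 2 16 h (by norm_num) (by decide +kernel) hb (by decide +kernel),
    fun h => count_in o s ho hs 4 4 h (by norm_num) (by decide +kernel) hb (by decide +kernel)⟩

end Cfsg.Agent.S1555
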