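import Cfsg.Statements.S1557
import Cfsg.Agent.H91.M24Max

set_option autoImplicit false
open scoped Pointwise
open Cfsg

namespace Cfsg.Agent.S1557

/-- The complement of the union of two disjoint octads is an octad, and the code has exactly 3795 trios of pairwise disjoint octads. -/
theorem result : (∀ o o' : Finset Cfsg.GolayPt, o ∈ Cfsg.octads → o' ∈ Cfsg.octads → Disjoint o o' → (o ∪ o')ᶜ ∈ Cfsg.octads) ∧ Cfsg.trios.ncard = 3795 := by
  refine ⟨fun o o' ho ho' hd => ⟨?_, ?_⟩, ?_⟩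
  · obtain ⟨m, hm, rfl⟩ := H94.mem_octads_iff.mp ho
    obtain ⟨n, hn, rfl⟩ := H94.mem_octads_iff.mp ho'
    obtain ⟨hm24, hmo⟩ := H94.mem_octList_lt hm
    obtain ⟨hn24, hno⟩ := H94.mem_octList_lt hn
    obtain ⟨v, hv, hve⟩ := hmo.1
    obtain ⟨w, hw, hwe⟩ := hno.1
    refine ⟨v + w + 1, (golayCode.add_mem (golayCode.add_mem hv hw)
      (Submodule.subset_span (Or.inr rfl))), ?_⟩
    ext p
    have h2 : ∀ x : ZMod 2, x = 0 ∨ x = 1 := by decide
    have hp : ¬ (p ∈ H90.setOf' m ∧ p ∈ H90.setOf' n) := fun h =>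
      Finset.disjoint_left.mp hd h.1 h.2
    rw [← hve, ← hwe] at hp ⊢
    simp only [support₂, Finset.mem_filter, Finset.mem_univ, true_and, Finset.mem_compl,
      Finset.mem_union, Pi.add_apply, Pi.one_apply] at hp ⊢
    rcases h2 (v p) with a | a <;> rcases h2 (w p) with b | b <;> rw [a, b] at hp ⊢ <;>
      revert hp <;> decide
  · rw [Finset.card_compl, Finset.card_union_of_disjoint hd, ho.2, ho'.2]
    simp [GolayPt]
  · rw [H91.Orb.trioData.ncard_obj, H91.Orb.trioObjs, List.length_map]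
    exact H91.Orb.trio_counts.1

end Cfsg.Agent.S1557
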