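import Cfsg.Statements.S1558
import Cfsg.Agent.H91.SextetTrio

set_option autoImplicit false
open scoped Pointwise
open Cfsg

namespace Cfsg.Agent.S1558

/-- Structure of a trio stabiliser: every permutation of the three octads is induced, and there is a normal subgroup of order 64 of elements squaring to the identity whose quotient is isomorphic to the product of GL(3, 2) with the symmetric group of degree 3. -/
theorem result (T : Finset (Finset Cfsg.GolayPt)) (hT : T ∈ Cfsg.trios) : (∀ e : Equiv.Perm ↥T, ∃ g ∈ MulAction.stabilizer Cfsg.M24 T, ∀ o : ↥T, (g : Equiv.Perm Cfsg.GolayPt) • (o : Finset Cfsg.GolayPt) = ((e o : ↥T) : Finset Cfsg.GolayPt)) ∧ ∃ (N : Subgroup ↥(MulAction.stabilizer Cfsg.M24 T)) (_ : N.Normal), Nat.card N = 64 ∧ (∀ x ∈ N, x * x = 1) ∧ Nonempty (↥(MulAction.stabilizer Cfsg.M24 T) ⧸ N ≃* GL (Fin 3) (ZMod 2) × Equiv.Perm (Fin 3)) := by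
  classical
  obtain ⟨k, hk, e⟩ := H91.Orb.trioData.trans T hT _
    (H91.Orb.trioData.listing.sound _ H91.Orb.trioData.base_mem)
  have hsurj := H91.ST.trio_surjective hT hk e
  refine ⟨fun p => ?_, (H91.ST.trioHom hk e).ker, inferInstance, H91.ST.card_trio_ker hk e,
    fun x hx => H91.ST.trio_ker_square hk e hx, ?_⟩
  · obtain ⟨g, hg⟩ := hsurj (1, p)
    refine ⟨g.1, g.2, fun o => ?_⟩
    have h2 : H91.ST.memAct T g = p := congrArg Prod.snd hg
    rw [← h2]
    rfl
  · exact ⟨(QuotientGroup.quotientKerEquivOfSurjective _ hsurj).trans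
      (MulEquiv.prodCongr (MulEquiv.refl _)
        (Equiv.permCongrHom (T.equivFin.trans (finCongr hT.1))))⟩

end Cfsg.Agent.S1558
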