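import Cfsg.Statements.S1559
import Cfsg.Agent.H91.M24Max

set_option autoImplicit false
open scoped Pointwise
open Cfsg

namespace Cfsg.Agent.S1559

/-- A trio stabiliser has five orbits on the 3795 trios, of sizes 1, 42, 56, 1008, 2688; and the stabiliser is a maximal proper subgroup. -/
theorem result (T : Finset (Finset Cfsg.GolayPt)) (hT : T ∈ Cfsg.trios) : ∃ X₁ ∈ Cfsg.trios, ∃ X₂ ∈ Cfsg.trios, ∃ X₃ ∈ Cfsg.trios, ∃ X₄ ∈ Cfsg.trios, (MulAction.orbit ↥(MulAction.stabilizer Cfsg.M24 T) X₁).ncard = 42 ∧ (MulAction.orbit ↥(MulAction.stabilizer Cfsg.M24 T) X₂).ncard = 56 ∧ (MulAction.orbit ↥(MulAction.stabilizer Cfsg.M24 T) X₃).ncard = 1008 ∧ (MulAction.orbit ↥(MulAction.stabilizer Cfsg.M24 T) X₄).ncard = 2688 ∧ Cfsg.trios = {T} ∪ MulAction.orbit ↥(MulAction.stabilizer Cfsg.M24 T) X₁ ∪ MulAction.orbit ↥(MulAction.stabilizer Cfsg.M24 T) X₂ ∪ MulAction.orbit ↥(MulAction.stabilizer Cfsg.M24 T) X₃ ∪ MulAction.orbit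 ↥(MulAction.stabilizer Cfsg.M24 T) X₄ ∧ IsCoatom (MulAction.stabilizer Cfsg.M24 T) := by
  have D := H91.Orb.trioData
  obtain ⟨-, ⟨c1, c2, c3, c4, c0⟩, hall⟩ := H91.Orb.trio_counts
  obtain ⟨X₁, h₁, v₁, n₁, o₁⟩ := D.orbit_exists hT 400 42 c1 (by norm_num)
  obtain ⟨X₂, h₂, v₂, n₂, o₂⟩ := D.orbit_exists hT 300 56 c2 (by norm_num)
  obtain ⟨X₃, h₃, v₃, n₃, o₃⟩ := D.orbit_exists hT 104 1008 c3 (by norm_num)
  obtain ⟨X₄, h₄, v₄, n₄, o₄⟩ := D.orbit_exists hT 6 2688 c4 (by norm_num)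
  have hb : H91.Orb.famVal H91.Orb.trioBase H91.Orb.trioBase = 600 := by decide +kernel
  refine ⟨X₁, h₁, X₂, h₂, X₃, h₃, X₄, h₄, n₁, n₂, n₃, n₄, ?_, ?_⟩
  · rw [o₁, o₂, o₃, o₄]
    ext X
    simp only [Set.mem_union, Set.mem_singleton_iff, Set.mem_ofPred_eq]
    constructor
    · intro hX
      have h := D.vals hall hT hX
      simp only [List.mem_cons, List.not_mem_nil, or_false] at h
      rcases h with h | h | h | h | h
      · exact Or.inl (Or.inl (Or.inl (Or.inl ((D.self_of_val c0 hb hT hX).mp h))))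
      · exact Or.inl (Or.inl (Or.inl (Or.inr ⟨hX, h⟩)))
      · exact Or.inl (Or.inl (Or.inr ⟨hX, h⟩))
      · exact Or.inl (Or.inr ⟨hX, h⟩)
      · exact Or.inr ⟨hX, h⟩
    · rintro ((((rfl | ⟨h, -⟩) | ⟨h, -⟩) | ⟨h, -⟩) | ⟨h, -⟩) <;> assumption
  · refine D.coatom (V := {600, 400, 300, 104, 6}) c0 hb hall (by decide) ?_
      (fun v => if v = 600 then 1 else if v = 400 then 42 else if v = 300 then 56
        else if v = 104 then 1008 else 2688) ?_ ?_ hT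
    · rw [H91.Orb.trioObjs, List.length_map, H91.Orb.trio_counts.1]; norm_num
    · intro v hv
      simp only [Finset.mem_insert, Finset.mem_singleton] at hv
      rcases hv with rfl | rfl | rfl | rfl | rfl <;> simp [c0, c1, c2, c3, c4]
    · rw [H91.Orb.trioObjs, List.length_map, H91.Orb.trio_counts.1]
      decide +kernel

end Cfsg.Agent.S1559
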