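import Cfsg.Statements.S1560
import Cfsg.Agent.H91.M24Objects

set_option autoImplicit false
open scoped Pointwise
open Cfsg

namespace Cfsg.Agent.S1560

/-- Intersection numbers of dodecads: a dodecad meets every other dodecad in 0, 4, 6 or 8 points, meeting 495 of them in 4 points, 1584 in 6 points and 495 in 8 points. -/
theorem result (d : Finset Cfsg.GolayPt) (hd : d ∈ Cfsg.dodecads) : (∀ d' ∈ Cfsg.dodecads, d' ≠ d → (d ∩ d').card = 0 ∨ (d ∩ d').card = 4 ∨ (d ∩ d').card = 6 ∨ (d ∩ d').card = 8) ∧ {d' : Finset Cfsg.GolayPt | d' ∈ Cfsg.dodecads ∧ (d ∩ d').card = 4}.ncard = 495 ∧ {d' : Finset Cfsg.GolayPt | d' ∈ Cfsg.dodecads ∧ (d ∩ d').card = 6}.ncard = 1584 ∧ {d' : Finset Cfsg.GolayPt | d' ∈ Cfsg.dodecads ∧ (d ∩ d').card = 8}.ncard = 495 := by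
  refine ⟨fun d' hd' hne => ?_, ?_, ?_, ?_⟩
  · have h := H91.Orb.dodecad_vals hd hd'
    simp only [List.mem_cons, List.not_mem_nil, or_false] at h
    rcases h with h | h | h | h | h
    · exact Or.inl h
    · exact Or.inr (Or.inl h)
    · exact Or.inr (Or.inr (Or.inl h))
    · exact Or.inr (Or.inr (Or.inr h))
    · refine absurd ?_ hne
      have hsub : d ∩ d' = d := Finset.eq_of_subset_of_card_le Finset.inter_subset_left (by rw [h, hd.2])
      have hle : d ⊆ d' := fun x hx => by
        rw [← hsub] at hx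
        exact (Finset.mem_inter.mp hx).2
      exact (Finset.eq_of_subset_of_card_le hle (by rw [hd.2, hd'.2])).symm
  all_goals rw [H91.Orb.dodecad_count hd]
  · exact H91.Orb.dod_counts.1.1
  · exact H91.Orb.dod_counts.1.2.1
  · exact H91.Orb.dod_counts.1.2.2

end Cfsg.Agent.S1560
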