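import Cfsg.Statements.S1563
import Cfsg.Agent.H91.SmallSets

set_option autoImplicit false
open scoped Pointwise
open Cfsg

namespace Cfsg.Agent.S1563

/-- The stabiliser of a pair of points (setwise) is a maximal proper subgroup of the group of the length-24 code. -/
theorem result (s : Finset Cfsg.GolayPt) (hs : s.card = 2) : IsCoatom (MulAction.stabilizer Cfsg.M24 s) := by
  refine H91.Orb.coatom_small (k := 2) (by norm_num) (by norm_num) hs (fun x => (s ∩ x).card)
    {0, 1, 2} (fun i => (2 : ℕ).choose i * (22 : ℕ).choose (2 - i))
    (fun x hx => ?_) (fun x hx e => ?_) (fun x y hx hy e => ?_) (fun i hi => ?_) ?_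
  · have := Finset.card_le_card (Finset.inter_subset_left (s₁ := s) (s₂ := x))
    simp only [Finset.mem_insert, Finset.mem_singleton]
    omega
  · have h1 : s ∩ x = x := Finset.eq_of_subset_of_card_le Finset.inter_subset_right (by
      simp only [Finset.inter_self] at e
      omega)
    exact Finset.eq_of_subset_of_card_le (h1 ▸ Finset.inter_subset_left) (by omega)
  · refine H91.Orb.exists_conj_of_lists (hx.trans hy.symm) e ?_ (fun h => ?_)
    · have := Finset.card_union_le s x
      omega
    · have := Finset.card_union_le s x
      omega
  · have hi2 : i ≤ 2 := by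
      simp only [Finset.mem_insert, Finset.mem_singleton] at hi
      omega
    have := H91.Orb.card_powerset_inter s hi2
    rw [hs] at this
    rw [← this, ← Set.ncard_coe_finset]
    congr 1
    ext x
    simp
  · simp only [Finset.inter_self, hs]
    decide

end Cfsg.Agent.S1563
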