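import Cfsg.Statements.S1564
import Cfsg.Agent.H91.SmallSets

set_option autoImplicit false
open scoped Pointwise
open Cfsg

namespace Cfsg.Agent.S1564

/-- The stabiliser of a set of three points (setwise) is a maximal proper subgroup of the group of the length-24 code. -/
theorem result (s : Finset Cfsg.GolayPt) (hs : s.card = 3) : IsCoatom (MulAction.stabilizer Cfsg.M24 s) := by
  classical
  refine H91.Orb.coatom_small (k := 3) (by norm_num) (by norm_num) hs
    (fun x => if (s ∩ x).card = 0 ∧ ¬ ∃ o ∈ octads, s ∪ x ⊆ o then 4 else (s ∩ x).card)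
    {0, 1, 2, 3, 4} (fun i => if i = 0 then 210 else if i = 4 then 1120 else
      (3 : ℕ).choose i * (21 : ℕ).choose (3 - i))
    (fun x hx => ?_) (fun x hx e => ?_) (fun x y hx hy e => ?_) (fun i hi => ?_) ?_
  · have := Finset.card_le_card (Finset.inter_subset_left (s₁ := s) (s₂ := x))
    simp only [Finset.mem_insert, Finset.mem_singleton]
    split_ifs <;> omega
  · have h1 : s ∩ x = x := Finset.eq_of_subset_of_card_le Finset.inter_subset_right (by
      simp only [Finset.inter_self] at e
      split_ifs at e <;> omega)
    exact Finset.eq_of_subset_of_card_le (h1 ▸ Finset.inter_subset_left) (by omega)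
  · have hxb := Finset.card_le_card (Finset.inter_subset_left (s₁ := s) (s₂ := x))
    have hyb := Finset.card_le_card (Finset.inter_subset_left (s₁ := s) (s₂ := y))
    have hcard : (s ∩ x).card = (s ∩ y).card := by
      split_ifs at e <;> omega
    have hu := Finset.card_union_add_card_inter s x
    refine H91.Orb.exists_conj_of_lists (hx.trans hy.symm) hcard (by omega) (fun h6 => ?_)
    have h0 : (s ∩ x).card = 0 := by omega
    have h0' : (s ∩ y).card = 0 := by omega
    simp only [h0, h0', true_and] at e
    split_ifs at e with ha hb hb <;>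
      first | omega | exact iff_of_true ha hb | exact iff_of_false ha hb
  · by_cases h0 : i = 0
    · subst h0
      rw [if_pos rfl, ← H91.Orb.card_octad_triads hs]
      congr 1
      ext x
      simp only [Set.mem_ofPred_eq]
      constructor
      · rintro ⟨hx, e⟩
        split_ifs at e with hc
        · exact ⟨hx, Finset.disjoint_iff_inter_eq_empty.mpr (Finset.card_eq_zero.mp e),
            not_not.mp fun h => hc ⟨e, h⟩⟩
      · rintro ⟨hx, hd, ho⟩
        exact ⟨hx, by rw [if_neg fun h => h.2 ho, Finset.disjoint_iff_inter_eq_empty.mp hd]; rfl⟩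
    by_cases h4 : i = 4
    · subst h4
      rw [if_neg h0, if_pos rfl, ← H91.Orb.ncard_other_triads hs]
      congr 1
      ext x
      simp only [Set.mem_ofPred_eq]
      constructor
      · rintro ⟨hx, e⟩
        have := Finset.card_le_card (Finset.inter_subset_left (s₁ := s) (s₂ := x))
        split_ifs at e with hc
        · exact ⟨hx, Finset.disjoint_iff_inter_eq_empty.mpr (Finset.card_eq_zero.mp hc.1), hc.2⟩
        · omega
      · rintro ⟨hx, hd, ho⟩
        exact ⟨hx, by rw [if_pos ⟨by rw [Finset.disjoint_iff_inter_eq_empty.mp hd]; rfl, ho⟩]⟩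
    · have hi2 : i ≤ 3 := by
        simp only [Finset.mem_insert, Finset.mem_singleton] at hi
        omega
      have := H91.Orb.card_powerset_inter s hi2
      rw [hs] at this
      rw [if_neg h0, if_neg h4, ← this, ← Set.ncard_coe_finset]
      congr 1
      ext x
      simp only [Set.mem_ofPred_eq, Finset.coe_filter, Finset.mem_powersetCard, Finset.subset_univ,
        true_and]
      refine and_congr_right fun _ => ⟨fun e => ?_, fun e => ?_⟩
      · split_ifs at e <;> omega
      · rw [if_neg (by omega), e]
  · simp only [Finset.inter_self, hs, OfNat.ofNat_ne_zero, false_and, if_false]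
    decide

end Cfsg.Agent.S1564
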