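import Cfsg.Statements.S1572
import Cfsg.Agent.H95.CrossMaximal
-- import your own Cfsg.Agent.* helpers here

set_option autoImplicit false
open scoped Pointwise
open Cfsg

namespace Cfsg.Agent.S1572

/-- The stabiliser of the standard cross is a maximal proper subgroup of the lattice's automorphism group. -/
theorem result (H : Subgroup ↥Cfsg.Co0) (hH : (H : Set ↥Cfsg.Co0) = {g : ↥Cfsg.Co0 | (∀ v : ↥Cfsg.leechLattice, (v : Cfsg.GolayPt → ℤ) ∈ Cfsg.stdCross → ((g • v : ↥Cfsg.leechLattice) : Cfsg.GolayPt → ℤ) ∈ Cfsg.stdCross)}) : IsCoatom H := by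
  refine ⟨fun h => ?_, fun M hM => ?_⟩
  · have e : H95.stdGrp = ⊤ := by
      rw [eq_top_iff]; intro g _
      exact H95.fixesStd_iff.mp ((Set.ext_iff.mp hH g).mp (h ▸ Subgroup.mem_top g))
    have hc := H95.card_fixesStd
    rw [H90.natCard_M24, Nat.card_congr (Equiv.subtypeUnivEquiv fun g => H95.fixesStd_iff.mpr (e ▸ Subgroup.mem_top g)), H95.card_co0 H95.golayUnique] at hc
    norm_num at hc
  · refine H95.cross_maximal (fun g hg => hM.le ((Set.ext_iff.mp hH g).mpr (H95.fixesStd_iff.mpr hg))) (fun h => hM.not_ge fun g hg => (Set.ext_iff.mp hH g).mpr (H95.fixesStd_iff.mpr (h hg)))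

end Cfsg.Agent.S1572
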