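import Cfsg.Statements.S1588
import Cfsg.Agent.H92.LeechClasses

set_option autoImplicit false
open Matrix
open Cfsg

namespace Cfsg.Agent.S1588

/-- Second step of the characterisation: under the vector counts of the rank-24 lattice, the norm-8 vectors fall into congruence classes of exactly 48 modulo twice the lattice. -/
theorem result (B : Matrix (Fin 24) (Fin 24) ℤ) (hsymm : B.IsSymm) (hpos : ∀ x : Fin 24 → ℤ, x ≠ 0 → 0 < x ⬝ᵥ (B *ᵥ x)) (heven : ∀ x : Fin 24 → ℤ, (2 : ℤ) ∣ x ⬝ᵥ (B *ᵥ x)) (h2 : ∀ x : Fin 24 → ℤ, x ⬝ᵥ (B *ᵥ x) ≠ 2) (h4 : {x : Fin 24 → ℤ | x ⬝ᵥ (B *ᵥ x) = 4}.ncard = 196560) (h6 : {x : Fin 24 → ℤ | x ⬝ᵥ (B *ᵥ x) = 6}.ncard = 16773120) (h8 : {x : Fin 24 → ℤ | x ⬝ᵥ (B *ᵥ x) = 8}.ncard = 398034000) (x : Fin 24 → ℤ) (hx : x ⬝ᵥ (B *ᵥ x) = 8) : {y : Fin 24 → ℤ | y ⬝ᵥ (B *ᵥ y) = 8 ∧ ∀ i, (2 : ℤ) ∣ (x - y) i}.ncard = 48 := by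
  have hB : H92.EvenRootless B := ⟨hsymm, hpos, heven, h2⟩
  classical
  have hf : ∀ m c : ℕ, c ≠ 0 → {x : Fin 24 → ℤ | x ⬝ᵥ (B *ᵥ x) = (m : ℤ)}.ncard = c →
      ∃ S : Finset (Fin 24 → ℤ), S.card = c ∧ ∀ z, z ∈ S ↔ H92.bq B z z = m := by
    intro m c hc h
    have hfin := Set.finite_of_ncard_ne_zero (h ▸ hc)
    exact ⟨hfin.toFinset, by rw [← Set.ncard_eq_toFinset_card _ hfin, h], fun z => hfin.mem_toFinset⟩
  obtain ⟨S4, c4, m4⟩ := hf 4 196560 (by norm_num) h4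
  obtain ⟨S6, c6, m6⟩ := hf 6 16773120 (by norm_num) h6
  obtain ⟨S8, c8, m8⟩ := hf 8 398034000 (by norm_num) h8
  have hhalf : ∀ (S : Finset (Fin 24 → ℤ)) (m : ℕ), m = 4 ∨ m = 6 →
      (∀ z, z ∈ S ↔ H92.bq B z z = m) → S.card ≤ 2 * (S.image H92.redTwo).card := by
    intro S m hm hS
    apply Finset.card_le_mul_card_image
    intro k hk
    obtain ⟨a, ha, rfl⟩ := Finset.mem_image.mp hk
    refine (Finset.card_le_card (t := {a, -a}) ?_).trans Finset.card_le_two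
    intro b hb
    obtain ⟨hb1, hb2⟩ := Finset.mem_filter.mp hb
    rw [hS] at ha hb1
    rcases H92.bq_class_pair hB (H92.redTwo_eq_iff.mp hb2.symm) with h | h | h
    · simp [h]
    · simp [h]
    · exfalso; rcases hm with rfl | rfl <;> push_cast at ha hb1 <;> omega
  have hdisj : ∀ (S T : Finset (Fin 24 → ℤ)) (m k : ℕ), m + k < 16 → m ≠ k →
      (∀ z, z ∈ S ↔ H92.bq B z z = m) → (∀ z, z ∈ T ↔ H92.bq B z z = k) →
      Disjoint (S.image H92.redTwo) (T.image H92.redTwo) := by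
    intro S T m k hmk hne hS hT
    rw [Finset.disjoint_left]
    intro c hc hc'
    obtain ⟨a, ha, rfl⟩ := Finset.mem_image.mp hc
    obtain ⟨b, hb, hb'⟩ := Finset.mem_image.mp hc'
    rw [hS] at ha
    rw [hT] at hb
    rcases H92.bq_class_pair hB (H92.redTwo_eq_iff.mp hb'.symm) with h | h | h
    · rw [h] at hb; omega
    · have : H92.bq B b b = H92.bq B a a := by
        rw [h]; simp [H92.bq, Matrix.mulVec_neg]
      omega
    · omega
  have hzero : ∀ (S : Finset (Fin 24 → ℤ)) (m : ℕ), 0 < m → m < 16 →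
      (∀ z, z ∈ S ↔ H92.bq B z z = m) → (0 : Fin 24 → ZMod 2) ∉ S.image H92.redTwo := by
    intro S m hm0 hm hS hc
    obtain ⟨a, ha, ha'⟩ := Finset.mem_image.mp hc
    rw [hS] at ha
    have hz : H92.bq B (0 : Fin 24 → ℤ) 0 = 0 := by simp [H92.bq]
    have e : H92.redTwo a = H92.redTwo (0 : Fin 24 → ℤ) := by
      rw [ha']; funext i; simp [H92.redTwo]
    rcases H92.bq_class_pair hB (H92.redTwo_eq_iff.mp e) with h | h | h
    · rw [← h, hz] at ha; omega
    · rw [eq_comm, neg_eq_zero] at h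
      rw [h, hz] at ha; omega
    · omega
  have d46 := hdisj S4 S6 4 6 (by norm_num) (by norm_num) m4 m6
  have d48 := hdisj S4 S8 4 8 (by norm_num) (by norm_num) m4 m8
  have d68 := hdisj S6 S8 6 8 (by norm_num) (by norm_num) m6 m8
  have h0 : (0 : Fin 24 → ZMod 2) ∉ (S4.image H92.redTwo ∪ S6.image H92.redTwo) ∪ S8.image H92.redTwo := by
    simp only [Finset.mem_union, not_or]
    exact ⟨⟨hzero S4 4 (by norm_num) (by norm_num) m4, hzero S6 6 (by norm_num) (by norm_num) m6⟩,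
      hzero S8 8 (by norm_num) (by norm_num) m8⟩
  have hU := Finset.card_le_univ (insert (0 : Fin 24 → ZMod 2)
    ((S4.image H92.redTwo ∪ S6.image H92.redTwo) ∪ S8.image H92.redTwo))
  rw [Finset.card_insert_of_notMem h0, Finset.card_union_of_disjoint
      (Finset.disjoint_union_left.mpr ⟨d48, d68⟩), Finset.card_union_of_disjoint d46,
    Fintype.card_fun, ZMod.card, Fintype.card_fin] at hU
  have a4 := hhalf S4 4 (Or.inl rfl) m4
  have a6 := hhalf S6 6 (Or.inr rfl) m6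
  have hle : ∀ k ∈ S8.image H92.redTwo, (S8.filter fun a => H92.redTwo a = k).card ≤ 48 := by
    intro k _
    exact H92.card_fiber_le hB (fun a ha => (m8 a).mp (Finset.mem_filter.mp ha).1)
      fun a ha b hb => (Finset.mem_filter.mp ha).2.trans (Finset.mem_filter.mp hb).2.symm
  have hxk : H92.redTwo x ∈ S8.image H92.redTwo := Finset.mem_image_of_mem _ ((m8 x).mpr hx)
  have hset : {y : Fin 24 → ℤ | y ⬝ᵥ (B *ᵥ y) = 8 ∧ ∀ i, (2 : ℤ) ∣ (x - y) i} =
      ↑(S8.filter fun a => H92.redTwo a = H92.redTwo x) := by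
    ext y
    rw [Set.mem_ofPred_eq, Finset.mem_coe, Finset.mem_filter, m8, eq_comm (b := H92.redTwo x),
      H92.redTwo_eq_iff]
    exact Iff.rfl
  rw [hset, Set.ncard_coe_finset]
  refine le_antisymm (hle _ hxk) ?_
  by_contra hlt
  have hsum := Finset.card_eq_sum_card_image H92.redTwo S8
  have hstrict : ∑ k ∈ S8.image H92.redTwo, (S8.filter fun a => H92.redTwo a = k).card <
      ∑ _k ∈ S8.image H92.redTwo, 48 :=
    Finset.sum_lt_sum hle ⟨_, hxk, not_le.mp hlt⟩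
  rw [← hsum, Finset.sum_const, smul_eq_mul] at hstrict
  have : (2 : ℕ) ^ 24 = 16777216 := by norm_num
  omega

end Cfsg.Agent.S1588
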