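import Cfsg.Agent.H90.SmallIndex
import Cfsg.Agent.H90.PairIndex

set_option autoImplicit false

namespace Cfsg.Agent.S1589

open H90
open scoped Pointwise

theorem odd_index (H : Subgroup ↥Cfsg.M24) :
    (H.index = 759 → ∃ o ∈ Cfsg.octads, H = MulAction.stabilizer Cfsg.M24 o) ∧
    (H.index = 1771 → ∃ S ∈ Cfsg.sextets, H = MulAction.stabilizer Cfsg.M24 S) ∧ H.index ≠ 253 := by
  obtain ⟨P, hP⟩ := exists_twoFrame
  haveI : Fact (Nat.Prime 2) := ⟨Nat.prime_two⟩
  by_cases hodd : ¬ 2 ∣ H.index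
  · -- some conjugate of `H` contains `P`
    obtain ⟨R⟩ : Nonempty (Sylow 2 ↥H) := inferInstance
    obtain ⟨S, hPS⟩ := hP.pGroup.exists_le_sylow
    have hR : IsPGroup 2 ((R : Subgroup ↥H).map H.subtype) := R.2.map _
    obtain ⟨S', hS'⟩ := hR.exists_le_sylow
    have heq : (R : Subgroup ↥H).map H.subtype = (S' : Subgroup ↥Cfsg.M24) := by
      refine Subgroup.eq_of_le_of_card_ge hS' ?_
      rw [Nat.card_congr ((R : Subgroup ↥H).equivMapOfInjective _ H.subtype_injective).toEquiv.symm,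
        R.card_eq_multiplicity, S'.card_eq_multiplicity]
      refine Nat.pow_le_pow_right two_pos (le_of_eq ?_)
      rw [← H.card_mul_index, Nat.factorization_mul (Nat.card_pos.ne') H.index_ne_zero_of_finite]
      simp [Nat.factorization_eq_zero_of_not_dvd hodd]
    have hS'H : (S' : Subgroup ↥Cfsg.M24) ≤ H := by rw [← heq]; exact Subgroup.map_subtype_le _
    obtain ⟨c, hc⟩ := MulAction.exists_smul_eq (↥Cfsg.M24) S' S
    set H' := H.map (MulAut.conj c).toMonoidHom with hH'
    have hle : P ≤ H' := by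
      refine hPS.trans ?_
      rw [← hc, Sylow.coe_subgroup_smul]
      exact Subgroup.map_mono hS'H
    have hidx : H'.index = H.index := Subgroup.index_map_equiv H (MulAut.conj c)
    obtain ⟨h759, h1771, h253⟩ := index_odd_main hP hle
    have hback : ∀ {X : Type} [MulAction ↥Cfsg.M24 X] (x : X),
        H' = MulAction.stabilizer Cfsg.M24 x → H = MulAction.stabilizer Cfsg.M24 (c⁻¹ • x) := by
      intro X _ x hx
      ext g
      have : g ∈ H ↔ c * g * c⁻¹ ∈ H' := by
        rw [hH', Subgroup.mem_map_equiv]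
        simp [mul_assoc]
      rw [this, hx, MulAction.mem_stabilizer_iff, MulAction.mem_stabilizer_iff, mul_smul, mul_smul,
        eq_inv_smul_iff]
    refine ⟨fun hi => ⟨c⁻¹ • octA, ?_, hback _ (h759 (hidx.trans hi))⟩, fun hi => ?_,
      fun hi => h253 (hidx.trans hi)⟩
    · exact image_mem_wordsOfWeight (c⁻¹).2 octA_mem
    · obtain ⟨T, hT, e⟩ := h1771 (hidx.trans hi)
      exact ⟨c⁻¹ • T, H91.Orb.smul_sextet (c⁻¹).2 hT, hback T e⟩
  · push_neg at hodd
    exact ⟨fun h => absurd hodd (by rw [h]; norm_num), fun h => absurd hodd (by rw [h]; norm_num),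
      fun h => absurd hodd (by rw [h]; norm_num)⟩

/-- Subgroups of the group of the length-24 code of index 759, 276 and 1771 are exactly the octad, duad and sextet stabilisers, and no subgroup has index 253. -/
theorem result : (∀ H : Subgroup ↥Cfsg.M24, H.index = 759 → ∃ o ∈ Cfsg.octads, H = MulAction.stabilizer Cfsg.M24 o) ∧ (∀ H : Subgroup ↥Cfsg.M24, H.index = 276 → ∃ s : Finset Cfsg.GolayPt, s.card = 2 ∧ H = MulAction.stabilizer Cfsg.M24 s) ∧ (∀ H : Subgroup ↥Cfsg.M24, H.index = 1771 → ∃ S ∈ Cfsg.sextets, H = MulAction.stabilizer Cfsg.M24 S) ∧ ∀ H : Subgroup ↥Cfsg.M24, H.index ≠ 253 :=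
  ⟨fun H h => (odd_index H).1 h, fun _ h => index_276 h, fun H h => (odd_index H).2.1 h,
    fun H => (odd_index H).2.2⟩

end Cfsg.Agent.S1589
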