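import Cfsg.Statements.S1595
import Cfsg.Agent.H92.Steiner12

set_option autoImplicit false
open Cfsg

namespace Cfsg.Agent.S1595

/-- Leech triangle of S(5, 6, 12): blocks meet in 0, 2, 3 or 4 points, and a block is met exactly in a given 2-, 3- or 4-subset by 3, 2, 3 blocks respectively. -/
theorem result {α : Type*} [Fintype α] [DecidableEq α] (hα : Fintype.card α = 12) {B : Set (Finset α)} (hB : Cfsg.IsSteinerSystem 5 6 B) (b : Finset α) (hb : b ∈ B) : (∀ c ∈ B, c ≠ b → (b ∩ c).card = 0 ∨ (b ∩ c).card = 2 ∨ (b ∩ c).card = 3 ∨ (b ∩ c).card = 4) ∧ ∀ s ⊆ b, (s.card = 2 → {c : Finset α | c ∈ B ∧ b ∩ c = s}.ncard = 3) ∧ (s.card = 3 → {c : Finset α | c ∈ B ∧ b ∩ c = s}.ncard = 2) ∧ (s.card = 4 → {c : Finset α | c ∈ B ∧ b ∩ c = s}.ncard = 3) := by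
  have key : ∀ s ⊆ b, ∀ k ≤ 5, s.card = 5 - k →
      {c : Finset α | c ∈ B ∧ b ∩ c = s}.ncard = [0, 3, 2, 3, 0, 1].getD k 0 := fun s hs k hk hc =>
    (H92.ncard_meet B b s).trans (H92.meet12 hα hB hb k hk s hs hc)
  refine ⟨fun c hc hne => ?_, fun s hs => ⟨fun h => key s hs 3 (by omega) h,
    fun h => key s hs 2 (by omega) h, fun h => key s hs 1 (by omega) h⟩⟩
  have hne1 : (b ∩ c).card ≠ 1 := by
    intro h
    have h0 := key (b ∩ c) Finset.inter_subset_left 4 (by omega) h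
    simp only [List.getD_cons_succ, List.getD_cons_zero] at h0
    rw [Set.ncard_eq_zero (Set.toFinite _)] at h0
    exact Set.notMem_empty c (h0 ▸ ⟨hc, rfl⟩)
  have hle : (b ∩ c).card ≤ 4 := by
    by_contra h
    obtain ⟨u, hu, huc⟩ := Finset.exists_subset_card_eq (s := b ∩ c) (n := 5) (by omega)
    exact hne ((hB.2 u huc).unique ⟨hc, hu.trans Finset.inter_subset_right⟩
      ⟨hb, hu.trans Finset.inter_subset_left⟩)
  omega

end Cfsg.Agent.S1595
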