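import Mathlib
import Cfsg.Agent.H85.BrauerSuzuki
import Cfsg.Agent.H1.CoprimeAction
import Cfsg.Agent.H4.ProductCard

set_option autoImplicit false
open Cfsg Pointwise commutatorElement

namespace Cfsg.Agent.S1618

/-- An isolated involution whose commutators have `p`-power order: `[K, d]` lies in a Sylow
`p`-subgroup of `K`. -/
theorem commutator_isPGroup {G : Type*} [Group G] [Finite G] (p : ℕ) [Fact p.Prime] (d : G)
    (hd : orderOf d = 2) (K : Subgroup G) [K.Normal] (hK : (Nat.card K).Coprime 2)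
    (hc : ∀ k ∈ K, ∃ i : ℕ, orderOf (d * k * d⁻¹ * k⁻¹) = p ^ i) :
    IsPGroup p ↥⁅K, Subgroup.zpowers d⁆ := by
  set A := Subgroup.zpowers d with hA
  have hAK : A ≤ Subgroup.normalizer (K : Set G) := by
    rw [Subgroup.normalizer_eq_top_iff.2 inferInstance]; exact le_top
  have hcop : (Nat.card A).Coprime (Nat.card K) := by
    rw [hA, Nat.card_zpowers, hd]; exact hK.symm
  have hsol : Group.IsSolvable A ∨ Group.IsSolvable K :=
    Or.inl (Group.isSolvable_of_comm fun a b => mul_comm' a b)
  set C := K ⊓ Subgroup.centralizer ({d} : Set G) with hC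
  obtain ⟨P0, hP0⟩ := H1.exists_invariant_sylow hAK hcop hsol p
  set P := (P0 : Subgroup K).map K.subtype with hP
  have hPK : P ≤ K := Subgroup.map_subtype_le _
  have hPcard : Nat.card P = p ^ (Nat.card K).factorization p := by
    rw [hP, Subgroup.card_map_of_injective K.subtype_injective, P0.card_eq_multiplicity]
  have hdm : d ∈ A := Subgroup.mem_zpowers d
  have hr : ∀ r : ℕ, r.Prime → r ≠ p →
      (Nat.card K).factorization r ≤ (Nat.card C).factorization r := by
    intro r hr hrp
    haveI := Fact.mk hr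
    obtain ⟨R0, hR0⟩ := H1.exists_invariant_sylow hAK hcop hsol r
    set R := (R0 : Subgroup K).map K.subtype with hR
    have hRC : R ≤ C := by
      intro k hk
      have hkK : k ∈ K := Subgroup.map_subtype_le _ hk
      refine Subgroup.mem_inf.2 ⟨hkK, ?_⟩
      have hmem : d * k * d⁻¹ * k⁻¹ ∈ R :=
        mul_mem ((Subgroup.mem_normalizer_iff.1 (hR0 hdm) k).1 hk) (inv_mem hk)
      have hRp : IsPGroup r R := R0.2.map _
      obtain ⟨i, hi⟩ := hc k hkK
      obtain ⟨j, hj⟩ := IsPGroup.iff_orderOf.1 hRp ⟨_, hmem⟩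
      rw [Subgroup.orderOf_mk] at hj
      have h1 : orderOf (d * k * d⁻¹ * k⁻¹) = 1 := by
        refine Nat.eq_one_of_dvd_coprimes (Nat.coprime_pow_primes i j Fact.out hr hrp.symm)
          (hi ▸ dvd_rfl) (hj ▸ dvd_rfl)
      rw [orderOf_eq_one_iff, mul_inv_eq_one, mul_inv_eq_iff_eq_mul] at h1
      exact Subgroup.mem_centralizer_singleton_iff.2 h1.symm
    have hRcard : Nat.card R = r ^ (Nat.card K).factorization r := by
      rw [hR, Subgroup.card_map_of_injective K.subtype_injective, R0.card_eq_multiplicity]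
    have hdvd := Subgroup.card_dvd_of_le hRC
    rw [hRcard] at hdvd
    exact (Nat.Prime.pow_dvd_iff_le_factorization hr Nat.card_pos.ne').1 hdvd
  have hS := H4.card_mul_set_mul_card_inf P C
  have hI : Nat.card (P ⊓ C : Subgroup G) * Nat.card K ∣ Nat.card P * Nat.card C := by
    rw [← Nat.factorization_le_iff_dvd (mul_ne_zero Nat.card_pos.ne' Nat.card_pos.ne')
      (mul_ne_zero Nat.card_pos.ne' Nat.card_pos.ne'),
      Nat.factorization_mul Nat.card_pos.ne' Nat.card_pos.ne',
      Nat.factorization_mul Nat.card_pos.ne' Nat.card_pos.ne']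
    intro r
    simp only [Finsupp.add_apply]
    by_cases hrP : r.Prime
    · have h1 : (Nat.card (P ⊓ C : Subgroup G)).factorization r ≤
          (Nat.card P).factorization r :=
        (Nat.factorization_le_iff_dvd Nat.card_pos.ne' Nat.card_pos.ne').2
          (Subgroup.card_dvd_of_le inf_le_left) r
      have h2 : (Nat.card (P ⊓ C : Subgroup G)).factorization r ≤
          (Nat.card C).factorization r :=
        (Nat.factorization_le_iff_dvd Nat.card_pos.ne' Nat.card_pos.ne').2
          (Subgroup.card_dvd_of_le inf_le_right) r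
      rcases eq_or_ne r p with rfl | hrp
      · have : (Nat.card P).factorization r = (Nat.card K).factorization r := by
          rw [hPcard, Nat.Prime.factorization_pow hrP, Finsupp.single_eq_same]
        omega
      · have : (Nat.card P).factorization r = 0 := by
          rw [hPcard, Nat.Prime.factorization_pow Fact.out, Finsupp.single_eq_of_ne hrp]
        have := hr r hrP hrp
        omega
    · simp [Nat.factorization_eq_zero_of_not_prime _ hrP]
  have hcov : ∀ k ∈ K, ∃ x ∈ P, ∃ c ∈ C, x * c = k := by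
    have hsub : ((P : Set G) * (C : Set G)) ⊆ (K : Set G) := by
      rintro _ ⟨x, hx, c, hc', rfl⟩
      exact mul_mem (hPK hx) (Subgroup.mem_inf.1 hc').1
    have hle : (K : Set G).ncard ≤ ((P : Set G) * (C : Set G)).ncard := by
      rw [← Nat.card_coe_set_eq, ← Nat.card_coe_set_eq]
      have h := Nat.le_of_dvd (Nat.mul_pos Nat.card_pos Nat.card_pos) hI
      rw [← hS] at h
      have hpos : 0 < Nat.card (P ⊓ C : Subgroup G) := Nat.card_pos
      simp only [SetLike.coe_sort_coe]
      nlinarith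
    have heq := Set.eq_of_subset_of_ncard_le hsub hle (Set.toFinite _)
    intro k hk
    have : k ∈ ((P : Set G) * (C : Set G)) := heq.symm ▸ hk
    obtain ⟨x, hx, c, hc', rfl⟩ := this
    exact ⟨x, hx, c, hc', rfl⟩
  have hPp : IsPGroup p P := P0.2.map _
  refine hPp.to_le (Subgroup.commutator_le.2 fun k hk a ha => ?_)
  obtain ⟨x, hx, c, hc', rfl⟩ := hcov k hk
  have hac : a * c = c * a := by
    obtain ⟨n, rfl⟩ := Subgroup.mem_zpowers_iff.1 ha
    have : Commute d c :=
      (Subgroup.mem_centralizer_singleton_iff.1 (Subgroup.mem_inf.1 hc').2).symm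
    exact (this.zpow_left n).eq
  have hxa : a * x⁻¹ * a⁻¹ ∈ P := (Subgroup.mem_normalizer_iff.1 (hP0 ha) _).1 (inv_mem hx)
  have : ⁅x * c, a⁆ = x * (a * x⁻¹ * a⁻¹) := by
    simp only [commutatorElement_def, mul_inv_rev]
    calc x * c * a * (c⁻¹ * x⁻¹) * a⁻¹ = x * (c * a) * c⁻¹ * x⁻¹ * a⁻¹ := by group
      _ = x * (a * c) * c⁻¹ * x⁻¹ * a⁻¹ := by rw [hac]
      _ = x * (a * x⁻¹ * a⁻¹) := by group
  rw [this]
  exact mul_mem hx hxa

/-- A group generated by a class of involutions whose pairwise products (of distinct members) have p-power order for a fixed odd prime p has nilpotent derived subgroup. -/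
theorem result {G : Type*} [Group G] [Finite G] (p : ℕ) (hp : p.Prime) (hodd : p ≠ 2) {D : Set G} (hinv : ∀ d ∈ D, orderOf d = 2) (hconj : ∃ d ∈ D, D = conjugatesOf d) (hgen : Subgroup.closure D = ⊤) (hprod : ∀ x ∈ D, ∀ y ∈ D, x ≠ y → ∃ k : ℕ, orderOf (x * y) = p ^ k) : Group.IsNilpotent ↥(commutator G) := by
  haveI := Fact.mk hp
  haveI : Fact (Nat.Prime 2) := ⟨Nat.prime_two⟩
  obtain ⟨d, hdD, rfl⟩ := hconj
  have hd : orderOf d = 2 := hinv d hdD
  have hdinv : d⁻¹ = d := inv_eq_of_mul_eq_one_right (by rw [← sq, ← hd, pow_orderOf_eq_one])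
  have hmemD : ∀ g : G, g * d * g⁻¹ ∈ conjugatesOf d := fun g => isConj_iff.2 ⟨g, rfl⟩
  have hcomm : ∀ g : G, ∃ i : ℕ, orderOf (d * g * d⁻¹ * g⁻¹) = p ^ i := by
    intro g
    have e : d * g * d⁻¹ * g⁻¹ = d * (g * d * g⁻¹) := by rw [hdinv]; simp only [mul_assoc]
    rw [e]
    rcases eq_or_ne d (g * d * g⁻¹) with h | h
    · refine ⟨0, ?_⟩
      rw [← h, ← sq, ← hd, pow_orderOf_eq_one, orderOf_one, pow_zero]
    · exact hprod d hdD _ (hmemD g) h
  have hiso : Cfsg.IsIsolatedInvolution d := by
    refine ⟨hd, fun g hg => ?_⟩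
    by_contra hne
    obtain ⟨i, hi⟩ := hprod d hdD _ (hmemD g) (Ne.symm hne)
    have h2 : orderOf (d * (g * d * g⁻¹)) ∣ 2 := by
      rw [orderOf_dvd_iff_pow_eq_one, hg.mul_pow, ← hd, pow_orderOf_eq_one, one_mul]
      rw [hd, sq]
      calc g * d * g⁻¹ * (g * d * g⁻¹) = g * (d * d) * g⁻¹ := by group
        _ = 1 := by rw [← sq, ← hd, pow_orderOf_eq_one]; group
    have h1 : d * (g * d * g⁻¹) = 1 :=
      orderOf_eq_one_iff.1 (Nat.eq_one_of_dvd_coprimes
        (Nat.coprime_pow_primes i 1 hp Nat.prime_two hodd) (hi ▸ dvd_rfl)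
        (by rw [pow_one]; exact h2))
    exact hne ((inv_eq_of_mul_eq_one_right h1).symm.trans hdinv)
  have hz := H85.zStar hiso
  set K := Cfsg.pPrimeCore 2 G with hKdef
  haveI : K.Normal := H1.pPrimeCore_normal' 2 G
  have hN := commutator_isPGroup p d hd K (H1.card_pPrimeCore_coprime 2 G) fun k _ => hcomm k
  set N := ⁅K, Subgroup.zpowers d⁆ with hNdef
  have hDK : ∀ x ∈ conjugatesOf d, ∃ k ∈ K, x = d * k := by
    intro x hx
    obtain ⟨g, rfl⟩ := isConj_iff.1 hx
    refine ⟨d * g * d⁻¹ * g⁻¹, hz g, ?_⟩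
    rw [hdinv]
    calc g * d * g⁻¹ = (d * d) * (g * d * g⁻¹) := by rw [← sq, ← hd, pow_orderOf_eq_one, one_mul]
      _ = d * (d * g * d * g⁻¹) := by group
  haveI : N.Normal := by
    rw [← Subgroup.normalizer_eq_top_iff, eq_top_iff, ← hgen, Subgroup.closure_le]
    intro x hx
    obtain ⟨k, hk, rfl⟩ := hDK x hx
    exact mul_mem (H1.right_le_normalizer_commutator (Subgroup.mem_zpowers d))
      (H1.left_le_normalizer_commutator hk)
  have hNK : ∀ k ∈ K, Commute (QuotientGroup.mk' N k) (QuotientGroup.mk' N d) := by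
    intro k hk
    have : ⁅k, d⁆ ∈ N := Subgroup.commutator_mem_commutator hk (Subgroup.mem_zpowers d)
    have h1 : ⁅QuotientGroup.mk' N k, QuotientGroup.mk' N d⁆ = 1 := by
      rw [← map_commutatorElement]
      exact (QuotientGroup.eq_one_iff _).2 this
    exact commutatorElement_eq_one_iff_commute.1 h1
  have hcen : ∀ g : G, Commute (QuotientGroup.mk' N g) (QuotientGroup.mk' N d) := by
    intro g
    have hg : g ∈ Subgroup.closure (conjugatesOf d) := hgen ▸ Subgroup.mem_top g
    have hle : Subgroup.closure (conjugatesOf d) ≤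
        (Subgroup.centralizer {QuotientGroup.mk' N d}).comap (QuotientGroup.mk' N) := by
      rw [Subgroup.closure_le]
      intro x hx
      obtain ⟨k, hk, rfl⟩ := hDK x hx
      rw [SetLike.mem_coe, Subgroup.mem_comap, Subgroup.mem_centralizer_singleton_iff, map_mul]
      exact ((Commute.refl _).mul_left (hNK k hk)).eq
    exact Subgroup.mem_centralizer_singleton_iff.1 (hle hg)
  have himg : ∀ g : G, QuotientGroup.mk' N g ∈
      Subgroup.zpowers (QuotientGroup.mk' N d) := by
    intro g
    have hg : g ∈ Subgroup.closure (conjugatesOf d) := hgen ▸ Subgroup.mem_top g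
    have hle : Subgroup.closure (conjugatesOf d) ≤
        (Subgroup.zpowers (QuotientGroup.mk' N d)).comap (QuotientGroup.mk' N) := by
      rw [Subgroup.closure_le]
      intro x hx
      obtain ⟨g, rfl⟩ := isConj_iff.1 hx
      rw [SetLike.mem_coe, Subgroup.mem_comap, map_mul, map_mul, map_inv, (hcen g).eq,
        mul_inv_cancel_right]
      exact Subgroup.mem_zpowers _
    exact hle hg
  have hle : commutator G ≤ N := by
    rw [commutator_def, Subgroup.commutator_le]
    intro a _ b _
    rw [← QuotientGroup.eq_one_iff, ← QuotientGroup.mk'_apply, map_commutatorElement,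
      commutatorElement_eq_one_iff_commute]
    obtain ⟨m, hm⟩ := Subgroup.mem_zpowers_iff.1 (himg a)
    obtain ⟨n, hn⟩ := Subgroup.mem_zpowers_iff.1 (himg b)
    rw [← hm, ← hn]
    exact Commute.zpow_zpow (Commute.refl _) m n
  exact (hN.to_le hle).isNilpotent

end Cfsg.Agent.S1618
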