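import Cfsg.Statements.S1624
import Cfsg.Agent.H91.J2U33

set_option autoImplicit false
open Quaternion
open Cfsg

namespace Cfsg.Agent.S1624

/-- The Hall–Janko group contains PSU(3, 3) with index 100 and acts on the 100 cosets with rank 3 and subdegrees 1, 36, 63. -/
theorem result : ∃ H : Subgroup Cfsg.Spor.J2, H.index = 100 ∧ (∃ (F : Type) (_ : Field F) (_ : Fintype F), Fintype.card F = 9 ∧ Nonempty (↥H ≃* Cfsg.PSU 3 F 3)) ∧ ∃ c₁ c₂ : Cfsg.Spor.J2 ⧸ H, (MulAction.orbit ↥H c₁).ncard = 36 ∧ (MulAction.orbit ↥H c₂).ncard = 63 := by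
  obtain ⟨c₁, h₁⟩ := H91.J2U.suborbit 1
  obtain ⟨c₂, h₂⟩ := H91.J2U.suborbit 2
  refine ⟨H91.J2A.H100, H91.J2A.H100_index,
    ⟨H91.J2U.F9, inferInstance, inferInstance, H91.J2U.card_F9, H91.J2U.H100_equiv⟩, c₁, c₂, ?_, ?_⟩
  · exact h₁.trans H91.J2T.label_ok.2.2.2.2.1
  · exact h₂.trans H91.J2T.label_ok.2.2.2.2.2

end Cfsg.Agent.S1624
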