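import Cfsg.Statements.S1629
import Cfsg.Agent.H92.OrthThreeTransp

set_option autoImplicit false
open scoped MatrixGroups
open Cfsg

namespace Cfsg.Agent.S1629

/-- The orthogonal transvections of the plus-type orthogonal group in dimension 2m ≥ 6 over the field with two elements form a generating conjugacy class of 3-transpositions. -/
theorem result (m : ℕ) (hm : 3 ≤ m) : Cfsg.IsThreeTranspositionClass {g : ↥(Cfsg.isometryGroup (ZMod 2) (Cfsg.quadFormPlus m (ZMod 2))) | (((g : GL (Fin m ⊕ Fin m) (ZMod 2)) : Matrix (Fin m ⊕ Fin m) (Fin m ⊕ Fin m) (ZMod 2)) - 1).rank = 1} := by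
  refine H92.isometry_three_transp (H43.qPlus m (ZMod 2)) (H43.qPlus_nondeg m)
    (by simp only [Fintype.card_sum, Fintype.card_fin]; omega) ⟨fun j => Sum.elim
      (fun i => if i.val = 0 then 1 else 0) (fun i => if i.val = 0 then 1 else 0) j, ?_⟩
    (H43.coe_qPlus m (ZMod 2))
  rw [H43.coe_qPlus, Cfsg.quadFormPlus]
  rw [Finset.sum_eq_single (⟨0, by omega⟩ : Fin m)]
  · simp
  · intro b _ hb
    have : b.val ≠ 0 := fun h => hb (Fin.ext h)
    simp [this]
  · intro h; exact absurd (Finset.mem_univ _) h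

end Cfsg.Agent.S1629
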