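import Cfsg.Statements.S1635
import Cfsg.Agent.H92.Punctured

set_option autoImplicit false
open Cfsg

namespace Cfsg.Agent.S1635

/-- Coset leaders of the length-24 code: a coset contains a unique word of weight ≤ 3, or else exactly six words of weight 4 and none lighter. -/
theorem result (w : Cfsg.GolayPt → ZMod 2) : ({v : Cfsg.GolayPt → ZMod 2 | hammingNorm v ≤ 4 ∧ w - v ∈ Cfsg.golayCode}.ncard = 1 ∧ ∃ v : Cfsg.GolayPt → ZMod 2, hammingNorm v ≤ 3 ∧ w - v ∈ Cfsg.golayCode) ∨ ({v : Cfsg.GolayPt → ZMod 2 | hammingNorm v ≤ 4 ∧ w - v ∈ Cfsg.golayCode}.ncard = 6 ∧ ∀ v : Cfsg.GolayPt → ZMod 2, w - v ∈ Cfsg.golayCode → hammingNorm v ≤ 4 → hammingNorm v = 4) := by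
  rcases H92.golayLike.coset_cases w with ⟨u, hu, h3⟩ | ⟨S, hS6, hS⟩
  · left
    have hmem : w - u ∈ golayCode := by simpa using golayCode.neg_mem hu
    refine ⟨?_, u, h3, hmem⟩
    rw [Set.ncard_eq_one]
    refine ⟨u, Set.ext fun v => ⟨fun hv => ?_, ?_⟩⟩
    · apply H92.golayLike.eq_of_small
      · have := sub_mem hmem hv.2; rwa [sub_sub_sub_cancel_left] at this
      · have := hv.1; omega
    · rintro rfl; exact ⟨by omega, hmem⟩
  · right
    have hflip : ∀ v, w - v ∈ golayCode ↔ v - w ∈ golayCode := fun v => by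
      rw [← neg_sub, Submodule.neg_mem_iff]
    have hfour : ∀ v, w - v ∈ golayCode → hammingNorm v ≤ 4 → hammingNorm v = 4 := by
      intro v hv h4
      by_contra hne
      obtain ⟨a, ha⟩ : S.Nonempty := Finset.card_pos.mp (by omega)
      obtain ⟨ha1, ha2⟩ := (hS a).mp ha
      have := sub_mem ((hflip v).mp hv) ha1
      rw [sub_sub_sub_cancel_right] at this
      have heq := H92.golayLike.eq_of_small this (by omega)
      exact hne (heq ▸ ha2)
    refine ⟨?_, hfour⟩
    have hset : {v : Cfsg.GolayPt → ZMod 2 | hammingNorm v ≤ 4 ∧ w - v ∈ Cfsg.golayCode} = ↑S := by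
      ext v
      rw [Set.mem_ofPred_eq, Finset.mem_coe, hS, hflip]
      exact ⟨fun h => ⟨h.2, hfour v ((hflip v).mpr h.2) h.1⟩, fun h => ⟨le_of_eq h.2, h.1⟩⟩
    rw [hset, Set.ncard_coe_finset, hS6]

end Cfsg.Agent.S1635
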