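import Cfsg.Statements.S1644
import Cfsg.Agent.H16.Janko1.Uniq.Unique
import Cfsg.Agent.H97.J1Simple
import Cfsg.Agent.H97.J1Invol

set_option autoImplicit false
open Cfsg

namespace Cfsg.Agent.S1644

/-- The first Janko group recognised by an involution centraliser, at the level of isomorphism: a finite simple group with abelian Sylow 2-subgroups of order 8 and an involution whose centraliser is isomorphic to Z/2 × A₅ is isomorphic to the subgroup of GL(7, 11) generated by the two explicit Janko matrices. -/
theorem result {G : Type*} [Group G] [Finite G] [IsSimpleGroup G] (S : Sylow 2 G) (hS : IsMulCommutative (S : Subgroup G)) (h8 : Nat.card S = 8) (t : G) (ht : orderOf t = 2) (e : (Subgroup.centralizer ({t} : Set G)) ≃* Multiplicative (ZMod 2) × alternatingGroup (Fin 5)) : Cfsg.Spor.IsoJ1 G := by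
  haveI : Fact (Nat.Prime 2) := ⟨Nat.prime_two⟩
  have hfac : ∀ n : ℕ, n = 120 ∨ n = 175560 → n.factorization 2 = 3 := by
    intro n hn
    have key : ∀ m : ℕ, Odd m → (2 ^ 3 * m).factorization 2 = 3 := fun m hm => by
      have hm0 : m ≠ 0 := by rintro rfl; simp at hm
      rw [Nat.factorization_mul (by norm_num) hm0, Finsupp.add_apply, Nat.factorization_pow,
        Finsupp.smul_apply, Nat.Prime.factorization_self Nat.prime_two,
        Nat.factorization_eq_zero_of_not_dvd hm.not_two_dvd_nat]
      rfl
    rcases hn with rfl | rfl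
    · exact key 15 (by decide)
    · exact key 21945 (by decide)
  have hM : Nat.card (Multiplicative (ZMod 2) × alternatingGroup (Fin 5)) = 120 := H16.J1.card_M
  have htc : Cfsg.IsTwoCentralInvolution t := by
    refine H16.J1.Uniq.twoCentral_of_card t ht ?_
    rw [Nat.card_congr e.toEquiv, hM, hfac 120 (Or.inl rfl)]
    have h := S.card_eq_multiplicity
    rw [h8] at h
    exact Nat.pow_right_injective le_rfl (show 2 ^ 3 = 2 ^ _ from h)
  obtain ⟨α⟩ := H16.J1.Uniq.iso_tableGroup_of_equiv t htc e
  haveI := H97.J1.isSimpleGroup_J1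
  obtain ⟨f⟩ := H97.J1.nonempty_centEquiv
  have huc : Cfsg.IsTwoCentralInvolution H97.J1.tInv := by
    refine H16.J1.Uniq.twoCentral_of_card _ H97.J1.orderOf_tInv ?_
    rw [Nat.card_congr f.toEquiv, hM, hfac 120 (Or.inl rfl), H97.J1.card_J1, hfac 175560 (Or.inr rfl)]
  obtain ⟨β⟩ := H16.J1.Uniq.iso_tableGroup_of_equiv _ huc f
  exact ⟨α.trans β.symm⟩

end Cfsg.Agent.S1644
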