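import Cfsg.Statements.S1645
import Cfsg.Agent.H33.TwoAn.LocalTen
import Cfsg.Agent.H37.AltDeg.Cover
import Cfsg.Agent.H37.AltDeg.Main
import Cfsg.Agent.H17.TwoAn.Cfg
import Cfsg.Agent.H12.TwoAn.Sylow
import Cfsg.Agent.H12.TwoAn.Reduce
import Cfsg.Agent.H61.TwoAn.Order

set_option autoImplicit false
open Cfsg

namespace Cfsg.Agent.S1645

/-- If some involution of a finite simple group has centraliser a non-split double cover of the alternating group of degree n ≥ 5, then n is 8 or 11 (the McLaughlin and Lyons cases). -/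
theorem result {G : Type*} [Group G] [Finite G] [IsSimpleGroup G] (n : ℕ) (hn : 5 ≤ n) (z : G) (hz : orderOf z = 2) (hcov : Cfsg.IsNonsplitDoubleCover (Subgroup.centralizer ({z} : Set G)) (alternatingGroup (Fin n))) : n = 8 ∨ n = 11 := by
  obtain ⟨h8, h11⟩ := H37.AltDeg.range n hn z hz hcov
  by_contra hne
  have h910 : n = 9 ∨ n = 10 := by omega
  obtain ⟨φ, D⟩ := H37.AltDeg.exists_data n hn z hz hcov
  have hker : ∀ c, φ c = 1 ↔ (c : G) = 1 ∨ (c : G) = z := by
    intro c
    constructor
    · intro h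
      rcases D.ker c h with e | e
      · exact Or.inl (congrArg Subtype.val e)
      · exact Or.inr (congrArg Subtype.val e)
    · rintro (e | e)
      · rw [show c = 1 from Subtype.ext e, map_one]
      · rw [show c = ⟨z, Subgroup.mem_centralizer_singleton_iff.2 rfl⟩ from Subtype.ext e, D.zmem]
  obtain ⟨K, hKz, hK⟩ := H17.TwoAn.cfg G n h910 z hz φ D.range_eq hker D.perfect
  rw [← hKz] at hK
  have hloc := H33.TwoAn.localStmt G K (hK.imp And.left And.left)
  obtain ⟨L, iL, fL, ⟨M⟩⟩ := H12.TwoAn.reduce G K hK hloc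
  exact H12.TwoAn.sylow L M (H61.TwoAn.order L M)

end Cfsg.Agent.S1645
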