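import Cfsg.Statements.S1679
import Cfsg.Agent.H92.Suz.G24Sub

set_option autoImplicit false
open Cfsg

namespace Cfsg.Agent.S1679

/-- In the presented sporadic Suzuki group (generators a, …, g), the subgroup generated by the images of a, …, f is isomorphic to the adjoint Chevalley group of type G₂ over a field with four elements. -/
theorem result : ∃ (K : Type) (_ : Field K) (_ : Fintype K), Fintype.card K = 4 ∧ Nonempty ((((Subgroup.closure ({Cfsg.Spor.Suz.a, Cfsg.Spor.Suz.b, Cfsg.Spor.Suz.c, Cfsg.Spor.Suz.d, Cfsg.Spor.Suz.e, Cfsg.Spor.Suz.f} : Set (FreeGroup Cfsg.Spor.Suz.Gen))).map (PresentedGroup.mk (Cfsg.Spor.coxRelators Cfsg.Spor.Suz.edges ∪ {r | r ∈ Cfsg.Spor.Suz.extra})))) ≃* Cfsg.Lie.chevG2.group K) := by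
  refine ⟨H35.G24.K4, inferInstance, inferInstance, ?_, ?_⟩
  · exact H35.G24.K4.card_eq
  · obtain ⟨e⟩ := H92.Suz.nonempty_equiv
    refine ⟨(MulEquiv.subgroupCongr ?_).trans e⟩
    rw [MonoidHom.map_closure]
    refine congrArg Subgroup.closure ?_
    ext x
    constructor
    · rintro ⟨y, hy, rfl⟩
      simp only [Set.mem_insert_iff, Set.mem_singleton_iff] at hy
      rcases hy with rfl | rfl | rfl | rfl | rfl | rfl
      · exact ⟨0, show (0 : ℕ) < 6 by norm_num, rfl⟩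
      · exact ⟨1, show (1 : ℕ) < 6 by norm_num, rfl⟩
      · exact ⟨2, show (2 : ℕ) < 6 by norm_num, rfl⟩
      · exact ⟨3, show (3 : ℕ) < 6 by norm_num, rfl⟩
      · exact ⟨4, show (4 : ℕ) < 6 by norm_num, rfl⟩
      · exact ⟨5, show (5 : ℕ) < 6 by norm_num, rfl⟩
    · rintro ⟨g, hg, rfl⟩
      have hg' : g < 6 := hg
      interval_cases g
      · exact ⟨Cfsg.Spor.Suz.a, by simp, rfl⟩
      · exact ⟨Cfsg.Spor.Suz.b, by simp, rfl⟩
      · exact ⟨Cfsg.Spor.Suz.c, by simp, rfl⟩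
      · exact ⟨Cfsg.Spor.Suz.d, by simp, rfl⟩
      · exact ⟨Cfsg.Spor.Suz.e, by simp, rfl⟩
      · exact ⟨Cfsg.Spor.Suz.f, by simp, rfl⟩

end Cfsg.Agent.S1679
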