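import Cfsg.Statements.S1717


set_option autoImplicit false
open Cfsg

namespace Cfsg.Agent.S1717

theorem zmod2_cases (x : ZMod 2) : x = 0 ∨ x = 1 := (by decide : ∀ x : ZMod 2, x = 0 ∨ x = 1) x

/-- Let G be a finite group with an involution z whose centraliser C is isomorphic to the centraliser of a transvection of SL(5, 2). Then a Sylow 2-subgroup of C, viewed in G, is a Sylow 2-subgroup of G (its index in G is odd). -/
theorem result {G : Type*} [Group G] [Finite G] (s : Matrix.SpecialLinearGroup (Fin 5) (ZMod 2)) (hs : (s : Matrix (Fin 5) (Fin 5) (ZMod 2)) = Matrix.transvection 0 1 1) (z : G) (hz : orderOf z = 2) (e : (Subgroup.centralizer ({z} : Set G)) ≃* Subgroup.centralizer ({s} : Set (Matrix.SpecialLinearGroup (Fin 5) (ZMod 2)))) (T : Sylow 2 (Subgroup.centralizer ({z} : Set G))) : ¬ 2 ∣ ((T : Subgroup (Subgroup.centralizer ({z} : Set G))).map (Subgroup.subtype (Subgroup.centralizer ({z} : Set G)))).index := by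
  classical
  have := Fact.mk Nat.prime_two
  let M := Matrix.SpecialLinearGroup (Fin 5) (ZMod 2)
  -- ordering of the basis in which the transvection is a corner entry
  let ρ : Fin 5 → ℕ := ![0, 4, 1, 2, 3]
  have hρ : ∀ i, ρ i ≤ 4 := by decide
  have hscomm : ∀ m : M, (∀ k, k ≠ 0 → (m : Matrix (Fin 5) (Fin 5) (ZMod 2)) k 0 = 0) →
      (∀ k, k ≠ 1 → (m : Matrix (Fin 5) (Fin 5) (ZMod 2)) 1 k = 0) →
      (m : Matrix (Fin 5) (Fin 5) (ZMod 2)) 0 0 = 1 → (m : Matrix (Fin 5) (Fin 5) (ZMod 2)) 1 1 = 1 →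
      m * s = s * m := by
    intro m hc hr h0 h1
    apply Subtype.ext
    show (m : Matrix (Fin 5) (Fin 5) (ZMod 2)) * (s : Matrix (Fin 5) (Fin 5) (ZMod 2)) = (s : Matrix (Fin 5) (Fin 5) (ZMod 2)) * m
    rw [hs]
    simp only [Matrix.transvection, Matrix.mul_add, Matrix.add_mul, mul_one, one_mul, add_right_inj]
    ext i j
    by_cases hi : i = 0 <;> by_cases hj : j = 1
    · subst hi hj; simp [h0, h1]
    · subst hi; simp [hj, hr j hj]
    · subst hj; simp [hi, hc i hi]
    · simp [hi, hj]
  let A : M → Prop := fun m => ∀ i j, ρ j ≤ ρ i →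
    (m : Matrix (Fin 5) (Fin 5) (ZMod 2)) i j = if i = j then 1 else 0
  have hAmul : ∀ a b, A a → A b → A (a * b) := by
    intro a b ha hb i j hij
    show ((a : Matrix (Fin 5) (Fin 5) (ZMod 2)) * b) i j = _
    rw [Matrix.mul_apply, Finset.sum_eq_single i]
    · rw [ha i i le_rfl, if_pos rfl, one_mul, hb i j hij]
    · intro k _ hki
      by_cases h : ρ k ≤ ρ i
      · rw [ha i k h, if_neg (Ne.symm hki), zero_mul]
      · rw [hb k j (by omega), if_neg (fun h2 => by subst h2; omega), mul_zero]
    · simp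
  let U : Subgroup M :=
    { carrier := {m | A m}
      one_mem' := fun i j _ => by simp [Matrix.one_apply]
      mul_mem' := fun {a b} ha hb => hAmul a b ha hb
      inv_mem' := by
        intro a ha
        have hpow : ∀ n : ℕ, A (a ^ n) := by
          intro n
          induction n with
          | zero => intro i j _; simp [Matrix.one_apply]
          | succ n ih => rw [pow_succ]; exact hAmul _ _ ih ha
        have h1 : a⁻¹ = a ^ (orderOf a - 1) := by
          rw [inv_eq_iff_mul_eq_one, ← pow_succ', Nat.sub_add_cancel (orderOf_pos a), pow_orderOf_eq_one]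
        show A a⁻¹
        rw [h1]; exact hpow _ }
  have hnil : ∀ m ∈ U, m ^ 8 = 1 := by
    intro m hm
    have hX : ∀ n : ℕ, ∀ i j, ρ j < ρ i + n →
        (((m : Matrix (Fin 5) (Fin 5) (ZMod 2)) - 1) ^ n) i j = 0 := by
      intro n
      induction n with
      | zero =>
        intro i j h
        rw [pow_zero, Matrix.one_apply_ne]
        intro e; subst e; omega
      | succ n ih =>
        intro i j h
        rw [pow_succ, Matrix.mul_apply]
        refine Finset.sum_eq_zero fun k _ => ?_
        by_cases hk : ρ k < ρ i + n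
        · rw [ih i k hk, zero_mul]
        · have : ρ j ≤ ρ k := by omega
          rw [Matrix.sub_apply, hm k j this, Matrix.one_apply, sub_self, mul_zero]
    have h8 : ((m : Matrix (Fin 5) (Fin 5) (ZMod 2)) - 1) ^ 8 = 0 := by
      ext i j
      exact hX 8 i j (by have := hρ j; omega)
    have : CharP (Matrix (Fin 5) (Fin 5) (ZMod 2)) 2 := Matrix.charP 2
    rw [show (8 : ℕ) = 2 ^ 3 from rfl, sub_pow_char_pow_of_commute (p := 2) (n := 3) (h := Commute.one_right _), one_pow,
      sub_eq_zero] at h8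
    apply Subtype.ext
    show ((m ^ 8 : M) : Matrix (Fin 5) (Fin 5) (ZMod 2)) = 1
    rw [Matrix.SpecialLinearGroup.coe_pow]; exact h8
  have hUC : U ≤ Subgroup.centralizer ({s} : Set M) := by
    intro m hm
    refine Subgroup.mem_centralizer_singleton_iff.mpr ?_
    refine hscomm m (fun k hk => ?_) (fun k hk => ?_) ?_ ?_
    · rw [hm k 0 (Nat.zero_le _), if_neg hk]
    · rw [hm 1 k (hρ k), if_neg (Ne.symm hk)]
    · rw [hm 0 0 le_rfl, if_pos rfl]
    · rw [hm 1 1 le_rfl, if_pos rfl]
  have hUcent : ∀ m : M, (∀ u ∈ U, u * m = m * u) → m = 1 ∨ m = s := by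
    intro m hm
    have hT : ∀ i j, ρ i < ρ j → Matrix.single i j (1 : ZMod 2) * (m : Matrix (Fin 5) (Fin 5) (ZMod 2)) = (m : Matrix (Fin 5) (Fin 5) (ZMod 2)) * Matrix.single i j 1 := by
      intro i j hij
      have hij' : i ≠ j := fun h => by subst h; omega
      let t : M := ⟨Matrix.transvection i j (1 : ZMod 2), Matrix.det_transvection_of_ne i j hij' 1⟩
      have hu : t ∈ U := by
        intro a b hab
        show Matrix.transvection i j (1 : ZMod 2) a b = _
        rw [Matrix.transvection, Matrix.add_apply, Matrix.one_apply, Matrix.single_apply_of_ne, add_zero]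
        rintro ⟨rfl, rfl⟩; omega
      have h2 : Matrix.transvection i j (1 : ZMod 2) * (m : Matrix (Fin 5) (Fin 5) (ZMod 2)) =
          (m : Matrix (Fin 5) (Fin 5) (ZMod 2)) * Matrix.transvection i j (1 : ZMod 2) :=
        congrArg Subtype.val (hm t hu)
      simpa [Matrix.transvection, Matrix.add_mul, Matrix.mul_add] using h2
    have hcol : ∀ i j k, ρ i < ρ j → k ≠ i → (m : Matrix (Fin 5) (Fin 5) (ZMod 2)) k i = 0 := by
      intro i j k hij hk
      have := congrFun (congrFun (hT i j hij) k) j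
      simpa [hk] using this.symm
    have hdiag : ∀ i j, ρ i < ρ j → (m : Matrix (Fin 5) (Fin 5) (ZMod 2)) i i = (m : Matrix (Fin 5) (Fin 5) (ZMod 2)) j j := by
      intro i j hij
      have := congrFun (congrFun (hT i j hij) i) j
      simpa using this.symm
    have hrow : ∀ j, j ≠ 0 → ∀ k, k ≠ j → (m : Matrix (Fin 5) (Fin 5) (ZMod 2)) j k = 0 := by
      intro j hj k hk
      have h0j : ρ 0 < ρ j := (by decide : ∀ j, j ≠ 0 → ρ 0 < ρ j) j hj
      have := congrFun (congrFun (hT 0 j h0j) 0) k
      simpa [hk] using this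
    have hd : ∀ j, (m : Matrix (Fin 5) (Fin 5) (ZMod 2)) j j = (m : Matrix (Fin 5) (Fin 5) (ZMod 2)) 0 0 := by
      intro j
      by_cases hj : j = 0
      · rw [hj]
      · exact (hdiag 0 j ((by decide : ∀ j, j ≠ 0 → ρ 0 < ρ j) j hj)).symm
    have hne : (m : Matrix (Fin 5) (Fin 5) (ZMod 2)) 0 0 ≠ 0 := by
      intro h
      have h1 : (m : Matrix (Fin 5) (Fin 5) (ZMod 2)).det = 0 := by
        refine Matrix.det_eq_zero_of_row_eq_zero 2 fun k => ?_
        by_cases hk : k = 2
        · rw [hk, hd, h]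
        · exact hrow 2 (by decide) k hk
      rw [m.2] at h1
      exact one_ne_zero h1
    have h00 : (m : Matrix (Fin 5) (Fin 5) (ZMod 2)) 0 0 = 1 := by
      exact (zmod2_cases _).resolve_left hne
    have hmat : ∀ i j, (i, j) ≠ (0, 1) →
        (m : Matrix (Fin 5) (Fin 5) (ZMod 2)) i j = if i = j then 1 else 0 := by
      intro i j hne'
      by_cases hij : i = j
      · subst hij; rw [hd, h00, if_pos rfl]
      rw [if_neg hij]
      by_cases hj : j = 1
      · exact hrow i (fun h => hne' (by rw [h, hj])) j (Ne.symm hij)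
      · exact hcol j 1 i ((by decide : ∀ j, j ≠ 1 → ρ j < ρ 1) j hj) hij
    have h01 : (m : Matrix (Fin 5) (Fin 5) (ZMod 2)) 0 1 = 0 ∨ (m : Matrix (Fin 5) (Fin 5) (ZMod 2)) 0 1 = 1 := by
      exact zmod2_cases _
    rcases h01 with h01 | h01
    · left
      refine Matrix.SpecialLinearGroup.ext _ _ fun i j => ?_
      rw [Matrix.SpecialLinearGroup.coe_one, Matrix.one_apply]
      by_cases h : (i, j) = (0, 1)
      · obtain ⟨rfl, rfl⟩ := Prod.mk.inj h
        rw [h01, if_neg (by decide)]
      · exact hmat i j h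
    · right
      refine Matrix.SpecialLinearGroup.ext _ _ fun i j => ?_
      rw [hs, Matrix.transvection, Matrix.add_apply, Matrix.one_apply]
      by_cases h : (i, j) = (0, 1)
      · obtain ⟨rfl, rfl⟩ := Prod.mk.inj h
        simp [h01]
      · rw [hmat i j h, Matrix.single_apply_of_ne, add_zero]
        rintro ⟨rfl, rfl⟩; exact h rfl
  let C := Subgroup.centralizer ({z} : Set G)
  let P : Subgroup C := (U.subgroupOf (Subgroup.centralizer ({s} : Set M))).comap e.toMonoidHom
  have hP : IsPGroup 2 P := by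
    intro x
    refine ⟨3, ?_⟩
    apply Subtype.ext
    apply e.injective
    have := hnil _ x.2
    rw [SubgroupClass.coe_pow, map_pow, OneMemClass.coe_one, map_one]
    exact Subtype.ext this
  have hcentP : ∀ x : C, (∀ p ∈ P, p * x = x * p) → x = 1 ∨ x.1 = z := by
    intro x hx
    have hzc : (⟨z, Subgroup.mem_centralizer_singleton_iff.mpr rfl⟩ : C) ≠ 1 := fun h => by
      have : z = 1 := congrArg Subtype.val h
      simp [this] at hz
    have key : ∀ y : C, (∀ p ∈ P, p * y = y * p) → y = 1 ∨ (e y).1 = s := by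
      intro y hy
      rcases hUcent (e y).1 (fun u hu => by
        have h := hy (e.symm ⟨u, hUC hu⟩) (by
          show (e (e.symm ⟨u, hUC hu⟩)).1 ∈ U
          rw [MulEquiv.apply_symm_apply]; exact hu)
        have h2 := congrArg (fun c => (e c).1) h
        simpa using h2) with h | h
      · left; exact e.injective (by rw [map_one]; exact Subtype.ext h)
      · exact Or.inr h
    rcases key x hx with h | h
    · exact Or.inl h
    rcases key ⟨z, Subgroup.mem_centralizer_singleton_iff.mpr rfl⟩ (fun p _ =>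
      Subtype.ext (Subgroup.mem_centralizer_singleton_iff.mp p.2)) with h2 | h2
    · exact absurd h2 hzc
    · right
      exact congrArg Subtype.val (e.injective (Subtype.ext (h.trans h2.symm)))
  obtain ⟨P', hP'⟩ := hP.exists_le_sylow
  obtain ⟨c, hc⟩ := MulAction.exists_smul_eq C P' T
  set Tm : Subgroup G := (T : Subgroup C).map C.subtype with hTm
  have hTcent : ∀ x : G, x ∈ Tm → (∀ t ∈ Tm, t * x = x * t) → x = 1 ∨ x = z := by
    rintro _ ⟨x, hx, rfl⟩ hcom
    rcases hcentP (c⁻¹ * x * c) (fun p hp => by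
      have hmem : c * p * c⁻¹ ∈ (T : Subgroup C) := by
        rw [← hc]
        show c * p * c⁻¹ ∈ ((c • P' : Sylow 2 C) : Subgroup C)
        rw [Sylow.coe_subgroup_smul]
        exact Subgroup.smul_mem_pointwise_smul _ (MulAut.conj c) _ (hP' hp)
      have h := hcom _ ⟨_, hmem, rfl⟩
      have h' : (c * p * c⁻¹) * x = x * (c * p * c⁻¹) := Subtype.ext h
      calc p * (c⁻¹ * x * c) = c⁻¹ * ((c * p * c⁻¹) * x) * c := by group
        _ = c⁻¹ * (x * (c * p * c⁻¹)) * c := by rw [h']
        _ = c⁻¹ * x * c * p := by group) with h | h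
    · left
      have : x = 1 := by
        calc x = c * (c⁻¹ * x * c) * c⁻¹ := by group
          _ = 1 := by rw [h]; group
      simp [this]
    · right
      have hcz : c.1 * z = z * c.1 := Subgroup.mem_centralizer_singleton_iff.mp c.2
      simp only [Subgroup.coe_mul, Subgroup.coe_inv] at h
      calc (x : G) = c.1 * (c.1⁻¹ * x.1 * c.1) * c.1⁻¹ := by group
        _ = z := by rw [h, hcz]; group
  have hTp : IsPGroup 2 Tm := T.isPGroup'.map _
  obtain ⟨S, hS⟩ := hTp.exists_le_sylow
  have heq : Tm = (S : Subgroup G) := by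
    by_contra hne
    have hlt : Tm.subgroupOf (S : Subgroup G) < ⊤ := lt_top_iff_ne_top.mpr fun h =>
      hne (le_antisymm hS (Subgroup.subgroupOf_eq_top.mp h))
    have : Group.IsNilpotent (S : Subgroup G) := S.isPGroup'.isNilpotent
    obtain ⟨⟨g, hg⟩, hgn, hgT⟩ := SetLike.exists_of_lt
      (Group.normalizerCondition_of_isNilpotent (G := (S : Subgroup G)) _ hlt)
    apply hgT
    have hnT : ∀ t ∈ Tm, g * t * g⁻¹ ∈ Tm ∧ g⁻¹ * t * g ∈ Tm := by
      intro t ht
      refine ⟨(Subgroup.mem_normalizer_iff.mp hgn ⟨t, hS ht⟩).mp ht, ?_⟩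
      have := (Subgroup.mem_normalizer_iff.mp (inv_mem hgn) ⟨t, hS ht⟩).mp ht
      simpa [Subgroup.mem_subgroupOf] using this
    have hzT : z ∈ Tm := by
      have hzC : z ∈ C := Subgroup.mem_centralizer_singleton_iff.mpr rfl
      have hN : (Subgroup.zpowers (⟨z, hzC⟩ : C)).Normal := by
        refine ⟨fun n hn g => ?_⟩
        obtain ⟨k, rfl⟩ := Subgroup.mem_zpowers_iff.mp hn
        refine Subgroup.mem_zpowers_iff.mpr ⟨k, ?_⟩
        have hc' : Commute g (⟨z, hzC⟩ : C) := Subtype.ext (Subgroup.mem_centralizer_singleton_iff.mp g.2)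
        rw [(hc'.zpow_right k).eq, mul_inv_cancel_right]
      have hp : IsPGroup 2 (Subgroup.zpowers (⟨z, hzC⟩ : C)) :=
        IsPGroup.of_card (n := 1) (by rw [Nat.card_zpowers, Subgroup.orderOf_mk, hz, pow_one])
      exact ⟨_, hp.le_sylow_of_normal T (Subgroup.mem_zpowers _), rfl⟩
    have hgz : g * z * g⁻¹ = z := by
      rcases hTcent _ (hnT z hzT).1 (fun t ht => by
        obtain ⟨t', -, ht'⟩ := (hnT t ht).2
        have htz : g⁻¹ * t * g * z = z * (g⁻¹ * t * g) := by
          rw [← show (t' : G) = g⁻¹ * t * g from ht']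
          exact Subgroup.mem_centralizer_singleton_iff.mp t'.2
        calc t * (g * z * g⁻¹) = g * (g⁻¹ * t * g * z) * g⁻¹ := by group
          _ = g * (z * (g⁻¹ * t * g)) * g⁻¹ := by rw [htz]
          _ = g * z * g⁻¹ * t := by group) with h | h
      · have h1 : z = 1 := conj_eq_one_iff.mp h
        simp [h1] at hz
      · exact h
    have hgC : g ∈ C := Subgroup.mem_centralizer_singleton_iff.mpr (mul_inv_eq_iff_eq_mul.mp hgz)
    have hSC : IsPGroup 2 ((S : Subgroup G).subgroupOf C) :=
      IsPGroup.comap_of_injective S.isPGroup' _ C.subtype_injective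
    have := T.is_maximal' hSC (fun x hx => hS ⟨x, hx, rfl⟩)
    show g ∈ Tm
    exact ⟨⟨g, hgC⟩, this ▸ hg, rfl⟩
  show ¬ 2 ∣ Tm.index
  rw [heq]
  exact S.not_dvd_index

end Cfsg.Agent.S1717
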