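import Cfsg.Statements.S1743
import Cfsg.Agent.H18.G2Type.Model
import Cfsg.Agent.H18.G2Type.Classes

set_option autoImplicit false
open Cfsg

namespace Cfsg.Agent.S1743

/-- Let G be a finite simple group whose Sylow 2-subgroups are isomorphic to a Sylow 2-subgroup of the Chevalley group of type G₂ over a finite field of odd order, and let S be a Sylow 2-subgroup of G. Then either all involutions of G are conjugate, or S has order 64 and the involutions of G form exactly two conjugacy classes. -/
theorem result {G : Type*} [Group G] [Finite G] [IsSimpleGroup G]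
    {F : Type*} [Field F] [Fintype F] (hF : Odd (Fintype.card F)) (S : Sylow 2 G) (P : Sylow 2 ↥(Cfsg.Lie.chevG2.group F))
    (hS : Nonempty (↥(S : Subgroup G) ≃* ↥(P : Subgroup ↥(Cfsg.Lie.chevG2.group F)))) :
    (∀ x y : G, orderOf x = 2 → orderOf y = 2 → IsConj x y) ∨
      (Nat.card ↥(S : Subgroup G) = 64 ∧ ∃ x y : G, orderOf x = 2 ∧ orderOf y = 2 ∧ ¬ IsConj x y ∧
        ∀ z : G, orderOf z = 2 → IsConj z x ∨ IsConj z y) := by
  haveI : Fact (Nat.Prime 2) := ⟨Nat.prime_two⟩
  obtain ⟨n, ⟨D⟩⟩ := H18.G2Type.exists_frame_of_iso hF (S : Subgroup G) P hS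
  have hcard := H18.G2Type.card_eq S D
  have hna : ¬ IsMulCommutative G := by
    intro hc
    letI : CommGroup G := { mul_comm := fun a b => hc.is_comm.comm a b }
    have hp : (Nat.card G).Prime := IsSimpleGroup.prime_card
    have hd : 2 ^ (2 * n + 2) ∣ Nat.card G := hcard ▸ Subgroup.card_subgroup_dvd_card _
    have h4 : 4 ∣ Nat.card G := (pow_dvd_pow 2 (show 2 ≤ 2 * n + 2 by omega)).trans hd
    have h2 := (Nat.prime_dvd_prime_iff_eq Nat.prime_two hp).1 ((by norm_num : 2 ∣ 4).trans h4)
    rw [← h2] at h4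
    exact absurd h4 (by norm_num)
  have htwo : ∀ w : G, orderOf w = 2 → IsConj w D.zz ∨ IsConj w D.ss := fun w hw =>
    H18.G2Type.two_classes S D hna hw
  by_cases hsz : IsConj D.ss D.zz
  · refine Or.inl fun x y hx hy => ?_
    have h : ∀ w : G, orderOf w = 2 → IsConj w D.zz := fun w hw => (htwo w hw).elim id fun h => h.trans hsz
    exact (h x hx).trans (h y hy).symm
  · refine Or.inr ⟨?_, D.zz, D.ss, D.orderOf_zz, D.orderOf_el _ _ _ (by simp [H18.G2Type.act])
      (by simp), fun h => hsz h.symm, htwo⟩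
    have hn : n = 2 := by
      by_contra h
      exact hsz (H18.G2Type.ss_isConj_zz S D hna (by have := D.two; omega))
    rw [hcard, hn]
    norm_num

end Cfsg.Agent.S1743
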