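import Cfsg.Statements.S1755
import Cfsg.Agent.H68.FStar
import Cfsg.Agent.H68.Cyclic
import Cfsg.Agent.H6.Basic
import Cfsg.Agent.H70.Conj
import Cfsg.Agent.H76.SPE

set_option autoImplicit false
open Cfsg

namespace Cfsg.Agent.S1755


theorem aux {G : Type*} [Group G] [Finite G] (z : G) (hz : orderOf z = 2) (C : Subgroup G)
    (hCz : ∀ c : G, c * z = z * c → c ∈ C) (Q : Subgroup C) [Q.Normal]
    (hQ : Cfsg.IsOfSymplecticType Q) (hzC : z ∈ C) (hzQ : (⟨z, hzC⟩ : C) ∈ Q)
    (hzcen : (⟨z, hzC⟩ : C) ∈ Subgroup.center C)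
    (B : Subgroup Q) (hBc : B.Characteristic) (hBa : IsMulCommutative B) (g : G) :
    ((B.map Q.subtype).map C.subtype).map (MulAut.conj g).toMonoidHom = (B.map Q.subtype).map C.subtype ∨
      ((B.map Q.subtype).map C.subtype).map (MulAut.conj g).toMonoidHom ⊓ (B.map Q.subtype).map C.subtype = ⊥ := by
  haveI := hBc
  set B' := B.map Q.subtype with hB'
  haveI hB'n : B'.Normal := inferInstance
  by_cases hbot : B = ⊥
  · left; simp [hB', hbot]
  let zQ : Q := ⟨⟨z, hzC⟩, hzQ⟩
  have hzQ2 : orderOf zQ = 2 := by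
    rw [← Subgroup.orderOf_coe, ← Subgroup.orderOf_coe]; exact hz
  have hzQc : zQ ∈ Subgroup.center Q := by
    rw [Subgroup.mem_center_iff]
    intro q
    exact Subtype.ext (Subgroup.mem_center_iff.mp hzcen q)
  have hcycZ := hQ.2 (Subgroup.center Q) inferInstance inferInstance
  have hcycB := hQ.2 B hBc hBa
  -- `z` lies in `B`
  have hzB : zQ ∈ B := by
    haveI := hcycZ
    haveI : Nontrivial B := (Subgroup.nontrivial_iff_ne_bot B).mpr hbot
    haveI : B.Normal := inferInstance
    have hpB : IsPGroup 2 B := hQ.1.to_subgroup B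
    have hne : B ⊓ Subgroup.center Q ≠ ⊥ := H6.inf_center_ne_bot hQ.1 hbot
    obtain ⟨w, hw, hw2⟩ : ∃ w ∈ B ⊓ Subgroup.center Q, orderOf w = 2 := by
      obtain ⟨w, hw, hw2, -⟩ := H76.exists_central_orderOf_eq (p := 2) (hQ.1.to_subgroup _) hne
      exact ⟨w, hw, hw2⟩
    have huniq : (⟨w, hw.2⟩ : Subgroup.center Q) = ⟨zQ, hzQc⟩ :=
      H68.involution_unique_of_isCyclic (by rw [Subgroup.orderOf_mk, hw2])
        (by rw [Subgroup.orderOf_mk, hzQ2])
    have he : w = zQ := congrArg Subtype.val huniq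
    exact he ▸ hw.1
  set Bg := B'.map C.subtype with hBg
  have hzBg : z ∈ Bg := ⟨⟨z, hzC⟩, ⟨zQ, hzB, rfl⟩, rfl⟩
  haveI hcycBg : IsCyclic Bg := by
    haveI := hcycB
    exact isCyclic_of_surjective ((B.equivMapOfInjective _ Q.subtype_injective).trans
      (B'.equivMapOfInjective _ C.subtype_injective)).toMonoidHom (MulEquiv.surjective _)
  by_cases hint : Bg.map (MulAut.conj g).toMonoidHom ⊓ Bg = ⊥
  · exact Or.inr hint
  left
  have hp : IsPGroup 2 Bg := ((hQ.1.to_subgroup B).map _).map _
  obtain ⟨w, hw, hw2, -⟩ := H76.exists_central_orderOf_eq (p := 2) (hp.to_le inf_le_right) hint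
  have hwz : w = z := congrArg Subtype.val (H68.involution_unique_of_isCyclic
    (x := (⟨w, hw.2⟩ : Bg)) (y := ⟨z, hzBg⟩) (by rw [Subgroup.orderOf_mk, hw2]) (by rw [Subgroup.orderOf_mk, hz]))
  subst hwz
  have hg' : g⁻¹ * w * g ∈ Bg := H70.mem_cj.mp hw.1
  have hgz : g⁻¹ * w * g = w := by
    have ho : orderOf (g⁻¹ * w * g) = 2 := by
      have := H76.orderOf_conj g⁻¹ w
      rwa [inv_inv, hw2] at this
    exact congrArg Subtype.val (H68.involution_unique_of_isCyclic
      (x := (⟨_, hg'⟩ : Bg)) (y := ⟨w, hzBg⟩) (by rw [Subgroup.orderOf_mk, ho]) (by rw [Subgroup.orderOf_mk, hw2]))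
  have hgC : g ∈ C := by
    apply hCz
    calc g * w = g * (g⁻¹ * w * g) := by rw [hgz]
      _ = w * g := by group
  show H70.cj g Bg = Bg
  rw [H70.cj_eq_self_iff]
  exact Subgroup.le_normalizer_map C.subtype ⟨⟨g, hgC⟩, by rw [Subgroup.normalizer_eq_top]; trivial, rfl⟩


/-- Let G be a finite group and let z be an involution of G such that Q, the generalized Fitting subgroup of the centralizer C of z, is a 2-group of symplectic type (every characteristic abelian subgroup of Q is cyclic). Let B be a characteristic abelian subgroup of Q, viewed as a subgroup of G. Then for every g in G, the conjugate of B by g either equals B or meets B trivially. -/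
theorem result {G : Type*} [Group G] [Finite G] (z : G) (hz : orderOf z = 2) (hQ : Cfsg.IsOfSymplecticType ↥(Cfsg.generalizedFittingSubgroup ↥(Subgroup.centralizer ({z} : Set G))))
    (B : Subgroup ↥(Cfsg.generalizedFittingSubgroup ↥(Subgroup.centralizer ({z} : Set G)))) (hBc : B.Characteristic) (hBa : IsMulCommutative ↥B) (g : G) :
    ((B.map (Cfsg.generalizedFittingSubgroup ↥(Subgroup.centralizer ({z} : Set G))).subtype).map (Subgroup.centralizer ({z} : Set G)).subtype).map (MulAut.conj g).toMonoidHom =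
        (B.map (Cfsg.generalizedFittingSubgroup ↥(Subgroup.centralizer ({z} : Set G))).subtype).map (Subgroup.centralizer ({z} : Set G)).subtype ∨
      ((B.map (Cfsg.generalizedFittingSubgroup ↥(Subgroup.centralizer ({z} : Set G))).subtype).map (Subgroup.centralizer ({z} : Set G)).subtype).map (MulAut.conj g).toMonoidHom ⊓
        (B.map (Cfsg.generalizedFittingSubgroup ↥(Subgroup.centralizer ({z} : Set G))).subtype).map (Subgroup.centralizer ({z} : Set G)).subtype = ⊥ := by
  haveI := H68.gfs_normal ↥(Subgroup.centralizer ({z} : Set G))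
  have hzC : z ∈ Subgroup.centralizer ({z} : Set G) := Subgroup.mem_centralizer_singleton_iff.mpr rfl
  have hzcen : (⟨z, hzC⟩ : Subgroup.centralizer ({z} : Set G)) ∈ Subgroup.center _ := by
    rw [Subgroup.mem_center_iff]
    intro c
    exact Subtype.ext (Subgroup.mem_centralizer_singleton_iff.mp c.2)
  exact aux z hz _ (fun c hc => Subgroup.mem_centralizer_singleton_iff.mpr hc) _ hQ hzC
    (H68.mem_gfs_of_mem_center hzcen) hzcen B hBc hBa g

end Cfsg.Agent.S1755
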