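import Cfsg.Statements.S1756
import Cfsg.Agent.H68.ExtraComm

set_option autoImplicit false
open Cfsg

namespace Cfsg.Agent.S1756

/-- Let Q be an extraspecial 2-subgroup of the finite group G (special with centre of order 2) and t an involution of G normalizing Q such that the centralizer of t in Q has index at most 2 in Q. Then t lies in the product of Q with the centralizer of Q. -/
theorem result {G : Type*} [Group G] [Finite G] (Q : Subgroup G)
    (hQ : Cfsg.IsExtraspecial 2 ↥Q) (t : G) (ht : orderOf t = 2) (htN : t ∈ Subgroup.normalizer (Q : Set G))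
    (hi : (Subgroup.centralizer ({t} : Set G) ⊓ Q).relIndex Q ≤ 2) :
    t ∈ Q ⊔ Subgroup.centralizer (Q : Set G) := by
  haveI : Fact (Nat.Prime 2) := ⟨Nat.prime_two⟩
  set H := Subgroup.centralizer ({t} : Set G) ⊓ Q with hH
  have htQ : ∀ q ∈ Q, t * q * t⁻¹ ∈ Q := fun q hq => (Subgroup.mem_normalizer_iff.1 htN q).1 hq
  have htt : t * t = 1 := by rw [← sq, ← ht]; exact pow_orderOf_eq_one t
  have hHt : ∀ h ∈ H, t * h = h * t := fun h hh =>
    (Subgroup.mem_centralizer_singleton_iff.1 hh.1).symm
  have h0 : H.relIndex Q ≠ 0 := Subgroup.index_ne_zero_of_finite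
  rcases (show H.relIndex Q = 1 ∨ H.relIndex Q = 2 by omega) with h1 | h2
  · refine Subgroup.mem_sup_right (Subgroup.mem_centralizer_iff.2 fun q hq => ?_)
    exact (hHt q (Subgroup.relIndex_eq_one.1 h1 hq)).symm
  · refine H68.mem_sup_centralizer_of_comm Q hQ t ?_
    exact H68.comm_central_of_index_two Q H inf_le_right h2 t htt hHt
      (fun h hh hcm => ⟨Subgroup.mem_centralizer_singleton_iff.2 hcm.symm, hh⟩) htQ

end Cfsg.Agent.S1756
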