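import Cfsg.Statements.S1774
import Cfsg.Agent.H68.SymplecticFour

set_option autoImplicit false
open Cfsg
open scoped commutatorElement

namespace Cfsg.Agent.S1774

/-- Let G be a finite group and let z be an involution of G such that Q, the generalized Fitting subgroup of the centralizer C of z, is a 2-group of symplectic type (every characteristic abelian subgroup of Q is cyclic); suppose every element of Q has order dividing 4. Let g ∈ G with z' = g z g⁻¹ ≠ z and z' ∈ Q. Then z lies in the conjugate g Q g⁻¹, and the subgroup X generated by Q and g Q g⁻¹ induces every automorphism of the four-group generated by z and z': for any two distinct non-identity elements u, v of that four-group there is x ∈ X with x z x⁻¹ = u and x z' x⁻¹ = v. -/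
theorem result {G : Type*} [Group G] [Finite G] (z : G) (hz : orderOf z = 2) (hQ : Cfsg.IsOfSymplecticType ↥(Cfsg.generalizedFittingSubgroup ↥(Subgroup.centralizer ({z} : Set G))))
    (h4 : ∀ q ∈ (Cfsg.generalizedFittingSubgroup ↥(Subgroup.centralizer ({z} : Set G))).map (Subgroup.centralizer ({z} : Set G)).subtype, q ^ 4 = 1) (g : G) (hne : g * z * g⁻¹ ≠ z) (hin : g * z * g⁻¹ ∈ (Cfsg.generalizedFittingSubgroup ↥(Subgroup.centralizer ({z} : Set G))).map (Subgroup.centralizer ({z} : Set G)).subtype) :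
    z ∈ ((Cfsg.generalizedFittingSubgroup ↥(Subgroup.centralizer ({z} : Set G))).map (Subgroup.centralizer ({z} : Set G)).subtype).map (MulAut.conj g).toMonoidHom ∧
      ∀ u ∈ Subgroup.closure ({z, g * z * g⁻¹} : Set G), ∀ v ∈ Subgroup.closure ({z, g * z * g⁻¹} : Set G),
        u ≠ 1 → v ≠ 1 → u ≠ v →
          ∃ x ∈ (Cfsg.generalizedFittingSubgroup ↥(Subgroup.centralizer ({z} : Set G))).map (Subgroup.centralizer ({z} : Set G)).subtype ⊔ ((Cfsg.generalizedFittingSubgroup ↥(Subgroup.centralizer ({z} : Set G))).map (Subgroup.centralizer ({z} : Set G)).subtype).map (MulAut.conj g).toMonoidHom, x * z * x⁻¹ = u ∧ x * (g * z * g⁻¹) * x⁻¹ = v := by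
  set C := Subgroup.centralizer ({z} : Set G) with hC
  set F := Cfsg.generalizedFittingSubgroup C with hF
  set Q := F.map C.subtype with hQdef
  haveI : Fact (Nat.Prime 2) := ⟨Nat.prime_two⟩
  haveI : F.Normal := H68.gfs_normal C
  have hzC : z ∈ C := Subgroup.mem_centralizer_singleton_iff.2 rfl
  have hzcen : (⟨z, hzC⟩ : C) ∈ Subgroup.center C := Subgroup.mem_center_iff.2 fun g =>
    Subtype.ext (Subgroup.mem_centralizer_singleton_iff.1 g.2)
  let zF : F := ⟨⟨z, hzC⟩, H68.mem_gfs_of_mem_center hzcen⟩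
  have hzF2 : orderOf zF = 2 := by
    rw [← Subgroup.orderOf_coe, ← Subgroup.orderOf_coe]; exact hz
  have hzFc : zF ∈ Subgroup.center F := Subgroup.mem_center_iff.2 fun q =>
    Subtype.ext (Subgroup.mem_center_iff.1 hzcen q)
  have h4' : ∀ x : F, x ^ 4 = 1 := fun x => by
    have := h4 ((x : C) : G) ⟨x, x.2, rfl⟩
    exact Subtype.ext (Subtype.ext (by simpa using this))
  have hΦ := H68.frattini_le_two hQ h4' hzF2 hzFc
  have hsqF : ∀ x : F, x ^ 2 = 1 ∨ x ^ 2 = zF := fun x =>
    hΦ _ (H6.pow_prime_mem_frattini hQ.1 x)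
  have hcomF : ∀ x y : F, ⁅x, y⁆ = 1 ∨ ⁅x, y⁆ = zF := fun x y =>
    hΦ _ (H6.commutator_le_frattini hQ.1
      (Subgroup.commutator_mem_commutator (Subgroup.mem_top x) (Subgroup.mem_top y)))
  haveI : IsCyclic (Subgroup.center F) := hQ.2 (Subgroup.center F) inferInstance inferInstance
  have hQmem : ∀ q : G, q ∈ Q → ∃ x : F, ((x : C) : G) = q := by
    rintro _ ⟨x, hx, rfl⟩; exact ⟨⟨x, hx⟩, rfl⟩
  have hmemQ : ∀ x : F, ((x : C) : G) ∈ Q := fun x => ⟨x, x.2, rfl⟩
  have key : H68.SympCentre z Q := by
    refine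
      { two := ?_, ne := ?_, mem := ?_, le := ?_, conj := ?_, cent := ?_, sq := ?_, comm := ?_,
        centre_inv := ?_, sep := ?_, small := ?_ }
    · rw [← sq, ← hz]; exact pow_orderOf_eq_one z
    · intro h; rw [h, orderOf_one] at hz; omega
    · exact hmemQ zF
    · intro q hq
      exact Subgroup.mem_centralizer_singleton_iff.1 (Subgroup.map_subtype_le F hq)
    · intro c hc q hq
      obtain ⟨x, rfl⟩ := hQmem q hq
      have hcC : c ∈ C := Subgroup.mem_centralizer_singleton_iff.2 hc
      exact ⟨⟨c, hcC⟩ * x * ⟨c, hcC⟩⁻¹, Subgroup.Normal.conj_mem inferInstance _ x.2 _, rfl⟩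
    · intro c hc hcq
      have hcC : c ∈ C := Subgroup.mem_centralizer_singleton_iff.2 hc
      exact ⟨⟨c, hcC⟩, Cfsg.Comp.centralizer_fStar_le (Subgroup.mem_centralizer_iff.2 fun x hx =>
        Subtype.ext (hcq (x : G) ⟨x, hx, rfl⟩).symm), rfl⟩
    · intro q hq
      obtain ⟨x, rfl⟩ := hQmem q hq
      refine (hsqF x).imp (fun h => ?_) (fun h => ?_) <;>
      · have := congrArg (fun y : F => ((y : C) : G)) h
        simpa [sq] using this
    · intro a ha b hb
      obtain ⟨x, rfl⟩ := hQmem a ha
      obtain ⟨y, rfl⟩ := hQmem b hb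
      refine (hcomF x y).imp (fun h => ?_) (fun h => ?_) <;>
      · have := congrArg (fun w : F => ((w : C) : G)) h
        simpa [commutatorElement_def] using this
    · intro q hq hr hqq
      obtain ⟨x, rfl⟩ := hQmem q hq
      have hxc : x ∈ Subgroup.center F := Subgroup.mem_center_iff.2 fun y =>
        Subtype.ext (Subtype.ext (hr _ (hmemQ y)))
      have hxx : x * x = 1 := Subtype.ext (Subtype.ext hqq)
      exact (H68.sq_mem_zpowers_of_cyclic hzF2 hzFc hxc hxx).imp
        (fun h => by rw [h]; rfl) (fun h => by rw [h])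
    · intro D hDQ hDc q hq hqD
      obtain ⟨x, rfl⟩ := hQmem q hq
      let ι : F →* G := C.subtype.comp F.subtype
      have hsq2 : ∀ y : F, y ^ 2 ∈ Subgroup.center F := fun y => by
        rcases hsqF y with h | h <;> rw [h]
        · exact one_mem _
        · exact hzFc
      obtain ⟨e, he1, he2⟩ := H68.exists_separating_symplectic hzF2 hzFc hcomF hsq2 (D.comap ι)
        (fun c hc => hDc _ (hmemQ c) fun r hr => by
          obtain ⟨y, rfl⟩ := hQmem r hr
          exact congrArg (fun w : F => ((w : C) : G)) (Subgroup.mem_center_iff.1 hc y))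
        (x := x) hqD
      refine ⟨_, hmemQ e, fun d hd => ?_, fun h => he2 (Subtype.ext (Subtype.ext h))⟩
      obtain ⟨y, rfl⟩ := hQmem d (hDQ hd)
      exact congrArg (fun w : F => ((w : C) : G)) (he1 y hd).eq
    · intro hodd c hc
      have hC2 : IsPGroup 2 C := by
        intro x
        obtain ⟨k, m, hm, hkm⟩ :=
          Nat.exists_eq_pow_mul_and_not_dvd (orderOf_pos x).ne' 2 (by norm_num)
        refine ⟨k, ?_⟩
        have ho : orderOf (x ^ 2 ^ k) = m := by
          rw [orderOf_pow_of_dvd (by positivity) ⟨m, hkm⟩, hkm,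
            Nat.mul_div_cancel_left _ (by positivity)]
        have h1 := hodd ((x ^ 2 ^ k : C) : G)
          (Subgroup.mem_centralizer_singleton_iff.1 (x ^ 2 ^ k).2)
          (by rw [Subgroup.orderOf_coe, ho]; exact Nat.odd_iff.2 (by omega))
        exact Subtype.ext h1
      have hFtop : F = ⊤ := by
        rw [eq_top_iff]
        exact (Cfsg.Comp.le_fittingSubgroup (N := ⊤) inferInstance
          (hC2.to_subgroup ⊤).isNilpotent).trans (H68.fittingSubgroup_le_gfs C)
      exact ⟨⟨c, Subgroup.mem_centralizer_singleton_iff.2 hc⟩, by rw [hFtop]; trivial, rfl⟩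
  exact key.main (key.conjBy g) hne hin

end Cfsg.Agent.S1774
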