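import Cfsg.Statements.S1775
import Cfsg.Agent.H68.CompModCore
import Cfsg.Agent.H9.ExtLayer
set_option autoImplicit false
open Cfsg

namespace Cfsg.Agent.S1775

theorem main {G : Type*} [Group G] [Finite G] (x y : G) (hx : orderOf x = 2) (hxy : x * y = y * x)
    (hB : Cfsg.HasBProperty (↥(Subgroup.centralizer ({y} : Set G)) ⧸
      Cfsg.oddCore ↥(Subgroup.centralizer ({y} : Set G))))
    (Lx : Subgroup G) (hLx : Lx ≤ Subgroup.centralizer ({x} : Set G))
    (hLn : Subgroup.centralizer ({x} : Set G) ≤ Subgroup.normalizer (Lx : Set G))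
    (J : Subgroup ↥(Lx ⊓ Subgroup.centralizer ({y} : Set G))) (hJ : Cfsg.IsPComponent 2 J) :
    Cfsg.IsComponent
        ((((J.map (Subgroup.subtype _)).subgroupOf (Subgroup.centralizer ({y} : Set G))).map (QuotientGroup.mk' (Cfsg.oddCore ↥(Subgroup.centralizer ({y} : Set G))))).subgroupOf
          (Subgroup.centralizer ({(QuotientGroup.mk' (Cfsg.oddCore ↥(Subgroup.centralizer ({y} : Set G))) ⟨x, Subgroup.mem_centralizer_singleton_iff.mpr hxy⟩ : ↥(Subgroup.centralizer ({y} : Set G)) ⧸ Cfsg.oddCore ↥(Subgroup.centralizer ({y} : Set G)))} : Set _))) ∧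
      ∀ E : Subgroup G, E ≤ Subgroup.centralizer ({x} : Set G) ⊓ Subgroup.centralizer ({y} : Set G) → Odd (Nat.card ↥E) →
        (∀ j ∈ J.map (Subgroup.subtype _), ∀ e ∈ E, j * e * j⁻¹ ∈ E) →
          ⁅J.map (Subgroup.subtype _), E⁆ ≤ (Cfsg.oddCore ↥(Subgroup.centralizer ({y} : Set G))).map (Subgroup.centralizer ({y} : Set G)).subtype := by
  haveI : Fact (Nat.Prime 2) := ⟨Nat.prime_two⟩
  let a : ↥(Subgroup.centralizer ({y} : Set G)) := ⟨x, Subgroup.mem_centralizer_singleton_iff.mpr hxy⟩
  have ha : orderOf a = 2 := by rw [← Subgroup.orderOf_coe]; exact hx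
  let ψ : ↥(Lx ⊓ Subgroup.centralizer ({y} : Set G)) →*
      ↥(Subgroup.centralizer ({a} : Set ↥(Subgroup.centralizer ({y} : Set G)))) :=
    (Subgroup.inclusion inf_le_right).codRestrict _ fun n => by
      rw [Subgroup.mem_centralizer_singleton_iff]
      exact Subtype.ext (Subgroup.mem_centralizer_singleton_iff.mp (hLx n.2.1))
  have hψ : Function.Injective ψ := fun n n' h =>
    Subtype.ext (congrArg (fun u : ↥(Subgroup.centralizer ({a} : Set ↥(Subgroup.centralizer ({y} : Set G)))) =>
      ((u : ↥(Subgroup.centralizer ({y} : Set G))) : G)) h)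
  have hrange : ψ.range.Normal := by
    refine ⟨?_⟩
    rintro _ ⟨n, rfl⟩ d
    have hd : ((d : ↥(Subgroup.centralizer ({y} : Set G))) : G) ∈ Subgroup.centralizer ({x} : Set G) :=
      Subgroup.mem_centralizer_singleton_iff.mpr
        (congrArg Subtype.val (Subgroup.mem_centralizer_singleton_iff.mp d.2))
    exact ⟨⟨_, Cfsg.Comp.conj_mem_of_le_normalizer hLn hd n.2.1,
      Subgroup.mul_mem _ (Subgroup.mul_mem _ (d : ↥(Subgroup.centralizer ({y} : Set G))).2 n.2.2)
        (Subgroup.inv_mem _ (d : ↥(Subgroup.centralizer ({y} : Set G))).2)⟩, rfl⟩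
  obtain ⟨hJs, hJg⟩ := H71.isPComponent_iff.1 hJ
  have hJ' : Cfsg.IsPComponent 2 (J.map ψ) := by
    refine H71.isPComponent_iff.2 ⟨?_, hJg.of_equiv (Subgroup.equivMapOfInjective J ψ hψ)⟩
    have h1 := (hJs.map ψ.rangeRestrict_surjective).trans' hrange.isSubnormal
    rwa [Subgroup.map_map, MonoidHom.subtype_comp_rangeRestrict] at h1
  obtain ⟨h1, h2⟩ := H68.component_mod_core a ha hB (J.map ψ) hJ'
  have hJY : J.map (Subgroup.subtype _) ≤ Subgroup.centralizer ({y} : Set G) :=
    (Subgroup.map_subtype_le J).trans inf_le_right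
  have hJe : (J.map ψ).map (Subgroup.centralizer ({a} : Set ↥(Subgroup.centralizer ({y} : Set G)))).subtype
      = (J.map (Subgroup.subtype _)).subgroupOf (Subgroup.centralizer ({y} : Set G)) := by
    apply Subgroup.map_injective (f := (Subgroup.centralizer ({y} : Set G)).subtype) Subtype.coe_injective
    rw [Subgroup.subgroupOf_map_subtype, Subgroup.map_map, Subgroup.map_map, inf_eq_left.mpr hJY]
    rfl
  rw [hJe] at h1
  refine ⟨h1, fun E hE hEo hinv => ?_⟩
  have hEY : E ≤ Subgroup.centralizer ({y} : Set G) := hE.trans inf_le_right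
  have h3 := h2 (E.subgroupOf (Subgroup.centralizer ({y} : Set G))) (fun e he => by
      rw [Subgroup.mem_centralizer_singleton_iff]
      exact Subtype.ext (Subgroup.mem_centralizer_singleton_iff.mp (hE he).1))
    (by rw [Cfsg.Comp.card_subgroupOf hEY]; exact hEo)
    (by
      intro j hj e he
      rw [hJe] at hj
      exact hinv _ hj _ he)
  rw [hJe] at h3
  have h4 := Subgroup.map_mono (f := (Subgroup.centralizer ({y} : Set G)).subtype) h3
  rwa [Subgroup.map_commutator, Subgroup.subgroupOf_map_subtype, Subgroup.subgroupOf_map_subtype,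
    inf_eq_left.mpr hJY, inf_eq_left.mpr hEY] at h4

/-- Let G be a finite group whose generalized Fitting subgroup is a non-abelian simple group and in which every proper section (every quotient H/N of a proper subgroup H, or of G by a nontrivial normal subgroup) has the B-property. Let x, y be commuting involutions, let D be the intersection of the 2-layer of C_G(x) with C_G(y), and let J be a 2-component of D. Write Q for the quotient of C_G(y) by its largest normal odd-order subgroup. Then (i) the image of J in Q is a component of the centralizer in Q of the image of x; and (ii) for every J-invariant subgroup E of odd order of C_G(x) ∩ C_G(y), the commutator subgroup [J, E] lies in the largest normal odd-order subgroup of C_G(y). -/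
theorem result {G : Type*} [Group G] [Finite G]
    (hF : IsSimpleGroup ↥(Cfsg.generalizedFittingSubgroup G)) (hF' : ¬ IsMulCommutative ↥(Cfsg.generalizedFittingSubgroup G))
    (hsec : ∀ (H : Subgroup G) (N : Subgroup ↥H) [N.Normal], (H ≠ ⊤ ∨ N ≠ ⊥) → Cfsg.HasBProperty (↥H ⧸ N))
    (x y : G) (hx : orderOf x = 2) (hy : orderOf y = 2) (hxy : x * y = y * x)
    (J : Subgroup ↥((Cfsg.pLayer 2 ↥(Subgroup.centralizer ({x} : Set G))).map (Subgroup.centralizer ({x} : Set G)).subtype ⊓ Subgroup.centralizer ({y} : Set G)))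
    (hJ : Cfsg.IsPComponent 2 J) :
    Cfsg.IsComponent
        ((((J.map (Subgroup.subtype _)).subgroupOf (Subgroup.centralizer ({y} : Set G))).map (QuotientGroup.mk' (Cfsg.oddCore ↥(Subgroup.centralizer ({y} : Set G))))).subgroupOf
          (Subgroup.centralizer ({(QuotientGroup.mk' (Cfsg.oddCore ↥(Subgroup.centralizer ({y} : Set G))) ⟨x, Subgroup.mem_centralizer_singleton_iff.mpr hxy⟩ : ↥(Subgroup.centralizer ({y} : Set G)) ⧸ Cfsg.oddCore ↥(Subgroup.centralizer ({y} : Set G)))} : Set _))) ∧
      ∀ E : Subgroup G, E ≤ Subgroup.centralizer ({x} : Set G) ⊓ Subgroup.centralizer ({y} : Set G) → Odd (Nat.card ↥E) →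
        (∀ j ∈ J.map (Subgroup.subtype _), ∀ e ∈ E, j * e * j⁻¹ ∈ E) →
          ⁅J.map (Subgroup.subtype _), E⁆ ≤ (Cfsg.oddCore ↥(Subgroup.centralizer ({y} : Set G))).map (Subgroup.centralizer ({y} : Set G)).subtype := by
  have hYtop : Subgroup.centralizer ({y} : Set G) ≠ ⊤ := by
    intro h
    have hy' : y ∈ Subgroup.center G := Subgroup.mem_center_iff.mpr fun g =>
      Subgroup.mem_centralizer_singleton_iff.mp
        (show g ∈ Subgroup.centralizer ({y} : Set G) from h ▸ Subgroup.mem_top g)
    have hyc : y ∈ Subgroup.centralizer (Cfsg.generalizedFittingSubgroup G : Set G) :=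
      Subgroup.center_le_centralizer _ hy'
    have hyF := Cfsg.Comp.centralizer_fStar_le hyc
    have hz : (⟨y, hyF⟩ : ↥(Cfsg.generalizedFittingSubgroup G)) ∈ Subgroup.center _ :=
      Subgroup.mem_center_iff.mpr fun g => Subtype.ext (Subgroup.mem_center_iff.mp hy' g)
    haveI := hF
    rcases (inferInstance : (Subgroup.center ↥(Cfsg.generalizedFittingSubgroup G)).Normal).eq_bot_or_eq_top
      with h | h
    · rw [h, Subgroup.mem_bot] at hz
      have : y = 1 := congrArg Subtype.val hz
      rw [this, orderOf_one] at hy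
      omega
    · exact hF' ⟨⟨fun a b => Subgroup.mem_center_iff.mp (show b ∈ Subgroup.center _ by
        rw [h]; exact Subgroup.mem_top b) a⟩⟩
  refine main x y hx hxy (hsec _ _ (Or.inl hYtop)) _ (Subgroup.map_subtype_le _) ?_ J hJ
  haveI : Fact (Nat.Prime 2) := ⟨Nat.prime_two⟩
  have hN := Cfsg.Agent.H9.pLayer_normal (G := ↥(Subgroup.centralizer ({x} : Set G))) 2
  rw [Subgroup.le_normalizer_iff]
  rintro n hn _ ⟨m, hm, rfl⟩
  exact ⟨⟨n, hn⟩ * m * ⟨n, hn⟩⁻¹, hN.conj_mem m hm _, rfl⟩

end Cfsg.Agent.S1775
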