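import Cfsg.Statements.S1781
import Cfsg.Agent.H68.Basic
import Cfsg.Agent.H68.Involution

set_option autoImplicit false
open Cfsg

namespace Cfsg.Agent.S1781

open scoped commutatorElement

/-- Let A be an abelian 2-subgroup of the finite group G such that every conjugate of A equals A or meets A trivially, and let g ∈ G with g A g⁻¹ ≠ A. Then either the subgroup of those elements of A that normalize g A g⁻¹ is an elementary abelian 2-group, or A and g A g⁻¹ commute elementwise. -/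
theorem result {G : Type*} [Group G] [Finite G] (A : Subgroup G)
    (hA2 : IsPGroup 2 ↥A) (hAa : IsMulCommutative ↥A)
    (hti : ∀ h : G, A.map (MulAut.conj h).toMonoidHom = A ∨ A.map (MulAut.conj h).toMonoidHom ⊓ A = ⊥)
    (g : G) (hg : A.map (MulAut.conj g).toMonoidHom ≠ A) :
    Cfsg.IsElementaryAbelian 2 (A ⊓ Subgroup.normalizer ((A.map (MulAut.conj g).toMonoidHom : Subgroup G) : Set G)) ∨
      ⁅A, A.map (MulAut.conj g).toMonoidHom⁆ = ⊥ := by
  haveI := hAa
  set A' : Subgroup G := A.map (MulAut.conj g).toMonoidHom with hA'def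
  set X : Subgroup G := A ⊓ Subgroup.normalizer (A' : Set G) with hX
  have hdisj : A ⊓ A' = ⊥ := by
    rw [inf_comm]; exact (hti g).resolve_left hg
  by_cases hel : ∀ x ∈ X, x ^ 2 = 1
  · exact Or.inl ⟨⟨⟨fun a b => Subtype.ext (congrArg Subtype.val (mul_comm' (⟨a, a.2.1⟩ : A) ⟨b, b.2.1⟩) :)⟩⟩, hel⟩
  push_neg at hel
  obtain ⟨x, hxX, hx2⟩ := hel
  right
  have hAnorm : ∀ y ∈ A, y ≠ 1 → ∀ c : G, c * y = y * c → c ∈ Subgroup.normalizer (A : Set G) := by
    intro y hy hy1 c hc
    rw [← H70.cj_eq_self_iff]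
    refine (hti c).resolve_right (fun h => hy1 ?_)
    have : y ∈ A.map (MulAut.conj c).toMonoidHom ⊓ A := by
      refine ⟨⟨y, hy, ?_⟩, hy⟩
      show c * y * c⁻¹ = y
      rw [hc, mul_inv_cancel_right]
    rwa [h, Subgroup.mem_bot] at this
  have hfix : ∀ y ∈ X, y ≠ 1 → ∀ c ∈ A', c * y = y * c → ∀ w ∈ X, c * w = w * c := by
    intro y hy hy1 c hc hcy w hw
    have hcN := hAnorm y hy.1 hy1 c hcy
    have h1 : c * w * c⁻¹ * w⁻¹ ∈ A ⊓ A' := by
      refine ⟨A.mul_mem ((Subgroup.mem_normalizer_iff.mp hcN w).mp hw.1) (A.inv_mem hw.1), ?_⟩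
      have hwc : w * c⁻¹ * w⁻¹ ∈ A' := (Subgroup.mem_normalizer_iff.mp hw.2 _).mp (A'.inv_mem hc)
      simpa [mul_assoc] using mul_mem hc hwc
    rw [hdisj, Subgroup.mem_bot, ← commutatorElement_def] at h1
    exact commutatorElement_eq_one_iff_mul_comm.mp h1
  have hA'2 : IsPGroup 2 A' := hA2.map _
  haveI : IsMulCommutative A' := by rw [hA'def]; infer_instance
  let t : MulAut A' := Subgroup.normalizerMonoidHom A' ⟨x, hxX.2⟩
  have ht : ∀ a : A', ((t a : A') : G) = x * a * x⁻¹ := fun a => rfl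
  have htc : ∀ a : A', t a = a → (a : G) * x = x * a := by
    intro a h
    have h2 := congrArg (fun b : A' => (b : G) * x) h
    simpa [ht, mul_assoc] using h2.symm
  have htpow : ∃ k : ℕ, orderOf t = 2 ^ k := by
    obtain ⟨k, hk⟩ := IsPGroup.iff_orderOf.mp hA2 ⟨x, hxX.1⟩
    rw [Subgroup.orderOf_mk] at hk
    obtain ⟨j, -, hj⟩ := (Nat.dvd_prime_pow Nat.prime_two).mp (show orderOf t ∣ 2 ^ k by
      rw [← hk, ← Subgroup.orderOf_mk x hxX.2]
      exact orderOf_map_dvd _ _)
    exact ⟨j, hj⟩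
  have hC : ∀ a : A', t (t a) = a → t a = a := by
    intro a h
    have h2 : (a : G) * x ^ 2 = x ^ 2 * a := by
      have h3 := congrArg (fun b : A' => (b : G) * x ^ 2) h
      simpa [ht, mul_assoc, pow_two] using h3.symm
    have := hfix (x ^ 2) (pow_mem hxX 2) hx2 a a.2 h2 x hxX
    apply Subtype.ext
    rw [ht, ← this, mul_inv_cancel_right]
  have hall := @H68.fixed_of_fixed_sq A' ({ (inferInstance : Group A') with mul_comm := mul_comm' }) _ hA'2 t htpow hC
  have hNA : A' ≤ Subgroup.normalizer (A : Set G) := fun c hc =>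
    hAnorm x hxX.1 (fun h => hx2 (by rw [h, one_pow])) c (htc ⟨c, hc⟩ (hall _))
  exact H68.ti_normalize_commute A A' (fun h _ => H68.ti_cj hti g h) (H70.card_cj g A).ge hdisj hNA

end Cfsg.Agent.S1781
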