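import Cfsg.Statements.S1783
import Cfsg.Agent.H68.Quadratic
import Cfsg.Agent.H68.TIFamily

set_option autoImplicit false
open Cfsg

namespace Cfsg.Agent.S1783

/-- Let X be a finite group whose generalized Fitting subgroup equals its largest normal 2-subgroup Q, and let A be an abelian 2-subgroup of X such that every conjugate of A equals A or meets A trivially. Let B be the subgroup generated by the squares of the elements of A. Then B lies in Q, and if B is not an elementary abelian 2-group then the normal closure of B in X is commutative. -/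
theorem result {X : Type*} [Group X] [Finite X]
    (hX : Cfsg.generalizedFittingSubgroup X = Cfsg.pCore 2 X) (A : Subgroup X) (hA2 : IsPGroup 2 ↥A) (hAa : IsMulCommutative ↥A)
    (hti : ∀ h : X, A.map (MulAut.conj h).toMonoidHom = A ∨ A.map (MulAut.conj h).toMonoidHom ⊓ A = ⊥) :
    Subgroup.closure ((fun a : X => a ^ 2) '' (A : Set X)) ≤ Cfsg.pCore 2 X ∧
      (¬ Cfsg.IsElementaryAbelian 2 (Subgroup.closure ((fun a : X => a ^ 2) '' (A : Set X))) →
        IsMulCommutative ↥(Subgroup.normalClosure ((fun a : X => a ^ 2) '' (A : Set X)))) := by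
  haveI : Fact (Nat.Prime 2) := ⟨Nat.prime_two⟩
  haveI := hAa
  set Q := Cfsg.pCore 2 X with hQdef
  haveI hQn : Q.Normal := Cfsg.pCore_normal 2 X
  have hQp : IsPGroup 2 Q := Cfsg.Comp.pCore_isPGroup 2
  have hC : Subgroup.centralizer (Q : Set X) ≤ Q :=
    H68.centralizer_pCore_le_of_gfs (hX ▸ hQp)
  have hcomm : ∀ a ∈ A, ∀ b ∈ A, a * b = b * a := fun a ha b hb =>
    congrArg Subtype.val (mul_comm' (⟨a, ha⟩ : A) ⟨b, hb⟩)
  set sqs := (fun a : X => a ^ 2) '' (A : Set X) with hsqs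
  have hsqA : sqs ⊆ (A : Set X) := by rintro _ ⟨a, ha, rfl⟩; exact A.pow_mem ha 2
  have hpart1 : Subgroup.closure sqs ≤ Q := by
    rw [Subgroup.closure_le]
    rintro _ ⟨a, ha, rfl⟩
    by_cases hel : ∀ x ∈ A, x ^ 2 = 1
    · show a ^ 2 ∈ Q
      rw [hel a ha]; exact Q.one_mem
    push Not at hel
    obtain ⟨x₀, hx₀, hx₀2⟩ := hel
    set P := Q ⊔ A with hP
    have hPp : IsPGroup 2 P := hQp.to_sup_of_normal_left hA2
    refine H68.mem_pCore_of_trivial_mod_frattini hC (fun q hq => ?_)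
    have hqa : ∀ u ∈ A, ∀ v ∈ A, u * (q * v * q⁻¹) = (q * v * q⁻¹) * u := by
      intro u hu v hv
      by_cases he : H70.cj q A = A
      · exact hcomm u hu _ (he ▸ H68.mem_cj_of hv)
      refine H68.commute_of_commutator_eq_bot ?_ hu (H68.mem_cj_of (g := q) hv)
      refine H68.ti_family_commute (Nat.card P) P le_rfl hPp {B | ∃ s ∈ P, B = H70.cj s A} ?_ ?_ ?_ ?_ ?_
        A ⟨1, P.one_mem, (H70.cj_one A).symm⟩ _ ⟨q, Subgroup.mem_sup_left hq, rfl⟩ (Ne.symm he)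
      · rintro _ ⟨s, hs, rfl⟩
        exact le_of_le_of_eq (H70.cj_mono s le_sup_right) (H70.cj_of_mem hs)
      · rintro s hs _ ⟨r, hr, rfl⟩
        exact ⟨s * r, P.mul_mem hs hr, H70.cj_cj s r A⟩
      · rintro _ ⟨s, -, rfl⟩
        refine ⟨_, H68.mem_cj_of hx₀, ?_⟩
        rw [conj_pow]
        exact fun h => hx₀2 (conj_eq_one_iff.mp h)
      · rintro _ ⟨s, -, rfl⟩ _ ⟨r, -, rfl⟩
        rw [H70.card_cj, H70.card_cj]
      · rintro _ ⟨s, -, rfl⟩ _ ⟨r, -, rfl⟩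
        have h := H68.ti_cj hti r (s * r⁻¹)
        rw [H70.cj_cj, inv_mul_cancel_right] at h
        exact h
    -- the commutator of `q` and `a ^ 2` is a square in `Q`
    set c := a * q * a⁻¹ * q⁻¹ with hc
    have hcQ : c ∈ Q := Q.mul_mem (hQn.conj_mem q hq a) (Q.inv_mem hq)
    have hac : a * c * a⁻¹ = c := by
      have h := (show Commute a (q * a⁻¹ * q⁻¹) from hqa a ha a⁻¹ (A.inv_mem ha))
      calc a * c * a⁻¹ = a * (a * (q * a⁻¹ * q⁻¹)) * a⁻¹ := by rw [hc]; group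
        _ = a * ((q * a⁻¹ * q⁻¹) * a) * a⁻¹ := by rw [h.eq]
        _ = c := by rw [hc]; group
    have h2 : a ^ 2 * q * (a ^ 2)⁻¹ * q⁻¹ = c ^ 2 := by
      calc a ^ 2 * q * (a ^ 2)⁻¹ * q⁻¹ = (a * c * a⁻¹) * c := by rw [hc, pow_two]; group
        _ = c ^ 2 := by rw [hac, pow_two]
    show a ^ 2 * q * (a ^ 2)⁻¹ * q⁻¹ ∈ _
    rw [h2]
    exact ⟨⟨c, hcQ⟩ ^ 2, H6.pow_prime_mem_frattini hQp _, rfl⟩
  refine ⟨hpart1, fun hB => ?_⟩
  set B := Subgroup.closure sqs with hBdef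
  have hBA : B ≤ A := (Subgroup.closure_le _).mpr hsqA
  obtain ⟨y, hy, hy2⟩ : ∃ y ∈ B, y ^ 2 ≠ 1 := by
    by_contra h
    push Not at h
    refine hB ⟨⟨⟨fun u v => Subtype.ext ?_⟩⟩, h⟩
    exact hcomm u (hBA u.2) v (hBA v.2)
  have hBti : ∀ s : X, H70.cj s B = B ∨ H70.cj s B ⊓ B = ⊥ := by
    intro s
    rcases hti s with h | h
    · left
      refine H70.eq_of_cj_le ?_
      rw [H70.cj, hBdef, MonoidHom.map_closure, Subgroup.closure_le]
      rintro _ ⟨_, ⟨a, ha, rfl⟩, rfl⟩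
      refine Subgroup.subset_closure ⟨s * a * s⁻¹, h ▸ H68.mem_cj_of ha, ?_⟩
      show (s * a * s⁻¹) ^ 2 = s * a ^ 2 * s⁻¹
      rw [conj_pow]
    · right
      exact le_bot_iff.mp ((inf_le_inf (H70.cj_mono s hBA) hBA).trans h.le)
  rw [Subgroup.normalClosure, Group.conjugatesOfSet]
  refine Subgroup.isMulCommutative_closure ?_
  intro u hu v hv
  simp only [Set.mem_iUnion] at hu hv
  obtain ⟨i, hi, hu⟩ := hu
  obtain ⟨j, hj, hv⟩ := hv
  rw [conjugatesOf, Set.mem_setOf_eq, isConj_iff] at hu hv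
  obtain ⟨s, rfl⟩ := hu
  obtain ⟨r, rfl⟩ := hv
  have hu' : s * i * s⁻¹ ∈ H70.cj s B := H68.mem_cj_of (Subgroup.subset_closure hi)
  have hv' : r * j * r⁻¹ ∈ H70.cj r B := H68.mem_cj_of (Subgroup.subset_closure hj)
  by_cases he : H70.cj s B = H70.cj r B
  · rw [he] at hu'
    obtain ⟨a, ha, ha'⟩ := hu'
    obtain ⟨b, hb, hb'⟩ := hv'
    rw [← ha', ← hb', ← map_mul, ← map_mul, hcomm a (hBA ha) b (hBA hb)]
  refine H68.commute_of_commutator_eq_bot ?_ hu' hv'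
  refine H68.ti_family_commute (Nat.card Q) Q le_rfl hQp {C | ∃ t : X, C = H70.cj t B} ?_ ?_ ?_ ?_ ?_
    _ ⟨s, rfl⟩ _ ⟨r, rfl⟩ he
  · rintro _ ⟨t, rfl⟩
    exact le_of_le_of_eq (H70.cj_mono t hpart1) (H70.cj_eq_self_iff.mpr
      (by rw [Subgroup.normalizer_eq_top]; trivial))
  · rintro t - _ ⟨w, rfl⟩
    exact ⟨t * w, H70.cj_cj t w B⟩
  · rintro _ ⟨t, rfl⟩
    refine ⟨_, H68.mem_cj_of hy, ?_⟩
    rw [conj_pow]
    exact fun h => hy2 (conj_eq_one_iff.mp h)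
  · rintro _ ⟨t, rfl⟩ _ ⟨w, rfl⟩
    rw [H70.card_cj, H70.card_cj]
  · rintro _ ⟨t, rfl⟩ _ ⟨w, rfl⟩
    have h := H68.ti_cj hBti w (t * w⁻¹)
    rw [H70.cj_cj, inv_mul_cancel_right] at h
    exact h

end Cfsg.Agent.S1783
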