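import Cfsg.Statements.S1784
import Cfsg.Agent.H68.ExtraInvolution
import Cfsg.Agent.H68.FStar
import Cfsg.Agent.CompLayer

set_option autoImplicit false
open Cfsg

namespace Cfsg.Agent.S1784

/-- Let G be a finite group and let z be an involution of G such that Q, the generalized Fitting subgroup of the centralizer C of z, is a 2-group of symplectic type (every characteristic abelian subgroup of Q is cyclic); suppose Q is extraspecial, and view Q inside G. Let α be an involution of C that is not in Q, and let Q₀ be the subgroup of those q ∈ Q whose commutator with α lies in the subgroup generated by z. Then (a) the subgroup generated by the commutators α q α⁻¹ q⁻¹, q ∈ Q, equals the centre of Q₀; and (b) if Q₀ is not contained in the product of the centralizer of α in Q with the subgroup generated by z, then some element of Q conjugates α to α z. -/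
theorem result {G : Type*} [Group G] [Finite G] (z : G) (hz : orderOf z = 2) (hQ : Cfsg.IsOfSymplecticType ↥(Cfsg.generalizedFittingSubgroup ↥(Subgroup.centralizer ({z} : Set G)))) (hE : Cfsg.IsExtraspecial 2 ↥(Cfsg.generalizedFittingSubgroup ↥(Subgroup.centralizer ({z} : Set G))))
    (α : G) (hα : orderOf α = 2) (hαC : α ∈ Subgroup.centralizer ({z} : Set G)) (hαQ : α ∉ (Cfsg.generalizedFittingSubgroup ↥(Subgroup.centralizer ({z} : Set G))).map (Subgroup.centralizer ({z} : Set G)).subtype)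
    (Q₀ : Subgroup G) (hQ₀ : ∀ q : G, q ∈ Q₀ ↔ (q ∈ (Cfsg.generalizedFittingSubgroup ↥(Subgroup.centralizer ({z} : Set G))).map (Subgroup.centralizer ({z} : Set G)).subtype ∧ α * q * α⁻¹ * q⁻¹ ∈ Subgroup.zpowers z)) :
    Subgroup.closure ((fun q : G => α * q * α⁻¹ * q⁻¹) '' ((Cfsg.generalizedFittingSubgroup ↥(Subgroup.centralizer ({z} : Set G))).map (Subgroup.centralizer ({z} : Set G)).subtype : Set G)) = (Subgroup.center ↥Q₀).map Q₀.subtype ∧
      (¬ Q₀ ≤ ((Cfsg.generalizedFittingSubgroup ↥(Subgroup.centralizer ({z} : Set G))).map (Subgroup.centralizer ({z} : Set G)).subtype ⊓ Subgroup.centralizer ({α} : Set G)) ⊔ Subgroup.zpowers z →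
        ∃ q ∈ (Cfsg.generalizedFittingSubgroup ↥(Subgroup.centralizer ({z} : Set G))).map (Subgroup.centralizer ({z} : Set G)).subtype, q * α * q⁻¹ = α * z) := by
  set C := Subgroup.centralizer ({z} : Set G) with hC
  set F := Cfsg.generalizedFittingSubgroup C with hF
  set Q := F.map C.subtype with hQdef
  haveI := H68.gfs_normal C
  have hzC : z ∈ C := Subgroup.mem_centralizer_singleton_iff.2 rfl
  have hzcen : (⟨z, hzC⟩ : C) ∈ Subgroup.center C := Subgroup.mem_center_iff.2 fun g =>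
    Subtype.ext (Subgroup.mem_centralizer_singleton_iff.1 g.2)
  have hzQ : z ∈ Q := ⟨⟨z, hzC⟩, H68.mem_gfs_of_mem_center hzcen, rfl⟩
  have hQC : Q ≤ C := Subgroup.map_subtype_le F
  have hα2 : α * α = 1 := by rw [← sq, ← hα]; exact pow_orderOf_eq_one α
  have hEQ : Cfsg.IsExtraspecial 2 Q :=
    H68.isExtraspecial_of_equiv (F.equivMapOfInjective C.subtype C.subtype_injective) hE
  have hαN : ∀ q ∈ Q, α * q * α⁻¹ ∈ Q := by
    rintro _ ⟨q, hq, rfl⟩
    exact ⟨⟨α, hαC⟩ * q * ⟨α, hαC⟩⁻¹, Subgroup.Normal.conj_mem inferInstance q hq _, rfl⟩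
  have hcen : Subgroup.centralizer (Q : Set G) ≤ Q := by
    intro g hg
    have hgC : g ∈ C := Subgroup.mem_centralizer_singleton_iff.2
      (Subgroup.mem_centralizer_iff.1 hg z hzQ).symm
    exact ⟨⟨g, hgC⟩, Cfsg.Comp.centralizer_fStar_le (Subgroup.mem_centralizer_iff.2 fun q hq =>
      Subtype.ext (Subgroup.mem_centralizer_iff.1 hg q ⟨q, hq, rfl⟩)), rfl⟩
  have hzc : ∀ q ∈ Q, q * z = z * q := fun q hq => Subgroup.mem_centralizer_singleton_iff.1 (hQC hq)
  refine ⟨H68.closure_comm_eq_center Q hEQ z hzQ hz hzc α hα2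
    (Subgroup.mem_centralizer_singleton_iff.1 hαC) hαN
    (fun h => hαQ (sup_le le_rfl hcen h)) Q₀ hQ₀, fun hne => ?_⟩
  obtain ⟨q, hq, hqn⟩ := SetLike.not_le_iff_exists.1 hne
  obtain ⟨hqQ, hcq⟩ := (hQ₀ q).1 hq
  obtain ⟨k, hk⟩ := Subgroup.mem_zpowers_iff.1 hcq
  refine ⟨q, hqQ, ?_⟩
  have hzz : z * z = 1 := by rw [← sq, ← hz]; exact pow_orderOf_eq_one z
  have hαinv : α⁻¹ = α := inv_eq_of_mul_eq_one_right hα2
  rcases Int.even_or_odd k with ⟨r, rfl⟩ | ⟨r, rfl⟩
  · exfalso
    rw [← two_mul, zpow_mul, zpow_two, hzz, one_zpow] at hk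
    refine hqn (Subgroup.mem_sup_left ⟨hqQ, Subgroup.mem_centralizer_singleton_iff.2 ?_⟩)
    exact (mul_inv_eq_iff_eq_mul.1 (mul_inv_eq_one.1 hk.symm)).symm
  · rw [zpow_add, zpow_mul, zpow_two, hzz, one_zpow, one_mul, zpow_one] at hk
    calc q * α * q⁻¹ = α * (α * q * α⁻¹ * q⁻¹) := by
          rw [hαinv, ← mul_assoc, ← mul_assoc, ← mul_assoc, hα2, one_mul]
      _ = α * z := by rw [← hk]

end Cfsg.Agent.S1784
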