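import Cfsg.Statements.S1785
import Cfsg.Agent.H68.ElemAb
import Cfsg.Agent.CompBasic

set_option autoImplicit false
open Cfsg

namespace Cfsg.Agent.S1785

/-- Let X be a finite 2-group having a normal elementary abelian subgroup of order at least 32. Then (a) for any two elementary abelian subgroups A, B of X of order 8 there is a chain A = A₁, A₂, …, Aₙ = B of elementary abelian subgroups of order 8 in which consecutive members commute elementwise; and (b) every elementary abelian subgroup of X of order 4 is contained in an elementary abelian subgroup of order 8. -/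
theorem result {X : Type*} [Group X] [Finite X]
    (hX : IsPGroup 2 X) (E : Subgroup X) [E.Normal] (hE : Cfsg.IsElementaryAbelian 2 E) (hE32 : 32 ≤ Nat.card ↥E) :
    (∀ A B : Subgroup X, Cfsg.IsElementaryAbelian 2 A → Nat.card ↥A = 8 → Cfsg.IsElementaryAbelian 2 B → Nat.card ↥B = 8 →
        Relation.ReflTransGen
          (fun C D : Subgroup X => Cfsg.IsElementaryAbelian 2 C ∧ Nat.card ↥C = 8 ∧ Cfsg.IsElementaryAbelian 2 D ∧ Nat.card ↥D = 8 ∧ ⁅C, D⁆ = ⊥)
          A B) ∧
      (∀ V : Subgroup X, Cfsg.IsElementaryAbelian 2 V → Nat.card ↥V = 4 →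
        ∃ A : Subgroup X, V ≤ A ∧ Cfsg.IsElementaryAbelian 2 A ∧ Nat.card ↥A = 8) := by
  haveI : Fact (Nat.Prime 2) := ⟨Nat.prime_two⟩
  have hEn : ∀ g : X, g ∈ Subgroup.normalizer (E : Set X) := fun g => by
    rw [Subgroup.normalizer_eq_top]; trivial
  -- fixed points in `E` of one or two commuting involutions
  have hpow : ∀ D : Subgroup X, ∃ k : ℕ, Nat.card D = 2 ^ k := fun D => (hX.to_subgroup D).exists_card_eq
  have hone : ∀ x : X, x ^ 2 = 1 → 8 ≤ Nat.card (E ⊓ Subgroup.centralizer ({x} : Set X) : Subgroup X) := by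
    intro x hx
    have h := H68.card_le_sq_fixed hE hx (hEn x)
    obtain ⟨k, hk⟩ := hpow (E ⊓ Subgroup.centralizer ({x} : Set X))
    rw [hk] at h ⊢
    rcases k with _ | _ | _ | k
    · simp only [zero_add, Nat.reduceAdd, Nat.reducePow] at h; omega
    · simp only [zero_add, Nat.reduceAdd, Nat.reducePow] at h; omega
    · simp only [zero_add, Nat.reduceAdd, Nat.reducePow] at h; omega
    · calc 8 = 2 ^ 3 := by norm_num
        _ ≤ _ := Nat.pow_le_pow_right (by norm_num) (by omega)
  have htwo : ∀ x y : X, x ^ 2 = 1 → y ^ 2 = 1 → x * y = y * x →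
      4 ≤ Nat.card (E ⊓ Subgroup.centralizer ({x} : Set X) ⊓ Subgroup.centralizer ({y} : Set X) : Subgroup X) := by
    intro x y hx hy hxy
    have hn : y ∈ Subgroup.normalizer ((E ⊓ Subgroup.centralizer ({x} : Set X) : Subgroup X) : Set X) := by
      refine Cfsg.Comp.inf_le_normalizer (T := Subgroup.centralizer ({x} : Set X)) (fun g _ => hEn g)
        Subgroup.le_normalizer (Subgroup.mem_centralizer_singleton_iff.mpr hxy.symm)
    have h := H68.card_le_sq_fixed (H68.elemAb_of_le hE inf_le_left) hy hn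
    have h8 := hone x hx
    obtain ⟨k, hk⟩ := hpow (E ⊓ Subgroup.centralizer ({x} : Set X) ⊓ Subgroup.centralizer ({y} : Set X))
    rw [hk] at h ⊢
    rcases k with _ | _ | k
    · simp only [zero_add, Nat.reduceAdd, Nat.reducePow] at h; omega
    · simp only [zero_add, Nat.reduceAdd, Nat.reducePow] at h; omega
    · calc 4 = 2 ^ 2 := by norm_num
        _ ≤ _ := Nat.pow_le_pow_right (by norm_num) (by omega)
  refine ⟨?_, ?_⟩
  swap
  · intro V hV hV4
    obtain ⟨x, hxV, hx1⟩ := (Subgroup.ne_bot_iff_exists_ne_one (H := V)).mp (by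
      rintro rfl; simp at hV4) |> fun ⟨a, ha⟩ => (⟨(a : X), a.2, fun h => ha (Subtype.ext h)⟩ : ∃ x ∈ V, x ≠ 1)
    obtain ⟨y, hyV, hy⟩ := SetLike.exists_of_lt (lt_of_le_of_ne (Subgroup.zpowers_le.mpr hxV) (fun h => by
      have h2 := orderOf_eq_prime (hV.2 x hxV) hx1
      rw [← h, Nat.card_zpowers, h2] at hV4
      omega))
    have hxy := H68.elemAb_commute hV hxV hyV
    have h4 := htwo x y (hV.2 x hxV) (hV.2 y hyV) hxy
    set D := E ⊓ Subgroup.centralizer ({x} : Set X) ⊓ Subgroup.centralizer ({y} : Set X) with hD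
    -- `D` centralizes `V`
    have hgen : Subgroup.zpowers x ⊔ Subgroup.zpowers y = V := by
      refine Subgroup.eq_of_le_of_card_ge (sup_le (Subgroup.zpowers_le.mpr hxV) (Subgroup.zpowers_le.mpr hyV)) ?_
      rw [H68.card_sup_zpowers hy (hV.2 y hyV) (fun v hv =>
        H68.elemAb_commute hV (Subgroup.zpowers_le.mpr hxV hv) hyV), Nat.card_zpowers,
        orderOf_eq_prime (hV.2 x hxV) hx1, hV4]
    have hDc : ∀ d ∈ D, ∀ v ∈ V, v * d = d * v := by
      intro d hd v hv
      have hle : V ≤ Subgroup.centralizer ({d} : Set X) := by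
        rw [← hgen]
        refine sup_le (Subgroup.zpowers_le.mpr ?_) (Subgroup.zpowers_le.mpr ?_) <;>
          rw [Subgroup.mem_centralizer_singleton_iff]
        · exact (Subgroup.mem_centralizer_singleton_iff.mp hd.1.2).symm
        · exact (Subgroup.mem_centralizer_singleton_iff.mp hd.2).symm
      exact Subgroup.mem_centralizer_singleton_iff.mp (hle hv)
    have hnle : ¬ D ≤ V := by
      intro hle
      have heq : D = V := Subgroup.eq_of_le_of_card_ge hle (by omega)
      have hVE : V ≤ E := heq ▸ (inf_le_left.trans inf_le_left)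
      have hDE : D = E := le_antisymm (inf_le_left.trans inf_le_left) (fun e he => by
        refine ⟨⟨he, ?_⟩, ?_⟩ <;> refine Subgroup.mem_centralizer_singleton_iff.mpr ?_
        · exact H68.elemAb_commute hE he (hVE hxV)
        · exact H68.elemAb_commute hE he (hVE hyV))
      rw [← hDE, heq, hV4] at hE32
      omega
    obtain ⟨e, heD, heV⟩ := SetLike.not_le_iff_exists.mp hnle
    refine ⟨V ⊔ Subgroup.zpowers e, le_sup_left,
      H68.elemAb_sup_zpowers hV (hE.2 e heD.1.1) (hDc e heD), ?_⟩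
    rw [H68.card_sup_zpowers heV (hE.2 e heD.1.1) (hDc e heD), hV4]
  -- connectedness
  intro A B hA hA8 hB hB8
  let r := fun C D : Subgroup X => Cfsg.IsElementaryAbelian 2 C ∧ Nat.card ↥C = 8 ∧
    Cfsg.IsElementaryAbelian 2 D ∧ Nat.card ↥D = 8 ∧ ⁅C, D⁆ = ⊥
  show Relation.ReflTransGen r A B
  -- one step up
  have hstep : ∀ A : Subgroup X, Cfsg.IsElementaryAbelian 2 A → Nat.card A = 8 → ¬ A ≤ E →
      ∃ A' : Subgroup X, r A A' ∧ Nat.card (A ⊓ E : Subgroup X) < Nat.card (A' ⊓ E : Subgroup X) := by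
    intro A hA hA8 hAE
    have hjoin : ∀ W : Subgroup X, W ≤ A → ∀ u ∈ A, u ∉ W → W ⊔ Subgroup.zpowers u ≤ A ∧
        Nat.card (W ⊔ Subgroup.zpowers u : Subgroup X) = 2 * Nat.card W := fun W hW u hu huW =>
      ⟨sup_le hW (Subgroup.zpowers_le.mpr hu), H68.card_sup_zpowers huW (hA.2 u hu)
        (fun v hv => H68.elemAb_commute hA (hW hv) hu)⟩
    set D := A ⊓ E with hD
    have hDc : ∀ e ∈ E, ∀ d ∈ D, d * e = e * d := fun e he d hd => H68.elemAb_commute hE hd.2 he
    have hDlt : Nat.card D < 8 := by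
      rw [← hA8]
      refine lt_of_le_of_ne (Subgroup.card_le_of_le inf_le_left) (fun h => hAE ?_)
      exact inf_eq_left.mp (Subgroup.eq_of_le_of_card_ge inf_le_left h.ge)
    obtain ⟨k, hk⟩ := hpow D
    obtain ⟨x, hxA, hxE⟩ := SetLike.not_le_iff_exists.mp hAE
    have hxD : x ∉ D := fun h => hxE h.2
    have lift : ∀ W : Subgroup X, W ≤ A → Nat.card W < 8 → ∃ u ∈ A, u ∉ W := by
      intro W hW h
      exact SetLike.exists_of_lt (lt_of_le_of_ne hW (fun he => by rw [he, hA8] at h; omega))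
    -- an element of `E` centralizing `A` outside `A`, and a subgroup of order 4 over `D`
    obtain ⟨e, heE, heA, hec, W, hWA, hW4, hDW⟩ : ∃ e ∈ E, e ∉ A ∧ (∀ a ∈ A, a * e = e * a) ∧
        ∃ W : Subgroup X, W ≤ A ∧ Nat.card W = 4 ∧ D ≤ W := by
      have find : ∀ F : Subgroup X, F ≤ E → Nat.card D < Nat.card F → (∀ f ∈ F, ∀ a ∈ A, a * f = f * a) →
          ∃ e ∈ E, e ∉ A ∧ ∀ a ∈ A, a * e = e * a := by
        intro F hFE hlt hFc
        have : ¬ F ≤ A := fun h => absurd (Subgroup.card_le_of_le (le_inf h hFE)) (not_le.mpr hlt)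
        obtain ⟨e, he, heA⟩ := SetLike.not_le_iff_exists.mp this
        exact ⟨e, hFE he, heA, hFc e he⟩
      have centr : ∀ (U : Subgroup X), U = A → ∀ f : X, U ≤ Subgroup.centralizer ({f} : Set X) →
          ∀ a ∈ A, a * f = f * a := by
        rintro U rfl f hf a ha
        exact Subgroup.mem_centralizer_singleton_iff.mp (hf ha)
      have zc : ∀ (u f : X), f * u = u * f → Subgroup.zpowers u ≤ Subgroup.centralizer ({f} : Set X) :=
        fun u f h => Subgroup.zpowers_le.mpr (Subgroup.mem_centralizer_singleton_iff.mpr h.symm)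
      have cs : ∀ {u f : X}, f ∈ Subgroup.centralizer ({u} : Set X) → f * u = u * f :=
        fun h => Subgroup.mem_centralizer_singleton_iff.mp h
      rcases k with _ | _ | _ | k
      · -- trivial intersection
        rw [pow_zero] at hk
        obtain ⟨hx2, hcx⟩ := hjoin D inf_le_left x hxA hxD
        rw [hk] at hcx
        obtain ⟨y, hyA, hy⟩ := lift _ hx2 (by omega)
        obtain ⟨hy2, hcy⟩ := hjoin _ hx2 y hyA hy
        obtain ⟨w, hwA, hw⟩ := lift _ hy2 (by omega)
        obtain ⟨hw2, hcw⟩ := hjoin _ hy2 w hwA hw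
        have heq := Subgroup.eq_of_le_of_card_ge hw2 (by omega)
        set F₂ := E ⊓ Subgroup.centralizer ({x} : Set X) ⊓ Subgroup.centralizer ({y} : Set X) with hF₂
        have h4 : 4 ≤ Nat.card F₂ := htwo x y (hA.2 x hxA) (hA.2 y hyA) (H68.elemAb_commute hA hxA hyA)
        have hn : w ∈ Subgroup.normalizer (F₂ : Set X) := by
          refine Cfsg.Comp.inf_le_normalizer (T := Subgroup.centralizer ({x} : Set X) ⊓
            Subgroup.centralizer ({y} : Set X)) (Cfsg.Comp.inf_le_normalizer (fun g _ => hEn g)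
              (inf_le_left.trans Subgroup.le_normalizer)) (inf_le_right.trans Subgroup.le_normalizer) ⟨?_, ?_⟩
          · exact Subgroup.mem_centralizer_singleton_iff.mpr (H68.elemAb_commute hA hwA hxA)
          · exact Subgroup.mem_centralizer_singleton_iff.mpr (H68.elemAb_commute hA hwA hyA)
        have h2 := H68.card_le_sq_fixed (H68.elemAb_of_le hE (inf_le_left.trans inf_le_left)) (hA.2 w hwA) hn
        obtain ⟨e, he, heA, hec⟩ := find (F₂ ⊓ Subgroup.centralizer ({w} : Set X))
          (inf_le_left.trans (inf_le_left.trans inf_le_left))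
          (by rw [hk]; nlinarith) (fun f hf => centr _ heq f (sup_le (sup_le (sup_le
            (fun d hd => Subgroup.mem_centralizer_singleton_iff.mpr (hDc f hf.1.1.1 d hd))
            (zc x f (cs hf.1.1.2))) (zc y f (cs hf.1.2))) (zc w f (cs hf.2))))
        exact ⟨e, he, heA, hec, _, hy2, by omega, le_sup_left.trans le_sup_left⟩
      · rw [show (2 : ℕ) ^ (0 + 1) = 2 by norm_num] at hk
        obtain ⟨hx2, hcx⟩ := hjoin D inf_le_left x hxA hxD
        obtain ⟨y, hyA, hy⟩ := lift _ hx2 (by omega)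
        obtain ⟨hy2, hcy⟩ := hjoin _ hx2 y hyA hy
        have heq := Subgroup.eq_of_le_of_card_ge hy2 (by omega)
        obtain ⟨e, he, heA, hec⟩ := find (E ⊓ Subgroup.centralizer ({x} : Set X) ⊓ Subgroup.centralizer ({y} : Set X))
          (inf_le_left.trans inf_le_left)
          (by have := htwo x y (hA.2 x hxA) (hA.2 y hyA) (H68.elemAb_commute hA hxA hyA); omega)
          (fun f hf => centr _ heq f (sup_le (sup_le
            (fun d hd => Subgroup.mem_centralizer_singleton_iff.mpr (hDc f hf.1.1 d hd))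
            (zc x f (cs hf.1.2))) (zc y f (cs hf.2))))
        exact ⟨e, he, heA, hec, _, hx2, by omega, le_sup_left⟩
      · rw [show (2 : ℕ) ^ (0 + 1 + 1) = 4 by norm_num] at hk
        obtain ⟨hx2, hcx⟩ := hjoin D inf_le_left x hxA hxD
        have heq := Subgroup.eq_of_le_of_card_ge hx2 (by omega)
        obtain ⟨e, he, heA, hec⟩ := find (E ⊓ Subgroup.centralizer ({x} : Set X)) inf_le_left
          (by have := hone x (hA.2 x hxA); omega)
          (fun f hf => centr _ heq f (sup_le
            (fun d hd => Subgroup.mem_centralizer_singleton_iff.mpr (hDc f hf.1 d hd))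
            (zc x f (cs hf.2))))
        exact ⟨e, he, heA, hec, D, inf_le_left, hk, le_rfl⟩
      · have : (8 : ℕ) ≤ 2 ^ (k + 1 + 1 + 1) := by
          calc (8 : ℕ) = 2 ^ 3 := by norm_num
            _ ≤ _ := Nat.pow_le_pow_right (by norm_num) (by omega)
        omega
    have heW : e ∉ W := fun h => heA (hWA h)
    have hcW : ∀ v ∈ W, v * e = e * v := fun v hv => hec v (hWA hv)
    refine ⟨W ⊔ Subgroup.zpowers e, ⟨hA, hA8,
      H68.elemAb_sup_zpowers (H68.elemAb_of_le hA hWA) (hE.2 e heE) hcW,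
      by rw [H68.card_sup_zpowers heW (hE.2 e heE) hcW, hW4], ?_⟩, ?_⟩
    · rw [Subgroup.commutator_eq_bot_iff_le_centralizer]
      intro a ha
      rw [Subgroup.mem_centralizer_iff]
      intro b hb
      have hle : W ⊔ Subgroup.zpowers e ≤ Subgroup.centralizer ({a} : Set X) :=
        sup_le (fun v hv => Subgroup.mem_centralizer_singleton_iff.mpr (H68.elemAb_commute hA (hWA hv) ha))
          (Subgroup.zpowers_le.mpr (Subgroup.mem_centralizer_singleton_iff.mpr (hec a ha).symm))
      exact Subgroup.mem_centralizer_singleton_iff.mp (hle hb)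
    · refine lt_of_le_of_ne (Subgroup.card_le_of_le (le_inf (hDW.trans le_sup_left) inf_le_right))
        (fun h => heA ?_)
      have := Subgroup.eq_of_le_of_card_ge (le_inf (hDW.trans le_sup_left) inf_le_right) h.ge
      have he' : e ∈ D := this ▸ (⟨Subgroup.mem_sup_right (Subgroup.mem_zpowers e), heE⟩ :
        e ∈ (W ⊔ Subgroup.zpowers e) ⊓ E)
      exact he'.1
  have hreach : ∀ n : ℕ, ∀ A : Subgroup X, Cfsg.IsElementaryAbelian 2 A → Nat.card A = 8 →
      8 ≤ Nat.card (A ⊓ E : Subgroup X) + n →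
      ∃ A' : Subgroup X, Relation.ReflTransGen r A A' ∧ Relation.ReflTransGen r A' A ∧
        Cfsg.IsElementaryAbelian 2 A' ∧ Nat.card A' = 8 ∧ A' ≤ E := by
    intro n
    induction n with
    | zero =>
      intro A hA hA8 h
      exact ⟨A, .refl, .refl, hA, hA8,
        inf_eq_left.mp (Subgroup.eq_of_le_of_card_ge inf_le_left (by omega))⟩
    | succ n ih =>
      intro A hA hA8 h
      by_cases hAE : A ≤ E
      · exact ⟨A, .refl, .refl, hA, hA8, hAE⟩
      obtain ⟨A', hr, hlt⟩ := hstep A hA hA8 hAE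
      obtain ⟨A'', h1, h2, h3⟩ := ih A' hr.2.2.1 hr.2.2.2.1 (by omega)
      refine ⟨A'', h1.head hr, h2.tail ⟨hr.2.2.1, hr.2.2.2.1, hA, hA8, ?_⟩, h3⟩
      rw [Subgroup.commutator_comm]; exact hr.2.2.2.2
  obtain ⟨A', a1, -, a3, a4, a5⟩ := hreach 8 A hA hA8 (by omega)
  obtain ⟨B', -, b2, b3, b4, b5⟩ := hreach 8 B hB hB8 (by omega)
  refine a1.trans (Relation.ReflTransGen.head ⟨a3, a4, b3, b4, ?_⟩ b2)
  rw [Subgroup.commutator_eq_bot_iff_le_centralizer]
  intro a ha
  rw [Subgroup.mem_centralizer_iff]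
  intro b hb
  exact H68.elemAb_commute hE (b5 hb) (a5 ha)

end Cfsg.Agent.S1785
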