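import Cfsg.Statements.S1786
import Cfsg.Agent.H68.TIFinal
set_option autoImplicit false
open Cfsg

namespace Cfsg.Agent.S1786

/-- Let G be a finite group, V an elementary abelian 2-subgroup of G and M the normalizer of V; write Q for the largest normal 2-subgroup of M. Suppose (1) the generalized Fitting subgroup of M equals Q; (2) V is a maximal abelian normal subgroup of M; (3) every conjugate of V equals V or meets V trivially, and for some g ∈ G the conjugate V' = g V g⁻¹ is different from V and contained in Q. Let P be the centralizer of V in Q, W the subgroup generated by V and V', and H the subgroup generated by P and g P g⁻¹. Then: (a) V is contained in g Q g⁻¹; (b) every non-identity element of W lies in exactly one conjugate of V contained in W, H normalizes W, and H modulo the centralizer of W in H is isomorphic to the special linear group of dimension 2 over the field with |V| elements; (c) P = Q, and V equals the Frattini subgroup, the centre and the commutator subgroup of Q. -/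
theorem result {G : Type*} [Group G] [Finite G] (V : Subgroup G)
    (hV : Cfsg.IsElementaryAbelian 2 V)
    (h1 : (Cfsg.generalizedFittingSubgroup ↥(Subgroup.normalizer (V : Set G))).map (Subgroup.normalizer (V : Set G)).subtype =
      (Cfsg.pCore 2 ↥(Subgroup.normalizer (V : Set G))).map (Subgroup.normalizer (V : Set G)).subtype)
    (h2 : ∀ A : Subgroup G, V ≤ A → A ≤ Subgroup.normalizer (V : Set G) → IsMulCommutative ↥A →
      (∀ m ∈ Subgroup.normalizer (V : Set G), ∀ a ∈ A, m * a * m⁻¹ ∈ A) → A = V)
    (hti : ∀ x : G, V.map (MulAut.conj x).toMonoidHom = V ∨ V.map (MulAut.conj x).toMonoidHom ⊓ V = ⊥)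
    (g : G) (hg : V.map (MulAut.conj g).toMonoidHom ≠ V)
    (hgQ : V.map (MulAut.conj g).toMonoidHom ≤ (Cfsg.pCore 2 ↥(Subgroup.normalizer (V : Set G))).map (Subgroup.normalizer (V : Set G)).subtype) :
    let Q : Subgroup G := (Cfsg.pCore 2 ↥(Subgroup.normalizer (V : Set G))).map (Subgroup.normalizer (V : Set G)).subtype
    let P : Subgroup G := Q ⊓ Subgroup.centralizer (V : Set G)
    let W : Subgroup G := V ⊔ V.map (MulAut.conj g).toMonoidHom
    let H : Subgroup G := P ⊔ P.map (MulAut.conj g).toMonoidHom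
    V ≤ Q.map (MulAut.conj g).toMonoidHom ∧
      (∀ w ∈ W, w ≠ 1 → ∃! U : Subgroup G, (∃ x : G, U = V.map (MulAut.conj x).toMonoidHom) ∧ U ≤ W ∧ w ∈ U) ∧
      H ≤ Subgroup.normalizer (W : Set G) ∧
      (∀ hN : ((Subgroup.centralizer (W : Set G)).subgroupOf H).Normal, ∃ (F : Type) (_ : Field F) (_ : Fintype F), Fintype.card F = Nat.card ↥V ∧
        Nonempty (↥H ⧸ (Subgroup.centralizer (W : Set G)).subgroupOf H ≃* Matrix.SpecialLinearGroup (Fin 2) F)) ∧
      P = Q ∧ (frattini ↥Q).map Q.subtype = V ∧ (Subgroup.center ↥Q).map Q.subtype = V ∧ (commutator ↥Q).map Q.subtype = V := by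
  classical
  intro Q P W H
  have hbase : H68.TI.TIQ V := by
    refine ⟨hV, fun x hx hxc => ?_, h2, hti⟩
    have hmem : (⟨x, hx⟩ : ↥(Subgroup.normalizer (V : Set G))) ∈
        Subgroup.centralizer (Cfsg.generalizedFittingSubgroup ↥(Subgroup.normalizer (V : Set G)) : Set _) := by
      rw [H68.TI.mem_cent]
      intro z hz
      exact Subtype.ext (hxc z (h1.le (Subgroup.mem_map_of_mem _ hz)))
    exact h1.le (Subgroup.mem_map_of_mem _ (Cfsg.Comp.centralizer_fStar_le hmem))
  have hp : H68.TI.Partner V (H70.cj g V) := ⟨hbase, ⟨g, rfl⟩, hg, hgQ⟩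
  have hQg : Q.map (MulAut.conj g).toMonoidHom = H68.TI.qn (H70.cj g V) := (H68.TI.qn_cj g V).symm
  have hPg : P.map (MulAut.conj g).toMonoidHom = H68.TI.pn (H70.cj g V) := (H68.TI.pn_cj g V).symm
  have hH : H = H68.TI.pn V ⊔ H68.TI.pn (H70.cj g V) := by
    show P ⊔ P.map (MulAut.conj g).toMonoidHom = _
    rw [hPg]
    rfl
  refine ⟨hQg ▸ hp.symm_le, fun w hw hw1 => hp.exists_unique_member hw hw1,
    hH ▸ hp.sup_le_norm, ?_, hp.pn_eq_qn, hp.special⟩
  clear_value H
  subst hH
  intro hN
  obtain ⟨K, hK1, hK2, hcard, -, c, ρ, hρ, hrange, hker, -⟩ := hp.exists_sl2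
  refine ⟨K, hK1, hK2, hcard, ⟨?_⟩⟩
  exact (QuotientGroup.quotientMulEquivOfEq hker.symm).trans
    ((QuotientGroup.quotientKerEquivRange c).trans
      ((MulEquiv.subgroupCongr hrange).trans (MonoidHom.ofInjective hρ).symm))

end Cfsg.Agent.S1786
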