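import Cfsg.Statements.S1850
import Mathlib
import Cfsg.Agent.H69.Char2

set_option autoImplicit false
open Cfsg

namespace Cfsg.Agent.S1850


/-- Let G be a non-abelian finite simple QTKE-group and T a Sylow 2-subgroup of G. If U is a nontrivial 2-subgroup of G with U ∩ Z(T) ≠ 1, then F*(N_G(U)) = O₂(N_G(U)). -/
theorem result {G : Type*} [Group G] [Finite G] [IsSimpleGroup G]
    (hG : ¬ IsMulCommutative G) (hQ : Cfsg.IsQTKE G) (T : Sylow 2 G) (U : Subgroup G)
    (hU : IsPGroup 2 ↥U) (hZ : U ⊓ ((T : Subgroup G) ⊓ Subgroup.centralizer ((T : Subgroup G) : Set G)) ≠ ⊥) :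
    Subgroup.normalizer (U : Set G) ∈ Cfsg.calHe G := by
  haveI := H69.two_fact
  rw [H69.calHe_iff_char_two]
  obtain ⟨⟨z, hzU, hzT, hzC⟩, hz1⟩ := Subgroup.ne_bot_iff_exists_ne_one.mp hZ
  have hz1' : z ≠ 1 := fun h => hz1 (Subtype.ext h)
  set M := Subgroup.normalizer (Subgroup.zpowers z : Set G)
  have hcM : ∀ x : G, x * z = z * x → x ∈ M := fun x hx =>
    Subgroup.centralizer_le_normalizer _ (Subgroup.mem_centralizer_iff.mpr (by
      rintro _ ⟨i, rfl⟩
      exact ((show Commute z x from hx.symm).zpow_left i).eq))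
  have hTM : (T : Subgroup G) ≤ M := fun t ht => hcM t (Subgroup.mem_centralizer_iff.mp hzC t ht)
  have hloc : Cfsg.IsTwoLocal M :=
    ⟨Subgroup.zpowers z, T.2.to_le (Subgroup.zpowers_le.mpr hzT),
      by rwa [Ne, Subgroup.zpowers_eq_bot], rfl⟩
  have hM : Cfsg.IsOfCharacteristicTwo M := hQ.2.2 M hloc ⟨T, hTM⟩
  -- enlarge a subgroup of U containing z
  let P : Set (Subgroup G) :=
    {V | z ∈ V ∧ V ≤ U ∧ Cfsg.IsOfCharacteristicTwo (Subgroup.normalizer (V : Set G))}
  have hzM : z ∈ M := hcM z rfl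
  have hP : P.Nonempty := by
    refine ⟨U ⊓ M, ⟨hzU, hzM⟩, inf_le_left, H69.char_two_normalizer (hU.to_le inf_le_left) hM inf_le_right ?_⟩
    intro x hx
    refine hcM x (Subgroup.mem_centralizer_iff.mp hx.2 z ?_).symm
    exact H69.le_pCoreTwoOf Subgroup.le_normalizer (hU.to_le inf_le_left) le_rfl ⟨hzU, hzM⟩
  obtain ⟨V, ⟨hzV, hVU, hV⟩, hmax⟩ := Set.Finite.exists_maximal (Set.toFinite P) hP
  by_cases hVU' : V = U
  · rwa [hVU'] at hV
  exfalso
  have hlt : V < U ⊓ Subgroup.normalizer (V : Set G) := by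
    haveI : Group.IsNilpotent U := hU.isNilpotent
    have h2 := Group.normalizerCondition_of_isNilpotent (V.subgroupOf U)
      (lt_top_iff_ne_top.mpr fun h => hVU' (le_antisymm hVU (Subgroup.subgroupOf_eq_top.mp h)))
    refine lt_of_le_of_ne (le_inf hVU Subgroup.le_normalizer) fun h => ?_
    refine (not_le_of_gt h2) fun x hx => ?_
    rw [Subgroup.mem_subgroupOf, h]
    refine ⟨x.2, ?_⟩
    rw [← Subgroup.subgroupOf_normalizer_eq hVU] at hx
    exact hx
  refine (not_le_of_gt hlt) (hmax ⟨?_, inf_le_left, ?_⟩ hlt.le)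
  · exact hlt.le hzV
  refine H69.char_two_normalizer (hU.to_le inf_le_left) hV inf_le_right ?_
  intro x hx
  refine Subgroup.centralizer_le_normalizer _ (Subgroup.mem_centralizer_iff.mpr fun v hv => ?_)
  exact Subgroup.mem_centralizer_iff.mp hx.2 v
    (H69.le_pCoreTwoOf Subgroup.le_normalizer (hU.to_le inf_le_left) le_rfl (hlt.le hv))

end Cfsg.Agent.S1850
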