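import Cfsg.Statements.S1851
import Mathlib
import Cfsg.Agent.H69.Char2

set_option autoImplicit false
open Cfsg

namespace Cfsg.Agent.S1851

open Subgroup in
/-- members of `calL T` in usable form -/
theorem H69_calL {G : Type*} [Group G] [Finite G] {T L : Subgroup G} (h : L ∈ Cfsg.calL T) :
    L ≠ ⊥ ∧ ⁅L, L⁆ = L ∧ (L.subgroupOf (L ⊔ T)).IsSubnormal ∧ Cfsg.pCore 2 ↥(L ⊔ T) ≠ ⊥ := by
  obtain ⟨⟨h1, h2, h3, -⟩, -, h4⟩ := h
  refine ⟨fun h' => h1 ?_, ?_, h3, h4⟩
  · subst h'; exact Subgroup.bot_subgroupOf _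
  · have e : (L.subgroupOf (L ⊔ T)).map (L ⊔ T).subtype = L := by
      rw [Subgroup.subgroupOf_map_subtype, inf_eq_left.mpr le_sup_left]
    calc ⁅L, L⁆ = ⁅(L.subgroupOf (L ⊔ T)).map (L ⊔ T).subtype, (L.subgroupOf (L ⊔ T)).map (L ⊔ T).subtype⁆ := by rw [e]
      _ = _ := by rw [← Subgroup.map_commutator, h2, e]

/-- a two-subgroup normalized by a perfect group normalizes it, when the latter is subnormal -/
theorem H69_normalizes {G : Type*} [Group G] [Finite G] {X L R : Subgroup G} (hL : ⁅L, L⁆ = L)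
    (hLX : L ≤ X) (hRX : R ≤ X) (hR : IsPGroup 2 R) (hn : X ≤ Subgroup.normalizer (R : Set G))
    (hs : (L.subgroupOf X).IsSubnormal) : R ≤ Subgroup.normalizer (L : Set G) := by
  classical
  haveI := H69.two_fact
  have hle : L ≤ Subgroup.normalizer (R : Set G) := hLX.trans hn
  -- the index of L in L R is a power of two
  have hodd : ∀ y ∈ (L ⊔ R : Subgroup G), ¬ 2 ∣ orderOf y → y ∈ L := by
    intro y hy hyo
    haveI : ((R.subgroupOf (L ⊔ R))).Normal :=
      (Subgroup.normal_subgroupOf_iff_le_normalizer le_sup_right).mpr (sup_le hle Subgroup.le_normalizer)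
    have hsub : (L.subgroupOf (L ⊔ R)).IsSubnormal := by
      have hX : L ⊔ R ≤ X := sup_le hLX hRX
      have := hs.comap (Subgroup.inclusion hX)
      exact this
    -- work through a subnormal chain
    have hpow : ∀ (Y : Subgroup ↥(L ⊔ R)), Y.IsSubnormal → L.subgroupOf (L ⊔ R) ≤ Y →
        (⟨y, hy⟩ : ↥(L ⊔ R)) ∈ Y := by
      intro Y hY
      induction hY with
      | top => intro _; exact Subgroup.mem_top _
      | step H K hle' hK hHn ih =>
        intro hLH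
        have hy' := ih (hLH.trans hle')
        -- the quotient K / H is a two-group
        haveI := hHn
        let q := QuotientGroup.mk' (H.subgroupOf K)
        have hmem : ∀ k : K, ∃ r : K, ((r : ↥(L ⊔ R)) : G) ∈ R ∧ q k = q r := by
          rintro ⟨⟨k, hk⟩, hkK⟩
          have hk' := hk
          rw [← SetLike.mem_coe, Subgroup.coe_mul_of_left_le_normalizer_right _ _ hle] at hk'
          obtain ⟨l, hl, r, hr, rfl⟩ := hk'
          have hlK : (⟨l, Subgroup.mem_sup_left hl⟩ : ↥(L ⊔ R)) ∈ K :=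
            hle' (hLH (Subgroup.mem_subgroupOf.mpr hl))
          have hrK : (⟨r, Subgroup.mem_sup_right hr⟩ : ↥(L ⊔ R)) ∈ K := by
            have := K.mul_mem (K.inv_mem hlK) hkK
            have e : (⟨l, Subgroup.mem_sup_left hl⟩ : ↥(L ⊔ R))⁻¹ * ⟨l * r, hk⟩ = ⟨r, Subgroup.mem_sup_right hr⟩ :=
              Subtype.ext (inv_mul_cancel_left l r)
            rwa [e] at this
          refine ⟨⟨_, hrK⟩, hr, ?_⟩
          have e : (⟨⟨l * r, hk⟩, hkK⟩ : K) = ⟨_, hlK⟩ * ⟨_, hrK⟩ := rfl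
          rw [e, map_mul]
          have : q (⟨_, hlK⟩ : K) = 1 := (QuotientGroup.eq_one_iff _).mpr
            (Subgroup.mem_subgroupOf.mpr (hLH (Subgroup.mem_subgroupOf.mpr hl)))
          rw [this, one_mul]
        obtain ⟨r, hr, hqr⟩ := hmem ⟨⟨y, hy⟩, hy'⟩
        obtain ⟨j, hj⟩ := hR ⟨_, hr⟩
        have hj' : r ^ 2 ^ j = 1 := Subtype.ext (Subtype.ext (by simpa using congrArg Subtype.val hj))
        have h1 : q (⟨⟨y, hy⟩, hy'⟩ : K) ^ 2 ^ j = 1 := by rw [hqr, ← map_pow, hj', map_one]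
        have h2 : q (⟨⟨y, hy⟩, hy'⟩ : K) ^ orderOf y = 1 := by
          rw [← map_pow, show (⟨⟨y, hy⟩, hy'⟩ : K) ^ orderOf y = 1 from
            Subtype.ext (Subtype.ext (by simpa using pow_orderOf_eq_one y)), map_one]
        exact Subgroup.mem_subgroupOf.mp
          ((QuotientGroup.eq_one_iff _).mp (Comp.eq_one_of_pow_eq_one (p := 2) h1 hyo h2))
    exact Subgroup.mem_subgroupOf.mp (hpow _ hsub le_rfl)
  intro r hr
  have hgen := Comp.perfect_le_closure_not_dvd 2 hL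
  have key : ∀ r ∈ R, ∀ l ∈ L, r * l * r⁻¹ ∈ L := by
    intro r hr l hl
    have : L ≤ L.comap (MulAut.conj r).toMonoidHom := by
      refine hgen.trans ((Subgroup.closure_le _).mpr fun x hx => ?_)
      show r * x * r⁻¹ ∈ L
      refine hodd _ (Subgroup.mul_mem _ (Subgroup.mul_mem _ (Subgroup.mem_sup_right hr)
        (Subgroup.mem_sup_left hx.1)) (Subgroup.inv_mem _ (Subgroup.mem_sup_right hr))) ?_
      rw [show r * x * r⁻¹ = MulAut.conj r x from rfl, MulEquiv.orderOf_eq]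
      exact hx.2
    exact this hl
  rw [Subgroup.mem_normalizer_iff]
  intro l
  refine ⟨key r hr l, fun hl => ?_⟩
  simpa [mul_assoc] using key r⁻¹ (R.inv_mem hr) _ hl

/-- a conjugation of odd order which moves `v` by a fixed involution is trivial there -/
theorem H69_odd_fix {G : Type*} [Group G] {x v : G} (hx : ¬ 2 ∣ orderOf x)
    (h : Commute (x * x) v) : Commute x v := by
  obtain ⟨k, hk⟩ : Odd (orderOf x) := Nat.odd_iff.mpr (by omega)
  have e : (x * x) ^ (k + 1) = x := by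
    rw [← pow_two, ← pow_mul, show 2 * (k + 1) = orderOf x + 1 by omega, pow_succ, pow_orderOf_eq_one, one_mul]
  rw [← e]; exact h.pow_left _

/-- main statement: a nontrivial module is inherited by overgroups in `calL` -/
theorem H69_up {G : Type*} [Group G] [Finite G] (hE : Cfsg.IsOfEvenCharacteristic G) (T : Sylow 2 G)
    (L : Subgroup G) (hL : L ∈ Cfsg.calLf (T : Subgroup G)) (K : Subgroup G)
    (hK : K ∈ Cfsg.calL (T : Subgroup G)) (hLK : L ≤ K) : K ∈ Cfsg.calLf (T : Subgroup G) := by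
  classical
  haveI := H69.two_fact
  obtain ⟨hLne, hLp, hLs, hLO⟩ := H69_calL hL.1
  obtain ⟨hKne, hKp, hKs, hKO⟩ := H69_calL hK
  have hLc := H69.char_two_of_evenChar hE T le_sup_right hLO
  have hKc := H69.char_two_of_evenChar hE T le_sup_right hKO
  set R := Cfsg.pCoreTwoOf (L ⊔ (T : Subgroup G)) with hR
  set R' := Cfsg.pCoreTwoOf (K ⊔ (T : Subgroup G)) with hR'
  have hYX : L ⊔ (T : Subgroup G) ≤ K ⊔ (T : Subgroup G) := sup_le_sup_right hLK _
  have hR'T : R' ≤ (T : Subgroup G) := H69.pCoreTwoOf_le_sylow T le_sup_right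
  have hR'R : R' ≤ R := H69.le_pCoreTwoOf (hR'T.trans le_sup_right) (H69.pCoreTwoOf_isPGroup _)
    (hYX.trans (H69.pCoreTwoOf_normalized _))
  have hRL : R ≤ Subgroup.normalizer (L : Set G) := H69_normalizes hLp le_sup_left
    (H69.pCoreTwoOf_le _) (H69.pCoreTwoOf_isPGroup _) (H69.pCoreTwoOf_normalized _) hLs
  have hR'K : R' ≤ Subgroup.normalizer (K : Set G) := H69_normalizes hKp le_sup_left
    (H69.pCoreTwoOf_le _) (H69.pCoreTwoOf_isPGroup _) (H69.pCoreTwoOf_normalized _) hKs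
  refine ⟨hK, ⟨hKne, ?_, ?_⟩, ?_⟩
  · refine le_antisymm ((Subgroup.closure_le _).mpr fun x hx => hx.1)
      ((Comp.perfect_le_closure_not_dvd 2 hKp).trans (Subgroup.closure_mono fun x hx =>
        ⟨hx.1, Nat.odd_iff.mpr (by have := hx.2; omega)⟩))
  · rw [H69.calHe_iff_char_two]
    have := H69.char_two_of_isSubnormal hKc hKs
    rw [H69.char_two_iff_fStar] at this
    let e : ↥(K.subgroupOf (K ⊔ (T : Subgroup G))) ≃* K := Subgroup.subgroupOfEquivOfLe le_sup_left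
    have h0 : Cfsg.IsOfCharacteristicTwo ↥(K.subgroupOf (K ⊔ (T : Subgroup G))) := H69.char_two_iff_fStar.mpr this
    intro x hx
    have hm : (Cfsg.pCore 2 ↥(K.subgroupOf (K ⊔ (T : Subgroup G)))).map e.toMonoidHom ≤ Cfsg.pCore 2 K :=
      Comp.le_pCore ((inferInstance : (Cfsg.pCore 2 _).Normal).map _ e.surjective) ((Comp.pCore_isPGroup 2).map _)
    have : e.symm x ∈ Cfsg.pCore 2 ↥(K.subgroupOf (K ⊔ (T : Subgroup G))) := h0 (by
      rw [Subgroup.mem_centralizer_iff]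
      intro y hy
      apply e.injective
      rw [map_mul, map_mul, e.apply_symm_apply]
      exact Subgroup.mem_centralizer_iff.mp hx _ (hm ⟨y, hy, rfl⟩))
    simpa using hm ⟨e.symm x, this, rfl⟩
  -- the action of L on the central involutions of O₂(L)
  set O := Cfsg.pCoreTwoOf L with hO
  have hmod := hL.2.2
  have hgen := Comp.perfect_le_closure_not_dvd 2 hLp
  obtain ⟨w, hwO, hwc, hw2, x, hx, hxo, hwx⟩ : ∃ w ∈ O, w ∈ Subgroup.centralizer (O : Set G) ∧ w ^ 2 = 1 ∧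
      ∃ x ∈ L, ¬ 2 ∣ orderOf x ∧ ¬ Commute x w := by
    by_contra hcon
    push Not at hcon
    apply hmod
    rw [Cfsg.moduleV, Subgroup.commutator_eq_bot_iff_le_centralizer, Cfsg.omegaOne, Subgroup.closure_le]
    rintro w ⟨⟨hwO, hwc⟩, hw2⟩
    rw [SetLike.mem_coe, Subgroup.mem_centralizer_iff]
    intro l hl
    have : L ≤ Subgroup.centralizer ({w} : Set G) := hgen.trans ((Subgroup.closure_le _).mpr fun x hx =>
      Subgroup.mem_centralizer_singleton_iff.mpr (hcon w hwO hwc hw2 x hx.1 hx.2).eq)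
    exact Subgroup.mem_centralizer_singleton_iff.mp (this hl)
  -- the set of central involutions
  let W : Set G := {a | a ∈ O ∧ a ∈ Subgroup.centralizer (O : Set G) ∧ a ^ 2 = 1}
  have hWc : ∀ a ∈ W, ∀ b ∈ W, Commute a b := fun a ha b hb =>
    (Subgroup.mem_centralizer_iff.mp hb.2.1 a ha.1)
  have hWconj : ∀ g : G, g ∈ Subgroup.normalizer (O : Set G) → ∀ a ∈ W, g * a * g⁻¹ ∈ W := by
    intro g hg a ha
    refine ⟨(Subgroup.mem_normalizer_iff.mp hg a).mp ha.1, ?_, by rw [conj_pow, ha.2.2]; simp⟩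
    exact (Subgroup.mem_normalizer_iff.mp (Comp.le_normalizer_centralizer le_rfl hg) a).mp ha.2.1
  have hxN : x ∈ Subgroup.normalizer (O : Set G) := H69.pCoreTwoOf_normalized L hx
  have hWmul : ∀ a ∈ W, ∀ b ∈ W, a * b ∈ W := fun a ha b hb =>
    ⟨O.mul_mem ha.1 hb.1, Subgroup.mul_mem _ ha.2.1 hb.2.1, by
      rw [(hWc a ha b hb).mul_pow, ha.2.2, hb.2.2, one_mul]⟩
  have hWinv : ∀ a ∈ W, a⁻¹ = a := fun a ha =>
    inv_eq_of_mul_eq_one_right (by rw [← pow_two]; exact ha.2.2)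
  let I : Set G := {v | ∃ a ∈ W, v = a * (x * a * x⁻¹)}
  have hIW : ∀ v ∈ I, v ∈ W := by
    rintro v ⟨a, ha, rfl⟩; exact hWmul a ha _ (hWconj x hxN a ha)
  have hIinv : ∀ r ∈ R, ∀ v ∈ I, r * v * r⁻¹ ∈ I := by
    rintro r hr _ ⟨a, ha, rfl⟩
    have hrO : r ∈ Subgroup.normalizer (O : Set G) :=
      Comp.le_normalizer_map_subtype (H := L) (Cfsg.pCore 2 L) (hRL hr)
    refine ⟨r * a * r⁻¹, hWconj r hrO a ha, ?_⟩
    have hc : r * x * r⁻¹ * x⁻¹ ∈ O := by
      refine H69.le_pCoreTwoOf (inf_le_left : L ⊓ R ≤ L) ((H69.pCoreTwoOf_isPGroup _).to_le inf_le_right)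
        (Comp.inf_le_normalizer Subgroup.le_normalizer (le_sup_left.trans (H69.pCoreTwoOf_normalized _)))
        ⟨L.mul_mem ((Subgroup.mem_normalizer_iff.mp (hRL hr) x).mp hx) (L.inv_mem hx), ?_⟩
      rw [show r * x * r⁻¹ * x⁻¹ = r * (x * r⁻¹ * x⁻¹) by group]
      exact R.mul_mem hr ((Subgroup.mem_normalizer_iff.mp
        (H69.pCoreTwoOf_normalized _ (Subgroup.mem_sup_left hx)) r⁻¹).mp (R.inv_mem hr))
    have hb : x * (r * a * r⁻¹) * x⁻¹ ∈ W := hWconj x hxN _ (hWconj r hrO a ha)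
    have h1 := Subgroup.mem_centralizer_iff.mp hb.2.1 _ hc
    calc r * (a * (x * a * x⁻¹)) * r⁻¹
        = r * a * r⁻¹ * ((r * x * r⁻¹ * x⁻¹) * (x * (r * a * r⁻¹) * x⁻¹) * (r * x * r⁻¹ * x⁻¹)⁻¹) := by group
      _ = _ := by rw [h1, mul_inv_cancel_right]
  have hI1 : (1 : G) ∈ I := ⟨1, ⟨O.one_mem, Subgroup.one_mem _, one_pow 2⟩, by group⟩
  have hv₀ : w * (x * w * x⁻¹) ∈ I := ⟨w, ⟨hwO, hwc, hw2⟩, rfl⟩
  have hv₀1 : w * (x * w * x⁻¹) ≠ 1 := fun h => hwx (by
    have := inv_eq_of_mul_eq_one_right h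
    rw [hWinv w ⟨hwO, hwc, hw2⟩] at this
    exact (mul_inv_eq_iff_eq_mul.mp this.symm))
  have hIgrp : ∃ H : Subgroup G, (H : Set G) = I := by
    refine ⟨⟨⟨⟨I, ?_⟩, hI1⟩, ?_⟩, rfl⟩
    · rintro _ _ ⟨a, ha, rfl⟩ ⟨b, hb, rfl⟩
      refine ⟨a * b, hWmul a ha b hb, ?_⟩
      have := (hWc _ (hWconj x hxN a ha) b hb).eq
      calc a * (x * a * x⁻¹) * (b * (x * b * x⁻¹)) = a * ((x * a * x⁻¹) * b) * (x * b * x⁻¹) := by group
        _ = a * (b * (x * a * x⁻¹)) * (x * b * x⁻¹) := by rw [this]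
        _ = a * b * (x * (a * b) * x⁻¹) := by group
    · intro v hv
      show v⁻¹ ∈ I
      rwa [hWinv v (hIW v hv)]
  obtain ⟨H, hH⟩ := hIgrp
  have hHmem : ∀ a : G, a ∈ H ↔ a ∈ I := fun a => by rw [← SetLike.mem_coe, hH]
  -- a fixed point other than the identity
  obtain ⟨v, ⟨hvI, hv1⟩, hvR⟩ : ∃ v ∈ I \ {1}, v ∈ Subgroup.centralizer (R : Set G) := by
    refine Comp.exists_mem_centralizer (p := 2) (H69.pCoreTwoOf_isPGroup _) _ ?_ ?_
    · intro r hr a ha
      exact ⟨hIinv r hr a ha.1, fun h => ha.2 (by simpa using h)⟩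
    · have hcard : 2 ∣ Nat.card H := by
        have h2 : orderOf (w * (x * w * x⁻¹)) = 2 := orderOf_eq_prime (hIW _ hv₀).2.2 hv₀1
        rw [← h2]; exact Subgroup.orderOf_dvd_natCard H ((hHmem _).mpr hv₀)
      have h3 : Nat.card ↥(I \ {1}) + 1 = Nat.card H := by
        rw [Nat.card_coe_set_eq, Set.ncard_diff_singleton_add_one hI1 (Set.toFinite _), ← Nat.card_coe_set_eq]
        exact Nat.card_congr (Equiv.setCongr hH.symm)
      omega
  obtain ⟨a, ha, hva⟩ := hvI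
  have hvW := hIW v ⟨a, ha, hva⟩
  have hvL : v ∈ L := H69.pCoreTwoOf_le L hvW.1
  have hvRR : v ∈ R := (H69.char_two_sub_iff _).mp hLc ⟨Subgroup.mem_sup_left hvL, hvR⟩
  have hvx : ¬ Commute x v := by
    intro hc
    have hstep : ∀ m : ℕ, x ^ m * a * (x ^ m)⁻¹ = a * v ^ m := by
      intro m
      induction m with
      | zero => simp
      | succ m ih =>
        have e : x * a * x⁻¹ = a * v := by
          rw [hva, ← mul_assoc, ← pow_two, ha.2.2, one_mul]
        calc x ^ (m + 1) * a * (x ^ (m + 1))⁻¹ = x * (x ^ m * a * (x ^ m)⁻¹) * x⁻¹ := by rw [pow_succ']; group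
          _ = (x * a * x⁻¹) * (x * v ^ m * x⁻¹) := by rw [ih]; group
          _ = a * v ^ (m + 1) := by rw [e, (hc.pow_right m).eq, mul_inv_cancel_right, pow_succ', mul_assoc]
    have h1 := hstep (orderOf x)
    rw [pow_orderOf_eq_one, one_mul, inv_one, mul_one, left_eq_mul] at h1
    exact hv1 (Set.mem_singleton_iff.mpr (Comp.eq_one_of_pow_eq_one (p := 2) (k := 1) (by simpa using hvW.2.2) hxo h1))
  -- v is central in R'
  have hvR'c : v ∈ Subgroup.centralizer (R' : Set G) := Subgroup.centralizer_le (SetLike.coe_subset_coe.mpr hR'R) hvR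
  have hvR' : v ∈ R' := (H69.char_two_sub_iff _).mp hKc ⟨Subgroup.mem_sup_left (hLK hvL), hvR'c⟩
  have hxR' : x ∈ Subgroup.normalizer (R' : Set G) := H69.pCoreTwoOf_normalized _ (Subgroup.mem_sup_left (hLK hx))
  set u := v * (x * v * x⁻¹) with hu
  have huR' : u ∈ R' := R'.mul_mem hvR' ((Subgroup.mem_normalizer_iff.mp hxR' v).mp hvR')
  have huK : u ∈ K := K.mul_mem (hLK hvL) (K.mul_mem (K.mul_mem (hLK hx) (hLK hvL)) (K.inv_mem (hLK hx)))
  have huc : u ∈ Subgroup.centralizer (R' : Set G) := Subgroup.mul_mem _ hvR'c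
    ((Subgroup.mem_normalizer_iff.mp (Comp.le_normalizer_centralizer le_rfl hxR') v).mp hvR'c)
  have huO : u ∈ Cfsg.pCoreTwoOf K := H69.le_pCoreTwoOf (inf_le_left : K ⊓ R' ≤ K)
    ((H69.pCoreTwoOf_isPGroup _).to_le inf_le_right)
    (Comp.inf_le_normalizer Subgroup.le_normalizer (le_sup_left.trans (H69.pCoreTwoOf_normalized _))) ⟨huK, huR'⟩
  have hKR' : Cfsg.pCoreTwoOf K ≤ R' := by
    rintro _ ⟨k, hk, rfl⟩
    have h1 := Comp.pCore_map_subtype_le 2 hKs
    let e : ↥(K.subgroupOf (K ⊔ (T : Subgroup G))) ≃* K := Subgroup.subgroupOfEquivOfLe le_sup_left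
    have h2 : (Cfsg.pCore 2 K).map e.symm.toMonoidHom ≤ Cfsg.pCore 2 ↥(K.subgroupOf (K ⊔ (T : Subgroup G))) :=
      Comp.le_pCore ((inferInstance : (Cfsg.pCore 2 _).Normal).map _ e.symm.surjective) ((Comp.pCore_isPGroup 2).map _)
    exact ⟨_, h1 ⟨_, h2 ⟨k, hk, rfl⟩, rfl⟩, rfl⟩
  have hvv : Commute v (x * v * x⁻¹) := hWc v hvW _ (hWconj x hxN v hvW)
  have hu2 : u ^ 2 = 1 := by
    rw [hu, hvv.mul_pow, hvW.2.2, conj_pow, hvW.2.2]; simp
  intro hbot
  rw [Cfsg.moduleV, Subgroup.commutator_eq_bot_iff_le_centralizer, Cfsg.omegaOne, Subgroup.closure_le] at hbot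
  have hmem : u ∈ Cfsg.pCoreTwoOf K ⊓ Subgroup.centralizer (Cfsg.pCoreTwoOf K : Set G) :=
    ⟨huO, Subgroup.centralizer_le (SetLike.coe_subset_coe.mpr hKR') huc⟩
  have h0 := Subgroup.mem_centralizer_iff.mp (hbot ⟨hmem, hu2⟩) x (hLK hx)
  -- conjugating u by x gives back u, so x * x fixes v
  apply hvx
  refine H69_odd_fix hxo ?_
  have h1 : x * u * x⁻¹ = u := by rw [h0, mul_inv_cancel_right]
  have h2 : x * u * x⁻¹ = (x * v * x⁻¹) * ((x * x) * v * (x * x)⁻¹) := by rw [hu]; group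
  rw [h2, hu, hvv.eq] at h1
  exact mul_inv_eq_iff_eq_mul.mp (mul_left_cancel h1)


/-- Let G be a non-abelian finite simple QTKE-group and T a Sylow 2-subgroup of G, and let L be a member of ℒ_f(G, T) (a member of ℒ(G, T) that lies in 𝒳 — L ≠ 1, L = O²(L), F*(L) = O₂(L) — and acts nontrivially on Ω₁(Z(O₂(L)))). Then (1) every member K of ℒ(G, T) containing L is again in ℒ_f(G, T) (a sharper form of (1) also compares the modules [Ω₁(Z(R)), L] and [Ω₁(Z(R')), K] for suitable 2-subgroups R, R'; that comparison is not included); and (2) if L is maximal under inclusion among the members of ℒ_f(G, T), then L is a maximal member of ℒ(G, T), hence a member of ℒ_f*(G, T). -/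
theorem result {G : Type*} [Group G] [Finite G] [IsSimpleGroup G]
    (hG : ¬ IsMulCommutative G) (hQ : Cfsg.IsQTKE G) (T : Sylow 2 G) (L : Subgroup G)
    (hL : L ∈ Cfsg.calLf (T : Subgroup G)) :
    (∀ K ∈ Cfsg.calL (T : Subgroup G), L ≤ K → K ∈ Cfsg.calLf (T : Subgroup G)) ∧
    ((∀ K ∈ Cfsg.calLf (T : Subgroup G), L ≤ K → K = L) → L ∈ Cfsg.calLfMax (T : Subgroup G)) := by
  refine ⟨fun K hK hLK => H69_up hQ.2.2 T L hL K hK hLK, fun hmax => ⟨⟨hL.1, fun K hK hLK => ?_⟩, hL.2⟩⟩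
  exact hmax K (H69_up hQ.2.2 T L hL K hK hLK) hLK

end Cfsg.Agent.S1851
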