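import Cfsg.Statements.S1892
import Cfsg.Agent.H1.Cores
import Cfsg.Agent.H10.PSolvable

set_option autoImplicit false
open Cfsg
open scoped commutatorElement

namespace Cfsg.Agent.S1892

/-- Let S be a finite p-solvable group with no nontrivial normal subgroup of order prime to p, A a p-subgroup of S, and Q a nontrivial A-invariant subgroup of order prime to p with [A, Q] = Q. Then the commutator [O_p(S), A, Q] is nontrivial. -/
theorem result {S : Type*} [Group S] [Finite S] {p : ℕ} [Fact p.Prime]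
    (hS : Cfsg.IsPSolvable p S) (hred : Cfsg.pPrimeCore p S = ⊥)
    (A Q : Subgroup S) (hA : IsPGroup p A) (hQ : ¬ p ∣ Nat.card Q) (hQ1 : Q ≠ ⊥)
    (hinv : ∀ a ∈ A, ∀ x ∈ Q, a * x * a⁻¹ ∈ Q) (hAQ : ⁅A, Q⁆ = Q) :
    ⁅⁅Cfsg.pCore p S, A⁆, Q⁆ ≠ ⊥ := by
  intro hbot
  set V := Cfsg.pCore p S with hV
  haveI : V.Normal := H1.pCore_normal' p S
  have hVp : IsPGroup p ↥V := H1.isPGroup_pCore p S
  set C : Subgroup S := V ⊓ Subgroup.centralizer (Q : Set S)
  have hWC : ∀ x ∈ V, ∀ a ∈ A, ∃ c ∈ C, a * x * a⁻¹ = c * x := by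
    intro x hx a ha
    refine ⟨⁅a, x⁆, ⟨?_, ?_⟩, by simp [commutatorElement_def]⟩
    · exact V.mul_mem (by simpa [mul_assoc] using Subgroup.Normal.conj_mem inferInstance x hx a) (V.inv_mem hx)
    · refine (Subgroup.commutator_eq_bot_iff_le_centralizer.mp hbot) ?_
      rw [← commutatorElement_inv]
      exact Subgroup.inv_mem _ (Subgroup.commutator_mem_commutator hx ha)
  have hCA : ∀ a ∈ A, ∀ c ∈ C, a * c * a⁻¹ ∈ C := by
    intro a ha c hc
    refine ⟨Subgroup.Normal.conj_mem inferInstance c hc.1 a, fun q hq => ?_⟩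
    have h := hc.2 (a⁻¹ * q * a) (by simpa using hinv a⁻¹ (A.inv_mem ha) q hq)
    calc q * (a * c * a⁻¹) = a * ((a⁻¹ * q * a) * c) * a⁻¹ := by simp [mul_assoc]
      _ = a * (c * (a⁻¹ * q * a)) * a⁻¹ := by rw [h]
      _ = a * c * a⁻¹ * q := by simp [mul_assoc]
  have hcomm : ∀ q ∈ Q, ∀ c ∈ C, q * c * q⁻¹ = c := fun q hq c hc => by rw [hc.2 q hq, mul_inv_cancel_right]
  -- the elements of `Q` fixing all cosets of `C` in `V`
  let R : Subgroup S :=
    { carrier := {q | q ∈ Q ∧ ∀ x ∈ V, ∃ c ∈ C, q * x * q⁻¹ = c * x}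
      one_mem' := ⟨Q.one_mem, fun x _ => ⟨1, C.one_mem, by simp⟩⟩
      mul_mem' := by
        rintro q r ⟨hq, hq'⟩ ⟨hr, hr'⟩
        refine ⟨Q.mul_mem hq hr, fun x hx => ?_⟩
        obtain ⟨c, hc, hcx⟩ := hr' x hx
        obtain ⟨d, hd, hdx⟩ := hq' x hx
        refine ⟨c * d, C.mul_mem hc hd, ?_⟩
        calc q * r * x * (q * r)⁻¹ = q * (r * x * r⁻¹) * q⁻¹ := by simp [mul_assoc]
          _ = (q * c * q⁻¹) * (q * x * q⁻¹) := by rw [hcx]; simp [mul_assoc]
          _ = c * d * x := by rw [hcomm q hq c hc, hdx, mul_assoc]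
      inv_mem' := by
        rintro q ⟨hq, hq'⟩
        refine ⟨Q.inv_mem hq, fun x hx => ?_⟩
        obtain ⟨d, hd, hdx⟩ := hq' x hx
        refine ⟨d⁻¹, C.inv_mem hd, ?_⟩
        rw [inv_inv]
        have h2 := hcomm q⁻¹ (Q.inv_mem hq) d hd
        rw [inv_inv] at h2
        calc q⁻¹ * x * q = (q⁻¹ * d⁻¹ * q) * (q⁻¹ * (d * x) * q) := by simp [mul_assoc]
          _ = d⁻¹ * x := by
              rw [← hdx, show q⁻¹ * d⁻¹ * q = (q⁻¹ * d * q)⁻¹ by simp [mul_assoc], h2]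
              simp [mul_assoc] }
  have hQR : Q ≤ R := by
    refine le_of_eq_of_le hAQ.symm ?_
    rw [Subgroup.commutator_le]
    intro a ha q hq
    refine ⟨?_, fun x hx => ?_⟩
    · rw [commutatorElement_def]; exact Q.mul_mem (hinv a ha q hq) (Q.inv_mem hq)
    have hy : q⁻¹ * x * q ∈ V := by simpa using Subgroup.Normal.conj_mem inferInstance x hx q⁻¹
    obtain ⟨c, hc, hcy⟩ := hWC _ hy a⁻¹ (A.inv_mem ha)
    obtain ⟨d, hd, hdx⟩ := hWC x hx a ha
    refine ⟨a * c * a⁻¹ * d, C.mul_mem (hCA a ha c hc) hd, ?_⟩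
    rw [inv_inv] at hcy
    calc ⁅a, q⁆ * x * ⁅a, q⁆⁻¹ = a * (q * (a⁻¹ * (q⁻¹ * x * q) * a) * q⁻¹) * a⁻¹ := by
          simp [commutatorElement_def, mul_assoc]
      _ = a * ((q * c * q⁻¹) * x) * a⁻¹ := by rw [hcy]; simp [mul_assoc]
      _ = (a * c * a⁻¹) * (a * x * a⁻¹) := by rw [hcomm q hq c hc]; simp [mul_assoc]
      _ = _ := by rw [hdx, ← mul_assoc]
  apply hQ1
  rw [eq_bot_iff]
  intro q hq
  have hqC : q ∈ Subgroup.centralizer (V : Set S) := by
    intro x hx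
    obtain ⟨c, hc, hcx⟩ := (hQR hq).2 x hx
    have hpow : ∀ n : ℕ, q ^ n * x * (q ^ n)⁻¹ = c ^ n * x := by
      intro n
      induction n with
      | zero => simp
      | succ n ih =>
        rw [pow_succ', mul_inv_rev]
        calc q * q ^ n * x * ((q ^ n)⁻¹ * q⁻¹) = q * (q ^ n * x * (q ^ n)⁻¹) * q⁻¹ := by simp [mul_assoc]
          _ = q * c ^ n * q⁻¹ * (q * x * q⁻¹) := by rw [ih]; simp [mul_assoc]
          _ = c ^ (n + 1) * x := by rw [hcomm q hq _ (C.pow_mem hc n), hcx, pow_succ, mul_assoc]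
    have h1 := hpow (orderOf q)
    rw [pow_orderOf_eq_one] at h1
    have h2 : c ^ orderOf q = 1 := by simpa using h1.symm
    obtain ⟨k, hk⟩ := hVp ⟨c, hc.1⟩
    have hk' : c ^ p ^ k = 1 := by simpa using congrArg Subtype.val hk
    have hcop : Nat.gcd (orderOf q) (p ^ k) = 1 := by
      apply Nat.Coprime.pow_right
      rw [Nat.coprime_comm, (Fact.out : p.Prime).coprime_iff_not_dvd]
      exact fun h => hQ (h.trans (Q.orderOf_dvd_natCard hq))
    have hc1 : c = 1 := by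
      rw [← orderOf_eq_one_iff, ← Nat.dvd_one, ← hcop]
      exact Nat.dvd_gcd (orderOf_dvd_of_pow_eq_one h2) (orderOf_dvd_of_pow_eq_one hk')
    rw [hc1, one_mul, mul_inv_eq_iff_eq_mul] at hcx
    exact hcx.symm
  have hqV : q ∈ V := H10.centralizer_pCore_le hS hred hqC
  obtain ⟨k, hk⟩ := hVp ⟨q, hqV⟩
  have hk' : q ^ p ^ k = 1 := by simpa using congrArg Subtype.val hk
  rw [Subgroup.mem_bot, ← orderOf_eq_one_iff]
  obtain ⟨j, hj, hjq⟩ := (Nat.dvd_prime_pow (Fact.out : p.Prime)).mp (orderOf_dvd_of_pow_eq_one hk')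
  rcases Nat.eq_zero_or_pos j with rfl | hjp
  · simpa using hjq
  · exfalso
    apply hQ
    exact (dvd_pow_self p hjp.ne').trans (hjq ▸ Q.orderOf_dvd_natCard hq)

end Cfsg.Agent.S1892
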