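import Cfsg.Statements.S1893
import Cfsg.Agent.H71.HallSCN

set_option autoImplicit false
open Cfsg

namespace Cfsg.Agent.S1893

/-- Let S be a finite solvable group, π a set of primes containing neither 2 nor 3, H a Hall π-subgroup of S, and A a self-centralizing normal subgroup of the Fitting subgroup F(H). Then C_S(A) = A × D for a normal subgroup D of C_S(A) whose order has no prime divisor in π. -/
theorem result {S : Type*} [Group S] [Finite S] [Group.IsSolvable S]
    (π : Set ℕ) (h2 : 2 ∉ π) (h3 : 3 ∉ π) (H : Subgroup S) (hH : Cfsg.IsPiHall π H)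
    (A : Subgroup S) (hA : Cfsg.IsSCN ((Cfsg.fittingSubgroup H).map H.subtype) A) :
    ∃ D : Subgroup S, D ≤ Subgroup.centralizer (A : Set S) ∧
      (∀ c ∈ Subgroup.centralizer (A : Set S), ∀ d ∈ D, c * d * c⁻¹ ∈ D) ∧
      A ⊓ D = ⊥ ∧ A ⊔ D = Subgroup.centralizer (A : Set S) ∧
      ∀ q : ℕ, q.Prime → q ∣ Nat.card D → q ∉ π := by
  set C := Subgroup.centralizer (A : Set S)
  have hAC : A ≤ C := fun a ha => (hA.2.2.symm ▸ ha : a ∈ _ ⊓ C).2
  set A' := A.subgroupOf C
  have hcen : A' ≤ Subgroup.center C := fun a ha => Subgroup.mem_center_iff.mpr fun g =>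
    Subtype.ext (Subgroup.mem_centralizer_iff.mp g.2 a ha).symm
  haveI : A'.Normal := ⟨fun a ha g => by
    rw [Subgroup.mem_center_iff.mp (hcen ha) g, mul_inv_cancel_right]; exact ha⟩
  have hidx : ∀ q : ℕ, q.Prime → q ∈ π → ¬ q ∣ A'.index := by
    intro q hq hqπ hd
    haveI := Fact.mk hq
    obtain ⟨Q⟩ := (inferInstance : Nonempty (Sylow q C))
    refine Q.not_dvd_index' (by exact Subgroup.index_ne_zero_of_finite) (hd.trans (Subgroup.index_dvd_of_le fun z hz => ?_))
    obtain ⟨k, hk⟩ := IsPGroup.iff_orderOf.mp Q.isPGroup' ⟨z, hz⟩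
    rw [Subgroup.orderOf_mk, ← Subgroup.orderOf_coe] at hk
    exact H71.mem_scn_of_centralizes π h2 h3 H hH A hA hqπ hk z.2
  have hcop : (Nat.card A').Coprime A'.index := by
    refine Nat.coprime_of_dvd fun r hr h1 h2' => hidx r hr ?_ h2'
    rw [Nat.card_congr (Subgroup.subgroupOfEquivOfLe hAC).toEquiv] at h1
    exact hH.1 r hr (h1.trans (Subgroup.card_dvd_of_le (hA.1.trans (Subgroup.map_subtype_le _))))
  obtain ⟨K, hK⟩ := Subgroup.exists_right_complement'_of_coprime hcop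
  refine ⟨K.map C.subtype, Subgroup.map_subtype_le _, ?_, ?_, ?_, ?_⟩
  · rintro c hc _ ⟨d, hd, rfl⟩
    obtain ⟨⟨a, k⟩, hak⟩ := hK.2 ⟨c, hc⟩
    refine ⟨(k : C) * d * (k : C)⁻¹, K.mul_mem (K.mul_mem k.2 hd) (K.inv_mem k.2), ?_⟩
    have e : ((⟨c, hc⟩ : C)) * d * (⟨c, hc⟩ : C)⁻¹ = (k : C) * d * (k : C)⁻¹ := by
      rw [← hak, mul_inv_rev]
      calc (a : C) * k * d * ((k : C)⁻¹ * (a : C)⁻¹) = (a : C) * ((k : C) * d * (k : C)⁻¹) * (a : C)⁻¹ := by group
        _ = (k : C) * d * (k : C)⁻¹ := by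
          rw [← Subgroup.mem_center_iff.mp (hcen a.2) ((k : C) * d * (k : C)⁻¹), mul_inv_cancel_right]
    exact congrArg Subtype.val e.symm
  · rw [← Subgroup.map_subgroupOf_eq_of_le hAC, ← Subgroup.map_inf _ _ _ C.subtype_injective,
      hK.disjoint.eq_bot, Subgroup.map_bot]
  · rw [← Subgroup.map_subgroupOf_eq_of_le hAC, ← Subgroup.map_sup, hK.sup_eq_top,
      ← MonoidHom.range_eq_map, Subgroup.range_subtype]
  · intro q hq hd hqπ
    rw [Subgroup.card_map_of_injective C.subtype_injective, ← hK.symm.index_eq_card] at hd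
    exact hidx q hq hqπ hd

end Cfsg.Agent.S1893
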