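import Cfsg.Statements.S1894
import Cfsg.Agent.H6.Basic

set_option autoImplicit false
open Cfsg

namespace Cfsg.Agent.S1894

/-- Let P be a finite p-group, A a normal subgroup of P and B an abelian subgroup of A that is normal in P. Then some subgroup C of A containing B is normal in P and is self-centralizing and normal in A (C ∈ SCN(A)). -/
theorem result {P : Type*} [Group P] [Finite P] {p : ℕ} [Fact p.Prime] (hP : IsPGroup p P)
    (A : Subgroup P) [A.Normal] (B : Subgroup P) [B.Normal] (hBA : B ≤ A) (hB : IsMulCommutative B) :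
    ∃ C : Subgroup P, C.Normal ∧ B ≤ C ∧ Cfsg.IsSCN A C := by
  obtain ⟨C, hC, hmax⟩ := (Set.toFinite {C : Subgroup P | B ≤ C ∧ C ≤ A ∧ C.Normal ∧ IsMulCommutative C}).exists_maximal
    ⟨B, le_rfl, hBA, inferInstance, hB⟩
  obtain ⟨hBC, hCA, hCn, hCc⟩ := hC
  haveI := hCn
  have hle : C ≤ A ⊓ Subgroup.centralizer (C : Set P) :=
    le_inf hCA (Subgroup.le_centralizer_iff_isMulCommutative.mpr hCc)
  refine ⟨C, hCn, hBC, hCA, by rw [Subgroup.normalizer_eq_top]; exact le_top, ?_⟩
  by_contra hne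
  haveI : (A ⊓ Subgroup.centralizer (C : Set P)).Normal := inferInstance
  obtain ⟨K, hKn, hCK, hK, hcard⟩ := H6.exists_normal_between hP (lt_of_le_of_ne hle (Ne.symm hne))
  have hne' : ¬ K ≤ C := fun h => by
    have h1 := Subgroup.card_le_of_le h
    have h2 : 0 < Nat.card C := Nat.card_pos
    have h3 : 1 < p := (Fact.out : p.Prime).one_lt
    nlinarith
  obtain ⟨x, hxK, hxC⟩ := SetLike.not_le_iff_exists.mp hne'
  have hK2 := H6.sup_zpowers_eq_of_card hCK hcard hxK hxC
  have hKc : IsMulCommutative K := hK2 ▸ H6.isMulCommutative_sup_zpowers hCc (hK hxK).2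
  exact hne' (hmax ⟨hBC.trans hCK, hK.trans inf_le_left, hKn, hKc⟩ hCK)

end Cfsg.Agent.S1894
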