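import Cfsg.Statements.S1896
import Cfsg.Agent.H87.Stability
import Cfsg.Agent.H6.Basic
import Cfsg.Agent.H31.Basic
import Cfsg.Agent.H37.Torus
import Cfsg.Agent.H83.TrivAction

set_option autoImplicit false
open Cfsg

namespace Cfsg.Agent.S1896

open scoped commutatorElement

/-- The subgroup of squares of a commutative group. -/
def sqSub {Q : Type*} [Group Q] (hc : ∀ u v : Q, u * v = v * u) : Subgroup Q where
  carrier := {z | ∃ g, g ^ 2 = z}
  one_mem' := ⟨1, one_pow 2⟩
  mul_mem' := fun {u v} ⟨g, hg⟩ ⟨g', hg'⟩ =>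
    ⟨g * g', by rw [(show Commute g g' from hc _ _).mul_pow, hg, hg']⟩
  inv_mem' := fun {u} ⟨g, hg⟩ => ⟨g⁻¹, by rw [inv_pow, hg]⟩

theorem not_two_dvd_fix {K : Type*} [Group K] [Finite K] (hK : IsPGroup 2 K) [IsCyclic K] (φ : MulAut K)
    (h3 : φ ^ 3 = 1) : φ = 1 := by
  haveI : Fact (Nat.Prime 2) := ⟨Nat.prime_two⟩
  have hQ : Nat.card (K ⧸ frattini K) ≤ 2 := by
    obtain ⟨g, hg⟩ := IsCyclic.exists_generator (α := K)
    have hle : ∀ q : K ⧸ frattini K, q = 1 ∨ q = QuotientGroup.mk g := by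
      intro q
      obtain ⟨x, rfl⟩ := QuotientGroup.mk_surjective q
      obtain ⟨i, rfl⟩ := hg x
      have hsq : (QuotientGroup.mk g : K ⧸ frattini K) ^ (2 : ℤ) = 1 := by
        rw [zpow_ofNat, ← QuotientGroup.mk_pow]
        exact (QuotientGroup.eq_one_iff _).mpr (H6.pow_prime_mem_frattini hK g)
      show (QuotientGroup.mk (g ^ i) : K ⧸ frattini K) = 1 ∨ _
      rw [QuotientGroup.mk_zpow]
      obtain ⟨j, rfl | rfl⟩ := Int.even_or_odd' i
      · left; rw [zpow_mul, hsq, one_zpow]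
      · right; rw [zpow_add, zpow_mul, hsq, one_zpow, one_mul, zpow_one]
    classical
    haveI := Fintype.ofFinite (K ⧸ frattini K)
    rw [Nat.card_eq_fintype_card, ← Finset.card_univ]
    refine le_trans (Finset.card_le_card (t := {1, QuotientGroup.mk g}) fun q _ => ?_) Finset.card_le_two
    rcases hle q with h | h <;> simp [h]
  have htriv : ∀ ψ : MulAut K, ∀ x : K, x⁻¹ * ψ x ∈ frattini K := by
    intro ψ x
    by_cases hx : x ∈ frattini K
    · refine mul_mem (inv_mem hx) ?_
      have := (Subgroup.characteristic_iff_map_eq.mp (inferInstance : (frattini K).Characteristic)) ψ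
      exact this ▸ ⟨x, hx, rfl⟩
    · have hψx : ψ x ∉ frattini K := by
        intro h
        apply hx
        have := (Subgroup.characteristic_iff_map_eq.mp (inferInstance : (frattini K).Characteristic)) ψ.symm
        exact this ▸ ⟨ψ x, h, ψ.symm_apply_apply x⟩
      by_contra hne
      have h3 : ({1, QuotientGroup.mk x, QuotientGroup.mk (ψ x)} : Set (K ⧸ frattini K)).ncard = 3 := by
        rw [Set.ncard_eq_three]
        exact ⟨_, _, _, fun h => hx ((QuotientGroup.eq_one_iff x).mp h.symm),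
          fun h => hψx ((QuotientGroup.eq_one_iff _).mp h.symm), fun h => hne (QuotientGroup.eq.mp h), rfl⟩
      have := Set.ncard_le_ncard (Set.subset_univ ({1, QuotientGroup.mk x, QuotientGroup.mk (ψ x)} : Set (K ⧸ frattini K)))
      rw [Set.ncard_univ, h3] at this
      omega
  obtain ⟨k, hk⟩ := H87.isPGroup_of_trivial_mod_frattini hK (Subgroup.zpowers φ) (fun α _ x => htriv α x)
    ⟨φ, Subgroup.mem_zpowers φ⟩
  have hk' : φ ^ 2 ^ k = 1 := congrArg Subtype.val hk
  have := (orderOf_dvd_of_pow_eq_one hk')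
  have h33 := orderOf_dvd_of_pow_eq_one h3
  exact orderOf_eq_one_iff.mp (Nat.eq_one_of_dvd_coprimes (Nat.Coprime.pow_left k (by norm_num)) this h33)

theorem main {X : Type*} [Group X] [Finite X] (hX : IsPGroup 2 X)
    (hm : Cfsg.IsMetacyclic X) (hA : ¬ IsPGroup 2 (MulAut X)) :
    Nonempty (X ≃* QuaternionGroup 2) ∨
      ∃ n : ℕ, Nonempty (X ≃* Multiplicative (ZMod (2 ^ n)) × Multiplicative (ZMod (2 ^ n))) := by
  classical
  haveI : Fact (Nat.Prime 2) := ⟨Nat.prime_two⟩
  obtain ⟨N, hNn, hNc, hQc⟩ := hm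
  haveI := hNn
  -- an automorphism of odd prime order
  obtain ⟨r, hr, hr2, α, hα⟩ : ∃ r, r.Prime ∧ r ≠ 2 ∧ ∃ α : MulAut X, orderOf α = r := by
    by_contra h
    push_neg at h
    refine hA (IsPGroup.of_card (n := (Nat.card (MulAut X)).primeFactorsList.length) ?_)
    refine Nat.eq_prime_pow_of_unique_prime_dvd Nat.card_pos.ne' fun {d} hd hdd => ?_
    by_contra hd2
    haveI := Fact.mk hd
    obtain ⟨α, hα⟩ := exists_prime_orderOf_dvd_card' d hdd
    exact h d hd hd2 α hα
  set Φ := frattini X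
  set ρ := QuotientGroup.mk' Φ
  have hΦα : ∀ (ψ : MulAut X) (x : X), ψ x ∈ Φ → x ∈ Φ := by
    intro ψ x h
    have := (Subgroup.characteristic_iff_map_eq.mp (inferInstance : Φ.Characteristic)) ψ.symm
    exact this ▸ ⟨ψ x, h, ψ.symm_apply_apply x⟩
  obtain ⟨⟨a, haN⟩, ha⟩ := IsCyclic.exists_generator (α := N)
  obtain ⟨bq, hbq⟩ := IsCyclic.exists_generator (α := X ⧸ N)
  obtain ⟨b, rfl⟩ := QuotientGroup.mk_surjective bq
  have hgen : Subgroup.closure ({a, b} : Set X) = ⊤ := by
    rw [eq_top_iff]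
    intro x _
    obtain ⟨i, hi⟩ := hbq (QuotientGroup.mk x)
    simp only at hi
    rw [← QuotientGroup.mk_zpow, QuotientGroup.eq] at hi
    obtain ⟨j, hj⟩ := ha ⟨_, hi⟩
    have hj' : a ^ j = (b ^ i)⁻¹ * x := congrArg Subtype.val hj
    have hxe : x = b ^ i * a ^ j := by rw [hj', mul_inv_cancel_left]
    rw [hxe]
    exact mul_mem (zpow_mem (Subgroup.subset_closure (by simp)) _) (zpow_mem (Subgroup.subset_closure (by simp)) _)
  have hsq : ∀ x : X, ρ x * ρ x = 1 := fun x => by
    rw [← map_mul]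
    exact (QuotientGroup.eq_one_iff _).mpr (by simpa [pow_two] using H6.pow_prime_mem_frattini hX x)
  have hQcomm : ∀ u v : X, ρ u * ρ v = ρ v * ρ u := by
    intro u v
    have h1 : (ρ u)⁻¹ = ρ u := inv_eq_of_mul_eq_one_right (hsq u)
    have h2 : (ρ v)⁻¹ = ρ v := inv_eq_of_mul_eq_one_right (hsq v)
    have h3 : (ρ (u * v))⁻¹ = ρ (u * v) := inv_eq_of_mul_eq_one_right (hsq (u * v))
    rw [map_mul, mul_inv_rev, h1, h2] at h3
    exact h3.symm
  have hQ4 : Nat.card (X ⧸ Φ) ≤ 4 := by
    have hall : ∀ q : X ⧸ Φ, q ∈ ({1, ρ a, ρ b, ρ a * ρ b} : Finset (X ⧸ Φ)) := by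
      intro q
      obtain ⟨x, rfl⟩ := QuotientGroup.mk'_surjective Φ q
      have hx : x ∈ Subgroup.closure ({a, b} : Set X) := hgen ▸ Subgroup.mem_top x
      induction hx using Subgroup.closure_induction with
      | mem y hy =>
        rcases hy with rfl | rfl <;> simp [ρ]
      | one => simp
      | mul u v _ _ hu hv =>
        simp only [Finset.mem_insert, Finset.mem_singleton] at hu hv ⊢
        rw [map_mul]
        have e1 := hsq a
        have e2 := hsq b
        have e3 := hQcomm b a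
        have f1 : ∀ z, ρ a * (ρ a * z) = z := fun z => by rw [← mul_assoc, e1, one_mul]
        have f2 : ∀ z, ρ b * (ρ b * z) = z := fun z => by rw [← mul_assoc, e2, one_mul]
        have f3 : ∀ z, ρ b * (ρ a * z) = ρ a * (ρ b * z) := fun z => by rw [← mul_assoc, e3, mul_assoc]
        rcases hu with h | h | h | h <;> rcases hv with h' | h' | h' | h' <;> rw [h, h'] <;>
          simp [mul_assoc, e1, e2, e3, f1, f2, f3]
      | inv u _ hu =>
        rw [map_inv, inv_eq_of_mul_eq_one_right (hsq u)]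
        exact hu
    haveI := Fintype.ofFinite (X ⧸ Φ)
    rw [Nat.card_eq_fintype_card, ← Finset.card_univ]
    exact le_trans (Finset.card_le_card fun q _ => hall q) Finset.card_le_four
  have hnotfix : ¬ ∀ x : X, x⁻¹ * α x ∈ Φ := by
    intro h
    have hp : ∀ ψ ∈ Subgroup.zpowers α, ∀ x : X, x⁻¹ * ψ x ∈ Φ := by
      intro ψ hψ
      rw [Subgroup.zpowers_eq_closure] at hψ
      induction hψ using Subgroup.closure_induction with
      | mem y hy => rw [Set.mem_singleton_iff.mp hy]; exact h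
      | one => intro x; simp
      | mul u v _ _ hu hv =>
        intro x
        have := mul_mem (hv x) (hu (v x))
        simpa [mul_assoc] using this
      | inv u _ hu =>
        intro x
        have := inv_mem (hu (u⁻¹ x))
        simpa using this
    obtain ⟨k, hk⟩ := H87.isPGroup_of_trivial_mod_frattini hX (Subgroup.zpowers α) hp ⟨α, Subgroup.mem_zpowers α⟩
    have hk' : α ^ 2 ^ k = 1 := congrArg Subtype.val hk
    have h2 := hα ▸ orderOf_dvd_of_pow_eq_one hk'
    exact hr2 ((Nat.prime_dvd_prime_iff_eq hr Nat.prime_two).mp (hr.dvd_of_dvd_pow h2))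
  push_neg at hnotfix
  obtain ⟨x₀, hx₀⟩ := hnotfix
  have hx₀Φ : x₀ ∉ Φ := by
    intro h
    refine hx₀ (mul_mem (inv_mem h) ?_)
    have := (Subgroup.characteristic_iff_map_eq.mp (inferInstance : Φ.Characteristic)) α
    exact this ▸ ⟨x₀, h, rfl⟩
  -- the permutation induced on the quotient
  set f : X ⧸ Φ → X ⧸ Φ := fun q => QuotientGroup.map Φ Φ α.toMonoidHom (fun x hx => by
    have := (Subgroup.characteristic_iff_map_eq.mp (inferInstance : Φ.Characteristic)) α
    show α x ∈ Φ
    exact this ▸ ⟨x, hx, rfl⟩) q with hf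
  have hfρ : ∀ x, f (ρ x) = ρ (α x) := fun x => rfl
  have hfit : ∀ (i : ℕ) (x : X), f^[i] (ρ x) = ρ ((α ^ i) x) := by
    intro i
    induction i with
    | zero => intro x; simp
    | succ i ih => intro x; rw [Function.iterate_succ_apply, hfρ, ih, pow_succ]; rfl
  have hper : Function.IsPeriodicPt f r (ρ x₀) := by
    show f^[r] (ρ x₀) = ρ x₀
    rw [hfit, ← hα, pow_orderOf_eq_one]; rfl
  have hmp : Function.minimalPeriod f (ρ x₀) = r := by
    rcases hr.eq_one_or_self_of_dvd _ hper.minimalPeriod_dvd with h | h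
    · exfalso
      rw [Function.minimalPeriod_eq_one_iff_isFixedPt] at h
      exact hx₀ (QuotientGroup.eq.mp (show ρ x₀ = ρ (α x₀) from (hfρ x₀ ▸ h.eq).symm))
    · exact h
  have hr3 : r = 3 := by
    have hinj : Set.InjOn (fun i => f^[i] (ρ x₀)) (Finset.range r : Set ℕ) := fun i hi j hj h =>
      Function.iterate_injOn_Iio_minimalPeriod (by simpa [hmp] using hi) (by simpa [hmp] using hj) h
    haveI := Fintype.ofFinite (X ⧸ Φ)
    have h1 : (Finset.range r).card ≤ (Finset.univ : Finset (X ⧸ Φ)).card - 1 := by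
      rw [← Finset.card_erase_of_mem (Finset.mem_univ (1 : X ⧸ Φ))]
      refine Finset.card_le_card_of_injOn (fun i => f^[i] (ρ x₀)) (fun i _ => ?_) hinj
      refine Finset.mem_erase.mpr ⟨fun h => hx₀Φ ?_, Finset.mem_univ _⟩
      change f^[i] (ρ x₀) = 1 at h
      rw [hfit] at h
      exact hΦα _ _ ((QuotientGroup.eq_one_iff _).mp h)
    rw [Finset.card_range, Finset.card_univ, ← Nat.card_eq_fintype_card] at h1
    have := hr.two_le
    omega
  subst hr3
  have hα3 : ∀ x, α (α (α x)) = x := fun x => by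
    have : (α ^ 3) x = x := by rw [← hα, pow_orderOf_eq_one]; rfl
    simpa [pow_succ] using this
  have horb : ∀ q : X ⧸ Φ, q ≠ 1 → q = ρ x₀ ∨ q = ρ (α x₀) ∨ q = ρ (α (α x₀)) := by
    intro q hq
    haveI := Fintype.ofFinite (X ⧸ Φ)
    have hinj : Set.InjOn (fun i => f^[i] (ρ x₀)) (Finset.range 3 : Set ℕ) := fun i hi j hj h =>
      Function.iterate_injOn_Iio_minimalPeriod (by simpa [hmp] using hi) (by simpa [hmp] using hj) h
    have hsub : (Finset.range 3).image (fun i => f^[i] (ρ x₀)) ⊆ Finset.univ.erase 1 := by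
      intro z hz
      obtain ⟨i, -, rfl⟩ := Finset.mem_image.mp hz
      refine Finset.mem_erase.mpr ⟨fun h => hx₀Φ ?_, Finset.mem_univ _⟩
      change f^[i] (ρ x₀) = 1 at h
      rw [hfit] at h
      exact hΦα _ _ ((QuotientGroup.eq_one_iff _).mp h)
    have heq := Finset.eq_of_subset_of_card_le hsub (by
      rw [Finset.card_image_of_injOn hinj, Finset.card_range, Finset.card_erase_of_mem (Finset.mem_univ _),
        Finset.card_univ, ← Nat.card_eq_fintype_card]
      omega)
    have hmem := heq.ge (Finset.mem_erase.mpr ⟨hq, Finset.mem_univ q⟩)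
    obtain ⟨i, hi, rfl⟩ := Finset.mem_image.mp hmem
    rw [Finset.mem_range] at hi
    interval_cases i
    · left; rfl
    · right; left; rfl
    · right; right; rfl
  have haΦ : a ∉ Φ := by
    intro h
    have h1 : Subgroup.zpowers b ⊔ Φ = ⊤ := top_le_iff.mp (hgen ▸ (Subgroup.closure_le _).mpr (by
      rintro y (rfl | rfl)
      · exact Subgroup.mem_sup_right h
      · exact Subgroup.mem_sup_left (Subgroup.mem_zpowers _)))
    have h2 := frattini_nongenerating h1
    obtain ⟨i, hi⟩ := (h2 ▸ Subgroup.mem_top x₀ : x₀ ∈ Subgroup.zpowers b)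
    obtain ⟨j, hj⟩ := (h2 ▸ Subgroup.mem_top (α x₀) : α x₀ ∈ Subgroup.zpowers b)
    refine hx₀ ?_
    rw [← QuotientGroup.eq_one_iff]
    show ρ (x₀⁻¹ * α x₀) = 1
    have hb : ∀ i : ℤ, ρ (b ^ i) = 1 ∨ ρ (b ^ i) = ρ b := by
      intro i
      have hb2 : ρ b ^ (2 : ℤ) = 1 := by rw [zpow_two]; exact hsq b
      obtain ⟨j, rfl | rfl⟩ := Int.even_or_odd' i
      · left; rw [map_zpow, zpow_mul, hb2, one_zpow]
      · right; rw [map_zpow, zpow_add, zpow_mul, hb2, one_zpow, one_mul, zpow_one]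
    have hne0 : ρ x₀ ≠ 1 := fun h => hx₀Φ ((QuotientGroup.eq_one_iff _).mp h)
    have hne1 : ρ (α x₀) ≠ 1 := fun h => hx₀Φ (hΦα _ _ ((QuotientGroup.eq_one_iff _).mp h))
    simp only at hi hj
    rw [← hi] at hne0
    rw [← hj] at hne1
    rw [map_mul, map_inv, ← hj, ← hi, (hb i).resolve_left hne0, (hb j).resolve_left hne1, inv_mul_cancel]
  have hmoved : ∀ x ∉ Φ, ρ (α x) ≠ ρ x := by
    intro x hx h
    have hq : ρ x ≠ 1 := fun h => hx ((QuotientGroup.eq_one_iff _).mp h)
    have hall : ρ (α x₀) = ρ x₀ := by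
      rcases horb _ hq with e | e | e
      · rw [← hfρ x₀, ← e, hfρ, h]
      · have h3 : f (f (f (ρ x₀))) = ρ x₀ := hper.eq
        rw [← hfρ x₀] at e
        have h4 : f (ρ x) = ρ x := h
        rw [e] at h4
        have h5 := congrArg f h4
        rw [h3] at h5
        rw [← hfρ x₀]
        exact (h5.trans h4).symm
      · have h3 : f (f (f (ρ x₀))) = ρ x₀ := hper.eq
        rw [← hfρ, ← hfρ x₀] at e
        have h4 : f (ρ x) = ρ x := h
        rw [e, h3] at h4
        rw [← hfρ x₀]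
        have h5 := congrArg f h4
        rw [h3] at h5
        exact h5
    exact hx₀ (QuotientGroup.eq.mp hall.symm)
  set β := α a
  set γ := α β
  have hgen2 : Subgroup.closure ({a, β} : Set X) = ⊤ := by
    refine frattini_nongenerating (eq_top_iff.mpr fun x _ => ?_)
    have h1 : ρ x ∈ (Subgroup.closure ({a, β} : Set X)).map ρ := by
      have hqa : ρ a ≠ 1 := fun h => haΦ ((QuotientGroup.eq_one_iff _).mp h)
      have hβ : ρ β ≠ 1 := fun h => haΦ (hΦα _ _ ((QuotientGroup.eq_one_iff _).mp h))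
      have hγ : ρ a * ρ β ≠ 1 := fun h => hmoved a haΦ (mul_left_cancel (h.trans (hsq a).symm))
      have hne : ({1, ρ a, ρ β, ρ a * ρ β} : Finset (X ⧸ Φ)).card = 4 := by
        have hab : ρ a ≠ ρ β := fun h => hmoved a haΦ h.symm
        rw [Finset.card_insert_of_notMem (by simp [Ne.symm hqa, Ne.symm hβ, Ne.symm hγ]),
          Finset.card_insert_of_notMem (by simp [hab, hβ]),
          Finset.card_insert_of_notMem (by simp [hqa]), Finset.card_singleton]
      haveI := Fintype.ofFinite (X ⧸ Φ)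
      have hmem : ρ x ∈ ({1, ρ a, ρ β, ρ a * ρ β} : Finset (X ⧸ Φ)) := by
        exact (Finset.eq_univ_of_card ({1, ρ a, ρ β, ρ a * ρ β} : Finset (X ⧸ Φ))
          (le_antisymm (Finset.card_le_univ _) (by rw [hne, ← Nat.card_eq_fintype_card]; exact hQ4))).symm ▸ Finset.mem_univ _
      simp only [Finset.mem_insert, Finset.mem_singleton] at hmem
      have m1 : ρ a ∈ (Subgroup.closure ({a, β} : Set X)).map ρ := ⟨a, Subgroup.subset_closure (by simp), rfl⟩
      have m2 : ρ β ∈ (Subgroup.closure ({a, β} : Set X)).map ρ := ⟨β, Subgroup.subset_closure (by simp), rfl⟩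
      rcases hmem with h | h | h | h <;> rw [h]
      · exact one_mem _
      · exact m1
      · exact m2
      · exact mul_mem m1 m2
    show x ∈ Subgroup.closure ({a, β} : Set X) ⊔ Φ
    rw [← QuotientGroup.ker_mk' Φ, ← Subgroup.comap_map_eq]
    exact h1
  -- the abelianisation
  set K := commutator X
  set π := QuotientGroup.mk' K
  have hAcomm : ∀ u v : X ⧸ K, u * v = v * u := by
    intro u v
    induction u using QuotientGroup.induction_on with | _ u => ?_
    induction v using QuotientGroup.induction_on with | _ v => ?_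
    rw [← QuotientGroup.mk_mul, ← QuotientGroup.mk_mul, QuotientGroup.eq]
    have : (u * v)⁻¹ * (v * u) = ⁅v⁻¹, u⁻¹⁆ := by simp [commutatorElement_def, mul_assoc]
    rw [this]
    exact Subgroup.commutator_mem_commutator (Subgroup.mem_top _) (Subgroup.mem_top _)
  set αA := QuotientGroup.congr K K α (Subgroup.characteristic_iff_map_eq.mp inferInstance α)
  have hαπ : ∀ x, αA (π x) = π (α x) := fun x => rfl
  set A := π a
  set B := π β
  have hB : αA A = B := rfl
  obtain ⟨m, hm⟩ : ∃ m, orderOf A = 2 ^ m := IsPGroup.iff_orderOf.mp (hX.to_quotient K) A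
  have hmB : orderOf B = 2 ^ m := by rw [← hB, MulEquiv.orderOf_eq, hm]
  have hAB : ∀ z : X ⧸ K, ∃ i j : ℤ, z = A ^ i * B ^ j := by
    intro z
    obtain ⟨x, rfl⟩ := QuotientGroup.mk'_surjective K z
    have hx : x ∈ Subgroup.closure ({a, β} : Set X) := hgen2 ▸ Subgroup.mem_top x
    induction hx using Subgroup.closure_induction with
    | mem y hy =>
      rcases hy with rfl | rfl
      · exact ⟨1, 0, by simp [A, π]⟩
      · exact ⟨0, 1, by simp [B, π]⟩
    | one => exact ⟨0, 0, by simp⟩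
    | mul u v _ _ hu hv =>
      obtain ⟨i, j, e⟩ := hu
      obtain ⟨i', j', e'⟩ := hv
      refine ⟨i + i', j + j', ?_⟩
      rw [map_mul, e, e', zpow_add, zpow_add, mul_assoc, mul_assoc, ← mul_assoc (B ^ j), hAcomm (B ^ j) (A ^ i'),
        mul_assoc]
    | inv u _ hu =>
      obtain ⟨i, j, e⟩ := hu
      exact ⟨-i, -j, by rw [map_inv, e, mul_inv_rev, zpow_neg, zpow_neg, hAcomm]⟩
  have hexp : ∀ z : X ⧸ K, z ^ 2 ^ m = 1 := by
    intro z
    obtain ⟨i, j, rfl⟩ := hAB z
    rw [(show Commute (A ^ i) (B ^ j) from hAcomm _ _).mul_pow, ← zpow_natCast, ← zpow_natCast (B ^ j),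
      zpow_comm, zpow_comm B, zpow_natCast, zpow_natCast, ← hm, pow_orderOf_eq_one, hm, ← hmB, pow_orderOf_eq_one]
    simp
  have hm1 : 1 ≤ m := by
    rcases Nat.eq_zero_or_pos m with h | h
    · exfalso
      rw [h, pow_zero, orderOf_eq_one_iff] at hm
      exact haΦ (H6.commutator_le_frattini hX ((QuotientGroup.eq_one_iff a).mp hm))
    · exact h
  set h := 2 ^ (m - 1) with hh
  have h2h : 2 * h = 2 ^ m := by rw [hh, ← pow_succ', show m - 1 + 1 = m by omega]
  have hhpos : 0 < h := by positivity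
  have hAh : A ^ h ≠ 1 := pow_ne_one_of_lt_orderOf (by omega) (by rw [hm, ← h2h]; omega)
  have hne : A ^ h ≠ B ^ h := by
    intro e
    have hstab : αA (A ^ h) = A ^ h := by rw [map_pow, hB, e]
    have hΦsq : Φ ≤ ((⊤ : Subgroup (X ⧸ K)).comap π ⊓ (sqSub hAcomm).comap π) := by
      refine H31.frattini_le_of_pow_mem Nat.prime_two _ ?_ ?_
      · intro u hu
        refine ⟨Subgroup.mem_top _, ?_⟩
        show π u ∈ sqSub hAcomm
        rw [show π u = 1 from (QuotientGroup.eq_one_iff u).mpr hu]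
        exact one_mem _
      · intro u
        exact ⟨Subgroup.mem_top _, ⟨π u, (map_pow π u 2).symm⟩⟩
    have hkey : ∀ x ∉ Φ, π x ^ h = A ^ h := by
      intro x hx
      have hq : ρ x ≠ 1 := fun e => hx ((QuotientGroup.eq_one_iff _).mp e)
      have hw : ∀ w : X, ρ x = ρ w → π w ^ h = A ^ h → π x ^ h = A ^ h := by
        intro w hw hwh
        obtain ⟨-, g, hg⟩ := hΦsq (QuotientGroup.eq.mp hw.symm)
        have hg' : g ^ 2 = π (w⁻¹ * x) := hg
        have : π x = π w * g ^ 2 := by rw [hg', ← map_mul, mul_inv_cancel_left]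
        rw [this, (show Commute (π w) (g ^ 2) from hAcomm _ _).mul_pow, hwh, ← pow_mul, h2h, hexp, mul_one]
      have hqa : ρ a ≠ 1 := fun e => haΦ ((QuotientGroup.eq_one_iff _).mp e)
      have hcases : ρ x = ρ a ∨ ρ x = ρ β ∨ ρ x = ρ γ := by
        have hc : ∀ u v : X ⧸ Φ, (u = ρ x₀ ∨ u = f (ρ x₀) ∨ u = f (f (ρ x₀))) →
            (v = ρ x₀ ∨ v = f (ρ x₀) ∨ v = f (f (ρ x₀))) → v = u ∨ v = f u ∨ v = f (f u) := by
          have h3 : f (f (f (ρ x₀))) = ρ x₀ := hper.eq
          rintro u v (rfl | rfl | rfl) (rfl | rfl | rfl) <;> simp [h3]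
        exact hc _ _ (horb _ hqa) (horb _ hq)
      rcases hcases with e | e | e
      · exact hw a e rfl
      · refine hw β e ?_
        show B ^ h = A ^ h
        rw [← hB, ← map_pow, hstab]
      · refine hw γ e ?_
        show (αA B) ^ h = A ^ h
        rw [← hB, ← map_pow, ← map_pow, hstab, hstab]
    have hxn : a⁻¹ * β ∉ Φ := fun e => hmoved a haΦ (QuotientGroup.eq.mpr e).symm
    have := hkey _ hxn
    rw [map_mul, map_inv] at this
    change (A⁻¹ * B) ^ h = A ^ h at this
    rw [(show Commute A⁻¹ B from hAcomm _ _).mul_pow, inv_pow, ← e, inv_mul_cancel] at this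
    exact hAh this.symm
  have hBh : B ^ h ≠ 1 := fun e => hAh (αA.injective (by rw [map_pow, hB, e, map_one]))
  have hinv : ∀ (C : X ⧸ K) (i : ℤ), orderOf C = 2 ^ m → (C ^ i) ^ 2 = 1 → C ^ i = 1 ∨ C ^ i = C ^ h := by
    intro C i hC hi
    have hd : ((2 ^ m : ℕ) : ℤ) ∣ i * 2 := by
      rw [← hC, orderOf_dvd_iff_zpow_eq_one, zpow_mul, zpow_two, ← pow_two]
      exact hi
    obtain ⟨l, hl⟩ := hd
    have hi' : i = (h : ℤ) * l := by
      have : ((2 ^ m : ℕ) : ℤ) = 2 * (h : ℤ) := by rw [← h2h]; push_cast; rfl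
      rw [this] at hl
      linarith
    have hC2 : C ^ ((h : ℤ) * 2) = 1 := by
      rw [show (h : ℤ) * 2 = ((2 ^ m : ℕ) : ℤ) by rw [← h2h]; push_cast; ring, zpow_natCast, ← hC, pow_orderOf_eq_one]
    obtain ⟨t, rfl | rfl⟩ := Int.even_or_odd' l
    · left
      rw [hi', show (h : ℤ) * (2 * t) = (h : ℤ) * 2 * t by ring, zpow_mul, hC2, one_zpow]
    · right
      rw [hi', show (h : ℤ) * (2 * t + 1) = (h : ℤ) * 2 * t + h by ring, zpow_add, zpow_mul, hC2, one_zpow,
        one_mul, zpow_natCast]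
  have hdisj : ∀ i j : ℤ, A ^ i = B ^ j → A ^ i = 1 := by
    intro i j e
    by_contra hne1
    obtain ⟨k, hk⟩ : ∃ k, orderOf (A ^ i) = 2 ^ k := IsPGroup.iff_orderOf.mp (hX.to_quotient K) _
    rcases k with _ | k
    · exact hne1 (orderOf_eq_one_iff.mp (by simpa using hk))
    have hu1 : (A ^ i) ^ 2 ^ k ≠ 1 := pow_ne_one_of_lt_orderOf (by positivity)
      (by rw [hk]; exact Nat.pow_lt_pow_right (by norm_num) (by omega))
    have hu2 : ((A ^ i) ^ 2 ^ k) ^ 2 = 1 := by rw [← pow_mul, ← pow_succ, ← hk, pow_orderOf_eq_one]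
    have eA : (A ^ i) ^ 2 ^ k = A ^ (i * (2 ^ k : ℕ)) := by rw [zpow_mul, zpow_natCast]
    have eB : (A ^ i) ^ 2 ^ k = B ^ (j * (2 ^ k : ℕ)) := by rw [e, zpow_mul, zpow_natCast]
    have h1 := (hinv A _ hm (eA ▸ hu2)).resolve_left (eA ▸ hu1)
    have h2 := (hinv B _ hmB (eB ▸ hu2)).resolve_left (eB ▸ hu1)
    exact hne (h1.symm.trans (eA.symm.trans (eB.trans h2)))
  by_cases hK : K = ⊥
  · right
    refine ⟨m, ?_⟩
    let φ : ↥(Subgroup.zpowers A) × ↥(Subgroup.zpowers B) →* X ⧸ K :=
      MonoidHom.noncommCoprod (Subgroup.zpowers A).subtype (Subgroup.zpowers B).subtype (fun u v => hAcomm _ _)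
    have hbij : Function.Bijective φ := by
      constructor
      · rw [injective_iff_map_eq_one]
        rintro ⟨⟨u, i, rfl⟩, ⟨v, j, rfl⟩⟩ hz
        have hz' : A ^ i * B ^ j = 1 := hz
        have e : A ^ i = B ^ (-j) := by rw [zpow_neg]; exact eq_inv_of_mul_eq_one_left hz'
        have h1 := hdisj i (-j) e
        have h2 : B ^ j = 1 := by rw [h1, one_mul] at hz'; exact hz'
        exact Prod.ext (Subtype.ext h1) (Subtype.ext h2)
      · intro z
        obtain ⟨i, j, rfl⟩ := hAB z
        exact ⟨(⟨A ^ i, i, rfl⟩, ⟨B ^ j, j, rfl⟩), rfl⟩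
    have e1 : ↥(Subgroup.zpowers A) ≃* Multiplicative (ZMod (2 ^ m)) :=
      (zmodCyclicMulEquiv inferInstance).symm.trans
        (AddEquiv.toMultiplicative (ZMod.ringEquivCongr (by rw [Nat.card_zpowers, hm])).toAddEquiv)
    have e2 : ↥(Subgroup.zpowers B) ≃* Multiplicative (ZMod (2 ^ m)) :=
      (zmodCyclicMulEquiv inferInstance).symm.trans
        (AddEquiv.toMultiplicative (ZMod.ringEquivCongr (by rw [Nat.card_zpowers, hmB])).toAddEquiv)
    exact ⟨((QuotientGroup.quotientMulEquivOfEq hK).trans QuotientGroup.quotientBot).symm.trans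
      ((MulEquiv.ofBijective φ hbij).symm.trans (e1.prodCongr e2))⟩
  left
  -- no fixed points on the abelianisation
  have hfix : ∀ z : X ⧸ K, αA z = z → z = 1 := by
    intro z hz
    by_contra hz1
    obtain ⟨k, hk⟩ : ∃ k, orderOf z = 2 ^ k := IsPGroup.iff_orderOf.mp (hX.to_quotient K) z
    rcases k with _ | k
    · exact hz1 (orderOf_eq_one_iff.mp (by simpa using hk))
    set u := z ^ 2 ^ k
    have hu1 : u ≠ 1 := pow_ne_one_of_lt_orderOf (by positivity)
      (by rw [hk]; exact Nat.pow_lt_pow_right (by norm_num) (by omega))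
    have hu2 : u ^ 2 = 1 := by rw [← pow_mul, ← pow_succ, ← hk, pow_orderOf_eq_one]
    have huf : αA u = u := by rw [map_pow, hz]
    obtain ⟨i, j, hu⟩ := hAB u
    have hij : (A ^ i) ^ 2 * (B ^ j) ^ 2 = 1 := by
      rw [← (show Commute (A ^ i) (B ^ j) from hAcomm _ _).mul_pow, ← hu]; exact hu2
    have e : A ^ (i * 2) = B ^ (-(j * 2)) := by
      rw [zpow_neg, zpow_mul, zpow_mul, zpow_two, zpow_two, ← pow_two, ← pow_two]
      exact eq_inv_of_mul_eq_one_left hij
    have hi : (A ^ i) ^ 2 = 1 := by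
      have := hdisj _ _ e
      rwa [zpow_mul, zpow_two, ← pow_two] at this
    have hj : (B ^ j) ^ 2 = 1 := by rw [hi, one_mul] at hij; exact hij
    have hAα : αA (A ^ h) = B ^ h := by rw [map_pow, hB]
    rcases hinv A i hm hi with h1 | h1 <;> rcases hinv B j hmB hj with h2 | h2 <;> rw [h1, h2] at hu
    · exact hu1 (hu.trans (one_mul 1))
    · rw [one_mul] at hu
      rw [hu, ← hAα] at huf
      exact hne (hAα ▸ (αA.injective huf).symm)
    · rw [mul_one] at hu
      rw [hu, hAα] at huf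
      exact hne huf.symm
    · rw [hu, map_mul, hAα, hAcomm (A ^ h) (B ^ h)] at huf
      have h4 : αA (B ^ h) = A ^ h := mul_left_cancel huf
      have h5 : αA (αA (αA (A ^ h))) = A ^ h := by
        rw [map_pow, map_pow, map_pow]
        congr 1
        show αA (αA (αA (π a))) = π a
        rw [hαπ, hαπ, hαπ, hα3]
      rw [hAα, h4] at h5
      exact hne (h5.symm.trans hAα)
  have hprodK : ∀ x : X, x * α x * α (α x) ∈ K := by
    intro x
    rw [← QuotientGroup.eq_one_iff]
    refine hfix _ ?_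
    show αA (π (x * α x * α (α x))) = π (x * α x * α (α x))
    simp only [map_mul, hαπ, hα3]
    rw [hAcomm (π (α x) * π (α (α x))) (π x), mul_assoc]
  have hKN : K ≤ Subgroup.zpowers a := by
    have h1 : K ≤ N := by
      refine Subgroup.commutator_le.mpr fun u _ v _ => ?_
      rw [← QuotientGroup.eq_one_iff]
      show QuotientGroup.mk' N ⁅u, v⁆ = 1
      rw [map_commutatorElement, commutatorElement_eq_one_iff_mul_comm]
      obtain ⟨i, hi⟩ := hbq (QuotientGroup.mk' N u)
      obtain ⟨j, hj⟩ := hbq (QuotientGroup.mk' N v)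
      rw [← hi, ← hj]
      exact (zpow_mul_comm _ i j)
    intro u hu
    obtain ⟨i, hi⟩ := ha ⟨u, h1 hu⟩
    exact ⟨i, congrArg Subtype.val hi⟩
  haveI hKc : IsCyclic K := Subgroup.isCyclic_of_le hKN
  have hKfix : ∀ u ∈ K, α u = u := by
    intro u hu
    set αK : MulAut K := (α.subgroupMap K).trans
      (MulEquiv.subgroupCongr (Subgroup.characteristic_iff_map_eq.mp inferInstance α))
    have hαK : ∀ w : K, ((αK w : K) : X) = α w := fun w => rfl
    have h3 : αK ^ 3 = 1 := by
      ext w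
      rw [pow_succ, pow_succ, pow_one]
      show ((αK (αK (αK w)) : K) : X) = _
      rw [hαK, hαK, hαK, hα3]
      rfl
    have := not_two_dvd_fix (hX.to_subgroup K) αK h3
    rw [← hαK ⟨u, hu⟩, this]
    rfl
  have hKz : ∀ u ∈ K, ∀ x : X, u * x = x * u := by
    intro u hu x
    have hconj : ∀ (y : X) (v : X), v ∈ K → α y * v * (α y)⁻¹ = y * v * y⁻¹ := by
      intro y v hv
      have h1 := hKfix _ ((inferInstance : K.Normal).conj_mem v hv y)
      rwa [map_mul, map_mul, map_inv, hKfix v hv] at h1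
    have hKab : ∀ v ∈ K, ∀ w ∈ K, v * w = w * v := by
      intro v hv w hw
      obtain ⟨i, rfl⟩ := hKN hv
      obtain ⟨j, rfl⟩ := hKN hw
      exact zpow_mul_comm a i j
    have h3 : ∀ v ∈ K, x * x * x * v * (x * x * x)⁻¹ = v := by
      intro v hv
      have h1 := hconj x v hv
      have h2 := hconj x _ ((inferInstance : K.Normal).conj_mem v hv x)
      have h3 := hconj (α x) v hv
      rw [h1] at h3
      have h4 : (x * α x * α (α x)) * v * (x * α x * α (α x))⁻¹ = v := by
        rw [hKab _ (hprodK x) v hv, mul_inv_cancel_right]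
      have e1 : α (α x) * v * (α (α x))⁻¹ = x * v * x⁻¹ := h3
      have e : (x * α x * α (α x)) * v * (x * α x * α (α x))⁻¹ =
          x * (α x * (α (α x) * v * (α (α x))⁻¹) * (α x)⁻¹) * x⁻¹ := by simp [mul_assoc]
      rw [e, e1, h2] at h4
      simpa [mul_assoc] using h4
    obtain ⟨k, hk⟩ : ∃ k, orderOf x = 2 ^ k := IsPGroup.iff_orderOf.mp hX x
    obtain ⟨l, hl⟩ := exists_pow_eq_self_of_coprime (x := x) (n := 3) (by
      rw [hk]
      exact Nat.Coprime.pow_right k (by norm_num))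
    have hc : Commute (x ^ 3) u := by
      have := h3 u hu
      rw [mul_inv_eq_iff_eq_mul] at this
      simpa [Commute, SemiconjBy, pow_succ, mul_assoc] using this
    have := hc.pow_left l
    rw [hl] at this
    exact this.eq.symm
  set c := (β⁻¹ * a⁻¹ * β * a)
  have hc : β * a = a * β * c := by simp [c, mul_assoc]
  have hcK : c ∈ K := by
    have : c = ⁅β⁻¹, a⁻¹⁆ := by simp [c, commutatorElement_def]
    rw [this]
    exact Subgroup.commutator_mem_commutator (Subgroup.mem_top _) (Subgroup.mem_top _)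
  set n := 2 ^ m
  have han : a ^ n ∈ K := by rw [← QuotientGroup.eq_one_iff, QuotientGroup.mk_pow]; exact hexp A
  have hKgen : K ≤ Subgroup.zpowers (a ^ n) := by
    intro u hu
    obtain ⟨i, rfl⟩ := hKN hu
    have h1 : A ^ i = 1 := by
      rw [← map_zpow]
      exact (QuotientGroup.eq_one_iff _).mpr hu
    rw [← orderOf_dvd_iff_zpow_eq_one, hm] at h1
    obtain ⟨l, hl⟩ := h1
    exact ⟨l, by show (a ^ n) ^ l = a ^ i; rw [hl, zpow_mul, zpow_natCast]⟩
  have hKc' : K ≤ Subgroup.zpowers c := by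
    haveI : (Subgroup.zpowers c).Normal := ⟨fun u hu g => by
      obtain ⟨i, rfl⟩ := hu
      have : g * c ^ i * g⁻¹ = c ^ i := by rw [← hKz _ (zpow_mem hcK i) g, mul_inv_cancel_right]
      exact ⟨i, this.symm⟩⟩
    set τ := QuotientGroup.mk' (Subgroup.zpowers c)
    have hcen : Subgroup.closure ({a, β} : Set X) ≤ (Subgroup.center _).comap τ := by
      rw [Subgroup.closure_le]
      have hab : τ a * τ β = τ β * τ a := by
        rw [← map_mul, ← map_mul, hc, map_mul _ (a * β) c,
          show τ c = 1 from (QuotientGroup.eq_one_iff _).mpr (Subgroup.mem_zpowers c), mul_one]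
      have hall : ∀ y ∈ ({a, β} : Set X), ∀ x ∈ Subgroup.closure ({a, β} : Set X), τ x * τ y = τ y * τ x := by
        intro y hy x hx
        induction hx using Subgroup.closure_induction with
        | mem z hz =>
          rcases hy with rfl | rfl <;> rcases hz with rfl | rfl
          · rfl
          · exact hab.symm
          · exact hab
          · rfl
        | one => simp
        | mul u v _ _ hu hv =>
          rw [map_mul, mul_assoc, hv, ← mul_assoc, hu, mul_assoc]
        | inv u _ hu =>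
          rw [map_inv]
          exact ((show Commute (τ u) (τ y) from hu).inv_left).eq
      intro y hy
      refine Subgroup.mem_center_iff.mpr fun q => ?_
      obtain ⟨x, rfl⟩ := QuotientGroup.mk'_surjective _ q
      exact hall y hy x (hgen2 ▸ Subgroup.mem_top x)
    rw [hgen2] at hcen
    refine Subgroup.commutator_le.mpr fun u _ v _ => ?_
    rw [← QuotientGroup.eq_one_iff]
    show τ ⁅u, v⁆ = 1
    rw [map_commutatorElement, commutatorElement_eq_one_iff_mul_comm]
    exact (Subgroup.mem_center_iff.mp (hcen (Subgroup.mem_top u)) (τ v)).symm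
  have hcn : c ^ n = 1 := by
    have key : ∀ k : ℕ, β * a ^ k = a ^ k * β * c ^ k := by
      intro k
      induction k with
      | zero => simp
      | succ k ih =>
        calc β * a ^ (k + 1) = a ^ k * β * (c ^ k * a) := by rw [pow_succ, ← mul_assoc, ih, mul_assoc]
          _ = a ^ k * (β * a) * c ^ k := by
            rw [hKz _ (pow_mem hcK k) a]; simp [mul_assoc]
          _ = a ^ (k + 1) * β * (c ^ (k + 1)) := by
            rw [hc, pow_succ a, pow_succ' c]; simp [mul_assoc]
    have h1 := key n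
    rw [← hKz _ han β] at h1
    exact mul_eq_left.mp h1.symm
  have hKexp : ∀ u ∈ K, u ^ n = 1 := by
    intro u hu
    obtain ⟨i, rfl⟩ := hKc' hu
    show (c ^ i) ^ n = 1
    rw [← zpow_natCast, zpow_comm, zpow_natCast, hcn, one_zpow]
  set c₀ := a ^ n
  have hβn : β ^ n = c₀ := by rw [← map_pow]; exact hKfix _ han
  have hγn : γ ^ n = c₀ := by show (α β) ^ n = c₀; rw [← map_pow, hβn]; exact hKfix _ han
  have hw : a * β * γ ∈ K := hprodK a
  have hsq3 : c₀ ^ 3 * c ^ n.choose 2 = 1 := by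
    have h1 := H83.mul_pow_class_two hc (hKz _ hcK a) (hKz _ hcK β) n
    have h2 : (a * β) ^ n = c₀⁻¹ := by
      have e : a * β = (a * β * γ) * γ⁻¹ := by simp [mul_assoc]
      rw [e, (show Commute (a * β * γ) γ⁻¹ from hKz _ hw _).mul_pow, hKexp _ hw, one_mul, inv_pow, hγn]
    rw [h2, hβn] at h1
    calc c₀ ^ 3 * c ^ n.choose 2 = c₀ * (c₀ * c₀ * c ^ n.choose 2) := by simp [pow_succ, mul_assoc]
      _ = c₀ * c₀⁻¹ := by rw [h1]
      _ = 1 := mul_inv_cancel _
  have hc₀1 : c₀ ≠ 1 := fun e => hK (le_bot_iff.mp (hKgen.trans (by rw [e, Subgroup.zpowers_one_eq_bot])))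
  have hm_eq : m = 1 := by
    by_contra hne1
    obtain ⟨l, hl⟩ := hKgen hcK
    have hl' : c₀ ^ l = c := hl
    have heven : 2 ∣ n.choose 2 := by
      rw [Nat.choose_two_right]
      have : n = 2 * (2 * 2 ^ (m - 2)) := by
        show 2 ^ m = _
        rw [← mul_assoc, show (2 : ℕ) * 2 = 2 ^ 2 by norm_num, ← pow_add, show 2 + (m - 2) = m by omega]
      rw [this, mul_assoc, Nat.mul_div_cancel_left _ (by norm_num : 0 < 2)]
      exact Dvd.dvd.mul_right (dvd_mul_right 2 _) _
    obtain ⟨t, ht⟩ := heven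
    rw [← hl', ← zpow_natCast, ← zpow_natCast, ← zpow_mul, ← zpow_add, ← orderOf_dvd_iff_zpow_eq_one] at hsq3
    obtain ⟨k, hk⟩ : ∃ k, orderOf c₀ = 2 ^ k := IsPGroup.iff_orderOf.mp hX c₀
    rcases k with _ | k
    · exact hc₀1 (orderOf_eq_one_iff.mp (by simpa using hk))
    have h2 : (2 : ℤ) ∣ ((3 : ℕ) : ℤ) + l * (n.choose 2 : ℕ) :=
      dvd_trans ⟨((2 ^ k : ℕ) : ℤ), by rw [hk]; push_cast; ring⟩ hsq3
    rw [ht] at h2
    push_cast at h2
    have h3 : (2 : ℤ) ∣ 3 := by
      have := dvd_sub h2 (Dvd.intro (l * (t : ℤ)) rfl : (2 : ℤ) ∣ 2 * (l * (t : ℤ)))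
      ring_nf at this
      exact this
    norm_num at h3
  subst hm_eq
  change c₀ ^ 3 * c ^ Nat.choose (2 ^ 1) 2 = 1 at hsq3
  rw [show Nat.choose (2 ^ 1) 2 = 1 by rfl, pow_one] at hsq3
  have hc₀2 : c₀ * c₀ = 1 := by
    have := hKexp _ han
    change c₀ ^ 2 ^ 1 = 1 at this
    rwa [pow_one, pow_two] at this
  have hcc : c = c₀ := by
    rw [pow_succ, pow_two, hc₀2, one_mul] at hsq3
    rw [eq_inv_of_mul_eq_one_right hsq3]
    exact inv_eq_of_mul_eq_one_right hc₀2
  have ha4 : a ^ (2 * 2) = 1 := by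
    show a ^ (2 * 2) = 1
    have : c₀ = a ^ 2 := by show a ^ 2 ^ 1 = _; rw [pow_one]
    rw [pow_mul, ← this, pow_two, hc₀2]
  have hββ : β * β = a ^ 2 := by
    have := hβn
    change β ^ 2 ^ 1 = a ^ 2 ^ 1 at this
    rwa [pow_one, pow_two β] at this
  have hba : β * a = a⁻¹ * β := by
    rw [hc, hcc, mul_assoc, ← hKz _ han β, ← mul_assoc]
    congr 1
    refine eq_inv_of_mul_eq_one_left ?_
    show a * a ^ 2 ^ 1 * a = 1
    rw [pow_one, ← pow_succ', ← pow_succ]
    simpa using ha4
  let Q := H37.quaternionHom (n := 2) a β ha4 hββ hba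
  have hQs : Function.Surjective Q := by
    rw [← MonoidHom.range_eq_top, eq_top_iff, ← hgen2, Subgroup.closure_le]
    rintro y (rfl | rfl)
    · exact ⟨.a 1, by rw [H37.quaternionHom_a]; rw [show (1 : ZMod (2 * 2)).val = 1 from rfl, pow_one]⟩
    · exact ⟨.xa 0, by rw [H37.quaternionHom_xa]; simp⟩
  have hcard : Nat.card X = 8 := by
    rw [Subgroup.card_eq_card_quotient_mul_card_subgroup K]
    have hA4 : Nat.card (X ⧸ K) = 4 := by
      let φ : ↥(Subgroup.zpowers A) × ↥(Subgroup.zpowers B) →* X ⧸ K :=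
        MonoidHom.noncommCoprod (Subgroup.zpowers A).subtype (Subgroup.zpowers B).subtype (fun u v => hAcomm _ _)
      have hbij : Function.Bijective φ := by
        constructor
        · rw [injective_iff_map_eq_one]
          rintro ⟨⟨u, i, rfl⟩, ⟨v, j, rfl⟩⟩ hz
          have hz' : A ^ i * B ^ j = 1 := hz
          have h1 := hdisj i (-j) (by rw [zpow_neg]; exact eq_inv_of_mul_eq_one_left hz')
          have h2 : B ^ j = 1 := by rw [h1, one_mul] at hz'; exact hz'
          exact Prod.ext (Subtype.ext h1) (Subtype.ext h2)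
        · intro z
          obtain ⟨i, j, rfl⟩ := hAB z
          exact ⟨(⟨A ^ i, i, rfl⟩, ⟨B ^ j, j, rfl⟩), rfl⟩
      rw [← Nat.card_eq_of_bijective φ hbij, Nat.card_prod, Nat.card_zpowers, Nat.card_zpowers, hm, hmB]
      rfl
    have hK2 : Nat.card K = 2 := by
      have hK' : K = Subgroup.zpowers c₀ := le_antisymm hKgen (Subgroup.zpowers_le.mpr han)
      rw [hK', Nat.card_zpowers]
      exact orderOf_eq_prime (by rw [pow_two, hc₀2]) hc₀1
    rw [hA4, hK2]
  have hbij : Function.Bijective Q := hQs.bijective_of_nat_card_le (by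
    rw [hcard, Nat.card_eq_fintype_card, QuaternionGroup.card])
  exact ⟨(MulEquiv.ofBijective Q hbij).symm⟩

/-- A finite metacyclic 2-group whose automorphism group is not a 2-group is isomorphic to the quaternion group of order 8 or to a homocyclic abelian group Z_{2^n} × Z_{2^n}. -/
theorem result {X : Type*} [Group X] [Finite X] (hX : IsPGroup 2 X)
    (hm : Cfsg.IsMetacyclic X) (hA : ¬ IsPGroup 2 (MulAut X)) :
    Nonempty (X ≃* QuaternionGroup 2) ∨
      ∃ n : ℕ, Nonempty (X ≃* Multiplicative (ZMod (2 ^ n)) × Multiplicative (ZMod (2 ^ n))) := by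
  exact main hX hm hA

end Cfsg.Agent.S1896
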