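import Cfsg.Statements.S1897
import Cfsg.Agent.H71.UThree

set_option autoImplicit false
open Cfsg

namespace Cfsg.Agent.S1897

/-- The projective special unitary group PSU₃(3) (realised over the field with 9 elements) has a subgroup isomorphic to PSL₂(7). -/
theorem result {F : Type*} [Field F] [Fintype F] (hF : Fintype.card F = 9)
    {K : Type*} [Field K] [Fintype K] (hK : Fintype.card K = 7) :
    ∃ H : Subgroup (Cfsg.PSU 3 F 3), Nonempty (H ≃* Matrix.ProjectiveSpecialLinearGroup (Fin 2) K) := by
  haveI : CharP F 3 := by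
    obtain ⟨p, hp⟩ := CharP.exists F
    obtain ⟨n, hn, hn'⟩ := FiniteField.card F p
    rw [hF] at hn'
    have h3 : p ∣ 3 := hn.dvd_of_dvd_pow (show p ∣ 3 ^ 2 by
      rw [show (3 : ℕ) ^ 2 = p ^ (n : ℕ) from hn']; exact dvd_pow_self p n.pos.ne')
    rwa [← (Nat.prime_dvd_prime_iff_eq hn Nat.prime_three).mp h3]
  obtain ⟨t, ht⟩ := (FiniteField.isSquare_neg_one_iff (F := F)).mpr (by rw [hF]; decide)
  haveI : Fact (Nat.Prime 7) := ⟨by norm_num⟩
  let e : ZMod 7 ≃+* K := ZMod.ringEquivOfPrime K (by norm_num) hK
  let r := H71.UThree.repHom ht.symm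
  let m : Matrix.SpecialLinearGroup (Fin 2) K →* Matrix.SpecialLinearGroup (Fin 2) (ZMod 7) :=
    Matrix.SpecialLinearGroup.map e.symm.toRingHom
  let ψ := (QuotientGroup.mk' (Subgroup.center (Cfsg.SU 3 F 3))).comp (r.comp m)
  have hm : Function.Injective m := fun a b h => Subtype.ext <| Matrix.ext fun i j =>
    e.symm.injective (congrFun (congrFun (congrArg Subtype.val h) i) j)
  have hneg : m (-1) = -1 := Subtype.ext <| Matrix.ext fun i j => by
    fin_cases i <;> fin_cases j <;> simp [m]
  have hker : ψ.ker = Subgroup.center (Matrix.SpecialLinearGroup (Fin 2) K) := by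
    ext x
    have h1 : x ∈ ψ.ker ↔ r (m x) ∈ Subgroup.center (Cfsg.SU 3 F 3) := by
      rw [MonoidHom.mem_ker]
      exact QuotientGroup.eq_one_iff _
    rw [h1]
    constructor
    · intro hx
      rcases H71.UThree.eq_pm_one_of_central ht.symm (m x) hx with h | h
      · rw [hm (h.trans m.map_one.symm)]
        exact one_mem _
      · rw [hm (h.trans hneg.symm)]
        exact Subgroup.mem_center_iff.mpr fun g => by
          apply Subtype.ext
          simp
    · intro hx
      obtain ⟨c, hc, hxc⟩ := Matrix.SpecialLinearGroup.mem_center_iff.mp hx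
      rw [Fintype.card_fin, sq_eq_one_iff] at hc
      rcases hc with rfl | rfl
      · rw [show x = 1 from Subtype.ext (by rw [← hxc]; simp), map_one, map_one]
        exact one_mem _
      · rw [show x = -1 from Subtype.ext (by rw [← hxc]; ext i j; fin_cases i <;> fin_cases j <;> simp), hneg]
        rw [show r (-1) = 1 from H71.UThree.repHom_neg_one ht.symm]
        exact one_mem _
  exact ⟨ψ.range, ⟨(QuotientGroup.quotientKerEquivRange ψ).symm.trans (QuotientGroup.quotientMulEquivOfEq hker)⟩⟩

end Cfsg.Agent.S1897
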