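import Cfsg.Statements.S1898

set_option autoImplicit false
open Cfsg
open scoped commutatorElement

namespace Cfsg.Agent.S1898

/-- Let X be a finite 2-group whose derived subgroup is elementary abelian and central. Then the subgroup generated by the elements of order dividing 4 has exponent dividing 4, and every automorphism of X fixing each element of order dividing 4 has 2-power order. -/
theorem result {X : Type*} [Group X] [Finite X] (hX : IsPGroup 2 X)
    (hel : Cfsg.IsElementaryAbelian 2 (commutator X)) (hcen : commutator X ≤ Subgroup.center X) :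
    (∀ x ∈ Subgroup.closure {g : X | g ^ 4 = 1}, x ^ 4 = 1) ∧
      ∀ φ : MulAut X, (∀ g : X, g ^ 4 = 1 → φ g = g) → ∃ k : ℕ, φ ^ (2 ^ k) = 1 := by
  have hc2 : ∀ a b : X, (b * a * b⁻¹ * a⁻¹) ^ 2 = 1 ∧ ∀ x : X, Commute x (b * a * b⁻¹ * a⁻¹) := by
    intro a b
    have hm : ⁅b, a⁆ ∈ commutator X := Subgroup.commutator_mem_commutator (Subgroup.mem_top b) (Subgroup.mem_top a)
    exact ⟨hel.2 _ hm, fun x => Subgroup.mem_center_iff.mp (hcen hm) x⟩
  -- squares of products
  have hsq : ∀ a b : X, ∃ c : X, (a * b) ^ 2 = a ^ 2 * b ^ 2 * c ∧ c ^ 2 = 1 ∧ ∀ x : X, Commute x c := by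
    intro a b
    obtain ⟨h1, h2⟩ := hc2 a b
    refine ⟨b * a * b⁻¹ * a⁻¹, ?_, h1, h2⟩
    calc (a * b) ^ 2 = a * (b * a * b⁻¹ * a⁻¹) * (a * b) * b := by simp [pow_two, mul_assoc]
      _ = a * ((a * b) * (b * a * b⁻¹ * a⁻¹)) * b := by rw [(h2 (a * b)).eq]; simp [mul_assoc]
      _ = a * (a * b) * ((b * a * b⁻¹ * a⁻¹) * b) := by simp [mul_assoc]
      _ = a * (a * b) * (b * (b * a * b⁻¹ * a⁻¹)) := by rw [(h2 b).eq]
      _ = a ^ 2 * b ^ 2 * (b * a * b⁻¹ * a⁻¹) := by simp [pow_two, mul_assoc]
  constructor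
  · intro x hx
    induction hx using Subgroup.closure_induction with
    | mem g hg => exact hg
    | one => simp
    | mul a b _ _ ha hb =>
      obtain ⟨c, h1, h2, h3⟩ := hsq a b
      obtain ⟨e, h4, h5, _⟩ := hsq (a ^ 2) (b ^ 2)
      rw [show 4 = 2 * 2 from rfl, pow_mul] at ha hb ⊢
      rw [h1, (h3 (a ^ 2 * b ^ 2)).mul_pow, h2, mul_one, h4, ha, hb, one_mul, one_mul]
      -- the remaining commutator of two squares
      obtain ⟨k1, k2⟩ := hc2 a b
      have e1 : b * a * b⁻¹ = (b * a * b⁻¹ * a⁻¹) * a := by simp [mul_assoc]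
      have e2 : b * a ^ 2 * b⁻¹ = a ^ 2 := by
        have := congrArg (fun z => z ^ 2) e1
        simp only [conj_pow] at this
        rw [this, (k2 a).symm.mul_pow, k1, one_mul]
      have e3 : Commute (b ^ 2) (a ^ 2) := by
        have : Commute b (a ^ 2) := by
          have := congrArg (fun z => z * b) e2
          simpa [Commute, SemiconjBy, mul_assoc] using this
        exact this.pow_left 2
      rw [e3.symm.mul_pow, ha, hb, one_mul, one_mul] at h4
      exact h4.symm
    | inv a _ ha => rw [inv_pow, ha, inv_one]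
  · intro φ hφ
    obtain ⟨k, m, hm, hkm⟩ := Nat.exists_eq_two_pow_mul_odd (n := orderOf φ) (orderOf_pos φ).ne'
    refine ⟨k, ?_⟩
    set ψ := φ ^ (2 ^ k) with hψdef
    have hψm : ψ ^ m = 1 := by rw [hψdef, ← pow_mul, ← hkm, pow_orderOf_eq_one]
    have hψ : ∀ g : X, g ^ 4 = 1 → ψ g = g := by
      intro g hg
      rw [hψdef]
      generalize 2 ^ k = j
      induction j with
      | zero => simp
      | succ j ih => rw [pow_succ', MulAut.mul_apply, ih, hφ g hg]
    ext x
    obtain ⟨n, hn⟩ := hX x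
    induction n generalizing x with
    | zero => simp at hn; simp [hn]
    | succ n ih =>
      have hx2 : ψ (x ^ 2) = x ^ 2 := ih (x ^ 2) (by rw [← pow_mul, ← pow_succ']; exact hn)
      set c := x⁻¹ * ψ x with hc
      have hψx : ψ x = x * c := by simp [hc]
      obtain ⟨e, h1, h2, h3⟩ := hsq x c
      have h4 : c ^ 2 * e = 1 := by
        rw [map_pow, hψx, h1, mul_assoc] at hx2
        exact mul_eq_left.mp hx2
      have hc4 : c ^ 4 = 1 := by
        have h5 := eq_inv_of_mul_eq_one_left h4
        rw [show 4 = 2 * 2 from rfl, pow_mul, h5, inv_pow, h2, inv_one]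
      have hpow : ∀ j : ℕ, (ψ ^ j) x = x * c ^ j := by
        intro j
        induction j with
        | zero => simp
        | succ j ihj => rw [pow_succ', MulAut.mul_apply, ihj, map_mul, map_pow, hψ c hc4, hψx, pow_succ', mul_assoc]
      have hcm : c ^ m = 1 := by simpa [hψm] using (hpow m).symm
      have hord : orderOf c ∣ Nat.gcd m 4 := Nat.dvd_gcd (orderOf_dvd_of_pow_eq_one hcm) (orderOf_dvd_of_pow_eq_one hc4)
      have hg : Nat.gcd m 4 = 1 := by
        have : Nat.Coprime m 2 := hm.coprime_two_right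
        exact Nat.Coprime.pow_right 2 this
      have hc1 : c = 1 := by rw [← orderOf_eq_one_iff]; rw [hg] at hord; exact Nat.dvd_one.mp hord
      simp [hψx, hc1]

end Cfsg.Agent.S1898
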