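import Cfsg.Statements.S1899

set_option autoImplicit false
open Cfsg

namespace Cfsg.Agent.S1899

/-- Let a dihedral group of order 2n, n odd and n > 1, act on a finite abelian 2-group A through automorphisms d and t with d^n = 1, t² = 1 and t d t⁻¹ = d⁻¹, and suppose that d fixes only the identity. Then A is the internal direct product of C_A(t) and its image under d. -/
theorem result {A : Type*} [CommGroup A] [Finite A] (hA : IsPGroup 2 A)
    {n : ℕ} (hn : Odd n) (hn1 : 1 < n) (d t : MulAut A) (hd : d ^ n = 1) (ht : t ^ 2 = 1) (hdt : t * d * t⁻¹ = d⁻¹)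
    (hfix : ∀ a : A, d a = a → a = 1) :
    (MulEquiv.toMonoidHom t).eqLocus (MonoidHom.id A) ⊓ ((MulEquiv.toMonoidHom t).eqLocus (MonoidHom.id A)).map d.toMonoidHom = ⊥ ∧
      (MulEquiv.toMonoidHom t).eqLocus (MonoidHom.id A) ⊔ ((MulEquiv.toMonoidHom t).eqLocus (MonoidHom.id A)).map d.toMonoidHom = ⊤ := by
  -- basic facts about the two automorphisms
  have hdd : ∀ a : A, d (d a) = a → a = 1 := by
    intro a h
    have h2 : ∀ k : ℕ, (d ^ (2 * k)) a = a := by
      intro k
      induction k with
      | zero => simp
      | succ k ih =>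
        rw [Nat.mul_succ, pow_add, MulAut.mul_apply, pow_two, MulAut.mul_apply, h, ih]
    obtain ⟨k, rfl⟩ := hn
    apply hfix
    have h3 : (d ^ (2 * k + 1)) a = a := by rw [hd]; rfl
    rw [pow_succ', MulAut.mul_apply, h2] at h3
    exact h3
  have htd : ∀ a : A, t (d a) = d⁻¹ (t a) := by
    intro a
    have h : t * d = d⁻¹ * t := by rw [← hdt]; group
    simpa using congrArg (fun f : MulAut A => f a) h
  have htt : ∀ a : A, t (t a) = a := by
    intro a
    simpa [pow_two] using congrArg (fun f : MulAut A => f a) ht
  constructor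
  · rw [eq_bot_iff]
    rintro x ⟨hx, y, hy, rfl⟩
    have hy' : t y = y := hy
    have hx' : t (d y) = d y := hx
    rw [htd, hy'] at hx'
    have : d (d y) = y := by
      have := congrArg d hx'
      simpa using this.symm
    rw [hdd y this]
    simp
  · rw [eq_top_iff]
    intro a _
    -- the endomorphism `c ↦ d c / d⁻¹ c` is bijective
    let f : A →* A := d.toMonoidHom / (d⁻¹ : MulAut A).toMonoidHom
    have hf : ∀ c, f c = d c / d⁻¹ c := fun c => rfl
    have hinj : Function.Injective f := by
      rw [injective_iff_map_eq_one]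
      intro c hc
      rw [hf, div_eq_one] at hc
      apply hdd
      have := congrArg d hc
      simpa using this
    obtain ⟨c, hc⟩ := (Finite.injective_iff_surjective.mp hinj) (a / t a)
    have htd' : ∀ x : A, t (d⁻¹ x) = d (t x) := by
      intro x
      have h := congrArg d (htd (d⁻¹ x))
      simpa using h.symm
    have htf : t (f c) = (f (t c))⁻¹ := by
      rw [hf, hf, map_div, inv_div, htd, htd']
    have htc : t c = c := by
      apply hinj
      rw [← inv_inj, ← htf, hc, map_div, htt, inv_div]
    rw [Subgroup.mem_sup]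
    refine ⟨a / d c, ?_, d c, ⟨c, htc, rfl⟩, by simp⟩
    show t (a / d c) = a / d c
    rw [map_div, htd, htc]
    rw [hf, div_eq_div_iff_mul_eq_mul] at hc
    rw [div_eq_div_iff_mul_eq_mul, mul_comm (t a)]
    rw [hc]

end Cfsg.Agent.S1899
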