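import Cfsg.Statements.S1900
import Cfsg.Agent.H8.Coprime
import Mathlib.GroupTheory.Nilpotent

set_option autoImplicit false
open Cfsg
open scoped commutatorElement Pointwise

namespace Cfsg.Agent.S1900

/-- Let S = PQ be a finite group with P a normal Sylow p-subgroup and Q elementary abelian of order q², q a prime different from p. If exactly two subgroups X₁, X₂ of order q in Q have a nontrivial centralizer in P, then P is the internal direct product of C_P(X₁) and C_P(X₂): they commute elementwise, meet trivially and generate P. -/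
theorem result {S : Type*} [Group S] [Finite S] {p q : ℕ} [Fact p.Prime] [Fact q.Prime] (hpq : p ≠ q)
    (P : Sylow p S) [(P : Subgroup S).Normal] (Q : Subgroup S) (hQ : Cfsg.IsElementaryAbelian q Q) (hQc : Nat.card Q = q ^ 2)
    (hS : (P : Subgroup S) ⊔ Q = ⊤)
    (X₁ X₂ : Subgroup S) (h₁ : X₁ ≤ Q) (h₂ : X₂ ≤ Q) (h₁₂ : X₁ ≠ X₂) (hc₁ : Nat.card X₁ = q) (hc₂ : Nat.card X₂ = q)
    (hf₁ : (P : Subgroup S) ⊓ Subgroup.centralizer (X₁ : Set S) ≠ ⊥)
    (hf₂ : (P : Subgroup S) ⊓ Subgroup.centralizer (X₂ : Set S) ≠ ⊥)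
    (honly : ∀ X : Subgroup S, X ≤ Q → Nat.card X = q →
      (P : Subgroup S) ⊓ Subgroup.centralizer (X : Set S) ≠ ⊥ → X = X₁ ∨ X = X₂) :
    ⁅(P : Subgroup S) ⊓ Subgroup.centralizer (X₁ : Set S), (P : Subgroup S) ⊓ Subgroup.centralizer (X₂ : Set S)⁆ = ⊥ ∧
      ((P : Subgroup S) ⊓ Subgroup.centralizer (X₁ : Set S)) ⊓ ((P : Subgroup S) ⊓ Subgroup.centralizer (X₂ : Set S)) = ⊥ ∧
      ((P : Subgroup S) ⊓ Subgroup.centralizer (X₁ : Set S)) ⊔ ((P : Subgroup S) ⊓ Subgroup.centralizer (X₂ : Set S)) = P := by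
  haveI := hQ.1
  set U : Subgroup S := (P : Subgroup S) with hU
  set C₁ := U ⊓ Subgroup.centralizer (X₁ : Set S)
  set C₂ := U ⊓ Subgroup.centralizer (X₂ : Set S)
  have hQ' : IsPGroup q ↥Q := IsPGroup.of_card hQc
  have hpU : ¬ q ∣ Nat.card ↥U := by
    intro h
    obtain ⟨m, hm⟩ := P.isPGroup'.exists_card_eq
    rw [hm] at h
    exact hpq.symm ((Nat.prime_dvd_prime_iff_eq Fact.out Fact.out).mp ((Fact.out : q.Prime).dvd_of_dvd_pow h))
  have hQU : Q ≤ Subgroup.normalizer (U : Set S) := by rw [Subgroup.normalizer_eq_top]; exact le_top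
  have hq : 1 < q := (Fact.out : q.Prime).one_lt
  have hQ1 : Q ≠ ⊥ := by
    rintro rfl
    rw [Subgroup.card_bot] at hQc
    nlinarith
  -- generation
  have hgen : ∀ W : Subgroup S, C₁ ≤ W → C₂ ≤ W → U ≤ W := by
    intro W h1 h2
    refine H8.generation hQ hQ1 hQU hpU fun B hB hBi => ?_
    have hBc : Nat.card ↥B = q := by
      have h : Nat.card ↥B * B.relIndex Q = Nat.card ↥Q := by
        rw [Subgroup.relIndex, ← Nat.card_congr (Subgroup.subgroupOfEquivOfLe hB).toEquiv,
          Subgroup.card_mul_index]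
      rw [hBi, hQc, pow_two] at h
      exact Nat.eq_of_mul_eq_mul_right (by omega) h
    by_cases hne : U ⊓ Subgroup.centralizer (B : Set S) = ⊥
    · rw [hne]; exact bot_le
    · rcases honly B hB hBc hne with rfl | rfl
      · exact h1
      · exact h2
  have hjoin : C₁ ⊔ C₂ = U := le_antisymm (sup_le inf_le_left inf_le_left) (hgen _ le_sup_left le_sup_right)
  -- the two generate Q
  have hXQ : X₁ ⊔ X₂ = Q := by
    refine Subgroup.eq_of_le_of_card_ge (sup_le h₁ h₂) ?_
    obtain ⟨a, ha⟩ := Subgroup.card_dvd_of_le (le_sup_left : X₁ ≤ X₁ ⊔ X₂)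
    obtain ⟨b, hb⟩ := Subgroup.card_dvd_of_le (sup_le h₁ h₂)
    rw [hQc, ha, hc₁, pow_two, mul_assoc] at hb
    have hab : q = a * b := Nat.eq_of_mul_eq_mul_left (by omega) hb
    rcases (Nat.dvd_prime (Fact.out : q.Prime)).mp ⟨b, hab⟩ with h | h
    · exfalso
      apply h₁₂
      have he : X₁ = X₁ ⊔ X₂ := Subgroup.eq_of_le_of_card_ge le_sup_left (by rw [ha, h, mul_one])
      exact (Subgroup.eq_of_le_of_card_ge (he ▸ le_sup_right) (by rw [hc₁, hc₂])).symm
    · rw [hQc, ha, hc₁, h, pow_two]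
  -- no fixed points of Q
  have hfix : U ⊓ Subgroup.centralizer (Q : Set S) = ⊥ := by
    obtain ⟨x, hxQ, hx1, hx2⟩ : ∃ x ∈ Q, x ∉ X₁ ∧ x ∉ X₂ := by
      by_contra hne
      push_neg at hne
      have hsub : (Q : Set S) ⊆ (X₁ : Set S) ∪ X₂ := fun x hx => or_iff_not_imp_left.mpr (hne x hx)
      have h1 := (Set.ncard_le_ncard hsub (Set.toFinite _)).trans (Set.ncard_union_le _ _)
      simp only [← Nat.card_coe_set_eq, SetLike.coe_sort_coe] at h1
      rw [hQc, hc₁, hc₂] at h1
      have h3 : q = 2 := by nlinarith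
      -- the two subgroups share the identity
      subst h3
      have h4 : ((X₁ : Set S) ∪ X₂).ncard < (X₁ : Set S).ncard + (X₂ : Set S).ncard := by
        have h5 := Set.ncard_union_add_ncard_inter (X₁ : Set S) (X₂ : Set S) (Set.toFinite _) (Set.toFinite _)
        have h6 : 0 < ((X₁ : Set S) ∩ X₂).ncard := (Set.ncard_pos (Set.toFinite _)).mpr ⟨1, X₁.one_mem, X₂.one_mem⟩
        omega
      have h7 := Set.ncard_le_ncard hsub (Set.toFinite _)
      simp only [← Nat.card_coe_set_eq, SetLike.coe_sort_coe] at h4 h7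
      rw [hQc] at h7
      rw [hc₁, hc₂] at h4
      omega
    by_contra hne
    have hxq : orderOf x = q := orderOf_eq_prime (hQ.2 x hxQ) (fun h => hx1 (h ▸ X₁.one_mem))
    have hle : Subgroup.zpowers x ≤ Q := Subgroup.zpowers_le.mpr hxQ
    rcases honly _ hle (by rw [Nat.card_zpowers, hxq]) (fun h => hne (le_bot_iff.mp (h ▸
      inf_le_inf_left _ (Subgroup.centralizer_le (fun y hy => hle hy))))) with h | h
    · exact hx1 (h ▸ Subgroup.mem_zpowers x)
    · exact hx2 (h ▸ Subgroup.mem_zpowers x)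
  have hdisj : C₁ ⊓ C₂ = ⊥ := by
    rw [← le_bot_iff, ← hfix]
    refine le_inf (inf_le_left.trans inf_le_left) ?_
    rw [← hXQ]
    intro c hc
    rw [Subgroup.mem_centralizer_iff]
    intro y hy
    have : X₁ ⊔ X₂ ≤ Subgroup.centralizer ({c} : Set S) := by
      refine sup_le ?_ ?_ <;> intro z hz <;> rw [Subgroup.mem_centralizer_singleton_iff]
      · exact hc.1.2 z hz
      · exact hc.2.2 z hz
    exact Subgroup.mem_centralizer_singleton_iff.mp (this hy)
  refine ⟨?_, hdisj, hjoin⟩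
  -- the commutators descend along the lower central series of P
  haveI hPn : Group.IsNilpotent ↥U := P.isPGroup'.isNilpotent
  obtain ⟨n, hn⟩ := (Subgroup.isNilpotent_iff_lowerCentralSeries U).mp hPn
  suffices ∀ i, ⁅C₁, C₂⁆ ≤ U.lowerCentralSeries i by
    rw [← le_bot_iff]; exact hn ▸ this n
  intro i
  induction i with
  | zero => exact (Subgroup.commutator_mono inf_le_left inf_le_left).trans U.commutator_le_self
  | succ i ih =>
    set K := U.lowerCentralSeries i with hK
    set L := U.lowerCentralSeries (i + 1) with hL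
    have hLdef : L = ⁅K, U⁆ := rfl
    have hKn : ∀ j, (U.lowerCentralSeries j).Normal := by
      intro j
      induction j with
      | zero => exact inferInstanceAs U.Normal
      | succ j ihj => haveI := ihj; exact Subgroup.commutator_normal _ _
    haveI : K.Normal := hKn i
    haveI : L.Normal := hKn (i + 1)
    have hKU : K ≤ U := by
      clear ih
      rw [hK]
      induction i with
      | zero => exact le_rfl
      | succ j ihj => exact le_trans (Subgroup.commutator_mono (ihj rfl (rfl) rfl inferInstance inferInstance) le_rfl) U.commutator_le_self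
    -- calculation in the quotient by L
    set π := QuotientGroup.mk' L with hπdef
    have hcK : ∀ k ∈ K, ∀ u ∈ U, Commute (π k) (π u) := by
      intro k hk u hu
      rw [← commutatorElement_eq_one_iff_commute, ← map_commutatorElement, hπdef, QuotientGroup.mk'_apply,
        QuotientGroup.eq_one_iff, hLdef]
      exact Subgroup.commutator_mem_commutator hk hu
    -- one half of the argument
    have half : ∀ (X Y : Subgroup S), X ≤ Q → Y ≤ Q → ∀ (x : S), x ∈ X → X = Subgroup.zpowers x →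
        U ⊓ Subgroup.centralizer (X : Set S) ⊓ (U ⊓ Subgroup.centralizer (Y : Set S)) = ⊥ →
        K ≤ (K ⊓ Subgroup.centralizer (X : Set S)) ⊔ (K ⊓ Subgroup.centralizer (Y : Set S)) →
        ∀ a ∈ U ⊓ Subgroup.centralizer (X : Set S), ∀ b ∈ U ⊓ Subgroup.centralizer (Y : Set S),
        ⁅a, b⁆ ∈ K → (∀ d ∈ U ⊓ Subgroup.centralizer (Y : Set S), ⁅a, d⁆ ∈ K) →
        ∃ k ∈ K ⊓ Subgroup.centralizer (Y : Set S), π ⁅a, b⁆ = π k := by
      intro X Y hX hY x hxX hXx hXY hKgen a ha b hb _ hall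
      set CY := U ⊓ Subgroup.centralizer (Y : Set S)
      have hconjU : ∀ d ∈ U, x * d * x⁻¹ ∈ U := fun d hd =>
        H8.conj_mem_of_le_normalizer hQU (hX hxX) hd
      have hconjY : ∀ (T : Subgroup S) [T.Normal], ∀ d ∈ T ⊓ Subgroup.centralizer (Y : Set S),
          x * d * x⁻¹ ∈ T ⊓ Subgroup.centralizer (Y : Set S) := by
        intro T _ d hd
        refine ⟨Subgroup.Normal.conj_mem inferInstance d hd.1 x, fun y hy => ?_⟩
        have e : y * x = x * y := congrArg Subtype.val (mul_comm' (⟨y, hY hy⟩ : Q) ⟨x, hX hxX⟩)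
        have e' := hd.2 y hy
        calc y * (x * d * x⁻¹) = x * (y * d) * x⁻¹ := by rw [← mul_assoc, ← mul_assoc, e]; simp [mul_assoc]
          _ = x * d * (y * x⁻¹) := by rw [e']; simp [mul_assoc]
          _ = x * d * x⁻¹ * y := by
              rw [show y * x⁻¹ = x⁻¹ * y from by
                rw [eq_inv_mul_iff_mul_eq, ← mul_assoc, ← e]; simp [mul_assoc]]
              simp [mul_assoc]
      -- every element of CY is of the form d⁻¹ * x d x⁻¹
      have hsurj : Function.Surjective (fun d : CY => (⟨(d : S)⁻¹ * (x * d * x⁻¹),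
          CY.mul_mem (CY.inv_mem d.2) (hconjY U d.1 d.2)⟩ : CY)) := by
        apply Finite.injective_iff_surjective.mp
        rintro ⟨d, hd⟩ ⟨e, he⟩ h
        simp only [Subtype.mk.injEq] at h ⊢
        have hde : e * d⁻¹ ∈ U ⊓ Subgroup.centralizer (X : Set S) ⊓ CY := by
          refine ⟨⟨U.mul_mem he.1 (U.inv_mem hd.1), ?_⟩, CY.mul_mem he (CY.inv_mem hd)⟩
          have h2 : x * (e * d⁻¹) * x⁻¹ = e * d⁻¹ := by
            have h3 : e * (d⁻¹ * (x * d * x⁻¹)) * (x * d * x⁻¹)⁻¹ = e * (e⁻¹ * (x * e * x⁻¹)) * (x * d * x⁻¹)⁻¹ := by rw [h]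
            simp [mul_assoc] at h3
            simpa [mul_assoc] using h3.symm
          rw [hXx]
          show e * d⁻¹ ∈ Subgroup.centralizer (Subgroup.zpowers x : Set S)
          rw [Subgroup.mem_centralizer_iff]
          rintro _ ⟨j, rfl⟩
          exact ((show Commute x (e * d⁻¹) from mul_inv_eq_iff_eq_mul.mp h2).zpow_left j).eq
        rw [hXY, Subgroup.mem_bot, mul_inv_eq_one] at hde
        exact hde.symm
      obtain ⟨⟨d, hd⟩, hdb⟩ := hsurj ⟨b, hb⟩
      have hdb' : d⁻¹ * (x * d * x⁻¹) = b := congrArg Subtype.val hdb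
      set w := ⁅a, d⁆ with hw
      have hwK : w ∈ K := hall d hd
      have hxa : x * a * x⁻¹ = a := by rw [ha.2 x hxX, mul_inv_cancel_right]
      have hxw : ⁅a, x * d * x⁻¹⁆ = x * w * x⁻¹ := by
        rw [hw]
        conv_lhs => rw [← hxa]
        simp [commutatorElement_def, mul_assoc]
      -- bilinearity modulo L
      have hf : π ⁅a, b⁆ = (π w)⁻¹ * π (x * w * x⁻¹) := by
        rw [← hxw, ← hdb', hw]
        set d' := x * d * x⁻¹
        have hd' : d' ∈ U := hconjU d hd.1
        have e1 : ⁅a, d⁻¹ * d'⁆ = ⁅a, d⁻¹⁆ * (d⁻¹ * ⁅a, d'⁆ * d) := by simp [commutatorElement_def, mul_assoc]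
        have e2 : ⁅a, d⁻¹⁆ = d⁻¹ * ⁅a, d⁆⁻¹ * d := by simp [commutatorElement_def, mul_assoc]
        have hd'K : ⁅a, d'⁆ ∈ K := by rw [hxw]; exact Subgroup.Normal.conj_mem inferInstance w hwK x
        have c1 := hcK _ (K.inv_mem hwK) d⁻¹ (U.inv_mem hd.1)
        have c2 := hcK _ hd'K d⁻¹ (U.inv_mem hd.1)
        rw [e1, e2, map_mul, map_mul, map_mul, map_mul, map_mul]
        rw [c1.symm.eq, c2.symm.eq]
        simp [hw, mul_assoc, ← map_mul]
      obtain ⟨k₁, hk₁, k₂, hk₂, hw12⟩ : ∃ k₁ ∈ K ⊓ Subgroup.centralizer (X : Set S),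
          ∃ k₂ ∈ K ⊓ Subgroup.centralizer (Y : Set S), π w = π k₁ * π k₂ := by
        have hwm : π w ∈ ((K ⊓ Subgroup.centralizer (X : Set S)) ⊔ (K ⊓ Subgroup.centralizer (Y : Set S))).map π :=
          ⟨w, hKgen hwK, rfl⟩
        rw [Subgroup.map_sup] at hwm
        have hcomm : (K ⊓ Subgroup.centralizer (Y : Set S)).map π ≤
            Subgroup.normalizer (((K ⊓ Subgroup.centralizer (X : Set S)).map π : Subgroup (S ⧸ L)) : Set (S ⧸ L)) := by
          refine H8.le_normalizer_of_conj_mem ?_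
          rintro _ ⟨u, hu, rfl⟩ _ ⟨v, hv, rfl⟩
          rw [((hcK v hv.1 u (hKU hu.1)).symm).eq, mul_inv_cancel_right]
          exact ⟨v, hv, rfl⟩
        rw [← SetLike.mem_coe, Subgroup.coe_mul_of_right_le_normalizer_left _ _ hcomm] at hwm
        obtain ⟨_, ⟨k₁, h1, rfl⟩, _, ⟨k₂, h2, rfl⟩, h⟩ := hwm
        exact ⟨k₁, h1, k₂, h2, h.symm⟩
      refine ⟨k₂⁻¹ * (x * k₂ * x⁻¹), Subgroup.mul_mem _ (Subgroup.inv_mem _ hk₂) (hconjY K k₂ hk₂), ?_⟩
      have hk1x : x * k₁ * x⁻¹ = k₁ := by rw [hk₁.2 x hxX, mul_inv_cancel_right]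
      rw [hf, map_mul π, map_mul π, hw12, map_inv π]
      have e : π x * (π k₁ * π k₂) * (π x)⁻¹ = π k₁ * π (x * k₂ * x⁻¹) := by
        conv_rhs => rw [← hk1x]
        simp [mul_assoc]
      rw [e, mul_inv_rev, map_mul π, map_inv]
      simp [mul_assoc]
    have hKgen : K ≤ (K ⊓ Subgroup.centralizer (X₁ : Set S)) ⊔ (K ⊓ Subgroup.centralizer (X₂ : Set S)) := by
      refine H8.generation hQ hQ1 (by rw [Subgroup.normalizer_eq_top]; exact le_top) (H8.not_dvd_card_of_le hKU hpU) fun B hB hBi => ?_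
      have hBc : Nat.card ↥B = q := by
        have h : Nat.card ↥B * B.relIndex Q = Nat.card ↥Q := by
          rw [Subgroup.relIndex, ← Nat.card_congr (Subgroup.subgroupOfEquivOfLe hB).toEquiv,
            Subgroup.card_mul_index]
        rw [hBi, hQc, pow_two] at h
        exact Nat.eq_of_mul_eq_mul_right (by omega) h
      by_cases hne : U ⊓ Subgroup.centralizer (B : Set S) = ⊥
      · exact (inf_le_inf_right _ hKU).trans (hne ▸ bot_le)
      · rcases honly B hB hBc hne with rfl | rfl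
        · exact le_sup_left
        · exact le_sup_right
    have hgenX : ∀ X : Subgroup S, Nat.card ↥X = q → ∃ x ∈ X, X = Subgroup.zpowers x := by
      intro X hX
      obtain ⟨x, hx, hx1⟩ := X.bot_or_exists_ne_one.resolve_left (by rintro rfl; simp at hX; omega)
      refine ⟨x, hx, (Subgroup.eq_of_le_of_card_ge (Subgroup.zpowers_le.mpr hx) ?_).symm⟩
      have h := Nat.le_of_dvd (orderOf_pos x) dvd_rfl
      have hd := X.orderOf_dvd_natCard hx
      rw [hX] at hd
      rcases (Nat.dvd_prime (Fact.out : q.Prime)).mp hd with h' | h'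
      · exact absurd (orderOf_eq_one_iff.mp h') hx1
      · rw [Nat.card_zpowers, h', hX]
    rw [Subgroup.commutator_le]
    intro a ha b hb
    obtain ⟨x₁, hx₁, hX₁⟩ := hgenX X₁ hc₁
    obtain ⟨x₂, hx₂, hX₂⟩ := hgenX X₂ hc₂
    have hK' : ∀ u ∈ C₁, ∀ v ∈ C₂, ⁅u, v⁆ ∈ K := fun u hu v hv => ih (Subgroup.commutator_mem_commutator hu hv)
    obtain ⟨k, hk, hek⟩ := half X₁ X₂ h₁ h₂ x₁ hx₁ hX₁ hdisj hKgen a ha b hb (hK' a ha b hb) (hK' a ha)
    obtain ⟨l, hl, hel⟩ := half X₂ X₁ h₂ h₁ x₂ hx₂ hX₂ (by rw [inf_comm]; exact hdisj)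
      (sup_comm (K ⊓ Subgroup.centralizer (X₁ : Set S)) _ ▸ hKgen) b hb a ha
      (by rw [← commutatorElement_inv]; exact K.inv_mem (hK' a ha b hb))
      (fun d hd => by rw [← commutatorElement_inv]; exact K.inv_mem (hK' d hd b hb))
    have hkl : π k = π l⁻¹ := by
      rw [← hek, map_inv, ← hel, ← map_inv, commutatorElement_inv]
    -- a coset fixed by Q contains a fixed point
    have hst : ∀ y ∈ Q, π (y * k * y⁻¹) = π k := by
      intro y hy
      have : Q ≤ Subgroup.comap π (Subgroup.centralizer ({π k} : Set (S ⧸ L))) := by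
        rw [← hXQ]
        refine sup_le ?_ ?_ <;> intro z hz <;> rw [Subgroup.mem_comap, Subgroup.mem_centralizer_singleton_iff]
        · rw [hkl, ← map_mul, ← map_mul]
          congr 1
          exact (show Commute z l from hl.2 z hz).inv_right.eq
        · rw [← map_mul, ← map_mul]
          congr 1
          exact hk.2 z hz
      have h2 := Subgroup.mem_centralizer_singleton_iff.mp (this hy)
      rw [map_mul, map_mul, map_inv, h2, mul_inv_cancel_right]
    have hLU : L ≤ U := (Subgroup.commutator_mono hKU le_rfl).trans U.commutator_le_self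
    obtain ⟨c, hc, n', hn', hkc⟩ := H8.exists_centralizer_mul (A := Q) (K := U) (N := L) (x := k) hQ'
      (by rw [Subgroup.normalizer_eq_top]; exact le_top) hpU hLU (hKU hk.1) (fun y hy => by
        rw [← QuotientGroup.eq_one_iff]
        show π (k⁻¹ * (y * k * y⁻¹)) = 1
        rw [map_mul, hst y hy, map_inv, inv_mul_cancel])
    rw [hfix, Subgroup.mem_bot] at hc
    rw [hc, one_mul] at hkc
    show ⁅a, b⁆ ∈ L
    rw [← QuotientGroup.eq_one_iff]
    show π ⁅a, b⁆ = 1
    rw [hek, hkc]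
    exact (QuotientGroup.eq_one_iff n').mpr hn'

end Cfsg.Agent.S1900
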