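import Cfsg.Statements.S1901
import Cfsg.Agent.H71.NoSylow

set_option autoImplicit false
open Cfsg

namespace Cfsg.Agent.S1901

/-- Let G be a finite p-solvable group and Q a subgroup of order prime to p such that p divides the index of C_G(Q) in N_G(Q). Then Q normalizes no Sylow p-subgroup of G. -/
theorem result {G : Type*} [Group G] [Finite G] {p : ℕ} [Fact p.Prime]
    (hG : Cfsg.IsPSolvable p G) (Q : Subgroup G) (hQ : ¬ p ∣ Nat.card Q)
    (hA : p ∣ (Subgroup.centralizer (Q : Set G)).relIndex (Subgroup.normalizer (Q : Set G)))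
    (P : Sylow p G) : ¬ Q ≤ Subgroup.normalizer ((P : Subgroup G) : Set G) := by
  intro hQP
  haveI : Finite ↥(Subgroup.normalizer (Q : Set G)) := inferInstance
  obtain ⟨R⟩ := (inferInstance : Nonempty (Sylow p ↥(Subgroup.normalizer (Q : Set G))))
  have hR : (R : Subgroup ↥(Subgroup.normalizer (Q : Set G))) ≤
      (Subgroup.centralizer (Q : Set G)).subgroupOf (Subgroup.normalizer (Q : Set G)) := by
    intro x hx q hq
    have h := H71.centralizes_of_normalizes_sylow (p := p) (Nat.card G) le_rfl hG Q hQ P hQP (x : G)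
      (fun r hr => (Subgroup.mem_normalizer_iff.mp x.2 r).mp hr) (by
        obtain ⟨k, hk⟩ := R.isPGroup' ⟨x, hx⟩
        exact ⟨k, by simpa using congrArg (fun u : ↥(R : Subgroup ↥(Subgroup.normalizer (Q : Set G))) => ((u : ↥(Subgroup.normalizer (Q : Set G))) : G)) hk⟩) q hq
    rw [mul_inv_eq_iff_eq_mul] at h
    exact h.symm
  exact R.not_dvd_index (hA.trans (Subgroup.index_dvd_of_le hR))

end Cfsg.Agent.S1901
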