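import Cfsg.Statements.S1902
import Cfsg.Agent.H72.BSignalizer
import Cfsg.Agent.H10.PSolvable
import Cfsg.Agent.H84.Invariant
import Cfsg.Agent.H84.Constrained

set_option autoImplicit false
open Cfsg

namespace Cfsg.Agent.S1902

/-- Let p be an odd prime, G a finite p-solvable group, and B an elementary abelian subgroup of order p² such that B is the subgroup generated by the elements of order p of some Sylow p-subgroup of C_G(b₀), for some nontrivial b₀ ∈ B. Then every B-invariant subgroup of G of order prime to p lies in O_{p'}(G). -/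
theorem result {G : Type*} [Group G] [Finite G] {p : ℕ} [Fact p.Prime] (hp : p ≠ 2)
    (hG : Cfsg.IsPSolvable p G) (B : Subgroup G) (hB : Cfsg.IsElementaryAbelian p B) (hBc : Nat.card B = p ^ 2)
    (b₀ : G) (hb₀ : b₀ ∈ B) (hb₁ : b₀ ≠ 1) (P : Sylow p ↥(Subgroup.centralizer ({b₀} : Set G)))
    (hBP : B = Subgroup.closure {x : G | x ∈ ((P : Subgroup ↥(Subgroup.centralizer ({b₀} : Set G))).map
      (Subgroup.centralizer ({b₀} : Set G)).subtype : Subgroup G) ∧ orderOf x = p})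
    (Q : Subgroup G) (hQ : ¬ p ∣ Nat.card Q) (hinv : ∀ b ∈ B, ∀ x ∈ Q, b * x * b⁻¹ ∈ Q) :
    Q ≤ Cfsg.pPrimeCore p G := by
  classical
  have hp' := (Fact.out : p.Prime)
  set K := Cfsg.pPrimeCore p G with hK
  haveI := H1.pPrimeCore_normal' p G
  set f := QuotientGroup.mk' K with hf
  have hKc : ¬ p ∣ Nat.card K := H84.not_dvd_card_pPrimeCore p
  have hcs : Subgroup.centralizer (Cfsg.pCore p (G ⧸ K) : Set (G ⧸ K)) ≤ Cfsg.pCore p (G ⧸ K) :=
    H10.centralizer_pCore_le (H10.isPSolvable_quotient hG _) H10.pPrimeCore_quotient_pPrimeCore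
  have hBp : IsPGroup p B := IsPGroup.of_card hBc
  have hBK : B ⊓ K = ⊥ := Cfsg.Comp.inf_eq_bot_of_isPGroup hBp hKc
  have hkerB : ∀ x ∈ B, f x = 1 → x = 1 := fun x hx h =>
    Subgroup.mem_bot.mp (hBK ▸ ⟨hx, (QuotientGroup.eq_one_iff x).mp h⟩)
  have hBc' : Nat.card (B.map f) = p ^ 2 := by
    rw [← hBc]
    refine (Nat.card_congr (Equiv.ofBijective (fun x : B => (⟨f x, Subgroup.mem_map_of_mem f x.2⟩ : B.map f))
      ⟨fun x y h => ?_, ?_⟩)).symm
    · have h' : f x = f y := congrArg Subtype.val h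
      exact Subtype.ext (mul_inv_eq_one.mp (hkerB _ (B.mul_mem x.2 (B.inv_mem y.2))
        (by rw [map_mul, map_inv, h', mul_inv_cancel])))
    · rintro ⟨_, x, hx, rfl⟩
      exact ⟨⟨x, hx⟩, rfl⟩
  have hb₀p : b₀ ^ p = 1 := hB.2 b₀ hb₀
  have hfin := H72.invariant_pprime_eq_bot hp hcs (B.map f) hBc'
    (by rintro _ ⟨x, hx, rfl⟩ _ ⟨y, hy, rfl⟩; rw [← map_mul, ← map_mul, (show x * y = y * x from congrArg Subtype.val (hB.1.is_comm.comm (⟨x, hx⟩ : B) ⟨y, hy⟩))])
    (f b₀) (Subgroup.mem_map_of_mem f hb₀) (by rw [← map_pow, hb₀p, map_one])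
    (fun x hxR hxp hxc => ?_) (Q.map f)
    (fun h => hQ (h.trans (Subgroup.card_map_dvd _ _)))
    (by
      rintro _ ⟨b, hb, rfl⟩ _ ⟨x, hx, rfl⟩
      exact ⟨b * x * b⁻¹, hinv b hb x hx, by rw [map_mul, map_mul, map_inv]⟩)
  · intro x hx
    rw [Subgroup.map_eq_bot_iff, QuotientGroup.ker_mk'] at hfin
    exact hfin hx
  let C := Subgroup.centralizer ({b₀} : Set G)
  have hxC : x ∈ C.map f := by
    have hE : IsPGroup p (Subgroup.zpowers b₀) :=
      hBp.to_le (Subgroup.zpowers_le.mpr hb₀)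
    have h1 : x ∈ Subgroup.centralizer (((Subgroup.zpowers b₀).map f : Subgroup (G ⧸ K)) : Set (G ⧸ K)) := by
      refine Subgroup.mem_centralizer_iff.mpr ?_
      rintro _ ⟨_, ⟨i, rfl⟩, rfl⟩
      rw [map_zpow]
      exact ((show Commute x (f b₀) from hxc).zpow_right i).symm.eq
    rw [hf, H84.centralizer_map_mk' K hE hKc] at h1
    obtain ⟨y, hy, hyx⟩ := h1
    exact ⟨y, Subgroup.mem_centralizer_singleton_iff.mpr
      (Subgroup.mem_centralizer_iff.mp hy b₀ (Subgroup.mem_zpowers b₀)).symm, hyx⟩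
  haveI : (Cfsg.pCore p (G ⧸ K)).Normal := H1.pCore_normal' p _
  set P' : Sylow p ↥(C.map f) := P.mapSurjective (f.subgroupMap_surjective C) with hP'
  set N := (Cfsg.pCore p (G ⧸ K)).subgroupOf (C.map f) with hN
  have hNp : IsPGroup p N := (H1.isPGroup_pCore p (G ⧸ K)).comap_of_injective _ (Subgroup.subtype_injective _)
  have hsup : (P' : Subgroup ↥(C.map f)) ⊔ N = P' :=
    P'.3 (P'.2.to_sup_of_normal_right hNp) le_sup_left
  have hxP : (⟨x, hxC⟩ : ↥(C.map f)) ∈ (P' : Subgroup ↥(C.map f)) := hsup.le (Subgroup.mem_sup_right hxR)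
  rw [hP', Sylow.coe_mapSurjective] at hxP
  obtain ⟨y, hyP, hyx⟩ := hxP
  have hfy : f (y : G) = x := congrArg Subtype.val hyx
  have hypK : (y : G) ^ p ∈ K := (QuotientGroup.eq_one_iff _).mp (show f ((y : G) ^ p) = 1 by rw [map_pow, hfy, hxp])
  have hyPG : (y : G) ∈ ((P : Subgroup ↥C).map C.subtype : Subgroup G) := ⟨y, hyP, rfl⟩
  have hyp : (y : G) ^ p = 1 := Subgroup.mem_bot.mp
    (Cfsg.Comp.inf_eq_bot_of_isPGroup (P.2.map C.subtype) hKc ▸
      ⟨Subgroup.pow_mem _ hyPG p, hypK⟩)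
  refine ⟨(y : G), ?_, hfy⟩
  by_cases hy1 : (y : G) = 1
  · rw [hy1]; exact B.one_mem
  · rw [hBP]
    exact Subgroup.subset_closure ⟨hyPG, orderOf_eq_prime hyp hy1⟩

end Cfsg.Agent.S1902
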