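import Cfsg.Statements.S1903
import Cfsg.Agent.H61.Order320Gen
import Cfsg.Agent.H61.U34Centralizer

set_option autoImplicit false
open Cfsg

namespace Cfsg.Agent.S1903

/-- A finite group of order 320 whose derived subgroup has order 64 and has centre a Klein four-group is isomorphic to the centralizer of an involution in PSU₃(4). -/
theorem result {G : Type*} [Group G] [Finite G] (hG : Nat.card G = 320) (hD : Nat.card (commutator G) = 64)
    (hZ : IsKleinFour (Subgroup.center (commutator G)))
    {F : Type*} [Field F] [Fintype F] (hF : Fintype.card F = 16) :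
    ∃ t : Cfsg.PSU 3 F 4, orderOf t = 2 ∧ Nonempty (G ≃* Subgroup.centralizer ({t} : Set (Cfsg.PSU 3 F 4))) := by
  classical
  have hF2 : Fintype.card F = 4 ^ 2 := by rw [hF]; norm_num
  obtain ⟨t, ht, y', s', a', b', hrel', hcl, hcard⟩ := H61.U34.exists_rel hF
  obtain ⟨y, s, a, b, hrel, hgen⟩ := H61.Ord320.exists_rel hG hD hZ
  let π := QuotientGroup.mk' (Subgroup.center (Cfsg.SU 3 F 4))
  have hπ : Function.Injective π := by
    rw [← MonoidHom.ker_eq_bot_iff, QuotientGroup.ker_mk', ← Subgroup.card_eq_one,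
      H50.card_center_SU hF2 (by norm_num)]
    rfl
  have hπs : Function.Surjective π := QuotientGroup.mk'_surjective _
  refine ⟨π t, by rw [orderOf_injective π hπ, ht], ?_⟩
  have hmap : (Subgroup.centralizer ({t} : Set (Cfsg.SU 3 F 4))).map π
      = Subgroup.centralizer ({π t} : Set (Cfsg.PSU 3 F 4)) := by
    ext g
    obtain ⟨g, rfl⟩ := hπs g
    rw [Subgroup.mem_map_iff_mem hπ, Subgroup.mem_centralizer_singleton_iff,
      Subgroup.mem_centralizer_singleton_iff, ← map_mul, ← map_mul, hπ.eq_iff]
  obtain ⟨e⟩ := H61.Ord320.nonempty_equiv hrel hrel' hgen hG (by rw [hcl, hcard])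
  exact ⟨e.trans ((MulEquiv.subgroupCongr hcl).trans
    (((Subgroup.centralizer ({t} : Set (Cfsg.SU 3 F 4))).equivMapOfInjective π hπ).trans
      (MulEquiv.subgroupCongr hmap)))⟩

end Cfsg.Agent.S1903
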