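import Cfsg.Statements.S1904
import Cfsg.Agent.H2.ScnEmpty.Count

set_option autoImplicit false
open Cfsg
open scoped commutatorElement

namespace Cfsg.Agent.S1904

/-- Let X be a finite nonabelian 2-group with no normal abelian subgroup that is self-centralizing and contains an elementary abelian subgroup of order 8. Suppose a group A of automorphisms of X of odd order satisfies [X, A] = X. Then X is the quaternion group of order 8, or X is special of order 64 with exactly three involutions, all central, or X is extraspecial of order 32 with exactly eleven involutions (the central product of a quaternion group and a dihedral group of order 8). -/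
theorem result {X : Type*} [Group X] [Finite X] (hX : IsPGroup 2 X) (hna : ¬ IsMulCommutative X)
    (hscn : ¬ ∃ A : Subgroup X, A.Normal ∧ Subgroup.centralizer (A : Set X) = A ∧
      ∃ E : Subgroup X, E ≤ A ∧ Cfsg.IsElementaryAbelian 2 E ∧ Nat.card E = 8)
    (A : Subgroup (MulAut X)) (hA : Odd (Nat.card A))
    (hXA : Subgroup.closure {g : X | ∃ φ ∈ A, ∃ x : X, g = x⁻¹ * φ x} = ⊤) :
    Nonempty (X ≃* QuaternionGroup 2) ∨
      (Cfsg.IsSpecial 2 X ∧ Nat.card X = 64 ∧ Nat.card {x : X // orderOf x = 2} = 3 ∧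
        ∀ x : X, orderOf x = 2 → x ∈ Subgroup.center X) ∨
      (Cfsg.IsExtraspecial 2 X ∧ Nat.card X = 32 ∧ Nat.card {x : X // orderOf x = 2} = 11) := by
  classical
  haveI : Fact (Nat.Prime 2) := ⟨Nat.prime_two⟩
  have hrank : ∀ N : Subgroup X, N.Normal → (∀ a ∈ N, ∀ b ∈ N, a * b = b * a) →
      (∀ a ∈ N, a * a = 1) → Nat.card N ≤ 4 := by
    intro N hn hab hsq
    by_contra hgt
    push Not at hgt
    have hNc : IsMulCommutative N := ⟨⟨fun a b => Subtype.ext (hab a a.2 b b.2)⟩⟩
    obtain ⟨M, hNM, hMn, hMc, hmax⟩ := H6.exists_maximal_normal_abelian hn hNc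
    haveI := hMn
    obtain ⟨k, hk⟩ := IsPGroup.iff_card.mp (hX.to_subgroup N)
    have h8 : (2 : ℕ) ^ 3 ≤ Nat.card N := by
      rw [hk] at hgt ⊢
      refine Nat.pow_le_pow_right (by norm_num) ?_
      by_contra hlt
      have h := Nat.pow_le_pow_right (show 0 < 2 by norm_num) (show k ≤ 2 by omega)
      norm_num at h
      omega
    obtain ⟨E, hE⟩ := Sylow.exists_subgroup_card_pow_prime 2 (G := N) (n := 3)
      (hk ▸ pow_dvd_pow 2 ((Nat.pow_le_pow_iff_right (by norm_num)).mp (hk ▸ h8)))
    refine hscn ⟨M, hMn, H6.centralizer_eq_of_maximal_normal_abelian hX hMc hmax,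
      E.map N.subtype, ?_, ⟨?_, ?_⟩, ?_⟩
    · intro x hx
      obtain ⟨y, -, rfl⟩ := Subgroup.mem_map.mp hx
      exact hNM y.2
    · refine ⟨⟨fun a b => Subtype.ext ?_⟩⟩
      obtain ⟨y, -, hy⟩ := Subgroup.mem_map.mp a.2
      obtain ⟨y', -, hy'⟩ := Subgroup.mem_map.mp b.2
      exact hab a (hy ▸ y.2) b (hy' ▸ y'.2)
    · intro a ha
      obtain ⟨y, -, rfl⟩ := Subgroup.mem_map.mp ha
      rw [pow_two]; exact hsq y y.2
    · rw [Subgroup.card_map_of_injective N.subtype_injective, hE]; norm_num
  have S : H2.ScnEmpty.Setup A := ⟨hX, hA, hXA, hrank⟩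
  have hcomm : commutator X ≠ ⊥ := by
    intro h
    refine hna ⟨⟨fun a b => commutatorElement_eq_one_iff_mul_comm.mp ?_⟩⟩
    have h' : ⁅a, b⁆ ∈ commutator X :=
      Subgroup.commutator_mem_commutator (Subgroup.mem_top a) (Subgroup.mem_top b)
    rwa [h, Subgroup.mem_bot] at h'
  have F : H2.ScnEmpty.Final X := by
    by_cases hfix : ∀ φ ∈ A, ∀ z ∈ H2.ScnEmpty.zOne X, φ z = z
    · exact H2.ScnEmpty.Setup.final_fixed S hfix
    · push Not at hfix
      obtain ⟨φ, hφ, z, hz, hne⟩ := hfix
      exact S.final_moved hcomm hφ hz hne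
  have hzc : H2.ScnEmpty.zOne X = Subgroup.center X :=
    le_antisymm H2.ScnEmpty.zOne_le_center F.center_le
  have hcle : commutator X ≤ H2.ScnEmpty.zOne X := by
    rw [commutator_def, Subgroup.commutator_le]
    exact fun x _ y _ => F.comm x y
  have hcomm' : commutator X = Subgroup.center X :=
    le_antisymm (hcle.trans H2.ScnEmpty.zOne_le_center) (F.center_le.trans F.le_commutator)
  have hspecial : Cfsg.IsSpecial 2 X := by
    refine ⟨hX, le_antisymm ?_ ?_, hcomm'⟩
    · exact H6.frattini_le_of_quotient (Subgroup.center X) hcomm'.le fun g => by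
        rw [pow_two]; exact H2.ScnEmpty.zOne_le_center (F.sq g)
    · exact hcomm'.ge.trans (H6.commutator_le_frattini hX)
  haveI : Nontrivial X := by
    by_contra h
    rw [not_nontrivial_iff_subsingleton] at h
    exact hna ⟨⟨fun a b => Subsingleton.elim _ _⟩⟩
  obtain ⟨k, hk⟩ := H2.ScnEmpty.exists_two_pow_card hX (H2.ScnEmpty.zOne X)
  have hk1 : 1 < Nat.card (H2.ScnEmpty.zOne X) :=
    (Subgroup.one_lt_card_iff_ne_bot _).mpr S.zOne_ne_bot
  have hk4 := S.card_zOne_le
  have hk24 : Nat.card (H2.ScnEmpty.zOne X) = 4 ∨ Nat.card (H2.ScnEmpty.zOne X) = 2 := by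
    rw [hk] at hk1 hk4 ⊢
    rcases k with _ | _ | _ | k
    · simp at hk1
    · simp
    · simp
    · have h := Nat.pow_le_pow_right (show 0 < 2 by norm_num) (show 3 ≤ k + 1 + 1 + 1 by omega)
      norm_num at h
      omega
  rcases hk24 with h4 | h2
  · refine Or.inr (Or.inl ⟨hspecial, S.card_four F h4, ?_, fun x hx => ?_⟩)
    · haveI : Fintype X := Fintype.ofFinite X
      have he : (Finset.univ.filter fun x : X => orderOf x = 2) =
          (Finset.univ.filter fun x : X => x ∈ H2.ScnEmpty.zOne X).erase 1 := by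
        ext x
        simp only [Finset.mem_filter, Finset.mem_univ, true_and, Finset.mem_erase]
        constructor
        · intro h
          refine ⟨fun h1 => by rw [h1, orderOf_one] at h; norm_num at h,
            S.involutions_central F h4 ?_⟩
          rw [← pow_two, ← h, pow_orderOf_eq_one]
        · exact fun h => orderOf_eq_prime (by rw [pow_two]; exact h.2.2) h.1
      have hz4 : (Finset.univ.filter fun x : X => x ∈ H2.ScnEmpty.zOne X).card = 4 := by
        rw [← h4, Nat.card_eq_fintype_card, Fintype.card_subtype]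
      rw [Nat.card_eq_fintype_card, Fintype.card_subtype, he,
        Finset.card_erase_of_mem (by simp [one_mem]), hz4]
    · refine H2.ScnEmpty.zOne_le_center (S.involutions_central F h4 ?_)
      rw [← pow_two, ← hx, pow_orderOf_eq_one]
  · rcases S.card_two F h2 with h | ⟨h32, h11⟩
    · exact Or.inl h
    · exact Or.inr (Or.inr ⟨⟨hspecial, hzc ▸ h2⟩, h32, h11⟩)

end Cfsg.Agent.S1904
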