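import Cfsg.Statements.S1905
import Cfsg.Agent.H70.TwoInvol
import Mathlib
import Cfsg.Agent.H72.ConjBasics

set_option autoImplicit false
open Cfsg

namespace Cfsg.Agent.S1905

/-- Let M be a subgroup of even order of a finite group S such that M contains the centralizer in S of each of its involutions and the normal core of M in S has odd order. Then all involutions of S are conjugate. If moreover N_S(X) ≤ M for a Sylow 2-subgroup X of M and I is an involution in the centre of X, then all involutions of M are conjugate in M and M = M₀ C_M(I) for some subgroup M₀ of M of odd order. -/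
theorem result {S : Type*} [Group S] [Finite S] (M : Subgroup S) (hM : Even (Nat.card M))
    (hC : ∀ i ∈ M, orderOf i = 2 → Subgroup.centralizer ({i} : Set S) ≤ M) (hcore : Odd (Nat.card M.normalCore)) :
    (∀ x y : S, orderOf x = 2 → orderOf y = 2 → IsConj x y) ∧
      ∀ (X : Sylow 2 M) (I : M), I ∈ (Subgroup.center ↥(X : Subgroup ↥M)).map (X : Subgroup ↥M).subtype → orderOf I = 2 →
        Subgroup.normalizer (((X : Subgroup M).map M.subtype : Subgroup S) : Set S) ≤ M →
        (∀ x y : M, orderOf x = 2 → orderOf y = 2 → IsConj x y) ∧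
          ∃ M₀ : Subgroup M, Odd (Nat.card M₀) ∧
            ∀ m : M, ∃ a ∈ M₀, ∃ c ∈ Subgroup.centralizer ({I} : Set M), m = a * c := by
  classical
  have mul2 : ∀ x : S, orderOf x = 2 → x * x = 1 := fun x hx => H70.mul_self_of_two hx
  have two : ∀ x : S, x * x = 1 → x ≠ 1 → orderOf x = 2 := fun x h h' =>
    orderOf_eq_prime (by rwa [pow_two]) h'
  have two_conj : ∀ x g : S, orderOf x = 2 → orderOf (g * x * g⁻¹) = 2 := by
    intro x g hx
    refine two _ ?_ ?_
    · rw [show g * x * g⁻¹ * (g * x * g⁻¹) = g * (x * x) * g⁻¹ by group, mul2 x hx]; group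
    · intro h
      have : x = 1 := by
        have e : x = g⁻¹ * (g * x * g⁻¹) * g := by group
        rw [h] at e; simpa using e
      simp [this] at hx
  have cent : ∀ i ∈ M, orderOf i = 2 → ∀ x : S, x * i = i * x → x ∈ M := fun i hi hi2 x h =>
    hC i hi hi2 (Subgroup.mem_centralizer_singleton_iff.mpr h)
  have key : ∀ i j : S, i ∈ M → j ∉ M → orderOf i = 2 → orderOf j = 2 → IsConj i j := by
    intro i j hi hj hi2 hj2
    by_contra hne
    obtain ⟨u, -, hu2, hui, huj⟩ := H70.exists_commute_of_not_isConj hi2 hj2 hne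
    exact hj (cent u (cent i hi hi2 u hui.eq) hu2 j huj.eq.symm)
  have outside : ∀ x : S, orderOf x = 2 → ∃ g : S, g * x * g⁻¹ ∉ M := by
    intro x hx
    by_contra h
    push Not at h
    have hle : Subgroup.normalClosure {x} ≤ M.normalCore :=
      Subgroup.normal_le_normalCore.mpr
        ((Subgroup.closure_le M).mpr fun y hy => by
          obtain ⟨z, hz, hc⟩ := Group.mem_conjugatesOfSet_iff.mp hy
          rw [Set.mem_singleton_iff] at hz; subst hz
          obtain ⟨g, rfl⟩ := isConj_iff.mp hc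
          exact h g)
    have h1 : orderOf x ∣ Nat.card M.normalCore :=
      Subgroup.orderOf_dvd_natCard _ (hle (Subgroup.subset_normalClosure (Set.mem_singleton x)))
    rw [hx] at h1
    exact (Nat.not_even_iff_odd.mpr hcore) (even_iff_two_dvd.mpr h1)
  obtain ⟨i₀, hi₀, hi₀2⟩ : ∃ i ∈ M, orderOf i = 2 := by
    obtain ⟨i, hi⟩ := exists_prime_orderOf_dvd_card' (G := M) 2 (even_iff_two_dvd.mp hM)
    exact ⟨i, i.2, (Subgroup.orderOf_coe i).trans hi⟩
  have part1 : ∀ x y : S, orderOf x = 2 → orderOf y = 2 → IsConj x y := by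
    have : ∀ x : S, orderOf x = 2 → IsConj i₀ x := by
      intro x hx
      obtain ⟨g, hg⟩ := outside x hx
      exact (key i₀ _ hi₀ hg hi₀2 (two_conj x g hx)).trans (isConj_iff.mpr ⟨g, rfl⟩).symm
    exact fun x y hx hy => (this x hx).symm.trans (this y hy)
  refine ⟨part1, fun X I hI hI2 hN => ?_⟩
  obtain ⟨⟨I', hI'X⟩, hI'c, rfl⟩ := hI
  simp only [Subgroup.coe_subtype] at hI2 ⊢
  have hIX : ∀ x : M, x ∈ (X : Subgroup M) → x * I' = I' * x := fun x hx =>
    congrArg Subtype.val (Subgroup.mem_center_iff.mp hI'c ⟨x, hx⟩)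
  have hI2' : orderOf (I' : S) = 2 := (Subgroup.orderOf_coe I').trans hI2
  have SEX : ∀ (g : S) (x : M), x ∈ (X : Subgroup M) → orderOf x = 2 →
      g * (x : S) * g⁻¹ ∈ M → g ∈ M := by
    intro g x hxX hx2 hgx
    have hx2' : orderOf (x : S) = 2 := (Subgroup.orderOf_coe x).trans hx2
    have hc : (x : S) * I' = I' * x := congrArg Subtype.val (hIX x hxX)
    have hgI : g * (I' : S) * g⁻¹ ∈ M := by
      refine cent _ hgx (two_conj _ g hx2') _ ?_
      rw [show g * (I' : S) * g⁻¹ * (g * x * g⁻¹) = g * ((I' : S) * x) * g⁻¹ by group,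
        ← hc]; group
    set T : Subgroup S := (X : Subgroup M).map M.subtype with hT
    have hTg : T.map (MulAut.conj g).toMonoidHom ≤ M := by
      rintro _ ⟨_, ⟨y, hy, rfl⟩, rfl⟩
      refine cent _ hgI (two_conj _ g hI2') _ ?_
      have hyc : (y : S) * I' = I' * y := congrArg Subtype.val (hIX y hy)
      simp only [MulEquiv.coe_toMonoidHom, MulAut.conj_apply, Subgroup.coe_subtype]
      rw [show g * (y : S) * g⁻¹ * (g * I' * g⁻¹) = g * ((y : S) * I') * g⁻¹ by group,
        hyc]; group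
    have hp : IsPGroup 2 ((T.map (MulAut.conj g).toMonoidHom).subgroupOf M) :=
      IsPGroup.of_equiv ((X.2.map M.subtype).map _) (Subgroup.subgroupOfEquivOfLe hTg).symm
    obtain ⟨Y, hY⟩ := hp.exists_le_sylow
    obtain ⟨m, hm⟩ := MulAction.exists_smul_eq M Y X
    have hle : T.map (MulAut.conj ((m : S) * g)).toMonoidHom ≤ T := by
      rintro _ ⟨y, hy, rfl⟩
      have h1 : (⟨g * y * g⁻¹, hTg ⟨y, hy, by simp⟩⟩ : M) ∈ (Y : Subgroup M) :=
        hY ⟨y, hy, by simp⟩
      refine ⟨m * ⟨g * y * g⁻¹, hTg ⟨y, hy, by simp⟩⟩ * m⁻¹, ?_, by simp [mul_assoc]⟩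
      rw [← hm, SetLike.mem_coe, Sylow.coe_subgroup_smul, Subgroup.mem_pointwise_smul_iff_inv_smul_mem]
      simpa [MulAut.smul_def, mul_assoc] using h1
    have hmem : (m : S) * g ∈ Subgroup.normalizer (T : Set S) := H72.mem_normalizer_of_map_le hle
    have := M.mul_mem (M.inv_mem m.2) (hN hmem)
    simpa using this
  have SE : ∀ (g t : S), t ∈ M → orderOf t = 2 → g * t * g⁻¹ ∈ M → g ∈ M := by
    intro g t ht ht2 hg
    have hp : IsPGroup 2 (Subgroup.zpowers (⟨t, ht⟩ : M)) := by
      refine IsPGroup.of_card (n := 1) ?_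
      rw [Nat.card_zpowers, ← Subgroup.orderOf_coe, ht2, pow_one]
    obtain ⟨Y, hY⟩ := hp.exists_le_sylow
    obtain ⟨m, hm⟩ := MulAction.exists_smul_eq M Y X
    have hmem : m * ⟨t, ht⟩ * m⁻¹ ∈ (X : Subgroup M) := by
      rw [← hm, Sylow.coe_subgroup_smul, Subgroup.mem_pointwise_smul_iff_inv_smul_mem]
      simpa [MulAut.smul_def, mul_assoc] using hY (Subgroup.mem_zpowers _)
    have h2 := SEX (g * (m : S)⁻¹) _ hmem
      (by rw [← Subgroup.orderOf_coe]; simpa using two_conj t m ht2) (by simpa [mul_assoc] using hg)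
    have := M.mul_mem h2 m.2
    simpa using this
  have conjM : ∀ x y : M, orderOf x = 2 → orderOf y = 2 → IsConj x y := by
    intro x y hx hy
    have hx' : orderOf (x : S) = 2 := (Subgroup.orderOf_coe x).trans hx
    obtain ⟨g, hg⟩ := isConj_iff.mp (part1 x y hx' ((Subgroup.orderOf_coe y).trans hy))
    have hgM := SE g x x.2 hx' (hg ▸ y.2)
    exact isConj_iff.mpr ⟨⟨g, hgM⟩, Subtype.ext (by simpa using hg)⟩
  refine ⟨conjM, ?_⟩
  let IS := {x : S // orderOf x = 2}
  let IM := {x : M // orderOf x = 2}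
  let e : (S ⧸ M) × IM → IS := fun a => ⟨a.1.out * (a.2.1 : S) * a.1.out⁻¹,
    two_conj _ _ ((Subgroup.orderOf_coe a.2.1).trans a.2.2)⟩
  have hebij : Function.Bijective e := by
    constructor
    · rintro ⟨q, x⟩ ⟨r, y⟩ h
      have h' : q.out * (x.1 : S) * q.out⁻¹ = r.out * (y.1 : S) * r.out⁻¹ := congrArg Subtype.val h
      have hmem : r.out⁻¹ * q.out ∈ M := by
        refine SE _ x.1 x.1.2 ((Subgroup.orderOf_coe x.1).trans x.2) ?_
        rw [show r.out⁻¹ * q.out * (x.1 : S) * (r.out⁻¹ * q.out)⁻¹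
          = r.out⁻¹ * (q.out * (x.1 : S) * q.out⁻¹) * r.out by group, h']
        simp [mul_assoc]
      have hqr : q = r := by
        rw [← QuotientGroup.out_eq' q, ← QuotientGroup.out_eq' r]
        exact (QuotientGroup.eq.mpr hmem).symm
      subst hqr
      refine Prod.ext rfl (Subtype.ext (Subtype.ext ?_))
      simpa using h'
    · rintro ⟨x, hx⟩
      obtain ⟨g, hg⟩ := isConj_iff.mp (part1 i₀ x hi₀2 hx)
      obtain ⟨m, hm⟩ := QuotientGroup.mk_out_eq_mul M g
      refine ⟨⟨QuotientGroup.mk g, ⟨(m : M)⁻¹ * ⟨i₀, hi₀⟩ * m, ?_⟩⟩, Subtype.ext ?_⟩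
      · rw [← Subgroup.orderOf_coe]
        simpa using two_conj i₀ (m : S)⁻¹ hi₀2
      · simp only [e, hm]
        simp [← hg, mul_assoc]
  have hcard : Nat.card IS = M.index * Nat.card IM := by
    rw [← Nat.card_eq_of_bijective e hebij, Nat.card_prod, ← Subgroup.index_eq_card]
  have hMtop : M ≠ ⊤ := fun h => by
    obtain ⟨g, hg⟩ := outside i₀ hi₀2
    exact hg (h ▸ Subgroup.mem_top _)
  have hn1 : 1 < M.index := by
    have h0 : M.index ≠ 0 := Subgroup.FiniteIndex.index_ne_zero
    have h1 : M.index ≠ 1 := fun h => hMtop (Subgroup.index_eq_one.mp h)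
    omega
  let Out := {x : IS // (x : S) ∉ M}
  have hInEq : Nat.card {x : IS // (x : S) ∈ M} = Nat.card IM := Nat.card_congr
    { toFun := fun x => ⟨⟨(x.1 : S), x.2⟩, (Subgroup.orderOf_coe _).symm.trans x.1.2⟩
      invFun := fun x => ⟨⟨(x.1 : S), (Subgroup.orderOf_coe _).trans x.2⟩, x.1.2⟩
      left_inv := fun x => rfl
      right_inv := fun x => rfl }
  have hOut : Nat.card Out + Nat.card IM = M.index * Nat.card IM := by
    rw [← hcard, ← hInEq, ← Nat.card_congr (Equiv.sumCompl fun x : IS => (x : S) ∈ M),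
      Nat.card_sum, add_comm]
  have : Fintype Out := Fintype.ofFinite _
  have : Fintype (S ⧸ M) := Fintype.ofFinite _
  let f : Out → S ⧸ M := fun x => QuotientGroup.mk ((x.1 : IS) : S)
  obtain ⟨q, hq, hfib⟩ := Finset.exists_le_card_fiber_of_mul_le_card_of_maps_to
    (s := (Finset.univ : Finset Out)) (t := (Finset.univ : Finset (S ⧸ M)).erase (QuotientGroup.mk 1))
    (f := f) (n := Nat.card IM) (fun x _ => Finset.mem_erase.mpr ⟨fun h => x.2 (by
        have := QuotientGroup.eq.mp h.symm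
        simpa using this), Finset.mem_univ _⟩)
    (by
      rw [← Finset.card_pos, Finset.card_erase_of_mem (Finset.mem_univ _), Finset.card_univ,
        ← Nat.card_eq_fintype_card, ← Subgroup.index_eq_card]
      omega)
    (by
      rw [Finset.card_erase_of_mem (Finset.mem_univ _), Finset.card_univ, Finset.card_univ,
        ← Nat.card_eq_fintype_card, ← Subgroup.index_eq_card, Nat.sub_mul, one_mul,
        ← Nat.card_eq_fintype_card]
      omega)
  have hIMpos : 0 < Nat.card IM := by
    have : Nonempty IM := ⟨⟨⟨i₀, hi₀⟩, (Subgroup.orderOf_coe _).symm.trans hi₀2⟩⟩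
    exact Nat.card_pos
  obtain ⟨u₀, hu₀⟩ := Finset.card_pos.mp (lt_of_lt_of_le hIMpos hfib)
  set u : S := ((u₀.1 : IS) : S) with hu
  have hu2 : orderOf u = 2 := u₀.1.2
  have huM : u ∉ M := u₀.2
  have huu := mul2 u hu2
  have huinv : u⁻¹ = u := H70.inv_eq_self_of_two hu2
  set D : Subgroup S := M ⊓ M.map (MulAut.conj u).toMonoidHom with hD
  have hDmem : ∀ d ∈ D, u * d * u ∈ M := by
    rintro d ⟨-, a, ha, rfl⟩
    have : u * (u * a * u⁻¹) * u = (u * u) * a * (u⁻¹ * u) := by group
    simpa [this, huu] using ha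
  have hDodd : Odd (Nat.card D) := by
    rw [← Nat.not_even_iff_odd]
    intro hev
    obtain ⟨t, ht⟩ := exists_prime_orderOf_dvd_card' (G := D) 2 (even_iff_two_dvd.mp hev)
    exact huM (SE u t t.2.1 ((Subgroup.orderOf_coe t).trans ht) (by rw [huinv]; exact hDmem t t.2))
  let F := {x : Out // f x = q}
  have hK : ∀ x : F, ∃ d : M, (d : S) ∈ D ∧ ((x.1.1 : IS) : S) = u * d := by
    intro x
    have h1 : f u₀ = f x.1 := (Finset.mem_filter.mp hu₀).2.trans x.2.symm
    have hd : u⁻¹ * ((x.1.1 : IS) : S) ∈ M := QuotientGroup.eq.mp h1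
    refine ⟨⟨_, hd⟩, ⟨hd, ?_⟩, by simp⟩
    have hx := H70.inv_eq_self_of_two (x.1.1 : IS).2
    refine ⟨(u⁻¹ * ((x.1.1 : IS) : S))⁻¹, M.inv_mem hd, ?_⟩
    simp only [MulEquiv.coe_toMonoidHom, MulAut.conj_apply, mul_inv_rev, inv_inv]
    rw [hx, huinv]
    rw [show u * (((x.1.1 : IS) : S) * u) * u = u * ((x.1.1 : IS) : S) * (u * u) by group, huu, mul_one]
  choose dd hddD hdd using hK
  let φ : F → IM := fun x => ⟨dd x * I' * (dd x)⁻¹, by
    rw [← Subgroup.orderOf_coe]; simpa using two_conj _ (dd x : S) hI2'⟩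
  have hinj : Function.Injective φ := by
    intro x y h
    have h' : (dd x : S) * I' * (dd x : S)⁻¹ = (dd y : S) * I' * (dd y : S)⁻¹ :=
      congrArg (fun z : IM => ((z.1 : M) : S)) h
    set a : S := ((y.1.1 : IS) : S) with ha
    set b : S := ((x.1.1 : IS) : S) with hb
    have ha2 : orderOf a = 2 := (y.1.1 : IS).2
    have hb2 : orderOf b = 2 := (x.1.1 : IS).2
    have eab : a * b = (dd y : S)⁻¹ * dd x := by
      have h1 : u * (dd y : S) * u = (dd y : S)⁻¹ := by
        refine eq_inv_of_mul_eq_one_left ?_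
        rw [mul_assoc (u * (dd y : S)), ← hdd y]
        exact mul2 a ha2
      rw [← h1, hb, ha, hdd x, hdd y]; group
    have hcD : a * b ∈ D := eab ▸ D.mul_mem (D.inv_mem (hddD y)) (hddD x)
    have hcI : a * b * (I' : S) = I' * (a * b) := by
      rw [eab]
      calc (dd y : S)⁻¹ * dd x * I' = (dd y : S)⁻¹ * ((dd x : S) * I' * (dd x : S)⁻¹) * dd x := by group
        _ = _ := by rw [h']; group
    have hc1 : a * b = 1 := by
      by_contra hne
      set C := Subgroup.zpowers (a * b) with hCdef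
      set N := Subgroup.normalizer (C : Set S) with hNdef
      have hIN : (I' : S) ∈ N := by
        refine Subgroup.centralizer_le_normalizer _ ?_
        rw [Subgroup.mem_centralizer_iff]
        intro z hz
        obtain ⟨k, rfl⟩ := Subgroup.mem_zpowers_iff.mp hz
        exact ((show Commute (a * b) (I' : S) from hcI).zpow_left k).eq
      have haN : a ∈ N := by
        have hinv : a * (a * b) * a⁻¹ = (a * b)⁻¹ := H70.semiconj_prod ha2 hb2
        rw [hNdef, ← H72.mem_normalizer_of_map_eq]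
        rw [hCdef, MonoidHom.map_zpowers]
        simp only [MulEquiv.coe_toMonoidHom, MulAut.conj_apply, hinv, Subgroup.zpowers_inv]
      have hnconj : IsConj (⟨I', hIN⟩ : N) ⟨a, haN⟩ := by
        by_contra hne'
        have o1 : orderOf (⟨(I' : S), hIN⟩ : N) = 2 := by rw [← Subgroup.orderOf_coe]; exact hI2'
        have o2 : orderOf (⟨a, haN⟩ : N) = 2 := by rw [← Subgroup.orderOf_coe]; exact ha2
        obtain ⟨w, -, hw2, hwi, hwa⟩ := H70.exists_commute_of_not_isConj o1 o2 hne'
        have hw2' : orderOf (w : S) = 2 := (Subgroup.orderOf_coe w).trans hw2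
        exact y.1.2 (cent w (cent I' I'.2 hI2' w (congrArg Subtype.val hwi.eq)) hw2' a
          (congrArg Subtype.val hwa.eq).symm)
      obtain ⟨⟨n, hn⟩, hna⟩ := isConj_iff.mp hnconj
      have hna' : n * (I' : S) * n⁻¹ = a := congrArg Subtype.val hna
      have hmem : n⁻¹ * (a * b) * n ∈ C := by
        have := (Subgroup.mem_normalizer_iff.mp (N.inv_mem hn) (a * b)).mp (Subgroup.mem_zpowers _)
        simpa using this
      obtain ⟨k, hk⟩ := Subgroup.mem_zpowers_iff.mp hmem
      have hcomm : a * (a * b) = (a * b) * a := by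
        have h2 : (n⁻¹ * (a * b) * n) * (I' : S) = I' * (n⁻¹ * (a * b) * n) := by
          rw [← hk]; exact ((show Commute (a * b) (I' : S) from hcI).zpow_left k).eq
        calc a * (a * b) = n * ((I' : S) * (n⁻¹ * (a * b) * n)) * n⁻¹ := by rw [← hna']; group
          _ = n * ((n⁻¹ * (a * b) * n) * (I' : S)) * n⁻¹ := by rw [h2]
          _ = (a * b) * a := by rw [← hna']; group
      have hsq : (a * b) * (a * b) = 1 := by
        have h3 : a * (a * b) * a⁻¹ = (a * b)⁻¹ := H70.semiconj_prod ha2 hb2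
        rw [hcomm, mul_inv_cancel_right] at h3
        exact mul_eq_one_iff_eq_inv.mpr h3
      have h4 : orderOf (a * b) ∣ Nat.card D := Subgroup.orderOf_dvd_natCard _ hcD
      rw [two _ hsq hne] at h4
      exact (Nat.not_even_iff_odd.mpr hDodd) (even_iff_two_dvd.mpr h4)
    have hxy : dd x = dd y := Subtype.ext (by
      rw [eab, inv_mul_eq_one] at hc1; exact hc1.symm)
    have : b = a := by rw [hb, ha, hdd x, hdd y, hxy]
    exact Subtype.ext (Subtype.ext (Subtype.ext this))
  have hsurj : Function.Surjective φ := by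
    have : Fintype IM := Fintype.ofFinite _
    refine ((Fintype.bijective_iff_injective_and_card φ).mpr ⟨hinj, le_antisymm
      (Fintype.card_le_of_injective φ hinj) ?_⟩).2
    rw [Nat.card_eq_fintype_card] at hfib
    exact hfib.trans (le_of_eq (Fintype.card_subtype _).symm)
  refine ⟨D.subgroupOf M, hDodd.of_dvd_nat
    (Subgroup.card_comap_dvd_of_injective D M.subtype M.subtype_injective), fun m => ?_⟩
  obtain ⟨x, hx⟩ := hsurj ⟨m * I' * m⁻¹, by rw [← Subgroup.orderOf_coe]; simpa using two_conj _ (m : S) hI2'⟩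
  refine ⟨dd x, hddD x, (dd x)⁻¹ * m, Subgroup.mem_centralizer_singleton_iff.mpr ?_, by group⟩
  have hx' : dd x * I' * (dd x)⁻¹ = m * I' * m⁻¹ := congrArg Subtype.val hx
  calc (dd x)⁻¹ * m * I' = (dd x)⁻¹ * (m * I' * m⁻¹) * m := by group
    _ = I' * ((dd x)⁻¹ * m) := by rw [← hx']; group

end Cfsg.Agent.S1905
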