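import Cfsg.Statements.S1906
import Cfsg.Agent.H60.GLThreeTransfer
import Cfsg.Agent.H30.Basic

set_option autoImplicit false
open Cfsg

namespace Cfsg.Agent.S1906

open scoped commutatorElement

/-- Let G be a finite group with no subgroup of index 2 whose Sylow 2-subgroup X embeds in GL₃(F) for a finite field F of odd order. If X contains an elementary abelian subgroup of order 8, then X is abelian. -/
theorem result {G : Type*} [Group G] [Finite G] (hG : ∀ H : Subgroup G, H.index ≠ 2) (X : Sylow 2 G)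
    {F : Type*} [Field F] [Fintype F] (hF : Odd (Fintype.card F))
    (f : ↥(X : Subgroup G) →* GL (Fin 3) F) (hf : Function.Injective f)
    (E : Subgroup G) (hE : E ≤ (X : Subgroup G)) (hEa : Cfsg.IsElementaryAbelian 2 E) (hE8 : Nat.card E = 8) :
    IsMulCommutative (X : Subgroup G) := by
  classical
  haveI : Fact (Nat.Prime 2) := ⟨Nat.prime_two⟩
  have h2 : (2 : F) ≠ 0 := by
    intro h
    have hc : ringChar F = 2 := CharP.ringChar_of_prime_eq_zero Nat.prime_two h
    have := FiniteField.even_card_iff_char_two.mp hc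
    exact (Nat.not_even_iff_odd.mpr hF) (Nat.even_iff.mpr this)
  have inv_self : ∀ {W : Subgroup G}, (∀ a ∈ W, a ^ 2 = 1) → ∀ a : W, a * a = 1 := by
    intro W hW a
    exact Subtype.ext (by have := hW a a.2; rw [pow_two] at this; exact this)
  by_contra hnc
  have hne : ∃ x y : ↥(X : Subgroup G), x * y ≠ y * x := by
    by_contra h
    push Not at h
    exact hnc ⟨⟨h⟩⟩
  obtain ⟨x0, y0, hxy⟩ := hne
  let ιE : ↥E →* ↥(X : Subgroup G) := Subgroup.inclusion hE
  have hιE : Function.Injective ιE := Subgroup.inclusion_injective hE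
  obtain ⟨⟨a0, ha0⟩, hcentE⟩ := H60.GL3T.full_signs h2 (inv_self hEa.2) (f.comp ιE) (hf.comp hιE) (by rw [hE8])
  -- the element acting as -1
  set z : ↥(X : Subgroup G) := ιE a0 with hzdef
  have hfz : (f z : Matrix (Fin 3) (Fin 3) F) = -1 := ha0
  have hz2 : z * z = 1 := by rw [hzdef, ← map_mul, inv_self hEa.2, map_one]
  have hzc : ∀ x : ↥(X : Subgroup G), x * z = z * x := fun x => hf (Units.ext (by
    rw [map_mul, map_mul, Units.val_mul, Units.val_mul, hfz]; simp))
  let φ : ↥(X : Subgroup G) →* Fˣ := Matrix.GeneralLinearGroup.det.comp f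
  have hφz : φ z = -1 := Units.ext (by
    show ((Matrix.GeneralLinearGroup.det (f z) : Fˣ) : F) = _
    rw [Matrix.GeneralLinearGroup.val_det_apply, hfz, Matrix.det_neg, Matrix.det_one]
    norm_num)
  have hne1 : (-1 : Fˣ) ≠ 1 := fun h => h2 (by
    have := congrArg Units.val h
    simp at this
    linear_combination (-this))
  -- central involutions
  let W : Subgroup ↥(X : Subgroup G) :=
    { carrier := {w | w ∈ Subgroup.center ↥(X : Subgroup G) ∧ w * w = 1}
      one_mem' := ⟨one_mem _, one_mul 1⟩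
      mul_mem' := fun {a b} ha hb => ⟨mul_mem ha.1 hb.1, by
        rw [mul_assoc, ← mul_assoc b a b, Subgroup.mem_center_iff.mp ha.1 b, mul_assoc a b b, hb.2, mul_one, ha.2]⟩
      inv_mem' := fun {a} ha => ⟨inv_mem ha.1, by rw [← mul_inv_rev, ha.2, inv_one]⟩ }
  have hW2 : ∀ a : W, a * a = 1 := fun a => Subtype.ext a.2.2
  have hW8 : Nat.card W < 8 := by
    by_contra h
    obtain ⟨-, hc⟩ := H60.GL3T.full_signs h2 hW2 (f.comp W.subtype) (hf.comp W.subtype_injective) (Nat.le_of_not_lt h)
    refine hxy (hf ?_)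
    rw [map_mul, map_mul]
    refine hc _ _ (fun a => ?_) (fun a => ?_) <;>
      (show f _ * f (a : ↥(X : Subgroup G)) = f (a : ↥(X : Subgroup G)) * f _
       rw [← map_mul, ← map_mul, Subgroup.mem_center_iff.mp a.2.1])
  let D : Subgroup ↥(X : Subgroup G) := commutator ↥(X : Subgroup G)
  haveI : D.Normal := Subgroup.commutator_normal _ _
  have hDbot : D ≠ ⊥ := by
    intro h
    have hm : ⁅x0, y0⁆ ∈ D := Subgroup.commutator_mem_commutator (Subgroup.mem_top x0) (Subgroup.mem_top y0)
    rw [h, Subgroup.mem_bot, commutatorElement_eq_one_iff_mul_comm] at hm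
    exact hxy hm
  have hDker : D ≤ φ.ker := Abelianization.commutator_subset_ker φ
  have hZD : D ⊓ Subgroup.center ↥(X : Subgroup G) ≠ ⊥ := by
    exact H30.inf_center_ne_bot X.isPGroup' (inferInstance : D.Normal) hDbot
  obtain ⟨i, hi⟩ : ∃ i ∈ W, i ≠ 1 ∧ i ∈ D := by
    obtain ⟨w, hw⟩ := exists_prime_orderOf_dvd_card' (G := ↥(D ⊓ Subgroup.center ↥(X : Subgroup G))) 2 (by
      obtain ⟨n, hn⟩ := IsPGroup.iff_card.mp (X.isPGroup'.to_subgroup (D ⊓ Subgroup.center ↥(X : Subgroup G)))
      rw [hn]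
      rcases Nat.eq_zero_or_pos n with h | h
      · exact absurd (Subgroup.eq_bot_of_card_eq _ (by simpa [h] using hn)) hZD
      · exact dvd_pow_self 2 (by omega))
    have hne : (w : ↥(X : Subgroup G)) ≠ 1 := fun h => by
      rw [show w = 1 from Subtype.ext h, orderOf_one] at hw; omega
    have hsq : w * w = 1 := (pow_two w).symm.trans (orderOf_dvd_iff_pow_eq_one.mp (dvd_of_eq hw))
    exact ⟨w, ⟨(Subgroup.mem_inf.mp w.2).2, congrArg Subtype.val hsq⟩, hne, (Subgroup.mem_inf.mp w.2).1⟩
  let W1 : Subgroup ↥(X : Subgroup G) := W ⊓ φ.ker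
  have hzW : z ∈ W := ⟨Subgroup.mem_center_iff.mpr hzc, hz2⟩
  have hzW1 : z ∉ W1 := fun h => by
    have := (Subgroup.mem_inf.mp h).2
    rw [MonoidHom.mem_ker, hφz] at this
    exact hne1 this
  have hiW1 : i ∈ W1 := Subgroup.mem_inf.mpr ⟨hi.1, hDker hi.2.2⟩
  have hW1card : Nat.card W1 = 2 := by
    obtain ⟨n, hn⟩ := IsPGroup.iff_card.mp (X.isPGroup'.to_subgroup W)
    obtain ⟨m, hm⟩ := IsPGroup.iff_card.mp (X.isPGroup'.to_subgroup W1)
    have hlt : W1 < W := lt_of_le_of_ne inf_le_left fun e => hzW1 (e ▸ hzW)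
    have h1 : Nat.card W1 < Nat.card W := by
      refine lt_of_le_of_ne (Subgroup.card_le_of_le hlt.le) fun e => hlt.ne ?_
      exact Subgroup.eq_of_le_of_card_ge hlt.le e.symm.le
    have h3 : 1 < Nat.card W1 := Subgroup.one_lt_card_iff_ne_bot _ |>.mpr fun e => hi.2.1 (by
      rw [e, Subgroup.mem_bot] at hiW1; exact hiW1)
    rw [hn, hm] at h1
    rw [hn] at hW8
    rw [hm] at h3
    have hnm : m < n := (Nat.pow_lt_pow_iff_right (by norm_num)).mp h1
    have hn3 : n < 3 := (Nat.pow_lt_pow_iff_right (a := 2) (by norm_num)).mp (by simpa using hW8)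
    have hm0 : m ≠ 0 := fun e => by simp [e] at h3
    rw [hm, show m = 1 by omega, pow_one]
  have hW1D : W1 ≤ D := by
    intro w hw
    by_cases hw1 : w = 1
    · rw [hw1]; exact one_mem _
    · have : w = i := by
        by_contra hne
        have h3 : ({1, i, w} : Finset ↥(X : Subgroup G)).card = 3 :=
          Finset.card_eq_three.mpr ⟨1, i, w, fun e => hi.2.1 e.symm, fun e => hw1 e.symm, fun e => hne e.symm, rfl⟩
        haveI : Fintype W1 := Fintype.ofFinite _
        have hsub : ({1, i, w} : Finset ↥(X : Subgroup G)) ⊆ (W1 : Set ↥(X : Subgroup G)).toFinset := by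
          intro a ha
          simp only [Finset.mem_insert, Finset.mem_singleton] at ha
          rw [Set.mem_toFinset]
          rcases ha with rfl | rfl | rfl
          · exact one_mem _
          · exact hiW1
          · exact hw
        have := Finset.card_le_card hsub
        rw [h3, Set.toFinset_card, ← Nat.card_eq_fintype_card] at this
        have h4 : Nat.card (W1 : Set ↥(X : Subgroup G)) = 2 := hW1card
        omega
      rw [this]; exact hi.2.2
  suffices hN : ∀ g ∈ Subgroup.normalizer ((X : Subgroup G) : Set G), ∀ h : g⁻¹ * (z : G) * g ∈ (X : Subgroup G),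
      φ ⟨g⁻¹ * (z : G) * g, h⟩ = -1 by
    obtain ⟨H, hH⟩ := H60.GL3T.transfer_involution X (φ := φ) h2 (z : G) (congrArg Subtype.val hz2) z.2
      (fun x hx => congrArg Subtype.val (hzc ⟨x, hx⟩)) hN
    exact hG H hH
  intro g hg h
  let σ : ↥(X : Subgroup G) ≃* ↥(X : Subgroup G) :=
    { toFun := fun x => ⟨g * x * g⁻¹, (Subgroup.mem_normalizer_iff.mp hg x).mp x.2⟩
      invFun := fun x => ⟨g⁻¹ * x * g, (Subgroup.mem_normalizer_iff.mp hg _).mpr (by simp [mul_assoc])⟩
      left_inv := fun x => Subtype.ext (by simp [mul_assoc])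
      right_inv := fun x => Subtype.ext (by simp [mul_assoc])
      map_mul' := fun x y => Subtype.ext (by simp [mul_assoc]) }
  set y : ↥(X : Subgroup G) := ⟨g⁻¹ * z * g, h⟩ with hy
  have hσ : σ y = z := Subtype.ext (by simp [σ, hy, mul_assoc])
  have hyz : y = σ.symm z := by rw [← hσ, MulEquiv.symm_apply_apply]
  have hy2 : y * y = 1 := by rw [hyz, ← map_mul, hz2, map_one]
  have hyW : y ∈ W := ⟨Subgroup.mem_center_iff.mpr fun x => by
    have := congrArg σ.symm (hzc (σ x))
    rw [map_mul, map_mul, MulEquiv.symm_apply_apply] at this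
    rw [hyz]; exact this, hy2⟩
  have hsq : (φ y : F) * (φ y : F) = 1 := by rw [← Units.val_mul, ← map_mul, hy2, map_one]; rfl
  rcases mul_self_eq_one_iff.mp hsq with h1 | h1
  · exfalso
    have hyD : y ∈ D := hW1D (Subgroup.mem_inf.mpr ⟨hyW, MonoidHom.mem_ker.mpr (Units.ext h1)⟩)
    have hD : D.map σ.toMonoidHom = D := by
      show (commutator ↥(X : Subgroup G)).map σ.toMonoidHom = commutator ↥(X : Subgroup G)
      rw [commutator_def, Subgroup.map_commutator, Subgroup.map_top_of_surjective _ σ.surjective]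
    have hzD : z ∈ D := by
      have := Subgroup.mem_map_of_mem σ.toMonoidHom hyD
      rw [hD] at this
      exact hσ ▸ this
    exact hne1 (hφz ▸ MonoidHom.mem_ker.mp (hDker hzD))
  · exact Units.ext (by rw [Units.val_neg, Units.val_one]; exact h1)

end Cfsg.Agent.S1906
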