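import Cfsg.Statements.S1910
import Cfsg.Agent.H72.TightlyEmbedded

set_option autoImplicit false
open Cfsg

namespace Cfsg.Agent.S1910

/-- Let Q be a tightly embedded subgroup of a finite group G, g an element outside N_G(Q), T a nontrivial Sylow 2-subgroup of Q^g ∩ N_G(Q), and S a Sylow 2-subgroup of QT containing T. Then T ∩ Q = 1, and N_S(T) is the direct product of T and N_S(T) ∩ Q, with N_S(T) ∩ Q isomorphic to T. -/
theorem result {G : Type*} [Group G] [Finite G] (Q : Subgroup G) (hQ : Cfsg.IsTightlyEmbedded Q)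
    (g : G) (hg : g ∉ Subgroup.normalizer (Q : Set G))
    (T : Subgroup G) (hT1 : T ≠ ⊥) (hT : T ≤ Q.map (MulAut.conj g).toMonoidHom ⊓ Subgroup.normalizer (Q : Set G))
    (hTsyl : IsPGroup 2 T ∧ ¬ 2 ∣ T.relIndex (Q.map (MulAut.conj g).toMonoidHom ⊓ Subgroup.normalizer (Q : Set G)))
    (S : Subgroup G) (hTS : T ≤ S) (hS : S ≤ Q ⊔ T) (hSsyl : IsPGroup 2 S ∧ ¬ 2 ∣ S.relIndex (Q ⊔ T)) :
    T ⊓ Q = ⊥ ∧
      T ⊓ (S ⊓ Subgroup.normalizer (T : Set G) ⊓ Q) = ⊥ ∧
      ⁅T, S ⊓ Subgroup.normalizer (T : Set G) ⊓ Q⁆ = ⊥ ∧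
      T ⊔ (S ⊓ Subgroup.normalizer (T : Set G) ⊓ Q) = S ⊓ Subgroup.normalizer (T : Set G) ∧
      Nonempty (↥(S ⊓ Subgroup.normalizer (T : Set G) ⊓ Q) ≃* T) := by
  set R := S ⊓ Subgroup.normalizer (T : Set G) ⊓ Q with hR
  have hne : H72.conjSub (1 : G) Q ≠ H72.conjSub g Q := fun h => hg (by
    rw [← H72.mem_normalizer_of_map_eq]
    show H72.conjSub g Q = Q
    rw [← h, H72.conjSub_one])
  have hT2 := hTsyl.1
  have hstep := H72.tight_step hQ 1 g hne T hT1 hT2 (hT.trans inf_le_left)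
    (by rw [H72.conjSub_one]; exact hT.trans inf_le_right) S hTS (by rw [H72.conjSub_one]; exact hS)
    hSsyl.1 (by rw [H72.conjSub_one]; exact hSsyl.2)
  simp only [H72.conjSub_one] at hstep
  erw [H72.conjSub_one] at hstep
  rw [← hR] at hstep
  obtain ⟨hcomm, hsup, hdis, hRB, hle, hiso⟩ := hstep
  refine ⟨hdis, ?_, ?_, hsup, ?_⟩
  · rw [eq_bot_iff, ← hdis]; exact inf_le_inf_left _ inf_le_right
  · rw [Subgroup.commutator_eq_bot_iff_le_centralizer]
    exact fun t ht => Subgroup.mem_centralizer_iff.mpr fun r hr => (hcomm t ht r hr).symm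
  refine hiso (le_antisymm ?_ hle)
  by_cases hR1 : R = ⊥
  · rw [hR1, Subgroup.card_bot]; exact Nat.card_pos
  have hR2 : IsPGroup 2 R := hSsyl.1.to_le (inf_le_left.trans inf_le_left)
  obtain ⟨P, hP⟩ := (IsPGroup.of_equiv hR2
    (Subgroup.subgroupOfEquivOfLe (le_sup_right : R ≤ H72.conjSub g Q ⊔ R)).symm).exists_le_sylow
  set S' := (P : Subgroup ↥(H72.conjSub g Q ⊔ R)).map (H72.conjSub g Q ⊔ R).subtype with hS'
  have hidx : S'.relIndex (H72.conjSub g Q ⊔ R) = (P : Subgroup ↥(H72.conjSub g Q ⊔ R)).index := by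
    rw [hS', Subgroup.relIndex, Subgroup.subgroupOf,
      Subgroup.comap_map_eq_self_of_injective (Subgroup.subtype_injective _)]
  obtain ⟨-, -, -, hR'B, hle', -⟩ := H72.tight_step hQ g 1 hne.symm R hR1 hR2
    (by rw [H72.conjSub_one]; exact inf_le_right) hRB S'
    (fun r hr => ⟨⟨r, Subgroup.mem_sup_right hr⟩, hP hr, rfl⟩) (Subgroup.map_subtype_le _) (P.2.map _)
    (by rw [hidx]; exact P.not_dvd_index)
  refine hle'.trans ?_
  set U := Q.map (MulAut.conj g).toMonoidHom ⊓ Subgroup.normalizer (Q : Set G) with hU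
  set R' := S' ⊓ Subgroup.normalizer (R : Set G) ⊓ H72.conjSub g Q with hR'
  have hR'U : R' ≤ U := le_inf inf_le_right (by rw [H72.conjSub_one] at hR'B; exact hR'B)
  obtain ⟨P', hP'⟩ := (IsPGroup.of_equiv ((P.2.map _).to_le (inf_le_left.trans inf_le_left) : IsPGroup 2 R')
    (Subgroup.subgroupOfEquivOfLe hR'U).symm).exists_le_sylow
  have hTs : IsPGroup 2 (T.subgroupOf U) := IsPGroup.of_equiv hT2 (Subgroup.subgroupOfEquivOfLe hT).symm
  have h1 := Subgroup.card_le_of_le hP'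
  rw [P'.card_eq_multiplicity, ← (hTs.toSylow hTsyl.2).card_eq_multiplicity,
    Nat.card_congr (Subgroup.subgroupOfEquivOfLe hR'U).toEquiv] at h1
  refine h1.trans (le_of_eq ?_)
  exact Nat.card_congr (Subgroup.subgroupOfEquivOfLe hT).toEquiv

end Cfsg.Agent.S1910
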