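import Cfsg.Statements.S1915
import Cfsg.Agent.H89.GammaOne
import Cfsg.Agent.CompLayer

set_option autoImplicit false
open Cfsg

namespace Cfsg.Agent.S1915


/-- Rank at most one means that commuting involutions are equal. -/
theorem rank_one_iff {H : Type*} [Group H] [Finite H] :
    Cfsg.PRankLE 2 1 H ↔ ∀ x y : H, orderOf x = 2 → orderOf y = 2 → x * y = y * x → x = y := by
  classical
  constructor
  · intro h x y hx hy hxy
    by_contra hne
    have hc : ∀ a ∈ ({x, y} : Set H), ∀ b ∈ ({x, y} : Set H), a * b = b * a := by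
      rintro a (rfl | rfl) b (rfl | rfl) <;> first | rfl | exact hxy | exact hxy.symm
    haveI := Subgroup.isMulCommutative_closure hc
    set K := Subgroup.closure ({x, y} : Set H) with hK
    have h2 : ∀ a ∈ K, a ^ 2 = 1 := by
      intro a ha
      induction ha using Subgroup.closure_induction with
      | mem a ha =>
          rcases ha with rfl | rfl
          · rw [← hx]; exact pow_orderOf_eq_one _
          · rw [← hy]; exact pow_orderOf_eq_one _
      | one => exact one_pow 2
      | mul a b ha hb h1 h2 =>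
          rw [(show Commute a b from congrArg Subtype.val
            ((IsMulCommutative.is_comm (M := K)).comm ⟨a, ha⟩ ⟨b, hb⟩)).mul_pow, h1, h2, one_mul]
      | inv a _ h1 => rw [inv_pow, h1, inv_one]
    have h4 := h K inferInstance h2
    have hx1 : x ≠ 1 := fun e => by rw [e, orderOf_one] at hx; omega
    have hy1 : y ≠ 1 := fun e => by rw [e, orderOf_one] at hy; omega
    haveI : Fintype K := Fintype.ofFinite _
    have h3 : ({1, ⟨x, Subgroup.subset_closure (Or.inl rfl)⟩,
        ⟨y, Subgroup.subset_closure (Or.inr rfl)⟩} : Finset K).card = 3 := by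
      rw [Finset.card_insert_of_notMem, Finset.card_insert_of_notMem, Finset.card_singleton]
      · rw [Finset.mem_singleton, Subtype.ext_iff]; exact hne
      · simp only [Finset.mem_insert, Finset.mem_singleton, Subtype.ext_iff, not_or]
        exact ⟨fun e => hx1 e.symm, fun e => hy1 e.symm⟩
    rw [Nat.card_eq_fintype_card] at h4
    have := Finset.card_le_univ ({1, ⟨x, Subgroup.subset_closure (Or.inl rfl)⟩,
        ⟨y, Subgroup.subset_closure (Or.inr rfl)⟩} : Finset K)
    omega
  · intro h K hKc hK2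
    by_contra hlt
    push Not at hlt
    haveI : Fintype K := Fintype.ofFinite _
    rw [Nat.card_eq_fintype_card, pow_one] at hlt
    obtain ⟨a, b, c, hab, hac, hbc⟩ := Fintype.two_lt_card_iff.1 hlt
    have ho : ∀ w : K, w ≠ 1 → orderOf (w : H) = 2 := fun w hw =>
      (orderOf_eq_prime_iff (p := 2)).2 ⟨hK2 w w.2, fun e => hw (Subtype.ext e)⟩
    have key : ∀ v w : K, v ≠ 1 → w ≠ 1 → v = w := fun v w hv hw => Subtype.ext
      (h v w (ho v hv) (ho w hw) (congrArg Subtype.val (hKc.is_comm.comm v w)))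
    by_cases ha : a = 1
    · exact hbc (key b c (fun e => hab (ha.trans e.symm)) (fun e => hac (ha.trans e.symm)))
    by_cases hb : b = 1
    · exact hac (key a c ha (fun e => hbc (hb.trans e.symm)))
    exact hab (key a b ha hb)

/-- Let A be a semisimple subgroup (A = E(A)) of a finite group and U a Klein four-group normalizing A. If the subgroup of A generated by the normalizers N_A(V) of the nontrivial subgroups V of U has 2-rank exactly 1, then A has 2-rank exactly 1. -/
theorem result {G : Type*} [Group G] [Finite G] (A : Subgroup G) (hA : Cfsg.layer ↥A = ⊤)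
    (U : Subgroup G) (hU : IsKleinFour U) (hUA : U ≤ Subgroup.normalizer (A : Set G))
    (hΓ : Cfsg.PRankLE 2 1 ↥(⨆ V : {V : Subgroup G // V ≤ U ∧ V ≠ ⊥}, A ⊓ Subgroup.normalizer ((V : Subgroup G) : Set G)) ∧
      ¬ Cfsg.PRankLE 2 0 ↥(⨆ V : {V : Subgroup G // V ≤ U ∧ V ≠ ⊥}, A ⊓ Subgroup.normalizer ((V : Subgroup G) : Set G))) :
    Cfsg.PRankLE 2 1 A ∧ ¬ Cfsg.PRankLE 2 0 A := by
  classical
  set Γ := ⨆ V : {V : Subgroup G // V ≤ U ∧ V ≠ ⊥}, A ⊓ Subgroup.normalizer ((V : Subgroup G) : Set G)
    with hΓdef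
  have hΓA : Γ ≤ A := iSup_le fun V => inf_le_left
  refine ⟨?_, fun h0 => hΓ.2 fun K hKc hK2 => ?_⟩
  swap
  · haveI := hKc
    rw [← Subgroup.card_map_of_injective (K := K) (Subgroup.inclusion_injective hΓA)]
    refine h0 _ inferInstance ?_
    rintro _ ⟨w, hw, rfl⟩
    rw [← map_pow, hK2 w hw, map_one]
  have hrank := rank_one_iff.1 hΓ.1
  set Y := A ⊔ U with hY
  have hAY : A ≤ Y := le_sup_left
  haveI : (A.subgroupOf Y).Normal :=
    Subgroup.normal_subgroupOf_of_le_normalizer (sup_le Subgroup.le_normalizer hUA)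
  have hperfA : ⁅A, A⁆ = A := by
    have h := Cfsg.Comp.layer_perfect (G := ↥A)
    rw [hA] at h
    have := congrArg (Subgroup.map A.subtype) h
    rwa [Subgroup.map_commutator, ← MonoidHom.range_eq_map, Subgroup.range_subtype] at this
  have key := H89.GammaOne.commuting_involutions_eq (A.subgroupOf Y) (U.subgroupOf Y) ?_ ?_ ?_ ?_ ?_
  · refine rank_one_iff.2 fun x y hx hy hxy => Subtype.ext ?_
    exact congrArg (fun w : Y => (w : G)) (key ⟨x, hAY x.2⟩ x.2 ⟨y, hAY y.2⟩ y.2
      (by rw [Subgroup.orderOf_mk, Subgroup.orderOf_coe, hx])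
      (by rw [Subgroup.orderOf_mk, Subgroup.orderOf_coe, hy])
      (Subtype.ext (congrArg (fun w : A => (w : G)) hxy :)))
  · rw [Nat.card_congr (Subgroup.subgroupOfEquivOfLe (le_sup_right : U ≤ Y)).toEquiv]
    exact hU.card_four
  · intro u hu
    exact Subtype.ext (congrArg (fun w : U => (w : G)) (IsKleinFour.mul_self (⟨u, hu⟩ : U)) :)
  · rw [← Subgroup.subgroupOf_sup hAY le_sup_right, Subgroup.subgroupOf_self]
  · apply Subgroup.map_injective Y.subtype_injective
    rw [Subgroup.map_commutator, Subgroup.map_subgroupOf_eq_of_le hAY, hperfA]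
  · intro u hu hu1 x hx y hy hxo hyo hux huy hxy
    have hmem : ∀ w : Y, w ∈ A.subgroupOf Y → u * w = w * u → (w : G) ∈ Γ := by
      intro w hw huw
      refine Subgroup.mem_iSup_of_mem (⟨Subgroup.zpowers (u : G), Subgroup.zpowers_le.2 hu, fun e =>
        hu1 (Subtype.ext (Subgroup.zpowers_eq_bot.1 e))⟩ : {V : Subgroup G // V ≤ U ∧ V ≠ ⊥})
        ⟨hw, Subgroup.centralizer_le_normalizer _ ?_⟩
      intro v hv
      obtain ⟨i, rfl⟩ := Subgroup.mem_zpowers_iff.1 hv
      exact ((show Commute (u : G) (w : G) from congrArg Subtype.val huw).zpow_left i).eq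
    refine Subtype.ext ?_
    exact congrArg (fun w : ↥Γ => (w : G)) (hrank ⟨x, hmem x hx hux⟩ ⟨y, hmem y hy huy⟩
      (by rw [Subgroup.orderOf_mk, Subgroup.orderOf_coe, hxo])
      (by rw [Subgroup.orderOf_mk, Subgroup.orderOf_coe, hyo])
      (Subtype.ext (congrArg (fun w : Y => (w : G)) hxy :)))

end Cfsg.Agent.S1915
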