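import Cfsg.Statements.S1921
import Cfsg.Agent.CompLayer

set_option autoImplicit false
open Cfsg

namespace Cfsg.Agent.S1921

/-- Let a be an involution of a finite group H and L a component of H with a L a⁻¹ ≠ L; put M = ⟨L, aLa⁻¹⟩ and let J be the subgroup generated by the elements x · a x a⁻¹ with x ∈ L (the diagonal). Then every element of M outside J·Z(M) generates M together with J. -/
theorem result {H : Type*} [Group H] [Finite H] (a : H) (ha : orderOf a = 2) (L : Subgroup H) (hL : Cfsg.IsComponent L)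
    (hLa : L.map (MulAut.conj a).toMonoidHom ≠ L) (x : H) (hxM : x ∈ L ⊔ L.map (MulAut.conj a).toMonoidHom)
    (hxJ : x ∉ Subgroup.closure {y : H | ∃ l ∈ L, y = l * (a * l * a⁻¹)} ⊔
      ((L ⊔ L.map (MulAut.conj a).toMonoidHom) ⊓ Subgroup.centralizer ((L ⊔ L.map (MulAut.conj a).toMonoidHom : Subgroup H) : Set H))) :
    Subgroup.closure {y : H | ∃ l ∈ L, y = l * (a * l * a⁻¹)} ⊔ Subgroup.zpowers x = L ⊔ L.map (MulAut.conj a).toMonoidHom := by
  clear ha
  set L' := L.map (MulAut.conj a).toMonoidHom with hL'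
  have hL'c : IsComponent L' := Cfsg.Comp.isComponent_conj hL a
  have hcomm : ∀ l ∈ L, ∀ m ∈ L', l * m = m * l := by
    rcases Cfsg.Comp.component_eq_or_commute hL hL'c with h | h
    · exact absurd h.symm hLa
    · exact fun l hl m hm => Cfsg.Comp.commute_of_commutator_eq_bot h hl hm
  set J := Subgroup.closure {y : H | ∃ l ∈ L, y = l * (a * l * a⁻¹)} with hJ
  set K := J ⊔ Subgroup.zpowers x with hK
  have hd : ∀ l ∈ L, l * (a * l * a⁻¹) ∈ K := fun l hl =>
    Subgroup.mem_sup_left (Subgroup.subset_closure ⟨l, hl, rfl⟩)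
  have hmem' : ∀ l ∈ L, a * l * a⁻¹ ∈ L' := fun l hl => ⟨l, hl, by simp⟩
  have hJM : J ≤ L ⊔ L' := (Subgroup.closure_le _).mpr fun y ⟨l, hl, e⟩ => e ▸
    Subgroup.mul_mem _ (Subgroup.mem_sup_left hl) (Subgroup.mem_sup_right (hmem' l hl))
  refine le_antisymm (sup_le hJM (Subgroup.zpowers_le.mpr hxM)) ?_
  have hnorm : L' ≤ Subgroup.normalizer (L : Set H) :=
    le_trans (fun m hm => Subgroup.mem_centralizer_iff.mpr fun l hl => hcomm l hl m hm)
      (Subgroup.centralizer_le_normalizer _)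
  obtain ⟨l₁, hl₁, m₂, hm₂, hx⟩ : ∃ l₁ ∈ L, ∃ m₂ ∈ L', l₁ * m₂ = x := by
    have h := hxM
    rw [← SetLike.mem_coe, Subgroup.coe_mul_of_right_le_normalizer_left L L' hnorm] at h
    exact h
  set n' := (l₁ * (a * l₁ * a⁻¹))⁻¹ * x with hn'
  have hn'K : n' ∈ K := K.mul_mem (K.inv_mem (hd l₁ hl₁)) (Subgroup.mem_sup_right (Subgroup.mem_zpowers x))
  have hn'L : n' ∈ L' := by
    have : n' = (a * l₁ * a⁻¹)⁻¹ * m₂ := by rw [hn', ← hx]; group
    rw [this]
    exact L'.mul_mem (L'.inv_mem (hmem' l₁ hl₁)) hm₂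
  obtain ⟨n, hnL, hn⟩ := hn'L
  simp only [MulEquiv.coe_toMonoidHom, MulAut.conj_apply] at hn
  let N : Subgroup L := (K.comap (MulAut.conj a).toMonoidHom).subgroupOf L
  have hNn : N.Normal := by
    refine ⟨fun l hl k => ?_⟩
    show a * ((k : H) * l * (k : H)⁻¹) * a⁻¹ ∈ K
    have hlK : a * (l : H) * a⁻¹ ∈ K := hl
    have hc := hcomm k k.2 _ (hmem' _ (L.mul_mem (L.mul_mem k.2 l.2) (L.inv_mem k.2)))
    have e : a * ((k : H) * l * (k : H)⁻¹) * a⁻¹ =
        ((k : H) * (a * k * a⁻¹)) * (a * (l : H) * a⁻¹) * ((k : H) * (a * k * a⁻¹))⁻¹ := by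
      calc a * ((k : H) * l * (k : H)⁻¹) * a⁻¹
          = (k : H) * (a * ((k : H) * l * (k : H)⁻¹) * a⁻¹) * (k : H)⁻¹ := by rw [hc, mul_inv_cancel_right]
        _ = _ := by group
    rw [e]
    exact K.mul_mem (K.mul_mem (hd k k.2) hlK) (K.inv_mem (hd k k.2))
  rcases Cfsg.Comp.normal_eq_top_or_le_center hL.2 hNn with h | h
  · have hL'K : L' ≤ K := by
      rintro _ ⟨l, hl, rfl⟩
      have : (⟨l, hl⟩ : L) ∈ N := h ▸ Subgroup.mem_top _
      exact this
    refine sup_le (fun l hl => ?_) hL'K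
    have h3 := K.mul_mem (hd l hl) (K.inv_mem (hL'K (hmem' l hl)))
    rwa [mul_inv_cancel_right] at h3
  · exfalso
    have hnN : (⟨n, hnL⟩ : L) ∈ N := by
      show a * n * a⁻¹ ∈ K
      rw [hn]; exact hn'K
    have hcen := Subgroup.mem_center_iff.mp (h hnN)
    have hn'M : n' ∈ L ⊔ L' := Subgroup.mem_sup_right (hn ▸ hmem' n hnL)
    have hcent : n' ∈ Subgroup.centralizer ((L ⊔ L' : Subgroup H) : Set H) := by
      rw [Subgroup.mem_centralizer_iff]
      intro y hy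
      rw [SetLike.mem_coe, ← SetLike.mem_coe, Subgroup.coe_mul_of_right_le_normalizer_left L L' hnorm] at hy
      obtain ⟨u, hu, v, ⟨w, hw, rfl⟩, rfl⟩ := hy
      simp only [MulEquiv.coe_toMonoidHom, MulAut.conj_apply]
      have h1 : w * n = n * w := congrArg Subtype.val (hcen ⟨w, hw⟩)
      have h2 : u * (a * n * a⁻¹) = a * n * a⁻¹ * u := hcomm u hu _ (hmem' n hnL)
      rw [← hn]
      calc u * (a * w * a⁻¹) * (a * n * a⁻¹) = u * (a * (w * n) * a⁻¹) := by group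
        _ = u * (a * n * a⁻¹) * (a * w * a⁻¹) := by rw [h1]; group
        _ = a * n * a⁻¹ * (u * (a * w * a⁻¹)) := by rw [h2]; group
    apply hxJ
    have hxe : x = (l₁ * (a * l₁ * a⁻¹)) * n' := by rw [hn']; group
    rw [hxe]
    exact Subgroup.mul_mem _ (Subgroup.mem_sup_left (Subgroup.subset_closure ⟨l₁, hl₁, rfl⟩))
      (Subgroup.mem_sup_right ⟨hn'M, hcent⟩)

end Cfsg.Agent.S1921
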