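import Cfsg.Statements.S1922
import Mathlib

set_option autoImplicit false
open Cfsg

namespace Cfsg.Agent.S1922

/-- Let z be an involution of a finite group G and H a proper subgroup such that z lies in gHg⁻¹ exactly when g ∈ H. Then the following are equivalent: (1) for every conjugate t ≠ z of z commuting with z, the product zt lies in gHg⁻¹ exactly when g ∈ H; (2) z lies in the centre of some Sylow 2-subgroup of G, and for every conjugate t ≠ z of z commuting with z, the centralizer of zt is contained in H. -/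
theorem result {G : Type*} [Group G] [Finite G] (z : G) (hz : orderOf z = 2) (H : Subgroup G) (hH : H ≠ ⊤)
    (h0 : ∀ g : G, z ∈ H.map (MulAut.conj g).toMonoidHom ↔ g ∈ H) :
    (∀ t : G, IsConj z t → t ≠ z → t * z = z * t → ∀ g : G, z * t ∈ H.map (MulAut.conj g).toMonoidHom ↔ g ∈ H) ↔
      ((∃ P : Sylow 2 G, z ∈ (Subgroup.center ↥(P : Subgroup G)).map (P : Subgroup G).subtype) ∧
        ∀ t : G, IsConj z t → t ≠ z → t * z = z * t → Subgroup.centralizer ({z * t} : Set G) ≤ H) := by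
  classical
  haveI : Fintype G := Fintype.ofFinite G
  have hmem : ∀ x g : G, x ∈ H.map (MulAut.conj g).toMonoidHom ↔ g⁻¹ * x * g ∈ H := by
    intro x g
    rw [Subgroup.mem_map_equiv]
    simp [MulAut.conj_symm_apply]
  have h0' : ∀ g : G, g⁻¹ * z * g ∈ H ↔ g ∈ H := fun g => (hmem z g).symm.trans (h0 g)
  have hzH : z ∈ H := by simpa using (h0' 1).mpr (one_mem H)
  have hCz : ∀ c, c * z = z * c → c ∈ H := fun c hc => (h0' c).mp (by
    rw [mul_assoc, ← hc, inv_mul_cancel_left]; exact hzH)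
  have hconjH : ∀ x : G, x * z * x⁻¹ ∈ H → x ∈ H := fun x hx => inv_mem_iff.mp
    ((h0' x⁻¹).mp (by simpa using hx))
  constructor
  · intro h1
    have hC : ∀ t, IsConj z t → t ≠ z → t * z = z * t → Subgroup.centralizer ({z * t} : Set G) ≤ H := by
      intro t ht hne hc c hcc
      have hu : z * t ∈ H := by simpa using (hmem (z * t) 1).mp ((h1 t ht hne hc 1).mpr (one_mem H))
      refine (h1 t ht hne hc c).mp ((hmem _ c).mpr ?_)
      rw [mul_assoc, ← Subgroup.mem_centralizer_singleton_iff.mp hcc, inv_mul_cancel_left]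
      exact hu
    refine ⟨?_, hC⟩
    have hinv2 : ∀ w, IsConj z w → w * w = 1 := by
      intro w hw
      obtain ⟨x, rfl⟩ := isConj_iff.mp hw
      rw [conj_mul, ← pow_two, ← hz, pow_orderOf_eq_one]
      group
    -- the product of two commuting conjugates fixes only their common point
    have hfix : ∀ w t k g : G, IsConj z w → IsConj z t → w ≠ t → w * t = t * w → k⁻¹ * w * k ∈ H →
        g⁻¹ * (w * t) * g ∈ H → k⁻¹ * g ∈ H := by
      intro w t k g hw ht hne hc hk hg
      obtain ⟨x, rfl⟩ := isConj_iff.mp hw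
      obtain ⟨y, rfl⟩ := isConj_iff.mp ht
      have hxk : x⁻¹ * k ∈ H := (h0' _).mp (by
        rw [show (x⁻¹ * k)⁻¹ * z * (x⁻¹ * k) = k⁻¹ * (x * z * x⁻¹) * k by group]; exact hk)
      set t' := x⁻¹ * (y * z * y⁻¹) * x with ht'
      have h2 := (h1 t' (isConj_iff.mpr ⟨x⁻¹ * y, by rw [ht']; group⟩) (fun e => hne (by
        rw [show y * z * y⁻¹ = x * t' * x⁻¹ by rw [ht']; group, e])) (by
        rw [ht']
        calc x⁻¹ * (y * z * y⁻¹) * x * z = x⁻¹ * ((y * z * y⁻¹) * (x * z * x⁻¹)) * x := by group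
          _ = x⁻¹ * ((x * z * x⁻¹) * (y * z * y⁻¹)) * x := by rw [hc]
          _ = z * (x⁻¹ * (y * z * y⁻¹) * x) := by group) (x⁻¹ * g)).mp ((hmem _ _).mpr (by
        rw [show (x⁻¹ * g)⁻¹ * (z * t') * (x⁻¹ * g) = g⁻¹ * (x * z * x⁻¹ * (y * z * y⁻¹)) * g by rw [ht']; group]
        exact hg))
      rw [show k⁻¹ * g = (x⁻¹ * k)⁻¹ * (x⁻¹ * g) by group]
      exact mul_mem (inv_mem hxk) h2
    obtain ⟨g, hg⟩ : ∃ g : G, g ∉ H := by
      by_contra hne
      exact hH (eq_top_iff.mpr fun x _ => by_contra fun hx => hne ⟨x, hx⟩)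
    obtain ⟨y, hy⟩ : ∃ y, y = g * z * g⁻¹ := ⟨_, rfl⟩
    have hyc : IsConj z y := isConj_iff.mpr ⟨g, hy.symm⟩
    have hyy : y * y = 1 := hinv2 y hyc
    have hyfix : ∀ c, c * y = y * c → g⁻¹ * c * g ∈ H := fun c hc => hCz _ (by
      calc g⁻¹ * c * g * z = g⁻¹ * (c * y) * g := by rw [hy]; group
        _ = g⁻¹ * (y * c) * g := by rw [hc]
        _ = z * (g⁻¹ * c * g) := by rw [hy]; group)
    let X := {w : G // IsConj z w ∧ w ∈ H}
    let Ω := {v : G // IsConj z v ∧ v * g ∈ H}
    -- no two commuting elements of `Ω`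
    have hΩ : ∀ v₁ v₂ : Ω, v₁.1 * v₂.1 = v₂.1 * v₁.1 → v₁ = v₂ := by
      rintro ⟨v₁, hv₁, hv₁g⟩ ⟨v₂, hv₂, hv₂g⟩ hc
      refine Subtype.ext (by_contra fun hne => ?_)
      obtain ⟨x, rfl⟩ := isConj_iff.mp hv₁
      have hk : x⁻¹ * (x * z * x⁻¹) * x ∈ H := by
        rw [show x⁻¹ * (x * z * x⁻¹) * x = z by group]; exact hzH
      have hv₂' : v₂⁻¹ = v₂ := inv_eq_of_mul_eq_one_right (hinv2 _ hv₂)
      have hv₁' : (x * z * x⁻¹)⁻¹ = x * z * x⁻¹ := inv_eq_of_mul_eq_one_right (hinv2 _ hv₁)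
      have e1 : x * z * x⁻¹ * v₂ ∈ H := by
        rw [show x * z * x⁻¹ * v₂ = (x * z * x⁻¹ * g) * (v₂⁻¹ * g)⁻¹ by group, hv₂']
        exact mul_mem hv₁g (inv_mem hv₂g)
      have e2 : g⁻¹ * (x * z * x⁻¹ * v₂) * g ∈ H := by
        rw [show g⁻¹ * (x * z * x⁻¹ * v₂) * g = ((x * z * x⁻¹)⁻¹ * g)⁻¹ * (v₂ * g) by group, hv₁']
        exact mul_mem (inv_mem hv₁g) hv₂g
      have a1 := hfix _ v₂ x 1 hv₁ hv₂ hne hc hk (by simpa using e1)
      have a2 := hfix _ v₂ x g hv₁ hv₂ hne hc hk e2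
      rw [mul_one] at a1
      apply hg
      have := mul_mem (inv_mem a1) a2
      simpa using this
    -- the midpoint of the dihedral group on `w` and `y`
    have hmid : ∀ w : X, ∃ (a : G) (k : ℕ), w.1 = a * y ∧ y * a * y = a⁻¹ ∧ a ^ (2 * k) = a := by
      rintro ⟨w, hw, hwH⟩
      refine ⟨w * y, ?_⟩
      have hww := hinv2 w hw
      have hinv : y * (w * y) * y = (w * y)⁻¹ := by
        rw [mul_inv_rev, inv_eq_of_mul_eq_one_right hyy, inv_eq_of_mul_eq_one_right hww, mul_assoc, mul_assoc, hyy, mul_one]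
      rcases Nat.even_or_odd (orderOf (w * y)) with ⟨i, hi⟩ | ⟨i, hi⟩
      swap
      · exact ⟨i + 1, by rw [mul_assoc, hyy, mul_one], hinv,
          by rw [show 2 * (i + 1) = orderOf (w * y) + 1 by omega, pow_succ, pow_orderOf_eq_one, one_mul]⟩
      exfalso
      obtain ⟨a, ha⟩ : ∃ a, a = w * y := ⟨_, rfl⟩
      rw [← ha] at hi hinv
      have hpos : 0 < orderOf a := orderOf_pos a
      have hyinv : y⁻¹ = y := inv_eq_of_mul_eq_one_right hyy
      have hu : a ^ i * a ^ i = 1 := by rw [← pow_add, ← hi, pow_orderOf_eq_one]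
      have hu1 : a ^ i ≠ 1 := pow_ne_one_of_lt_orderOf (by omega) (by omega)
      have hyu : y * a ^ i * y = a ^ i := by
        have : y * a ^ i * y⁻¹ = (y * a * y⁻¹) ^ i := (conj_pow).symm
        rw [hyinv, hinv, inv_pow] at this
        rw [this]
        exact inv_eq_of_mul_eq_one_right hu
      have hyu' : a ^ i * y = y * a ^ i := by
        conv_lhs => rw [← hyu]
        rw [mul_assoc, hyy, mul_one]
      have hwy : w = a * y := by rw [ha, mul_assoc, hyy, mul_one]
      have hconj : ∀ n : ℕ, IsConj z (a ^ (2 * n) * y) ∧ IsConj z (a ^ (2 * n + 1) * y) := by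
        intro n
        have hn : y * a ^ n * y = (a ^ n)⁻¹ := by
          have : y * a ^ n * y⁻¹ = (y * a * y⁻¹) ^ n := (conj_pow).symm
          rwa [hyinv, hinv, inv_pow] at this
        have hn' : y * (a ^ n)⁻¹ = a ^ n * y := by
          rw [← hn, ← mul_assoc, ← mul_assoc, hyy, one_mul]
        refine ⟨hyc.trans (isConj_iff.mpr ⟨a ^ n, ?_⟩), hw.trans (isConj_iff.mpr ⟨a ^ n, ?_⟩)⟩
        · rw [mul_assoc, hn', ← mul_assoc, ← pow_add, two_mul]
        · rw [hwy, mul_assoc, mul_assoc, hn', ← mul_assoc, ← mul_assoc, ← pow_succ, ← pow_add,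
            show n + 1 + n = 2 * n + 1 by ring]
      obtain ⟨u, hudef⟩ : ∃ u, u = a ^ i := ⟨_, rfl⟩
      obtain ⟨t, htdef⟩ : ∃ t, t = a ^ (i + 1) * y := ⟨_, rfl⟩
      rw [← hudef] at hu hu1 hyu hyu'
      have ht : IsConj z t := by
        rcases Nat.even_or_odd (i + 1) with ⟨m, hm⟩ | ⟨m, hm⟩
        · rw [htdef, hm, ← two_mul]; exact (hconj m).1
        · rw [htdef, hm]; exact (hconj m).2
      have htw : t = u * w := by rw [htdef, hwy, hudef, ← mul_assoc, ← pow_succ]
      have hwu : w * u = u * w := by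
        rw [hwy, mul_assoc, ← hyu', hudef, ← mul_assoc, ← pow_succ', pow_succ, mul_assoc]
      have hwt : w * t = u := by
        rw [htw, ← mul_assoc, hwu, mul_assoc, hww, mul_one]
      have a2 := hfix w t 1 g hw ht
        (fun e => hu1 (by rw [← hwt, ← e, hww]))
        (by rw [hwt, htw, mul_assoc, hww, mul_one])
        (by simpa using hwH) (by rw [hwt]; exact hyfix u hyu')
      exact hg (by simpa using a2)
    have hcard : Nat.card Ω = Nat.card X := by
      refine Nat.card_congr (Equiv.ofBijective (fun v : Ω => (⟨v.1 * y * v.1⁻¹, hyc.trans (isConj_iff.mpr ⟨v.1, rfl⟩), ?_⟩ : X)) ⟨?_, ?_⟩)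
      · have hvv : v.1⁻¹ = v.1 := inv_eq_of_mul_eq_one_right (hinv2 _ v.2.1)
        rw [show v.1 * y * v.1⁻¹ = (v.1 * g) * z * (v.1 * g)⁻¹ by rw [hy]; group]
        exact mul_mem (mul_mem v.2.2 hzH) (inv_mem v.2.2)
      · rintro ⟨v₁, hv₁, hv₁g⟩ ⟨v₂, hv₂, hv₂g⟩ he
        replace he : v₁ * y * v₁⁻¹ = v₂ * y * v₂⁻¹ := congrArg Subtype.val he
        set w : X := ⟨v₁ * y * v₁⁻¹, hyc.trans (isConj_iff.mpr ⟨v₁, rfl⟩), by
          rw [show v₁ * y * v₁⁻¹ = (v₁ * g) * z * (v₁ * g)⁻¹ by rw [hy]; group]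
          exact mul_mem (mul_mem hv₁g hzH) (inv_mem hv₁g)⟩
        obtain ⟨a, k, hwa, hinv, hk⟩ := hmid w
        have hww : w.1 * w.1 = 1 := hinv2 _ w.2.1
        have key : ∀ v, IsConj z v → v * y * v⁻¹ = a * y →
            v * (a ^ k * y) * v⁻¹ = a ^ k * y := by
          intro v hv hvy
          have hvv : v⁻¹ = v := inv_eq_of_mul_eq_one_right (hinv2 _ hv)
          have hya : v * (a * y) * v⁻¹ = y := by
            rw [← hvy, show v * (v * y * v⁻¹) * v⁻¹ = (v * v) * y * (v * v)⁻¹ by group, hinv2 v hv, one_mul, inv_one, mul_one]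
          have hva : v * a * v⁻¹ = a⁻¹ := by
            calc v * a * v⁻¹ = (v * (a * y) * v⁻¹) * (v * y * v⁻¹)⁻¹ := by group
              _ = y * (a * y)⁻¹ := by rw [hya, hvy]
              _ = a⁻¹ := by rw [mul_inv_rev, ← mul_assoc, mul_inv_cancel, one_mul]
          calc v * (a ^ k * y) * v⁻¹ = (v * a * v⁻¹) ^ k * (v * y * v⁻¹) := by rw [conj_pow]; group
            _ = (a ^ k)⁻¹ * (a * y) := by rw [hva, inv_pow, hvy]
            _ = (a ^ k)⁻¹ * (a ^ (2 * k) * y) := by rw [hk]
            _ = a ^ k * y := by rw [two_mul, pow_add]; group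
        have k1 := key v₁ hv₁ hwa
        have k2 := key v₂ hv₂ (he ▸ hwa)
        have hconjv : IsConj z (a ^ k * y) := by
          refine hyc.trans (isConj_iff.mpr ⟨a ^ (k * k), ?_⟩)
          have hn : y * (a ^ (k * k))⁻¹ = a ^ (k * k) * y := by
            have : y * a ^ (k * k) * y⁻¹ = (y * a * y⁻¹) ^ (k * k) := (conj_pow).symm
            rw [inv_eq_of_mul_eq_one_right hyy, hinv, inv_pow] at this
            rw [← this, ← mul_assoc, ← mul_assoc, hyy, one_mul]
          rw [mul_assoc, hn, ← mul_assoc, ← pow_add, ← mul_two, mul_assoc, mul_comm k 2, mul_comm k (2 * k), pow_mul, hk]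
        have hmidΩ : a ^ k * y * g ∈ H := by
          have hw : (a ^ k * y * g) * z * (a ^ k * y * g)⁻¹ = w.1 := by
            rw [hwa, show (a ^ k * y * g) * z * (a ^ k * y * g)⁻¹ = a ^ k * (y * y * (y⁻¹ * (a ^ k)⁻¹)) by rw [hy]; group,
              hyy, one_mul, inv_eq_of_mul_eq_one_right hyy]
            have hn : y * (a ^ k)⁻¹ = a ^ k * y := by
              have : y * a ^ k * y⁻¹ = (y * a * y⁻¹) ^ k := (conj_pow).symm
              rw [inv_eq_of_mul_eq_one_right hyy, hinv, inv_pow] at this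
              rw [← this, ← mul_assoc, ← mul_assoc, hyy, one_mul]
            rw [hn, ← mul_assoc, ← pow_add, ← two_mul, hk]
          exact hconjH _ (by rw [hw]; exact w.2.2)
        have e1 := hΩ ⟨v₁, hv₁, hv₁g⟩ ⟨a ^ k * y, hconjv, hmidΩ⟩ (mul_inv_eq_iff_eq_mul.mp k1)
        have e2 := hΩ ⟨v₂, hv₂, hv₂g⟩ ⟨a ^ k * y, hconjv, hmidΩ⟩ (mul_inv_eq_iff_eq_mul.mp k2)
        exact e1.trans e2.symm
      · intro w
        obtain ⟨a, k, hwa, hinv, hk⟩ := hmid w
        have hyinv : y⁻¹ = y := inv_eq_of_mul_eq_one_right hyy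
        have hn : ∀ n : ℕ, y * (a ^ n)⁻¹ = a ^ n * y := by
          intro n
          have : y * a ^ n * y⁻¹ = (y * a * y⁻¹) ^ n := (conj_pow).symm
          rw [hyinv, hinv, inv_pow] at this
          rw [← this, ← mul_assoc, ← mul_assoc, hyy, one_mul]
        have hvy : a ^ k * y * y * (a ^ k * y)⁻¹ = w.1 := by
          rw [hwa, mul_inv_rev, hyinv, mul_assoc (a ^ k), hyy, mul_one, hn, ← mul_assoc, ← pow_add,
            ← two_mul, hk]
        refine ⟨⟨a ^ k * y, hyc.trans (isConj_iff.mpr ⟨a ^ (k * k), ?_⟩), hconjH _ ?_⟩, Subtype.ext hvy⟩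
        · rw [mul_assoc, hn, ← mul_assoc, ← pow_add, ← mul_two, mul_assoc, mul_comm k 2,
            mul_comm k (2 * k), pow_mul, hk]
        · rw [show (a ^ k * y * g) * z * (a ^ k * y * g)⁻¹ = a ^ k * y * y * (a ^ k * y)⁻¹ by rw [hy]; group, hvy]
          exact w.2.2
    haveI : Fintype X := Fintype.ofFinite X
    haveI : Fintype Ω := Fintype.ofFinite Ω
    have hΩodd : Odd (Fintype.card Ω) := by
      obtain ⟨v₀⟩ : Nonempty Ω := Fintype.card_pos_iff.mp (by
        rw [← Nat.card_eq_fintype_card, hcard]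
        haveI : Nonempty X := ⟨⟨z, IsConj.refl z, hzH⟩⟩
        exact Nat.card_pos)
      have hv0 : v₀.1⁻¹ = v₀.1 := inv_eq_of_mul_eq_one_right (hinv2 _ v₀.2.1)
      let f : Ω → Ω := fun v => ⟨v₀.1 * v.1 * v₀.1⁻¹, v.2.1.trans (isConj_iff.mpr ⟨v₀.1, rfl⟩), by
        have hv : v.1⁻¹ = v.1 := inv_eq_of_mul_eq_one_right (hinv2 _ v.2.1)
        rw [show v₀.1 * v.1 * v₀.1⁻¹ * g = v₀.1 * g * (v.1⁻¹ * g)⁻¹ * (v₀.1⁻¹ * g) by group, hv, hv0]
        exact mul_mem (mul_mem v₀.2.2 (inv_mem v.2.2)) v₀.2.2⟩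
      have hf : Function.Involutive f := fun v => Subtype.ext (by
        show v₀.1 * (v₀.1 * v.1 * v₀.1⁻¹) * v₀.1⁻¹ = v.1
        nth_rewrite 1 [← hv0]
        nth_rewrite 3 [← hv0]
        group)
      have hsupp : (hf.toPerm f).support = Finset.univ.erase v₀ := by
        ext v
        rw [Equiv.Perm.mem_support, Finset.mem_erase]
        simp only [Finset.mem_univ, and_true]
        show f v ≠ v ↔ v ≠ v₀
        refine not_congr ⟨fun e => ?_, fun e => ?_⟩
        · exact hΩ v v₀ ((mul_inv_eq_iff_eq_mul.mp (congrArg Subtype.val e)).symm)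
        · subst e; exact Subtype.ext (mul_inv_cancel_right _ _)
      have h2 := Equiv.Perm.two_dvd_card_support (σ := hf.toPerm f) (Equiv.ext fun v => hf v)
      rw [hsupp, Finset.card_erase_of_mem (Finset.mem_univ _), Finset.card_univ] at h2
      have hpos : 0 < Fintype.card Ω := Fintype.card_pos_iff.mpr ⟨v₀⟩
      rw [Nat.odd_iff]; omega
    -- the class has odd order
    let K := {w : G // IsConj z w}
    haveI : Fintype K := Fintype.ofFinite K
    have hKodd : Odd (Fintype.card K) := by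
      let f : K → K := fun w => ⟨z * w.1 * z⁻¹, w.2.trans (isConj_iff.mpr ⟨z, rfl⟩)⟩
      have hzz : z * z = 1 := hinv2 z (IsConj.refl z)
      let f' : K → K := fun w => if w.1 ∈ H then w else f w
      have hfH : ∀ w : K, ((f w).1 ∈ H ↔ w.1 ∈ H) := fun w => ⟨fun h => by
          have := mul_mem (mul_mem (inv_mem hzH) h) hzH
          simpa [f, mul_assoc] using this,
        fun h => mul_mem (mul_mem hzH h) (inv_mem hzH)⟩
      have hf : Function.Involutive f' := by
        intro w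
        by_cases hw : w.1 ∈ H
        · simp [f', hw]
        · simp only [f', hw, if_false]
          rw [if_neg (fun h => hw ((hfH w).mp h))]
          exact Subtype.ext (show z * (z * w.1 * z⁻¹) * z⁻¹ = w.1 by
            rw [inv_eq_of_mul_eq_one_right hzz, ← mul_assoc, ← mul_assoc, hzz, one_mul, mul_assoc, hzz, mul_one])
      have hsupp : (hf.toPerm f').support = Finset.univ.filter (fun w : K => ¬ w.1 ∈ H) := by
        ext w
        rw [Equiv.Perm.mem_support, Finset.mem_filter]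
        simp only [Finset.mem_univ, true_and]
        show f' w ≠ w ↔ _
        by_cases hw : w.1 ∈ H
        · simp [f', hw]
        · simp only [f', hw, if_false, not_false_iff, iff_true]
          exact fun e => hw (hCz _ (mul_inv_eq_iff_eq_mul.mp (congrArg Subtype.val e)).symm)
      have h2 := Equiv.Perm.two_dvd_card_support (σ := hf.toPerm f') (Equiv.ext fun v => hf v)
      rw [hsupp] at h2
      have hX : (Finset.univ.filter (fun w : K => w.1 ∈ H)).card = Fintype.card X := by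
        rw [← Fintype.card_subtype]
        exact Fintype.card_congr (Equiv.subtypeSubtypeEquivSubtypeInter (fun w => IsConj z w) (fun w => w ∈ H))
      have hsum := Finset.card_filter_add_card_filter_not (s := (Finset.univ : Finset K)) (fun w : K => w.1 ∈ H)
      rw [hX, Finset.card_univ] at hsum
      rw [← Nat.card_eq_fintype_card, hcard, Nat.card_eq_fintype_card] at hΩodd
      rw [Nat.odd_iff] at hΩodd ⊢
      omega
    set C := Subgroup.centralizer ({z} : Set G) with hCdef
    have hindex : C.index = Nat.card K := by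
      rw [Subgroup.index_eq_card]
      refine Nat.card_congr (Equiv.ofBijective (Quotient.lift (fun x : G => (⟨x * z * x⁻¹, isConj_iff.mpr ⟨x, rfl⟩⟩ : K)) ?_) ⟨?_, ?_⟩)
      · intro a b hab
        have h := Subgroup.mem_centralizer_singleton_iff.mp (QuotientGroup.leftRel_apply.mp hab)
        refine Subtype.ext ?_
        show a * z * a⁻¹ = b * z * b⁻¹
        calc a * z * a⁻¹ = a * (z * (a⁻¹ * b)) * b⁻¹ := by group
          _ = a * ((a⁻¹ * b) * z) * b⁻¹ := by rw [h]
          _ = b * z * b⁻¹ := by group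
      · intro a b
        induction a using Quotient.inductionOn
        rename_i a
        induction b using Quotient.inductionOn
        rename_i b
        intro h
        replace h : a * z * a⁻¹ = b * z * b⁻¹ := congrArg Subtype.val h
        refine Quotient.sound (QuotientGroup.leftRel_apply.mpr (Subgroup.mem_centralizer_singleton_iff.mpr ?_))
        calc a⁻¹ * b * z = a⁻¹ * (b * z * b⁻¹) * b := by group
          _ = a⁻¹ * (a * z * a⁻¹) * b := by rw [h]
          _ = z * (a⁻¹ * b) := by group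
      · rintro ⟨w, hw⟩
        obtain ⟨x, rfl⟩ := isConj_iff.mp hw
        exact ⟨Quotient.mk _ x, rfl⟩
    obtain ⟨P⟩ := (inferInstance : Nonempty (Sylow 2 C))
    have hzC : z ∈ C := Subgroup.mem_centralizer_singleton_iff.mpr rfl
    have hzn : (Subgroup.zpowers (⟨z, hzC⟩ : C)).Normal := by
      refine ⟨fun a ha c => ?_⟩
      obtain ⟨i, rfl⟩ := ha
      have : c * ⟨z, hzC⟩ * c⁻¹ = (⟨z, hzC⟩ : C) := Subtype.ext (by
        show (c : G) * z * (c : G)⁻¹ = z
        rw [Subgroup.mem_centralizer_singleton_iff.mp c.2, mul_inv_cancel_right])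
      rw [← conj_zpow, this]; exact ⟨i, rfl⟩
    have hzp : IsPGroup 2 (Subgroup.zpowers (⟨z, hzC⟩ : C)) := IsPGroup.of_card (n := 1) (by
      rw [Nat.card_zpowers, ← Subgroup.orderOf_coe, hz, pow_one])
    have hzP : (⟨z, hzC⟩ : C) ∈ (P : Subgroup C) := IsPGroup.le_sylow_of_normal hzp P (Subgroup.mem_zpowers _)
    obtain ⟨Q, hQ⟩ := (P.isPGroup'.map C.subtype).exists_le_sylow
    have hQeq : (P : Subgroup C).map C.subtype = (Q : Subgroup G) := by
      refine Subgroup.eq_of_le_of_card_ge hQ ?_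
      rw [Subgroup.card_map_of_injective C.subtype_injective, Q.card_eq_multiplicity, P.card_eq_multiplicity]
      refine le_of_eq ?_
      congr 1
      rw [← C.index_mul_card, Nat.factorization_mul (Subgroup.index_ne_zero_of_finite) Nat.card_pos.ne',
        Finsupp.add_apply, Nat.factorization_eq_zero_of_not_dvd, zero_add]
      rw [hindex, Nat.card_eq_fintype_card]
      intro h
      have := Nat.odd_iff.mp hKodd
      omega
    have hzQ : z ∈ (Q : Subgroup G) := hQ ⟨_, hzP, rfl⟩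
    refine ⟨Q, ⟨z, hzQ⟩, Subgroup.mem_center_iff.mpr fun q => Subtype.ext ?_, rfl⟩
    have hqC : (q : G) ∈ C := by
      have := hQeq.ge q.2
      obtain ⟨c, -, hc⟩ := this
      rw [← hc]; exact c.2
    exact Subgroup.mem_centralizer_singleton_iff.mp hqC
  · rintro ⟨⟨P, z', hz', rfl⟩, hC⟩ t ht hne hc g
    have hCt : Subgroup.centralizer ({(P : Subgroup G).subtype z' * t} : Set G) ≤ H := hC t ht hne hc
    set z := (P : Subgroup G).subtype z' with hzdef
    have hu : z * t ∈ H := mul_mem hzH (hCz t hc)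
    refine ⟨fun hgu => by_contra fun hg => ?_, fun hg => (hmem _ g).mpr (mul_mem (mul_mem (inv_mem hg) hu) hg)⟩
    have hPC : ∀ x ∈ (P : Subgroup G), x * z = z * x := fun x hx =>
      congrArg Subtype.val (Subgroup.mem_center_iff.mp hz' ⟨x, hx⟩)
    have hPH : (P : Subgroup G) ≤ H := fun x hx => hCz x (hPC x hx)
    set u' := g⁻¹ * (z * t) * g with hu'
    have hu'H : u' ∈ H := (hmem _ g).mp hgu
    have hu2 : (z * t) ^ 2 = 1 := by
      have hzz : z * z = 1 := by rw [← pow_two, ← hz, pow_orderOf_eq_one]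
      have htt : t * t = 1 := by
        obtain ⟨x, rfl⟩ := isConj_iff.mp ht
        rw [conj_mul, hzz]; group
      rw [pow_two, mul_assoc, ← mul_assoc t z t, hc, mul_assoc, htt, mul_one, hzz]
    set u'' : H := ⟨u', hu'H⟩
    have hp : IsPGroup 2 (Subgroup.zpowers u'') := by
      rintro ⟨_, i, rfl⟩
      refine ⟨1, Subtype.ext ?_⟩
      show (u'' ^ i) ^ 2 ^ 1 = 1
      rw [pow_one, ← zpow_natCast, ← zpow_mul, mul_comm, zpow_mul, zpow_natCast]
      have : u'' ^ 2 = 1 := Subtype.ext (show u' ^ 2 = 1 by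
        have h2 := conj_pow (i := 2) (a := g⁻¹) (b := z * t)
        rw [inv_inv] at h2
        rw [hu', h2, hu2, mul_one, inv_mul_cancel])
      rw [this, one_zpow]
    obtain ⟨R, hR⟩ := hp.exists_le_sylow
    obtain ⟨h, hh⟩ := MulAction.exists_smul_eq H R (P.subtype hPH)
    have hmemP : (h : G) * u' * (h : G)⁻¹ ∈ (P : Subgroup G) := by
      have h3 : h * u'' * h⁻¹ ∈ ((P.subtype hPH : Sylow 2 H) : Subgroup H) := by
        rw [← hh, Sylow.coe_subgroup_smul, Subgroup.mem_pointwise_smul_iff_inv_smul_mem]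
        simpa [mul_assoc] using hR (Subgroup.mem_zpowers u'')
      exact h3
    set k := g * (h : G)⁻¹ with hk
    have hkH : k ∉ H := fun hkH => hg (by simpa [hk] using mul_mem hkH h.2)
    have hcomm := hPC _ hmemP
    have hz1 : k * z * k⁻¹ ∈ H := hCt (Subgroup.mem_centralizer_singleton_iff.mpr (by
      have e : z * t = k * ((h : G) * u' * (h : G)⁻¹) * k⁻¹ := by rw [hk, hu']; group
      rw [e]
      calc k * z * k⁻¹ * (k * ((h : G) * u' * (h : G)⁻¹) * k⁻¹) = k * (z * ((h : G) * u' * (h : G)⁻¹)) * k⁻¹ := by group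
        _ = k * (((h : G) * u' * (h : G)⁻¹) * z) * k⁻¹ := by rw [hcomm]
        _ = k * ((h : G) * u' * (h : G)⁻¹) * k⁻¹ * (k * z * k⁻¹) := by group))
    exact hkH (hconjH k hz1)

end Cfsg.Agent.S1922
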