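import Cfsg.Statements.S1924
import Cfsg.Agent.H72.SignTransfer

set_option autoImplicit false
open Cfsg

namespace Cfsg.Agent.S1924

/-- A consequence of Thompson's transfer lemma. Let G be a finite group, L a subgroup with O²(L) = L, T a Sylow 2-subgroup of L and S a Sylow 2-subgroup of G containing T. Suppose D ≤ S is a dihedral subgroup of order at least 4 (the four-group counts) with D ∩ T = 1 and S = TD as a set of products (so |S| = |T|·|D|), and C ≤ D is cyclic of index 2 in D. If no involution of D outside C is G-conjugate to an involution of the subgroup generated by T and C, and the involution of C is not G-conjugate to any involution of T, then G has a normal subgroup K, containing every Sylow 2-subgroup of L as a Sylow 2-subgroup, with G = KD. -/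
theorem result {G : Type*} [Group G] [Finite G] (L T S D C : Subgroup G) (hL : Cfsg.pResidual 2 ↥L = ⊤)
    (hTL : T ≤ L) (hT2 : IsPGroup 2 T) (hTsyl : ¬ 2 ∣ T.relIndex L)
    (hS2 : IsPGroup 2 S) (hSsyl : ¬ 2 ∣ S.index) (hTS : T ≤ S)
    (hDS : D ≤ S) (hDih : ∃ n : ℕ, 2 ≤ n ∧ Nonempty (↥D ≃* DihedralGroup n)) (hDT : D ⊓ T = ⊥) (hTD : T ⊔ D = S) (hTDc : Nat.card T * Nat.card D = Nat.card S)
    (hCD : C ≤ D) (hC : IsCyclic ↥C) (hCi : C.relIndex D = 2)
    (h1 : ∀ x ∈ D, x ∉ C → orderOf x = 2 → ∀ g : G, g * x * g⁻¹ ∈ T ⊔ C → False)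
    (h2 : ∀ c ∈ C, orderOf c = 2 → ∀ g : G, g * c * g⁻¹ ∈ T → False) :
    ∃ K : Subgroup G, K.Normal ∧ K ⊔ D = ⊤ ∧
      ∀ T' : Subgroup G, T' ≤ L → IsPGroup 2 T' → ¬ 2 ∣ T'.relIndex L → T' ≤ K ∧ ¬ 2 ∣ T'.relIndex K := by
  classical
  obtain ⟨n, hn, ⟨e⟩⟩ := hDih
  have : NeZero n := ⟨by omega⟩
  have hDcard : Nat.card D = 2 * n := by rw [Nat.card_congr e.toEquiv, DihedralGroup.nat_card]
  have hCcard : Nat.card C = n := by
    have h := Subgroup.relIndex_mul_relIndex ⊥ C D bot_le hCD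
    rw [hCi, Subgroup.relIndex_bot_left, Subgroup.relIndex_bot_left, hDcard] at h
    omega
  obtain ⟨c, hc⟩ := hC.exists_generator
  have hcn : orderOf (c : G) = n := by
    rw [Subgroup.orderOf_coe, orderOf_eq_card_of_forall_mem_zpowers hc, hCcard]
  have hout : ∀ x ∈ D, x ∉ C → orderOf x = 2 := by
    intro x hx hxC
    have hx1 : x ≠ 1 := fun h => hxC (h ▸ C.one_mem)
    refine orderOf_eq_prime ?_ hx1
    suffices (e ⟨x, hx⟩) ^ 2 = 1 by
      have h3 : (⟨x, hx⟩ : D) ^ 2 = 1 := e.injective (by rw [map_pow, this, map_one])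
      simpa using congrArg Subtype.val h3
    rcases h : e ⟨x, hx⟩ with k | k
    swap; · rw [pow_two, DihedralGroup.sr_mul_self]
    rcases Nat.lt_or_ge n 3 with hn3 | hn3
    · obtain rfl : n = 2 := by omega
      rw [pow_two, DihedralGroup.r_mul_r, DihedralGroup.one_def]
      have : ∀ z : ZMod 2, z + z = 0 := by decide
      rw [this k]
    · exfalso
      rcases hj : e ⟨c, hCD c.2⟩ with j | j
      swap
      · have := DihedralGroup.orderOf_sr (n := n) j
        rw [← hj, MulEquiv.orderOf_eq, ← Subgroup.orderOf_coe, hcn] at this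
        omega
      have hle : C.subgroupOf D ≤ (Subgroup.zpowers (DihedralGroup.r (n := n) 1)).comap e.toMonoidHom := by
        rintro ⟨y, hyD⟩ hy
        obtain ⟨i, hi⟩ := Subgroup.mem_zpowers_iff.mp (hc ⟨y, hy⟩)
        have hy' : (⟨y, hyD⟩ : D) = ⟨c, hCD c.2⟩ ^ i := Subtype.ext (by simpa using (congrArg Subtype.val hi).symm)
        rw [Subgroup.mem_comap, MulEquiv.coe_toMonoidHom, hy', map_zpow, hj]
        exact Subgroup.zpow_mem _ (Subgroup.mem_zpowers_iff.mpr ⟨j.val, by simp⟩) _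
      have heq := Subgroup.eq_of_le_of_card_ge hle (by
        rw [Nat.card_congr (Subgroup.subgroupOfEquivOfLe hCD).toEquiv, hCcard,
          show (Subgroup.zpowers (DihedralGroup.r (n := n) 1)).comap e.toMonoidHom = (Subgroup.zpowers (DihedralGroup.r (n := n) 1)).map e.symm.toMonoidHom from Subgroup.comap_equiv_eq_map_symm' e _, Subgroup.card_map_of_injective (f := e.symm.toMonoidHom) e.symm.injective,
          Nat.card_zpowers, DihedralGroup.orderOf_r_one])
      have : (⟨x, hx⟩ : D) ∈ C.subgroupOf D := by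
        rw [heq, Subgroup.mem_comap, MulEquiv.coe_toMonoidHom, h]
        exact Subgroup.mem_zpowers_iff.mpr ⟨k.val, by simp⟩
      exact hxC this
  obtain ⟨d, hdD, hdC⟩ : ∃ d ∈ D, d ∉ C := by
    by_contra h
    push Not at h
    rw [show D = C from le_antisymm h hCD, hCcard] at hDcard
    omega
  have hd2 := hout d hdD hdC
  set U := T ⊔ C with hU
  have hUS : U ≤ S := sup_le hTS (hCD.trans hDS)
  have hUne : U ≠ S := fun h => h1 d hdD hdC hd2 1 (by simpa using h.symm ▸ hDS hdD)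
  have hUge : Nat.card T * Nat.card C ≤ Nat.card U := by
    rw [← Nat.card_prod]
    refine Nat.card_le_card_of_injective
      (fun a : T × C => (⟨(a.1 : G) * a.2, mul_mem (Subgroup.mem_sup_left a.1.2)
        (Subgroup.mem_sup_right a.2.2)⟩ : U)) ?_
    intro a b hab
    have h' : (a.1 : G) * a.2 = b.1 * b.2 := congrArg Subtype.val hab
    have h'' : ((b.1 : G))⁻¹ * a.1 = b.2 * (a.2 : G)⁻¹ := by
      rw [eq_mul_inv_iff_mul_eq, mul_assoc, h', inv_mul_cancel_left]
    have hb : ((b.1 : G))⁻¹ * a.1 ∈ D ⊓ T :=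
      ⟨hCD (h'' ▸ C.mul_mem b.2.2 (C.inv_mem a.2.2)), T.mul_mem (T.inv_mem b.1.2) a.1.2⟩
    rw [hDT, Subgroup.mem_bot] at hb
    have h1' : (a.1 : G) = b.1 := by rw [inv_mul_eq_one] at hb; exact hb.symm
    rw [h1', mul_right_inj] at h'
    exact Prod.ext (Subtype.ext h1') (Subtype.ext h')
  have hUidx : U.relIndex S = 2 := by
    have h := Subgroup.relIndex_mul_relIndex ⊥ U S bot_le hUS
    rw [Subgroup.relIndex_bot_left, Subgroup.relIndex_bot_left, ← hTDc, hDcard] at h
    have hne1 : U.relIndex S ≠ 1 := fun h' => hUne (le_antisymm hUS (Subgroup.relIndex_eq_one.mp h'))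
    have hle : U.relIndex S ≤ 2 := by
      by_contra hgt
      push Not at hgt
      have h3 : Nat.card T * Nat.card C * 3 ≤ Nat.card U * U.relIndex S := Nat.mul_le_mul hUge hgt
      rw [h, hCcard] at h3
      nlinarith [Nat.card_pos (α := T)]
    rcases Nat.lt_or_ge (U.relIndex S) 2 with h2' | h2'
    · rcases Nat.eq_zero_or_pos (U.relIndex S) with h0 | h0
      · rw [h0, mul_zero] at h; nlinarith [Nat.card_pos (α := T)]
      · omega
    · omega
  have odd_of : ∀ k : ℕ, ¬ 2 ∣ k → Odd k := fun k hk => Nat.odd_iff.mpr (by omega)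
  have hSU : U.relIndex (⊤ : Subgroup G) = 2 ^ 1 * S.index := by
    rw [Subgroup.relIndex_top_right, ← Subgroup.relIndex_mul_index hUS, hUidx, pow_one]
  have hTLres := H72.mem_pResidual_of_top L hL
  have hTL2 : ∀ y : G, y ∈ L → y ^ 2 = 1 → y ≠ 1 → ∃ g : G, g * y * g⁻¹ ∈ T := by
    intro y hy hy2 hy1
    have hp : IsPGroup 2 (T.subgroupOf L) :=
      IsPGroup.of_equiv hT2 (Subgroup.subgroupOfEquivOfLe hTL).symm
    have hz : IsPGroup 2 (Subgroup.zpowers (⟨y, hy⟩ : L)) := by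
      refine IsPGroup.of_card (n := 1) ?_
      rw [Nat.card_zpowers, ← Subgroup.orderOf_coe, orderOf_eq_prime hy2 hy1, pow_one]
    obtain ⟨R, hR⟩ := hz.exists_le_sylow
    obtain ⟨g, hg⟩ := MulAction.exists_smul_eq L R (hp.toSylow hTsyl)
    refine ⟨g, ?_⟩
    have : g * ⟨y, hy⟩ * g⁻¹ ∈ ((hp.toSylow hTsyl : Sylow 2 L) : Subgroup L) := by
      rw [← hg, Sylow.coe_subgroup_smul, Subgroup.mem_pointwise_smul_iff_inv_smul_mem]
      simpa [MulAut.smul_def, mul_assoc] using hR (Subgroup.mem_zpowers _)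
    erw [IsPGroup.toSylow_coe] at this
    exact this
  obtain ⟨m, hm⟩ : ∃ m, n = 2 ^ m := by
    obtain ⟨m, hm⟩ := (hS2.to_le (hCD.trans hDS)).exists_card_eq
    exact ⟨m, by rw [← hCcard, hm]⟩
  obtain ⟨m, rfl⟩ : ∃ k, m = k + 1 := ⟨m - 1, by
    have : m ≠ 0 := fun h => by subst h; simp at hm; omega
    omega⟩
  have hidxL : ∃ o, Odd o ∧ L.relIndex (⊤ : Subgroup G) = 2 * 2 ^ (m + 1) * o := by
    have h3 := Subgroup.relIndex_mul_index hTL
    have h4 := Subgroup.relIndex_mul_index hTS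
    have h5 : T.relIndex S = 2 * 2 ^ (m + 1) := by
      have h := Subgroup.relIndex_mul_relIndex ⊥ T S bot_le hTS
      rw [Subgroup.relIndex_bot_left, Subgroup.relIndex_bot_left, ← hTDc, hDcard, hm] at h
      exact Nat.eq_of_mul_eq_mul_left Nat.card_pos h
    rw [← h4, h5] at h3
    have hcop : Nat.Coprime (2 * 2 ^ (m + 1)) (T.relIndex L) := by
      rw [← pow_succ']
      exact ((Nat.prime_two.coprime_iff_not_dvd).mpr hTsyl).pow_left _
    obtain ⟨o, ho⟩ := hcop.dvd_of_dvd_mul_left (h3.symm ▸ Dvd.intro _ rfl)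
    refine ⟨o, ?_, by rw [Subgroup.relIndex_top_right]; exact ho⟩
    rw [ho] at h3
    have h6 : T.relIndex L * o = S.index := Nat.eq_of_mul_eq_mul_left
      (show 0 < 2 * 2 ^ (m + 1) by positivity) (by rw [← h3]; ring)
    exact Nat.Odd.of_mul_right (h6 ▸ odd_of _ hSsyl)
  have hdfree : ∀ h ∈ (⊤ : Subgroup G), h * d ^ 2 ^ (1 - 1) * h⁻¹ ∉ U := fun h _ hh =>
    h1 d hdD hdC hd2 h (by simpa using hh)
  obtain ⟨φ, hφ⟩ := H72.exists_hom_sign (⊤ : Subgroup G) U le_top 1 le_rfl ⟨S.index, odd_of _ hSsyl, hSU⟩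
  let ψ : G →* ℤˣ := φ.comp Subgroup.topEquiv.symm.toMonoidHom
  have hψ : ∀ y ∈ D, y ∉ C → ψ y = -1 := fun y hyD hyC => hφ _ (by
      have h := pow_orderOf_eq_one y
      rw [hout y hyD hyC] at h
      rw [pow_one]; exact h)
    (fun h _ hh => h1 y hyD hyC (hout y hyD hyC) h (by simpa using hh))
  set K₁ := ψ.ker with hK₁
  have hLK : L ≤ K₁ := hTLres.trans (H72.pResidual_le_ker ψ)
  have hK₁2 : K₁.relIndex (⊤ : Subgroup G) = 2 := by
    rw [Subgroup.relIndex_top_right, hK₁, Subgroup.index_ker]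
    have hsur : ψ.range = ⊤ := by
      refine eq_top_iff.mpr fun u _ => ?_
      rcases Int.units_eq_one_or u with rfl | rfl
      · exact one_mem _
      · exact ⟨d, hψ d hdD hdC⟩
    rw [hsur, Subgroup.card_top, Nat.card_eq_fintype_card]; rfl
  have hcK : (c : G) ∈ K₁ := by
    have hdc : d * (c : G) ∉ C := fun h => hdC (by simpa using C.mul_mem h (C.inv_mem c.2))
    have e2 := hψ _ (D.mul_mem hdD (hCD c.2)) hdc
    rw [map_mul, hψ d hdD hdC] at e2
    rw [hK₁, MonoidHom.mem_ker]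
    simpa using e2
  obtain ⟨o, ho, ho'⟩ := hidxL
  obtain ⟨K₂, hLK₂, hodd, hres⟩ := H72.exists_cutoff L hL (m + 1) K₁ (c : G) hLK hcK
    (by rw [← hm, ← hcn]; exact pow_orderOf_eq_one _) ⟨o, ho, by
      have h := Subgroup.relIndex_mul_relIndex _ _ _ hLK (le_top (a := K₁))
      rw [hK₁2, ho'] at h
      exact Nat.eq_of_mul_eq_mul_right two_pos (by rw [h]; ring)⟩
    (by
      intro _ h _ hh
      set z := (c : G) ^ 2 ^ (m + 1 - 1) with hz
      have hz2 : orderOf z = 2 := by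
        rw [hz, orderOf_pow_of_dvd (by positivity) (hcn ▸ hm ▸ pow_dvd_pow 2 (by omega)), hcn, hm,
          Nat.pow_div (by omega) two_pos, show m + 1 - (m + 1 - 1) = 1 by omega, pow_one]
      have hy : (h * z * h⁻¹) ^ 2 = 1 := by
        have := pow_orderOf_eq_one z
        rw [hz2] at this
        rw [conj_pow, this]; group
      have hy1 : h * z * h⁻¹ ≠ 1 := fun he => by
        have : z = 1 := by simpa using he
        simp [this] at hz2
      obtain ⟨g, hg⟩ := hTL2 _ hh hy hy1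
      exact h2 z (C.pow_mem c.2 _) hz2 (g * h) (by simpa [mul_assoc] using hg))
    (H72.pResidual_le_ker ψ)
  have hKn : (Cfsg.pResidual 2 G).Normal := by
    refine ⟨fun x hx g => ?_⟩
    induction hx using Subgroup.closure_induction with
    | mem y hy =>
      refine Subgroup.subset_closure ?_
      show Nat.Coprime (orderOf (g * y * g⁻¹)) 2
      rwa [show g * y * g⁻¹ = MulAut.conj g y from rfl, MulEquiv.orderOf_eq]
    | one => simp
    | mul a b _ _ ha hb => rw [← conj_mul]; exact mul_mem ha hb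
    | inv a _ ha => rw [← conj_inv]; exact inv_mem ha
  refine ⟨Cfsg.pResidual 2 G, hKn, ?_, fun T' hT'L _ hT' => ⟨hT'L.trans hTLres, ?_⟩⟩
  · obtain ⟨j, hj⟩ := H72.pResidual_index_pow (G := G) 2
    have hd1 : (Cfsg.pResidual 2 G ⊔ D).index ∣ 2 ^ j := hj ▸ Subgroup.index_dvd_of_le le_sup_left
    have hd2' : (Cfsg.pResidual 2 G ⊔ D).index ∣ S.index := by
      refine Subgroup.index_dvd_of_le ?_
      rw [← hTD]
      exact sup_le ((hTL.trans hTLres).trans le_sup_left) le_sup_right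
    rw [← Subgroup.index_eq_one]
    exact Nat.eq_one_of_dvd_coprimes ((Nat.prime_two.coprime_iff_not_dvd.mpr hSsyl).pow_left j) hd1 hd2'
  · rw [← Subgroup.relIndex_mul_relIndex _ _ _ hT'L hTLres]
    refine Nat.prime_two.not_dvd_mul hT' fun h => ?_
    have h' : L.relIndex (Cfsg.pResidual 2 G) ∣ L.relIndex K₂ :=
      ⟨_, (Subgroup.relIndex_mul_relIndex _ _ _ hTLres hres).symm⟩
    exact (Nat.not_even_iff_odd.mpr hodd) (even_iff_two_dvd.mpr (h.trans h'))

end Cfsg.Agent.S1924
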