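import Cfsg.Statements.S1929
import Cfsg.Agent.S1933
import Cfsg.Agent.H15.Trichotomy.FromShult

set_option autoImplicit false
open Cfsg

namespace Cfsg.Agent.S1929

/-- Inside a finite group let G be a subgroup and R a subgroup of prime order r normalizing G, with the order of G prime to r. Let K be a quasisimple subgroup of G that commutes elementwise with every conjugate of K, other than K itself, under the subgroup generated by R and C_G(R). Then K is a component of C_G(R), or K is a component of G, or K is contained in a component of G that is normalized by R. -/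
theorem result {X : Type*} [Group X] [Finite X] (G R : Subgroup X) (r : ℕ) [Fact r.Prime] (hR : Nat.card ↥R = r) (hcop : (Nat.card ↥G).Coprime r) (hnorm : R ≤ Subgroup.normalizer (G : Set X)) (K : Subgroup X) (hKG : K ≤ G) (hKq : Cfsg.IsQuasisimple ↥K) (hcomm : ∀ g ∈ R ⊔ (G ⊓ Subgroup.centralizer (R : Set X)), K.map (MulAut.conj g).toMonoidHom ≠ K → ⁅K, K.map (MulAut.conj g).toMonoidHom⁆ = ⊥) : (K ≤ G ⊓ Subgroup.centralizer (R : Set X) ∧ Cfsg.IsComponent (K.subgroupOf (G ⊓ Subgroup.centralizer (R : Set X)))) ∨ Cfsg.IsComponent (K.subgroupOf G) ∨ ∃ L : Subgroup X, L ≤ G ∧ Cfsg.IsComponent (L.subgroupOf G) ∧ (∀ a ∈ R, L.map (MulAut.conj a).toMonoidHom = L) ∧ K ≤ L := by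
  exact H15.Trichotomy.trichotomy
    (fun G R r hr hR hcop hnorm H hHG hinv hHR =>
      @Cfsg.Agent.S1933.result _ _ _ G R r hr hR hcop hnorm H hHG hinv hHR)
    G R r hR hcop hnorm K hKG hKq hcomm

end Cfsg.Agent.S1929
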