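import Cfsg.Statements.S1932
import Cfsg.Agent.H72.S4Free
import Cfsg.Agent.H74.ThompsonA
import Cfsg.Agent.H11.PConstrained

set_option autoImplicit false
open Cfsg
open scoped commutatorElement

namespace Cfsg.Agent.S1932

/-- Let G be a finite group that is 2-constrained and has no section isomorphic to the symmetric group of degree 4, and let S be a Sylow 2-subgroup of G of nilpotency class at most 2. Then G = N_G(J(S))·O_{2'}(G), where J(S) is the Thompson subgroup generated by the elementary abelian subgroups of S of largest order. -/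
theorem result {G : Type*} [Group G] [Finite G] (hcon : Cfsg.IsPConstrained 2 G) (hS4 : ¬ Cfsg.Involves (Equiv.Perm (Fin 4)) G) (S : Sylow 2 G) (hcl : Subgroup.lowerCentralSeries (S : Subgroup G) 2 = ⊥) : Subgroup.normalizer ((Cfsg.thompsonSubgroupOf 2 (S : Subgroup G)) : Set G) ⊔ Cfsg.pPrimeCore 2 G = ⊤ := by
  haveI : Fact (Nat.Prime 2) := ⟨Nat.prime_two⟩
  haveI := H1.pPrimeCore_normal' 2 G
  set K := Cfsg.pPrimeCore 2 G with hK
  set π := QuotientGroup.mk' K with hπ
  have hπs : Function.Surjective π := QuotientGroup.mk'_surjective K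
  have hker : (Nat.card π.ker).Coprime 2 := by
    rw [hπ, QuotientGroup.ker_mk']
    exact H1.card_pPrimeCore_coprime 2 G
  have hcl' : ∀ a ∈ (S : Subgroup G), ∀ b ∈ (S : Subgroup G), ∀ c ∈ (S : Subgroup G), ⁅⁅a, b⁆, c⁆ = 1 := by
    intro a ha b hb c hc
    have h : ⁅⁅a, b⁆, c⁆ ∈ Subgroup.lowerCentralSeries (S : Subgroup G) 2 :=
      Subgroup.commutator_mem_commutator (Subgroup.commutator_mem_commutator ha hb) hc
    rwa [hcl, Subgroup.mem_bot] at h
  set S' := S.mapSurjective hπs with hS'
  have hS'c : (S' : Subgroup (G ⧸ K)) = (S : Subgroup G).map π := Sylow.coe_mapSurjective _ _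
  have hnormal := H72.thompson_normal (G := G ⧸ K) (fun h => hS4 (H74.JA.involves_quotient h))
    (H11.isPConstrained_iff_core.mp hcon) S' (by
      rw [hS'c]
      rintro _ ⟨a, ha, rfl⟩ _ ⟨b, hb, rfl⟩ _ ⟨c, hc, rfl⟩
      rw [← map_commutatorElement, ← map_commutatorElement, hcl' a ha b hb c hc, map_one])
  have hdisj : Disjoint (S : Subgroup G) π.ker := by
    refine Subgroup.disjoint_of_coprime_natCard ?_
    obtain ⟨k, hk⟩ := IsPGroup.iff_card.mp S.isPGroup'
    rw [hk]; exact (hker.symm).pow_left k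
  rw [hS'c, ← H1.map_thompsonSubgroupOf 2 π _ hdisj, ← H11.map_normalizer_eq π hπs hker _
    (S.isPGroup'.to_le (H1.thompsonSubgroupOf_le 2 _))] at hnormal
  have h1 := congrArg (Subgroup.comap π) hnormal
  rwa [Subgroup.comap_map_eq, Subgroup.comap_top, hπ, QuotientGroup.ker_mk'] at h1

end Cfsg.Agent.S1932
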