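import Cfsg.Statements.S1939


set_option autoImplicit false
open Cfsg

namespace Cfsg.Agent.S1939

/-- Let S be a Sylow p-subgroup of the finite group G and a an element of S that is the only G-conjugate of a lying in S. Then every power of a has the same property: for every n, the only G-conjugate of a^n lying in S is a^n. -/
theorem result {G : Type*} [Group G] [Finite G] {p : ℕ} [Fact p.Prime] (S : Sylow p G) (a : G)
    (haS : a ∈ (S : Subgroup G)) (hwc : ∀ g : G, g * a * g⁻¹ ∈ (S : Subgroup G) → g * a * g⁻¹ = a) (n : ℕ) :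
    ∀ g : G, g * a ^ n * g⁻¹ ∈ (S : Subgroup G) → g * a ^ n * g⁻¹ = a ^ n := by
  intro g hy
  have uniq : ∀ Q : Sylow p G, a ∈ (Q : Subgroup G) → ∀ x : G, x * a * x⁻¹ ∈ (Q : Subgroup G) →
      x * a * x⁻¹ = a := by
    intro Q hQ x hx
    obtain ⟨h, rfl⟩ := MulAction.exists_smul_eq G S Q
    have key : ∀ z : G, z ∈ ((h • S : Sylow p G) : Subgroup G) → h⁻¹ * z * h ∈ (S : Subgroup G) := by
      intro z hz
      rw [Sylow.coe_subgroup_smul, Subgroup.mem_pointwise_smul_iff_inv_smul_mem] at hz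
      simpa [MulAut.smul_def] using hz
    have e1 : h⁻¹ * a * h = a := by
      have := hwc h⁻¹ (by simpa using key a hQ)
      simpa using this
    have e2 : h⁻¹ * (x * a * x⁻¹) * h = a := by
      have e : h⁻¹ * x * a * (h⁻¹ * x)⁻¹ = h⁻¹ * (x * a * x⁻¹) * h := by group
      have := hwc (h⁻¹ * x) (e ▸ key _ hx)
      rwa [e] at this
    calc x * a * x⁻¹ = h * (h⁻¹ * (x * a * x⁻¹) * h) * h⁻¹ := by group
      _ = h * a * h⁻¹ := by rw [e2]
      _ = h * (h⁻¹ * a * h) * h⁻¹ := by rw [e1]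
      _ = a := by group
  have hac : ∀ s ∈ (S : Subgroup G), s * a = a * s := by
    intro s hs
    have := hwc s (mul_mem (mul_mem hs haS) (inv_mem hs))
    exact mul_inv_eq_iff_eq_mul.mp this
  set y := g * a ^ n * g⁻¹ with hydef
  set C := Subgroup.centralizer ({y} : Set G) with hC
  have ha : a ∈ C := Subgroup.mem_centralizer_singleton_iff.mpr (hac y hy).symm
  have hb : g * a * g⁻¹ ∈ C := by
    refine Subgroup.mem_centralizer_singleton_iff.mpr ?_
    have : Commute (g * a * g⁻¹) y := by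
      rw [hydef, ← conj_pow]
      exact (Commute.refl _).pow_right n
    exact this.eq
  obtain ⟨k, hk⟩ := S.2 ⟨a, haS⟩
  have hk' : a ^ p ^ k = 1 := by simpa [Subtype.ext_iff] using hk
  have hp' : ∀ z : C, (z : G) ^ p ^ k = 1 → IsPGroup p (Subgroup.zpowers z) := by
    intro z hz w
    obtain ⟨i, hi⟩ := Subgroup.mem_zpowers_iff.mp w.2
    refine ⟨k, Subtype.ext (Subtype.ext ?_)⟩
    simp only [SubmonoidClass.coe_pow, OneMemClass.coe_one, ← hi, SubgroupClass.coe_zpow]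
    rw [← zpow_natCast, ← zpow_mul, mul_comm, zpow_mul, zpow_natCast, hz, one_zpow]
  obtain ⟨R, hR⟩ := (hp' ⟨a, ha⟩ hk').exists_le_sylow
  obtain ⟨R', hR'⟩ := (hp' ⟨g * a * g⁻¹, hb⟩ (by simp [conj_pow, hk'])).exists_le_sylow
  obtain ⟨c, hc⟩ := MulAction.exists_smul_eq C R' R
  obtain ⟨Q, hQ⟩ := (R.2.map C.subtype).exists_le_sylow
  have haQ : a ∈ (Q : Subgroup G) :=
    hQ ⟨⟨a, ha⟩, hR (Subgroup.mem_zpowers _), rfl⟩
  have hbQ : ((c : G) * g) * a * ((c : G) * g)⁻¹ ∈ (Q : Subgroup G) := by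
    refine hQ ⟨c * ⟨g * a * g⁻¹, hb⟩ * c⁻¹, ?_, ?_⟩
    · rw [← hc, SetLike.mem_coe, Sylow.coe_subgroup_smul, Subgroup.mem_pointwise_smul_iff_inv_smul_mem]
      simpa [MulAut.smul_def, mul_assoc] using hR' (Subgroup.mem_zpowers _)
    · simp [mul_assoc]
  have h3 : ((c : G) * g) * a ^ n * ((c : G) * g)⁻¹ = a ^ n := by
    rw [← conj_pow, uniq Q haQ _ hbQ]
  have h4 : (c : G) * y = y * (c : G) := Subgroup.mem_centralizer_singleton_iff.mp c.2
  calc y = (c : G) * y * (c : G)⁻¹ := by rw [h4]; group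
    _ = ((c : G) * g) * a ^ n * ((c : G) * g)⁻¹ := by rw [hydef]; group
    _ = a ^ n := h3

end Cfsg.Agent.S1939
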