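import Cfsg.Statements.S1940


set_option autoImplicit false
open Cfsg

namespace Cfsg.Agent.S1940

/-- Let the finite group L act by automorphisms on the finite abelian group M, and let N be an L-invariant subgroup of M such that M/N is a p-group on which L acts trivially (every l • m lies in the coset mN). If every element of M is a product of an element of N and an element fixed by a Sylow p-subgroup T of L, then every element of M is a product of an element of N and an element fixed by all of L. -/
theorem result {L : Type*} [Group L] [Finite L] {M : Type*} [CommGroup M] [Finite M] [MulDistribMulAction L M]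
    {p : ℕ} [Fact p.Prime] (N : Subgroup M) (hN : ∀ (l : L) (m : M), m ∈ N → l • m ∈ N)
    (hquot : IsPGroup p (M ⧸ N)) (htriv : ∀ (l : L) (m : M), (l • m) * m⁻¹ ∈ N) (T : Sylow p L)
    (hT : ∀ m : M, ∃ n ∈ N, ∃ c : M, (∀ t ∈ (T : Subgroup L), t • c = c) ∧ m = n * c) :
    ∀ m : M, ∃ n ∈ N, ∃ c : M, (∀ l : L, l • c = c) ∧ m = n * c := by
  classical
  intro m
  let F : Subgroup M :=
    { carrier := {c | ∀ l : L, l • c = c}
      one_mem' := fun l => smul_one l
      mul_mem' := fun {a b} ha hb l => by rw [smul_mul', ha l, hb l]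
      inv_mem' := fun {a} ha l => by rw [smul_inv', ha l] }
  obtain ⟨n, hn, c, hc, hmc⟩ := hT m
  have hwd : ∀ l t : L, t ∈ (T : Subgroup L) → (l * t) • c = l • c := fun l t ht => by
    rw [mul_smul, hc t ht]
  let f : L ⧸ (T : Subgroup L) → M := fun q => q.out • c
  have hf : ∀ l : L, f (QuotientGroup.mk l) = l • c := by
    intro l
    obtain ⟨t, ht⟩ := QuotientGroup.mk_out_eq_mul (T : Subgroup L) l
    show (QuotientGroup.mk l : L ⧸ (T : Subgroup L)).out • c = l • c
    rw [ht, hwd l t t.2]
  have : Fintype (L ⧸ (T : Subgroup L)) := Fintype.ofFinite _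
  let C : M := ∏ q, f q
  have hCF : C ∈ F := by
    intro l
    show l • (∏ q, f q) = ∏ q, f q
    rw [Finset.smul_prod']
    refine Fintype.prod_equiv (MulAction.toPerm l) _ _ fun q => ?_
    induction q using QuotientGroup.induction_on with
    | _ a => rw [MulAction.toPerm_apply, MulAction.Quotient.smul_mk, hf, hf, smul_eq_mul, mul_smul]
  set ix := (T : Subgroup L).index with hix
  have hpow : (QuotientGroup.mk C : M ⧸ N) = QuotientGroup.mk m ^ ix := by
    have e : ∀ q, (QuotientGroup.mk' N) (f q) = QuotientGroup.mk' N m := by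
      intro q
      show ((q.out • c : M) : M ⧸ N) = _
      have h1 : ((q.out • c : M) : M ⧸ N) = (c : M ⧸ N) := by
        rw [QuotientGroup.eq_iff_div_mem, div_eq_mul_inv]; exact htriv _ _
      rw [h1, hmc]
      simp [hn]
    show (QuotientGroup.mk' N) C = _
    rw [map_prod, Finset.prod_congr rfl (fun q _ => e q), Finset.prod_const, Finset.card_univ,
      hix, Subgroup.index_eq_card, Nat.card_eq_fintype_card]
    rfl
  obtain ⟨j, hj⟩ := hquot (QuotientGroup.mk m)
  have hcop : (p ^ j).Coprime ix :=
    Nat.Coprime.pow_left _ ((Fact.out : p.Prime).coprime_iff_not_dvd.mpr T.not_dvd_index)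
  obtain ⟨x, hx⟩ : ∃ x : ℤ, (QuotientGroup.mk m : M ⧸ N) = QuotientGroup.mk (C ^ x) := by
    refine ⟨Nat.gcdB (p ^ j) ix, ?_⟩
    rw [QuotientGroup.mk_zpow, hpow]
    have hg := Nat.gcd_eq_gcd_ab (p ^ j) ix
    rw [hcop.gcd_eq_one] at hg
    calc (QuotientGroup.mk m : M ⧸ N) = (QuotientGroup.mk m : M ⧸ N) ^ ((1 : ℕ) : ℤ) := by simp
      _ = _ := by
        rw [hg, zpow_add, zpow_mul, zpow_natCast, hj, one_zpow, one_mul, zpow_mul, zpow_natCast]
  refine ⟨m / C ^ x, QuotientGroup.eq_iff_div_mem.mp hx, C ^ x, fun l => F.zpow_mem hCF x l, ?_⟩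
  simp

end Cfsg.Agent.S1940
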