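import Cfsg.Statements.S1941
import Cfsg.Agent.CompLayer

set_option autoImplicit false
open Cfsg

namespace Cfsg.Agent.S1941

/-- Let G be a finite group with no nontrivial normal subgroup of order prime to p, T a Sylow p-subgroup of G and E(G) the layer of G (the subgroup generated by its components). An automorphism of G of p-power order that fixes T and E(G) elementwise is inner. -/
theorem result {G : Type*} [Group G] [Finite G] {p : ℕ} [Fact p.Prime] (hcore : Cfsg.pPrimeCore p G = ⊥)
    (T : Sylow p G) (α : MulAut G) (hα : ∃ j : ℕ, orderOf α = p ^ j) (hfixT : ∀ x ∈ (T : Subgroup G), α x = x)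
    (hfixE : ∀ x ∈ Cfsg.layer G, α x = x) : ∃ g : G, ∀ x : G, α x = g * x * g⁻¹ := by
  classical
  clear hα
  have hFle : fittingSubgroup G ≤ (T : Subgroup G) := by
    rw [Cfsg.Comp.fitting_eq_iSup_pCore]
    refine iSup_le fun q => ?_
    have := Fact.mk q.2
    by_cases hq : (q : ℕ) = p
    · intro y hy
      rw [hq] at hy
      obtain ⟨R, hR⟩ := (Cfsg.Comp.pCore_isPGroup (G := G) p).exists_le_sylow
      obtain ⟨g, hg⟩ := MulAction.exists_smul_eq G R T
      have hn : (pCore p G).Normal := Cfsg.pCore_normal p G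
      rw [← hg, Sylow.coe_subgroup_smul, Subgroup.mem_pointwise_smul_iff_inv_smul_mem]
      refine hR ?_
      simpa [MulAut.smul_def] using hn.conj_mem y hy g⁻¹
    · have h : pCore (q : ℕ) G ≤ pPrimeCore p G := by
        refine Cfsg.Comp.le_pPrimeCore (Cfsg.pCore_normal _ G) ?_
        obtain ⟨k, hk⟩ := (Cfsg.Comp.pCore_isPGroup (G := G) (q : ℕ)).exists_card_eq
        rw [hk]
        exact ((Nat.coprime_primes q.2 (Fact.out : p.Prime)).mpr hq).pow_left k
      exact (h.trans hcore.le).trans bot_le
  set F := generalizedFittingSubgroup G with hF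
  have hfixF : ∀ x ∈ F, α x = x := by
    have : F ≤ α.toMonoidHom.eqLocus (MonoidHom.id G) :=
      sup_le (fun x hx => hfixE x hx) (fun x hx => hfixT x (hFle hx))
    exact fun x hx => this hx
  have hFn : F.Normal := by
    refine ⟨fun x hx g => ?_⟩
    have h1 : (layer G).map (MulAut.conj g).toMonoidHom = layer G := Cfsg.Comp.layer_map_equiv _
    have h2 : (fittingSubgroup G).Normal := Subgroup.sSup_normal _ fun N hN => hN.1
    have : F.map (MulAut.conj g).toMonoidHom ≤ F := by
      rw [hF, generalizedFittingSubgroup, Subgroup.map_sup, h1]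
      refine sup_le le_sup_left (le_trans ?_ le_sup_right)
      rintro _ ⟨y, hy, rfl⟩; exact h2.conj_mem y hy g
    exact this ⟨x, hx, rfl⟩
  set A := Subgroup.centralizer (F : Set G) with hA
  have hAn : A.Normal := Subgroup.normal_centralizer
  have hAF : A ≤ F := Cfsg.Comp.centralizer_fStar_le
  have hAab : ∀ a ∈ A, ∀ b ∈ A, a * b = b * a := fun a ha b hb =>
    (Subgroup.mem_centralizer_iff.mp ha b (hAF hb)).symm
  let iA : CommGroup A :=
    { (inferInstance : Group A) with
      mul_comm := fun a b => Subtype.ext (hAab a a.2 b b.2) }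
  have hAT : A ≤ (T : Subgroup G) := by
    refine le_trans (Cfsg.Comp.le_fittingSubgroup hAn ?_) hFle
    exact CommGroup.isNilpotent
  have hAp : IsPGroup p A := T.2.to_le hAT
  have heps : ∀ g : G, α g * g⁻¹ ∈ A := by
    intro g
    rw [hA, Subgroup.mem_centralizer_iff]
    intro f hf
    have h1 := hfixF _ (hFn.conj_mem f hf g⁻¹)
    simp only [map_mul, map_inv, inv_inv, hfixF f hf] at h1
    calc f * (α g * g⁻¹) = α g * ((α g)⁻¹ * f * α g) * g⁻¹ := by group
      _ = α g * (g⁻¹ * f * g) * g⁻¹ := by rw [h1]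
      _ = α g * g⁻¹ * f := by group
  let ε : G → A := fun g => ⟨α g * g⁻¹, heps g⟩
  have hεt : ∀ g t : G, t ∈ (T : Subgroup G) → ε (g * t) = ε g := fun g t ht => Subtype.ext (by
    show α (g * t) * (g * t)⁻¹ = α g * g⁻¹
    rw [map_mul, hfixT t ht]; group)
  have hout : ∀ g : G, ε (QuotientGroup.mk g : G ⧸ (T : Subgroup G)).out = ε g := fun g => by
    obtain ⟨t, ht⟩ := QuotientGroup.mk_out_eq_mul (T : Subgroup G) g
    rw [ht, hεt g t t.2]
  have : Fintype (G ⧸ (T : Subgroup G)) := Fintype.ofFinite _
  set n := Fintype.card (G ⧸ (T : Subgroup G)) with hn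
  have hcop : (Nat.card A).Coprime n := by
    obtain ⟨k, hk⟩ := hAp.exists_card_eq
    rw [hk]
    refine Nat.Coprime.pow_left _ ((Fact.out : p.Prime).coprime_iff_not_dvd.mpr ?_)
    rw [hn, ← Nat.card_eq_fintype_card, ← Subgroup.index_eq_card]
    exact T.not_dvd_index
  let a : A := ∏ q : G ⧸ (T : Subgroup G), ε q.out
  obtain ⟨b, hb⟩ := (powCoprime hcop).surjective a
  refine ⟨b, fun x => ?_⟩
  let cx : A →* A :=
    { toFun := fun c => ⟨x * c * x⁻¹, hAn.conj_mem c c.2 x⟩
      map_one' := Subtype.ext (by simp)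
      map_mul' := fun c d => Subtype.ext (by simp [mul_assoc]) }
  have hsum : a = ε x ^ n * cx a := by
    calc a = ∏ q : G ⧸ (T : Subgroup G), ε x * cx (ε q.out) := by
          refine (Fintype.prod_equiv (MulAction.toPerm x) _ _ fun q => ?_).symm
          induction q using QuotientGroup.induction_on with
          | _ g =>
            rw [MulAction.toPerm_apply, MulAction.Quotient.smul_mk, hout, hout, smul_eq_mul]
            exact Subtype.ext (by simp [ε, cx, map_mul, mul_assoc])
      _ = ε x ^ n * cx a := by rw [Finset.prod_mul_distrib, Finset.prod_const, Finset.card_univ, map_prod]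
  have hbn : b ^ n = a := hb
  rw [← hbn, map_pow, ← mul_pow] at hsum
  have hb' : b = ε x * cx b := (powCoprime hcop).injective hsum
  have hb'' : (b : G) = α x * x⁻¹ * (x * (b : G) * x⁻¹) := congrArg Subtype.val hb'
  calc α x = (α x * x⁻¹ * (x * (b : G) * x⁻¹)) * x * (b : G)⁻¹ := by group
    _ = (b : G) * x * (b : G)⁻¹ := by rw [← hb'']

end Cfsg.Agent.S1941
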