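import Cfsg.Statements.S1944
import Cfsg.Agent.H72.SylowCore

set_option autoImplicit false
open Cfsg

namespace Cfsg.Agent.S1944

/-- Let S be a Sylow p-subgroup of the finite group G and suppose that the centre Z(S) lies in O_{p',p}(G). The elements of S each of which is its only G-conjugate in S form a subgroup W of Z(S); W is then a direct factor of Z(S): there is a subgroup K of Z(S) with W ∩ K = 1 and WK = Z(S). -/
theorem result {G : Type*} [Group G] [Finite G] {p : ℕ} [Fact p.Prime] (S : Sylow p G)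
    (hZ : ((S : Subgroup G) ⊓ Subgroup.centralizer ((S : Subgroup G) : Set G)) ≤ Cfsg.pPrimePCore p G) :
    ∃ W K : Subgroup G, (∀ x : G, x ∈ W ↔ (x ∈ (S : Subgroup G) ∧ ∀ g : G, g * x * g⁻¹ ∈ (S : Subgroup G) → g * x * g⁻¹ = x)) ∧
      K ≤ ((S : Subgroup G) ⊓ Subgroup.centralizer ((S : Subgroup G) : Set G)) ∧ W ⊓ K = ⊥ ∧ W ⊔ K = ((S : Subgroup G) ⊓ Subgroup.centralizer ((S : Subgroup G) : Set G)) := by
  classical
  set Z : Subgroup G := (S : Subgroup G) ⊓ Subgroup.centralizer ((S : Subgroup G) : Set G) with hZdef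
  have hZH : Z ≤ H72.sylCore S := le_inf inf_le_left hZ
  set N := Subgroup.normalizer (H72.sylCore S : Set G) with hN
  have hSN : (S : Subgroup G) ≤ N := H72.sylow_le_normalizer_sylCore S
  set A : Subgroup G := H72.sylCore S ⊓ Subgroup.centralizer (H72.sylCore S : Set G) with hA
  have hZA : Z ≤ A := le_inf hZH (inf_le_right.trans (Subgroup.centralizer_le inf_le_left))
  have hNA : ∀ n ∈ N, ∀ a ∈ A, n * a * n⁻¹ ∈ A := by
    intro n hn a ha
    refine ⟨(Subgroup.mem_normalizer_iff.mp hn a).mp ha.1, Subgroup.mem_centralizer_iff.mpr fun h hh => ?_⟩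
    have h1 : n⁻¹ * h * n ∈ H72.sylCore S := by
      have := (Subgroup.mem_normalizer_iff.mp (inv_mem hn) h).mp hh
      simpa using this
    have h2 := Subgroup.mem_centralizer_iff.mp ha.2 _ h1
    calc h * (n * a * n⁻¹) = n * ((n⁻¹ * h * n) * a) * n⁻¹ := by group
      _ = n * (a * (n⁻¹ * h * n)) * n⁻¹ := by rw [h2]
      _ = n * a * n⁻¹ * h := by group
  let iA : CommGroup A :=
    { (inferInstance : Group A) with
      mul_comm := fun a b => Subtype.ext (Subgroup.mem_centralizer_iff.mp b.2.2 a a.2.1) }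
  let T : Subgroup N := (S : Subgroup G).subgroupOf N
  have : Fintype (N ⧸ T) := Fintype.ofFinite _
  let cj : N → (Z →* A) := fun n =>
    { toFun := fun z => ⟨(n : G) * z * (n : G)⁻¹, hNA n n.2 z (hZA z.2)⟩
      map_one' := Subtype.ext (by simp)
      map_mul' := fun a b => Subtype.ext (by simp [mul_assoc]) }
  have hcj : ∀ n t : N, t ∈ T → cj (n * t) = cj n := fun n t ht => by
    ext z
    have := Subgroup.mem_centralizer_iff.mp z.2.2 (t : G) ht
    show (n : G) * t * z * ((n : G) * t)⁻¹ = (n : G) * z * (n : G)⁻¹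
    calc _ = (n : G) * ((t : G) * z) * (t : G)⁻¹ * (n : G)⁻¹ := by group
      _ = _ := by rw [this]; group
  have hout : ∀ n : N, cj (QuotientGroup.mk n : N ⧸ T).out = cj n := fun n => by
    obtain ⟨t, ht⟩ := QuotientGroup.mk_out_eq_mul T n
    rw [ht, hcj _ _ t.2]
  let τ : Z →* A := ∏ q : N ⧸ T, cj q.out
  set ix := Fintype.card (N ⧸ T) with hix
  have hcop : ¬ p ∣ ix := by
    have h1 : T.index ∣ (S : Subgroup G).index := ⟨N.index, by
      rw [← Subgroup.relIndex, Subgroup.relIndex_mul_index hSN]⟩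
    rw [hix, ← Nat.card_eq_fintype_card, ← Subgroup.index_eq_card]
    exact fun h => S.not_dvd_index (h.trans h1)
  set W : Subgroup G := Z ⊓ Subgroup.centralizer (N : Set G) with hW
  have hτW : ∀ w : Z, (w : G) ∈ W → τ w = (⟨w, hZA w.2⟩ : A) ^ ix := by
    intro w hw
    rw [show τ w = ∏ q : N ⧸ T, cj q.out w by rw [MonoidHom.finsetProd_apply], hix, ← Finset.card_univ,
      ← Finset.prod_const]
    refine Finset.prod_congr rfl fun q _ => Subtype.ext ?_
    show ((q.out : N) : G) * w * ((q.out : N) : G)⁻¹ = w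
    rw [Subgroup.mem_centralizer_iff.mp hw.2 _ (q.out).2, mul_inv_cancel_right]
  have hrange : ∀ z : Z, ((τ z : A) : G) ∈ W := by
    intro z
    have hfix : ∀ m : N, (m : G) * ((τ z : A) : G) * (m : G)⁻¹ = ((τ z : A) : G) := by
      intro m
      let cm : A →* A :=
        { toFun := fun a => ⟨(m : G) * a * (m : G)⁻¹, hNA m m.2 a a.2⟩
          map_one' := Subtype.ext (by simp)
          map_mul' := fun a b => Subtype.ext (by simp [mul_assoc]) }
      have : cm (τ z) = τ z := by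
        rw [show τ z = ∏ q : N ⧸ T, cj q.out z by rw [MonoidHom.finsetProd_apply], map_prod]
        refine Fintype.prod_equiv (MulAction.toPerm m) _ _ fun q => ?_
        induction q using QuotientGroup.induction_on with
        | _ a =>
          rw [MulAction.toPerm_apply, MulAction.Quotient.smul_mk, hout, hout, smul_eq_mul]
          exact Subtype.ext (by simp [cm, cj, mul_assoc])
      exact congrArg Subtype.val this
    have hc : ((τ z : A) : G) ∈ Subgroup.centralizer (N : Set G) :=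
      Subgroup.mem_centralizer_iff.mpr fun m hm => mul_inv_eq_iff_eq_mul.mp (hfix ⟨m, hm⟩)
    exact ⟨⟨(τ z).2.1.1, Subgroup.centralizer_le hSN hc⟩, hc⟩
  refine ⟨W, τ.ker.map Z.subtype, fun x => ⟨fun hx => ⟨hx.1.1, fun g hg => ?_⟩, fun hx => ?_⟩,
    Subgroup.map_subtype_le _, ?_, ?_⟩
  · obtain ⟨n, hn, e⟩ := H72.normalizer_sylCore_fusion S x _ hx.1.1 hg (isConj_iff.mpr ⟨g, rfl⟩)
    rw [← e, Subgroup.mem_centralizer_iff.mp hx.2 n hn, mul_inv_cancel_right]
  · have hxZ : x ∈ Z := ⟨hx.1, Subgroup.mem_centralizer_iff.mpr fun s hs =>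
      mul_inv_eq_iff_eq_mul.mp (hx.2 s (mul_mem (mul_mem hs hx.1) (inv_mem hs)))⟩
    refine ⟨hxZ, Subgroup.mem_centralizer_iff.mpr fun n hn => mul_inv_eq_iff_eq_mul.mp (hx.2 n ?_)⟩
    exact ((Subgroup.mem_normalizer_iff.mp hn x).mp (hZH hxZ)).1
  · rw [eq_bot_iff]
    rintro x ⟨hxW, z, hz, rfl⟩
    have h1 := hτW z hxW
    rw [SetLike.mem_coe, MonoidHom.mem_ker] at hz
    rw [hz] at h1
    have h2 : orderOf (z : G) ∣ ix := orderOf_dvd_of_pow_eq_one (by simpa using (congrArg Subtype.val h1).symm)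
    obtain ⟨k, hk⟩ := IsPGroup.iff_orderOf.mp S.2 ⟨z, z.2.1⟩
    rw [← Subgroup.orderOf_coe] at hk
    rw [Subgroup.mem_bot]
    refine orderOf_eq_one_iff.mp ?_
    rcases k with _ | k
    · simpa using hk
    · exact absurd ((dvd_pow_self p k.succ_ne_zero).trans (hk ▸ h2)) hcop
  · refine le_antisymm (sup_le inf_le_left (Subgroup.map_subtype_le _)) fun x hx => ?_
    have hWp : IsPGroup p W := S.2.to_le (inf_le_left.trans inf_le_left)
    obtain ⟨j, hj⟩ := hWp.exists_card_eq
    have hco : (Nat.card W).Coprime ix := hj ▸ ((Fact.out : p.Prime).coprime_iff_not_dvd.mpr hcop).pow_left j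
    obtain ⟨w, hw⟩ := (powCoprime hco).surjective ⟨_, hrange ⟨x, hx⟩⟩
    have hw' : (w : G) ^ ix = ((τ ⟨x, hx⟩ : A) : G) := congrArg Subtype.val hw
    have hker : (⟨x, hx⟩ : Z) * (⟨w, w.2.1⟩ : Z)⁻¹ ∈ τ.ker := by
      rw [MonoidHom.mem_ker, map_mul, map_inv, hτW ⟨w, w.2.1⟩ w.2, mul_inv_eq_one]
      exact Subtype.ext (by simp [hw'])
    have := Subgroup.mul_mem_sup (S := τ.ker.map Z.subtype) (T := W) ⟨_, hker, rfl⟩ w.2
    rw [sup_comm] at this
    simpa using this

end Cfsg.Agent.S1944
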