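import Cfsg.Statements.S1985
import Cfsg.Agent.H73.WeakClosureElements
import Cfsg.Agent.H73.KFunctor

set_option autoImplicit false
universe u
open Cfsg

namespace Cfsg.Agent.S1985

/-- Let p be an odd prime and G a finite group. Then the lower K-infinity subgroup controls weak closure of elements in G: the lower K-infinity subgroup of every p-subgroup P of G contains Z(P), and for some (equivalently, every) Sylow p-subgroup S of G, with K the lower K-infinity subgroup of S, every element of S commuting with all of N_G(K) is weakly closed in S with respect to G (every G-conjugate of it lying in S equals it). -/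
theorem result {G : Type u} [Group G] [Finite G] {p : ℕ} [Fact p.Prime] (hp : p ≠ 2) : Cfsg.ControlsWeakClosureOfElementsIn p (Cfsg.inducedFunctor (G := G) Cfsg.kInfLower) ⊤ := by
  refine H73.controlsWeakClosureOfElementsIn_of_engel
    (H73.isConjugacyFunctor_inducedFunctor (H73.kInfLower_isCharPFunctor.{u} (p := p)) G)
    H73.center_le_kInfLower_functor (fun H T h1 h2 h3 h4 => ?_) ⊤
  obtain ⟨g, hg, hg', hq, -⟩ := H73.exists_kInf_element h1 h2 h3 h4
  refine ⟨g, hg, hg', fun U V hUV hU => ?_⟩
  have hp3 : 3 ≤ p := by
    have := (Fact.out : p.Prime).two_le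
    omega
  obtain ⟨j, hj⟩ : ∃ j, p - 1 = 2 + j := ⟨p - 3, by omega⟩
  have h0 : ∀ n, Cfsg.iterCommutator (U.map H.subtype) (Subgroup.zpowers g) (2 + n) = ⊥ := by
    intro n
    induction n with
    | zero =>
      exact le_bot_iff.mp ((Subgroup.commutator_mono (Subgroup.commutator_mono hU le_rfl) le_rfl).trans hq.le)
    | succ n ih =>
      show ⁅Cfsg.iterCommutator (U.map H.subtype) (Subgroup.zpowers g) (2 + n), _⁆ = ⊥
      rw [ih, Subgroup.commutator_bot_left]
  rw [hj, h0 j]
  exact bot_le

end Cfsg.Agent.S1985
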