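import Cfsg.Statements.S1945
import Cfsg.Agent.H72.DirectFactor
import Cfsg.Agent.S1985
import Cfsg.Agent.H10.PSolvable
import Cfsg.Agent.H84.Constrained
import Cfsg.Agent.H86.Sylow
import Cfsg.Agent.H85.Basic

set_option autoImplicit false
open Cfsg

namespace Cfsg.Agent.S1945

/-- Let S be a Sylow p-subgroup of the finite group G, and assume that p is odd or that G is solvable. The elements of S each of which is its only G-conjugate in S form a subgroup W of Z(S); W is then a direct factor of Z(S): there is a subgroup K of Z(S) with W ∩ K = 1 and WK = Z(S). (For p = 2 and G not solvable this can fail.) -/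
theorem result {G : Type*} [Group G] [Finite G] {p : ℕ} [Fact p.Prime] (S : Sylow p G) (h : p ≠ 2 ∨ Group.IsSolvable G) :
    ∃ W K : Subgroup G, (∀ x : G, x ∈ W ↔ (x ∈ (S : Subgroup G) ∧ ∀ g : G, g * x * g⁻¹ ∈ (S : Subgroup G) → g * x * g⁻¹ = x)) ∧
      K ≤ ((S : Subgroup G) ⊓ Subgroup.centralizer ((S : Subgroup G) : Set G)) ∧ W ⊓ K = ⊥ ∧ W ⊔ K = ((S : Subgroup G) ⊓ Subgroup.centralizer ((S : Subgroup G) : Set G)) := by
  classical
  rcases h with hp | hsol
  · -- `p` odd: the weakly closed elements are the fixed points of `N(K)` on `Z(K)`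
    obtain ⟨hle, T, -, hTp, hTidx, hwc⟩ := Cfsg.Agent.S1985.result (G := G) hp
    set K₀ := Cfsg.inducedFunctor (G := G) Cfsg.kInfLower T with hK₀
    rw [Subgroup.relIndex_top_right] at hTidx
    have hKT : K₀ ≤ T := Subgroup.map_subtype_le _
    set H := Subgroup.normalizer (K₀ : Set G) with hH
    have hTH : T ≤ H := fun t ht => by
      refine H85.mem_normalizer_of_conj fun x hx => ?_
      obtain ⟨y, hy, rfl⟩ := hx
      haveI : (Cfsg.kInfLower ↥T).Normal := ⟨fun a ha b =>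
        ((H73.kInfLower_isCharPFunctor (p := p)).2 ↥T ↥T hTp (MulAut.conj b)).le ⟨a, ha, rfl⟩⟩
      exact ⟨(⟨t, ht⟩ : T) * y * (⟨t, ht⟩ : T)⁻¹, (inferInstance : (Cfsg.kInfLower ↥T).Normal).conj_mem y hy _, rfl⟩
    set A := K₀ ⊓ Subgroup.centralizer (K₀ : Set G) with hA
    haveI : IsMulCommutative A := ⟨⟨fun x y => Subtype.ext
      (Subgroup.mem_centralizer_iff.mp y.2.2 x x.2.1)⟩⟩
    have hAp : IsPGroup p A := hTp.to_le (inf_le_left.trans hKT)
    have hHA : H ≤ Subgroup.normalizer (A : Set G) := by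
      intro n hn
      refine H85.mem_normalizer_of_conj fun x hx => ⟨(Subgroup.mem_normalizer_iff.mp hn x).mp hx.1, ?_⟩
      refine Subgroup.mem_centralizer_iff.mpr fun k hk => ?_
      have h1 := Subgroup.mem_centralizer_iff.mp hx.2 _ (H85.conj_mem_of_mem_normalizer' hn hk)
      calc k * (n * x * n⁻¹) = n * ((n⁻¹ * k * n) * x) * n⁻¹ := by group
        _ = n * (x * (n⁻¹ * k * n)) * n⁻¹ := by rw [h1]
        _ = n * x * n⁻¹ * k := by group
    have hidx : ¬ p ∣ T.relIndex H := fun hd => hTidx (hd.trans (Subgroup.relIndex_dvd_index_of_le hTH))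
    obtain ⟨K, hK, hK1, hK2⟩ := H72.exists_factor_fixed A H T hAp hHA hTH hidx
    have hZT : A ⊓ Subgroup.centralizer (T : Set G) = T ⊓ Subgroup.centralizer (T : Set G) := by
      refine le_antisymm (fun x hx => ⟨hKT hx.1.1, hx.2⟩) fun x hx => ⟨⟨?_, ?_⟩, hx.2⟩
      · exact hle T hTp hx
      · exact Subgroup.centralizer_le hKT hx.2
    have hW : ∀ x : G, x ∈ A ⊓ Subgroup.centralizer (H : Set G) ↔
        (x ∈ T ∧ ∀ g : G, g * x * g⁻¹ ∈ T → g * x * g⁻¹ = x) := by
      intro x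
      constructor
      · intro hx
        refine ⟨hKT hx.1.1, fun g hg => hwc x ⟨hKT hx.1.1, ?_⟩ g (Subgroup.mem_top g) hg⟩
        rw [top_inf_eq]; exact hx.2
      · rintro ⟨hxT, hx⟩
        have hxZ : x ∈ T ⊓ Subgroup.centralizer (T : Set G) := ⟨hxT, Subgroup.mem_centralizer_iff.mpr fun t ht =>
          mul_inv_eq_iff_eq_mul.mp (hx t (T.mul_mem (T.mul_mem ht hxT) (T.inv_mem ht)))⟩
        have hxA : x ∈ A := (hZT.ge hxZ).1
        exact ⟨hxA, Subgroup.mem_centralizer_iff.mpr fun n hn => mul_inv_eq_iff_eq_mul.mp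
          (hx n (hKT ((Subgroup.mem_normalizer_iff.mp hn x).mp hxA.1)))⟩
    rw [hZT] at hK hK2
    -- transport to `S`
    let TS : Sylow p G := hTp.toSylow hTidx
    have hTS : (TS : Subgroup G) = T := IsPGroup.toSylow_coe _ _
    obtain ⟨g, hg⟩ := MulAction.exists_smul_eq G TS S
    set e : G →* G := (MulAut.conj g).toMonoidHom with he
    have hinj : Function.Injective e := (MulAut.conj g).injective
    have heT : T.map e = (S : Subgroup G) := by rw [← hg, ← hTS]; rfl
    have heC : (T ⊓ Subgroup.centralizer (T : Set G)).map e =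
        (S : Subgroup G) ⊓ Subgroup.centralizer ((S : Subgroup G) : Set G) := by
      rw [Subgroup.map_inf _ _ _ hinj, heT, ← heT]
      congr 1
      ext y
      obtain ⟨x, rfl⟩ : ∃ x, e x = y := (MulAut.conj g).surjective y
      rw [Subgroup.mem_map_iff_mem hinj, Subgroup.mem_centralizer_iff, Subgroup.mem_centralizer_iff]
      constructor
      · rintro h _ ⟨t, ht, rfl⟩
        rw [← map_mul, ← map_mul, h t ht]
      · intro h t ht
        apply hinj
        rw [map_mul, map_mul, h (e t) ⟨t, ht, rfl⟩]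
    refine ⟨(A ⊓ Subgroup.centralizer (H : Set G)).map e, K.map e, fun y => ?_, ?_, ?_, ?_⟩
    · obtain ⟨x, rfl⟩ : ∃ x, e x = y := (MulAut.conj g).surjective y
      rw [Subgroup.mem_map_iff_mem hinj, hW x, ← heT, Subgroup.mem_map_iff_mem hinj]
      refine and_congr_right fun _ => ⟨fun h u hu => ?_, fun h u hu => ?_⟩
      · have e1 : u * e x * u⁻¹ = e ((g⁻¹ * u * g) * x * (g⁻¹ * u * g)⁻¹) := by
          show u * (g * x * g⁻¹) * u⁻¹ = g * ((g⁻¹ * u * g) * x * (g⁻¹ * u * g)⁻¹) * g⁻¹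
          group
        rw [e1, Subgroup.mem_map_iff_mem hinj] at hu
        rw [e1, h _ hu]
      · have e1 : e (u * x * u⁻¹) = (g * u * g⁻¹) * e x * (g * u * g⁻¹)⁻¹ := by
          show g * (u * x * u⁻¹) * g⁻¹ = (g * u * g⁻¹) * (g * x * g⁻¹) * (g * u * g⁻¹)⁻¹
          group
        have h1 : e (u * x * u⁻¹) ∈ T.map e := Subgroup.mem_map_of_mem e hu
        rw [e1] at h1
        exact hinj (e1.trans (h _ h1))
    · exact heC ▸ Subgroup.map_mono hK
    · rw [← Subgroup.map_inf _ _ _ hinj, hK1, Subgroup.map_bot]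
    · rw [← Subgroup.map_sup, hK2, heC]
  · -- `G` solvable: pass to `G / O_{p'}(G)`
    haveI := hsol
    set N := Cfsg.pPrimeCore p G with hN
    haveI := H1.pPrimeCore_normal' p G
    set f := QuotientGroup.mk' N with hf
    have hfs : Function.Surjective f := QuotientGroup.mk'_surjective N
    have hNp : ¬ p ∣ Nat.card N := H84.not_dvd_card_pPrimeCore p
    have hinjS : ∀ x ∈ (S : Subgroup G), f x = 1 → x = 1 := fun x hx h1 => Subgroup.mem_bot.mp
      (Cfsg.Comp.inf_eq_bot_of_isPGroup S.isPGroup' hNp ▸ ⟨hx, (QuotientGroup.eq_one_iff x).mp h1⟩)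
    have hinj : ∀ x ∈ (S : Subgroup G), ∀ y ∈ (S : Subgroup G), f x = f y → x = y := fun x hx y hy h1 =>
      mul_inv_eq_one.mp (hinjS _ ((S : Subgroup G).mul_mem hx ((S : Subgroup G).inv_mem hy))
        (by rw [map_mul, map_inv, h1, mul_inv_cancel]))
    set Sb := S.mapSurjective hfs with hSb
    have hSb' : (Sb : Subgroup (G ⧸ N)) = (S : Subgroup G).map f := Sylow.coe_mapSurjective _ _
    set R := Cfsg.pCore p (G ⧸ N) with hR
    haveI := H1.pCore_normal' p (G ⧸ N)
    have hcs : Subgroup.centralizer (R : Set (G ⧸ N)) ≤ R :=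
      H10.centralizer_pCore_le H10.isPSolvable_of_isSolvable H10.pPrimeCore_quotient_pPrimeCore
    have hRS : R ≤ (Sb : Subgroup (G ⧸ N)) := H1.pCore_le_sylow Sb
    set A := R ⊓ Subgroup.centralizer (R : Set (G ⧸ N)) with hA
    haveI : IsMulCommutative A := ⟨⟨fun x y => Subtype.ext
      (Subgroup.mem_centralizer_iff.mp y.2.2 x x.2.1)⟩⟩
    haveI : A.Normal := inferInstance
    obtain ⟨Kb, hK, hK1, hK2⟩ := H72.exists_factor_fixed A ⊤ (Sb : Subgroup (G ⧸ N))
      ((H1.isPGroup_pCore p _).to_le inf_le_left) (by rw [Subgroup.normalizer_eq_top_iff.mpr inferInstance])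
      le_top (by rw [Subgroup.relIndex_top_right]; exact Sb.not_dvd_index)
    have hxZ : ∀ x ∈ (S : Subgroup G), (∀ t ∈ (S : Subgroup G), t * x = x * t) →
        f x ∈ A ⊓ Subgroup.centralizer ((Sb : Subgroup (G ⧸ N)) : Set (G ⧸ N)) := by
      intro x hx hxc
      have h1 : f x ∈ Subgroup.centralizer ((Sb : Subgroup (G ⧸ N)) : Set (G ⧸ N)) := by
        rw [Subgroup.mem_centralizer_iff, hSb']
        rintro _ ⟨t, ht, rfl⟩
        rw [← map_mul, hxc t ht, map_mul]
      have h2 := Subgroup.centralizer_le hRS h1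
      exact ⟨⟨hcs h2, h2⟩, h1⟩
    refine ⟨(S : Subgroup G) ⊓ (A ⊓ Subgroup.centralizer ((⊤ : Subgroup (G ⧸ N)) : Set (G ⧸ N))).comap f,
      (S : Subgroup G) ⊓ Kb.comap f, fun x => ⟨?_, ?_⟩, ?_, ?_, ?_⟩
    · rintro ⟨hxS, hxW⟩
      refine ⟨hxS, fun g hg => hinj _ hg _ hxS ?_⟩
      rw [map_mul, map_mul, map_inv,
        Subgroup.mem_centralizer_iff.mp hxW.2 (f g) (Subgroup.mem_top _), mul_inv_cancel_right]
    · rintro ⟨hxS, hx⟩
      have hxA := hxZ x hxS fun t ht => mul_inv_eq_iff_eq_mul.mp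
        (hx t ((S : Subgroup G).mul_mem ((S : Subgroup G).mul_mem ht hxS) ((S : Subgroup G).inv_mem ht)))
      refine ⟨hxS, hxA.1, Subgroup.mem_centralizer_iff.mpr fun y _ => ?_⟩
      obtain ⟨g, rfl⟩ := hfs y
      set M := (S : Subgroup G) ⊔ N with hM
      have hyS : f (g * x * g⁻¹) ∈ (Sb : Subgroup (G ⧸ N)) := hRS (by
        rw [map_mul, map_mul, map_inv]
        exact (H1.pCore_normal' p (G ⧸ N)).conj_mem _ hxA.1.1 _)
      have hyM : g * x * g⁻¹ ∈ M := by
        rw [hSb'] at hyS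
        obtain ⟨s, hs, hs'⟩ := hyS
        have h1 : s⁻¹ * (g * x * g⁻¹) ∈ N := QuotientGroup.eq.mp hs'
        rw [show g * x * g⁻¹ = s * (s⁻¹ * (g * x * g⁻¹)) by group]
        exact mul_mem (Subgroup.mem_sup_left hs) (Subgroup.mem_sup_right h1)
      have hp' : IsPGroup p ↥((Subgroup.zpowers (g * x * g⁻¹)).subgroupOf M) := by
        refine IsPGroup.comap_subtype ?_
        rw [show g * x * g⁻¹ = (MulAut.conj g).toMonoidHom x from rfl, ← MonoidHom.map_zpowers]
        exact (S.isPGroup'.to_le (Subgroup.zpowers_le.mpr hxS)).map _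
      obtain ⟨m, hm⟩ := H86.exists_conj_le_sylow (S.subtype (le_sup_left : (S : Subgroup G) ≤ M)) hp'
      have hmS : (m : G) * (g * x * g⁻¹) * (m : G)⁻¹ ∈ (S : Subgroup G) :=
        hm ⟨_, hyM⟩ (Subgroup.mem_subgroupOf.mpr (Subgroup.mem_zpowers _))
      obtain ⟨s, hs, u, hu, hmu⟩ : ∃ s ∈ (S : Subgroup G), ∃ u ∈ N, (m : G) = s * u := by
        have h1 : (m : G) ∈ M := m.2
        rw [hM, ← SetLike.mem_coe, Subgroup.mul_normal] at h1
        obtain ⟨s, hs, u, hu, h2⟩ := h1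
        exact ⟨s, hs, u, hu, h2.symm⟩
      have huS : (u * g) * x * (u * g)⁻¹ ∈ (S : Subgroup G) := by
        have h1 := (S : Subgroup G).mul_mem ((S : Subgroup G).mul_mem ((S : Subgroup G).inv_mem hs) hmS) hs
        rw [hmu] at h1
        convert h1 using 1
        group
      have h2 := congrArg f (hx _ huS)
      have hu1 : f u = 1 := (QuotientGroup.eq_one_iff u).mpr hu
      simp only [map_mul, map_inv, hu1, one_mul] at h2
      exact mul_inv_eq_iff_eq_mul.mp h2
    · rintro k ⟨hkS, hk⟩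
      refine ⟨hkS, Subgroup.mem_centralizer_iff.mpr fun t ht => ?_⟩
      refine hinj _ (mul_mem ht hkS) _ (mul_mem hkS ht) ?_
      rw [map_mul, map_mul, Subgroup.mem_centralizer_iff.mp (hK hk).2 (f t)
        (by rw [hSb']; exact ⟨t, ht, rfl⟩)]
    · rw [eq_bot_iff]
      rintro x ⟨⟨hxS, hxW⟩, -, hxK⟩
      exact Subgroup.mem_bot.mpr (hinjS x hxS (Subgroup.mem_bot.mp (hK1 ▸ ⟨hxW, hxK⟩)))
    · refine le_antisymm (sup_le ?_ ?_) fun z hz => ?_
      · rintro x ⟨hxS, hxW⟩
        refine ⟨hxS, Subgroup.mem_centralizer_iff.mpr fun t ht => hinj _ (mul_mem ht hxS) _ (mul_mem hxS ht) ?_⟩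
        rw [map_mul, map_mul, Subgroup.mem_centralizer_iff.mp hxW.2 (f t) (Subgroup.mem_top _)]
      · rintro k ⟨hkS, hk⟩
        refine ⟨hkS, Subgroup.mem_centralizer_iff.mpr fun t ht => hinj _ (mul_mem ht hkS) _ (mul_mem hkS ht) ?_⟩
        rw [map_mul, map_mul, Subgroup.mem_centralizer_iff.mp (hK hk).2 (f t)
          (by rw [hSb']; exact ⟨t, ht, rfl⟩)]
      · have hzA := hK2.ge (hxZ z hz.1 (Subgroup.mem_centralizer_iff.mp hz.2))
        haveI : IsMulCommutative A := inferInstance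
        rw [← SetLike.mem_coe, Subgroup.coe_mul_of_right_le_normalizer_left _ _
          (show Kb ≤ Subgroup.normalizer (((A ⊓ Subgroup.centralizer ((⊤ : Subgroup (G ⧸ N)) : Set (G ⧸ N))) : Subgroup (G ⧸ N)) : Set (G ⧸ N)) from
            fun k hk => H85.mem_normalizer_of_conj fun a ha => by
              rw [Subgroup.mem_centralizer_iff.mp ha.2 k (Subgroup.mem_top _), mul_inv_cancel_right]
              exact ha)] at hzA
        obtain ⟨wb, hwb, kb, hkb, hzwk⟩ := hzA
        obtain ⟨w, hw, hwf⟩ : ∃ w ∈ (S : Subgroup G), f w = wb := hSb'.le (hRS hwb.1.1)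
        have hwW : w ∈ (S : Subgroup G) ⊓ (A ⊓ Subgroup.centralizer ((⊤ : Subgroup (G ⧸ N)) : Set (G ⧸ N))).comap f :=
          ⟨hw, show f w ∈ _ from hwf ▸ hwb⟩
        have hk : w⁻¹ * z ∈ (S : Subgroup G) ⊓ Kb.comap f := by
          refine ⟨(S : Subgroup G).mul_mem ((S : Subgroup G).inv_mem hw) hz.1, show f (w⁻¹ * z) ∈ Kb from ?_⟩
          rw [map_mul, map_inv, hwf, ← hzwk]
          simpa using hkb
        rw [show z = w * (w⁻¹ * z) by group]
        exact mul_mem (Subgroup.mem_sup_left hwW) (Subgroup.mem_sup_right hk)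

end Cfsg.Agent.S1945
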