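import Cfsg.Statements.S1948
import Cfsg.Agent.H72.SylowCore

set_option autoImplicit false
open Cfsg

namespace Cfsg.Agent.S1948

/-- Let S be a Sylow p-subgroup of the finite group G. Then G = N_G(S)·O_{p'}(G) if and only if G is p-constrained and N_G(S) controls fusion in S, in the sense that whenever a subgroup Q of S has a conjugate g Q g⁻¹ inside S, the element g is a product n c with n normalizing S and c centralizing Q. -/
theorem result {G : Type*} [Group G] [Finite G] {p : ℕ} [Fact p.Prime] (S : Sylow p G) :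
    Subgroup.normalizer ((S : Subgroup G) : Set G) ⊔ Cfsg.pPrimeCore p G = ⊤ ↔
      (Cfsg.IsPConstrained p G ∧
        ∀ Q : Subgroup G, Q ≤ (S : Subgroup G) → ∀ g : G, Q.map (MulAut.conj g).toMonoidHom ≤ (S : Subgroup G) →
          ∃ n ∈ Subgroup.normalizer ((S : Subgroup G) : Set G), ∃ c ∈ Subgroup.centralizer (Q : Set G), g = n * c) := by
  have hD := H10.pPrimeCore_normal (G := G) (p := p)
  have hM := H10.pPrimePCore_normal (G := G) (p := p)
  constructor
  · intro h
    have hsur := QuotientGroup.mk'_surjective (Cfsg.pPrimeCore p G)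
    set f := QuotientGroup.mk' (Cfsg.pPrimeCore p G) with hf
    have hn : ((S : Subgroup G).map f).Normal := by
      refine ⟨fun x hx g => ?_⟩
      obtain ⟨g, rfl⟩ := hsur g
      obtain ⟨n, hn, d, hd, rfl⟩ := Subgroup.mem_sup_of_normal_right.mp (h.ge (Subgroup.mem_top g))
      obtain ⟨s, hs, rfl⟩ := hx
      have hd1 : f d = 1 := (QuotientGroup.eq_one_iff d).mpr hd
      refine ⟨n * s * n⁻¹, (Subgroup.mem_normalizer_iff.mp hn s).mp hs, ?_⟩
      simp [hd1]
    have hSle : (S : Subgroup G) ≤ Cfsg.pPrimePCore p G :=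
      Subgroup.map_le_iff_le_comap.mp (H10.le_pCore hn (S.2.map f))
    refine ⟨H10.isPConstrained_of_isPSolvable ?_, ?_⟩
    · have hq : IsPSolvable p (G ⧸ Cfsg.pPrimeCore p G) := by
        have hnd : ¬ p ∣ ((S : Subgroup G).map f).index := fun hdd =>
          S.not_dvd_index (hdd.trans (Subgroup.index_map_dvd _ hsur))
        obtain ⟨j, hj⟩ := (S.2.map f).exists_card_eq
        refine ⟨2, ![⊥, (S : Subgroup G).map f, ⊤], rfl, rfl, ?_, ?_, ?_⟩
        · refine Fin.monotone_iff_le_succ.mpr fun i => ?_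
          fin_cases i <;> simp
        · intro i; fin_cases i <;> first | exact hn | simp <;> infer_instance
        · intro i; fin_cases i
          · left; exact ⟨j, by simpa using hj⟩
          · right; simpa using ((Fact.out : p.Prime).coprime_iff_not_dvd.mpr hnd).symm
      exact H10.isPSolvable_of_quotient_of_card (Cfsg.pPrimeCore p G) (Or.inr H10.pPrimeCore_coprime) hq
    · intro Q hQ g hg
      obtain ⟨n, hn, d, hd, rfl⟩ := Subgroup.mem_sup_of_normal_right.mp (h.ge (Subgroup.mem_top g))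
      refine ⟨n, hn, d, Subgroup.mem_centralizer_iff.mpr fun q hq => ?_, rfl⟩
      have h1 : n * d * q * (n * d)⁻¹ ∈ (S : Subgroup G) := hg ⟨q, hq, by simp [mul_assoc]⟩
      have h2 := (Subgroup.mem_normalizer_iff.mp (inv_mem hn) _).mp h1
      have h3 : d * q * d⁻¹ * q⁻¹ ∈ (S : Subgroup G) ⊓ Cfsg.pPrimeCore p G := by
        refine ⟨?_, ?_⟩
        · have e : d * q * d⁻¹ * q⁻¹ = n⁻¹ * (n * d * q * (n * d)⁻¹) * n⁻¹⁻¹ * q⁻¹ := by group
          rw [e]; exact (S : Subgroup G).mul_mem h2 ((S : Subgroup G).inv_mem (hQ hq))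
        · have e : d * q * d⁻¹ * q⁻¹ = d * (q * d⁻¹ * q⁻¹) := by group
          rw [e]; exact mul_mem hd (hD.conj_mem _ (inv_mem hd) q)
      rw [H72.inf_pPrimeCore_eq_bot S.2, Subgroup.mem_bot, mul_inv_eq_one, mul_inv_eq_iff_eq_mul] at h3
      exact h3.symm
  · rintro ⟨hc, hfus⟩
    rw [← top_le_iff, ← H72.normalizer_sylCore_sup S]
    refine sup_le (fun g hg => ?_) le_sup_right
    obtain ⟨n, hn, c, hcc, rfl⟩ := hfus (H72.sylCore S) inf_le_left g (by
      rintro _ ⟨q, hq, rfl⟩
      exact ((Subgroup.mem_normalizer_iff.mp hg q).mp hq).1)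
    have hp : IsPGroup p ((H72.sylCore S).subgroupOf (Cfsg.pPrimePCore p G)) :=
      IsPGroup.of_equiv (S.2.to_le inf_le_left) (Subgroup.subgroupOfEquivOfLe inf_le_right).symm
    have h1 := hc (hp.toSylow (H72.sylCore_sylow S))
    erw [IsPGroup.toSylow_coe, Subgroup.subgroupOf_map_subtype,
      inf_of_le_left (show H72.sylCore S ≤ Cfsg.pPrimePCore p G from inf_le_right)] at h1
    refine mul_mem (Subgroup.mem_sup_left hn) ?_
    have h2 := H72.pPrimePCore_le_sup S (h1 hcc)
    exact (sup_le le_sup_right ((inf_le_left.trans Subgroup.le_normalizer).trans le_sup_left)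
      : Cfsg.pPrimeCore p G ⊔ H72.sylCore S ≤ _) h2

end Cfsg.Agent.S1948
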