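import Cfsg.Statements.S1949
import Cfsg.Agent.H89.CoprimeSmall
import Cfsg.Agent.H89.SmallCyclic
import Cfsg.Agent.H5.Frobenius

set_option autoImplicit false
open Cfsg
open scoped commutatorElement

namespace Cfsg.Agent.S1949

/-- Let P be a finite p-group and G a group of automorphisms of P containing the inner automorphisms. Then there is a G-invariant subgroup D of P, contained in the subgroup generated by the elements x⁻¹α(x) with x in P and α in O^p(G), of exponent dividing p when p is odd and dividing 4 when p = 2, with [D, P] ≤ Z(D), such that every automorphism in G of order prime to p that fixes D elementwise is the identity; moreover every maximal abelian subgroup A of D is normal in P and every automorphism in G fixing A elementwise has p-power order. -/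
theorem result {P : Type*} [Group P] [Finite P] {p : ℕ} [Fact p.Prime] (hP : IsPGroup p P)
    (G : Subgroup (MulAut P)) (hG : Cfsg.Inn P ≤ G) :
    ∃ D : Subgroup P,
      (∀ α ∈ G, D.map α.toMonoidHom = D) ∧
      D ≤ Subgroup.closure {y : P | ∃ α ∈ Cfsg.pResidual p ↥G, ∃ x : P, y = x⁻¹ * (α : MulAut P) x} ∧
      (∀ d ∈ D, d ^ p = 1 ∨ (p = 2 ∧ d ^ 4 = 1)) ∧
      ⁅D, (⊤ : Subgroup P)⁆ ≤ D ⊓ Subgroup.centralizer (D : Set P) ∧
      (∀ α ∈ G, (orderOf α).Coprime p → (∀ d ∈ D, α d = d) → α = 1) ∧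
      ∀ A : Subgroup P, A ≤ D → IsMulCommutative ↥A →
        (∀ B : Subgroup P, A ≤ B → B ≤ D → IsMulCommutative ↥B → B = A) →
        A.Normal ∧ ∀ α ∈ G, (∀ a ∈ A, α a = a) → ∃ k : ℕ, orderOf α = p ^ k := by
  classical
  have hp := (Fact.out : p.Prime)
  set R0 := Subgroup.closure {y : P | ∃ α ∈ Cfsg.pResidual p ↥G, ∃ x : P, y = x⁻¹ * (α : MulAut P) x} with hR0
  -- invariance under `G`
  let Inv : Subgroup P → Prop := fun H => ∀ α ∈ G, ∀ x ∈ H, α x ∈ H
  have hnorm : ∀ H : Subgroup P, Inv H → H.Normal := fun H hH => ⟨fun n hn g => by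
    simpa using hH (MulAut.conj g) (hG ⟨g, rfl⟩) n hn⟩
  have hcent : ∀ H : Subgroup P, Inv H → Inv (Subgroup.centralizer (H : Set P)) := by
    intro H hH α hα x hx
    rw [Subgroup.mem_centralizer_iff] at hx ⊢
    intro h hh
    have := congrArg α (hx _ (hH α⁻¹ (G.inv_mem hα) h hh))
    simpa using this
  have hinf : ∀ H K : Subgroup P, Inv H → Inv K → Inv (H ⊓ K) := fun H K hH hK α hα x hx =>
    ⟨hH α hα x hx.1, hK α hα x hx.2⟩
  haveI hres : (Cfsg.pResidual p ↥G).Normal := by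
    refine ⟨fun a ha g => ?_⟩
    have : (Cfsg.pResidual p ↥G).map (MulAut.conj g).toMonoidHom ≤ Cfsg.pResidual p ↥G := by
      rw [Cfsg.pResidual, MonoidHom.map_closure, Subgroup.closure_le]
      rintro _ ⟨x, hx, rfl⟩
      refine Subgroup.subset_closure ?_
      show Nat.Coprime (orderOf ((MulAut.conj g).toMonoidHom x)) p
      rw [orderOf_injective _ (MulAut.conj g).injective]
      exact hx
    exact this ⟨a, ha, rfl⟩
  have hR0inv : Inv R0 := by
    intro β hβ x hx
    have : R0.map β.toMonoidHom ≤ R0 := by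
      rw [hR0, MonoidHom.map_closure, Subgroup.closure_le]
      rintro _ ⟨_, ⟨α, hα, x, rfl⟩, rfl⟩
      refine Subgroup.subset_closure ⟨⟨β, hβ⟩ * α * ⟨β, hβ⟩⁻¹, hres.conj_mem α hα _, β x, ?_⟩
      show β (x⁻¹ * (α : MulAut P) x) = (β x)⁻¹ * (β * (α : MulAut P) * β⁻¹) (β x)
      simp [MulAut.mul_apply]
    exact this ⟨x, hx, rfl⟩
  -- the maximal invariant abelian subgroup of `R0`
  obtain ⟨H, -, hmax⟩ := Finite.exists_le_maximal (α := Subgroup P)
    (p := fun H => Inv H ∧ H ≤ R0 ∧ H ≤ Subgroup.centralizer (H : Set P)) (a := ⊥)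
    ⟨fun α _ x hx => by rw [Subgroup.mem_bot] at hx ⊢; rw [hx, map_one], bot_le, bot_le⟩
  obtain ⟨hH, hHR, hHab⟩ := hmax.prop
  haveI hHn : H.Normal := hnorm H hH
  let O : Subgroup (P ⧸ H) :=
    { carrier := {z | z ∈ Subgroup.center (P ⧸ H) ∧ z ^ p = 1}
      one_mem' := ⟨one_mem _, one_pow p⟩
      mul_mem' := fun {a b} ha hb => ⟨mul_mem ha.1 hb.1, by
        rw [(show Commute a b from Subgroup.mem_center_iff.1 hb.1 a).mul_pow, ha.2, hb.2, one_mul]⟩
      inv_mem' := fun {a} ha => ⟨inv_mem ha.1, by rw [inv_pow, ha.2, inv_one]⟩ }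
  set C := R0 ⊓ Subgroup.centralizer (H : Set P) with hCdef
  set K := C ⊓ O.comap (QuotientGroup.mk' H) with hKdef
  have memK : ∀ x : P, x ∈ K ↔ x ∈ C ∧ (∀ r : P, ⁅x, r⁆ ∈ H) ∧ x ^ p ∈ H := by
    intro x
    show (x ∈ C ∧ (QuotientGroup.mk' H x ∈ Subgroup.center (P ⧸ H) ∧ _)) ↔ _
    refine and_congr_right fun _ => and_congr ?_ ?_
    · rw [Subgroup.mem_center_iff]
      constructor
      · intro h r
        rw [← QuotientGroup.eq_one_iff, ← QuotientGroup.mk'_apply, map_commutatorElement,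
          commutatorElement_eq_one_iff_mul_comm]
        exact (h _).symm
      · intro h q
        obtain ⟨r, rfl⟩ := QuotientGroup.mk'_surjective H q
        have := (QuotientGroup.eq_one_iff _).2 (h r)
        rw [← QuotientGroup.mk'_apply, map_commutatorElement,
          commutatorElement_eq_one_iff_mul_comm] at this
        exact this.symm
    · rw [← map_pow, QuotientGroup.mk'_apply, QuotientGroup.eq_one_iff]
  have hHK : H ≤ K := fun x hx => (memK x).2 ⟨⟨hHR hx, hHab hx⟩, fun r => by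
    rw [commutatorElement_def, show x * r * x⁻¹ * r⁻¹ = x * (r * x⁻¹ * r⁻¹) by group]
    exact H.mul_mem hx (hHn.conj_mem _ (H.inv_mem hx) r), H.pow_mem hx p⟩
  have hKinv : Inv K := by
    intro α hα x hx
    obtain ⟨hxC, hxr, hxp⟩ := (memK x).1 hx
    refine (memK _).2 ⟨hinf _ _ hR0inv (hcent H hH) α hα x hxC, fun r => ?_, ?_⟩
    · have := hH α hα _ (hxr (α⁻¹ r))
      simpa [map_commutatorElement] using this
    · rw [← map_pow]; exact hH α hα _ hxp
  have hKR : K ≤ R0 := fun x hx => hx.1.1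
  have hHcK : H ≤ Subgroup.centralizer (K : Set P) :=
    Subgroup.le_centralizer_iff.1 (fun x hx => hx.1.2)
  have hZ : K ⊓ Subgroup.centralizer (K : Set P) = H := by
    have hab : K ⊓ Subgroup.centralizer (K : Set P) ≤ Subgroup.centralizer
        ((K ⊓ Subgroup.centralizer (K : Set P) : Subgroup P) : Set P) :=
      inf_le_right.trans (Subgroup.centralizer_le (SetLike.coe_subset_coe.2 inf_le_left))
    exact le_antisymm (hmax.le_of_ge ⟨hinf _ _ hKinv (hcent K hKinv), inf_le_left.trans hKR, hab⟩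
      (le_inf hHK hHcK)) (le_inf hHK hHcK)
  have hKC : R0 ⊓ Subgroup.centralizer (K : Set P) ≤ K := by
    by_contra hnot
    haveI hQn := hnorm _ (hinf _ _ hR0inv (hcent K hKinv))
    set Qb := (R0 ⊓ Subgroup.centralizer (K : Set P)).map (QuotientGroup.mk' H) with hQb
    haveI hQbn : Qb.Normal := hQn.map _ (QuotientGroup.mk'_surjective H)
    have hne : Qb ≠ ⊥ := by
      rw [hQb, Ne, Subgroup.map_eq_bot_iff, QuotientGroup.ker_mk']
      exact fun h => hnot (h.trans hHK)
    have hne2 := H80.pgroup_normal_inf_center_ne_bot (hP.to_quotient H) Qb hne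
    haveI : Nontrivial ↥(Qb ⊓ Subgroup.center (P ⧸ H) : Subgroup (P ⧸ H)) :=
      (Subgroup.nontrivial_iff_ne_bot _).2 hne2
    obtain ⟨n, hn, hcard⟩ := ((hP.to_quotient H).to_subgroup
      (Qb ⊓ Subgroup.center (P ⧸ H))).nontrivial_iff_card.1 inferInstance
    obtain ⟨z, hz⟩ := exists_prime_orderOf_dvd_card' p (hcard ▸ dvd_pow_self p hn.ne')
    obtain ⟨x, hx, hxz⟩ := z.2.1
    have hzp : (z : P ⧸ H) ^ p = 1 := by
      rw [← Subgroup.coe_pow, ← hz, pow_orderOf_eq_one]; rfl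
    have hxC : x ∈ C := ⟨hx.1, Subgroup.centralizer_le (SetLike.coe_subset_coe.2 hHK) hx.2⟩
    have hxO : QuotientGroup.mk' H x ∈ O := hxz.symm ▸ (⟨z.2.2, hzp⟩ : (z : P ⧸ H) ∈ O)
    have hxK : x ∈ K := ⟨hxC, hxO⟩
    have h1 : (z : P ⧸ H) = 1 := by
      rw [← hxz]; exact (QuotientGroup.eq_one_iff x).2 (hZ ▸ ⟨hxK, hx.2⟩)
    rw [OneMemClass.coe_eq_one] at h1
    rw [h1, orderOf_one] at hz
    exact hp.one_lt.ne hz
  have hcl : ∀ x ∈ K, ∀ r : P, ⁅x, r⁆ ∈ K ⊓ Subgroup.centralizer (K : Set P) :=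
    fun x hx r => hZ ▸ ((memK x).1 hx).2.1 r
  have hcomm : ∀ u ∈ K, ∀ v ∈ K, ∀ w ∈ K, Commute ⁅u, v⁆ w := fun u hu v _ w hw =>
    (Subgroup.mem_centralizer_iff.1 (hcl u hu v).2 w hw).symm
  have hcp : ∀ u ∈ K, ∀ v ∈ K, ⁅u, v⁆ ^ p = 1 := by
    intro u hu v hv
    rw [← H6.commutator_pow_left (hcomm u hu v hv u hu).symm,
      commutatorElement_eq_one_iff_commute]
    exact (Subgroup.mem_centralizer_iff.1 (hHcK ((memK u).1 hu).2.2) v hv).symm
  have hmul : ∀ x ∈ K, ∀ y ∈ K, H89.IsSmall p x → H89.IsSmall p y → H89.IsSmall p (x * y) := by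
    intro x hx y hy hxs hys
    have hd := hcp y hy x hx
    have hm := H6.mul_pow_of_commute_commutator (x := x) (y := y)
      (hcomm y hy x hx x hx) (hcomm y hy x hx y hy)
    by_cases hp2 : p = 2
    · subst hp2
      have h4 : ∀ z : P, H89.IsSmall 2 z → z ^ 4 = 1 := by
        rintro z (h | ⟨-, h⟩)
        · rw [show (4 : ℕ) = 2 * 2 from rfl, pow_mul, h, one_pow]
        · exact h
      refine Or.inr ⟨rfl, ?_⟩
      rw [hm, h4 x hxs, h4 y hys, show (4 : ℕ).choose 2 = 2 * 3 from rfl, pow_mul, hd, one_pow,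
        one_mul, one_mul]
    · left
      have h1 : x ^ p = 1 := hxs.resolve_right fun h => hp2 h.1
      have h2 : y ^ p = 1 := hys.resolve_right fun h => hp2 h.1
      obtain ⟨k, hk⟩ := hp.dvd_choose_self (k := 2) (by norm_num)
        (lt_of_le_of_ne hp.two_le (Ne.symm hp2))
      rw [hm, h1, h2, hk, pow_mul, hd, one_pow, one_mul, one_mul]
  let D : Subgroup P :=
    { carrier := {x | x ∈ K ∧ H89.IsSmall p x}
      one_mem' := ⟨one_mem _, Or.inl (one_pow p)⟩
      mul_mem' := fun {a b} ha hb => ⟨mul_mem ha.1 hb.1, hmul a ha.1 b hb.1 ha.2 hb.2⟩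
      inv_mem' := fun {a} ha => ⟨inv_mem ha.1, by
        rcases ha.2 with h | ⟨h2, h⟩
        · left; rw [inv_pow, h, inv_one]
        · right; exact ⟨h2, by rw [inv_pow, h, inv_one]⟩⟩ }
  have hDinv : Inv D := fun α hα x hx => ⟨hKinv α hα x hx.1, hx.2.map α.toMonoidHom⟩
  haveI hDn : D.Normal := hnorm D hDinv
  have hDcl : ∀ x ∈ D, ∀ r : P, ⁅x, r⁆ ∈ D ⊓ Subgroup.centralizer (D : Set P) := by
    intro x hx r
    refine ⟨?_, Subgroup.centralizer_le (fun y (hy : y ∈ (D : Set P)) => hy.1) (hcl x hx.1 r).2⟩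
    rw [commutatorElement_def, show x * r * x⁻¹ * r⁻¹ = x * (r * x⁻¹ * r⁻¹) by group]
    exact D.mul_mem hx (hDn.conj_mem _ (D.inv_mem hx) r)
  -- detection
  have hdet : ∀ α ∈ G, (orderOf α).Coprime p → (∀ d ∈ D, α d = d) → α = 1 := by
    intro α hα hord hfix
    have hK : ∀ x ∈ K, α x = x := by
      have h1 := H89.eq_one_of_fixes_small (hP.to_subgroup K) (H89.restrictAut α K (hKinv α hα))
        (hord.coprime_dvd_left (H89.orderOf_restrictAut_dvd α K (hKinv α hα)))
        (fun x hx => Subtype.ext (hfix (x : P) ⟨x.2, hx.map K.subtype⟩))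
      intro x hx
      rw [← H89.restrictAut_apply α K (hKinv α hα) ⟨x, hx⟩, h1]
      rfl
    haveI : K.Normal := hnorm K hKinv
    have hR : ∀ x ∈ R0, α x = x := fun x hx =>
      H6.apply_eq_self_of_displacement_fixed hP α hord (hK _ (hKC
        ⟨R0.mul_mem (R0.inv_mem hx) (hR0inv α hα x hx), H6.displacement_mem_centralizer α hK x⟩))
    ext x
    exact H6.apply_eq_self_of_displacement_fixed hP α hord (hR _ (Subgroup.subset_closure
      ⟨⟨α, hα⟩, Subgroup.subset_closure (show Nat.Coprime (orderOf (⟨α, hα⟩ : G)) p by rw [Subgroup.orderOf_mk]; exact hord), x, rfl⟩))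
  refine ⟨D, fun α hα => ?_, fun x hx => hKR hx.1, fun d hd => hd.2, ?_, hdet, ?_⟩
  · exact Subgroup.eq_of_le_of_card_ge (by rintro _ ⟨x, hx, rfl⟩; exact hDinv α hα x hx)
      (Subgroup.card_map_of_injective α.injective).ge
  · rw [Subgroup.commutator_le]
    exact fun x hx r _ => hDcl x hx r
  intro A hA hAab hAmax
  have habs : ∀ c ∈ D, (∀ a ∈ A, c * a = a * c) → c ∈ A := by
    intro c hc hca
    have hcomm2 : IsMulCommutative ↥(A ⊔ Subgroup.zpowers c) := by
      have hle : A ⊔ Subgroup.zpowers c ≤ Subgroup.centralizer ((A ⊔ Subgroup.zpowers c : Subgroup P) : Set P) := by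
        have h1 : ∀ a ∈ A, a ∈ Subgroup.centralizer (A : Set P) := fun a ha =>
          Subgroup.mem_centralizer_iff.mpr fun b hb =>
            congrArg Subtype.val (hAab.is_comm.comm ⟨b, hb⟩ ⟨a, ha⟩)
        refine sup_le ?_ ?_ <;> rw [Subgroup.le_centralizer_iff] <;> refine sup_le ?_ ?_
        · exact h1
        · exact Subgroup.zpowers_le.mpr (Subgroup.mem_centralizer_iff.mpr fun a ha => (hca a ha).symm)
        · intro a ha
          exact Subgroup.mem_centralizer_iff.mpr fun b hb => by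
            obtain ⟨i, rfl⟩ := hb
            exact ((show Commute c a from hca a ha).zpow_left i).eq
        · exact Subgroup.zpowers_le.mpr (Subgroup.mem_centralizer_iff.mpr fun b hb => by
            obtain ⟨i, rfl⟩ := hb
            exact ((Commute.refl c).zpow_left i).eq)
      exact ⟨⟨fun a b => Subtype.ext (Subgroup.mem_centralizer_iff.mp (hle b.2) a a.2)⟩⟩
    exact (hAmax _ le_sup_left (sup_le hA (Subgroup.zpowers_le.mpr hc)) hcomm2).le
      (Subgroup.mem_sup_right (Subgroup.mem_zpowers c))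
  haveI hAn : A.Normal := ⟨fun a ha g => by
    have h1 := hDcl a (hA ha) g
    have h2 : ⁅a, g⁆ ∈ A := habs _ h1.1 fun b hb =>
      (Subgroup.mem_centralizer_iff.mp h1.2 b (hA hb)).symm
    rw [show g * a * g⁻¹ = (⁅a, g⁆)⁻¹ * a by rw [commutatorElement_def]; group]
    exact A.mul_mem (A.inv_mem h2) ha⟩
  refine ⟨hAn, fun α hα hfix => ?_⟩
  obtain ⟨u, v, huv, ⟨k, hk⟩, hv, -, hvα⟩ := H5.exists_p_decomposition (p := p) α
  have hvG : v ∈ G := (Subgroup.zpowers_le.mpr hα) hvα
  have hvfix : ∀ a ∈ A, v a = a := by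
    intro a ha
    have : Subgroup.zpowers α ≤ MulAction.stabilizer (MulAut P) a := Subgroup.zpowers_le.mpr (hfix a ha)
    exact this hvα
  have hv1 : v = 1 := hdet v hvG hv fun d hd =>
    H6.apply_eq_self_of_displacement_fixed hP v hv (hvfix _ (habs _ (D.mul_mem (D.inv_mem hd) (hDinv v hvG d hd))
      fun a ha => (Subgroup.mem_centralizer_iff.mp (H6.displacement_mem_centralizer v hvfix d) a ha).symm))
  rw [hv1, mul_one] at huv
  obtain ⟨j, -, hj⟩ := (Nat.dvd_prime_pow hp).mp (orderOf_dvd_of_pow_eq_one (huv ▸ hk))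
  exact ⟨j, hj⟩

end Cfsg.Agent.S1949
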