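import Cfsg.Statements.S1952
import Cfsg.Agent.H72.Circulant

set_option autoImplicit false
open Cfsg

namespace Cfsg.Agent.S1952

/-- Let P be a finite p-group with a normal elementary abelian subgroup A of index p, and let x ∈ A and y ∈ P with y outside A. If the product of the p conjugates y^(-i) x y^i (i = 0, …, p−1) is not the identity, then the wreath product Z_p ≀ Z_p, realised as a Sylow p-subgroup of the symmetric group of degree p², is a homomorphic image of P. -/
theorem result {P : Type*} [Group P] [Finite P] {p : ℕ} [Fact p.Prime] (hP : IsPGroup p P) (A : Subgroup P) [A.Normal]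
    (hA : Cfsg.IsElementaryAbelian p A) (hidx : A.index = p) (x y : P) (hx : x ∈ A) (hy : y ∉ A)
    (hprod : ((List.range p).map (fun i => (y ^ i)⁻¹ * x * y ^ i)).prod ≠ 1) :
    ∃ (Q : Sylow p (Equiv.Perm (Fin (p ^ 2)))) (f : P →* ↥(Q : Subgroup (Equiv.Perm (Fin (p ^ 2))))), Function.Surjective f := by
  classical
  let iA : CommGroup A :=
    { (inferInstance : Group A) with
      mul_comm := fun a b => hA.1.is_comm.comm a b }
  have comm : ∀ a ∈ A, ∀ b ∈ A, a * b = b * a := fun a ha b hb =>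
    congrArg Subtype.val (hA.1.is_comm.comm (⟨a, ha⟩ : A) ⟨b, hb⟩)
  let σ : MulAut A := MulAut.conjNormal y⁻¹
  have hσ : ∀ (j : ℕ) (a : A), (((σ ^ j) a : A) : P) = (y ^ j)⁻¹ * a * y ^ j := by
    intro j a
    rw [show σ ^ j = MulAut.conjNormal ((y⁻¹) ^ j) from (map_pow _ _ _).symm, MulAut.conjNormal_apply]
    simp [inv_pow]
  have hyp : y ^ p ∈ A := by
    have h := Subgroup.pow_index_mem A y
    rwa [hidx] at h
  have hσp : σ ^ p = 1 := by
    refine MulEquiv.ext fun a => Subtype.ext ?_
    rw [hσ, mul_assoc, comm _ a.2 _ hyp, inv_mul_cancel_left]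
    rfl
  have hnorm : ∀ n, ((∏ i ∈ Finset.range n, (σ ^ i) ⟨x, hx⟩ : A) : P)
      = ((List.range n).map (fun i => (y ^ i)⁻¹ * x * y ^ i)).prod := by
    intro n
    induction n with
    | zero => simp
    | succ n ih =>
      rw [Finset.prod_range_succ, Subgroup.coe_mul, ih, hσ, List.range_succ, List.map_append, List.prod_append]
      simp
  set nn : A := ∏ i ∈ Finset.range p, (σ ^ i) ⟨x, hx⟩ with hnn
  have hNx : (nn : P) ≠ 1 := by rw [hnn, hnorm]; exact hprod
  have : Nonempty {B : Subgroup P // B ≤ A ∧ (nn : P) ∉ B} := ⟨⟨⊥, bot_le, by simpa using hNx⟩⟩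
  obtain ⟨⟨B, hBA, hnB⟩, hmax⟩ := Finite.exists_max (fun B : {B : Subgroup P // B ≤ A ∧ (nn : P) ∉ B} =>
    Nat.card B.1)
  have hcent : ∀ a ∈ A, Subgroup.zpowers a ≤ Subgroup.normalizer (B : Set P) := fun a ha => by
    rw [Subgroup.zpowers_le]
    refine Subgroup.centralizer_le_normalizer _ ?_
    exact Subgroup.mem_centralizer_iff.mpr fun b hb => comm b (hBA hb) a ha
  have hBidx : B.relIndex A = p := by
    have hle : ∀ a ∈ A, ∃ b ∈ B, ∃ i : ℕ, i < p ∧ a = b * (nn : P) ^ i := by
      intro a ha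
      by_cases haB : a ∈ B
      · exact ⟨a, haB, 0, (Fact.out : p.Prime).pos, by simp⟩
      have hlt : B < B ⊔ Subgroup.zpowers a :=
        lt_of_le_of_ne le_sup_left fun h => haB (h ▸ Subgroup.mem_sup_right (Subgroup.mem_zpowers a))
      have hnmem : (nn : P) ∈ B ⊔ Subgroup.zpowers a := by
        by_contra hn'
        have h1 := hmax ⟨_, sup_le hBA (Subgroup.zpowers_le.mpr ha), hn'⟩
        exact hlt.ne (Subgroup.eq_of_le_of_card_ge hlt.le h1)
      rw [← SetLike.mem_coe, Subgroup.coe_mul_of_right_le_normalizer_left B (Subgroup.zpowers a) (hcent a ha)] at hnmem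
      obtain ⟨b, hb, _, ⟨i, rfl⟩, he⟩ := hnmem
      have he' : b * a ^ i = (nn : P) := he
      have hi : ¬ (p : ℤ) ∣ i := by
        rintro ⟨k, rfl⟩
        rw [zpow_mul, zpow_natCast, hA.2 a ha, one_zpow, mul_one] at he'
        exact hnB (he' ▸ hb)
      obtain ⟨u, v, huv⟩ :=
        ((Nat.prime_iff_prime_int.mp (Fact.out : p.Prime)).coprime_iff_not_dvd.mpr hi).symm
      have hau : a = (b⁻¹ * (nn : P)) ^ u := by
        rw [← he', inv_mul_cancel_left, ← zpow_mul, mul_comm i u]
        conv_lhs => rw [← zpow_one a, ← huv, zpow_add, mul_comm v, zpow_mul a p v, zpow_natCast, hA.2 a ha,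
          one_zpow, mul_one]
      have hcm : Commute b⁻¹ (nn : P) := comm _ (A.inv_mem (hBA hb)) _ nn.2
      refine ⟨b⁻¹ ^ u, B.zpow_mem (B.inv_mem hb) u, (u % p).toNat, ?_, ?_⟩
      · have h1 := Int.emod_lt_of_pos u (show (0 : ℤ) < p by exact_mod_cast (Fact.out : p.Prime).pos)
        have h1' := Int.emod_nonneg u (show (p : ℤ) ≠ 0 by exact_mod_cast (Fact.out : p.Prime).ne_zero)
        omega
      · rw [hau, hcm.mul_zpow]
        congr 1
        have h2 : (nn : P) ^ (p : ℤ) = 1 := by rw [zpow_natCast]; exact hA.2 _ nn.2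
        have h3 : ((u % p).toNat : ℤ) = u % p :=
          Int.toNat_of_nonneg (Int.emod_nonneg u (by exact_mod_cast (Fact.out : p.Prime).ne_zero))
        rw [← zpow_natCast, h3]
        conv_lhs => rw [← Int.emod_add_mul_ediv u p, zpow_add, zpow_mul, h2, one_zpow, mul_one]
    have hub : B.relIndex A ≤ p := by
      rw [Subgroup.relIndex, Subgroup.index_eq_card]
      calc Nat.card (A ⧸ B.subgroupOf A) ≤ Nat.card (Fin p) := by
            refine Nat.card_le_card_of_surjective (fun i : Fin p => QuotientGroup.mk (nn ^ (i : ℕ))) ?_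
            intro q
            induction q using QuotientGroup.induction_on with
            | _ a =>
              obtain ⟨b, hb, i, hi, hab⟩ := hle a a.2
              refine ⟨⟨i, hi⟩, QuotientGroup.eq.mpr ?_⟩
              rw [Subgroup.mem_subgroupOf, Subgroup.coe_mul, InvMemClass.coe_inv, SubmonoidClass.coe_pow,
                hab, comm _ (hBA hb) _ (A.pow_mem nn.2 i), inv_mul_cancel_left]
              exact hb
        _ = p := Nat.card_fin p
    have hdvd : B.relIndex A ∣ Nat.card A := Subgroup.index_dvd_card _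
    obtain ⟨m, hm⟩ := (hP.to_subgroup A).exists_card_eq
    rw [hm] at hdvd
    obtain ⟨k, -, hk⟩ := (Nat.dvd_prime_pow Fact.out).mp hdvd
    have hne : B.relIndex A ≠ 1 := fun h => hnB (Subgroup.relIndex_eq_one.mp h nn.2)
    rcases k with _ | _ | k
    · exact absurd (by simpa using hk) hne
    · simpa using hk
    · exfalso
      rw [hk, show k + 1 + 1 = k + 2 from rfl, pow_add] at hub
      nlinarith [(Fact.out : p.Prime).two_le, Nat.one_le_pow k p (Fact.out : p.Prime).pos]
  set ρ : P →* Equiv.Perm (P ⧸ B) := MulAction.toPermHom P (P ⧸ B) with hρ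
  have hker : ρ.ker = B.normalCore := (Subgroup.normalCore_eq_ker B).symm
  have hcardA : p ^ p ≤ (B.normalCore.subgroupOf A).index := by
    refine H72.pow_le_index_of_norm_notMem (fun a => Subtype.ext (by simpa using hA.2 a a.2)) σ hσp _ ?_
      ⟨x, hx⟩ (fun h => hnB (Subgroup.normalCore_le B h))
    intro v hv
    show ((MulAut.conjNormal y⁻¹ v : A) : P) ∈ B.normalCore
    rw [MulAut.conjNormal_apply]
    exact B.normalCore_normal.conj_mem _ hv _
  have hrange : p ^ (p + 1) ≤ Nat.card ρ.range := by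
    rw [← Subgroup.index_ker, hker, ← Subgroup.relIndex_mul_index (B.normalCore_le.trans hBA), hidx,
      Subgroup.relIndex, pow_succ]
    exact Nat.mul_le_mul_right _ hcardA
  have hcardΩ : Nat.card (P ⧸ B) = p ^ 2 := by
    rw [← Subgroup.index_eq_card, ← Subgroup.relIndex_mul_index hBA, hBidx, hidx, pow_two]
  let e : (P ⧸ B) ≃ Fin (p ^ 2) := (Finite.equivFinOfCardEq hcardΩ)
  let f₀ : P →* Equiv.Perm (Fin (p ^ 2)) := (e.permCongrHom.toMonoidHom).comp ρ
  have hf₀ : p ^ (p + 1) ≤ Nat.card f₀.range := by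
    rw [show f₀.range = ρ.range.map e.permCongrHom.toMonoidHom from MonoidHom.range_comp _ _,
      Subgroup.card_map_of_injective (f := e.permCongrHom.toMonoidHom) e.permCongrHom.injective]
    exact hrange
  have hpR : IsPGroup p f₀.range := hP.of_surjective f₀.rangeRestrict f₀.rangeRestrict_surjective
  obtain ⟨Q, hQ⟩ := hpR.exists_le_sylow
  refine ⟨Q, f₀.codRestrict _ (fun z => hQ ⟨z, rfl⟩), ?_⟩
  have hQc : Nat.card (Q : Subgroup (Equiv.Perm (Fin (p ^ 2)))) = p ^ (p + 1) := by
    rw [Q.card_eq_multiplicity, Nat.card_eq_fintype_card, Fintype.card_perm, Fintype.card_fin,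
      Nat.factorization_def _ (Fact.out : p.Prime)]
    congr 1
    rw [pow_two, padicValNat_factorial_mul]
    have h1 : padicValNat p (p * 1).factorial = padicValNat p (1).factorial + 1 := padicValNat_factorial_mul 1
    rw [mul_one, Nat.factorial_one, padicValNat.one, zero_add] at h1
    omega
  have heq : f₀.range = (Q : Subgroup (Equiv.Perm (Fin (p ^ 2)))) :=
    Subgroup.eq_of_le_of_card_ge hQ (hQc ▸ hf₀)
  rintro ⟨q, hq⟩
  obtain ⟨z, hz⟩ := heq.ge hq
  exact ⟨z, Subtype.ext hz⟩

end Cfsg.Agent.S1952
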