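import Cfsg.Statements.S1954
import Cfsg.Agent.H72.NormalFusion

set_option autoImplicit false
open Cfsg

namespace Cfsg.Agent.S1954

/-- Let N be a normal subgroup of the finite group G, P a Sylow p-subgroup of G, and V a subgroup of P ∩ N normal in P ∩ N such that N_N(V) controls strong fusion in P ∩ N with respect to N (whenever a subgroup A of P ∩ N has n A n⁻¹ ≤ P ∩ N for some n in N, then n = h c with h in N_N(V) and c in C_N(A)). Let W be the subgroup generated by the conjugates of V under N_G(P ∩ N). Then N_G(W) controls strong fusion in P with respect to G. -/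
theorem result {G : Type*} [Group G] [Finite G] {p : ℕ} [Fact p.Prime] (N : Subgroup G) [N.Normal] (P : Sylow p G) (V : Subgroup G)
    (hV : V ≤ (P : Subgroup G) ⊓ N) (hVn : ∀ x ∈ (P : Subgroup G) ⊓ N, V.map (MulAut.conj x).toMonoidHom = V)
    (hctrl : ∀ A : Subgroup G, A ≤ (P : Subgroup G) ⊓ N → ∀ n ∈ N, A.map (MulAut.conj n).toMonoidHom ≤ (P : Subgroup G) ⊓ N →
      ∃ h ∈ N ⊓ Subgroup.normalizer (V : Set G), ∃ c ∈ N ⊓ Subgroup.centralizer (A : Set G), n = h * c)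
    (W : Subgroup G) (hW : W = Subgroup.closure (⋃ x ∈ Subgroup.normalizer (((P : Subgroup G) ⊓ N : Subgroup G) : Set G),
      ((V.map (MulAut.conj x).toMonoidHom : Subgroup G) : Set G))) :
    ∀ A : Subgroup G, A ≤ (P : Subgroup G) → ∀ g : G, A.map (MulAut.conj g).toMonoidHom ≤ (P : Subgroup G) →
        ∃ h ∈ Subgroup.normalizer (W : Set G), ∃ c ∈ Subgroup.centralizer (A : Set G), g = h * c := by
  classical
  intro A hA g hg
  set T := (P : Subgroup G) ⊓ N with hTdef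
  set X := Subgroup.normalizer (T : Set G) with hX
  haveI : Fintype X := Fintype.ofFinite X
  set Vx : X → Subgroup G := fun x => V.map (MulAut.conj (x : G)).toMonoidHom with hVx
  have hconj : ∀ (x : X) (t : G), t ∈ T → (x : G) * t * (x : G)⁻¹ ∈ T := fun x t ht =>
    (Subgroup.mem_normalizer_iff.mp x.2 t).mp ht
  have hconj' : ∀ (x : X) (t : G), t ∈ T → (x : G)⁻¹ * t * (x : G) ∈ T := fun x t ht => by
    simpa using hconj x⁻¹ t ht
  have hVxT : ∀ x, Vx x ≤ T := by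
    rintro x _ ⟨v, hv, rfl⟩
    exact hconj x v (hV hv)
  have hone : ∀ x : X, ∀ B : Subgroup G, B ≤ T → ∀ n ∈ N, (∀ b ∈ B, n * b * n⁻¹ ∈ T) →
      ∃ h ∈ N, h ∈ Subgroup.normalizer (Vx x : Set G) ∧ ∀ b ∈ B, n * b * n⁻¹ = h * b * h⁻¹ := by
    intro x B hB n hn hnB
    obtain ⟨h, ⟨hhN, hhV⟩, c, ⟨hcN, hcC⟩, hnc⟩ := hctrl (B.map (MulAut.conj (x : G)⁻¹).toMonoidHom)
      (by rintro _ ⟨b, hb, rfl⟩; simpa [MulAut.conj_apply] using hconj' x b (hB hb))
      ((x : G)⁻¹ * n * x) (by simpa using ‹N.Normal›.conj_mem n hn (x : G)⁻¹)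
      (by
        rintro _ ⟨_, ⟨b, hb, rfl⟩, rfl⟩
        show ((x : G)⁻¹ * n * x) * ((x : G)⁻¹ * b * (x : G)⁻¹⁻¹) * ((x : G)⁻¹ * n * x)⁻¹ ∈ T
        rw [show ((x : G)⁻¹ * n * x) * ((x : G)⁻¹ * b * (x : G)⁻¹⁻¹) * ((x : G)⁻¹ * n * x)⁻¹ =
          (x : G)⁻¹ * (n * b * n⁻¹) * x by group]
        exact hconj' x _ (hnB b hb))
    refine ⟨x * h * (x : G)⁻¹, ‹N.Normal›.conj_mem h hhN x,
      Subgroup.le_normalizer_map _ ⟨h, hhV, rfl⟩, fun b hb => ?_⟩
    have h2 : (x : G)⁻¹ * b * x * c = c * ((x : G)⁻¹ * b * x) :=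
      Subgroup.mem_centralizer_iff.mp hcC _ ⟨b, hb, by simp⟩
    calc n * b * n⁻¹ = (x : G) * (((x : G)⁻¹ * n * x) * ((x : G)⁻¹ * b * x) * ((x : G)⁻¹ * n * x)⁻¹) * (x : G)⁻¹ := by group
      _ = (x : G) * (h * (c * ((x : G)⁻¹ * b * x)) * c⁻¹ * h⁻¹) * (x : G)⁻¹ := by rw [hnc]; group
      _ = (x : G) * h * (x : G)⁻¹ * b * ((x : G) * h * (x : G)⁻¹)⁻¹ := by rw [← h2]; group
  have hWeq : W = ⨆ x : X, Vx x := by
    rw [hW]
    refine le_antisymm ((Subgroup.closure_le _).mpr ?_) (iSup_le fun x v hv => ?_)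
    · exact Set.iUnion₂_subset fun x hx v hv => le_iSup Vx ⟨x, hx⟩ hv
    · exact Subgroup.subset_closure (Set.mem_iUnion₂.mpr ⟨x, x.2, hv⟩)
  have hfixW : ∀ h : G, (∀ x, h ∈ Subgroup.normalizer (Vx x : Set G)) → h ∈ Subgroup.normalizer (W : Set G) := by
    intro h hh
    refine Subgroup.mem_normalizer_iff_map_conj_eq.mpr ?_
    rw [hWeq, Subgroup.map_iSup]
    exact iSup_congr fun x => Subgroup.mem_normalizer_iff_map_conj_eq.mp (hh x)
  have hWN : X ≤ Subgroup.normalizer (W : Set G) := by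
    intro y hy
    refine Subgroup.mem_normalizer_iff_map_conj_eq.mpr (Subgroup.eq_of_le_of_card_ge ?_
      (Subgroup.card_map_of_injective (MulAut.conj y).injective).ge)
    rw [hWeq, Subgroup.map_iSup]
    refine iSup_le fun x => le_trans ?_ (le_iSup Vx (⟨y, hy⟩ * x))
    rintro _ ⟨_, ⟨v, hv, rfl⟩, rfl⟩
    exact ⟨v, hv, by simp [mul_assoc]⟩
  have hctrlW : ∀ B : Subgroup G, B ≤ T → ∀ n ∈ N, (∀ b ∈ B, n * b * n⁻¹ ∈ T) →
      ∃ h ∈ N, h ∈ Subgroup.normalizer (W : Set G) ∧ ∀ b ∈ B, n * b * n⁻¹ = h * b * h⁻¹ := by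
    intro B hB n hn hnB
    obtain ⟨h, hhN, hh, hh'⟩ := H72.exists_normalizing_all Vx hVxT hone Finset.univ B hB n hn hnB
    exact ⟨h, hhN, hfixW h fun x => hh x (Finset.mem_univ x), hh'⟩
  obtain ⟨h, hh, hh'⟩ := H72.normalFusion_induced P N W hWN hctrlW A hA g fun a ha => hg ⟨a, ha, rfl⟩
  refine ⟨h, hh, h⁻¹ * g, Subgroup.mem_centralizer_iff.mpr fun a ha => ?_, by group⟩
  calc a * (h⁻¹ * g) = h⁻¹ * (h * a * h⁻¹) * g := by group
    _ = h⁻¹ * (g * a * g⁻¹) * g := by rw [hh' a ha]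
    _ = h⁻¹ * g * a := by group

end Cfsg.Agent.S1954
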