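import Cfsg.Statements.S1957
import Cfsg.Agent.H72.FourInCore
import Cfsg.Agent.S0058
import Cfsg.Agent.H4.CPiExtension
import Cfsg.Agent.H6.Basic

set_option autoImplicit false
open Cfsg

namespace Cfsg.Agent.S1957

/-- Let `G` be a finite non-abelian simple group in which every local subgroup is solvable and which is of characteristic 2 type. Let `P` be a Sylow 2-subgroup of `G` and `U` a normal subgroup of `P` that is a four-group, with `U` central in `P` if the centre of `P` is not cyclic. Then `U` centralizes every subgroup of odd order of `G` that it normalizes. -/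
theorem result {G : Type*} [Group G] [Finite G]
    [IsSimpleGroup G] (hna : ¬ IsMulCommutative G) (hN : Cfsg.IsNGroup G) (h2 : Cfsg.IsCharacteristicTwoType G)
    (P : Sylow 2 G) (U : Subgroup G) (hUP : U ≤ (P : Subgroup G)) (hUn : (P : Subgroup G) ≤ Subgroup.normalizer (U : Set G))
    (hU4 : IsKleinFour ↥U)
    (hUZ : ¬ IsCyclic ↥((P : Subgroup G) ⊓ Subgroup.centralizer ((P : Subgroup G) : Set G)) →
      U ≤ Subgroup.centralizer ((P : Subgroup G) : Set G))
    (K : Subgroup G) (hK : Odd (Nat.card K)) (hUK : U ≤ Subgroup.normalizer (K : Set G)) :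
    U ≤ Subgroup.centralizer (K : Set G) := by
  classical
  haveI : Fact (Nat.Prime 2) := ⟨Nat.prime_two⟩
  haveI := hU4
  have hsq : ∀ v ∈ U, v * v = 1 := fun v hv => congrArg Subtype.val (IsKleinFour.mul_self (⟨v, hv⟩ : U))
  have hcomm : ∀ v ∈ U, ∀ w ∈ U, v * w = w * v := fun v hv w hw => by
    have h1 : (v * w)⁻¹ = v * w := inv_eq_of_mul_eq_one_right (hsq _ (U.mul_mem hv hw))
    rw [mul_inv_rev, inv_eq_of_mul_eq_one_right (hsq v hv), inv_eq_of_mul_eq_one_right (hsq w hw)] at h1
    exact h1.symm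
  -- every involution of `U` is centralized by a Sylow subgroup normalizing `U`
  have hsyl : ∀ u ∈ U, u ≠ 1 → U ≤ H72.invCore u := by
    intro u hu hu1
    by_cases hPu : ∀ x ∈ (P : Subgroup G), x * u = u * x
    · exact H72.four_le_invCore h2 U hU4 hu hu1 P hPu hUn
    have hcyc : IsCyclic ↥((P : Subgroup G) ⊓ Subgroup.centralizer ((P : Subgroup G) : Set G)) := by
      by_contra hc
      exact hPu fun x hx => Subgroup.mem_centralizer_iff.mp (hUZ hc hu) x hx
    set Z := (P : Subgroup G) ⊓ Subgroup.centralizer ((P : Subgroup G) : Set G) with hZ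
    set C := Subgroup.centralizer ({u} : Set G) with hC
    set P0 := (P : Subgroup G) ⊓ C with hP0
    -- an element of `P` moves `u`; `U` meets `Z`
    push Not at hPu
    obtain ⟨x₀, hx₀P, hx₀⟩ := hPu
    set z := x₀ * u * x₀⁻¹ * u with hz
    have hzU : z ∈ U := U.mul_mem ((Subgroup.mem_normalizer_iff.mp (hUn hx₀P) u).mp hu) hu
    have hz1 : z ≠ 1 := fun h => hx₀ (mul_inv_eq_iff_eq_mul.mp (by
      rw [← mul_inv_eq_one, inv_eq_of_mul_eq_one_right (hsq u hu)]; exact h))
    -- `P` fixes the commutator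
    have huniq : ∀ w ∈ U, ∀ v ∈ U, v ≠ 1 → v ≠ u → w = 1 ∨ w = u ∨ w = v ∨ w = v * u := by
      intro w hw v hv hv1 hvu'
      haveI : Fintype U := Fintype.ofFinite U
      have hc : (Finset.univ : Finset U) = ({1, ⟨u, hu⟩, ⟨v, hv⟩, ⟨v * u, U.mul_mem hv hu⟩} : Finset U) := by
        symm
        apply Finset.eq_univ_of_card
        rw [← Nat.card_eq_fintype_card, IsKleinFour.card_four]
        have e1 : (1 : U) ≠ ⟨u, hu⟩ := fun h => hu1 (congrArg Subtype.val h).symm
        have e2 : (1 : U) ≠ ⟨v, hv⟩ := fun h => hv1 (congrArg Subtype.val h).symm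
        have e3 : (1 : U) ≠ ⟨v * u, U.mul_mem hv hu⟩ := fun h => hvu' (by
          have := congrArg (fun t : U => (t : G) * u) h
          simpa [mul_assoc, hsq u hu] using this.symm)
        have e4 : (⟨u, hu⟩ : U) ≠ ⟨v, hv⟩ := fun h => hvu' (congrArg Subtype.val h).symm
        have e5 : (⟨u, hu⟩ : U) ≠ ⟨v * u, U.mul_mem hv hu⟩ := fun h => hv1 (mul_eq_right.mp (congrArg Subtype.val h).symm)
        have e6 : (⟨v, hv⟩ : U) ≠ ⟨v * u, U.mul_mem hv hu⟩ := fun h => hu1 (mul_eq_left.mp (congrArg Subtype.val h).symm)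
        simp [e1, e2, e3, e4, e5, e6]
      have hw' : (⟨w, hw⟩ : U) ∈ ({1, ⟨u, hu⟩, ⟨v, hv⟩, ⟨v * u, U.mul_mem hv hu⟩} : Finset U) := by
        rw [← hc]; exact Finset.mem_univ _
      simp only [Finset.mem_insert, Finset.mem_singleton] at hw'
      rcases hw' with h | h | h | h
      · exact Or.inl (congrArg Subtype.val h)
      · exact Or.inr (Or.inl (congrArg Subtype.val h))
      · exact Or.inr (Or.inr (Or.inl (congrArg Subtype.val h)))
      · exact Or.inr (Or.inr (Or.inr (congrArg Subtype.val h)))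
    -- elements of `P` fixing `u` centralize `U`
    obtain ⟨z₀, hz₀U, hz₀1, hz₀c⟩ : ∃ z₀ ∈ U, z₀ ≠ 1 ∧ ∀ x ∈ (P : Subgroup G), x * z₀ = z₀ * x := by
      haveI : (U.subgroupOf (P : Subgroup G)).Normal := Subgroup.normal_subgroupOf_of_le_normalizer hUn
      have hne : U.subgroupOf (P : Subgroup G) ≠ ⊥ := by
        intro h
        rw [Subgroup.subgroupOf_eq_bot, disjoint_iff, inf_of_le_left hUP] at h
        exact hu1 (Subgroup.mem_bot.mp (h ▸ hu))
      obtain ⟨w, hwU, hwc, hwp⟩ := H6.exists_mem_center_orderOf P.isPGroup' hne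
      refine ⟨w, Subgroup.mem_subgroupOf.mp hwU, fun h => ?_, fun x hx =>
        congrArg Subtype.val (Subgroup.mem_center_iff.mp hwc ⟨x, hx⟩)⟩
      rw [show w = 1 from Subtype.ext h, orderOf_one] at hwp
      omega
    have hz₀u : z₀ ≠ u := fun h => hx₀ (h ▸ hz₀c x₀ hx₀P)
    have hP0U : ∀ x ∈ P0, ∀ w ∈ U, x * w = w * x := by
      intro x hx w hw
      have hxu : x * u = u * x := Subgroup.mem_centralizer_singleton_iff.mp hx.2
      rcases huniq w hw z₀ hz₀U hz₀1 hz₀u with rfl | rfl | rfl | rfl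
      · simp
      · exact hxu
      · exact hz₀c x hx.1
      · exact ((show Commute x z₀ from hz₀c x hx.1).mul_right (show Commute x u from hxu)).eq
    have hconj : x₀ * u * x₀⁻¹ = z₀ * u := by
      rcases huniq _ ((Subgroup.mem_normalizer_iff.mp (hUn hx₀P) u).mp hu) z₀ hz₀U hz₀1 hz₀u with h | h | h | h
      · exact absurd (mul_inv_eq_one.mp h) (fun h' => hu1 (mul_eq_left.mp h'))
      · exact absurd (mul_inv_eq_iff_eq_mul.mp h) hx₀
      · exfalso
        apply hz₀u
        have h' : x₀ * u = x₀ * z₀ := (mul_inv_eq_iff_eq_mul.mp h).trans (hz₀c x₀ hx₀P).symm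
        exact (mul_left_cancel h').symm
      · exact h
    -- `P0` has index two in `P`
    have hidx : ∀ a ∈ (P : Subgroup G), a ∉ P0 → a * x₀⁻¹ ∈ P0 ∧ x₀⁻¹ * a ∈ P0 := by
      intro a ha ha0
      have hau : a * u * a⁻¹ = z₀ * u := by
        rcases huniq _ ((Subgroup.mem_normalizer_iff.mp (hUn ha) u).mp hu) z₀ hz₀U hz₀1 hz₀u with h | h | h | h
        · exact absurd (mul_inv_eq_one.mp h) (fun h' => hu1 (mul_eq_left.mp h'))
        · exact absurd ⟨ha, Subgroup.mem_centralizer_singleton_iff.mpr (mul_inv_eq_iff_eq_mul.mp h)⟩ ha0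
        · exfalso
          apply hz₀u
          have h' : a * u = a * z₀ := (mul_inv_eq_iff_eq_mul.mp h).trans (hz₀c a ha).symm
          exact (mul_left_cancel h').symm
        · exact h
      have h3 : x₀⁻¹ * a ∈ P0 := by
        refine ⟨(P : Subgroup G).mul_mem ((P : Subgroup G).inv_mem hx₀P) ha, Subgroup.mem_centralizer_singleton_iff.mpr ?_⟩
        calc x₀⁻¹ * a * u = x₀⁻¹ * (a * u * a⁻¹) * a := by group
          _ = x₀⁻¹ * (x₀ * u * x₀⁻¹) * a := by rw [hau, ← hconj]
          _ = u * (x₀⁻¹ * a) := by group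
      refine ⟨?_, h3⟩
      refine ⟨(P : Subgroup G).mul_mem ha ((P : Subgroup G).inv_mem hx₀P), Subgroup.mem_centralizer_singleton_iff.mpr ?_⟩
      have hx₀' : x₀⁻¹ * u * x₀ = z₀ * u := by
        have hzz : z₀ * z₀ = 1 := hsq _ hz₀U
        calc x₀⁻¹ * u * x₀ = x₀⁻¹ * (z₀ * (z₀ * u)) * x₀ := by rw [← mul_assoc z₀, hzz, one_mul]
          _ = x₀⁻¹ * (z₀ * (x₀ * u * x₀⁻¹)) * x₀ := by rw [hconj]
          _ = x₀⁻¹ * (x₀ * z₀) * u := by rw [hz₀c x₀ hx₀P]; group
          _ = z₀ * u := by group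
      calc a * x₀⁻¹ * u = a * (x₀⁻¹ * u * x₀) * x₀⁻¹ := by group
        _ = (a * z₀) * u * x₀⁻¹ := by rw [hx₀']; group
        _ = z₀ * (a * u * a⁻¹) * (a * x₀⁻¹) := by rw [hz₀c a ha]; group
        _ = u * (a * x₀⁻¹) := by rw [hau, ← mul_assoc z₀, hsq _ hz₀U, one_mul]
    by_cases hmax : ∀ T : Subgroup G, IsPGroup 2 T → T ≤ C → P0 ≤ T → T = P0
    · -- `P0` is a Sylow subgroup of `C(u)`
      set M := Subgroup.normalizer ((Subgroup.zpowers u : Subgroup G) : Set G) with hM
      have hMC : ∀ g, g ∈ M ↔ g ∈ C := fun g => by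
        rw [hM, H72.normalizer_zpowers_involution (hsq u hu) g, hC, Subgroup.mem_centralizer_singleton_iff]
      have hQ : H72.invCore u ≤ P0 := by
        haveI := H1.pCore_normal' 2 ↥M
        have hsupp : IsPGroup 2 ↥((P0.subgroupOf M) ⊔ Cfsg.pCore 2 ↥M) :=
          ((P.isPGroup'.to_inf_left).comap_subtype).to_sup_of_normal_right (H1.isPGroup_pCore 2 _)
        have h := hmax _ (hsupp.map M.subtype) (fun g hg => (hMC g).mp (Subgroup.map_subtype_le _ hg))
          (fun g hg => ⟨⟨g, (hMC g).mpr hg.2⟩, Subgroup.mem_sup_left (Subgroup.mem_subgroupOf.mpr hg), rfl⟩)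
        rintro _ ⟨q, hq, rfl⟩
        exact h.le ⟨q, Subgroup.mem_sup_right hq, rfl⟩
      intro v hv
      exact H72.mem_invCore_of_centralizes h2 (orderOf_eq_prime (by rw [pow_two]; exact hsq u hu) hu1)
        ((hMC v).mpr (Subgroup.mem_centralizer_singleton_iff.mpr (hcomm v hv u hu))) fun q hq => hP0U q (hQ hq) v hv
    · -- `P0` lies in a Sylow subgroup of `G` centralizing `u`
      push Not at hmax
      obtain ⟨T, hT, hTC, hP0T, hne⟩ := hmax
      obtain ⟨Ts, hTs⟩ := hT.exists_le_sylow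
      have hP0lt : P0 < T := lt_of_le_of_ne hP0T (Ne.symm hne)
      have hcard : 2 * Nat.card P0 ≤ Nat.card T := by
        obtain ⟨k, hk⟩ := Subgroup.card_dvd_of_le hP0T
        have : k ≠ 1 := fun h => hP0lt.ne (Subgroup.eq_of_le_of_card_ge hP0T (by rw [hk, h, mul_one]))
        have hk0 : k ≠ 0 := fun h => (Nat.card_pos (α := T)).ne' (by rw [hk, h, mul_zero])
        rw [hk, mul_comm 2]
        exact Nat.mul_le_mul_left _ (by omega)
      have hPcard : Nat.card (P : Subgroup G) ≤ 2 * Nat.card P0 := by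
        have hf : Function.Surjective (fun a : Bool × P0 =>
            (⟨(if a.1 then x₀ else 1) * (a.2 : G),
              (P : Subgroup G).mul_mem (by split <;> first | exact hx₀P | exact one_mem _) a.2.2.1⟩ :
              (P : Subgroup G))) := by
          rintro ⟨a, ha⟩
          by_cases h0 : a ∈ P0
          · exact ⟨(false, ⟨a, h0⟩), Subtype.ext (by simp)⟩
          · exact ⟨(true, ⟨x₀⁻¹ * a, (hidx a ha h0).2⟩), Subtype.ext (by simp)⟩
        have := Nat.card_le_card_of_surjective _ hf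
        rw [Nat.card_prod, Nat.card_eq_fintype_card (α := Bool), Fintype.card_bool] at this
        exact this
      have hTsT : T = (Ts : Subgroup G) := Subgroup.eq_of_le_of_card_ge hTs (by
        have h1 : Nat.card (Ts : Subgroup G) = Nat.card (P : Subgroup G) :=
          Ts.card_eq_multiplicity.trans P.card_eq_multiplicity.symm
        rw [h1]; exact hPcard.trans hcard)
      refine H72.four_le_invCore h2 U hU4 hu hu1 Ts (fun x hx =>
        Subgroup.mem_centralizer_singleton_iff.mp (hTC (hTsT.ge hx))) ?_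
      -- `U` is the set of elements of order two of the centre of `P0`
      let E : Subgroup G :=
        { carrier := {x | x ∈ P0 ∧ (∀ y ∈ P0, y * x = x * y) ∧ x * x = 1}
          one_mem' := ⟨one_mem _, fun y _ => by simp, by simp⟩
          mul_mem' := fun {a b} ha hb => ⟨mul_mem ha.1 hb.1, fun y hy =>
              ((show Commute y a from ha.2.1 y hy).mul_right (show Commute y b from hb.2.1 y hy)).eq, by
            rw [show a * b * (a * b) = a * (b * a) * b by group, hb.2.1 a ha.1 |> Eq.symm,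
              show a * (a * b) * b = (a * a) * (b * b) by group, ha.2.2, hb.2.2, one_mul]⟩
          inv_mem' := fun {a} ha => by rw [inv_eq_of_mul_eq_one_right ha.2.2]; exact ha }
      have hUE : U ≤ E := fun v hv => ⟨⟨hUP hv, Subgroup.mem_centralizer_singleton_iff.mpr (hcomm v hv u hu)⟩,
        fun y hy => hP0U y hy v hv, hsq v hv⟩
      have hP0n : ∀ a ∈ (P : Subgroup G), ∀ y ∈ P0, a * y * a⁻¹ ∈ P0 := by
        intro a ha y hy
        refine ⟨(P : Subgroup G).mul_mem ((P : Subgroup G).mul_mem ha hy.1) ((P : Subgroup G).inv_mem ha),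
          Subgroup.mem_centralizer_singleton_iff.mpr ?_⟩
        have h1 := hP0U y hy _ ((Subgroup.mem_normalizer_iff''.mp (hUn ha) u).mp hu)
        calc a * y * a⁻¹ * u = a * (y * (a⁻¹ * u * a)) * a⁻¹ := by group
          _ = a * ((a⁻¹ * u * a) * y) * a⁻¹ := by rw [h1]
          _ = u * (a * y * a⁻¹) := by group
      have hEx₀ : ∀ e ∈ E, x₀ * e * x₀⁻¹ ∈ E := by
        intro e he
        refine ⟨hP0n x₀ hx₀P e he.1, fun y hy => ?_, by rw [show x₀ * e * x₀⁻¹ * (x₀ * e * x₀⁻¹) = x₀ * (e * e) * x₀⁻¹ by group, he.2.2]; group⟩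
        have hy' : x₀⁻¹ * y * x₀ ∈ P0 := by simpa using hP0n x₀⁻¹ ((P : Subgroup G).inv_mem hx₀P) y hy
        have h1 := he.2.1 _ hy'
        calc y * (x₀ * e * x₀⁻¹) = x₀ * ((x₀⁻¹ * y * x₀) * e) * x₀⁻¹ := by group
          _ = x₀ * (e * (x₀⁻¹ * y * x₀)) * x₀⁻¹ := by rw [h1]
          _ = x₀ * e * x₀⁻¹ * y := by group
      have hfix : ∀ e ∈ E, x₀ * e = e * x₀ → e ∈ Z ∧ e * e = 1 := by
        intro e he hx
        refine ⟨⟨he.1.1, Subgroup.mem_centralizer_iff.mpr fun a ha => ?_⟩, he.2.2⟩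
        by_cases h0 : a ∈ P0
        · exact he.2.1 a h0
        · have h1 := he.2.1 _ (hidx a ha h0).2
          calc a * e = x₀ * ((x₀⁻¹ * a) * e) := by group
            _ = (x₀ * e) * (x₀⁻¹ * a) := by rw [h1]; group
            _ = e * a := by rw [hx]; group
      haveI : Fintype ↥Z := Fintype.ofFinite _
      have hZ2 : ∀ e ∈ Z, e * e = 1 → e = 1 ∨ e = z₀ := by
        intro e heZ he2
        by_contra hcon
        push Not at hcon
        have hz₀Z : z₀ ∈ Z := ⟨hUP hz₀U, Subgroup.mem_centralizer_iff.mpr hz₀c⟩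
        have h3 : ({1, ⟨e, heZ⟩, ⟨z₀, hz₀Z⟩} : Finset ↥Z) ⊆ Finset.univ.filter (fun a : ↥Z => a ^ 2 = 1) := by
          intro a ha
          simp only [Finset.mem_insert, Finset.mem_singleton] at ha
          rw [Finset.mem_filter]
          refine ⟨Finset.mem_univ _, ?_⟩
          rcases ha with rfl | rfl | rfl
          · simp
          · exact Subtype.ext (by rw [pow_two]; exact he2)
          · exact Subtype.ext (by rw [pow_two]; exact hsq _ hz₀U)
        have h4 := (Finset.card_le_card h3).trans (IsCyclic.card_pow_eq_one_le (α := ↥Z) (n := 2) two_pos)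
        have e1 : (1 : ↥Z) ≠ ⟨e, heZ⟩ := fun h => hcon.1 (congrArg Subtype.val h).symm
        have e2 : (1 : ↥Z) ≠ ⟨z₀, hz₀Z⟩ := fun h => hz₀1 (congrArg Subtype.val h).symm
        have e3 : (⟨e, heZ⟩ : ↥Z) ≠ ⟨z₀, hz₀Z⟩ := fun h => hcon.2 (congrArg Subtype.val h)
        rw [Finset.card_insert_of_notMem (by simp [e1, e2]), Finset.card_insert_of_notMem (by simp [e3]),
          Finset.card_singleton] at h4
        omega
      have hEU : E ≤ U := by
        intro e he
        have hd : x₀ * e * x₀⁻¹ * e ∈ E := E.mul_mem (hEx₀ e he) he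
        have hx2 : x₀ * x₀ ∈ P0 := by
          by_contra h0
          have hxx := (hidx _ ((P : Subgroup G).mul_mem hx₀P hx₀P) h0).1
          rw [mul_inv_cancel_right] at hxx
          exact hx₀ (Subgroup.mem_centralizer_singleton_iff.mp hxx.2)
        have hxe : x₀ * (x₀ * e * x₀⁻¹ * e) = (x₀ * e * x₀⁻¹ * e) * x₀ := by
          have h1 := he.2.1 _ hx2
          have h2' : x₀ * (x₀ * e * x₀⁻¹) = e * x₀ := by
            calc x₀ * (x₀ * e * x₀⁻¹) = (x₀ * x₀ * e) * x₀⁻¹ := by group
              _ = e * x₀ := by rw [h1]; group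
          calc x₀ * (x₀ * e * x₀⁻¹ * e) = (x₀ * (x₀ * e * x₀⁻¹)) * e := by group
            _ = e * (x₀ * e * x₀⁻¹) * x₀ := by rw [h2']; group
            _ = _ := by rw [(hEx₀ e he).2.1 e he.1]
        obtain ⟨hdZ, hd2⟩ := hfix _ hd hxe
        rcases hZ2 _ hdZ hd2 with h | h
        · have hxe' : x₀ * e = e * x₀ := by
            have h' := mul_eq_one_iff_eq_inv.mp h
            rw [inv_eq_of_mul_eq_one_right he.2.2] at h'
            exact mul_inv_eq_iff_eq_mul.mp h'
          rcases hZ2 e (hfix e he hxe').1 he.2.2 with rfl | rfl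
          · exact one_mem _
          · exact hz₀U
        · have hdu : x₀ * (e * u) * x₀⁻¹ = e * u := by
            have h' : x₀ * e * x₀⁻¹ = z₀ * e := by
              have h5 := congrArg (· * e) h
              beta_reduce at h5
              rwa [mul_assoc, he.2.2, mul_one] at h5
            have hcz : z₀ * e = e * z₀ := (hUE hz₀U).2.1 e he.1 |>.symm
            calc x₀ * (e * u) * x₀⁻¹ = (x₀ * e * x₀⁻¹) * (x₀ * u * x₀⁻¹) := by group
              _ = (z₀ * e) * (z₀ * u) := by rw [h', hconj]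
              _ = (e * (z₀ * z₀)) * u := by rw [hcz]; group
              _ = e * u := by rw [hsq _ hz₀U, mul_one]
          have hEm : e * u ∈ E := E.mul_mem he (hUE hu)
          have heuU : e * u ∈ U := by
            rcases hZ2 _ (hfix _ hEm (mul_inv_eq_iff_eq_mul.mp hdu)).1 hEm.2.2 with h' | h' <;> rw [h']
            · exact one_mem _
            · exact hz₀U
          have := U.mul_mem heuU hu
          rwa [mul_assoc, hsq u hu, mul_one] at this
      -- `Ts` normalizes `P0`, hence `U`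
      intro t ht
      have htn : ∀ y ∈ P0, t * y * t⁻¹ ∈ P0 := by
        have hrel : P0.relIndex (Ts : Subgroup G) = 2 := by
          have hle : P0 ≤ (Ts : Subgroup G) := hP0T.trans hTs
          have h1 := H4.card_mul_relIndex_eq hle
          have h2' : Nat.card (Ts : Subgroup G) = 2 * Nat.card P0 := by
            refine le_antisymm ?_ (hcard.trans (Subgroup.card_le_of_le hTs))
            rw [Ts.card_eq_multiplicity.trans P.card_eq_multiplicity.symm]; exact hPcard
          rw [h2', mul_comm 2] at h1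
          exact Nat.eq_of_mul_eq_mul_left Nat.card_pos h1
        have hle : P0 ≤ (Ts : Subgroup G) := hP0T.trans hTs
        haveI : (P0.subgroupOf (Ts : Subgroup G)).Normal := Subgroup.normal_of_index_eq_two hrel
        intro y hy
        exact Subgroup.mem_subgroupOf.mp ((inferInstance : (P0.subgroupOf (Ts : Subgroup G)).Normal).conj_mem
          ⟨y, hle hy⟩ (Subgroup.mem_subgroupOf.mpr hy) ⟨t, ht⟩)
      refine H85.mem_normalizer_of_conj fun v hv => hEU ⟨htn v (hUE hv).1, fun y hy => ?_, ?_⟩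
      · have hy' : t⁻¹ * y * t ∈ P0 := by
          have hsurj : Function.Surjective (fun a : P0 => (⟨t * a * t⁻¹, htn a a.2⟩ : P0)) :=
            Finite.surjective_of_injective fun a b hab => Subtype.ext (mul_left_cancel (mul_right_cancel (congrArg Subtype.val hab)))
          obtain ⟨a, ha⟩ := hsurj ⟨y, hy⟩
          have ha' : t * (a : G) * t⁻¹ = y := congrArg Subtype.val ha
          rw [← ha', show t⁻¹ * (t * (a : G) * t⁻¹) * t = a by group]
          exact a.2
        have h1 := hP0U _ hy' v hv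
        calc y * (t * v * t⁻¹) = t * ((t⁻¹ * y * t) * v) * t⁻¹ := by group
          _ = t * (v * (t⁻¹ * y * t)) * t⁻¹ := by rw [h1]
          _ = t * v * t⁻¹ * y := by group
      · rw [show t * v * t⁻¹ * (t * v * t⁻¹) = t * (v * v) * t⁻¹ by group, hsq v hv]; group
  haveI : IsMulCommutative U := ⟨⟨fun a b => Subtype.ext (hcomm a a.2 b b.2)⟩⟩
  have hcop : (Nat.card U).Coprime (Nat.card K) := by
    rw [IsKleinFour.card_four, show 4 = 2 ^ 2 by norm_num]
    exact (Nat.coprime_two_left.mpr hK).pow_left 2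
  have hgen := Cfsg.Agent.S0058.result U K (IsKleinFour.not_isCyclic) hUK hcop
  have hle : K ≤ Subgroup.centralizer (U : Set G) := by
    rw [← hgen]
    refine iSup₂_le fun a ha => ?_
    rintro d ⟨hdK, hda⟩
    refine Subgroup.mem_centralizer_iff.mpr fun v hv => ?_
    have haM := (H72.normalizer_zpowers_involution (hsq a ha.1) d).mpr (Subgroup.mem_centralizer_singleton_iff.mp hda)
    have hR := hsyl a ha.1 ha.2
    have h1 : v * d * v⁻¹ * d⁻¹ ∈ H72.invCore a := by
      rw [show v * d * v⁻¹ * d⁻¹ = v * (d * v⁻¹ * d⁻¹) by group]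
      exact mul_mem (hR hv) (H72.conj_mem_invCore haM (inv_mem (hR hv)))
    have h2' : v * d * v⁻¹ * d⁻¹ ∈ K := K.mul_mem ((Subgroup.mem_normalizer_iff.mp (hUK hv) d).mp hdK) (K.inv_mem hdK)
    have hRp : IsPGroup 2 (H72.invCore a) := (H1.isPGroup_pCore 2 _).map _
    have h3 := Subgroup.mem_bot.mp ((Cfsg.Comp.inf_eq_bot_of_isPGroup hRp
      (fun hd => absurd (even_iff_two_dvd.mpr hd) (Nat.not_even_iff_odd.mpr hK))).le
      (show v * d * v⁻¹ * d⁻¹ ∈ H72.invCore a ⊓ K from ⟨h1, h2'⟩))
    exact mul_inv_eq_iff_eq_mul.mp (mul_inv_eq_one.mp h3)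
  intro v hv
  exact Subgroup.mem_centralizer_iff.mpr fun d hd => (Subgroup.mem_centralizer_iff.mp (hle hd) v hv).symm

end Cfsg.Agent.S1957
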