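import Cfsg.Statements.S1962
import Cfsg.Agent.H73.Control

set_option autoImplicit false
open Cfsg

namespace Cfsg.Agent.S1962

/-- Local-to-global control of transfer through well-placed subgroups. Let p be a prime, G a finite group with Sylow p-subgroup S, and W a conjugacy functor for p on G. If W controls transfer in N_G(T) for every nonidentity subgroup T of S that is well placed in S with respect to W, then W controls transfer in G: S ∩ G' = S ∩ (N_G(W(S)))'. -/
theorem result {G : Type*} [Group G] [Finite G] {p : ℕ} [Fact p.Prime] (S : Sylow p G) (W : Subgroup G → Subgroup G) (hW : Cfsg.IsConjugacyFunctor p W) (hloc : ∀ T : Subgroup G, T ≠ ⊥ → Cfsg.IsWellPlaced p W (S : Subgroup G) T → Cfsg.ControlsTransferIn p W (Subgroup.normalizer ((T : Subgroup G) : Set G))) : Cfsg.ControlsTransferIn p W ⊤ := by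
  rw [← H73.familyControlsTransferIn_singleton_iff]
  refine H73.familyControlsTransferIn_top_of_le (H73.sylIn_top S) ?_
  exact H73.inf_commutator_le_iSup_of_local (H73.sylIn_top S) (Cfsg.IsWellPlaced p W (S : Subgroup G))
    (H73.wellPlaced_hext S.2) (fun V hV => H73.exists_wellPlaced hW (H73.sylIn_top S) hV) {W}
    (by simpa using hW) fun U hU hU0 => H73.familyControlsTransferIn_singleton_iff.mpr (hloc U hU0 hU)

end Cfsg.Agent.S1962
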