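import Cfsg.Statements.S1965
import Cfsg.Agent.H73.ConjFamily

set_option autoImplicit false
open Cfsg

namespace Cfsg.Agent.S1965

/-- Let p be a prime, G a finite group with Sylow p-subgroup S and 𝓕 a set of subgroups of S. Suppose that every subgroup T of S is G-conjugate to some member U of 𝓕 for which N_S(U) is a Sylow p-subgroup of N_G(U). Then 𝓕 is a conjugation family for S in G. -/
theorem result {G : Type*} [Group G] [Finite G] {p : ℕ} [Fact p.Prime] (S : Sylow p G) (𝓕 : Set (Subgroup G)) (h𝓕 : ∀ U ∈ 𝓕, U ≤ (S : Subgroup G)) (h : ∀ T : Subgroup G, T ≤ (S : Subgroup G) → ∃ U ∈ 𝓕, (∃ g : G, T.map (MulAut.conj g).toMonoidHom = U) ∧ ¬ p ∣ ((S : Subgroup G) ⊓ Subgroup.normalizer ((U : Subgroup G) : Set G)).relIndex (Subgroup.normalizer ((U : Subgroup G) : Set G))) : Cfsg.IsConjugationFamily 𝓕 (S : Subgroup G) := by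
  refine ⟨h𝓕, fun A g _ hA hgA => ?_⟩
  have hchain := H73.rchain_of_family (p := p) S.2 (fun T x => T ∈ 𝓕 ∧ x ∈ Subgroup.normalizer (T : Set G))
    (fun T x h => h.2) (fun T x h => ⟨h.1, Subgroup.inv_mem _ h.2⟩)
    (fun U => U ∈ 𝓕 ∧ H73.SylIn p ((S : Subgroup G) ⊓ Subgroup.normalizer (U : Set G))
      (Subgroup.normalizer (U : Set G)))
    (fun U hU => ⟨h𝓕 U hU.1, hU.2⟩)
    (fun V hV => by
      obtain ⟨U, hU, ⟨g, hg⟩, hsyl⟩ := h V hV
      have hU' : H73.SylIn p ((S : Subgroup G) ⊓ Subgroup.normalizer (U : Set G))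
          (Subgroup.normalizer (U : Set G)) := ⟨inf_le_right, S.2.to_le inf_le_left, hsyl⟩
      obtain ⟨v, hv, hv'⟩ := H73.exists_good_conj S.2 hU' hg
      refine ⟨v, ?_, hv'.trans inf_le_left⟩
      rw [hv]
      exact ⟨hU, hU'⟩)
    (fun U hU _ x hx => H73.RChain.single ⟨hU.1, hx⟩ subset_rfl) A g hA (by simpa [H73.cset] using hgA)
  obtain ⟨n, T, x, h1, h2, h3, h4⟩ := hchain.to_fin
  exact ⟨n, T, x, h1, fun i => (h2 i).1, fun i => (h2 i).2, h3, h4⟩

end Cfsg.Agent.S1965
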