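import Cfsg.Statements.S1967
import Cfsg.Agent.H73.Control

set_option autoImplicit false
open Cfsg

namespace Cfsg.Agent.S1967

/-- Let p be a prime, G a finite group with Sylow p-subgroup S and W a conjugacy functor for p on G. Then W controls strong fusion in G if and only if, whenever T ≤ S and g ∈ G satisfy gTg⁻¹ ≤ S, one can write g = n c with n ∈ N_G(W(S)) and c ∈ C_G(T). -/
theorem result {G : Type*} [Group G] [Finite G] {p : ℕ} [Fact p.Prime] (S : Sylow p G) (W : Subgroup G → Subgroup G) (hW : Cfsg.IsConjugacyFunctor p W) : Cfsg.ControlsStrongFusionIn p W ⊤ ↔ ∀ (T : Subgroup G) (g : G), T ≤ (S : Subgroup G) → T.map (MulAut.conj g).toMonoidHom ≤ (S : Subgroup G) → ∃ n ∈ Subgroup.normalizer ((W (S : Subgroup G) : Subgroup G) : Set G), ∃ c ∈ Subgroup.centralizer (T : Set G), g = n * c := by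
  have hS := H73.sylIn_top S
  constructor
  · intro h T g hT hgT
    obtain ⟨n, hn, hne⟩ := H73.controlsStrongFusionIn_any hW h hS (Subgroup.mem_top g) (A := (T : Set G))
      hT hgT
    refine ⟨n, hn.2, n⁻¹ * g, ?_, by group⟩
    rw [Subgroup.mem_centralizer_iff]
    intro a ha
    calc a * (n⁻¹ * g) = n⁻¹ * (n * a * n⁻¹) * g := by group
      _ = n⁻¹ * (g * a * g⁻¹) * g := by rw [hne a ha]
      _ = n⁻¹ * g * a := by group
  · intro h
    refine H73.controlsStrongFusionIn_top_of_fusBy hS fun A g hA hgA => ?_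
    obtain ⟨n, hn, c, hc, rfl⟩ := h (Subgroup.closure A) g ((Subgroup.closure_le _).mpr hA) (by
      show H73.cj g (Subgroup.closure A) ≤ _
      rw [← H73.closure_conj_image]
      exact (Subgroup.closure_le _).mpr hgA)
    refine ⟨n, hn, fun a ha => ?_⟩
    have := Subgroup.mem_centralizer_iff.mp hc a (Subgroup.subset_closure ha)
    calc n * a * n⁻¹ = n * (a * c) * (n * c)⁻¹ := by group
      _ = n * (c * a) * (n * c)⁻¹ := by rw [this]
      _ = n * c * a * (n * c)⁻¹ := by group

end Cfsg.Agent.S1967
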