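import Cfsg.Statements.S1968
import Cfsg.Agent.H73.WellPlaced
import Mathlib.Data.Set.Finite.Lemmas

set_option autoImplicit false
open Cfsg

namespace Cfsg.Agent.S1968

/-- Let p be a prime, G a finite group with Sylow p-subgroup S and W a conjugacy functor for p on G with Z(P) ≤ W(P) for every p-subgroup P. Let A be a subgroup of Z(S) normalized by N_G(W(S)) that is not weakly closed in S with respect to G. Then there is a subgroup T of S, well placed in S with respect to W, such that: A ≤ T; N_G(W(N_S(T))) normalizes A; N_S(T) is a Sylow p-subgroup of N_G(T); A ≤ Z(N_S(T)); and A is not weakly closed in N_S(T) with respect to N_G(T), that is, some N_G(T)-conjugate of A other than A lies in N_S(T). -/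
theorem result {G : Type*} [Group G] [Finite G] {p : ℕ} [Fact p.Prime] (S : Sylow p G) (W : Subgroup G → Subgroup G) (hW : Cfsg.IsConjugacyFunctor p W) (hWZ : ∀ P : Subgroup G, IsPGroup p ↥P → P ⊓ Subgroup.centralizer (P : Set G) ≤ W P) (A : Subgroup G) (hAZ : A ≤ (S : Subgroup G) ⊓ Subgroup.centralizer ((S : Subgroup G) : Set G)) (hAN : Subgroup.normalizer ((W (S : Subgroup G) : Subgroup G) : Set G) ≤ Subgroup.normalizer ((A : Subgroup G) : Set G)) (hnwc : ¬ Cfsg.IsWeaklyClosed A (S : Subgroup G)) : ∃ T : Subgroup G, Cfsg.IsWellPlaced p W (S : Subgroup G) T ∧ A ≤ T ∧ Subgroup.normalizer ((W ((S : Subgroup G) ⊓ Subgroup.normalizer ((T : Subgroup G) : Set G)) : Subgroup G) : Set G) ≤ Subgroup.normalizer ((A : Subgroup G) : Set G) ∧ ¬ p ∣ ((S : Subgroup G) ⊓ Subgroup.normalizer ((T : Subgroup G) : Set G)).relIndex (Subgroup.normalizer ((T : Subgroup G) : Set G)) ∧ A ≤ Subgroup.centralizer (((S : Subgroup G) ⊓ Subgroup.normalizer ((T : Subgroup G) : Set G) : Subgroup G) : Set G) ∧ ∃ g ∈ Subgroup.normalizer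 ((T : Subgroup G) : Set G), A.map (MulAut.conj g).toMonoidHom ≤ (S : Subgroup G) ⊓ Subgroup.normalizer ((T : Subgroup G) : Set G) ∧ A.map (MulAut.conj g).toMonoidHom ≠ A := by
  have hS := H73.sylIn_top S
  have hAS : A ≤ (S : Subgroup G) := hAZ.trans inf_le_left
  have hAC : A ≤ Subgroup.centralizer ((S : Subgroup G) : Set G) := hAZ.trans inf_le_right
  let moves : Subgroup G → Prop := fun T => Cfsg.IsWellPlaced p W (S : Subgroup G) T ∧ A ≤ T ∧
    ∃ g ∈ Subgroup.normalizer (T : Set G), g ∉ Subgroup.normalizer (A : Set G)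
  obtain ⟨T₀, hT₀⟩ : ∃ T, moves T := by
    by_contra hno
    simp only [moves, not_exists, not_and, not_not] at hno
    apply hnwc
    refine ⟨hAS, fun g hg => ?_⟩
    let Φ : Set G → G → Prop := fun B g =>
      ((A : Set G) ⊆ B ∨ (A : Set G) ⊆ H73.cset g B) → g ∈ Subgroup.normalizer (A : Set G)
    have hfix : ∀ g ∈ Subgroup.normalizer (A : Set G), ∀ B : Set G,
        ((A : Set G) ⊆ B ↔ (A : Set G) ⊆ H73.cset g B) := by
      intro g hg B
      have e := H73.cset_subgroup g A
      rw [H73.mem_normalizer_iff_cj.mp hg] at e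
      constructor
      · intro h
        rw [← e]
        exact H73.cset_mono h
      · intro h
        have h' : H73.cset g (A : Set G) ⊆ H73.cset g B := e.trans_subset h
        have h'' := H73.cset_mono (g := g⁻¹) h'
        rwa [H73.cset_inv_cset, H73.cset_inv_cset] at h''
    have hΦ : H73.FusBasic Φ :=
      { mono := fun B C g hBC h hor => h (hor.imp (fun h => h.trans hBC) (fun h => h.trans (H73.cset_mono hBC)))
        inv := fun B g h hor => Subgroup.inv_mem _ (h (by
          rw [H73.cset_inv_cset] at hor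
          exact hor.symm))
        comp := fun B g k hg hk hor => by
          rw [← H73.cset_cset] at hor
          rcases hor with hor | hor
          · have h1 := hg (Or.inl hor)
            exact Subgroup.mul_mem _ (hk (Or.inl ((hfix g h1 B).mp hor))) h1
          · have h1 := hk (Or.inr hor)
            exact Subgroup.mul_mem _ h1 (hg (Or.inr ((hfix k h1 _).mpr hor))) }
    refine H73.mem_normalizer_iff_cj.mp (H73.fusion_of_local (Φ := Φ) S.2 hΦ ?_
      (Cfsg.IsWellPlaced p W (S : Subgroup G)) (H73.wellPlaced_hext S.2)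
      (fun V hV => H73.exists_wellPlaced hW hS hV) ?_ (A : Set G) g hAS hg (Or.inl subset_rfl))
    · intro _ x hor
      have hA1 : A = ⊥ := by
        rw [H73.cset_subgroup, H73.cj_bot] at hor
        exact le_bot_iff.mp (hor.elim id id)
      rw [H73.mem_normalizer_iff_cj, hA1, H73.cj_bot]
    · intro U hU _ _ x hx hor
      rw [H73.cset_subgroup, H73.mem_normalizer_iff_cj.mp hx] at hor
      exact hno U hU (hor.elim id id) x hx
  obtain ⟨T, ⟨hwp, hAT, g, hg, hgA⟩, hmax⟩ := Set.exists_max_image {T | moves T}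
    (fun T => Nat.card ((S : Subgroup G) ⊓ Subgroup.normalizer (T : Set G) : Subgroup G))
    (Set.toFinite _) ⟨T₀, hT₀⟩
  set R := (S : Subgroup G) ⊓ Subgroup.normalizer (T : Set G) with hR
  have hRp : IsPGroup p R := S.2.to_le inf_le_left
  have hTR : T ≤ R := le_inf hwp.1 Subgroup.le_normalizer
  have hgAT : A.map (MulAut.conj g).toMonoidHom ≤ T := by
    rw [← H73.mem_normalizer_iff_cj.mp hg]
    exact H73.cj_mono hAT
  have hACR : A ≤ Subgroup.centralizer (R : Set G) := hAC.trans (Subgroup.centralizer_le inf_le_left)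
  refine ⟨T, hwp, hAT, ?_, (H73.wellPlaced_hext S.2 T hwp).2.not_dvd, hACR, g, hg, hgAT.trans hTR,
    fun e => hgA (H73.mem_normalizer_iff_cj.mpr e)⟩
  rcases (inf_le_left : R ≤ (S : Subgroup G)).eq_or_lt with e | hlt
  · rw [e]
    exact hAN
  · intro y hy
    by_contra hyA
    have h1 : moves (W R) := ⟨H73.wellPlaced_next hW S.2 hwp,
      (le_inf (hAT.trans hTR) hACR).trans (hWZ R hRp), y, hy, hyA⟩
    refine absurd (hmax _ h1) (not_le.mpr ?_)
    have h2 := (H73.lt_inf_normalizer S.2 hlt).trans_le
      (inf_le_inf le_rfl (H73.normalizer_le_normalizer_functor hW hRp))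
    exact lt_of_le_of_ne (Subgroup.card_le_of_le h2.le)
      fun e => h2.ne (Subgroup.eq_of_le_of_card_ge h2.le e.ge)

end Cfsg.Agent.S1968
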