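import Cfsg.Statements.S1997
import Cfsg.Agent.H73.TripleFactor

set_option autoImplicit false
universe u
open Cfsg

namespace Cfsg.Agent.S1997

/-- Let p be a prime, G a finite group with Sylow p-subgroup S, and W₁, W₂ two isomorphism-invariant p-group functors (W assigns to every group Q a subgroup W(Q), nontrivial whenever Q is a nontrivial finite p-group, and every isomorphism from a finite p-group Q onto a group R carries W(Q) onto W(R)). Suppose that G* = C_{G*}(Ω₁Z(S*)) N_{G*}(W₁(S*)) = C_{G*}(Ω₁Z(S*)) N_{G*}(W₂(S*)) = N_{G*}(W₁(S*)) N_{G*}(W₂(S*)) whenever G* = K/R is a section of G with C_{G*}(O_p(G*)) ≤ O_p(G*) and S* is a Sylow p-subgroup of G*, where Ω₁Z denotes the subgroup generated by the elements of order dividing p in the centre. Suppose also Ω₁Z(S) ≤ W₁(S) ∩ W₂(S), and let A be the normal closure of Ω₁Z(S) in N_G(W₁(S)). Then A is an elementary abelian subgroup of S, strongly closed in S with respect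 to G, and A controls strong fusion in G. -/
theorem result {G : Type u} [Group G] [Finite G] {p : ℕ} [Fact p.Prime] (S : Sylow p G) (W₁ W₂ : ∀ (Q : Type u) [Group Q], Subgroup Q) (hW₁ : Cfsg.IsCharPFunctor.{u} p W₁) (hW₂ : Cfsg.IsCharPFunctor.{u} p W₂) (hfac : ∀ (K R : Subgroup G) [hR : (R.subgroupOf K).Normal], Subgroup.centralizer ((Cfsg.pCore p (↥K ⧸ R.subgroupOf K) : Subgroup (↥K ⧸ R.subgroupOf K)) : Set (↥K ⧸ R.subgroupOf K)) ≤ Cfsg.pCore p (↥K ⧸ R.subgroupOf K) → ∀ T : Sylow p (↥K ⧸ R.subgroupOf K), (∀ x : (↥K ⧸ R.subgroupOf K), ∃ a ∈ Subgroup.centralizer ((Cfsg.omegaOne p ((T : Subgroup (↥K ⧸ R.subgroupOf K)) ⊓ Subgroup.centralizer (((T : Subgroup (↥K ⧸ R.subgroupOf K)) : Subgroup (↥K ⧸ R.subgroupOf K)) : Set (↥K ⧸ R.subgroupOf K))) : Subgroup (↥K ⧸ R.subgroupOf K)) : Set (↥K ⧸ R.subgroupOf K)), ∃ b ∈ Subgroup.normalizer ((Cfsg.inducedFunctor (G := (↥K ⧸ R.subgroupOf K)) W₁ (T : Subgroup (↥K ⧸ R.subgroupOf K))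 : Subgroup (↥K ⧸ R.subgroupOf K)) : Set (↥K ⧸ R.subgroupOf K)), x = a * b) ∧ (∀ x : (↥K ⧸ R.subgroupOf K), ∃ a ∈ Subgroup.centralizer ((Cfsg.omegaOne p ((T : Subgroup (↥K ⧸ R.subgroupOf K)) ⊓ Subgroup.centralizer (((T : Subgroup (↥K ⧸ R.subgroupOf K)) : Subgroup (↥K ⧸ R.subgroupOf K)) : Set (↥K ⧸ R.subgroupOf K))) : Subgroup (↥K ⧸ R.subgroupOf K)) : Set (↥K ⧸ R.subgroupOf K)), ∃ b ∈ Subgroup.normalizer ((Cfsg.inducedFunctor (G := (↥K ⧸ R.subgroupOf K)) W₂ (T : Subgroup (↥K ⧸ R.subgroupOf K)) : Subgroup (↥K ⧸ R.subgroupOf K)) : Set (↥K ⧸ R.subgroupOf K)), x = a * b) ∧ (∀ x : (↥K ⧸ R.subgroupOf K), ∃ a ∈ Subgroup.normalizer ((Cfsg.inducedFunctor (G := (↥K ⧸ R.subgroupOf K)) W₁ (T : Subgroup (↥K ⧸ R.subgroupOf K)) : Subgroup (↥K ⧸ R.subgroupOf K)) : Set (↥K ⧸ R.subgroupOf K)), ∃ b ∈ Subgroup.normalizer ((Cfsg.inducedFunctor (G := (↥K ⧸ R.subgroupOf K)) W₂ (T : Subgroup (↥K ⧸ R.subgroupOf K)) : Subgroup (↥K ⧸ R.subgroupOf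 K)) : Set (↥K ⧸ R.subgroupOf K)), x = a * b)) (hZ : Cfsg.omegaOne p ((S : Subgroup G) ⊓ Subgroup.centralizer (((S : Subgroup G) : Subgroup G) : Set G)) ≤ Cfsg.inducedFunctor (G := G) W₁ (S : Subgroup G) ⊓ Cfsg.inducedFunctor (G := G) W₂ (S : Subgroup G)) (N₁ : Subgroup G) (hN₁ : N₁ = Subgroup.normalizer ((Cfsg.inducedFunctor (G := G) W₁ (S : Subgroup G) : Subgroup G) : Set G)) (A : Subgroup G) (hA : A = (Subgroup.normalClosure (((Cfsg.omegaOne p ((S : Subgroup G) ⊓ Subgroup.centralizer (((S : Subgroup G) : Subgroup G) : Set G))).subgroupOf N₁ : Subgroup ↥N₁) : Set ↥N₁)).map N₁.subtype) : A ≤ (S : Subgroup G) ∧ Cfsg.IsElementaryAbelian p A ∧ Cfsg.IsStronglyClosed A (S : Subgroup G) ∧ Cfsg.ControlsStrongFusion p A := by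
  set Z := Cfsg.omegaOne p ((S : Subgroup G) ⊓ Subgroup.centralizer ((S : Subgroup G) : Set G)) with hZdef
  have hZle : Z ≤ (S : Subgroup G) ⊓ Subgroup.centralizer ((S : Subgroup G) : Set G) :=
    (Subgroup.closure_le _).mpr fun x hx => hx.1
  have hSZ : (S : Subgroup G) ≤ Subgroup.centralizer (Z : Set G) := by
    intro s hs
    rw [Subgroup.mem_centralizer_iff]
    intro z hz
    exact (Subgroup.mem_centralizer_iff.mp (hZle hz).2 s hs).symm
  have hZp : ∀ z ∈ Z, z ^ p = 1 := by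
    intro z hz
    induction hz using Subgroup.closure_induction with
    | mem x hx => exact hx.2
    | one => exact one_pow p
    | mul x y hx hy ihx ihy =>
      have hc : Commute x y := Subgroup.mem_centralizer_iff.mp (hZle hy).2 x (hZle hx).1
      rw [hc.mul_pow, ihx, ihy, one_mul]
    | inv x _ ihx => rw [inv_pow, ihx, inv_one]
  have key : ∀ (W : ∀ (Q : Type u) [Group Q], Subgroup Q), Cfsg.IsCharPFunctor.{u} p W →
      (∀ (K R : Subgroup G) [hR : (R.subgroupOf K).Normal],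
        Subgroup.centralizer ((Cfsg.pCore p (↥K ⧸ R.subgroupOf K) : Subgroup (↥K ⧸ R.subgroupOf K)) :
          Set (↥K ⧸ R.subgroupOf K)) ≤ Cfsg.pCore p (↥K ⧸ R.subgroupOf K) →
        ∀ T : Sylow p (↥K ⧸ R.subgroupOf K), ∀ x : (↥K ⧸ R.subgroupOf K),
          ∃ a ∈ Subgroup.centralizer ((Cfsg.omegaOne p ((T : Subgroup (↥K ⧸ R.subgroupOf K)) ⊓
            Subgroup.centralizer (((T : Subgroup (↥K ⧸ R.subgroupOf K))) : Set (↥K ⧸ R.subgroupOf K))) :
              Subgroup (↥K ⧸ R.subgroupOf K)) : Set (↥K ⧸ R.subgroupOf K)),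
          ∃ b ∈ Subgroup.normalizer ((Cfsg.inducedFunctor (G := (↥K ⧸ R.subgroupOf K)) W
            (T : Subgroup (↥K ⧸ R.subgroupOf K)) : Subgroup (↥K ⧸ R.subgroupOf K)) :
              Set (↥K ⧸ R.subgroupOf K)), x = a * b) →
      H73.CenterFactor p G W := by
    intro W hW hf X _ _ hX hc T Z' hZT hZ'p hTZ x
    obtain ⟨K, R, hR, ⟨e⟩⟩ := hX.exists_equiv
    set T' := T.mapSurjective (f := e.symm.toMonoidHom) e.symm.surjective with hT'
    obtain ⟨a, ha, b, hb, he⟩ := hf K R (H73.constrained_of_equiv e.symm hc) T' (e.symm x)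
    rw [show (T' : Subgroup (↥K ⧸ R.subgroupOf K)) = (T : Subgroup X).map e.symm.toMonoidHom from rfl,
      ← H73.map_normalizer_functor hW e.symm T.2] at hb
    obtain ⟨b, hb, rfl⟩ := hb
    refine ⟨e a, ?_, b, hb, ?_⟩
    · rw [Subgroup.mem_centralizer_iff]
      intro z hz
      have hmem : e.symm z ∈ Cfsg.omegaOne p ((T' : Subgroup (↥K ⧸ R.subgroupOf K)) ⊓
          Subgroup.centralizer (((T' : Subgroup (↥K ⧸ R.subgroupOf K))) : Set (↥K ⧸ R.subgroupOf K))) := by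
        refine Subgroup.subset_closure ⟨⟨⟨z, hZT hz, rfl⟩, Subgroup.mem_centralizer_iff.mpr ?_⟩, ?_⟩
        · rintro _ ⟨t, ht, rfl⟩
          show e.symm t * e.symm z = e.symm z * e.symm t
          rw [← map_mul, ← map_mul, Subgroup.mem_centralizer_iff.mp (hTZ ht) z hz]
        · rw [← map_pow, hZ'p z hz, map_one]
      have h := congrArg e (Subgroup.mem_centralizer_iff.mp ha _ hmem)
      simpa using h
    · have h := congrArg e he
      simpa using h
  refine H73.triple_factor hW₁ hW₂ (key W₁ hW₁ fun K R _ hc T => (hfac K R hc T).1)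
    (key W₂ hW₂ fun K R _ hc T => (hfac K R hc T).2.1) (fun X _ _ hX hc T x => ?_) S Z hZp hZ hSZ A ?_
  · obtain ⟨K, R, hR, ⟨e⟩⟩ := hX.exists_equiv
    obtain ⟨a, ha, b, hb, he⟩ := (hfac K R (H73.constrained_of_equiv e.symm hc)
      (T.mapSurjective (f := e.symm.toMonoidHom) e.symm.surjective)).2.2 (e.symm x)
    rw [show ((T.mapSurjective (f := e.symm.toMonoidHom) e.symm.surjective :
        Sylow p (↥K ⧸ R.subgroupOf K)) : Subgroup (↥K ⧸ R.subgroupOf K)) =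
          (T : Subgroup X).map e.symm.toMonoidHom from rfl,
      ← H73.map_normalizer_functor hW₁ e.symm T.2] at ha
    rw [show ((T.mapSurjective (f := e.symm.toMonoidHom) e.symm.surjective :
        Sylow p (↥K ⧸ R.subgroupOf K)) : Subgroup (↥K ⧸ R.subgroupOf K)) =
          (T : Subgroup X).map e.symm.toMonoidHom from rfl,
      ← H73.map_normalizer_functor hW₂ e.symm T.2] at hb
    obtain ⟨a, ha, rfl⟩ := ha
    obtain ⟨b, hb, rfl⟩ := hb
    refine ⟨a, ha, b, hb, ?_⟩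
    have h := congrArg e he
    simpa using h
  · rw [← hN₁, hA]
    have hZN : Z ≤ N₁ := by
      rw [hN₁]
      exact (hZ.trans inf_le_left).trans Subgroup.le_normalizer
    refine le_antisymm ?_ ?_
    · rw [Subgroup.normalClosure, MonoidHom.map_closure, Subgroup.closure_le]
      rintro _ ⟨y, hy, rfl⟩
      obtain ⟨z, hz, hconj⟩ := Group.mem_conjugatesOfSet_iff.mp hy
      obtain ⟨c, rfl⟩ := isConj_iff.mp hconj
      exact Subgroup.subset_closure ⟨c, c.2, z, hz, rfl⟩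
    · rw [Subgroup.closure_le]
      rintro _ ⟨n, hn, z, hz, rfl⟩
      let n' : ↥N₁ := ⟨n, hn⟩
      let z' : ↥N₁ := ⟨z, hZN hz⟩
      have hz' : z' ∈ Subgroup.normalClosure ((Z.subgroupOf N₁ : Subgroup ↥N₁) : Set ↥N₁) :=
        Subgroup.subset_normalClosure (Subgroup.mem_subgroupOf.mpr hz)
      exact ⟨n' * z' * n'⁻¹, (Subgroup.normalClosure_normal).conj_mem z' hz' n', rfl⟩

end Cfsg.Agent.S1997
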