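import Cfsg.Statements.S2002
import Cfsg.Agent.H73.CentralFunctor

set_option autoImplicit false
open Cfsg

namespace Cfsg.Agent.S2002

/-- Let p be a prime dividing the order of the finite group G, P a Sylow p-subgroup, W a conjugacy functor for p on G with Z(H) ≤ W(H) for every nontrivial p-subgroup H, and V a central functor (a conjugacy functor with V(H) ≤ Z(H), and V(H) ≤ V(K) whenever Z(H) ≤ Z(K)). Say that W with V controls strong fusion in a subgroup L when some Sylow p-subgroup Q of L has the property: whenever X ⊆ Q and a ∈ L with a⁻¹Xa ⊆ Q, then a = c b with c ∈ C_L(X) and b = b₁ ⋯ bₙ a product of elements each in N_L(W(Q)) or in C_L(V(Q)) such that every partial conjugate (b₁ ⋯ bₖ)⁻¹ X (b₁ ⋯ bₖ) lies in Q. If W with V controls strong fusion in N_G(H) for every subgroup H with Z(P) ≤ H ≤ P, then W with V controls strong fusion in G. -/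
theorem result {G : Type*} [Group G] [Finite G] {p : ℕ} [Fact p.Prime] (hdiv : p ∣ Nat.card G) (P : Sylow p G) (W V : Subgroup G → Subgroup G) (hW : Cfsg.IsConjugacyFunctor p W) (hV : Cfsg.IsConjugacyFunctor p V) (hWZ : ∀ H : Subgroup G, IsPGroup p ↥H → H ⊓ Subgroup.centralizer ((H : Subgroup G) : Set G) ≤ W H) (hVZ : ∀ H : Subgroup G, IsPGroup p ↥H → V H ≤ H ⊓ Subgroup.centralizer ((H : Subgroup G) : Set G)) (hVmono : ∀ H K : Subgroup G, IsPGroup p ↥H → IsPGroup p ↥K → H ≠ ⊥ → K ≠ ⊥ → H ⊓ Subgroup.centralizer ((H : Subgroup G) : Set G) ≤ K ⊓ Subgroup.centralizer ((K : Subgroup G) : Set G) → V H ≤ V K) (hloc : ∀ H : Subgroup G, (P : Subgroup G) ⊓ Subgroup.centralizer (((P : Subgroup G) : Subgroup G) : Set G) ≤ H → H ≤ (P : Subgroup G) → ∃ Q : Subgroup G, Q ≤ Subgroup.normalizer ((H : Subgroup G) : Set G) ∧ IsPGroup p ↥Q ∧ ¬ p ∣ (Q).relIndex (Subgroup.normalizer ((H : Subgroup G) : Set G)) ∧ ∀ (X : Set G) (a : G),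 X ⊆ Q → a ∈ Subgroup.normalizer ((H : Subgroup G) : Set G) → (fun x => a⁻¹ * x * a) '' X ⊆ Q → ∃ c ∈ Subgroup.normalizer ((H : Subgroup G) : Set G) ⊓ Subgroup.centralizer X, ∃ (n : ℕ) (b : Fin n → G), (∀ i, b i ∈ Subgroup.normalizer ((H : Subgroup G) : Set G) ⊓ Subgroup.normalizer ((W Q : Subgroup G) : Set G) ∨ b i ∈ Subgroup.normalizer ((H : Subgroup G) : Set G) ⊓ Subgroup.centralizer ((V Q : Subgroup G) : Set G)) ∧ a = c * (List.ofFn b).prod ∧ ∀ k : ℕ, k ≤ n → (fun x => (((List.ofFn b).take k).prod)⁻¹ * x * ((List.ofFn b).take k).prod) '' ((fun x => c⁻¹ * x * c) '' X) ⊆ Q) : ∃ Q : Subgroup G, IsPGroup p ↥Q ∧ ¬ p ∣ Q.index ∧ ∀ (X : Set G) (a : G), X ⊆ Q → (fun x => a⁻¹ * x * a) '' X ⊆ Q → ∃ c ∈ Subgroup.centralizer X, ∃ (n : ℕ) (b : Fin n → G), (∀ i, b i ∈ ⊤ ⊓ Subgroup.normalizer ((W Q : Subgroup G) : Set G) ∨ b i ∈ ⊤ ⊓ Subgroup.centralizer ((V Q : Subgroup G) : Set G)) ∧ a = c * (List.ofFn b).prod ∧ ∀ k : ℕ,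 k ≤ n → (fun x => (((List.ofFn b).take k).prod)⁻¹ * x * ((List.ofFn b).take k).prod) '' ((fun x => c⁻¹ * x * c) '' X) ⊆ Q := by
  refine ⟨(P : Subgroup G), P.2, P.not_dvd_index, fun X a hX haX => ?_⟩
  obtain ⟨-, -, d, hd, hde⟩ := H73.fusGen_of_central hW hV hWZ hVZ hVmono P hloc X a⁻¹ hX
    (by simpa [H73.cset] using haX) X subset_rfl (Or.inl hX)
  obtain ⟨n, e, he0, hstep, hin, hlast⟩ := hd.to_fin hX
  set b : Fin n → G := fun i => (e i.succ * (e i.castSucc)⁻¹)⁻¹ with hb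
  have htake : ∀ k : ℕ, (hk : k ≤ n) → ((List.ofFn b).take k).prod = (e ⟨k, Nat.lt_succ_of_le hk⟩)⁻¹ := by
    intro k
    induction k with
    | zero => intro _; rw [List.take_zero, List.prod_nil]; exact (by rw [show (⟨0, _⟩ : Fin (n + 1)) = 0 from rfl, he0, inv_one])
    | succ k ih =>
      intro hk
      refine (H73.take_ofFn_succ b ⟨k, hk⟩).trans ?_
      show ((List.ofFn b).take k).prod * _ = _
      rw [ih (Nat.le_of_succ_le hk)]
      show (e ⟨k, _⟩)⁻¹ * (e ⟨k + 1, _⟩ * (e ⟨k, _⟩)⁻¹)⁻¹ = (e ⟨k + 1, _⟩)⁻¹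
      group
  have hprod : (List.ofFn b).prod = d⁻¹ := by
    have h := htake n le_rfl
    rw [List.take_of_length_le (by simp)] at h
    rw [h, ← hlast]
    rfl
  have hfix : ∀ x ∈ X, (a * d) * x * (a * d)⁻¹ = x := fun x hx => by
    calc (a * d) * x * (a * d)⁻¹ = a * (d * x * d⁻¹) * a⁻¹ := by group
      _ = x := by rw [hde x hx]; group
  have hinv : (fun x => (a * d)⁻¹ * x * (a * d)) '' X = X := by
    have h : ∀ x ∈ X, (a * d)⁻¹ * x * (a * d) = x := fun x hx => by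
      conv_lhs => rw [← hfix x hx]
      group
    rw [Set.image_congr h, Set.image_id']
  refine ⟨a * d, ?_, n, b, fun i => ?_, ?_, fun k hk => ?_⟩
  · rw [Subgroup.mem_centralizer_iff]
    intro x hx
    exact ((mul_inv_eq_iff_eq_mul).mp (hfix x hx)).symm
  · exact (hstep i).imp (Subgroup.inv_mem _) (Subgroup.inv_mem _)
  · rw [hprod, mul_inv_cancel_right]
  · rw [htake k hk, hinv]
    simpa [H73.cset] using hin ⟨k, Nat.lt_succ_of_le hk⟩

end Cfsg.Agent.S2002
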