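import Cfsg.Statements.S2005
import Cfsg.Agent.H73.PComplementEngel

set_option autoImplicit false
universe u
open Cfsg

namespace Cfsg.Agent.S2005

/-- Thompson's normal p-complement criterion in functor form. Let p be a prime, G a finite group with Sylow p-subgroup S, and W an isomorphism-invariant p-group functor (W assigns to every group Q a subgroup W(Q), nontrivial whenever Q is a nontrivial finite p-group, and every isomorphism from a finite p-group Q onto a group R carries W(Q) onto W(R)). Suppose N_G(W(S)) has a normal p-complement, and that W(S*) is normal in G* whenever G* = K/R is a section of G with C_{G*}(O_p(G*)) ≤ O_p(G*) such that G*/O_p(G*) has a normal p-complement, and S* is a Sylow p-subgroup of G* that is a maximal subgroup of G*. Then G has a normal p-complement. -/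
theorem result {G : Type u} [Group G] [Finite G] {p : ℕ} [Fact p.Prime] (W : ∀ (Q : Type u) [Group Q], Subgroup Q) (hW : Cfsg.IsCharPFunctor.{u} p W) (S : Sylow p G) (hN : Cfsg.HasNormalPComplement p ↥(Subgroup.normalizer ((Cfsg.inducedFunctor (G := G) W (S : Subgroup G) : Subgroup G) : Set G))) (hloc : ∀ (K R : Subgroup G) [hR : (R.subgroupOf K).Normal], Subgroup.centralizer ((Cfsg.pCore p (↥K ⧸ R.subgroupOf K) : Subgroup (↥K ⧸ R.subgroupOf K)) : Set (↥K ⧸ R.subgroupOf K)) ≤ Cfsg.pCore p (↥K ⧸ R.subgroupOf K) → Cfsg.HasNormalPComplement p ((↥K ⧸ R.subgroupOf K) ⧸ Cfsg.pCore p (↥K ⧸ R.subgroupOf K)) → ∀ T : Sylow p (↥K ⧸ R.subgroupOf K), IsCoatom (T : Subgroup (↥K ⧸ R.subgroupOf K)) → (Cfsg.inducedFunctor (G := (↥K ⧸ R.subgroupOf K)) W ((T : Subgroup (↥K ⧸ R.subgroupOf K)))).Normal) : Cfsg.HasNormalPComplement p G := by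
  refine H73.pnil_of_functor hW (fun X _ _ hX hc hq T hmax => ?_) S hN
  obtain ⟨K, R, hR, ⟨e⟩⟩ := hX.exists_equiv
  haveI := H1.pCore_normal' p X
  set T' : Sylow p (↥K ⧸ R.subgroupOf K) :=
    T.mapSurjective (f := e.symm.toMonoidHom) e.symm.surjective with hT'
  have hTcoe : (T' : Subgroup (↥K ⧸ R.subgroupOf K)) = (T : Subgroup X).map e.symm.toMonoidHom := rfl
  have hQ : (Cfsg.pCore p X).map e.symm.toMonoidHom = Cfsg.pCore p (↥K ⧸ R.subgroupOf K) :=
    H1.map_pCore_equiv p e.symm
  have hWT : Cfsg.inducedFunctor W (T' : Subgroup (↥K ⧸ R.subgroupOf K)) =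
      (Cfsg.inducedFunctor W (T : Subgroup X)).map e.symm.toMonoidHom := by
    rw [hTcoe, H73.map_inducedFunctor hW e.symm.toMonoidHom e.symm.injective T.2]
  have h := hloc K R (H73.constrained_of_equiv e.symm hc)
    ((H5.hasNormalPComplement_congr (QuotientGroup.congr _ _ e.symm hQ)).mp hq) T'
    (by
      rw [hTcoe]
      exact (OrderIso.isCoatom_iff e.symm.mapSubgroup (T : Subgroup X)).mpr hmax)
  rw [hWT] at h
  have h' := h.comap e.symm.toMonoidHom
  rwa [Subgroup.comap_map_eq_self_of_injective e.symm.injective] at h'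

end Cfsg.Agent.S2005
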