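import Cfsg.Statements.S2006
import Cfsg.Agent.H73.PComplementEngel

set_option autoImplicit false
universe u
open Cfsg

namespace Cfsg.Agent.S2006

/-- Let p be a prime, G a finite group with Sylow p-subgroup S, and W an isomorphism-invariant p-group functor (W assigns to every group Q a subgroup W(Q), nontrivial whenever Q is a nontrivial finite p-group, and every isomorphism from a finite p-group Q onto a group R carries W(Q) onto W(R)). Suppose N_G(W(S)) has a normal p-complement, and that whenever G* = K/R is a section of G with C_{G*}(O_p(G*)) ≤ O_p(G*) and S* is a Sylow p-subgroup of G* with W(S*) not normal in G*, there are an element g of S* outside O_p(G*) and a chief factor X/Y of G* with X ≤ O_p(G*) such that [X, g, …, g] ≤ Y with p − 1 entries g but [X, g] ≰ Y. Then G has a normal p-complement. -/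
theorem result {G : Type u} [Group G] [Finite G] {p : ℕ} [Fact p.Prime] (W : ∀ (Q : Type u) [Group Q], Subgroup Q) (hW : Cfsg.IsCharPFunctor.{u} p W) (S : Sylow p G) (hN : Cfsg.HasNormalPComplement p ↥(Subgroup.normalizer ((Cfsg.inducedFunctor (G := G) W (S : Subgroup G) : Subgroup G) : Set G))) (hloc : ∀ (K R : Subgroup G) [hR : (R.subgroupOf K).Normal], Subgroup.centralizer ((Cfsg.pCore p (↥K ⧸ R.subgroupOf K) : Subgroup (↥K ⧸ R.subgroupOf K)) : Set (↥K ⧸ R.subgroupOf K)) ≤ Cfsg.pCore p (↥K ⧸ R.subgroupOf K) → ∀ T : Sylow p (↥K ⧸ R.subgroupOf K), ¬ (Cfsg.inducedFunctor (G := (↥K ⧸ R.subgroupOf K)) W ((T : Subgroup (↥K ⧸ R.subgroupOf K)))).Normal → ∃ g : (↥K ⧸ R.subgroupOf K), g ∈ (T : Subgroup (↥K ⧸ R.subgroupOf K)) ∧ g ∉ Cfsg.pCore p (↥K ⧸ R.subgroupOf K) ∧ ∃ U V : Subgroup (↥K ⧸ R.subgroupOf K), Cfsg.IsChiefFactor U V ∧ U ≤ Cfsg.pCore p (↥K ⧸ R.subgroupOf K) ∧ Cfsg.iterCommutator U (Subgroup.zpowers g) (p - 1) ≤ V ∧ ¬ ⁅U, Subgroup.zpowers g⁆ ≤ V) : Cfsg.HasNormalPComplement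 p G := by
  refine H73.pnil_of_functor hW (fun X _ _ hX hc hq T hmax => ?_) S hN
  obtain ⟨K, R, hR, ⟨e⟩⟩ := hX.exists_equiv
  haveI := H1.pCore_normal' p X
  set T' : Sylow p (↥K ⧸ R.subgroupOf K) :=
    T.mapSurjective (f := e.symm.toMonoidHom) e.symm.surjective with hT'
  have hTcoe : (T' : Subgroup (↥K ⧸ R.subgroupOf K)) = (T : Subgroup X).map e.symm.toMonoidHom := rfl
  have hQ : (Cfsg.pCore p X).map e.symm.toMonoidHom = Cfsg.pCore p (↥K ⧸ R.subgroupOf K) :=
    H1.map_pCore_equiv p e.symm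
  have hWT : Cfsg.inducedFunctor W (T' : Subgroup (↥K ⧸ R.subgroupOf K)) =
      (Cfsg.inducedFunctor W (T : Subgroup X)).map e.symm.toMonoidHom := by
    rw [hTcoe, H73.map_inducedFunctor hW e.symm.toMonoidHom e.symm.injective T.2]
  by_contra hn
  obtain ⟨g, hg, hgQ, U, V, hUV, hU, hiter, hne⟩ := hloc K R (H73.constrained_of_equiv e.symm hc) T'
    (fun h => hn (by
      rw [hWT] at h
      have h' := h.comap e.symm.toMonoidHom
      rwa [Subgroup.comap_map_eq_self_of_injective e.symm.injective] at h'))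
  have hee : ∀ A : Subgroup (↥K ⧸ R.subgroupOf K), (A.map e.toMonoidHom).map e.symm.toMonoidHom = A := fun A => by
    rw [Subgroup.map_map]
    convert Subgroup.map_id A
    ext x
    simp
  have hQ' : (Cfsg.pCore p (↥K ⧸ R.subgroupOf K)).map e.toMonoidHom = Cfsg.pCore p X :=
    H1.map_pCore_equiv p e
  refine H73.engel_contradiction hq T hmax (g := e g) ?_ ?_ (H73.isChiefFactor_map_equiv e hUV)
    (hQ' ▸ Subgroup.map_mono hU) ?_ ?_
  · rw [hTcoe] at hg
    obtain ⟨t, ht, rfl⟩ := hg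
    simp only [MulEquiv.coe_toMonoidHom, MulEquiv.apply_symm_apply]; exact ht
  · intro h
    apply hgQ
    rw [← hQ]
    exact ⟨e g, h, by simp⟩
  · rw [show Subgroup.zpowers (e g) = (Subgroup.zpowers g).map e.toMonoidHom from
      (MonoidHom.map_zpowers e.toMonoidHom g).symm, ← H73.map_iterCommutator_equiv]
    exact Subgroup.map_mono hiter
  · rw [show Subgroup.zpowers (e g) = (Subgroup.zpowers g).map e.toMonoidHom from
      (MonoidHom.map_zpowers e.toMonoidHom g).symm, ← Subgroup.map_commutator]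
    exact fun h => hne ((Subgroup.map_le_map_iff_of_injective e.injective).mp h)

end Cfsg.Agent.S2006
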