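import Cfsg.Statements.S2008
import Cfsg.Agent.H73.Small

set_option autoImplicit false
open Cfsg

namespace Cfsg.Agent.S2008

/-- Let H be a finite group and z an involution such that every proper normal subgroup of H meets the centralizer of z trivially, and suppose z lies in a Klein four-subgroup E of H all three of whose involutions are conjugate to z in H. Then H has no non-trivial abelian normal subgroup. -/
theorem result {H : Type*} [Group H] [Finite H] (z : H) (hz : orderOf z = 2) (hN : ∀ N : Subgroup H, N.Normal → N ≠ ⊤ → N ⊓ Subgroup.centralizer ({z} : Set H) = ⊥) (E : Subgroup H) (hE : IsKleinFour ↥E) (hzE : z ∈ E) (hc : ∀ e ∈ E, e ≠ 1 → IsConj z e) (N : Subgroup H) [N.Normal] (hab : IsMulCommutative ↥N) : N = ⊥ := by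
  by_cases hne : N = ⊤
  · exfalso
    subst hne
    have hcomm : ∀ a b : H, a * b = b * a := fun a b =>
      congrArg Subtype.val (hab.is_comm.comm (⟨a, Subgroup.mem_top a⟩ : (⊤ : Subgroup H)) ⟨b, Subgroup.mem_top b⟩)
    have hle : Nat.card E ≤ 2 := by
      rw [← hz, ← Nat.card_zpowers]
      refine Subgroup.card_le_of_le fun e he => ?_
      rcases eq_or_ne e 1 with rfl | h1
      · exact Subgroup.one_mem _
      · obtain ⟨c, rfl⟩ := isConj_iff.mp (hc e he h1)
        rw [hcomm c z, mul_inv_cancel_right]
        exact Subgroup.mem_zpowers z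
    rw [hE.card_four] at hle
    omega
  · exact H73.normal_eq_bot_of_fourGroup hz hN E hE hzE hc N hne

end Cfsg.Agent.S2008
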