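import Cfsg.Statements.S2015
import Cfsg.Agent.H73.TransferCriteria

set_option autoImplicit false
universe u
open Cfsg

namespace Cfsg.Agent.S2015

/-- For p ≥ 5, every finite p-group P has a characteristic subgroup K containing Z(P), depending only on P, whose normalizer controls transfer wherever P is a Sylow subgroup: for every finite group G and every embedding ι of P onto a Sylow p-subgroup of G, the intersection of ι(P) with the derived subgroup of G equals its intersection with the derived subgroup of N_G(ι(K)). -/
theorem result (p : ℕ) [Fact p.Prime] (hp : 5 ≤ p) (P : Type u) [Group P] [Finite P] (hP : IsPGroup p P) : ∃ K : Subgroup P, K.Characteristic ∧ Subgroup.center P ≤ K ∧ ∀ (G : Type u) [Group G] [Finite G] (ι : P →* G), Function.Injective ι → (∃ T : Sylow p G, (T : Subgroup G) = ι.range) → ι.range ⊓ commutator G = ι.range ⊓ (commutator ↥(Subgroup.normalizer ((K.map ι : Subgroup G) : Set G))).map (Subgroup.normalizer ((K.map ι : Subgroup G) : Set G)).subtype := by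
  refine ⟨Cfsg.kInfLower P, ?_, ?_, fun G _ _ ι hι hT => ?_⟩
  · exact Subgroup.characteristic_iff_map_eq.mpr fun φ => (H73.map_kInf_equiv φ).1
  · intro x hx
    refine H73.centralizer_kInfLower_le hP ?_
    rw [Subgroup.mem_centralizer_iff]
    exact fun y _ => Subgroup.mem_center_iff.mp hx y
  · obtain ⟨T, hT⟩ := hT
    have hW := H73.kInfLower_isCharPFunctor.{u} (p := p)
    have hK : (Cfsg.kInfLower P).map ι = Cfsg.inducedFunctor Cfsg.kInfLower ι.range := by
      have h1 := H73.map_inducedFunctor hW ι hι (hP.to_subgroup (⊤ : Subgroup P))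
      rw [← MonoidHom.range_eq_map] at h1
      have h2 : (Cfsg.inducedFunctor Cfsg.kInfLower (⊤ : Subgroup P)) = Cfsg.kInfLower P :=
        hW.2 (⊤ : Subgroup P) P (hP.to_subgroup _) Subgroup.topEquiv
      rw [← h1, h2]
    have h := H73.controlsTransferIn_of_ctl (H73.ctl_kInfLower hp G (H73.IsSectionOf.refl G))
    have h3 := H73.controlsTransferIn_any (H73.isConjugacyFunctor_inducedFunctor hW G) h
      (H73.sylIn_top T)
    simp only [top_inf_eq] at h3
    rw [hK, Subgroup.map_subtype_commutator, ← hT]
    exact h3

end Cfsg.Agent.S2015
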