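import Cfsg.Statements.S2057
import Cfsg.Agent.H67.ThSchur.Main
import Cfsg.Agent.H93.Th.Twist
import Cfsg.Agent.H93.Th.Rho
import Cfsg.Agent.H67.ThSchur.Finite

set_option autoImplicit false
open Cfsg

namespace Cfsg.Agent.S2057

/-- The Schur multiplier of the Thompson group (the finitely presented group of the definitions) is trivial; here the Schur multiplier is described through stem extensions, as in the definitions: surjective homomorphisms onto the group from a finite group, whose kernel is central in that finite group and contained in that finite group's commutator subgroup. -/
theorem result : Cfsg.HasCyclicSchurMultiplier Cfsg.Spor.Th 1 := by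
  have : Finite Cfsg.Spor.Th := H67.ThSchur.finite_Th
  exact H67.ThSchur.hasCyclicSchurMultiplier_Th (H93.Th.iota_inj H93.Th.rho H93.Th.rho_of)

end Cfsg.Agent.S2057
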