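import Cfsg.Statements.S2068
import Cfsg.Agent.H94.J4.Cover
import Cfsg.Agent.H5.J4Out.FromCover

set_option autoImplicit false
open Cfsg

namespace Cfsg.Agent.S2068

/-- The outer automorphism group of the Janko group J₄ (the finitely presented group of the definitions) is trivial: every automorphism is inner. -/
theorem result : Nat.card (Cfsg.Out Cfsg.Spor.J4) = 1 := by
  exact H5.J4Out.card_out_of_cover H94.J4.iota H94.J4.iota_range H94.J4.card_NN.le H94.J4.q H94.J4.St
    H94.J4.hfix H94.J4.hidx H94.J4.hcov

end Cfsg.Agent.S2068
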