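import Cfsg.Statements.S2070
import Cfsg.Agent.H95.OutInst
-- import your own Cfsg.Agent.* helpers here

set_option autoImplicit false
open Cfsg

namespace Cfsg.Agent.S2070

/-- The outer automorphism group of the Conway group Co₂ (the stabiliser of a minimal vector of the rank-24 lattice) is trivial: every automorphism is inner. -/
theorem result : Nat.card (Cfsg.Out ↥Cfsg.Spor.Co2) = 1 := by
  have hu : H95.ldot Spor.leechU Spor.leechU = 32 := H95.pvU.norm
  obtain ⟨g, hg⟩ := H95.transitive_32 H95.golayUnique hu H95.oddL_norm
  exact ((H95.card_out_congr (H95.infStabEquiv Spor.leechU)).trans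
    (H95.card_out_congr (H95.stabEquiv g _ _ hg))).trans H95.co2Model.out_card

end Cfsg.Agent.S2070
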