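import Cfsg.Statements.S2081
import Cfsg.Agent.H98.M24.OutMain
import Cfsg.Agent.H40.Fischer.Exist2x
import Cfsg.Agent.H40.Fischer.M24Table

set_option autoImplicit false
open Cfsg

namespace Cfsg.Agent.S2081

/-- The outer automorphism group of the Fischer group Fi₂₄′ (the commutator subgroup of the presented group Fi₂₄) has order 2. -/
theorem result : Nat.card (Cfsg.Out Cfsg.Spor.Fi24') = 2 := by
  have F := H40.Fischer.M24.Table.facts
  have : Finite Cfsg.Spor.Fi24 := F.fin
  obtain ⟨hcl, hp, h24⟩ := H40.Fischer.M24.type_m24 F H40.Fischer.Exist2x.type_m23.2.2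
  exact H98.M24.card_out_commutator (H99.class_toGroup hcl) hp h24

end Cfsg.Agent.S2081
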