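import Cfsg.Statements.S2087
import Cfsg.Agent.H39.PSL2Multiplier
import Cfsg.Agent.H37.SmallIsoBig

set_option autoImplicit false
open Cfsg

namespace Cfsg.Agent.S2087

/-- Exceptional Schur multiplier: over the field with 2 elements, PSL₃ has Schur multiplier cyclic of order 2 (here the Schur multiplier is described through stem extensions, as in the definitions). -/
theorem result {F : Type*} [Field F] [Fintype F] (hF : Fintype.card F = 2) : Cfsg.HasCyclicSchurMultiplier (Matrix.ProjectiveSpecialLinearGroup (Fin 3) F) 2 := by
  haveI : Fact (Nat.Prime 7) := ⟨by norm_num⟩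
  let K := ULift.{_, 0} (ZMod 7)
  haveI : Fintype K := inferInstanceAs (Fintype (ULift (ZMod 7)))
  have hK : Fintype.card K = 7 := by
    rw [Fintype.card_congr Equiv.ulift, ZMod.card]
  obtain ⟨e⟩ := H37.PSL2_seven_mulEquiv_PSL3_two (F := K) (K := F) hK hF
  have h := H39.multiplier_PSL2 (F := K) (by omega) (by omega)
  rw [hK] at h
  exact H39.hasSchurMultiplier_congr e h

end Cfsg.Agent.S2087
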