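import Cfsg.Statements.S2088
import Cfsg.Agent.H39.L34.Cover
import Cfsg.Agent.H26.SchurBasic

set_option autoImplicit false
open Cfsg

namespace Cfsg.Agent.S2088

/-- Exceptional Schur multiplier: over the field with 4 elements, PSL₃ has Schur multiplier isomorphic to the product of cyclic groups of orders 3, 4 and 4 (order 48, not cyclic; here the Schur multiplier is described through stem extensions, as in the definitions). -/
theorem result {F : Type*} [Field F] [Fintype F] (hF : Fintype.card F = 4) : Cfsg.HasSchurMultiplier (Matrix.ProjectiveSpecialLinearGroup (Fin 3) F) (Multiplicative (ZMod 3 × ZMod 4 × ZMod 4)) := by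
  classical
  obtain ⟨w, hw0, hw1, hw⟩ := H76.L34.exists_omega hF
  let Q : H39.L34.F4Data F := ⟨w, hF, hw1, hw, H76.L34.two_eq_zero_of_card_four hF⟩
  obtain ⟨σ, hσ, f, hf⟩ := H39.L34.exists_stem Q
  set A := Multiplicative (ZMod 3 × ZMod 4 × ZMod 4)
  have hA : Nat.card A = 48 := by
    rw [Nat.card_congr Multiplicative.toAdd, Nat.card_prod, Nat.card_prod, Nat.card_zmod, Nat.card_zmod]
  have hK : Nat.card σ.ker ≤ 48 := Nat.le_of_dvd (by norm_num) (H39.L34.card_ker_dvd hF σ hσ)
  have hbij : Function.Bijective f := hf.bijective_of_nat_card_le (by rw [hA]; exact hK)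
  let eK : A ≃* σ.ker := MulEquiv.ofBijective f hbij
  -- the multiplier itself is a kernel, so has at most 48 elements
  haveI := H26.finite_schurM (f := H26.stdPres (Matrix.ProjectiveSpecialLinearGroup (Fin 3) F))
  letI : CommGroup (H26.SchurMul (Matrix.ProjectiveSpecialLinearGroup (Fin 3) F)) :=
    { (inferInstance : Group (H26.SchurMul (Matrix.ProjectiveSpecialLinearGroup (Fin 3) F))) with
      mul_comm := fun a b => Subtype.ext (Subgroup.mem_center_iff.1 (H26.cePi_ker_le_center b.2.1) a) }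
  have hM := H26.hasSchurMultiplier_iff.2
    ⟨MulEquiv.refl (H26.SchurMul (Matrix.ProjectiveSpecialLinearGroup (Fin 3) F))⟩
  obtain ⟨Γ, iΓ, iF, σ₀, hσ₀, ⟨e₀⟩⟩ := hM.1
  have hM48 : Nat.card (H26.SchurMul (Matrix.ProjectiveSpecialLinearGroup (Fin 3) F)) ≤ 48 := by
    rw [← Nat.card_congr e₀.toEquiv]
    exact Nat.le_of_dvd (by norm_num) (H39.L34.card_ker_dvd hF σ₀ hσ₀)
  obtain ⟨π, hπ⟩ := hM.2 _ σ hσ
  have hπb : Function.Bijective π := hπ.bijective_of_nat_card_le
    (by rw [← Nat.card_congr eK.toEquiv, hA]; exact hM48)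
  exact H26.hasSchurMultiplier_iff.2 ⟨eK.trans (MulEquiv.ofBijective π hπb).symm⟩

end Cfsg.Agent.S2088
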