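import Cfsg.Statements.S2090
import Cfsg.Agent.H81.U43.Cover
import Cfsg.Agent.H81.U43.Bound
import Cfsg.Agent.H26.SchurBasic

set_option autoImplicit false
open Cfsg

namespace Cfsg.Agent.S2090

/-- Exceptional Schur multiplier: PSU₄(3), realised over the field with 9 elements, has Schur multiplier isomorphic to the product of cyclic groups of orders 4, 3 and 3 (order 36, not cyclic; here the Schur multiplier is described through stem extensions, as in the definitions). -/
theorem result {F : Type*} [Field F] [Fintype F] (hF : Fintype.card F = 9) : Cfsg.HasSchurMultiplier (Cfsg.PSU 4 F 3) (Multiplicative (ZMod 4 × ZMod 3 × ZMod 3)) := by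
  classical
  obtain ⟨c⟩ := H81.U43.exists_coord hF
  obtain ⟨Γ, iΓ, iF, σ, hσ, ⟨eK⟩⟩ := H81.U43.exists_stem hF c
  have hA : Nat.card (Multiplicative (ZMod 4 × ZMod 3 × ZMod 3)) = 36 := by
    rw [Nat.card_congr Multiplicative.toAdd, Nat.card_prod, Nat.card_prod, Nat.card_zmod,
      Nat.card_zmod]
  haveI : Finite (Cfsg.PSU 4 F 3) := Finite.of_surjective σ hσ.1
  -- the multiplier itself is a kernel, so has at most 36 elements
  haveI := H26.finite_schurM (f := H26.stdPres (Cfsg.PSU 4 F 3))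
  letI : CommGroup (H26.SchurMul (Cfsg.PSU 4 F 3)) :=
    { (inferInstance : Group (H26.SchurMul (Cfsg.PSU 4 F 3))) with
      mul_comm := fun a b => Subtype.ext (Subgroup.mem_center_iff.1 (H26.cePi_ker_le_center b.2.1) a) }
  have hM := H26.hasSchurMultiplier_iff.2 ⟨MulEquiv.refl (H26.SchurMul (Cfsg.PSU 4 F 3))⟩
  obtain ⟨Γ₀, iΓ₀, iF₀, σ₀, hσ₀, ⟨e₀⟩⟩ := hM.1
  have hM36 : Nat.card (H26.SchurMul (Cfsg.PSU 4 F 3)) ≤ 36 := by
    rw [← Nat.card_congr e₀.toEquiv]
    exact H81.U43.card_ker_le hF σ₀ hσ₀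
  obtain ⟨π, hπ⟩ := hM.2 _ σ hσ
  have hπb : Function.Bijective π := hπ.bijective_of_nat_card_le
    (by rw [Nat.card_congr eK.toEquiv, hA]; exact hM36)
  exact H26.hasSchurMultiplier_iff.2 ⟨eK.symm.trans (MulEquiv.ofBijective π hπb).symm⟩

end Cfsg.Agent.S2090
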