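import Cfsg.Statements.S2094
import Cfsg.Agent.H50.OrModels
-- import your own Cfsg.Agent.* helpers here

set_option autoImplicit false
open Cfsg

namespace Cfsg.Agent.S2094

/-- Schur multipliers of the odd-dimensional orthogonal groups: for m ≥ 3 and a field F of odd order q with (m, q) ≠ (3, 3), the Schur multiplier of PΩ_(2m+1)(F) (for the form x₀² + Σ xᵢyᵢ) is cyclic of order 2 = gcd(2, q − 1); here the Schur multiplier is described through stem extensions, as in the definitions. -/
theorem result {F : Type*} [Field F] [Fintype F] {q : ℕ} (hF : Fintype.card F = q) (hq : Odd q) (m : ℕ) (hm : 3 ≤ m) (hexc : ¬ (m = 3 ∧ q = 3)) : Cfsg.HasCyclicSchurMultiplier (Cfsg.POmega F (Cfsg.quadFormOdd m F)) 2 := by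
  classical
  subst hF
  obtain ⟨p, hp⟩ := CharP.exists F
  haveI : Fact p.Prime := ⟨CharP.char_is_prime F p⟩
  have h2 : (2 : F) ≠ 0 := H38.two_ne_zero_of_odd hq
  have hg : Nat.gcd 2 (Fintype.card F - 1) = 2 := by
    obtain ⟨c, hc⟩ := hq
    rw [hc]; simp
  rw [← H43.coe_qOdd]
  refine H39.hasSchurMultiplier_congr (H43.pomegaEquiv (H43.qOdd m F)).symm
    (H50.Or.multiplier_two (p := p) (H43.qOdd_nondeg h2 m) (by simp; omega)
      (H50.Or.regular_odd hq hm hexc) (hg ▸ H50.Or.bd_odd p hq m (by omega)) h2 fun h => h2 ?_)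
  have hd := ((H43.mem_commutator_iff_odd (H43.qOdd_nondeg h2 m) h2 (by simp; omega) _).1 h).1
  rw [H43.detHom_negOrth, Odd.neg_one_pow ⟨m, by simp; ring⟩] at hd
  have hd' : (-1 : F) = 1 := congrArg Units.val hd
  linear_combination -hd'

end Cfsg.Agent.S2094
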