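import Cfsg.Statements.S2096
import Cfsg.Agent.H50.OrModels
-- import your own Cfsg.Agent.* helpers here

set_option autoImplicit false
open Cfsg

namespace Cfsg.Agent.S2096

/-- Schur multipliers of the even-dimensional orthogonal groups of plus type and odd rank: for odd l ≥ 5 and a field F with q elements, the Schur multiplier of PΩ⁺_2l(F) (for the form Σ xᵢyᵢ) is cyclic of order gcd(4, q^l − 1); here the Schur multiplier is described through stem extensions, as in the definitions. -/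
theorem result {F : Type*} [Field F] [Fintype F] {q : ℕ} (hF : Fintype.card F = q) (l : ℕ) (hl : 5 ≤ l) (hodd : Odd l) : Cfsg.HasCyclicSchurMultiplier (Cfsg.POmega F (Cfsg.quadFormPlus l F)) (Nat.gcd 4 (q ^ l - 1)) := by
  classical
  subst hF
  obtain ⟨p, hp⟩ := CharP.exists F
  haveI : Fact p.Prime := ⟨CharP.char_is_prime F p⟩
  rw [← H43.coe_qPlus]
  refine H39.hasSchurMultiplier_congr (H43.pomegaEquiv (H43.qPlus l F)).symm ?_
  have hreg := H50.Or.regular_plus (F := F) (m := l) (by omega) (by omega)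
  have hbd := H50.Or.bd_plus p (F := F) l (by omega)
  have hn : 7 ≤ Module.finrank F (Fin l ⊕ Fin l → F) := by simp; omega
  have h1 := Fintype.one_lt_card (α := F)
  rcases H50.Or.two_or_two_ne (F := F) with ⟨h2, heven⟩ | ⟨h2, hq⟩
  · have hg : Nat.gcd 2 (Fintype.card F - 1) = 1 := by
      rw [Nat.gcd_rec, show (Fintype.card F - 1) % 2 = 1 by omega, Nat.gcd_one_left]
    have hg4 : Nat.gcd 4 (Fintype.card F ^ l - 1) = 1 := by
      have h3 : Fintype.card F ^ l % 2 = 0 :=
        Nat.even_iff.mp ((even_iff_two_dvd.2 heven).pow_of_ne_zero (by omega))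
      have h4 : 1 ≤ Fintype.card F ^ l := Nat.one_le_pow _ _ (by omega)
      rw [H38.gcd_four]; split_ifs <;> omega
    rw [hg4]
    exact H50.Or.multiplier_even (p := p) (H43.qPlus_nondeg l) hn hreg (hg ▸ hbd) h2
  have hg : Nat.gcd 2 (Fintype.card F - 1) = 2 := by
    obtain ⟨c, hc⟩ := hq
    rw [hc]; simp
  rw [hg] at hbd
  have h3 : Fintype.card F ^ l % 2 = 1 := Nat.odd_iff.mp hq.pow
  by_cases h4 : Fintype.card F ^ l % 4 = 1
  · have hsq := (H43.isSquare_neg_one_pow_iff rfl hq l).2 h4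
    rw [hodd.neg_one_pow] at hsq
    obtain ⟨i, hi⟩ := hsq
    obtain ⟨r, s, hrs⟩ := H50.Or.exists_two_squares (F := F)
    obtain ⟨j, rfl⟩ := hodd
    have hpb := H50.Or.pairBasis_plus h2 hrs j 1 (H50.Or.pairBasis_plus_one h2 hi.symm)
    rw [show 1 + 2 * j = 2 * j + 1 by omega] at hpb
    rw [show Nat.gcd 4 (Fintype.card F ^ (2 * j + 1) - 1) = 4 by
      rw [H38.gcd_four]; split_ifs <;> omega]
    exact H50.Or.multiplier_four (p := p) (H43.qPlus_nondeg _) hn hreg hbd h2 hpb ⟨j, rfl⟩
  · rw [show Nat.gcd 4 (Fintype.card F ^ l - 1) = 2 by rw [H38.gcd_four]; split_ifs <;> omega]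
    refine H50.Or.multiplier_two (p := p) (H43.qPlus_nondeg l) hn hreg hbd h2 fun h => h4 ?_
    have hm := H50.Or.exists_neg_matrix _ h
    rw [H43.coe_qPlus] at hm
    exact (H43.neg_one_mem_Omega_plus rfl hq l (by omega)).1 hm

end Cfsg.Agent.S2096
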