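import Cfsg.Statements.S2097
import Cfsg.Agent.H50.OrModels
-- import your own Cfsg.Agent.* helpers here

set_option autoImplicit false
open Cfsg

namespace Cfsg.Agent.S2097

/-- Schur multipliers of the even-dimensional orthogonal groups of plus type and even rank: for even l ≥ 4 and a field F with q elements, (l, q) ≠ (4, 2), the Schur multiplier of PΩ⁺_2l(F) (for the form Σ xᵢyᵢ) is the product of two cyclic groups of order gcd(2, q^l − 1) (so trivial for q even and a four-group for q odd; here the Schur multiplier is described through stem extensions, as in the definitions). -/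
theorem result {F : Type*} [Field F] [Fintype F] {q : ℕ} (hF : Fintype.card F = q) (l : ℕ) (hl : 4 ≤ l) (heven : Even l) (hexc : ¬ (l = 4 ∧ q = 2)) : Cfsg.HasSchurMultiplier (Cfsg.POmega F (Cfsg.quadFormPlus l F)) (Multiplicative (ZMod (Nat.gcd 2 (q ^ l - 1)) × ZMod (Nat.gcd 2 (q ^ l - 1)))) := by
  classical
  subst hF
  obtain ⟨p, hp⟩ := CharP.exists F
  haveI : Fact p.Prime := ⟨CharP.char_is_prime F p⟩
  rw [← H43.coe_qPlus]
  refine H39.hasSchurMultiplier_congr (H43.pomegaEquiv (H43.qPlus l F)).symm ?_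
  have hreg := H50.Or.regular_plus (F := F) (m := l) hl hexc
  have hbd := H50.Or.bd_plus p (F := F) l (by omega)
  have hn : 7 ≤ Module.finrank F (Fin l ⊕ Fin l → F) := by simp; omega
  have h1 := Fintype.one_lt_card (α := F)
  have h5 : 1 ≤ Fintype.card F ^ l := Nat.one_le_pow _ _ (by omega)
  rcases H50.Or.two_or_two_ne (F := F) with ⟨h2, heven2⟩ | ⟨h2, hq⟩
  · have hg : Nat.gcd 2 (Fintype.card F - 1) = 1 := by
      rw [Nat.gcd_rec, show (Fintype.card F - 1) % 2 = 1 by omega, Nat.gcd_one_left]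
    have h3 : Fintype.card F ^ l % 2 = 0 :=
      Nat.even_iff.mp ((even_iff_two_dvd.2 heven2).pow_of_ne_zero (by omega))
    rw [show Nat.gcd 2 (Fintype.card F ^ l - 1) = 1 by
      rw [Nat.gcd_rec, show (Fintype.card F ^ l - 1) % 2 = 1 by omega, Nat.gcd_one_left]]
    obtain ⟨⟨Γ, iΓ, iF, σ, hσ, ⟨e⟩⟩, huniv⟩ :=
      H50.Or.multiplier_even (p := p) (H43.qPlus_nondeg l) hn hreg (hg ▸ hbd) h2
    let f : Multiplicative (ZMod 1) ≃* Multiplicative (ZMod 1 × ZMod 1) :=
      { toFun := fun _ => 1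
        invFun := fun _ => 1
        left_inv := fun _ => Subsingleton.elim _ _
        right_inv := fun _ => Subsingleton.elim _ _
        map_mul' := fun _ _ => (mul_one 1).symm }
    refine ⟨⟨Γ, iΓ, iF, σ, hσ, ⟨e.trans f⟩⟩, fun Δ _ _ τ hτ => ?_⟩
    obtain ⟨π, hπ⟩ := huniv Δ τ hτ
    exact ⟨π.comp f.symm.toMonoidHom, hπ.comp f.symm.surjective⟩
  have hg : Nat.gcd 2 (Fintype.card F - 1) = 2 := by
    obtain ⟨c, hc⟩ := hq
    rw [hc]; simp
  rw [hg] at hbd
  have h3 : Fintype.card F ^ l % 2 = 1 := Nat.odd_iff.mp hq.pow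
  obtain ⟨r, s, hrs⟩ := H50.Or.exists_two_squares (F := F)
  obtain ⟨j, rfl⟩ := heven
  have hpb := H50.Or.pairBasis_plus h2 hrs j 0 H50.Or.pairBasis_plus_zero
  rw [show 0 + 2 * j = j + j by omega] at hpb
  rw [show Nat.gcd 2 (Fintype.card F ^ (j + j) - 1) = 2 by
    rw [Nat.gcd_rec, show (Fintype.card F ^ (j + j) - 1) % 2 = 0 by omega, Nat.gcd_zero_left]]
  exact H50.Or.multiplier_klein (p := p) (H43.qPlus_nondeg _) hn hreg hbd h2 hpb ⟨j, rfl⟩

end Cfsg.Agent.S2097
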