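import Cfsg.Statements.S2099
import Cfsg.Agent.H50.OrModels
-- import your own Cfsg.Agent.* helpers here

set_option autoImplicit false
open Cfsg

namespace Cfsg.Agent.S2099

/-- Schur multipliers of the even-dimensional orthogonal groups of minus type: for l ≥ 4 and a field F with q elements, the Schur multiplier of PΩ⁻_2l(F) (for the form Σ_{i<l−1} xᵢyᵢ + z₁² + a z₁z₂ + b z₂² with the binary part anisotropic) is cyclic of order gcd(4, q^l + 1); here the Schur multiplier is described through stem extensions, as in the definitions. -/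
theorem result {F : Type*} [Field F] [Fintype F] {q : ℕ} (hF : Fintype.card F = q) (l : ℕ) (hl : 4 ≤ l) (a b : F) (hab : ∀ z₁ z₂ : F, z₁ ^ 2 + a * z₁ * z₂ + b * z₂ ^ 2 = 0 → z₁ = 0 ∧ z₂ = 0) : Cfsg.HasCyclicSchurMultiplier (Cfsg.POmega F (Cfsg.quadFormMinus (l - 1) F a b)) (Nat.gcd 4 (q ^ l + 1)) := by
  classical
  subst hF
  obtain ⟨p, hp⟩ := CharP.exists F
  haveI : Fact p.Prime := ⟨CharP.char_is_prime F p⟩
  rw [← H43.coe_qMinus]
  refine H39.hasSchurMultiplier_congr (H43.pomegaEquiv (H43.qMinus (l - 1) F a b)).symm ?_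
  have hreg := H50.Or.regular_minus (F := F) (m := l - 1) (by omega) a b hab
  have hbd := H50.Or.bd_minus p (F := F) (l - 1) (by omega) a b hab
  have hn : 7 ≤ Module.finrank F ((Fin (l - 1) ⊕ Fin (l - 1)) ⊕ Fin 2 → F) := by simp; omega
  have h1 := Fintype.one_lt_card (α := F)
  have hnd := H43.qMinus_nondeg (l - 1) hab
  rcases H50.Or.two_or_two_ne (F := F) with ⟨h2, heven⟩ | ⟨h2, hq⟩
  · have hg : Nat.gcd 2 (Fintype.card F - 1) = 1 := by
      rw [Nat.gcd_rec, show (Fintype.card F - 1) % 2 = 1 by omega, Nat.gcd_one_left]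
    have h3 : Fintype.card F ^ l % 2 = 0 :=
      Nat.even_iff.mp ((even_iff_two_dvd.2 heven).pow_of_ne_zero (by omega))
    rw [show Nat.gcd 4 (Fintype.card F ^ l + 1) = 1 by rw [H38.gcd_four]; split_ifs <;> omega]
    rw [hg] at hbd
    exact H50.Or.multiplier_even (p := p) hnd hn hreg hbd h2
  have hg : Nat.gcd 2 (Fintype.card F - 1) = 2 := by
    obtain ⟨c, hc⟩ := hq
    rw [hc]; simp
  rw [hg] at hbd
  have h3 : Fintype.card F ^ l % 2 = 1 := Nat.odd_iff.mp hq.pow
  by_cases h4 : Fintype.card F ^ l % 4 = 3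
  · have hnsq : ¬ IsSquare ((-1 : F) ^ l) := fun h => by
      have := (H43.isSquare_neg_one_pow_iff rfl hq l).1 h
      omega
    obtain ⟨j, rfl⟩ : Odd l := by
      rcases Nat.even_or_odd l with he | ho
      · exact absurd (by rw [he.neg_one_pow]; exact IsSquare.one) hnsq
      · exact ho
    rw [(show Odd (2 * j + 1) from ⟨j, rfl⟩).neg_one_pow] at hnsq
    have hd := H43.disc_ne_zero_of_anisotropic hab
    have hns : ¬ IsSquare (a ^ 2 - 4 * b) := by
      rintro ⟨r, hr⟩
      have := hab ((r - a) / 2) 1 (by field_simp; linear_combination -hr)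
      simp at this
    obtain ⟨r, hr⟩ : IsSquare (4 * b - a * a) := by
      rw [show 4 * b - a * a = -1 * (a ^ 2 - 4 * b) by ring,
        ← quadraticChar_one_iff_isSquare (mul_ne_zero (neg_ne_zero.2 one_ne_zero) hd), map_mul,
        quadraticChar_neg_one_iff_not_isSquare.mpr hnsq,
        quadraticChar_neg_one_iff_not_isSquare.mpr hns]
      norm_num
    have hr0 : r ≠ 0 := fun h => hd (by rw [h] at hr; linear_combination -hr)
    obtain ⟨x, y, hxy⟩ := H50.Or.exists_two_squares (F := F)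
    have hpb := H50.Or.pairBasis_minus h2 hxy hab
      (H50.Or.pairBasis_minus_zero h2 hr.symm hr0) j
    rw [show Nat.gcd 4 (Fintype.card F ^ (2 * j + 1) + 1) = 4 by
      rw [H38.gcd_four]; split_ifs <;> omega]
    exact H50.Or.multiplier_four (p := p) hnd hn hreg hbd h2 hpb ⟨j, rfl⟩
  · rw [show Nat.gcd 4 (Fintype.card F ^ l + 1) = 2 by rw [H38.gcd_four]; split_ifs <;> omega]
    refine H50.Or.multiplier_two (p := p) hnd hn hreg hbd h2 fun h => h4 ?_
    have hm := H50.Or.exists_neg_matrix _ h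
    rw [H43.coe_qMinus] at hm
    exact (H43.neg_one_mem_Omega_minus rfl hq l (by omega) a b hab).1 hm

end Cfsg.Agent.S2099
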