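import Cfsg.Statements.S2100
import Cfsg.Agent.H76.ExcCtx
import Cfsg.Agent.H76.ExcData

set_option autoImplicit false
open Cfsg

namespace Cfsg.Agent.S2100

/-- Schur multipliers of the Chevalley groups of type G₂: over a field with q ≥ 5 elements the Schur multiplier of G₂(q) is trivial (here the Schur multiplier is described through stem extensions, as in the definitions); the cases q = 3 and q = 4 are exceptional and q = 2 gives a non-simple group. -/
theorem result {F : Type*} [Field F] [Fintype F] (hF : 5 ≤ Fintype.card F) : Cfsg.HasCyclicSchurMultiplier ↥(Cfsg.Lie.chevG2.group F) 1 := by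
  classical
  refine H76.Exc.trivial_multiplier fun Γ _ _ σ hσ => ?_
  obtain ⟨L⟩ : Nonempty (H76.Exc.Lifts H76.Exc.ctxG2 σ) :=
    H76.Exc.lifts_of_checks hσ.1 hσ.2.1 (M := 3) (N := 1) (by omega)
      (fun n h1 h1' => by obtain rfl : n = 1 := by omega
                          simp)
      H76.Exc.unitG2 H76.Exc.goodG2
      (H76.Exc.self_of_five hσ.1 hσ.2.1 hF (by decide +kernel))
  obtain ⟨f, hf⟩ := H76.Exc.stem_ker hσ L
  refine H76.Exc.card_eq_one_of_hom f hf ?_
  rw [H76.Exc.card_tor_ker H76.Exc.ctxG2 H52.divisorsG2]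
  refine Finset.prod_eq_one fun i _ => ?_
  rw [(by decide : ∀ j : Fin 2, (![1, 1] : Fin 2 → ℕ) j = 1) i, Nat.gcd_one_right]

end Cfsg.Agent.S2100
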