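import Cfsg.Statements.S2103
import Cfsg.Agent.H76.ExcCtx
import Cfsg.Agent.H76.ExcData

set_option autoImplicit false
open Cfsg

namespace Cfsg.Agent.S2103

/-- Schur multipliers of the Chevalley groups of type F₄: over a finite field with more than 2 elements the Schur multiplier of F₄(q) is trivial (here the Schur multiplier is described through stem extensions, as in the definitions); q = 2 is exceptional. -/
theorem result {F : Type*} [Field F] [Fintype F] (hF : 3 ≤ Fintype.card F) : Cfsg.HasCyclicSchurMultiplier ↥(Cfsg.Lie.chevF4.group F) 1 := by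
  classical
  refine H76.Exc.trivial_multiplier fun Γ _ _ σ hσ => ?_
  have h2 : (Fintype.card F = 3) → ∀ n : ℕ, 1 ≤ n → n ≤ 2 → (n : F) ≠ 0 := by
    intro h3 n h1 h2 he
    have h := FiniteField.cast_card_eq_zero F
    rw [h3] at h
    push_cast at h
    rcases (by omega : n = 1 ∨ n = 2) with rfl | rfl
    · simp at he
    · push_cast at he
      exact one_ne_zero (α := F) (by linear_combination h - he)
  obtain ⟨L⟩ : Nonempty (H76.Exc.Lifts H76.Exc.ctxF4 σ) := by
    have hN1 : ∀ n : ℕ, 1 ≤ n → n ≤ 1 → (n : F) ≠ 0 := by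
      intro n h1 h1'
      obtain rfl : n = 1 := by omega
      simp
    have hS := H76.Exc.self_of_selfOK (C := H76.Exc.ctxF4) hσ.1 hσ.2.1 hN1 H76.Exc.selfF4
    by_cases hq : Fintype.card F = 3
    · exact H76.Exc.lifts_of_checks hσ.1 hσ.2.1 (M := 1) (by omega) (h2 hq) H76.Exc.unitF4
        H76.Exc.goodF4_three hS
    · refine H76.Exc.lifts_of_checks hσ.1 hσ.2.1 (M := 2) (by omega) hN1 ?_ H76.Exc.goodF4_two hS
      exact H76.Exc.unitOK_mono (by norm_num) H76.Exc.unitF4
  obtain ⟨f, hf⟩ := H76.Exc.stem_ker hσ L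
  refine H76.Exc.card_eq_one_of_hom f hf ?_
  rw [H76.Exc.card_tor_ker H76.Exc.ctxF4 H52.divisorsF4]
  refine Finset.prod_eq_one fun i _ => ?_
  rw [(by decide : ∀ j : Fin 4, (![1, 1, 1, 1] : Fin 4 → ℕ) j = 1) i, Nat.gcd_one_right]

end Cfsg.Agent.S2103
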