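import Cfsg.Statements.S2105
import Cfsg.Agent.H76.ExcCover
import Cfsg.Agent.H76.ExcData

set_option autoImplicit false
open Cfsg

namespace Cfsg.Agent.S2105

/-- Schur multipliers of the (adjoint, simple) Chevalley groups of type E₆: over a field with q elements the Schur multiplier is cyclic of order gcd(3, q − 1) (here the Schur multiplier is described through stem extensions, as in the definitions). -/
theorem result {F : Type*} [Field F] [Fintype F] {q : ℕ} (hF : Fintype.card F = q) : Cfsg.HasCyclicSchurMultiplier ↥(Cfsg.Lie.chevE6.group F) (Nat.gcd 3 (q - 1)) := by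
  classical
  subst hF
  have hmem : Cfsg.Lie.chevE6 ∈ [Cfsg.Lie.chevG2, Cfsg.Lie.chevB2, Cfsg.Lie.chevD4,
      Cfsg.Lie.chevF4, Cfsg.Lie.chevE6, Cfsg.Lie.chevE7, Cfsg.Lie.chevE8] := by simp
  have hP := H53.hasPairs_of_mem hmem
  have hj : ∀ i : Fin 6, i ≠ 5 → (![1, 1, 1, 1, 1, 3] : Fin 6 → ℕ) i = 1 := by decide
  have hC := H76.Exc.ctxE6.hC
  have hok := H76.Exc.ctxE6.hok
  obtain ⟨θ, hθ⟩ := H53.exists_stHom (F := F) hC
  have hS := H53.stSys_rel θ hθ
  refine H76.Exc.cyclic_multiplier H76.Exc.ctxE6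
    (H76.Exc.steinbergGroup_perfect H54.perfectOK_E6 (H54.killedFirst_of_mem _ (by simp)))
    H52.divisorsE6 ⟨5, by decide⟩ hj (Nat.gcd_comm _ _) H53.card_center_E6
    (H76.Exc.isCyclic_center H76.Exc.ctxE6 hP H52.divisorsE6 ⟨5, by decide⟩ hj)
    (H53.ChevSys.thetaG hC hok hS hP)
    (H53.ChevSys.thetaG_surjective hC H76.Exc.ctxE6.W hok hS hP)
    (H53.ChevSys.ker_eq_center hC H76.Exc.ctxE6.W hok hS hP) fun Γ _ _ σ hσ => ?_
  have hN1 : ∀ n : ℕ, 1 ≤ n → n ≤ 1 → (n : F) ≠ 0 := by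
    intro n h1 h1'
    obtain rfl : n = 1 := by omega
    simp
  have := Fintype.one_lt_card (α := F)
  by_cases hq : Fintype.card F = 2
  · exact ⟨H76.Exc.twoLifts H76.Exc.ctxE6 hσ.1 hσ.2.1 hq H76.Exc.pairTwoE6 H76.Exc.joinE6
      H76.Exc.splitE6⟩
  · exact H76.Exc.lifts_of_checks hσ.1 hσ.2.1 (M := 1) (by omega) hN1 H76.Exc.unitE6
      H76.Exc.goodE6 (H76.Exc.self_of_selfOK hσ.1 hσ.2.1 hN1 H76.Exc.selfE6)

end Cfsg.Agent.S2105
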