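import Cfsg.Statements.S2106
import Cfsg.Agent.H76.ExcCover
import Cfsg.Agent.H76.ExcData

set_option autoImplicit false
open Cfsg

namespace Cfsg.Agent.S2106

/-- Schur multipliers of the (adjoint, simple) Chevalley groups of type E₇: over a field with q elements the Schur multiplier is cyclic of order gcd(2, q − 1) (here the Schur multiplier is described through stem extensions, as in the definitions). -/
theorem result {F : Type*} [Field F] [Fintype F] {q : ℕ} (hF : Fintype.card F = q) : Cfsg.HasCyclicSchurMultiplier ↥(Cfsg.Lie.chevE7.group F) (Nat.gcd 2 (q - 1)) := by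
  classical
  subst hF
  have hmem : Cfsg.Lie.chevE7 ∈ [Cfsg.Lie.chevG2, Cfsg.Lie.chevB2, Cfsg.Lie.chevD4,
      Cfsg.Lie.chevF4, Cfsg.Lie.chevE6, Cfsg.Lie.chevE7, Cfsg.Lie.chevE8] := by simp
  have hP := H53.hasPairs_of_mem hmem
  have hj : ∀ i : Fin 7, i ≠ 6 → (![1, 1, 1, 1, 1, 1, 2] : Fin 7 → ℕ) i = 1 := by decide
  have hC := H76.Exc.ctxE7.hC
  have hok := H76.Exc.ctxE7.hok
  obtain ⟨θ, hθ⟩ := H53.exists_stHom (F := F) hC
  have hS := H53.stSys_rel θ hθ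
  refine H76.Exc.cyclic_multiplier H76.Exc.ctxE7
    (H76.Exc.steinbergGroup_perfect H54.perfectOK_E7 (H54.killedFirst_of_mem _ (by simp)))
    H52.divisorsE7 ⟨6, by decide⟩ hj (Nat.gcd_comm _ _) H53.card_center_E7
    (H76.Exc.isCyclic_center H76.Exc.ctxE7 hP H52.divisorsE7 ⟨6, by decide⟩ hj)
    (H53.ChevSys.thetaG hC hok hS hP)
    (H53.ChevSys.thetaG_surjective hC H76.Exc.ctxE7.W hok hS hP)
    (H53.ChevSys.ker_eq_center hC H76.Exc.ctxE7.W hok hS hP) fun Γ _ _ σ hσ => ?_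
  have hN1 : ∀ n : ℕ, 1 ≤ n → n ≤ 1 → (n : F) ≠ 0 := by
    intro n h1 h1'
    obtain rfl : n = 1 := by omega
    simp
  have := Fintype.one_lt_card (α := F)
  by_cases hq : Fintype.card F = 2
  · exact ⟨H76.Exc.twoLifts H76.Exc.ctxE7 hσ.1 hσ.2.1 hq H76.Exc.pairTwoE7 H76.Exc.joinE7
      H76.Exc.splitE7⟩
  · exact H76.Exc.lifts_of_checks hσ.1 hσ.2.1 (M := 1) (by omega) hN1 H76.Exc.unitE7
      H76.Exc.goodE7 (H76.Exc.self_of_selfOK hσ.1 hσ.2.1 hN1 H76.Exc.selfE7)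

end Cfsg.Agent.S2106
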