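import Cfsg.Statements.S2107
import Cfsg.Agent.H76.ExcCtx
import Cfsg.Agent.H76.ExcTwo
import Cfsg.Agent.H76.ExcDataE8

set_option autoImplicit false
open Cfsg

namespace Cfsg.Agent.S2107

/-- Schur multipliers of the Chevalley groups of type E₈: over every finite field the Schur multiplier of E₈(q) is trivial (here the Schur multiplier is described through stem extensions, as in the definitions). -/
theorem result {F : Type*} [Field F] [Fintype F] : Cfsg.HasCyclicSchurMultiplier ↥(Cfsg.Lie.chevE8.group F) 1 := by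
  classical
  refine H76.Exc.trivial_multiplier fun Γ _ _ σ hσ => ?_
  have hN1 : ∀ n : ℕ, 1 ≤ n → n ≤ 1 → (n : F) ≠ 0 := by
    intro n h1 h1'
    obtain rfl : n = 1 := by omega
    simp
  obtain ⟨L⟩ : Nonempty (H76.Exc.Lifts H76.Exc.ctxE8 σ) := by
    have := Fintype.one_lt_card (α := F)
    by_cases hq : Fintype.card F = 2
    · exact ⟨H76.Exc.twoLifts H76.Exc.ctxE8 hσ.1 hσ.2.1 hq H76.Exc.pairTwoE8 H76.Exc.joinE8
        H76.Exc.splitE8⟩
    · exact H76.Exc.lifts_of_checks hσ.1 hσ.2.1 (M := 1) (by omega) hN1 H76.Exc.unitE8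
        H76.Exc.goodE8 (H76.Exc.self_of_selfOK hσ.1 hσ.2.1 hN1 H76.Exc.selfE8)
  obtain ⟨f, hf⟩ := H76.Exc.stem_ker hσ L
  refine H76.Exc.card_eq_one_of_hom f hf ?_
  rw [H76.Exc.card_tor_ker H76.Exc.ctxE8 H52.divisorsE8]
  refine Finset.prod_eq_one fun i _ => ?_
  rw [(by decide : ∀ j : Fin 8, (![1, 1, 1, 1, 1, 1, 1, 1] : Fin 8 → ℕ) j = 1) i,
    Nat.gcd_one_right]

end Cfsg.Agent.S2107
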