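import Cfsg.Statements.S2108
import Cfsg.Agent.H50.TwE6Cover
import Cfsg.Agent.H76.ExcFinite

set_option autoImplicit false
open Cfsg

namespace Cfsg.Agent.S2108

/-- Schur multipliers of the twisted groups of type ²E₆: for a prime power q ≠ 2, with the group realised over the field with q² elements, the Schur multiplier of ²E₆(q) is cyclic of order gcd(3, q + 1) (here the Schur multiplier is described through stem extensions, as in the definitions); q = 2 is exceptional. -/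
theorem result {K : Type*} [Field K] [Fintype K] {q : ℕ} (hq : IsPrimePow q) (hK : Fintype.card K = q ^ 2) (h2 : q ≠ 2) : Cfsg.HasCyclicSchurMultiplier ↥(Cfsg.Lie.twistedE6 K q) (Nat.gcd 3 (q + 1)) := by
  classical
  have hq3 : 3 ≤ q := by have := hq.two_le; omega
  obtain ⟨T, X, hf⟩ := H52.exists_twistE6 hq hK
  rw [← H52.twistE6_grp X hf hK]
  rcases (Nat.dvd_prime Nat.prime_three).1 (Nat.gcd_dvd_left 3 (q + 1)) with hg | hg
  · rw [hg]
    refine H76.Exc.trivial_multiplier fun Γ _ _ σ hσ => Nat.dvd_one.1 ?_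
    exact hg ▸ H50.Tw.e6_ker_dvd X hf hK hq3 hσ.1 hσ.2.1 hσ.2.2
  · obtain ⟨Γ, hΓ, hfin, σ, hσ, h3⟩ :=
      H50.Tw.e6_exists_cover X hf hK hq3 (hg ▸ Nat.gcd_dvd_right 3 (q + 1))
    have : Fact (Nat.Prime 3) := ⟨Nat.prime_three⟩
    rw [hg]
    refine ⟨⟨Γ, hΓ, hfin, σ, hσ, ⟨?_⟩⟩, fun Δ _ _ τ hτ => ?_⟩
    · exact mulEquivOfPrimeCardEq (p := 3) h3 (by simp)
    have hd := hg ▸ H50.Tw.e6_ker_dvd X hf hK hq3 hτ.1 hτ.2.1 hτ.2.2
    rcases (Nat.dvd_prime Nat.prime_three).1 hd with h | h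
    · haveI := (Nat.card_eq_one_iff_unique.1 h).1
      exact ⟨1, fun z => ⟨1, Subsingleton.elim _ _⟩⟩
    · have e : Multiplicative (ZMod 3) ≃* τ.ker := mulEquivOfPrimeCardEq (p := 3) (by simp) h
      exact ⟨e.toMonoidHom, e.surjective⟩

end Cfsg.Agent.S2108
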