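import Cfsg.Statements.S2110
import Cfsg.Agent.H50.TwD4Two
import Cfsg.Agent.H76.ExcFinite

set_option autoImplicit false
open Cfsg

namespace Cfsg.Agent.S2110

/-- Schur multipliers of the triality-twisted groups ³D₄: for every prime power q, with the group realised over the field with q³ elements, the Schur multiplier of ³D₄(q) is trivial (here the Schur multiplier is described through stem extensions, as in the definitions). -/
theorem result {K : Type*} [Field K] [Fintype K] {q : ℕ} (hq : IsPrimePow q) (hK : Fintype.card K = q ^ 3) : Cfsg.HasCyclicSchurMultiplier ↥(Cfsg.Lie.twistedD4 K q) 1 := by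
  classical
  obtain ⟨T, X, hf⟩ := H52.exists_twistD4 hq hK
  rw [← H52.twistD4_grp X hf hK]
  refine H76.Exc.trivial_multiplier fun Γ _ _ σ hσ => ?_
  obtain ⟨p, hp⟩ := CharP.exists K
  have : Fact p.Prime := ⟨CharP.char_is_prime K p⟩
  refine H50.Tw.d4_card_ker X hf hK hσ.1 hσ.2.1 (p := p) ?_ hσ.2.2
  rcases Nat.lt_or_ge q 3 with h | h
  · obtain rfl : q = 2 := by have := hq.two_le; omega
    have h2 := H50.Tw.d4_charTwo X hf hK
    obtain rfl : p = 2 := CharP.eq K hp h2
    exact H50.Tw.d4_two_not_dvd X hf hK hσ.1 hσ.2.1 hσ.2.2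
  · exact H50.Tw.d4_not_dvd X hf hK hσ.1 hσ.2.1 h hσ.2.2

end Cfsg.Agent.S2110
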