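import Cfsg.Statements.S2121
import Cfsg.Agent.H13.EA.Sym
-- import your own Cfsg.Agent.* helpers here

set_option autoImplicit false
open Cfsg

namespace Cfsg.Agent.S2121

/-- Outer automorphisms of the Chevalley groups of type G₂: over a field with q = p^f (p prime) ≥ 3 elements, the outer automorphism group of G₂(q) has order f when p ≠ 3 and 2f when p = 3 (field automorphisms, and in characteristic 3 also the exceptional graph automorphism). -/
theorem result {F : Type*} [Field F] [Fintype F] (p f : ℕ) [Fact p.Prime] [CharP F p] (hF : Fintype.card F = p ^ f) (hq : 3 ≤ p ^ f) : Nat.card (Cfsg.Out ↥(Cfsg.Lie.chevG2.group F)) = (if p = 3 then 2 * f else f) := by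
  obtain ⟨C⟩ := H54.exists_ctx (D := Cfsg.Lie.chevG2) (by simp)
  have : Nonempty (Fin Cfsg.Lie.chevG2.rank) := ⟨⟨0, by decide⟩⟩
  have h := H13.EA.symSet_G2 (F := F) C (by rw [Nat.card_eq_fintype_card, hF]; exact hq)
  rw [H13.EA.card_out_eq C (H13.EA.diagFacts_of_mem (by simp)) H52.divisorsG2 (p := p) hF]
  rw [ringChar.eq F p] at h
  rw [h]
  have hprod : ∏ i : Fin Cfsg.Lie.chevG2.rank, (p ^ f - 1).gcd (![1, 1] i) = 1 := by
    show ∏ i : Fin 2, _ = _
    simp [Fin.prod_univ_succ]
  rw [hprod]
  split_ifs <;> simp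

end Cfsg.Agent.S2121
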