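import Cfsg.Statements.S2122
import Cfsg.Agent.H13.EA.Sym
-- import your own Cfsg.Agent.* helpers here

set_option autoImplicit false
open Cfsg

namespace Cfsg.Agent.S2122

/-- Outer automorphisms of the Chevalley groups of type F₄: over a field with q = p^f (p prime) elements, the outer automorphism group of F₄(q) has order gcd(2, p) · f (field automorphisms, and in characteristic 2 also the exceptional graph automorphism). -/
theorem result {F : Type*} [Field F] [Fintype F] (p f : ℕ) [Fact p.Prime] [CharP F p] (hF : Fintype.card F = p ^ f) : Nat.card (Cfsg.Out ↥(Cfsg.Lie.chevF4.group F)) = Nat.gcd 2 p * f := by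
  obtain ⟨C⟩ := H54.exists_ctx (D := Cfsg.Lie.chevF4) (by simp)
  have : Nonempty (Fin Cfsg.Lie.chevF4.rank) := ⟨⟨0, by decide⟩⟩
  have h := H13.EA.symSet_F4 (F := F) C
  rw [H13.EA.card_out_eq C (H13.EA.diagFacts_of_mem (by simp)) H52.divisorsF4 (p := p) hF]
  rw [ringChar.eq F p] at h
  have hp2 : Nat.gcd 2 p = if p = 2 then 2 else 1 := by
    split_ifs with hp
    · simp [hp]
    · exact (Nat.coprime_primes Nat.prime_two Fact.out).2 (Ne.symm hp)
  rw [h, hp2]
  have hprod : ∏ i : Fin Cfsg.Lie.chevF4.rank, (p ^ f - 1).gcd (![1, 1, 1, 1] i) = 1 := by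
    show ∏ i : Fin 4, _ = _
    simp [Fin.prod_univ_succ]
  rw [hprod, mul_one]

end Cfsg.Agent.S2122
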