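import Cfsg.Statements.S2123
import Cfsg.Agent.H13.EA.Sym
-- import your own Cfsg.Agent.* helpers here

set_option autoImplicit false
open Cfsg

namespace Cfsg.Agent.S2123

/-- Outer automorphisms of the (adjoint, simple) Chevalley groups of type E₆: over a field with q = p^f (p prime) elements, the outer automorphism group of E₆(q) has order 2 · gcd(3, q − 1) · f (diagonal, field and graph automorphisms). -/
theorem result {F : Type*} [Field F] [Fintype F] (p f : ℕ) [Fact p.Prime] [CharP F p] (hF : Fintype.card F = p ^ f) : Nat.card (Cfsg.Out ↥(Cfsg.Lie.chevE6.group F)) = 2 * Nat.gcd 3 (p ^ f - 1) * f := by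
  obtain ⟨C⟩ := H54.exists_ctx (D := Cfsg.Lie.chevE6) (by simp)
  have : Nonempty (Fin Cfsg.Lie.chevE6.rank) := ⟨⟨0, by decide⟩⟩
  have h := H13.EA.symSet_E6 (F := F) C
  rw [H13.EA.card_out_eq C (H13.EA.diagFacts_of_mem (by simp)) H52.divisorsE6 (p := p) hF]
  rw [h]
  have hprod : ∏ i : Fin Cfsg.Lie.chevE6.rank, (p ^ f - 1).gcd (![1, 1, 1, 1, 1, 3] i) =
      Nat.gcd 3 (p ^ f - 1) := by
    show ∏ i : Fin 6, _ = _
    simp [Fin.prod_univ_succ, Nat.gcd_comm (p ^ f - 1) 3]
  rw [hprod]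
  ring

end Cfsg.Agent.S2123
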