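import Cfsg.Statements.S2126
import Cfsg.Agent.H57.SzAut
import Cfsg.Agent.H57.SzForm

set_option autoImplicit false
open Cfsg

namespace Cfsg.Agent.S2126

/-- Outer automorphisms of the Suzuki groups: for q = 2^(2m+1) with m ≥ 1 the outer automorphism group of Sz(q) has order 2m + 1 (field automorphisms only). -/
theorem result {F : Type*} [Field F] [Fintype F] {m : ℕ} (hm : 1 ≤ m) (hF : Fintype.card F = 2 ^ (2 * m + 1)) : Nat.card (Cfsg.Out ↥(Cfsg.Lie.Sz F (2 ^ (m + 1)))) = 2 * m + 1 := by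
  classical
  let e := MulAut.congr (H57.lieSzEquiv hm hF)
  let Φ : (F ≃+* F) → Cfsg.Out (Cfsg.Lie.Sz F (2 ^ (m + 1))) := fun σ =>
    QuotientGroup.mk (e (H57.fieldAut hm hF σ))
  have hinn : ∀ g : Cfsg.Sz F m,
      e (MulAut.conj g) = MulAut.conj (H57.lieSzEquiv hm hF g) := by
    intro g
    apply MulEquiv.ext
    intro x
    simp [e, MulAut.congr]
  rw [← Nat.card_eq_of_bijective Φ ⟨?_, ?_⟩, H57.card_field_aut hF]
  · intro σ τ h
    obtain ⟨g, hg⟩ := QuotientGroup.eq.mp h
    obtain ⟨g', rfl⟩ := (H57.lieSzEquiv hm hF).surjective g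
    rw [← hinn, ← map_inv, ← map_mul] at hg
    have h1 : MulAut.conj g' = H57.fieldAut hm hF (σ⁻¹ * τ) := by
      have hinv : H57.fieldAut hm hF σ⁻¹ = (H57.fieldAut hm hF σ)⁻¹ := by
        refine eq_inv_of_mul_eq_one_left ?_
        rw [← H57.fieldAut_mul, inv_mul_cancel]
        apply MulEquiv.ext
        intro x
        apply Subtype.ext
        apply Matrix.SpecialLinearGroup.ext
        intro i j
        rfl
      rw [e.injective hg, H57.fieldAut_mul, hinv]
    exact inv_mul_eq_one.mp (H57.fieldAut_not_inner hm hF h1)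
  · intro y
    obtain ⟨α, rfl⟩ := QuotientGroup.mk_surjective y
    obtain ⟨β, rfl⟩ := e.surjective α
    obtain ⟨g, σ, rfl⟩ := H57.aut_decomp hm hF β
    refine ⟨σ, ?_⟩
    refine QuotientGroup.eq.mpr ⟨(H57.fieldAut hm hF σ).symm g |> H57.lieSzEquiv hm hF, ?_⟩
    rw [← hinn, ← map_inv, ← map_mul]
    congr 1
    apply MulEquiv.ext
    intro x
    simp [MulAut.mul_apply]

end Cfsg.Agent.S2126
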