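import Cfsg.Statements.S2127
import Cfsg.Agent.H32.ReeOutRigid

set_option autoImplicit false
open Cfsg

namespace Cfsg.Agent.S2127

/-- Outer automorphisms of the small Ree groups: for q = 3^(2m+1) with m ≥ 1 the outer automorphism group of ²G₂(q) has order 2m + 1 (field automorphisms only). -/
theorem result {K : Type*} [Field K] [Fintype K] {m : ℕ} (hm : 1 ≤ m) (hK : Fintype.card K = 3 ^ (2 * m + 1)) : Nat.card (Cfsg.Out ↥(Cfsg.Lie.twistedG2 K (3 ^ m))) = 2 * m + 1 := by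
  classical
  let Φ : (K ≃+* K) →* Cfsg.Out ↥(Cfsg.Lie.twistedG2 K (3 ^ m)) :=
    (QuotientGroup.mk' (Cfsg.Inn ↥(Cfsg.Lie.twistedG2 K (3 ^ m)))).comp (H32.ReeOut.fieldHom m)
  rw [← Nat.card_eq_of_bijective Φ ⟨?_, ?_⟩, H32.ReeOut.card_field_aut hK]
  · rw [injective_iff_map_eq_one]
    intro σ h
    obtain ⟨g, hg⟩ := (QuotientGroup.eq_one_iff _).1 h
    exact H32.ReeOut.field_not_inner hK hg
  · intro y
    obtain ⟨α, rfl⟩ := QuotientGroup.mk_surjective y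
    obtain ⟨g, σ, rfl⟩ := H32.ReeOut.aut_decomp hK hm α
    refine ⟨σ, ?_⟩
    show QuotientGroup.mk (H32.ReeOut.fieldG m σ) = _
    rw [QuotientGroup.mk_mul, (QuotientGroup.eq_one_iff (N := Cfsg.Inn ↥(Cfsg.Lie.twistedG2 K (3 ^ m))) _).2 (MonoidHom.mem_range.2 ⟨g, rfl⟩), one_mul]

end Cfsg.Agent.S2127
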