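import Cfsg.Statements.S2128
import Cfsg.Agent.H32.F4Rigid

set_option autoImplicit false
open Cfsg

namespace Cfsg.Agent.S2128

/-- Outer automorphisms of the large Ree groups: for q = 2^(2m+1) with m ≥ 1 the outer automorphism group of ²F₄(q) has order 2m + 1 (field automorphisms only). -/
theorem result {K : Type*} [Field K] [Fintype K] {m : ℕ} (hm : 1 ≤ m) (hK : Fintype.card K = 2 ^ (2 * m + 1)) : Nat.card (Cfsg.Out ↥(Cfsg.Lie.twistedF4 K (2 ^ m))) = 2 * m + 1 := by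
  classical
  set e := Subgroup.subgroupOfEquivOfLe (H53.F4T.twisted_le (K := K) (2 ^ m)) with he
  set C : MulAut ↥(H32.FF.FG K m) ≃* MulAut ↥(Cfsg.Lie.twistedF4 K (2 ^ m)) := MulAut.congr e with hC
  have hconj : ∀ g : ↥(H32.FF.FG K m), C (MulAut.conj g) = MulAut.conj (e g) := by
    intro g
    refine MulEquiv.ext fun y => ?_
    show e (MulAut.conj g (e.symm y)) = _
    simp
  let Φ : (K ≃+* K) →* Cfsg.Out ↥(Cfsg.Lie.twistedF4 K (2 ^ m)) :=
    (QuotientGroup.mk' (Cfsg.Inn ↥(Cfsg.Lie.twistedF4 K (2 ^ m)))).comp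
      (C.toMonoidHom.comp (H32.FF.fldHom m))
  rw [← Nat.card_eq_of_bijective Φ ⟨?_, ?_⟩, H32.FF.card_field hK]
  · rw [injective_iff_map_eq_one]
    intro σ h
    obtain ⟨g, hg⟩ := (QuotientGroup.eq_one_iff _).1 h
    apply H32.FF.fld_not_inner hK (g := e.symm g)
    apply C.injective
    rw [hconj, MulEquiv.apply_symm_apply]
    exact hg
  · intro y
    obtain ⟨α, rfl⟩ := QuotientGroup.mk_surjective y
    obtain ⟨g, σ, hgσ⟩ := H32.FF.aut_decomp hK hm (C.symm α)
    have hα : α = MulAut.conj (e g) * C (H32.FF.fld m σ) := by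
      rw [← hconj, ← map_mul, ← hgσ, MulEquiv.apply_symm_apply]
    refine ⟨σ, ?_⟩
    show QuotientGroup.mk (C (H32.FF.fld m σ)) = _
    rw [hα, QuotientGroup.mk_mul,
      (QuotientGroup.eq_one_iff (N := Cfsg.Inn ↥(Cfsg.Lie.twistedF4 K (2 ^ m))) _).2
        (MonoidHom.mem_range.2 ⟨e g, rfl⟩), one_mul]

end Cfsg.Agent.S2128
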