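import Cfsg.Statements.S2140
import Cfsg.Agent.H40.MinIndex

set_option autoImplicit false
open Cfsg

namespace Cfsg.Agent.S2140

/-- Minimal index of a proper subgroup of the linear groups: for n ≥ 3 and a field F with q elements, (n, q) ≠ (4, 2), every proper subgroup of PSL_n(F) has index at least (q^n − 1)/(q − 1), and some subgroup has exactly that index (the stabiliser of a point of the projective space). -/
theorem result {F : Type*} [Field F] [Fintype F] {q : ℕ} (hF : Fintype.card F = q) (n : ℕ) (hn : 3 ≤ n) (hexc : ¬ (n = 4 ∧ q = 2)) : (∀ H : Subgroup (Matrix.ProjectiveSpecialLinearGroup (Fin n) F), H ≠ ⊤ → (q ^ n - 1) / (q - 1) ≤ H.index) ∧ (∃ H : Subgroup (Matrix.ProjectiveSpecialLinearGroup (Fin n) F), H.index = (q ^ n - 1) / (q - 1)) := by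
  classical
  obtain ⟨m, rfl⟩ : ∃ m, n = m + 1 := ⟨n - 1, by omega⟩
  haveI : NeZero m := ⟨by omega⟩
  have hq := Fintype.one_lt_card (α := F)
  subst hF
  refine ⟨fun H hH => ?_, ?_⟩
  · have hK : H.comap (QuotientGroup.mk' (Subgroup.center (Matrix.SpecialLinearGroup (Fin (m + 1)) F))) ≠ ⊤ := by
      intro h
      apply hH
      rw [← Subgroup.map_comap_eq_self_of_surjective (QuotientGroup.mk'_surjective _) H, h,
        Subgroup.map_top_of_surjective _ (QuotientGroup.mk'_surjective _)]
    have h := H40.MinDeg.min_index (F := F) (m := m) (by omega) (by omega) _ hK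
    rw [Subgroup.index_comap_of_surjective _ (QuotientGroup.mk'_surjective _)] at h
    exact Nat.div_le_of_le_mul h
  · haveI : Nontrivial (Fin (m + 1)) := Fin.nontrivial_iff_two_le.2 (by omega)
    let e : Fin (m + 1) → F := Fin.cons 1 0
    have he : e ≠ 0 := fun h => by simpa [e] using congrFun h 0
    refine ⟨MulAction.stabilizer (Matrix.ProjectiveSpecialLinearGroup (Fin (m + 1)) F)
      (Projectivization.mk F e he), ?_⟩
    rw [MulAction.index_stabilizer_of_transitive, Projectivization.card'', Nat.card_fun,
      Nat.card_fin, Nat.card_eq_fintype_card (α := F)]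

end Cfsg.Agent.S2140
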