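import Cfsg.Statements.S2141
import Cfsg.Agent.H48.MinCtr
-- import your own Cfsg.Agent.* helpers here

set_option autoImplicit false
open Cfsg

namespace Cfsg.Agent.S2141

/-- Minimal index of a proper subgroup of the symplectic groups over fields with at least 3 elements: for m ≥ 2 and a field F with q ≥ 3 elements, (m, q) ≠ (2, 3), every proper subgroup of PSp_2m(F) has index at least (q^(2m) − 1)/(q − 1), and that index is attained. -/
theorem result {F : Type*} [Field F] [Fintype F] {q : ℕ} (hF : Fintype.card F = q) (m : ℕ) (hm : 2 ≤ m) (hq : 3 ≤ q) (hexc : ¬ (m = 2 ∧ q = 3)) : (∀ H : Subgroup (Cfsg.PSp m F), H ≠ ⊤ → (q ^ (2 * m) - 1) / (q - 1) ≤ H.index) ∧ (∃ H : Subgroup (Cfsg.PSp m F), H.index = (q ^ (2 * m) - 1) / (q - 1)) := by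
  classical
  subst hF
  refine ⟨fun H hH => ?_, ?_⟩
  · set K := H.comap (QuotientGroup.mk' (Subgroup.center (Matrix.symplecticGroup (Fin m) F))) with hKdef
    have hK : K ≠ ⊤ := by
      intro h
      apply hH
      rw [← Subgroup.map_comap_eq_self_of_surjective (QuotientGroup.mk'_surjective _) H, ← hKdef, h,
        Subgroup.map_top_of_surjective _ (QuotientGroup.mk'_surjective _)]
    rw [← Subgroup.index_comap_of_surjective H (QuotientGroup.mk'_surjective
      (Subgroup.center (Matrix.symplecticGroup (Fin m) F))), ← hKdef]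
    refine Nat.div_le_of_le_mul ?_
    by_cases hC : ∀ z, z ≠ 0 → ¬ H49.IsCtr K z
    · exact H48.MinIdx.bound_no_ctr hm hq hexc hC
    · simp only [not_forall, not_not] at hC
      obtain ⟨z, hz, hzC⟩ := hC
      exact H48.MinIdx.bound_ctr hm hq hK hz hzC
  · let i : Fin m := ⟨0, by omega⟩
    let e : Fin m ⊕ Fin m → F := Pi.single (Sum.inl i) 1
    have he : e ≠ 0 := fun h => by simpa [e] using congrFun h (Sum.inl i)
    let W : Submodule F (Fin m ⊕ Fin m → F) := Submodule.span F {e}
    have hiso : ∀ u ∈ W, ∀ v ∈ W, H48.sf u v = 0 := by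
      intro u hu v hv
      obtain ⟨a, rfl⟩ := Submodule.mem_span_singleton.1 hu
      obtain ⟨b, rfl⟩ := Submodule.mem_span_singleton.1 hv
      simp
    have hW1 : Module.finrank F W = 1 := finrank_span_singleton he
    let S := Cfsg.stabilizing (Cfsg.spToMat m F) (W : Set (Fin m ⊕ Fin m → F))
    refine ⟨S.map (QuotientGroup.mk' (Subgroup.center (Matrix.symplecticGroup (Fin m) F))), ?_⟩
    have hle : Subgroup.center (Matrix.symplecticGroup (Fin m) F) ≤ S := by
      intro g hg
      haveI : Nonempty (Fin m) := ⟨i⟩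
      obtain ⟨a, -, ha⟩ := (H48.mem_center_iff g).1 hg
      refine H48.mem_stabilizing_of_maps fun v hv => ?_
      rw [ha]
      exact W.smul_mem _ hv
    rw [Subgroup.index_map_eq _ (QuotientGroup.mk'_surjective _) (by rwa [QuotientGroup.ker_mk'])]
    have hidx := S.index_mul_card
    rw [H48.card_stabilizing_isotropic (show 1 ≤ m by omega) W hW1 hiso, H48.card_sp, Fintype.card_fin] at hidx
    obtain ⟨k, rfl⟩ : ∃ k, m = k + 1 := ⟨m - 1, by omega⟩
    rw [Finset.prod_range_succ (fun i => Fintype.card F ^ (2 * (i + 1)) - 1)] at hidx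
    simp only [Fin.prod_univ_one, Fin.val_zero, pow_zero, pow_one, Nat.choose_eq_zero_of_lt one_lt_two,
      Nat.sub_zero, Nat.add_sub_cancel] at hidx
    refine (Nat.div_eq_of_eq_mul_left (by omega) ?_).symm
    have hP : 0 < Fintype.card F ^ (k + 1) ^ 2 *
        ∏ i ∈ Finset.range k, (Fintype.card F ^ (2 * (i + 1)) - 1) := by
      refine Nat.mul_pos (Nat.pow_pos (by omega)) (Finset.prod_pos fun i _ => ?_)
      exact H48.MinIdx.one_le_pow_sub _ (by omega) _ (by omega)
    refine Nat.eq_of_mul_eq_mul_left hP ?_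
    rw [← mul_assoc] at hidx
    rw [mul_assoc, ← hidx]
    ring

end Cfsg.Agent.S2141
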