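import Cfsg.Statements.S2142
import Cfsg.Agent.H48.MinTwoOrbit
-- import your own Cfsg.Agent.* helpers here

set_option autoImplicit false
open Cfsg

namespace Cfsg.Agent.S2142

/-- Minimal index of a proper subgroup of the symplectic groups over the field with 2 elements: for m ≥ 3, every proper subgroup of Sp_2m(2) has index at least 2^(m−1)(2^m − 1), and that index is attained. -/
theorem result {F : Type*} [Field F] [Fintype F] (hF : Fintype.card F = 2) (m : ℕ) (hm : 3 ≤ m) : (∀ H : Subgroup (Cfsg.PSp m F), H ≠ ⊤ → 2 ^ (m - 1) * (2 ^ m - 1) ≤ H.index) ∧ (∃ H : Subgroup (Cfsg.PSp m F), H.index = 2 ^ (m - 1) * (2 ^ m - 1)) := by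
  classical
  refine ⟨fun H hH => ?_, ?_⟩
  · set K := H.comap (QuotientGroup.mk' (Subgroup.center (Matrix.symplecticGroup (Fin m) F))) with hKdef
    have hK : K ≠ ⊤ := by
      intro h
      apply hH
      rw [← Subgroup.map_comap_eq_self_of_surjective (QuotientGroup.mk'_surjective _) H, ← hKdef, h,
        Subgroup.map_top_of_surjective _ (QuotientGroup.mk'_surjective _)]
    rw [← Subgroup.index_comap_of_surjective H (QuotientGroup.mk'_surjective
      (Subgroup.center (Matrix.symplecticGroup (Fin m) F))), ← hKdef]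
    exact H48.MinTwo.bound hF hm hK
  · obtain ⟨Q, hQ, hcount⟩ := H48.MinTwo.exists_minus hF (m := m) (by omega)
    have hpow : 1 ≤ 2 ^ m := Nat.one_le_two_pow
    obtain ⟨S, hS⟩ := H48.MinTwo.exists_stab hF hQ (by omega)
    refine ⟨S.map (QuotientGroup.mk' (Subgroup.center (Matrix.symplecticGroup (Fin m) F))), ?_⟩
    have hle : Subgroup.center (Matrix.symplecticGroup (Fin m) F) ≤ S := by
      intro g hg
      haveI : Nonempty (Fin m) := ⟨⟨0, by omega⟩⟩
      obtain ⟨a, ha2, ha⟩ := (H48.mem_center_iff g).1 hg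
      have ha1 : a = 1 := H48.MinTwo.eq_one_of_ne hF fun h => by simp [h] at ha2
      have : g = 1 := H48.sp_ext fun v => by rw [ha, ha1, one_smul, one_smul]
      rw [this]
      exact S.one_mem
    rw [Subgroup.index_map_eq _ (QuotientGroup.mk'_surjective _) (by rwa [QuotientGroup.ker_mk']), hS]
    have e : 2 * (2 ^ (m - 1) * (2 ^ m - 1)) + 2 ^ m = 4 ^ m := by
      rw [← mul_assoc, ← pow_succ', show m - 1 + 1 = m by omega, Nat.mul_sub, mul_one, ← mul_pow,
        show (2 * 2 : ℕ) = 4 from rfl, Nat.sub_add_cancel (Nat.pow_le_pow_left (by norm_num) m)]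
    omega

end Cfsg.Agent.S2142
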