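import Cfsg.Statements.S2144
import Cfsg.Agent.H48.OrSmall.Transfer
-- import your own Cfsg.Agent.* helpers here

set_option autoImplicit false
open Cfsg

namespace Cfsg.Agent.S2144

/-- Minimal index of a proper subgroup of the odd-dimensional orthogonal groups over the field with 3 elements: for m ≥ 3, every proper subgroup of PΩ_(2m+1)(3) (for the form x₀² + Σ xᵢyᵢ) has index at least 3^m(3^m − 1)/2, and that index is attained. -/
theorem result {F : Type*} [Field F] [Fintype F] (hF : Fintype.card F = 3) (m : ℕ) (hm : 3 ≤ m) : (∀ H : Subgroup (Cfsg.POmega F (Cfsg.quadFormOdd m F)), H ≠ ⊤ → 3 ^ m * (3 ^ m - 1) / 2 ≤ H.index) ∧ (∃ H : Subgroup (Cfsg.POmega F (Cfsg.quadFormOdd m F)), H.index = 3 ^ m * (3 ^ m - 1) / 2) := by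
  classical
  have hq : Nat.card F = 3 := by rw [Nat.card_eq_fintype_card, hF]
  have h2 := H48.OrSmall.two_ne_zero_of_card_three hq
  have hQ := H43.qOdd_nondeg (F := F) h2 m
  have hd : Module.finrank F (Unit ⊕ (Fin m ⊕ Fin m) → F) = 2 * m + 1 := H43.finrank_qOdd m
  obtain ⟨n, rfl⟩ : ∃ n, m = n + 3 := ⟨m - 3, by omega⟩
  have hp : 1 ≤ 3 ^ n := Nat.one_le_pow _ _ (by norm_num)
  have hp2 : 3 ^ n ≤ 3 ^ n * 3 ^ n := Nat.le_mul_of_pos_left _ hp
  have hT : 3 ^ (n + 3) * (3 ^ (n + 3) - 1) / 2 * 2 = 3 ^ (2 * (n + 3)) - 3 ^ (n + 3) := by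
    have e : 2 ∣ 3 ^ (n + 3) - 1 := by
      have := Nat.pow_mod 3 (n + 3) 2
      simp at this
      omega
    rw [Nat.div_mul_cancel (Dvd.dvd.mul_left e _), Nat.mul_sub, mul_one, ← pow_add, two_mul]
  have hb : ∀ K : Subgroup (H50.Or.Om (H43.qOdd (n + 3) F)), K ≠ ⊤ →
      3 ^ (n + 3) * (3 ^ (n + 3) - 1) / 2 ≤ K.index := by
    intro K hK
    refine H48.OrSmall.bound_small hQ (by omega) (by omega) (by omega) ?_ ?_ ?_ ?_ ?_ hK
    · intro _ h7
      obtain rfl : n = 0 := by omega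
      norm_num
    · intro U hU hUd c _
      have h := H48.OrSmall.level_ge_odd (n + 2) hU (by omega) c
      rw [hq] at h
      rw [show 2 * (n + 3) = n + n + 6 by ring] at hT
      rw [show 2 * (n + 2) = n + n + 4 by ring] at h
      simp only [pow_add] at h hT ⊢
      omega
    · intro z hz
      have h := H48.OrSmall.level_ge_odd (n + 3) hQ hd (H43.qOdd (n + 3) F z)
      rw [hq] at h
      rw [H48.OrSmall.card_sqrt_one_three hq, hT]
      omega
    · rw [hq, H48.OrIdx.level_qOdd h2, hq, mul_comm, hT]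
      have : 1 ≤ 3 ^ (n + 3) := Nat.one_le_pow _ _ (by norm_num)
      omega
    · intro k hk
      omega
  obtain ⟨c, hc, hl⟩ := H48.OrSmall.exists_level_odd_three hq (n + 3) hQ hd
  obtain ⟨z, hz⟩ := H43.exists_qmap_eq hQ (by omega) c hc
  have hz' : H43.qOdd (n + 3) F z ≠ 0 := hz.symm ▸ hc
  have hi := H48.OrSmall.index_PS_nonsing hQ (by omega) hz'
  rw [hz, H48.OrSmall.card_sqrt_one_three hq] at hi
  rw [← H43.coe_qOdd]
  refine ⟨fun H hH => H48.OrSmall.pomega_index_ge hb H hH, ?_⟩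
  obtain ⟨H, hH⟩ := H48.OrSmall.pomega_PS hQ (by simp; omega) z
  exact ⟨H, by omega⟩

end Cfsg.Agent.S2144
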