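import Cfsg.Statements.S2146
import Cfsg.Agent.H48.OrSmall.Transfer
-- import your own Cfsg.Agent.* helpers here

set_option autoImplicit false
open Cfsg

namespace Cfsg.Agent.S2146

/-- Minimal index of a proper subgroup of the even-dimensional orthogonal groups of plus type over the field with 2 elements: for m ≥ 4, every proper subgroup of Ω⁺_2m(2) (for the form Σ xᵢyᵢ) has index at least 2^(m−1)(2^m − 1), and that index is attained. -/
theorem result {F : Type*} [Field F] [Fintype F] (hF : Fintype.card F = 2) (m : ℕ) (hm : 4 ≤ m) : (∀ H : Subgroup (Cfsg.POmega F (Cfsg.quadFormPlus m F)), H ≠ ⊤ → 2 ^ (m - 1) * (2 ^ m - 1) ≤ H.index) ∧ (∃ H : Subgroup (Cfsg.POmega F (Cfsg.quadFormPlus m F)), H.index = 2 ^ (m - 1) * (2 ^ m - 1)) := by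
  classical
  have hq : Nat.card F = 2 := by rw [Nat.card_eq_fintype_card, hF]
  have hQ := H43.qPlus_nondeg (F := F) m
  have hd : Module.finrank F (Fin m ⊕ Fin m → F) = 2 * m := H43.finrank_qPlus m
  obtain ⟨n, rfl⟩ : ∃ n, m = n + 4 := ⟨m - 4, by omega⟩
  have hp : 1 ≤ 2 ^ n := Nat.one_le_pow _ _ (by norm_num)
  have hp2 : 2 ^ n ≤ 2 ^ n * 2 ^ n := Nat.le_mul_of_pos_left _ hp
  have hT : 2 ^ (n + 4 - 1) * (2 ^ (n + 4) - 1) = 2 ^ (n + n + 7) - 2 ^ (n + 3) := by
    rw [Nat.mul_sub, mul_one, ← pow_add]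
    congr 2 <;> omega
  have hb : ∀ K : Subgroup (H50.Or.Om (H43.qPlus (n + 4) F)), K ≠ ⊤ →
      2 ^ (n + 4 - 1) * (2 ^ (n + 4) - 1) ≤ K.index := by
    intro K hK
    refine H48.OrSmall.bound_small hQ (by omega) (by omega) (by omega) ?_ ?_ ?_ ?_ ?_ hK
    · omega
    · intro U hU hUd c hc
      have h := H48.OrSmall.level_ge_even (by omega) (n + 2) hU (by omega) c hc
      rw [hq, show 2 * (n + 2) + 1 = n + n + 5 by ring] at h
      rw [hT]
      simp only [pow_add] at h ⊢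
      omega
    · intro z hz
      have h := H48.OrSmall.level_ge_even (by omega) (n + 3) hQ (by omega) _ hz
      rw [hq, show 2 * (n + 3) + 1 = n + n + 7 by ring] at h
      rw [H48.OrSmall.card_sqrt_one_two hq, hT]
      omega
    · rw [hq, H48.OrIdx.level_qPlus (by omega), hq, Nat.add_sub_cancel_left 1 1, one_mul,
        mul_comm (2 ^ (n + 4 - 1))]
      exact Nat.mul_le_mul_left _ (Nat.le_succ _)
    · intro k hk _
      obtain rfl : k = n + 4 := by omega
      rw [hq, mul_comm (2 ^ (n + 4 - 1)), show n + 4 - 2 = n + 2 by omega,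
        show n + 4 - 3 = n + 1 by omega]
      refine Nat.mul_le_mul_right _ ?_
      obtain ⟨r, hr⟩ : ∃ r, 2 ^ n = r + 1 := ⟨2 ^ n - 1, by omega⟩
      simp only [pow_add, hr]
      ring_nf
      omega
  have h0 := H48.OrIdx.level_qPlus (F := F) (m := n + 4) (by omega)
  rw [hq] at h0
  have h1 := H48.OrSmall.level_one_two (Q := H43.qPlus (n + 4) F) hq
  rw [hd] at h1
  obtain ⟨z, hz⟩ := H43.exists_qmap_eq hQ (by omega) 1 one_ne_zero
  have hz' : H43.qPlus (n + 4) F z ≠ 0 := hz.symm ▸ one_ne_zero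
  have hi := H48.OrSmall.index_PS_nonsing hQ (by omega) hz'
  rw [hz, H48.OrSmall.card_sqrt_one_two hq, mul_one] at hi
  rw [← H43.coe_qPlus]
  refine ⟨fun H hH => H48.OrSmall.pomega_index_ge hb H hH, ?_⟩
  obtain ⟨H, hH⟩ := H48.OrSmall.pomega_PS hQ (by simp; omega) z
  refine ⟨H, ?_⟩
  have hpos : 0 < H48.OrIdx.level (H43.qPlus (n + 4) F) 0 :=
    @Nat.card_pos _ ⟨⟨0, QuadraticMap.map_zero _⟩⟩ _
  rw [hH, hi, hT]
  simp only [show 2 * (n + 4) = n + n + 8 by ring, show n + 4 - 1 = n + 3 by omega] at h0 h1 ⊢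
  simp only [pow_add] at h0 h1 ⊢
  obtain ⟨r, hr⟩ : ∃ r, 2 ^ n = r + 1 := ⟨2 ^ n - 1, by omega⟩
  simp only [hr, show (r + 1) * 2 ^ 4 - 1 = 16 * r + 15 by omega] at h0 h1 ⊢
  ring_nf at h0 h1 ⊢
  omega

end Cfsg.Agent.S2146
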