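import Cfsg.Statements.S2147
import Cfsg.Agent.H48.OrSmall.Transfer
-- import your own Cfsg.Agent.* helpers here

set_option autoImplicit false
open Cfsg

namespace Cfsg.Agent.S2147

/-- Minimal index of a proper subgroup of the even-dimensional orthogonal groups of minus type: for m ≥ 4 and a field F with q elements, every proper subgroup of PΩ⁻_2m(F) (for the form Σ_{i<m−1} xᵢyᵢ + z₁² + a z₁z₂ + b z₂² with anisotropic binary part) has index at least (q^m + 1)(q^(m−1) − 1)/(q − 1), and that index is attained. -/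
theorem result {F : Type*} [Field F] [Fintype F] {q : ℕ} (hF : Fintype.card F = q) (m : ℕ) (hm : 4 ≤ m) (a b : F) (hab : ∀ z₁ z₂ : F, z₁ ^ 2 + a * z₁ * z₂ + b * z₂ ^ 2 = 0 → z₁ = 0 ∧ z₂ = 0) : (∀ H : Subgroup (Cfsg.POmega F (Cfsg.quadFormMinus (m - 1) F a b)), H ≠ ⊤ → (q ^ m + 1) * (q ^ (m - 1) - 1) / (q - 1) ≤ H.index) ∧ (∃ H : Subgroup (Cfsg.POmega F (Cfsg.quadFormMinus (m - 1) F a b)), H.index = (q ^ m + 1) * (q ^ (m - 1) - 1) / (q - 1)) := by
  classical
  subst hF
  obtain ⟨n, rfl⟩ : ∃ n, m = n + 3 + 1 := ⟨m - 4, by omega⟩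
  simp only [Nat.add_sub_cancel]
  have hQ := H43.qMinus_nondeg (F := F) (n + 3) hab
  have hd := H43.finrank_qMinus (F := F) (n + 3)
  have hN := H48.OrIdx.level_qMinus (k := n + 3) hab
  rw [Nat.card_eq_fintype_card] at hN
  rw [← H43.coe_qMinus]
  by_cases h4 : 4 ≤ Fintype.card F
  · have h := H48.OrIdx.pomega_min_index hQ (by simp; omega) (by rw [Nat.card_eq_fintype_card]; omega) hN
    rwa [Nat.card_eq_fintype_card] at h
  have hq : Nat.card F = Fintype.card F := Nat.card_eq_fintype_card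
  have hq2 := Fintype.one_lt_card (α := F)
  set T := (Fintype.card F ^ (n + 3 + 1) + 1) * (Fintype.card F ^ (n + 3) - 1) / (Fintype.card F - 1) with hTdef
  obtain ⟨x, y, ⟨fr⟩⟩ := H48.OrIdx.exists_any_frame hQ (by omega)
  have hps := H48.OrIdx.index_PS hQ (by omega) fr.pair.left_ne_zero fr.qx
  rw [hq, hN] at hps
  have hTi : T = (H48.OrIdx.PS (H43.qMinus (n + 3) F a b) x).index := by
    rw [hTdef, ← hps, Nat.mul_div_cancel_left _ (by omega)]
  have hT : (Fintype.card F - 1) * T = (Fintype.card F ^ (n + 3 + 1) + 1) * (Fintype.card F ^ (n + 3) - 1) := by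
    rw [hTi, hps]
  have hp : 1 ≤ Fintype.card F ^ n := Nat.one_le_pow _ _ (by omega)
  have hb : ∀ K : Subgroup (H50.Or.Om (H43.qMinus (n + 3) F a b)), K ≠ ⊤ → T ≤ K.index := by
    intro K hK
    refine H48.OrSmall.bound_small hQ (by omega) (by omega) (by omega) ?_ ?_ ?_ ?_ ?_ hK
    · omega
    · intro U hU hUd c hc
      have h := H48.OrSmall.level_ge_even (by omega) (n + 2) hU (by omega) c hc
      rw [hq, show 2 * (n + 2) + 1 = n + n + 5 by ring] at h
      simp only [pow_add] at hT h
      rcases (show Fintype.card F = 2 ∨ Fintype.card F = 3 by omega) with e | e <;>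
        rw [e] at hT h hp <;> norm_num [Nat.mul_sub, add_mul, mul_add] at hT h <;>
        [have := Nat.le_mul_of_pos_left (2 ^ n) hp; have := Nat.le_mul_of_pos_left (3 ^ n) hp] <;>
        ring_nf at hT h this ⊢ <;> omega
    · intro z hz
      have h := H48.OrSmall.level_ge_even (by omega) (n + 3) hQ (by omega) _ hz
      rw [hq, show 2 * (n + 3) + 1 = n + n + 7 by ring] at h
      simp only [pow_add] at hT h
      rcases (show Fintype.card F = 2 ∨ Fintype.card F = 3 by omega) with e | e
      · rw [H48.OrSmall.card_sqrt_one_two (hq.trans e)]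
        rw [e] at hT h hp
        norm_num [Nat.mul_sub, add_mul, mul_add] at hT h
        have := Nat.le_mul_of_pos_left (2 ^ n) hp
        ring_nf at hT h this ⊢
        omega
      · rw [H48.OrSmall.card_sqrt_one_three (hq.trans e)]
        rw [e] at hT h hp
        norm_num [Nat.mul_sub, add_mul, mul_add] at hT h
        have := Nat.le_mul_of_pos_left (3 ^ n) hp
        ring_nf at hT h this ⊢
        omega
    · rw [hq, hT, hN]
    · rintro k hk ⟨X, hX, hXd⟩
      have := H43.AutPO.finrank_le_qMinus hab X hX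
      omega
  refine ⟨fun H hH => H48.OrSmall.pomega_index_ge hb H hH, ?_⟩
  obtain ⟨H, hH⟩ := H48.OrSmall.pomega_PS hQ (by simp; omega) x
  exact ⟨H, hH.trans hTi.symm⟩

end Cfsg.Agent.S2147
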