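import Cfsg.Statements.S2149
import Cfsg.Agent.H94.U35Bound
import Cfsg.Agent.H94.U35Alt

set_option autoImplicit false
open Cfsg

namespace Cfsg.Agent.S2149

/-- Minimal index of a proper subgroup of PSU₃(5), realised over the field with 25 elements: every proper subgroup has index at least 50, and that index is attained. -/
theorem result {F : Type*} [Field F] [Fintype F] (hF : Fintype.card F = 25) : (∀ H : Subgroup (Cfsg.PSU 3 F 5), H ≠ ⊤ → 50 ≤ H.index) ∧ (∃ H : Subgroup (Cfsg.PSU 3 F 5), H.index = 50) := by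
  have hF2 : Fintype.card F = 5 ^ 2 := by rw [hF]; rfl
  have hsurj : Function.Surjective (QuotientGroup.mk' (Subgroup.center ↥(Cfsg.SU 3 F 5))) :=
    QuotientGroup.mk'_surjective _
  have hbound : ∀ H : Subgroup (Cfsg.PSU 3 F 5), H ≠ ⊤ → 50 ≤ H.index := by
    intro H hH
    rw [← Subgroup.index_comap_of_surjective H hsurj]
    refine H94.U35.index_bound hF2 _ fun h => hH ?_
    rw [← Subgroup.map_comap_eq_self_of_surjective hsurj H, h, Subgroup.map_top_of_surjective _ hsurj]
  refine ⟨hbound, ?_⟩
  obtain ⟨H, hH, hdvd⟩ := H94.U35.exists_proper hF2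
  refine ⟨H, ?_⟩
  have hcard : Nat.card (Cfsg.PSU 3 F 5) = 126000 := by
    have h := H50.card_PSU_mul hF2 (n := 3) (by norm_num)
    rw [H50.card_GU hF2] at h
    norm_num [Finset.prod_range_succ, -Nat.card_eq_fintype_card, Nat.even_add_one] at h
    omega
  have hmul := H.card_mul_index
  rw [hcard] at hmul
  have := hbound H hH
  obtain ⟨k, hk⟩ := hdvd
  rw [hk] at hmul
  have hk1 : k ≤ 1 := by nlinarith
  interval_cases k
  · simp at hmul
  · omega

end Cfsg.Agent.S2149
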