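import Cfsg.Statements.S2153
import Cfsg.Agent.H37.SUMinSixTwo
-- import your own Cfsg.Agent.* helpers here

set_option autoImplicit false
open Cfsg

namespace Cfsg.Agent.S2153

/-- Minimal index of a proper subgroup of the unitary groups PSU_n(2) with n divisible by 6, realised over the field with 4 elements: every proper subgroup has index at least 2^(n−1)(2^n − 1)/3, and that index is attained. -/
theorem result {F : Type*} [Field F] [Fintype F] (hF : Fintype.card F = 4) (n : ℕ) (hn : 6 ∣ n) (hpos : 6 ≤ n) : (∀ H : Subgroup (Cfsg.PSU n F 2), H ≠ ⊤ → 2 ^ (n - 1) * (2 ^ n - 1) / 3 ≤ H.index) ∧ (∃ H : Subgroup (Cfsg.PSU n F 2), H.index = 2 ^ (n - 1) * (2 ^ n - 1) / 3) := by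
  have hF2 : Fintype.card F = 2 ^ 2 := by rw [hF]; rfl
  refine ⟨fun H hH => H37.SUMin.psu_bound hF2
    (fun K hK => H37.SUMin.two_six_target hF2 hn hpos K hK) H hH, ?_⟩
  obtain ⟨K, hK, hidx⟩ := H37.SUMin.exists_anisoPt_stab hF2 (n := n) (by omega)
  obtain ⟨H, hH⟩ := H37.SUMin.psu_index hF2 K hK
  refine ⟨H, ?_⟩
  obtain ⟨k, rfl⟩ : ∃ k, n = k + 1 := ⟨n - 1, by omega⟩
  have hodd : ¬ Even k := by
    rw [Nat.even_iff]
    obtain ⟨r, hr⟩ := hn
    omega
  rw [H50.norm_one_count_succ hF2, if_neg hodd] at hidx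
  rw [hH, Nat.add_sub_cancel]
  omega

end Cfsg.Agent.S2153
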