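import Cfsg.Statements.S2155
import Cfsg.Agent.H54.ChevParabolic
import Cfsg.Agent.H68.CharP
import Mathlib.GroupTheory.PGroup
-- import your own Cfsg.Agent.* helpers here

set_option autoImplicit false
open Cfsg

namespace Cfsg.Agent.S2155

/-- In a Chevalley group of type G₂, B₂, D₄, F₄, E₆, E₇ or E₈ over a finite field of characteristic p (for types G₂ and B₂ the field is assumed to have at least 3 elements, so that the group is simple), the generalized Fitting subgroup of every proper standard parabolic subgroup P_J is a p-group (P_J is p-constrained with trivial largest normal subgroup of order prime to p). -/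
theorem result {F : Type*} [Field F] [Fintype F] (p : ℕ) [Fact p.Prime] [CharP F p] (D : Cfsg.Lie.ChevalleyDatum) (hD : D ∈ [Cfsg.Lie.chevG2, Cfsg.Lie.chevB2, Cfsg.Lie.chevD4, Cfsg.Lie.chevF4, Cfsg.Lie.chevE6, Cfsg.Lie.chevE7, Cfsg.Lie.chevE8]) (hq : (D = Cfsg.Lie.chevG2 ∨ D = Cfsg.Lie.chevB2) → 3 ≤ Fintype.card F) (J : Set ℕ) (hJ : ∃ i, i < D.rank ∧ i ∉ J) : IsPGroup p ↥(Cfsg.generalizedFittingSubgroup ↥(D.parabolicSubgroup F J)) := by
  obtain ⟨T, hC, hsupp⟩ := H52.checked_support_of_mem hD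
  obtain ⟨W⟩ := H53.nonempty_weylFor hD
  let C : H54.Ctx D := ⟨T, hC, W, H54.chainOK_of_mem D hD⟩
  have hS : ∀ r < D.nroots, ∀ j < D.rank, (H52.crt D r j = 0 ↔ C.T.co r j = 0) :=
    fun r hr j hj => H52.supportCheck_iff hsupp hr hj
  obtain ⟨hnorm, hsup, -⟩ := hC.levi_decomposition (F := F) hS J
  set P := D.parabolicSubgroup F J with hP
  set R : Subgroup ↥P := (D.unipotentRadical F J).subgroupOf P with hR
  have hPG : P ≤ D.group F := sup_le hC.borel_le_group ((Subgroup.closure_le _).2 (by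
    rintro g ⟨j, -, hj, hg⟩
    rw [← H53.coe_nGL hC] at hg
    rw [Units.ext hg]
    exact C.nGL_mem _ _))
  have hRP : D.unipotentRadical F J ≤ P := hsup ▸ le_sup_left
  have hUp : ∀ K : Subgroup ↥P, (∀ x ∈ K, (x : GL D.Idx F) ∈ D.posUnipotent F) → IsPGroup p ↥K := by
    intro K hK x
    obtain ⟨k, hk⟩ := C.isPGroup_pos (F := F) p ⟨((x : ↥P) : GL D.Idx F), hK x x.2⟩
    refine ⟨k, Subtype.ext (Subtype.ext ?_)⟩
    simpa using congrArg Subtype.val hk
  have hRn : R.Normal := ⟨fun x hx g => by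
    rw [hR, Subgroup.mem_subgroupOf] at hx ⊢
    simpa using (Subgroup.mem_normalizer_iff.1 (hnorm g.2) (x : GL D.Idx F)).1 hx⟩
  have hRU : ∀ x ∈ R, (x : GL D.Idx F) ∈ D.posUnipotent F := by
    intro x hx
    have hle : D.unipotentRadical F J ≤ D.posUnipotent F :=
      Subgroup.closure_mono fun g ⟨r, t, h1, _, h3⟩ => ⟨r, t, h1, h3⟩
    exact hle (Subgroup.mem_subgroupOf.1 hx)
  have hRcore : R ≤ Cfsg.pCore p ↥P := le_sSup ⟨hRn, hUp R hRU⟩
  rw [H68.gfs_isPGroup_iff]
  refine le_trans (Subgroup.centralizer_le hRcore) (le_sSup ⟨inferInstance, hUp _ fun x hx => ?_⟩)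
  obtain ⟨k, hk, hkJ⟩ := hJ
  refine C.centralizer_radical_le hS (H54.addCheck_of_mem hD) ⟨k, hk, hkJ⟩ (hPG x.2) fun r hr => ?_
  have hmem : H52.rt D r (1 : F) ∈ D.unipotentRadical F J :=
    Subgroup.subset_closure ⟨r, 1, hr.1, hr.2, hC.coe_rt _ _⟩
  have := Subgroup.mem_centralizer_iff.1 hx ⟨_, hRP hmem⟩ hmem
  exact (congrArg Subtype.val this).symm

end Cfsg.Agent.S2155
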