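import Cfsg.Statements.S2158
import Cfsg.Agent.H54.ChevSylow
-- import your own Cfsg.Agent.* helpers here

set_option autoImplicit false
open Cfsg

namespace Cfsg.Agent.S2158

/-- In a Chevalley group of type G₂, B₂, D₄, F₄, E₆, E₇ or E₈ over any field, an element of the group whose matrix is the diagonal matrix `ĥ(χ)` of a character `χ` of the root lattice already lies in the diagonal subgroup H (the non-trivial inclusion of the statement that the group meets the group of all such diagonal matrices in H). -/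
theorem result {F : Type*} [Field F] (D : Cfsg.Lie.ChevalleyDatum) (hD : D ∈ [Cfsg.Lie.chevG2, Cfsg.Lie.chevB2, Cfsg.Lie.chevD4, Cfsg.Lie.chevF4, Cfsg.Lie.chevE6, Cfsg.Lie.chevE7, Cfsg.Lie.chevE8]) (χ : ℕ → Fˣ) (hχ : D.IsRootCharacter χ) (g : GL D.Idx F) (hg : g ∈ D.group F)
    (hgχ : (g : Matrix D.Idx D.Idx F) = D.charDiag F χ) : g ∈ D.diagonalSubgroup F := by
  obtain ⟨C⟩ := H54.exists_ctx hD
  refine C.diag_mem_of_mem_group hg (fun x hx => ?_) ⟨_, hgχ⟩
  have hinv : ((g⁻¹ : GL D.Idx F) : Matrix D.Idx D.Idx F) = D.charDiag F fun r => (χ r)⁻¹ := by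
    apply Units.inv_eq_of_mul_eq_one_right
    rw [hgχ]; exact H54.charDiag_mul_charDiag_inv χ
  have hle : (D.posUnipotent F).map (MulAut.conj g).toMonoidHom ≤ D.posUnipotent F := by
    unfold Cfsg.Lie.ChevalleyDatum.posUnipotent
    rw [MonoidHom.map_closure, Subgroup.closure_le]
    rintro _ ⟨y, ⟨r, t, hr, hy⟩, rfl⟩
    refine Subgroup.subset_closure ⟨r, (χ r : F) * t, hr, ?_⟩
    simp only [MulEquiv.coe_toMonoidHom, MulAut.conj_apply, Units.val_mul, hinv, hgχ, hy]
    exact H54.charDiag_mul_x_mul C.hok hχ ((C.hC.isPosRoot_iff r).1 hr).2 t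
  exact hle ⟨x, hx, rfl⟩

end Cfsg.Agent.S2158
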