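import Cfsg.Statements.S2162
import Cfsg.Agent.H37.SquareZero
-- import your own Cfsg.Agent.* helpers here

set_option autoImplicit false
open Cfsg

namespace Cfsg.Agent.S2162

/-- Conjugacy of involutions in the special linear group over a finite field of characteristic two, in dimension at least 3: two elements of order 2 of SL_n(F) are conjugate in SL_n(F) exactly when the matrices a − 1 and b − 1 have the same rank (the rank of a − 1 is the dimension of the commutator space [V, a]). -/
theorem result {F : Type*} [Field F] [Fintype F] [CharP F 2] {n : ℕ} (hn : 3 ≤ n) (a b : Matrix.SpecialLinearGroup (Fin n) F) (ha : orderOf a = 2) (hb : orderOf b = 2) :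
    IsConj a b ↔ ((a : Matrix (Fin n) (Fin n) F) - 1).rank = ((b : Matrix (Fin n) (Fin n) F) - 1).rank := by
  classical
  have hsz : ∀ x : Matrix.SpecialLinearGroup (Fin n) F, orderOf x = 2 →
      ((x : Matrix (Fin n) (Fin n) F) - 1) * ((x : Matrix (Fin n) (Fin n) F) - 1) = 0 ∧
        ((x : Matrix (Fin n) (Fin n) F) - 1) ≠ 0 := by
    intro x hx
    have h2 : x * x = 1 := by rw [← sq, ← hx, pow_orderOf_eq_one]
    have h2' : (x : Matrix (Fin n) (Fin n) F) * (x : Matrix (Fin n) (Fin n) F) = 1 :=
      congrArg Subtype.val h2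
    constructor
    · have htwo : ∀ y : Matrix (Fin n) (Fin n) F, y + y = 0 := fun y => by
        rw [← two_smul F, CharTwo.two_eq_zero, zero_smul]
      rw [sub_mul, mul_sub, mul_sub, one_mul, mul_one, mul_one, h2']
      have := htwo (1 - (x : Matrix (Fin n) (Fin n) F))
      rw [← sub_eq_zero]
      rw [sub_zero]
      rw [← this]
      abel
    · intro h0
      have : x = 1 := Subtype.ext (sub_eq_zero.1 h0)
      rw [this, orderOf_one] at hx
      omega
  constructor
  · rintro hab
    obtain ⟨c, hc⟩ := isConj_iff.1 hab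
    have e : ((b : Matrix (Fin n) (Fin n) F) - 1) = (c : Matrix (Fin n) (Fin n) F) *
        ((a : Matrix (Fin n) (Fin n) F) - 1) * ((c⁻¹ : Matrix.SpecialLinearGroup (Fin n) F) : Matrix (Fin n) (Fin n) F) := by
      rw [← hc, mul_sub, mul_one, sub_mul]
      simp only [Matrix.SpecialLinearGroup.coe_mul]
      rw [← Matrix.SpecialLinearGroup.coe_mul c c⁻¹, mul_inv_cancel, Matrix.SpecialLinearGroup.coe_one]
    rw [e, Matrix.rank_mul_eq_left_of_isUnit_det, Matrix.rank_mul_eq_right_of_isUnit_det]
    · rw [c.2]; exact isUnit_one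
    · rw [(c⁻¹ : Matrix.SpecialLinearGroup (Fin n) F).2]; exact isUnit_one
  · intro hr
    obtain ⟨hA, hA0⟩ := hsz a ha
    obtain ⟨hB, _⟩ := hsz b hb
    have hsq : ∀ t : F, IsSquare t := FiniteField.isSquare_of_char_two (ringChar.eq F 2)
    have hf : ∀ (M : Matrix (Fin n) (Fin n) F), M * M = 0 → ∀ x, Matrix.toLin' M (Matrix.toLin' M x) = 0 := by
      intro M hM x
      rw [Matrix.toLin'_apply, Matrix.toLin'_apply, Matrix.mulVec_mulVec, hM, Matrix.zero_mulVec]
    obtain ⟨e, hdet, he⟩ := H37.exists_det_one_intertwining_sq_zero hsq _ _ (hf _ hA) (hf _ hB)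
      ((LinearEquiv.map_ne_zero_iff _).2 hA0) hr
    let P : Matrix.SpecialLinearGroup (Fin n) F :=
      ⟨LinearMap.toMatrix' e, by rw [LinearMap.det_toMatrix', hdet]⟩
    refine isConj_iff.2 ⟨P, ?_⟩
    rw [mul_inv_eq_iff_eq_mul]
    apply Subtype.ext
    have h1 : LinearMap.toMatrix' e * ((a : Matrix (Fin n) (Fin n) F) - 1) =
        ((b : Matrix (Fin n) (Fin n) F) - 1) * LinearMap.toMatrix' e := by
      have : e.comp (Matrix.toLin' ((a : Matrix (Fin n) (Fin n) F) - 1)) =
          (Matrix.toLin' ((b : Matrix (Fin n) (Fin n) F) - 1)).comp e := LinearMap.ext he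
      simpa [LinearMap.toMatrix'_comp] using congrArg LinearMap.toMatrix' this
    rw [mul_sub, sub_mul, mul_one, one_mul, sub_left_inj] at h1
    exact h1

end Cfsg.Agent.S2162
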