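import Cfsg.Statements.S2163
-- import your own Cfsg.Agent.* helpers here

set_option autoImplicit false
open Cfsg

namespace Cfsg.Agent.S2163

/-- Over a finite field of characteristic two and for n ≥ 3: for every ℓ with 1 ≤ ℓ and 2ℓ ≤ n, the matrix j_ℓ that is the identity plus the entries 1 in positions (n − ℓ + i, i) for i < ℓ (an identity block of size ℓ in the lower left corner) lies in SL_n(F), has order 2, and j_ℓ − 1 has rank ℓ. Together with the conjugacy criterion by rank, these matrices represent the conjugacy classes of involutions of SL_n(F). -/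
theorem result {F : Type*} [Field F] [Fintype F] [CharP F 2] {n : ℕ} (hn : 3 ≤ n) (ℓ : ℕ) (h1 : 1 ≤ ℓ) (h2 : 2 * ℓ ≤ n) :
    ∃ a : Matrix.SpecialLinearGroup (Fin n) F, (a : Matrix (Fin n) (Fin n) F) = 1 + Matrix.of (fun i j : Fin n => if j.val < ℓ ∧ i.val = j.val + (n - ℓ) then (1 : F) else 0) ∧ orderOf a = 2 ∧ ((a : Matrix (Fin n) (Fin n) F) - 1).rank = ℓ := by
  classical
  set N : Matrix (Fin n) (Fin n) F :=
    Matrix.of (fun i j : Fin n => if j.val < ℓ ∧ i.val = j.val + (n - ℓ) then (1 : F) else 0) with hN
  have hlow : (1 + N).IsLowerTriangular := by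
    intro i j hij
    have h : i.val < j.val := by simpa using hij
    have hne : i ≠ j := fun he => by subst he; omega
    rw [Matrix.add_apply, Matrix.one_apply_ne hne, hN, Matrix.of_apply, if_neg (by omega), add_zero]
  have hdet : (1 + N).det = 1 := by
    rw [Matrix.det_of_isLowerTriangular _ hlow]
    apply Finset.prod_eq_one
    intro i _
    rw [Matrix.add_apply, Matrix.one_apply_eq, hN, Matrix.of_apply, if_neg (by omega), add_zero]
  have hNN : N * N = 0 := by
    ext i k
    rw [Matrix.mul_apply, Matrix.zero_apply]
    apply Finset.sum_eq_zero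
    intro j _
    simp only [hN, Matrix.of_apply]
    split_ifs with a b <;> first | omega | simp
  have hrank : N.rank = ℓ := by
    let rw' : Fin ℓ → Fin n := fun a => ⟨a.val + (n - ℓ), by omega⟩
    let cl : Fin ℓ → Fin n := fun a => ⟨a.val, by omega⟩
    have hf : N = (1 : Matrix (Fin n) (Fin n) F).submatrix id rw' *
        (1 : Matrix (Fin n) (Fin n) F).submatrix cl id := by
      ext i j
      rw [Matrix.mul_apply]
      simp only [hN, Matrix.of_apply, Matrix.submatrix_apply, id_eq, Matrix.one_apply, ite_mul,
        one_mul, zero_mul]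
      split_ifs with h
      · rw [Finset.sum_eq_single ⟨j.val, h.1⟩]
        · simp [rw', cl, Fin.ext_iff, h.2]
        · intro b _ hb
          simp only [Fin.ext_iff, ne_eq] at hb
          simp [cl, Fin.ext_iff, hb]
        · simp
      · symm
        apply Finset.sum_eq_zero
        intro b _
        simp only [rw', cl, Fin.ext_iff]
        split_ifs <;> first | rfl | omega
    apply le_antisymm
    · rw [hf]
      exact (Matrix.rank_mul_le_left _ _).trans ((Matrix.rank_le_card_width _).trans (by simp))
    · have h1 : N.submatrix rw' cl = 1 := by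
        ext a b
        simp [hN, rw', cl, Matrix.one_apply, Fin.ext_iff, eq_comm]
      have := Matrix.rank_submatrix_le N rw' cl
      simpa [h1, Matrix.rank_one] using this
  refine ⟨⟨1 + N, hdet⟩, rfl, ?_, by simpa using hrank⟩
  apply orderOf_eq_prime
  · refine (sq _).trans (Subtype.ext ?_)
    show (1 + N) * (1 + N) = 1
    rw [add_mul, mul_add, mul_add, one_mul, one_mul, mul_one, hNN, add_zero, add_assoc, ← two_smul F,
      CharTwo.two_eq_zero, zero_smul, add_zero]
  · intro h
    have := congrArg Subtype.val h
    simp only [Matrix.SpecialLinearGroup.coe_one, add_eq_left] at this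
    rw [this, Matrix.rank_zero] at hrank
    omega

end Cfsg.Agent.S2163
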