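import Cfsg.Statements.S2164
import Cfsg.Agent.H50.EvenInvolution
import Cfsg.Agent.H51.Jordan
-- import your own Cfsg.Agent.* helpers here

set_option autoImplicit false
open Cfsg

namespace Cfsg.Agent.S2164

/-- Conjugacy of involutions in the special unitary group SU_n(q), q even, n ≥ 3, realised over the field F with q² elements as the matrices of determinant 1 preserving the form Σ u_i v_i^q: for two elements of order 2 of SU_n(q) the following are equivalent — they are conjugate in SU_n(q); they are conjugate in SL_n(F); the matrices a − 1 and b − 1 have the same rank. -/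
theorem result {F : Type*} [Field F] [Fintype F] [CharP F 2] {n q : ℕ} (hF : Fintype.card F = q ^ 2) (hn : 3 ≤ n) (a b : ↥(Cfsg.SU n F q)) (ha : orderOf a = 2) (hb : orderOf b = 2) :
    (IsConj a b ↔ IsConj (a : Matrix.SpecialLinearGroup (Fin n) F) (b : Matrix.SpecialLinearGroup (Fin n) F)) ∧
    (IsConj a b ↔ (((a : Matrix.SpecialLinearGroup (Fin n) F) : Matrix (Fin n) (Fin n) F) - 1).rank = (((b : Matrix.SpecialLinearGroup (Fin n) F) : Matrix (Fin n) (Fin n) F) - 1).rank) := by
  classical
  set A : Matrix (Fin n) (Fin n) F :=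
    ((a : Matrix.SpecialLinearGroup (Fin n) F) : Matrix (Fin n) (Fin n) F) with hAdef
  set B : Matrix (Fin n) (Fin n) F :=
    ((b : Matrix.SpecialLinearGroup (Fin n) F) : Matrix (Fin n) (Fin n) F) with hBdef
  let G : GL (Fin n) F := Matrix.SpecialLinearGroup.toGL (a : Matrix.SpecialLinearGroup (Fin n) F)
  let H : GL (Fin n) F := Matrix.SpecialLinearGroup.toGL (b : Matrix.SpecialLinearGroup (Fin n) F)
  have hG : G ∈ Cfsg.GU n F q := a.2
  have hH : H ∈ Cfsg.GU n F q := b.2
  have sq : ∀ x : ↥(Cfsg.SU n F q), orderOf x = 2 →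
      ((x : Matrix.SpecialLinearGroup (Fin n) F) : Matrix (Fin n) (Fin n) F) *
        ((x : Matrix.SpecialLinearGroup (Fin n) F) : Matrix (Fin n) (Fin n) F) = 1 := by
    intro x hx
    have h := pow_orderOf_eq_one x
    rw [hx, pow_two] at h
    exact congrArg (fun y : ↥(Cfsg.SU n F q) =>
      ((y : Matrix.SpecialLinearGroup (Fin n) F) : Matrix (Fin n) (Fin n) F)) h
  have nil : ∀ M : Matrix (Fin n) (Fin n) F, M * M = 1 → (M - 1) * (M - 1) = 0 := by
    intro M hM
    rw [sub_mul, mul_sub, one_mul, mul_one, hM]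
    have h2 : (2 : F) = 0 := CharTwo.two_eq_zero
    have : (1 : Matrix (Fin n) (Fin n) F) - M - (M - 1) = (2 : F) • (1 - M) := by
      rw [two_smul]; abel
    rw [this, h2, zero_smul]
  have hA2 := nil A (sq a ha)
  have hB2 := nil B (sq b hb)
  have to_rank : IsConj (a : Matrix.SpecialLinearGroup (Fin n) F) b → (A - 1).rank = (B - 1).rank := by
    intro h
    have h1 : IsConj A B := by
      obtain ⟨c, hc⟩ := isConj_iff.1 h
      refine ⟨Matrix.SpecialLinearGroup.toGL c, ?_⟩
      show (c : Matrix (Fin n) (Fin n) F) * A = B * c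
      exact congrArg (fun y : Matrix.SpecialLinearGroup (Fin n) F => (y : Matrix (Fin n) (Fin n) F)) (mul_inv_eq_iff_eq_mul.1 hc)
    have := H51.rank_eq_of_isConj (H51.isConj_sub_one_pow h1 1)
    rwa [pow_one, pow_one] at this
  have from_rank : (A - 1).rank = (B - 1).rank → IsConj a b := by
    intro hr
    have hz : ∀ M : Matrix (Fin n) (Fin n) F, (M - 1) * (M - 1) = 0 → ∀ j, (M - 1) ^ (j + 2) = 0 := by
      intro M hM j
      rw [pow_add, pow_two, hM, mul_zero]
    have hAB : IsConj A B := by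
      refine (H51.isConj_iff_rank ⟨2, hz A hA2 0⟩ ⟨2, hz B hB2 0⟩).2 fun j => ?_
      rcases j with _ | _ | j
      · rw [pow_zero, pow_zero]
      · rw [pow_one, pow_one]; exact hr
      · rw [hz A hA2 j, hz B hB2 j]
    obtain ⟨c, hc⟩ := hAB
    have hGH : IsConj G H := isConj_iff.2 ⟨c, by
      rw [mul_inv_eq_iff_eq_mul]; exact Units.ext hc⟩
    obtain ⟨u, hu, huv⟩ := H51.gu_conj_of_gl_conj hF hG hH hGH
    set U : Matrix (Fin n) (Fin n) F := (u : Matrix (Fin n) (Fin n) F)
    have hU : H51.adj hF U * U = 1 := (H51.mem_GU_iff hF u).mp hu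
    have hAu : H51.adj hF A * A = 1 := (H51.mem_GU_iff hF G).mp hG
    have hNs : H51.adj hF (A - 1) = A - 1 := by
      rw [H51.adj_sub, H51.adj_one, left_inv_eq_right_inv hAu (sq a ha)]
    have hN0 : A - 1 ≠ 0 := by
      intro h
      have h1 : a = 1 := Subtype.ext (Subtype.ext (sub_eq_zero.1 h))
      rw [h1, orderOf_one] at ha
      exact absurd ha (by norm_num)
    have hdet : U.det ^ q * U.det = 1 := H51.det_norm_GU hF hU
    obtain ⟨Y, hY, hYM, hYd⟩ := H50.exists_commuting_unitary_det_nilp hF (H50.q_even hF) hNs hA2 hN0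
      (l := (U.det)⁻¹) (by rw [inv_pow, pow_succ, hdet, inv_one])
    have hYA : Y * A = A * Y := by
      rwa [mul_sub, sub_mul, mul_one, one_mul, sub_left_inj] at hYM
    have hV : H51.adj hF (U * Y) * (U * Y) = 1 := by
      rw [H51.adj_mul, mul_assoc, ← mul_assoc _ U, hU, one_mul, hY]
    have hU0 : U.det ≠ 0 := fun h0 => by rw [h0, mul_zero] at hdet; exact zero_ne_one hdet
    let w : ↥(Cfsg.SU n F q) := H50.mkSU (U * Y)
      (fun v z => by rw [H50.h_mulVec_left hF, Matrix.mulVec_mulVec, hV, Matrix.one_mulVec])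
      (by rw [Matrix.det_mul, hYd, mul_inv_cancel₀ hU0])
    refine isConj_iff.2 ⟨w, mul_inv_eq_iff_eq_mul.2 ?_⟩
    apply Subtype.ext
    apply Subtype.ext
    show U * Y * A = B * (U * Y)
    have h2 : U * A = B * U := congrArg Units.val (mul_inv_eq_iff_eq_mul.1 huv)
    rw [mul_assoc, hYA, ← mul_assoc, h2, mul_assoc]
  have down : IsConj a b → IsConj (a : Matrix.SpecialLinearGroup (Fin n) F) b := fun h =>
    MonoidHom.map_isConj (Cfsg.SU n F q).subtype h
  exact ⟨⟨down, fun h => from_rank (to_rank h)⟩, ⟨fun h => to_rank (down h), from_rank⟩⟩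

end Cfsg.Agent.S2164
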