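import Cfsg.Statements.S2165
import Cfsg.Agent.H50.Transvection

set_option autoImplicit false
open Cfsg

namespace Cfsg.Agent.S2165

/-- In SU_n(q), q even, n ≥ 3 (matrices of determinant 1 over the field with q² elements preserving Σ u_i v_i^q): for every ℓ with 1 ≤ ℓ and 2ℓ ≤ n, the permutation matrix of the involution of {0, …, n−1} exchanging i and n − ℓ + i for each i < ℓ lies in SU_n(q), has order 2, and differs from the identity by a matrix of rank ℓ. So every rank between 1 and n/2 occurs for involutions of SU_n(q). -/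
theorem result {F : Type*} [Field F] [Fintype F] [CharP F 2] {n q : ℕ} (hF : Fintype.card F = q ^ 2) (hn : 3 ≤ n) (ℓ : ℕ) (h1 : 1 ≤ ℓ) (h2 : 2 * ℓ ≤ n) :
    ∃ a : ↥(Cfsg.SU n F q), (((a : Matrix.SpecialLinearGroup (Fin n) F) : Matrix (Fin n) (Fin n) F) = Matrix.of (fun i j : Fin n => if (j.val < ℓ ∧ i.val = j.val + (n - ℓ)) ∨ (i.val < ℓ ∧ j.val = i.val + (n - ℓ)) ∨ (i = j ∧ ℓ ≤ i.val ∧ i.val < n - ℓ) then (1 : F) else 0)) ∧ orderOf a = 2 ∧ ((((a : Matrix.SpecialLinearGroup (Fin n) F) : Matrix (Fin n) (Fin n) F)) - 1).rank = ℓ := by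
  classical
  let P : Matrix (Fin n) (Fin n) F := Matrix.of (fun i j : Fin n => if (j.val < ℓ ∧ i.val = j.val + (n - ℓ)) ∨ (i.val < ℓ ∧ j.val = i.val + (n - ℓ)) ∨ (i = j ∧ ℓ ≤ i.val ∧ i.val < n - ℓ) then (1 : F) else 0)
  let sv : Fin n → Fin n := fun i =>
    if h : i.val < ℓ then ⟨i.val + (n - ℓ), by omega⟩
    else if h' : n - ℓ ≤ i.val then ⟨i.val - (n - ℓ), by omega⟩ else i
  have hval : ∀ i, (sv i).val =
      if i.val < ℓ then i.val + (n - ℓ) else if n - ℓ ≤ i.val then i.val - (n - ℓ) else i.val := by
    intro i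
    simp only [sv]
    split_ifs <;> rfl
  have hsv : ∀ i, sv (sv i) = i := by
    intro i
    refine Fin.ext ?_
    have hi := i.isLt
    rw [hval, hval]
    split_ifs <;> omega
  let σ : Equiv.Perm (Fin n) := ⟨sv, sv, hsv, hsv⟩
  have hP : ∀ (x : Fin n → F) (i : Fin n), P.mulVec x i = x (σ i) := by
    intro x i
    have hrow : ∀ j, P i j = if j = σ i then 1 else 0 := by
      intro j
      simp only [P, Matrix.of_apply, σ, Equiv.coe_fn_mk, Fin.ext_iff, hval]
      refine if_congr ?_ rfl rfl
      have hi := i.isLt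
      have hj := j.isLt
      split_ifs <;> omega
    simp [Matrix.mulVec, dotProduct, hrow]
  have hiso : H50.IsIso q P := by
    intro u v
    simp only [Cfsg.hermForm, hP]
    exact Equiv.sum_comp σ fun i => u i * v i ^ q
  have hdet : P.det = 1 := by
    have hperm : P = Equiv.Perm.permMatrix F σ := by
      ext i j
      have := hP (Pi.single j 1) i
      rw [Matrix.mulVec_single_one, Matrix.col_apply] at this
      rw [this, Equiv.Perm.permMatrix, PEquiv.toMatrix_apply, Pi.single_apply]
      simp [Equiv.toPEquiv]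
    rw [hperm, Matrix.det_permutation]
    rcases Int.units_eq_one_or (Equiv.Perm.sign σ) with h | h <;> simp [h, CharTwo.neg_eq]
  refine ⟨H50.mkSU P hiso hdet, rfl, orderOf_eq_prime ?_ ?_, ?_⟩
  · refine H50.suMat_ext fun x => ?_
    rw [pow_two, H50.suMat_mulVec_mul, H50.suMat_one, Matrix.one_mulVec]
    funext i
    show P.mulVec (P.mulVec x) i = x i
    rw [hP, hP]
    exact congrArg x (hsv i)
  · intro h
    have h0 := congrFun (congrArg (fun k => (H50.suMat k).mulVec (Pi.single ⟨0, by omega⟩ 1)) h) ⟨0, by omega⟩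
    simp only [H50.suMat_one, Matrix.one_mulVec] at h0
    change P.mulVec _ _ = _ at h0
    rw [hP] at h0
    simp [σ, sv, show 0 < ℓ by omega, Pi.single_apply, Fin.ext_iff] at h0
    omega
  · show (P - 1).rank = ℓ
    let A : Matrix (Fin n) (Fin ℓ) F :=
      Matrix.of fun i j => if i.val = j.val ∨ i.val = j.val + (n - ℓ) then 1 else 0
    let E : Matrix (Fin n) (Fin ℓ) F := Matrix.of fun i j => if i.val = j.val then 1 else 0
    have hfac : P - 1 = A * A.transpose := by
      refine Matrix.ext_of_mulVec_single fun k => funext fun i => ?_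
      rw [Matrix.sub_mulVec, Matrix.one_mulVec, Pi.sub_apply, hP, CharTwo.sub_eq_add,
        Matrix.mulVec_single_one, Matrix.col_apply, Matrix.mul_apply]
      have hi := i.isLt
      have hk := k.isLt
      by_cases hmid : ℓ ≤ i.val ∧ i.val < n - ℓ
      · rw [Finset.sum_eq_zero]
        · have : σ i = i := Fin.ext (by simp only [σ, Equiv.coe_fn_mk, hval]; split_ifs <;> omega)
          rw [this, CharTwo.add_self_eq_zero]
        · intro j _
          simp [A, show ¬ i.val = j.val by omega, show ¬ i.val = j.val + (n - ℓ) by omega]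
      · let jj : Fin ℓ := ⟨if i.val < ℓ then i.val else i.val - (n - ℓ), by split_ifs <;> omega⟩
        rw [Finset.sum_eq_single jj]
        · simp only [A, jj, Matrix.transpose_apply, Matrix.of_apply, Pi.single_apply, σ,
            Equiv.coe_fn_mk, Fin.ext_iff, hval]
          split_ifs <;> (try omega) <;> simp [CharTwo.add_self_eq_zero]
        · intro j _ hj
          simp [A, jj, Fin.ext_iff] at *
          intro h
          split_ifs at hj <;> omega
        · simp
    refine le_antisymm ?_ ?_
    · rw [hfac]
      exact (Matrix.rank_mul_le_left _ _).trans ((Matrix.rank_le_card_width A).trans (by simp))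
    · have hid : E.transpose * (P - 1) * E = 1 := by
        ext i j
        have hi : i.val < n := by omega
        have hj : j.val < n := by omega
        rw [Matrix.mul_apply, Finset.sum_eq_single (⟨j, hj⟩ : Fin n)]
        · rw [Matrix.mul_apply, Finset.sum_eq_single (⟨i, hi⟩ : Fin n)]
          · simp [E, P, Matrix.one_apply, Fin.ext_iff]
            split_ifs <;> first | rfl | omega | simp [CharTwo.neg_eq]
          · intro k _ hk
            simp [E, Fin.ext_iff] at *
            simp [hk]
          · simp
        · intro k _ hk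
          simp [E, Fin.ext_iff] at *
          simp [hk]
        · simp
      have h1 := Matrix.rank_one (R := F) (n := Fin ℓ)
      rw [← hid, Fintype.card_fin] at h1
      calc ℓ = (E.transpose * (P - 1) * E).rank := h1.symm
        _ ≤ (E.transpose * (P - 1)).rank := Matrix.rank_mul_le_left _ _
        _ ≤ (P - 1).rank := Matrix.rank_mul_le_right _ _

end Cfsg.Agent.S2165
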