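import Cfsg.Statements.S2166
import Cfsg.Agent.H48.InvolutionClass
-- import your own Cfsg.Agent.* helpers here

set_option autoImplicit false
open Cfsg

namespace Cfsg.Agent.S2166

/-- Conjugacy of involutions in the symplectic group Sp_{2m}(F), F a finite field of characteristic two, m ≥ 2 (Sp taken as the matrices A with A J Aᵀ = J, acting on column vectors, with the alternating form f(u, v) = u ⬝ (J v)). For an involution t write V(t) for the set of vectors v with f(v, t v) = 0 (a subspace). Two involutions a, b are conjugate in Sp_{2m}(F) exactly when a − 1 and b − 1 have the same rank and, in case that rank is even, V(a) and V(b) have the same number of elements. -/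
theorem result {F : Type*} [Field F] [Fintype F] [CharP F 2] {m : ℕ} (hm : 2 ≤ m) (a b : ↥(Matrix.symplecticGroup (Fin m) F)) (ha : orderOf a = 2) (hb : orderOf b = 2) :
    IsConj a b ↔ ((((a : ↥(Matrix.symplecticGroup (Fin m) F)) : Matrix (Fin m ⊕ Fin m) (Fin m ⊕ Fin m) F) - 1).rank = (((b : ↥(Matrix.symplecticGroup (Fin m) F)) : Matrix (Fin m ⊕ Fin m) (Fin m ⊕ Fin m) F) - 1).rank ∧
      (Even (((a : ↥(Matrix.symplecticGroup (Fin m) F)) : Matrix (Fin m ⊕ Fin m) (Fin m ⊕ Fin m) F) - 1).rank → Nat.card {v : Fin m ⊕ Fin m → F // Cfsg.sympForm m F v (Matrix.mulVec ((a : ↥(Matrix.symplecticGroup (Fin m) F)) : Matrix (Fin m ⊕ Fin m) (Fin m ⊕ Fin m) F) v) = 0} = Nat.card {v : Fin m ⊕ Fin m → F // Cfsg.sympForm m F v (Matrix.mulVec ((b : ↥(Matrix.symplecticGroup (Fin m) F)) : Matrix (Fin m ⊕ Fin m) (Fin m ⊕ Fin m) F) v) = 0})) := by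
  have hta : a * a = 1 := by rw [← sq, ← ha, pow_orderOf_eq_one]
  have htb : b * b = 1 := by rw [← sq, ← hb, pow_orderOf_eq_one]
  constructor
  · intro h
    obtain ⟨g, hg⟩ := isConj_iff.1 h
    refine ⟨?_, fun _ => ?_⟩
    · rw [← hg, Submonoid.coe_mul, Submonoid.coe_mul, SymplecticGroup.coe_inv']
      have hu := SymplecticGroup.symplectic_det g.2
      rw [show g.1 * a.1 * g.1⁻¹ - 1 = g.1 * (a.1 - 1) * g.1⁻¹ by
          rw [Matrix.mul_sub, Matrix.sub_mul, Matrix.mul_one, Matrix.mul_nonsing_inv _ hu],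
        Matrix.rank_mul_eq_left_of_isUnit_det _ _ (Matrix.isUnit_nonsing_inv_det _ hu),
        Matrix.rank_mul_eq_right_of_isUnit_det _ _ hu]
    · refine Nat.card_congr ((MulAction.toPerm g).subtypeEquiv fun v => ?_)
      show H48.sf v (a • v) = 0 ↔ H48.sf (g • v) (b • g • v) = 0
      rw [← hg, mul_smul, mul_smul, inv_smul_smul, H48.sf_smul_smul]
  · rintro ⟨hrk, hcard⟩
    refine H48.conj_of_invariants
      (fun c => (FiniteField.isSquare_of_char_two (ringChar.eq F 2) c).imp fun r hr => hr.symm) hta htb hrk ?_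
    have hq : 1 < Fintype.card F := Fintype.one_lt_card
    have hcard' : Even ((a : Matrix (Fin m ⊕ Fin m) (Fin m ⊕ Fin m) F) - 1).rank →
        Nat.card {v : Fin m ⊕ Fin m → F // H48.sf v (a • v) = 0} =
        Nat.card {v : Fin m ⊕ Fin m → F // H48.sf v (b • v) = 0} := hcard
    have key : ∀ {N : ℕ}, N = Fintype.card F ^ (2 * Fintype.card (Fin m)) →
        N * Fintype.card F ≠ Fintype.card F ^ (2 * Fintype.card (Fin m)) := by
      intro N hN h
      have hpos : 0 < Fintype.card F ^ (2 * Fintype.card (Fin m)) := pow_pos (by omega) _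
      rw [hN] at h
      have := (Nat.mul_eq_left hpos.ne').1 h
      omega
    rcases H48.card_qzero hta with ⟨h1, c1⟩ | ⟨h1, c1⟩ <;>
      rcases H48.card_qzero htb with ⟨h2, c2⟩ | ⟨h2, c2⟩
    · exact iff_of_true h1 h2
    · exact absurd c2 (key ((hcard' (H48.even_rank_of_alt hta h1)).symm.trans c1))
    · exact absurd c1 (key ((hcard' (hrk ▸ H48.even_rank_of_alt htb h2)).trans c2))
    · exact iff_of_false h1 h2

end Cfsg.Agent.S2166
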