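import Cfsg.Statements.S2176
import Cfsg.Agent.H56.Invol.Classes
import Cfsg.Agent.H56.Invol.E8Check
import Cfsg.Agent.H56.Invol.E8Rank
-- import your own Cfsg.Agent.* helpers here

set_option autoImplicit false
open Cfsg

namespace Cfsg.Agent.S2176

/-- Conjugacy classes of involutions in the Chevalley group of type E₈ over a finite field F of characteristic two (the matrix group generated by the root elements x_r(t)). In this problem's root numbering for type E₈ (the Chevalley data module; fundamental roots numbered so that p₁–p₃–p₄–p₅–p₆–p₇–p₈ is the long chain of the diagram and p₂ is joined to p₄; roots indexed by their coefficient vectors in increasing order) let r = 239 be the highest root (2,3,4,6,5,4,3,2), α = 232 = (2,2,4,5,4,3,2,1), β = 233 = (2,3,3,5,4,3,2,1), γ = 228 = (2,2,3,4,3,2,2,1), δ = 222 = (1,2,3,4,3,3,2,1), ε = 218 = (1,2,2,4,4,3,2,1), φ = 226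 = (2,2,3,4,3,2,1,0), ψ = 220 = (1,2,3,4,3,2,1,1), θ = 213 = (1,2,2,3,3,3,2,1), ω = 216 = (1,2,2,4,3,2,2,1) (the roots within each of {α, β}, {γ, δ, ε}, {φ, ψ, θ, ω} pairwise orthogonal); consider x_r(1), x_α(1)x_β(1), x_γ(1)x_δ(1)x_ε(1) and x_φ(1)x_ψ(1)x_θ(1)x_ω(1). Then: each invertible matrix equal to one of these four products lies in the group and has order 2; every element of order 2 of the group is conjugate in the group to one of them; and no two of them are conjugate in the group (so, the four matrices being distinct, the group has exactly four conjugacy classes of involutions). -/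
theorem result {F : Type*} [Field F] [Fintype F] [CharP F 2] :
    (∀ y : GL Cfsg.Lie.chevE8.Idx F, ((y : GL Cfsg.Lie.chevE8.Idx F) : Matrix Cfsg.Lie.chevE8.Idx Cfsg.Lie.chevE8.Idx F) ∈ [Cfsg.Lie.chevE8.x F 239 1, Cfsg.Lie.chevE8.x F 232 1 * Cfsg.Lie.chevE8.x F 233 1, Cfsg.Lie.chevE8.x F 228 1 * Cfsg.Lie.chevE8.x F 222 1 * Cfsg.Lie.chevE8.x F 218 1, Cfsg.Lie.chevE8.x F 226 1 * Cfsg.Lie.chevE8.x F 220 1 * Cfsg.Lie.chevE8.x F 213 1 * Cfsg.Lie.chevE8.x F 216 1] → y ∈ Cfsg.Lie.chevE8.group F ∧ orderOf y = 2) ∧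
    (∀ g ∈ Cfsg.Lie.chevE8.group F, orderOf g = 2 → ∃ y ∈ Cfsg.Lie.chevE8.group F, ((y : GL Cfsg.Lie.chevE8.Idx F) : Matrix Cfsg.Lie.chevE8.Idx Cfsg.Lie.chevE8.Idx F) ∈ [Cfsg.Lie.chevE8.x F 239 1, Cfsg.Lie.chevE8.x F 232 1 * Cfsg.Lie.chevE8.x F 233 1, Cfsg.Lie.chevE8.x F 228 1 * Cfsg.Lie.chevE8.x F 222 1 * Cfsg.Lie.chevE8.x F 218 1, Cfsg.Lie.chevE8.x F 226 1 * Cfsg.Lie.chevE8.x F 220 1 * Cfsg.Lie.chevE8.x F 213 1 * Cfsg.Lie.chevE8.x F 216 1] ∧ ∃ h ∈ Cfsg.Lie.chevE8.group F, h * g * h⁻¹ = y) ∧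
    (∀ y₁ ∈ Cfsg.Lie.chevE8.group F, ∀ y₂ ∈ Cfsg.Lie.chevE8.group F, ((y₁ : GL Cfsg.Lie.chevE8.Idx F) : Matrix Cfsg.Lie.chevE8.Idx Cfsg.Lie.chevE8.Idx F) ∈ [Cfsg.Lie.chevE8.x F 239 1, Cfsg.Lie.chevE8.x F 232 1 * Cfsg.Lie.chevE8.x F 233 1, Cfsg.Lie.chevE8.x F 228 1 * Cfsg.Lie.chevE8.x F 222 1 * Cfsg.Lie.chevE8.x F 218 1, Cfsg.Lie.chevE8.x F 226 1 * Cfsg.Lie.chevE8.x F 220 1 * Cfsg.Lie.chevE8.x F 213 1 * Cfsg.Lie.chevE8.x F 216 1] → ((y₂ : GL Cfsg.Lie.chevE8.Idx F) : Matrix Cfsg.Lie.chevE8.Idx Cfsg.Lie.chevE8.Idx F) ∈ [Cfsg.Lie.chevE8.x F 239 1, Cfsg.Lie.chevE8.x F 232 1 * Cfsg.Lie.chevE8.x F 233 1, Cfsg.Lie.chevE8.x F 228 1 * Cfsg.Lie.chevE8.x F 222 1 * Cfsg.Lie.chevE8.x F 218 1, Cfsg.Lie.chevE8.x F 226 1 * Cfsg.Lie.chevE8.x F 220 1 * Cfsg.Lie.chevE8.x F 213 1 * Cfsg.Lie.chevE8.x F 216 1] →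
      (∃ h ∈ Cfsg.Lie.chevE8.group F, h * y₁ * h⁻¹ = y₂) → ((y₁ : GL Cfsg.Lie.chevE8.Idx F) : Matrix Cfsg.Lie.chevE8.Idx Cfsg.Lie.chevE8.Idx F) = ((y₂ : GL Cfsg.Lie.chevE8.Idx F) : Matrix Cfsg.Lie.chevE8.Idx Cfsg.Lie.chevE8.Idx F)) := by
  obtain ⟨C⟩ : Nonempty (H54.Ctx Lie.chevE8) := H54.exists_ctx (by simp)
  let S : H56.Inv.Sys Lie.chevE8 := ⟨C, H56.Inv.E8.tab, H56.Inv.E8.tab_ok⟩
  have hn : Lie.chevE8.nroots = 240 := by decide +kernel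
  obtain ⟨hr, hP, hA⟩ := H56.Inv.E8.root_ok
  have hnode : ∀ i < 4067, H56.Inv.nodeOK Lie.chevE8.nroots S.T H56.Inv.E8.reps H56.Inv.E8.node i = true := by
    rw [hn]; exact H56.Inv.E8.node_ok
  have hA' : (H56.Inv.E8.node 4066).A = H56.Inv.fullMask Lie.chevE8.nroots := by
    rw [hA, hn]; decide +kernel
  have hcov := H56.Inv.E8.certs_cover
  have hsep := H56.Inv.E8.certs_sep
  have hord : ∀ L ∈ H56.Inv.E8.reps, orderOf (H56.Inv.wp Lie.chevE8 F L) = 2 := by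
    intro L hL
    refine H56.Inv.orderOf_wp C.hC H56.Inv.E8.mask_ok H56.Inv.E8.certs_ok hsep (hcov [] List.mem_cons_self)
      (hcov L (List.mem_cons_of_mem _ hL)) ?_ ?_
    · revert L; decide +kernel
    · have : ∀ M ∈ H56.Inv.E8.reps, H56.Inv.collect 240 H56.Inv.E8.tab 400 (M ++ M) = [] := by decide +kernel
      rw [← H56.Inv.wp_append, S.wp_eq_of_collect (fuel := 400) (P := []) (by rw [hn]; exact this L hL), H56.Inv.wp_nil]
  have hM : H56.Inv.E8.reps.map (fun L => ((H56.Inv.wp Lie.chevE8 F L : GL Lie.chevE8.Idx F) :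
      Matrix Lie.chevE8.Idx Lie.chevE8.Idx F)) =
      [Cfsg.Lie.chevE8.x F 239 1, Cfsg.Lie.chevE8.x F 232 1 * Cfsg.Lie.chevE8.x F 233 1,
        Cfsg.Lie.chevE8.x F 228 1 * Cfsg.Lie.chevE8.x F 222 1 * Cfsg.Lie.chevE8.x F 218 1,
        Cfsg.Lie.chevE8.x F 226 1 * Cfsg.Lie.chevE8.x F 220 1 * Cfsg.Lie.chevE8.x F 213 1 * Cfsg.Lie.chevE8.x F 216 1] := by
    have e3 : H56.Inv.wp Lie.chevE8 F [228, 222, 218] = H56.Inv.wp Lie.chevE8 F [218, 222, 228] :=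
      S.wp_eq_of_collect (fuel := 400) (by
        show H56.Inv.collect Lie.chevE8.nroots H56.Inv.E8.tab 400 [228, 222, 218] = [218, 222, 228]
        rw [hn]; decide +kernel)
    have e4 : H56.Inv.wp Lie.chevE8 F [226, 220, 213, 216] = H56.Inv.wp Lie.chevE8 F [213, 216, 220, 226] :=
      S.wp_eq_of_collect (fuel := 400) (by
        show H56.Inv.collect Lie.chevE8.nroots H56.Inv.E8.tab 400 [226, 220, 213, 216] = [213, 216, 220, 226]
        rw [hn]; decide +kernel)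
    simp only [H56.Inv.E8.reps, List.map_cons, List.map_nil, ← e3, ← e4]
    simp [H56.Inv.coe_wp C.hC, Lie.ChevalleyDatum.wordMat, Matrix.mul_assoc]
  rw [← hM]
  have hmem : ∀ y : GL Lie.chevE8.Idx F, (y : Matrix Lie.chevE8.Idx Lie.chevE8.Idx F) ∈
      H56.Inv.E8.reps.map (fun L => ((H56.Inv.wp Lie.chevE8 F L : GL Lie.chevE8.Idx F) :
        Matrix Lie.chevE8.Idx Lie.chevE8.Idx F)) → ∃ L ∈ H56.Inv.E8.reps, y = H56.Inv.wp Lie.chevE8 F L := by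
    intro y hy
    obtain ⟨L, hL, he⟩ := List.mem_map.1 hy
    exact ⟨L, hL, Units.ext he.symm⟩
  refine ⟨fun y hy => ?_, fun g hg ho => ?_, fun y₁ _ y₂ _ h1 h2 hc => ?_⟩
  · obtain ⟨L, hL, rfl⟩ := hmem y hy
    exact ⟨S.wp_mem L, hord L hL⟩
  · obtain ⟨L, hL, k, hk, he⟩ := S.exists_rep hnode hr hP hA' hg ho
    exact ⟨_, S.wp_mem L, List.mem_map.2 ⟨L, hL, rfl⟩, k, hk, he⟩
  · obtain ⟨L, hL, rfl⟩ := hmem y₁ h1
    obtain ⟨L', hL', rfl⟩ := hmem y₂ h2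
    obtain ⟨k, hk, he⟩ := hc
    by_cases e : L = L'
    · rw [e]
    · exact absurd he (H56.Inv.not_conj_of_certs C.hC H56.Inv.E8.mask_ok H56.Inv.E8.certs_ok hsep
        (hcov L (List.mem_cons_of_mem _ hL)) (hcov L' (List.mem_cons_of_mem _ hL')) e hk)

end Cfsg.Agent.S2176
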