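import Cfsg.Statements.S2177
import Cfsg.Agent.H54.InvolG2
import Cfsg.Agent.H54.ChevSylow
import Cfsg.Agent.H52.SevenSupport
-- import your own Cfsg.Agent.* helpers here

set_option autoImplicit false
open Cfsg

namespace Cfsg.Agent.S2177

/-- Conjugacy classes of involutions in the Chevalley group of type G₂ over a finite field F of characteristic two with at least four elements (the matrix group generated by the root elements x_r(t)). In this problem's root numbering for type G₂ (the Chevalley data module; p₁ = a short, p₂ = b long; roots indexed by coefficient vectors in increasing order) let 11 be the highest root 3a + 2b (long) and 9 the short root 2a + b; consider x_{3a+2b}(1) and x_{2a+b}(1). Then: each invertible matrix equal to one of these two products lies in the group and has order 2; every element of order 2 of the group is conjugate in the group to one of them; and no two of them are conjugate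 in the group (so, the two matrices being distinct, the group has exactly two conjugacy classes of involutions). -/
theorem result {F : Type*} [Field F] [Fintype F] [CharP F 2] (hF : 4 ≤ Fintype.card F) :
    (∀ y : GL Cfsg.Lie.chevG2.Idx F, ((y : GL Cfsg.Lie.chevG2.Idx F) : Matrix Cfsg.Lie.chevG2.Idx Cfsg.Lie.chevG2.Idx F) ∈ [Cfsg.Lie.chevG2.x F 11 1, Cfsg.Lie.chevG2.x F 9 1] → y ∈ Cfsg.Lie.chevG2.group F ∧ orderOf y = 2) ∧
    (∀ g ∈ Cfsg.Lie.chevG2.group F, orderOf g = 2 → ∃ y ∈ Cfsg.Lie.chevG2.group F, ((y : GL Cfsg.Lie.chevG2.Idx F) : Matrix Cfsg.Lie.chevG2.Idx Cfsg.Lie.chevG2.Idx F) ∈ [Cfsg.Lie.chevG2.x F 11 1, Cfsg.Lie.chevG2.x F 9 1] ∧ ∃ h ∈ Cfsg.Lie.chevG2.group F, h * g * h⁻¹ = y) ∧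
    (∀ y₁ ∈ Cfsg.Lie.chevG2.group F, ∀ y₂ ∈ Cfsg.Lie.chevG2.group F, ((y₁ : GL Cfsg.Lie.chevG2.Idx F) : Matrix Cfsg.Lie.chevG2.Idx Cfsg.Lie.chevG2.Idx F) ∈ [Cfsg.Lie.chevG2.x F 11 1, Cfsg.Lie.chevG2.x F 9 1] → ((y₂ : GL Cfsg.Lie.chevG2.Idx F) : Matrix Cfsg.Lie.chevG2.Idx Cfsg.Lie.chevG2.Idx F) ∈ [Cfsg.Lie.chevG2.x F 11 1, Cfsg.Lie.chevG2.x F 9 1] →
      (∃ h ∈ Cfsg.Lie.chevG2.group F, h * y₁ * h⁻¹ = y₂) → ((y₁ : GL Cfsg.Lie.chevG2.Idx F) : Matrix Cfsg.Lie.chevG2.Idx Cfsg.Lie.chevG2.Idx F) = ((y₂ : GL Cfsg.Lie.chevG2.Idx F) : Matrix Cfsg.Lie.chevG2.Idx Cfsg.Lie.chevG2.Idx F)) := by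
  obtain ⟨C⟩ : Nonempty (H54.Ctx Cfsg.Lie.chevG2) := H54.exists_ctx (by simp)
  let C' : H54.Ctx Cfsg.Lie.chevG2 :=
    ⟨H52.tablesG2, H52.checkedG2, C.W, C.hok⟩
  have hC := H52.checkedG2
  have hS : ∀ r < Cfsg.Lie.chevG2.nroots, ∀ j < Cfsg.Lie.chevG2.rank,
      (H52.crt Cfsg.Lie.chevG2 r j = 0 ↔ H52.tablesG2.co r j = 0) :=
    fun r hr j hj => H52.supportCheck_iff H52.supportG2 hr hj
  haveI : Fact (Nat.Prime 2) := ⟨Nat.prime_two⟩
  set G := Cfsg.Lie.chevG2.group F with hG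
  have hrt : ∀ r : ℕ, ∀ y : GL Cfsg.Lie.chevG2.Idx F,
      (y : Matrix Cfsg.Lie.chevG2.Idx Cfsg.Lie.chevG2.Idx F) = Cfsg.Lie.chevG2.x F r 1 →
      y = H52.rt Cfsg.Lie.chevG2 r (1 : F) := fun r y hy => hC.eq_rt hy
  have hne : ∀ r, r < Cfsg.Lie.chevG2.nroots → H52.rt Cfsg.Lie.chevG2 r (1 : F) ≠ 1 := by
    intro r hr h
    rw [← hC.rt_zero (F := F) r] at h
    exact one_ne_zero (hC.rt_injective hr h)
  have hord : ∀ r, r < Cfsg.Lie.chevG2.nroots → orderOf (H52.rt Cfsg.Lie.chevG2 r (1 : F)) = 2 := by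
    intro r hr
    refine orderOf_eq_prime ?_ (hne r hr)
    rw [pow_two, hC.rt_mul, CharTwo.add_self_eq_zero, hC.rt_zero]
  refine ⟨?_, ?_, ?_⟩
  · intro y hy
    simp only [List.mem_cons, List.not_mem_nil, or_false] at hy
    rcases hy with hy | hy <;> rw [hrt _ y hy] <;>
      exact ⟨hC.rt_mem_group _ _, hord _ (by decide)⟩
  · intro g hg h2
    obtain ⟨P, hP⟩ := C.exists_sylow (F := F) 2
    have hz : IsPGroup 2 ↥(Subgroup.zpowers (⟨g, hg⟩ : ↥G)) :=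
      IsPGroup.of_card (n := 1) (by rw [Nat.card_zpowers, Subgroup.orderOf_mk, h2]; rfl)
    obtain ⟨Q, hQ⟩ := hz.exists_le_sylow
    obtain ⟨c, hc⟩ := MulAction.exists_smul_eq ↥G P Q
    have h1 : (⟨g, hg⟩ : ↥G) ∈ ((c • P : Sylow 2 ↥G) : Subgroup ↥G) := by
      rw [hc]; exact hQ (Subgroup.mem_zpowers _)
    rw [Sylow.coe_subgroup_smul, Subgroup.mem_smul_pointwise_iff_exists] at h1
    obtain ⟨u, hu, he⟩ := h1
    rw [hP, Subgroup.mem_subgroupOf] at hu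
    have he' : (c : GL Cfsg.Lie.chevG2.Idx F) * (u : GL Cfsg.Lie.chevG2.Idx F) *
        (c : GL Cfsg.Lie.chevG2.Idx F)⁻¹ = g := congrArg Subtype.val he
    have hu2 : (u : GL Cfsg.Lie.chevG2.Idx F) * (u : GL Cfsg.Lie.chevG2.Idx F) = 1 := by
      have hg2 : g * g = 1 := by rw [← pow_two, ← h2]; exact pow_orderOf_eq_one g
      rw [← he'] at hg2
      rw [show (u : GL Cfsg.Lie.chevG2.Idx F) * u = (c : GL Cfsg.Lie.chevG2.Idx F)⁻¹ *
        ((c : GL Cfsg.Lie.chevG2.Idx F) * u * (c : GL Cfsg.Lie.chevG2.Idx F)⁻¹ *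
          ((c : GL Cfsg.Lie.chevG2.Idx F) * u * (c : GL Cfsg.Lie.chevG2.Idx F)⁻¹)) *
          (c : GL Cfsg.Lie.chevG2.Idx F) by group, hg2]
      group
    have hu1 : (u : GL Cfsg.Lie.chevG2.Idx F) ≠ 1 := by
      intro h
      rw [h, mul_one, mul_inv_cancel] at he'
      rw [← he', orderOf_one] at h2
      exact absurd h2 (by norm_num)
    obtain ⟨h, hh, hconj⟩ := H54.g2_involution_pos C' hS hu hu2 hu1
    refine ⟨_, ?_, ?_, h * (c : GL Cfsg.Lie.chevG2.Idx F)⁻¹, mul_mem hh (inv_mem c.2), rfl⟩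
    · exact mul_mem (mul_mem (mul_mem hh (inv_mem c.2)) hg) (inv_mem (mul_mem hh (inv_mem c.2)))
    · have e : h * (c : GL Cfsg.Lie.chevG2.Idx F)⁻¹ * g * (h * (c : GL Cfsg.Lie.chevG2.Idx F)⁻¹)⁻¹ =
          h * (u : GL Cfsg.Lie.chevG2.Idx F) * h⁻¹ := by
        rw [← he']; group
      rw [e]
      simp only [List.mem_cons, List.not_mem_nil, or_false]
      rcases hconj with hconj | hconj <;> rw [hconj, hC.coe_rt] <;> simp
  · intro y₁ _ y₂ _ h₁ h₂ ⟨h, hh, he⟩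
    simp only [List.mem_cons, List.not_mem_nil, or_false] at h₁ h₂
    rcases h₁ with h₁ | h₁ <;> rcases h₂ with h₂ | h₂
    · rw [h₁, h₂]
    · rw [hrt _ _ h₁, hrt _ _ h₂] at he
      exact absurd he (H54.g2_not_conj C' hS hh)
    · rw [hrt _ _ h₁, hrt _ _ h₂] at he
      refine absurd ?_ (H54.g2_not_conj C' hS (inv_mem hh))
      rw [← he]; group
    · rw [h₁, h₂]

end Cfsg.Agent.S2177
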