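import Cfsg.Statements.S2178
import Cfsg.Agent.H54.ChevCentralData
-- import your own Cfsg.Agent.* helpers here

set_option autoImplicit false
open Cfsg

namespace Cfsg.Agent.S2178

/-- Centralizers of the long and the short root involutions in the Chevalley group G of type F₄ over a finite field F of characteristic two (this problem's root numbering for type F₄, from the Chevalley data module: fundamental roots p₁, p₂ short, p₃, p₄ long, with indices 33, 27, 25, 24, their negatives 14, 20, 22, 23; highest root 47, highest short root 44; U the subgroup generated by the positive root subgroups). For an element t of G with matrix x_47(1): the centralizer of t in G is the subgroup generated by U and the root subgroups X_{−p₁}, X_{−p₂}, X_{−p₃} (the unipotent radical of the maximal parabolic subgroup whose Levi factor has fundamental roots p₁, p₂, p₃, together with that Levi factor's root subgroups; the Levi factor is of type C₃). For an element u of G with matrix x_44(1): the centralizer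 of u in G is generated by U and X_{−p₂}, X_{−p₃}, X_{−p₄} (the same construction for the Levi factor with fundamental roots p₂, p₃, p₄, of type B₃). -/
theorem result {F : Type*} [Field F] [Fintype F] [CharP F 2] (t u : GL Cfsg.Lie.chevF4.Idx F) (ht : (t : Matrix Cfsg.Lie.chevF4.Idx Cfsg.Lie.chevF4.Idx F) = Cfsg.Lie.chevF4.x F 47 1) (hu : (u : Matrix Cfsg.Lie.chevF4.Idx Cfsg.Lie.chevF4.Idx F) = Cfsg.Lie.chevF4.x F 44 1) :
    Cfsg.Lie.chevF4.group F ⊓ Subgroup.centralizer {t} = Cfsg.Lie.chevF4.posUnipotent F ⊔ Cfsg.Lie.chevF4.rootSubgroup F 14 ⊔ Cfsg.Lie.chevF4.rootSubgroup F 20 ⊔ Cfsg.Lie.chevF4.rootSubgroup F 22 ∧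
    Cfsg.Lie.chevF4.group F ⊓ Subgroup.centralizer {u} = Cfsg.Lie.chevF4.posUnipotent F ⊔ Cfsg.Lie.chevF4.rootSubgroup F 20 ⊔ Cfsg.Lie.chevF4.rootSubgroup F 22 ⊔ Cfsg.Lie.chevF4.rootSubgroup F 23 := by
  obtain ⟨C⟩ := H54.exists_ctx (D := Cfsg.Lie.chevF4) (by simp)
  have hroot : ∀ s c, H52.rt Cfsg.Lie.chevF4 s (c : F) ∈ Cfsg.Lie.chevF4.rootSubgroup F s :=
    fun s c => Subgroup.subset_closure ⟨c, C.hC.coe_rt s c⟩
  have main : ∀ (h j0 a b e : ℕ) (P : ℕ → Bool), H54.centCheck Cfsg.Lie.chevF4 h j0 P = true →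
      ([a, b, e] = ((List.range 4).filter (· != j0)).map
        fun j => Cfsg.Lie.chevF4.neg (Cfsg.Lie.chevF4.simple j)) →
      Cfsg.Lie.chevF4.group F ⊓ Subgroup.centralizer {H52.rt Cfsg.Lie.chevF4 h (1 : F)} =
        Cfsg.Lie.chevF4.posUnipotent F ⊔ Cfsg.Lie.chevF4.rootSubgroup F a ⊔
          Cfsg.Lie.chevF4.rootSubgroup F b ⊔ Cfsg.Lie.chevF4.rootSubgroup F e := by
    intro h j0 a b e P hc hl
    rw [C.centralizer_of_check hc, sup_assoc, sup_assoc]
    congr 1
    have hmem : ∀ s, s ∈ [a, b, e] ↔ ∃ j, j < 4 ∧ j ≠ j0 ∧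
        s = Cfsg.Lie.chevF4.neg (Cfsg.Lie.chevF4.simple j) := by
      exact H54.mem_negSimple hl
    refine le_antisymm ((Subgroup.closure_le _).2 ?_) ?_
    · rintro g ⟨j, c, hj, hne, rfl⟩
      have := (hmem _).2 ⟨j, hj, hne, rfl⟩
      simp only [List.mem_cons, List.not_mem_nil, or_false] at this
      rcases this with e1 | e1 | e1 <;> rw [e1]
      · exact Subgroup.mem_sup_left (hroot _ c)
      · exact Subgroup.mem_sup_right (Subgroup.mem_sup_left (hroot _ c))
      · exact Subgroup.mem_sup_right (Subgroup.mem_sup_right (hroot _ c))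
    · have hle : ∀ s ∈ [a, b, e], Cfsg.Lie.chevF4.rootSubgroup F s ≤ Subgroup.closure
          {g | ∃ (j : ℕ) (c : F), j < Cfsg.Lie.chevF4.rank ∧ j ≠ j0 ∧
            g = H52.rt Cfsg.Lie.chevF4 (Cfsg.Lie.chevF4.neg (Cfsg.Lie.chevF4.simple j)) c} := by
        intro s hs
        refine (Subgroup.closure_le _).2 ?_
        rintro g ⟨c, hg⟩
        obtain ⟨j, hj, hne, rfl⟩ := (hmem s).1 hs
        exact Subgroup.subset_closure ⟨j, c, hj, hne, C.hC.eq_rt hg⟩
      exact sup_le (hle a (by simp)) (sup_le (hle b (by simp)) (hle e (by simp)))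
  rw [C.hC.eq_rt ht, C.hC.eq_rt hu]
  exact ⟨main 47 3 14 20 22 _ H54.centCheck_F4_long (by decide +kernel),
    main 44 0 20 22 23 _ H54.centCheck_F4_short (by decide +kernel)⟩

end Cfsg.Agent.S2178
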