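import Cfsg.Statements.S2180
import Cfsg.Agent.H54.CentralG2
-- import your own Cfsg.Agent.* helpers here

set_option autoImplicit false
open Cfsg

namespace Cfsg.Agent.S2180

/-- Centralizers of involutions in the Chevalley group G of type G₂ over a finite field F of characteristic two with at least four elements (this problem's root numbering for type G₂, from the Chevalley data module: a = p₁ short with index 7, b = p₂ long with index 6, −a = 4, −b = 5, 2a + b = 9, 3a + b = 10, 3a + 2b = 11; U generated by the positive root subgroups). For an element z of G with matrix x_{3a+2b}(1): the centralizer of z in G is generated by U and X_{−a}. For an element t of G with matrix x_{2a+b}(1): the centralizer of t in G is generated by X_{2a+b}, X_{3a+b}, X_{3a+2b}, X_b and X_{−b}. -/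
theorem result {F : Type*} [Field F] [Fintype F] [CharP F 2] (hF : 4 ≤ Fintype.card F) (z t : GL Cfsg.Lie.chevG2.Idx F) (hz : (z : Matrix Cfsg.Lie.chevG2.Idx Cfsg.Lie.chevG2.Idx F) = Cfsg.Lie.chevG2.x F 11 1) (ht : (t : Matrix Cfsg.Lie.chevG2.Idx Cfsg.Lie.chevG2.Idx F) = Cfsg.Lie.chevG2.x F 9 1) :
    Cfsg.Lie.chevG2.group F ⊓ Subgroup.centralizer {z} = Cfsg.Lie.chevG2.posUnipotent F ⊔ Cfsg.Lie.chevG2.rootSubgroup F 4 ∧
    Cfsg.Lie.chevG2.group F ⊓ Subgroup.centralizer {t} = Cfsg.Lie.chevG2.rootSubgroup F 9 ⊔ Cfsg.Lie.chevG2.rootSubgroup F 10 ⊔ Cfsg.Lie.chevG2.rootSubgroup F 11 ⊔ Cfsg.Lie.chevG2.rootSubgroup F 6 ⊔ Cfsg.Lie.chevG2.rootSubgroup F 5 := by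
  obtain ⟨C⟩ := H54.exists_ctx (D := Cfsg.Lie.chevG2) (by simp)
  rw [C.hC.eq_rt hz, C.hC.eq_rt ht]
  refine ⟨?_, ?_⟩
  · rw [C.centralizer_of_check H54.centCheck_G2]
    congr 1
    unfold Cfsg.Lie.ChevalleyDatum.rootSubgroup
    congr 1
    have e4 : Cfsg.Lie.chevG2.neg (Cfsg.Lie.chevG2.simple 0) = 4 := by decide +kernel
    ext g
    constructor
    · rintro ⟨j, c, hj, hne, rfl⟩
      obtain rfl : j = 0 := by
        simp only [show Cfsg.Lie.chevG2.rank = 2 from by decide] at hj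
        omega
      exact ⟨c, by rw [e4]; exact C.hC.coe_rt _ _⟩
    · rintro ⟨c, hc⟩
      exact ⟨0, c, by decide, by norm_num, by rw [e4]; exact C.hC.eq_rt hc⟩
  · rw [H54.centralizer_short_G2 C]
    unfold H54.centShortG2 Cfsg.Lie.ChevalleyDatum.rootSubgroup
    rw [← Subgroup.closure_union, ← Subgroup.closure_union, ← Subgroup.closure_union,
      ← Subgroup.closure_union]
    congr 1
    ext g
    simp only [Set.mem_union, Set.mem_setOf_eq, List.mem_cons, List.not_mem_nil, or_false]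
    constructor
    · rintro ⟨r, c, hr, rfl⟩
      rcases hr with rfl | rfl | rfl | rfl | rfl
      · exact Or.inl (Or.inl (Or.inl (Or.inl ⟨c, C.hC.coe_rt _ _⟩)))
      · exact Or.inl (Or.inl (Or.inl (Or.inr ⟨c, C.hC.coe_rt _ _⟩)))
      · exact Or.inl (Or.inl (Or.inr ⟨c, C.hC.coe_rt _ _⟩))
      · exact Or.inl (Or.inr ⟨c, C.hC.coe_rt _ _⟩)
      · exact Or.inr ⟨c, C.hC.coe_rt _ _⟩
    · rintro ((((⟨c, h⟩ | ⟨c, h⟩) | ⟨c, h⟩) | ⟨c, h⟩) | ⟨c, h⟩) <;>
        exact ⟨_, c, by simp, C.hC.eq_rt h⟩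

end Cfsg.Agent.S2180
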