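import Cfsg.Statements.S2181
import Cfsg.Agent.H56.Invol.Classes
import Cfsg.Agent.H56.Invol.E7Check
import Cfsg.Agent.H56.Invol.E7Rank
-- import your own Cfsg.Agent.* helpers here

set_option autoImplicit false
open Cfsg

namespace Cfsg.Agent.S2181

/-- The Chevalley group of type E₇ over a finite field of characteristic two (the matrix group generated by the root elements) has exactly five conjugacy classes of elements of order 2. -/
theorem result {F : Type*} [Field F] [Fintype F] [CharP F 2] :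
    (ConjClasses.mk '' {g : ↥(Cfsg.Lie.chevE7.group F) | orderOf g = 2}).ncard = 5 := by
  classical
  obtain ⟨C⟩ : Nonempty (H54.Ctx Lie.chevE7) := H54.exists_ctx (by simp)
  let S : H56.Inv.Sys Lie.chevE7 := ⟨C, H56.Inv.E7.tab, H56.Inv.E7.tab_ok⟩
  have hn : Lie.chevE7.nroots = 126 := by decide +kernel
  obtain ⟨hr, hP, hA⟩ := H56.Inv.E7.root_ok
  have hnode : ∀ i < 869, H56.Inv.nodeOK Lie.chevE7.nroots S.T H56.Inv.E7.reps H56.Inv.E7.node i = true := by
    rw [hn]; exact H56.Inv.E7.node_ok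
  have hA' : (H56.Inv.E7.node 868).A = H56.Inv.fullMask Lie.chevE7.nroots := by
    rw [hA, hn]; decide +kernel
  have hcov := H56.Inv.E7.certs_cover
  have hsep := H56.Inv.E7.certs_sep
  have hord : ∀ L ∈ H56.Inv.E7.reps, orderOf (H56.Inv.wp Lie.chevE7 F L) = 2 := by
    intro L hL
    refine H56.Inv.orderOf_wp C.hC H56.Inv.E7.mask_ok H56.Inv.E7.certs_ok hsep (hcov [] List.mem_cons_self)
      (hcov L (List.mem_cons_of_mem _ hL)) ?_ ?_
    · revert L; decide +kernel
    · have : ∀ M ∈ H56.Inv.E7.reps, H56.Inv.collect 126 H56.Inv.E7.tab 400 (M ++ M) = [] := by decide +kernel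
      rw [← H56.Inv.wp_append, S.wp_eq_of_collect (fuel := 400) (P := []) (by rw [hn]; exact this L hL), H56.Inv.wp_nil]
  let f : List ℕ → ConjClasses ↥(Lie.chevE7.group F) :=
    fun L => ConjClasses.mk ⟨H56.Inv.wp Lie.chevE7 F L, S.wp_mem L⟩
  have himg : ConjClasses.mk '' {g : ↥(Lie.chevE7.group F) | orderOf g = 2} =
      ↑(H56.Inv.E7.reps.toFinset.image f) := by
    ext x
    simp only [Set.mem_image, Set.mem_setOf_eq, Finset.coe_image, List.coe_toFinset]
    constructor
    · rintro ⟨g, hg, rfl⟩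
      obtain ⟨L, hL, k, hk, he⟩ := S.exists_rep hnode hr hP hA' g.2 ((Subgroup.orderOf_coe g).trans hg)
      exact ⟨L, hL, (ConjClasses.mk_eq_mk_iff_isConj.2 (isConj_iff.2 ⟨⟨k, hk⟩, Subtype.ext he⟩)).symm⟩
    · rintro ⟨L, hL, rfl⟩
      exact ⟨_, (Subgroup.orderOf_mk _ _).trans (hord L hL), rfl⟩
  rw [himg, Set.ncard_coe_finset, Finset.card_image_of_injOn]
  · decide +kernel
  · intro L hL L' hL' he
    by_contra hne
    obtain ⟨k, hk⟩ := isConj_iff.1 (ConjClasses.mk_eq_mk_iff_isConj.1 he)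
    exact H56.Inv.not_conj_of_certs C.hC H56.Inv.E7.mask_ok H56.Inv.E7.certs_ok hsep
      (hcov L (List.mem_cons_of_mem _ (List.mem_toFinset.1 hL)))
      (hcov L' (List.mem_cons_of_mem _ (List.mem_toFinset.1 hL'))) hne k.2 (congrArg Subtype.val hk)

end Cfsg.Agent.S2181
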