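import Cfsg.Statements.S2189
import Cfsg.Agent.H66.Subfield.Sub

set_option autoImplicit false
open Cfsg H66.Subfield H52 Cfsg.Lie

namespace Cfsg.Agent.S2189

/-- Finite subgroups of an adjoint Chevalley group over an algebraically closed field that contain the group over a finite subfield. Let k be an algebraically closed field of prime characteristic p, G the Chevalley group of type G₂, B₂, D₄, F₄, E₆, E₇ or E₈ over k (the matrix group generated by the root elements x_s(t), t ∈ k), and q = p^a with a ≥ 1. Let L be the subgroup generated by the root elements x_s(t) with t^q = t (the Chevalley group over the field of q elements inside G), and let M be a finite subgroup of G containing L. Then for some r ≥ 1, M contains every root element x_s(t) with t^(q^r) = t and every element of M is a matrix all of whose entries c satisfy c^(q^r) = c (so M lies between the Chevalley group over the field with q^r elements and the group of points of G fixed by the q^r-th power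 map). -/
theorem result {k : Type*} [Field k] [IsAlgClosed k] (p : ℕ) [Fact p.Prime] [CharP k p] (D : Cfsg.Lie.ChevalleyDatum) (hD : D ∈ [Cfsg.Lie.chevG2, Cfsg.Lie.chevB2, Cfsg.Lie.chevD4, Cfsg.Lie.chevF4, Cfsg.Lie.chevE6, Cfsg.Lie.chevE7, Cfsg.Lie.chevE8]) (a : ℕ) (ha : 1 ≤ a) (M : Subgroup (GL D.Idx k)) (hMfin : Finite ↥M) (hMG : M ≤ D.group k)
    (hLM : Subgroup.closure {g : GL D.Idx k | ∃ (s : ℕ) (t : k), t ^ (p ^ a) = t ∧ (g : Matrix D.Idx D.Idx k) = D.x k s t} ≤ M) :
    ∃ r : ℕ, 1 ≤ r ∧ Subgroup.closure {g : GL D.Idx k | ∃ (s : ℕ) (t : k), t ^ ((p ^ a) ^ r) = t ∧ (g : Matrix D.Idx D.Idx k) = D.x k s t} ≤ M ∧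
      ∀ g ∈ M, ∀ i j : D.Idx, ((g : Matrix D.Idx D.Idx k) i j) ^ ((p ^ a) ^ r) = (g : Matrix D.Idx D.Idx k) i j := by
  classical
  obtain ⟨C⟩ := H54.exists_ctx hD
  have hl := (facts_of_mem hD).1
  have htop : D.nroots - 1 < D.nroots := by have := two_le_nroots hl; omega
  have hq : 1 < p ^ a := Nat.one_lt_pow (by omega) (Fact.out (p := p.Prime)).one_lt
  letI : Algebra (ZMod p) k := ZMod.algebra k p
  have := Fintype.ofFinite ↥M
  set Q : Set k := {t | t ^ p ^ a = t} with hQ
  have hQfin : Q.Finite := (card_le_of_pow_eq hq Q fun x hx => hx).1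
  have hQcard : Nat.card Q = p ^ a := by
    set f : Polynomial k := Polynomial.X ^ p ^ a - Polynomial.X with hf
    have hne : f ≠ 0 := FiniteField.X_pow_card_sub_X_ne_zero k hq
    have hset : Q = ↑f.roots.toFinset := by
      ext x
      rw [Finset.mem_coe, Multiset.mem_toFinset, Polynomial.mem_roots hne]
      simp [hQ, hf, sub_eq_zero]
    rw [hset, Nat.card_eq_card_toFinset, Finset.toFinset_coe, Multiset.toFinset_card_of_nodup
      (Polynomial.nodup_roots (galois_poly_separable p _ (dvd_pow_self p (by omega)))),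
      IsAlgClosed.card_roots_eq_natDegree, FiniteField.X_pow_card_sub_X_natDegree_eq k hq]
  have hQM : ∀ s < D.nroots, ∀ t ∈ Q, rt D s t ∈ M := fun s hs t ht =>
    hLM (Subgroup.subset_closure ⟨s, t, ht, C.hC.coe_rt s t⟩)
  have h1Q : (1 : k) ∈ Q := one_pow _
  choose T hTfin hT using fun g : ↥M => exists_params C (hMG g.2)
  set A := Algebra.adjoin (ZMod p) (Q ∪ ⋃ g, T g) with hA
  set R : Subring k := A.toSubring with hR
  have hgen : ∀ x ∈ Q ∪ ⋃ g, T g, x ∈ R := fun x hx => Algebra.subset_adjoin hx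
  have hMR : ∀ g ∈ M, g ∈ groupR D R := fun g hg =>
    hT ⟨g, hg⟩ R fun x hx => hgen x (Or.inr (Set.mem_iUnion.2 ⟨⟨g, hg⟩, hx⟩))
  have hent : ∀ g ∈ M, ∀ i j, (g : Matrix D.Idx D.Idx k) i j ∈ R := fun g hg =>
    (groupR_le C R (hMR g hg)).1
  have hAft : Algebra.FiniteType (ZMod p) A :=
    (Subalgebra.fg_iff_finiteType A).1 ⟨(hQfin.union (Set.finite_iUnion hTfin)).toFinset, by simp [hA]⟩
  let incl : ↥M →* ↥(ratRing (D := D) R) :=
    Subgroup.inclusion fun g hg => groupR_le C R (hMR g hg)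
  -- specialisations
  have spec : ∀ (m : Ideal A), m.IsMaximal → ∀ (L : Type _) [Field L] [Fintype L] (π : R →+* L),
      ∃ O : Ov D L, O.H = ((specGL R π).comp incl).range := by
    intro m _ L _ _ π
    refine exists_ov hD ?_ ?_
    · rintro _ ⟨g, rfl⟩
      exact specGL_group C R π _ (hMR g.1 g.2)
    · intro s hs
      refine ⟨⟨rt D s 1, hQM s hs 1 h1Q⟩, ?_⟩
      show specGL R π ⟨rt D s 1, rt_ratRing C hs (one_mem R)⟩ = _
      rw [specGL_rt C R π hs (one_mem R)]
      exact congrArg _ (map_one π)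
  have hfield : ∀ (m : Ideal A) [m.IsMaximal], Finite (A ⧸ m) := by
    intro m _
    letI := Ideal.Quotient.field m
    have : Algebra.FiniteType (ZMod p) (A ⧸ m) :=
      Algebra.FiniteType.of_surjective (Ideal.Quotient.mkₐ (ZMod p) m) Ideal.Quotient.mk_surjective
    have := finite_of_finite_type_of_isJacobsonRing (ZMod p) (A ⧸ m)
    exact Module.finite_of_finite (ZMod p)
  have hint : ∀ g ∈ M, ∀ i j, IsIntegral (ZMod p) ((g : Matrix D.Idx D.Idx k) i j) := by
    intro g hg i j
    set x : A := ⟨(g : Matrix D.Idx D.Idx k) i j, hent g hg i j⟩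
    have hy : ∏ n ∈ Finset.Icc 2 (Nat.card M), (x ^ n - x) = 0 := by
      have hJ := isJacobsonRing_of_finiteType (A := ZMod p) (B := A)
      have hbot : (⊥ : Ideal A).jacobson = ⊥ := IsJacobsonRing.out hJ (Ideal.isPrime_bot (α := A)).isRadical
      rw [← Ideal.mem_bot, ← hbot, Ideal.jacobson, Ideal.mem_sInf]
      rintro m ⟨-, hm⟩
      letI := Ideal.Quotient.field m
      have := hfield m
      have := Fintype.ofFinite (A ⧸ m)
      obtain ⟨O, hO⟩ := spec m hm (A ⧸ m) (Ideal.Quotient.mk m)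
      have hmem : Ideal.Quotient.mk m x ∈ O.F := by
        have := O.entries_mem hD (g := specGL R (Ideal.Quotient.mk m) (incl ⟨g, hg⟩))
          (hO ▸ ⟨⟨g, hg⟩, rfl⟩) i j
        rwa [specGL_apply] at this
      have hle : Nat.card O.F ≤ Nat.card M := by
        refine O.card_F_le.trans ?_
        rw [hO]
        exact Nat.card_le_card_of_surjective _ (MonoidHom.rangeRestrict_surjective _)
      have h2 : 2 ≤ Nat.card O.F := Finite.one_lt_card
      have hpow : (Ideal.Quotient.mk m x) ^ Nat.card O.F = Ideal.Quotient.mk m x := by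
        have := Fintype.ofFinite O.F
        rw [Nat.card_eq_fintype_card]
        exact congrArg Subtype.val (FiniteField.pow_card (⟨_, hmem⟩ : O.F))
      rw [← Ideal.Quotient.eq_zero_iff_mem, map_prod]
      refine Finset.prod_eq_zero (Finset.mem_Icc.2 ⟨h2, hle⟩) ?_
      rw [map_sub, map_pow, hpow, sub_self]
    obtain ⟨n, hn, hn0⟩ := Finset.prod_eq_zero_iff.1 hy
    have hxn : ((g : Matrix D.Idx D.Idx k) i j) ^ n = (g : Matrix D.Idx D.Idx k) i j :=
      congrArg Subtype.val (sub_eq_zero.1 hn0)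
    refine ⟨Polynomial.X ^ n - Polynomial.X,
      Polynomial.monic_X_pow_sub (by rw [Polynomial.degree_X]; exact_mod_cast (Finset.mem_Icc.1 hn).1), ?_⟩
    simp [hxn]
  -- the finite field of all entries
  set S : Set k := Q ∪ ⋃ g : ↥M, Set.range fun ij : D.Idx × D.Idx => (g.1 : Matrix D.Idx D.Idx k) ij.1 ij.2
    with hS
  have hSfin : S.Finite := hQfin.union (Set.finite_iUnion fun g => Set.finite_range _)
  have hSR : S ⊆ ↑R := by
    rintro x (hx | hx)
    · exact hgen x (Or.inl hx)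
    · obtain ⟨g, ⟨i, j⟩, rfl⟩ := Set.mem_iUnion.1 hx
      exact hent g.1 g.2 i j
  set B := Algebra.adjoin (ZMod p) S with hB
  have hBA : B ≤ A := Algebra.adjoin_le hSR
  have hBfg : (Subalgebra.toSubmodule B).FG := fg_adjoin_of_finite hSfin fun x hx => by
    rcases hx with hx | hx
    · refine ⟨Polynomial.X ^ p ^ a - Polynomial.X,
        Polynomial.monic_X_pow_sub (by rw [Polynomial.degree_X]; exact_mod_cast hq), ?_⟩
      simp [show x ^ p ^ a = x from hx]
    · obtain ⟨g, ⟨i, j⟩, rfl⟩ := Set.mem_iUnion.1 hx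
      exact hint g.1 g.2 i j
  have : Module.Finite (ZMod p) B := Module.Finite.iff_fg.2 hBfg
  have : Finite B := Module.finite_of_finite (ZMod p)
  letI : Field B := (Finite.isDomain_to_isField B).toField
  obtain ⟨m, hm⟩ := Ideal.exists_maximal A
  letI := Ideal.Quotient.field m
  have := hfield m
  have := Fintype.ofFinite (A ⧸ m)
  set π : R →+* A ⧸ m := Ideal.Quotient.mk m with hπ
  set π₀ : B →+* A ⧸ m := π.comp (Subalgebra.inclusion hBA).toRingHom with hπ₀
  have hinj : Function.Injective π₀ := π₀.injective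
  obtain ⟨O, hO⟩ := spec m hm (A ⧸ m) π
  have hMB : ∀ g ∈ M, ∀ i j, (g : Matrix D.Idx D.Idx k) i j ∈ B := fun g hg i j =>
    Algebra.subset_adjoin (Or.inr (Set.mem_iUnion.2 ⟨⟨g, hg⟩, ⟨i, j⟩, rfl⟩))
  have hπent : ∀ g (hg : g ∈ M) i j, (specGL R π (incl ⟨g, hg⟩) : Matrix D.Idx D.Idx (A ⧸ m)) i j =
      π₀ ⟨(g : Matrix D.Idx D.Idx k) i j, hMB g hg i j⟩ := fun g hg i j => rfl
  obtain ⟨i₀, j₀, c₀, hc₀, hentK⟩ := exists_entry C hl (L := A ⧸ m)
  -- every parameter comes from `B`
  have hlift : ∀ s ∈ O.F, ∃ y : B, π₀ y = s := by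
    intro s hs
    have h1 := O.mem_F.1 hs
    rw [hO] at h1
    obtain ⟨g, hg⟩ := h1
    refine ⟨(c₀ : B)⁻¹ * ⟨(g.1 : Matrix D.Idx D.Idx k) i₀ j₀, hMB _ g.2 i₀ j₀⟩, ?_⟩
    rw [map_mul, map_inv₀, map_intCast, ← hπent g.1 g.2, show specGL R π (incl ⟨g.1, g.2⟩) =
      rt D (D.nroots - 1) s from hg, hentK, inv_mul_cancel_left₀ hc₀]
  have hBR : ∀ x : B, x.1 ∈ R := fun x => hBA x.2
  have hrtB : ∀ r' < D.nroots, ∀ y : B, π₀ y ∈ O.F → rt D r' y.1 ∈ M := by
    intro r' hr' y hy
    have h1 := O.rt_mem hr' hy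
    rw [hO] at h1
    obtain ⟨g, hg⟩ := h1
    suffices g.1 = rt D r' y.1 from this ▸ g.2
    apply Units.ext
    ext i j
    have hBe : (rt D r' y.1 : GL D.Idx k).1 i j ∈ B := (rt_ratRing C (R := B.toSubring) hr' y.2).1 i j
    have h3 : π₀ ⟨(g.1 : Matrix D.Idx D.Idx k) i j, hMB _ g.2 i j⟩ = π₀ ⟨_, hBe⟩ := by
      rw [← hπent g.1 g.2, show specGL R π (incl ⟨g.1, g.2⟩) = rt D r' (π₀ y) from hg,
        show π₀ y = π ⟨y.1, hBR y⟩ from rfl, ← specGL_rt C R π hr' (hBR y)]
      rfl
    exact congrArg Subtype.val (hinj h3)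
  -- the order of the field
  have : CharP (A ⧸ m) p := charP_of_injective_algebraMap (algebraMap (ZMod p) (A ⧸ m)).injective p
  have hfixle : fixF (A ⧸ m) p a ≤ O.F := by
    have hsub : (fun t : Q => π₀ ⟨t.1, Algebra.subset_adjoin (Or.inl t.2)⟩) '' Set.univ =
        (fixF (A ⧸ m) p a : Set (A ⧸ m)) := by
      refine Set.eq_of_subset_of_ncard_le ?_ ?_
      · rintro _ ⟨t, -, rfl⟩
        rw [SetLike.mem_coe, mem_fixF, ← map_pow]
        exact congrArg π₀ (Subtype.ext t.2)
      · rw [Set.ncard_image_of_injective _ (fun u v h => by have h' := congrArg Subtype.val (hinj h); exact Subtype.ext h'),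
          Set.ncard_univ, hQcard, ← Nat.card_coe_set_eq]
        exact (card_le_of_pow_eq hq _ fun x hx => mem_fixF.1 hx).2
    intro x hx
    obtain ⟨t, -, rfl⟩ := hsub.symm.subset hx
    refine O.mem_F.2 ?_
    rw [hO]
    refine ⟨⟨rt D (D.nroots - 1) t.1, hQM _ htop _ t.2⟩, ?_⟩
    exact specGL_rt C R π htop (hgen t.1 (Or.inl t.2))
  have hfixcard : Nat.card (fixF (A ⧸ m) p a) = p ^ a := by
    refine le_antisymm (card_le_of_pow_eq hq (fixF (A ⧸ m) p a : Set (A ⧸ m)) fun x hx => mem_fixF.1 hx).2 ?_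
    rw [← hQcard]
    exact Nat.card_le_card_of_injective
      (fun t => ⟨π₀ ⟨t.1, Algebra.subset_adjoin (Or.inl t.2)⟩, mem_fixF.2 (by
        rw [← map_pow]; exact congrArg π₀ (Subtype.ext t.2))⟩)
      (fun u v h => by have h' := congrArg Subtype.val (hinj (congrArg Subtype.val h)); exact Subtype.ext h')
  obtain ⟨r, hr, hrc⟩ := card_pow_of_le hfixle
  rw [hfixcard] at hrc
  refine ⟨r, hr, ?_, fun g hg i j => ?_⟩
  · have hqr : 1 < (p ^ a) ^ r := Nat.one_lt_pow (by omega) hq
    rw [Subgroup.closure_le]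
    rintro g ⟨s, t, ht, hgm⟩
    by_cases hs : s < D.nroots
    swap
    · rw [Cfsg.Lie.ChevalleyDatum.x, dif_neg hs] at hgm
      rw [show g = 1 from Units.ext hgm]
      exact one_mem M
    rw [C.hC.eq_rt hgm]
    -- `t` is the value of an element of `B`
    choose lift hlift using hlift
    set F₀ : Set k := Set.range fun s : O.F => ((lift s.1 s.2 : B) : k)
    have hF₀ : ∀ x ∈ F₀, x ^ (p ^ a) ^ r = x := by
      rintro _ ⟨s, rfl⟩
      have hpow : (lift s.1 s.2) ^ (p ^ a) ^ r = lift s.1 s.2 := by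
        apply hinj
        have := Fintype.ofFinite O.F
        rw [map_pow, hlift, ← hrc, Nat.card_eq_fintype_card]
        exact congrArg Subtype.val (FiniteField.pow_card s)
      exact congrArg Subtype.val hpow
    have hcardF₀ : Nat.card F₀ = (p ^ a) ^ r := by
      rw [← hrc]
      refine Nat.card_range_of_injective fun u v h => ?_
      have h2 : lift u.1 u.2 = lift v.1 v.2 := Subtype.ext h
      exact Subtype.ext (by rw [← hlift u.1 u.2, h2, hlift v.1 v.2])
    have htF : t ∈ F₀ := by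
      obtain ⟨hfin, hle⟩ := card_le_of_pow_eq hqr {x : k | x ^ (p ^ a) ^ r = x} (fun x hx => hx)
      have := Set.eq_of_subset_of_ncard_le (s := F₀) (t := {x : k | x ^ (p ^ a) ^ r = x}) hF₀
        (by change _ ≤ _; rw [← Nat.card_coe_set_eq F₀, hcardF₀, ← Nat.card_coe_set_eq]; exact hle) hfin
      rw [this]
      exact ht
    obtain ⟨s', rfl⟩ := htF
    exact hrtB s hs _ (by rw [hlift]; exact s'.2)
  · have h1 := O.entries_mem hD (g := specGL R π (incl ⟨g, hg⟩)) (hO ▸ ⟨⟨g, hg⟩, rfl⟩) i j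
    rw [hπent g hg] at h1
    have hpow : (⟨(g : Matrix D.Idx D.Idx k) i j, hMB g hg i j⟩ : B) ^ (p ^ a) ^ r =
        ⟨(g : Matrix D.Idx D.Idx k) i j, hMB g hg i j⟩ := by
      apply hinj
      have := Fintype.ofFinite O.F
      rw [map_pow, ← hrc, Nat.card_eq_fintype_card]
      exact congrArg Subtype.val (FiniteField.pow_card (⟨_, h1⟩ : O.F))
    exact congrArg Subtype.val hpow

end Cfsg.Agent.S2189
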