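import Cfsg.Statements.S2190
import Cfsg.Agent.H66.Subfield.Sub
import Cfsg.Agent.H54.ChevFieldAut

set_option autoImplicit false
open Cfsg H66.Subfield H52 Cfsg.Lie

namespace Cfsg.Agent.S2190

/-- Subfield subgroups of prime degree are maximal. Let K be a finite field with q^r elements, r a prime, q a power of the characteristic, and G the Chevalley group of type G₂, B₂, D₄, F₄, E₆, E₇ or E₈ over K (the matrix group generated by the root elements). Let M be the subgroup of G consisting of the matrices all of whose entries lie in the subfield with q elements (entries c with c^q = c). Then M is a proper subgroup of G and is maximal: every subgroup of G containing M is M or G. -/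
theorem result {K : Type*} [Field K] [Fintype K] (p : ℕ) [Fact p.Prime] [CharP K p] (D : Cfsg.Lie.ChevalleyDatum) (hD : D ∈ [Cfsg.Lie.chevG2, Cfsg.Lie.chevB2, Cfsg.Lie.chevD4, Cfsg.Lie.chevF4, Cfsg.Lie.chevE6, Cfsg.Lie.chevE7, Cfsg.Lie.chevE8]) (a r : ℕ) (ha : 1 ≤ a) (hr : r.Prime) (hK : Fintype.card K = (p ^ a) ^ r) (M : Subgroup (GL D.Idx K))
    (hM : ∀ g : GL D.Idx K, g ∈ M ↔ g ∈ D.group K ∧ ∀ i j : D.Idx, ((g : Matrix D.Idx D.Idx K) i j) ^ (p ^ a) = (g : Matrix D.Idx D.Idx K) i j) :
    M ≠ D.group K ∧ ∀ H : Subgroup (GL D.Idx K), M ≤ H → H ≤ D.group K → H = M ∨ H = D.group K := by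
  classical

  obtain ⟨C⟩ := H54.exists_ctx hD
  set k := fixF K p a with hk
  have hq : 1 < p ^ a := Nat.one_lt_pow (by omega) (Fact.out (p := p.Prime)).one_lt
  have hKq : p ^ a < Fintype.card K := by
    rw [hK]
    calc p ^ a = (p ^ a) ^ 1 := (pow_one _).symm
      _ < (p ^ a) ^ r := Nat.pow_lt_pow_right hq hr.one_lt
  set σ : K ≃+* K := RingEquiv.ofBijective (iterateFrobenius K p a)
    (Finite.injective_iff_bijective.1 (iterateFrobenius K p a).injective) with hσ
  have hσa : ∀ x, σ x = x ^ p ^ a := fun x => by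
    show iterateFrobenius K p a x = _
    rw [iterateFrobenius_def]
  obtain ⟨x₀, hx₀⟩ : ∃ x : K, x ^ p ^ a ≠ x := by
    by_contra hc
    push_neg at hc
    have := (card_le_of_pow_eq hq (Set.univ : Set K) (fun x _ => hc x)).2
    rw [Nat.card_univ, Nat.card_eq_fintype_card] at this
    omega
  have hσr : orderOf (σ : RingAut K) = r := by
    have := Fact.mk hr
    refine orderOf_eq_prime ?_ ?_
    · apply RingEquiv.ext
      intro x
      have hpow : ∀ n : ℕ, ((σ : RingAut K) ^ n) x = x ^ (p ^ a) ^ n := by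
        intro n
        induction n with
        | zero => simp
        | succ n ih =>
          rw [pow_succ', RingAut.mul_apply, ih]
          show σ _ = _
          rw [hσa, ← pow_mul, ← pow_succ]
      rw [hpow, ← hK, FiniteField.pow_card]
      rfl
    · intro h
      apply hx₀
      rw [← hσa]
      exact congrArg (fun e : RingAut K => e x₀) h
  obtain ⟨F₀, i1, i2, ι, hc0, hι⟩ := H54.exists_fixed_field σ hσr
  have hkcard : Nat.card k = p ^ a := by
    have e : Nat.card k = Fintype.card F₀ := by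
      rw [← Nat.card_eq_fintype_card]
      refine (Nat.card_eq_of_bijective (fun y => (⟨ι y, mem_fixF.2 ?_⟩ : k)) ⟨?_, ?_⟩).symm
      · rw [← hσa]; exact (hι _).1 ⟨y, rfl⟩
      · exact fun u v h => ι.injective (congrArg Subtype.val h)
      · rintro ⟨x, hx⟩
        obtain ⟨y, hy⟩ := (hι x).2 (by rw [hσa]; exact mem_fixF.1 hx)
        exact ⟨y, Subtype.ext hy⟩
    rw [e]
    exact Nat.pow_left_injective hr.ne_zero (hc0.symm.trans hK)
  have hrtM : ∀ s < D.nroots, ∀ t ∈ k, rt D s t ∈ M := fun s hs t ht =>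
    (hM _).2 ⟨C.hC.rt_mem_group s t, fun i j => mem_fixF.1 ((rt_ratGL C k hs ht).1 i j)⟩
  obtain ⟨i₀, j₀, c₀, hc₀, hent⟩ := exists_entry C (facts_of_mem hD).1 (L := K)
  have htop : D.nroots - 1 < D.nroots := by
    have := two_le_nroots (facts_of_mem hD).1
    omega
  have hMne : M ≠ D.group K := by
    intro h
    apply hx₀
    have h1 := ((hM _).1 (h ▸ C.hC.rt_mem_group (D.nroots - 1) x₀)).2 i₀ j₀
    rw [← mem_fixF, hent] at h1
    have h2 := mul_mem (inv_mem (intCast_mem k c₀)) h1
    rw [inv_mul_cancel_left₀ hc₀] at h2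
    exact mem_fixF.1 h2
  refine ⟨hMne, fun H hMH hHG => ?_⟩
  obtain ⟨O, hO⟩ := exists_ov hD hHG (fun s hs => hMH (hrtM s hs 1 (one_mem _)))
  have hkF : k ≤ O.F := fun t ht => O.mem_F.2 (hO ▸ hMH (hrtM _ htop t ht))
  obtain ⟨d, hd, hdc⟩ := card_pow_of_le hkF
  obtain ⟨e, he, hec⟩ := card_pow_of_le (le_top : O.F ≤ ⊤)
  have hcard : Nat.card (⊤ : Subfield K) = (p ^ a) ^ r := by
    rw [← hK, ← Nat.card_eq_fintype_card]
    exact Nat.card_congr Subfield.topEquiv.toEquiv
  rw [hcard, hdc, hkcard, ← pow_mul (p ^ a) d e] at hec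
  have hde : r = d * e := Nat.pow_right_injective hq hec
  rcases (Nat.prime_mul_iff.1 (hde ▸ hr)) with ⟨-, he1⟩ | ⟨-, hd1⟩
  · right
    refine le_antisymm hHG ?_
    have htopF : O.F = ⊤ := by
      refine eq_of_le_of_card le_top ?_
      rw [hcard, hdc, hkcard, hde, he1, mul_one]
    rw [C.hC.group_eq, Subgroup.closure_le]
    rintro g ⟨s, t, hs, rfl⟩
    exact hO ▸ O.rt_mem hs (htopF ▸ Subfield.mem_top t)
  · left
    refine le_antisymm (fun g hg => ?_) hMH
    have hFk : k = O.F := eq_of_le_of_card hkF (by rw [hdc, hd1, pow_one])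
    refine (hM g).2 ⟨hHG hg, fun i j => mem_fixF.1 ?_⟩
    rw [← hk, hFk]
    exact O.entries_mem hD (hO ▸ hg) i j

end Cfsg.Agent.S2190
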