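import Cfsg.Statements.S2205
import Cfsg.Agent.H58.SquarePlusOneMain

set_option autoImplicit false
open Cfsg
open scoped Pointwise

namespace Cfsg.Agent.S2205

/-- A finite group acting faithfully and 2-transitively on a set with p² + 1 points, p a prime, is doubly primitive — a point stabilizer acts primitively on the remaining p² points — unless p = 2 and the group is the Frobenius group of order 20. -/
theorem result {G Ω : Type*} [Group G] [Finite G] [Fintype Ω] [MulAction G Ω] [FaithfulSMul G Ω] (p : ℕ) (hp : p.Prime) (hΩ : Fintype.card Ω = p ^ 2 + 1) (h2 : MulAction.IsMultiplyPretransitive G Ω 2) (a : Ω) :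
    MulAction.IsPreprimitive ↥(MulAction.stabilizer G a) ↥(SubMulAction.ofStabilizer G a) ∨ (p = 2 ∧ Nat.card G = 20) := by
  classical
  haveI : Fact p.Prime := ⟨hp⟩
  have two : ∀ {x y z w : Ω}, x ≠ y → z ≠ w → ∃ g : G, g • x = z ∧ g • y = w := fun h h' =>
    (MulAction.is_two_pretransitive_iff.mp h2) h h'
  by_cases hprim : MulAction.IsPreprimitive ↥(MulAction.stabilizer G a)
      ↥(SubMulAction.ofStabilizer G a)
  · exact Or.inl hprim
  right
  have hmemX : ∀ x : Ω, x ∈ SubMulAction.ofStabilizer G a ↔ x ≠ a := fun _ => Iff.rfl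
  haveI : MulAction.IsPretransitive ↥(MulAction.stabilizer G a)
      ↥(SubMulAction.ofStabilizer G a) := ⟨fun x y => by
    obtain ⟨g, hga, hgx⟩ := two (((hmemX _).mp x.2).symm) (((hmemX _).mp y.2).symm)
    exact ⟨⟨g, hga⟩, Subtype.ext hgx⟩⟩
  obtain ⟨B0, hB0, hnt⟩ : ∃ B0 : Set ↥(SubMulAction.ofStabilizer G a),
      MulAction.IsBlock ↥(MulAction.stabilizer G a) B0 ∧ ¬ MulAction.IsTrivialBlock B0 := by
    by_contra h
    push Not at h
    exact hprim (MulAction.IsPreprimitive.mk fun hB => h _ hB)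
  have hcardX : Nat.card ↥(SubMulAction.ofStabilizer G a) = p ^ 2 := by
    rw [show Nat.card ↥(SubMulAction.ofStabilizer G a) = Nat.card ({a}ᶜ : Set Ω) from
      Nat.card_congr (Equiv.subtypeEquivRight fun x => hmemX x), Nat.card_coe_set_eq,
      Set.ncard_compl, Set.ncard_singleton, Nat.card_eq_fintype_card, hΩ, Nat.add_sub_cancel]
  have hsub : ¬ B0.Subsingleton := fun h => hnt (Or.inl h)
  obtain ⟨b0, hb0⟩ : B0.Nonempty := Set.nonempty_iff_ne_empty.mpr fun h =>
    hsub (h ▸ Set.subsingleton_empty)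
  have hcardB0 : B0.ncard = p := by
    have hd := hB0.ncard_dvd_card ⟨b0, hb0⟩
    rw [hcardX] at hd
    obtain ⟨i, hi, hki⟩ := (Nat.dvd_prime_pow hp).mp hd
    interval_cases i
    · exact absurd (Set.ncard_le_one_iff_subsingleton.mp (by rw [hki, pow_zero])) hsub
    · rw [hki, pow_one]
    · refine absurd (Or.inr ?_) hnt
      exact Set.eq_of_subset_of_ncard_le (Set.subset_univ _)
        (by rw [Set.ncard_univ, hcardX, hki])
  let S : H58.SqOne.Setup G Ω p :=
    { a := a
      b := (b0 : Ω)
      B := Subtype.val '' B0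
      ne := (hmemX _).mp b0.2
      two := two
      hb := ⟨b0, hb0, rfl⟩
      ha := fun ⟨x, _, hx⟩ => (hmemX _).mp x.2 hx
      cardB := by rw [Set.ncard_image_of_injective _ Subtype.val_injective, hcardB0]
      block := by
        rintro g hga _ ⟨y, hy, rfl⟩ ⟨w, hw, hwy⟩
        rcases (MulAction.isBlock_iff_smul_eq_or_disjoint.mp hB0)
          (⟨g, hga⟩ : MulAction.stabilizer G a) with h | h
        · conv_rhs => rw [← h]
          rw [← Set.image_smul, ← Set.image_smul, Set.image_image, Set.image_image]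
          rfl
        · exact absurd h (Set.not_disjoint_iff.mpr
            ⟨w, ⟨y, hy, Subtype.ext hwy.symm⟩, hw⟩)
      faith := fun g hg => eq_of_smul_eq_smul fun x : Ω => by rw [hg x, one_smul] }
  obtain ⟨F⟩ := H58.SqOne.exists_frame S hΩ
  by_cases hp2 : p = 2
  · refine ⟨hp2, ?_⟩
    obtain ⟨c, hc, hcb⟩ := H58.SqOne.exists_B1 S
    have hDc : ∀ d ∈ H58.SqOne.D S, d • c = c := by
      intro d hd
      have h1 := H58.SqOne.smul_B1 S hd.1 hd.2 c ⟨hc, hcb⟩
      have h2 : (S.B \ {S.b}).ncard ≤ 1 := by rw [H58.SqOne.card_B1]; omega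
      exact Set.ncard_le_one_iff_subsingleton.mp h2 h1 ⟨hc, hcb⟩
    have hbot : H58.SqOne.D S = ⊥ := by
      rcases H58.SqOne.fix_two_or_univ S hΩ
        (fun x y => MulAction.stabilizer G x ⊓ MulAction.stabilizer G y)
        (fun x y _ h hh => ⟨hh.1, hh.2⟩)
        (fun g x y _ h hh =>
          ⟨by simp [MulAction.mem_stabilizer_iff, mul_smul, MulAction.mem_stabilizer_iff.mp hh.1],
           by simp [MulAction.mem_stabilizer_iff, mul_smul, MulAction.mem_stabilizer_iff.mp hh.2]⟩)
        (fun x y z w _ _ hz hw h hh => ⟨hz h hh, hw h hh⟩) with h | h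
      · exfalso
        have hs : ({S.a, S.b, c} : Set Ω) ⊆
            {w : Ω | ∀ d ∈ H58.SqOne.D S, d • w = w} := by
          intro w hw d hd
          rcases hw with rfl | rfl | rfl
          · exact hd.1
          · exact hd.2
          · exact hDc d hd
        have h3 := Set.ncard_le_ncard hs
        change {w : Ω | ∀ d ∈ H58.SqOne.D S, d • w = w}.ncard = 2 at h
        have hca : S.a ≠ c := fun e => S.ha (e ▸ hc)
        rw [h, Set.ncard_insert_of_notMem (by simp [S.ne.symm, hca]),
          Set.ncard_pair (Ne.symm hcb)] at h3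
        omega
      · exact (Subgroup.eq_bot_iff_forall _).mpr fun d hd => S.faith d (h d hd)
    rw [H58.SqOne.card_G S hΩ, hbot, Subgroup.card_bot, hp2]
    norm_num
  · exact (H58.SqOne.odd_false F hΩ hp2).elim

end Cfsg.Agent.S2205
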