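import Cfsg.Statements.S2209
import Cfsg.Agent.H54.ChevCentralData
-- import your own Cfsg.Agent.* helpers here

set_option autoImplicit false
open Cfsg

namespace Cfsg.Agent.S2209

/-- Centralizer of a long root involution in the Chevalley groups of type E₆, E₇, E₈ over a finite field F of characteristic two. Let G be the group generated by the root elements, U the subgroup generated by the positive root subgroups, r the highest root (the last root index: 71, 125, 239 respectively), and t the element of G with matrix x_r(1). Then the centralizer of t in G is the subgroup generated by U together with the root subgroups X_{−p} for the fundamental roots p orthogonal to r — all fundamental roots except p₂ for E₆, except p₁ for E₇, except p₈ for E₈ (numbering with p₁–p₃–p₄–…–p_l the long chain and p₂ joined to p₄); the indices of these negative fundamental roots are 15, 29, 32, 34, 35 (E₆), 47, 52, 56, 59, 61, 62 (E₇), 77, 98, 104, 109, 113, 116, 118 (E₈). (This is the unipotent radical of the corresponding maximal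 parabolic subgroup extended by the root subgroups of its Levi factor, of type A₅, D₆, E₇ respectively.) -/
theorem result {F : Type*} [Field F] [Fintype F] [CharP F 2] (d : Cfsg.Lie.ChevalleyDatum × List ℕ)
    (hd : d ∈ [(Cfsg.Lie.chevE6, [15, 29, 32, 34, 35]), (Cfsg.Lie.chevE7, [47, 52, 56, 59, 61, 62]), (Cfsg.Lie.chevE8, [77, 98, 104, 109, 113, 116, 118])])
    (t : GL d.1.Idx F) (ht : (t : Matrix d.1.Idx d.1.Idx F) = d.1.x F (d.1.nroots - 1) 1) :
    d.1.group F ⊓ Subgroup.centralizer {t} = d.1.posUnipotent F ⊔ Subgroup.closure {g : GL d.1.Idx F | ∃ s ∈ d.2, ∃ c : F, (g : Matrix d.1.Idx d.1.Idx F) = d.1.x F s c} := by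
  have key : ∀ (D : Cfsg.Lie.ChevalleyDatum) (j0 : ℕ) (l : List ℕ),
      D ∈ [Cfsg.Lie.chevG2, Cfsg.Lie.chevB2, Cfsg.Lie.chevD4, Cfsg.Lie.chevF4, Cfsg.Lie.chevE6,
        Cfsg.Lie.chevE7, Cfsg.Lie.chevE8] →
      H54.centCheck D (D.nroots - 1) j0 (fun _ => true) = true →
      (∀ s, s ∈ l ↔ ∃ j, j < D.rank ∧ j ≠ j0 ∧ s = D.neg (D.simple j)) →
      ∀ t : GL D.Idx F, (t : Matrix D.Idx D.Idx F) = D.x F (D.nroots - 1) 1 →
      D.group F ⊓ Subgroup.centralizer {t} = D.posUnipotent F ⊔
        Subgroup.closure {g : GL D.Idx F | ∃ s ∈ l, ∃ c : F, (g : Matrix D.Idx D.Idx F) = D.x F s c} := by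
    intro D j0 l hD hc hl t ht
    obtain ⟨C⟩ := H54.exists_ctx hD
    rw [C.hC.eq_rt ht, C.centralizer_of_check hc]
    congr 2
    ext g
    constructor
    · rintro ⟨j, c, hj, hne, rfl⟩
      exact ⟨_, (hl _).2 ⟨j, hj, hne, rfl⟩, c, C.hC.coe_rt _ _⟩
    · rintro ⟨s, hs, c, hg⟩
      obtain ⟨j, hj, hne, rfl⟩ := (hl s).1 hs
      exact ⟨j, c, hj, hne, C.hC.eq_rt hg⟩
  simp only [List.mem_cons, List.not_mem_nil, or_false] at hd
  rcases hd with rfl | rfl | rfl
  · exact key _ 1 _ (by simp) H54.centCheck_E6 (H54.mem_negSimple (by decide +kernel)) t ht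
  · exact key _ 0 _ (by simp) H54.centCheck_E7 (H54.mem_negSimple (by decide +kernel)) t ht
  · exact key _ 7 _ (by simp) H54.centCheck_E8 (H54.mem_negSimple (by decide +kernel)) t ht

end Cfsg.Agent.S2209
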