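import Cfsg.Statements.S2214
import Cfsg.Agent.H54.ChevRigid
import Mathlib.FieldTheory.IsAlgClosed.Basic
-- import your own Cfsg.Agent.* helpers here

set_option autoImplicit false
open Cfsg

namespace Cfsg.Agent.S2214

/-- Let k be an algebraically closed field of prime characteristic p, G the adjoint Chevalley group of type G₂, B₂, D₄, F₄, E₆, E₇ or E₈ over k (the matrix group generated by the root elements x_s(t), t ∈ k, acting on the Lie algebra), q = p^a with a ≥ 1, and K a subgroup of G containing every root element x_s(t) with t^q = t and consisting of matrices all of whose entries c satisfy c^q = c. Then the centralizer of K in G is trivial, and the normalizer of K in G is exactly the set of elements of G all of whose entries c satisfy c^q = c. -/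
theorem result {k : Type*} [Field k] [IsAlgClosed k] (p : ℕ) [Fact p.Prime] [CharP k p] (D : Cfsg.Lie.ChevalleyDatum) (hD : D ∈ [Cfsg.Lie.chevG2, Cfsg.Lie.chevB2, Cfsg.Lie.chevD4, Cfsg.Lie.chevF4, Cfsg.Lie.chevE6, Cfsg.Lie.chevE7, Cfsg.Lie.chevE8]) (a : ℕ) (ha : 1 ≤ a) (K : Subgroup (GL D.Idx k)) (hKG : K ≤ D.group k)
    (hLK : Subgroup.closure {g : GL D.Idx k | ∃ (s : ℕ) (t : k), t ^ (p ^ a) = t ∧ (g : Matrix D.Idx D.Idx k) = D.x k s t} ≤ K)
    (hKfix : ∀ g ∈ K, ∀ i j : D.Idx, ((g : Matrix D.Idx D.Idx k) i j) ^ (p ^ a) = (g : Matrix D.Idx D.Idx k) i j) :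
    D.group k ⊓ Subgroup.centralizer (K : Set (GL D.Idx k)) = ⊥ ∧
    ∀ g : GL D.Idx k, g ∈ D.group k → (g ∈ Subgroup.normalizer (K : Set (GL D.Idx k)) ↔ ∀ i j : D.Idx, ((g : Matrix D.Idx D.Idx k) i j) ^ (p ^ a) = (g : Matrix D.Idx D.Idx k) i j) := by
  obtain ⟨C⟩ := H54.exists_ctx hD
  set σ : k ≃+* k := iterateFrobeniusEquiv k p a with hσ
  set θ := H54.glF D σ.toRingHom with hθ
  have hfixed : ∀ g : GL D.Idx k, θ g = g ↔
      ∀ i j : D.Idx, ((g : Matrix D.Idx D.Idx k) i j) ^ (p ^ a) = (g : Matrix D.Idx D.Idx k) i j := by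
    intro g
    rw [Units.ext_iff, ← Matrix.ext_iff]
    exact Iff.rfl
  have hL : H54.Ctx.elemFix D σ ≤ K := by
    refine le_trans ((Subgroup.closure_le _).2 ?_) hLK
    rintro g ⟨s, t, ht, rfl⟩
    exact Subgroup.subset_closure ⟨s, t, ht, C.hC.coe_rt s t⟩
  have hKfix' : ∀ z ∈ K, θ z = z := fun z hz => (hfixed z).2 (hKfix z hz)
  have hcent : ∀ g ∈ D.group k, (∀ z ∈ K, z * g = g * z) → g = 1 := by
    intro g hg hc
    refine C.eq_one_of_commute hg fun r _ => ?_
    exact (hc _ (hL (Subgroup.subset_closure ⟨r, 1, map_one σ, rfl⟩))).symm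
  refine ⟨?_, fun g hg => ⟨fun hn => ?_, fun hfix => ?_⟩⟩
  · rw [eq_bot_iff]
    intro g hg
    obtain ⟨hgG, hgc⟩ := Subgroup.mem_inf.1 hg
    exact Subgroup.mem_bot.2 (hcent g hgG fun z hz => Subgroup.mem_centralizer_iff.1 hgc z hz)
  · apply (hfixed g).1
    have hθg : θ g ∈ D.group k := C.glF_group_le σ.toRingHom ⟨g, hg, rfl⟩
    have h1 : g⁻¹ * θ g = 1 := by
      refine hcent _ (mul_mem (inv_mem hg) hθg) fun z hz => ?_
      have h2 := hKfix' _ ((Subgroup.mem_normalizer_iff.1 hn z).1 hz)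
      rw [map_mul, map_mul, map_inv, hKfix' z hz] at h2
      calc z * (g⁻¹ * θ g) = g⁻¹ * (g * z * g⁻¹) * θ g := by group
        _ = g⁻¹ * (θ g * z * (θ g)⁻¹) * θ g := by rw [h2]
        _ = g⁻¹ * θ g * z := by group
    exact (inv_mul_eq_one.1 h1).symm
  · have hgf := (hfixed g).2 hfix
    rw [Subgroup.mem_normalizer_iff]
    refine fun z => ⟨fun hz => C.fixed_normalizes σ K hKG hL hKfix' hg hgf hz, fun hz => ?_⟩
    have := C.fixed_normalizes σ K hKG hL hKfix' (inv_mem hg) (by rw [map_inv, hgf]) hz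
    simpa [mul_assoc] using this

end Cfsg.Agent.S2214
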