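import Cfsg.Statements.S2219
import Cfsg.Agent.H59.Nine.Main

set_option autoImplicit false
open Cfsg

namespace Cfsg.Agent.S2219

/-- Let G be a non-abelian finite simple group of order 9·2ᵃ·qᵇ for a prime q other than 2 and 3, having at least three conjugacy classes of nonidentity 3-elements (elements of order 3 or 9). Then G is isomorphic to PSL(2,8) or to PSL(2,17). -/
theorem result {G : Type*} [Group G] [Finite G] [IsSimpleGroup G] (hG : ¬ IsMulCommutative G)
    (q a b : ℕ) (hq : q.Prime) (hq2 : q ≠ 2) (hq3 : q ≠ 3) (hcard : Nat.card G = 9 * 2 ^ a * q ^ b)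
    (h3 : 3 ≤ Nat.card {C : ConjClasses G // ∃ g ∈ C.carrier, g ≠ 1 ∧ orderOf g ∣ 9}) :
    (∃ (F : Type) (_ : Field F) (_ : Fintype F), Fintype.card F = 8 ∧
        Nonempty (G ≃* Matrix.ProjectiveSpecialLinearGroup (Fin 2) F)) ∨
      Nonempty (G ≃* Matrix.ProjectiveSpecialLinearGroup (Fin 2) (ZMod 17)) := by
  haveI : Fact (Nat.Prime 3) := ⟨Nat.prime_three⟩
  haveI := Fintype.ofFinite G
  obtain ⟨R⟩ : Nonempty (Sylow 3 G) := inferInstance
  have hn3 : ¬ 3 ∣ 2 ^ a * q ^ b := fun h => by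
    rcases Nat.prime_three.dvd_mul.1 h with e | e
    · exact absurd ((Nat.prime_dvd_prime_iff_eq Nat.prime_three Nat.prime_two).1
        (Nat.prime_three.dvd_of_dvd_pow e)) (by norm_num)
    · exact hq3 ((Nat.prime_dvd_prime_iff_eq Nat.prime_three hq).1 (Nat.prime_three.dvd_of_dvd_pow e)).symm
  have hR : Nat.card (R : Subgroup G) = 9 := by
    rw [H62.card_sylow_coe (p := 3) (a := 2) (m := 2 ^ a * q ^ b) (by rw [hcard]; ring) hn3 R]; norm_num
  obtain ⟨K, hK⟩ := H59.Nine.exists_inv R hR h3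
  rcases H59.Nine.order_cases hG hq hq2 hq3 hcard hK with h | h | h
  · obtain ⟨f⟩ := H65.alternating_six_of_card (G := G) h
    have := H59.Nine.classes_le_two f
    omega
  · haveI : Fintype (GaloisField 2 3) := Fintype.ofFinite _
    have hF : Fintype.card (GaloisField 2 3) = 8 := by
      rw [← Nat.card_eq_fintype_card, GaloisField.card 2 3 (by norm_num)]; norm_num
    exact Or.inl ⟨GaloisField 2 3, inferInstance, inferInstance, hF, H62.iso_PSL_of_card_504 h hF⟩
  · haveI : Fact (Nat.Prime 17) := ⟨by norm_num⟩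
    exact Or.inr (H59.Nine.psl_two_seventeen_of_card h (by rw [ZMod.card]))

end Cfsg.Agent.S2219
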