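import Cfsg.Statements.S2220
import Cfsg.Agent.H59.Nine.One.Reduce
-- import your own Cfsg.Agent.* helpers here

set_option autoImplicit false
open Cfsg

namespace Cfsg.Agent.S2220

/-- Let G be a non-abelian finite simple group of order 9·2ᵃ·qᵇ for a prime q other than 2 and 3, and suppose a Sylow 3-subgroup R of G is strongly self-centralizing: C_G(k) = R for every nonidentity k ∈ R. Then G is isomorphic to the alternating group of degree 6, to PSL(2,8) or to PSL(2,17). -/
theorem result {G : Type*} [Group G] [Finite G] [IsSimpleGroup G] (hG : ¬ IsMulCommutative G)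
    (q a b : ℕ) (hq : q.Prime) (hq2 : q ≠ 2) (hq3 : q ≠ 3) (hcard : Nat.card G = 9 * 2 ^ a * q ^ b)
    (R : Sylow 3 G) (hR : ∀ k ∈ (R : Subgroup G), k ≠ 1 → Subgroup.centralizer ({k} : Set G) = R) :
    Nonempty (G ≃* ↥(alternatingGroup (Fin 6))) ∨
      (∃ (F : Type) (_ : Field F) (_ : Fintype F), Fintype.card F = 8 ∧
        Nonempty (G ≃* Matrix.ProjectiveSpecialLinearGroup (Fin 2) F)) ∨
      Nonempty (G ≃* Matrix.ProjectiveSpecialLinearGroup (Fin 2) (ZMod 17)) := by
  haveI := Fintype.ofFinite G
  rcases H59.Nine.One.order_cases_cent hG hq hq2 hq3 hcard R hR with h | h | h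
  · exact Or.inl (H65.alternating_six_of_card (G := G) h)
  · haveI : Fintype (GaloisField 2 3) := Fintype.ofFinite _
    have hF : Fintype.card (GaloisField 2 3) = 8 := by
      rw [← Nat.card_eq_fintype_card, GaloisField.card 2 3 (by norm_num)]; norm_num
    exact Or.inr (Or.inl ⟨GaloisField 2 3, inferInstance, inferInstance, hF, H62.iso_PSL_of_card_504 h hF⟩)
  · haveI : Fact (Nat.Prime 17) := ⟨by norm_num⟩
    exact Or.inr (Or.inr (H59.Nine.psl_two_seventeen_of_card h (by rw [ZMod.card])))

end Cfsg.Agent.S2220
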