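import Cfsg.Statements.S2222
import Cfsg.Agent.H63.SylowTwoSelfNorm
import Mathlib

set_option autoImplicit false
open Cfsg

namespace Cfsg.Agent.S2222

theorem map_conj_eq_of_mem {G : Type*} [Group G] {H : Subgroup G} {g : G}
    (hg : g ∈ Subgroup.normalizer (H : Set G)) : H.map (MulAut.conj g).toMonoidHom = H :=
  (Subgroup.mem_normalizer_iff_map_conj_eq).mp hg

theorem map_conj_mul {G : Type*} [Group G] (H : Subgroup G) (a b : G) :
    H.map (MulAut.conj (a * b)).toMonoidHom = (H.map (MulAut.conj b).toMonoidHom).map (MulAut.conj a).toMonoidHom := by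
  rw [Subgroup.map_map]; congr 1; ext x; simp [mul_assoc]

/-- A subgroup which contains a Sylow subgroup and its normaliser is pronormal. -/
theorem pronormal_of_sylow_normalizer_le {G : Type*} [Group G] [Finite G] {p : ℕ} [Fact p.Prime]
    (H : Subgroup G) (S : Sylow p G) (hSH : (S : Subgroup G) ≤ H)
    (hN : Subgroup.normalizer ((S : Subgroup G) : Set G) ≤ H) : Cfsg.IsPronormal H := by
  intro g
  set K := H ⊔ H.map (MulAut.conj g).toMonoidHom
  have hgS : ((g • S : Sylow p G) : Subgroup G) ≤ K := by
    intro x hx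
    rw [Sylow.coe_subgroup_smul, Subgroup.mem_pointwise_smul_iff_inv_smul_mem] at hx
    refine le_sup_right (a := H) ⟨_, hSH hx, ?_⟩
    simp [mul_assoc]
  obtain ⟨k, hk⟩ := MulAction.exists_smul_eq K (S.subtype (le_sup_of_le_left hSH)) ((g • S).subtype hgS)
  rw [Sylow.smul_subtype] at hk
  have hk' : (k : G) • S = g • S := Sylow.subtype_injective hk
  have hmem : (k : G)⁻¹ * g ∈ H := hN (Sylow.smul_eq_iff_mem_normalizer.mp (by rw [mul_smul, ← hk', inv_smul_smul]))
  refine ⟨k, k.2, ?_⟩
  conv_lhs => rw [← mul_inv_cancel_left (k : G) g]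
  rw [map_conj_mul, map_conj_eq_of_mem (Subgroup.le_normalizer hmem)]

/-- In a simple group of order 60, a subgroup of index 5 is pronormal. -/
theorem pronormal_of_maximal {G : Type*} [Group G] (H : Subgroup G)
    (hmax : ∀ K, H ≤ K → K = H ∨ K = ⊤) (g : G) [Finite G] :
    ∃ x ∈ H ⊔ H.map (MulAut.conj g).toMonoidHom,
      H.map (MulAut.conj g).toMonoidHom = H.map (MulAut.conj x).toMonoidHom := by
  rcases hmax (H ⊔ H.map (MulAut.conj g).toMonoidHom) le_sup_left with h | h
  · refine ⟨1, one_mem _, ?_⟩
    rw [map_conj_eq_of_mem (one_mem (Subgroup.normalizer (H : Set G)))]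
    have hle : H.map (MulAut.conj g).toMonoidHom ≤ H := sup_eq_left.mp h
    have hc : Nat.card H ≤ Nat.card (H.map (MulAut.conj g).toMonoidHom) := by
      rw [Subgroup.card_map_of_injective]
      exact (MulAut.conj g).injective
    exact Subgroup.eq_of_le_of_card_ge hle hc
  · exact ⟨g, h ▸ Subgroup.mem_top g, rfl⟩

theorem index_ge_five {G : Type*} [Group G] [Finite G] [IsSimpleGroup G] (h60 : Nat.card G = 60)
    (H : Subgroup G) (hH : H ≠ ⊤) : 5 ≤ H.index := by
  have hcore : H.normalCore = ⊥ := (H.normalCore_normal.eq_bot_or_eq_top).resolve_right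
    fun h => hH (top_le_iff.mp (h ▸ H.normalCore_le))
  rw [Subgroup.normalCore_eq_ker, MonoidHom.ker_eq_bot_iff] at hcore
  have h := Nat.card_le_card_of_injective _ hcore
  rw [h60, Nat.card_perm, ← Subgroup.index_eq_card] at h
  by_contra hlt
  have : H.index.factorial ≤ (4 : ℕ).factorial := Nat.factorial_le (by omega)
  have : (4 : ℕ).factorial = 24 := rfl
  omega

/-- In the alternating group of degree n ≥ 5 every subgroup H of odd index is pronormal: for every element g, the subgroups H and gHg⁻¹ are conjugate by an element of the subgroup they generate. -/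
theorem result (n : ℕ) (hn : 5 ≤ n)
    (H : Subgroup (alternatingGroup (Fin n))) (hH : Odd H.index) : Cfsg.IsPronormal H := by
  have hidx : ¬ 2 ∣ H.index := by
    rw [Nat.two_dvd_ne_zero]; exact Nat.odd_iff.mp hH
  obtain ⟨S₀⟩ : Nonempty (Sylow 2 H) := inferInstance
  obtain ⟨S, hS⟩ := S₀.exists_comap_subtype_eq
  have hcard : Nat.card (S : Subgroup (alternatingGroup (Fin n))) = Nat.card (S₀ : Subgroup H) := by
    rw [S.card_eq_multiplicity, S₀.card_eq_multiplicity, ← Subgroup.card_mul_index H,
      Nat.factorization_mul Nat.card_pos.ne' Subgroup.index_ne_zero_of_finite, Finsupp.add_apply,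
      Nat.factorization_eq_zero_of_not_dvd hidx, add_zero]
  have hSH : (S : Subgroup (alternatingGroup (Fin n))) ≤ H := by
    have h1 : (S₀ : Subgroup H).map H.subtype ≤ (S : Subgroup (alternatingGroup (Fin n))) := by
      rw [← hS]; exact Subgroup.map_comap_le _ _
    rw [← Subgroup.eq_of_le_of_card_ge h1 (by rw [Subgroup.card_subtype, hcard])]
    exact Subgroup.map_subtype_le _
  rcases Nat.lt_or_ge n 6 with h6 | h6
  · obtain rfl : n = 5 := by omega
    haveI : IsSimpleGroup (alternatingGroup (Fin 5)) := alternatingGroup.isSimpleGroup (by simp)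
    have h60 : Nat.card (alternatingGroup (Fin 5)) = 60 := by
      rw [nat_card_alternatingGroup, Nat.card_fin]; rfl
    by_cases hS' : (S : Subgroup (alternatingGroup (Fin 5))) = H
    · intro g
      rw [← hS']
      set K := (S : Subgroup (alternatingGroup (Fin 5))) ⊔ (S : Subgroup (alternatingGroup (Fin 5))).map (MulAut.conj g).toMonoidHom
      have hgS : ((g • S : Sylow 2 (alternatingGroup (Fin 5))) : Subgroup _) ≤ K := le_sup_right
      obtain ⟨k, hk⟩ := MulAction.exists_smul_eq K (S.subtype le_sup_left) ((g • S).subtype hgS)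
      rw [Sylow.smul_subtype] at hk
      exact ⟨k, k.2, congrArg Sylow.toSubgroup (Sylow.subtype_injective hk).symm⟩
    · intro g
      refine pronormal_of_maximal H (fun K hK => ?_) g
      have hdiv : H.index * Nat.card H = 60 := by rw [mul_comm, Subgroup.card_mul_index, h60]
      have hlt : (S : Subgroup (alternatingGroup (Fin 5))) < H := lt_of_le_of_ne hSH hS'
      have hS4 : 4 ∣ Nat.card (S : Subgroup (alternatingGroup (Fin 5))) := by
        rw [show (4 : ℕ) = 2 ^ 2 from rfl]
        exact S.pow_dvd_card_of_pow_dvd_card (by rw [h60]; norm_num)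
      have hSpos : 4 ≤ Nat.card (S : Subgroup (alternatingGroup (Fin 5))) := Nat.le_of_dvd Nat.card_pos hS4
      have hcl : Nat.card (S : Subgroup (alternatingGroup (Fin 5))) < Nat.card H :=
        lt_of_le_of_ne (Subgroup.card_le_of_le hSH) fun h => hS' (Subgroup.eq_of_le_of_card_ge hSH h.ge)
      have hH4 : 4 ∣ Nat.card H := hS4.trans (Subgroup.card_dvd_of_le hSH)
      by_cases hK' : K = ⊤
      · exact Or.inr hK'
      left
      have h5 := index_ge_five h60 K hK'
      have hdK := Subgroup.index_dvd_of_le hK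
      have hle := Nat.le_of_dvd (Nat.pos_of_ne_zero Subgroup.index_ne_zero_of_finite) hdK
      have h8 : 8 ≤ Nat.card H := by omega
      have hidx5 : H.index ≤ 7 := by nlinarith
      have hcK : Nat.card K * K.index = 60 := by rw [Subgroup.card_mul_index, h60]
      have : H.index = K.index := by
        obtain ⟨d, hd⟩ := hdK
        rcases d with _ | _ | d
        · rw [mul_zero] at hd; exact absurd hd Subgroup.index_ne_zero_of_finite
        · simpa using hd
        · exfalso; nlinarith
      refine (Subgroup.eq_of_le_of_card_ge hK ?_).symm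
      rw [this] at hdiv
      rw [mul_comm] at hdiv
      exact le_of_eq (Nat.eq_of_mul_eq_mul_right (by omega) (hcK.trans hdiv.symm))
  · refine pronormal_of_sylow_normalizer_le H S hSH ?_
    rw [H63.normalizer_sylowTwo_alternating (by simpa using h6) S]
    exact hSH

end Cfsg.Agent.S2222
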