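import Cfsg.Statements.S2431
import Cfsg.Agent.H40.SL2Arith

set_option autoImplicit false
open Cfsg

namespace Cfsg.Agent.S2431

/-- Let F be a finite field with q elements, q odd, and S a Sylow 2-subgroup of SL₂ over F. The centraliser of S is the centre of SL₂ (of order 2); S is its own normaliser when q ≡ ±1 mod 8, and has index 3 in its normaliser when q ≡ ±3 mod 8. -/
theorem result {F : Type*} [Field F] [Fintype F] (hodd : Odd (Fintype.card F)) (S : Sylow 2 (Matrix.SpecialLinearGroup (Fin 2) F)) :
    Subgroup.centralizer ((S : Subgroup (Matrix.SpecialLinearGroup (Fin 2) F)) : Set (Matrix.SpecialLinearGroup (Fin 2) F)) = Subgroup.center (Matrix.SpecialLinearGroup (Fin 2) F) ∧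
    ((Fintype.card F % 8 = 1 ∨ Fintype.card F % 8 = 7) →
      Subgroup.normalizer ((S : Subgroup (Matrix.SpecialLinearGroup (Fin 2) F)) : Set (Matrix.SpecialLinearGroup (Fin 2) F)) = (S : Subgroup (Matrix.SpecialLinearGroup (Fin 2) F))) ∧
    ((Fintype.card F % 8 = 3 ∨ Fintype.card F % 8 = 5) →
      Nat.card (Subgroup.normalizer ((S : Subgroup (Matrix.SpecialLinearGroup (Fin 2) F)) : Set (Matrix.SpecialLinearGroup (Fin 2) F))) = 3 * Nat.card S) := by
  classical
  have h2 : (2 : F) ≠ 0 := H40.two_ne_zero_of_odd_card hodd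
  have h1 : 1 < Fintype.card F := Fintype.one_lt_card
  obtain ⟨k, hk⟩ := hodd
  have hnq : ¬ 2 ∣ Fintype.card F := by omega
  refine ⟨H40.sylow_two_center h2 S, ?_, ?_⟩
  · intro hq8
    have main : ∀ (g : Matrix.SpecialLinearGroup (Fin 2) F) (c d : ℕ), H40.Reg2 g →
        Nat.card (H40.tor g) = c → c * d = (Fintype.card F - 1) * (Fintype.card F + 1) →
        c % 8 = 0 → d % 4 = 2 →
        Subgroup.normalizer ((S : Subgroup (Matrix.SpecialLinearGroup (Fin 2) F)) : Set (Matrix.SpecialLinearGroup (Fin 2) F)) = (S : Subgroup (Matrix.SpecialLinearGroup (Fin 2) F)) := by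
      intro g c d hg hc hcd hc8 hd4
      have hc0 : c ≠ 0 := hc ▸ Nat.card_pos.ne'
      have hf := H40.factorization_SL2_of_dvd (F := F) 2 hcd hc0 (by omega) hnq
      rw [H40.factorization_two_eq_one hd4] at hf
      have h3 := H40.three_le_factorization_two hc0 hc8
      refine H40.sylow_two_self_normalizing h2 hg ?_ (by omega) S
      rw [H40.card_normalizer_tor h2 hg, hc, Nat.factorization_mul two_ne_zero hc0, hf]
      simp [Nat.prime_two.factorization]
      omega
    rcases hq8 with h | h
    · obtain ⟨g, hg, c, hc⟩ := H40.exists_split (F := F) (by omega)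
      exact main g _ (Fintype.card F + 1) hg (H40.card_tor_of_eig hg hc) rfl (by omega) (by omega)
    · obtain ⟨g, hg, hne⟩ := H40.exists_nonsplit (F := F)
      exact main g _ (Fintype.card F - 1) hg (H40.card_tor_of_noEig hg hne) (mul_comm _ _) (by omega) (by omega)
  · intro hq8
    refine H40.card_normalizer_q8 h2 ?_ S
    rcases hq8 with h | h
    · rw [H40.factorization_SL2_of_dvd (F := F) 2 (c := Fintype.card F - 1) (d := Fintype.card F + 1)
        rfl (by omega) (by omega) hnq,
        H40.factorization_two_eq_one (by omega), H40.factorization_two_eq_two (by omega)]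
    · rw [H40.factorization_SL2_of_dvd (F := F) 2 (c := Fintype.card F - 1) (d := Fintype.card F + 1)
        rfl (by omega) (by omega) hnq,
        H40.factorization_two_eq_two (by omega), H40.factorization_two_eq_one (by omega)]

end Cfsg.Agent.S2431
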