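import Cfsg.Statements.S2225
import Cfsg.Agent.H39.PronormalPSL
import Cfsg.Agent.S2431
-- import your own Cfsg.Agent.* helpers here

set_option autoImplicit false
open Cfsg

namespace Cfsg.Agent.S2225

/-- Let F be a finite field and d = 2^w ≥ 2 a power of 2 such that PSL_d(F) is simple. Then every subgroup H of PSL_d(F) of odd index is pronormal: for every g, H and gHg⁻¹ are conjugate by an element of the subgroup they generate. -/
theorem result {F : Type*} [Field F] [Fintype F]
    (w : ℕ) (hw : 1 ≤ w) (hs : IsSimpleGroup (Matrix.ProjectiveSpecialLinearGroup (Fin (2 ^ w)) F))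
    (H : Subgroup (Matrix.ProjectiveSpecialLinearGroup (Fin (2 ^ w)) F)) (hH : Odd H.index) : Cfsg.IsPronormal H := by
  classical
  haveI : Fact (Nat.Prime 2) := ⟨Nat.prime_two⟩
  have hsurj : Function.Surjective
      (QuotientGroup.mk' (Subgroup.center (Matrix.SpecialLinearGroup (Fin (2 ^ w)) F))) :=
    QuotientGroup.mk'_surjective _
  set f : Matrix.SpecialLinearGroup (Fin (2 ^ w)) F →* Matrix.ProjectiveSpecialLinearGroup (Fin (2 ^ w)) F :=
    QuotientGroup.mk' (Subgroup.center (Matrix.SpecialLinearGroup (Fin (2 ^ w)) F))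
  -- pass to the special linear group
  have lift : Cfsg.IsPronormal (H.comap f) → Cfsg.IsPronormal H := fun h => by
    have := (H36.isPronormal_map_iff hsurj (K := H.comap f) (f.ker_le_comap H)).2 h
    rwa [Subgroup.map_comap_eq_self_of_surjective hsurj] at this
  obtain ⟨S, hS⟩ := (H36.exists_sylow_le_iff (p := 2) (H.comap f)).2 (by
    rw [Subgroup.index_comap_of_surjective _ hsurj]
    exact fun h => (Nat.not_even_iff_odd.2 hH) (even_iff_two_dvd.2 h))
  rcases Nat.even_or_odd (Fintype.card F) with hev | hodd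
  · refine lift ?_
    haveI : CharP F 2 := by
      obtain ⟨p, hp⟩ := CharP.exists F
      haveI := hp
      obtain ⟨n, hpr, hn⟩ := FiniteField.card F p
      rw [hn, Nat.even_pow] at hev
      exact (((Nat.Prime.even_iff hpr).1 hev.1) ▸ hp : CharP F 2)
    obtain ⟨c, hc⟩ := MulAction.exists_smul_eq (Matrix.SpecialLinearGroup (Fin (2 ^ w)) F) (H37.sylowSL (F := F) 2 (2 ^ w)) S
    set U := H37.unitriangularSL (2 ^ w) F
    have hU : H73.cj c U ≤ H.comap f := by rw [← hc] at hS; exact hS
    have hU' : U ≤ H73.cj c⁻¹ (H.comap f) := by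
      have := H73.cj_mono (g := c⁻¹) hU
      rwa [H73.cj_cj, inv_mul_cancel, H73.cj_one] at this
    have h1 := H39.pronormal_of_normalizer_le (H37.sylowSL (F := F) 2 (2 ^ w)) hU'
      (H39.Unip.normalizer_unitriangular_le hU')
    have := H36.pronormal_cj c h1
    rwa [H73.cj_cj, mul_inv_cancel, H73.cj_one] at this
  · rcases Nat.lt_or_ge w 2 with hw2 | hw2
    · obtain rfl : w = 1 := by omega
      by_cases h8 : Fintype.card F % 8 = 3 ∨ Fintype.card F % 8 = 5
      · exact H39.pronormal_psl2_pm3 h8 H hH
      · refine lift (H36.overgroup_of_selfNormalizing S ?_ hS).1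
        have := Nat.odd_iff.1 hodd
        exact (Cfsg.Agent.S2431.result (F := F) hodd S).2.1 (by omega)
    · exact lift (H36.overgroup_of_selfNormalizing S (H39.sylow_SL_self_normalizing hodd w hw2 S) hS).1


end Cfsg.Agent.S2225
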