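import Cfsg.Statements.S2226
import Cfsg.Agent.H37.SUPronormal
import Cfsg.Agent.H37.SUSylowTwo

set_option autoImplicit false
open Cfsg

namespace Cfsg.Agent.S2226

/-- Let F be a finite field with q² elements and d = 2^w ≥ 4 a power of 2 such that the unitary group PSU_d(q) (realised over F) is simple. Then every subgroup H of PSU_d(q) of odd index is pronormal: for every g, H and gHg⁻¹ are conjugate by an element of the subgroup they generate. -/
theorem result {F : Type*} [Field F] [Fintype F] (q : ℕ)
    (hF : Fintype.card F = q ^ 2) (w : ℕ) (hw : 2 ≤ w) (hs : IsSimpleGroup (Cfsg.PSU (2 ^ w) F q))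
    (H : Subgroup (Cfsg.PSU (2 ^ w) F q)) (hH : Odd H.index) : Cfsg.IsPronormal H := by
  classical
  haveI : Fact (Nat.Prime 2) := ⟨Nat.prime_two⟩
  set f : Cfsg.SU (2 ^ w) F q →* Cfsg.PSU (2 ^ w) F q :=
    QuotientGroup.mk' (Subgroup.center (Cfsg.SU (2 ^ w) F q)) with hf
  have hsurj : Function.Surjective f := QuotientGroup.mk'_surjective _
  have lift : Cfsg.IsPronormal (H.comap f) → Cfsg.IsPronormal H := fun h => by
    have := (H36.isPronormal_map_iff hsurj (K := H.comap f) (f.ker_le_comap H)).2 h
    rwa [Subgroup.map_comap_eq_self_of_surjective hsurj] at this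
  obtain ⟨S, hS⟩ := (H36.exists_sylow_le_iff (p := 2) (H.comap f)).2 (by
    rw [Subgroup.index_comap_of_surjective _ hsurj]
    exact fun h => (Nat.not_even_iff_odd.2 hH) (even_iff_two_dvd.2 h))
  rcases Nat.even_or_odd (Fintype.card F) with hev | hodd
  · haveI : CharP F 2 := by
      obtain ⟨p, hp⟩ := CharP.exists F
      haveI := hp
      obtain ⟨n, hpr, hn⟩ := FiniteField.card F p
      rw [hn, Nat.even_pow] at hev
      exact (((Nat.Prime.even_iff hpr).1 hev.1) ▸ hp : CharP F 2)
    have he : Even (2 ^ w) := Nat.even_pow.2 ⟨even_two, by omega⟩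
    have hn : ∀ i : Fin (2 ^ w), i.rev ≠ i := by
      intro i e
      have e' := congrArg Fin.val e
      obtain ⟨k, hk⟩ := he
      simp only [Fin.val_rev] at e'
      omega
    obtain ⟨b, hb⟩ := H37.SUF.exists_frame_char_two hF he
    obtain ⟨U, hU⟩ := H37.SUF.exists_sylow (p := 2) hF hn (Nat.two_pow_pos w) hb
    obtain ⟨c, hc⟩ := MulAction.exists_smul_eq (Cfsg.SU (2 ^ w) F q) U S
    set H' := H73.cj c⁻¹ (H.comap f) with hH'
    have hUH : (U : Subgroup (Cfsg.SU (2 ^ w) F q)) ≤ H' := by
      have h1 : H73.cj c (U : Subgroup (Cfsg.SU (2 ^ w) F q)) ≤ H.comap f := by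
        rw [← hc] at hS
        exact hS
      have := H73.cj_mono (g := c⁻¹) h1
      rwa [H73.cj_cj, inv_mul_cancel, H73.cj_one] at this
    have hnU := H37.SUF.normalizer_unip hF hn hb
    have h1 := H39.pronormal_of_normalizer_le U hUH (H37.SUF.normalizer_le_of_factor U
      (fun g x hx => by
        rw [hU, hnU] at hx
        rw [hU, ← H37.SUF.unip_smul hF]
        exact H37.SUF.borel_factor hF hn hb (H37.SUF.frame_smul hF g hb) hx)
      (fun x hx y hy => by
        rw [hU, hnU] at hx hy
        rw [hU]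
        exact H37.SUF.commutator_borel_le hF hb hx hy) hUH)
    refine lift ?_
    have := H36.pronormal_cj c h1
    rwa [hH', H73.cj_cj, mul_inv_cancel, H73.cj_one] at this
  · exact lift (H36.overgroup_of_selfNormalizing S
      (H37.SUW.sylow_SU_self_normalizing hF hodd w hw S) hS).1

end Cfsg.Agent.S2226
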