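import Cfsg.Statements.S2232
import Cfsg.Agent.H50.SU3Borel
import Cfsg.Agent.H87.QdLocal
-- import your own Cfsg.Agent.* helpers here

set_option autoImplicit false
open Cfsg Matrix

namespace Cfsg.Agent.S2232

/-- Let p be an odd prime, q a power of p and K a finite field with q² elements. Then Qd(p) (the natural semidirect product of an elementary abelian group of order p² by SL₂(p)) is not involved in the projective special unitary group PSU₃(q) realised over K. -/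
theorem result {p : ℕ} [Fact p.Prime] (hp : p ≠ 2) {K : Type*} [Field K] [Fintype K] [CharP K p] (n : ℕ) (hn : 1 ≤ n) (hK : Fintype.card K = (p ^ n) ^ 2) : ¬ Cfsg.Involves ↥(Cfsg.qd p) (Cfsg.PSU 3 K (p ^ n)) := by
  classical
  have hpp : p.Prime := Fact.out
  have hp3 : 3 ≤ p := by have := hpp.two_le; omega
  have hn2 : 2 ≤ 3 := by norm_num
  set q := p ^ n with hq
  intro hinv
  haveI : NeZero p := ⟨hpp.ne_zero⟩
  have hinv' : Cfsg.Involves (Cfsg.qdOver (ZMod p)) (Cfsg.PSU 3 K q) := hinv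
  obtain ⟨X, π, hπ⟩ := H87.involves_iff_exists_surjective.1 hinv'
  obtain ⟨U, hUp, hU⟩ := H87.exists_local_section (H87.qd_invertingData hp)
    H87.isPGroup_qd_ker hp X π hπ
  obtain ⟨a, ha⟩ : ∃ a : Cfsg.qdOver (ZMod p), a ≠ 1 := by
    refine ⟨H74.Qd.mk (H87.negOneSL p) 0, fun h => ?_⟩
    have h' := congrArg (fun M => ((H74.Qd.lin M : Matrix.SpecialLinearGroup (Fin 2) (ZMod p)) :
      Matrix (Fin 2) (Fin 2) (ZMod p)) 0 0) h
    simp [H87.negOneSL] at h'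
    exact (by
      intro he
      have h2 : ((2 : ℕ) : ZMod p) = 0 := by push_cast; linear_combination -he
      rw [ZMod.natCast_eq_zero_iff, Nat.prime_dvd_prime_iff_eq hpp Nat.prime_two] at h2
      exact hp h2 : ((-1 : ZMod p) ≠ 1)) h'
  have hU1 : U ≠ ⊥ := by
    intro h
    subst h
    obtain ⟨H, θ, hH, hθ, -⟩ := hU ⊥ le_rfl (fun g _ => ⟨g⁻¹, by
      rw [Subgroup.mem_centralizer_iff]
      intro x hx
      rw [Subgroup.mem_bot.1 hx, one_mul, mul_one], by simp⟩)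
    obtain ⟨⟨x, hx⟩, hxa⟩ := hθ a
    apply ha
    rw [← hxa, show (⟨x, hx⟩ : H) = 1 from Subtype.ext (Subgroup.mem_bot.1 (hH hx)), map_one]
  obtain ⟨H, θ, hHN, hθ, -⟩ := hU (Subgroup.normalizer (U : Set (Cfsg.PSU 3 K q))) Subgroup.le_normalizer
    (fun g hg => ⟨1, one_mem _, by rwa [one_mul]⟩)
  -- the fixed point
  let π0 : Cfsg.SU 3 K q →* Cfsg.PSU 3 K q := QuotientGroup.mk' _
  have hπ0 : Function.Surjective π0 := QuotientGroup.mk'_surjective _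
  set W := U.comap π0
  obtain ⟨S⟩ : Nonempty (Sylow p W) := inferInstance
  let πU : W →* U := π0.subgroupComap U
  have hπU : Function.Surjective πU := by
    rintro ⟨y, hy⟩
    obtain ⟨x, rfl⟩ := hπ0 y
    exact ⟨⟨x, hy⟩, rfl⟩
  have htop : ((S.mapSurjective hπU : Sylow p U) : Subgroup U) = ⊤ :=
    ((S.mapSurjective hπU).3 (Q := ⊤) (hUp.of_equiv Subgroup.topEquiv.symm) le_top).symm
  have hlift : ∀ u ∈ U, ∃ s ∈ (S : Subgroup W), π0 (s : Cfsg.SU 3 K q) = u := by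
    intro u hu
    obtain ⟨s, hs, hsu⟩ : (⟨u, hu⟩ : U) ∈ ((S.mapSurjective hπU : Sylow p U) : Subgroup U) := by
      rw [htop]; trivial
    exact ⟨s, hs, congrArg Subtype.val hsu⟩
  let Xv := {v : Fin 3 → K // Cfsg.hermForm 3 K q v v = 0}
  letI : MulAction (S : Subgroup W) Xv :=
    { smul := fun g v => ⟨H50.suMat ((g : W) : Cfsg.SU 3 K q) *ᵥ v.1, by rw [H50.suMat_h]; exact v.2⟩
      one_smul := fun v => Subtype.ext (by
        show H50.suMat (1 : Cfsg.SU 3 K q) *ᵥ v.1 = v.1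
        rw [H50.suMat_one, Matrix.one_mulVec])
      mul_smul := fun g h v => Subtype.ext (by
        show H50.suMat (((g : W) : Cfsg.SU 3 K q) * ((h : W) : Cfsg.SU 3 K q)) *ᵥ v.1 = _
        rw [H50.suMat_mulVec_mul]; rfl) }
  have hdvd : p ∣ Nat.card Xv := by
    have h := H50.q_mul_norm_zero_count (F := K) (n := 3) hK
    have hpq : (p : ℤ) ∣ (q : ℤ) := by
      rw [hq]; exact_mod_cast dvd_pow_self p (by omega)
    have hq0 : (q : ℤ) ≠ 0 := by
      have := H50.q_pos hK; omega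
    have h2 : (H50.normCount 3 q K 0 : ℤ) = (q : ℤ) * ((q : ℤ) * ((q : ℤ) ^ 3 - (q : ℤ) + 1)) := by
      apply mul_left_cancel₀ hq0
      rw [h]; ring
    exact Int.natCast_dvd_natCast.1 (show (p : ℤ) ∣ (H50.normCount 3 q K 0 : ℤ) by
      rw [h2]; exact hpq.mul_right _)
  have hfix0 : (⟨0, H50.h_zero_left _⟩ : Xv) ∈ MulAction.fixedPoints (S : Subgroup W) Xv :=
    fun g => Subtype.ext (Matrix.mulVec_zero (A := H50.suMat ((g : W) : Cfsg.SU 3 K q)))
  obtain ⟨⟨v, hv⟩, hvfix, hvne⟩ :=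
    S.isPGroup'.exists_fixed_point_of_prime_dvd_card_of_fixed_point Xv hdvd hfix0
  have hv0 : v ≠ 0 := fun h => hvne (Subtype.ext h.symm)
  have hSv : ∀ s ∈ (S : Subgroup W), H50.suMat (s : Cfsg.SU 3 K q) *ᵥ v = v := fun s hs =>
    congrArg Subtype.val (hvfix ⟨s, hs⟩)
  have hker : ∀ z : Cfsg.SU 3 K q, π0 z = 1 → ∃ l : K, H50.suMat z = l • 1 := fun z hz =>
    (H50.mem_center_iff_scalar hK hn2).1 ((QuotientGroup.eq_one_iff z).1 hz)
  have hWv : ∀ w : Cfsg.SU 3 K q, π0 w ∈ U → ∃ l : K, H50.suMat w *ᵥ v = l • v := by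
    intro w hw
    obtain ⟨s, hs, hsw⟩ := hlift _ hw
    obtain ⟨l, hl⟩ := hker ((s : Cfsg.SU 3 K q)⁻¹ * w) (by rw [map_mul, map_inv, hsw, inv_mul_cancel])
    refine ⟨l, ?_⟩
    rw [show w = (s : Cfsg.SU 3 K q) * ((s : Cfsg.SU 3 K q)⁻¹ * w) by rw [mul_inv_cancel_left],
      H50.suMat_mulVec_mul, hl, Matrix.smul_mulVec, Matrix.one_mulVec, Matrix.mulVec_smul, hSv s hs]
  obtain ⟨u, hu, hu1⟩ := (Subgroup.ne_bot_iff_exists_ne_one.1 hU1) |> fun ⟨u, hu⟩ =>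
    (⟨u.1, u.2, fun h => hu (Subtype.ext h)⟩ : ∃ u, u ∈ U ∧ u ≠ 1)
  obtain ⟨s, hs, hsu⟩ := hlift u hu
  have hs1 : (s : Cfsg.SU 3 K q) ≠ 1 := fun h => hu1 (by rw [← hsu, h, map_one])
  obtain ⟨k, hk⟩ := S.isPGroup' ⟨s, hs⟩
  have hk' : (s : Cfsg.SU 3 K q) ^ p ^ k = 1 :=
    congrArg (fun x : (S : Subgroup W) => ((x : W) : Cfsg.SU 3 K q)) hk
  have hNv : ∀ g : Cfsg.SU 3 K q, π0 g ∈ Subgroup.normalizer (U : Set (Cfsg.PSU 3 K q)) →
      ∃ l : K, H50.suMat g *ᵥ v = l • v := by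
    intro g hg
    have hconj : π0 (g⁻¹ * s * g) ∈ U := by
      rw [map_mul, map_mul, map_inv, hsu]
      exact (Subgroup.mem_normalizer_iff''.1 hg u).1 hu
    obtain ⟨l, hl⟩ := hWv _ hconj
    have hgs : H50.suMat (s : Cfsg.SU 3 K q) *ᵥ (H50.suMat g *ᵥ v) = l • (H50.suMat g *ᵥ v) := by
      rw [← Matrix.mulVec_smul, ← hl, ← H50.suMat_mulVec_mul, ← H50.suMat_mulVec_mul, ← mul_assoc,
        mul_inv_cancel_left]
    obtain ⟨c, hc⟩ := H50.Borel3.fixed_point_unique hK p hk' hs1 hv0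
      (fun h => hv0 (H50.suMat_injective g (by simpa using h))) hv (by rw [H50.suMat_h, hv])
      ⟨1, by rw [one_smul, hSv s hs]⟩ ⟨l, hgs⟩
    exact ⟨c, hc.symm⟩
  -- commutators of `H` have order dividing `p`
  have hcomm : ∀ x y : H, ((x * y * x⁻¹ * y⁻¹) : H) ^ p = 1 := by
    intro x y
    obtain ⟨g, hg⟩ := hπ0 (x : Cfsg.PSU 3 K q)
    obtain ⟨g', hg'⟩ := hπ0 (y : Cfsg.PSU 3 K q)
    obtain ⟨l, hl⟩ := hNv g (by rw [hg]; exact hHN x.2)
    obtain ⟨l', hl'⟩ := hNv g' (by rw [hg']; exact hHN y.2)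
    have hinvv : ∀ (t : Cfsg.SU 3 K q) (c : K), H50.suMat t *ᵥ v = c • v →
        c ≠ 0 ∧ H50.suMat t⁻¹ *ᵥ v = c⁻¹ • v := by
      intro t c htc
      have h1 := H50.suMat_inv_mulVec t v
      rw [htc, Matrix.mulVec_smul] at h1
      have hc0 : c ≠ 0 := fun h => hv0 (by rw [← h1, h, zero_smul])
      refine ⟨hc0, ?_⟩
      conv_rhs => rw [← h1]
      rw [smul_smul, inv_mul_cancel₀ hc0, one_smul]
    obtain ⟨hl0, hli⟩ := hinvv g l hl
    obtain ⟨hl0', hli'⟩ := hinvv g' l' hl'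
    have hc : H50.suMat (g * g' * g⁻¹ * g'⁻¹) *ᵥ v = v := by
      simp only [H50.suMat_mulVec_mul, hli', Matrix.mulVec_smul, hli, hl', hl, smul_smul]
      rw [show l'⁻¹ * (l⁻¹ * (l' * l)) = 1 by field_simp, one_smul]
    have hp1 := H50.Borel3.pow_char_eq_one hK p hp3 hv0 hv hc
    apply Subtype.ext
    have h2 := congrArg π0 hp1
    rw [map_pow, map_mul, map_mul, map_mul, map_inv, map_inv, map_one, hg, hg'] at h2
    exact h2
  obtain ⟨a', ha'⟩ : ∃ a' : Matrix.SpecialLinearGroup (Fin 2) (ZMod p),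
      (a' : Matrix (Fin 2) (Fin 2) (ZMod p)) = !![1, 1; 0, 1] :=
    ⟨⟨!![1, 1; 0, 1], by simp [Matrix.det_fin_two]⟩, rfl⟩
  obtain ⟨b', hb'⟩ : ∃ b' : Matrix.SpecialLinearGroup (Fin 2) (ZMod p),
      (b' : Matrix (Fin 2) (Fin 2) (ZMod p)) = !![1, 0; 1, 1] :=
    ⟨⟨!![1, 0; 1, 1], by simp [Matrix.det_fin_two]⟩, rfl⟩
  let A : Cfsg.qdOver (ZMod p) := H74.Qd.mk a' 0
  let B : Cfsg.qdOver (ZMod p) := H74.Qd.mk b' 0
  obtain ⟨x, hx⟩ := hθ A
  obtain ⟨y, hy⟩ := hθ B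
  have h3 := congrArg θ (hcomm x y)
  rw [map_pow, map_mul, map_mul, map_mul, map_inv, map_inv, map_one, hx, hy] at h3
  have h4 := congrArg H74.Qd.lin h3
  rw [map_pow, map_mul, map_mul, map_mul, map_inv, map_inv, map_one] at h4
  rw [show H74.Qd.lin A = _ from H74.Qd.lin_mk _ _, show H74.Qd.lin B = _ from H74.Qd.lin_mk _ _] at h4
  set M : Matrix (Fin 2) (Fin 2) (ZMod p) := !![3, -1; 1, 0]
  have hM : M ^ p = 1 := by
    have h5 := congrArg (fun Z : Matrix.SpecialLinearGroup (Fin 2) (ZMod p) =>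
      (Z : Matrix (Fin 2) (Fin 2) (ZMod p))) h4
    simp only [Matrix.SpecialLinearGroup.coe_pow, Matrix.SpecialLinearGroup.coe_mul,
      Matrix.SpecialLinearGroup.coe_inv, Matrix.SpecialLinearGroup.coe_one, ha', hb'] at h5
    rw [← h5]
    congr 1
    ext i j
    fin_cases i <;> fin_cases j <;> norm_num [M, Matrix.mul_apply, Fin.sum_univ_two, Matrix.adjugate_fin_two]
  have hnil : IsNilpotent (M - 1) :=
    ⟨p, by rw [sub_pow_char_of_commute p (Commute.one_right M), one_pow, hM, sub_self]⟩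
  have htr := (Matrix.isNilpotent_trace_of_isNilpotent hnil).eq_zero
  simp [M, Matrix.trace_fin_two] at htr
  exact one_ne_zero (show (1 : ZMod p) = 0 by linear_combination htr)

end Cfsg.Agent.S2232
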