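import Cfsg.Statements.S2238
import Cfsg.Agent.H57.SzSolvable
import Cfsg.Agent.H57.SzTwo

set_option autoImplicit false
open Cfsg

namespace Cfsg.Agent.S2238

open scoped Pointwise

section
variable {F : Type*} [Field F] [Fintype F] {m : ℕ}

theorem tSub_map_eq_of_shared (hm : 1 ≤ m) (hF : Fintype.card F = 2 ^ (2 * m + 1))
    {g s t : Cfsg.Sz F m} (hg : g ≠ 1) (h1 : s⁻¹ * g * s ∈ H57.tSub hF)
    (h2 : t⁻¹ * g * t ∈ H57.tSub hF) :
    (H57.tSub hF).map (MulAut.conj s).toMonoidHom =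
      (H57.tSub hF).map (MulAut.conj t).toMonoidHom := by
  obtain ⟨a, b, hab⟩ := h1
  obtain ⟨c, d, hcd⟩ := h2
  have hne : H57.tEl hF a b ≠ 1 := by
    intro h
    apply hg
    rw [h] at hab
    calc g = s * (s⁻¹ * g * s) * s⁻¹ := by group
      _ = 1 := by rw [hab]; group
  have hfix : g • (t • Cfsg.suzukiPointInfinity F) = t • Cfsg.suzukiPointInfinity F := by
    have : g = t * H57.tEl hF c d * t⁻¹ := by rw [← hcd]; group
    rw [this, ← mul_smul, inv_mul_cancel_right, mul_smul, H57.tEl_infty]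
  have hu := H57.tEl_unique_fixed hF hne
    (H57.sz_smul_mem (s⁻¹ * t) H57.infty_mem) (by
      rw [← hab, mul_smul, mul_smul, mul_smul, smul_inv_smul, hfix])
  have hN : s⁻¹ * t ∈ Subgroup.normalizer (H57.tSub hF : Set (Cfsg.Sz F m)) := by
    rw [H57.normalizer_tSub hm hF, MulAction.mem_stabilizer_iff]
    exact hu
  conv_lhs => rw [← H57.map_eq_of_mem_normalizer hN, H57.conj_conj_map, mul_inv_cancel_left]

theorem sylow_eq_conj (hm : 1 ≤ m) (hF : Fintype.card F = 2 ^ (2 * m + 1))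
    (P : Sylow 2 (Cfsg.Sz F m)) :
    ∃ s : Cfsg.Sz F m, (P : Subgroup (Cfsg.Sz F m)) =
      (H57.tSub hF).map (MulAut.conj s).toMonoidHom := by
  haveI : Fact (Nat.Prime 2) := ⟨Nat.prime_two⟩
  obtain ⟨s, hs⟩ := MulAction.exists_smul_eq (Cfsg.Sz F m) (H57.tSylow hm hF) P
  exact ⟨s, by rw [← hs, Sylow.coe_subgroup_smul, H57.coe_tSylow]; rfl⟩

theorem conj_sylow (hm : 1 ≤ m) (hF : Fintype.card F = 2 ^ (2 * m + 1)) (s : Cfsg.Sz F m) :
    ∃ P : Sylow 2 (Cfsg.Sz F m),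
      (H57.tSub hF).map (MulAut.conj s).toMonoidHom = (P : Subgroup (Cfsg.Sz F m)) :=
  ⟨s • H57.tSylow hm hF, by rw [Sylow.coe_subgroup_smul, H57.coe_tSylow]; rfl⟩

theorem order_facts (m : ℕ) (hm : 1 ≤ m) :
    4 ≤ 2 ^ (m + 1) ∧ 2 * 2 ^ (m + 1) ≤ 2 ^ (2 * m + 1) ∧ 2 ∣ 2 ^ (m + 1) ∧
      2 ∣ 2 ^ (2 * m + 1) := by
  refine ⟨?_, ?_, dvd_pow_self 2 (by omega), dvd_pow_self 2 (by omega)⟩
  · calc 4 = 2 ^ 2 := by norm_num
      _ ≤ _ := Nat.pow_le_pow_right (by norm_num) (by omega)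
  · calc 2 * 2 ^ (m + 1) = 2 ^ (m + 2) := by ring
      _ ≤ _ := Nat.pow_le_pow_right (by norm_num) (by omega)

theorem tor_card (hm : 1 ≤ m) (hF : Fintype.card F = 2 ^ (2 * m + 1))
    {A : Subgroup (Cfsg.Sz F m)} (hA : H57.IsTor A) :
    Nat.card A = 2 ^ (2 * m + 1) + 2 ^ (m + 1) + 1 ∨
      Nat.card A = 2 ^ (2 * m + 1) - 2 ^ (m + 1) + 1 := by
  obtain ⟨Ap, Am, -, -, hp, hm', hall, -⟩ := H57.tor_summary hm hF
  obtain ⟨s, rfl | rfl⟩ := hall A hA
  · exact Or.inl ((H57.card_conj Ap s).trans hp)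
  · exact Or.inr ((H57.card_conj Am s).trans hm')

theorem utor_of_card (hm : 1 ≤ m) (hF : Fintype.card F = 2 ^ (2 * m + 1))
    {U : Subgroup (Cfsg.Sz F m)} (hc : IsCyclic U)
    (hk : Nat.card U = 2 ^ (2 * m + 1) - 1 ∨
      Nat.card U = 2 ^ (2 * m + 1) + 2 ^ (m + 1) + 1 ∨
      Nat.card U = 2 ^ (2 * m + 1) - 2 ^ (m + 1) + 1) :
    H57.IsUTor hF U := by
  obtain ⟨hR, hqR, hR2, hq2⟩ := order_facts m hm
  obtain ⟨x, hx⟩ := U.isCyclic_iff_exists_zpowers_eq_top.mp hc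
  subst hx
  rw [Nat.card_zpowers] at hk
  have hx1 : x ≠ 1 := by
    intro h
    rw [h, orderOf_one] at hk
    omega
  rcases H57.sz_trichotomy hm hF hx1 with ⟨s, hs⟩ | ⟨s, hs⟩ | ⟨A, hA, hxA⟩
  · exfalso
    have hd := Subgroup.orderOf_dvd_natCard _ hs
    rw [H57.card_tSub, ← pow_mul] at hd
    have hord : orderOf (s⁻¹ * x * s) = orderOf x := by
      simpa using H57.orderOf_conj s⁻¹ x
    rw [hord] at hd
    obtain ⟨i, -, hi⟩ := (Nat.dvd_prime_pow Nat.prime_two).mp hd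
    rcases i with _ | i
    · rw [pow_zero] at hi; omega
    · have : 2 ∣ orderOf x := by rw [hi]; exact dvd_pow_self 2 (by omega)
      omega
  · left
    refine ⟨s, Subgroup.eq_of_le_of_card_ge ?_ ?_⟩
    · rw [Subgroup.zpowers_le, H57.mem_map_conj_iff]; exact hs
    · have hd : orderOf x ∣ 2 ^ (2 * m + 1) - 1 := by
        have := Subgroup.orderOf_dvd_natCard _ (H57.mem_map_conj_iff.mpr hs)
        rwa [H57.card_conj, H57.card_dSub] at this
      rw [H57.card_conj, H57.card_dSub, Nat.card_zpowers]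
      have hle := Nat.le_of_dvd (by omega) hd
      rcases hk with h | h | h
      · omega
      · omega
      · exfalso
        have h2 : orderOf x ∣ 2 ^ (m + 1) - 2 := by
          have := Nat.dvd_sub hd (dvd_refl (orderOf x))
          convert this using 1
          omega
        have := Nat.le_of_dvd (by omega) h2
        omega
  · right
    suffices hUA : Subgroup.zpowers x = A by rw [hUA]; exact hA
    refine Subgroup.eq_of_le_of_card_ge (by rwa [Subgroup.zpowers_le]) ?_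
    have hd : orderOf x ∣ Nat.card A := Subgroup.orderOf_dvd_natCard _ hxA
    have hle := Nat.le_of_dvd Nat.card_pos hd
    rw [Nat.card_zpowers]
    rcases tor_card hm hF hA with h' | h' <;> rw [h'] at hd hle ⊢ <;> rcases hk with h | h | h
    · exfalso
      have h2 : orderOf x ∣ 2 ^ (m + 1) + 2 := by
        have := Nat.dvd_sub hd (dvd_refl (orderOf x))
        convert this using 1
        omega
      have := Nat.le_of_dvd (by omega) h2
      omega
    · omega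
    · exfalso
      have h2 : orderOf x ∣ 2 ^ (m + 2) := by
        have := Nat.dvd_sub hd (dvd_refl (orderOf x))
        convert this using 1
        rw [pow_succ 2 (m + 1)]
        omega
      obtain ⟨i, -, hi⟩ := (Nat.dvd_prime_pow Nat.prime_two).mp h2
      rcases i with _ | i
      · rw [pow_zero] at hi; omega
      · have : 2 ∣ orderOf x := by rw [hi]; exact dvd_pow_self 2 (by omega)
        omega
    · omega
    · omega
    · omega

end

/-- The partition of the Suzuki group: with q = 2^(2m+1), m ≥ 1, r = 2^m and the Suzuki group realised as the stabiliser in SL₄ of the Suzuki–Tits ovoid, every non-identity element lies in exactly one subgroup that is either a Sylow 2-subgroup or a cyclic subgroup of order q − 1, q + 2r + 1 or q − 2r + 1. -/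
theorem result {F : Type*} [Field F] [Fintype F] {m : ℕ} (hm : 1 ≤ m) (hF : Fintype.card F = 2 ^ (2 * m + 1)) (g : ↥(Cfsg.Sz F m)) (hg : g ≠ 1) :
    ∃! U : Subgroup ↥(Cfsg.Sz F m), ((∃ P : Sylow 2 ↥(Cfsg.Sz F m), U = (P : Subgroup ↥(Cfsg.Sz F m))) ∨
      (IsCyclic ↥U ∧ Nat.card ↥U ∈ ({2 ^ (2 * m + 1) - 1, 2 ^ (2 * m + 1) + 2 ^ (m + 1) + 1, 2 ^ (2 * m + 1) - 2 ^ (m + 1) + 1} : Set ℕ))) ∧ g ∈ U := by
  obtain ⟨hR, hqR, hR2, hq2⟩ := order_facts m hm
  have hex : ∃ U : Subgroup (Cfsg.Sz F m),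
      ((∃ P : Sylow 2 (Cfsg.Sz F m), U = (P : Subgroup (Cfsg.Sz F m))) ∨
        (IsCyclic U ∧ Nat.card U ∈ ({2 ^ (2 * m + 1) - 1, 2 ^ (2 * m + 1) + 2 ^ (m + 1) + 1,
          2 ^ (2 * m + 1) - 2 ^ (m + 1) + 1} : Set ℕ))) ∧ g ∈ U := by
    rcases H57.sz_trichotomy hm hF hg with ⟨s, hs⟩ | ⟨s, hs⟩ | ⟨A, hA, hgA⟩
    · exact ⟨_, Or.inl (conj_sylow hm hF s), H57.mem_map_conj_iff.mpr hs⟩
    · refine ⟨_, Or.inr ⟨H57.utor_comm hm hF (Or.inl ⟨s, rfl⟩), ?_⟩,
        H57.mem_map_conj_iff.mpr hs⟩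
      rw [H57.card_conj, H57.card_dSub]
      exact Set.mem_insert _ _
    · refine ⟨A, Or.inr ⟨H57.utor_comm hm hF (Or.inr hA), ?_⟩, hgA⟩
      simp only [Set.mem_insert_iff, Set.mem_singleton_iff]
      exact Or.inr (tor_card hm hF hA)
  obtain ⟨U, hU, hgU⟩ := hex
  refine ⟨U, ⟨hU, hgU⟩, ?_⟩
  have hclass : ∀ V : Subgroup (Cfsg.Sz F m),
      ((∃ P : Sylow 2 (Cfsg.Sz F m), V = (P : Subgroup (Cfsg.Sz F m))) ∨
        (IsCyclic V ∧ Nat.card V ∈ ({2 ^ (2 * m + 1) - 1, 2 ^ (2 * m + 1) + 2 ^ (m + 1) + 1,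
          2 ^ (2 * m + 1) - 2 ^ (m + 1) + 1} : Set ℕ))) →
      (∃ s, V = (H57.tSub hF).map (MulAut.conj s).toMonoidHom) ∨ H57.IsUTor hF V := by
    rintro V (⟨P, rfl⟩ | ⟨hc, hk⟩)
    · exact Or.inl (sylow_eq_conj hm hF P)
    · exact Or.inr (utor_of_card hm hF hc (by
        simpa only [Set.mem_insert_iff, Set.mem_singleton_iff] using hk))
  have hmix : ∀ {V W : Subgroup (Cfsg.Sz F m)} {s : Cfsg.Sz F m},
      V = (H57.tSub hF).map (MulAut.conj s).toMonoidHom → H57.IsUTor hF W →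
      g ∈ V → g ∈ W → False := by
    rintro V W s rfl hW hV' hW'
    have hd := Subgroup.orderOf_dvd_natCard _ hV'
    rw [H57.card_conj, H57.card_tSub, ← pow_mul] at hd
    obtain ⟨i, -, hi⟩ := (Nat.dvd_prime_pow Nat.prime_two).mp hd
    rcases i with _ | i
    · exact hg (orderOf_eq_one_iff.mp (by rw [hi, pow_zero]))
    · exact H57.utor_no_fix_inv hm hF hW hW' hg (by rw [hi]; exact dvd_pow_self 2 (by omega))
  rintro V ⟨hV, hgV⟩
  rcases hclass U hU with ⟨s, hs⟩ | hU' <;> rcases hclass V hV with ⟨t, ht⟩ | hV'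
  · subst hs ht
    exact tSub_map_eq_of_shared hm hF hg (H57.mem_map_conj_iff.mp hgV)
      (H57.mem_map_conj_iff.mp hgU)
  · exact (hmix hs hV' hgU hgV).elim
  · exact (hmix ht hU' hgV hgU).elim
  · exact H57.utor_ti hm hF hV' hU' hgV hgU hg

end Cfsg.Agent.S2238
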