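import Cfsg.Statements.S2239
import Cfsg.Agent.H63.SzSubMain

set_option autoImplicit false
open Cfsg

namespace Cfsg.Agent.S2239

universe u v

open H57 in
theorem sz_not_solvable {F : Type*} [Field F] [Fintype F] {m : ℕ} (hm : 1 ≤ m)
    (hF : Fintype.card F = 2 ^ (2 * m + 1)) : ¬ Group.IsSolvable (Cfsg.Sz F m) := by
  intro h
  obtain ⟨n, hn⟩ := h.solvable
  have htop : ∀ i, derivedSeries (Cfsg.Sz F m) i = ⊤ := by
    intro i
    induction i with
    | zero => rfl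
    | succ i ih => rw [derivedSeries_succ, ih, ← commutator_def, sz_perfect hm hF]
  rw [htop] at hn
  have hcard := congrArg (fun H : Subgroup (Cfsg.Sz F m) => Nat.card H) hn
  simp only [Subgroup.card_top, Subgroup.card_bot, card_sz hm hF] at hcard
  have h8 : 2 ^ 3 ≤ 2 ^ (2 * m + 1) := Nat.pow_le_pow_right (by norm_num) (by omega)
  have h1 := Nat.eq_one_of_mul_eq_one_left hcard
  omega

open H57 in
theorem conj_to_range {F : Type u} [Field F] [Fintype F] {m : ℕ} (hm : 1 ≤ m)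
    (hF : Fintype.card F = 2 ^ (2 * m + 1)) {K : Type v} [Field K] [Fintype K] {k : ℕ} (hk : 1 ≤ k)
    (hK : Fintype.card K = 2 ^ (2 * k + 1)) (hdiv : 2 * k + 1 ∣ 2 * m + 1) (ι : K →+* F)
    (S : Subgroup (Cfsg.Sz F m)) (e : S ≃* Cfsg.Sz K k) :
    ∃ g : Cfsg.Sz F m,
      S = (H63.SzSub.szMap hk hF hK hdiv ι).range.map (MulAut.conj g).toMonoidHom := by
  have hns : ¬ Group.IsSolvable S := fun h =>
    sz_not_solvable hk hK (Group.isSolvable_of_surjective (f := e.toMonoidHom) e.surjective)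
  obtain ⟨k', hk', hdiv', hall⟩ := H63.SzSub.nonsolvable_classify.{u, v} hm hF hns
  haveI : Fact (Nat.Prime 2) := ⟨Nat.prime_two⟩
  let K' := ULift.{v} (GaloisField 2 (2 * k' + 1))
  haveI : Fintype K' := Fintype.ofFinite K'
  have hK' : Fintype.card K' = 2 ^ (2 * k' + 1) := by
    rw [← Nat.card_eq_fintype_card, Nat.card_ulift, GaloisField.card 2 _ (by omega)]
  obtain ⟨ι'⟩ := H63.SzSub.exists_embedding hF hK' hdiv'
  obtain ⟨g', hg'⟩ := hall K' hK' ι'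
  have hkk : k' = k := by
    have h1 := Nat.card_congr e.toEquiv
    rw [hg', card_conj, ← Nat.card_congr (MonoidHom.ofInjective
      (H63.SzSub.szMap_injective hk' hF hK' hdiv' ι')).toEquiv, card_sz hk' hK', card_sz hk hK] at h1
    have hmono : StrictMono (fun q : ℕ => (q + 2) ^ 2 * ((q + 2) ^ 2 + 1) * (q + 2 - 1)) := by
      refine strictMono_nat_of_lt_succ fun q => ?_
      have h2 : (q + 2) ^ 2 < (q + 1 + 2) ^ 2 := Nat.pow_lt_pow_left (by omega) two_ne_zero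
      exact Nat.mul_lt_mul_of_lt_of_le (Nat.mul_lt_mul_of_lt_of_le h2 (by omega) (by positivity))
        (by omega) (by omega)
    have h2 : 2 ≤ 2 ^ (2 * k' + 1) := Nat.le_self_pow (by omega) 2
    have h3 : 2 ≤ 2 ^ (2 * k + 1) := Nat.le_self_pow (by omega) 2
    obtain ⟨a, ha⟩ : ∃ a, 2 ^ (2 * k' + 1) = a + 2 := ⟨_, (Nat.sub_add_cancel h2).symm⟩
    obtain ⟨b, hb⟩ : ∃ b, 2 ^ (2 * k + 1) = b + 2 := ⟨_, (Nat.sub_add_cancel h3).symm⟩
    rw [ha, hb] at h1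
    have hab := hmono.injective h1
    have h4 : 2 ^ (2 * k' + 1) = 2 ^ (2 * k + 1) := by rw [ha, hb, hab]
    have := Nat.pow_right_injective le_rfl h4
    omega
  subst hkk
  exact hall K hK ι

/-- Subfield subgroups of the Suzuki group: let q = 2^(2m+1) and s = 2^(2k+1) with m, k ≥ 1 and 2k+1 dividing 2m+1 (so q is a power of s), both groups realised as stabilisers in SL₄ of the Suzuki–Tits ovoid. Then Sz(q) has a subgroup isomorphic to Sz(s), and any two subgroups of Sz(q) isomorphic to Sz(s) are conjugate. -/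
theorem result {F : Type*} [Field F] [Fintype F] {m : ℕ} (hm : 1 ≤ m) (hF : Fintype.card F = 2 ^ (2 * m + 1)) {K : Type*} [Field K] [Fintype K] {k : ℕ} (hk : 1 ≤ k) (hK : Fintype.card K = 2 ^ (2 * k + 1)) (hdiv : 2 * k + 1 ∣ 2 * m + 1) :
    (∃ S : Subgroup ↥(Cfsg.Sz F m), Nonempty (↥S ≃* ↥(Cfsg.Sz K k))) ∧
    ∀ S₁ S₂ : Subgroup ↥(Cfsg.Sz F m), Nonempty (↥S₁ ≃* ↥(Cfsg.Sz K k)) → Nonempty (↥S₂ ≃* ↥(Cfsg.Sz K k)) →
      ∃ g : ↥(Cfsg.Sz F m), S₂ = S₁.map (MulAut.conj g).toMonoidHom := by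
  obtain ⟨ι⟩ := H63.SzSub.exists_embedding hF hK hdiv
  refine ⟨⟨_, ⟨(MonoidHom.ofInjective (H63.SzSub.szMap_injective hk hF hK hdiv ι)).symm⟩⟩, ?_⟩
  rintro S₁ S₂ ⟨e₁⟩ ⟨e₂⟩
  obtain ⟨g₁, h₁⟩ := conj_to_range hm hF hk hK hdiv ι S₁ e₁
  obtain ⟨g₂, h₂⟩ := conj_to_range hm hF hk hK hdiv ι S₂ e₂
  refine ⟨g₂ * g₁⁻¹, ?_⟩
  rw [h₁, H57.conj_conj_map, inv_mul_cancel_right]
  exact h₂

end Cfsg.Agent.S2239
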