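import Cfsg.Statements.S2240
import Cfsg.Agent.H63.SzBorel
import Mathlib

set_option autoImplicit false
set_option linter.style.haveILetI false
open Cfsg

namespace Cfsg.Agent.S2240

open H57

variable {F : Type*} [Field F] [Fintype F] {m : ℕ}

/-- The central subgroup of `T` attached to an additive subgroup of the field. -/
def zSub (hF : Fintype.card F = 2 ^ (2 * m + 1)) (V : AddSubgroup F) : Subgroup (Cfsg.Sz F m) where
  carrier := {g | ∃ c ∈ V, g = tEl hF 0 c}
  one_mem' := ⟨0, V.zero_mem, (tEl_zero hF).symm⟩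
  mul_mem' := by
    rintro _ _ ⟨c, hc, rfl⟩ ⟨d, hd, rfl⟩
    exact ⟨c + d, V.add_mem hc hd, by rw [tEl_mul]; simp [th]⟩
  inv_mem' := by
    rintro _ ⟨c, hc, rfl⟩
    exact ⟨c, hc, by rw [tEl_inv]; simp [th]⟩

theorem card_zSub (hF : Fintype.card F = 2 ^ (2 * m + 1)) (V : AddSubgroup F) :
    Nat.card (zSub (m := m) hF V) = Nat.card V := by
  refine (Nat.card_eq_of_bijective (fun c : V => (⟨tEl hF 0 c, c, c.2, rfl⟩ : zSub hF V)) ⟨?_, ?_⟩).symm
  · intro c d h
    exact Subtype.ext (tEl_inj hF (congrArg Subtype.val h)).2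
  · rintro ⟨_, c, hc, rfl⟩
    exact ⟨⟨c, hc⟩, rfl⟩

theorem pow_fixed_points_card (hF : Fintype.card F = 2 ^ (2 * m + 1)) (n : ℕ) (hn : 0 < n)
    (hdiv : n ∣ 2 * m + 1) : ∃ K : Subfield F, Nat.card K = 2 ^ n := by
  haveI := charTwo (m := m) hF
  letI : Algebra (ZMod 2) F := ZMod.algebra F 2
  haveI : Module.Finite (ZMod 2) F := Module.Finite.of_finite
  haveI : Fintype (ZMod 2) := inferInstance
  haveI : Fact (Nat.Prime 2) := ⟨Nat.prime_two⟩
  -- the fixed field of `x ↦ x ^ (2 ^ n)` contains the image of the field of order `2 ^ n`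
  have hd : n ∣ Module.finrank (ZMod 2) F := by
    have h := Module.natCard_eq_pow_finrank (K := ZMod 2) (V := F)
    rw [Nat.card_eq_fintype_card, hF, Nat.card_zmod] at h
    rwa [← Nat.pow_right_injective le_rfl h]
  have hK : Module.finrank (ZMod 2) (GaloisField 2 n) = n := GaloisField.finrank 2 hn.ne'
  obtain ⟨φ⟩ := FiniteField.nonempty_algHom_of_finrank_dvd (F := ZMod 2) (K := GaloisField 2 n) (L := F)
    (by rw [hK]; exact hd)
  refine ⟨φ.toRingHom.fieldRange, ?_⟩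
  rw [← GaloisField.card 2 n hn.ne']
  exact (Nat.card_eq_of_bijective φ.toRingHom.rangeRestrictField
    ⟨fun a b h => φ.injective (congrArg Subtype.val h), fun ⟨_, a, ha⟩ => ⟨a, Subtype.ext ha⟩⟩).symm

theorem exists_ti (hm : 1 ≤ m) (hF : Fintype.card F = 2 ^ (2 * m + 1)) (n : ℕ) (hn : 2 ≤ n)
    (hdiv : n ∣ 2 * m + 1) :
    ∃ E : Subgroup ↥(Cfsg.Sz F m), Cfsg.IsElementaryAbelian 2 E ∧ Nat.card ↥E = 2 ^ n ∧
      ∀ x : ↥(Cfsg.Sz F m), E ⊓ E.map (MulAut.conj x).toMonoidHom ≠ ⊥ → x ∈ Subgroup.normalizer (E : Set ↥(Cfsg.Sz F m)) := by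
  obtain ⟨K, hK⟩ := pow_fixed_points_card hF n (by omega) hdiv
  refine ⟨zSub hF K.toAddSubgroup, ?_, ?_, ?_⟩
  · refine ⟨⟨⟨?_⟩⟩, fun a ha => ?_⟩
    · rintro ⟨_, c, -, rfl⟩ ⟨_, d, -, rfl⟩
      exact Subtype.ext (center_commute hF 0 c d)
    · obtain ⟨c, -, rfl⟩ := ha
      rw [tEl_sq]; simp [th, tEl_zero]
  · rw [card_zSub]; exact hK
  · intro x hx
    rw [Ne, Subgroup.eq_bot_iff_forall] at hx
    push Not at hx
    obtain ⟨_, ⟨⟨c', hc', rfl⟩, ⟨_, ⟨c, hc, rfl⟩, hxc⟩⟩, hne⟩ := hx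
    replace hxc : x * tEl hF 0 c * x⁻¹ = tEl hF 0 c' := hxc
    have hc'0 : c' ≠ 0 := fun h => hne (by rw [h, tEl_zero])
    have hc0 : c ≠ 0 := by
      rintro rfl
      rw [tEl_zero] at hxc
      simp at hxc
      exact hne hxc.symm
    have hxB : x • Cfsg.suzukiPointInfinity F = Cfsg.suzukiPointInfinity F := by
      refine H63.tSub_fixed hF hc'0 (sz_smul_mem x infty_mem) ?_
      rw [← hxc, mul_smul, inv_smul_smul, mul_smul, tEl_infty]
    obtain ⟨a, b, k, rfl⟩ := fix_infty hm hF x hxB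
    have key : ∀ d : F, tEl hF a b * dEl hF k * tEl hF 0 d * (tEl hF a b * dEl hF k)⁻¹ =
        tEl hF 0 (th m (k : F) * k * d) := by
      intro d
      rw [mul_assoc (tEl hF a b) (dEl hF k), dEl_tEl, mul_zero, mul_inv_rev, ← mul_assoc, ← mul_assoc,
        mul_assoc _ (dEl hF k), mul_inv_cancel, mul_one, center_commute, mul_assoc, mul_inv_cancel, mul_one]
    rw [key] at hxc
    have h1 := (tEl_inj hF hxc).2
    refine Subgroup.mem_normalizer_fintype ?_
    rintro _ ⟨d, hd, rfl⟩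
    refine ⟨th m (k : F) * k * d, ?_, key d⟩
    have hμ : th m (k : F) * k ∈ K := by
      rw [← mul_div_cancel_right₀ (th m (k : F) * k) hc0, h1]
      exact K.div_mem hc' hc
    exact K.mul_mem hμ hd

theorem dvd_of_ti (hm : 1 ≤ m) (hF : Fintype.card F = 2 ^ (2 * m + 1)) (n : ℕ) (hn : 2 ≤ n)
    (E : Subgroup ↥(Cfsg.Sz F m)) (hE : Cfsg.IsElementaryAbelian 2 E) (hcard : Nat.card ↥E = 2 ^ n)
    (hTI : ∀ x : ↥(Cfsg.Sz F m), E ⊓ E.map (MulAut.conj x).toMonoidHom ≠ ⊥ → x ∈ Subgroup.normalizer (E : Set ↥(Cfsg.Sz F m))) :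
    n ∣ 2 * m + 1 := by
  haveI : Fact (Nat.Prime 2) := ⟨Nat.prime_two⟩
  obtain ⟨P, hP⟩ := (IsPGroup.of_card hcard).exists_le_sylow
  obtain ⟨s, hs⟩ := MulAction.exists_smul_eq (Cfsg.Sz F m) (H63.tSylow hm hF) P
  -- the elements of `E`, moved into `T`, are central involutions of `T`
  have hmem : ∀ e ∈ E, ∃ c, s⁻¹ * e * s = tEl hF 0 c := by
    intro e he
    have h := hP he
    rw [← hs, Sylow.coe_subgroup_smul, Subgroup.mem_pointwise_smul_iff_inv_smul_mem] at h
    obtain ⟨a, b, hab⟩ : ∃ a b, s⁻¹ * e * s = tEl hF a b := by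
      obtain ⟨a, b, hab⟩ := h
      exact ⟨a, b, by simpa using hab⟩
    have h2 : (s⁻¹ * e * s) ^ 2 = 1 := by
      have := hE.2 e he
      calc (s⁻¹ * e * s) ^ 2 = s⁻¹ * e ^ 2 * s := by simp only [pow_two]; group
        _ = 1 := by rw [this]; group
    rw [hab, tEl_sq, ← tEl_zero hF] at h2
    rcases mul_eq_zero.mp (tEl_inj hF h2).2 with h | h
    · exact ⟨b, by rw [hab, th_eq_zero.mp h]⟩
    · exact ⟨b, by rw [hab, h]⟩
  let V : AddSubgroup F :=
    { carrier := {c | s * tEl hF 0 c * s⁻¹ ∈ E}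
      zero_mem' := by simp [tEl_zero]
      add_mem' := by
        intro c d hc hd
        have h := E.mul_mem hc hd
        have e : s * tEl hF 0 c * s⁻¹ * (s * tEl hF 0 d * s⁻¹) = s * tEl hF 0 (c + d) * s⁻¹ := by
          rw [show tEl hF 0 (c + d) = tEl hF 0 c * tEl hF 0 d by rw [tEl_mul]; simp [th]]
          group
        exact (e ▸ h :)
      neg_mem' := by
        intro c hc
        rwa [neg_eq_self (m := m) hF] }
  have hVc : Nat.card V = 2 ^ n := by
    rw [← hcard]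
    refine Nat.card_eq_of_bijective (fun c : V => (⟨_, c.2⟩ : E)) ⟨?_, ?_⟩
    · intro c d h
      have := congrArg Subtype.val h
      simp only [mul_left_inj, mul_right_inj] at this
      exact Subtype.ext (tEl_inj hF this).2
    · rintro ⟨e, he⟩
      obtain ⟨c, hc⟩ := hmem e he
      have : s * tEl hF 0 c * s⁻¹ = e := by rw [← hc]; group
      exact ⟨⟨c, show s * tEl hF 0 c * s⁻¹ ∈ E by rw [this]; exact he⟩, Subtype.ext this⟩
  -- scalars moving one non-zero element of `V` into `V` stabilise it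
  have hstab : ∀ μ c : F, μ ≠ 0 → c ≠ 0 → c ∈ V → μ * c ∈ V → ∀ d ∈ V, μ * d ∈ V := by
    intro μ c hμ hc hcV hμc d hd
    obtain ⟨l, hl⟩ := (th_mul_self_bij (m := m) hF).2 μ
    have hl0 : l ≠ 0 := by rintro rfl; exact hμ (by rw [← hl]; simp)
    set k := Units.mk0 l hl0
    have key : ∀ d : F, (s * dEl hF k * s⁻¹) * (s * tEl hF 0 d * s⁻¹) * (s * dEl hF k * s⁻¹)⁻¹ =
        s * tEl hF 0 (μ * d) * s⁻¹ := by
      intro d
      calc _ = s * (dEl hF k * tEl hF 0 d * (dEl hF k)⁻¹) * s⁻¹ := by group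
        _ = _ := by
          rw [dEl_tEl, mul_zero, ← hl]
          simp [k, mul_assoc]
    have hx := hTI (s * dEl hF k * s⁻¹) (fun h => by
      have hin : s * tEl hF 0 (μ * c) * s⁻¹ ∈ E ⊓ E.map (MulAut.conj (s * dEl hF k * s⁻¹)).toMonoidHom :=
        ⟨hμc, _, hcV, key c⟩
      rw [h, Subgroup.mem_bot, mul_inv_eq_one, mul_eq_left, ← tEl_zero hF] at hin
      exact mul_ne_zero hμ hc (tEl_inj hF hin).2)
    have := (Subgroup.mem_normalizer_iff.mp hx _).mp (hd : s * tEl hF 0 d * s⁻¹ ∈ E)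
    rwa [key] at this
  obtain ⟨v, hv, hv0⟩ : ∃ v ∈ V, v ≠ 0 := by
    by_contra h
    push Not at h
    have : V = ⊥ := (AddSubgroup.eq_bot_iff_forall V).mpr h
    rw [this] at hVc
    simp at hVc
    have := Nat.one_lt_two_pow (show n ≠ 0 by omega)
    omega
  let K : Subfield F :=
    { carrier := {μ | μ * v ∈ V}
      mul_mem' := by
        intro a b ha hb
        rcases eq_or_ne a 0 with rfl | ha0
        · simp
        rw [Set.mem_ofPred_eq, mul_assoc]
        exact hstab a v ha0 hv0 hv ha _ hb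
      one_mem' := by simpa using hv
      zero_mem' := by simp
      add_mem' := by
        intro a b ha hb
        rw [Set.mem_ofPred_eq, add_mul]
        exact V.add_mem ha hb
      neg_mem' := by
        intro a ha
        rw [Set.mem_ofPred_eq, neg_mul]
        exact V.neg_mem ha
      inv_mem' := by
        intro a ha
        rcases eq_or_ne a 0 with rfl | ha0
        · simp
        have hbij : Function.Surjective (fun d : V => (⟨a * d, hstab a v ha0 hv0 hv ha d d.2⟩ : V)) :=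
          Finite.surjective_of_injective fun d e h => Subtype.ext (mul_left_cancel₀ ha0 (congrArg Subtype.val h))
        obtain ⟨d, hd⟩ := hbij ⟨v, hv⟩
        have hd' : a * d = v := congrArg Subtype.val hd
        rw [Set.mem_ofPred_eq, ← hd', inv_mul_cancel_left₀ ha0]
        exact d.2 }
  have hKc : Nat.card K = 2 ^ n := by
    rw [← hVc]
    refine Nat.card_eq_of_bijective (fun μ : K => (⟨(μ : F) * v, μ.2⟩ : V)) ⟨?_, ?_⟩
    · intro a b h
      exact Subtype.ext (mul_right_cancel₀ hv0 (congrArg Subtype.val h))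
    · rintro ⟨c, hc⟩
      exact ⟨⟨c / v, show c / v * v ∈ V by rwa [div_mul_cancel₀ c hv0]⟩, Subtype.ext (div_mul_cancel₀ c hv0)⟩
  have h := Module.natCard_eq_pow_finrank (K := K) (V := F)
  rw [hKc, Nat.card_eq_fintype_card, hF, ← pow_mul] at h
  exact Dvd.intro _ (Nat.pow_right_injective le_rfl h).symm

/-- Elementary abelian TI-subgroups of the Suzuki group: let q = 2^(2m+1) with m ≥ 1, the group realised as the stabiliser in SL₄ of the Suzuki–Tits ovoid, and n ≥ 2. There is an elementary abelian 2-subgroup E of order 2^n that is a TI-subgroup (every conjugate of E meeting E nontrivially is E itself) if and only if n divides 2m + 1. -/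
theorem result {F : Type*} [Field F] [Fintype F] {m : ℕ} (hm : 1 ≤ m) (hF : Fintype.card F = 2 ^ (2 * m + 1)) (n : ℕ) (hn : 2 ≤ n) :
    (∃ E : Subgroup ↥(Cfsg.Sz F m), Cfsg.IsElementaryAbelian 2 E ∧ Nat.card ↥E = 2 ^ n ∧
      ∀ x : ↥(Cfsg.Sz F m), E ⊓ E.map (MulAut.conj x).toMonoidHom ≠ ⊥ → x ∈ Subgroup.normalizer (E : Set ↥(Cfsg.Sz F m))) ↔ n ∣ 2 * m + 1 := by
  haveI : Fact (Nat.Prime 2) := ⟨Nat.prime_two⟩
  haveI := H57.charTwo (m := m) hF
  constructor
  · rintro ⟨E, hE, hcard, hTI⟩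
    exact dvd_of_ti hm hF n hn E hE hcard hTI
  · exact exists_ti hm hF n hn

end Cfsg.Agent.S2240
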