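import Cfsg.Statements.S2241
import Cfsg.Agent.H63.SzBorel
import Mathlib

set_option autoImplicit false
set_option linter.style.haveILetI false
open Cfsg

namespace Cfsg.Agent.S2241

/-- Real 2-elements of the Suzuki group: with q = 2^(2m+1), m ≥ 1, and the group realised as the stabiliser in SL₄ of the Suzuki–Tits ovoid, a non-identity element of a Sylow 2-subgroup is conjugate to its inverse if and only if it is an involution; in particular no element of order 4 is conjugate to its inverse. -/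
theorem result {F : Type*} [Field F] [Fintype F] {m : ℕ} (hm : 1 ≤ m) (hF : Fintype.card F = 2 ^ (2 * m + 1)) (P : Sylow 2 ↥(Cfsg.Sz F m)) (g : ↥(Cfsg.Sz F m)) (hg : g ∈ (P : Subgroup ↥(Cfsg.Sz F m))) (h1 : g ≠ 1) :
    IsConj g g⁻¹ ↔ orderOf g = 2 := by
  haveI : Fact (Nat.Prime 2) := ⟨Nat.prime_two⟩
  constructor
  · intro hconj
    obtain ⟨k, hk⟩ := (IsPGroup.iff_orderOf.mp P.isPGroup') ⟨g, hg⟩
    rw [Subgroup.orderOf_mk] at hk
    obtain ⟨s, a, b, hs⟩ := H57.exists_conj_mem (H57.tSub hF) (H57.tSub_index_odd hm hF) (g := g) (n := k)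
      (by rw [← hk, pow_orderOf_eq_one])
    rcases eq_or_ne a 0 with rfl | ha
    · refine orderOf_eq_prime ?_ h1
      have h2 : (s⁻¹ * g * s) ^ 2 = 1 := by
        rw [hs, H57.tEl_sq]; simp [H57.th, H57.tEl_zero]
      calc g ^ 2 = s * (s⁻¹ * g * s) ^ 2 * s⁻¹ := by simp only [pow_two]; group
        _ = 1 := by rw [h2]; group
    · refine absurd ?_ (H63.not_isConj_inv_tEl hm hF ha b)
      rw [← hs]
      obtain ⟨c, hc⟩ := isConj_iff.mp hconj
      refine isConj_iff.mpr ⟨s⁻¹ * c * s, ?_⟩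
      calc (s⁻¹ * c * s) * (s⁻¹ * g * s) * (s⁻¹ * c * s)⁻¹ = s⁻¹ * (c * g * c⁻¹) * s := by group
        _ = (s⁻¹ * g * s)⁻¹ := by rw [hc]; group
  · intro h2
    have h3 : g⁻¹ = g := by
      rw [inv_eq_iff_mul_eq_one, ← pow_two, ← h2, pow_orderOf_eq_one]
    rw [h3]

end Cfsg.Agent.S2241
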