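import Cfsg.Statements.S2245
import Cfsg.Agent.H63.SylowTwoMaximal

set_option autoImplicit false
open Cfsg

namespace Cfsg.Agent.S2245

/-- For n ≥ 5 with n ≠ 6, a Sylow 2-subgroup of the alternating group A_n lies in exactly one maximal subgroup of A_n if and only if n = 2^k + 1 for some k ≥ 2; the same holds for the symmetric group S_n. -/
theorem result (n : ℕ) (hn : 5 ≤ n) (h6 : n ≠ 6) :
    ((∀ R : Sylow 2 ↥(alternatingGroup (Fin n)), (∃! M : Subgroup ↥(alternatingGroup (Fin n)), IsCoatom M ∧ (R : Subgroup ↥(alternatingGroup (Fin n))) ≤ M) ↔ ∃ k : ℕ, 2 ≤ k ∧ n = 2 ^ k + 1) ∧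
    (∀ R : Sylow 2 (Equiv.Perm (Fin n)), (∃! M : Subgroup (Equiv.Perm (Fin n)), IsCoatom M ∧ (R : Subgroup (Equiv.Perm (Fin n))) ≤ M) ↔ ∃ k : ℕ, 2 ≤ k ∧ n = 2 ^ k + 1)) := by
  have : Nontrivial (Fin n) := Fin.nontrivial_iff_two_le.mpr (by omega)
  set A := alternatingGroup (Fin n) with hA
  refine ⟨fun R => ?_, fun T => ?_⟩
  · obtain ⟨T, hT⟩ := R.exists_comap_subtype_eq
    have hRT : (R : Subgroup A) = (T : Subgroup (Equiv.Perm (Fin n))).subgroupOf A := hT.symm
    constructor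
    · intro hu
      by_contra hne
      obtain ⟨K₁, K₂, hK₁, hK₂, hA₁, hA₂, hgen⟩ :=
        H63.exists_two_overgroups (α := Fin n) (by simpa using hn) (by simpa using h6) (by simpa using hne) T
      have hex : ∀ K : Subgroup (Equiv.Perm (Fin n)), (T : Subgroup (Equiv.Perm (Fin n))) ≤ K → ¬ A ≤ K →
          ∃ M : Subgroup A, (IsCoatom M ∧ (R : Subgroup A) ≤ M) ∧ K ⊓ A ≤ M.map A.subtype := by
        intro K hK hKA
        have hne' : K.subgroupOf A ≠ ⊤ := fun h => hKA (Subgroup.subgroupOf_eq_top.mp h)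
        obtain ⟨M, hM, hle⟩ := (eq_top_or_exists_le_coatom (K.subgroupOf A)).resolve_left hne'
        refine ⟨M, ⟨hM, hRT ▸ (Subgroup.comap_mono hK).trans hle⟩, ?_⟩
        rw [← Subgroup.subgroupOf_map_subtype]
        exact Subgroup.map_mono hle
      obtain ⟨M₁, hM₁, hle₁⟩ := hex K₁ hK₁ hA₁
      obtain ⟨M₂, hM₂, hle₂⟩ := hex K₂ hK₂ hA₂
      obtain rfl := hu.unique hM₁ hM₂
      refine hM₁.1.1 ((Subgroup.eq_top_iff' M₁).mpr fun x => ?_)
      obtain ⟨y, hy, hyx⟩ := hgen _ hle₁ hle₂ x.2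
      rwa [← A.subtype_injective hyx]
    · rintro ⟨k, hk, hnk⟩
      obtain ⟨a, ha, hmove⟩ := H63.alternating_le_of_moves_fixed hk (by simpa using hnk) T
      let P : Subgroup A := (MulAction.stabilizer (Equiv.Perm (Fin n)) a).subgroupOf A
      have hRP : (R : Subgroup A) ≤ P := hRT ▸ Subgroup.comap_mono (fun t ht => ha t ht)
      have hsub : ∀ M : Subgroup A, (R : Subgroup A) ≤ M → M ≠ ⊤ → M ≤ P := by
        intro M hRM hM g hg
        by_contra hga
        apply hM
        rw [Subgroup.eq_top_iff']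
        intro x
        have hle : H63.evenPart T ≤ M.map A.subtype := by
          rintro t ⟨ht, htA⟩
          exact ⟨⟨t, htA⟩, hRM (hRT ▸ ht), rfl⟩
        obtain ⟨y, hy, hyx⟩ := hmove (M.map A.subtype) hle g ⟨g, hg, rfl⟩ g.2 hga x.2
        rwa [← A.subtype_injective hyx]
      have hPtop : P ≠ ⊤ := by
        intro h
        obtain ⟨b, hb⟩ := exists_ne a
        obtain ⟨c, hc⟩ := H63.exists_not_mem ({a, b} : Finset (Fin n))
          (lt_of_le_of_lt Finset.card_le_two (by simp; omega))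
        simp only [Finset.mem_insert, Finset.mem_singleton, not_or] at hc
        have hmem := Subgroup.subgroupOf_eq_top.mp h
          (H63.cyc_mem_alternating (Ne.symm hb) (Ne.symm hc.1) (Ne.symm hc.2))
        rw [MulAction.mem_stabilizer_iff] at hmem
        exact hb ((H63.cyc_apply_first (Ne.symm hb) (Ne.symm hc.1)).symm.trans hmem)
      refine ⟨P, ⟨⟨hPtop, fun M hPM => ?_⟩, hRP⟩, fun M ⟨hM, hRM⟩ => ?_⟩
      · by_contra hM
        exact absurd (hsub M (hRP.trans hPM.le) hM) hPM.not_ge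
      · exact ((hM.le_iff.mp (hsub M hRM hM.1)).resolve_left hPtop).symm
  · constructor
    · intro hu
      by_contra hne
      obtain ⟨K₁, K₂, hK₁, hK₂, hA₁, hA₂, hgen⟩ :=
        H63.exists_two_overgroups (α := Fin n) (by simpa using hn) (by simpa using h6) (by simpa using hne) T
      have hex : ∀ K : Subgroup (Equiv.Perm (Fin n)), (T : Subgroup (Equiv.Perm (Fin n))) ≤ K → ¬ A ≤ K →
          ∃ M : Subgroup (Equiv.Perm (Fin n)), (IsCoatom M ∧ (T : Subgroup (Equiv.Perm (Fin n))) ≤ M) ∧ K ≤ M := by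
        intro K hK hKA
        obtain ⟨M, hM, hle⟩ := (eq_top_or_exists_le_coatom K).resolve_left (fun h => hKA (h ▸ le_top))
        exact ⟨M, ⟨hM, hK.trans hle⟩, hle⟩
      obtain ⟨M₁, hM₁, hle₁⟩ := hex K₁ hK₁ hA₁
      obtain ⟨M₂, hM₂, hle₂⟩ := hex K₂ hK₂ hA₂
      obtain rfl := hu.unique hM₁ hM₂
      exact hM₁.1.1 (H63.eq_top_of_alternating_le_of_sylow T
        (hgen _ (inf_le_left.trans hle₁) (inf_le_left.trans hle₂)) hM₁.2)
    · rintro ⟨k, hk, hnk⟩
      obtain ⟨a, ha, hmove⟩ := H63.alternating_le_of_moves_fixed hk (by simpa using hnk) T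
      let P := MulAction.stabilizer (Equiv.Perm (Fin n)) a
      have hTP : (T : Subgroup (Equiv.Perm (Fin n))) ≤ P := fun t ht => ha t ht
      have hsub : ∀ M : Subgroup (Equiv.Perm (Fin n)), (T : Subgroup (Equiv.Perm (Fin n))) ≤ M → M ≠ ⊤ → M ≤ P := by
        intro M hTM hM g hg
        by_contra hga
        apply hM
        refine H63.eq_top_of_alternating_le_of_sylow T ?_ hTM
        by_cases hgA : g ∈ A
        · exact hmove M (inf_le_left.trans hTM) g hg hgA hga
        · obtain ⟨t, ht, htA⟩ := H63.sylowTwo_not_le_alternating T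
          refine hmove M (inf_le_left.trans hTM) (g * t) (mul_mem hg (hTM ht)) ?_ ?_
          · rw [Subgroup.mul_mem_iff_of_index_two alternatingGroup.index_eq_two]
            exact iff_of_false hgA htA
          · rwa [Equiv.Perm.mul_apply, ha t ht]
      have hPtop : P ≠ ⊤ := by
        intro h
        obtain ⟨b, hb⟩ := exists_ne a
        have hmem : Equiv.swap a b ∈ P := h ▸ Subgroup.mem_top _
        exact hb ((Equiv.swap_apply_left a b).symm.trans hmem)
      refine ⟨P, ⟨⟨hPtop, fun M hPM => ?_⟩, hTP⟩, fun M ⟨hM, hTM⟩ => ?_⟩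
      · by_contra hM
        exact absurd (hsub M (hTP.trans hPM.le) hM) hPM.not_ge
      · exact ((hM.le_iff.mp (hsub M hTM hM.1)).resolve_left hPtop).symm

end Cfsg.Agent.S2245
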