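import Cfsg.Statements.S2247
import Cfsg.Agent.H63.SzBorel
import Mathlib

set_option autoImplicit false
set_option linter.style.haveILetI false
open Cfsg

namespace Cfsg.Agent.S2247

/-- In the Suzuki group with q = 2^(2m+1), m ≥ 1 (realised as the stabiliser in SL₄ of the Suzuki–Tits ovoid), the normalizer of a Sylow 2-subgroup P is a maximal subgroup and is the only maximal subgroup containing P. -/
theorem result {F : Type*} [Field F] [Fintype F] {m : ℕ} (hm : 1 ≤ m) (hF : Fintype.card F = 2 ^ (2 * m + 1)) (P : Sylow 2 ↥(Cfsg.Sz F m)) :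
    IsCoatom (Subgroup.normalizer ((P : Subgroup ↥(Cfsg.Sz F m)) : Set ↥(Cfsg.Sz F m))) ∧
    ∀ M : Subgroup ↥(Cfsg.Sz F m), IsCoatom M → (P : Subgroup ↥(Cfsg.Sz F m)) ≤ M → M = Subgroup.normalizer ((P : Subgroup ↥(Cfsg.Sz F m)) : Set ↥(Cfsg.Sz F m)) := by
  haveI : Fact (Nat.Prime 2) := ⟨Nat.prime_two⟩
  obtain ⟨s, hs⟩ := MulAction.exists_smul_eq (Cfsg.Sz F m) (H63.tSylow hm hF) P
  have hP : (P : Subgroup (Cfsg.Sz F m)) = (H57.tSub hF).map (MulAut.conj s).toMonoidHom := by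
    rw [← hs]; rfl
  have hN : Subgroup.normalizer ((P : Subgroup (Cfsg.Sz F m)) : Set (Cfsg.Sz F m)) =
      (H63.szB hF).map (MulAut.conj s).toMonoidHom := by
    rw [hP, ← H63.normalizer_tSub hm hF]
    exact (Subgroup.map_equiv_normalizer_eq (H57.tSub hF) (MulAut.conj s)).symm
  let e := (MulAut.conj s).mapSubgroup
  have hco : ∀ K : Subgroup (Cfsg.Sz F m), IsCoatom (K.map (MulAut.conj s).toMonoidHom) ↔ IsCoatom K :=
    fun K => e.isCoatom_iff K
  refine ⟨?_, fun M hM hPM => ?_⟩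
  · rw [hN, hco]
    exact H63.isCoatom_szB hm hF
  · obtain ⟨K, rfl⟩ : ∃ K : Subgroup (Cfsg.Sz F m), K.map (MulAut.conj s).toMonoidHom = M :=
      ⟨e.symm M, e.apply_symm_apply M⟩
    rw [hN, H63.maximal_over_tSub hm hF K ((hco K).mp hM) ?_]
    rw [hP] at hPM
    exact (Subgroup.map_le_map_iff_of_injective (MulAut.conj s).injective).mp hPM

end Cfsg.Agent.S2247
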