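import Cfsg.Statements.S2250
import Cfsg.Agent.H48.RankBound
import Cfsg.Agent.H48.Count
import Cfsg.Agent.H37.Card
-- import your own Cfsg.Agent.* helpers here

set_option autoImplicit false
open Cfsg

namespace Cfsg.Agent.S2250

/-- The normal 2-rank of the symplectic group over a finite field of odd order: for n ≥ 1 and S a Sylow 2-subgroup of Sp_{2n}(F), the largest rank of an elementary abelian subgroup of S that is normal in S equals n. -/
theorem result {F : Type*} [Field F] [Fintype F] (hF : Odd (Fintype.card F)) (n : ℕ) (hn : 1 ≤ n) (S : Sylow 2 ↥(Matrix.symplecticGroup (Fin n) F)) :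
    ((∃ E : Subgroup ↥(S : Subgroup ↥(Matrix.symplecticGroup (Fin n) F)), E.Normal ∧ Cfsg.IsElementaryAbelian 2 E ∧ 2 ^ (n) ≤ Nat.card ↥E) ∧
      ∀ E : Subgroup ↥(S : Subgroup ↥(Matrix.symplecticGroup (Fin n) F)), E.Normal → Cfsg.IsElementaryAbelian 2 E → Nat.card ↥E ≤ 2 ^ (n)) := by
  classical
  subst_vars
  set q := Fintype.card F with hq
  have h2 : (2 : F) ≠ 0 := by
    refine Ring.two_ne_zero fun h => ?_
    have := FiniteField.even_card_iff_char_two.1 h
    have := Nat.odd_iff.1 hF
    omega
  haveI : Finite (Matrix.symplecticGroup (Fin n) F) := Finite.of_injective _ Subtype.val_injective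
  refine ⟨?_, fun E _ hE => ?_⟩
  swap
  · have h := H48.card_elementary_le h2 (E.map (S : Subgroup (Matrix.symplecticGroup (Fin n) F)).subtype)
      (by
        haveI := hE.1
        refine ⟨⟨?_⟩⟩
        rintro ⟨_, a, ha, rfl⟩ ⟨_, b, hb, rfl⟩
        have := hE.1.is_comm.comm ⟨a, ha⟩ ⟨b, hb⟩
        apply Subtype.ext
        exact congrArg (fun z : E => ((z : ↥(S : Subgroup (Matrix.symplecticGroup (Fin n) F))) : (Matrix.symplecticGroup (Fin n) F))) this)
      (by
        rintro _ ⟨a, ha, rfl⟩
        rw [← map_pow, hE.2 a ha, map_one])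
    rw [Subgroup.card_map_of_injective (Subgroup.subtype_injective _), Fintype.card_fin] at h
    exact h
  let act : Equiv.Perm (Fin n) →* MulAut (Fin n → (Matrix.SpecialLinearGroup (Fin 2) F)) :=
    { toFun := fun σ =>
        { toFun := fun f => f ∘ σ.symm
          invFun := fun f => f ∘ σ
          left_inv := fun f => by funext i; simp
          right_inv := fun f => by funext i; simp
          map_mul' := fun f g => rfl }
      map_one' := by ext f i; rfl
      map_mul' := fun σ τ => by ext f i; rfl }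
  let Φ : SemidirectProduct (Fin n → (Matrix.SpecialLinearGroup (Fin 2) F)) (Equiv.Perm (Fin n)) act →* (Matrix.symplecticGroup (Fin n) F) :=
    SemidirectProduct.lift H48.diagHom H48.permHom (fun σ => MonoidHom.ext fun f =>
      (H48.permHom_conj_diagHom σ f).symm)
  have hΦ : Function.Injective Φ := by
    rw [injective_iff_map_eq_one]
    rintro ⟨f, σ⟩ h
    have h' : H48.diagHom f * H48.permHom σ = 1 := h
    have hσ : σ = 1 := by
      ext i
      have := congrArg (fun g : (Matrix.symplecticGroup (Fin n) F) => (g • (Pi.single (Sum.inl i) 1 : Fin n ⊕ Fin n → F))) h'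
      simp only [mul_smul, one_smul] at this
      by_contra hne
      have e := congrFun this (Sum.inl i)
      have hne' : σ.symm i ≠ i := fun he => hne (by rw [← he, Equiv.apply_symm_apply, he]; rfl)
      simp [H48.diagHom_smul_inl, H48.permHom_smul_inl, H48.permHom_smul_inr, hne'] at e
    subst hσ
    rw [map_one, mul_one, ← map_one (H48.diagHom (l := Fin n) (F := F))] at h'
    rw [H48.diagHom_injective h']
    rfl
  set N := Φ.range
  have hEN : H48.signGroup (Fin n) F ≤ N := by
    intro g hg
    obtain ⟨f, -, rfl⟩ := H48.mem_signGroup.1 hg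
    exact ⟨SemidirectProduct.inl f, SemidirectProduct.lift_inl _ _ _ f⟩
  have hnorm : ∀ g ∈ N, ∀ e ∈ H48.signGroup (Fin n) F, g * e * g⁻¹ ∈ H48.signGroup (Fin n) F := by
    rintro _ ⟨⟨f, σ⟩, rfl⟩ e he
    obtain ⟨s, hs, rfl⟩ := H48.mem_signGroup.1 he
    refine H48.mem_signGroup.2 ⟨f * (s ∘ σ.symm) * f⁻¹, fun i => ?_, ?_⟩
    · rcases hs (σ.symm i) with h | h <;> simp [h]
    · show _ = H48.diagHom f * H48.permHom σ * H48.diagHom s * (H48.diagHom f * H48.permHom σ)⁻¹
      rw [map_mul, map_mul, map_inv, ← H48.permHom_conj_diagHom]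
      group
  have hcardN : Nat.card N = Nat.card (Matrix.SpecialLinearGroup (Fin 2) F) ^ n * n.factorial := by
    rw [show Nat.card N = Nat.card (Φ : _ →* (Matrix.symplecticGroup (Fin n) F)).range from rfl,
      ← Nat.card_congr (MonoidHom.ofInjective hΦ).toEquiv, SemidirectProduct.card, Nat.card_pi,
      Finset.prod_const, Finset.card_univ, Fintype.card_fin, Nat.card_perm, Nat.card_fin]
  -- the 2-parts
  have hqodd : ¬ 2 ∣ q := fun h => by
    have := Nat.odd_iff.1 hF
    omega
  have hq3 : 3 ≤ q := by
    have := Fintype.one_lt_card (α := F)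
    have := Nat.odd_iff.1 hF
    omega
  have hqpow : ∀ k, padicValNat 2 (q ^ k) = 0 := fun k =>
    padicValNat.eq_zero_of_not_dvd fun h => hqodd (Nat.prime_two.dvd_of_dvd_pow h)
  have hfac : ∀ i : ℕ, padicValNat 2 (q ^ (2 * (i + 1)) - 1) =
      padicValNat 2 (q ^ 2 - 1) + padicValNat 2 (i + 1) := by
    intro i
    have key : ∀ k : ℕ, padicValNat 2 (q ^ (2 * (k + 1)) - 1) + 1 =
        padicValNat 2 (q + 1) + padicValNat 2 (q - 1) + (1 + padicValNat 2 (k + 1)) := by
      intro k
      have := padicValNat.pow_two_sub_pow (x := q) (y := 1) (by omega) (by omega) hqodd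
        (n := 2 * (k + 1)) (by omega) (by simp)
      rw [one_pow, padicValNat.mul (by omega) (by omega), padicValNat.self (by omega)] at this
      exact this
    have h0 := key 0
    have hi := key i
    simp only [Nat.zero_add, Nat.mul_one, padicValNat_one_right] at h0
    omega
  have hpos : ∀ i : ℕ, q ^ (2 * (i + 1)) - 1 ≠ 0 := fun i => by
    have := Nat.one_lt_pow (n := 2 * (i + 1)) (a := q) (by omega) (by omega)
    omega
  have hprod : ∀ k : ℕ, padicValNat 2 (∏ i ∈ Finset.range k, (q ^ (2 * (i + 1)) - 1)) =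
      k * padicValNat 2 (q ^ 2 - 1) + padicValNat 2 k.factorial := by
    intro k
    induction k with
    | zero => simp
    | succ k ih =>
      rw [Finset.prod_range_succ,
        padicValNat.mul (Finset.prod_ne_zero_iff.2 fun i _ => hpos i) (hpos k), ih, hfac,
        Nat.factorial_succ, padicValNat.mul (Nat.succ_ne_zero k) (Nat.factorial_ne_zero k)]
      ring
  have hSL : padicValNat 2 (Nat.card (Matrix.SpecialLinearGroup (Fin 2) F)) = padicValNat 2 (q ^ 2 - 1) := by
    have h := H37.card_SL_fin (F := F) 2 (by omega)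
    rw [Fin.prod_univ_two, Nat.card_eq_fintype_card (α := F), ← hq] at h
    simp only [Fin.val_zero, Fin.val_one, pow_zero, pow_one] at h
    have e : q ^ 2 - q = (q - 1) * q := by rw [Nat.sub_mul, one_mul, sq]
    rw [e] at h
    have h' : Nat.card (Matrix.SpecialLinearGroup (Fin 2) F) = (q ^ 2 - 1) * q :=
      Nat.eq_of_mul_eq_mul_left (show 0 < q - 1 by omega) (h.trans (by ring))
    rw [h', padicValNat.mul (by simpa using hpos 0) (by omega)]
    have := hqpow 1
    rw [pow_one] at this
    omega
  have hval : (Nat.card N).factorization 2 = (Nat.card (Matrix.symplecticGroup (Fin n) F)).factorization 2 := by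
    rw [Nat.factorization_def _ Nat.prime_two, Nat.factorization_def _ Nat.prime_two, hcardN,
      H48.card_sp, Fintype.card_fin, padicValNat.mul (pow_ne_zero _ Nat.card_pos.ne')
      (Nat.factorial_ne_zero n), padicValNat.pow, padicValNat.mul (pow_ne_zero _ (by omega))
      (Finset.prod_ne_zero_iff.2 fun i _ => hpos i), hqpow, hprod, hSL, zero_add]
  -- a Sylow 2-subgroup inside `N` containing the sign group
  obtain ⟨P, hP⟩ := IsPGroup.exists_le_sylow (p := 2)
    (P := (H48.signGroup (Fin n) F).subgroupOf N)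
    (IsPGroup.of_card (n := n) (by
      rw [Nat.card_congr (Subgroup.subgroupOfEquivOfLe hEN).toEquiv, H48.card_signGroup h2,
        Fintype.card_fin]))
  let P' : Sylow 2 (Matrix.symplecticGroup (Fin n) F) := Sylow.ofCard ((P : Subgroup N).map N.subtype) (by
    rw [Subgroup.card_map_of_injective (Subgroup.subtype_injective _), P.card_eq_multiplicity,
      hval])
  have hle : H48.signGroup (Fin n) F ≤ (P' : Subgroup (Matrix.symplecticGroup (Fin n) F)) := fun g hg =>
    ⟨⟨g, hEN hg⟩, hP (Subgroup.mem_subgroupOf.2 hg), rfl⟩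
  let e := Sylow.equiv P' S
  refine ⟨((H48.signGroup (Fin n) F).subgroupOf (P' : Subgroup (Matrix.symplecticGroup (Fin n) F))).map e.toMonoidHom, ?_, ?_, ?_⟩
  · refine Subgroup.Normal.map ⟨fun x hx y => ?_⟩ _ e.surjective
    rw [Subgroup.mem_subgroupOf] at hx ⊢
    obtain ⟨y', -, hy'⟩ := y.2
    exact hnorm _ (hy' ▸ y'.2) _ hx
  · constructor
    · refine ⟨⟨?_⟩⟩
      rintro ⟨_, a, ha, rfl⟩ ⟨_, b, hb, rfl⟩
      apply Subtype.ext
      show e a * e b = e b * e a
      rw [← map_mul, ← map_mul]
      congr 1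
      apply Subtype.ext
      have hc := (H48.signGroup_elementary (l := Fin n) (F := F)).1.is_comm.comm
          ⟨a.1, ha⟩ ⟨b.1, hb⟩
      have hc' := congrArg Subtype.val hc
      exact hc'
    · rintro _ ⟨a, ha, rfl⟩
      rw [← map_pow, show a ^ 2 = 1 from Subtype.ext
        (H48.signGroup_elementary.2 a.1 ha), map_one]
  · rw [Subgroup.card_map_of_injective e.injective,
      Nat.card_congr (Subgroup.subgroupOfEquivOfLe hle).toEquiv, H48.card_signGroup h2,
      Fintype.card_fin]

end Cfsg.Agent.S2250
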