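import Cfsg.Statements.S2251
import Cfsg.Agent.H63.SzSubMain
import Cfsg.Agent.S2238

set_option autoImplicit false
open Cfsg

namespace Cfsg.Agent.S2251

/-- The subgroups of the Suzuki group: with q = 2^(2m+1), m ≥ 1, r = 2^m and the group realised as the stabiliser in SL₄ of the Suzuki–Tits ovoid, every proper subgroup is contained in the normalizer of a Sylow 2-subgroup, or in the normalizer of a cyclic subgroup of order q − 1, q + 2r + 1 or q − 2r + 1, or in a subgroup isomorphic to a smaller Suzuki group Sz(s) with s = 2^(2k+1) ≥ 8 and 2k+1 a proper divisor of 2m+1. -/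
theorem result {F : Type*} [Field F] [Fintype F] {m : ℕ} (hm : 1 ≤ m) (hF : Fintype.card F = 2 ^ (2 * m + 1)) (M : Subgroup ↥(Cfsg.Sz F m)) (hM : M ≠ ⊤) :
    (∃ P : Sylow 2 ↥(Cfsg.Sz F m), M ≤ Subgroup.normalizer ((P : Subgroup ↥(Cfsg.Sz F m)) : Set ↥(Cfsg.Sz F m))) ∨
    (∃ U : Subgroup ↥(Cfsg.Sz F m), IsCyclic ↥U ∧ Nat.card ↥U ∈ ({2 ^ (2 * m + 1) - 1, 2 ^ (2 * m + 1) + 2 ^ (m + 1) + 1, 2 ^ (2 * m + 1) - 2 ^ (m + 1) + 1} : Set ℕ) ∧
      M ≤ Subgroup.normalizer (U : Set ↥(Cfsg.Sz F m))) ∨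
    (∃ (K : Type) (_ : Field K) (_ : Fintype K) (k : ℕ), 1 ≤ k ∧ k < m ∧ Fintype.card K = 2 ^ (2 * k + 1) ∧ 2 * k + 1 ∣ 2 * m + 1 ∧
      ∃ S : Subgroup ↥(Cfsg.Sz F m), Nonempty (↥S ≃* ↥(Cfsg.Sz K k)) ∧ M ≤ S) := by
  by_cases hsol : Group.IsSolvable M
  · haveI := hsol
    rcases H57.solvable_le hm hF M with ⟨p, hp, hfix⟩ | ⟨U, hU, hle⟩
    · left
      rw [← H57.orbit_infty hF] at hp
      obtain ⟨s, rfl⟩ := hp
      obtain ⟨P, hP⟩ := Cfsg.Agent.S2238.conj_sylow hm hF s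
      refine ⟨P, fun g hg => ?_⟩
      rw [← hP, ← Subgroup.map_equiv_normalizer_eq, H57.mem_map_conj_iff, H57.normalizer_tSub hm hF,
        MulAction.mem_stabilizer_iff, mul_smul, mul_smul, inv_smul_eq_iff]
      exact hfix g hg
    · right; left
      refine ⟨U, H57.utor_comm hm hF hU, ?_, hle⟩
      simp only [Set.mem_insert_iff, Set.mem_singleton_iff]
      rcases hU with ⟨s, rfl⟩ | hA
      · left; rw [H57.card_conj, H57.card_dSub]
      · right; exact Cfsg.Agent.S2238.tor_card hm hF hA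
  · right; right
    obtain ⟨k, hk, hdiv, hall⟩ := H63.SzSub.nonsolvable_classify hm hF hsol
    haveI : Fact (Nat.Prime 2) := ⟨Nat.prime_two⟩
    letI : Fintype (GaloisField 2 (2 * k + 1)) := Fintype.ofFinite _
    have hK : Fintype.card (GaloisField 2 (2 * k + 1)) = 2 ^ (2 * k + 1) := by
      rw [← Nat.card_eq_fintype_card, GaloisField.card 2 _ (by omega)]
    obtain ⟨ι⟩ := H63.SzSub.exists_embedding hF hK hdiv
    obtain ⟨g, hg⟩ := hall _ hK ι
    have hkm : k < m := by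
      have hle : 2 * k + 1 ≤ 2 * m + 1 := Nat.le_of_dvd (by omega) hdiv
      by_contra hc
      obtain rfl : k = m := by omega
      apply hM
      apply Subgroup.eq_top_of_card_eq
      rw [hg, H57.card_conj, ← Nat.card_congr (MonoidHom.ofInjective
        (H63.SzSub.szMap_injective hk hF hK hdiv ι)).toEquiv, H57.card_sz hk hK, H57.card_sz hm hF]
    exact ⟨_, _, _, k, hk, hkm, hK, hdiv, M,
      ⟨(MulEquiv.subgroupCongr hg).trans
        (((H63.SzSub.szMap hk hF hK hdiv ι).range.equivMapOfInjective _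
          (MulAut.conj g).injective).symm.trans
          (MonoidHom.ofInjective (H63.SzSub.szMap_injective hk hF hK hdiv ι)).symm)⟩, le_rfl⟩

end Cfsg.Agent.S2251
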