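import Cfsg.Statements.S2254
import Cfsg.Agent.H63.NilpotentMax
import Mathlib

set_option autoImplicit false
set_option linter.style.haveILetI false
open Cfsg

namespace Cfsg.Agent.S2254

/-- Let n ≡ 3 (mod 4). Then every nilpotent subgroup of the symmetric group on n letters has order at most 3 times the order of a Sylow 2-subgroup of the symmetric group on n − 3 letters; the bound is attained by a nilpotent subgroup isomorphic to the direct product of such a Sylow 2-subgroup with a cyclic group of order 3; and any two nilpotent subgroups attaining the bound are conjugate. -/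
theorem result  (n : ℕ) (hn : n % 4 = 3)
    (P : Sylow 2 (Equiv.Perm (Fin (n - 3)))) :
    (∀ N : Subgroup (Equiv.Perm (Fin n)), Group.IsNilpotent N → Nat.card N ≤ 3 * Nat.card P) ∧
    (∃ M : Subgroup (Equiv.Perm (Fin n)), Group.IsNilpotent M ∧ Nat.card M = 3 * Nat.card P ∧
      Nonempty (M ≃* (↥(P : Subgroup (Equiv.Perm (Fin (n - 3)))) × Multiplicative (ZMod 3)))) ∧
    (∀ N₁ N₂ : Subgroup (Equiv.Perm (Fin n)), Group.IsNilpotent N₁ → Group.IsNilpotent N₂ →
      Nat.card N₁ = 3 * Nat.card P → Nat.card N₂ = 3 * Nat.card P →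
      ∃ g : Equiv.Perm (Fin n), N₂ = N₁.map (MulAut.conj g).toMonoidHom) := by
  haveI := Fact.mk Nat.prime_two
  obtain ⟨r, rfl⟩ : ∃ r, n = r + 3 := ⟨n - 3, by omega⟩
  revert P
  rw [Nat.add_sub_cancel]
  intro P
  rw [H63.card_sylow_two_perm P]
  have hsym : H63.nilpSym (r + 3) = 3 * 2 ^ H63.vFact r := by
    rw [H63.nilpSym_three_mod (by omega), Nat.add_sub_cancel]
  refine ⟨fun N hN => ?_, ?_, fun N₁ N₂ h₁ h₂ hc₁ hc₂ =>
    H63.conj_extremal_sym (r := r) (by omega) (Fintype.card_fin _) h₁ h₂ hc₁ hc₂⟩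
  · rw [← hsym]
    exact (H63.card_nilpotent_le hN).trans_eq (congrArg H63.nilpSym (Fintype.card_fin _))
  · obtain ⟨M, hM, hMc, -, hMe⟩ := H63.exists_extremal (P : Subgroup (Equiv.Perm (Fin r))) P.isPGroup'
    exact ⟨M, hM, by rw [hMc, H63.card_sylow_two_perm P], hMe⟩

end Cfsg.Agent.S2254
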