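import Cfsg.Statements.S2255
import Cfsg.Agent.H63.NilpotentMax
import Mathlib

set_option autoImplicit false
set_option linter.style.haveILetI false
open Cfsg

namespace Cfsg.Agent.S2255

/-- Let n be a natural number not congruent to 3 modulo 4, with n ∉ {5, 6, 9}. Then every nilpotent subgroup of the alternating group on n letters has order at most the order of a Sylow 2-subgroup of the alternating group (so the nilpotent subgroups of largest order are exactly the Sylow 2-subgroups). -/
theorem result  (n : ℕ) (hn : n % 4 ≠ 3)
    (h5 : n ≠ 5) (h6 : n ≠ 6) (h9 : n ≠ 9)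
    (N : Subgroup (alternatingGroup (Fin n))) (hN : Group.IsNilpotent N)
    (P : Sylow 2 (alternatingGroup (Fin n))) :
    Nat.card N ≤ Nat.card P := by
  haveI := hN
  have hM : Group.IsNilpotent (N.map (alternatingGroup (Fin n)).subtype) :=
    Group.nilpotent_of_mulEquiv (N.equivMapOfInjective _ (alternatingGroup (Fin n)).subtype_injective)
  have hle := H63.card_nilpotent_even_le hM (Subgroup.map_subtype_le _)
  rw [Subgroup.card_subtype, Fintype.card_fin] at hle
  rcases Nat.lt_or_ge n 2 with h2 | h2
  · refine hle.trans (le_trans (le_of_eq ?_) Nat.card_pos)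
    interval_cases n <;> simp [H63.nilpAlt]
  · refine hle.trans (le_of_eq ?_)
    rw [H63.nilpAlt_eq_half (H63.exc_not_mem_iff.mpr ⟨by omega, by omega, by omega, h5, h6, h9⟩),
      H63.nilpSym_eq_pow hn]
    have := H63.card_sylow_two_alt h2 P
    omega

end Cfsg.Agent.S2255
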