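import Cfsg.Statements.S2256
import Cfsg.Agent.H63.NilpotentMax
import Mathlib

set_option autoImplicit false
set_option linter.style.haveILetI false
open Cfsg

namespace Cfsg.Agent.S2256

/-- Let n ≡ 3 (mod 4) with n ≥ 7. Then every nilpotent subgroup of the alternating group on n letters has order at most 3 times the order of a Sylow 2-subgroup of the alternating group on n − 3 letters; the bound is attained by a nilpotent subgroup isomorphic to the direct product of such a Sylow 2-subgroup with a cyclic group of order 3; and any two nilpotent subgroups of the alternating group attaining the bound are conjugate in it. -/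
theorem result  (n : ℕ) (hn : n % 4 = 3) (h7 : 7 ≤ n)
    (P : Sylow 2 (alternatingGroup (Fin (n - 3)))) :
    (∀ N : Subgroup (alternatingGroup (Fin n)), Group.IsNilpotent N → Nat.card N ≤ 3 * Nat.card P) ∧
    (∃ M : Subgroup (alternatingGroup (Fin n)), Group.IsNilpotent M ∧ Nat.card M = 3 * Nat.card P ∧
      Nonempty (M ≃* (↥(P : Subgroup (alternatingGroup (Fin (n - 3)))) × Multiplicative (ZMod 3)))) ∧
    (∀ N₁ N₂ : Subgroup (alternatingGroup (Fin n)), Group.IsNilpotent N₁ → Group.IsNilpotent N₂ →
      Nat.card N₁ = 3 * Nat.card P → Nat.card N₂ = 3 * Nat.card P →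
      ∃ g : alternatingGroup (Fin n), N₂ = N₁.map (MulAut.conj g).toMonoidHom) := by
  haveI := Fact.mk Nat.prime_two
  obtain ⟨r, rfl⟩ : ∃ r, n = r + 3 := ⟨n - 3, by omega⟩
  revert P
  rw [Nat.add_sub_cancel]
  intro P
  have hPc := H63.card_sylow_two_alt (show 2 ≤ r by omega) P
  have hex : r + 3 ∉ H63.nilpExc := H63.exc_not_mem_iff.mpr ⟨by omega, by omega, by omega, by omega, by omega, by omega⟩
  have halt : 2 * H63.nilpAlt (r + 3) ≤ 3 * 2 ^ H63.vFact r := by
    rw [H63.nilpAlt_eq_half hex, H63.nilpSym_three_mod (by omega), Nat.add_sub_cancel]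
    omega
  have hmap : ∀ N : Subgroup (alternatingGroup (Fin (r + 3))), Group.IsNilpotent N →
      Group.IsNilpotent (N.map (alternatingGroup (Fin (r + 3))).subtype) := fun N hN => by
    haveI := hN
    exact Group.nilpotent_of_mulEquiv (N.equivMapOfInjective _ (alternatingGroup (Fin (r + 3))).subtype_injective)
  refine ⟨fun N hN => ?_, ?_, fun N₁ N₂ h₁ h₂ hc₁ hc₂ => ?_⟩
  · have hle := H63.card_nilpotent_even_le (hmap N hN) (Subgroup.map_subtype_le _)
    rw [Subgroup.card_subtype, Fintype.card_fin] at hle
    omega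
  · obtain ⟨M, hM, hMc, hMev, ⟨em⟩⟩ := H63.exists_extremal ((P : Subgroup (alternatingGroup (Fin r))).map
      (alternatingGroup (Fin r)).subtype) (P.isPGroup'.map _)
    have hle := hMev (Subgroup.map_subtype_le _)
    let eP := ((P : Subgroup (alternatingGroup (Fin r))).equivMapOfInjective _
      (alternatingGroup (Fin r)).subtype_injective).symm
    let e := (Subgroup.subgroupOfEquivOfLe hle).trans (em.trans (eP.prodCongr (MulEquiv.refl _)))
    haveI := hM
    refine ⟨M.subgroupOf _, Group.nilpotent_of_mulEquiv (Subgroup.subgroupOfEquivOfLe hle).symm, ?_, ⟨e⟩⟩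
    rw [Nat.card_congr (Subgroup.subgroupOfEquivOfLe hle).toEquiv, hMc, Subgroup.card_subtype]
  · obtain ⟨g, hg, hgN⟩ := H63.conj_extremal_alt (r := r) (by omega) (by omega) (Fintype.card_fin _)
      (hmap N₁ h₁) (hmap N₂ h₂) (Subgroup.map_subtype_le _) (Subgroup.map_subtype_le _)
      (by rw [Subgroup.card_subtype]; omega) (by rw [Subgroup.card_subtype]; omega)
    refine ⟨⟨g, hg⟩, Subgroup.map_injective (alternatingGroup (Fin (r + 3))).subtype_injective ?_⟩
    refine hgN.trans ?_
    rw [Subgroup.map_map, Subgroup.map_map]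
    rfl

end Cfsg.Agent.S2256
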