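import Cfsg.Statements.S2257
import Cfsg.Agent.H39.SolubilizerMinus
import Cfsg.Agent.H39.SolubilizerUnipotent

set_option autoImplicit false
open Cfsg

namespace Cfsg.Agent.S2257

/-- Let G = PSL_2(F) with F a field of order q = 2^p, p prime, and for x ∈ G call the solubilizer of x the set of y ∈ G such that x and y generate a solvable subgroup. Then the solubilizer of an involution has 3q(q − 1) elements; that of a non-identity element of order dividing q − 1 has 2q(q − 1) elements; and that of a non-identity element of order dividing q + 1 has 2(q + 1) elements. -/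
theorem result (p : ℕ) (hp : p.Prime) {F : Type*} [Field F] [Fintype F]
    (hF : Fintype.card F = 2 ^ p) (x : Matrix.ProjectiveSpecialLinearGroup (Fin 2) F) :
    (orderOf x = 2 → Nat.card {y : Matrix.ProjectiveSpecialLinearGroup (Fin 2) F // Group.IsSolvable ↥(Subgroup.closure ({x, y} : Set (Matrix.ProjectiveSpecialLinearGroup (Fin 2) F)))} = 3 * 2 ^ p * (2 ^ p - 1)) ∧
    (x ≠ 1 → orderOf x ∣ 2 ^ p - 1 → Nat.card {y : Matrix.ProjectiveSpecialLinearGroup (Fin 2) F // Group.IsSolvable ↥(Subgroup.closure ({x, y} : Set (Matrix.ProjectiveSpecialLinearGroup (Fin 2) F)))} = 2 * 2 ^ p * (2 ^ p - 1)) ∧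
    (x ≠ 1 → orderOf x ∣ 2 ^ p + 1 → Nat.card {y : Matrix.ProjectiveSpecialLinearGroup (Fin 2) F // Group.IsSolvable ↥(Subgroup.closure ({x, y} : Set (Matrix.ProjectiveSpecialLinearGroup (Fin 2) F)))} = 2 * (2 ^ p + 1)) := by
  haveI : Fact (Nat.Prime 2) := ⟨Nat.prime_two⟩
  haveI : CharP F 2 := charP_of_card_eq_prime_pow (by rw [hF])
  have hq : 4 ≤ Fintype.card F := by
    rw [hF]; exact le_trans (by norm_num) (Nat.pow_le_pow_right (show 2 > 0 by norm_num) hp.two_le)
  have hG := (H39.minimalSimple_iff 2 (F := F)).2 (Or.inl ⟨p, hp, hF⟩)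
  have hd : Nat.gcd 2 (Fintype.card F - 1) = 1 := by
    refine Nat.coprime_two_left.2 ?_
    have : 2 ^ p % 2 = 0 := by rw [Nat.pow_mod]; simp [hp.ne_zero]
    rw [Nat.odd_iff]; omega
  have hsub : Nat.card {y : Matrix.ProjectiveSpecialLinearGroup (Fin 2) F //
      Group.IsSolvable ↥(Subgroup.closure ({x, y} : Set (Matrix.ProjectiveSpecialLinearGroup (Fin 2) F)))} =
      Nat.card {y // H39.SolPair x y} := rfl
  refine ⟨fun hx => ?_, fun hx1 hx => ?_, fun hx1 hx => ?_⟩ <;> rw [hsub, ← hF]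
  · have ht : orderOf (H39.transl (1 : F)) = 2 :=
      orderOf_eq_prime (H39.transl_pow_char 2 1) (H39.transl_ne_one one_ne_zero)
    obtain ⟨g, hg⟩ := isConj_iff.1 (H39.invol_isConj 2 hx ht)
    rw [← H39.card_sol_map (MulAut.conj g) x, MulAut.conj_apply, hg]
    exact H39.card_sol_unipotent_two 2 hG hq rfl
  · have hx2 : orderOf x ≠ 2 := by
      intro e
      have : 2 ^ p % 2 = 0 := by rw [Nat.pow_mod]; simp [hp.ne_zero]
      have h1 := hx
      rw [e] at h1
      omega
    rw [H39.card_sol_minus 2 hG hq (Or.inl rfl) (by norm_num) hx1 hx2 (hF ▸ hx), hd, Nat.div_one]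
  · have hx2 : orderOf x ≠ 2 := by
      intro e
      have : 2 ^ p % 2 = 0 := by rw [Nat.pow_mod]; simp [hp.ne_zero]
      have h1 := hx
      rw [e] at h1
      omega
    rw [H39.card_sol_plus 2 hG hq (Or.inl rfl) (by norm_num) hx1 hx2 (hF ▸ hx), hd, Nat.div_one]

end Cfsg.Agent.S2257
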