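import Cfsg.Statements.S2258
import Cfsg.Agent.H39.SolubilizerMinus
import Cfsg.Agent.H39.SolubilizerThree

set_option autoImplicit false
open Cfsg

namespace Cfsg.Agent.S2258

/-- Let G = PSL_2(F) with F a field of order q = 3^p, p an odd prime, and for x ∈ G call the solubilizer of x the set of y ∈ G such that x and y generate a solvable subgroup. Then the solubilizer of an involution has q(q + 1) elements; that of an element of order 3 has q(q + 5)/2 elements; that of an element of order neither 1 nor 2 dividing q − 1 has q(q − 1) elements; and that of an element of order neither 1 nor 2 dividing q + 1 has q + 1 elements. -/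
theorem result (p : ℕ) (hp : p.Prime) (hodd : Odd p) {F : Type*} [Field F] [Fintype F]
    (hF : Fintype.card F = 3 ^ p) (x : Matrix.ProjectiveSpecialLinearGroup (Fin 2) F) :
    (orderOf x = 2 → Nat.card {y : Matrix.ProjectiveSpecialLinearGroup (Fin 2) F // Group.IsSolvable ↥(Subgroup.closure ({x, y} : Set (Matrix.ProjectiveSpecialLinearGroup (Fin 2) F)))} = 3 ^ p * (3 ^ p + 1)) ∧
    (orderOf x = 3 → 2 * Nat.card {y : Matrix.ProjectiveSpecialLinearGroup (Fin 2) F // Group.IsSolvable ↥(Subgroup.closure ({x, y} : Set (Matrix.ProjectiveSpecialLinearGroup (Fin 2) F)))} = 3 ^ p * (3 ^ p + 5)) ∧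
    (x ≠ 1 → orderOf x ≠ 2 → orderOf x ∣ 3 ^ p - 1 → Nat.card {y : Matrix.ProjectiveSpecialLinearGroup (Fin 2) F // Group.IsSolvable ↥(Subgroup.closure ({x, y} : Set (Matrix.ProjectiveSpecialLinearGroup (Fin 2) F)))} = 3 ^ p * (3 ^ p - 1)) ∧
    (x ≠ 1 → orderOf x ≠ 2 → orderOf x ∣ 3 ^ p + 1 → Nat.card {y : Matrix.ProjectiveSpecialLinearGroup (Fin 2) F // Group.IsSolvable ↥(Subgroup.closure ({x, y} : Set (Matrix.ProjectiveSpecialLinearGroup (Fin 2) F)))} = 3 ^ p + 1) := by
  haveI : Fact (Nat.Prime 3) := ⟨Nat.prime_three⟩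
  haveI : CharP F 3 := charP_of_card_eq_prime_pow (by rw [hF])
  have h8 : Fintype.card F % 8 = 3 := by
    obtain ⟨k, hk⟩ := hodd
    rw [hF, hk, pow_add, pow_mul, Nat.mul_mod, Nat.pow_mod]
    norm_num
  have hq : 4 ≤ Fintype.card F := by
    rw [hF]; exact le_trans (by norm_num) (Nat.pow_le_pow_right (show 3 > 0 by norm_num) hp.two_le)
  have hp2 : p ≠ 2 := by rintro rfl; exact absurd hodd (by decide)
  have hG := (H39.minimalSimple_iff 3 (F := F)).2 (Or.inr (Or.inl ⟨p, hp, hp2, hF⟩))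
  obtain ⟨-, hd, -, -, h24, -⟩ := H39.three_facts (F := F) h8
  have hsub : Nat.card {y : Matrix.ProjectiveSpecialLinearGroup (Fin 2) F //
      Group.IsSolvable ↥(Subgroup.closure ({x, y} : Set (Matrix.ProjectiveSpecialLinearGroup (Fin 2) F)))} =
      Nat.card {y // H39.SolPair x y} := rfl
  refine ⟨fun hx => ?_, fun hx => ?_, fun hx1 hx2 hx => ?_, fun hx1 hx2 hx => ?_⟩ <;> rw [hsub, ← hF]
  · exact H39.card_sol_invol_three hG hq h8 hx
  · have hx3 : x ^ 3 = 1 := orderOf_dvd_iff_pow_eq_one.1 (dvd_of_eq hx)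
    have hx1 : x ≠ 1 := fun e => by rw [e, orderOf_one] at hx; omega
    obtain ⟨P, hP⟩ := H39.exists_cjP_eq_transl 3 hx1 hx3
    rw [← H39.card_sol_map (H39.cjP P) x, hP]
    exact H39.card_sol_order_three hG hq h8
  · rw [H39.card_sol_minus 3 hG hq (Or.inr rfl) (fun _ => h24) hx1 hx2 (hF ▸ hx), hd, mul_comm 2,
      mul_assoc]
    congr 1
    omega
  · rw [H39.card_sol_plus 3 hG hq (Or.inr rfl) (fun _ => h24) hx1 hx2 (hF ▸ hx), hd]
    omega

end Cfsg.Agent.S2258
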