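import Cfsg.Statements.S2268
import Mathlib

set_option autoImplicit false
open Cfsg

namespace Cfsg.Agent.S2268

/-- Let G be a finite group with an abelian Sylow p-subgroup P and let Q ≤ P. Then N_G(Q) = (N_G(Q) ∩ N_G(P))·C_G(Q), so that N_G(Q)/C_G(Q) is a homomorphic image of the subgroup (N_G(Q) ∩ N_G(P))/C_G(P) of N_G(P)/C_G(P); in particular the order of N_G(Q)/C_G(Q) divides the order of N_G(P)/C_G(P). -/
theorem result {G : Type*} [Group G] [Finite G] {p : ℕ} [Fact p.Prime]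
    (P : Sylow p G) (hP : IsMulCommutative (P : Subgroup G)) (Q : Subgroup G) (hQ : Q ≤ (P : Subgroup G)) :
    Subgroup.normalizer (Q : Set G) =
      (Subgroup.normalizer (Q : Set G) ⊓ Subgroup.normalizer ((P : Subgroup G) : Set G)) ⊔ Subgroup.centralizer (Q : Set G) ∧
    ((Subgroup.centralizer (Q : Set G)).subgroupOf (Subgroup.normalizer (Q : Set G))).index ∣ ((Subgroup.centralizer ((P : Subgroup G) : Set G)).subgroupOf (Subgroup.normalizer ((P : Subgroup G) : Set G))).index := by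
  classical
  set NP := Subgroup.normalizer ((P : Subgroup G) : Set G) with hNPdef
  set NQ := Subgroup.normalizer (Q : Set G) with hNQdef
  set CQ := Subgroup.centralizer (Q : Set G) with hCQdef
  set CP := Subgroup.centralizer ((P : Subgroup G) : Set G) with hCPdef
  have hPC : (P : Subgroup G) ≤ CQ := by
    intro x hx
    rw [hCQdef, Subgroup.mem_centralizer_iff]
    intro y hy
    have := hP.is_comm.comm ⟨y, hQ hy⟩ ⟨x, hx⟩
    exact congrArg Subtype.val this
  have hCN : CQ ≤ NQ := Subgroup.centralizer_le_normalizer _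
  have hCPQ : CP ≤ CQ := Subgroup.centralizer_le hQ
  have hCPN : CP ≤ NP := Subgroup.centralizer_le_normalizer _
  have hdec : ∀ g ∈ NQ, ∃ h ∈ NQ ⊓ NP, ∃ c ∈ CQ, g = c * h := by
    intro g hg
    have hgP : ((g • P : Sylow p G) : Subgroup G) ≤ CQ := by
      intro x hx
      rw [Sylow.coe_subgroup_smul, Subgroup.mem_pointwise_smul_iff_inv_smul_mem] at hx
      rw [hCQdef, Subgroup.mem_centralizer_iff]
      intro y hy
      have hy' : g⁻¹ * y * g ∈ Q := (Subgroup.mem_normalizer_iff''.mp hg y).mp hy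
      have hx' : g⁻¹ * x * g ∈ CQ := by
        apply hPC
        simpa using hx
      have hcm := Subgroup.mem_centralizer_iff.mp hx' _ hy'
      calc y * x = g * ((g⁻¹ * y * g) * (g⁻¹ * x * g)) * g⁻¹ := by group
        _ = g * ((g⁻¹ * x * g) * (g⁻¹ * y * g)) * g⁻¹ := by rw [hcm]
        _ = x * y := by group
    obtain ⟨c, hc⟩ := MulAction.exists_smul_eq CQ ((g • P).subtype hgP) (P.subtype hPC)
    rw [Sylow.smul_subtype] at hc
    have hc' : (c : G) • g • P = P := Sylow.subtype_injective hc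
    rw [smul_smul, Sylow.smul_eq_iff_mem_normalizer] at hc'
    refine ⟨(c : G) * g, ⟨NQ.mul_mem (hCN c.2) hg, hc'⟩, (c : G)⁻¹, CQ.inv_mem c.2, by group⟩
  have hnorm : (CQ.subgroupOf NQ).Normal := by
    rw [hCQdef, hNQdef]; infer_instance
  have heq : NQ = (NQ ⊓ NP) ⊔ CQ := by
    apply le_antisymm
    · intro g hg
      obtain ⟨h, hh, c, hc, rfl⟩ := hdec g hg
      exact Subgroup.mul_mem _ (le_sup_right (a := NQ ⊓ NP) hc) (le_sup_left (b := CQ) hh)
    · exact sup_le inf_le_left hCN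
  refine ⟨heq, ?_⟩
  change CQ.relIndex NQ ∣ CP.relIndex NP
  have h1 : CQ.relIndex NQ = CQ.relIndex (NQ ⊓ NP) := by
    let K := NQ ⊓ NP
    let ψ : K →* NQ ⧸ CQ.subgroupOf NQ :=
      (QuotientGroup.mk' (CQ.subgroupOf NQ)).comp (Subgroup.inclusion inf_le_left)
    have hs : Function.Surjective ψ := by
      intro q
      obtain ⟨⟨g, hg⟩, rfl⟩ := QuotientGroup.mk'_surjective _ q
      obtain ⟨h, hh, c, hc, rfl⟩ := hdec g hg
      refine ⟨⟨h, hh⟩, ?_⟩
      change QuotientGroup.mk' (CQ.subgroupOf NQ) ⟨h, hh.1⟩ = _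
      rw [QuotientGroup.mk'_apply, QuotientGroup.mk'_apply, QuotientGroup.eq_iff_div_mem]
      simp [Subgroup.mem_subgroupOf, div_eq_mul_inv]
      exact hc
    have hk : ψ.ker = CQ.subgroupOf K := by
      ext x
      simp [ψ, MonoidHom.mem_ker, QuotientGroup.eq_one_iff, Subgroup.mem_subgroupOf]
    have h := Subgroup.index_ker ψ
    rw [MonoidHom.range_eq_top.mpr hs, hk, Subgroup.card_top] at h
    change (CQ.subgroupOf K).index = _ at h
    rw [Subgroup.relIndex, Subgroup.relIndex, h]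
    rfl
  rw [h1]
  have hle : CP ≤ NQ ⊓ NP := le_inf (hCPQ.trans hCN) hCPN
  have h2 : CQ.relIndex (NQ ⊓ NP) ∣ CP.relIndex (NQ ⊓ NP) :=
    Subgroup.relIndex_dvd_of_le_left _ hCPQ
  exact h2.trans (Dvd.intro _ (Subgroup.relIndex_mul_relIndex _ _ _ hle inf_le_right))

end Cfsg.Agent.S2268
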