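import Cfsg.Statements.S2269
import Cfsg.Agent.H63.SylowTwoSelfNorm
import Cfsg.Agent.H63.RealAutomizer
import Cfsg.Agent.H63.AltOrders
import Mathlib

set_option autoImplicit false
set_option linter.style.haveILetI false
open Cfsg

namespace Cfsg.Agent.S2269

open Equiv Equiv.Perm

theorem not_normalizer_le_centralizer {G : Type*} [Group G] [Finite G] [IsSimpleGroup G] {p : ℕ} [Fact p.Prime]
    (P : Sylow p G) (hne : (P : Subgroup G) ≠ ⊥) (hne' : (P : Subgroup G) ≠ ⊤) :
    ¬ Subgroup.normalizer ((P : Subgroup G) : Set G) ≤ Subgroup.centralizer ((P : Subgroup G) : Set G) := by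
  intro h
  have hc := MonoidHom.ker_transferSylow_isComplement' P h
  rcases (MonoidHom.normal_ker (MonoidHom.transferSylow P h)).eq_bot_or_eq_top with hb | ht
  · rw [hb] at hc
    exact hne' (Subgroup.isComplement'_bot_left.mp hc)
  · rw [ht] at hc
    exact hne (Subgroup.isComplement'_top_left.mp hc)

theorem exists_real_pcycle (n p : ℕ) [Fact p.Prime] (hp : p ≠ 2) (hn : 2 * p ≤ n) :
    ∃ x : alternatingGroup (Fin n), orderOf x = p ∧ IsConj x x⁻¹ := by
  have hpp : p.Prime := Fact.out
  have hodd := hpp.odd_of_ne_two hp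
  obtain ⟨g, hg⟩ := (exists_with_cycleType_iff (Fin n) (m := {p})).mpr
    ⟨by simp; omega, by simp [hpp.two_le]⟩
  have hgm : g ∈ alternatingGroup (Fin n) := by
    rw [mem_alternatingGroup, sign_of_cycleType, hg]
    simp [(Nat.odd_iff.mp hodd), Even.neg_one_pow, Nat.even_iff, Nat.add_mod]
  refine ⟨⟨g, hgm⟩, by rw [Subgroup.orderOf_mk, ← lcm_cycleType, hg]; simp, ?_⟩
  have hc : IsConj g g⁻¹ := by rw [isConj_iff_cycleType_eq, cycleType_inv]
  obtain ⟨c, hc⟩ := isConj_iff.mp hc
  have hsupp : g.support.card = p := by rw [← sum_cycleType, hg]; simp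
  obtain ⟨a, b, ha, hb, hab⟩ := Finset.one_lt_card_iff.mp (show 1 < g.supportᶜ.card by
    have := hpp.two_le; rw [Finset.card_compl, hsupp, Fintype.card_fin]; omega)
  rw [Finset.mem_compl, notMem_support] at ha hb
  have hcomm : swap a b * g * (swap a b)⁻¹ = g := by
    rw [mul_inv_eq_iff_eq_mul]
    have := Equiv.mul_swap_eq_swap_mul g a b
    rw [ha, hb] at this
    exact this.symm
  rw [isConj_iff]
  rcases Int.units_eq_one_or (sign c) with h | h
  · exact ⟨⟨c, h⟩, Subtype.ext hc⟩
  · refine ⟨⟨c * swap a b, by rw [mem_alternatingGroup, map_mul, h, Perm.sign_swap hab, Int.units_mul_self]⟩, Subtype.ext ?_⟩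
    change c * swap a b * g * (c * swap a b)⁻¹ = g⁻¹
    rw [← hc]
    calc c * swap a b * g * (c * swap a b)⁻¹ = c * (swap a b * g * (swap a b)⁻¹) * c⁻¹ := by group
      _ = c * g * c⁻¹ := by rw [hcomm]

/-- Let n ≥ 5 and let P be an abelian Sylow p-subgroup of the alternating group A_n. Then N(P)/C(P) (taken in A_n) has even order, or P is cyclic, except when n = 5 and p = 2, where P is a four-group and N(P)/C(P) has order 3. -/
theorem result (n : ℕ) (hn : 5 ≤ n) {p : ℕ} [Fact p.Prime]
    (P : Sylow p (alternatingGroup (Fin n))) (hP : IsMulCommutative (P : Subgroup (alternatingGroup (Fin n)))) :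
    (¬ (n = 5 ∧ p = 2) → 2 ∣ ((Subgroup.centralizer ((P : Subgroup (alternatingGroup (Fin n))) : Set (alternatingGroup (Fin n)))).subgroupOf (Subgroup.normalizer ((P : Subgroup (alternatingGroup (Fin n))) : Set (alternatingGroup (Fin n))))).index ∨ IsCyclic (P : Subgroup (alternatingGroup (Fin n)))) ∧
    ((n = 5 ∧ p = 2) → ((Subgroup.centralizer ((P : Subgroup (alternatingGroup (Fin n))) : Set (alternatingGroup (Fin n)))).subgroupOf (Subgroup.normalizer ((P : Subgroup (alternatingGroup (Fin n))) : Set (alternatingGroup (Fin n))))).index = 3 ∧ IsKleinFour (P : Subgroup (alternatingGroup (Fin n)))) := by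
  classical
  have hpp : p.Prime := Fact.out
  haveI : IsSimpleGroup (alternatingGroup (Fin n)) := alternatingGroup.isSimpleGroup (by simpa using hn)
  haveI : Nontrivial (Fin n) := Fin.nontrivial_iff_two_le.mpr (by omega)
  have hcardA : Nat.card (alternatingGroup (Fin n)) = n.factorial / 2 := by
    rw [nat_card_alternatingGroup, Nat.card_fin]
  have h2n : 2 ∣ n.factorial := Nat.dvd_factorial two_pos (by omega)
  -- for `p = 2` the Sylow subgroup is neither trivial nor everything
  have htwo : ∀ (Q : Sylow 2 (alternatingGroup (Fin n))),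
      (Q : Subgroup (alternatingGroup (Fin n))) ≠ ⊥ ∧ (Q : Subgroup (alternatingGroup (Fin n))) ≠ ⊤ := by
    intro Q
    have h60 : 60 ∣ n.factorial / 2 := by
      rw [Nat.dvd_div_iff_mul_dvd h2n]
      exact (dvd_of_eq (by rfl : 2 * 60 = (5 : ℕ).factorial)).trans (Nat.factorial_dvd_factorial hn)
    constructor
    · exact Q.ne_bot_of_dvd_card (by rw [hcardA]; exact dvd_trans (by norm_num) h60)
    · intro h
      have h3 : 3 ∣ Nat.card (Q : Subgroup (alternatingGroup (Fin n))) := by
        rw [h, Subgroup.card_top, hcardA]; exact dvd_trans (by norm_num) h60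
      rw [Q.card_eq_multiplicity] at h3
      have := Nat.prime_three.dvd_of_dvd_pow h3
      norm_num at this
  refine ⟨fun hex => ?_, ?_⟩
  · rcases eq_or_ne p 2 with rfl | hp2
    · exfalso
      have h6 : 6 ≤ n := by
        rcases Nat.lt_or_ge n 6 with h | h
        · exact absurd ⟨by omega, rfl⟩ hex
        · exact h
      refine not_normalizer_le_centralizer P (htwo P).1 (htwo P).2 ?_
      rw [H63.normalizer_sylowTwo_alternating (by simpa using h6) P]
      intro x hx
      rw [Subgroup.mem_centralizer_iff]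
      intro y hy
      exact congrArg Subtype.val (hP.is_comm.comm ⟨y, hy⟩ ⟨x, hx⟩)
    by_cases h2p : 2 * p ≤ n
    · left
      obtain ⟨x, hox, hconj⟩ := exists_real_pcycle n p hp2 h2p
      have hzp : IsPGroup p (Subgroup.zpowers x) := by
        refine IsPGroup.of_card (n := 1) ?_
        rw [Nat.card_zpowers, hox, pow_one]
      obtain ⟨Q, hQ⟩ := hzp.exists_le_sylow
      obtain ⟨c, hc⟩ := MulAction.exists_smul_eq (alternatingGroup (Fin n)) Q P
      refine H63.two_dvd_automizer_of_isConj_inv hp2 P hP (x := c * x * c⁻¹) ?_ ?_ ?_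
      · rw [← hc, Sylow.coe_subgroup_smul, Subgroup.mem_pointwise_smul_iff_inv_smul_mem]
        simpa [mul_assoc] using hQ (Subgroup.mem_zpowers x)
      · rw [← hox]
        exact orderOf_injective (MulAut.conj c).toMonoidHom (MulAut.conj c).injective x
      · have h1 : IsConj (c * x * c⁻¹) x := isConj_iff.mpr ⟨c⁻¹, by group⟩
        have h2 : IsConj x⁻¹ (c * x * c⁻¹)⁻¹ := isConj_iff.mpr ⟨c, by group⟩
        exact (h1.trans hconj).trans h2
    · right
      have hv : (Nat.card (alternatingGroup (Fin n))).factorization p ≤ 1 := by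
        rw [hcardA, Nat.factorization_div h2n, Nat.prime_two.factorization]
        simp only [Finsupp.coe_tsub, Pi.sub_apply]
        rw [Finsupp.single_eq_of_ne hp2, Nat.sub_zero, Nat.factorization_def _ hpp]
        have := hpp.two_le
        rw [padicValNat_factorial (b := 2) (Nat.log_lt_of_lt_pow (by omega) (by nlinarith))]
        simp
        have : n / p < 2 := (Nat.div_lt_iff_lt_mul hpp.pos).mpr (by omega)
        omega
      have hPc := P.card_eq_multiplicity
      rcases Nat.le_one_iff_eq_zero_or_eq_one.mp hv with h | h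
      · rw [h, pow_zero] at hPc
        haveI : Subsingleton (P : Subgroup (alternatingGroup (Fin n))) := (Nat.card_eq_one_iff_unique.mp hPc).1
        exact isCyclic_of_subsingleton
      · rw [h, pow_one] at hPc
        exact isCyclic_of_prime_card hPc
  · rintro ⟨rfl, rfl⟩
    have h60 : Nat.card (alternatingGroup (Fin 5)) = 60 := by rw [hcardA]; rfl
    have hP4 : Nat.card (P : Subgroup (alternatingGroup (Fin 5))) = 4 := by
      rw [P.card_eq_multiplicity, h60, show (60 : ℕ) = 2 ^ 2 * 15 from rfl,
        Nat.factorization_mul (by norm_num) (by norm_num), Finsupp.add_apply,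
        Nat.prime_two.factorization_pow, Nat.factorization_eq_zero_of_not_dvd (by norm_num : ¬ 2 ∣ 15)]
      simp
    set N := Subgroup.normalizer ((P : Subgroup (alternatingGroup (Fin 5))) : Set (alternatingGroup (Fin 5))) with hN
    set C := Subgroup.centralizer ((P : Subgroup (alternatingGroup (Fin 5))) : Set (alternatingGroup (Fin 5))) with hC
    have hPC : (P : Subgroup (alternatingGroup (Fin 5))) ≤ C := fun x hx => Subgroup.mem_centralizer_iff.mpr
      fun y hy => congrArg Subtype.val (hP.is_comm.comm ⟨y, hy⟩ ⟨x, hx⟩)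
    have hCN : C < N := lt_of_le_not_ge (Subgroup.centralizer_le_normalizer _)
      (not_normalizer_le_centralizer P (htwo P).1 (htwo P).2)
    have hNtop : N ≠ ⊤ := by
      intro h
      rcases (Subgroup.normalizer_eq_top_iff.mp h).eq_bot_or_eq_top with h1 | h1
      · exact (htwo P).1 h1
      · exact (htwo P).2 h1
    have h1 : Nat.card C < Nat.card N :=
      lt_of_le_of_ne (Subgroup.card_le_of_le hCN.le) fun h => hCN.ne (Subgroup.eq_of_le_of_card_ge hCN.le h.ge)
    have h4C : 4 ∣ Nat.card C := hP4 ▸ Subgroup.card_dvd_of_le hPC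
    have hCNd : Nat.card C ∣ Nat.card N := Subgroup.card_dvd_of_le hCN.le
    have hN60 : Nat.card N ∣ 60 := h60 ▸ Subgroup.card_subgroup_dvd_card N
    have h5 : 5 ≤ N.index := by
      have hcore : N.normalCore = ⊥ := (N.normalCore_normal.eq_bot_or_eq_top).resolve_right
        fun h => hNtop (top_le_iff.mp (h ▸ N.normalCore_le))
      rw [Subgroup.normalCore_eq_ker, MonoidHom.ker_eq_bot_iff] at hcore
      have h := Nat.card_le_card_of_injective _ hcore
      rw [h60, Nat.card_perm, ← Subgroup.index_eq_card] at h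
      by_contra hlt
      have : N.index.factorial ≤ (4 : ℕ).factorial := Nat.factorial_le (by omega)
      have : (4 : ℕ).factorial = 24 := rfl
      omega
    have hmul : Nat.card N * N.index = 60 := by rw [Subgroup.card_mul_index, h60]
    have hrel : C.relIndex N * Nat.card C = Nat.card N := by
      rw [Subgroup.relIndex, mul_comm, ← Nat.card_congr (Subgroup.subgroupOfEquivOfLe hCN.le).toEquiv,
        Subgroup.card_mul_index]
    have hNle : Nat.card N ≤ 12 := by nlinarith
    obtain ⟨a, ha⟩ := h4C
    obtain ⟨b, hb⟩ := hCNd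
    have hapos : 0 < Nat.card C := Nat.card_pos
    refine ⟨?_, ?_⟩
    · change C.relIndex N = 3
      have ha1 : 1 ≤ a := by omega
      have hb3 : b ≤ 3 := by nlinarith
      have ha3 : a ≤ 2 := by nlinarith
      have hrb : C.relIndex N = b := Nat.eq_of_mul_eq_mul_right hapos (by rw [hrel, hb, mul_comm])
      rw [hrb]
      rw [ha] at hb h1
      rw [hb] at hN60 hNle h1
      interval_cases a <;> interval_cases b <;> omega
    · refine ⟨hP4, ?_⟩
      have hexp : Monoid.exponent (P : Subgroup (alternatingGroup (Fin 5))) ∣ 2 := by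
        rw [Monoid.exponent_dvd_iff_forall_pow_eq_one]
        intro x
        rw [← orderOf_dvd_iff_pow_eq_one, ← Subgroup.orderOf_coe]
        have hd : orderOf (x : alternatingGroup (Fin 5)) ∣ 4 := by
          rw [Subgroup.orderOf_coe, ← hP4]; exact orderOf_dvd_natCard x
        have hne : orderOf (x : alternatingGroup (Fin 5)) ≠ 4 := by
          intro h
          have hm := H63.mem_range_orderOf_alt_iff_list.mp (⟨_, h⟩ : (4 : ℕ) ∈ Set.range (orderOf : alternatingGroup (Fin 5) → ℕ))
          revert hm
          decide +kernel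
        have hle := Nat.le_of_dvd (by norm_num) hd
        obtain ⟨c, hc⟩ := hd
        generalize orderOf (x : alternatingGroup (Fin 5)) = o at hne hle hc ⊢
        interval_cases o <;> omega
      refine ((Nat.dvd_prime Nat.prime_two).mp hexp).resolve_left fun h => ?_
      rw [Monoid.exp_eq_one_iff] at h
      have := Nat.card_of_subsingleton (1 : (P : Subgroup (alternatingGroup (Fin 5))))
      omega

end Cfsg.Agent.S2269
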