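import Cfsg.Statements.S2270
import Mathlib

set_option autoImplicit false
open Cfsg

namespace Cfsg.Agent.S2270

/-- Let n ≥ 3, p an odd prime, and P an abelian Sylow p-subgroup of the symmetric group S_n (with p dividing n!, so that P ≠ 1). Then N(P)/C(P) has even order. -/
theorem result (n : ℕ) (hn : 3 ≤ n) {p : ℕ} [Fact p.Prime] (hp : p ≠ 2) (hpn : p ≤ n)
    (P : Sylow p (Equiv.Perm (Fin n))) (hP : IsMulCommutative (P : Subgroup (Equiv.Perm (Fin n)))) :
    2 ∣ ((Subgroup.centralizer ((P : Subgroup (Equiv.Perm (Fin n))) : Set (Equiv.Perm (Fin n)))).subgroupOf (Subgroup.normalizer ((P : Subgroup (Equiv.Perm (Fin n))) : Set (Equiv.Perm (Fin n))))).index := by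
  classical
  have hpp : p.Prime := Fact.out
  set NP := Subgroup.normalizer ((P : Subgroup (Equiv.Perm (Fin n))) : Set (Equiv.Perm (Fin n)))
  set CP := Subgroup.centralizer ((P : Subgroup (Equiv.Perm (Fin n))) : Set (Equiv.Perm (Fin n)))
  have hdvd : p ∣ Nat.card (P : Subgroup (Equiv.Perm (Fin n))) := by
    refine P.dvd_card_of_dvd_card ?_
    rw [Nat.card_eq_fintype_card, Fintype.card_perm, Fintype.card_fin]
    exact Nat.dvd_factorial hpp.pos hpn
  obtain ⟨⟨x, hx⟩, hox⟩ := exists_prime_orderOf_dvd_card' p hdvd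
  rw [Subgroup.orderOf_mk] at hox
  have hconj : IsConj x x⁻¹ := by
    rw [Equiv.Perm.isConj_iff_cycleType_eq, Equiv.Perm.cycleType_inv]
  obtain ⟨g, hg⟩ := isConj_iff.mp hconj
  have hy : g⁻¹⁻¹ * x * g⁻¹ ∈ (P : Subgroup (Equiv.Perm (Fin n))) := by
    rw [inv_inv, hg]; exact inv_mem hx
  obtain ⟨m, hm, hmx⟩ := P.conj_eq_normalizer_conj_of_mem (_hP := hP) x g⁻¹ hx hy
  rw [inv_inv, hg] at hmx
  by_contra hodd
  set i := (CP.subgroupOf NP).index
  have hnorm : (CP.subgroupOf NP).Normal := by infer_instance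
  have hmem : (⟨m, hm⟩ : NP) ^ i ∈ CP.subgroupOf NP := Subgroup.pow_index_mem _ _
  rw [Subgroup.mem_subgroupOf, SubmonoidClass.coe_pow] at hmem
  have hfix := Subgroup.mem_centralizer_iff.mp hmem x hx
  have hiter : ∀ j : ℕ, (m ^ j)⁻¹ * x * m ^ j = x ^ ((-1 : ℤ) ^ j) := by
    intro j
    induction j with
    | zero => simp
    | succ j ih =>
      calc (m ^ (j + 1))⁻¹ * x * m ^ (j + 1) = m⁻¹ * ((m ^ j)⁻¹ * x * m ^ j) * m := by
            rw [pow_succ]; group
        _ = m⁻¹ * x ^ ((-1 : ℤ) ^ j) * m := by rw [ih]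
        _ = (m⁻¹ * x * m) ^ ((-1 : ℤ) ^ j) := by
            exact (map_zpow (MulAut.conj m⁻¹) x _).trans (by simp) |> (fun h => by simpa using h)
        _ = x ^ ((-1 : ℤ) ^ (j + 1)) := by rw [← hmx, pow_succ, mul_comm, zpow_mul]; simp
  have h1 := hiter i
  rw [mul_assoc, hfix, inv_mul_cancel_left,
    Odd.neg_one_pow (Nat.odd_iff.mpr (Nat.two_dvd_ne_zero.mp hodd))] at h1
  have h2 : x ^ 2 = 1 := by
    rw [pow_two]; nth_rewrite 1 [h1]; simp
  have h3 : p ∣ 2 := hox ▸ orderOf_dvd_of_pow_eq_one h2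
  exact hp ((Nat.prime_dvd_prime_iff_eq hpp Nat.prime_two).mp h3)

end Cfsg.Agent.S2270
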