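import Cfsg.Statements.S2272
import Cfsg.Agent.H40.ClassProduct

set_option autoImplicit false
open Cfsg

namespace Cfsg.Agent.S2272

/-- Let F be a finite field and d ≥ 3, and let a, b be non-identity elements of PSL_d(F). Then the product of the conjugacy classes of a and b is not a single conjugacy class: there are conjugates a′ of a and b′ of b such that a′b′ is not conjugate to ab. -/
theorem result {F : Type*} [Field F] [Fintype F] (d : ℕ) (hd : 3 ≤ d)
    (a b : Matrix.ProjectiveSpecialLinearGroup (Fin d) F) (ha : a ≠ 1) (hb : b ≠ 1) :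
    ∃ g h : Matrix.ProjectiveSpecialLinearGroup (Fin d) F, ¬ IsConj (a * b) (g * a * g⁻¹ * (h * b * h⁻¹)) := by
  classical
  by_contra! hall
  induction a using QuotientGroup.induction_on with | H A => ?_
  induction b using QuotientGroup.induction_on with | H B => ?_
  have hA : A ∉ Subgroup.center (Matrix.SpecialLinearGroup (Fin d) F) := fun h => ha ((QuotientGroup.eq_one_iff A).2 h)
  have hB : B ∉ Subgroup.center (Matrix.SpecialLinearGroup (Fin d) F) := fun h => hb ((QuotientGroup.eq_one_iff B).2 h)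
  have key : ∀ s : F, ∃ r : F, r ≠ 0 ∧ s = r * Matrix.trace ((A * B : Matrix.SpecialLinearGroup (Fin d) F) : Matrix (Fin d) (Fin d) F) := by
    intro s
    obtain ⟨g, hg⟩ := H40.exists_trace_eq hd A B hA hB s
    obtain ⟨w, hw⟩ := isConj_iff.1 (hall 1 (g : Matrix.ProjectiveSpecialLinearGroup (Fin d) F))
    induction w using QuotientGroup.induction_on with | H W => ?_
    have hw' : ((W * (A * B) * W⁻¹ : Matrix.SpecialLinearGroup (Fin d) F) : Matrix.ProjectiveSpecialLinearGroup (Fin d) F) =
        ((A * (g * B * g⁻¹) : Matrix.SpecialLinearGroup (Fin d) F) : Matrix.ProjectiveSpecialLinearGroup (Fin d) F) := by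
      simpa [QuotientGroup.mk_mul, QuotientGroup.mk_inv] using hw
    rw [QuotientGroup.eq] at hw'
    obtain ⟨r, hr, hz⟩ := Matrix.SpecialLinearGroup.mem_center_iff.1 hw'
    refine ⟨r, fun h0 => ?_, ?_⟩
    · rw [h0, zero_pow (by simp only [Fintype.card_fin]; omega)] at hr
      exact zero_ne_one hr
    · rw [← hg, show A * (g * B * g⁻¹) = (W * (A * B) * W⁻¹) * ((W * (A * B) * W⁻¹)⁻¹ * (A * (g * B * g⁻¹))) by group,
        Matrix.SpecialLinearGroup.coe_mul, ← hz, Matrix.trace_mul_comm, Matrix.scalar_apply,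
        ← Matrix.smul_one_eq_diagonal, smul_mul_assoc, one_mul, Matrix.trace_smul, smul_eq_mul,
        Matrix.SpecialLinearGroup.coe_mul, Matrix.SpecialLinearGroup.coe_mul, Matrix.trace_mul_cycle,
        ← Matrix.SpecialLinearGroup.coe_mul (A := W⁻¹), inv_mul_cancel, Matrix.SpecialLinearGroup.coe_one, one_mul]
  obtain ⟨r, hr, h0⟩ := key 0
  obtain ⟨r', -, h1⟩ := key 1
  rw [(mul_eq_zero.1 h0.symm).resolve_left hr, mul_zero] at h1
  exact one_ne_zero h1

end Cfsg.Agent.S2272
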