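import Cfsg.Statements.S2276
import Cfsg.Agent.H63.PPowerMain

set_option autoImplicit false
open Cfsg

namespace Cfsg.Agent.S2276

/-- Let n ≥ 5, p ≥ 3 a prime, and u, w non-identity elements of p-power order in the alternating group A_n. Then there is g ∈ A_n such that u·(g w g⁻¹) does not have p-power order and ⟨u, g w g⁻¹⟩ is not solvable. -/
theorem result (n : ℕ) (hn : 5 ≤ n) (p : ℕ) (hp : p.Prime) (hp3 : 3 ≤ p) (u w : alternatingGroup (Fin n)) (hu : u ≠ 1) (hw : w ≠ 1)
    (hu' : ∃ k : ℕ, orderOf u = p ^ k) (hw' : ∃ k : ℕ, orderOf w = p ^ k) :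
    ∃ g : alternatingGroup (Fin n), (¬ ∃ k : ℕ, orderOf (u * (g * w * g⁻¹)) = p ^ k) ∧
      ¬ Group.IsSolvable ↥(Subgroup.closure ({u, g * w * g⁻¹} : Set (alternatingGroup (Fin n)))) := by
  obtain ⟨g, hg, h₁, h₂⟩ := H63.exists_goodPair (α := Fin n) hp hp3 (by simpa using hn)
    (u := (u : Equiv.Perm (Fin n))) (w := (w : Equiv.Perm (Fin n)))
    (fun h => hu (Subtype.ext h)) (fun h => hw (Subtype.ext h))
    (by simpa [Subgroup.orderOf_coe] using hu') (by simpa [Subgroup.orderOf_coe] using hw')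
  refine ⟨⟨g, hg⟩, ?_, fun hs => h₂ ?_⟩
  · rintro ⟨k, hk⟩
    apply h₁ k
    have h := pow_orderOf_eq_one (u * (⟨g, hg⟩ * w * (⟨g, hg⟩ : alternatingGroup (Fin n))⁻¹))
    rw [hk] at h
    simpa using congrArg Subtype.val h
  · have hmap : (Subgroup.closure ({u, (⟨g, hg⟩ : alternatingGroup (Fin n)) * w * (⟨g, hg⟩)⁻¹} :
        Set (alternatingGroup (Fin n)))).map (alternatingGroup (Fin n)).subtype =
        Subgroup.closure ({(u : Equiv.Perm (Fin n)), g * (w : Equiv.Perm (Fin n)) * g⁻¹} : Set _) := by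
      rw [MonoidHom.map_closure, Set.image_pair]
      rfl
    rw [← hmap]
    exact Group.isSolvable_of_surjective ((alternatingGroup (Fin n)).subtype.subgroupMap_surjective _)

end Cfsg.Agent.S2276
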