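import Cfsg.Statements.S2288
import Cfsg.Agent.H40.GlueSmall

set_option autoImplicit false
open Cfsg

namespace Cfsg.Agent.S2288

/-- For every finite field F and n ≥ 4: SL_n(F) has a presentation with 7 generators and at most 25 relations, and PSL_n(F) one with 7 generators and at most 26 relations; moreover SL_4(F) has one with 6 generators and at most 21 relations and SL_5(F) one with 6 generators and at most 22 relations. -/
theorem result {F : Type*} [Field F] [Fintype F] (n : ℕ) (hn : 4 ≤ n) :
    (∃ rels : Finset (FreeGroup (Fin 7)), rels.card ≤ 25 ∧ Nonempty (PresentedGroup (↑rels : Set (FreeGroup (Fin 7))) ≃* Matrix.SpecialLinearGroup (Fin n) F)) ∧ (∃ rels : Finset (FreeGroup (Fin 7)), rels.card ≤ 26 ∧ Nonempty (PresentedGroup (↑rels : Set (FreeGroup (Fin 7))) ≃* Matrix.ProjectiveSpecialLinearGroup (Fin n) F)) ∧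
    (∃ rels : Finset (FreeGroup (Fin 6)), rels.card ≤ 21 ∧ Nonempty (PresentedGroup (↑rels : Set (FreeGroup (Fin 6))) ≃* Matrix.SpecialLinearGroup (Fin 4) F)) ∧ (∃ rels : Finset (FreeGroup (Fin 6)), rels.card ≤ 22 ∧ Nonempty (PresentedGroup (↑rels : Set (FreeGroup (Fin 6))) ≃* Matrix.SpecialLinearGroup (Fin 5) F)) := by
  classical
  have hF : Finite F := Finite.of_fintype F
  have psl : ∀ {g R m : ℕ}, H40.PresN.HasPresN (Matrix.SpecialLinearGroup (Fin m) F) g R → 0 < m →
      H40.PresN.HasPresN (Matrix.ProjectiveSpecialLinearGroup (Fin m) F) g (R + 1) := by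
    intro g R m h hm
    have : NeZero m := ⟨by omega⟩
    have := H40.PSLPres.center_cyclic (F := F) m
    obtain ⟨⟨z, hz⟩, hgen⟩ :=
      IsCyclic.exists_generator (α := Subgroup.center (Matrix.SpecialLinearGroup (Fin m) F))
    have hN : Subgroup.center (Matrix.SpecialLinearGroup (Fin m) F) = Subgroup.normalClosure {z} := by
      refine le_antisymm (fun x hx => ?_)
        (Subgroup.normalClosure_le_normal (Set.singleton_subset_iff.2 hz))
      obtain ⟨k, hk⟩ := Subgroup.mem_zpowers_iff.1 (hgen ⟨x, hx⟩)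
      have hk' : z ^ k = x := (SubgroupClass.coe_zpow _ k).symm.trans (congrArg Subtype.val hk)
      rw [← hk']
      exact Subgroup.zpow_mem _ (Subgroup.subset_normalClosure (Set.mem_singleton z)) k
    exact H40.PresN.HasPresN.quotient_one h (Subgroup.center (Matrix.SpecialLinearGroup (Fin m) F)) z hN
  have h4 := H40.GlueSmall.hasPresN_four_short (F := F)
  have h5 : H40.PresN.HasPresN (Matrix.SpecialLinearGroup (Fin 5) F) 6 22 :=
    H40.SLShort.step (r := 1) (s := 3) (Or.inl rfl) le_rfl h4
  have hn7 : H40.PresN.HasPresN (Matrix.SpecialLinearGroup (Fin n) F) 7 25 := by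
    rcases (show n = 4 ∨ n = 5 ∨ 6 ≤ n by omega) with rfl | rfl | h6
    · exact (H40.SLShort.pad (H40.SLShort.pad h4)).mono (by norm_num)
    · exact (H40.SLShort.pad h5).mono (by norm_num)
    · exact (H40.SLShort.pad (H40.SLShort.hasPresN_SL n h6)).mono (by norm_num)
  exact ⟨hn7, psl hn7 (by omega), (H40.SLShort.pad h4).mono (by norm_num), h5⟩

end Cfsg.Agent.S2288
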