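import Cfsg.Statements.S2292
import Cfsg.Agent.H40.SpPres
import Cfsg.Agent.S2411

set_option autoImplicit false
open Cfsg

namespace Cfsg.Agent.S2292

/-- Let F be a finite field with q elements and m ≥ 2 with (m, q) ≠ (2, 2). Then the simple group PSp_2m(F) has a presentation with 2 generators and at most 80 relations. -/
theorem result {F : Type*} [Field F] [Fintype F] (m : ℕ) (hm : 2 ≤ m) (h22 : ¬ (m = 2 ∧ Fintype.card F = 2)) :
    ∃ rels : Finset (FreeGroup (Fin 2)), rels.card ≤ 80 ∧ Nonempty (PresentedGroup (↑rels : Set (FreeGroup (Fin 2))) ≃* Cfsg.PSp m F) := by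
  classical
  obtain ⟨z, hz⟩ := H40.SpPres.center_normalClosure (F := F) m (by omega)
  have hP := H40.Pres.HasPres.quotient_one (H40.SpPres.hasPres_Sp (F := F) m hm)
    (Subgroup.center (Matrix.symplecticGroup (Fin m) F)) z hz
  obtain ⟨a, b, hab⟩ := Cfsg.Agent.S2411.result (F := F) m hm (fun h => by
    subst h
    have h1 : Fintype.card F ≠ 2 := fun e => h22 ⟨rfl, e⟩
    have := Fintype.one_lt_card (α := F)
    omega)
  obtain ⟨rels, hc, he⟩ := hP.two_gen a b hab
  exact ⟨rels, hc.trans (by norm_num), he⟩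

end Cfsg.Agent.S2292
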