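import Cfsg.Statements.S2296
import Cfsg.Agent.H40.SLShort

set_option autoImplicit false
open Cfsg

namespace Cfsg.Agent.S2296

/-- Let F be a finite field. Sp_2n(F) has a presentation with 10 generators and at most 58 relations for n ≥ 4, with 9 generators and at most 57 relations for n = 4 or 5, and with 8 generators and at most 52 relations for n = 3; in each case PSp_2n(F) has a presentation with the same number of generators and at most one more relation. -/
theorem result {F : Type*} [Field F] [Fintype F] (n : ℕ) :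
    (4 ≤ n → (∃ rels : Finset (FreeGroup (Fin 10)), rels.card ≤ 58 ∧ Nonempty (PresentedGroup (↑rels : Set (FreeGroup (Fin 10))) ≃* Matrix.symplecticGroup (Fin n) F)) ∧ (∃ rels : Finset (FreeGroup (Fin 10)), rels.card ≤ 59 ∧ Nonempty (PresentedGroup (↑rels : Set (FreeGroup (Fin 10))) ≃* Cfsg.PSp n F))) ∧
    ((n = 4 ∨ n = 5) → (∃ rels : Finset (FreeGroup (Fin 9)), rels.card ≤ 57 ∧ Nonempty (PresentedGroup (↑rels : Set (FreeGroup (Fin 9))) ≃* Matrix.symplecticGroup (Fin n) F)) ∧ (∃ rels : Finset (FreeGroup (Fin 9)), rels.card ≤ 58 ∧ Nonempty (PresentedGroup (↑rels : Set (FreeGroup (Fin 9))) ≃* Cfsg.PSp n F))) ∧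
    (n = 3 → (∃ rels : Finset (FreeGroup (Fin 8)), rels.card ≤ 52 ∧ Nonempty (PresentedGroup (↑rels : Set (FreeGroup (Fin 8))) ≃* Matrix.symplecticGroup (Fin n) F)) ∧ (∃ rels : Finset (FreeGroup (Fin 8)), rels.card ≤ 53 ∧ Nonempty (PresentedGroup (↑rels : Set (FreeGroup (Fin 8))) ≃* Cfsg.PSp n F))) := by
  classical
  have : Finite F := Finite.of_fintype F
  have psp : ∀ {g R : ℕ}, 1 ≤ n → H40.PresN.HasPresN (Matrix.symplecticGroup (Fin n) F) g R →
      H40.PresN.HasPresN (Cfsg.PSp n F) g (R + 1) := by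
    intro g R hn h
    obtain ⟨z, hz⟩ := H40.SpPres.center_normalClosure (F := F) n hn
    exact H40.PresN.HasPresN.quotient_one h (Subgroup.center (Matrix.symplecticGroup (Fin n) F)) z hz
  have sp : ∀ {g R : ℕ}, 3 ≤ n → H40.PresN.HasPresN (Matrix.SpecialLinearGroup (Fin n) F) g R →
      H40.PresN.HasPresN (Matrix.symplecticGroup (Fin n) F) (g + 3) (R + 28) := by
    intro g R hn h
    obtain ⟨k, rfl⟩ : ∃ k, n = k + 2 := ⟨n - 2, by omega⟩
    refine (H40.SpPres.hasPresN_Sp (F := F) h).mono ?_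
    rw [if_neg (by omega)]
  have out : ∀ {g R a : ℕ}, 1 ≤ n → H40.PresN.HasPresN (Matrix.symplecticGroup (Fin n) F) g R → R ≤ a →
      (∃ rels : Finset (FreeGroup (Fin g)), rels.card ≤ a ∧ Nonempty (PresentedGroup (↑rels : Set (FreeGroup (Fin g))) ≃* Matrix.symplecticGroup (Fin n) F)) ∧
      (∃ rels : Finset (FreeGroup (Fin g)), rels.card ≤ a + 1 ∧ Nonempty (PresentedGroup (↑rels : Set (FreeGroup (Fin g))) ≃* Cfsg.PSp n F)) :=
    fun hn h ha => ⟨h.mono ha, (psp hn h).mono (by omega)⟩
  refine ⟨fun hn => ?_, fun hn => ?_, fun hn => ?_⟩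
  · rcases (show n = 4 ∨ n = 5 ∨ 6 ≤ n by omega) with rfl | rfl | h6
    · exact out (by omega) (H40.SLShort.pad (H40.SLShort.pad (sp (by omega) H40.SLShort.hasPresN_four))) (by norm_num)
    · exact out (by omega) (H40.SLShort.pad (sp (by omega) H40.SLShort.hasPresN_five)) (by norm_num)
    · exact out (by omega) (H40.SLShort.pad (sp (by omega) (H40.SLShort.hasPresN_SL n h6))) (by norm_num)
  · rcases hn with rfl | rfl
    · exact out (by omega) (H40.SLShort.pad (sp (by omega) H40.SLShort.hasPresN_four)) (by norm_num)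
    · exact out (by omega) (sp (by omega) H40.SLShort.hasPresN_five) (by norm_num)
  · subst hn
    have h3 : H40.PresN.HasPresN (Matrix.SpecialLinearGroup (Fin 3) F) 4 14 := H40.SL3.exists_pres (F := F)
    exact out (by omega) (H40.SLShort.pad (sp le_rfl h3)) (by norm_num)

end Cfsg.Agent.S2296
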