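import Cfsg.Statements.S2298
import Cfsg.Agent.H17.GLInst

set_option autoImplicit false
open Cfsg

namespace Cfsg.Agent.S2298

/-- Over a finite field F with q elements, every irreducible complex character of GL₂ has degree 1, q − 1, q or q + 1; and when q ≥ 3 (so that these four numbers are distinct) there are exactly q − 1 irreducible characters of degree 1, exactly q − 1 of degree q, exactly (q − 1)(q − 2)/2 of degree q + 1 and exactly q(q − 1)/2 of degree q − 1. -/
theorem result {F : Type*} [Field F] [Fintype F] :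
    (∀ χ : Matrix.GeneralLinearGroup (Fin 2) F → ℂ, Cfsg.IsIrrCharacter (Matrix.GeneralLinearGroup (Fin 2) F) χ →
      χ 1 = 1 ∨ χ 1 = (Fintype.card F : ℂ) - 1 ∨ χ 1 = (Fintype.card F : ℂ) ∨ χ 1 = (Fintype.card F : ℂ) + 1) ∧
    (3 ≤ Fintype.card F →
      Nat.card {χ : Cfsg.IrrCharacter (Matrix.GeneralLinearGroup (Fin 2) F) // (χ : Matrix.GeneralLinearGroup (Fin 2) F → ℂ) 1 = 1} = Fintype.card F - 1 ∧
      Nat.card {χ : Cfsg.IrrCharacter (Matrix.GeneralLinearGroup (Fin 2) F) // (χ : Matrix.GeneralLinearGroup (Fin 2) F → ℂ) 1 = (Fintype.card F : ℂ)} = Fintype.card F - 1 ∧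
      Nat.card {χ : Cfsg.IrrCharacter (Matrix.GeneralLinearGroup (Fin 2) F) // (χ : Matrix.GeneralLinearGroup (Fin 2) F → ℂ) 1 = (Fintype.card F : ℂ) + 1} = (Fintype.card F - 1) * (Fintype.card F - 2) / 2 ∧
      Nat.card {χ : Cfsg.IrrCharacter (Matrix.GeneralLinearGroup (Fin 2) F) // (χ : Matrix.GeneralLinearGroup (Fin 2) F → ℂ) 1 = (Fintype.card F : ℂ) - 1} = Fintype.card F * (Fintype.card F - 1) / 2) := by
  classical
  obtain ⟨C, hC⟩ := (H17.glEmb F).exists_nonSplit
  refine ⟨fun χ hχ => ?_, fun hq => ?_⟩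
  · rcases H17.gl_cases hC ⟨χ, hχ⟩ with ⟨_, -, -, d⟩ | ⟨_, -, -, d⟩ | ⟨_, -, d⟩ | ⟨_, -, d⟩
    · exact Or.inr (Or.inr (Or.inr d))
    · exact Or.inr (Or.inl d)
    · exact Or.inl d
    · exact Or.inr (Or.inr (Or.inl d))
  have hq3 : (3 : ℝ) ≤ Fintype.card F := by exact_mod_cast hq
  have hdual : Nat.card (Fˣ →* ℂˣ) = Fintype.card F - 1 := by
    rw [CommGroup.card_monoidHom_of_hasEnoughRootsOfUnity Fˣ ℂ, Nat.card_units, Nat.card_eq_fintype_card]
  have hfT : Nat.card {α : (H17.glD hC).T →* ℂˣ // α.comp (H17.glD hC).σT = α} = Fintype.card F - 1 := by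
    rw [(H17.glD hC).card_fixed_T (H17.gl_fixT hC), H17.gl_card_Z]
  have hfC : Nat.card {α : (H17.glD hC).C →* ℂˣ // α.comp (H17.glD hC).σC = α} = Fintype.card F - 1 := by
    rw [(H17.glD hC).card_fixed_C (H17.gl_fixC hC), H17.gl_card_Z]
  refine ⟨?_, ?_, ?_, ?_⟩
  · rw [← hdual]
    refine (Nat.card_congr (Equiv.ofBijective
      (fun μ : Fˣ →* ℂˣ => (⟨H12.linIrr (H17.detChar μ), by simp [H12.linIrr]⟩ :
        {χ : Cfsg.IrrCharacter (Matrix.GeneralLinearGroup (Fin 2) F) //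
          (χ : Matrix.GeneralLinearGroup (Fin 2) F → ℂ) 1 = 1})) ⟨?_, ?_⟩)).symm
    · exact fun μ ν h => H17.detChar_injective (H12.linIrr_injective (congrArg Subtype.val h))
    · rintro ⟨χ, hd⟩
      rcases H17.gl_cases hC χ with ⟨α, -, e, d⟩ | ⟨θ, -, e, d⟩ | ⟨μ, e, -⟩ | ⟨μ, e, d⟩
      all_goals first
        | exact ⟨μ, Subtype.ext (Subtype.ext e.symm)⟩
        | (exfalso
           have hre := congrArg Complex.re (d.symm.trans hd)
           simp only [Complex.natCast_re, Complex.add_re, Complex.sub_re, Complex.one_re] at hre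
           linarith)
  · rw [← hdual]
    have hst : ∀ μ : Fˣ →* ℂˣ, Cfsg.IsIrrCharacter _ ((H17.glD hC).stein (H17.detChar μ)) := fun μ =>
      (H17.glD hC).isIrr_stein _ (H17.glLin hC μ).2
    refine (Nat.card_congr (Equiv.ofBijective
      (fun μ : Fˣ →* ℂˣ => (⟨⟨(H17.glD hC).stein (H17.detChar μ), hst μ⟩,
          by show (H17.glD hC).stein _ 1 = _; rw [(H17.glD hC).stein_one, H17.glD_q]⟩ :
        {χ : Cfsg.IrrCharacter (Matrix.GeneralLinearGroup (Fin 2) F) //
          (χ : Matrix.GeneralLinearGroup (Fin 2) F → ℂ) 1 = (Fintype.card F : ℂ)})) ⟨?_, ?_⟩)).symm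
    · intro μ ν h
      have e : (H17.glD hC).stein (H17.detChar μ) = (H17.glD hC).stein (H17.detChar ν) :=
        congrArg Subtype.val (congrArg Subtype.val h)
      have e' : (H17.glD hC).mT ((H17.glD hC).stein (H17.detChar μ)) ((H17.glD hC).resT (H17.detChar μ))
          = (H17.glD hC).mT ((H17.glD hC).stein (H17.detChar ν)) ((H17.glD hC).resT (H17.detChar μ)) := by
        rw [e]
      rw [(H17.glD hC).mT_stein (H17.detChar μ) (H17.glLin hC μ).2, (H17.glD hC).mT_stein (H17.detChar ν) (H17.glLin hC ν).2,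
        if_pos rfl] at e'
      by_contra hne
      have hne' : ¬ (H17.glD hC).resT (H17.detChar μ) = (H17.glD hC).resT (H17.detChar ν) := fun hh =>
        hne (H17.detChar_injective (congrArg Subtype.val
          ((H17.glD hC).resT_injective (a₁ := H17.glLin hC μ) (a₂ := H17.glLin hC ν) hh)))
      rw [if_neg hne'] at e'
      exact one_ne_zero e'
    · rintro ⟨χ, hd⟩
      rcases H17.gl_cases hC χ with ⟨α, -, e, d⟩ | ⟨θ, -, e, d⟩ | ⟨μ, e, d⟩ | ⟨μ, e, -⟩
      all_goals first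
        | exact ⟨μ, Subtype.ext (Subtype.ext e.symm)⟩
        | (exfalso
           have hre := congrArg Complex.re (d.symm.trans hd)
           simp only [Complex.natCast_re, Complex.add_re, Complex.sub_re, Complex.one_re] at hre
           linarith)
  · have hc := (H17.glD hC).card_seriesT
    rw [hfT, H17.gl_card_T] at hc
    rw [Nat.card_congr (Equiv.subtypeEquivRight (q := fun χ : Cfsg.IrrCharacter (Matrix.GeneralLinearGroup (Fin 2) F) =>
      ∃ α : (H17.glD hC).T →* ℂˣ, α.comp (H17.glD hC).σT ≠ α ∧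
        (χ : Matrix.GeneralLinearGroup (Fin 2) F → ℂ) = (H17.glD hC).chT α) fun χ => ⟨fun h => ?_, ?_⟩)]
    · generalize Nat.card {χ : Cfsg.IrrCharacter (Matrix.GeneralLinearGroup (Fin 2) F) //
        ∃ α : (H17.glD hC).T →* ℂˣ, α.comp (H17.glD hC).σT ≠ α ∧
          (χ : Matrix.GeneralLinearGroup (Fin 2) F → ℂ) = (H17.glD hC).chT α} = n at hc ⊢
      obtain ⟨k, hk⟩ : ∃ k, Fintype.card F = k + 2 := ⟨Fintype.card F - 2, by omega⟩
      rw [hk, show k + 2 - 1 = k + 1 by omega] at hc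
      rw [hk, show k + 2 - 1 = k + 1 by omega, show k + 2 - 2 = k by omega,
        show (k + 1) * k = n * 2 by linarith, Nat.mul_div_cancel _ two_pos]
    · rcases H17.gl_cases hC χ with ⟨α, hα, e, -⟩ | ⟨θ, -, e, d⟩ | ⟨μ, e, d⟩ | ⟨μ, e, d⟩
      all_goals first
        | exact ⟨α, hα, e⟩
        | (exfalso
           have hre := congrArg Complex.re (d.symm.trans h)
           simp only [Complex.natCast_re, Complex.add_re, Complex.sub_re, Complex.one_re] at hre
           linarith)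
    · rintro ⟨α, -, e⟩
      rw [e, (H17.glD hC).chT_one, H17.glD_q]
  · have hc := (H17.glD hC).card_seriesC
    rw [hfC, H17.gl_card_C] at hc
    rw [Nat.card_congr (Equiv.subtypeEquivRight (q := fun χ : Cfsg.IrrCharacter (Matrix.GeneralLinearGroup (Fin 2) F) =>
      ∃ α : (H17.glD hC).C →* ℂˣ, α.comp (H17.glD hC).σC ≠ α ∧
        (χ : Matrix.GeneralLinearGroup (Fin 2) F → ℂ) = (H17.glD hC).chC α) fun χ => ⟨fun h => ?_, ?_⟩)]
    · generalize Nat.card {χ : Cfsg.IrrCharacter (Matrix.GeneralLinearGroup (Fin 2) F) //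
        ∃ α : (H17.glD hC).C →* ℂˣ, α.comp (H17.glD hC).σC ≠ α ∧
          (χ : Matrix.GeneralLinearGroup (Fin 2) F → ℂ) = (H17.glD hC).chC α} = n at hc ⊢
      obtain ⟨k, hk⟩ : ∃ k, Fintype.card F = k + 1 := ⟨Fintype.card F - 1, by omega⟩
      rw [hk, show k + 1 - 1 = k by omega] at hc
      rw [hk, show k + 1 - 1 = k by omega,
        show (k + 1) * k = n * 2 by linarith, Nat.mul_div_cancel _ two_pos]
    · rcases H17.gl_cases hC χ with ⟨α, -, e, d⟩ | ⟨θ, hθ, e, -⟩ | ⟨μ, e, d⟩ | ⟨μ, e, d⟩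
      all_goals first
        | exact ⟨θ, hθ, e⟩
        | (exfalso
           have hre := congrArg Complex.re (d.symm.trans h)
           simp only [Complex.natCast_re, Complex.add_re, Complex.sub_re, Complex.one_re] at hre
           linarith)
    · rintro ⟨α, -, e⟩
      rw [e, (H17.glD hC).chC_one, H17.glD_q]

end Cfsg.Agent.S2298
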