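import Cfsg.Statements.S2301
import Cfsg.Agent.H40.SL2Split

set_option autoImplicit false
open Cfsg

namespace Cfsg.Agent.S2301

/-- Over a finite field with q elements of odd characteristic p, the elements of order p of SL₂ (the non-identity unipotent elements) fall into exactly two conjugacy classes, each of size (q² − 1)/2; two upper unitriangular matrices with non-zero off-diagonal entries b and b′ are conjugate exactly when bb′ is a square. -/
theorem result {F : Type*} [Field F] [Fintype F] (p : ℕ) [Fact p.Prime] [CharP F p] (hp : p ≠ 2) :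
    Nat.card {C : ConjClasses (Matrix.SpecialLinearGroup (Fin 2) F) // ∃ g : Matrix.SpecialLinearGroup (Fin 2) F, orderOf g = p ∧ ConjClasses.mk g = C} = 2 ∧
    (∀ g : Matrix.SpecialLinearGroup (Fin 2) F, orderOf g = p → Nat.card (ConjClasses.mk g).carrier = (Fintype.card F ^ 2 - 1) / 2) ∧
    ∀ g h : Matrix.SpecialLinearGroup (Fin 2) F, (g : Matrix (Fin 2) (Fin 2) F) 0 0 = 1 → (g : Matrix (Fin 2) (Fin 2) F) 1 1 = 1 → (g : Matrix (Fin 2) (Fin 2) F) 1 0 = 0 → (g : Matrix (Fin 2) (Fin 2) F) 0 1 ≠ 0 →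
      (h : Matrix (Fin 2) (Fin 2) F) 0 0 = 1 → (h : Matrix (Fin 2) (Fin 2) F) 1 1 = 1 → (h : Matrix (Fin 2) (Fin 2) F) 1 0 = 0 → (h : Matrix (Fin 2) (Fin 2) F) 0 1 ≠ 0 →
      (IsConj g h ↔ IsSquare ((g : Matrix (Fin 2) (Fin 2) F) 0 1 * (h : Matrix (Fin 2) (Fin 2) F) 0 1)) := by
  classical
  have hchar : ringChar F ≠ 2 := by rw [ringChar.eq F p]; exact hp
  have h2 : (2 : F) ≠ 0 := Ring.two_ne_zero hchar
  obtain ⟨e, he⟩ := FiniteField.exists_nonsquare hchar
  have he0 : e ≠ 0 := by rintro rfl; exact he (IsSquare.zero)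
  obtain ⟨ε, rfl⟩ : ∃ ε : Fˣ, (ε : F) = e := ⟨Units.mk0 e he0, rfl⟩
  have h24 : (2 : F) ^ 2 = 4 := by norm_num
  refine ⟨?_, ?_, ?_⟩
  · have hset : {C : ConjClasses (Matrix.SpecialLinearGroup (Fin 2) F) |
        ∃ g : Matrix.SpecialLinearGroup (Fin 2) F, orderOf g = p ∧ ConjClasses.mk g = C} =
        {ConjClasses.mk (H40.compSL 2), ConjClasses.mk (H40.twist2 ε 2)} := by
      ext C
      constructor
      · rintro ⟨g, hg, rfl⟩
        obtain ⟨hs, ht⟩ := (H40.orderOf_SL2_eq_p_iff g).1 hg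
        rcases H40.isConj_comp_or_twist h2 he hs ht h24 with h | h
        · exact Or.inl (ConjClasses.mk_eq_mk_iff_isConj.2 h)
        · exact Or.inr (ConjClasses.mk_eq_mk_iff_isConj.2 h)
      · rintro (rfl | rfl)
        · exact ⟨_, (H40.orderOf_SL2_eq_p_iff _).2 ⟨H40.ns_compSL 2, H40.trace_compSL 2⟩, rfl⟩
        · exact ⟨_, (H40.orderOf_SL2_eq_p_iff _).2 ⟨H40.ns_twist2 ε 2, H40.trace_twist2 ε 2⟩, rfl⟩
    show Nat.card ↥{C : ConjClasses (Matrix.SpecialLinearGroup (Fin 2) F) |
        ∃ g : Matrix.SpecialLinearGroup (Fin 2) F, orderOf g = p ∧ ConjClasses.mk g = C} = 2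
    rw [hset, Nat.card_coe_set_eq, Set.ncard_pair]
    exact fun h => H40.not_isConj_comp_twist h2 he h24 (ConjClasses.mk_eq_mk_iff_isConj.1 h)
  · intro g hg
    obtain ⟨hs, ht⟩ := (H40.orderOf_SL2_eq_p_iff g).1 hg
    have hC := H40.card_centralizer_SL2 hs
    have e : Nat.card {ab : F × F // ab.1 ^ 2 + ab.1 * ab.2 * (g : Matrix (Fin 2) (Fin 2) F).trace +
        ab.2 ^ 2 = 1} = Nat.card ({s : F // s ^ 2 = 1} × F) := by
      refine Nat.card_congr
        { toFun := fun ab => (⟨ab.1.1 + ab.1.2, ?_⟩, ab.1.2)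
          invFun := fun sb => ⟨(sb.1.1 - sb.2, sb.2), ?_⟩
          left_inv := fun ab => by simp
          right_inv := fun sb => by simp }
      · have := ab.2
        simp only [ht] at this
        linear_combination this
      · have := sb.1.2
        simp only [ht]
        linear_combination this
    have e2 : Nat.card {s : F // s ^ 2 = 1} = 2 := by
      show Nat.card ↥{s : F | s ^ 2 = 1} = 2
      rw [show {s : F | s ^ 2 = 1} = {1, -1} by ext s; simp, Nat.card_coe_set_eq, Set.ncard_pair]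
      intro h
      exact h2 (by linear_combination h)
    rw [e, Nat.card_prod, e2, Nat.card_eq_fintype_card (α := F)] at hC
    have hm := H40.card_class_mul g
    rw [hC, H40.card_SL2] at hm
    have h' : Nat.card (ConjClasses.mk g).carrier * 2 * Fintype.card F =
        (Fintype.card F ^ 2 - 1) * Fintype.card F := by rw [mul_assoc, hm, mul_comm]
    have := Nat.eq_of_mul_eq_mul_right Fintype.card_pos h'
    omega
  · intro g h hg0 hg1 hg10 hg01 hh0 hh1 hh10 hh01
    have hsg : ¬ H40.IsScalar2 (g : Matrix (Fin 2) (Fin 2) F) := fun h => hg01 h.1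
    have hsh : ¬ H40.IsScalar2 (h : Matrix (Fin 2) (Fin 2) F) := fun h => hh01 h.1
    rw [H40.trace2_isConj_iff h2 hsg hsh (by simp [Matrix.trace_fin_two, hg0, hg1, hh0, hh1])
      (by simp [Matrix.trace_fin_two, hg0, hg1]; norm_num)
      (Matrix.diagonal ![(h : Matrix (Fin 2) (Fin 2) F) 0 1, (g : Matrix (Fin 2) (Fin 2) F) 0 1])
      (by simp [hg01, hh01]) ?_]
    · simp [mul_comm]
    · ext i j
      fin_cases i <;> fin_cases j <;>
        simp [Matrix.mul_apply, Fin.sum_univ_two, hg0, hg1, hg10, hh0, hh1, hh10, mul_comm]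

end Cfsg.Agent.S2301
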