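import Cfsg.Statements.S2302
import Cfsg.Agent.H40.GL2Count

set_option autoImplicit false
open Cfsg

namespace Cfsg.Agent.S2302

/-- Over a finite field with q elements of characteristic 2, the involutions of SL₂ (the non-identity unipotent elements) form a single conjugacy class, of size q² − 1. -/
theorem result {F : Type*} [Field F] [Fintype F] [CharP F 2] (g h : Matrix.SpecialLinearGroup (Fin 2) F) (hg : orderOf g = 2) (hh : orderOf h = 2) :
    IsConj g h ∧ Nat.card (ConjClasses.mk g).carrier = Fintype.card F ^ 2 - 1 := by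
  obtain ⟨hg1, hg2⟩ := (H40.orderOf_SL2_eq_p_iff g).1 hg
  obtain ⟨hh1, hh2⟩ := (H40.orderOf_SL2_eq_p_iff h).1 hh
  refine ⟨H40.isConj_SL2_of_trace hg1 hh1 (by rw [hg2, hh2]) (Or.inr (ringChar.eq F 2)), ?_⟩
  have hC := H40.card_centralizer_SL2 hg1
  have h20 : (2 : F) = 0 := CharTwo.two_eq_zero
  have e : Nat.card {ab : F × F // ab.1 ^ 2 + ab.1 * ab.2 * (g : Matrix (Fin 2) (Fin 2) F).trace +
      ab.2 ^ 2 = 1} = Fintype.card F := by
    rw [← Nat.card_eq_fintype_card]
    refine Nat.card_congr
      { toFun := fun ab => ab.1.2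
        invFun := fun b => ⟨(1 - b, b), ?_⟩
        left_inv := ?_
        right_inv := fun b => rfl }
    · rw [hg2]; ring
    · rintro ⟨⟨a, b⟩, hab⟩
      rw [hg2] at hab
      have h : (a + b - 1) ^ 2 = 0 := by linear_combination hab - (a + b - 1) * h20
      have h' : a + b - 1 = 0 := eq_zero_of_pow_eq_zero h
      refine Subtype.ext (Prod.ext ?_ rfl)
      show 1 - b = a
      linear_combination -h'
  rw [e] at hC
  have hm := H40.card_class_mul g
  rw [hC, H40.card_SL2, mul_comm (Fintype.card F)] at hm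
  exact Nat.eq_of_mul_eq_mul_right Fintype.card_pos hm

end Cfsg.Agent.S2302
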