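import Cfsg.Statements.S2303
import Cfsg.Agent.H40.GL2Count

set_option autoImplicit false
open Cfsg

namespace Cfsg.Agent.S2303

/-- Over a finite field with q elements: a diagonal element of GL₂ with two distinct diagonal entries has centralizer of order (q − 1)² (so q(q + 1) conjugates), and an element of GL₂ with no eigenvector in F² has centralizer of order q² − 1 (so q(q − 1) conjugates). -/
theorem result {F : Type*} [Field F] [Fintype F] (g : Matrix.GeneralLinearGroup (Fin 2) F) :
    ((g : Matrix (Fin 2) (Fin 2) F) 0 1 = 0 → (g : Matrix (Fin 2) (Fin 2) F) 1 0 = 0 → (g : Matrix (Fin 2) (Fin 2) F) 0 0 ≠ (g : Matrix (Fin 2) (Fin 2) F) 1 1 →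
      Nat.card (Subgroup.centralizer ({g} : Set (Matrix.GeneralLinearGroup (Fin 2) F))) = (Fintype.card F - 1) ^ 2) ∧
    ((∀ (c : F) (v : Fin 2 → F), v ≠ 0 → (g : Matrix (Fin 2) (Fin 2) F).mulVec v ≠ c • v) →
      Nat.card (Subgroup.centralizer ({g} : Set (Matrix.GeneralLinearGroup (Fin 2) F))) = Fintype.card F ^ 2 - 1) := by
  refine ⟨fun h01 h10 h00 => ?_, fun hnone => ?_⟩
  · have hns : ¬ H40.IsScalar2 (g : Matrix (Fin 2) (Fin 2) F) := fun h => h00 h.2.2
    rw [H40.card_centralizer_GL2 hns]
    set α := (g : Matrix (Fin 2) (Fin 2) F) 0 0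
    set β := (g : Matrix (Fin 2) (Fin 2) F) 1 1
    have key : ∀ a b : F, a ^ 2 + a * b * (g : Matrix (Fin 2) (Fin 2) F).trace +
        b ^ 2 * (g : Matrix (Fin 2) (Fin 2) F).det = (a + b * α) * (a + b * β) := by
      intro a b
      simp only [Matrix.trace_fin_two, Matrix.det_fin_two, h01, h10]
      ring
    simp only [key, mul_ne_zero_iff]
    have hαβ : α - β ≠ 0 := sub_ne_zero.2 h00
    rw [show (Fintype.card F - 1) ^ 2 = Nat.card (Fˣ × Fˣ) by
      classical rw [Nat.card_prod, Nat.card_eq_fintype_card, Fintype.card_units, sq]]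
    refine Nat.card_congr
      { toFun := fun ab => (Units.mk0 _ ab.2.1, Units.mk0 _ ab.2.2)
        invFun := fun uv => ⟨((α * (uv.2 : F) - β * uv.1) / (α - β), ((uv.1 : F) - uv.2) / (α - β)), ?_⟩
        left_inv := ?_
        right_inv := ?_ }
    · constructor
      · have : (α * (uv.2 : F) - β * uv.1) / (α - β) + ((uv.1 : F) - uv.2) / (α - β) * α = uv.1 := by
          field_simp; ring
        rw [this]; exact uv.1.ne_zero
      · have : (α * (uv.2 : F) - β * uv.1) / (α - β) + ((uv.1 : F) - uv.2) / (α - β) * β = uv.2 := by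
          field_simp; ring
        rw [this]; exact uv.2.ne_zero
    · rintro ⟨⟨a, b⟩, hab⟩
      refine Subtype.ext (Prod.ext ?_ ?_) <;> simp only [Units.val_mk0] <;> field_simp <;> ring
    · rintro ⟨u, v⟩
      refine Prod.ext (Units.ext ?_) (Units.ext ?_) <;> simp only [Units.val_mk0] <;> field_simp <;> ring
  · have hev : ∀ c : F, ((g : Matrix (Fin 2) (Fin 2) F) - c • (1 : Matrix (Fin 2) (Fin 2) F)).det ≠ 0 := by
      intro c hc
      obtain ⟨v, hv, hv'⟩ := Matrix.exists_mulVec_eq_zero_iff.2 hc
      apply hnone c v hv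
      rwa [Matrix.sub_mulVec, sub_eq_zero, Matrix.smul_mulVec, Matrix.one_mulVec] at hv'
    have hns : ¬ H40.IsScalar2 (g : Matrix (Fin 2) (Fin 2) F) := by
      rintro ⟨h01, h10, h00⟩
      apply hev ((g : Matrix (Fin 2) (Fin 2) F) 0 0)
      simp [Matrix.det_fin_two, h01]
    rw [H40.card_centralizer_GL2 hns]
    classical
    rw [Nat.card_eq_fintype_card, show Fintype.card F ^ 2 - 1 =
      Fintype.card (F × F) - Fintype.card {x : F × F // x = (0, 0)} by
        rw [Fintype.card_prod, Fintype.card_subtype_eq, sq],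
      ← Fintype.card_subtype_compl]
    refine Fintype.card_congr (Equiv.subtypeEquivRight ?_)
    rintro ⟨a, b⟩
    constructor
    · intro h h'
      rw [Prod.mk.injEq] at h'
      apply h
      simp [h'.1, h'.2]
    · intro h h'
      by_cases hb : b = 0
      · subst hb
        simp at h'
        exact h (by simp [h'])
      · apply hev (-a / b)
        simp [Matrix.det_fin_two]
        simp only [Matrix.trace_fin_two, Matrix.det_fin_two] at h'
        field_simp
        linear_combination h'

end Cfsg.Agent.S2303
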