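import Cfsg.Statements.S2305
import Cfsg.Agent.H21.PrincipalSeries

set_option autoImplicit false
open Cfsg

namespace Cfsg.Agent.S2305

/-- Over a finite field F, for multiplicative characters α, β, α′, β′ of F, the characters of GL₂ induced from the linear characters b ↦ α(b₁₁) β(b₂₂) and b ↦ α′(b₁₁) β′(b₂₂) of the upper triangular subgroup coincide exactly when {α, β} = {α′, β′} as unordered pairs. -/
theorem result {F : Type*} [Field F] [Fintype F] [DecidableEq F] (α β α' β' : MulChar F ℂ) :
    Cfsg.indFun (Cfsg.upperTriangularGL 2 F) (fun b => α (((b : Matrix.GeneralLinearGroup (Fin 2) F) : Matrix (Fin 2) (Fin 2) F) 0 0) * β (((b : Matrix.GeneralLinearGroup (Fin 2) F) : Matrix (Fin 2) (Fin 2) F) 1 1)) = Cfsg.indFun (Cfsg.upperTriangularGL 2 F) (fun b => α' (((b : Matrix.GeneralLinearGroup (Fin 2) F) : Matrix (Fin 2) (Fin 2) F) 0 0) * β' (((b : Matrix.GeneralLinearGroup (Fin 2) F) : Matrix (Fin 2) (Fin 2) F) 1 1)) ↔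
      (α = α' ∧ β = β') ∨ (α = β' ∧ β = α') := by
  classical
  constructor
  · intro h
    have h1 := H21.classInner_principalGL α β α β
    have h2 := H21.classInner_principalGL α β α' β'
    rw [← h, h1] at h2
    by_contra hne
    rw [not_or, not_and_or, not_and_or] at hne
    have hz : ((if α = α' then (1 : ℂ) else 0) * if β = β' then 1 else 0) +
        (if α = β' then 1 else 0) * (if β = α' then 1 else 0) = 0 := by
      rcases hne with ⟨h3 | h3, h4 | h4⟩ <;> simp [h3, h4]
    rw [hz, if_pos rfl, if_pos rfl] at h2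
    rcases eq_or_ne α β with h5 | h5
    · simp [h5] at h2
    · simp [h5] at h2
  · rintro (⟨rfl, rfl⟩ | ⟨rfl, rfl⟩)
    · rfl
    · funext g
      refine (H21.indFun_borel (MonoidHom.id _) (fun _ => H21.upperTriangularGL_mem) H21.repGL
        (fun _ => rfl) (fun a d => α a * β d) _ (fun _ => rfl) g).trans ?_
      refine Eq.trans ?_ (H21.indFun_borel (MonoidHom.id _) (fun _ => H21.upperTriangularGL_mem)
        H21.repGL (fun _ => rfl) (fun a d => β a * α d) _ (fun _ => rfl) g).symm
      rw [← H21.borelSum_swap]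
      simp only [mul_comm (α _)]

end Cfsg.Agent.S2305
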