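import Cfsg.Statements.S2306
import Cfsg.Agent.H21.IndChar

set_option autoImplicit false
open Cfsg

namespace Cfsg.Agent.S2306

/-- Over a finite field F, for a multiplicative character α of F, the function induced to SL₂ from the linear character b ↦ α(b₁₁) of the upper triangular subgroup is an irreducible character if and only if α² ≠ 1. -/
theorem result {F : Type*} [Field F] [Fintype F] [DecidableEq F] (α : MulChar F ℂ) :
    Cfsg.IsIrrCharacter (Matrix.SpecialLinearGroup (Fin 2) F) (Cfsg.indFun ((Cfsg.upperTriangularGL 2 F).comap Matrix.SpecialLinearGroup.toGL) (fun b => α (((b : Matrix.SpecialLinearGroup (Fin 2) F) : Matrix (Fin 2) (Fin 2) F) 0 0))) ↔ α ^ 2 ≠ 1 := by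
  classical
  have hchar : Cfsg.IsCharacter (Matrix.SpecialLinearGroup (Fin 2) F)
      (Cfsg.indFun ((Cfsg.upperTriangularGL 2 F).comap Matrix.SpecialLinearGroup.toGL)
        (fun b => α (((b : Matrix.SpecialLinearGroup (Fin 2) F) : Matrix (Fin 2) (Fin 2) F) 0 0))) := by
    refine H21.indFun_isCharacter _ ?_
    have h := H21.borel_linear_isCharacter (B := (Cfsg.upperTriangularGL 2 F).comap
      Matrix.SpecialLinearGroup.toGL) Matrix.SpecialLinearGroup.toGL
      (fun _ => H21.upperTriangularSL_mem) α 1
    convert h using 1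
    funext b
    have hu : IsUnit ((b.1 : Matrix (Fin 2) (Fin 2) F) 1 1) := by
      have := b.1.2
      rw [Matrix.det_fin_two, H21.upperTriangularSL_mem.1 b.2, mul_zero, sub_zero] at this
      exact isUnit_iff_ne_zero.2 (right_ne_zero_of_mul_eq_one this)
    rw [Matrix.SpecialLinearGroup.coe_GL_coe_matrix, MulChar.one_apply hu, mul_one]
  have hn := H21.classInner_principalSL α α
  rw [if_pos rfl] at hn
  constructor
  · intro hirr h2
    have h1 := H12.classInner_irr_self
      (⟨_, hirr⟩ : Cfsg.IrrCharacter (Matrix.SpecialLinearGroup (Fin 2) F))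
    rw [if_pos (by rw [eq_inv_iff_mul_eq_one, ← sq, h2])] at hn
    rw [hn] at h1
    norm_num at h1
  · intro h2
    refine H12.isIrrCharacter_of_classInner_self_eq_one hchar ?_
    rw [if_neg (fun e => h2 (by rw [sq, ← eq_inv_iff_mul_eq_one]; exact e)), add_zero] at hn
    exact hn

end Cfsg.Agent.S2306
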