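import Cfsg.Statements.S2309
import Cfsg.Agent.H17.GLInst

set_option autoImplicit false
open Cfsg

namespace Cfsg.Agent.S2309

/-- Over a finite field F with q elements: every irreducible complex character of GL₂ of degree q − 1 vanishes at every diagonal matrix with two distinct entries, and every irreducible complex character of degree q + 1 vanishes at every element with no eigenvector in F². -/
theorem result {F : Type*} [Field F] [Fintype F] (χ : Matrix.GeneralLinearGroup (Fin 2) F → ℂ) (hχ : Cfsg.IsIrrCharacter (Matrix.GeneralLinearGroup (Fin 2) F) χ) (g : Matrix.GeneralLinearGroup (Fin 2) F) :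
    (χ 1 = (Fintype.card F : ℂ) - 1 → (g : Matrix (Fin 2) (Fin 2) F) 0 1 = 0 → (g : Matrix (Fin 2) (Fin 2) F) 1 0 = 0 → (g : Matrix (Fin 2) (Fin 2) F) 0 0 ≠ (g : Matrix (Fin 2) (Fin 2) F) 1 1 → χ g = 0) ∧
    (χ 1 = (Fintype.card F : ℂ) + 1 → (∀ (c : F) (v : Fin 2 → F), v ≠ 0 → (g : Matrix (Fin 2) (Fin 2) F).mulVec v ≠ c • v) → χ g = 0) := by
  classical
  obtain ⟨C, hC⟩ := (H17.glEmb F).exists_nonSplit
  refine ⟨fun hd h01 h10 h => ?_, fun hd h => ?_⟩
  · obtain ⟨t, ht, rfl⟩ := H17.gl_diag hC h01 h10 h
    rcases H17.gl_cases hC ⟨χ, hχ⟩ with ⟨α, -, e, d⟩ | ⟨θ, -, e, -⟩ | ⟨μ, e, d⟩ | ⟨μ, e, d⟩ <;>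
      simp only at e
    · exfalso
      have := congrArg Complex.re (hd.symm.trans d)
      simp at this
      linarith
    · rw [e]; exact (H17.glD hC).chC_T θ t ht
    · exfalso
      apply h
      have hc := congrArg Complex.re (hd.symm.trans d)
      simp at hc
      have hq : Fintype.card F = 2 := by
        exact_mod_cast (show (Fintype.card F : ℝ) = 2 by linarith)
      have hu : ∀ a : F, a ≠ 0 → a = 1 := fun a ha => by
        have := FiniteField.pow_card_sub_one_eq_one a ha
        rwa [hq, pow_one] at this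
      obtain ⟨n0, n1⟩ := (H17.glEmb F).diag_ne t
      exact (hu _ n0).trans (hu _ n1).symm
    · exfalso
      have := congrArg Complex.re (hd.symm.trans d)
      simp at this
  · rcases H17.gl_cases hC ⟨χ, hχ⟩ with ⟨α, -, e, -⟩ | ⟨θ, -, e, d⟩ | ⟨μ, e, d⟩ | ⟨μ, e, d⟩ <;>
      simp only at e
    · obtain ⟨c, hc, hcj⟩ := H17.gl_noEig_conj hC h
      rw [e, H12.IsClassFunction.of_isConj ((H17.glD hC).isClassFunction_chT α) hcj]
      exact (H17.glD hC).chT_C α c hc
    · exfalso
      have := congrArg Complex.re (hd.symm.trans d)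
      simp at this
      linarith
    · exfalso
      have := congrArg Complex.re (hd.symm.trans d)
      simp at this
    · exfalso
      have := congrArg Complex.re (hd.symm.trans d)
      simp at this

end Cfsg.Agent.S2309
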