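import Cfsg.Statements.S2310
import Cfsg.Agent.H17.GLInst

set_option autoImplicit false
open Cfsg

namespace Cfsg.Agent.S2310

/-- Over a finite field F with q ≥ 3 elements, let u be the upper unitriangular matrix of GL₂ with off-diagonal entry 1. An irreducible complex character χ of GL₂ takes at u the value 1 if χ has degree 1 or q + 1, the value −1 if χ has degree q − 1, and the value 0 if χ has degree q. -/
theorem result {F : Type*} [Field F] [Fintype F] (hq : 3 ≤ Fintype.card F) (χ : Matrix.GeneralLinearGroup (Fin 2) F → ℂ) (hχ : Cfsg.IsIrrCharacter (Matrix.GeneralLinearGroup (Fin 2) F) χ)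
    (u : Matrix.GeneralLinearGroup (Fin 2) F) (hu : (u : Matrix (Fin 2) (Fin 2) F) = !![1, 1; 0, 1]) :
    (χ 1 = 1 → χ u = 1) ∧ (χ 1 = (Fintype.card F : ℂ) + 1 → χ u = 1) ∧
    (χ 1 = (Fintype.card F : ℂ) - 1 → χ u = -1) ∧ (χ 1 = (Fintype.card F : ℂ) → χ u = 0) := by
  classical
  obtain ⟨C, hC⟩ := (H17.glEmb F).exists_nonSplit
  have hu' : u = (H17.glD hC).u (Multiplicative.ofAdd (1 : F)) := by
    refine (H17.glEmb F).mm_inj ?_
    rw [show (H17.glD hC).u = (H17.glEmb F).uhom from rfl, H17.Emb2.mm_uhom, toAdd_ofAdd]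
    exact hu
  have ha : Multiplicative.ofAdd (1 : F) ≠ 1 := by simp
  have hq3 : (3 : ℝ) ≤ Fintype.card F := by exact_mod_cast hq
  rcases H17.gl_cases hC ⟨χ, hχ⟩ with ⟨α, -, e, d⟩ | ⟨θ, -, e, d⟩ | ⟨μ, e, d⟩ | ⟨μ, e, d⟩ <;>
    simp only at e
  all_goals
    refine ⟨fun h => ?_, fun h => ?_, fun h => ?_, fun h => ?_⟩
  all_goals
    have hre := congrArg Complex.re (d.symm.trans h)
    simp only [Complex.natCast_re, Complex.add_re, Complex.sub_re, Complex.one_re] at hre
  all_goals first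
    | (exfalso; linarith)
    | skip
  · rw [e, hu']
    have := (H17.glD hC).chT_U α 1 ha
    simpa using this
  · rw [e, hu']
    have := (H17.glD hC).chC_U θ 1 ha
    simpa using this
  · rw [e, hu']
    show ((H17.detChar μ ((H17.glD hC).u _) : ℂˣ) : ℂ) = 1
    rw [H17.detChar, MonoidHom.comp_apply, H17.det_gl_u, map_one, Units.val_one]
  · rw [e, hu']
    have := (H17.glD hC).stein_U (H17.detChar μ) 1 ha
    simpa using this

end Cfsg.Agent.S2310
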