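import Cfsg.Statements.S2315
import Cfsg.Agent.H40.NilCount

set_option autoImplicit false
open Cfsg

namespace Cfsg.Agent.S2315

/-- Steinberg's count of unipotent elements for the general linear group: over a finite field with q elements of characteristic p, the number of elements of GL_n of p-power order (the unipotent matrices) is q^(n(n−1)). -/
theorem result {F : Type*} [Field F] [Fintype F] (p : ℕ) [Fact p.Prime] [CharP F p] (n : ℕ) :
    Nat.card {g : Matrix.GeneralLinearGroup (Fin n) F // ∃ k : ℕ, orderOf g = p ^ k} = Fintype.card F ^ (n * (n - 1)) := by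
  classical
  have hp : p.Prime := Fact.out
  rcases Nat.eq_zero_or_pos n with hn | hn
  · subst hn
    haveI : Subsingleton (Matrix.GeneralLinearGroup (Fin 0) F) :=
      ⟨fun a b => Units.ext (Subsingleton.elim _ _)⟩
    have h1 : ∃ k : ℕ, orderOf (1 : Matrix.GeneralLinearGroup (Fin 0) F) = p ^ k := ⟨0, by simp⟩
    haveI : Nonempty {g : Matrix.GeneralLinearGroup (Fin 0) F // ∃ k : ℕ, orderOf g = p ^ k} := ⟨⟨1, h1⟩⟩
    rw [Nat.card_eq_one_iff_unique.2 ⟨inferInstance, inferInstance⟩, Nat.zero_mul, pow_zero]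
  haveI : Nonempty (Fin n) := ⟨⟨0, hn⟩⟩
  have hchar : ∀ (M : Matrix (Fin n) (Fin n) F) (k : ℕ), (M - 1) ^ p ^ k = 0 ↔ M ^ p ^ k = 1 := by
    intro M k
    rw [sub_pow_char_pow_of_commute p k (Commute.one_right M), one_pow, sub_eq_zero]
  have hord : ∀ g : Matrix.GeneralLinearGroup (Fin n) F,
      (∃ k : ℕ, orderOf g = p ^ k) ↔ IsNilpotent ((g : Matrix (Fin n) (Fin n) F) - 1) := by
    intro g
    constructor
    · rintro ⟨k, hk⟩
      refine ⟨p ^ k, (hchar _ k).2 ?_⟩
      rw [← Units.val_pow_eq_pow_val, ← hk, pow_orderOf_eq_one, Units.val_one]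
    · rintro ⟨j, hj⟩
      have h1 : g ^ p ^ j = 1 := by
        apply Units.ext
        rw [Units.val_pow_eq_pow_val, Units.val_one, ← hchar]
        exact pow_eq_zero_of_le (Nat.lt_pow_self hp.one_lt).le hj
      obtain ⟨k, -, hk⟩ := (Nat.dvd_prime_pow hp).1 (orderOf_dvd_of_pow_eq_one h1)
      exact ⟨k, hk⟩
  rw [← H40.nilCount_eq n]
  let e : Matrix (Fin n) (Fin n) F ≃ₐ[F] Module.End F (Fin n → F) := Matrix.toLinAlgEquiv'
  refine Nat.card_congr
    { toFun := fun g => ⟨e (g.1.1 - 1), ((hord g.1).1 g.2).map e⟩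
      invFun := fun A => ⟨(A.2.map e.symm).isUnit_one_add.unit, (hord _).2 (by
        rw [IsUnit.unit_spec, add_sub_cancel_left]; exact A.2.map e.symm)⟩
      left_inv := fun g => Subtype.ext (Units.ext (by
        rw [IsUnit.unit_spec, AlgEquiv.symm_apply_apply, add_sub_cancel]))
      right_inv := fun A => Subtype.ext (by
        show e (((A.2.map e.symm).isUnit_one_add.unit : Matrix (Fin n) (Fin n) F) - 1) = A.1
        rw [IsUnit.unit_spec, add_sub_cancel_left, AlgEquiv.apply_symm_apply]) }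

end Cfsg.Agent.S2315
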