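import Cfsg.Statements.S2317
import Cfsg.Agent.H51.Jordan

set_option autoImplicit false
open Cfsg

namespace Cfsg.Agent.S2317

lemma sub_one_pow_eq {F : Type*} [Field F] (p k : ℕ) [Fact p.Prime] [CharP F p] {n : ℕ}
    (A : Matrix (Fin n) (Fin n) F) : (A - 1) ^ (p ^ k) = A ^ (p ^ k) - 1 := by
  have h : ((Polynomial.X : Polynomial F) - 1) ^ (p ^ k) = Polynomial.X ^ (p ^ k) - 1 := by
    rw [sub_pow_char_pow, one_pow]
  simpa using congrArg (Polynomial.aeval A) h

lemma isConj_of_isConj_coe {F : Type*} [Field F] {n : ℕ} {g h : Matrix.GeneralLinearGroup (Fin n) F}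
    (hc : IsConj (g : Matrix (Fin n) (Fin n) F) (h : Matrix (Fin n) (Fin n) F)) : IsConj g h := by
  obtain ⟨c, hc⟩ := hc
  exact ⟨toUnits c, Units.ext hc⟩

/-- Over a finite field of characteristic p, the conjugacy classes of GL_n consisting of elements of p-power order (the unipotent classes) are as many as the partitions of n. -/
theorem result {F : Type*} [Field F] [Fintype F] (p : ℕ) [Fact p.Prime] [CharP F p] (n : ℕ) :
    Nat.card {C : ConjClasses (Matrix.GeneralLinearGroup (Fin n) F) //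
      ∃ g : Matrix.GeneralLinearGroup (Fin n) F, (∃ k : ℕ, orderOf g = p ^ k) ∧ ConjClasses.mk g = C} =
      Fintype.card (Nat.Partition n) := by
  classical
  have hp : p.Prime := Fact.out
  -- unipotent elements are exactly the elements of prime power order
  have hnil : ∀ g : Matrix.GeneralLinearGroup (Fin n) F, (∃ k : ℕ, orderOf g = p ^ k) →
      IsNilpotent ((g : Matrix (Fin n) (Fin n) F) - 1) := by
    rintro g ⟨k, hk⟩
    refine ⟨p ^ k, ?_⟩
    rw [sub_one_pow_eq p k, ← Units.val_pow_eq_pow_val, ← hk, pow_orderOf_eq_one, Units.val_one, sub_self]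
  have hex : ∀ μ : Nat.Partition n, ∃ g : Matrix.GeneralLinearGroup (Fin n) F,
      (∃ k : ℕ, orderOf g = p ^ k) ∧ ∃ (t : ℕ) (d : Fin t → ℕ) (hd : ∀ k, 1 ≤ d k)
        (e : ((k : Fin t) × Fin (d k)) ≃ Fin n), H51.jordanPartition d hd e = μ ∧
        IsConj (Matrix.reindex e e (Cfsg.jordanTypeMatrix d F)) (g : Matrix (Fin n) (Fin n) F) := by
    intro μ
    obtain ⟨t, d, hd, e, he⟩ := H51.exists_of_partition μ
    set A := Matrix.reindex e e (Cfsg.jordanTypeMatrix d F) with hA
    have hdn : ∀ k, d k ≤ n := by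
      intro k
      have hc := Fintype.card_congr e
      simp only [Fintype.card_sigma, Fintype.card_fin] at hc
      rw [← hc]; exact Finset.single_le_sum (fun _ _ => Nat.zero_le _) (Finset.mem_univ k)
    have h0 : (A - 1) ^ (p ^ n) = 0 := by
      have : (A - 1) ^ (p ^ n) = Matrix.reindex e e ((Cfsg.jordanTypeMatrix d F - 1) ^ (p ^ n)) := by
        rw [hA, ← Matrix.reindexAlgEquiv_apply F F e, ← Matrix.reindexAlgEquiv_apply F F e, map_pow,
          map_sub, map_one]
      rw [this, H51.jordanType_pow_eq_zero fun k => (hdn k).trans (Nat.lt_pow_self hp.one_lt).le]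
      simp
    have hA1 : A ^ (p ^ n) = 1 := by rwa [sub_one_pow_eq p n, sub_eq_zero] at h0
    obtain ⟨g, hg⟩ : IsUnit A := IsUnit.of_pow_eq_one hA1 (pow_ne_zero _ hp.ne_zero)
    have hgp : g ^ (p ^ n) = 1 := Units.ext (by rw [Units.val_pow_eq_pow_val, hg, hA1, Units.val_one])
    obtain ⟨k, -, hk⟩ := (Nat.dvd_prime_pow hp).1 (orderOf_dvd_of_pow_eq_one hgp)
    exact ⟨g, ⟨k, hk⟩, t, d, hd, e, he, by rw [hg]⟩
  choose g hgp t d hd e hμ hconj using hex
  rw [← Nat.card_eq_fintype_card]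
  refine (Nat.card_congr (Equiv.ofBijective
    (fun μ => (⟨ConjClasses.mk (g μ), g μ, hgp μ, rfl⟩ :
      {C : ConjClasses (Matrix.GeneralLinearGroup (Fin n) F) //
        ∃ g : Matrix.GeneralLinearGroup (Fin n) F, (∃ k : ℕ, orderOf g = p ^ k) ∧ ConjClasses.mk g = C}))
    ⟨fun μ ν h => ?_, ?_⟩)).symm
  · have hc : IsConj (g μ : Matrix (Fin n) (Fin n) F) (g ν : Matrix (Fin n) (Fin n) F) :=
      (Units.coeHom (Matrix (Fin n) (Fin n) F)).map_isConj (ConjClasses.mk_eq_mk_iff_isConj.1 (Subtype.ext_iff.1 h))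
    rw [← hμ μ, ← hμ ν]
    refine Nat.Partition.ext (H51.map_eq_of_sum_sub_eq (hd μ) (hd ν) fun j => ?_)
    rw [← H51.rank_of_isConj_jordanType (e μ) (hconj μ), ← H51.rank_of_isConj_jordanType (e ν) (hconj ν),
      H51.rank_eq_of_isConj (H51.isConj_sub_one_pow hc j)]
  · rintro ⟨C, u, hu, rfl⟩
    obtain ⟨t', d', e', hd', hu'⟩ := H51.exists_jordanType _ (hnil u hu)
    refine ⟨H51.jordanPartition d' hd' e', Subtype.ext (ConjClasses.mk_eq_mk_iff_isConj.2 ?_)⟩
    set μ := H51.jordanPartition d' hd' e' with hμdef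
    have hparts : Finset.univ.val.map (d μ) = Finset.univ.val.map d' :=
      congrArg Nat.Partition.parts (hμ μ)
    exact isConj_of_isConj_coe ((hconj μ).symm.trans ((H51.isConj_of_map_eq (e μ) e' hparts).trans hu'))

end Cfsg.Agent.S2317
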