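import Cfsg.Statements.S2319
import Cfsg.Agent.H21.HeckeRealise
import Cfsg.Agent.H52.ChevBN
import Cfsg.Agent.H52.Order
import Cfsg.Agent.S1039

set_option autoImplicit false
open Cfsg

/-- an isomorphism of groups gives a bijection of classes -/
def H21.conjClassesCongr {A B : Type*} [Group A] [Group B] (e : A ≃* B) : ConjClasses A ≃ ConjClasses B where
  toFun := ConjClasses.map e.toMonoidHom
  invFun := ConjClasses.map e.symm.toMonoidHom
  left_inv c := by
    obtain ⟨a, rfl⟩ := ConjClasses.mk_surjective c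
    exact congrArg ConjClasses.mk (e.symm_apply_apply a)
  right_inv c := by
    obtain ⟨a, rfl⟩ := ConjClasses.mk_surjective c
    exact congrArg ConjClasses.mk (e.apply_symm_apply a)

namespace Cfsg.Agent.S2319

/-- In a Chevalley group of type G₂, B₂, D₄, F₄, E₆, E₇ or E₈ over a finite field, the number of distinct irreducible constituents of the permutation character on the cosets of B = UH equals the number of conjugacy classes (equivalently, of irreducible characters) of the Weyl group, the Coxeter group of the type with nodes numbered as the fundamental roots. -/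
theorem result {F : Type*} [Field F] [Fintype F]
    (dw : Cfsg.Lie.ChevalleyDatum × (Σ n : ℕ, CoxeterMatrix (Fin n)))
    (hdw : dw ∈ [(Cfsg.Lie.chevG2, ⟨2, CoxeterMatrix.G₂⟩), (Cfsg.Lie.chevB2, ⟨2, CoxeterMatrix.B 2⟩), (Cfsg.Lie.chevD4, ⟨4, Cfsg.Lie.coxeterD4⟩), (Cfsg.Lie.chevF4, ⟨4, CoxeterMatrix.F₄⟩),
      (Cfsg.Lie.chevE6, ⟨6, CoxeterMatrix.E₆⟩), (Cfsg.Lie.chevE7, ⟨7, CoxeterMatrix.E₇⟩), (Cfsg.Lie.chevE8, ⟨8, CoxeterMatrix.E₈⟩)]) :
    Nat.card {χ : Cfsg.IrrCharacter ↥(dw.1.group F) //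
      ∃ φ : ↥(dw.1.group F) → ℂ, Cfsg.IsCharacter ↥(dw.1.group F) φ ∧
        Cfsg.fixedPointCharacter ((dw.1.borelSubgroup F).subgroupOf (dw.1.group F)) = (χ : ↥(dw.1.group F) → ℂ) + φ} =
      Nat.card (ConjClasses dw.2.2.Group) := by
  have hmem : dw.1 ∈ [Lie.chevG2, Lie.chevB2, Lie.chevD4, Lie.chevF4, Lie.chevE6, Lie.chevE7, Lie.chevE8] := by
    simpa using List.mem_map_of_mem (f := Prod.fst) hdw
  obtain ⟨T, ⟨K⟩⟩ := H52.bnData_of_mem hmem
  obtain ⟨φ, hsurj, hker, -⟩ := Cfsg.Agent.S1039.result (F := F) dw hdw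
  rw [← K.pair_B]
  haveI : Fintype ↥(dw.1.group F) := Fintype.ofFinite _
  have hq : ∀ s : (K.pair F).S, H56.thick (K.pair F) s = Fintype.card F := by
    rintro ⟨_, i, rfl⟩
    exact (H21.thick_rootSys K.axioms' K.sep i).trans (K.card_U _)
  rw [H21.Hecke.constituents_card (K.pair F) hq Fintype.card_ne_zero]
  let e : (K.pair F).N →* ↥(dw.1.monomialSubgroup F) :=
    { toFun := fun g => ⟨(g : ↥(dw.1.group F)).1, by
        have h : (g : ↥(dw.1.group F)) ∈ (dw.1.monomialSubgroup F).subgroupOf (dw.1.group F) := by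
          rw [← K.pair_N]; exact g.2
        exact h⟩
      map_one' := rfl
      map_mul' := fun _ _ => rfl }
  have he : Function.Surjective e := fun g => by
    refine ⟨⟨⟨g.1, K.chk.monomial_le_group g.2⟩, ?_⟩, rfl⟩
    rw [K.pair_N]
    exact g.2
  have hk : (φ.comp e).ker = ((K.pair F).B ⊓ (K.pair F).N).subgroupOf (K.pair F).N := by
    ext g
    rw [← MonoidHom.comap_ker, Subgroup.mem_comap, hker, Subgroup.mem_subgroupOf,
      Subgroup.mem_subgroupOf, Subgroup.mem_inf, and_iff_left g.2, K.pair_B, Subgroup.mem_subgroupOf]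
    refine ⟨fun h => ?_, fun h => ?_⟩
    · rw [← K.borel_inf_monomial (F := F)] at h
      exact (Subgroup.mem_inf.1 h).1
    · rw [← K.borel_inf_monomial (F := F)]
      exact Subgroup.mem_inf.2 ⟨h, (e g).2⟩
  refine Nat.card_congr (H21.conjClassesCongr ((QuotientGroup.quotientMulEquivOfEq hk.symm).trans
    (QuotientGroup.quotientKerEquivOfSurjective (φ.comp e) (hsurj.comp he))))

end Cfsg.Agent.S2319
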