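import Cfsg.Statements.S2320
import Cfsg.Agent.H17.GLInst

set_option autoImplicit false
open Cfsg

namespace Cfsg.Agent.S2320

/-- Over a finite field F with q elements, every irreducible complex character of GL₂ of degree q takes a value of absolute value 1 at every diagonal matrix with two different diagonal entries and at every element with no eigenvector in F². -/
theorem result {F : Type*} [Field F] [Fintype F] (χ : Matrix.GeneralLinearGroup (Fin 2) F → ℂ) (hχ : Cfsg.IsIrrCharacter (Matrix.GeneralLinearGroup (Fin 2) F) χ) (hdeg : χ 1 = (Fintype.card F : ℂ)) (g : Matrix.GeneralLinearGroup (Fin 2) F) :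
    ((g : Matrix (Fin 2) (Fin 2) F) 0 1 = 0 → (g : Matrix (Fin 2) (Fin 2) F) 1 0 = 0 → (g : Matrix (Fin 2) (Fin 2) F) 0 0 ≠ (g : Matrix (Fin 2) (Fin 2) F) 1 1 → ‖χ g‖ = 1) ∧
    ((∀ (c : F) (v : Fin 2 → F), v ≠ 0 → (g : Matrix (Fin 2) (Fin 2) F).mulVec v ≠ c • v) → ‖χ g‖ = 1) := by
  classical
  obtain ⟨C, hC⟩ := (H17.glEmb F).exists_nonSplit
  have hq2 : (2 : ℝ) ≤ Fintype.card F := by exact_mod_cast Fintype.one_lt_card (α := F)
  obtain ⟨μ, e⟩ : ∃ μ : Fˣ →* ℂˣ, χ = (H17.glD hC).stein (H17.detChar μ) := by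
    rcases H17.gl_cases hC ⟨χ, hχ⟩ with ⟨α, -, e, d⟩ | ⟨θ, -, e, d⟩ | ⟨μ, e, d⟩ | ⟨μ, e, -⟩
    all_goals first
      | exact ⟨μ, e⟩
      | (exfalso
         have hre := congrArg Complex.re (d.symm.trans hdeg)
         simp only [Complex.natCast_re, Complex.add_re, Complex.sub_re, Complex.one_re] at hre
         linarith)
  refine ⟨fun h01 h10 h => ?_, fun h => ?_⟩
  · obtain ⟨t, ht, rfl⟩ := H17.gl_diag hC h01 h10 h
    rw [e, (H17.glD hC).stein_T _ t ht]
    exact H17.norm_dual _ _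
  · obtain ⟨c, hc, hcj⟩ := H17.gl_noEig_conj hC h
    rw [e, H12.IsClassFunction.of_isConj ((H17.glD hC).isClassFunction_stein _) hcj,
      (H17.glD hC).stein_C _ c hc, norm_neg]
    exact H17.norm_dual _ _

end Cfsg.Agent.S2320
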