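import Cfsg.Statements.S2321
import Cfsg.Agent.H17.SLDegree

set_option autoImplicit false
open Cfsg

namespace Cfsg.Agent.S2321

/-- Over a finite field F with q elements, an irreducible complex character of SL₂ of degree q (the Steinberg character) takes the value 1 at every diagonal matrix whose diagonal entry a has a² ≠ 1, the value −1 at every element with no eigenvector in F², and the value 0 at every upper triangular matrix with equal diagonal entries and non-zero upper right entry. -/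
theorem result {F : Type*} [Field F] [Fintype F] (χ : Matrix.SpecialLinearGroup (Fin 2) F → ℂ) (hχ : Cfsg.IsIrrCharacter (Matrix.SpecialLinearGroup (Fin 2) F) χ) (hdeg : χ 1 = (Fintype.card F : ℂ)) (g : Matrix.SpecialLinearGroup (Fin 2) F) :
    ((g : Matrix (Fin 2) (Fin 2) F) 0 1 = 0 → (g : Matrix (Fin 2) (Fin 2) F) 1 0 = 0 → (g : Matrix (Fin 2) (Fin 2) F) 0 0 ^ 2 ≠ 1 → χ g = 1) ∧
    ((∀ (c : F) (v : Fin 2 → F), v ≠ 0 → (g : Matrix (Fin 2) (Fin 2) F).mulVec v ≠ c • v) → χ g = -1) ∧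
    ((g : Matrix (Fin 2) (Fin 2) F) 1 0 = 0 → (g : Matrix (Fin 2) (Fin 2) F) 0 0 = (g : Matrix (Fin 2) (Fin 2) F) 1 1 → (g : Matrix (Fin 2) (Fin 2) F) 0 1 ≠ 0 → χ g = 0) := by
  classical
  obtain ⟨C, hC⟩ := (H17.slEmb F).exists_nonSplit
  rw [H17.sl_degree_q hC hχ hdeg]
  refine ⟨fun h01 h10 h => ?_, fun h => ?_, fun h10 heq h01 => ?_⟩
  · have := (H17.slD hC).stein_T 1 ⟨g, H17.mem_slT hC h01 h10⟩ (H17.slT_of_diag hC h01 h10 h)
    simpa using this
  · obtain ⟨c, hc, hcj⟩ := H17.sl_noEig_conj hC h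
    rw [H12.IsClassFunction.of_isConj ((H17.slD hC).isClassFunction_stein 1) hcj,
      (H17.slD hC).stein_C 1 c hc]
    simp
  · obtain ⟨z, a, ha, e⟩ := H17.sl_eq_zu hC h10 heq h01
    rw [e]
    exact (H17.slD hC).stein_U 1 z ha

end Cfsg.Agent.S2321
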