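import Cfsg.Statements.S2322
import Cfsg.Agent.H17.SLDegree

set_option autoImplicit false
open Cfsg

namespace Cfsg.Agent.S2322

/-- Over a finite field F with q elements, q odd: every irreducible complex character of SL₂ of degree q − 1 or (q − 1)/2 vanishes at every diagonal matrix whose diagonal entry a has a² ≠ 1, and every irreducible complex character of degree q + 1 or (q + 1)/2 vanishes at every element with no eigenvector in F². -/
theorem result {F : Type*} [Field F] [Fintype F] (hodd : Odd (Fintype.card F)) (χ : Matrix.SpecialLinearGroup (Fin 2) F → ℂ) (hχ : Cfsg.IsIrrCharacter (Matrix.SpecialLinearGroup (Fin 2) F) χ) (g : Matrix.SpecialLinearGroup (Fin 2) F) :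
    ((χ 1 = (Fintype.card F : ℂ) - 1 ∨ χ 1 = (((Fintype.card F - 1) / 2 : ℕ) : ℂ)) →
      (g : Matrix (Fin 2) (Fin 2) F) 0 1 = 0 → (g : Matrix (Fin 2) (Fin 2) F) 1 0 = 0 → (g : Matrix (Fin 2) (Fin 2) F) 0 0 ^ 2 ≠ 1 → χ g = 0) ∧
    ((χ 1 = (Fintype.card F : ℂ) + 1 ∨ χ 1 = (((Fintype.card F + 1) / 2 : ℕ) : ℂ)) →
      (∀ (c : F) (v : Fin 2 → F), v ≠ 0 → (g : Matrix (Fin 2) (Fin 2) F).mulVec v ≠ c • v) → χ g = 0) := by
  classical
  obtain ⟨C, hC⟩ := (H17.slEmb F).exists_nonSplit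
  obtain ⟨O⟩ := H17.nonempty_slOdd hC hodd
  obtain ⟨hP, -, hM, hHP, hHM, -⟩ := H17.sl_odd_by_degree hC hodd O hχ
  refine ⟨fun hd h01 h10 h => ?_, fun hd h => ?_⟩
  · have hC0 : ∀ θ, (H17.slD hC).chC θ g = 0 := fun θ => H17.chC_diag hC θ h01 h10 h
    rcases hd with hd | hd
    · rcases hM hd with ⟨θ, -, e⟩ | ⟨h3, -⟩
      · rw [e]; exact hC0 θ
      · exact (H17.no_regular_diag_three h3 h01 h).elim
    · rcases hHM hd with e | ⟨h3, -⟩
      · obtain ⟨-, -, -, -, -, hval⟩ := (H17.slD hC).halfC O.θ_fix O.isoC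
        exact (hval ⟨χ, hχ⟩ e).2.1 ⟨g, H17.mem_slT hC h01 h10⟩ (H17.slT_of_diag hC h01 h10 h)
      · exact (H17.no_regular_diag_three h3 h01 h).elim
  · rcases hd with hd | hd
    · obtain ⟨α, -, e⟩ := hP hd
      rw [e]; exact H17.chT_noEig hC α h
    · rcases hHP hd with e | ⟨h3, θ, hθ, e⟩
      · obtain ⟨c, hc, hcj⟩ := H17.sl_noEig_conj hC h
        obtain ⟨-, -, -, -, -, hval⟩ := (H17.slD hC).halfT O.η_fix O.isoT
        have hcf : Cfsg.IsClassFunction _ χ := H12.irr_isClassFunction ⟨χ, hχ⟩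
        rw [H12.IsClassFunction.of_isConj hcf hcj]
        exact (hval ⟨χ, hχ⟩ e).2.2 c hc
      · rw [e]; exact H17.chC_noEig_three hC h3 hθ h

end Cfsg.Agent.S2322
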