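import Cfsg.Statements.S2323
import Cfsg.Agent.H17.SLDegree

set_option autoImplicit false
open Cfsg

namespace Cfsg.Agent.S2323

/-- Over a finite field F with q ≥ 4 elements, let u be the upper unitriangular matrix of SL₂ with off-diagonal entry 1. An irreducible complex character of SL₂ takes at u the value 1 if its degree is q + 1 and the value −1 if its degree is q − 1. -/
theorem result {F : Type*} [Field F] [Fintype F] (hq : 4 ≤ Fintype.card F) (χ : Matrix.SpecialLinearGroup (Fin 2) F → ℂ) (hχ : Cfsg.IsIrrCharacter (Matrix.SpecialLinearGroup (Fin 2) F) χ)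
    (u : Matrix.SpecialLinearGroup (Fin 2) F) (hu : (u : Matrix (Fin 2) (Fin 2) F) = !![1, 1; 0, 1]) :
    (χ 1 = (Fintype.card F : ℂ) + 1 → χ u = 1) ∧ (χ 1 = (Fintype.card F : ℂ) - 1 → χ u = -1) := by
  classical
  obtain ⟨C, hC⟩ := (H17.slEmb F).exists_nonSplit
  have hu' : u = (H17.slD hC).u (Multiplicative.ofAdd (1 : F)) := by
    have e := H17.sl_eq_u hC (g := u) (by rw [hu]; simp) (by rw [hu]; simp) (by rw [hu]; simp)
    rw [hu] at e
    simpa using e
  have hne : Multiplicative.ofAdd (1 : F) ≠ 1 := by simp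
  rcases H17.odd_or_two_eq_zero (F := F) with ho | he
  · obtain ⟨O⟩ := H17.nonempty_slOdd hC ho
    obtain ⟨hP, -, hM, -⟩ := H17.sl_odd_by_degree hC ho O hχ
    refine ⟨fun hd => ?_, fun hd => ?_⟩
    · obtain ⟨α, -, e⟩ := hP hd
      rw [e, hu']; exact H17.chT_u hC α hne
    · rcases hM hd with ⟨θ, -, e⟩ | ⟨h3, -⟩
      · rw [e, hu']; exact H17.chC_u hC θ hne
      · omega
  · obtain ⟨hP, -, hM, -⟩ := H17.sl_even_by_degree hC he hχ
    refine ⟨fun hd => ?_, fun hd => ?_⟩
    · obtain ⟨α, -, e⟩ := hP hd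
      rw [e, hu']; exact H17.chT_u hC α hne
    · rcases hM hd with ⟨θ, -, e⟩ | ⟨h3, -⟩
      · rw [e, hu']; exact H17.chC_u hC θ hne
      · omega

end Cfsg.Agent.S2323
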