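import Cfsg.Statements.S2324
import Cfsg.Agent.H17.SLDegree

set_option autoImplicit false
open Cfsg

namespace Cfsg.Agent.S2324

/-- Over a finite field F with q elements, q odd and q ≥ 5, let u be the upper unitriangular matrix of SL₂ with off-diagonal entry 1 and let δ = (−1)^((q−1)/2). Every irreducible complex character χ of SL₂ of degree (q + 1)/2 satisfies (2χ(u) − 1)² = δq, and every irreducible complex character χ of degree (q − 1)/2 satisfies (2χ(u) + 1)² = δq; that is, χ(u) = (1 ± √(δq))/2 in the first case and χ(u) = (−1 ± √(δq))/2 in the second. Moreover two different irreducible characters of degree (q + 1)/2 take the two different values (their values at u add up to 1), and likewise for degree (q − 1)/2 (values adding up to −1). -/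
theorem result {F : Type*} [Field F] [Fintype F] (hodd : Odd (Fintype.card F)) (hq : 5 ≤ Fintype.card F)
    (u : Matrix.SpecialLinearGroup (Fin 2) F) (hu : (u : Matrix (Fin 2) (Fin 2) F) = !![1, 1; 0, 1]) :
    (∀ χ : Matrix.SpecialLinearGroup (Fin 2) F → ℂ, Cfsg.IsIrrCharacter (Matrix.SpecialLinearGroup (Fin 2) F) χ → χ 1 = (((Fintype.card F + 1) / 2 : ℕ) : ℂ) → (2 * χ u - 1) ^ 2 = (-1 : ℂ) ^ ((Fintype.card F - 1) / 2) * (Fintype.card F : ℂ)) ∧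
    (∀ χ : Matrix.SpecialLinearGroup (Fin 2) F → ℂ, Cfsg.IsIrrCharacter (Matrix.SpecialLinearGroup (Fin 2) F) χ → χ 1 = (((Fintype.card F - 1) / 2 : ℕ) : ℂ) → (2 * χ u + 1) ^ 2 = (-1 : ℂ) ^ ((Fintype.card F - 1) / 2) * (Fintype.card F : ℂ)) ∧
    (∀ χ₁ χ₂ : Matrix.SpecialLinearGroup (Fin 2) F → ℂ, Cfsg.IsIrrCharacter (Matrix.SpecialLinearGroup (Fin 2) F) χ₁ → Cfsg.IsIrrCharacter (Matrix.SpecialLinearGroup (Fin 2) F) χ₂ → χ₁ ≠ χ₂ →
      χ₁ 1 = (((Fintype.card F + 1) / 2 : ℕ) : ℂ) → χ₂ 1 = (((Fintype.card F + 1) / 2 : ℕ) : ℂ) → χ₁ u + χ₂ u = 1) ∧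
    (∀ χ₁ χ₂ : Matrix.SpecialLinearGroup (Fin 2) F → ℂ, Cfsg.IsIrrCharacter (Matrix.SpecialLinearGroup (Fin 2) F) χ₁ → Cfsg.IsIrrCharacter (Matrix.SpecialLinearGroup (Fin 2) F) χ₂ → χ₁ ≠ χ₂ →
      χ₁ 1 = (((Fintype.card F - 1) / 2 : ℕ) : ℂ) → χ₂ 1 = (((Fintype.card F - 1) / 2 : ℕ) : ℂ) → χ₁ u + χ₂ u = -1) := by
  classical
  obtain ⟨C, hC⟩ := (H17.slEmb F).exists_nonSplit
  obtain ⟨O⟩ := H17.nonempty_slOdd hC hodd
  have hu' : u = H17.slu hC 1 := by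
    have e := H17.sl_eq_u hC (g := u) (by rw [hu]; simp) (by rw [hu]; simp) (by rw [hu]; simp)
    rw [hu] at e
    simpa [H17.slu] using e
  have hne : Multiplicative.ofAdd (1 : F) ≠ 1 := by simp
  have hT : ∀ χ, IsIrrCharacter (Matrix.SpecialLinearGroup (Fin 2) F) χ →
      χ 1 = (((Fintype.card F + 1) / 2 : ℕ) : ℂ) → (H17.slD hC).mT χ O.η ≠ 0 := fun χ hχ hd =>
    ((H17.sl_odd_by_degree hC hodd O hχ).2.2.2.1 hd).resolve_right fun h => by omega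
  have hCc : ∀ χ, IsIrrCharacter (Matrix.SpecialLinearGroup (Fin 2) F) χ →
      χ 1 = (((Fintype.card F - 1) / 2 : ℕ) : ℂ) → (H17.slD hC).mC χ O.θ₀ ≠ 0 := fun χ hχ hd =>
    ((H17.sl_odd_by_degree hC hodd O hχ).2.2.2.2.1 hd).resolve_right fun h => by omega
  refine ⟨fun χ hχ hd => ?_, fun χ hχ hd => ?_, fun χ₁ χ₂ h₁ h₂ hne' d₁ d₂ => ?_,
    fun χ₁ χ₂ h₁ h₂ hne' d₁ d₂ => ?_⟩
  · rw [hu']; exact (H17.halfT_values hC hodd O ⟨χ, hχ⟩ (hT χ hχ hd)).2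
  · rw [hu']; exact (H17.halfC_values hC hodd O ⟨χ, hχ⟩ (hCc χ hχ hd)).2
  · obtain ⟨ψ₁, ψ₂, -, hsum, hiff, -⟩ := (H17.slD hC).halfT O.η_fix O.isoT
    have a₁ := (hiff ⟨χ₁, h₁⟩).1 (hT χ₁ h₁ d₁)
    have a₂ := (hiff ⟨χ₂, h₂⟩).1 (hT χ₂ h₂ d₂)
    have hv : (H17.slD hC).chT O.η u = 1 := by rw [hu']; exact H17.chT_u hC O.η hne
    rw [hsum, Pi.add_apply] at hv
    rcases a₁ with e₁ | e₁ <;> rcases a₂ with e₂ | e₂ <;>
      subst e₁ <;> first
        | exact absurd (congrArg Subtype.val e₂).symm hne'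
        | (subst e₂; first | exact hv | exact (add_comm _ _).trans hv)
  · obtain ⟨ψ₁, ψ₂, -, hsum, hiff, -⟩ := (H17.slD hC).halfC O.θ_fix O.isoC
    have a₁ := (hiff ⟨χ₁, h₁⟩).1 (hCc χ₁ h₁ d₁)
    have a₂ := (hiff ⟨χ₂, h₂⟩).1 (hCc χ₂ h₂ d₂)
    have hv : (H17.slD hC).chC O.θ₀ u = -1 := by rw [hu']; exact H17.chC_u hC O.θ₀ hne
    rw [hsum, Pi.add_apply] at hv
    rcases a₁ with e₁ | e₁ <;> rcases a₂ with e₂ | e₂ <;>
      subst e₁ <;> first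
        | exact absurd (congrArg Subtype.val e₂).symm hne'
        | (subst e₂; first | exact hv | exact (add_comm _ _).trans hv)

end Cfsg.Agent.S2324
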