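import Cfsg.Statements.S2328
import Cfsg.Agent.H21.SteinbergChev
import Cfsg.Agent.S2326
import Cfsg.Agent.S0165

set_option autoImplicit false
open Cfsg

namespace Cfsg.Agent.S2328

/-- In a Chevalley group of type G₂, B₂, D₄, F₄, E₆, E₇ or E₈ over a finite field of characteristic p, the Steinberg character vanishes at every element whose order is divisible by p (every element that is not semisimple). -/
theorem result {F : Type*} [Field F] [Fintype F] (p : ℕ) [Fact p.Prime] [CharP F p] (D : Cfsg.Lie.ChevalleyDatum) (hD : D ∈ [Cfsg.Lie.chevG2, Cfsg.Lie.chevB2, Cfsg.Lie.chevD4, Cfsg.Lie.chevF4, Cfsg.Lie.chevE6, Cfsg.Lie.chevE7, Cfsg.Lie.chevE8]) (g : ↥(D.group F)) (hg : p ∣ orderOf g) :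
    D.steinbergCharacter F g = 0 := by
  obtain ⟨T, ⟨K⟩⟩ := H52.bnData_of_mem hD
  obtain ⟨n, ρ, hρ, he⟩ := H21.steinberg_irr (F := F) K
  haveI := hρ
  haveI : Finite ↥(D.group F) := inferInstance
  obtain ⟨P, hP⟩ := Cfsg.Agent.S2326.result (F := F) p D hD
  have hle : D.posUnipotent F ≤ D.group F := by
    rw [← K.map_Uplus]; exact Subgroup.map_subtype_le _
  have hcard : Fintype.card F ^ (D.nroots / 2) = p ^ (Nat.card ↥(D.group F)).factorization p := by
    rw [← P.card_eq_multiplicity, ← K.chk.card_posUnipotent]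
    show _ = Nat.card (P : Subgroup ↥(D.group F))
    rw [hP]
    exact (Nat.card_congr (Subgroup.subgroupOfEquivOfLe hle).toEquiv).symm
  have hfr : Module.finrank ℂ (Fin n → ℂ) = p ^ (Nat.card ↥(D.group F)).factorization p := by
    have h1 := congrFun he 1
    rw [Representation.char_one, H21.steinberg_one K, ← Nat.cast_pow, hcard] at h1
    exact Nat.cast_injective h1
  rw [← he]
  exact Cfsg.Agent.S0165.result ρ p _ (Fact.out) (Nat.ordProj_dvd _ p)
    (Nat.pow_succ_factorization_not_dvd Nat.card_pos.ne' Fact.out) (hfr ▸ dvd_rfl) g hg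

end Cfsg.Agent.S2328
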