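import Cfsg.Statements.S2330
import Cfsg.Agent.H40.SL2Split

set_option autoImplicit false
open Cfsg

namespace Cfsg.Agent.S2330

/-- Over a finite field with q elements, the general linear group GL₂ has exactly q² − 1 conjugacy classes. -/
theorem result {F : Type*} [Field F] [Fintype F] :
    Nat.card (ConjClasses (Matrix.GeneralLinearGroup (Fin 2) F)) = Fintype.card F ^ 2 - 1 := by
  classical
  let S : Fˣ → Matrix.GeneralLinearGroup (Fin 2) F := fun a =>
    Matrix.GeneralLinearGroup.mkOfDetNeZero ((a : F) • (1 : Matrix (Fin 2) (Fin 2) F)) (by simp)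
  let C : F × Fˣ → Matrix.GeneralLinearGroup (Fin 2) F := fun td =>
    Matrix.GeneralLinearGroup.mkOfDetNeZero (H40.comp2 td.1 (td.2 : F)) (by simp)
  have hS : ∀ a, H40.IsScalar2 ((S a : Matrix.GeneralLinearGroup (Fin 2) F) : Matrix (Fin 2) (Fin 2) F) :=
    fun a => by simp [S, H40.IsScalar2]
  have hC : ∀ td, ¬ H40.IsScalar2 ((C td : Matrix.GeneralLinearGroup (Fin 2) F) : Matrix (Fin 2) (Fin 2) F) :=
    fun td => H40.not_isScalar2_comp2 _ _
  let f : Fˣ ⊕ (F × Fˣ) → ConjClasses (Matrix.GeneralLinearGroup (Fin 2) F) :=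
    Sum.elim (fun a => ConjClasses.mk (S a)) (fun td => ConjClasses.mk (C td))
  have hf : Function.Bijective f := by
    constructor
    · rintro (a | x) (b | y) h <;> simp only [f, Sum.elim_inl, Sum.elim_inr] at h <;>
        rw [ConjClasses.mk_eq_mk_iff_isConj] at h
      · obtain ⟨c, hc⟩ := isConj_iff.1 h
        have h' : S a = c * S a * c⁻¹ := by
          rw [eq_mul_inv_iff_mul_eq]
          ext i j
          simp [S]
        rw [hc] at h'
        have := congrArg (fun z : Matrix.GeneralLinearGroup (Fin 2) F =>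
          (z : Matrix (Fin 2) (Fin 2) F) 0 0) h'
        simp [S] at this
        exact congrArg _ (Units.ext this)
      · exact absurd (hS a) ((H40.isConj_GL2_iff (hC y)).1 h.symm).1
      · exact absurd (hS b) ((H40.isConj_GL2_iff (hC x)).1 h).1
      · obtain ⟨_, ht, hd⟩ := (H40.isConj_GL2_iff (hC x)).1 h
        simp only [C, Matrix.GeneralLinearGroup.val_mkOfDetNeZero] at ht hd
        rw [H40.trace_comp2, H40.trace_comp2] at ht
        rw [H40.det_comp2, H40.det_comp2] at hd
        exact congrArg _ (Prod.ext ht (Units.ext hd))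
    · intro c
      induction c using Quotient.inductionOn with
      | h g =>
        by_cases hg : H40.IsScalar2 (g : Matrix (Fin 2) (Fin 2) F)
        · obtain ⟨h01, h10, h00⟩ := hg
          have hne : (g : Matrix (Fin 2) (Fin 2) F) 0 0 ≠ 0 := by
            intro h0
            apply g.det_ne_zero
            simp [Matrix.det_fin_two, h0, h01]
          refine ⟨Sum.inl (Units.mk0 _ hne), ?_⟩
          refine congrArg ConjClasses.mk (Units.ext ?_)
          ext i j
          fin_cases i <;> fin_cases j <;> simp [S, h01, h10, ← h00]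
        · refine ⟨Sum.inr ((g : Matrix (Fin 2) (Fin 2) F).trace, Units.mk0 _ g.det_ne_zero), ?_⟩
          refine ConjClasses.mk_eq_mk_iff_isConj.2 ((H40.isConj_GL2_iff hg).2 ⟨hC _, ?_, ?_⟩).symm
          · simp [C]
          · simp [C]
  rw [← Nat.card_congr (Equiv.ofBijective f hf), Nat.card_sum, Nat.card_prod, Nat.card_eq_fintype_card,
    Nat.card_eq_fintype_card, Fintype.card_units]
  have h1 : 1 < Fintype.card F := Fintype.one_lt_card
  obtain ⟨k, hk⟩ : ∃ k, Fintype.card F = k + 1 := ⟨Fintype.card F - 1, by omega⟩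
  rw [hk]
  simp only [Nat.add_sub_cancel]
  rw [show (k + 1) ^ 2 = k + (k + 1) * k + 1 by ring, Nat.add_sub_cancel]

end Cfsg.Agent.S2330
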