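import Cfsg.Statements.S2331
import Cfsg.Agent.H40.SL2Split

set_option autoImplicit false
open Cfsg

namespace Cfsg.Agent.S2331

/-- Over a finite field with q elements, q even, the special linear group SL₂ has exactly q + 1 conjugacy classes. -/
theorem result {F : Type*} [Field F] [Fintype F] [CharP F 2] :
    Nat.card (ConjClasses (Matrix.SpecialLinearGroup (Fin 2) F)) = Fintype.card F + 1 := by
  classical
  have h2 : ringChar F = 2 := ringChar.eq F 2
  let f : Option F → ConjClasses (Matrix.SpecialLinearGroup (Fin 2) F) := fun o =>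
    o.elim (ConjClasses.mk 1) (fun t => ConjClasses.mk (H40.compSL t))
  have h1s : H40.IsScalar2 ((1 : Matrix.SpecialLinearGroup (Fin 2) F) : Matrix (Fin 2) (Fin 2) F) := by
    simp [H40.IsScalar2]
  have hf : Function.Bijective f := by
    constructor
    · rintro (_ | x) (_ | y) h <;> simp only [f, Option.elim] at h
      · rfl
      · exact absurd h1s (H40.not_isScalar2_of_isConj_SL2 (ConjClasses.mk_eq_mk_iff_isConj.1 h.symm) (H40.ns_compSL y))
      · exact absurd h1s (H40.not_isScalar2_of_isConj_SL2 (ConjClasses.mk_eq_mk_iff_isConj.1 h) (H40.ns_compSL x))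
      · have := H40.trace_eq_of_isConj_SL2 (ConjClasses.mk_eq_mk_iff_isConj.1 h)
        rw [H40.trace_compSL, H40.trace_compSL] at this
        rw [this]
    · intro c
      induction c using Quotient.inductionOn with
      | h g =>
        by_cases hg : H40.IsScalar2 (g : Matrix (Fin 2) (Fin 2) F)
        · obtain ⟨h01, h10, h00⟩ := hg
          refine ⟨none, congrArg ConjClasses.mk (Subtype.ext ?_)⟩
          have hd := g.2
          rw [Matrix.det_fin_two, h01, ← h00] at hd
          have h00' : (g : Matrix (Fin 2) (Fin 2) F) 0 0 = 1 := by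
            have h20 : (2 : F) = 0 := CharTwo.two_eq_zero
            have : ((g : Matrix (Fin 2) (Fin 2) F) 0 0 - 1) ^ 2 = 0 := by
              linear_combination hd + (1 - (g : Matrix (Fin 2) (Fin 2) F) 0 0) * h20
            exact sub_eq_zero.1 (eq_zero_of_pow_eq_zero this)
          ext i j
          fin_cases i <;> fin_cases j <;> simp [h01, h10, ← h00, h00']
        · exact ⟨some (g : Matrix (Fin 2) (Fin 2) F).trace, ConjClasses.mk_eq_mk_iff_isConj.2
            (H40.isConj_SL2_of_trace hg (H40.ns_compSL _) (by rw [H40.trace_compSL]) (Or.inr h2)).symm⟩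
  rw [← Nat.card_congr (Equiv.ofBijective f hf), Nat.card_eq_fintype_card, Fintype.card_option]

end Cfsg.Agent.S2331
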