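import Cfsg.Statements.S2333
import Cfsg.Agent.H48.RepBoundEven
import Cfsg.Agent.H48.WeilIrred
-- import your own Cfsg.Agent.* helpers here

set_option autoImplicit false
open Cfsg

namespace Cfsg.Agent.S2333

/-- For a finite field F of even order q and n ≥ 2 with (n, q) ≠ (2, 2), every irreducible complex representation of the symplectic group Sp_{2n}(F) of degree at least 2 has degree at least (q^n − 1)(q^n − q)/(2(q + 1)). -/
theorem result {F : Type*} [Field F] [Fintype F] [DecidableEq F] (n : ℕ) (hn : 2 ≤ n) (heven : Even (Fintype.card F)) (hex : (n, Fintype.card F) ≠ (2, 2)) :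
    (∀ (k : ℕ) (ρ : Representation ℂ (Matrix.symplecticGroup (Fin n) F) (Fin k → ℂ)), ρ.IsIrreducible → 2 ≤ k → (Fintype.card F ^ n - 1) * (Fintype.card F ^ n - Fintype.card F) / (2 * (Fintype.card F + 1)) ≤ k) := by
  intro k ρ hρ hk
  haveI : CharP F 2 := ringChar.of_eq (FiniteField.even_card_iff_char_two.2 (Nat.even_iff.1 heven))
  have hK : ringChar ℂ ≠ ringChar F := H48.ringChar_complex_ne
  have hex' : 3 ≤ n ∨ 3 ≤ Fintype.card F := by
    by_contra hcon
    simp only [not_or, not_le] at hcon
    have := Fintype.one_lt_card (α := F)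
    exact hex (Prod.ext (by show n = 2; omega) (by show Fintype.card F = 2; omega))
  by_cases hne : ∃ g, ρ g ≠ 1
  · have h := H48.finrank_ge_even (K := ℂ) hK hn hex' ρ hne
    rw [Module.finrank_fin_fun] at h
    exact Nat.div_le_of_le_mul h
  · simp only [not_exists, not_not] at hne
    exfalso
    set f : Fin k → ℂ := Pi.single ⟨0, by omega⟩ 1 with hf
    let σ : Subrepresentation ρ := ⟨Submodule.span ℂ {f}, fun g v hv => by rwa [hne g]⟩
    haveI : IsSimpleOrder (Subrepresentation ρ) := hρ
    rcases IsSimpleOrder.eq_bot_or_eq_top σ with hσ | hσ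
    · have h1 : f ∈ σ.toSubmodule := Submodule.subset_span rfl
      rw [hσ] at h1
      have := congrFun ((Submodule.mem_bot ℂ).1 h1) ⟨0, by omega⟩
      simp [hf] at this
    · have e : Submodule.span ℂ {f} = (⊤ : Submodule ℂ (Fin k → ℂ)) := congrArg Subrepresentation.toSubmodule hσ
      have h1 := finrank_span_le_card (R := ℂ) ({f} : Set (Fin k → ℂ))
      rw [e, finrank_top, Module.finrank_fin_fun] at h1
      simp at h1
      omega

end Cfsg.Agent.S2333
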