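import Cfsg.Statements.S2337
import Cfsg.Agent.H57.SzRep
import Cfsg.Agent.H57.SzForm
-- import your own Cfsg.Agent.* helpers here

set_option autoImplicit false
open Cfsg

namespace Cfsg.Agent.S2337

/-- For the Suzuki group Sz(q), q = 2^(2m+1) with m ≥ 1 (realised inside Sp₄ over the field with q elements), every irreducible complex representation of degree at least 2 has degree at least 2^m·(q − 1). -/
theorem result {F : Type*} [Field F] [Fintype F] (m : ℕ) (hm : 1 ≤ m) (hF : Fintype.card F = 2 ^ (2 * m + 1)) :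
    (∀ (k : ℕ) (ρ : Representation ℂ (Cfsg.Lie.Sz F (2 ^ (m + 1))) (Fin k → ℂ)), ρ.IsIrreducible → 2 ≤ k → 2 ^ m * (2 ^ (2 * m + 1) - 1) ≤ k) := by
  intro k ρ hirr hk
  let e := H57.lieSzEquiv hm hF
  let ρ' : Cfsg.Sz F m →* Module.End ℂ (Fin k → ℂ) := MonoidHom.comp ρ e.toMonoidHom
  haveI := H57.sz_simple hm hF
  haveI : Nonempty (Fin k) := ⟨⟨0, by omega⟩⟩
  have hinj : Function.Injective ρ' := by
    rcases MonoidHom.normal_ker ρ' |>.eq_bot_or_eq_top with h | h
    · exact (MonoidHom.ker_eq_bot_iff ρ').mp h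
    · exfalso
      have hker := ρ'.ker_eq_top_iff.mp h
      have htriv : ∀ g, ρ g = 1 := fun g => by
        have := DFunLike.congr_fun hker (e.symm g)
        simpa [ρ'] using this
      let v : Fin k → ℂ := Pi.single ⟨0, by omega⟩ 1
      let L : Subrepresentation ρ := ⟨ℂ ∙ v, fun g x hx => by rw [htriv g]; exact hx⟩
      rcases hirr.eq_bot_or_eq_top L with hL | hL
      · have hs : (ℂ ∙ v : Submodule ℂ (Fin k → ℂ)) = ⊥ := congrArg Subrepresentation.toSubmodule hL
        rw [Submodule.span_singleton_eq_bot] at hs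
        have := congrFun hs ⟨0, by omega⟩
        simp [v] at this
      · have hs : (ℂ ∙ v : Submodule ℂ (Fin k → ℂ)) = ⊤ := congrArg Subrepresentation.toSubmodule hL
        have h1 := finrank_span_singleton (K := ℂ) (show v ≠ 0 from fun h0 => by
          have := congrFun h0 ⟨0, by omega⟩
          simp [v] at this)
        rw [hs, finrank_top, Module.finrank_fin_fun] at h1
        omega
  have := H57.sz_faithful_degree hm hF hinj
  rwa [Module.finrank_fin_fun] at this

end Cfsg.Agent.S2337
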