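import Cfsg.Statements.S2345
import Cfsg.Agent.H19.OM.Plus

set_option autoImplicit false
open Cfsg

namespace Cfsg.Agent.S2345

/-- For a finite field F with q > 3 elements and n ≥ 4, every irreducible complex representation of degree at least 2 of Ω⁺_{2n}(F) (the commutator subgroup of the isometry group of the hyperbolic quadratic form x₁y₁ + ⋯ + x_ny_n) has degree at least (q^n − 1)(q^{n−1} + q)/(q² − 1). -/
theorem result {F : Type*} [Field F] [Fintype F] (n : ℕ) (hn : 4 ≤ n) (h3 : 3 < Fintype.card F) :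
    (∀ (k : ℕ) (ρ : Representation ℂ (Cfsg.Omega F (Cfsg.quadFormPlus n F)) (Fin k → ℂ)), ρ.IsIrreducible → 2 ≤ k → (Fintype.card F ^ n - 1) * (Fintype.card F ^ (n - 1) + Fintype.card F) / (Fintype.card F ^ 2 - 1) ≤ k) := by
  classical
  obtain ⟨k, rfl⟩ : ∃ k, n = k + 3 := ⟨n - 3, by omega⟩
  rw [← H43.coe_qPlus]
  intro d ρ hirr hd
  obtain ⟨σ, hσ, hne⟩ := H19.OM.exists_model (H43.qPlus (k + 3) F) H19.OM.qNil_nondeg
    (H19.OM.plusL (k + 3) F) (H19.OM.plusL_form (k + 3)) ρ hirr hd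
  refine Nat.div_le_of_le_mul ?_
  rw [show k + 3 - 1 = k + 2 from rfl, mul_comm _ d]
  exact H19.OM.plus_bound (by omega) h3 σ hσ hne

end Cfsg.Agent.S2345
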