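import Cfsg.Statements.S2346
import Cfsg.Agent.H19.OM.Minus

set_option autoImplicit false
open Cfsg

namespace Cfsg.Agent.S2346

/-- For a finite field F with q elements, n ≥ 4, and a, b ∈ F with z₁² + a z₁z₂ + b z₂² anisotropic, every irreducible complex representation of degree at least 2 of Ω⁻_{2n}(F) (the commutator subgroup of the isometry group of x₁y₁ + ⋯ + x_{n−1}y_{n−1} + z₁² + a z₁z₂ + b z₂²) has degree at least (q^n + 1)(q^{n−1} − q)/(q² − 1). -/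
theorem result {F : Type*} [Field F] [Fintype F] (n : ℕ) (hn : 4 ≤ n) (a b : F) (hab : ∀ z₁ z₂ : F, z₁ ^ 2 + a * z₁ * z₂ + b * z₂ ^ 2 = 0 → z₁ = 0 ∧ z₂ = 0) :
    (∀ (k : ℕ) (ρ : Representation ℂ (Cfsg.Omega F (Cfsg.quadFormMinus (n - 1) F a b)) (Fin k → ℂ)), ρ.IsIrreducible → 2 ≤ k → (Fintype.card F ^ n + 1) * (Fintype.card F ^ (n - 1) - Fintype.card F) / (Fintype.card F ^ 2 - 1) ≤ k) := by
  classical
  obtain ⟨k, rfl⟩ : ∃ k, n = k + 4 := ⟨n - 4, by omega⟩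
  rw [show k + 4 - 1 = k + 3 from rfl, ← H43.coe_qMinus]
  intro d ρ hirr hd
  obtain ⟨σ, hσ, hne⟩ := H19.OM.exists_model (H43.qMinus (k + 3) F a b) (H19.OM.qBin_nondeg hab)
    (H19.OM.minusL (k + 3) F) (H19.OM.minusL_form (k + 3) a b) ρ hirr hd
  refine Nat.div_le_of_le_mul ?_
  rw [mul_comm _ d]
  exact H19.OM.minus_bound hab σ hσ hne

end Cfsg.Agent.S2346
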