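import Cfsg.Statements.S2353
import Cfsg.Agent.H40.FreeInSL2

set_option autoImplicit false
open Cfsg

namespace Cfsg.Agent.S2353

/-- A non-trivial law holds in PSL_2 over only finitely many finite fields: for every non-trivial element w of the free group on countably many generators there is N such that over every finite field with at least N elements some substitution of elements of PSL_2 into w is not the identity. -/
theorem result (w : FreeGroup ℕ) (hw : w ≠ 1) :
    ∃ N : ℕ, ∀ (F : Type*) [Field F] [Fintype F], N ≤ Fintype.card F →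
      ∃ f : ℕ → Matrix.ProjectiveSpecialLinearGroup (Fin 2) F, FreeGroup.lift f w ≠ 1 := by
  obtain ⟨N, hN⟩ : ∃ N, N = ((FreeGroup.lift (fun i => H40.freeGen (R := ℤ) i) w :
    Matrix (Fin 2) (Fin 2) (Polynomial ℤ)) 0 1).natDegree + 1 := ⟨_, rfl⟩
  refine ⟨N, fun F _ _ hF => ?_⟩
  classical
  have hmap : ∀ v : FreeGroup ℕ,
      Matrix.SpecialLinearGroup.map (n := Fin 2) (Polynomial.mapRingHom (Int.castRingHom F))
        (FreeGroup.lift (fun i => H40.freeGen (R := ℤ) i) v) =
      FreeGroup.lift (fun i => H40.freeGen (R := F) i) v := by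
    intro v
    induction v using FreeGroup.induction_on with
    | C1 => simp
    | of i => simp [H40.map_freeGen]
    | inv_of i _ => simp [H40.map_freeGen]
    | mul a b ha hb => simp only [map_mul, ha, hb]
  set P := (FreeGroup.lift (fun i => H40.freeGen (R := F) i) w :
    Matrix (Fin 2) (Fin 2) (Polynomial F)) 0 1 with hP
  have hP0 : P ≠ 0 := H40.freeGen_offdiag hw
  have hdeg : P.natDegree < Fintype.card F := by
    refine lt_of_lt_of_le ?_ hF
    rw [hN, hP, ← hmap]
    exact Nat.lt_succ_of_le Polynomial.natDegree_map_le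
  obtain ⟨t, ht⟩ : ∃ t : F, P.eval t ≠ 0 := by
    by_contra hall
    push Not at hall
    exact hP0 (Polynomial.eq_zero_of_natDegree_lt_card_of_eval_eq_zero P (ι := F)
      Function.injective_id hall hdeg)
  refine ⟨fun i => QuotientGroup.mk' _
    (Matrix.SpecialLinearGroup.map (n := Fin 2) (Polynomial.evalRingHom t) (H40.freeGen (R := F) i)), ?_⟩
  have hcomp : ∀ v : FreeGroup ℕ, FreeGroup.lift (fun i => QuotientGroup.mk'
      (Subgroup.center (Matrix.SpecialLinearGroup (Fin 2) F))
      (Matrix.SpecialLinearGroup.map (n := Fin 2) (Polynomial.evalRingHom t) (H40.freeGen (R := F) i))) v =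
      QuotientGroup.mk' _ (Matrix.SpecialLinearGroup.map (n := Fin 2) (Polynomial.evalRingHom t)
        (FreeGroup.lift (fun i => H40.freeGen (R := F) i) v)) := by
    intro v
    induction v using FreeGroup.induction_on with
    | C1 => simp only [map_one]
    | of i => simp only [FreeGroup.lift_apply_of]
    | inv_of i _ => simp only [map_inv, FreeGroup.lift_apply_of]
    | mul a b ha hb => simp only [map_mul, ha, hb]
  intro h
  apply ht
  rw [hcomp, QuotientGroup.mk'_apply, QuotientGroup.eq_one_iff] at h
  obtain ⟨c, -, hc⟩ := Matrix.SpecialLinearGroup.mem_center_iff.1 h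
  have h01 := congrFun (congrFun hc 0) 1
  simp at h01
  exact h01.symm

end Cfsg.Agent.S2353
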