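import Cfsg.Statements.S2354
import Cfsg.Agent.H57.SzWord
import Cfsg.Agent.H57.SzPoints

set_option autoImplicit false
open Cfsg

namespace Cfsg.Agent.S2354

/-- A non-trivial law holds in only finitely many Suzuki groups: for every non-trivial element w of the free group on countably many generators there is N such that for q = 2^(2m+1) with m ≥ N some substitution of elements of the Suzuki group over the field with q elements into w is not the identity. -/
theorem result (w : FreeGroup ℕ) (hw : w ≠ 1) :
    ∃ N : ℕ, ∀ (F : Type*) [Field F] [Fintype F] (m : ℕ), 1 ≤ m → N ≤ m →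
      Fintype.card F = 2 ^ (2 * m + 1) →
      ∃ f : ℕ → ↥(Cfsg.Lie.Sz F (2 ^ (m + 1))), FreeGroup.lift f w ≠ 1 := by
  obtain ⟨c, js, hne, hjs, hform⟩ := H57.free_form w hw
  refine ⟨js.length + 2, fun F _ _ m hm hlen hF => ?_⟩
  obtain ⟨t, ht⟩ := H57.blocks_nontrivial (m := m) hF hne hjs hlen c
  let e := H57.lieSzEquiv hm hF
  let g := H57.freeGen (H57.tEl hF t 0) (H57.wEl hF)
  refine ⟨fun i => e (g i), ?_⟩
  have hcomp : FreeGroup.lift (fun i => e (g i)) = e.toMonoidHom.comp (FreeGroup.lift g) := by
    apply FreeGroup.ext_hom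
    intro i
    simp
  rw [hcomp, MonoidHom.comp_apply, hform _ _ _ (H57.tEl_pow' hF t 0) (H57.wEl_mul_self hF)]
  exact (MulEquiv.map_ne_one_iff e).mpr ht

end Cfsg.Agent.S2354
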