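import Cfsg.Statements.S2355
import Cfsg.Agent.H43.Laws

set_option autoImplicit false
open Cfsg

namespace Cfsg.Agent.S2355

open Matrix

section

variable {F : Type} [Field F] [Fintype F] {q : ℕ}

theorem perm_mulVec {m : ℕ} (σ : alternatingGroup (Fin m)) (u : Fin m → F) :
    (H43.permSL F m σ : Matrix (Fin m) (Fin m) F) *ᵥ u
      = u ∘ ((σ : Equiv.Perm (Fin m))⁻¹ : Equiv.Perm (Fin m)) :=
  Matrix.permMatrix_mulVec ..

theorem perm_mem_SU {m : ℕ} (σ : alternatingGroup (Fin m)) :
    H43.permSL F m σ ∈ SU m F q := by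
  intro u v
  change hermForm m F q ((H43.permSL F m σ : Matrix (Fin m) (Fin m) F) *ᵥ u)
    ((H43.permSL F m σ : Matrix (Fin m) (Fin m) F) *ᵥ v) = _
  rw [perm_mulVec, perm_mulVec]
  exact Equiv.sum_comp ((σ : Equiv.Perm (Fin m))⁻¹) (fun i => u i * v i ^ q)

theorem corner_mem_SU {r : ℕ} (g : Matrix.SpecialLinearGroup (Fin 2) F)
    (hg : ∀ u v : Fin 2 → F, hermForm 2 F q ((g : Matrix (Fin 2) (Fin 2) F) *ᵥ u)
      ((g : Matrix (Fin 2) (Fin 2) F) *ᵥ v) = hermForm 2 F q u v) :
    H43.cornerSL F r g ∈ SU (2 + r) F q := by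
  intro u v
  change hermForm (2 + r) F q ((H43.cornerSL F r g : Matrix _ _ F) *ᵥ u)
    ((H43.cornerSL F r g : Matrix _ _ F) *ᵥ v) = _
  have e : ∀ x : Fin (2 + r) → F, (H43.cornerSL F r g : Matrix _ _ F) *ᵥ x =
      (Sum.elim ((g : Matrix (Fin 2) (Fin 2) F) *ᵥ fun i => x (finSumFinEquiv (.inl i)))
        fun i => x (finSumFinEquiv (.inr i))) ∘ finSumFinEquiv.symm := by
    intro x
    show (Matrix.reindex finSumFinEquiv finSumFinEquiv _) *ᵥ x = _
    rw [Matrix.reindex_apply, Matrix.submatrix_mulVec_equiv, fromBlocks_mulVec]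
    simp [Function.comp_def]
  simp only [e, hermForm, ← finSumFinEquiv.sum_comp, Function.comp_apply, Equiv.symm_apply_apply,
    Fintype.sum_sum_type, Sum.elim_inl, Sum.elim_inr]
  congr 1
  exact hg _ _

end

/-- conjugate of the `q`-rational `SL_2` -/
def conjSL {K F : Type} [Field K] [Field F] (ι : K →+* F) (C : GL (Fin 2) F) :
    Matrix.SpecialLinearGroup (Fin 2) K →* Matrix.SpecialLinearGroup (Fin 2) F where
  toFun g := ⟨(C : Matrix (Fin 2) (Fin 2) F) *
      (Matrix.SpecialLinearGroup.map (n := Fin 2) ι g : Matrix (Fin 2) (Fin 2) F) *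
      ((C⁻¹ : GL (Fin 2) F) : Matrix (Fin 2) (Fin 2) F), by
    rw [Matrix.det_mul, Matrix.det_mul, (Matrix.SpecialLinearGroup.map (n := Fin 2) ι g).2, mul_one,
      ← Matrix.det_mul, ← Units.val_mul, mul_inv_cancel, Units.val_one, Matrix.det_one]⟩
  map_one' := Subtype.ext (by simp)
  map_mul' g g' := Subtype.ext (by
    show (C : Matrix (Fin 2) (Fin 2) F) * _ * _ =
      ((C : Matrix (Fin 2) (Fin 2) F) * _ * _) * ((C : Matrix (Fin 2) (Fin 2) F) * _ * _)
    simp only [map_mul, Matrix.SpecialLinearGroup.coe_mul, Matrix.mul_assoc]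
    rw [← Matrix.mul_assoc ((C⁻¹ : GL (Fin 2) F) : Matrix (Fin 2) (Fin 2) F),
      ← Units.val_mul, inv_mul_cancel, Units.val_one, Matrix.one_mul])

theorem conjSL_injective {K F : Type} [Field K] [Field F] (ι : K →+* F) (C : GL (Fin 2) F) :
    Function.Injective (conjSL ι C) := by
  intro x y h
  have h3 : (C : Matrix (Fin 2) (Fin 2) F) *
      (Matrix.SpecialLinearGroup.map (n := Fin 2) ι x : Matrix (Fin 2) (Fin 2) F) *
      ((C⁻¹ : GL (Fin 2) F) : Matrix (Fin 2) (Fin 2) F) = (C : Matrix (Fin 2) (Fin 2) F) *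
      (Matrix.SpecialLinearGroup.map (n := Fin 2) ι y : Matrix (Fin 2) (Fin 2) F) *
      ((C⁻¹ : GL (Fin 2) F) : Matrix (Fin 2) (Fin 2) F) :=
    congrArg Subtype.val h
  have h2 := (Units.mul_right_inj C).1 ((Units.mul_left_inj C⁻¹).1 h3)
  apply Subtype.ext
  ext i j
  exact ι.injective (congrFun (congrFun h2 i) j)

/-- source groups -/
theorem exists_source (w : FreeGroup ℕ) (hw : w ≠ 1) :
    ∃ D Q : ℕ, 5 ≤ D ∧ 4 ≤ Q ∧
      (∀ m, D ≤ m → ∃ h : ℕ → alternatingGroup (Fin m),
        FreeGroup.lift h w ∉ Subgroup.center (alternatingGroup (Fin m))) ∧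
      (∀ (F : Type) [Field F] [Fintype F], Q ≤ Fintype.card F →
        ∃ h : ℕ → Matrix.SpecialLinearGroup (Fin 2) F,
          FreeGroup.lift h w ∉ Subgroup.center (Matrix.SpecialLinearGroup (Fin 2) F)) := by
  obtain ⟨n₀, hn₀⟩ := Cfsg.Agent.S2352.result w hw
  obtain ⟨Q, hQ⟩ := H43.exists_SL2_value w hw
  refine ⟨n₀ + 5, Q + 4, by omega, by omega, fun m hm => ?_, fun F _ _ hF => hQ F (by omega)⟩
  obtain ⟨h, hh⟩ := hn₀ m (by omega)
  exact ⟨h, H43.notMem_center_alt (by omega) hh⟩

theorem card_quot_le {G H : Type*} [Group G] [Group H] {N : Subgroup H} [N.Normal] (e : G ≃* H ⧸ N)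
    {ι F : Type} [Fintype ι] [DecidableEq ι] [Fintype F] (f : H → Matrix ι ι F)
    (hf : Function.Injective f) {A B : ℕ} (hA : Fintype.card F ≤ A) (hB : Fintype.card ι ≤ B)
    (hA1 : 1 ≤ A) : Nat.card G ≤ A ^ (B * B) := by
  haveI : Finite H := Finite.of_injective f hf
  calc Nat.card G = Nat.card (H ⧸ N) := Nat.card_congr e.toEquiv
    _ ≤ Nat.card H := Nat.card_le_card_of_surjective _ (QuotientGroup.mk_surjective (s := N))
    _ ≤ Nat.card (Matrix ι ι F) := Nat.card_le_card_of_injective f hf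
    _ = Fintype.card F ^ (Fintype.card ι * Fintype.card ι) := by
        rw [Nat.card_eq_fintype_card]
        show Fintype.card (ι → ι → F) = _
        rw [Fintype.card_fun, Fintype.card_fun, ← pow_mul]
    _ ≤ A ^ (Fintype.card ι * Fintype.card ι) := Nat.pow_le_pow_left hA _
    _ ≤ A ^ (B * B) := Nat.pow_le_pow_right hA1 (Nat.mul_le_mul hB hB)

theorem coe_isometry_injective {F : Type} [Field F] {ι : Type} [Fintype ι] [DecidableEq ι]
    (Q : (ι → F) → F) :
    Function.Injective (fun x : Omega F Q =>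
      (((x : ↥(isometryGroup F Q)) : GL ι F) : Matrix ι ι F)) :=
  fun _ _ h => Subtype.ext (Subtype.ext (Units.ext h))

/-- a perfect source in `SL_m(F)` with non-central value -/
theorem exists_perfect_source {w : FreeGroup ℕ} {D Q : ℕ} (hD : 5 ≤ D) (hQ : 4 ≤ Q)
    (halt : ∀ m, D ≤ m → ∃ h : ℕ → alternatingGroup (Fin m),
      FreeGroup.lift h w ∉ Subgroup.center (alternatingGroup (Fin m)))
    (hsl : ∀ (F : Type) [Field F] [Fintype F], Q ≤ Fintype.card F →
      ∃ h : ℕ → Matrix.SpecialLinearGroup (Fin 2) F,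
        FreeGroup.lift h w ∉ Subgroup.center (Matrix.SpecialLinearGroup (Fin 2) F))
    (F : Type) [Field F] [Fintype F] (m : ℕ) (hm : 2 ≤ m)
    (hbig : ¬ (m < D ∧ Fintype.card F < Q)) :
    ∃ (H : Type) (_ : Group H) (φ : H →* GL (Fin m) F) (h : ℕ → H),
      commutator H = ⊤ ∧ Function.Injective φ ∧ FreeGroup.lift h w ∉ Subgroup.center H := by
  rcases le_or_gt D m with h | h
  · obtain ⟨f, hf⟩ := halt m h
    exact ⟨_, inferInstance, Matrix.SpecialLinearGroup.toGL.comp (H43.permSL F m), f,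
      H43.perfect_alt (by omega),
      Matrix.SpecialLinearGroup.toGL_injective.comp (H43.permSL_injective F m), hf⟩
  · obtain ⟨f, hf⟩ := hsl F (by omega)
    obtain ⟨r, rfl⟩ : ∃ r, m = 2 + r := ⟨m - 2, by omega⟩
    exact ⟨_, inferInstance, Matrix.SpecialLinearGroup.toGL.comp (H43.cornerSL F r), f,
      H43.perfect_SL2 (by omega),
      Matrix.SpecialLinearGroup.toGL_injective.comp (H43.cornerSL_injective F r), hf⟩

/-- A non-trivial law is satisfied by only finitely many finite simple groups that are alternating or classical, up to isomorphism: for every non-trivial element w of the free group on countably many generators there is a bound N such that every alternating group of degree ≥ 5 and every simple classical group (linear, symplectic, unitary or orthogonal, in this problem's sense) in which w is a law has order at most N. -/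
theorem result (w : FreeGroup ℕ) (hw : w ≠ 1) :
    ∃ N : ℕ, ∀ (G : Type*) [Group G] [Finite G],
      (Cfsg.IsAlternating G ∨ Cfsg.IsPSL G ∨ Cfsg.IsPSp G ∨ Cfsg.IsPSU G ∨ Cfsg.IsPOmegaOdd G ∨
          Cfsg.IsPOmegaPlus G ∨ Cfsg.IsPOmegaMinus G) →
      (∀ f : ℕ → G, FreeGroup.lift f w = 1) → Nat.card G ≤ N := by
  classical
  obtain ⟨D, Q, hD, hQ, halt, hsl⟩ := exists_source w hw
  set A := (Q + 2) ^ 2 with hA
  set B := 2 * D + 4 with hB
  have hA1 : 1 ≤ A := Nat.one_le_pow _ _ (by omega)
  have hQA : Q ≤ A := le_trans (by omega) (Nat.le_self_pow (n := 2) (by norm_num) (Q + 2))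
  refine ⟨A ^ (B * B) + Nat.factorial D, fun G _ _ hG hlaw => ?_⟩
  have key : ∀ {P : Prop}, ((¬ P) → ∃ f : ℕ → G, FreeGroup.lift f w ≠ 1) →
      (P → Nat.card G ≤ A ^ (B * B)) → Nat.card G ≤ A ^ (B * B) + Nat.factorial D := by
    intro P h1 h2
    by_cases hP : P
    · exact le_trans (h2 hP) (Nat.le_add_right _ _)
    · obtain ⟨f, hf⟩ := h1 hP
      exact absurd (hlaw f) hf
  rcases hG with hG | hG | hG | hG | hG | hG | hG
  · obtain ⟨n, hn, ⟨e⟩⟩ := hG
    rcases le_or_gt D n with hDn | hDn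
    · obtain ⟨f, hf⟩ := halt n hDn
      obtain ⟨f', hf'⟩ := H43.law_fails_equiv e (w := w)
        ⟨f, fun h => hf (by rw [h]; exact one_mem _)⟩
      exact absurd (hlaw f') hf'
    · refine le_trans ?_ (Nat.le_add_left _ _)
      calc Nat.card G = Nat.card (alternatingGroup (Fin n)) := Nat.card_congr e.toEquiv
        _ ≤ Nat.card (Equiv.Perm (Fin n)) := Nat.card_le_card_of_injective _ Subtype.val_injective
        _ = Nat.factorial n := by rw [Nat.card_perm, Nat.card_fin]
        _ ≤ Nat.factorial D := Nat.factorial_le (by omega)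
  · obtain ⟨F, _, _, n, hn, -, ⟨e⟩⟩ := hG
    refine key (P := n < D ∧ Fintype.card F < Q) (fun hb => ?_) (fun hb => ?_)
    · apply H43.law_fails_equiv e
      rcases le_or_gt D n with hDn | hDn
      · obtain ⟨h, hh⟩ := halt n hDn
        exact H43.law_fails_quot (H43.permSL F n) (H43.permSL_injective F n) w h hh
      · obtain ⟨h, hh⟩ := hsl F (by omega)
        obtain ⟨r, rfl⟩ : ∃ r, n = 2 + r := ⟨n - 2, by omega⟩
        exact H43.law_fails_quot (H43.cornerSL F r) (H43.cornerSL_injective F r) w h hh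
    · exact card_quot_le e (fun x => (x : Matrix (Fin n) (Fin n) F)) Subtype.val_injective
        (le_trans hb.2.le hQA) (by simp; omega) hA1
  · obtain ⟨F, _, _, m, hm, -, ⟨e⟩⟩ := hG
    refine key (P := m < D ∧ Fintype.card F < Q) (fun hb => ?_) (fun hb => ?_)
    · obtain ⟨H, _, φ, h, -, hφ, hh⟩ := exists_perfect_source hD hQ halt hsl F m hm hb
      exact H43.law_fails_equiv e (H43.law_fails_quot ((H43.leviSp m).comp φ)
        ((H43.leviSp_injective m).comp hφ) w h hh)
    · exact card_quot_le e (fun x => (x : Matrix (Fin m ⊕ Fin m) (Fin m ⊕ Fin m) F))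
        Subtype.val_injective (le_trans hb.2.le hQA) (by simp; omega) hA1
  · obtain ⟨F, _, _, n, q, hq, hn, -, ⟨e⟩⟩ := hG
    refine key (P := n < D ∧ q ≤ Q + 1) (fun hb => ?_) (fun hb => ?_)
    · apply H43.law_fails_equiv e
      rcases le_or_gt D n with hDn | hDn
      · obtain ⟨h, hh⟩ := halt n hDn
        exact H43.law_fails_quot ((H43.permSL F n).codRestrict (SU n F q) fun σ => perm_mem_SU σ)
          (fun x y he => H43.permSL_injective F n (congrArg Subtype.val he)) w h hh
      · have hqQ : Q + 1 < q := by omega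
        obtain ⟨r, rfl⟩ : ∃ r, n = 2 + r := ⟨n - 2, by omega⟩
        haveI : Fintype (H43.fixedQ hq) := Fintype.ofFinite _
        have hK : Q ≤ Fintype.card (H43.fixedQ hq) := by
          have := H43.le_card_fixedQ hq
          rw [Nat.card_eq_fintype_card] at this
          omega
        obtain ⟨h, hh⟩ := hsl (H43.fixedQ hq) hK
        obtain ⟨C, hC⟩ := H43.exists_hyperbolic_frame hq
        have hmem : ∀ g, H43.cornerSL F r (conjSL (H43.fixedQ hq).subtype C g) ∈ SU (2 + r) F q :=
          fun g => corner_mem_SU _ (fun u v => hC _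
            (fun i j => (H43.mem_fixedQ hq).1
              ((g : Matrix (Fin 2) (Fin 2) (H43.fixedQ hq)) i j).2)
            (Matrix.SpecialLinearGroup.map (n := Fin 2) (H43.fixedQ hq).subtype g).2 u v)
        exact H43.law_fails_quot
          (((H43.cornerSL F r).comp (conjSL (H43.fixedQ hq).subtype C)).codRestrict
            (SU (2 + r) F q) hmem)
          (fun x y he => conjSL_injective _ C
            (H43.cornerSL_injective F r (congrArg Subtype.val he))) w h hh
    · refine card_quot_le e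
        (fun x => ((x : Matrix.SpecialLinearGroup (Fin n) F) : Matrix (Fin n) (Fin n) F))
        (Subtype.val_injective.comp Subtype.val_injective) ?_ (by simp; omega) hA1
      rw [hq, hA]
      exact Nat.pow_le_pow_left (by omega) 2
  · obtain ⟨F, _, _, m, hm, -, ⟨e⟩⟩ := hG
    refine key (P := m < D ∧ Fintype.card F < Q) (fun hb => ?_) (fun hb => ?_)
    · obtain ⟨H, _, φ, h, hH, hφ, hh⟩ := exists_perfect_source hD hQ halt hsl F m (by omega) hb
      exact H43.law_fails_equiv e (H43.law_fails_POmega hH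
        ((H43.extLeft.comp H43.leviHom).comp φ)
        ((H43.extLeft_injective.comp H43.leviHom_injective).comp hφ)
        (fun x => H43.leviHom_mem_odd m _) w h hh)
    · exact card_quot_le e _ (coe_isometry_injective _) (le_trans hb.2.le hQA) (by simp; omega) hA1
  · obtain ⟨F, _, _, m, hm, ⟨e⟩⟩ := hG
    refine key (P := m < D ∧ Fintype.card F < Q) (fun hb => ?_) (fun hb => ?_)
    · obtain ⟨H, _, φ, h, hH, hφ, hh⟩ := exists_perfect_source hD hQ halt hsl F m (by omega) hb
      exact H43.law_fails_equiv e (H43.law_fails_POmega hH (H43.leviHom.comp φ)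
        (H43.leviHom_injective.comp hφ) (fun x => H43.leviHom_mem_plus m _) w h hh)
    · exact card_quot_le e _ (coe_isometry_injective _) (le_trans hb.2.le hQA) (by simp; omega) hA1
  · obtain ⟨F, _, _, m, a, b, hm, -, ⟨e⟩⟩ := hG
    refine key (P := m - 1 < D ∧ Fintype.card F < Q) (fun hb => ?_) (fun hb => ?_)
    · obtain ⟨H, _, φ, h, hH, hφ, hh⟩ :=
        exists_perfect_source hD hQ halt hsl F (m - 1) (by omega) hb
      exact H43.law_fails_equiv e (H43.law_fails_POmega hH
        ((H43.extRight.comp H43.leviHom).comp φ)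
        ((H43.extRight_injective.comp H43.leviHom_injective).comp hφ)
        (fun x => H43.leviHom_mem_minus (m - 1) a b _) w h hh)
    · exact card_quot_le e _ (coe_isometry_injective _) (le_trans hb.2.le hQA) (by simp; omega) hA1

end Cfsg.Agent.S2355
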