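import Cfsg.Statements.S2356
import Cfsg.Agent.H50.SU3Graph

set_option autoImplicit false
open Cfsg

namespace Cfsg.Agent.S2356

/-- Let q be odd, F the field with q² elements, S = SU_3(F) (determinant-one isometries of the standard Hermitian form) and t an involution of S. Then: exactly q(q−1) involutions other than t commute with t; exactly q(q−2)(q²−1) involutions do not commute with t but commute with some involution commuting with t; exactly (q+1)(q²−1) involutions x do not commute with t and admit no involution commuting with both t and x; and every involution can be reached from t in at most three steps, each step going to an involution that commutes with the previous one (the commuting involution graph is connected of diameter 3). -/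
theorem result {F : Type*} [Field F] [Fintype F] {q : ℕ} (hq : Odd q)
    (hF : Fintype.card F = q ^ 2) (t : ↥(Cfsg.SU 3 F q)) (ht : t ≠ 1) (ht2 : t * t = 1) :
    Nat.card {x : ↥(Cfsg.SU 3 F q) // x ≠ 1 ∧ x * x = 1 ∧ x ≠ t ∧ Commute t x} = q * (q - 1) ∧
    Nat.card {x : ↥(Cfsg.SU 3 F q) // x ≠ 1 ∧ x * x = 1 ∧ ¬ Commute t x ∧
        ∃ y : ↥(Cfsg.SU 3 F q), y ≠ 1 ∧ y * y = 1 ∧ Commute t y ∧ Commute y x} = q * (q - 2) * (q ^ 2 - 1) ∧
    Nat.card {x : ↥(Cfsg.SU 3 F q) // x ≠ 1 ∧ x * x = 1 ∧ ¬ Commute t x ∧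
        ∀ y : ↥(Cfsg.SU 3 F q), y ≠ 1 → y * y = 1 → ¬ (Commute t y ∧ Commute y x)} = (q + 1) * (q ^ 2 - 1) ∧
    ∀ x : ↥(Cfsg.SU 3 F q), x ≠ 1 → x * x = 1 →
      ∃ y z : ↥(Cfsg.SU 3 F q), y ≠ 1 ∧ y * y = 1 ∧ z ≠ 1 ∧ z * z = 1 ∧
        Commute t y ∧ Commute y z ∧ Commute z x := by
  classical
  obtain ⟨z, hz, rfl⟩ := H50.exists_su3inv hF hq t ht ht2
  set t := H50.su3inv hF hq z hz with htdef
  have hq2 := H50.two_le hF
  have hqle : 1 ≤ q ^ 2 := Nat.one_le_pow _ _ (by omega)
  have hq1 : q ≤ q ^ 2 := Nat.le_self_pow (by norm_num) q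
  have hA : Nat.card {x : ↥(Cfsg.SU 3 F q) // x ≠ 1 ∧ x * x = 1 ∧ x ≠ t ∧ Commute t x} =
      q * (q - 1) := by
    refine Nat.eq_of_mul_eq_mul_left (by omega : 0 < q + 1)
      ((H50.card_su3_neighbours hF hq hz).trans ?_)
    zify [hqle, show 1 ≤ q by omega]; ring
  have hC : Nat.card {x : ↥(Cfsg.SU 3 F q) // x ≠ 1 ∧ x * x = 1 ∧ ¬ Commute t x ∧
      ∀ y : ↥(Cfsg.SU 3 F q), y ≠ 1 → y * y = 1 → ¬ (Commute t y ∧ Commute y x)} =
      (q + 1) * (q ^ 2 - 1) := by
    refine Nat.eq_of_mul_eq_mul_left (by omega : 0 < q + 1)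
      ((H50.card_su3_far hF hq hz).trans ?_)
    ring
  refine ⟨hA, ?_, hC, ?_⟩
  · have hX : Nat.card {x : ↥(Cfsg.SU 3 F q) // x ≠ 1 ∧ x * x = 1} = q ^ 2 * (q ^ 2 - q + 1) := by
      have hfac : q ^ 3 + 1 = (q + 1) * (q ^ 2 - q + 1) := by
        zify [hq1]; ring
      have h := H50.card_su3_involutions hF hq
      rw [hfac] at h
      exact Nat.eq_of_mul_eq_mul_left (by omega : 0 < q + 1) (h.trans (by ring))
    let S : Finset ↥(Cfsg.SU 3 F q) := Finset.univ.filter fun x => x ≠ 1 ∧ x * x = 1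
    have hnat : ∀ (P : ↥(Cfsg.SU 3 F q) → Prop) [DecidablePred P],
        Nat.card {x : ↥(Cfsg.SU 3 F q) // x ≠ 1 ∧ x * x = 1 ∧ P x} = (S.filter P).card := by
      intro P _
      rw [Nat.card_eq_fintype_card, Fintype.card_subtype, Finset.filter_filter]
      exact congrArg _ (Finset.filter_congr fun x _ => and_assoc.symm)
    have hS : S.card = q ^ 2 * (q ^ 2 - q + 1) := by
      rw [← hX, Nat.card_eq_fintype_card, Fintype.card_subtype]
    have h1 := Finset.card_filter_add_card_filter_not (s := S) (fun x => Commute t x)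
    have h2 := Finset.card_filter_add_card_filter_not (s := S.filter fun x => ¬ Commute t x)
      (fun x => ∃ y : ↥(Cfsg.SU 3 F q), y ≠ 1 ∧ y * y = 1 ∧ Commute t y ∧ Commute y x)
    simp only [Finset.filter_filter] at h2
    have h3 : (S.filter fun x => Commute t x).card = q * (q - 1) + 1 := by
      rw [← hA, hnat]
      have : (S.filter fun x => x ≠ t ∧ Commute t x) =
          (S.filter fun x => Commute t x).erase t := by
        ext x; simp; tauto
      rw [this, Finset.card_erase_add_one]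
      simp [S, ht, ht2, Commute.refl]
    have h4 : (S.filter fun x => ¬ Commute t x ∧
        ¬ ∃ y : ↥(Cfsg.SU 3 F q), y ≠ 1 ∧ y * y = 1 ∧ Commute t y ∧ Commute y x).card =
        (q + 1) * (q ^ 2 - 1) := by
      rw [← hC, hnat]
      congr 1
      refine Finset.filter_congr fun x _ => and_congr_right fun _ => ?_
      push Not
      constructor <;> intro h y a b <;> have := h y a b <;> tauto
    rw [hnat]
    rw [h3, hS] at h1
    rw [h4] at h2
    have hB : (S.filter fun x => ¬ Commute t x ∧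
        ∃ y : ↥(Cfsg.SU 3 F q), y ≠ 1 ∧ y * y = 1 ∧ Commute t y ∧ Commute y x).card +
        (q + 1) * (q ^ 2 - 1) + (q * (q - 1) + 1) = q ^ 2 * (q ^ 2 - q + 1) := by omega
    refine Nat.add_right_cancel (m := (q + 1) * (q ^ 2 - 1) + (q * (q - 1) + 1)) ?_
    rw [← add_assoc, hB]
    zify [hqle, hq1, show 1 ≤ q by omega, hq2]
    ring
  · intro x hx1 hx2
    by_cases hc : Commute t x
    · exact ⟨t, t, ht, ht2, ht, ht2, Commute.refl t, Commute.refl t, hc⟩
    by_cases hmid : ∃ y : ↥(Cfsg.SU 3 F q), y ≠ 1 ∧ y * y = 1 ∧ Commute t y ∧ Commute y x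
    · obtain ⟨y, hy1, hy2, h1, h2⟩ := hmid
      exact ⟨y, y, hy1, hy2, hy1, hy2, h1, Commute.refl y, h2⟩
    · obtain ⟨w, hw, rfl⟩ := H50.exists_su3inv hF hq x hx1 hx2
      have hnc' := hc
      rw [htdef, H50.su3inv_commute_iff] at hnc'
      push Not at hnc'
      have ha : Cfsg.hermForm 3 F q w z ^ (q + 1) = 1 := by
        by_contra ha
        exact hmid ((H50.su3inv_common_iff hF hq hz hw hc).2 ha)
      obtain ⟨u, hu, huz, huw⟩ := H50.exists_step hF hq hz hw ha hnc'.2
      have htu : Commute t (H50.su3inv hF hq u hu) :=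
        (H50.su3inv_commute_iff hF hq hz hu).2 (Or.inl huz)
      have hu1 := H50.su3inv_ne_one hF hq u hu
      have hu2 := H50.su3inv_sq hF hq u hu
      by_cases hc2 : Commute (H50.su3inv hF hq u hu) (H50.su3inv hF hq w hw)
      · exact ⟨_, _, hu1, hu2, hu1, hu2, htu, Commute.refl _, hc2⟩
      · obtain ⟨y, hy1, hy2, h1, h2⟩ := (H50.su3inv_common_iff hF hq hu hw hc2).2 huw
        exact ⟨_, y, hu1, hu2, hy1, hy2, htu, h1, h2⟩

end Cfsg.Agent.S2356
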