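import Cfsg.Statements.S2360
import Cfsg.Agent.H50.SU3Graph

set_option autoImplicit false
open Cfsg

namespace Cfsg.Agent.S2360

/-- Let q be odd, F the field with q² elements and S = SU_3(F) (determinant-one isometries of the standard Hermitian form). Then all involutions of S are conjugate; there are exactly q²(q²−q+1) of them; the centralizer of an involution has order q(q+1)(q²−1), the order of the full unitary group of degree 2; and for two distinct commuting involutions t and x there is exactly one further involution commuting with both. -/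
theorem result {F : Type*} [Field F] [Fintype F] {q : ℕ} (hq : Odd q)
    (hF : Fintype.card F = q ^ 2) (t : ↥(Cfsg.SU 3 F q)) (ht : t ≠ 1) (ht2 : t * t = 1) :
    (∀ x : ↥(Cfsg.SU 3 F q), x ≠ 1 → x * x = 1 → ∃ g : ↥(Cfsg.SU 3 F q), g * t * g⁻¹ = x) ∧
    Nat.card {x : ↥(Cfsg.SU 3 F q) // x ≠ 1 ∧ x * x = 1} = q ^ 2 * (q ^ 2 - q + 1) ∧
    Nat.card ↥(Subgroup.centralizer ({t} : Set ↥(Cfsg.SU 3 F q))) = q * (q + 1) * (q ^ 2 - 1) ∧
    ∀ x : ↥(Cfsg.SU 3 F q), x ≠ 1 → x * x = 1 → x ≠ t → Commute t x →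
      Nat.card {y : ↥(Cfsg.SU 3 F q) // y ≠ 1 ∧ y * y = 1 ∧ y ≠ t ∧ y ≠ x ∧ Commute t y ∧ Commute x y} = 1 := by
  classical
  obtain ⟨z, hz, rfl⟩ := H50.exists_su3inv hF hq t ht ht2
  have hq1 : q ≤ q ^ 2 := Nat.le_self_pow (by norm_num) q
  have hfac : q ^ 3 + 1 = (q + 1) * (q ^ 2 - q + 1) := by
    zify [hq1]; ring
  have htrans : ∀ x : ↥(Cfsg.SU 3 F q), x ≠ 1 → x * x = 1 →
      ∃ g : ↥(Cfsg.SU 3 F q), g * H50.su3inv hF hq z hz * g⁻¹ = x := by
    intro x hx1 hx2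
    obtain ⟨w, hw, rfl⟩ := H50.exists_su3inv hF hq x hx1 hx2
    obtain ⟨g, hg⟩ := H50.exists_SU_of_sameGram hF (ι := Unit) (b := fun _ => z) (b' := fun _ => w)
      (fun c hc => funext fun u => by simpa [H50.h_smul_left, hz] using hc u)
      (fun _ _ => by rw [hz, hw]) (by simp)
    exact ⟨g, by rw [H50.su3inv_conj]; congr 1; exact hg ()⟩
  have hX : Nat.card {x : ↥(Cfsg.SU 3 F q) // x ≠ 1 ∧ x * x = 1} = q ^ 2 * (q ^ 2 - q + 1) := by
    have h := H50.card_su3_involutions hF hq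
    rw [hfac] at h
    exact Nat.eq_of_mul_eq_mul_left (by omega : 0 < q + 1) (h.trans (by ring))
  refine ⟨htrans, hX, ?_, ?_⟩
  · choose c hc using fun x : {x : ↥(Cfsg.SU 3 F q) // x ≠ 1 ∧ x * x = 1} =>
      htrans x.1 x.2.1 x.2.2
    have hcard : Nat.card ↥(Cfsg.SU 3 F q) = Nat.card {x : ↥(Cfsg.SU 3 F q) // x ≠ 1 ∧ x * x = 1} *
        Nat.card ↥(Subgroup.centralizer ({H50.su3inv hF hq z hz} : Set ↥(Cfsg.SU 3 F q))) := by
      rw [← Nat.card_prod]
      have hmem : ∀ g : ↥(Cfsg.SU 3 F q), g * H50.su3inv hF hq z hz * g⁻¹ ≠ 1 ∧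
          (g * H50.su3inv hF hq z hz * g⁻¹) * (g * H50.su3inv hF hq z hz * g⁻¹) = 1 := by
        intro g
        rw [H50.su3inv_conj]
        exact ⟨H50.su3inv_ne_one hF hq _ _, H50.su3inv_sq hF hq _ _⟩
      refine Nat.card_congr
        { toFun := fun g => (⟨_, hmem g⟩, ⟨(c ⟨_, hmem g⟩)⁻¹ * g, ?_⟩)
          invFun := fun p => c p.1 * p.2.1
          left_inv := fun g => by simp
          right_inv := ?_ }
      · rw [Subgroup.mem_centralizer_singleton_iff, mul_assoc]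
        apply mul_left_cancel (a := c ⟨_, hmem g⟩)
        rw [← mul_assoc, mul_inv_cancel, one_mul]
        have h := hc ⟨_, hmem g⟩
        simp only at h
        rw [mul_inv_eq_iff_eq_mul] at h
        rw [← mul_assoc, h]
        group
      · rintro ⟨x, y, hy⟩
        rw [Subgroup.mem_centralizer_singleton_iff] at hy
        have h1 : (c x * y) * H50.su3inv hF hq z hz * (c x * y)⁻¹ = x.1 := by
          rw [mul_inv_rev, mul_assoc (c x) y, hy, ← hc x]
          group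
        have h2 : (⟨_, hmem (c x * y)⟩ : {x : ↥(Cfsg.SU 3 F q) // x ≠ 1 ∧ x * x = 1}) = x :=
          Subtype.ext h1
        refine Prod.ext h2 (Subtype.ext ?_)
        show (c ⟨_, hmem (c x * y)⟩)⁻¹ * (c x * y) = y
        rw [h2, inv_mul_cancel_left]
    have hS := H50.card_SU_mul hF (n := 3) (by norm_num)
    rw [H50.card_GU hF, hcard, hX, Finset.prod_range_succ, Finset.prod_range_succ,
      Finset.prod_range_succ, Finset.prod_range_zero] at hS
    simp only [show Even 0 from ⟨0, rfl⟩, show ¬ Even 1 by decide, show Even 2 from ⟨1, rfl⟩,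
      if_true, if_false, Nat.zero_add, pow_one, one_mul, Nat.reduceAdd, Nat.reduceMul, Nat.reduceSub,
      Nat.reduceDiv] at hS
    rw [hfac] at hS
    refine Nat.eq_of_mul_eq_mul_left
      (show 0 < (q + 1) * (q ^ 2 * (q ^ 2 - q + 1)) by have := H50.two_le hF; positivity) ?_
    rw [mul_assoc, hS]
    ring
  · intro x hx1 hx2 hxt hc
    obtain ⟨w, hw, rfl⟩ := H50.exists_su3inv hF hq x hx1 hx2
    have hwz := (H50.su3inv_commute_iff_ne hF hq hz hw).1 ⟨hxt, hc⟩
    obtain ⟨u, hu, huz, huw, huniq⟩ := H50.exists_perp_two_norm hF hz hw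
      (by rw [hwz, zero_pow (by omega)]; exact zero_ne_one)
    rw [Nat.card_eq_one_iff_unique]
    refine ⟨⟨?_⟩, ⟨⟨H50.su3inv hF hq u hu, H50.su3inv_ne_one hF hq _ _, H50.su3inv_sq hF hq _ _,
      ((H50.su3inv_commute_iff_ne hF hq hz hu).2 huz).1,
      ((H50.su3inv_commute_iff_ne hF hq hw hu).2 huw).1,
      ((H50.su3inv_commute_iff_ne hF hq hz hu).2 huz).2,
      ((H50.su3inv_commute_iff_ne hF hq hw hu).2 huw).2⟩⟩⟩
    suffices h : ∀ y : {y : ↥(Cfsg.SU 3 F q) // y ≠ 1 ∧ y * y = 1 ∧ y ≠ H50.su3inv hF hq z hz ∧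
        y ≠ H50.su3inv hF hq w hw ∧ Commute (H50.su3inv hF hq z hz) y ∧
        Commute (H50.su3inv hF hq w hw) y}, y.1 = H50.su3inv hF hq u hu from
      fun a b => Subtype.ext ((h a).trans (h b).symm)
    rintro ⟨y, hy1, hy2, hyt, hyx, hyt', hyx'⟩
    obtain ⟨v, hv, rfl⟩ := H50.exists_su3inv hF hq y hy1 hy2
    have h1 := (H50.su3inv_commute_iff_ne hF hq hz hv).1 ⟨hyt, hyt'⟩
    have h2 := (H50.su3inv_commute_iff_ne hF hq hw hv).1 ⟨hyx, hyx'⟩
    exact ((H50.su3inv_eq_iff hF hq hu hv).2 (huniq v h1 h2)).symm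

end Cfsg.Agent.S2360
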