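import Cfsg.Statements.S2364
import Cfsg.Agent.H40.PrimeOrderMaps

set_option autoImplicit false
open Cfsg

namespace Cfsg.Agent.S2364

/-- Let F be a finite field of characteristic p, n ≥ 4, and let a, b be commuting elements of PSL(n, F) with a of order p. Then every prime divisor of the order of b divides the order of SL(n − 2, F). -/
theorem result {F : Type*} [Field F] [Fintype F] (p : ℕ) [Fact p.Prime] [CharP F p] (n : ℕ) (hn : 4 ≤ n)
    (a b : Matrix.ProjectiveSpecialLinearGroup (Fin n) F) (ha : orderOf a = p) (hab : Commute a b) :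
    (orderOf b).primeFactors ⊆ (Nat.card (Matrix.SpecialLinearGroup (Fin (n - 2)) F)).primeFactors := by
  classical
  intro r hr
  obtain ⟨hrp, hrb, -⟩ := Nat.mem_primeFactors.1 hr
  haveI := Fact.mk hrp
  have hp : p.Prime := Fact.out
  haveI : Nonempty (Fin (n - 2)) := ⟨⟨0, by omega⟩⟩
  haveI : Nonempty (Fin n) := ⟨⟨0, by omega⟩⟩
  refine Nat.mem_primeFactors.2 ⟨hrp, ?_, Nat.card_ne_zero.2 ⟨⟨1⟩, inferInstance⟩⟩
  have hfin : ∀ i, 0 < i → i ≤ n - 2 → r ∣ Fintype.card F ^ i - 1 →
      r ∣ Nat.card (Matrix.SpecialLinearGroup (Fin (n - 2)) F) := by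
    intro i hi hile hdvd
    rcases eq_or_lt_of_le (Nat.succ_le_of_lt hi) with h1 | h1
    · refine dvd_trans (dvd_trans hdvd ?_) (H40.pow_sub_one_dvd_card_SL (i := 2) le_rfl (by omega))
      rw [show i = 1 by omega, pow_one]
      exact Nat.sub_one_dvd_pow_sub_one _ _
    · exact dvd_trans hdvd (H40.pow_sub_one_dvd_card_SL (by omega) hile)
  by_cases hrp' : r = p
  · subst hrp'
    have hq : r ∣ Fintype.card F := by
      obtain ⟨f, -, hcard⟩ := FiniteField.card F r
      rw [hcard]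
      exact dvd_pow_self r f.ne_zero
    have h1 : r ∣ Nat.card (GL (Fin (n - 2)) F) := by
      rw [Matrix.card_GL_field]
      refine dvd_trans ?_ (Finset.dvd_prod_of_mem _ (Finset.mem_univ (⟨1, by omega⟩ : Fin (n - 2))))
      exact Nat.dvd_sub (dvd_pow hq (by omega)) (dvd_pow hq one_ne_zero)
    rw [← H40.card_SL_mul] at h1
    refine (hrp.dvd_mul.1 h1).resolve_right fun h => hrp.one_lt.ne' ?_
    have h2 := Nat.dvd_sub hq h
    rw [Nat.sub_sub_self Fintype.card_pos] at h2
    exact Nat.dvd_one.1 h2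
  have hrF : (r : F) ≠ 0 := fun h => hrp' (((Nat.prime_dvd_prime_iff_eq hp hrp).1
    ((CharP.cast_eq_zero_iff F p r).1 h)).symm)
  obtain ⟨A, rfl⟩ := QuotientGroup.mk'_surjective (Subgroup.center (Matrix.SpecialLinearGroup (Fin n) F)) a
  obtain ⟨B, rfl⟩ := QuotientGroup.mk'_surjective (Subgroup.center (Matrix.SpecialLinearGroup (Fin n) F)) b
  have hmem : ∀ X : Matrix.SpecialLinearGroup (Fin n) F,
      X ∈ Subgroup.center (Matrix.SpecialLinearGroup (Fin n) F) →
      ∃ c : F, (X : Matrix (Fin n) (Fin n) F) = c • 1 := by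
    intro X hX
    obtain ⟨c, -, hc⟩ := Matrix.SpecialLinearGroup.mem_center_iff.1 hX
    exact ⟨c, by rw [← hc, Matrix.scalar_apply, Matrix.smul_one_eq_diagonal]⟩
  have hmem' : ∀ (X : Matrix.SpecialLinearGroup (Fin n) F) (c : F),
      (X : Matrix (Fin n) (Fin n) F) = c • 1 →
      X ∈ Subgroup.center (Matrix.SpecialLinearGroup (Fin n) F) := by
    intro X c hc
    refine Matrix.SpecialLinearGroup.mem_center_iff.2 ⟨c, ?_, ?_⟩
    · have := X.2
      rw [hc, Matrix.det_smul, Matrix.det_one, mul_one, Fintype.card_fin] at this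
      rw [Fintype.card_fin]
      exact this
    · rw [hc, Matrix.scalar_apply, Matrix.smul_one_eq_diagonal]
  have hAp : A ^ p ∈ Subgroup.center (Matrix.SpecialLinearGroup (Fin n) F) := by
    rw [← QuotientGroup.eq_one_iff (N := Subgroup.center (Matrix.SpecialLinearGroup (Fin n) F))]
    rw [QuotientGroup.mk_pow, ← ha]
    exact pow_orderOf_eq_one _
  obtain ⟨c, hc⟩ := hmem _ hAp
  obtain ⟨e, rfl⟩ := Finite.injective_iff_surjective.1 (frobenius_inj F p) c
  rw [Matrix.SpecialLinearGroup.coe_pow] at hc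
  have he : e ≠ 0 := by
    intro h0
    rw [frobenius_def, h0, zero_pow hp.ne_zero, zero_smul] at hc
    have := congrArg Matrix.det hc
    rw [Matrix.det_pow, A.2, Matrix.det_zero, one_pow] at this
    exact one_ne_zero this
  set M : Matrix (Fin n) (Fin n) F := e⁻¹ • (A : Matrix (Fin n) (Fin n) F) with hMdef
  have hMp : M ^ p = 1 := by
    rw [smul_pow, hc, frobenius_def, smul_smul, ← mul_pow, inv_mul_cancel₀ he, one_pow, one_smul]
  have hM1 : M ≠ 1 := by
    intro h
    have : (A : Matrix (Fin n) (Fin n) F) = e • 1 := by rw [← h, hMdef, smul_inv_smul₀ he]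
    have h1 := (QuotientGroup.eq_one_iff A).2 (hmem' A e this)
    rw [QuotientGroup.mk'_apply, h1, orderOf_one] at ha
    exact hp.one_lt.ne ha
  obtain ⟨ζ, hζ⟩ : ∃ ζ : F, (B : Matrix (Fin n) (Fin n) F) * M = ζ • (M * (B : Matrix (Fin n) (Fin n) F)) := by
    have hab' := hab.eq
    simp only [QuotientGroup.mk'_apply, ← QuotientGroup.mk_mul] at hab'
    obtain ⟨ζ, hζ⟩ := hmem _ (QuotientGroup.eq.1 hab')
    refine ⟨ζ, ?_⟩
    have h2 : (B : Matrix (Fin n) (Fin n) F) * (A : Matrix (Fin n) (Fin n) F) =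
        ((A : Matrix (Fin n) (Fin n) F) * (B : Matrix (Fin n) (Fin n) F)) *
          (((A * B)⁻¹ * (B * A) : Matrix.SpecialLinearGroup (Fin n) F) : Matrix (Fin n) (Fin n) F) :=
      congrArg Subtype.val (show B * A = (A * B) * ((A * B)⁻¹ * (B * A)) by group)
    rw [hζ, mul_smul_comm, Matrix.mul_one] at h2
    rw [hMdef, mul_smul_comm, h2, smul_mul_assoc, smul_comm]
  have hζ1 : ζ = 1 := by
    have hu : IsUnit (B : Matrix (Fin n) (Fin n) F).det := by rw [B.2]; exact isUnit_one
    set N := (B : Matrix (Fin n) (Fin n) F) with hN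
    have h1 : N * M * N⁻¹ = ζ • M := by
      rw [hζ, smul_mul_assoc, Matrix.mul_assoc, Matrix.mul_nonsing_inv N hu, Matrix.mul_one]
    have h2 : ∀ k : ℕ, (N * M * N⁻¹) ^ k = N * M ^ k * N⁻¹ := by
      intro k
      induction k with
      | zero => rw [pow_zero, pow_zero, Matrix.mul_one, Matrix.mul_nonsing_inv N hu]
      | succ k ih =>
        rw [pow_succ, ih, pow_succ]
        calc N * M ^ k * N⁻¹ * (N * M * N⁻¹) = N * M ^ k * (N⁻¹ * N) * M * N⁻¹ := by
              simp [Matrix.mul_assoc]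
          _ = N * (M ^ k * M) * N⁻¹ := by
              rw [Matrix.nonsing_inv_mul N hu]; simp [Matrix.mul_assoc]
    have h3 := h2 p
    rw [h1, smul_pow, hMp, Matrix.mul_one, Matrix.mul_nonsing_inv N hu] at h3
    have h4 := congrFun (congrFun h3 ⟨0, by omega⟩) ⟨0, by omega⟩
    simp at h4
    exact frobenius_inj F p (by rw [frobenius_def, frobenius_def, one_pow]; exact h4)
  rw [hζ1, one_smul] at hζ
  have hrB : r ∣ orderOf B := dvd_trans hrb (orderOf_map_dvd _ B)
  set S : Matrix.SpecialLinearGroup (Fin n) F := B ^ (orderOf B / r) with hSdef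
  have hS : orderOf S = r := orderOf_pow_orderOf_div (orderOf_pos B).ne' hrB
  let T : Module.End F (Fin n → F) := Matrix.toLinAlgEquiv' (S : Matrix (Fin n) (Fin n) F)
  let Nm : Module.End F (Fin n → F) := Matrix.toLinAlgEquiv' (M - 1)
  have hT : T ^ r = 1 := by
    show (Matrix.toLinAlgEquiv' (S : Matrix (Fin n) (Fin n) F)) ^ r = 1
    rw [← map_pow, ← Matrix.SpecialLinearGroup.coe_pow, ← hS, pow_orderOf_eq_one,
      Matrix.SpecialLinearGroup.coe_one, map_one]
  have hcomm : Commute T Nm := by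
    refine Commute.map ?_ Matrix.toLinAlgEquiv'
    rw [hSdef, Matrix.SpecialLinearGroup.coe_pow]
    exact (Commute.sub_right hζ (Commute.one_right _)).pow_left _
  have hTN : ∀ v, T (Nm v) = Nm (T v) := fun v => LinearMap.congr_fun hcomm.eq v
  have hNp : Nm ^ p = 0 := by
    show (Matrix.toLinAlgEquiv' (M - 1)) ^ p = 0
    rw [← map_pow, sub_pow_char_of_commute p (Commute.one_right M), hMp, one_pow, sub_self, map_zero]
  have hN0 : Nm ≠ 0 := by
    show Matrix.toLinAlgEquiv' (M - 1) ≠ 0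
    rw [ne_eq, EmbeddingLike.map_eq_zero_iff, sub_eq_zero]
    exact hM1
  let K := LinearMap.ker Nm
  let I := LinearMap.range Nm
  have hKinv : ∀ v ∈ K, T v ∈ K := fun v hv => by
    show Nm (T v) = 0
    rw [← hTN, show Nm v = 0 from hv, map_zero]
  have hIinv : ∀ v ∈ I, T v ∈ I := by
    rintro _ ⟨v, rfl⟩
    exact ⟨T v, (hTN v).symm⟩
  have hAinv : ∀ v ∈ K ⊓ I, T v ∈ K ⊓ I := fun v hv => ⟨hKinv v hv.1, hIinv v hv.2⟩
  have hBinv : ∀ v ∈ K ⊔ I, T v ∈ K ⊔ I := by
    intro v hv
    obtain ⟨x, hx, y, hy, rfl⟩ := Submodule.mem_sup.1 hv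
    rw [map_add]
    exact Submodule.add_mem_sup (hKinv x hx) (hIinv y hy)
  have ha1 : K ⊓ I ≠ ⊥ := by
    intro hbot
    apply hN0
    refine LinearMap.ext fun v => ?_
    have hstep : ∀ k : ℕ, (Nm ^ (k + 2)) v = 0 → (Nm ^ (k + 1)) v = 0 := by
      intro k hk
      have : (Nm ^ (k + 1)) v ∈ K ⊓ I := by
        refine ⟨?_, ?_⟩
        · show Nm ((Nm ^ (k + 1)) v) = 0
          rw [← Module.End.mul_apply, ← pow_succ']
          exact hk
        · exact ⟨(Nm ^ k) v, by rw [← Module.End.mul_apply, ← pow_succ']⟩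
      rw [hbot] at this
      exact this
    have hall : ∀ k : ℕ, (Nm ^ (k + 1)) v = 0 → Nm v = 0 := by
      intro k
      induction k with
      | zero => intro h; simpa using h
      | succ k ih => intro h; exact ih (hstep k h)
    exact hall (p - 1) (by rw [Nat.sub_add_cancel hp.one_le, hNp]; rfl)
  have hdim := Submodule.finrank_sup_add_finrank_inf_eq K I
  have hrn := LinearMap.finrank_range_add_finrank_ker Nm
  rw [Module.finrank_fin_fun] at hrn
  have ha1' : 1 ≤ Module.finrank F (K ⊓ I : Submodule F (Fin n → F)) :=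
    Submodule.one_le_finrank_iff.2 ha1
  have hle : Module.finrank F (K ⊓ I : Submodule F (Fin n → F)) ≤
      Module.finrank F (K ⊔ I : Submodule F (Fin n → F)) :=
    Submodule.finrank_mono inf_le_sup
  have hKI : Module.finrank F (K ⊔ I : Submodule F (Fin n → F)) +
      Module.finrank F (K ⊓ I : Submodule F (Fin n → F)) = n := by
    rw [hdim]
    show Module.finrank F (LinearMap.ker Nm) + Module.finrank F (LinearMap.range Nm) = n
    omega
  by_cases c1 : ∃ v ∈ K ⊓ I, T v ≠ v
  · obtain ⟨v, hv, hne⟩ := c1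
    obtain ⟨i, hi0, hile, hd⟩ := H40.exists_dvd_of_subquotient r hrF T hT ⊥ (K ⊓ I)
      (fun w hw => by simp [(Submodule.mem_bot F).1 hw]) hAinv bot_le hv
      (by simpa [Submodule.mem_bot, sub_eq_zero] using hne)
    simp only [finrank_bot, Nat.sub_zero] at hile
    exact hfin i hi0 (by omega) hd
  by_cases c2 : ∃ v ∈ K ⊔ I, T v - v ∉ K ⊓ I
  · obtain ⟨v, hv, hne⟩ := c2
    obtain ⟨i, hi0, hile, hd⟩ :=
      H40.exists_dvd_of_subquotient r hrF T hT _ _ hAinv hBinv inf_le_sup hv hne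
    exact hfin i hi0 (by omega) hd
  by_cases c3 : ∃ v, T v - v ∉ K ⊔ I
  · obtain ⟨v, hne⟩ := c3
    obtain ⟨i, hi0, hile, hd⟩ := H40.exists_dvd_of_subquotient r hrF T hT (K ⊔ I) ⊤ hBinv
      (fun w _ => trivial) le_top (v := v) trivial hne
    rw [finrank_top, Module.finrank_fin_fun] at hile
    exact hfin i hi0 (by omega) hd
  push Not at c1 c2 c3
  exfalso
  have hB1 : ∀ v ∈ K ⊔ I, T v = v := fun v hv =>
    H40.eq_self_of_two_step r hrF T hT (K ⊓ I) c1 (c2 v hv)
  have hT1 : T = 1 := LinearMap.ext fun v =>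
    H40.eq_self_of_two_step r hrF T hT (K ⊔ I) hB1 (c3 v)
  have hS1 : S = 1 := by
    refine Subtype.ext (Matrix.toLinAlgEquiv'.injective ?_)
    rw [Matrix.SpecialLinearGroup.coe_one, map_one]
    exact hT1
  rw [hS1, orderOf_one] at hS
  exact hrp.one_lt.ne hS

end Cfsg.Agent.S2364
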