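import Cfsg.Statements.S2365
import Cfsg.Agent.S0278
import Cfsg.Agent.H50.CentraliserPrime
import Cfsg.Agent.H50.PSU3Spectrum
import Cfsg.Agent.H55.PSUBasics
-- import your own Cfsg.Agent.* helpers here

set_option autoImplicit false
open Cfsg

namespace Cfsg.Agent.S2365

/-- Let q be a power of the prime p, F the field with q² elements, m ≥ 4, and let a, b be commuting elements of PSU(m, q) with a of order p. Then every prime divisor of the order of b divides the order of SU(m − 2, q). -/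
theorem result {F : Type*} [Field F] [Fintype F] (p : ℕ) [Fact p.Prime] [CharP F p] (m q : ℕ) (hm : 4 ≤ m) (hF : Fintype.card F = q ^ 2)
    (a b : Cfsg.PSU m F q) (ha : orderOf a = p) (hab : Commute a b) :
    (orderOf b).primeFactors ⊆ (Nat.card ↥(Cfsg.SU (m - 2) F q)).primeFactors := by
  classical
  intro r hr
  rw [Nat.mem_primeFactors] at hr ⊢
  obtain ⟨hrp, hrb, -⟩ := hr
  haveI : Fact r.Prime := ⟨hrp⟩
  refine ⟨hrp, ?_, Nat.card_pos.ne'⟩
  have hp : p.Prime := Fact.out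
  have hq2 := H50.two_le hF
  obtain ⟨k, hk⟩ : ∃ k, m - 2 = k + 2 := ⟨m - 4, by omega⟩
  have hcard : Nat.card ↥(Cfsg.SU (m - 2) F q) = q ^ ((m - 2) * (m - 2 - 1) / 2) *
      ∏ i ∈ Finset.Ico 1 (m - 2), (if Even i then q ^ (i + 1) + 1 else q ^ (i + 1) - 1) := by
    have h := Cfsg.Agent.S0278.result hF (m - 2) (by omega)
    rw [Finset.range_eq_Ico, Finset.prod_eq_prod_Ico_succ_bot (by omega), if_pos Even.zero, zero_add,
      pow_one] at h
    apply Nat.eq_of_mul_eq_mul_left (Nat.succ_pos q)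
    show (q + 1) * _ = (q + 1) * _
    rw [h]; ring
  have hterm : ∀ i : ℕ, 1 ≤ i → i < m - 2 →
      r ∣ (if Even i then q ^ (i + 1) + 1 else q ^ (i + 1) - 1) →
      r ∣ Nat.card ↥(Cfsg.SU (m - 2) F q) := fun i h1 h2 h =>
    hcard ▸ Dvd.dvd.mul_left (h.trans (Finset.dvd_prod_of_mem
      (fun i : ℕ => if Even i then q ^ (i + 1) + 1 else q ^ (i + 1) - 1) (Finset.mem_Ico.2 ⟨h1, h2⟩))) _
  by_cases hrq : r ∣ q ^ 2 - 1
  · exact hterm 1 le_rfl (by omega) (by simpa using hrq)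
  have hq : ((q ^ 2 : ℕ) : F) = 0 := by rw [← hF, Nat.cast_card_eq_zero]
  rw [CharP.cast_eq_zero_iff F p] at hq
  have hpq : p ∣ q := hp.dvd_of_dvd_pow hq
  by_cases hrp' : r = p
  · subst hrp'
    rw [hcard]
    refine Dvd.dvd.mul_right (hpq.trans (dvd_pow_self q ?_)) _
    have : 2 ≤ (m - 2) * (m - 2 - 1) := Nat.mul_le_mul (show 2 ≤ m - 2 by omega) (by omega : 1 ≤ m - 2 - 1)
    omega
  -- lifts
  set Z := Subgroup.center ↥(Cfsg.SU m F q) with hZ
  have hd : Nat.card Z = Nat.gcd m (q + 1) := H50.card_center_SU hF (by omega)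
  have hlift : ∀ (c : Cfsg.PSU m F q) (l : ℕ), l.Prime → ¬ l ∣ q + 1 → orderOf c = l →
      ∀ x : ↥(Cfsg.SU m F q), H55.Psu.umk x = c →
        (x ^ Nat.card Z) ^ l = 1 ∧ x ^ Nat.card Z ≠ 1 ∧ H55.Psu.umk (x ^ Nat.card Z) = c ^ Nat.card Z := by
    intro c l hl hlq hc x hx
    have h1 : x ^ l ∈ Z := by
      rw [hZ, ← QuotientGroup.eq_one_iff]
      show H55.Psu.umk (x ^ l) = 1
      rw [map_pow, hx, ← hc, pow_orderOf_eq_one]
    have h2 : (x ^ l) ^ Nat.card Z = 1 :=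
      congrArg Subtype.val (pow_card_eq_one' (G := Z) (x := ⟨x ^ l, h1⟩))
    refine ⟨by rw [pow_right_comm]; exact h2, fun h => ?_, by rw [map_pow, hx]⟩
    have h3 : c ^ Nat.card Z = 1 := by rw [← hx, ← map_pow, h, map_one]
    have := orderOf_dvd_of_pow_eq_one h3
    rw [hc, hd] at this
    exact hlq (this.trans (Nat.gcd_dvd_right _ _))
  have hpq1 : ¬ p ∣ q + 1 := fun h => hp.one_lt.ne' (Nat.dvd_one.1 ((Nat.dvd_add_right hpq).1 h))
  have hrq1 : ¬ r ∣ q + 1 := fun h => hrq (h.trans ⟨q - 1, by rw [← Nat.sq_sub_sq, one_pow]⟩)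
  obtain ⟨y, hy⟩ := H55.Psu.umk_surjective a
  obtain ⟨hs1, hs0, hsi⟩ := hlift a p hp hpq1 ha y hy
  set s := y ^ Nat.card Z
  obtain ⟨x, hx⟩ := H55.Psu.umk_surjective (b ^ (orderOf b / r))
  obtain ⟨ht1, ht0, hti⟩ := hlift _ r hrp hrq1
    (orderOf_pow_orderOf_div (orderOf_pos b).ne' hrb) x hx
  set t := x ^ Nat.card Z
  have hcomm : t * s = s * t := by
    apply H55.Psu.commute_of_umk hF (by omega) (p := p) (k := 1) (by rw [pow_one]; exact hs1)
    rw [hsi, hti]
    exact (((hab.symm.pow_left _).pow_left _).pow_right _).eq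
  set M := H50.suMat t
  set S := H50.suMat s
  have hM : H51.adj hF M * M = 1 := (H51.mem_GU_iff hF (Matrix.SpecialLinearGroup.toGL t.1)).1 t.2
  have hMr : M ^ r = 1 := by
    show H50.suMat t ^ r = 1
    rw [← H50.Spec3.suMat_pow, ht1, H50.suMat_one]
  have hM1 : M ≠ 1 := fun h => ht0 (H50.suMat_ext fun v => by rw [show H50.suMat t = 1 from h, H50.suMat_one])
  have hS1 : S - 1 ≠ 0 := fun h => hs0 (H50.suMat_ext fun v => by
    rw [show H50.suMat s = 1 from sub_eq_zero.1 h, H50.suMat_one])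
  haveI : Nonempty (Fin m) := ⟨⟨0, by omega⟩⟩
  have hSp : (S - 1) ^ p = 0 := by
    rw [sub_pow_char_of_commute p (Commute.one_right S), one_pow]
    show H50.suMat s ^ p - 1 = 0
    rw [← H50.Spec3.suMat_pow, hs1, H50.suMat_one, sub_self]
  have hex : ∃ j, (S - 1) ^ j = 0 := ⟨p, hSp⟩
  set j := Nat.find hex with hj
  have hj2 : 2 ≤ j := by
    by_contra h
    have h0 := Nat.find_spec hex
    rcases (show j = 0 ∨ j = 1 by omega) with h' | h'
    · rw [← hj, h', pow_zero] at h0; exact one_ne_zero h0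
    · rw [← hj, h', pow_one] at h0; exact hS1 h0
  have hcS : Commute ((S - 1) ^ (j - 1)) M := by
    refine Commute.pow_left ?_ _
    show (S - 1) * M = M * (S - 1)
    rw [sub_mul, mul_sub, one_mul, mul_one]
    show H50.suMat s * H50.suMat t - _ = H50.suMat t * H50.suMat s - _
    rw [← H50.suMat_mul, ← H50.suMat_mul, hcomm]
  obtain ⟨k', hk1, hk2, hk3⟩ := H50.centraliser_prime hF hm hM
    (r := r) (by rw [Ne, CharP.cast_eq_zero_iff F p, Nat.prime_dvd_prime_iff_eq hp hrp]; exact fun h => hrp' h.symm)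
    hMr hM1 (N := (S - 1) ^ (j - 1)) hcS.eq
    (by rw [← pow_add]; exact pow_eq_zero_of_le (by omega) (Nat.find_spec hex))
    (Nat.find_min hex (by omega)) hrq
  obtain ⟨i, rfl⟩ : ∃ i, k' = i + 1 := ⟨k' - 1, by omega⟩
  refine hterm i (by omega) (by omega) ?_
  rcases Nat.even_or_odd i with he | he
  · rw [if_pos he]
    rwa [if_neg (Nat.not_even_iff_odd.2 he.add_one)] at hk3
  · rw [if_neg (Nat.not_even_iff_odd.2 he)]
    rwa [if_pos he.add_one] at hk3

end Cfsg.Agent.S2365
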