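import Cfsg.Statements.S2366
import Cfsg.Agent.H50.PSU3Orders
-- import your own Cfsg.Agent.* helpers here

set_option autoImplicit false
open Cfsg

namespace Cfsg.Agent.S2366

/-- The set of element orders of PSU(3, q) for an odd prime power q = p^n: writing d = gcd(3, q + 1), a positive integer is the order of some element exactly when it divides one of q + 1, p(q + 1)/d, (q² − 1)/d, (q² − q + 1)/d. -/
theorem result {F : Type*} [Field F] [Fintype F] (p : ℕ) [Fact p.Prime] [CharP F p] (hp : p ≠ 2) (q : ℕ) (hF : Fintype.card F = q ^ 2) :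
    Set.range (orderOf : Cfsg.PSU 3 F q → ℕ) =
      {s : ℕ | s ∣ q + 1} ∪ {s : ℕ | s ∣ p * (q + 1) / Nat.gcd 3 (q + 1)} ∪
        {s : ℕ | s ∣ (q ^ 2 - 1) / Nat.gcd 3 (q + 1)} ∪ {s : ℕ | s ∣ (q ^ 2 - q + 1) / Nat.gcd 3 (q + 1)} := by
  have hp3 : 3 ≤ p := by
    have := (Fact.out : p.Prime).two_le
    omega
  have hq : 3 ≤ q := by
    have h2 := H50.two_le hF
    rcases Nat.lt_or_ge q 3 with h | h
    · exfalso
      obtain rfl : q = 2 := by omega
      have h0 : ((2 ^ 2 : ℕ) : F) = 0 := by rw [← hF, Nat.cast_card_eq_zero]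
      rw [CharP.cast_eq_zero_iff F p] at h0
      exact hp ((Nat.prime_dvd_prime_iff_eq Fact.out Nat.prime_two).1
        ((Fact.out : p.Prime).dvd_of_dvd_pow h0))
    · exact h
  rw [Nat.mul_div_assoc p H50.Spec3.gcd_dvd_q_add_one]
  apply Set.Subset.antisymm
  · rintro _ ⟨y, rfl⟩
    obtain ⟨g, rfl⟩ := QuotientGroup.mk'_surjective (Subgroup.center (Cfsg.SU 3 F q)) y
    obtain ⟨N, hN, t, ht⟩ := H50.Spec3.pow_scalar_upper hF g p hp
    have h1 : (QuotientGroup.mk' (Subgroup.center (Cfsg.SU 3 F q)) g) ^ N = 1 := by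
      rw [← map_pow, QuotientGroup.mk'_apply, QuotientGroup.eq_one_iff,
        H50.mem_center_iff_scalar hF (by norm_num)]
      exact ⟨t, by rw [H50.Spec3.suMat_pow, ht]⟩
    have h2 := orderOf_dvd_of_pow_eq_one h1
    simp only [List.mem_cons, List.not_mem_nil, or_false] at hN
    rcases hN with rfl | rfl | rfl | rfl
    · exact Or.inl (Or.inl (Or.inl h2))
    · exact Or.inl (Or.inl (Or.inr h2))
    · exact Or.inl (Or.inr h2)
    · exact Or.inr h2
  · intro s hs
    have key : ∀ g : Cfsg.SU 3 F q,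
        s ∣ orderOf (QuotientGroup.mk' (Subgroup.center (Cfsg.SU 3 F q)) g) →
        s ∈ Set.range (orderOf : Cfsg.PSU 3 F q → ℕ) := fun g h => by
      set y := QuotientGroup.mk' (Subgroup.center (Cfsg.SU 3 F q)) g
      exact ⟨y ^ (orderOf y / s), orderOf_pow_orderOf_div (orderOf_pos y).ne' h⟩
    rcases hs with ((hs | hs) | hs) | hs
    · obtain ⟨g, hg⟩ := H50.Spec3.order_torus_one hF
      exact key g (hg ▸ hs)
    · obtain ⟨g, hg⟩ := H50.Spec3.order_torus_unipotent hF p
      exact key g (hg ▸ hs)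
    · obtain ⟨g, hg⟩ := H50.Spec3.order_torus_two hF
      exact key g (hg ▸ hs)
    · obtain ⟨g, hg⟩ := H50.Spec3.order_torus_three hF hq
      exact key g (hg ▸ hs)

end Cfsg.Agent.S2366
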