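import Cfsg.Statements.S2367
import Mathlib

set_option autoImplicit false
open Cfsg

namespace Cfsg.Agent.S2367

/-- The 26 orders with their exponents of `2`. -/
def orderList : List (ℕ × ℕ) := [(7920, 4), (95040, 6), (443520, 7), (10200960, 7), (244823040, 10), (175560, 3), (604800, 7), (50232960, 7), (86775571046077562880, 21), (4157776806543360000, 21), (42305421312000, 18), (495766656000, 10), (64561751654400, 17), (4089470473293004800, 18), (1255205709190661721292800, 21), (44352000, 9), (898128000, 7), (4030387200, 10), (145926144000, 14), (448345497600, 13), (460815505920, 9), (273030912000000, 14), (51765179004000000, 8), (90745943887872000, 15), (4154781481226426191177580544000000, 41), (808017424794512875886459904961710757005754368000000000, 46)]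

theorem check :
    ∀ x ∈ orderList, (2 ^ x.2 ∣ x.1 ∧ x.1 ∣ (2*3*5*7*11*13*17*19*23*29*31*37*41*43*47*59*67*71) ^ 46) ∧
      ∀ q ∈ [3, 5, 7, 11, 13, 17, 19, 23, 29, 31, 37, 41, 43, 47, 59, 67, 71],
        q ^ 3 ∣ x.1 → ¬ q ^ 4 ∣ x.1 → q ^ 3 < 2 ^ x.2 := by decide +kernel

theorem sporadic_case (N v : ℕ) (hx : (N, v) ∈ orderList) (p : ℕ) (hp : p.Prime) (hodd : p ≠ 2)
    (h3 : N.factorization p = 3) : p ^ 3 < 2 ^ N.factorization 2 := by
  obtain ⟨⟨hv, hN⟩, hq⟩ := check _ hx
  have hN0 : N ≠ 0 := by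
    rintro rfl
    simp at h3
  have hd3 : p ^ 3 ∣ N := (hp.pow_dvd_iff_le_factorization hN0).mpr h3.ge
  have hd4 : ¬ p ^ 4 ∣ N := fun h => by
    have := (hp.pow_dvd_iff_le_factorization hN0).mp h
    omega
  have hpd : p ∣ (2*3*5*7*11*13*17*19*23*29*31*37*41*43*47*59*67*71) :=
    hp.dvd_of_dvd_pow (((dvd_pow_self p (by norm_num : (3:ℕ) ≠ 0)).trans hd3).trans hN)
  simp only [hp.dvd_mul] at hpd
  have hpl : p ∈ [3, 5, 7, 11, 13, 17, 19, 23, 29, 31, 37, 41, 43, 47, 59, 67, 71] := by
    have key : ∀ q : ℕ, q.Prime → p ∣ q → p = q := fun q hq h => (Nat.prime_dvd_prime_iff_eq hp hq).mp h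
    simp only [List.mem_cons]
    rcases hpd with ((((((((((((((((h|h)|h)|h)|h)|h)|h)|h)|h)|h)|h)|h)|h)|h)|h)|h)|h)|h <;>
      have := key _ (by norm_num) h <;> omega
  calc p ^ 3 < 2 ^ v := hq p hpl hd3 hd4
    _ ≤ 2 ^ N.factorization 2 :=
      Nat.pow_le_pow_right two_pos ((Nat.prime_two.pow_dvd_iff_le_factorization hN0).mp hv)

theorem cube_lt_pow {p : ℕ} (hp : 5 ≤ p) : p ^ 3 < 2 ^ (2 * p - 1) := by
  induction p, hp using Nat.le_induction with
  | base => norm_num
  | succ p hp ih =>
    rw [show 2 * (p + 1) - 1 = (2 * p - 1) + 2 by omega, pow_add]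
    have : (p + 1) ^ 3 ≤ 4 * p ^ 3 := by
      calc (p + 1) ^ 3 ≤ (p + 1) ^ 3 := le_rfl
        _ ≤ 4 * p ^ 3 := by nlinarith [Nat.mul_le_mul hp hp, Nat.mul_le_mul (Nat.mul_le_mul hp hp) hp]
    omega

theorem alt_case (n p : ℕ) (hn : 5 ≤ n) (hp : p.Prime) (hodd : p ≠ 2)
    (h3 : (n.factorial / 2).factorization p = 3) :
    p ^ 3 < 2 ^ (n.factorial / 2).factorization 2 := by
  have h2 : 2 ∣ n.factorial := Nat.dvd_factorial two_pos (by omega)
  rw [Nat.factorization_div h2, Nat.prime_two.factorization] at h3 ⊢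
  simp only [Finsupp.coe_tsub, Pi.sub_apply, Finsupp.single_eq_same] at h3 ⊢
  rw [Finsupp.single_eq_of_ne hodd, Nat.sub_zero] at h3
  rw [Nat.factorization_def _ hp] at h3
  rw [Nat.factorization_def _ Nat.prime_two]
  haveI := Fact.mk hp
  haveI := Fact.mk Nat.prime_two
  have hp3 : 3 ≤ p := by have := hp.two_le; omega
  have hn3 : 3 * p ≤ n := by
    by_contra hcon
    have hlog : Nat.log p n < 2 := Nat.log_lt_of_lt_pow (by omega) (by nlinarith)
    rw [padicValNat_factorial hlog] at h3
    simp at h3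
    have : n / p < 3 := (Nat.div_lt_iff_lt_mul hp.pos).mpr (by omega)
    omega
  have hp5 : 5 ≤ p := by
    rcases Nat.lt_or_ge p 5 with h | h
    · interval_cases p
      · exfalso
        have hlog : Nat.log 3 n < n + 3 := by have := Nat.log_le_self 3 n; omega
        rw [padicValNat_factorial hlog] at h3
        have h' := Finset.sum_le_sum_of_subset (f := fun i => n / 3 ^ i)
          (s := Finset.Ico 1 3) (t := Finset.Ico 1 (n + 3)) (Finset.Ico_subset_Ico_right (by omega))
        rw [h3] at h'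
        simp [Finset.sum_Ico_eq_sum_range, Finset.sum_range_succ] at h'
        omega
      · exact absurd hp (by decide)
    · exact h
  have hlog : Nat.log 2 n < n + 3 := by have := Nat.log_le_self 2 n; omega
  rw [padicValNat_factorial hlog]
  have h' := Finset.sum_le_sum_of_subset (f := fun i => n / 2 ^ i)
    (s := Finset.Ico 1 3) (t := Finset.Ico 1 (n + 3)) (Finset.Ico_subset_Ico_right (by omega))
  rw [show Finset.Ico 1 3 = ({1, 2} : Finset ℕ) from rfl, Finset.sum_pair (by decide), pow_one,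
    show (2:ℕ) ^ 2 = 4 by norm_num] at h'
  refine (cube_lt_pow hp5).trans_le (Nat.pow_le_pow_right two_pos ?_)
  omega


/-- Let G be an alternating group of degree at least 5 or a simple group with the order of one of the 26 sporadic groups, and let p be an odd prime such that p³ is the exact power of p dividing the order of G. Then p³ is less than the 2-part of the order of G. -/
theorem result {G : Type*} [Group G] [Finite G] (hG : Cfsg.IsAlternating G ∨ Cfsg.IsSporadic G)
    (p : ℕ) (hp : p.Prime) (hodd : p ≠ 2) (h3 : (Nat.card G).factorization p = 3) :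
    p ^ 3 < 2 ^ (Nat.card G).factorization 2 := by
  rcases hG with ⟨n, hn, ⟨e⟩⟩ | hs
  · haveI : Nontrivial (Fin n) := Fin.nontrivial_iff_two_le.mpr (by omega)
    rw [Nat.card_congr e.toEquiv, nat_card_alternatingGroup, Nat.card_fin] at h3 ⊢
    exact alt_case n p hn hp hodd h3
  · have hx : ∃ v, (Nat.card G, v) ∈ orderList := by
      rcases hs with h|h|h|h|h|h|h|h|h|h|h|h|h|h|h|h|h|h|h|h|h|h|h|h|h|h <;> rw [h.2] <;>
        simp [orderList]
    obtain ⟨v, hv⟩ := hx
    exact sporadic_case _ v hv p hp hodd h3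

end Cfsg.Agent.S2367
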