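import Mathlib
import Cfsg.Statements.S2368


set_option autoImplicit false
open Cfsg

namespace Cfsg.Agent.S2368

/-- Let F be a finite field of characteristic p and m ≥ 1. Every element of GL(m, F) of p-power order has order less than p·m, and GL(m, F) has an element of p-power order at least m; so the largest order of a p-element of GL(m, F) is the least power of p that is at least m. -/
theorem result {F : Type*} [Field F] [Fintype F] (p : ℕ) [Fact p.Prime] [CharP F p] (m : ℕ) (hm : 1 ≤ m) :
    (∀ g : Matrix.GeneralLinearGroup (Fin m) F, (∃ j : ℕ, orderOf g = p ^ j) → orderOf g < p * m) ∧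
      ∃ g : Matrix.GeneralLinearGroup (Fin m) F, (∃ j : ℕ, orderOf g = p ^ j) ∧ m ≤ orderOf g := by
  classical
  have hp : p.Prime := Fact.out
  haveI : Nonempty (Fin m) := ⟨⟨0, by omega⟩⟩
  have hkey : ∀ (M : Matrix (Fin m) (Fin m) F) (k : ℕ), (M - 1) ^ p ^ k = 0 ↔ M ^ p ^ k = 1 := by
    intro M k
    rw [sub_pow_char_pow_of_commute p k (Commute.one_right M), one_pow, sub_eq_zero]
  have hnil : ∀ M : Matrix (Fin m) (Fin m) F, IsNilpotent M → M ^ m = 0 := by
    intro M hM
    have h := (Matrix.isNilpotent_charpoly_sub_pow_of_isNilpotent hM).eq_zero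
    have h2 := Matrix.aeval_self_charpoly M
    rw [sub_eq_zero.1 h] at h2
    simpa using h2
  have hub : ∀ g : Matrix.GeneralLinearGroup (Fin m) F, (∃ j : ℕ, orderOf g = p ^ j) →
      orderOf g ∣ p ^ Nat.clog p m := by
    rintro g ⟨j, hj⟩
    have h1 : (g : Matrix (Fin m) (Fin m) F) ^ p ^ j = 1 := by
      rw [← Units.val_pow_eq_pow_val, ← hj, pow_orderOf_eq_one, Units.val_one]
    have h2 := hnil _ ⟨_, (hkey _ j).2 h1⟩
    refine orderOf_dvd_of_pow_eq_one (Units.ext ?_)
    rw [Units.val_pow_eq_pow_val, Units.val_one, ← hkey]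
    exact pow_eq_zero_of_le (Nat.le_pow_clog hp.one_lt m) h2
  refine ⟨fun g hg => ?_, ?_⟩
  · have h := Nat.le_of_dvd (pow_pos hp.pos _) (hub g hg)
    refine lt_of_le_of_lt h ?_
    rcases Nat.eq_zero_or_pos (Nat.clog p m) with h0 | h0
    · rw [h0, pow_zero]
      exact lt_of_lt_of_le hp.one_lt (Nat.le_mul_of_pos_right p hm)
    · have hlt : p ^ (Nat.clog p m).pred < m := by
        refine Nat.pow_pred_clog_lt_self hp.one_lt ?_
        rcases Nat.lt_or_ge 1 m with h' | h'
        · exact h'
        · exact absurd (Nat.clog_of_right_le_one h' p) (by omega)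
      conv_lhs => rw [show Nat.clog p m = (Nat.clog p m).pred + 1 by
        simp only [Nat.pred_eq_sub_one]; omega, pow_succ']
      exact Nat.mul_lt_mul_of_pos_left hlt hp.pos
  · let N : Matrix (Fin m) (Fin m) F := Matrix.of fun i j => if (j : ℕ) = i + 1 then 1 else 0
    have hN : ∀ k, N ^ k = Matrix.of fun i j : Fin m => if (j : ℕ) = i + k then (1 : F) else 0 := by
      intro k
      induction k with
      | zero =>
        ext i j
        simp [Matrix.one_apply, Fin.ext_iff, eq_comm]
      | succ k ih =>
        ext i j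
        rw [pow_succ', Matrix.mul_apply, ih]
        by_cases hi : (i : ℕ) + 1 < m
        · rw [Finset.sum_eq_single ⟨i + 1, hi⟩]
          · simp [N, add_assoc, add_comm k 1]
          · intro b _ hb
            simp only [N, Matrix.of_apply]
            rw [if_neg (fun h => hb (Fin.ext h)), zero_mul]
          · simp
        · rw [Finset.sum_eq_zero]
          · simp only [Matrix.of_apply]
            rw [if_neg]
            omega
          · intro b _
            simp only [N, Matrix.of_apply]
            rw [if_neg (fun h => hi (by omega)), zero_mul]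
    have hNm : N ^ m = 0 := by
      rw [hN]
      ext i j
      simp only [Matrix.of_apply, Matrix.zero_apply]
      rw [if_neg]
      omega
    have h0 : (1 + N - 1) ^ p ^ Nat.clog p m = 0 := by
      rw [add_sub_cancel_left]
      exact pow_eq_zero_of_le (Nat.le_pow_clog hp.one_lt m) hNm
    have h1 := (hkey _ _).1 h0
    have hu : IsUnit (1 + N) :=
      IsUnit.of_pow_eq_one h1 (pow_ne_zero _ hp.ne_zero)
    obtain ⟨g, hg⟩ := hu
    have hgp : g ^ p ^ Nat.clog p m = 1 := Units.ext (by rw [Units.val_pow_eq_pow_val, hg, h1, Units.val_one])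
    obtain ⟨j, -, hj⟩ := (Nat.dvd_prime_pow hp).1 (orderOf_dvd_of_pow_eq_one hgp)
    refine ⟨g, ⟨j, hj⟩, ?_⟩
    by_contra hlt
    have h2 : (g : Matrix (Fin m) (Fin m) F) ^ p ^ j = 1 := by
      rw [← Units.val_pow_eq_pow_val, ← hj, pow_orderOf_eq_one, Units.val_one]
    rw [hg] at h2
    have h3 := (hkey _ _).2 h2
    rw [add_sub_cancel_left, ← hj, hN] at h3
    have := congrFun (congrFun h3 ⟨0, by omega⟩) ⟨orderOf g, by omega⟩
    simp at this

end Cfsg.Agent.S2368
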