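import Cfsg.Statements.S2376
import Cfsg.Agent.H35.D4Torus.Singer
import Cfsg.Agent.H35.D4Torus.Two

set_option autoImplicit false
open Cfsg

namespace Cfsg.Agent.S2376

open H35.D4Torus in
/-- The group ³D₄(q) contains a cyclic subgroup of order (q³ − 1)(q + 1) which is its own centralizer. -/
theorem result {K : Type*} [Field K] [Fintype K] (q : ℕ) (hq : IsPrimePow q) (hK : Fintype.card K = q ^ 3) :
    ∃ H : Subgroup ↥(Cfsg.Lie.twistedD4 K q), IsCyclic ↥H ∧ Nat.card ↥H = (q ^ 3 - 1) * (q + 1) ∧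
      Subgroup.centralizer (H : Set ↥(Cfsg.Lie.twistedD4 K q)) = H := by
  classical
  obtain ⟨f, hf'⟩ := H53.D4T.exists_f hq hK
  have hf : H35.D4Min.Frob q f := ⟨hf', fun t => by
    rw [hf', hf', hf', ← pow_mul, ← pow_mul, show q * (q * q) = q ^ 3 by ring, ← hK, FiniteField.pow_card]⟩
  refine main hq hK hf fun g hg hc L _ _ σ hL hσ hσf hcomm => ?_
  rcases Nat.lt_or_ge q 3 with hq3 | hq3
  swap
  · exact cent_levi hf hq3 hK hg hc
  obtain rfl : q = 2 := le_antisymm (Nat.lt_succ_iff.1 hq3) hq.two_le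
  haveI : Fintype L := Fintype.ofFinite L
  have hL3 : Nat.card Lˣ = 3 := by rw [Nat.card_units, hL]; norm_num
  haveI : Nontrivial Lˣ := Finite.one_lt_card_iff_nontrivial.1 (by omega)
  obtain ⟨u, hu⟩ := exists_ne (1 : Lˣ)
  have hA1 : σ u ≠ 1 := fun h => hu (hσ (by rw [h, map_one]))
  have hA3 : σ u * σ u * σ u = 1 := by
    rw [← map_mul, ← map_mul, ← pow_three' u, ← hL3, pow_card_eq_one', map_one]
  have two : ∀ {s : K}, f s = s → s = 0 ∨ s = 1 := by
    intro s hs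
    rw [hf'] at hs
    exact (mul_eq_zero.1 (show s * (s - 1) = 0 by linear_combination hs)).imp id sub_eq_zero.1
  have h20 : (2 : K) = 0 := by
    have h8 : ((Fintype.card K : ℕ) : K) = 0 := FiniteField.cast_card_eq_zero K
    rw [hK, show ((2 ^ 3 : ℕ) : K) = 2 ^ 3 by norm_num] at h8
    exact pow_eq_zero_iff three_ne_zero |>.1 h8
  haveI : CharP K 2 := CharTwo.of_one_ne_zero_of_two_eq_zero one_ne_zero h20
  have hdet : (σ u).1.det ≠ 0 := ((Matrix.isUnit_iff_isUnit_det _).1 (σ u).isUnit).ne_zero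
  have hm1 : (σ u).1 ≠ 1 := fun h => hA1 (Units.ext h)
  have hm3 : (σ u).1 * (σ u).1 * (σ u).1 = 1 := congrArg Units.val hA3
  have key : (σ u).1.det = 1 ∧ (σ u).1 1 0 ≠ 0 ∧ (σ u).1 0 1 ≠ 0 ∧ (σ u).1 0 0 + (σ u).1 1 1 = 1 := by
    have e := Matrix.eta_fin_two (σ u).1
    rw [e] at hdet hm1 hm3
    rw [Matrix.det_fin_two]
    rw [Matrix.det_fin_two_of] at hdet
    rw [Matrix.one_fin_two] at hm1 hm3
    rw [Matrix.mul_fin_two, Matrix.mul_fin_two] at hm3
    rcases two (hσf u 0 0) with e00 | e00 <;> rcases two (hσf u 0 1) with e01 | e01 <;>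
      rcases two (hσf u 1 0) with e10 | e10 <;> rcases two (hσf u 1 1) with e11 | e11 <;>
      simp [e00, e01, e10, e11, CharTwo.add_self_eq_zero, CharTwo.sub_eq_add] at hdet hm1 hm3 ⊢
  have hS : Commute g (j K (⟨(σ u).1, key.1⟩ : Matrix.SpecialLinearGroup (Fin 2) K)) := by
    have hh : gl2 K (σ u) = j K (⟨(σ u).1, key.1⟩ : Matrix.SpecialLinearGroup (Fin 2) K) :=
      (congrArg (gl2 K) (Units.ext rfl : σ u = Matrix.SpecialLinearGroup.toGL
        (⟨(σ u).1, key.1⟩ : Matrix.SpecialLinearGroup (Fin 2) K))).trans (gl2_sl _)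
    exact hh ▸ hcomm u
  exact cent_levi_two hf (by rw [hK]; norm_num) hg hc (hσf u) key.2.1 key.2.2.1 key.2.2.2 hS

end Cfsg.Agent.S2376
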