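import Cfsg.Statements.S2382
import Cfsg.Agent.H21.ChevClasses

set_option autoImplicit false
open Cfsg

namespace Cfsg.Agent.S2382

/-- Steinberg's count of semisimple classes for the three types whose simply connected and adjoint groups coincide: in the Chevalley group of type G₂, F₄ or E₈ over a field with `q` elements of characteristic `p`, the conjugacy classes of elements of order prime to `p` number exactly `q^l`, `l = 2, 4, 8` the rank. -/
theorem result {F : Type*} [Field F] [Fintype F] {q : ℕ} (hq : Fintype.card F = q) (p : ℕ) [Fact p.Prime] [CharP F p]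
    (D : Cfsg.Lie.ChevalleyDatum) (hD : D ∈ [Cfsg.Lie.chevG2, Cfsg.Lie.chevF4, Cfsg.Lie.chevE8]) :
    Nat.card {c : ConjClasses ↥(D.group F) // ∃ g : ↥(D.group F), ConjClasses.mk g = c ∧ (orderOf g).Coprime p} = q ^ D.rank := by
  have hd : ∃ d : Fin D.rank → ℕ, H52.HasDivisors D d ∧ ∀ i, d i = 1 := by
    simp only [List.mem_cons, List.not_mem_nil, or_false] at hD
    rcases hD with rfl | rfl | rfl
    · exact ⟨_, H52.divisorsG2, (by decide : ∀ i : Fin 2, (![1, 1] : Fin 2 → ℕ) i = 1)⟩
    · exact ⟨_, H52.divisorsF4, (by decide : ∀ i : Fin 4, (![1, 1, 1, 1] : Fin 4 → ℕ) i = 1)⟩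
    · exact ⟨_, H52.divisorsE8, (by decide : ∀ i : Fin 8, (![1, 1, 1, 1, 1, 1, 1, 1] : Fin 8 → ℕ) i = 1)⟩
  obtain ⟨d, hd, hd1⟩ := hd
  obtain ⟨T, ⟨K⟩⟩ := H52.bnData_of_mem (D := D) (by
    simp only [List.mem_cons, List.not_mem_nil, or_false] at hD ⊢
    tauto)
  rw [H21.CC.nat_card_subtype_congr (p := p) fun g => by
    rw [Nat.coprime_comm]; exact (Fact.out : p.Prime).coprime_iff_not_dvd]
  exact H21.CC.card_semisimple K hq p hd fun i => by rw [hd1, Nat.gcd_one_right]

end Cfsg.Agent.S2382
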