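import Cfsg.Statements.S2383
import Cfsg.Agent.H21.ChevClasses

set_option autoImplicit false
open Cfsg

namespace Cfsg.Agent.S2383

/-- Steinberg's count of semisimple classes in characteristic 2 for the types B₂, D₄, E₇, where the finite simply connected group has trivial centre and so coincides with the Chevalley group: for the Chevalley group of type B₂, D₄ or E₇ over a field with `q` elements of characteristic 2, the conjugacy classes of elements of odd order number exactly `q^l`, `l` the rank. -/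
theorem result {F : Type*} [Field F] [Fintype F] {q : ℕ} (hq : Fintype.card F = q) [CharP F 2]
    (D : Cfsg.Lie.ChevalleyDatum) (hD : D ∈ [Cfsg.Lie.chevB2, Cfsg.Lie.chevD4, Cfsg.Lie.chevE7]) :
    Nat.card {c : ConjClasses ↥(D.group F) // ∃ g : ↥(D.group F), ConjClasses.mk g = c ∧ Odd (orderOf g)} = q ^ D.rank := by
  have hd : ∃ d : Fin D.rank → ℕ, H52.HasDivisors D d ∧ ∀ i, d i = 1 ∨ d i = 2 := by
    simp only [List.mem_cons, List.not_mem_nil, or_false] at hD
    rcases hD with rfl | rfl | rfl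
    · exact ⟨_, H52.divisorsB2, (by decide : ∀ i : Fin 2, (![1, 2] : Fin 2 → ℕ) i = 1 ∨ (![1, 2] : Fin 2 → ℕ) i = 2)⟩
    · exact ⟨_, H52.divisorsD4, (by decide : ∀ i : Fin 4, (![1, 1, 2, 2] : Fin 4 → ℕ) i = 1 ∨ (![1, 1, 2, 2] : Fin 4 → ℕ) i = 2)⟩
    · exact ⟨_, H52.divisorsE7, (by decide : ∀ i : Fin 7, (![1, 1, 1, 1, 1, 1, 2] : Fin 7 → ℕ) i = 1 ∨ (![1, 1, 1, 1, 1, 1, 2] : Fin 7 → ℕ) i = 2)⟩
  obtain ⟨d, hd, hd1⟩ := hd
  obtain ⟨T, ⟨K⟩⟩ := H52.bnData_of_mem (D := D) (by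
    simp only [List.mem_cons, List.not_mem_nil, or_false] at hD ⊢
    tauto)
  rw [H21.CC.nat_card_subtype_congr (p := 2) fun g => by
    rw [← Nat.not_even_iff_odd, even_iff_two_dvd]]
  haveI : Fact (Nat.Prime 2) := ⟨Nat.prime_two⟩
  refine H21.CC.card_semisimple K hq 2 hd fun i => ?_
  rcases hd1 i with h | h <;> rw [h]
  · exact Nat.gcd_one_right _
  · obtain ⟨f, -, hf⟩ := FiniteField.card F 2
    have h2 : 2 ∣ q := hq ▸ hf ▸ dvd_pow_self 2 f.ne_zero
    have : 1 ≤ q := hq ▸ Fintype.card_pos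
    rw [Nat.gcd_comm]
    exact (Nat.prime_two.coprime_iff_not_dvd).2 (by omega)

end Cfsg.Agent.S2383
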