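import Cfsg.Statements.S2384
import Cfsg.Agent.H40.SemisimpleClasses

set_option autoImplicit false
open Cfsg

namespace Cfsg.Agent.S2384

/-- In `SL_n(q)`, `q` a power of the prime `p`, the number of conjugacy classes of elements of order prime to `p` (the semisimple classes) is `q^(n-1)`. -/
theorem result {F : Type*} [Field F] [Fintype F] {q : ℕ} (hq : Fintype.card F = q) (p : ℕ) [Fact p.Prime] [CharP F p] (n : ℕ) (hn : 1 ≤ n) :
    Nat.card {c : ConjClasses (Matrix.SpecialLinearGroup (Fin n) F) //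
      ∃ g : Matrix.SpecialLinearGroup (Fin n) F, ConjClasses.mk g = c ∧ (orderOf g).Coprime p} = q ^ (n - 1) := by
  classical
  subst hq
  obtain ⟨e, he⟩ := H40.exists_monic_equiv (F := F) n
  let S := {c : ConjClasses (Matrix.SpecialLinearGroup (Fin n) F) //
    ∃ g : Matrix.SpecialLinearGroup (Fin n) F, ConjClasses.mk g = c ∧ (orderOf g).Coprime p}
  let T := {v : Fin n → F // v ⟨0, hn⟩ = (-1) ^ n}
  have ex : ∀ v : T, ∃ g : Matrix.SpecialLinearGroup (Fin n) F,
      (g : Matrix (Fin n) (Fin n) F).charpoly = (e v.1).1 ∧ (orderOf g).Coprime p := by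
    intro v
    have h0 : (e v.1).1.coeff 0 = (-1) ^ n := by
      have h := he v.1 ⟨0, hn⟩; simp only at h; rw [h]; exact v.2
    obtain ⟨A, hA, hdet, hm⟩ := H40.exists_matrix_with_charpoly (e v.1).1 (e v.1).2.1 (e v.1).2.2
      (by rw [h0]; exact pow_ne_zero _ (by simp))
    have hA1 : A.det = 1 := by
      rw [Matrix.det_eq_sign_charpoly_coeff, hA, h0, Fintype.card_fin, ← mul_pow]
      simp
    refine ⟨⟨A, hA1⟩, hA, ?_⟩
    obtain ⟨m, hm0, hm1⟩ := hm
    exact (H40.primeToChar_iff (F := F) p).2 ⟨m, hm0, Subtype.ext hm1⟩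
  choose g hg hgp using ex
  have hbij : Function.Bijective (fun v : T => (⟨ConjClasses.mk (g v), g v, rfl, hgp v⟩ : S)) := by
    constructor
    · intro v w h
      have h1 := ConjClasses.mk_eq_mk_iff_isConj.1 (congrArg Subtype.val h)
      have h2 := H40.charpoly_eq_of_isConj_SL h1
      rw [hg, hg] at h2
      exact Subtype.ext (e.injective (Subtype.ext h2))
    · rintro ⟨c, x, rfl, hx⟩
      obtain ⟨v, hv⟩ := e.surjective ⟨(x : Matrix (Fin n) (Fin n) F).charpoly,
        Matrix.charpoly_monic _, by rw [Matrix.charpoly_natDegree_eq_dim, Fintype.card_fin]⟩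
      have hv' : v ⟨0, hn⟩ = (-1) ^ n := by
        rw [← he v ⟨0, hn⟩, hv]
        have := Matrix.det_eq_sign_charpoly_coeff (x : Matrix (Fin n) (Fin n) F)
        rw [Fintype.card_fin, x.2] at this
        show (x : Matrix (Fin n) (Fin n) F).charpoly.coeff 0 = (-1) ^ n
        calc (x : Matrix (Fin n) (Fin n) F).charpoly.coeff 0
            = ((-1 : F) ^ n * (-1) ^ n) * (x : Matrix (Fin n) (Fin n) F).charpoly.coeff 0 := by
              rw [← mul_pow]; simp
          _ = (-1) ^ n := by rw [mul_assoc, ← this, mul_one]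
      refine ⟨⟨v, hv'⟩, Subtype.ext (ConjClasses.mk_eq_mk_iff_isConj.2 ?_)⟩
      refine H40.isConj_SL_of_charpoly p _ _ (hgp _) hx ?_
      rw [hg, hv]
  rw [← Nat.card_congr (Equiv.ofBijective _ hbij)]
  obtain ⟨k, rfl⟩ : ∃ k, n = k + 1 := ⟨n - 1, by omega⟩
  have eq1 : T ≃ {a : F // a = (-1) ^ (k + 1)} × (Fin k → F) :=
    (Equiv.subtypeEquiv (Fin.consEquiv (fun _ : Fin (k + 1) => F)).symm
      (q := fun q : F × (Fin k → F) => q.1 = (-1) ^ (k + 1)) (fun v => Iff.rfl)).trans
      (Equiv.prodSubtypeFstEquivSubtypeProd (p := fun a : F => a = (-1) ^ (k + 1)))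
  rw [Nat.card_congr eq1, Nat.card_prod, Nat.card_fun, Nat.card_eq_fintype_card,
    Nat.card_eq_fintype_card, Fintype.card_subtype_eq, Nat.card_eq_fintype_card, Fintype.card_fin,
    Nat.add_sub_cancel, one_mul]

end Cfsg.Agent.S2384
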