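import Cfsg.Statements.S2390
import Cfsg.Agent.H50.DetCentralizer
-- import your own Cfsg.Agent.* helpers here

set_option autoImplicit false
open Cfsg

namespace Cfsg.Agent.S2390

/-- In the special unitary group `SU_n(q)` (inside `SL_n` over the field with `q²` elements), `q` a power of the prime `p`, two elements of order prime to `p` with the same characteristic polynomial are conjugate in `SU_n(q)`. -/
theorem result {F : Type*} [Field F] [Fintype F] {q : ℕ} (hF : Fintype.card F = q ^ 2) (p : ℕ) [Fact p.Prime] [CharP F p] (n : ℕ)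
    (g h : ↥(Cfsg.SU n F q)) (hg : (orderOf g).Coprime p) (hh : (orderOf h).Coprime p)
    (hc : ((g : Matrix.SpecialLinearGroup (Fin n) F) : Matrix (Fin n) (Fin n) F).charpoly =
      ((h : Matrix.SpecialLinearGroup (Fin n) F) : Matrix (Fin n) (Fin n) F).charpoly) : IsConj g h := by
  classical
  rcases Nat.eq_zero_or_pos n with hn | hn
  · subst hn
    have : g = h := Subtype.ext (Subtype.ext (Subsingleton.elim _ _))
    rw [this]
  let G : GL (Fin n) F := Matrix.SpecialLinearGroup.toGL (g : Matrix.SpecialLinearGroup (Fin n) F)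
  let H : GL (Fin n) F := Matrix.SpecialLinearGroup.toGL (h : Matrix.SpecialLinearGroup (Fin n) F)
  have hG : G ∈ Cfsg.GU n F q := g.2
  have hH : H ∈ Cfsg.GU n F q := h.2
  have hord : ∀ x : ↥(Cfsg.SU n F q),
      orderOf (Matrix.SpecialLinearGroup.toGL (x : Matrix.SpecialLinearGroup (Fin n) F)) = orderOf x := by
    intro x
    rw [orderOf_injective _ Matrix.SpecialLinearGroup.toGL_injective, Subgroup.orderOf_coe]
  have hconj : IsConj G H := H40.isConj_GL_of_charpoly p G H (by rw [hord]; exact hg)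
    (by rw [hord]; exact hh) hc
  obtain ⟨u, hu, huv⟩ := H51.gu_conj_of_gl_conj hF hG hH hconj
  set U : Matrix (Fin n) (Fin n) F := (u : Matrix (Fin n) (Fin n) F)
  have hU : H51.adj hF U * U = 1 := (H51.mem_GU_iff hF u).mp hu
  obtain ⟨m, hm0, hm1⟩ := (H40.primeToChar_iff (F := F) p).1 hg
  set M : Matrix (Fin n) (Fin n) F :=
    ((g : Matrix.SpecialLinearGroup (Fin n) F) : Matrix (Fin n) (Fin n) F)
  have hMm : M ^ m = 1 := congrArg (fun x : ↥(Cfsg.SU n F q) =>
    ((x : Matrix.SpecialLinearGroup (Fin n) F) : Matrix (Fin n) (Fin n) F)) hm1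
  have hdet : U.det ^ q * U.det = 1 := H51.det_norm_GU hF hU
  obtain ⟨Y, hY, hYM, hYd⟩ := H50.exists_commuting_unitary_det hF
    (M := M) ((H51.mem_GU_iff hF G).mp hG) ⟨m, hm0, hMm⟩ hn (l := (U.det)⁻¹)
    (by rw [inv_pow, pow_succ, hdet, inv_one])
  have hV : H51.adj hF (U * Y) * (U * Y) = 1 := by
    rw [H51.adj_mul, mul_assoc, ← mul_assoc _ U, hU, one_mul, hY]
  have hU0 : U.det ≠ 0 := fun h0 => by rw [h0, mul_zero] at hdet; exact zero_ne_one hdet
  let w : ↥(Cfsg.SU n F q) := H50.mkSU (U * Y)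
    (fun a b => by rw [H50.h_mulVec_left hF, Matrix.mulVec_mulVec, hV, Matrix.one_mulVec])
    (by rw [Matrix.det_mul, hYd, mul_inv_cancel₀ hU0])
  refine isConj_iff.2 ⟨w, mul_inv_eq_iff_eq_mul.2 ?_⟩
  apply Subtype.ext
  apply Subtype.ext
  show U * Y * M = ((h : Matrix.SpecialLinearGroup (Fin n) F) : Matrix (Fin n) (Fin n) F) * (U * Y)
  have h2 : U * M = ((h : Matrix.SpecialLinearGroup (Fin n) F) : Matrix (Fin n) (Fin n) F) * U :=
    congrArg Units.val (mul_inv_eq_iff_eq_mul.1 huv)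
  rw [mul_assoc, hYM, ← mul_assoc, h2, mul_assoc]

end Cfsg.Agent.S2390
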