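import Cfsg.Statements.S2386
import Cfsg.Agent.H50.SemisimpleCount
import Cfsg.Agent.S2390
-- import your own Cfsg.Agent.* helpers here

set_option autoImplicit false
open Cfsg

namespace Cfsg.Agent.S2386

/-- In the special unitary group `SU_n(q)` (matrices of determinant one over the field with `q²` elements preserving the standard Hermitian form), `q` a power of the prime `p`, the number of conjugacy classes of elements of order prime to `p` is `q^(n-1)`. -/
theorem result {F : Type*} [Field F] [Fintype F] {q : ℕ} (hF : Fintype.card F = q ^ 2) (p : ℕ) [Fact p.Prime] [CharP F p] (n : ℕ) (hn : 1 ≤ n) :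
    Nat.card {c : ConjClasses ↥(Cfsg.SU n F q) // ∃ g : ↥(Cfsg.SU n F q), ConjClasses.mk g = c ∧ (orderOf g).Coprime p} = q ^ (n - 1) := by
  classical
  obtain ⟨m, rfl⟩ : ∃ m, n = m + 1 := ⟨n - 1, by omega⟩
  rw [Nat.add_sub_cancel]
  set ε : F := (-1) ^ (m + 1) with hε
  have hε2 : ε * ε = 1 := by rw [hε, ← mul_pow]; simp
  have hεq : ε ^ q = ε := by
    rw [hε, ← pow_mul, mul_comm, pow_mul, H51.neg_pow_q hF, one_pow]
  rw [← H50.card_twisted_fixed hF hε2 hεq m]
  let M : ↥(Cfsg.SU (m + 1) F q) → Matrix (Fin (m + 1)) (Fin (m + 1)) F :=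
    fun g => ((g : Matrix.SpecialLinearGroup (Fin (m + 1)) F) : Matrix (Fin (m + 1)) (Fin (m + 1)) F)
  have hMu : ∀ g, H51.adj hF (M g) * M g = 1 := fun g =>
    (H51.mem_GU_iff hF (Matrix.SpecialLinearGroup.toGL
      (g : Matrix.SpecialLinearGroup (Fin (m + 1)) F))).1 g.2
  have hsd : ∀ g (i : ℕ), i ≤ m + 1 →
      (M g).charpoly.coeff i = ε * (M g).charpoly.coeff (m + 1 - i) ^ q := fun g i hi =>
    H50.charpoly_self_dual hF (hMu g) g.1.2 hi
  have hlead : ∀ g, (M g).charpoly.coeff (m + 1) = 1 := fun g => by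
    have h := (Matrix.charpoly_monic (M g)).coeff_natDegree
    rwa [Matrix.charpoly_natDegree_eq_dim, Fintype.card_fin] at h
  let f : {c : ConjClasses ↥(Cfsg.SU (m + 1) F q) //
      ∃ g, ConjClasses.mk g = c ∧ (orderOf g).Coprime p} →
      {v : Fin m → F // ∀ i, v i = ε * v i.rev ^ q} :=
    fun c => ⟨fun i => (M c.2.choose).charpoly.coeff (i + 1), fun i => by
      have h := hsd c.2.choose (i + 1) (by omega)
      have he : m + 1 - ((i : ℕ) + 1) = (i.rev : ℕ) + 1 := by
        rw [Fin.val_rev]; omega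
      rw [he] at h
      exact h⟩
  refine Nat.card_eq_of_bijective f ⟨fun c c' h => ?_, fun ⟨v, hv⟩ => ?_⟩
  · have h1 := fun i => congrFun (congrArg Subtype.val h) i
    have hcp : (M c.2.choose).charpoly = (M c'.2.choose).charpoly := by
      ext i
      rcases Nat.lt_or_ge i (m + 1) with hi | hi
      · rcases i with _ | j
        · rw [hsd _ 0 (Nat.zero_le _), hsd _ 0 (Nat.zero_le _), Nat.sub_zero, hlead, hlead]
        · exact h1 ⟨j, by omega⟩
      · rcases hi.eq_or_lt with rfl | hi
        · rw [hlead, hlead]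
        · rw [Polynomial.coeff_eq_zero_of_natDegree_lt (by
              rw [Matrix.charpoly_natDegree_eq_dim]; simpa using hi),
            Polynomial.coeff_eq_zero_of_natDegree_lt (by
              rw [Matrix.charpoly_natDegree_eq_dim]; simpa using hi)]
    have hconj := Cfsg.Agent.S2390.result hF p (m + 1) c.2.choose c'.2.choose
      c.2.choose_spec.2 c'.2.choose_spec.2 hcp
    apply Subtype.ext
    rw [← c.2.choose_spec.1, ← c'.2.choose_spec.1]
    exact ConjClasses.mk_eq_mk_iff_isConj.2 hconj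
  · obtain ⟨e, he⟩ := H40.exists_monic_equiv (F := F) (m + 1)
    obtain ⟨P, hP⟩ : ∃ P, P = e (Fin.cons ε v) := ⟨_, rfl⟩
    have hP0 : P.1.coeff 0 = ε := by
      rw [hP]; exact he (Fin.cons ε v) 0
    have hPs : ∀ i : Fin m, P.1.coeff (i + 1) = v i := fun i => by
      rw [hP]
      have h := he (Fin.cons ε v) i.succ
      rwa [Fin.cons_succ] at h
    have hPl : P.1.coeff (m + 1) = 1 := by
      have h := P.2.1.coeff_natDegree
      rwa [P.2.2] at h
    have hPsd : ∀ i, i ≤ m + 1 → P.1.coeff i = ε * P.1.coeff (m + 1 - i) ^ q := by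
      intro i hi
      rcases i with _ | j
      · rw [Nat.sub_zero, hP0, hPl, one_pow, mul_one]
      · rcases hi.eq_or_lt with h | h
        · rw [h, Nat.sub_self, hP0, hPl, hεq, hε2]
        · have he2 : m + 1 - (j + 1) = ((⟨j, by omega⟩ : Fin m).rev : ℕ) + 1 := by
            rw [Fin.val_rev]; simp only; omega
          rw [he2, hPs, hPs ⟨j, by omega⟩]
          exact hv ⟨j, by omega⟩
    obtain ⟨B, hB, hBd, hBc, k, hk, hBk⟩ :=
      H50.exists_unitary_of_self_dual hF P.2.1 P.2.2 hPsd
    let g : ↥(Cfsg.SU (m + 1) F q) := H50.mkSU B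
      (fun a b => by rw [H50.h_mulVec_left hF, Matrix.mulVec_mulVec, hB, Matrix.one_mulVec]) hBd
    have hgk : g ^ k = 1 := Subtype.ext (Subtype.ext hBk)
    have hgord : (orderOf g).Coprime p := (H40.primeToChar_iff (F := F) p).2 ⟨k, hk, hgk⟩
    let c : {c : ConjClasses ↥(Cfsg.SU (m + 1) F q) //
      ∃ g, ConjClasses.mk g = c ∧ (orderOf g).Coprime p} := ⟨ConjClasses.mk g, g, rfl, hgord⟩
    refine ⟨c, Subtype.ext (funext fun i => ?_)⟩
    have hc := ConjClasses.mk_eq_mk_iff_isConj.1 c.2.choose_spec.1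
    have hcp : (M c.2.choose).charpoly = B.charpoly := by
      clear_value c
      generalize c.2.choose = g' at hc
      have h' : IsConj (g' : Matrix.SpecialLinearGroup (Fin (m + 1)) F)
          (g : Matrix.SpecialLinearGroup (Fin (m + 1)) F) :=
        MonoidHom.map_isConj (Cfsg.SU (m + 1) F q).subtype hc
      have hgB : ((g : Matrix.SpecialLinearGroup (Fin (m + 1)) F) :
          Matrix (Fin (m + 1)) (Fin (m + 1)) F) = B := rfl
      rw [← hgB]
      exact H40.charpoly_eq_of_isConj_SL h'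
    show (M c.2.choose).charpoly.coeff (i + 1) = v i
    rw [hcp, hBc, hPs]

end Cfsg.Agent.S2386
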