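import Cfsg.Statements.S2387
import Cfsg.Agent.H40.SemisimpleClasses

set_option autoImplicit false
open scoped MatrixGroups
open Cfsg

namespace Cfsg.Agent.S2387

/-- In `GL_n(q)` with `n ≥ 1`, `q` a power of the prime `p`, the number of conjugacy classes of elements of order prime to `p` (diagonalisable over the algebraic closure; determined by the characteristic polynomial) is `(q - 1) q^(n-1)`. -/
theorem result {F : Type*} [Field F] [Fintype F] {q : ℕ} (hq : Fintype.card F = q) (p : ℕ) [Fact p.Prime] [CharP F p] (n : ℕ) (hn : 1 ≤ n) :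
    Nat.card {c : ConjClasses (GL (Fin n) F) // ∃ g : GL (Fin n) F, ConjClasses.mk g = c ∧ (orderOf g).Coprime p} = (q - 1) * q ^ (n - 1) := by
  classical
  subst hq
  haveI : NeZero n := ⟨by omega⟩
  obtain ⟨e, he⟩ := H40.exists_monic_equiv (F := F) n
  let S := {c : ConjClasses (GL (Fin n) F) // ∃ g : GL (Fin n) F, ConjClasses.mk g = c ∧ (orderOf g).Coprime p}
  let T := {v : Fin n → F // v ⟨0, hn⟩ ≠ 0}
  have ex : ∀ v : T, ∃ g : GL (Fin n) F,
      (g : Matrix (Fin n) (Fin n) F).charpoly = (e v.1).1 ∧ (orderOf g).Coprime p := by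
    intro v
    obtain ⟨A, hA, hdet, hm⟩ := H40.exists_matrix_with_charpoly (e v.1).1 (e v.1).2.1 (e v.1).2.2
      (by have h := he v.1 ⟨0, hn⟩; simp only at h; rw [h]; exact v.2)
    refine ⟨Matrix.GeneralLinearGroup.mkOfDetNeZero A hdet, hA, ?_⟩
    obtain ⟨m, hm0, hm1⟩ := hm
    exact (H40.primeToChar_iff (F := F) p).2 ⟨m, hm0, Units.ext (by
      rw [Units.val_pow_eq_pow_val, Units.val_one]; exact hm1)⟩
  choose g hg hgp using ex
  have hbij : Function.Bijective (fun v : T => (⟨ConjClasses.mk (g v), g v, rfl, hgp v⟩ : S)) := by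
    constructor
    · intro v w h
      have h1 := ConjClasses.mk_eq_mk_iff_isConj.1 (congrArg Subtype.val h)
      have h2 := H40.charpoly_eq_of_isConj_GL h1
      rw [hg, hg] at h2
      exact Subtype.ext (e.injective (Subtype.ext h2))
    · rintro ⟨c, x, rfl, hx⟩
      obtain ⟨v, hv⟩ := e.surjective ⟨(x : Matrix (Fin n) (Fin n) F).charpoly,
        Matrix.charpoly_monic _, by rw [Matrix.charpoly_natDegree_eq_dim, Fintype.card_fin]⟩
      have hv' : v ⟨0, hn⟩ ≠ 0 := by
        rw [← he v ⟨0, hn⟩, hv]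
        intro h0
        have := Matrix.det_eq_sign_charpoly_coeff (x : Matrix (Fin n) (Fin n) F)
        simp only at h0
        rw [h0, mul_zero] at this
        exact x.det_ne_zero this
      refine ⟨⟨v, hv'⟩, Subtype.ext (ConjClasses.mk_eq_mk_iff_isConj.2 ?_)⟩
      refine H40.isConj_GL_of_charpoly p _ _ (hgp _) hx ?_
      rw [hg, hv]
  rw [← Nat.card_congr (Equiv.ofBijective _ hbij)]
  obtain ⟨k, rfl⟩ : ∃ k, n = k + 1 := ⟨n - 1, by omega⟩
  have eq1 : T ≃ {a : F // a ≠ 0} × (Fin k → F) :=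
    (Equiv.subtypeEquiv (Fin.consEquiv (fun _ : Fin (k + 1) => F)).symm
      (q := fun q : F × (Fin k → F) => q.1 ≠ 0) (fun v => Iff.rfl)).trans
      (Equiv.prodSubtypeFstEquivSubtypeProd (p := fun a : F => a ≠ 0))
  rw [Nat.card_congr eq1, Nat.card_prod, Nat.card_fun, Nat.card_eq_fintype_card,
    Nat.card_eq_fintype_card, Fintype.card_subtype_compl, Fintype.card_subtype_eq,
    Nat.card_eq_fintype_card, Fintype.card_fin, Nat.add_sub_cancel]

end Cfsg.Agent.S2387
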