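import Cfsg.Statements.S2391


set_option autoImplicit false
open Cfsg

namespace Cfsg.Agent.S2391

open Matrix

variable {F : Type*} [Field F] {n : ℕ}

/-- the ascending fixed-point series of `U` -/
def fixSeries (U : Subgroup (Matrix.SpecialLinearGroup (Fin n) F)) : ℕ → Submodule F (Fin n → F)
  | 0 => ⊥
  | j + 1 => ⨅ u : U, (fixSeries U j).comap
      (Matrix.mulVecLin ((u : Matrix.SpecialLinearGroup (Fin n) F) : Matrix (Fin n) (Fin n) F) - LinearMap.id)

variable (U : Subgroup (Matrix.SpecialLinearGroup (Fin n) F))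

theorem mem_fixSeries_succ {j : ℕ} {v : Fin n → F} :
    v ∈ fixSeries U (j + 1) ↔ ∀ u ∈ U, (u : Matrix (Fin n) (Fin n) F) *ᵥ v - v ∈ fixSeries U j := by
  simp [fixSeries, Submodule.mem_iInf]

theorem fixSeries_le_succ (j : ℕ) : fixSeries U j ≤ fixSeries U (j + 1) := by
  induction j with
  | zero => exact bot_le
  | succ j ih =>
    intro v hv
    rw [mem_fixSeries_succ] at hv ⊢
    exact fun u hu => ih (hv u hu)

theorem fixSeries_invariant {j : ℕ} {u : Matrix.SpecialLinearGroup (Fin n) F} (hu : u ∈ U)
    {v : Fin n → F} (hv : v ∈ fixSeries U j) : (u : Matrix (Fin n) (Fin n) F) *ᵥ v ∈ fixSeries U j := by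
  have h := (mem_fixSeries_succ U).1 (fixSeries_le_succ U j hv) u hu
  simpa using add_mem h hv

theorem fixSeries_lt [Finite F] (p : ℕ) [Fact p.Prime] [CharP F p] (hU : IsPGroup p U) {j : ℕ}
    (hj : fixSeries U j ≠ ⊤) : fixSeries U j < fixSeries U (j + 1) := by
  classical
  cases nonempty_fintype F
  refine lt_of_le_of_ne (fixSeries_le_succ U j) fun heq => ?_
  set W := fixSeries U j with hW
  letI : MulAction U ((Fin n → F) ⧸ W) :=
    { smul := fun u x => Submodule.mapQ W W
        (Matrix.mulVecLin ((u : Matrix.SpecialLinearGroup (Fin n) F) : Matrix (Fin n) (Fin n) F))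
        (fun v hv => fixSeries_invariant U u.2 hv) x
      one_smul := fun x => by
        induction x using Submodule.Quotient.induction_on with
        | H v =>
          show Submodule.Quotient.mk _ = _
          simp
      mul_smul := fun a b x => by
        induction x using Submodule.Quotient.induction_on with
        | H v =>
          show Submodule.Quotient.mk _ = Submodule.Quotient.mk _
          simp [Matrix.mulVec_mulVec] }
  have hdvd : p ∣ Nat.card ((Fin n → F) ⧸ W) := by
    haveI : Nontrivial ((Fin n → F) ⧸ W) := Submodule.Quotient.nontrivial_iff.2 hj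
    obtain ⟨f, hp, hcard⟩ := FiniteField.card F p
    rw [Module.natCard_eq_pow_finrank (K := F), Nat.card_eq_fintype_card, hcard, ← pow_mul]
    exact dvd_pow_self p (Nat.mul_ne_zero f.ne_zero Module.finrank_pos.ne')
  have h0 : (0 : (Fin n → F) ⧸ W) ∈ MulAction.fixedPoints U ((Fin n → F) ⧸ W) := fun u => by
    show Submodule.mapQ W W _ _ 0 = 0
    exact map_zero _
  obtain ⟨x, hx, hne⟩ := hU.exists_fixed_point_of_prime_dvd_card_of_fixed_point _ hdvd h0
  induction x using Submodule.Quotient.induction_on with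
  | H v =>
    apply hne
    refine ((Submodule.Quotient.mk_eq_zero W).2 ?_).symm
    rw [heq, mem_fixSeries_succ]
    intro u hu
    exact (Submodule.Quotient.eq W).1 (hx ⟨u, hu⟩)

theorem fixSeries_normalizer {g : Matrix.SpecialLinearGroup (Fin n) F}
    (hg : g ∈ Subgroup.normalizer (U : Set (Matrix.SpecialLinearGroup (Fin n) F))) (j : ℕ)
    {v : Fin n → F} (hv : v ∈ fixSeries U j) : (g : Matrix (Fin n) (Fin n) F) *ᵥ v ∈ fixSeries U j := by
  induction j generalizing v with
  | zero =>
    simp [fixSeries] at hv ⊢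
    simp [hv]
  | succ j ih =>
    rw [mem_fixSeries_succ] at hv ⊢
    intro u hu
    have hu' : g⁻¹ * u * g ∈ U := (Subgroup.mem_normalizer_iff''.1 hg u).1 hu
    have := ih (hv _ hu')
    have e : (u : Matrix (Fin n) (Fin n) F) * (g : Matrix (Fin n) (Fin n) F) =
        (g : Matrix (Fin n) (Fin n) F) *
          ((g⁻¹ * u * g : Matrix.SpecialLinearGroup (Fin n) F) : Matrix (Fin n) (Fin n) F) :=
      congrArg Subtype.val (show u * g = g * (g⁻¹ * u * g) by group)
    rw [Matrix.mulVec_sub, Matrix.mulVec_mulVec] at this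
    rw [Matrix.mulVec_mulVec, e]
    exact this

/-- The Borel–Tits property of `SL_n(q)` in flag form: for a field `F` of characteristic `p` with finitely many elements and a non-trivial `p`-subgroup `U` of `SL_n(F)`, there is a flag `0 = V₀ < V₁ < ⋯ < V_{k+1} = F^n` with at least one proper non-zero member such that every element of the normaliser of `U` maps each `V_i` onto itself and every element of `U` acts trivially on each quotient `V_{i+1}/V_i` (so the normaliser lies in the parabolic subgroup of the flag and `U` in its unipotent radical). -/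
theorem result {F : Type*} [Field F] [Fintype F] (p : ℕ) [Fact p.Prime] [CharP F p] (n : ℕ)
    (U : Subgroup (Matrix.SpecialLinearGroup (Fin n) F)) (hU : IsPGroup p ↥U) (hne : U ≠ ⊥) :
    ∃ (k : ℕ) (V : Fin (k + 2) → Submodule F (Fin n → F)), 1 ≤ k ∧ StrictMono V ∧ V 0 = ⊥ ∧ V (Fin.last (k + 1)) = ⊤ ∧
      (∀ g ∈ Subgroup.normalizer (U : Set (Matrix.SpecialLinearGroup (Fin n) F)), ∀ i, (V i).map (Matrix.mulVecLin (g : Matrix (Fin n) (Fin n) F)) = V i) ∧
      (∀ u ∈ U, ∀ i : Fin (k + 1), ∀ v ∈ V i.succ, (u : Matrix (Fin n) (Fin n) F).mulVec v - v ∈ V (Fin.castSucc i)) := by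
  classical
  have hex : ∃ j, fixSeries U j = ⊤ := by
    by_contra hno
    push Not at hno
    have h : ∀ j, j ≤ Module.finrank F (fixSeries U j) := by
      intro j
      induction j with
      | zero => omega
      | succ j ih => exact Nat.succ_le_of_lt (lt_of_le_of_lt ih
          (Submodule.finrank_lt_finrank_of_lt (fixSeries_lt U p hU (hno j))))
    have h1 := h (n + 1)
    have h2 := Submodule.finrank_le (fixSeries U (n + 1))
    rw [Module.finrank_fin_fun] at h2
    omega
  let N := Nat.find hex
  have hN : fixSeries U N = ⊤ := Nat.find_spec hex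
  have hmin : ∀ j < N, fixSeries U j ≠ ⊤ := fun j hj => Nat.find_min hex hj
  have hN2 : 2 ≤ N := by
    by_contra hlt
    have h1 : fixSeries U 1 = ⊤ := by
      rcases (show N = 0 ∨ N = 1 by omega) with h | h <;> rw [h] at hN
      · exact top_le_iff.1 (hN ▸ fixSeries_le_succ U 0)
      · exact hN
    apply hne
    rw [Subgroup.eq_bot_iff_forall]
    intro u hu
    apply Subtype.ext
    refine Matrix.ext_iff_mulVec.2 fun v => ?_
    have := (mem_fixSeries_succ U (v := v) (j := 0)).1 (h1 ▸ Submodule.mem_top) u hu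
    simp only [fixSeries, Submodule.mem_bot, sub_eq_zero] at this
    simp [this]
  obtain ⟨k, hk⟩ : ∃ k, N = k + 1 := ⟨N - 1, by omega⟩
  refine ⟨k, fun i => fixSeries U i, by omega, ?_, rfl, by simpa [← hk] using hN, ?_, ?_⟩
  · refine Fin.strictMono_iff_lt_succ.2 fun i => ?_
    simp only [Fin.val_succ, Fin.val_castSucc]
    exact fixSeries_lt U p hU (hmin i (by omega))
  · intro g hg i
    refine le_antisymm (Submodule.map_le_iff_le_comap.2 fun v hv => fixSeries_normalizer U hg i hv) ?_
    intro v hv
    refine ⟨((g⁻¹ : Matrix.SpecialLinearGroup (Fin n) F) : Matrix (Fin n) (Fin n) F) *ᵥ v,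
      fixSeries_normalizer U (inv_mem hg) i hv, ?_⟩
    rw [Matrix.mulVecLin_apply, Matrix.mulVec_mulVec]
    have : (g : Matrix (Fin n) (Fin n) F) *
        ((g⁻¹ : Matrix.SpecialLinearGroup (Fin n) F) : Matrix (Fin n) (Fin n) F) = 1 :=
      congrArg Subtype.val (mul_inv_cancel g)
    rw [this, Matrix.one_mulVec]
  · intro u hu i v hv
    simp only [Fin.val_succ, Fin.val_castSucc] at hv ⊢
    exact (mem_fixSeries_succ U).1 hv u hu

end Cfsg.Agent.S2391
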