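import Cfsg.Statements.S2392
import Cfsg.Agent.H40.CrossChar

set_option autoImplicit false
open scoped MatrixGroups
open Cfsg

namespace Cfsg.Agent.S2392

/-- A lower bound for representations in cross characteristic: for `n ≥ 3` and a field `F` with `q` elements, every homomorphism from `SL_n(F)` to `GL_d(K)`, `K` a field of characteristic different from that of `F`, whose kernel is central has `d ≥ q^(n-1) - 1`. -/
theorem result {F : Type*} [Field F] [Fintype F] {q : ℕ} (hq : Fintype.card F = q) (n : ℕ) (hn : 3 ≤ n)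
    {K : Type*} [Field K] (hK : ringChar K ≠ ringChar F) {d : ℕ}
    (ρ : Matrix.SpecialLinearGroup (Fin n) F →* GL (Fin d) K) (hker : ρ.ker ≤ Subgroup.center (Matrix.SpecialLinearGroup (Fin n) F)) :
    q ^ (n - 1) - 1 ≤ d := by
  classical
  obtain ⟨m, rfl⟩ : ∃ m, n = m + 1 := ⟨n - 1, by omega⟩
  subst hq
  obtain ⟨p, hpF⟩ := CharP.exists F
  haveI := hpF
  haveI hpp : Fact p.Prime := ⟨CharP.char_is_prime F p⟩
  have hp : p.Prime := hpp.out
  have hpE : (p : AlgebraicClosure K) ≠ 0 := by
    rw [← map_natCast (algebraMap K (AlgebraicClosure K)), map_ne_zero, Ne, ringChar.spec K p]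
    intro h
    apply hK
    rw [ringChar.eq F p]
    exact ((Nat.dvd_prime hp).1 h).resolve_left (CharP.ringChar_ne_one)
  rw [Nat.add_sub_cancel]
  have hx : (Pi.single (⟨0, by omega⟩ : Fin m) (1 : F) : Fin m → F) ≠ 0 := by simp
  refine H40.card_le_dim_of_translation (by omega) (E := AlgebraicClosure K) p hpE
    ((((algebraMap K (AlgebraicClosure K)).mapMatrix (m := Fin d)).toMonoidHom.comp
      (Units.coeHom (Matrix (Fin d) (Fin d) K))).comp ρ) ⟨Pi.single ⟨0, by omega⟩ 1, fun h => ?_⟩
  refine H40.translSL_notMem_center hx (hker ?_)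
  rw [MonoidHom.mem_ker]
  apply Units.ext
  apply Matrix.map_injective (algebraMap K (AlgebraicClosure K)).injective
  simp only [Units.val_one, Matrix.map_one _ (map_zero _) (map_one _)]
  exact h

end Cfsg.Agent.S2392
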