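import Cfsg.Statements.S2393
import Cfsg.Agent.H48.RepBoundOdd
-- import your own Cfsg.Agent.* helpers here

set_option autoImplicit false
open scoped MatrixGroups
open Cfsg

namespace Cfsg.Agent.S2393

/-- A lower bound for representations in cross characteristic: for `n ≥ 2` and a field `F` with `q` elements, `q` odd, every homomorphism from the symplectic group `Sp_{2n}(F)` to `GL_d(K)`, `K` a field of characteristic different from that of `F`, whose kernel is central has `d ≥ q^(n-1)(q-1)/2`. -/
theorem result {F : Type*} [Field F] [Fintype F] {q : ℕ} (hq : Fintype.card F = q) (hodd : Odd q) (n : ℕ) (hn : 2 ≤ n)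
    {K : Type*} [Field K] (hK : ringChar K ≠ ringChar F) {d : ℕ}
    (ρ : ↥(Matrix.symplecticGroup (Fin n) F) →* GL (Fin d) K) (hker : ρ.ker ≤ Subgroup.center ↥(Matrix.symplecticGroup (Fin n) F)) :
    q ^ (n - 1) * (q - 1) / 2 ≤ d := by
  classical
  subst hq
  let L := AlgebraicClosure K
  have hL : ringChar L ≠ ringChar F := by rwa [← Algebra.ringChar_eq K L]
  let σ : ↥(Matrix.symplecticGroup (Fin n) F) →* Module.End L (Fin d → L) :=
    (Matrix.toLinAlgEquiv' : Matrix (Fin d) (Fin d) L ≃ₐ[L] _).toMulEquiv.toMonoidHom.comp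
      (((algebraMap K L).mapMatrix : Matrix (Fin d) (Fin d) K →+* Matrix (Fin d) (Fin d) L).toMonoidHom.comp
        ((Units.coeHom _).comp ρ))
  obtain ⟨B, hB⟩ := H48.radical_not_central (n := n) (F := F) (by omega)
  have hne : σ (H48.radical B) ≠ 1 := by
    intro h
    refine hB (hker (MonoidHom.mem_ker.2 (Units.ext ?_)))
    refine (Matrix.map_injective (algebraMap K L).injective) ?_
    exact Matrix.toLinAlgEquiv'.injective (h.trans (by simp))
  have h := H48.finrank_ge_of_radical hL hodd (by omega) σ ⟨B, hne⟩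
  rw [Module.finrank_fin_fun] at h
  have h1 : Fintype.card F ^ (n - 1) * Fintype.card F = Fintype.card F ^ n := by
    rw [← pow_succ, Nat.sub_add_cancel (by omega)]
  have h2 : 0 < Fintype.card F ^ (n - 1) := pow_pos Fintype.card_pos _
  rw [Nat.mul_sub, mul_one, h1]
  omega

end Cfsg.Agent.S2393
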