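import Cfsg.Statements.S2394
import Cfsg.Agent.H48.RankBound
-- import your own Cfsg.Agent.* helpers here

set_option autoImplicit false
open scoped MatrixGroups
open Cfsg

namespace Cfsg.Agent.S2394

/-- The smallest degree of a faithful representation of the symplectic group `Sp_{2n}(q)` over its own field `F_q` is `2n`: every injective homomorphism from `Sp_{2n}(F)` to `GL_d(F)`, `F` the field with `q` elements, has `d ≥ 2n`. -/
theorem result {F : Type*} [Field F] [Fintype F] (n : ℕ) {d : ℕ}
    (ρ : ↥(Matrix.symplecticGroup (Fin n) F) →* GL (Fin d) F) (hρ : Function.Injective ρ) : 2 * n ≤ d := by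
  classical
  let K := AlgebraicClosure F
  let SL2 := Matrix.SpecialLinearGroup (Fin 2) F
  obtain ⟨φ, hφ⟩ : ∃ φ : (Fin n → SL2) →* Module.End K (Fin d → K), Function.Injective φ := by
    refine ⟨(Matrix.toLinAlgEquiv' : Matrix (Fin d) (Fin d) K ≃ₐ[K] _).toMonoidHom.comp
      (((algebraMap F K).mapMatrix.toMonoidHom.comp (Units.coeHom _)).comp
        (ρ.comp H48.diagHom)), ?_⟩
    intro a b h
    apply H48.diagHom_injective
    apply hρ
    apply Units.ext
    have h' := (Matrix.toLinAlgEquiv' : Matrix (Fin d) (Fin d) K ≃ₐ[K] _).injective h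
    exact Matrix.map_injective (algebraMap F K).injective h'
  have hfin : Module.finrank K (Fin d → K) = d := by simp
  by_cases h2 : (2 : F) = 0
  · have hval : ∀ k : ZMod 3, 2 * k.val % 3 = (-k).val := by decide
    have hk : ∀ k : ZMod 3, k = 0 ∨ k.val = 1 ∨ k.val = 2 := by decide
    haveI : Fact (Nat.Prime 3) := ⟨Nat.prime_three⟩
    let T : SL2 := ⟨!![0, 1; 1, 1], by
      rw [Matrix.det_fin_two_of]; linear_combination -h2⟩
    let S : SL2 := ⟨!![0, 1; 1, 0], by
      rw [Matrix.det_fin_two_of]; linear_combination -h2⟩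
    have hneg : (-1 : F) = 1 := by linear_combination -h2
    have h11 : (1 : F) + 1 = 0 := by linear_combination h2
    have hT2 : (T ^ 2 : SL2).1 = !![1, 1; 1, 0] := by
      rw [Matrix.SpecialLinearGroup.coe_pow, pow_two]
      simp [T, Matrix.mul_fin_two, h11]
    have hT3 : T ^ 3 = 1 := by
      apply Subtype.ext
      rw [pow_succ, Matrix.SpecialLinearGroup.coe_mul, hT2]
      simp [T, Matrix.mul_fin_two, Matrix.one_fin_two, h11]
    have hsemi : SemiconjBy S (T ^ 2) T := by
      apply Subtype.ext
      rw [Matrix.SpecialLinearGroup.coe_mul, Matrix.SpecialLinearGroup.coe_mul, hT2]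
      simp [T, S, Matrix.mul_fin_two]
    have hTS : ∀ k : ZMod 3, T ^ k.val * S = S * T ^ (-k).val := by
      intro k
      rw [← (hsemi.pow_right k.val).eq, ← pow_mul, pow_eq_pow_mod (2 * k.val) hT3, hval]
    obtain ⟨ω, hω⟩ := IsAlgClosed.exists_root (Polynomial.cyclotomic 3 K)
      (by rw [Polynomial.degree_cyclotomic]; decide)
    have h3F : (3 : F) ≠ 0 := fun h => one_ne_zero (α := F) (by linear_combination h - h2)
    have h3 : ((3 : ℕ) : K) ≠ 0 := by
      rw [← map_natCast (algebraMap F K)]
      simpa using h3F
    haveI : NeZero ((3 : ℕ) : K) := ⟨h3⟩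
    have hprim : IsPrimitiveRoot ω 3 := Polynomial.isRoot_cyclotomic_iff.1 hω
    let τ : (Fin n → ZMod 3) → Module.End K (Fin d → K) := fun a => φ fun i => T ^ (a i).val
    have hset : H48.Weights.Setup ω τ := by
      refine ⟨hprim.pow_eq_one, hprim.ne_one (by decide), h3, ?_, fun a b => ?_⟩
      · simp only [τ, Pi.zero_apply, ZMod.val_zero, pow_zero]
        exact map_one φ
      · refine Eq.trans (congrArg φ (funext fun i => ?_)) (map_mul φ _ _)
        rw [Pi.mul_apply, ← pow_add, Pi.add_apply, ZMod.val_add, ← pow_eq_pow_mod _ hT3]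
    have hfaith : ∀ a, τ a = 1 → a = 0 := by
      intro a ha
      rw [← map_one φ] at ha
      funext i
      have h := congrFun (hφ ha) i
      rcases hk (a i) with h0 | h1 | h1
      · exact h0
      · rw [h1, pow_one] at h
        have e1 := congrFun (congrFun (congrArg Subtype.val h) 0) 0
        simp [T] at e1
      · rw [h1] at h
        have e1 := congrFun (congrFun (congrArg Subtype.val h) 1) 1
        rw [hT2] at e1
        simp at e1
    obtain ⟨x, hx, hocc⟩ := hset.exists_weights hfaith
    choose v hv0 hv using hocc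
    have hinj : ∀ g : Fin n → SL2, ∀ u, φ g u = 0 → u = 0 := by
      intro g u hu
      have := congrArg (φ g⁻¹) hu
      rwa [map_zero, ← Module.End.mul_apply, ← map_mul, inv_mul_cancel, map_one,
        Module.End.one_apply] at this
    refine hfin ▸ H48.two_mul_le_finrank_of_neg hset (by decide) x hx v
      (fun i => φ (fun _ => S) (v i)) hv (fun i b => ?_) hv0 (fun i h => hv0 i (hinj _ _ h))
    have e : τ b * φ (fun _ => S) = φ (fun _ => S) * τ (-b) :=
      ((map_mul φ _ _).symm.trans (congrArg φ (funext fun j => hTS (b j)))).trans (map_mul φ _ _)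
    rw [← Module.End.mul_apply, e, Module.End.mul_apply, hv i, map_smul, dotProduct_neg,
      neg_dotProduct]
  · have hz2 : ∀ k : ZMod 2, k ≠ 0 → k = 1 := by decide
    haveI : Fact (Nat.Prime 2) := ⟨Nat.prime_two⟩
    letI : Fintype F := inferInstance
    obtain ⟨a₁, b₁, hab⟩ := FiniteField.exists_root_sum_quadratic (R := F)
      (f := Polynomial.X ^ 2) (g := Polynomial.X ^ 2 + Polynomial.C 1)
      (Polynomial.degree_X_pow 2) (Polynomial.degree_X_pow_add_C (by decide) _)
      (FiniteField.odd_card_of_char_ne_two (fun h => h2 (by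
        haveI := ringChar.of_eq h
        exact CharTwo.two_eq_zero)))
    simp only [Polynomial.eval_pow, Polynomial.eval_X, Polynomial.eval_add, Polynomial.eval_C] at hab
    let A : SL2 := ⟨!![0, -1; 1, 0], by rw [Matrix.det_fin_two_of]; ring⟩
    let B : SL2 := ⟨!![a₁, b₁; b₁, -a₁], by rw [Matrix.det_fin_two_of]; linear_combination -hab⟩
    have hAB : A * B = -1 * (B * A) := by
      rw [neg_one_mul]
      apply Subtype.ext
      rw [Matrix.SpecialLinearGroup.coe_mul, Matrix.SpecialLinearGroup.coe_neg,
        Matrix.SpecialLinearGroup.coe_mul]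
      simp [A, B, Matrix.mul_fin_two]
    let Z : ZMod 2 → SL2 := fun s => (-1 : SL2) ^ s.val
    let τ : (Fin n → ZMod 2) → Module.End K (Fin d → K) := fun a => φ fun i => Z (a i)
    have h2K : (2 : K) ≠ 0 := by
      rw [← map_ofNat (algebraMap F K)]
      simpa using h2
    have hset : H48.Weights.Setup (-1 : K) τ := by
      refine ⟨by simp, fun h => h2K (by linear_combination -h), by simpa using h2K, ?_, fun a b => ?_⟩
      · simp only [τ, Z, Pi.zero_apply, ZMod.val_zero, pow_zero]
        exact map_one φ
      · refine Eq.trans (congrArg φ (funext fun i => ?_)) (map_mul φ _ _)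
        simp only [Z]
        rw [Pi.mul_apply, ← pow_add, Pi.add_apply, ZMod.val_add, ← pow_eq_pow_mod _ (neg_one_sq)]
    have hfaith : ∀ a, τ a = 1 → a = 0 := by
      intro a ha
      rw [← map_one φ] at ha
      funext i
      have h := congrFun (hφ ha) i
      generalize a i = k at h ⊢
      fin_cases k
      · rfl
      · simp [Z, ZMod.val] at h
        exact absurd h (H48.sl_neg_one_ne_one h2)
    obtain ⟨x, hx, hocc⟩ := hset.exists_weights hfaith
    choose v hv0 hv using hocc
    have hxne : ∀ i, ∃ j, x i j = 1 := by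
      intro i
      obtain ⟨j, hj⟩ := Function.ne_iff.1 (hx.ne_zero i)
      refine ⟨j, ?_⟩
      have : ∀ k : ZMod 2, k ≠ 0 → k = 1 := hz2
      exact this _ hj
    choose j hj using hxne
    have hweight : ∀ (i : Fin n) (g : SL2), H48.Weights.IsWeight (-1 : K) τ (x i)
        (φ (Pi.mulSingle (j i) g) (v i)) := by
      intro i g b
      have e : τ b * φ (Pi.mulSingle (j i) g) = φ (Pi.mulSingle (j i) g) * τ b := by
        rw [← map_mul, ← map_mul]
        congr 1
        funext k
        rw [Pi.mul_apply, Pi.mul_apply]
        exact ((Commute.neg_one_left _).pow_left _).eq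
      rw [← Module.End.mul_apply, e, Module.End.mul_apply, hv i, map_smul]
    have hw : ∀ i, ∃ g : SL2, LinearIndependent K ![v i, φ (Pi.mulSingle (j i) g) (v i)] := by
      intro i
      by_contra hcon
      simp only [not_exists, LinearIndependent.pair_iff' (hv0 i), not_forall, not_not] at hcon
      obtain ⟨c, hc⟩ := hcon A
      obtain ⟨c', hc'⟩ := hcon B
      have hinj : ∀ g : Fin n → SL2, ∀ u, φ g u = 0 → u = 0 := by
        intro g u hu
        have := congrArg (φ g⁻¹) hu
        rwa [map_zero, ← Module.End.mul_apply, ← map_mul, inv_mul_cancel, map_one,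
          Module.End.one_apply] at this
      have hc0 : c ≠ 0 := by
        rintro rfl
        rw [zero_smul] at hc
        exact hv0 i (hinj _ _ hc.symm)
      have hc0' : c' ≠ 0 := by
        rintro rfl
        rw [zero_smul] at hc'
        exact hv0 i (hinj _ _ hc'.symm)
      have e : φ (Pi.mulSingle (j i) A) * φ (Pi.mulSingle (j i) B) =
          τ (Pi.single (j i) 1) * (φ (Pi.mulSingle (j i) B) * φ (Pi.mulSingle (j i) A)) := by
        rw [← map_mul, ← map_mul, ← map_mul]
        congr 1
        funext k
        rcases eq_or_ne k (j i) with rfl | hk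
        · simp [Z, hAB, ZMod.val_one]
        · simp [Z, hk]
      have := congrArg (fun f => f (v i)) e
      simp only [Module.End.mul_apply, ← hc, ← hc', map_smul, hv i _] at this
      simp only [smul_smul, H48.Weights.chr, dotProduct_single, hj i, mul_one, ZMod.val_one,
        pow_one] at this
      have h0 : ((2 : K) * (c * c')) • v i = 0 := by
        rw [← sub_eq_zero] at this
        rw [← this]
        module
      rcases smul_eq_zero.1 h0 with h | h
      · simp [h2K, hc0, hc0'] at h
      · exact hv0 i h
    choose g hg using hw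
    exact hfin ▸ H48.two_mul_le_finrank_of_pairs hset x hx.injective v _ hv
      (fun i => hweight i (g i)) hg

end Cfsg.Agent.S2394
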