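import Cfsg.Statements.S2395
import Cfsg.Agent.H54.CoverPerfect

set_option autoImplicit false
open Cfsg

namespace Cfsg.Agent.S2395

/-- For a tabulated datum (a field of more than two elements for B₂ and G₂) the group presented by Steinberg's relators (R1) and (R2) equals its derived subgroup. -/
theorem result {K : Type*} [Field K] (D : Cfsg.Lie.ChevalleyDatum) (hD : D ∈ [Cfsg.Lie.chevG2, Cfsg.Lie.chevB2, Cfsg.Lie.chevD4, Cfsg.Lie.chevF4, Cfsg.Lie.chevE6, Cfsg.Lie.chevE7, Cfsg.Lie.chevE8]) (hK : D ∈ [Cfsg.Lie.chevB2, Cfsg.Lie.chevG2] → ∃ x : K, x ≠ 0 ∧ x ≠ 1) :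
    commutator (D.SteinbergCover K) = ⊤ := by
  simp only [List.mem_cons, List.not_mem_nil, or_false] at hD
  rcases hD with rfl | rfl | rfl | rfl | rfl | rfl | rfl
  · exact H54.steinbergCover_perfect _ H54.perfectOK_G2 (Or.inr (hK (by simp)))
  · exact H54.steinbergCover_perfect _ H54.perfectOK_B2 (Or.inr (hK (by simp)))
  · exact H54.steinbergCover_perfect _ H54.perfectOK_D4 (Or.inl (H54.killedFirst_of_mem _ (by simp)))
  · exact H54.steinbergCover_perfect _ H54.perfectOK_F4 (Or.inl (H54.killedFirst_of_mem _ (by simp)))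
  · exact H54.steinbergCover_perfect _ H54.perfectOK_E6 (Or.inl (H54.killedFirst_of_mem _ (by simp)))
  · exact H54.steinbergCover_perfect _ H54.perfectOK_E7 (Or.inl (H54.killedFirst_of_mem _ (by simp)))
  · exact H54.steinbergCover_perfect _ H54.perfectOK_E8 (Or.inl (H54.killedFirst_of_mem _ (by simp)))

end Cfsg.Agent.S2395
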