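import Cfsg.Statements.S2398
import Cfsg.Agent.H76.ExcBig

set_option autoImplicit false
open Cfsg

namespace Cfsg.Agent.S2398

/-- Universality of the group Δ presented by Steinberg's generators with relators (R1), (R2), over a field with more than four elements (types G₂, B₂, D₄, F₄, E₆, E₇, E₈): for every central extension `π₁ : E → G₁` (surjective, central kernel) and every homomorphism `σ : Δ → G₁` there is exactly one homomorphism `τ : Δ → E` with `π₁ ∘ τ = σ`. In particular every central extension of Δ splits; together with the fact that Δ maps onto the Chevalley group with central kernel, this makes Δ the universal central extension of the Chevalley group. -/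
theorem result {K : Type*} [Field K] (hK5 : ∃ s : Finset K, 4 < s.card) (D : Cfsg.Lie.ChevalleyDatum) (hD : D ∈ [Cfsg.Lie.chevG2, Cfsg.Lie.chevB2, Cfsg.Lie.chevD4, Cfsg.Lie.chevF4, Cfsg.Lie.chevE6, Cfsg.Lie.chevE7, Cfsg.Lie.chevE8])
    {G₁ E : Type*} [Group G₁] [Group E] (π₁ : E →* G₁) (hπ : Function.Surjective π₁) (hc : π₁.ker ≤ Subgroup.center E)
    (σ : D.SteinbergCover K →* G₁) : ∃! τ : D.SteinbergCover K →* E, π₁.comp τ = σ := by
  obtain ⟨C⟩ := H54.exists_ctx hD
  obtain ⟨hu, ⟨M, hM, hg⟩, hsb⟩ := H76.Exc.big_checks hD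
  have hex : ∃ x : K, x ≠ 0 ∧ x ≠ 1 := by
    obtain ⟨x, hx0, hx1, -⟩ := H76.Exc.exists_good_scalar hK5
    by_cases h : x = 1
    · subst h; exact ⟨1 + 1, hx1, fun e => one_ne_zero (add_eq_left.1 e)⟩
    · exact ⟨x, hx0, h⟩
  have hperf : commutator (D.SteinbergCover K) = ⊤ := by
    refine H54.steinbergCover_perfect D ?_ (Or.inr hex)
    simp only [List.mem_cons, List.not_mem_nil, or_false] at hD
    rcases hD with rfl | rfl | rfl | rfl | rfl | rfl | rfl
    exacts [H54.perfectOK_G2, H54.perfectOK_B2, H54.perfectOK_D4, H54.perfectOK_F4,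
      H54.perfectOK_E6, H54.perfectOK_E7, H54.perfectOK_E8]
  exact H76.Exc.universal C (H53.hasPairs_of_mem hD) (H76.Exc.posPair_of_mem hD) hperf hK5 hu hM hg
    hsb π₁ hπ hc σ

end Cfsg.Agent.S2398
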