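import Cfsg.Statements.S2399
import Cfsg.Agent.H76.ExcProjective
import Cfsg.Agent.S2398

set_option autoImplicit false
open scoped MatrixGroups
open Cfsg

namespace Cfsg.Agent.S2399

/-- Projective representations in the natural characteristic lift: for each of the types G₂, B₂, D₄, F₄, E₆, E₇, E₈ over any field `K` (for types B₂ and G₂ the field must have more than two elements — the cases where the Chevalley group is not simple are set aside), every homomorphism from the Chevalley group to `PGL_n(L) = GL_n(L)/Z`, `L` a field of the same characteristic as `K`, lifts uniquely to a homomorphism from the group Δ presented by (R1), (R2) to `GL_n(L)`, compatibly with the projection Δ → Chevalley group sending x̄_r(t) to x_r(t). -/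
theorem result {K : Type*} [Field K] (D : Cfsg.Lie.ChevalleyDatum) (hD : D ∈ [Cfsg.Lie.chevG2, Cfsg.Lie.chevB2, Cfsg.Lie.chevD4, Cfsg.Lie.chevF4, Cfsg.Lie.chevE6, Cfsg.Lie.chevE7, Cfsg.Lie.chevE8]) (hK : D ∈ [Cfsg.Lie.chevB2, Cfsg.Lie.chevG2] → ∃ x : K, x ≠ 0 ∧ x ≠ 1)
    (θ : D.SteinbergCover K →* ↥(D.group K))
    (hθ : ∀ (r : ℕ) (t : K), r < D.nroots → ((θ (D.scGen K r t) : GL D.Idx K) : Matrix D.Idx D.Idx K) = D.x K r t)
    {L : Type*} [Field L] (hL : ringChar L = ringChar K) {n : ℕ}
    (φ : ↥(D.group K) →* GL (Fin n) L ⧸ Subgroup.center (GL (Fin n) L)) :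
    ∃! ψ : D.SteinbergCover K →* GL (Fin n) L, (QuotientGroup.mk' (Subgroup.center (GL (Fin n) L))).comp ψ = φ.comp θ := by
  by_cases h5 : ∃ s : Finset K, 4 < s.card
  · exact Cfsg.Agent.S2398.result h5 D hD (QuotientGroup.mk' _) (QuotientGroup.mk'_surjective _)
      (by rw [QuotientGroup.ker_mk']) (φ.comp θ)
  classical
  rcases finite_or_infinite K with hf | hf
  swap
  · obtain ⟨s, hs⟩ := Infinite.exists_subset_card_eq K 5
    exact absurd ⟨s, by omega⟩ h5
  have := Fintype.ofFinite K
  obtain ⟨C⟩ := H54.exists_ctx hD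
  have hperf : commutator (D.SteinbergCover K) = ⊤ := by
    have hD' := hD
    simp only [List.mem_cons, List.not_mem_nil, or_false] at hD'
    rcases hD' with rfl | rfl | rfl | rfl | rfl | rfl | rfl
    · exact H54.steinbergCover_perfect _ H54.perfectOK_G2 (Or.inr (hK (by simp)))
    · exact H54.steinbergCover_perfect _ H54.perfectOK_B2 (Or.inr (hK (by simp)))
    all_goals
      refine H54.steinbergCover_perfect _ ?_ (Or.inl (H54.killedFirst_of_mem _ (by simp)))
    exacts [H54.perfectOK_D4, H54.perfectOK_F4, H54.perfectOK_E6, H54.perfectOK_E7, H54.perfectOK_E8]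
  obtain ⟨p, _⟩ := CharP.exists K
  have : Fact p.Prime := ⟨CharP.char_is_prime K p⟩
  have : CharP L p := by
    rw [← ringChar.eq K p, ← hL]
    infer_instance
  have hθ' : ∀ r < D.nroots, ∀ t : K, θ (D.scGen K r t) = H76.Exc.xg C r t := fun r hr t =>
    Subtype.ext (Units.ext ((hθ r t hr).trans (C.hC.coe_rt r t).symm))
  obtain ⟨ψ, hψ⟩ := H76.Exc.exists_projective_lift C (H53.hasPairs_of_mem hD)
    (H76.Exc.posPair_of_mem hD) hperf p θ hθ' φ
  exact ⟨ψ, hψ, fun ψ' hψ' => H76.Exc.eq_of_mk_eq hperf (hψ'.trans hψ.symm)⟩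

end Cfsg.Agent.S2399
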