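import Cfsg.Statements.S2400
import Cfsg.Agent.H76.ExcB2
import Cfsg.Agent.H76.ExcCoprime
import Cfsg.Agent.S1083
import Cfsg.Agent.S0301
import Cfsg.Agent.S2092

set_option autoImplicit false
open Cfsg

namespace Cfsg.Agent.S2400

/-- Over a finite field `K`, the group presented by Steinberg's relators (R1)–(R3) (the universal Chevalley group) of type E₆ or E₇, or of type B₂ or D₄ with `K` of more than two elements, has trivial Schur multiplier: every finite stem extension of it is an isomorphism (Schur multiplier described through stem extensions as in the definitions). Types G₂, F₄ and E₈ are not covered here. -/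
theorem result {K : Type*} [Field K] [Fintype K] (e : Cfsg.Lie.ChevalleyDatum × ℕ)
    (he : e ∈ [(Cfsg.Lie.chevE6, 0), (Cfsg.Lie.chevE7, 0), (Cfsg.Lie.chevB2, 2), (Cfsg.Lie.chevD4, 2)]) (hK : Fintype.card K ≠ e.2) :
    Cfsg.HasCyclicSchurMultiplier (e.1.SteinbergGroup K) 1 := by
  classical
  have hq := Fintype.one_lt_card (α := K)
  have hN1 : ∀ n : ℕ, 1 ≤ n → n ≤ 1 → (n : K) ≠ 0 := by
    intro n h1 h1'
    obtain rfl : n = 1 := by omega
    simp
  simp only [List.mem_cons, List.not_mem_nil, or_false] at he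
  rcases he with rfl | rfl | rfl | rfl
  · refine H76.Exc.st_trivial_multiplier H76.Exc.ctxE6 (H53.hasPairs_of_mem (by simp))
      (H76.Exc.posPair_of_mem (by simp))
      (H76.Exc.steinbergGroup_perfect H54.perfectOK_E6 (H54.killedFirst_of_mem _ (by simp)))
      fun Γ _ _ σ hσ => ?_
    by_cases h2 : Fintype.card K = 2
    · exact ⟨H76.Exc.twoLifts H76.Exc.ctxE6 hσ.1 hσ.2.1 h2 H76.Exc.pairTwoE6 H76.Exc.joinE6
        H76.Exc.splitE6⟩
    · exact H76.Exc.lifts_of_checks hσ.1 hσ.2.1 (M := 1) (by omega) hN1 H76.Exc.unitE6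
        H76.Exc.goodE6 (H76.Exc.self_of_selfOK hσ.1 hσ.2.1 hN1 H76.Exc.selfE6)
  · refine H76.Exc.st_trivial_multiplier H76.Exc.ctxE7 (H53.hasPairs_of_mem (by simp))
      (H76.Exc.posPair_of_mem (by simp))
      (H76.Exc.steinbergGroup_perfect H54.perfectOK_E7 (H54.killedFirst_of_mem _ (by simp)))
      fun Γ _ _ σ hσ => ?_
    by_cases h2 : Fintype.card K = 2
    · exact ⟨H76.Exc.twoLifts H76.Exc.ctxE7 hσ.1 hσ.2.1 h2 H76.Exc.pairTwoE7 H76.Exc.joinE7
        H76.Exc.splitE7⟩
    · exact H76.Exc.lifts_of_checks hσ.1 hσ.2.1 (M := 1) (by omega) hN1 H76.Exc.unitE7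
        H76.Exc.goodE7 (H76.Exc.self_of_selfOK hσ.1 hσ.2.1 hN1 H76.Exc.selfE7)
  · have h3 : 3 ≤ Fintype.card K := by simp only at hK; omega
    obtain ⟨C⟩ := H54.exists_ctx (D := Cfsg.Lie.chevB2) (by simp)
    have hex : ∃ a : K, a ≠ 0 ∧ a ≠ 1 := by
      obtain ⟨a, ha⟩ : ∃ a : K, a ∉ ({0, 1} : Finset K) := by
        by_contra hcon
        push Not at hcon
        have h := (Finset.card_le_card (s := Finset.univ) fun x _ => hcon x).trans Finset.card_le_two
        rw [Finset.card_univ] at h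
        omega
      exact ⟨a, by simpa using ha⟩
    refine H76.Exc.st_trivial_multiplier C (H53.hasPairs_of_mem (by simp))
      (H76.Exc.posPair_of_mem (by simp)) (H53.B2Orth.perf hex) fun Γ _ _ σ hσ => ?_
    by_cases h5 : 5 ≤ Fintype.card K
    · exact H76.Exc.lifts_big hσ.1 hσ.2.1 ⟨Finset.univ, by rw [Finset.card_univ]; omega⟩
        (H76.Exc.unitOK_mono (by norm_num) H76.Exc.unitB2) (by norm_num : 2 ≤ 3) H76.Exc.goodB2
        H76.Exc.selfBigB2
    obtain ⟨p, _⟩ := CharP.exists K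
    have : Fact p.Prime := ⟨CharP.char_is_prime K p⟩
    obtain ⟨n, hn, hcard⟩ := FiniteField.card K p
    have hp2 : 2 ≤ p := (Fact.out : p.Prime).two_le
    have hple : p ≤ Fintype.card K := hcard ▸ Nat.le_self_pow n.ne_zero p
    by_cases h4 : Fintype.card K = 4
    · have h2 : p = 2 := by
        rw [h4] at hcard
        exact (Nat.prime_dvd_prime_iff_eq Fact.out Nat.prime_two).1
          ((Fact.out : p.Prime).dvd_of_dvd_pow (n := 2)
            (by rw [show 2 ^ 2 = 4 from rfl, hcard]; exact dvd_pow_self p n.ne_zero))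
      subst h2
      exact H76.Exc.lifts_B2_two C hσ.1 hσ.2.1 (CharP.cast_eq_zero K 2) h4.ge
    · have hc3 : Fintype.card K = 3 := by omega
      have hodd : Odd (Fintype.card K) := hc3 ▸ ⟨1, rfl⟩
      have hp3 : p = 3 := by
        rw [hc3] at hcard
        exact (Nat.prime_dvd_prime_iff_eq Fact.out Nat.prime_three).1
          (by rw [hcard]; exact dvd_pow_self p n.ne_zero)
      obtain ⟨e1⟩ := Cfsg.Agent.S1083.result (F := K) hex
      obtain ⟨e2⟩ := Cfsg.Agent.S0301.result (F := K) hodd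
      obtain ⟨n', f, hf⟩ : ∃ (n' : ℕ) (f : Multiplicative (ZMod 2) →* ((e1.trans e2).toMonoidHom.comp σ).ker),
          Function.Surjective f := by
        have hmul := Cfsg.Agent.S2092.result (F := K) hc3 2 le_rfl (fun _ => le_rfl) (by simp)
        have hk : ((e1.trans e2).toMonoidHom.comp σ).ker = σ.ker := by
          ext x; simp
        obtain ⟨f, hf⟩ := hmul.2 Γ ((e1.trans e2).toMonoidHom.comp σ)
          ⟨(e1.trans e2).surjective.comp hσ.1, hk ▸ hσ.2.1, hk ▸ hσ.2.2⟩
        exact ⟨0, f, hf⟩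
      have hk : ((e1.trans e2).toMonoidHom.comp σ).ker = σ.ker := by ext x; simp
      have hdvd : Nat.card σ.ker ∣ 2 := by
        rw [← hk]
        exact (Subgroup.card_dvd_of_surjective f hf).trans (by simp [Nat.card_zmod])
      subst hp3
      exact ⟨H76.Exc.powLifts C 3 hσ.1 hσ.2.1 ((by decide : Nat.Coprime 2 3).coprime_dvd_left hdvd)⟩
  · have h3 : 3 ≤ Fintype.card K := by simp only at hK; omega
    exact H76.Exc.st_trivial_multiplier H76.Exc.ctxD4 (H53.hasPairs_of_mem (by simp))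
      (H76.Exc.posPair_of_mem (by simp))
      (H76.Exc.steinbergGroup_perfect H54.perfectOK_D4 (H54.killedFirst_of_mem _ (by simp)))
      fun Γ _ _ σ hσ => H76.Exc.lifts_D4 h3 hσ.1 hσ.2.1

end Cfsg.Agent.S2400
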