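import Cfsg.Statements.S2402
import Cfsg.Agent.H40.ShiftGen

set_option autoImplicit false
open Cfsg

namespace Cfsg.Agent.S2402

open Matrix in
/-- An additive subgroup of a finite field stable under a large cyclic group of scalars is trivial or everything. -/
lemma addSubgroup_eq_top {K : Type*} [Field K] [Fintype K] (k : Kˣ)
    (hk : ∀ u : Kˣ, u ∈ Subgroup.zpowers k) (A : AddSubgroup K)
    (hA : ∀ t ∈ A, (k : K) ^ 2 * t ∈ A) {c : K} (hc : c ∈ A) (hc0 : c ≠ 0) : A = ⊤ := by
  classical
  have hmem : ∀ m : ℕ, ((k : K) ^ 2) ^ m * c ∈ A := by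
    intro m
    induction m with
    | zero => simpa
    | succ m ih => rw [pow_succ', mul_assoc]; exact hA _ ih
  have hord : orderOf k = Fintype.card K - 1 := by
    rw [orderOf_eq_card_of_forall_mem_zpowers hk, Nat.card_units, Nat.card_eq_fintype_card]
  have hq : 2 ≤ Fintype.card K := Fintype.one_lt_card
  have h2 : orderOf k ≤ 2 * orderOf (k ^ 2) := by
    refine Nat.le_of_dvd (Nat.mul_pos two_pos (orderOf_pos _)) (orderOf_dvd_of_pow_eq_one ?_)
    rw [pow_mul]; exact pow_orderOf_eq_one _
  let f : Option (Subgroup.zpowers (k ^ 2)) → A := fun o =>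
    o.elim 0 fun u => ⟨((u : Kˣ) : K) * c, by
      obtain ⟨m, hm : (k ^ 2) ^ m = (u : Kˣ)⟩ := (mem_powers_iff_mem_zpowers (x := k ^ 2)).2 u.2
      rw [← hm]; simpa using hmem m⟩
  have hf : Function.Injective f := by
    rintro (_ | u) (_ | v) h
    · rfl
    · simp [f, Subtype.ext_iff, hc0] at h
    · simp [f, Subtype.ext_iff, hc0] at h
    · congr 1
      simp only [f, Option.elim_some, Subtype.ext_iff] at h
      exact Subtype.ext (Units.ext (mul_right_cancel₀ hc0 h))
  have hcard := Nat.card_le_card_of_injective f hf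
  rw [Finite.card_option, Nat.card_zpowers] at hcard
  obtain ⟨r, hr⟩ := A.card_addSubgroup_dvd_card
  rw [Nat.card_eq_fintype_card (α := K)] at hr
  rcases Nat.lt_or_ge r 2 with h | h
  · apply AddSubgroup.eq_top_of_card_eq
    rw [Nat.card_eq_fintype_card (α := K), hr]
    rcases r with _ | _ | r <;> simp at *
  · have : Nat.card A * 2 ≤ Fintype.card K := hr ▸ Nat.mul_le_mul_left _ h
    omega

/-- Explicit two-element generation of `PSL_{n+1}(K)` for a finite field `K` with more than three elements: let `k` generate the multiplicative group of `K`, `h = diag(k, k⁻¹, 1, …, 1)`, `x = 1 + E₁₂` (the elementary transvection) and `w` the monomial matrix with entries `1` in positions `(i, i+1)` and `(−1)^n` in position `(n+1, 1)`. Then `h` and `x·w` generate `SL_{n+1}(K)` modulo its centre: the subgroup they generate together with the centre is everything. -/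
theorem result {K : Type*} [Field K] [Fintype K] (hK : 3 < Fintype.card K) (n : ℕ) (hn : 1 ≤ n)
    (k : Kˣ) (hk : ∀ u : Kˣ, u ∈ Subgroup.zpowers k)
    (h x w : Matrix.SpecialLinearGroup (Fin (n + 1)) K)
    (hh : (h : Matrix (Fin (n + 1)) (Fin (n + 1)) K) =
      Matrix.diagonal (fun i => if i.val = 0 then (k : K) else if i.val = 1 then ((k⁻¹ : Kˣ) : K) else 1))
    (hx : (x : Matrix (Fin (n + 1)) (Fin (n + 1)) K) = Matrix.transvection (0 : Fin (n + 1)) (1 : Fin (n + 1)) 1)
    (hw : (w : Matrix (Fin (n + 1)) (Fin (n + 1)) K) =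
      Matrix.of (fun i j => if j.val = i.val + 1 then 1 else if i.val = n ∧ j.val = 0 then (-1) ^ n else 0)) :
    Subgroup.closure ({h, x * w} : Set (Matrix.SpecialLinearGroup (Fin (n + 1)) K)) ⊔
      Subgroup.center (Matrix.SpecialLinearGroup (Fin (n + 1)) K) = ⊤ := by
  set H := Subgroup.closure ({h, x * w} : Set (Matrix.SpecialLinearGroup (Fin (n + 1)) K)) ⊔
      Subgroup.center (Matrix.SpecialLinearGroup (Fin (n + 1)) K) with hH
  have hhH : h ∈ H := Subgroup.mem_sup_left (Subgroup.subset_closure (by simp))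
  have hzH : x * w ∈ H := Subgroup.mem_sup_left (Subgroup.subset_closure (by simp))
  have hwa : ∀ a b, (w : Matrix (Fin (n + 1)) (Fin (n + 1)) K) a b =
      if a + 1 = b then H40.cycSign K n b else 0 := fun a b => by rw [hw]; exact H40.cycMatrix_apply hn a b
  have h01 : (0 : Fin (n + 1)) ≠ 1 := by
    intro e; have := congrArg Fin.val e
    simp [Nat.mod_eq_of_lt (show 1 < n + 1 by omega)] at this
  have hxT : x = Matrix.SpecialLinearGroup.transvection h01 (1 : K) := Subtype.ext (by rw [hx]; rfl)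
  let e : Fin (n + 1) → K := fun i => if i.val = 0 then (k : K) else if i.val = 1 then ((k⁻¹ : Kˣ) : K) else 1
  have hh' : (h : Matrix (Fin (n + 1)) (Fin (n + 1)) K) = Matrix.diagonal e := hh
  -- conjugating `x` by `h` multiplies its parameter by `k²`
  have hconj : ∀ t : K, h * Matrix.SpecialLinearGroup.transvection h01 t * h⁻¹ =
      Matrix.SpecialLinearGroup.transvection h01 ((k : K) ^ 2 * t) := by
    intro t
    rw [mul_inv_eq_iff_eq_mul]
    apply Subtype.ext
    rw [Matrix.SpecialLinearGroup.coe_mul, Matrix.SpecialLinearGroup.coe_mul, hh']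
    change Matrix.diagonal e * (1 + Matrix.single (0 : Fin (n + 1)) 1 t) =
      (1 + Matrix.single (0 : Fin (n + 1)) 1 ((k : K) ^ 2 * t)) * Matrix.diagonal e
    rw [mul_add, add_mul, one_mul, mul_one]
    congr 1
    ext a b
    simp only [Matrix.diagonal_mul, Matrix.mul_diagonal, Matrix.single_apply]
    by_cases hab : 0 = a ∧ 1 = b
    · obtain ⟨rfl, rfl⟩ := hab
      have h1v : ((1 : Fin (n + 1)) : ℕ) = 1 := by simp [Nat.mod_eq_of_lt (show 1 < n + 1 by omega)]
      simp only [e, h1v, Fin.val_zero, if_true, and_self, one_ne_zero, if_false, Units.val_inv_eq_inv_val]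
      field_simp
    · simp [hab]
  -- the diagonal element `D = w h w⁻¹`
  let d : Fin (n + 1) → K := fun i => e (i + 1)
  obtain ⟨D, hD, hDw⟩ : ∃ D : Matrix.SpecialLinearGroup (Fin (n + 1)) K,
      (D : Matrix (Fin (n + 1)) (Fin (n + 1)) K) = Matrix.diagonal d ∧ w * h * w⁻¹ = D := by
    have hdet : (Matrix.diagonal d).det = 1 := by
      rw [Matrix.det_diagonal]
      have := h.2
      rw [hh', Matrix.det_diagonal] at this
      rw [← this]
      exact Equiv.prod_comp (Equiv.addRight (1 : Fin (n + 1))) e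
    let D0 : Matrix.SpecialLinearGroup (Fin (n + 1)) K := ⟨Matrix.diagonal d, hdet⟩
    have hD0 : (D0 : Matrix (Fin (n + 1)) (Fin (n + 1)) K) = Matrix.diagonal d := rfl
    clear_value D0
    refine ⟨D0, hD0, ?_⟩
    · rw [mul_inv_eq_iff_eq_mul]
      apply Subtype.ext
      rw [Matrix.SpecialLinearGroup.coe_mul, Matrix.SpecialLinearGroup.coe_mul, hh']
      rw [hD0]
      ext a b
      simp only [Matrix.mul_diagonal, Matrix.diagonal_mul, hwa]
      by_cases hab : a + 1 = b
      · subst hab; simp [d, mul_comm]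
      · simp [hab]
  have hk2 : (k : K) ^ 2 ≠ 1 := by
    intro hk2
    have : Fintype.card K - 1 ∣ 2 := by
      rw [← Nat.card_eq_fintype_card, ← Nat.card_units, ← orderOf_eq_card_of_forall_mem_zpowers hk]
      exact orderOf_dvd_of_pow_eq_one (Units.ext (by simpa using hk2))
    have := Nat.le_of_dvd two_pos this
    omega
  have he0 : ∀ i, e i ≠ 0 := by intro i; simp only [e]; split_ifs <;> simp
  have hd01 : d 0 ≠ d 1 := by
    have h1v : ((1 : Fin (n + 1)) : ℕ) = 1 := by simp [Nat.mod_eq_of_lt (show 1 < n + 1 by omega)]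
    have d0 : d 0 = ((k⁻¹ : Kˣ) : K) := by simp only [d, e, zero_add, h1v]; simp
    have h2 : (((1 : Fin (n + 1)) + 1 : Fin (n + 1)) : ℕ) ≠ 1 := by
      intro h2
      have : (1 : Fin (n + 1)) + 1 = 1 := Fin.ext (by rw [h2, h1v])
      rw [add_eq_left] at this; exact h01 this.symm
    rw [d0]
    simp only [d, e, h2, if_false]
    intro hc
    apply hk2
    split_ifs at hc
    · have : (k : K) * ((k⁻¹ : Kˣ) : K) = (k : K) * (k : K) := by rw [hc]
      simpa [pow_two] using this.symm
    · have : (k⁻¹ : Kˣ) = 1 := Units.ext hc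
      simp [inv_eq_one.1 this]
  set r := d 0 / d 1 with hr
  have hDx : ∀ t : K, D * Matrix.SpecialLinearGroup.transvection h01 t * D⁻¹ =
      Matrix.SpecialLinearGroup.transvection h01 (r * t) := by
    intro t
    rw [mul_inv_eq_iff_eq_mul]
    apply Subtype.ext
    rw [Matrix.SpecialLinearGroup.coe_mul, Matrix.SpecialLinearGroup.coe_mul, hD]
    change Matrix.diagonal d * (1 + Matrix.single (0 : Fin (n + 1)) 1 t) =
      (1 + Matrix.single (0 : Fin (n + 1)) 1 (r * t)) * Matrix.diagonal d
    rw [mul_add, add_mul, one_mul, mul_one]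
    congr 1
    ext a b
    simp only [Matrix.diagonal_mul, Matrix.mul_diagonal, Matrix.single_apply]
    by_cases hab : 0 = a ∧ 1 = b
    · obtain ⟨rfl, rfl⟩ := hab
      have hd1 : d 1 ≠ 0 := he0 _
      simp only [and_self, if_true, hr]
      field_simp
    · simp [hab]
  have hcomm : h * D = D * h := by
    apply Subtype.ext
    rw [Matrix.SpecialLinearGroup.coe_mul, Matrix.SpecialLinearGroup.coe_mul, hh', hD,
      Matrix.diagonal_mul_diagonal, Matrix.diagonal_mul_diagonal]
    simp [mul_comm]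
  have hh2 : x * D * x⁻¹ ∈ H := by
    rw [← hDw, show x * (w * h * w⁻¹) * x⁻¹ = (x * w) * h * (x * w)⁻¹ by group]
    exact mul_mem (mul_mem hzH hhH) (inv_mem hzH)
  have hcH : Matrix.SpecialLinearGroup.transvection h01 (((k : K) ^ 2 - 1) * (1 - r)) ∈ H := by
    have hmem : h * (x * D * x⁻¹) * h⁻¹ * (x * D * x⁻¹)⁻¹ ∈ H :=
      mul_mem (mul_mem (mul_mem hhH hh2) (inv_mem hhH)) (inv_mem hh2)
    have e1 : h * (x * D * x⁻¹) * h⁻¹ * (x * D * x⁻¹)⁻¹ =
        (h * x * h⁻¹) * (D * ((h * x * h⁻¹)⁻¹ * x) * D⁻¹) * x⁻¹ := by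
      have : h * (x * D * x⁻¹) * h⁻¹ = (h * x * h⁻¹) * D * (h * x * h⁻¹)⁻¹ := by
        calc h * (x * D * x⁻¹) * h⁻¹ = (h * x * h⁻¹) * (h * D) * (x⁻¹ * h⁻¹) := by group
          _ = (h * x * h⁻¹) * (D * h) * (x⁻¹ * h⁻¹) := by rw [hcomm]
          _ = _ := by group
      rw [this]; group
    rw [e1, hxT, hconj, Matrix.SpecialLinearGroup.transvection_inv,
      ← Matrix.SpecialLinearGroup.transvection_add, hDx, ← Matrix.SpecialLinearGroup.transvection_add,
      Matrix.SpecialLinearGroup.transvection_inv, ← Matrix.SpecialLinearGroup.transvection_add] at hmem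
    convert hmem using 2
    ring
  let A : AddSubgroup K :=
    { carrier := {t | Matrix.SpecialLinearGroup.transvection h01 t ∈ H}
      add_mem' := fun {a b} ha hb => by
        simp only [Set.mem_ofPred_eq, Matrix.SpecialLinearGroup.transvection_add]; exact mul_mem ha hb
      zero_mem' := by simp
      neg_mem' := fun {a} ha => by
        simp only [Set.mem_ofPred_eq, ← Matrix.SpecialLinearGroup.transvection_inv]; exact inv_mem ha }
  have hA : A = ⊤ := addSubgroup_eq_top k hk A
    (fun t ht => by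
      show _ ∈ H
      rw [← hconj]; exact mul_mem (mul_mem hhH ht) (inv_mem hhH))
    (c := ((k : K) ^ 2 - 1) * (1 - r)) hcH (by
      refine mul_ne_zero (sub_ne_zero.2 hk2) (sub_ne_zero.2 fun h1 => hd01 ?_)
      have hd1 : d 1 ≠ 0 := he0 _
      rw [hr, eq_div_iff hd1, one_mul] at h1
      exact h1.symm)
  have hall : ∀ t : K, Matrix.SpecialLinearGroup.transvection h01 t ∈ H :=
    fun t => (show t ∈ A by rw [hA]; trivial)
  refine H40.eq_top_of_cyc_mem hn hwa H ?_ (fun _ t => hall t)
  have hxH : x ∈ H := hxT ▸ hall 1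
  simpa using mul_mem (inv_mem hxH) hzH

end Cfsg.Agent.S2402
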