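import Cfsg.Statements.S2403
import Cfsg.Agent.H40.ShiftGen

set_option autoImplicit false
open Cfsg

namespace Cfsg.Agent.S2403

open Matrix in
lemma exists_nat_cast {K : Type*} [Field K] [Fintype K] (hK : Fintype.card K ≤ 3) (t : K) :
    ∃ m : ℕ, t = (m : K) := by
  classical
  obtain ⟨p, hp, k, hk, hq⟩ := FiniteField.card' K
  have hk1 : (k : ℕ) = 1 := by
    have hk0 := k.pos
    by_contra h
    have : 4 ≤ p ^ (k : ℕ) := by
      calc 4 ≤ p ^ 2 := by have := hk.two_le; nlinarith
        _ ≤ p ^ (k : ℕ) := Nat.pow_le_pow_right hk.pos (by omega)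
    omega
  have := hp
  have : Fact p.Prime := ⟨hk⟩
  have : NeZero p := ⟨hk.ne_zero⟩
  have hb : Function.Bijective (ZMod.castHom (dvd_refl p) K) :=
    (Fintype.bijective_iff_injective_and_card _).2 ⟨RingHom.injective _, by rw [ZMod.card, hq, hk1, pow_one]⟩
  obtain ⟨z, rfl⟩ := hb.2 t
  exact ⟨z.val, by rw [← map_natCast (ZMod.castHom (dvd_refl p) K), ZMod.natCast_zmod_val]⟩

/-- Explicit two-element generation of `PSL_{n+1}(K)` over the fields with two or three elements: with `x = 1 + E₁₂` and `w` the monomial matrix with entries `1` in positions `(i, i+1)` and `(−1)^n` in position `(n+1, 1)`, the elements `x` and `w` generate `SL_{n+1}(K)` modulo its centre. -/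
theorem result {K : Type*} [Field K] [Fintype K] (hK : Fintype.card K ≤ 3) (n : ℕ) (hn : 1 ≤ n)
    (x w : Matrix.SpecialLinearGroup (Fin (n + 1)) K)
    (hx : (x : Matrix (Fin (n + 1)) (Fin (n + 1)) K) = Matrix.transvection (0 : Fin (n + 1)) (1 : Fin (n + 1)) 1)
    (hw : (w : Matrix (Fin (n + 1)) (Fin (n + 1)) K) =
      Matrix.of (fun i j => if j.val = i.val + 1 then 1 else if i.val = n ∧ j.val = 0 then (-1) ^ n else 0)) :
    Subgroup.closure ({x, w} : Set (Matrix.SpecialLinearGroup (Fin (n + 1)) K)) ⊔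
      Subgroup.center (Matrix.SpecialLinearGroup (Fin (n + 1)) K) = ⊤ := by
  refine H40.eq_top_of_cyc_mem hn (w := w) (fun a b => by rw [hw]; exact H40.cycMatrix_apply hn a b) _
    (Subgroup.mem_sup_left (Subgroup.subset_closure (by simp))) fun h t => ?_
  obtain ⟨m, rfl⟩ := exists_nat_cast hK t
  refine Subgroup.mem_sup_left ?_
  induction m with
  | zero => simp
  | succ m ih =>
    rw [Nat.cast_succ, Matrix.SpecialLinearGroup.transvection_add]
    exact mul_mem ih (Subgroup.subset_closure (by
      have : Matrix.SpecialLinearGroup.transvection h (1 : K) = x := Subtype.ext (by rw [hx]; rfl)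
      simp [this]))

end Cfsg.Agent.S2403
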