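import Cfsg.Statements.S2404
import Cfsg.Agent.H21.ChevClasses

set_option autoImplicit false
open Cfsg

namespace Cfsg.Agent.S2404

/-- Steinberg's count of semisimple classes for type E₆ when the finite simply connected group has trivial centre: over a field with `q` elements of characteristic `p` with `q ≢ 1 (mod 3)`, the simply connected group E₆(q) coincides with the Chevalley group, and the conjugacy classes of elements of order prime to `p` in the Chevalley group of type E₆ number exactly `q^6`. -/
theorem result {F : Type*} [Field F] [Fintype F] {q : ℕ} (hq : Fintype.card F = q) (hq3 : q % 3 ≠ 1) (p : ℕ) [Fact p.Prime] [CharP F p] :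
    Nat.card {c : ConjClasses ↥(Cfsg.Lie.chevE6.group F) // ∃ g : ↥(Cfsg.Lie.chevE6.group F), ConjClasses.mk g = c ∧ (orderOf g).Coprime p} = q ^ 6 := by
  obtain ⟨T, ⟨K⟩⟩ := H52.bnData_of_mem (D := Cfsg.Lie.chevE6) (by simp)
  rw [H21.CC.nat_card_subtype_congr (p := p) fun g => by
    rw [Nat.coprime_comm]; exact (Fact.out : p.Prime).coprime_iff_not_dvd]
  refine H21.CC.card_semisimple K hq p H52.divisorsE6 fun i => ?_
  have hq2 : 2 ≤ q := hq ▸ Fintype.one_lt_card
  have hd : ∀ i, (![1, 1, 1, 1, 1, 3] : Fin 6 → ℕ) i = 1 ∨ (![1, 1, 1, 1, 1, 3] : Fin 6 → ℕ) i = 3 := by decide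
  rcases hd i with h | h <;> erw [h]
  · exact Nat.gcd_one_right _
  · rw [Nat.gcd_comm]
    exact (Nat.prime_three.coprime_iff_not_dvd).2 (by omega)

end Cfsg.Agent.S2404
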