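import Cfsg.Statements.S2413
import Cfsg.Agent.H44.TwoGenSp
import Cfsg.Agent.S0301

set_option autoImplicit false
open Cfsg

namespace Cfsg.Agent.S2413

/-- The simple orthogonal group `PΩ_{2m+1}(q)` (commutator subgroup of the orthogonal group of `x₀² + Σ x_i y_i` modulo its centre) with `m ≥ 2` and `q` odd is generated by two of its elements. -/
theorem result {F : Type*} [Field F] [Fintype F] (hodd : Odd (Fintype.card F)) (m : ℕ) (hm : 2 ≤ m) :
    ∃ a b : Cfsg.POmega F (Cfsg.quadFormOdd m F), Subgroup.closure ({a, b} : Set (Cfsg.POmega F (Cfsg.quadFormOdd m F))) = ⊤ := by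
  have h2 : (2 : F) ≠ 0 := H38.two_ne_zero_of_odd hodd
  rcases Nat.lt_or_ge 2 m with h | h
  · rw [← H43.coe_qOdd]
    exact H44.pomega_two_generated _ (H44.odd_two_generated h2 m h)
  · obtain rfl : m = 2 := by omega
    have h3 : 2 < Fintype.card F := by
      have := Fintype.one_lt_card (α := F)
      obtain ⟨c, hc⟩ := hodd
      omega
    obtain ⟨e⟩ := Cfsg.Agent.S0301.result hodd
    obtain ⟨a, b, hab⟩ := H44.SpGen.psp_two_generated (F := F) (n := 2) le_rfl fun _ => h3
    refine ⟨e.symm a, e.symm b, ?_⟩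
    rw [← Set.image_pair e.symm a b, ← MulEquiv.coe_toMonoidHom, ← MonoidHom.map_closure, hab,
      Subgroup.map_top_of_surjective _ e.symm.surjective]

end Cfsg.Agent.S2413
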