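import Cfsg.Statements.S2416
import Cfsg.Agent.H54.ChevGen
-- import your own Cfsg.Agent.* helpers here

set_option autoImplicit false
open scoped MatrixGroups
open Cfsg

namespace Cfsg.Agent.S2416

/-- A Chevalley group of type G₂, B₂, D₄, F₄, E₆, E₇ or E₈ over a finite field lies in (indeed equals) the subgroup generated by its monomial subgroup `N` and a single fundamental root subgroup `X_p`, where `p` is a short fundamental root if there are two root lengths (any fundamental root otherwise), provided the characteristic is not 2 for types B₂, F₄ and not 3 for type G₂ (and the field has more than two elements for B₂, G₂). -/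
theorem result {K : Type*} [Field K] [Finite K] (D : Cfsg.Lie.ChevalleyDatum) (hD : D ∈ [Cfsg.Lie.chevG2, Cfsg.Lie.chevB2, Cfsg.Lie.chevD4, Cfsg.Lie.chevF4, Cfsg.Lie.chevE6, Cfsg.Lie.chevE7, Cfsg.Lie.chevE8])
    (hK : D ∈ [Cfsg.Lie.chevB2, Cfsg.Lie.chevG2] → ∃ x : K, x ≠ 0 ∧ x ≠ 1)
    (h2 : D ∈ [Cfsg.Lie.chevB2, Cfsg.Lie.chevF4] → ringChar K ≠ 2) (h3 : D = Cfsg.Lie.chevG2 → ringChar K ≠ 3)
    (i : ℕ) (hi : i < D.rank) (hshort : D.isLong (D.simple i) = false) :
    D.group K ≤ D.monomialSubgroup K ⊔ D.rootSubgroup K (D.simple i) := by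
  obtain ⟨C⟩ := H54.exists_ctx hD
  have hN : D.monomialSubgroup K ≤ D.monomialSubgroup K ⊔ D.rootSubgroup K (D.simple i) := le_sup_left
  have hX : ∀ t : K, H52.rt D (D.simple i) t ∈ D.monomialSubgroup K ⊔ D.rootSubgroup K (D.simple i) :=
    fun t => Subgroup.mem_sup_right (Subgroup.subset_closure ⟨t, C.hC.coe_rt _ _⟩)
  have hne : ∀ e : ℕ, e.Prime → ringChar K ≠ e → (e : K) ≠ 0 := by
    intro e he h h0
    rw [ringChar.spec, Nat.dvd_prime he] at h0
    exact h0.elim CharP.ringChar_ne_one h
  have case_e : ∀ (e j : ℕ) (wr ws : List ℕ), e.Prime → ringChar K ≠ e →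
      H54.commGen D e i j wr ws = true → H54.linkCover D [i, j] = true →
      D.group K ≤ D.monomialSubgroup K ⊔ D.rootSubgroup K (D.simple i) := by
    intro e j wr ws he hc hg hl
    obtain ⟨hj, hjm⟩ := C.commGen_mem hN hg (hne e he hc) hX
    refine C.group_le_of_seeds hN (seeds := [i, j]) ?_ hl ?_
    · intro k hk; simp at hk; rcases hk with rfl | rfl <;> assumption
    · intro k hk; simp at hk; rcases hk with rfl | rfl
      · exact hX
      · exact hjm
  have case_sl : (∀ k < D.rank, D.isLong (D.simple k) = false → H54.linkCover D [k] = true) →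
      D.group K ≤ D.monomialSubgroup K ⊔ D.rootSubgroup K (D.simple i) := by
    intro h
    refine C.group_le_of_seeds hN (seeds := [i]) ?_ (h i hi hshort) ?_
    · intro k hk; simp at hk; rw [hk]; exact hi
    · intro k hk; simp at hk; rw [hk]; exact hX
  simp only [List.mem_cons, List.not_mem_nil, or_false] at hD h2
  rcases hD with rfl | rfl | rfl | rfl | rfl | rfl | rfl
  · have : i = 0 := by
      have := (by decide +kernel : ∀ k < Cfsg.Lie.chevG2.rank,
        Cfsg.Lie.chevG2.isLong (Cfsg.Lie.chevG2.simple k) = false → k = 0)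
      exact this i hi hshort
    subst this
    exact case_e 3 1 [0] [1] Nat.prime_three (h3 rfl) (by decide +kernel) (by decide +kernel)
  · have : i = 0 := by
      have := (by decide +kernel : ∀ k < Cfsg.Lie.chevB2.rank,
        Cfsg.Lie.chevB2.isLong (Cfsg.Lie.chevB2.simple k) = false → k = 0)
      exact this i hi hshort
    subst this
    exact case_e 2 1 [0] [1] Nat.prime_two (h2 (Or.inl rfl)) (by decide +kernel) (by decide +kernel)
  · exact case_sl (by decide +kernel)
  · have : i = 0 ∨ i = 1 := by
      have := (by decide +kernel : ∀ k < Cfsg.Lie.chevF4.rank,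
        Cfsg.Lie.chevF4.isLong (Cfsg.Lie.chevF4.simple k) = false → k = 0 ∨ k = 1)
      exact this i hi hshort
    rcases this with rfl | rfl
    · exact case_e 2 2 [1, 0] [2, 1] Nat.prime_two (h2 (Or.inr rfl)) (by decide +kernel) (by decide +kernel)
    · exact case_e 2 2 [1] [2] Nat.prime_two (h2 (Or.inr rfl)) (by decide +kernel) (by decide +kernel)
  all_goals exact case_sl (by decide +kernel)

end Cfsg.Agent.S2416
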