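import Cfsg.Statements.S2417
import Cfsg.Agent.H54.ChevGen
-- import your own Cfsg.Agent.* helpers here

set_option autoImplicit false
open scoped MatrixGroups
open Cfsg

namespace Cfsg.Agent.S2417

/-- In the characteristics with an exceptional graph symmetry — type B₂ or F₄ in characteristic 2 (field of more than two elements for B₂) and type G₂ in characteristic 3 — the Chevalley group lies in the subgroup generated by its monomial subgroup `N` and the two fundamental root subgroups `X_a`, `X_b` of a short root `a` and a long root `b` joined in the Dynkin diagram. -/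
theorem result {K : Type*} [Field K] [Finite K] (e : Cfsg.Lie.ChevalleyDatum × ℕ)
    (he : e ∈ [(Cfsg.Lie.chevB2, 2), (Cfsg.Lie.chevF4, 2), (Cfsg.Lie.chevG2, 3)]) [CharP K e.2]
    (hK : e.1 = Cfsg.Lie.chevB2 → ∃ x : K, x ≠ 0 ∧ x ≠ 1)
    (i j : ℕ) (hi : i < e.1.rank) (hj : j < e.1.rank) (hshort : e.1.isLong (e.1.simple i) = false)
    (hlong : e.1.isLong (e.1.simple j) = true) (hbond : e.1.bonds i j ≠ 0) :
    e.1.group K ≤ e.1.monomialSubgroup K ⊔ e.1.rootSubgroup K (e.1.simple i) ⊔ e.1.rootSubgroup K (e.1.simple j) := by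
  have key : ∀ D : Cfsg.Lie.ChevalleyDatum, Nonempty (H54.Ctx D) →
      (∀ a < D.rank, ∀ b < D.rank, D.isLong (D.simple a) = false →
        D.isLong (D.simple b) = true → H54.linkCover D [a, b] = true) →
      ∀ i j, i < D.rank → j < D.rank → D.isLong (D.simple i) = false →
        D.isLong (D.simple j) = true →
      D.group K ≤ D.monomialSubgroup K ⊔ D.rootSubgroup K (D.simple i) ⊔
        D.rootSubgroup K (D.simple j) := by
    rintro D ⟨C⟩ h i j hi hj hs hl
    refine C.group_le_of_seeds (le_sup_of_le_left le_sup_left) (seeds := [i, j]) ?_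
      (h i hi j hj hs hl) ?_
    · intro k hk; simp at hk; rcases hk with rfl | rfl <;> assumption
    · intro k hk t; simp at hk; rcases hk with rfl | rfl
      · exact Subgroup.mem_sup_left (Subgroup.mem_sup_right (Subgroup.subset_closure ⟨t, C.hC.coe_rt _ _⟩))
      · exact Subgroup.mem_sup_right (Subgroup.subset_closure ⟨t, C.hC.coe_rt _ _⟩)
  simp only [List.mem_cons, List.not_mem_nil, or_false] at he
  rcases he with rfl | rfl | rfl <;>
    exact key _ (H54.exists_ctx (by simp)) (by decide +kernel) i j hi hj hshort hlong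

end Cfsg.Agent.S2417
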