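import Cfsg.Statements.S2418
import Cfsg.Agent.H53.WeylB2
import Cfsg.Agent.H53.WeylG2
import Cfsg.Agent.H53.WeylD4
import Cfsg.Agent.H53.WeylF4
import Cfsg.Agent.H53.WeylE6
import Cfsg.Agent.H53.WeylE7
import Cfsg.Agent.H53.WeylE8
import Cfsg.Agent.H53.WeylCenter

set_option autoImplicit false
open Cfsg

namespace Cfsg.Agent.S2418

/-- For the Coxeter groups of types B₂, G₂, D₄, F₄, E₇, E₈ the centre has order 2 (the element acting as −1 on the root system) and is generated by a power of the Coxeter element `s₁ s₂ ⋯ s_l`; the Coxeter group of type E₆ has trivial centre. -/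
theorem result (c : (Σ n : ℕ, CoxeterMatrix (Fin n)) × ℕ)
    (hc : c ∈ [(⟨2, CoxeterMatrix.B 2⟩, 2), (⟨2, CoxeterMatrix.G₂⟩, 2), (⟨4, Cfsg.Lie.coxeterD4⟩, 2), (⟨4, CoxeterMatrix.F₄⟩, 2),
      (⟨6, CoxeterMatrix.E₆⟩, 1), (⟨7, CoxeterMatrix.E₇⟩, 2), (⟨8, CoxeterMatrix.E₈⟩, 2)]) :
    Nat.card (Subgroup.center c.1.2.Group) = c.2 ∧
      Subgroup.center c.1.2.Group ≤ Subgroup.zpowers ((List.finRange c.1.1).map c.1.2.simple).prod := by
  simp only [List.mem_cons, List.not_mem_nil, or_false] at hc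
  rcases hc with rfl | rfl | rfl | rfl | rfl | rfl | rfl
  · exact H53.WeylData.center_two H53.b2Weyl_valid (![0, 0] : Fin 2 → Fin 2) 0
      (by decide +kernel) (by decide +kernel) (List.finRange 2) 2 (by decide +kernel)
  · exact H53.WeylData.center_two H53.g2Weyl_valid (![0, 0] : Fin 2 → Fin 2) 0
      (by decide +kernel) (by decide +kernel) (List.finRange 2) 3 (by decide +kernel)
  · exact H53.WeylData.center_two H53.d4Weyl_valid (![1, 1, 1, 1] : Fin 4 → Fin 4) 1
      (by decide +kernel) (by decide +kernel) (List.finRange 4) 3 (by decide +kernel)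
  · exact H53.WeylData.center_two H53.f4Weyl_valid (![1, 1, 1, 2] : Fin 4 → Fin 4) 1
      (by decide +kernel) (by decide +kernel) (List.finRange 4) 6 (by decide +kernel)
  · obtain ⟨h1, h2⟩ := H53.WeylData.center_trivial H53.e6Weyl_valid (![2, 3, 3, 3, 3, 4] : Fin 6 → Fin 6) 3
      (by decide +kernel) (by decide +kernel) ([0, 1, 2, 0, 3, 1, 2, 0, 3, 2, 4, 3, 1, 2, 0, 3, 2, 4, 3, 1, 5, 4, 3, 1, 2, 0, 3, 2, 4, 3, 1, 5, 4, 3, 2, 0] : List (Fin 6)) (by decide +kernel) (by decide +kernel)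
    exact ⟨h1, le_of_eq h2 |>.trans bot_le⟩
  · exact H53.WeylData.center_two H53.e7Weyl_valid (![2, 3, 3, 3, 3, 4, 5] : Fin 7 → Fin 7) 3
      (by decide +kernel) (by decide +kernel) (List.finRange 7) 9 (by decide +kernel)
  · exact H53.WeylData.center_two H53.e8Weyl_valid (![2, 3, 3, 3, 3, 4, 5, 6] : Fin 8 → Fin 8) 3
      (by decide +kernel) (by decide +kernel) (List.finRange 8) 15 (by decide +kernel)

end Cfsg.Agent.S2418
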