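import Cfsg.Statements.S2419

set_option autoImplicit false
open Cfsg

namespace Cfsg.Agent.S2419

private theorem top_of_simple {n : ℕ} {M : CoxeterMatrix (Fin n)} {H : Subgroup M.Group}
    (h : ∀ i, M.simple i ∈ H) : H = ⊤ := by
  refine top_le_iff.1 ((M.toCoxeterSystem.subgroup_closure_range_simple).ge.trans ?_)
  rw [Subgroup.closure_le]
  rintro _ ⟨i, rfl⟩; exact h i

private theorem sq {n : ℕ} (M : CoxeterMatrix (Fin n)) (i : Fin n) : M.simple i * M.simple i = 1 :=
  M.toCoxeterSystem.simple_mul_simple_self i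

private theorem pw {n : ℕ} (M : CoxeterMatrix (Fin n)) (i j : Fin n) :
    (M.simple i * M.simple j) ^ M i j = 1 :=
  M.toCoxeterSystem.simple_mul_simple_pow i j

private theorem comm2 {G : Type*} [Group G] {a b : G} (ha : a * a = 1) (hb : b * b = 1)
    (h : (a * b) ^ 2 = 1) : a * b = b * a := by
  have h1 : a * b = (a * b)⁻¹ := eq_inv_of_mul_eq_one_left (by rw [← pow_two]; exact h)
  rw [h1, mul_inv_rev, inv_eq_of_mul_eq_one_left ha, inv_eq_of_mul_eq_one_left hb]

private theorem braid3 {G : Type*} [Group G] {a b : G} (ha : a * a = 1) (hb : b * b = 1)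
    (h : (a * b) ^ 3 = 1) : a * b * a = b * a * b := by
  have e : (a * b * a) * (b * a * b) = 1 := by
    rw [show (3 : ℕ) = 2 + 1 from rfl, pow_succ, pow_two] at h
    simpa [mul_assoc] using h
  rw [eq_inv_of_mul_eq_one_left e]
  simp [mul_inv_rev, inv_eq_of_mul_eq_one_left ha, inv_eq_of_mul_eq_one_left hb, mul_assoc]

/-- The argument at the branch node: from `d` and `a b c'` one gets `a`, `b`, `c'`. -/
private theorem branch {G : Type*} [Group G] (H : Subgroup G) {a b c d : G}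
    (ha : a * a = 1) (hb : b * b = 1) (hc : c * c = 1) (hd : d * d = 1)
    (hab : a * b = b * a) (hbc : b * c = c * b) (had : a * d = d * a)
    (h3 : (a * c) ^ 3 = 1) (hcd : c * d * c = d * c * d)
    (hH : a * b * c ∈ H) (hdH : d ∈ H) : a ∈ H ∧ b ∈ H ∧ c ∈ H := by
  have hcb : Commute b (a * c) := (Commute.mul_right (hab.symm) hbc : Commute b (a * c))
  have e : a * b * c = b * (a * c) := by rw [hab, mul_assoc]
  have hbH : b ∈ H := by
    have h := H.pow_mem hH 3
    rw [e, hcb.mul_pow, h3, mul_one, pow_succ, pow_two, hb, one_mul] at h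
    exact h
  have hr : a * c ∈ H := by
    have h := H.mul_mem hbH hH
    rwa [e, ← mul_assoc, hb, one_mul] at h
  have hu : a * c * d * (a * c)⁻¹ ∈ H := H.mul_mem (H.mul_mem hr hdH) (H.inv_mem hr)
  have hu' : d * (a * c * d * (a * c)⁻¹) * d = a * c * a := by
    rw [mul_inv_rev, inv_eq_of_mul_eq_one_left ha, inv_eq_of_mul_eq_one_left hc]
    calc d * (a * c * d * (c * a)) * d = d * a * (c * d * c) * (a * d) := by simp [mul_assoc]
      _ = (a * d) * (d * c * d) * (d * a) := by rw [hcd, had]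
      _ = a * (d * d) * c * (d * d) * a := by simp [mul_assoc]
      _ = a * c * a := by rw [hd, mul_one, mul_one]
  have haca : a * c * a ∈ H := hu' ▸ H.mul_mem (H.mul_mem hdH hu) hdH
  have haH : a ∈ H := by
    have h := H.mul_mem (H.inv_mem hr) haca
    rwa [← mul_assoc, inv_mul_cancel, one_mul] at h
  refine ⟨haH, hbH, ?_⟩
  have h := H.mul_mem haH hr
  rwa [← mul_assoc, ha, one_mul] at h

private theorem chainStep {G : Type*} [Group G] (H : Subgroup G) {p q r t : G}
    (hp : p * p = 1) (hq : q * q = 1) (h3 : (p * q) ^ 3 = 1) (hr : Commute p r) (hl : Commute q t)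
    {c : G} (hc : c = t * p * q * r) (hcH : c ∈ H) (hpH : p ∈ H) : q ∈ H := by
  have h : c * p * c⁻¹ = q := by
    subst hc
    have e1 : p * q * p * q⁻¹ * p⁻¹ = q := by
      rw [braid3 hp hq h3, inv_eq_of_mul_eq_one_left hp, inv_eq_of_mul_eq_one_left hq]
      calc q * p * q * q * p = q * p * (q * q) * p := by simp [mul_assoc]
        _ = q := by rw [hq, mul_one, mul_assoc, hp, mul_one]
    calc t * p * q * r * p * (t * p * q * r)⁻¹
        = t * (p * q * (r * p * r⁻¹) * q⁻¹ * p⁻¹) * t⁻¹ := by simp [mul_assoc, mul_inv_rev]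
      _ = t * q * t⁻¹ := by rw [← hr.eq, mul_inv_cancel_right, e1]
      _ = q := by rw [← hl.eq, mul_inv_cancel_right]
  exact h ▸ H.mul_mem (H.mul_mem hcH hpH) (H.inv_mem hcH)

private abbrev genH {n : ℕ} (M : CoxeterMatrix (Fin n)) (T : Finset M.Group) : Subgroup M.Group :=
  Subgroup.closure (({((List.finRange n).map M.simple).prod} : Set M.Group) ∪ ↑T)

private theorem cox_mem {n : ℕ} (M : CoxeterMatrix (Fin n)) (T : Finset M.Group) :
    ((List.finRange n).map M.simple).prod ∈ genH M T :=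
  Subgroup.subset_closure (Or.inl rfl)

private theorem gen_mem {n : ℕ} (M : CoxeterMatrix (Fin n)) (T : Finset M.Group) {t : M.Group}
    (h : t ∈ T) : t ∈ genH M T :=
  Subgroup.subset_closure (Or.inr h)

private theorem rankTwo (M : CoxeterMatrix (Fin 2)) :
    ∃ T : Finset M.Group, T.card = 1 ∧ (∀ t ∈ T, ∃ g i, t = g * M.simple i * g⁻¹) ∧
      genH M T = ⊤ := by
  refine ⟨{M.simple 0}, rfl, fun t ht => ⟨1, 0, by simpa using ht⟩, ?_⟩
  refine top_of_simple fun i => ?_
  have h0 := gen_mem M {M.simple 0} (Finset.mem_singleton_self _)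
  have hc := cox_mem M {M.simple 0}
  simp only [List.finRange_succ, List.finRange_zero, List.map_cons, List.map_nil, List.prod_cons,
    List.prod_nil, mul_one] at hc
  fin_cases i
  · exact h0
  · simpa [← mul_assoc, sq] using Subgroup.mul_mem _ h0 hc

private theorem e6 :
    ∃ T : Finset CoxeterMatrix.E₆.Group, T.card = 1 ∧
      (∀ t ∈ T, ∃ g i, t = g * CoxeterMatrix.E₆.simple i * g⁻¹) ∧ genH CoxeterMatrix.E₆ T = ⊤ := by
  set M := CoxeterMatrix.E₆
  refine ⟨{M.simple 3}, rfl, fun t ht => ⟨1, 3, by simpa using ht⟩, ?_⟩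
  set H := genH M {M.simple 3}
  have h3 : M.simple 3 ∈ H := gen_mem M _ (Finset.mem_singleton_self _)
  have hc : M.simple 0 * M.simple 1 * M.simple 2 * M.simple 3 * M.simple 4 * M.simple 5 ∈ H := by
    simpa [List.finRange_succ, mul_assoc] using cox_mem M {M.simple 3}
  have c : ∀ i j, M i j = 2 → Commute (M.simple i) (M.simple j) := fun i j h =>
    comm2 (sq M i) (sq M j) (h ▸ pw M i j)
  have b : ∀ i j, M i j = 3 → (M.simple i * M.simple j) ^ 3 = 1 := fun i j h => h ▸ pw M i j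
  have h4 : M.simple 4 ∈ H :=
    chainStep H (sq M 3) (sq M 4) (b 3 4 rfl) (c 3 5 rfl)
      (((c 4 0 rfl).mul_right (c 4 1 rfl)).mul_right (c 4 2 rfl)) (by rfl) hc h3
  have h5 : M.simple 5 ∈ H :=
    chainStep H (sq M 4) (sq M 5) (b 4 5 rfl) (Commute.one_right _)
      ((((c 5 0 rfl).mul_right (c 5 1 rfl)).mul_right (c 5 2 rfl)).mul_right (c 5 3 rfl))
      (by rw [mul_one]) hc h4
  have hP : M.simple 0 * M.simple 1 * M.simple 2 ∈ H := by
    rwa [H.mul_mem_cancel_right h5, H.mul_mem_cancel_right h4, H.mul_mem_cancel_right h3] at hc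
  obtain ⟨h0, h1, h2⟩ := branch H (sq M 0) (sq M 1) (sq M 2) (sq M 3) (c 0 1 rfl) (c 1 2 rfl)
    (c 0 3 rfl) (b 0 2 rfl) (braid3 (sq M 2) (sq M 3) (b 2 3 rfl)) hP h3
  exact top_of_simple fun i => by fin_cases i <;> assumption

private theorem e7 :
    ∃ T : Finset CoxeterMatrix.E₇.Group, T.card = 1 ∧
      (∀ t ∈ T, ∃ g i, t = g * CoxeterMatrix.E₇.simple i * g⁻¹) ∧ genH CoxeterMatrix.E₇ T = ⊤ := by
  set M := CoxeterMatrix.E₇
  refine ⟨{M.simple 3}, rfl, fun t ht => ⟨1, 3, by simpa using ht⟩, ?_⟩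
  set H := genH M {M.simple 3}
  have h3 : M.simple 3 ∈ H := gen_mem M _ (Finset.mem_singleton_self _)
  have hc : M.simple 0 * M.simple 1 * M.simple 2 * M.simple 3 * M.simple 4 * M.simple 5 *
      M.simple 6 ∈ H := by
    simpa [List.finRange_succ, mul_assoc] using cox_mem M {M.simple 3}
  have c : ∀ i j, M i j = 2 → Commute (M.simple i) (M.simple j) := fun i j h =>
    comm2 (sq M i) (sq M j) (h ▸ pw M i j)
  have b : ∀ i j, M i j = 3 → (M.simple i * M.simple j) ^ 3 = 1 := fun i j h => h ▸ pw M i j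
  have h4 : M.simple 4 ∈ H :=
    chainStep H (sq M 3) (sq M 4) (b 3 4 rfl) ((c 3 5 rfl).mul_right (c 3 6 rfl))
      (((c 4 0 rfl).mul_right (c 4 1 rfl)).mul_right (c 4 2 rfl))
      (by simp [mul_assoc]) hc h3
  have h5 : M.simple 5 ∈ H :=
    chainStep H (sq M 4) (sq M 5) (b 4 5 rfl) (c 4 6 rfl)
      ((((c 5 0 rfl).mul_right (c 5 1 rfl)).mul_right (c 5 2 rfl)).mul_right (c 5 3 rfl))
      (by simp [mul_assoc]) hc h4
  have h6 : M.simple 6 ∈ H :=
    chainStep H (sq M 5) (sq M 6) (b 5 6 rfl) (Commute.one_right _)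
      (((((c 6 0 rfl).mul_right (c 6 1 rfl)).mul_right (c 6 2 rfl)).mul_right (c 6 3 rfl)).mul_right
        (c 6 4 rfl))
      (by simp [mul_assoc]) hc h5
  have hP : M.simple 0 * M.simple 1 * M.simple 2 ∈ H := by
    rwa [H.mul_mem_cancel_right h6, H.mul_mem_cancel_right h5, H.mul_mem_cancel_right h4,
      H.mul_mem_cancel_right h3] at hc
  obtain ⟨h0, h1, h2⟩ := branch H (sq M 0) (sq M 1) (sq M 2) (sq M 3) (c 0 1 rfl) (c 1 2 rfl)
    (c 0 3 rfl) (b 0 2 rfl) (braid3 (sq M 2) (sq M 3) (b 2 3 rfl)) hP h3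
  exact top_of_simple fun i => by fin_cases i <;> assumption

private theorem e8 :
    ∃ T : Finset CoxeterMatrix.E₈.Group, T.card = 1 ∧
      (∀ t ∈ T, ∃ g i, t = g * CoxeterMatrix.E₈.simple i * g⁻¹) ∧ genH CoxeterMatrix.E₈ T = ⊤ := by
  set M := CoxeterMatrix.E₈
  refine ⟨{M.simple 3}, rfl, fun t ht => ⟨1, 3, by simpa using ht⟩, ?_⟩
  set H := genH M {M.simple 3}
  have h3 : M.simple 3 ∈ H := gen_mem M _ (Finset.mem_singleton_self _)
  have hc : M.simple 0 * M.simple 1 * M.simple 2 * M.simple 3 * M.simple 4 * M.simple 5 *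
      M.simple 6 * M.simple 7 ∈ H := by
    simpa [List.finRange_succ, mul_assoc] using cox_mem M {M.simple 3}
  have c : ∀ i j, M i j = 2 → Commute (M.simple i) (M.simple j) := fun i j h =>
    comm2 (sq M i) (sq M j) (h ▸ pw M i j)
  have b : ∀ i j, M i j = 3 → (M.simple i * M.simple j) ^ 3 = 1 := fun i j h => h ▸ pw M i j
  have h4 : M.simple 4 ∈ H :=
    chainStep H (sq M 3) (sq M 4) (b 3 4 rfl)
      (((c 3 5 rfl).mul_right (c 3 6 rfl)).mul_right (c 3 7 rfl))
      (((c 4 0 rfl).mul_right (c 4 1 rfl)).mul_right (c 4 2 rfl))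
      (by simp [mul_assoc]) hc h3
  have h5 : M.simple 5 ∈ H :=
    chainStep H (sq M 4) (sq M 5) (b 4 5 rfl) ((c 4 6 rfl).mul_right (c 4 7 rfl))
      ((((c 5 0 rfl).mul_right (c 5 1 rfl)).mul_right (c 5 2 rfl)).mul_right (c 5 3 rfl))
      (by simp [mul_assoc]) hc h4
  have h6 : M.simple 6 ∈ H :=
    chainStep H (sq M 5) (sq M 6) (b 5 6 rfl) (c 5 7 rfl)
      (((((c 6 0 rfl).mul_right (c 6 1 rfl)).mul_right (c 6 2 rfl)).mul_right (c 6 3 rfl)).mul_right
        (c 6 4 rfl))
      (by simp [mul_assoc]) hc h5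
  have h7 : M.simple 7 ∈ H :=
    chainStep H (sq M 6) (sq M 7) (b 6 7 rfl) (Commute.one_right _)
      ((((((c 7 0 rfl).mul_right (c 7 1 rfl)).mul_right (c 7 2 rfl)).mul_right (c 7 3 rfl)).mul_right
        (c 7 4 rfl)).mul_right (c 7 5 rfl))
      (by simp [mul_assoc]) hc h6
  have hP : M.simple 0 * M.simple 1 * M.simple 2 ∈ H := by
    rwa [H.mul_mem_cancel_right h7, H.mul_mem_cancel_right h6, H.mul_mem_cancel_right h5,
      H.mul_mem_cancel_right h4, H.mul_mem_cancel_right h3] at hc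
  obtain ⟨h0, h1, h2⟩ := branch H (sq M 0) (sq M 1) (sq M 2) (sq M 3) (c 0 1 rfl) (c 1 2 rfl)
    (c 0 3 rfl) (b 0 2 rfl) (braid3 (sq M 2) (sq M 3) (b 2 3 rfl)) hP h3
  exact top_of_simple fun i => by fin_cases i <;> assumption

private def d4Img : Fin 4 → Equiv.Perm (Fin 4) :=
  ![Equiv.swap 0 1, Equiv.swap 1 2, Equiv.swap 2 3, Equiv.swap 0 1]

private theorem d4Img_liftable : Cfsg.Lie.coxeterD4.IsLiftable d4Img := by
  intro i j; fin_cases i <;> fin_cases j <;> decide

private theorem d4 :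
    ∃ T : Finset Cfsg.Lie.coxeterD4.Group, T.card = 2 ∧
      (∀ t ∈ T, ∃ g i, t = g * Cfsg.Lie.coxeterD4.simple i * g⁻¹) ∧
      genH Cfsg.Lie.coxeterD4 T = ⊤ := by
  classical
  set M := Cfsg.Lie.coxeterD4
  have hne : M.simple 0 ≠ M.simple 2 := by
    intro h
    have := congrArg (M.toCoxeterSystem.lift ⟨d4Img, d4Img_liftable⟩) h
    simp only [← CoxeterMatrix.toCoxeterSystem_simple, CoxeterSystem.lift_apply_simple] at this
    exact absurd this (by decide)
  refine ⟨{M.simple 0, M.simple 2}, Finset.card_pair hne, ?_, ?_⟩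
  · intro t ht
    rcases Finset.mem_insert.1 ht with h | h
    · exact ⟨1, 0, by simpa using h⟩
    · exact ⟨1, 2, by simpa using Finset.mem_singleton.1 h⟩
  set H := genH M {M.simple 0, M.simple 2}
  have h0 : M.simple 0 ∈ H := gen_mem M _ (by simp)
  have h2 : M.simple 2 ∈ H := gen_mem M _ (by simp)
  have hc : M.simple 0 * M.simple 1 * M.simple 2 * M.simple 3 ∈ H := by
    simpa [List.finRange_succ, mul_assoc] using cox_mem M {M.simple 0, M.simple 2}
  have c23 : M.simple 2 * M.simple 3 = M.simple 3 * M.simple 2 := comm2 (sq M 2) (sq M 3) (pw M 2 3)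
  have br : M.simple 1 * M.simple 2 * M.simple 1 = M.simple 2 * M.simple 1 * M.simple 2 :=
    braid3 (sq M 1) (sq M 2) (pw M 1 2)
  have h13 : M.simple 1 * M.simple 3 ∈ H := by
    have e : M.simple 0 * M.simple 1 * M.simple 2 * M.simple 3 =
        M.simple 0 * (M.simple 1 * M.simple 3) * M.simple 2 := by
      simp [mul_assoc, c23]
    rwa [e, H.mul_mem_cancel_right h2, H.mul_mem_cancel_left h0] at hc
  have h121 : M.simple 1 * M.simple 2 * M.simple 1 ∈ H := by
    have h := H.mul_mem (H.mul_mem h13 h2) (H.inv_mem h13)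
    have e : M.simple 1 * M.simple 3 * M.simple 2 * (M.simple 1 * M.simple 3)⁻¹ =
        M.simple 1 * M.simple 2 * M.simple 1 := by
      rw [mul_inv_rev, inv_eq_of_mul_eq_one_left (sq M 1), inv_eq_of_mul_eq_one_left (sq M 3)]
      calc _ = M.simple 1 * (M.simple 3 * M.simple 2) * M.simple 3 * M.simple 1 := by simp [mul_assoc]
        _ = _ := by rw [← c23]; simp [mul_assoc, sq]
    rwa [e] at h
  have h1 : M.simple 1 ∈ H := by
    rwa [br, H.mul_mem_cancel_right h2, H.mul_mem_cancel_left h2] at h121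
  have h3 : M.simple 3 ∈ H := by rwa [H.mul_mem_cancel_left h1] at h13
  exact top_of_simple fun i => by fin_cases i <;> assumption

private def f4Img : Fin 4 → Multiplicative (ZMod 2 × ZMod 2) :=
  ![.ofAdd (1, 0), .ofAdd (1, 0), .ofAdd (0, 1), .ofAdd (0, 1)]

private theorem f4Img_liftable : CoxeterMatrix.F₄.IsLiftable f4Img := by
  intro i j; fin_cases i <;> fin_cases j <;> decide

private theorem f4 :
    ∃ T : Finset CoxeterMatrix.F₄.Group, T.card = 2 ∧
      (∀ t ∈ T, ∃ g i, t = g * CoxeterMatrix.F₄.simple i * g⁻¹) ∧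
      genH CoxeterMatrix.F₄ T = ⊤ := by
  classical
  set M := CoxeterMatrix.F₄
  have hne : M.simple 0 ≠ M.simple 3 := by
    intro h
    have := congrArg (M.toCoxeterSystem.lift ⟨f4Img, f4Img_liftable⟩) h
    simp only [← CoxeterMatrix.toCoxeterSystem_simple, CoxeterSystem.lift_apply_simple] at this
    exact absurd this (by decide)
  refine ⟨{M.simple 0, M.simple 3}, Finset.card_pair hne, ?_, ?_⟩
  · intro t ht
    rcases Finset.mem_insert.1 ht with h | h
    · exact ⟨1, 0, by simpa using h⟩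
    · exact ⟨1, 3, by simpa using Finset.mem_singleton.1 h⟩
  set H := genH M {M.simple 0, M.simple 3}
  have h0 : M.simple 0 ∈ H := gen_mem M _ (by simp)
  have h3 : M.simple 3 ∈ H := gen_mem M _ (by simp)
  have hc : M.simple 0 * (M.simple 1 * M.simple 2) * M.simple 3 ∈ H := by
    simpa [List.finRange_succ, mul_assoc] using cox_mem M {M.simple 0, M.simple 3}
  rw [H.mul_mem_cancel_right h3, H.mul_mem_cancel_left h0] at hc
  have c02 : M.simple 2 * M.simple 0 = M.simple 0 * M.simple 2 := comm2 (sq M 2) (sq M 0) (pw M 2 0)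
  have br : M.simple 1 * M.simple 0 * M.simple 1 = M.simple 0 * M.simple 1 * M.simple 0 :=
    braid3 (sq M 1) (sq M 0) (pw M 1 0)
  have h101 : M.simple 1 * M.simple 0 * M.simple 1 ∈ H := by
    have h := H.mul_mem (H.mul_mem hc h0) (H.inv_mem hc)
    have e : M.simple 1 * M.simple 2 * M.simple 0 * (M.simple 1 * M.simple 2)⁻¹ =
        M.simple 1 * M.simple 0 * M.simple 1 := by
      rw [mul_inv_rev, inv_eq_of_mul_eq_one_left (sq M 1), inv_eq_of_mul_eq_one_left (sq M 2)]
      calc _ = M.simple 1 * (M.simple 2 * M.simple 0) * M.simple 2 * M.simple 1 := by simp [mul_assoc]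
        _ = _ := by rw [c02]; simp [mul_assoc, sq]
    rwa [e] at h
  have h1 : M.simple 1 ∈ H := by
    rwa [br, H.mul_mem_cancel_right h0, H.mul_mem_cancel_left h0] at h101
  have h2 : M.simple 2 ∈ H := by rwa [H.mul_mem_cancel_left h1] at hc
  exact top_of_simple fun i => by fin_cases i <;> assumption

/-- The Coxeter groups of types B₂, G₂, E₆, E₇, E₈ are generated by the Coxeter element `s₁ s₂ ⋯ s_l` together with one suitable reflection (a conjugate of a simple reflection); for types D₄ and F₄ the Coxeter element together with two suitable reflections suffices. -/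
theorem result (c : (Σ n : ℕ, CoxeterMatrix (Fin n)) × ℕ)
    (hc : c ∈ [(⟨2, CoxeterMatrix.B 2⟩, 1), (⟨2, CoxeterMatrix.G₂⟩, 1), (⟨4, Cfsg.Lie.coxeterD4⟩, 2), (⟨4, CoxeterMatrix.F₄⟩, 2),
      (⟨6, CoxeterMatrix.E₆⟩, 1), (⟨7, CoxeterMatrix.E₇⟩, 1), (⟨8, CoxeterMatrix.E₈⟩, 1)]) :
    ∃ T : Finset c.1.2.Group, T.card = c.2 ∧ (∀ t ∈ T, ∃ (g : c.1.2.Group) (i : Fin c.1.1), t = g * c.1.2.simple i * g⁻¹) ∧
      Subgroup.closure (({((List.finRange c.1.1).map c.1.2.simple).prod} : Set c.1.2.Group) ∪ ↑T) = ⊤ := by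
  simp only [List.mem_cons, List.not_mem_nil, or_false] at hc
  rcases hc with rfl | rfl | rfl | rfl | rfl | rfl | rfl
  · exact rankTwo _
  · exact rankTwo _
  · exact d4
  · exact f4
  · exact e6
  · exact e7
  · exact e8

end Cfsg.Agent.S2419
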