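import Cfsg.Statements.S2425
import Cfsg.Agent.H40.SteinbergValue

set_option autoImplicit false
open scoped MatrixGroups
open Cfsg

namespace Cfsg.Agent.S2425

/-- Values of the Steinberg character of `GL_n(q)` (the partition-indexed character for `ν = (1,…,1)`, of degree `q^(n(n−1)/2)`) at elements of order prime to the characteristic: if the characteristic polynomial of such an element is `∏ f^(m_f)` over distinct monic irreducible `f`, the value is `∏_f (−1)^((deg f − 1) m_f) q^(deg f · m_f (m_f − 1)/2)`. (At elements of order divisible by the characteristic the value is 0; that is not part of this statement.) -/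
theorem result {F : Type*} [Field F] [Fintype F] [DecidableEq F] {q : ℕ} (hq : Fintype.card F = q) (p : ℕ) [Fact p.Prime] [CharP F p]
    {n : ℕ} (x : GL (Fin n) F) (hx : (orderOf x).Coprime p) :
    Cfsg.unipotentCharacterGL n F (fun _ => 1) x =
      ∏ f ∈ (UniqueFactorizationMonoid.normalizedFactors (x : Matrix (Fin n) (Fin n) F).charpoly).toFinset,
        (-1 : ℂ) ^ ((f.natDegree - 1) * (UniqueFactorizationMonoid.normalizedFactors (x : Matrix (Fin n) (Fin n) F).charpoly).count f) *
          (q : ℂ) ^ (f.natDegree * (UniqueFactorizationMonoid.normalizedFactors (x : Matrix (Fin n) (Fin n) F).charpoly).count f *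
            ((UniqueFactorizationMonoid.normalizedFactors (x : Matrix (Fin n) (Fin n) F).charpoly).count f - 1) / 2) := by
  classical
  subst hq
  rw [H40.steinberg_value p x hx]
  set s := UniqueFactorizationMonoid.normalizedFactors (x : Matrix (Fin n) (Fin n) F).charpoly with hs
  have hn : n = ∑ f ∈ s.toFinset, s.count f * f.natDegree := by
    have h := congrArg Polynomial.natDegree (show s.prod = (x : Matrix (Fin n) (Fin n) F).charpoly by
      rw [hs, UniqueFactorizationMonoid.prod_normalizedFactors_eq (Matrix.charpoly_monic _).ne_zero, (Matrix.charpoly_monic _).normalize_eq_self])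
    rw [Matrix.charpoly_natDegree_eq_dim, Fintype.card_fin, Polynomial.natDegree_multiset_prod s (fun h0 =>
      (UniqueFactorizationMonoid.irreducible_of_normalized_factor 0 h0).ne_zero rfl)] at h
    rw [← h, Finset.sum_multiset_map_count]
    simp
  have hfv : H40.facValue (Fintype.card F) s =
      ∏ f ∈ s.toFinset, (-1 : ℤ) ^ s.count f * (Fintype.card F : ℤ) ^ (f.natDegree * (s.count f).choose 2) := by
    unfold H40.facValue; congr!
  rw [hfv]
  rw [Int.cast_mul, Int.cast_prod, Int.cast_pow, Int.cast_neg, Int.cast_one, hn, ← Finset.prod_pow_eq_pow_sum,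
    ← Finset.prod_mul_distrib]
  refine Finset.prod_congr (by congr 1) fun f hf => ?_
  have hd : 1 ≤ f.natDegree :=
    (UniqueFactorizationMonoid.irreducible_of_normalized_factor f (Multiset.mem_toFinset.1 hf)).natDegree_pos
  push_cast
  rw [← mul_assoc, ← pow_add, Nat.choose_two_right]
  obtain ⟨d, hd'⟩ : ∃ d, f.natDegree = d + 1 := ⟨f.natDegree - 1, by omega⟩
  rw [hd', Nat.add_sub_cancel, mul_assoc (d + 1), Nat.mul_div_assoc _ (Nat.even_mul_pred_self _).two_dvd,
    show s.count f * (d + 1) + s.count f = d * s.count f + 2 * s.count f by ring, pow_add, pow_mul (-1 : ℂ) 2,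
    neg_one_sq, one_pow, mul_one]

end Cfsg.Agent.S2425
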