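import Cfsg.Statements.S2426
import Cfsg.Agent.H98.SL2Hom

set_option autoImplicit false
open Cfsg

namespace Cfsg.Agent.S2426

/-- The rank-one Steinberg presentation of `SL₂` over a finite field `K`: generators `x(t)`, `y(t)` (`t ∈ K`; the two opposite root subgroups) subject to additivity `x(t)x(u) = x(t+u)`, `y(t)y(u) = y(t+u)` and, with `w(t) = x(t) y(−t⁻¹) x(t)` and `w'(t) = y(t) x(−t⁻¹) y(t)` for `t ≠ 0`, the relations `w(t) x(u) w(t)⁻¹ = y(−t⁻² u)` and `w'(t) y(u) w'(t)⁻¹ = x(−t⁻² u)`, present `SL₂(K)`, with `x(t) ↦ (1 t; 0 1)` and `y(t) ↦ (1 0; t 1)`. -/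
theorem result {K : Type*} [Field K] [Finite K] :
    ∃ e : PresentedGroup
        ({g : FreeGroup (Bool × K) | ∃ (b : Bool) (t u : K), g = FreeGroup.of (b, t) * FreeGroup.of (b, u) * (FreeGroup.of (b, t + u))⁻¹} ∪
          {g | ∃ (b : Bool) (t u : K), t ≠ 0 ∧
            g = (FreeGroup.of (b, t) * FreeGroup.of (!b, -t⁻¹) * FreeGroup.of (b, t)) * FreeGroup.of (b, u) *
                  (FreeGroup.of (b, t) * FreeGroup.of (!b, -t⁻¹) * FreeGroup.of (b, t))⁻¹ * (FreeGroup.of (!b, -(t⁻¹ ^ 2 * u)))⁻¹})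
        ≃* Matrix.SpecialLinearGroup (Fin 2) K,
      (∀ t : K, ((e (PresentedGroup.of (true, t)) : Matrix (Fin 2) (Fin 2) K)) = !![1, t; 0, 1]) ∧
      (∀ t : K, ((e (PresentedGroup.of (false, t)) : Matrix (Fin 2) (Fin 2) K)) = !![1, 0; t, 1]) := by
  classical
  set R : Set (FreeGroup (Bool × K)) :=
    {g : FreeGroup (Bool × K) | ∃ (b : Bool) (t u : K), g = FreeGroup.of (b, t) * FreeGroup.of (b, u) * (FreeGroup.of (b, t + u))⁻¹} ∪
      {g | ∃ (b : Bool) (t u : K), t ≠ 0 ∧
        g = (FreeGroup.of (b, t) * FreeGroup.of (!b, -t⁻¹) * FreeGroup.of (b, t)) * FreeGroup.of (b, u) *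
              (FreeGroup.of (b, t) * FreeGroup.of (!b, -t⁻¹) * FreeGroup.of (b, t))⁻¹ * (FreeGroup.of (!b, -(t⁻¹ ^ 2 * u)))⁻¹}
  let x : K → PresentedGroup R := fun t => PresentedGroup.of (true, t)
  let y : K → PresentedGroup R := fun t => PresentedGroup.of (false, t)
  have hadd : ∀ (b : Bool) (t u : K), (PresentedGroup.of (b, t + u) : PresentedGroup R) =
      PresentedGroup.of (b, t) * PresentedGroup.of (b, u) := by
    intro b t u
    have h := PresentedGroup.one_of_mem (rels := R) (Or.inl ⟨b, t, u, rfl⟩)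
    simp only [map_mul, map_inv] at h
    exact (mul_inv_eq_one.1 h).symm
  have hconj : ∀ t : K, t ≠ 0 → ∀ u, H98.mm x y t * x u = y (-(u / t ^ 2)) * H98.mm x y t := by
    intro t ht u
    have h := PresentedGroup.one_of_mem (rels := R) (Or.inr ⟨true, t, u, ht, rfl⟩)
    simp only [map_mul, map_inv, Bool.not_true] at h
    rw [show -(u / t ^ 2) = -(t⁻¹ ^ 2 * u) by rw [inv_pow]; ring]
    exact mul_inv_eq_iff_eq_mul.1 (mul_inv_eq_one.1 h)
  have hR : H98.RootRel x y :=
    { x_add := hadd true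
      y_add := hadd false
      braid := fun t ht => by
        have h := hconj t ht t
        rw [show -(t / t ^ 2) = -t⁻¹ by field_simp] at h
        apply mul_right_cancel (b := x t)
        rw [h, H98.mm]
        simp only [mul_assoc]
      conj := hconj }
  let f := H98.sl2Hom hR (fun t l ht hl => hR.hh_mul ht hl)
  let v : Bool × K → Matrix.SpecialLinearGroup (Fin 2) K := fun p => if p.1 then H98.uu p.2 else H98.ll p.2
  have S := H98.rootRel_uu (k := K)
  have hw : ∀ (b : Bool) (t u : K), t ≠ 0 →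
      (v (b, t) * v (!b, -t⁻¹) * v (b, t)) * v (b, u) * (v (b, t) * v (!b, -t⁻¹) * v (b, t))⁻¹ =
        v (!b, -(t⁻¹ ^ 2 * u)) := by
    intro b t u ht
    apply mul_inv_eq_iff_eq_mul.2
    cases b
    · simp only [v, Bool.false_eq_true, if_false, Bool.not_false, if_true]
      have ht' : -t⁻¹ ≠ 0 := by simp [ht]
      have hb := S.braid (-t⁻¹) ht'
      have hc := S.conj' ht' u
      have e : H98.mm H98.uu H98.ll (-t⁻¹) = H98.ll t * H98.uu (-t⁻¹) * H98.ll t := by
        rw [hb]; simp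
      rw [e] at hc
      rw [hc]
      congr 2
      ring
    · simp only [v, Bool.not_true, Bool.false_eq_true, if_false, if_true]
      have hc := S.conj t ht u
      rw [H98.mm] at hc
      rw [hc]
      congr 2
      rw [inv_pow]; ring
  have hv : ∀ r ∈ R, FreeGroup.lift v r = 1 := by
    rintro r (⟨b, t, u, rfl⟩ | ⟨b, t, u, ht, rfl⟩)
    · simp only [map_mul, map_inv, FreeGroup.lift_apply_of, mul_inv_eq_one]
      cases b <;> simp [v, H98.uu_add, H98.ll_add]
    · simp only [map_mul, map_inv, FreeGroup.lift_apply_of, mul_inv_eq_one]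
      exact hw b t u ht
  let g := PresentedGroup.toGroup hv
  have h1 : f.comp g = MonoidHom.id _ := by
    refine PresentedGroup.ext fun p => ?_
    obtain ⟨b, t⟩ := p
    simp only [MonoidHom.comp_apply, MonoidHom.id_apply, g, PresentedGroup.toGroup.of, v]
    cases b
    · simp only [Bool.false_eq_true, if_false, f, H98.sl2Hom_ll]; rfl
    · simp only [if_true, f, H98.sl2Hom_uu]; rfl
  have h2 : g.comp f = MonoidHom.id _ := by
    refine MonoidHom.ext fun a => ?_
    induction a using H98.sl2_induction with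
    | hu s => simp [f, g, H98.sl2Hom_uu, x, v]
    | hw =>
      simp only [MonoidHom.comp_apply, MonoidHom.id_apply, H98.mm, map_mul]
      simp [f, g, H98.sl2Hom_uu, H98.sl2Hom_ll, x, y, v]
    | hm a b ia ib => rw [map_mul, map_mul, ia, ib]
  refine ⟨g.toMulEquiv f h1 h2, fun t => ?_, fun t => ?_⟩
  · show ((g (PresentedGroup.of (true, t)) : Matrix.SpecialLinearGroup (Fin 2) K) : Matrix (Fin 2) (Fin 2) K) = _
    simp [g, v, H98.coe_uu]
  · show ((g (PresentedGroup.of (false, t)) : Matrix.SpecialLinearGroup (Fin 2) K) : Matrix (Fin 2) (Fin 2) K) = _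
    simp [g, v, H98.coe_ll]

end Cfsg.Agent.S2426
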