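import Mathlib
import Cfsg.Statements.S2427


set_option autoImplicit false
open Cfsg

namespace Cfsg.Agent.S2427

abbrev S23 := Matrix.SpecialLinearGroup (Fin 2) (ZMod 3)

def iI : S23 := ⟨!![0, 2; 1, 0], by decide⟩
def jJ : S23 := ⟨!![1, 1; 1, 2], by decide⟩

/-- the Sylow 2-subgroup -/
def q8 : Subgroup S23 where
  carrier := {g | g ^ 4 = 1}
  mul_mem' := fun {a b} ha hb => by
    have key : ∀ a b : S23, a ^ 4 = 1 → b ^ 4 = 1 → (a * b) ^ 4 = 1 := by decide +kernel
    exact key a b ha hb
  one_mem' := by simp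
  inv_mem' := fun {a} ha => by
    show a⁻¹ ^ 4 = 1
    rw [inv_pow, show a ^ 4 = 1 from ha, inv_one]

def toS : QuaternionGroup 2 → S23
  | .a k => iI ^ k.val
  | .xa k => jJ * iI ^ k.val

theorem toS_mul : ∀ x y, toS (x * y) = toS x * toS y := by decide +kernel
theorem toS_mem : ∀ x, toS x ^ 4 = 1 := by decide +kernel
theorem toS_inj : ∀ x y, toS x = toS y → x = y := by decide +kernel
theorem toS_surj : ∀ g : S23, g ^ 4 = 1 → ∃ x, toS x = g := by decide +kernel

theorem card_q8 : Nat.card q8 = 8 := by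
  have h : Fintype.card {g : S23 // g ^ 4 = 1} = 8 := by decide +kernel
  rw [← h, ← Nat.card_eq_fintype_card]
  rfl

theorem card_S23 : Nat.card S23 = 24 := by
  rw [Nat.card_eq_fintype_card]; decide +kernel

/-- The group SL₂ over the field with 3 elements has order 24 and centre of order 2; its commutator subgroup has order 8, is isomorphic to the quaternion group of order 8 and is complemented by every Sylow 3-subgroup (so the group is a semidirect product of a quaternion group of order 8 by a cyclic group of order 3); and its only normal subgroups besides the trivial subgroup and the whole group are the centre and the commutator subgroup. -/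
theorem result :
    Nat.card (Matrix.SpecialLinearGroup (Fin 2) (ZMod 3)) = 24 ∧
    Nat.card (Subgroup.center (Matrix.SpecialLinearGroup (Fin 2) (ZMod 3))) = 2 ∧
    Nat.card (commutator (Matrix.SpecialLinearGroup (Fin 2) (ZMod 3))) = 8 ∧
    Nonempty (commutator (Matrix.SpecialLinearGroup (Fin 2) (ZMod 3)) ≃* QuaternionGroup 2) ∧
    (∀ P : Sylow 3 (Matrix.SpecialLinearGroup (Fin 2) (ZMod 3)),
      Subgroup.IsComplement' (commutator (Matrix.SpecialLinearGroup (Fin 2) (ZMod 3)))
        (P : Subgroup (Matrix.SpecialLinearGroup (Fin 2) (ZMod 3)))) ∧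
    ∀ N : Subgroup (Matrix.SpecialLinearGroup (Fin 2) (ZMod 3)), N.Normal →
      N = ⊥ ∨ N = ⊤ ∨ N = Subgroup.center (Matrix.SpecialLinearGroup (Fin 2) (ZMod 3)) ∨
        N = commutator (Matrix.SpecialLinearGroup (Fin 2) (ZMod 3)) := by
  have hcomm : commutator S23 = q8 := by
    refine le_antisymm ?_ ?_
    · rw [commutator_eq_closure, Subgroup.closure_le]
      rintro x ⟨a, b, rfl⟩
      have key : ∀ a b : S23, (a * b * a⁻¹ * b⁻¹) ^ 4 = 1 := by decide +kernel
      rw [commutatorElement_def]
      exact key a b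
    · intro g hg
      rw [commutator_eq_closure]
      have key : ∀ g : S23, g ^ 4 = 1 → ∃ a b : S23, a * b * a⁻¹ * b⁻¹ = g := by decide +kernel
      obtain ⟨a, b, hab⟩ := key g hg
      exact Subgroup.subset_closure ⟨a, b, by rw [commutatorElement_def, hab]⟩
  have hz : ∀ g : S23, g ∈ Subgroup.center S23 ↔ g ^ 2 = 1 := by
    intro g
    rw [Subgroup.mem_center_iff]
    have key : ∀ g : S23, (∀ h, h * g = g * h) ↔ g ^ 2 = 1 := by decide +kernel
    exact key g
  have hzc : Nat.card (Subgroup.center S23) = 2 := by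
    have h : Fintype.card {g : S23 // g ^ 2 = 1} = 2 := by decide +kernel
    refine Eq.trans ?_ h
    rw [← Nat.card_eq_fintype_card]
    exact Nat.card_congr (Equiv.subtypeEquivRight hz)
  refine ⟨card_S23, hzc, by rw [hcomm]; exact card_q8, ?_, ?_, ?_⟩
  · rw [hcomm]
    exact ⟨(MulEquiv.ofBijective
      ({ toFun := fun x => ⟨toS x, toS_mem x⟩
         map_one' := Subtype.ext (show toS 1 = 1 by decide +kernel)
         map_mul' := fun x y => Subtype.ext (toS_mul x y) } : QuaternionGroup 2 →* q8)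
      ⟨fun x y h => toS_inj x y (congrArg Subtype.val h), fun g => by
        obtain ⟨x, hx⟩ := toS_surj g.1 g.2
        exact ⟨x, Subtype.ext hx⟩⟩).symm⟩
  · intro P
    haveI : Fact (Nat.Prime 3) := ⟨by norm_num⟩
    have hP : Nat.card (P : Subgroup S23) = 3 := by
      rw [P.card_eq_multiplicity, card_S23]
      decide +kernel
    rw [hcomm]
    apply Subgroup.isComplement'_of_coprime
    · rw [card_q8, hP, card_S23]
    · rw [card_q8, hP]; decide
  · intro N hN
    by_cases hsub : N ≤ Subgroup.center S23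
    · have hd := Subgroup.card_dvd_of_le hsub
      rw [hzc] at hd
      rcases (Nat.dvd_prime Nat.prime_two).1 hd with h | h
      · exact Or.inl (Subgroup.eq_bot_of_card_eq N h)
      · exact Or.inr (Or.inr (Or.inl (Subgroup.eq_of_le_of_card_ge hsub (by rw [hzc, h]))))
    · obtain ⟨g, hg, hgz⟩ := SetLike.not_le_iff_exists.1 hsub
      rw [hz] at hgz
      have hconj : ∀ a b : S23, a ∈ N → b * a * b⁻¹ ∈ N := fun a b ha => hN.conj_mem a ha b
      have h4 : ∃ k ∈ N, k ^ 4 = 1 ∧ k ^ 2 ≠ 1 := by
        by_cases hg4 : g ^ 4 = 1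
        · exact ⟨g, hg, hg4, hgz⟩
        · have key : ∀ g : S23, g ^ 4 ≠ 1 → ∃ h : S23,
              (h * g * h⁻¹ * g⁻¹) ^ 4 = 1 ∧ (h * g * h⁻¹ * g⁻¹) ^ 2 ≠ 1 := by decide +kernel
          obtain ⟨h, h1, h2⟩ := key g hg4
          exact ⟨_, mul_mem (hconj g h hg) (inv_mem hg), h1, h2⟩
      obtain ⟨k, hk, hk4, hk2⟩ := h4
      have key : ∀ k : S23, k ^ 4 = 1 → k ^ 2 ≠ 1 →
          (∃ h : S23, h * k * h⁻¹ = iI) ∧ ∃ h : S23, h * k * h⁻¹ = jJ := by decide +kernel
      obtain ⟨⟨a, ha⟩, b, hb⟩ := key k hk4 hk2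
      have hi : iI ∈ N := ha ▸ hconj k a hk
      have hj : jJ ∈ N := hb ▸ hconj k b hk
      have hQ : q8 ≤ N := by
        intro x hx
        obtain ⟨q, rfl⟩ := toS_surj x hx
        cases q with
        | a i => exact pow_mem hi _
        | xa i => exact mul_mem hj (pow_mem hi _)
      obtain ⟨m, hm⟩ := Subgroup.card_dvd_of_le hQ
      have hd := Subgroup.card_subgroup_dvd_card N
      rw [card_q8] at hm
      rw [card_S23, hm] at hd
      have hm3 : m ∣ 3 := (Nat.mul_dvd_mul_iff_left (a := 8) (by norm_num)).1 hd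
      rcases (Nat.dvd_prime Nat.prime_three).1 hm3 with h | h
      · exact Or.inr (Or.inr (Or.inr (by
          rw [hcomm]; exact (Subgroup.eq_of_le_of_card_ge hQ (by rw [card_q8, hm, h])).symm)))
      · exact Or.inr (Or.inl (Subgroup.eq_top_of_card_eq N (by rw [card_S23, hm, h])))

end Cfsg.Agent.S2427
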