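import Cfsg.Statements.S2428
import Cfsg.Agent.H40.SL2Arith

set_option autoImplicit false
open Cfsg

namespace Cfsg.Agent.S2428

/-- Let F be a finite field with q elements, q odd, and let d be a diagonal element of SL₂ over F whose diagonal entry a has a² ≠ 1 (such d exist exactly when q > 3). Then the centraliser of d is precisely the diagonal subgroup T; the normaliser of T has order 2(q − 1) and exactly (q + 5)/2 conjugacy classes; and every element of that normaliser outside T has square equal to −1. -/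
theorem result {F : Type*} [Field F] [Fintype F] (hodd : Odd (Fintype.card F))
    (d : Matrix.SpecialLinearGroup (Fin 2) F) (hd01 : (d : Matrix (Fin 2) (Fin 2) F) 0 1 = 0) (hd10 : (d : Matrix (Fin 2) (Fin 2) F) 1 0 = 0) (hda : (d : Matrix (Fin 2) (Fin 2) F) 0 0 ^ 2 ≠ 1) :
    (∀ g : Matrix.SpecialLinearGroup (Fin 2) F, g ∈ Subgroup.centralizer ({d} : Set (Matrix.SpecialLinearGroup (Fin 2) F)) ↔ ((g : Matrix (Fin 2) (Fin 2) F) 0 1 = 0 ∧ (g : Matrix (Fin 2) (Fin 2) F) 1 0 = 0)) ∧
    Nat.card (Subgroup.normalizer ((Subgroup.centralizer ({d} : Set (Matrix.SpecialLinearGroup (Fin 2) F))) : Set (Matrix.SpecialLinearGroup (Fin 2) F))) = 2 * (Fintype.card F - 1) ∧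
    Nat.card (ConjClasses (Subgroup.normalizer ((Subgroup.centralizer ({d} : Set (Matrix.SpecialLinearGroup (Fin 2) F))) : Set (Matrix.SpecialLinearGroup (Fin 2) F)))) = (Fintype.card F + 5) / 2 ∧
    ∀ g : Matrix.SpecialLinearGroup (Fin 2) F, g ∈ Subgroup.normalizer ((Subgroup.centralizer ({d} : Set (Matrix.SpecialLinearGroup (Fin 2) F))) : Set (Matrix.SpecialLinearGroup (Fin 2) F)) →
      g ∉ Subgroup.centralizer ({d} : Set (Matrix.SpecialLinearGroup (Fin 2) F)) → ((g * g) : Matrix (Fin 2) (Fin 2) F) = -1 := by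
  classical
  have h2 : (2 : F) ≠ 0 := H40.two_ne_zero_of_odd_card hodd
  have hd := d.2
  rw [Matrix.det_fin_two, hd01, zero_mul, sub_zero] at hd
  have hg : H40.Reg2 d := by
    refine ⟨fun hs => hda ?_, fun hs => hda ?_⟩
    · refine Eq.trans ?_ hd
      rw [← hs.2.2, sq]
    · rw [Matrix.trace_fin_two] at hs
      have : ((d : Matrix (Fin 2) (Fin 2) F) 0 0 - (d : Matrix (Fin 2) (Fin 2) F) 1 1) ^ 2 = 0 := by
        linear_combination hs - 4 * hd
      have h' := eq_zero_of_pow_eq_zero this
      linear_combination (d : Matrix (Fin 2) (Fin 2) F) 0 0 * h' + hd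
  have hc := H40.card_tor_of_eig hg (H40.eig_of_diag hd01)
  refine ⟨fun g => ?_, ?_, ?_, fun g hgN hgC => ?_⟩
  · constructor
    · intro h
      obtain ⟨a, b, hab⟩ := H40.exists_poly_of_mem_tor hg h
      rw [hab]
      simp [hd01, hd10]
    · rintro ⟨h01, h10⟩
      refine H40.mem_tor.2 (Subtype.ext ?_)
      show (g : Matrix (Fin 2) (Fin 2) F) * (d : Matrix (Fin 2) (Fin 2) F) =
        (d : Matrix (Fin 2) (Fin 2) F) * (g : Matrix (Fin 2) (Fin 2) F)
      ext i j
      fin_cases i <;> fin_cases j <;>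
        simp [Matrix.mul_apply, Fin.sum_univ_two, h01, h10, hd01, hd10, mul_comm]
  · rw [← hc]
    exact H40.card_normalizer_tor h2 hg
  · have h := H40.card_classes_normalizer_tor h2 hg
    rw [hc] at h
    have h1 : 1 < Fintype.card F := Fintype.one_lt_card
    change Nat.card (ConjClasses (Subgroup.normalizer
      (H40.tor d : Set (Matrix.SpecialLinearGroup (Fin 2) F)))) = _
    omega
  · have h := H40.normalizer_sq_eq_neg_one h2 hg hgN hgC
    have h' := congrArg (fun z : Matrix.SpecialLinearGroup (Fin 2) F => (z : Matrix (Fin 2) (Fin 2) F)) h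
    simpa using h'

end Cfsg.Agent.S2428
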