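import Cfsg.Statements.S2429
import Cfsg.Agent.H40.SL2Arith

set_option autoImplicit false
open Cfsg

namespace Cfsg.Agent.S2429

/-- Let F be a finite field with q elements, q odd. Then SL₂ over F contains a cyclic subgroup T′ of order q + 1 (a non-split torus) with the following properties: T′ is its own centraliser, and indeed the centraliser of each element of T′ other than 1 and −1 is exactly T′; every element of SL₂ having no eigenvector in F² is conjugate to an element of T′; the normaliser of T′ has order 2(q + 1) and exactly (q + 7)/2 conjugacy classes; and every element of that normaliser outside T′ has square −1. -/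
theorem result {F : Type*} [Field F] [Fintype F] (hodd : Odd (Fintype.card F)) :
    ∃ T' : Subgroup (Matrix.SpecialLinearGroup (Fin 2) F), IsCyclic T' ∧ Nat.card T' = Fintype.card F + 1 ∧
      Subgroup.centralizer ((T' : Set (Matrix.SpecialLinearGroup (Fin 2) F))) = T' ∧
      (∀ g : Matrix.SpecialLinearGroup (Fin 2) F, g ∈ T' → (g : Matrix (Fin 2) (Fin 2) F) ≠ 1 → (g : Matrix (Fin 2) (Fin 2) F) ≠ -1 → Subgroup.centralizer ({g} : Set (Matrix.SpecialLinearGroup (Fin 2) F)) = T') ∧
      (∀ g : Matrix.SpecialLinearGroup (Fin 2) F, (∀ (c : F) (v : Fin 2 → F), v ≠ 0 → (g : Matrix (Fin 2) (Fin 2) F).mulVec v ≠ c • v) → ∃ h : Matrix.SpecialLinearGroup (Fin 2) F, h * g * h⁻¹ ∈ T') ∧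
      Nat.card (Subgroup.normalizer (T' : Set (Matrix.SpecialLinearGroup (Fin 2) F))) = 2 * (Fintype.card F + 1) ∧
      Nat.card (ConjClasses (Subgroup.normalizer (T' : Set (Matrix.SpecialLinearGroup (Fin 2) F)))) = (Fintype.card F + 7) / 2 ∧
      ∀ g : Matrix.SpecialLinearGroup (Fin 2) F, g ∈ Subgroup.normalizer (T' : Set (Matrix.SpecialLinearGroup (Fin 2) F)) → g ∉ T' → ((g * g) : Matrix (Fin 2) (Fin 2) F) = -1 := by
  classical
  have h2 : (2 : F) ≠ 0 := H40.two_ne_zero_of_odd_card hodd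
  have hchar : ringChar F ≠ 2 := fun h => h2 (by
    have := (ringChar.spec F 2).2 (by rw [h])
    exact_mod_cast this)
  obtain ⟨g₀, hg₀, hne⟩ := H40.exists_nonsplit (F := F)
  have hc := H40.card_tor_of_noEig hg₀ hne
  refine ⟨H40.tor g₀, H40.isCyclic_tor hg₀, hc, H40.centralizer_tor hg₀, ?_, ?_, ?_, ?_, ?_⟩
  · intro g hg h1 h1'
    refine H40.tor_eq_of_mem hg₀ hg fun hs => ?_
    rcases H40.eq_pm_of_scalar hs with h | h
    · exact h1 (by rw [h]; simp)
    · exact h1' (by rw [h]; simp)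
  · intro g hno
    have hnroot : ∀ c : F, c ^ 2 - c * (g : Matrix (Fin 2) (Fin 2) F).trace + 1 ≠ 0 := by
      intro c hc0
      have hdet : ((g : Matrix (Fin 2) (Fin 2) F) - c • (1 : Matrix (Fin 2) (Fin 2) F)).det = 0 := by
        have hd := g.2
        rw [Matrix.det_fin_two] at hd
        simp [Matrix.det_fin_two]
        rw [Matrix.trace_fin_two] at hc0
        linear_combination hc0 + hd
      obtain ⟨v, hv, hv'⟩ := Matrix.exists_mulVec_eq_zero_iff.2 hdet
      apply hno c v hv
      rwa [Matrix.sub_mulVec, sub_eq_zero, Matrix.smul_mulVec, Matrix.one_mulVec] at hv'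
    have hD : ∀ t : F, (∀ c : F, c ^ 2 - c * t + 1 ≠ 0) → t ^ 2 - 4 ≠ 0 ∧ ¬ IsSquare (t ^ 2 - 4) := by
      intro t ht
      refine ⟨fun h => ht (t / 2) ?_, ?_⟩
      · field_simp
        linear_combination -h
      · rintro ⟨s, hs⟩
        apply ht ((t + s) / 2)
        field_simp
        linear_combination -hs
    obtain ⟨hD0, hsq0⟩ := hD _ hne
    obtain ⟨hD1, hsq1⟩ := hD _ hnroot
    obtain ⟨s, hs⟩ : IsSquare (((g : Matrix (Fin 2) (Fin 2) F).trace ^ 2 - 4) *
        ((g₀ : Matrix (Fin 2) (Fin 2) F).trace ^ 2 - 4)) := by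
      refine (FiniteField.isSquare_iff hchar (mul_ne_zero hD1 hD0)).2 ?_
      rw [mul_pow,
        (FiniteField.pow_dichotomy hchar hD1).resolve_left
          (fun h => hsq1 ((FiniteField.isSquare_iff hchar hD1).2 h)),
        (FiniteField.pow_dichotomy hchar hD0).resolve_left
          (fun h => hsq0 ((FiniteField.isSquare_iff hchar hD0).2 h))]
      norm_num
    set t₀ := (g₀ : Matrix (Fin 2) (Fin 2) F).trace with ht₀
    set t := (g : Matrix (Fin 2) (Fin 2) F).trace with ht
    set b := s / (t₀ ^ 2 - 4) with hb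
    set a := (t - b * t₀) / 2 with ha
    have hbD : b ^ 2 * (t₀ ^ 2 - 4) = t ^ 2 - 4 := by
      rw [hb, div_pow, div_mul_eq_mul_div, div_eq_iff (pow_ne_zero _ hD0)]
      linear_combination (-(t₀ ^ 2 - 4)) * hs
    have h2a : a * 2 = t - b * t₀ := div_mul_cancel₀ _ h2
    have hdet : (a • (1 : Matrix (Fin 2) (Fin 2) F) + b • (g₀ : Matrix (Fin 2) (Fin 2) F)).det = 1 := by
      rw [H40.det_poly, g₀.2, ← ht₀, mul_one]
      have h4 : (4 : F) * (a ^ 2 + a * b * t₀ + b ^ 2 - 1) = 0 := by
        linear_combination (a * 2 + t + b * t₀) * h2a - hbD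
      have h40 : (4 : F) ≠ 0 := by
        rw [show (4 : F) = 2 * 2 by norm_num]; exact mul_ne_zero h2 h2
      exact sub_eq_zero.1 ((mul_eq_zero.1 h4).resolve_left h40)
    set x : Matrix.SpecialLinearGroup (Fin 2) F := ⟨_, hdet⟩ with hx
    have hxt : x ∈ H40.tor g₀ := H40.mem_tor.2 (Subtype.ext (H40.commute_poly _ a b))
    have htr : (x : Matrix (Fin 2) (Fin 2) F).trace = t := by
      show (a • (1 : Matrix (Fin 2) (Fin 2) F) + b • (g₀ : Matrix (Fin 2) (Fin 2) F)).trace = t
      simp only [Matrix.trace_add, Matrix.trace_smul, Matrix.trace_one, Fintype.card_fin, smul_eq_mul,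
        Nat.cast_ofNat, ← ht₀]
      linear_combination h2a
    have hns : ∀ y : Matrix.SpecialLinearGroup (Fin 2) F,
        (y : Matrix (Fin 2) (Fin 2) F).trace = t → ¬ H40.IsScalar2 (y : Matrix (Fin 2) (Fin 2) F) := by
      intro y hy hs'
      apply hD1
      obtain ⟨h01, h10, h00⟩ := hs'
      have hd := y.2
      rw [Matrix.det_fin_two, h01, ← h00] at hd
      rw [Matrix.trace_fin_two, ← h00] at hy
      linear_combination (-(2 * (y : Matrix (Fin 2) (Fin 2) F) 0 0 + t)) * hy + 4 * hd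
    obtain ⟨h, hh⟩ := isConj_iff.1 (H40.isConj_SL2_of_trace (hns g rfl) (hns x htr) htr.symm
      (Or.inl (sub_ne_zero.1 hD1)))
    exact ⟨h, hh ▸ hxt⟩
  · rw [← hc]
    exact H40.card_normalizer_tor h2 hg₀
  · have h := H40.card_classes_normalizer_tor h2 hg₀
    rw [hc] at h
    omega
  · intro g hgN hgC
    have h := H40.normalizer_sq_eq_neg_one h2 hg₀ hgN hgC
    have h' := congrArg (fun z : Matrix.SpecialLinearGroup (Fin 2) F => (z : Matrix (Fin 2) (Fin 2) F)) h
    simpa using h'

end Cfsg.Agent.S2429
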