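import Cfsg.Statements.S2430
import Cfsg.Agent.H40.SL2Arith

set_option autoImplicit false
open Cfsg

namespace Cfsg.Agent.S2430

/-- Let F be a finite field with q elements, q odd, ℓ an odd prime, and P a Sylow ℓ-subgroup of SL₂ over F. If ℓ divides q − 1, the centraliser of P is cyclic of order q − 1 (a split torus) and the normaliser of P has order 2(q − 1); if ℓ divides q + 1, the centraliser of P is cyclic of order q + 1 (a non-split torus) and the normaliser of P has order 2(q + 1). -/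
theorem result {F : Type*} [Field F] [Fintype F] (hodd : Odd (Fintype.card F)) (ℓ : ℕ) [Fact ℓ.Prime] (hℓ : ℓ ≠ 2)
    (P : Sylow ℓ (Matrix.SpecialLinearGroup (Fin 2) F)) :
    (ℓ ∣ Fintype.card F - 1 →
      Nat.card (Subgroup.centralizer ((P : Subgroup (Matrix.SpecialLinearGroup (Fin 2) F)) : Set (Matrix.SpecialLinearGroup (Fin 2) F))) = Fintype.card F - 1 ∧
      IsCyclic (Subgroup.centralizer ((P : Subgroup (Matrix.SpecialLinearGroup (Fin 2) F)) : Set (Matrix.SpecialLinearGroup (Fin 2) F))) ∧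
      Nat.card (Subgroup.normalizer ((P : Subgroup (Matrix.SpecialLinearGroup (Fin 2) F)) : Set (Matrix.SpecialLinearGroup (Fin 2) F))) = 2 * (Fintype.card F - 1)) ∧
    (ℓ ∣ Fintype.card F + 1 →
      Nat.card (Subgroup.centralizer ((P : Subgroup (Matrix.SpecialLinearGroup (Fin 2) F)) : Set (Matrix.SpecialLinearGroup (Fin 2) F))) = Fintype.card F + 1 ∧
      IsCyclic (Subgroup.centralizer ((P : Subgroup (Matrix.SpecialLinearGroup (Fin 2) F)) : Set (Matrix.SpecialLinearGroup (Fin 2) F))) ∧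
      Nat.card (Subgroup.normalizer ((P : Subgroup (Matrix.SpecialLinearGroup (Fin 2) F)) : Set (Matrix.SpecialLinearGroup (Fin 2) F))) = 2 * (Fintype.card F + 1)) := by
  classical
  have h2 : (2 : F) ≠ 0 := H40.two_ne_zero_of_odd_card hodd
  have hℓp : ℓ.Prime := Fact.out
  have h1 : 1 < Fintype.card F := Fintype.one_lt_card
  have hge : 3 ≤ ℓ := by have := hℓp.two_le; omega
  have hnot : ∀ {m : ℕ}, ℓ ∣ m → ∀ k, (k = 1 ∨ k = 2) → ¬ ℓ ∣ m + k := by
    intro m hm k hk hmk
    have := Nat.le_of_dvd (by omega) ((Nat.dvd_add_right hm).1 hmk)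
    omega
  have main : ∀ (g : Matrix.SpecialLinearGroup (Fin 2) F) (c d : ℕ), H40.Reg2 g →
      Nat.card (H40.tor g) = c → c * d = (Fintype.card F - 1) * (Fintype.card F + 1) → d ≠ 0 → ℓ ∣ c →
      ¬ ℓ ∣ d → ¬ ℓ ∣ Fintype.card F →
      Nat.card (Subgroup.centralizer ((P : Subgroup (Matrix.SpecialLinearGroup (Fin 2) F)) : Set (Matrix.SpecialLinearGroup (Fin 2) F))) = c ∧
      IsCyclic (Subgroup.centralizer ((P : Subgroup (Matrix.SpecialLinearGroup (Fin 2) F)) : Set (Matrix.SpecialLinearGroup (Fin 2) F))) ∧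
      Nat.card (Subgroup.normalizer ((P : Subgroup (Matrix.SpecialLinearGroup (Fin 2) F)) : Set (Matrix.SpecialLinearGroup (Fin 2) F))) = 2 * c := by
    intro g c d hg hc hcd hd hdvd hnd hnq
    have hc0 : c ≠ 0 := hc ▸ Nat.card_pos.ne'
    obtain ⟨e1, e2, e3⟩ := H40.odd_sylow_facts h2 hg ℓ hℓ (hc ▸ hdvd) (by
      rw [hc, H40.factorization_SL2_of_dvd ℓ hcd hc0 hd hnq, Nat.factorization_eq_zero_of_not_dvd hnd,
        add_zero]) P
    exact ⟨e1.trans hc, e2, e3.trans (by rw [hc])⟩
  constructor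
  · intro hdvd
    have hq1 : Fintype.card F = (Fintype.card F - 1) + 1 := by omega
    have h4 : 4 ≤ Fintype.card F := by
      have := Nat.le_of_dvd (by omega) hdvd
      omega
    obtain ⟨g, hg, c, hc⟩ := H40.exists_split (F := F) h4
    refine main g _ (Fintype.card F + 1) hg (H40.card_tor_of_eig hg hc) rfl (by omega) hdvd ?_ ?_
    · rw [show Fintype.card F + 1 = Fintype.card F - 1 + 2 by omega]
      exact hnot hdvd 2 (Or.inr rfl)
    · rw [hq1]
      exact hnot hdvd 1 (Or.inl rfl)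
  · intro hdvd
    obtain ⟨g, hg, hne⟩ := H40.exists_nonsplit (F := F)
    refine main g _ (Fintype.card F - 1) hg (H40.card_tor_of_noEig hg hne) (mul_comm _ _) (by omega) hdvd ?_ ?_
    · intro h
      have := hnot h 2 (Or.inr rfl)
      rw [show Fintype.card F - 1 + 2 = Fintype.card F + 1 by omega] at this
      exact this hdvd
    · exact fun h => hnot h 1 (Or.inl rfl) hdvd

end Cfsg.Agent.S2430
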