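import Cfsg.Statements.S2434
import Cfsg.Agent.H17.SLCount

set_option autoImplicit false
open Cfsg

namespace Cfsg.Agent.S2434

/-- Let F be a finite field with q elements, q odd, and C a cyclic subgroup of order q + 1 of SL₂ over F (a non-split torus; it contains the centre). For every homomorphism θ from C to the non-zero complex numbers with θ² ≠ 1 there is an irreducible complex character χ of degree q − 1 such that χ(c) = −θ(c) − θ(c)⁻¹ for every non-central c in C, χ(zg) = θ(z)χ(g) for central z in C, χ vanishes at diagonal elements with entry a, a² ≠ 1, and χ takes the value −1 at every upper unitriangular element other than 1. Conversely every irreducible character of degree q − 1 has, for some such θ, the values −θ(c) − θ(c)⁻¹ at the non-central elements c of C (for q ≥ 5 these are exactly the cuspidal characters of degree q − 1). -/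
theorem result {F : Type*} [Field F] [Fintype F] (hodd : Odd (Fintype.card F))
    (C : Subgroup (Matrix.SpecialLinearGroup (Fin 2) F)) (hC : IsCyclic C) (hcard : Nat.card C = Fintype.card F + 1) :
    (∀ θ : C →* ℂˣ, (∃ c : C, θ c ^ 2 ≠ 1) →
      ∃ χ : Matrix.SpecialLinearGroup (Fin 2) F → ℂ, Cfsg.IsIrrCharacter (Matrix.SpecialLinearGroup (Fin 2) F) χ ∧ χ 1 = (Fintype.card F : ℂ) - 1 ∧
        (∀ c : C, (c : Matrix.SpecialLinearGroup (Fin 2) F) ∉ Subgroup.center (Matrix.SpecialLinearGroup (Fin 2) F) → χ c = -((θ c).val + (θ c)⁻¹.val)) ∧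
        (∀ c : C, (c : Matrix.SpecialLinearGroup (Fin 2) F) ∈ Subgroup.center (Matrix.SpecialLinearGroup (Fin 2) F) → ∀ g : Matrix.SpecialLinearGroup (Fin 2) F, χ ((c : Matrix.SpecialLinearGroup (Fin 2) F) * g) = (θ c).val * χ g) ∧
        (∀ g : Matrix.SpecialLinearGroup (Fin 2) F, (g : Matrix (Fin 2) (Fin 2) F) 0 1 = 0 → (g : Matrix (Fin 2) (Fin 2) F) 1 0 = 0 → (g : Matrix (Fin 2) (Fin 2) F) 0 0 ^ 2 ≠ 1 → χ g = 0) ∧
        (∀ g : Matrix.SpecialLinearGroup (Fin 2) F, (g : Matrix (Fin 2) (Fin 2) F) 1 0 = 0 → (g : Matrix (Fin 2) (Fin 2) F) 0 0 = 1 → (g : Matrix (Fin 2) (Fin 2) F) 1 1 = 1 → (g : Matrix (Fin 2) (Fin 2) F) 0 1 ≠ 0 → χ g = -1)) ∧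
    (∀ χ : Matrix.SpecialLinearGroup (Fin 2) F → ℂ, Cfsg.IsIrrCharacter (Matrix.SpecialLinearGroup (Fin 2) F) χ → χ 1 = (Fintype.card F : ℂ) - 1 →
      ∃ θ : C →* ℂˣ, (∃ c : C, θ c ^ 2 ≠ 1) ∧
        ∀ c : C, (c : Matrix.SpecialLinearGroup (Fin 2) F) ∉ Subgroup.center (Matrix.SpecialLinearGroup (Fin 2) F) → χ c = -((θ c).val + (θ c)⁻¹.val)) := by
  classical
  have hNS := H17.nonSplit_of_cyclic hodd C hC hcard
  obtain ⟨O⟩ := H17.nonempty_slOdd hNS hodd
  have hcen : ∀ g : Matrix.SpecialLinearGroup (Fin 2) F,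
      g ∈ Subgroup.center (Matrix.SpecialLinearGroup (Fin 2) F) ↔ g ∈ (H17.slD hNS).Z := fun g => by
    rw [H17.center_eq]; rfl
  have hval : ∀ (θ : (H17.slD hNS).C →* ℂˣ) (c : (H17.slD hNS).C),
      (c : Matrix.SpecialLinearGroup (Fin 2) F) ∉ (H17.slD hNS).Z →
      (H17.slD hNS).chC θ c = -((θ c).val + (θ c)⁻¹.val) := fun θ c hc => by
    rw [(H17.slD hNS).chC_C θ c hc, H17.slD_σC, map_inv]
  have key : ∀ θ : (H17.slD hNS).C →* ℂˣ, θ * θ ≠ 1 →
      IsIrrCharacter _ ((H17.slD hNS).chC θ) ∧ (H17.slD hNS).chC θ 1 = (Fintype.card F : ℂ) - 1 ∧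
      ∀ c : (H17.slD hNS).C, (c : Matrix.SpecialLinearGroup (Fin 2) F) ∈ (H17.slD hNS).Z →
        ∀ g, (H17.slD hNS).chC θ ((c : Matrix.SpecialLinearGroup (Fin 2) F) * g)
          = (θ c).val * (H17.slD hNS).chC θ g := fun θ hθ => by
    have hirr := (H17.slD hNS).isIrr_chC (mt (H17.slC_fixed_iff hNS θ).1 hθ)
    refine ⟨hirr, by rw [(H17.slD hNS).chC_one, H17.slD_q], fun c hz g => ?_⟩
    obtain ⟨ω, hω⟩ := H17.exists_central_char hirr (H17.slD hNS).Z (H17.slD hNS).Z_center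
    have h1 := hω ⟨c, hz⟩ 1
    rw [mul_one, (H17.slD hNS).chC_one, (H17.slD hNS).chC_Z] at h1
    have h3 : ((H17.slD hNS).q - 1 : ℂ) ≠ 0 := sub_ne_zero.2 (by
      rw [H17.slD_q]; exact_mod_cast (ne_of_gt (Fintype.one_lt_card (α := F))))
    have h4 : (ω ⟨c, hz⟩ : ℂ) = (θ c).val := by
      refine mul_left_cancel₀ h3 ?_
      rw [mul_comm, ← h1]
      rfl
    rw [← h4]
    exact hω ⟨c, hz⟩ g
  refine ⟨fun θ hθ => ?_, fun χ hχ hd => ?_⟩
  · obtain ⟨k1, k2, k3⟩ := key θ (fun e => by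
      obtain ⟨c, hc⟩ := hθ
      exact hc ((pow_two _).trans (DFunLike.congr_fun e c)))
    exact ⟨(H17.slD hNS).chC θ, k1, k2, fun c hc => hval θ c (mt (hcen _).2 hc),
      fun c hc g => k3 c ((hcen _).1 hc) g, fun g h01 h10 h => H17.chC_diag hNS θ h01 h10 h,
      fun g h10 h00 h11 h01 =>
        (congrArg _ (H17.sl_eq_u hNS h10 h00 h11)).trans (H17.chC_u hNS θ (by simpa using h01))⟩
  · rcases (H17.sl_odd_by_degree hNS hodd O hχ).2.2.1 hd with ⟨θ, hθ, e⟩ | ⟨h3, h⟩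
    · refine ⟨θ, ?_, fun c hc => by rw [e]; exact hval θ c (mt (hcen _).2 hc)⟩
      by_contra hh
      push_neg at hh
      exact hθ (MonoidHom.ext fun c => by rw [MonoidHom.mul_apply, ← pow_two]; exact hh c)
    · obtain ⟨θ, hθ⟩ : ∃ θ : (H17.slD hNS).C →* ℂˣ, θ * θ ≠ 1 := by
        by_contra hh
        push_neg at hh
        have h1 : Nat.card {θ : (H17.slD hNS).C →* ℂˣ // θ * θ = 1} = 2 :=
          H17.natCard_dual_sq.trans (H17.card_sq_one_eq_two (H17.two_ne_zero_of_odd hodd)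
            fun g hg => (H17.slD hNS).Z_le_C hg)
        rw [Nat.card_congr (Equiv.subtypeUnivEquiv hh), Nat.card_eq_fintype_card, H17.card_dual,
          ← Nat.card_eq_fintype_card, H17.sl_card_C, h3] at h1
        omega
      refine ⟨θ, ?_, fun c hc => ?_⟩
      · by_contra hh
        push_neg at hh
        exact hθ (MonoidHom.ext fun c => by rw [MonoidHom.mul_apply, ← pow_two]; exact hh c)
      · have hcz := mt (hcen _).2 hc
        obtain ⟨-, -, -, -, -, hv⟩ := (H17.slD hNS).halfT O.η_fix O.isoT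
        exact ((hv ⟨χ, hχ⟩ h).2.2 c hcz).trans
          ((H17.chC_noEig_three hNS h3 hθ (hNS.noEig c c.2 hcz)).symm.trans (hval θ c hcz))

end Cfsg.Agent.S2434
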