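import Cfsg.Statements.S2435
import Cfsg.Agent.H17.SLDegree

set_option autoImplicit false
open Cfsg

namespace Cfsg.Agent.S2435

/-- Let F be a finite field with q elements, q odd and q ≥ 5, and χ an irreducible complex character of SL₂ over F. If χ has degree (q + 1)/2, then at a diagonal element with entry a, a² ≠ 1, χ takes the value 1 when a is a square in F and −1 otherwise. If χ has degree (q − 1)/2, then at an element g with no eigenvector in F² (so g has order dividing q + 1), χ takes the value −1 when g raised to the power (q + 1)/2 is the identity and the value 1 otherwise. -/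
theorem result {F : Type*} [Field F] [Fintype F] (hodd : Odd (Fintype.card F)) (hq : 5 ≤ Fintype.card F)
    (χ : Matrix.SpecialLinearGroup (Fin 2) F → ℂ) (hχ : Cfsg.IsIrrCharacter (Matrix.SpecialLinearGroup (Fin 2) F) χ) (g : Matrix.SpecialLinearGroup (Fin 2) F) :
    (χ 1 = (((Fintype.card F + 1) / 2 : ℕ) : ℂ) → (g : Matrix (Fin 2) (Fin 2) F) 0 1 = 0 → (g : Matrix (Fin 2) (Fin 2) F) 1 0 = 0 → (g : Matrix (Fin 2) (Fin 2) F) 0 0 ^ 2 ≠ 1 →
      (IsSquare ((g : Matrix (Fin 2) (Fin 2) F) 0 0) → χ g = 1) ∧ (¬ IsSquare ((g : Matrix (Fin 2) (Fin 2) F) 0 0) → χ g = -1)) ∧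
    (χ 1 = (((Fintype.card F - 1) / 2 : ℕ) : ℂ) → (∀ (c : F) (v : Fin 2 → F), v ≠ 0 → (g : Matrix (Fin 2) (Fin 2) F).mulVec v ≠ c • v) →
      (((g ^ ((Fintype.card F + 1) / 2)) : Matrix (Fin 2) (Fin 2) F) = 1 → χ g = -1) ∧ (((g ^ ((Fintype.card F + 1) / 2)) : Matrix (Fin 2) (Fin 2) F) ≠ 1 → χ g = 1)) := by
  classical
  obtain ⟨C, hC⟩ := (H17.slEmb F).exists_nonSplit
  obtain ⟨O⟩ := H17.nonempty_slOdd hC hodd
  obtain ⟨-, -, -, hHP, hHM, -⟩ := H17.sl_odd_by_degree hC hodd O hχ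
  refine ⟨fun hd h01 h10 h => ?_, fun hd h => ?_⟩
  · have e := (hHP hd).resolve_right fun h => by omega
    obtain ⟨-, -, -, -, -, hval⟩ := (H17.slD hC).halfT O.η_fix O.isoT
    let t : (H17.slD hC).T := ⟨g, H17.mem_slT hC h01 h10⟩
    have hv := (hval ⟨χ, hχ⟩ e).2.1 t (H17.slT_of_diag hC h01 h10 h)
    refine ⟨fun hs => ?_, fun hs => ?_⟩
    · refine hv.trans ?_
      rw [(O.η_val t).1 hs, Units.val_one]
    · refine hv.trans ?_
      rw [(O.η_val t).2 hs, Units.val_neg, Units.val_one]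
  · have e := (hHM hd).resolve_right fun h => by omega
    obtain ⟨-, -, -, -, -, hval⟩ := (H17.slD hC).halfC O.θ_fix O.isoC
    obtain ⟨c, hc, hcj⟩ := H17.sl_noEig_conj hC h
    have hv : χ g = -((O.θ₀ c : ℂˣ) : ℂ) := by
      have hcf : Cfsg.IsClassFunction _ χ := H12.irr_isClassFunction ⟨χ, hχ⟩
      rw [H12.IsClassFunction.of_isConj hcf hcj]
      exact (hval ⟨χ, hχ⟩ e).2.2 c hc
    obtain ⟨x, hx⟩ := isConj_iff.1 hcj
    have hiff : ((g ^ ((Fintype.card F + 1) / 2) : Matrix.SpecialLinearGroup (Fin 2) F) :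
        Matrix (Fin 2) (Fin 2) F) = 1 ↔ c ^ ((Fintype.card F + 1) / 2) = 1 := by
      rw [← Subtype.val_inj (a := c ^ _), Subgroup.coe_pow, ← hx, conj_pow, Subgroup.coe_one,
        conj_eq_one_iff, ← Matrix.SpecialLinearGroup.coe_one]
      exact ⟨fun e => Subtype.ext e, fun e => by rw [e]⟩
    rw [Matrix.SpecialLinearGroup.coe_pow] at hiff
    refine ⟨fun hs => ?_, fun hs => ?_⟩
    · rw [hv, (O.θ_val c).1 (hiff.1 hs), Units.val_one]
    · rw [hv, (O.θ_val c).2 (mt hiff.2 hs), Units.val_neg, Units.val_one, neg_neg]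

end Cfsg.Agent.S2435
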