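import Cfsg.Statements.S2437
import Cfsg.Agent.H21.Borel2

set_option autoImplicit false
open Cfsg

namespace Cfsg.Agent.S2437


theorem borel_card_classes {F : Type*} [Field F] [Fintype F] (hodd : Odd (Fintype.card F)) :
    Nat.card (ConjClasses ((Cfsg.upperTriangularGL 2 F).comap Matrix.SpecialLinearGroup.toGL)) =
      Fintype.card F + 3 := by
  classical
  set B := (Cfsg.upperTriangularGL 2 F).comap (Matrix.SpecialLinearGroup.toGL (n := Fin 2) (R := F))
    with hB
  have hmem : ∀ g : Matrix.SpecialLinearGroup (Fin 2) F, g ∈ B ↔ (g : Matrix (Fin 2) (Fin 2) F) 1 0 = 0 :=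
    fun g => H21.upperTriangularSL_mem
  have hd : ∀ b : B, (b.1 : Matrix (Fin 2) (Fin 2) F) 0 0 * (b.1 : Matrix (Fin 2) (Fin 2) F) 1 1 = 1 := by
    intro b
    have := b.1.2
    rw [Matrix.det_fin_two, (hmem _).1 b.2, mul_zero, sub_zero] at this
    exact this
  let e : B ≃ Fˣ × F :=
    { toFun := fun b => (Units.mkOfMulEqOne _ _ (hd b), (b.1 : Matrix (Fin 2) (Fin 2) F) 0 1)
      invFun := fun z => ⟨⟨!![(z.1 : F), z.2; 0, ((z.1⁻¹ : Fˣ) : F)],
        by rw [Matrix.det_fin_two_of]; simp⟩, (hmem _).2 (by simp)⟩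
      left_inv := fun b => by
        apply Subtype.ext; apply Subtype.ext
        ext i j
        fin_cases i <;> fin_cases j <;> simp [(hmem _).1 b.2]
        exact inv_eq_of_mul_eq_one_right (hd b)
      right_inv := fun z => Prod.ext (Units.ext (by simp)) (by simp) }
  have hcomm : ∀ z w : Fˣ × F, Commute (e.symm z) (e.symm w) ↔
      w.2 * ((z.1 : F) - ((z.1⁻¹ : Fˣ) : F)) = z.2 * ((w.1 : F) - ((w.1⁻¹ : Fˣ) : F)) := by
    intro z w
    refine (commute_iff_eq _ _).trans ((Subtype.ext_iff.trans Subtype.ext_iff).trans ?_)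
    change !![(z.1 : F), z.2; 0, ((z.1⁻¹ : Fˣ) : F)] * !![(w.1 : F), w.2; 0, ((w.1⁻¹ : Fˣ) : F)]
      = !![(w.1 : F), w.2; 0, ((w.1⁻¹ : Fˣ) : F)] * !![(z.1 : F), z.2; 0, ((z.1⁻¹ : Fˣ) : F)] ↔ _
    rw [Matrix.mul_fin_two, Matrix.mul_fin_two]
    constructor
    · intro h
      have h' := congrFun (congrFun h 0) 1
      simp at h'
      simp
      linear_combination h'
    · intro h
      simp at h
      ext i j
      fin_cases i <;> fin_cases j <;> simp <;> first | linear_combination h | ring
  have hpairs : Nat.card {p : B × B // Commute p.1 p.2} =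
      ∑ a : Fˣ, ∑ b : Fˣ, Nat.card {xy : F × F //
        xy.2 * ((a : F) - ((a⁻¹ : Fˣ) : F)) = xy.1 * ((b : F) - ((b⁻¹ : Fˣ) : F))} := by
    rw [← Fintype.sum_prod_type', ← Nat.card_sigma]
    refine Nat.card_congr ((Equiv.subtypeEquiv ((e.prodCongr e).trans (Equiv.prodProdProdComm Fˣ F Fˣ F))
      (q := fun u => u.2.2 * ((u.1.1 : F) - ((u.1.1⁻¹ : Fˣ) : F)) =
        u.2.1 * ((u.1.2 : F) - ((u.1.2⁻¹ : Fˣ) : F))) fun p => ?_).trans
      (Equiv.subtypeProdEquivSigmaSubtype fun (ab : Fˣ × Fˣ) (xy : F × F) =>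
        xy.2 * ((ab.1 : F) - ((ab.1⁻¹ : Fˣ) : F)) = xy.1 * ((ab.2 : F) - ((ab.2⁻¹ : Fˣ) : F))))
    rw [show Commute p.1 p.2 ↔ Commute (e.symm (e p.1)) (e.symm (e p.2)) by simp, hcomm]
    rfl
  set q := Fintype.card F with hq
  have hone : ∀ u v : F, (Nat.card {xy : F × F // xy.2 * u = xy.1 * v} : ℤ) =
      (q : ℤ) + if u = 0 ∧ v = 0 then (q : ℤ) ^ 2 - q else 0 := by
    intro u v
    by_cases hu : u = 0
    · by_cases hv : v = 0
      · subst hu hv
        simp [Nat.card_eq_fintype_card, sq, hq]
      · rw [if_neg (fun h => hv h.2), add_zero, hq, ← Nat.card_eq_fintype_card]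
        norm_cast
        refine Nat.card_congr
          { toFun := fun xy => xy.1.2
            invFun := fun y => ⟨(0, y), by simp [hu]⟩
            left_inv := fun xy => by
              have := xy.2
              simp [hu, hv] at this
              exact Subtype.ext (Prod.ext this.symm rfl)
            right_inv := fun y => rfl }
    · rw [if_neg (fun h => hu h.1), add_zero, hq, ← Nat.card_eq_fintype_card]
      norm_cast
      refine Nat.card_congr
        { toFun := fun xy => xy.1.1
          invFun := fun x => ⟨(x, x * v / u), div_mul_cancel₀ _ hu⟩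
          left_inv := fun xy => Subtype.ext (Prod.ext rfl (div_eq_iff hu |>.2 xy.2.symm))
          right_inv := fun x => rfl }
  have h2 : (2 : F) ≠ 0 := by
    apply Ring.two_ne_zero
    intro h
    exact Nat.not_even_iff_odd.2 hodd (FiniteField.even_card_iff_char_two.1 h |> Nat.even_iff.2)
  have hsq : (Finset.univ.filter fun a : Fˣ => (a : F) - ((a⁻¹ : Fˣ) : F) = 0).card = 2 := by
    rw [Finset.card_eq_two]
    refine ⟨1, -1, fun h => h2 ?_, ?_⟩
    · have : (1 : F) = -1 := by simpa using congrArg Units.val h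
      linear_combination this
    · ext a
      simp only [Finset.mem_filter, Finset.mem_univ, true_and, Finset.mem_insert,
        Finset.mem_singleton, sub_eq_zero, Units.val_inj]
      rw [eq_inv_iff_mul_eq_one]
      exact Units.inv_eq_self_iff a |> fun h => by rw [← h, inv_eq_iff_mul_eq_one]
  have hu : Fintype.card Fˣ + 1 = q := by
    rw [Fintype.card_units, hq, Nat.sub_add_cancel Fintype.card_pos]
  have hcard : Nat.card B = Fintype.card Fˣ * q := by
    rw [Nat.card_congr e, Nat.card_prod, Nat.card_eq_fintype_card, Nat.card_eq_fintype_card]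
  have hmain := card_comm_eq_card_conjClasses_mul_card B
  rw [hpairs, hcard] at hmain
  have hmain' := congrArg (Nat.cast : ℕ → ℤ) hmain
  simp only [Nat.cast_sum, Nat.cast_mul, hone, Finset.sum_add_distrib, Finset.sum_const,
    Finset.card_univ, nsmul_eq_mul, ite_and, Finset.sum_ite_irrel, Finset.sum_const_zero,
    mul_zero, ← Finset.sum_filter, hsq] at hmain'
  have hq' : (Fintype.card Fˣ : ℤ) = (q : ℤ) - 1 := by
    have := congrArg (Nat.cast : ℕ → ℤ) hu
    push_cast at this
    linarith
  rw [hq'] at hmain'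
  have hne : ((q : ℤ) - 1) * q ≠ 0 := by
    rw [← hq']
    positivity
  have hfin : (Nat.card (ConjClasses B) : ℤ) * (((q : ℤ) - 1) * q)
      = ((q : ℤ) + 3) * (((q : ℤ) - 1) * q) := by
    push_cast at hmain'
    linear_combination -hmain'
  exact_mod_cast mul_right_cancel₀ hne hfin

/-- Over a finite field F with q elements, q odd, the upper triangular subgroup of SL₂ (a Borel subgroup, of order q(q − 1)) has exactly q + 3 conjugacy classes. -/
theorem result {F : Type*} [Field F] [Fintype F] (hodd : Odd (Fintype.card F)) :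
    Nat.card (ConjClasses ((Cfsg.upperTriangularGL 2 F).comap Matrix.SpecialLinearGroup.toGL)) = Fintype.card F + 3 := by
  exact borel_card_classes hodd

end Cfsg.Agent.S2437
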