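import Cfsg.Statements.S2438
import Cfsg.Agent.H17.SLDegree

set_option autoImplicit false
open Cfsg

namespace Cfsg.Agent.S2438

/-- Let F be a finite field with q elements, q odd, q ≥ 5, U the upper unitriangular subgroup of SL₂ over F, and χ an irreducible complex character. The sum of the values of χ over U equals 2q, q, 0, q, 0 according as the degree of χ is q + 1, q, q − 1, (q + 1)/2, (q − 1)/2; so among these five degrees the sum vanishes exactly for the degrees q − 1 and (q − 1)/2, i.e. the irreducible characters of those two degrees are the ones whose restriction to U does not contain the trivial character (the cuspidal characters), while those of degree q + 1, q and (q + 1)/2 are not cuspidal. -/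
theorem result {F : Type*} [Field F] [Fintype F] [DecidableEq F] (hodd : Odd (Fintype.card F)) (hq : 5 ≤ Fintype.card F)
    (χ : Matrix.SpecialLinearGroup (Fin 2) F → ℂ) (hχ : Cfsg.IsIrrCharacter (Matrix.SpecialLinearGroup (Fin 2) F) χ) :
    (χ 1 = (Fintype.card F : ℂ) + 1 →
      (∑ g : Matrix.SpecialLinearGroup (Fin 2) F, if (g : Matrix (Fin 2) (Fin 2) F) 1 0 = 0 ∧ (g : Matrix (Fin 2) (Fin 2) F) 0 0 = 1 ∧ (g : Matrix (Fin 2) (Fin 2) F) 1 1 = 1 then χ g else 0) = 2 * (Fintype.card F : ℂ)) ∧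
    (χ 1 = (Fintype.card F : ℂ) →
      (∑ g : Matrix.SpecialLinearGroup (Fin 2) F, if (g : Matrix (Fin 2) (Fin 2) F) 1 0 = 0 ∧ (g : Matrix (Fin 2) (Fin 2) F) 0 0 = 1 ∧ (g : Matrix (Fin 2) (Fin 2) F) 1 1 = 1 then χ g else 0) = (Fintype.card F : ℂ)) ∧
    (χ 1 = (Fintype.card F : ℂ) - 1 →
      (∑ g : Matrix.SpecialLinearGroup (Fin 2) F, if (g : Matrix (Fin 2) (Fin 2) F) 1 0 = 0 ∧ (g : Matrix (Fin 2) (Fin 2) F) 0 0 = 1 ∧ (g : Matrix (Fin 2) (Fin 2) F) 1 1 = 1 then χ g else 0) = 0) ∧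
    (χ 1 = (((Fintype.card F + 1) / 2 : ℕ) : ℂ) →
      (∑ g : Matrix.SpecialLinearGroup (Fin 2) F, if (g : Matrix (Fin 2) (Fin 2) F) 1 0 = 0 ∧ (g : Matrix (Fin 2) (Fin 2) F) 0 0 = 1 ∧ (g : Matrix (Fin 2) (Fin 2) F) 1 1 = 1 then χ g else 0) = (Fintype.card F : ℂ)) ∧
    (χ 1 = (((Fintype.card F - 1) / 2 : ℕ) : ℂ) →
      (∑ g : Matrix.SpecialLinearGroup (Fin 2) F, if (g : Matrix (Fin 2) (Fin 2) F) 1 0 = 0 ∧ (g : Matrix (Fin 2) (Fin 2) F) 0 0 = 1 ∧ (g : Matrix (Fin 2) (Fin 2) F) 1 1 = 1 then χ g else 0) = 0) := by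
  obtain ⟨C, hC⟩ := (H17.slEmb F).exists_nonSplit
  obtain ⟨O⟩ := H17.nonempty_slOdd hC hodd
  obtain ⟨hP, hQ, hM, hHP, hHM, -⟩ := H17.sl_odd_by_degree hC hodd O hχ
  have key : (∑ g : Matrix.SpecialLinearGroup (Fin 2) F,
      if (g : Matrix (Fin 2) (Fin 2) F) 1 0 = 0 ∧ (g : Matrix (Fin 2) (Fin 2) F) 0 0 = 1 ∧
        (g : Matrix (Fin 2) (Fin 2) F) 1 1 = 1 then χ g else 0)
      = χ 1 + ∑ a ∈ Finset.univ.erase (1 : Multiplicative F), χ ((H17.slD hC).u a) := by
    classical
    rw [← Finset.sum_filter]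
    have e : ∑ a : Multiplicative F, χ ((H17.slD hC).u a)
        = χ 1 + ∑ a ∈ Finset.univ.erase (1 : Multiplicative F), χ ((H17.slD hC).u a) := by
      rw [← Finset.add_sum_erase _ _ (Finset.mem_univ (1 : Multiplicative F)), map_one]
    rw [← e]
    refine Finset.sum_bij'
      (fun g _ => Multiplicative.ofAdd ((g : Matrix (Fin 2) (Fin 2) F) 0 1))
      (fun a _ => (H17.slD hC).u a) (fun _ _ => Finset.mem_univ _) ?_ ?_ ?_ ?_
    · intro a _
      rw [Finset.mem_filter]
      refine ⟨Finset.mem_univ _, ?_⟩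
      have := (H17.slEmb F).mm_uhom a
      rw [H17.mm_sl] at this
      rw [show (H17.slD hC).u = (H17.slEmb F).uhom from rfl, this]
      simp
    · intro g hg
      obtain ⟨h1, h2, h3⟩ := (Finset.mem_filter.1 hg).2
      exact (H17.sl_eq_u hC h1 h2 h3).symm
    · intro a _
      have := (H17.slEmb F).mm_uhom a
      rw [H17.mm_sl] at this
      rw [show (H17.slD hC).u = (H17.slEmb F).uhom from rfl, this]
      simp
    · intro g hg
      obtain ⟨h1, h2, h3⟩ := (Finset.mem_filter.1 hg).2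
      rw [← H17.sl_eq_u hC h1 h2 h3]
  have hcst : ∀ v : ℂ, (∀ a : Multiplicative F, a ≠ 1 → χ ((H17.slD hC).u a) = v) →
      ∑ a ∈ Finset.univ.erase (1 : Multiplicative F), χ ((H17.slD hC).u a)
        = ((Fintype.card F : ℂ) - 1) * v := by
    intro v hv
    rw [Finset.sum_congr rfl (g := fun _ => v) fun a ha => hv a (Finset.ne_of_mem_erase ha),
      Finset.sum_const, Finset.card_erase_of_mem (Finset.mem_univ _), Finset.card_univ,
      Fintype.card_multiplicative, nsmul_eq_mul, Nat.cast_sub (show 1 ≤ Fintype.card F by omega),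
      Nat.cast_one]
  rw [key]
  refine ⟨fun hd => ?_, fun hd => ?_, fun hd => ?_, fun hd => ?_, fun hd => ?_⟩
  · obtain ⟨α, -, e⟩ := hP hd
    rw [hd, hcst 1 fun a ha => by rw [e]; exact H17.chT_u hC α ha]
    ring
  · have e := hQ hd
    rw [hd, hcst 0 fun a ha => by rw [e]; exact H17.stein_u hC ha]
    ring
  · obtain ⟨θ, -, e⟩ := (hM hd).resolve_right fun h => by omega
    rw [hd, hcst (-1) fun a ha => by rw [e]; exact H17.chC_u hC θ ha]
    ring
  · have e := (hHP hd).resolve_right fun h => by omega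
    have := (H17.halfT_values hC hodd O ⟨χ, hχ⟩ e).1
    rw [hd, Nat.cast_div (hodd.add_odd odd_one).two_dvd (by norm_num), Nat.cast_add]
    push_cast
    have h2 : ∑ a ∈ Finset.univ.erase (1 : Multiplicative F), χ ((H17.slD hC).u a)
        = ((Fintype.card F : ℂ) - 1) / 2 := by convert this
    linear_combination h2
  · have e := (hHM hd).resolve_right fun h => by omega
    have := (H17.halfC_values hC hodd O ⟨χ, hχ⟩ e).1
    rw [hd, Nat.cast_div (Nat.Odd.sub_odd hodd odd_one).two_dvd (by norm_num),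
      Nat.cast_sub (show 1 ≤ Fintype.card F by omega)]
    push_cast
    have h2 : ∑ a ∈ Finset.univ.erase (1 : Multiplicative F), χ ((H17.slD hC).u a)
        = -(((Fintype.card F : ℂ) - 1) / 2) := by convert this
    linear_combination h2

end Cfsg.Agent.S2438
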