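import Cfsg.Statements.S4538
import Cfsg.Agent.H22.SLDefectGroup
import Cfsg.Agent.H22.SLDefectZero
import Cfsg.Agent.H17.SteinbergSL

set_option autoImplicit false
open Cfsg

namespace Cfsg.Agent.S4538

/-- Let F be a finite field of characteristic p and n ≥ 2. Relative to a maximal ideal M of the algebraic integers containing p, the group SL(n, F) has exactly one p-block of defect zero, and every other p-block has full defect (its defect equals the exponent of p in the order of the group, so its defect groups are Sylow p-subgroups). -/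
theorem result {F : Type*} [Field F] [Fintype F] (n : ℕ) (hn : 2 ≤ n) (p : ℕ) [Fact p.Prime] [CharP F p] (M : Ideal Cfsg.AlgInt) (hM : Cfsg.IsPModular p M) : Nat.card {B : Set (Cfsg.IrrCharacter (Matrix.SpecialLinearGroup (Fin n) F)) // Cfsg.IsPBlock M B ∧ Cfsg.blockDefect p B = 0} = 1 ∧ ∀ B : Set (Cfsg.IrrCharacter (Matrix.SpecialLinearGroup (Fin n) F)), Cfsg.IsPBlock M B → Cfsg.blockDefect p B = 0 ∨ Cfsg.blockDefect p B = (Nat.card (Matrix.SpecialLinearGroup (Fin n) F)).factorization p := by
  classical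
  haveI := H20.isPrime_of_modular hM
  haveI : M.IsMaximal := hM.2.1
  refine ⟨?_, fun B hB => H22.SLDefect.defect_zero_or_full (by omega) hM B hB⟩
  let χ₀ : Cfsg.IrrCharacter (Matrix.SpecialLinearGroup (Fin n) F) :=
    ⟨_, H17.UGL.isIrr_unipotent_SL (F := F) (by omega : 0 < n) (H17.UGL.mono_ones n)
      (H17.UGL.sum_ones n)⟩
  have hdz : H22.TauSum.DefZero p χ₀ := by
    have hd : Cfsg.charDegree (χ₀ : Matrix.SpecialLinearGroup (Fin n) F → ℂ) =
        Fintype.card F ^ n.choose 2 := by
      refine Nat.cast_injective (R := ℂ) ?_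
      rw [← H24.irr_one, Nat.cast_pow]
      show Cfsg.unipotentCharacterGL n F (H17.UGL.ones n) (Matrix.SpecialLinearGroup.toGL 1) = _
      rw [map_one]
      exact H17.UGL.steinberg_one
    have hU : Nat.card (H37.unitriangularSL n F) = Fintype.card F ^ n.choose 2 := by
      rw [H37.card_unitriangularSL, Nat.card_eq_fintype_card]
    show (Cfsg.charDegree (χ₀ : Matrix.SpecialLinearGroup (Fin n) F → ℂ)).factorization p = _
    rw [hd, ← hU, ← Subgroup.card_mul_index (H37.unitriangularSL n F),
      Nat.factorization_mul Nat.card_pos.ne' Subgroup.index_ne_zero_of_finite, Finsupp.add_apply,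
      Nat.factorization_eq_zero_of_not_dvd (H37.not_dvd_index_unitriangularSL p n), add_zero]
  have hndvd : ∀ χ : Cfsg.IrrCharacter (Matrix.SpecialLinearGroup (Fin n) F),
      H22.TauSum.DefZero p χ →
        ¬ p ∣ Nat.card (Matrix.SpecialLinearGroup (Fin n) F) / Cfsg.charDegree (χ : Matrix.SpecialLinearGroup (Fin n) F → ℂ) := by
    intro χ hχ hdvd
    have hdd := H12.irr_degree_dvd_card χ
    have hd : Cfsg.charDegree (χ : Matrix.SpecialLinearGroup (Fin n) F → ℂ) = H12.degree (χ : Matrix.SpecialLinearGroup (Fin n) F → ℂ) := rfl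
    rw [hd] at hdvd
    have h3 := (Fact.out : p.Prime).factorization_pos_of_dvd
      (Nat.div_pos (Nat.le_of_dvd Nat.card_pos hdd) (H12.irr_degree_pos χ)).ne' hdvd
    rw [Nat.factorization_div hdd, Finsupp.tsub_apply] at h3
    unfold H22.TauSum.DefZero at hχ
    rw [hd] at hχ
    omega
  have hB₀ : Cfsg.blockOf M (χ₀ : Matrix.SpecialLinearGroup (Fin n) F → ℂ) = {χ₀} :=
    (H20.blockOf_eq_singleton_iff hM χ₀).1 (hndvd χ₀ hdz)
  refine Nat.card_eq_one_iff_unique.2 ⟨⟨?_⟩, ⟨⟨{χ₀}, ⟨χ₀, hB₀.symm⟩, ?_⟩⟩⟩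
  · rintro ⟨B, hB, hB0⟩ ⟨B', hB', hB0'⟩
    have key : ∀ B : Set (Cfsg.IrrCharacter (Matrix.SpecialLinearGroup (Fin n) F)),
        Cfsg.IsPBlock M B → Cfsg.blockDefect p B = 0 → B = {χ₀} := by
      intro B hB h0
      obtain ⟨χ, hχ⟩ := H20.block_nonempty hB
      have hle : sInf ((fun χ : Cfsg.IrrCharacter (Matrix.SpecialLinearGroup (Fin n) F) =>
          (Cfsg.charDegree (χ : Matrix.SpecialLinearGroup (Fin n) F → ℂ)).factorization p) '' B) ≤
            (Cfsg.charDegree (χ : Matrix.SpecialLinearGroup (Fin n) F → ℂ)).factorization p := Nat.sInf_le ⟨χ, hχ, rfl⟩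
      have hle' : (Cfsg.charDegree (χ : Matrix.SpecialLinearGroup (Fin n) F → ℂ)).factorization p ≤
          (Nat.card (Matrix.SpecialLinearGroup (Fin n) F)).factorization p :=
        (Nat.factorization_le_iff_dvd (H12.irr_degree_pos χ).ne' Nat.card_pos.ne').2
          (H12.irr_degree_dvd_card χ) p
      have hz : H22.TauSum.DefZero p χ := by
        unfold Cfsg.blockDefect at h0
        show (Cfsg.charDegree (χ : Matrix.SpecialLinearGroup (Fin n) F → ℂ)).factorization p = _
        omega
      rw [H22.SLDefectZero.defZero_eq hn hM hdz hz]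
      exact H20.singleton_of_defect_zero hM hB h0 hχ
    exact Subtype.ext ((key B hB hB0).trans (key B' hB' hB0').symm)
  · rw [Cfsg.blockDefect, Set.image_singleton, csInf_singleton]
    exact Nat.sub_eq_zero_of_le (le_of_eq hdz.symm)

end Cfsg.Agent.S4538
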