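import Cfsg.Statements.S2440
import Cfsg.Agent.H21.BlockCountSL
import Cfsg.Agent.S4538

set_option autoImplicit false
open Cfsg

namespace Cfsg.Agent.S2440

/-- For a prime p and n ≥ 2, the group SL_n over the field with p elements has exactly gcd(n, p − 1) + 1 p-blocks relative to any maximal ideal of the algebraic integers containing p, that is, one more than the order of its centre (only this total is asserted; it arises as the defect-zero block of the Steinberg character plus as many blocks of maximal defect as the order of the centre). -/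
theorem result (p : ℕ) [Fact p.Prime] (n : ℕ) (hn : 2 ≤ n) (M : Ideal Cfsg.AlgInt) (hM : Cfsg.IsPModular p M) :
    Nat.card {B : Set (Cfsg.IrrCharacter (Matrix.SpecialLinearGroup (Fin n) (ZMod p))) // Cfsg.IsPBlock M B} =
      Nat.gcd n (p - 1) + 1 := by
  haveI := H20.isPrime_of_modular hM
  haveI : Nonempty (Fin n) := ⟨⟨0, by omega⟩⟩
  haveI := Fintype.ofFinite (Matrix.SpecialLinearGroup (Fin n) (ZMod p))
  have hcard : Nat.card (Subgroup.center (Matrix.SpecialLinearGroup (Fin n) (ZMod p))) = Nat.gcd n (p - 1) := by
    rw [H37.card_center_SL, Fintype.card_fin, Nat.card_zmod]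
  obtain ⟨h1, h2⟩ := Cfsg.Agent.S4538.result (F := ZMod p) n hn p M hM
  rw [H21.BlockCount.card_blocks_eq hM (H21.dvd_card_SL hn) h2 h1 le_rfl ?_ (H21.qPart_central_SL hn), hcard]
  rw [hcard]
  intro h
  have hp := (Fact.out : p.Prime)
  have := Nat.le_of_dvd (by have := hp.two_le; omega) (h.trans (Nat.gcd_dvd_right n (p - 1)))
  have := hp.two_le
  omega

end Cfsg.Agent.S2440
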