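import Cfsg.Statements.S2441
import Cfsg.Agent.H21.ChevBlocks

set_option autoImplicit false
open Cfsg

namespace Cfsg.Agent.S2441

/-- For a prime p, the Chevalley groups of types G₂, F₄ and E₈ over the field with p elements (types for which the simply connected and adjoint groups coincide, so the group has trivial centre) each have exactly two p-blocks relative to any maximal ideal of the algebraic integers containing p (only the count is asserted; it arises as the defect-zero block of the Steinberg character plus a single block of maximal defect). -/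
theorem result (p : ℕ) [Fact p.Prime] (M : Ideal Cfsg.AlgInt) (hM : Cfsg.IsPModular p M) :
    Nat.card {B : Set (Cfsg.IrrCharacter (Cfsg.Lie.chevG2.group (ZMod p))) // Cfsg.IsPBlock M B} = 2 ∧
    Nat.card {B : Set (Cfsg.IrrCharacter (Cfsg.Lie.chevF4.group (ZMod p))) // Cfsg.IsPBlock M B} = 2 ∧
    Nat.card {B : Set (Cfsg.IrrCharacter (Cfsg.Lie.chevE8.group (ZMod p))) // Cfsg.IsPBlock M B} = 2 := by
  have key : ∀ D ∈ [Cfsg.Lie.chevG2, Cfsg.Lie.chevB2, Cfsg.Lie.chevD4, Cfsg.Lie.chevF4, Cfsg.Lie.chevE6,
      Cfsg.Lie.chevE7, Cfsg.Lie.chevE8], 0 < D.rank →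
      Nat.card {B : Set (Cfsg.IrrCharacter (D.group (ZMod p))) // Cfsg.IsPBlock M B} = 2 := by
    intro D hD hrank
    obtain ⟨T, hC, hsupp⟩ := H52.checked_support_of_mem hD
    obtain ⟨W⟩ := H53.nonempty_weylFor hD
    exact @H21.ChevBlocks.card_blocks_eq_two D ⟨T, hC, W, H54.chainOK_of_mem D hD⟩ (ZMod p) _ _ p _ _
      (H54.addCheck_of_mem hD) (fun r hr j hj => H52.supportCheck_iff hsupp hr hj) M hM hrank
  exact ⟨key _ (by simp) (by decide), key _ (by simp) (by decide), key _ (by simp) (by decide)⟩

end Cfsg.Agent.S2441
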