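import Cfsg.Statements.S2444
import Cfsg.Agent.H41.CommThree
import Cfsg.Agent.H41.CommTwo

set_option autoImplicit false
open Cfsg

namespace Cfsg.Agent.S2444

open Polynomial H41 H41.Calc

section helpers

lemma isComm_of_det_one {F : Type*} [Field F] [Fintype F] (n : ℕ) (hn : 2 ≤ n) (hex : n = 2 → 4 ≤ Fintype.card F)
    (T : Module.End F (Fin n → F)) (hT : LinearMap.det T = 1) : H41.Calc.IsComm T := by
  classical
  obtain ⟨N, p, e, hpe, hsim⟩ := exists_model T
  set f : Fin N → F[X] := fun i => p i ^ e i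
  set w := Finset.univ.val.map f
  have hcls : HasCls T w := ⟨N, f, rfl, hsim⟩
  have hmon : ∀ x ∈ w, Monic x := by
    intro x hx
    obtain ⟨i, -, rfl⟩ := Multiset.mem_map.mp hx
    exact (hpe i).1.pow _
  have hdet : cdet w = 1 := (hcls.det hmon).symm.trans hT
  have hE : Elem w := by
    intro x hx
    obtain ⟨i, -, rfl⟩ := Multiset.mem_map.mp hx
    refine ⟨p i, e i, (hpe i).1, (hpe i).2.1, fun h0 => ?_, (hpe i).2.2, rfl⟩
    have h : cdet w = 0 := Multiset.prod_eq_zero (Multiset.mem_map.mpr ⟨f i, hx, by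
      rw [show f i = p i ^ e i from rfl, coeff_zero_eq_eval_zero (p i ^ e i), eval_pow, ← coeff_zero_eq_eval_zero, h0,
        zero_pow (hpe i).2.2.ne', mul_zero]⟩)
    rw [hdet] at h
    exact one_ne_zero h
  have hsum : (w.map natDegree).sum = n := by
    rw [← hcls.finrank hmon, Module.finrank_fin_fun]
  have hw : w ≠ 0 := fun h => by rw [h] at hsum; simp at hsum; omega
  refine Closed.isComm ?_ hcls
  by_cases h4 : 4 ≤ Fintype.card F
  · exact closed_four h4 hw hE.inv hdet
  have h3n : 3 ≤ n := by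
    by_contra hlt
    exact h4 (hex (by omega))
  have h1 := Fintype.one_lt_card (α := F)
  rcases (show Fintype.card F = 2 ∨ Fintype.card F = 3 by omega) with h | h
  · refine Two.closed_two h _ w le_rfl hw hE fun he => ?_
    rw [he, Multiset.map_singleton, Multiset.sum_singleton, natDegree_mul Two.L_spec.1.ne_zero Two.L_spec.1.ne_zero,
      Two.L_spec.2.1] at hsum
    omega
  · exact Three.closed_three h _ w le_rfl hE.inv (by omega) hdet

end helpers

/-- In the special linear group SL(n,F) over a finite field F, with n ≥ 2 and (n, |F|) not (2,2) or (2,3), every element is a commutator a·b·a⁻¹·b⁻¹ of two elements of SL(n,F). -/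
theorem result {F : Type*} [Field F] [Fintype F] (n : ℕ) (hn : 2 ≤ n) (hex : n = 2 → 4 ≤ Fintype.card F) :
    ∀ g : Matrix.SpecialLinearGroup (Fin n) F, ∃ a b : Matrix.SpecialLinearGroup (Fin n) F, g = a * b * a⁻¹ * b⁻¹ := by
  intro g
  obtain ⟨a, b, ha, hb, hab⟩ := isComm_of_det_one n hn hex (Matrix.toLin' (g : Matrix (Fin n) (Fin n) F))
    (by rw [LinearMap.det_toLin']; exact g.2)
  let A : Matrix.SpecialLinearGroup (Fin n) F := ⟨LinearMap.toMatrix' a, by rw [LinearMap.det_toMatrix', ha]⟩
  let B : Matrix.SpecialLinearGroup (Fin n) F := ⟨LinearMap.toMatrix' b, by rw [LinearMap.det_toMatrix', hb]⟩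
  refine ⟨A, B, ?_⟩
  have key : g * (B * A) = A * B := by
    apply Subtype.ext
    show (g : Matrix (Fin n) (Fin n) F) * (LinearMap.toMatrix' b * LinearMap.toMatrix' a) =
      LinearMap.toMatrix' a * LinearMap.toMatrix' b
    rw [← LinearMap.toMatrix'_mul, ← LinearMap.toMatrix'_mul, ← hab,
      LinearMap.toMatrix'_mul (Matrix.toLin' (g : Matrix (Fin n) (Fin n) F)), LinearMap.toMatrix'_toLin']
  calc g = (A * B) * (B * A)⁻¹ := eq_mul_inv_of_mul_eq key
    _ = A * B * A⁻¹ * B⁻¹ := by group

end Cfsg.Agent.S2444
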