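import Cfsg.Statements.S2446
import Cfsg.Agent.H31.Unitary.TwoMain
import Cfsg.Agent.H34.Uni.Transfer
import Cfsg.Agent.H34.Uni.Main
import Cfsg.Agent.H85.Uni.Central
import Cfsg.Agent.H27.SUFac.Big
import Cfsg.Agent.H13.Uni.Small

set_option autoImplicit false
open Cfsg

namespace Cfsg.Agent.S2446

/-- In the special unitary group SU(n,q), n ≥ 3, realised over the field F with q² elements as the determinant-one isometries of the standard Hermitian form, and with (n,q) ≠ (3,2), every element is a commutator a·b·a⁻¹·b⁻¹ of two elements of SU(n,q). -/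
theorem result {F : Type*} [Field F] [Fintype F] (n q : ℕ) (hn : 3 ≤ n) (hF : Fintype.card F = q ^ 2) (hex : ¬ (n = 3 ∧ q = 2)) :
    ∀ g : Cfsg.SU n F q, ∃ a b : Cfsg.SU n F q, g = a * b * a⁻¹ * b⁻¹ := by
  intro g
  have hq2 : 2 ≤ q := by
    by_contra h
    have h1 : 1 < q ^ 2 := hF ▸ Fintype.one_lt_card (α := F)
    interval_cases q <;> simp at h1
  haveI := H34.Uni.invol_qFrob hF
  set σ := H51.qFrob hF with hσdef
  have hσ : ∀ x : F, σ x = x ^ q := fun x => rfl
  obtain ⟨m, e, he, rfl⟩ : ∃ m e, e ≤ 1 ∧ n = 2 * m + e := ⟨n / 2, n % 2, by omega, by omega⟩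
  refine H34.Uni.su_comm_of_model hF rfl ?_ g
  have hc : H34.Uni.CentralComm σ m e := H85.Uni.central_comm hF hσ (by omega)
  by_cases hm : 2 ≤ m
  · refine H34.Uni.all_comm_of_central he hm hc ?_
    by_cases hq : 3 ≤ q
    · exact H27.SUFac.slFacU_big hF hσ hq hm he
    obtain rfl : q = 2 := by omega
    have h4 : Fintype.card F = 4 := by rw [hF]; rfl
    by_cases hm4 : 4 ≤ m
    · exact H31.Com.Uni.slFacU_four h4 hm4
    obtain ⟨a, ha⟩ := H31.Com.Uni.exists_omega (K := F) h4
    exact H13.Uni.small_cfac a h4 (fun x => hσ x) (by omega) he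
  · obtain rfl : m = 1 := by omega
    obtain rfl : e = 1 := by omega
    have hq : 3 ≤ q := by
      by_contra h
      exact hex ⟨rfl, by omega⟩
    exact H34.Uni.all_comm_one_of_central hc (H27.SUFac.cfac_one_big hF hσ hq)

end Cfsg.Agent.S2446
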