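import Cfsg.Statements.S2447
import Cfsg.Agent.H31.Commutator.BigOdd
import Cfsg.Agent.H31.Commutator.ThreeOdd

set_option autoImplicit false
open Cfsg

namespace Cfsg.Agent.S2447

theorem slFac {F : Type*} [Field F] [Fintype F] [NeZero (2 : F)] (hodd : Odd (Fintype.card F)) {n : ℕ}
    (hn : 3 ≤ n) : H31.Com.Odd.SLFacO n F := by
  have h1 : 1 < Fintype.card F := Fintype.one_lt_card
  have h2 := Nat.odd_iff.1 hodd
  rcases (by omega : Fintype.card F = 3 ∨ 5 ≤ Fintype.card F) with h | h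
  · haveI := Fact.mk Nat.prime_three
    haveI : CharP F 3 := charP_of_card_eq_prime h
    exact H31.Com.T3.slFacO_three h hn
  · exact H31.Com.Odd.slFacO_big h hn

/-- Let F be a finite field of odd order and n ≥ 3, and let Ω(2n+1,F) be the commutator subgroup of the orthogonal group of the non-singular quadratic form x₀² + Σ xᵢyᵢ in dimension 2n+1. Then every element of Ω(2n+1,F) is a commutator a·b·a⁻¹·b⁻¹ of two elements of Ω(2n+1,F). -/
theorem result {F : Type*} [Field F] [Fintype F] (hodd : Odd (Fintype.card F)) (n : ℕ) (hn : 3 ≤ n) :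
    ∀ g : Cfsg.Omega F (Cfsg.quadFormOdd n F), ∃ a b : Cfsg.Omega F (Cfsg.quadFormOdd n F), g = a * b * a⁻¹ * b⁻¹ := by
  haveI : NeZero (2 : F) := ⟨Ring.two_ne_zero fun h => by
    have h1 := FiniteField.even_card_iff_char_two.1 h
    have h2 := Nat.odd_iff.1 hodd
    omega⟩
  intro g
  obtain ⟨a, ha, b, hb, e⟩ := H31.Com.Odd.all_comm hn (slFac hodd hn) g.2
  exact ⟨⟨a, ha⟩, ⟨b, hb⟩, Subtype.ext e⟩

end Cfsg.Agent.S2447
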