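import Cfsg.Statements.S2448
import Cfsg.Agent.H31.Commutator.Big
import Cfsg.Agent.H31.Commutator.Two
import Cfsg.Agent.H31.Commutator.Three

set_option autoImplicit false
open Cfsg

namespace Cfsg.Agent.S2448

theorem slFac {F : Type*} [Field F] [Fintype F] {n : ℕ} (hn : 4 ≤ n) : H31.Com.SLFac n F := by
  have h1 : 1 < Fintype.card F := Fintype.one_lt_card
  rcases (by omega : Fintype.card F = 2 ∨ Fintype.card F = 3 ∨ 4 ≤ Fintype.card F) with h | h | h
  · haveI := Fact.mk Nat.prime_two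
    haveI : CharP F 2 := charP_of_card_eq_prime h
    exact H31.Com.slFac_two h hn
  · haveI := Fact.mk Nat.prime_three
    haveI : CharP F 3 := charP_of_card_eq_prime h
    exact H31.Com.slFac_three h hn
  · exact H31.Com.slFac_big h hn

/-- Let F be a finite field and n ≥ 4, and let Ω⁺(2n,F) be the commutator subgroup of the orthogonal group of the quadratic form Σ xᵢyᵢ (n hyperbolic planes). Then every element of Ω⁺(2n,F) is a commutator a·b·a⁻¹·b⁻¹ of two elements of Ω⁺(2n,F). -/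
theorem result {F : Type*} [Field F] [Fintype F] (n : ℕ) (hn : 4 ≤ n) : ∀ g : Cfsg.Omega F (Cfsg.quadFormPlus n F), ∃ a b : Cfsg.Omega F (Cfsg.quadFormPlus n F), g = a * b * a⁻¹ * b⁻¹ := by
  intro g
  obtain ⟨a, ha, b, hb, e⟩ := H31.Com.all_comm hn (slFac hn) g.2
  exact ⟨⟨a, ha⟩, ⟨b, hb⟩, Subtype.ext e⟩

end Cfsg.Agent.S2448
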