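import Cfsg.Statements.S2450


set_option autoImplicit false
open Cfsg

namespace Cfsg.Agent.S2450

open Matrix in
lemma exists_conj_lower {F : Type*} [Field F] [Fintype F] (h3 : 3 ≤ Fintype.card F)
    (M : Matrix.SpecialLinearGroup (Fin 2) F)
    (hM : M ∉ Subgroup.center (Matrix.SpecialLinearGroup (Fin 2) F)) :
    ∃ k : Matrix.SpecialLinearGroup (Fin 2) F,
      ((k * M * k⁻¹ : Matrix.SpecialLinearGroup (Fin 2) F) : Matrix (Fin 2) (Fin 2) F) 1 0 ≠ 0 := by
  classical
  by_contra! hcon
  have key : ∀ y : F, M.1 1 0 + y * (M.1 0 0 - M.1 1 1) - y * y * M.1 0 1 = 0 := by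
    intro y
    let k0 : Matrix.SpecialLinearGroup (Fin 2) F := ⟨!![1, 0; y, 1], by simp [Matrix.det_fin_two]⟩
    have hk0 : (k0 : Matrix (Fin 2) (Fin 2) F) = !![1, 0; y, 1] := rfl
    have := hcon k0
    rw [← this, Matrix.SpecialLinearGroup.coe_mul, Matrix.SpecialLinearGroup.coe_mul,
      Matrix.SpecialLinearGroup.coe_inv, hk0, Matrix.adjugate_fin_two]
    simp [Matrix.mul_apply, Matrix.vecMul, dotProduct, Fin.sum_univ_two]
    ring
  obtain ⟨y, hy0, hy1⟩ : ∃ y : F, y ≠ 0 ∧ y ≠ 1 := by
    by_contra! h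
    have : (Finset.univ : Finset F) ⊆ {0, 1} := fun y _ => by
      by_cases hy : y = 0
      · simp [hy]
      · simp [h y hy]
    have := (Finset.card_le_card this).trans Finset.card_le_two
    simp at this; omega
  have h0 := key 0
  have h1 := key 1
  have h2 := key y
  have hb : M.1 0 1 = 0 := by
    have : (y * (y - 1)) * M.1 0 1 = 0 := by linear_combination y * h1 - h2 + (1 - y) * h0
    simpa [hy0, sub_eq_zero, hy1] using this
  have hc : M.1 1 0 = 0 := by simpa using h0
  have hd : M.1 0 0 = M.1 1 1 := by simpa [hb, hc, sub_eq_zero] using h1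
  apply hM
  rw [Subgroup.mem_center_iff]
  intro g
  ext i j
  fin_cases i <;> fin_cases j <;>
    simp [Matrix.mul_apply, Fin.sum_univ_two, hb, hc, hd] <;> ring

lemma trace_not_pair {F : Type*} [Field F] [Fintype F] (h4 : 4 ≤ Fintype.card F)
    (A B : Matrix.SpecialLinearGroup (Fin 2) F)
    (hA : A ∉ Subgroup.center (Matrix.SpecialLinearGroup (Fin 2) F))
    (hB : B ∉ Subgroup.center (Matrix.SpecialLinearGroup (Fin 2) F)) (t : F)
    (h : ∀ g : Matrix.SpecialLinearGroup (Fin 2) F,
      Matrix.trace ((A * (g * B * g⁻¹) : Matrix.SpecialLinearGroup (Fin 2) F) : Matrix (Fin 2) (Fin 2) F) = t ∨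
      Matrix.trace ((A * (g * B * g⁻¹) : Matrix.SpecialLinearGroup (Fin 2) F) : Matrix (Fin 2) (Fin 2) F) = -t) :
    False := by
  classical
  obtain ⟨k, hk⟩ := exists_conj_lower (by omega) A hA
  obtain ⟨m, hm⟩ := exists_conj_lower (by omega) B hB
  set A' := k * A * k⁻¹ with hA'
  set B' := m * B * m⁻¹ with hB'
  clear_value A' B'
  let P : F → F := fun x =>
    A'.1 0 0 * (B'.1 0 0 + x * B'.1 1 0) + A'.1 0 1 * B'.1 1 0
      + A'.1 1 0 * (B'.1 0 1 + x * (B'.1 1 1 - B'.1 0 0) - x * x * B'.1 1 0)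
      + A'.1 1 1 * (B'.1 1 1 - x * B'.1 1 0)
  have hP : ∀ x, P x = t ∨ P x = -t := by
    intro x
    let u : Matrix.SpecialLinearGroup (Fin 2) F := ⟨!![1, x; 0, 1], by simp [Matrix.det_fin_two]⟩
    have e : Matrix.trace ((A * ((k⁻¹ * u * m) * B * (k⁻¹ * u * m)⁻¹) : Matrix.SpecialLinearGroup (Fin 2) F) : Matrix (Fin 2) (Fin 2) F) =
        Matrix.trace ((A' * (u * B' * u⁻¹) : Matrix.SpecialLinearGroup (Fin 2) F) : Matrix (Fin 2) (Fin 2) F) := by
      have : A' * (u * B' * u⁻¹) = k * (A * ((k⁻¹ * u * m) * B * (k⁻¹ * u * m)⁻¹)) * k⁻¹ := by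
        rw [hA', hB']; group
      rw [this]
      conv_rhs => rw [Matrix.SpecialLinearGroup.coe_mul, Matrix.SpecialLinearGroup.coe_mul]
      rw [Matrix.trace_mul_cycle (k : Matrix (Fin 2) (Fin 2) F), ← Matrix.SpecialLinearGroup.coe_mul (A := k⁻¹), inv_mul_cancel,
        Matrix.SpecialLinearGroup.coe_one, one_mul]
    have e2 : Matrix.trace ((A' * (u * B' * u⁻¹) : Matrix.SpecialLinearGroup (Fin 2) F) : Matrix (Fin 2) (Fin 2) F) = P x := by
      have hu : (u : Matrix (Fin 2) (Fin 2) F) = !![1, x; 0, 1] := rfl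
      rw [Matrix.SpecialLinearGroup.coe_mul, Matrix.SpecialLinearGroup.coe_mul,
        Matrix.SpecialLinearGroup.coe_mul, Matrix.SpecialLinearGroup.coe_inv, hu, Matrix.adjugate_fin_two]
      simp only [P]
      generalize (A' : Matrix (Fin 2) (Fin 2) F) = a
      generalize (B' : Matrix (Fin 2) (Fin 2) F) = b
      simp [Matrix.trace_fin_two, Matrix.mul_apply, Matrix.vecMul, dotProduct, Fin.sum_univ_two]
      ring
    have := h (k⁻¹ * u * m)
    rwa [e, e2] at this
  have fib : ∀ s : F, (Finset.univ.filter fun x => P x = s).card ≤ 2 := by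
    intro s
    by_contra hlt
    obtain ⟨x, y, z, hx, hy, hz, hxy, hxz, hyz⟩ := Finset.two_lt_card_iff.1 (Nat.lt_of_not_le hlt)
    simp only [Finset.mem_filter, Finset.mem_univ, true_and] at hx hy hz
    have h1 : (x - y) * (z - y) * (x - z) * (A'.1 1 0 * B'.1 1 0) = 0 := by
      simp only [P] at hx hy hz
      linear_combination (y - z) * hx + (z - x) * hy + (x - y) * hz
    exact mul_ne_zero (mul_ne_zero (mul_ne_zero (sub_ne_zero.2 hxy) (sub_ne_zero.2 (Ne.symm hyz))) (sub_ne_zero.2 hxz)) (mul_ne_zero hk hm) h1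
  have hsub : (Finset.univ : Finset F) ⊆
      (Finset.univ.filter fun x => P x = t) ∪ (Finset.univ.filter fun x => P x = -t) := fun x _ => by
    simpa using hP x
  by_cases ht : t = -t
  · rw [← ht, Finset.union_self] at hsub
    have := (Finset.card_le_card hsub).trans (fib t)
    simp at this; omega
  · have hle := (Finset.card_le_card hsub).trans (Finset.card_union_le _ _)
    have := fib t; have := fib (-t)
    simp only [Finset.card_univ] at hle
    have h4' : Fintype.card F = 4 := by omega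
    have h2 : (2 : F) = 0 := by
      have hc : ringChar F = 2 := (FiniteField.even_card_iff_char_two (F := F)).2 (by rw [h4'])
      exact_mod_cast (CharP.cast_eq_zero_iff F (ringChar F) 2).2 (by rw [hc])
    exact ht (by linear_combination t * h2)

/-- The Arad–Herzog conjecture for PSL(2,q): let F be a finite field with q ≥ 4 elements. For any two non-identity elements a, b of PSL(2,F), the set of products of a conjugate of a with a conjugate of b is not a single conjugacy class. -/
theorem result {F : Type*} [Field F] [Fintype F] (h4 : 4 ≤ Fintype.card F)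
    (a b : Matrix.ProjectiveSpecialLinearGroup (Fin 2) F) (ha : a ≠ 1) (hb : b ≠ 1) (c : Matrix.ProjectiveSpecialLinearGroup (Fin 2) F) :
    {g : Matrix.ProjectiveSpecialLinearGroup (Fin 2) F | ∃ u v : Matrix.ProjectiveSpecialLinearGroup (Fin 2) F, g = (u * a * u⁻¹) * (v * b * v⁻¹)} ≠ {g | IsConj c g} := by
  intro heq
  induction a using QuotientGroup.induction_on with | H A => ?_
  induction b using QuotientGroup.induction_on with | H B => ?_
  induction c using QuotientGroup.induction_on with | H C => ?_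
  have hA : A ∉ Subgroup.center (Matrix.SpecialLinearGroup (Fin 2) F) := fun h => ha ((QuotientGroup.eq_one_iff A).2 h)
  have hB : B ∉ Subgroup.center (Matrix.SpecialLinearGroup (Fin 2) F) := fun h => hb ((QuotientGroup.eq_one_iff B).2 h)
  refine trace_not_pair h4 A B hA hB (Matrix.trace C.1) fun g => ?_
  have hmem : ((A * (g * B * g⁻¹) : Matrix.SpecialLinearGroup (Fin 2) F) : Matrix.ProjectiveSpecialLinearGroup (Fin 2) F) ∈
      {g : Matrix.ProjectiveSpecialLinearGroup (Fin 2) F | IsConj (C : Matrix.ProjectiveSpecialLinearGroup (Fin 2) F) g} := by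
    rw [← heq]
    exact ⟨1, (g : Matrix.ProjectiveSpecialLinearGroup (Fin 2) F), by simp [QuotientGroup.mk_mul, QuotientGroup.mk_inv]⟩
  obtain ⟨w, hw⟩ := isConj_iff.1 hmem
  induction w using QuotientGroup.induction_on with | H W => ?_
  rw [← QuotientGroup.mk_mul, ← QuotientGroup.mk_inv, ← QuotientGroup.mk_mul, QuotientGroup.eq] at hw
  obtain ⟨r, hr, hz⟩ := Matrix.SpecialLinearGroup.mem_center_iff.1 hw
  have hr' : r ^ 2 = 1 := by simpa using hr
  have hM : A * (g * B * g⁻¹) = (W * C * W⁻¹) * ((W * C * W⁻¹)⁻¹ * (A * (g * B * g⁻¹))) := by group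
  have htr : Matrix.trace ((A * (g * B * g⁻¹) : Matrix.SpecialLinearGroup (Fin 2) F) : Matrix (Fin 2) (Fin 2) F) = r * Matrix.trace C.1 := by
    rw [hM, Matrix.SpecialLinearGroup.coe_mul, ← hz,
      Matrix.trace_mul_comm, Matrix.scalar_apply, ← Matrix.smul_one_eq_diagonal, smul_mul_assoc, one_mul,
      Matrix.trace_smul, smul_eq_mul, Matrix.SpecialLinearGroup.coe_mul, Matrix.SpecialLinearGroup.coe_mul,
      Matrix.trace_mul_cycle, ← Matrix.SpecialLinearGroup.coe_mul (A := W⁻¹), inv_mul_cancel,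
      Matrix.SpecialLinearGroup.coe_one, one_mul]
  rw [htr]
  rcases (mul_self_eq_one_iff.1 (by rw [← sq]; exact hr') : r = 1 ∨ r = -1) with h1 | h1 <;> simp [h1]

end Cfsg.Agent.S2450
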