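import Cfsg.Statements.S2455
import Cfsg.Agent.H41.PSL2Cover

set_option autoImplicit false
open Cfsg

namespace Cfsg.Agent.S2455

/-- A strong covering result in the direction of Thompson's conjecture (non-identity elements) for PSL(2,q), q odd: let F be a finite field of odd characteristic p with at least 5 elements and let x ∈ PSL(2,F) have order greater than 2 and not divisible by p (so x is not unipotent). Then every non-identity element of PSL(2,F) is a product of two conjugates of x. -/
theorem result {F : Type*} [Field F] [Fintype F] (p : ℕ) [Fact p.Prime] [CharP F p] (hp : p ≠ 2) (h5 : 5 ≤ Fintype.card F)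
    (x : Matrix.ProjectiveSpecialLinearGroup (Fin 2) F) (hx2 : 2 < orderOf x) (hxp : ¬ p ∣ orderOf x) : ∀ g : Matrix.ProjectiveSpecialLinearGroup (Fin 2) F, g ≠ 1 → ∃ u v : Matrix.ProjectiveSpecialLinearGroup (Fin 2) F, g = (u * x * u⁻¹) * (v * x * v⁻¹) := by
  intro g hg
  obtain ⟨X, rfl⟩ := QuotientGroup.mk_surjective x
  obtain ⟨G, rfl⟩ := QuotientGroup.mk_surjective g
  obtain ⟨hX, ht0, hD⟩ := H41.trace_facts p X hx2 (Or.inr hxp)
  have h2 : (2 : F) ≠ 0 := by
    have : ((2 : ℕ) : F) ≠ 0 := by
      rw [Ne, CharP.cast_eq_zero_iff F p]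
      exact fun h => hp ((Nat.prime_dvd_prime_iff_eq Fact.out Nat.prime_two).mp h)
    simpa using this
  have hodd : Fintype.card F % 2 = 1 := FiniteField.odd_card_of_char_ne_two (by
    rw [ringChar.eq F p]; exact hp)
  -- pick a sign so that the trace equation is solvable
  obtain ⟨G', hG'mk, hG', a, b, hab⟩ : ∃ G' : Matrix.SpecialLinearGroup (Fin 2) F,
      (QuotientGroup.mk G' : Matrix.ProjectiveSpecialLinearGroup (Fin 2) F) = QuotientGroup.mk G ∧
      ¬ H40.IsScalar2 G'.val ∧ ∃ a b : F,
        a ^ 2 - G'.val.trace * a * b + b ^ 2 - X.val.trace * a + X.val.trace * b + 1 = 0 := by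
    have hGns : ¬ H40.IsScalar2 G.val := fun h => hg ((H41.pslTwo_eq_one_iff G).mpr h)
    have key : ∀ s : F, s ≠ 2 → ∃ a b : F,
        a ^ 2 - s * a * b + b ^ 2 - X.val.trace * a + X.val.trace * b + 1 = 0 := by
      intro s hs
      obtain ⟨t, ht⟩ : ∃ t, t = X.val.trace := ⟨_, rfl⟩
      rw [← ht] at ht0 ⊢
      have h4 : (4 : F) ≠ 0 := by rw [show (4 : F) = 2 * 2 by norm_num]; exact mul_ne_zero h2 h2
      by_cases hs2 : s = -2
      · subst hs2
        refine ⟨((-2) * ((t ^ 2 - 4) / (8 * t)) + t) / 2, (t ^ 2 - 4) / (8 * t), ?_⟩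
        have h8 : (8 : F) * t ≠ 0 := by
          rw [show (8 : F) = 4 * 2 by norm_num]; exact mul_ne_zero (mul_ne_zero h4 h2) ht0
        obtain ⟨b, hb⟩ : ∃ b, b = (t ^ 2 - 4) / (8 * t) := ⟨_, rfl⟩
        have hb' : b * (8 * t) = t ^ 2 - 4 := by rw [hb, div_mul_cancel₀ _ h8]
        rw [← hb]
        field_simp
        linear_combination hb'
      · have he : s ^ 2 - 4 ≠ 0 := by
          intro h
          have : (s - 2) * (s + 2) = 0 := by linear_combination h
          rcases mul_eq_zero.mp this with h' | h'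
          · exact hs (by linear_combination h')
          · exact hs2 (by linear_combination h')
        have hs' : s + 2 ≠ 0 := fun h' => hs2 (by linear_combination h')
        obtain ⟨c, hc⟩ : ∃ c : F, c = t ^ 2 - 4 - t ^ 2 * (s - 2) / (s + 2) := ⟨_, rfl⟩
        obtain ⟨z, y, hzy⟩ := FiniteField.exists_root_sum_quadratic (R := F)
          (f := Polynomial.X ^ 2 - Polynomial.C c) (g := Polynomial.C (-(s ^ 2 - 4)) * Polynomial.X ^ 2)
          (Polynomial.degree_X_pow_sub_C (by norm_num) c)
          (by rw [Polynomial.degree_C_mul_X_pow 2 (neg_ne_zero.mpr he)]; rfl) hodd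
        simp at hzy
        refine ⟨(s * (y - t / (s + 2)) + t + z) / 2, y - t / (s + 2), ?_⟩
        obtain ⟨h, hh⟩ : ∃ h, h = t / (s + 2) := ⟨_, rfl⟩
        have hh' : h * (s + 2) = t := by rw [hh, div_mul_cancel₀ _ hs']
        have hc' : c = t ^ 2 - 4 - h * t * (s - 2) := by rw [hc, hh]; ring
        rw [← hh]
        field_simp
        linear_combination hzy + hc' + ((s - 2) * h - 2 * y * (s - 2)) * (-hh')
    by_cases hs : G.val.trace = 2
    · have hnG : (-G : Matrix.SpecialLinearGroup (Fin 2) F).val = -G.val := Matrix.SpecialLinearGroup.coe_neg G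
      refine ⟨-G, ?_, ?_, key _ ?_⟩
      · rw [QuotientGroup.eq, ← QuotientGroup.eq_one_iff, H41.pslMk_eq_one_iff]
        refine ⟨-1, ?_⟩
        rw [Matrix.SpecialLinearGroup.coe_mul, Matrix.SpecialLinearGroup.coe_inv, hnG]
        rw [Matrix.adjugate_fin_two]
        have hd := G.2
        rw [Matrix.det_fin_two] at hd
        ext i j
        fin_cases i <;> fin_cases j <;> simp [Matrix.mul_apply, Fin.sum_univ_two] <;>
          first | linear_combination -hd | ring
      · intro h
        apply hGns
        rw [hnG] at h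
        simpa [H40.IsScalar2] using h
      · rw [hnG, Matrix.trace_neg, hs]
        intro h
        exact mul_ne_zero h2 h2 (by linear_combination -h)
    · exact ⟨G, rfl, hGns, key _ hs⟩
  rw [← hG'mk]
  exact H41.psl2_prod_two_conj_of X G' (H41.sl2_prod_two_conj X G' hX hD hG' a b hab)

end Cfsg.Agent.S2455
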