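import Cfsg.Statements.S2456
import Cfsg.Agent.H41.PSL2Cover
import Cfsg.Agent.H41.PSLSpectrum

set_option autoImplicit false
open Cfsg

namespace Cfsg.Agent.S2456

/-- A strong covering result in the direction of Thompson's conjecture (non-identity elements) for PSL(2,q), q even: let F be a finite field of characteristic 2 with q ≥ 4 elements and let x ∈ PSL(2,F) have order greater than 2 and not dividing q + 1. Then every non-identity element of PSL(2,F) is a product of two conjugates of x. -/
theorem result {F : Type*} [Field F] [Fintype F] [CharP F 2] (h4 : 4 ≤ Fintype.card F)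
    (x : Matrix.ProjectiveSpecialLinearGroup (Fin 2) F) (hx2 : 2 < orderOf x) (hxq : ¬ orderOf x ∣ Fintype.card F + 1) : ∀ g : Matrix.ProjectiveSpecialLinearGroup (Fin 2) F, g ≠ 1 → ∃ u v : Matrix.ProjectiveSpecialLinearGroup (Fin 2) F, g = (u * x * u⁻¹) * (v * x * v⁻¹) := by
  classical
  intro g hg
  obtain ⟨X, rfl⟩ := QuotientGroup.mk_surjective x
  obtain ⟨G, rfl⟩ := QuotientGroup.mk_surjective g
  haveI : Fact (Nat.Prime 2) := ⟨Nat.prime_two⟩
  obtain ⟨hX, ht0, hD⟩ := H41.trace_facts 2 X hx2 (Or.inl rfl)
  have hroot : ∃ l : F, l ^ 2 - X.val.trace * l + 1 = 0 := by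
    by_contra hno
    push Not at hno
    apply hxq
    obtain ⟨f, hf⟩ : ∃ f : Polynomial F,
        f = Polynomial.X ^ 2 - Polynomial.C X.val.trace * Polynomial.X + Polynomial.C 1 := ⟨_, rfl⟩
    have hfd : f.natDegree = 2 := by
      rw [hf]; compute_degree!
    have hirr : Irreducible f := by
      rw [Polynomial.irreducible_iff_roots_eq_zero_of_degree_le_three (by omega) (by omega)]
      refine Multiset.eq_zero_of_forall_notMem fun l hl => ?_
      have := Polynomial.isRoot_of_mem_roots hl
      apply hno l
      simpa [hf] using this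
    have haev : Polynomial.aeval X.val f = 0 := by
      rw [hf]
      simp [pow_two, H41.sl2_sq_trace, Algebra.algebraMap_eq_smul_one]
    have h := H41.pow_singerOrd_of_irreducible X (by norm_num) f hirr haev
    refine (orderOf_dvd_of_pow_eq_one h).trans ((H41.singerOrd_dvd_qsum _ _).trans ?_)
    rw [show (2 : ℕ) = 1 + 1 from rfl, H41.qsum_add]
    simp [H41.qsum, add_comm]
  obtain ⟨l, hl⟩ := hroot
  refine H41.psl2_prod_two_conj_of X G (H41.sl2_prod_two_conj X G hX hD
    (fun h => hg ((H41.pslTwo_eq_one_iff G).mpr h)) l 0 ?_)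
  linear_combination hl

end Cfsg.Agent.S2456
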