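import Cfsg.Statements.S2459
import Cfsg.Agent.H41.SL33Cover
import Cfsg.Agent.H37.SmallIsoBase
-- import your own Cfsg.Agent.* helpers here

set_option autoImplicit false
open Cfsg

namespace Cfsg.Agent.S2459

/-- A form of Thompson's conjecture for PSL(3,q), q > 2 (covering the non-identity elements), with a semisimple class: for F a finite field of characteristic p with more than 2 elements there is an element x of PSL(3,F) of order prime to p such that every non-identity element of PSL(3,F) is a product of two conjugates of x. -/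
theorem result {F : Type*} [Field F] [Fintype F] (p : ℕ) [Fact p.Prime] [CharP F p] (h3 : 3 ≤ Fintype.card F) :
    ∃ x : Matrix.ProjectiveSpecialLinearGroup (Fin 3) F, ¬ p ∣ orderOf x ∧ ∀ g : Matrix.ProjectiveSpecialLinearGroup (Fin 3) F, g ≠ 1 → ∃ u v : Matrix.ProjectiveSpecialLinearGroup (Fin 3) F, g = (u * x * u⁻¹) * (v * x * v⁻¹) := by
  classical
  let π := QuotientGroup.mk' (Subgroup.center (Matrix.SpecialLinearGroup (Fin 3) F))
  -- it is enough to treat non-scalar elements of the special linear group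
  suffices h : ∃ D : Matrix.SpecialLinearGroup (Fin 3) F, (∃ k : ℕ, D ^ k = 1 ∧ ¬ p ∣ k) ∧
      ∀ g : Matrix.SpecialLinearGroup (Fin 3) F, (∀ c : F, (g : Matrix (Fin 3) (Fin 3) F) ≠ c • 1) →
        ∃ u v : Matrix.SpecialLinearGroup (Fin 3) F, g = u * D * u⁻¹ * (v * D * v⁻¹) by
    obtain ⟨D, ⟨k, hk, hpk⟩, hD⟩ := h
    refine ⟨π D, fun hd => hpk (hd.trans ((orderOf_map_dvd π D).trans (orderOf_dvd_of_pow_eq_one hk))), fun g hg => ?_⟩
    obtain ⟨g, rfl⟩ := QuotientGroup.mk'_surjective _ g
    obtain ⟨u, v, huv⟩ := hD g fun c hc => hg ((QuotientGroup.eq_one_iff g).2 (by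
      rw [Subgroup.mem_center_iff]
      intro y
      apply Subtype.ext
      rw [Matrix.SpecialLinearGroup.coe_mul, Matrix.SpecialLinearGroup.coe_mul, hc, Matrix.mul_smul, Matrix.smul_mul,
        Matrix.mul_one, Matrix.one_mul]))
    exact ⟨π u, π v, by rw [huv]; simp only [map_mul, map_inv]; rfl⟩
  by_cases h4 : 4 ≤ Fintype.card F
  · obtain ⟨a, ha0, ha1⟩ : ∃ a : F, a ≠ 0 ∧ a ^ 2 ≠ 1 := by
      by_contra hcon
      push Not at hcon
      have hsub : (Finset.univ : Finset F) ⊆ {0, 1, -1} := fun a _ => by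
        by_cases ha : a = 0
        · simp [ha]
        · rcases sq_eq_one_iff.1 (hcon a ha) with h | h <;> rw [h] <;> simp only [Finset.mem_insert, Finset.mem_singleton, true_or, or_true]
      have := Finset.card_le_card hsub
      have h3' : ({0, 1, -1} : Finset F).card ≤ 3 := Finset.card_le_three
      rw [Finset.card_univ] at this
      omega
    have hinj : Function.Injective ![a, a⁻¹, 1] := by
      have e1 : a ≠ a⁻¹ := fun h => ha1 (by rw [pow_two]; nth_rw 2 [h]; exact mul_inv_cancel₀ ha0)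
      have e2 : a ≠ 1 := fun h => ha1 (by rw [h, one_pow])
      have e3 : a⁻¹ ≠ 1 := fun h => e2 (inv_eq_one.1 h)
      intro i j hij
      fin_cases i <;> fin_cases j <;> first | rfl | (exfalso; simp [e1, e1.symm, e2, e2.symm, e3, e3.symm] at hij)
    have hne : ∀ i, ![a, a⁻¹, 1] i ≠ 0 := fun i => by fin_cases i <;> simp [ha0]
    let D : Matrix.SpecialLinearGroup (Fin 3) F :=
      ⟨Matrix.diagonal ![a, a⁻¹, 1], by simp [Matrix.det_diagonal, Fin.prod_univ_three, mul_inv_cancel₀ ha0]⟩
    refine ⟨D, ⟨Fintype.card F - 1, ?_, ?_⟩, fun g hg => H41.exists_two_conj_diagonal hinj hne D g rfl hg⟩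
    · apply Subtype.ext
      rw [Matrix.SpecialLinearGroup.coe_pow]
      change (Matrix.diagonal ![a, a⁻¹, 1]) ^ _ = 1
      rw [Matrix.diagonal_pow, ← Matrix.diagonal_one]
      congr 1
      funext i
      exact FiniteField.pow_card_sub_one_eq_one _ (hne i)
    · intro hd
      obtain ⟨m, _, hm⟩ := FiniteField.card F p
      have h1 : p ∣ Fintype.card F := hm ▸ dvd_pow_self p m.ne_zero
      have h2 : p ∣ 1 := by
        have := Nat.dvd_sub h1 hd
        rwa [show Fintype.card F - (Fintype.card F - 1) = 1 by omega] at this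
      exact (Fact.out : p.Prime).not_dvd_one h2
  · have hq : Fintype.card F = 3 := by omega
    have hp3 : p = 3 := by
      obtain ⟨m, _, hm⟩ := FiniteField.card F p
      have h1 : p ∣ 3 := hq ▸ hm ▸ dvd_pow_self p m.ne_zero
      exact (Nat.prime_dvd_prime_iff_eq Fact.out Nat.prime_three).1 h1
    subst hp3
    let e : ZMod 3 ≃+* F := ZMod.ringEquivOfPrime F Nat.prime_three hq
    let D₀ : Matrix.SpecialLinearGroup (Fin 3) (ZMod 3) := ⟨H41.T33.base, by decide⟩
    have hD₀ : D₀ ^ 13 = 1 := by decide +kernel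
    refine ⟨H37.slCongr e D₀, ⟨13, by rw [← map_pow, hD₀, map_one], by norm_num⟩, fun g hg => ?_⟩
    obtain ⟨g, rfl⟩ := (H37.slCongr e).surjective g
    obtain ⟨u, v, huv⟩ := H41.sl33_two_conj D₀ g rfl fun c hc => hg (e c) (by
      change (g : Matrix (Fin 3) (Fin 3) (ZMod 3)).map e = _
      rw [hc]
      ext i j
      by_cases hij : i = j <;> simp [hij])
    exact ⟨H37.slCongr e u, H37.slCongr e v, by rw [huv]; simp only [map_mul, map_inv]⟩

end Cfsg.Agent.S2459
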