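import Cfsg.Statements.S2462
import Cfsg.Agent.H35.D4Cover.Main
import Cfsg.Agent.H35.D4Cover.Two

set_option autoImplicit false
open Cfsg

namespace Cfsg.Agent.S2462

open H35.D4Cover

theorem conclude {K : Type*} [Field K] [Fintype K] {p q : ℕ} [Fact p.Prime] [CharP K p] (hq : IsPrimePow q)
    (hK : Fintype.card K = q ^ 3) {f : K ≃+* K} (hf : H35.D4Min.Frob q f) (P : Par f)
    (h : ∀ g ∈ Cfsg.Lie.twistedD4 K q, g ≠ 1 → P.Cov q g) :
    ∃ x : Cfsg.Lie.twistedD4 K q, ¬ p ∣ orderOf x ∧ ∀ g : Cfsg.Lie.twistedD4 K q, g ≠ 1 →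
      ∃ u v : Cfsg.Lie.twistedD4 K q, g = (u * x * u⁻¹) * (v * x * v⁻¹) := by
  refine ⟨⟨P.el, LL_tw (Par.el_LL P hf)⟩, ?_, fun g hg => ?_⟩
  · rw [Subgroup.orderOf_mk]
    exact Par.el_order hf hq hK P
  · obtain ⟨y, z, ⟨u, hu, ey⟩, ⟨v, hv, ez⟩, e⟩ := h g g.2 fun e => hg (Subtype.ext e)
    exact ⟨⟨u, hu⟩, ⟨v, hv⟩, Subtype.ext (by
      show (g : GL _ K) = (u * P.el * u⁻¹) * (v * P.el * v⁻¹)
      rw [ey, ez, e])⟩

theorem field_five {F : Type*} [Field F] (h5 : (5 : F) = 0) (hpow : ∀ r : F, r ^ 5 = r) (r : F) :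
    r * r - 1 * r + 2 ≠ 0 := by
  intro h
  have h1 : 2 * r = 6 := by
    have := hpow r
    linear_combination -this + (r ^ 3 + r ^ 2 - r - 3) * h
  have h2 : r = 3 := by linear_combination 3 * h1 + (3 - r) * h5
  subst h2
  exact one_ne_zero (show (1 : F) = 0 by linear_combination 2 * h - 3 * h5)


/-- A form of Thompson's conjecture for the triality groups ³D₄(q) (covering the non-identity elements) with a semisimple class: for q a power of the prime p and K the field with q³ elements there is an element x of ³D₄(q) (realised over K) of order prime to p such that every non-identity element of ³D₄(q) is a product of two conjugates of x. -/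
theorem result {K : Type*} [Field K] [Fintype K] (p : ℕ) [Fact p.Prime] [CharP K p] (q : ℕ) (hq : IsPrimePow q) (hK : Fintype.card K = q ^ 3) :
    ∃ x : Cfsg.Lie.twistedD4 K q, ¬ p ∣ orderOf x ∧ ∀ g : Cfsg.Lie.twistedD4 K q, g ≠ 1 → ∃ u v : Cfsg.Lie.twistedD4 K q, g = (u * x * u⁻¹) * (v * x * v⁻¹) := by
  obtain ⟨f, hf0⟩ := H53.D4T.exists_f hq hK
  have hf : H35.D4Min.Frob q f := ⟨hf0, fun t => by rw [hf0, hf0, hf0]; exact H53.D4T.qqq hK t⟩
  classical
  have : Fintype (fixF f) := Fintype.ofFinite _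
  have hcard : Fintype.card (fixF f) = q := by
    rw [← Nat.card_eq_fintype_card, ← H35.D4Min.card_Fx hf hq hK]
    exact Nat.card_congr (Equiv.subtypeEquivRight fun t => Iff.rfl)
  have hpq : ∀ r : ℕ, r.Prime → q = r → p = r := by
    intro r hr e
    obtain ⟨n, hp, hn⟩ := FiniteField.card K p
    have : p ∣ r ^ 3 := by rw [← e, ← hK, hn]; exact dvd_pow_self _ n.ne_zero
    exact (Nat.prime_dvd_prime_iff_eq hp hr).1 (hp.dvd_of_dvd_pow this)
  by_cases hq2 : q = 2
  · subst hq2
    have hp := hpq 2 Nat.prime_two rfl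
    subst hp
    have two : (2 : K) = 0 := CharTwo.two_eq_zero
    obtain ⟨z, hz⟩ := H35.D4Min.f_ne_id hf hq hK
    have hz0 : z ≠ 0 := fun e => hz (by rw [e, map_zero])
    have h7 : z ^ 7 = 1 := by
      have := FiniteField.pow_card_sub_one_eq_one z hz0
      rw [hK] at this
      exact this
    obtain ⟨c, hc0, hc3⟩ : ∃ c : K, c ≠ 0 ∧ c ^ 3 = c + 1 := by
      have h : (z - 1) * ((z ^ 3 + z + 1) * (z ^ 3 + z ^ 2 + 1)) = 0 := by
        linear_combination h7 + (z ^ 4 - z ^ 3) * two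
      rcases mul_eq_zero.1 h with e | e
      · exact absurd (by rw [sub_eq_zero.1 e, map_one]) hz
      rcases mul_eq_zero.1 e with e | e
      · exact ⟨z, hz0, by linear_combination e - (z + 1) * two⟩
      · refine ⟨z⁻¹, inv_ne_zero hz0, ?_⟩
        field_simp
        linear_combination e - (z ^ 2 + z ^ 3) * two
    let P : Par f :=
      { c := Units.mk0 c hc0, τ := 1, D := 1, τne := one_ne_zero, Dne := one_ne_zero,
        irr := fun r h => by
          have e : r ^ 2 = r := by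
            have := FiniteField.pow_card r
            rwa [hcard] at this
          exact one_ne_zero (show (1 : fixF f) = 0 by linear_combination h - e) }
    have hc : f (P.c : K) ≠ P.c := by
      intro e
      rcases Two.fix_or hf e with e1 | e1
      · exact hc0 e1
      · change c = 1 at e1
        rw [e1] at hc3
        exact one_ne_zero (show (1 : K) = 0 by linear_combination -hc3)
    exact conclude hq hK hf P fun g hg hg1 =>
      Two.cov_all hf hK P rfl (Two.reg hf hK P rfl rfl hc) hc3 hg hg1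
  have hq3 : 3 ≤ q := by have := hq.two_le; omega
  obtain ⟨r, hr0, hr1⟩ : ∃ r : fixF f, r ≠ 0 ∧ r ≠ 1 := by
    by_contra h
    push Not at h
    have : (Finset.univ : Finset (fixF f)) ⊆ {0, 1} := fun r _ => by
      by_cases h0 : r = 0
      · simp [h0]
      · simp [h r h0]
    have h2 := (Finset.card_le_card this).trans Finset.card_le_two
    rw [Finset.card_univ, hcard] at h2
    omega
  obtain ⟨D, ν, hν0, hirr, hν, hν'⟩ : ∃ D ν : fixF f, ν ≠ 0 ∧ (∀ r : fixF f, r * r - 1 * r + D ≠ 0) ∧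
      ν ^ 2 ≠ D ^ 3 ∧ (ν ^ 2 ≠ -D ^ 3 ∨ q = 3) := by
    have hpow : ∀ r : fixF f, r ^ q = r := fun r => by rw [← hcard]; exact FiniteField.pow_card r
    by_cases h5 : q = 5
    · subst h5
      have hp := hpq 5 (by norm_num) rfl
      subst hp
      have f5 : (5 : fixF f) = 0 := (fixF f).subtype_injective (by rw [map_ofNat, map_zero]; exact_mod_cast CharP.cast_eq_zero K 5)
      exact ⟨2, 1, one_ne_zero, field_five f5 hpow, fun e => one_ne_zero (show (1 : fixF f) = 0 by
        linear_combination 2 * e + 3 * f5), Or.inl fun e => one_ne_zero (show (1 : fixF f) = 0 by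
        linear_combination 2 * f5 - e)⟩
    obtain ⟨D, hD⟩ := Mat.exists_D (F := fixF f)
    have hD0 : D ≠ 0 := fun e => hD 0 (by rw [e]; ring)
    by_cases h3 : q = 3
    · subst h3
      have hp := hpq 3 Nat.prime_three rfl
      subst hp
      have f3 : (3 : fixF f) = 0 := (fixF f).subtype_injective (by rw [map_ofNat, map_zero]; exact_mod_cast CharP.cast_eq_zero K 3)
      refine ⟨D, 1, one_ne_zero, hD, fun e => hD (-1) ?_, Or.inr rfl⟩
      linear_combination f3 - (e + hpow D)
    by_contra hne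
    push Not at hne
    obtain ⟨g, hg⟩ := IsCyclic.exists_generator (α := (fixF f)ˣ)
    have hord : orderOf g = q - 1 := by
      rw [orderOf_eq_card_of_forall_mem_zpowers hg, Nat.card_units, Nat.card_eq_fintype_card, hcard]
    have h4 : ∀ ν : fixF f, ν ≠ 0 → ν ^ 4 = D ^ 6 := fun ν hν => by
      by_cases e : ν ^ 2 = D ^ 3
      · linear_combination (ν ^ 2 + D ^ 3) * e
      · linear_combination (ν ^ 2 - D ^ 3) * (hne D ν hν hD e).1
    have hg4 : g ^ 4 = 1 := Units.ext (by
      rw [Units.val_pow_eq_pow_val, h4 _ g.ne_zero, ← h4 1 one_ne_zero, one_pow, Units.val_one])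
    have hdvd := orderOf_dvd_of_pow_eq_one hg4
    rw [hord] at hdvd
    have := Nat.le_of_dvd (by norm_num) hdvd
    have hq4 : q = 4 := by omega
    rw [hq4] at hdvd
    norm_num at hdvd
  have hνK : (ν : K) ≠ 0 := fun e => hν0 (Subtype.ext e)
  obtain ⟨t, ht⟩ := H35.D4Min.exists_Nm hf hq hK ν.2 hνK
  obtain ⟨c, hc, hN⟩ := exists_c hf ν.2 hνK (H35.D4Min.f_ne_id hf hq hK) ⟨t, ht⟩
  let P : Par f :=
    { c := c, τ := 1, D := D, τne := one_ne_zero, Dne := fun e => hirr 0 (by rw [e]; ring), irr := hirr }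
  have h1 : H35.D4Min.Nm f (P.c : K) ^ 2 ≠ (P.D : K) ^ 3 := by
    show H35.D4Min.Nm f (c : K) ^ 2 ≠ (D : K) ^ 3
    rw [hN]
    exact fun e => hν (Subtype.ext (by simpa using e))
  have h2 : H35.D4Min.Nm f (P.c : K) ^ 2 ≠ -(P.D : K) ^ 3 ∨ q = 3 := by
    show H35.D4Min.Nm f (c : K) ^ 2 ≠ -(D : K) ^ 3 ∨ q = 3
    rw [hN]
    exact hν'.imp_left fun h e => h (Subtype.ext (by simpa using e))
  exact conclude hq hK hf P fun g hg hg1 =>
    H35.D4Cover.cov_all hf hq hK P (Par.reg_of hf hq hK P hc h1) hc h1 h2 r.2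
      (fun e => hr0 (Subtype.ext e)) (fun e => hr1 (Subtype.ext e)) hg hg1

end Cfsg.Agent.S2462
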