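import Cfsg.Statements.S2463
import Cfsg.Agent.H53.F4SquareEight
import Cfsg.Agent.H53.TitsSquare

set_option autoImplicit false
set_option maxRecDepth 20000
set_option maxHeartbeats 400000
open Cfsg

namespace Cfsg.Agent.S2463

/-- A form of Thompson's conjecture for the simple groups of type ²F₄ (covering the non-identity elements) with a semisimple class: if M is a large Ree group ²F₄(2^(2m+1)) with m ≥ 1, or the Tits group, then there is an element x of M of odd order such that every non-identity element of M is a product of two conjugates of x. -/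
theorem result {M : Type*} [Group M] [Finite M] (hM : Cfsg.Lie.Iso2F4 M ∨ Cfsg.Lie.IsoTits M) :
    ∃ x : M, Odd (orderOf x) ∧ ∀ g : M, g ≠ 1 → ∃ u v : M, g = (u * x * u⁻¹) * (v * x * v⁻¹) := by
  have tr : ∀ {G : Type} [Group G], Nonempty (M ≃* G) →
      (∃ x : G, Odd (orderOf x) ∧ ∀ g : G, g ≠ 1 → ∃ u v : G, g = (u * x * u⁻¹) * (v * x * v⁻¹)) →
      ∃ x : M, Odd (orderOf x) ∧ ∀ g : M, g ≠ 1 → ∃ u v : M, g = (u * x * u⁻¹) * (v * x * v⁻¹) := by
    intro G _ ⟨e⟩ ⟨x, hx, hg⟩
    refine ⟨e.symm x, by rwa [MulEquiv.orderOf_eq], fun g hg1 => ?_⟩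
    obtain ⟨u, v, huv⟩ := hg (e g) (fun h => hg1 (e.map_eq_one_iff.1 h))
    refine ⟨e.symm u, e.symm v, ?_⟩
    have h := congrArg e.symm huv
    simpa only [MulEquiv.symm_apply_apply, map_mul, map_inv] using h
  rcases hM with ⟨K, _, _, m, hm, hK, ⟨iso⟩⟩ | hT
  · refine tr (G := ↥(H32.FF.FG K m))
      ⟨iso.trans (Subgroup.subgroupOfEquivOfLe
        (H53.F4T.twisted_le (K := K) (2 ^ m))).symm⟩ ?_
    by_cases hm1 : m = 1
    · subst hm1
      exact H53.F4Sq.exists_eight hK
    · exact H53.F4Sq.exists_large hK hm (by omega)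
  · have trS : ∀ {A : Type} [Group A] (S : Subgroup A), Nonempty (M ≃* ↥S) →
        (∃ x : ↥S, Odd (orderOf x) ∧
          ∀ g : ↥S, g ≠ 1 → ∃ u v : ↥S, g = (u * x * u⁻¹) * (v * x * v⁻¹)) →
        ∃ x : M, Odd (orderOf x) ∧
          ∀ g : M, g ≠ 1 → ∃ u v : M, g = (u * x * u⁻¹) * (v * x * v⁻¹) :=
      fun {A} _ S h h' => tr h h'
    refine trS (commutator (Cfsg.Lie.twistedF4 (ZMod 2) 1)) hT ?_
    with_reducible exact H53.TitsSq.exists_tits

end Cfsg.Agent.S2463
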