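import Cfsg.Statements.S2466
import Cfsg.Agent.H63.AltOrders
import Mathlib

set_option autoImplicit false
open Cfsg

namespace Cfsg.Agent.S2466

/-- Adjacency of odd primes in the prime graph of the alternating groups: let r ≠ s be odd primes at most n. The alternating group of degree n has an element of order r·s if and only if r + s ≤ n. -/
theorem result (n r s : ℕ) (hr : r.Prime) (hs : s.Prime) (hr2 : r ≠ 2) (hs2 : s ≠ 2) (hrs : r ≠ s) (hrn : r ≤ n) (hsn : s ≤ n) :
    (r * s ∈ Set.range (orderOf : alternatingGroup (Fin n) → ℕ)) ↔ r + s ≤ n := by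
  rw [H63.mem_range_orderOf_alt]
  constructor
  · rintro ⟨m, hsum, h2, -, hl⟩
    have hdiv : ∀ a ∈ m, a = r ∨ a = s ∨ a = r * s := by
      intro a ha
      have hd : a ∣ r * s := hl ▸ Multiset.dvd_lcm ha
      obtain ⟨b, c, hb, hc, rfl⟩ := (Nat.dvd_mul).mp hd
      have := h2 _ ha
      clear hl hd
      rcases (Nat.dvd_prime hr).mp hb with rfl | rfl <;> rcases (Nat.dvd_prime hs).mp hc with rfl | rfl <;> first | omega | simp
    have h4 : r + s ≤ r * s := by
      have := hr.two_le; have := hs.two_le; nlinarith
    by_cases hrs_mem : r * s ∈ m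
    · have := Multiset.le_sum_of_mem hrs_mem; omega
    · have hrm : r ∈ m := by
        by_contra hrm
        have : m.lcm ∣ s := Multiset.lcm_dvd.mpr fun a ha => by
          rcases hdiv a ha with rfl | rfl | rfl <;> first | contradiction | rfl
        rw [hl] at this
        have := Nat.le_of_dvd hs.pos this
        have := hr.two_le; nlinarith [hs.two_le]
      have hsm : s ∈ m := by
        by_contra hsm
        have : m.lcm ∣ r := Multiset.lcm_dvd.mpr fun a ha => by
          rcases hdiv a ha with rfl | rfl | rfl <;> first | contradiction | rfl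
        rw [hl] at this
        have := Nat.le_of_dvd hr.pos this
        have := hs.two_le; nlinarith [hr.two_le]
      obtain ⟨m', rfl⟩ := Multiset.exists_cons_of_mem hrm
      have : s ∈ m' := (Multiset.mem_cons.mp hsm).resolve_left (Ne.symm hrs)
      have := Multiset.le_sum_of_mem this
      simp at hsum
      omega
  · intro h
    refine ⟨{r, s}, by simpa using h, by simp [hr.two_le, hs.two_le], ?_, ?_⟩
    · have h1 := hr.odd_of_ne_two hr2; have h2 := hs.odd_of_ne_two hs2
      simp [Nat.even_add, Nat.not_even_iff_odd.mpr h1, Nat.not_even_iff_odd.mpr h2]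
    · simp [Nat.lcm, (Nat.coprime_primes hr hs).mpr hrs, lcm_eq_nat_lcm, Nat.Coprime.lcm_eq_mul]

end Cfsg.Agent.S2466
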