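import Cfsg.Statements.S2467
import Cfsg.Agent.H63.AltOrders
import Mathlib

set_option autoImplicit false
open Cfsg

namespace Cfsg.Agent.S2467

/-- Adjacency of 2 and an odd prime in the prime graph of the alternating groups: let r be an odd prime at most n, with n ≥ 4. The alternating group of degree n has an element of order 2r if and only if r + 4 ≤ n. -/
theorem result (n r : ℕ) (hn : 4 ≤ n) (hr : r.Prime) (hr2 : r ≠ 2) (hrn : r ≤ n) :
    (2 * r ∈ Set.range (orderOf : alternatingGroup (Fin n) → ℕ)) ↔ r + 4 ≤ n := by
  rw [H63.mem_range_orderOf_alt]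
  constructor
  · rintro ⟨m, hsum, h2, he, hl⟩
    have hdiv : ∀ a ∈ m, a = 2 ∨ a = r ∨ a = 2 * r := by
      intro a ha
      have hd : a ∣ 2 * r := hl ▸ Multiset.dvd_lcm ha
      obtain ⟨b, c, hb, hc, rfl⟩ := (Nat.dvd_mul).mp hd
      have := h2 _ ha
      clear hl hd
      rcases (Nat.dvd_prime Nat.prime_two).mp hb with rfl | rfl <;> rcases (Nat.dvd_prime hr).mp hc with rfl | rfl <;> first | omega | simp
    have hodd := hr.odd_of_ne_two hr2
    have h3 : 3 ≤ r := by rcases hodd with ⟨c, hc⟩; have := hr.two_le; omega
    have key : ∀ t : Multiset ℕ, (∀ a ∈ t, a = r) → Even (t.sum + Multiset.card t) := by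
      intro t ht
      rw [Multiset.eq_replicate_card.mpr ht]
      simp [Nat.even_add, Nat.even_mul, Nat.not_even_iff_odd, hodd]
    by_cases hB : 2 * r ∈ m
    · obtain ⟨t, rfl⟩ := Multiset.exists_cons_of_mem hB
      by_contra hcon
      simp at hsum he
      have ht : ∀ a ∈ t, a = r := by
        intro a ha
        have := Multiset.le_sum_of_mem ha
        rcases hdiv a (Multiset.mem_cons_of_mem ha) with rfl | rfl | rfl
        · omega
        · rfl
        · omega
      have h1 := key t ht
      rw [Nat.even_iff] at he h1
      omega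
    · have hrm : r ∈ m := by
        by_contra hrm
        have : m.lcm ∣ 2 := Multiset.lcm_dvd.mpr fun a ha => by
          rcases hdiv a ha with rfl | rfl | rfl <;> first | contradiction | rfl
        rw [hl] at this
        have := Nat.le_of_dvd two_pos this
        omega
      have h2m : 2 ∈ m := by
        by_contra h2m
        have : m.lcm ∣ r := Multiset.lcm_dvd.mpr fun a ha => by
          rcases hdiv a ha with rfl | rfl | rfl <;> first | contradiction | rfl
        rw [hl] at this
        have := Nat.le_of_dvd hr.pos this
        omega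
      obtain ⟨t, rfl⟩ := Multiset.exists_cons_of_mem hrm
      have h2t : 2 ∈ t := (Multiset.mem_cons.mp h2m).resolve_left (Ne.symm hr2)
      obtain ⟨u, rfl⟩ := Multiset.exists_cons_of_mem h2t
      by_contra hcon
      simp at hsum he
      have hu : ∀ a ∈ u, a = r := by
        intro a ha
        have := Multiset.le_sum_of_mem ha
        rcases hdiv a (Multiset.mem_cons_of_mem (Multiset.mem_cons_of_mem ha)) with rfl | rfl | rfl
        · omega
        · rfl
        · omega
      have h1 := key u hu
      rw [Nat.odd_iff] at hodd
      rw [Nat.even_iff] at he h1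
      omega
  · intro h
    refine ⟨{2, 2, r}, ?_, by simp [hr.two_le], ?_, ?_⟩
    · simp; omega
    · have := hr.odd_of_ne_two hr2
      rw [Nat.odd_iff] at this
      simp [Nat.even_iff]; omega
    · simp [lcm_eq_nat_lcm]
      exact Nat.Coprime.lcm_eq_mul ((Nat.coprime_primes Nat.prime_two hr).mpr (Ne.symm hr2))

end Cfsg.Agent.S2467
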