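import Cfsg.Statements.S2468
import Cfsg.Agent.H41.SemisimpleOrder
-- import your own Cfsg.Agent.* helpers here

set_option autoImplicit false
open Cfsg
set_option linter.style.haveILetI false
set_option linter.unusedVariables false

namespace Cfsg.Agent.S2468

/-- Adjacency of two odd primes in the prime graph of PSL(n,q): let F be a finite field of characteristic p with q elements, n ≥ 2 with PSL(n,F) simple, and let r ≠ s be odd primes different from p dividing the order of PSL(n,F). Let k and l be the multiplicative orders of q modulo r and modulo s, and suppose 2 ≤ k ≤ l. Then PSL(n,F) has NO element of order r·s if and only if k + l > n and k does not divide l. -/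
theorem result {F : Type*} [Field F] [Fintype F] (p : ℕ) [Fact p.Prime] [CharP F p] (n : ℕ) (hn : 2 ≤ n) (hsmall : n = 2 → 4 ≤ Fintype.card F)
    (r s : ℕ) (hr : r.Prime) (hs : s.Prime) (hr2 : r ≠ 2) (hs2 : s ≠ 2) (hrp : r ≠ p) (hsp : s ≠ p) (hrs : r ≠ s)
    (hrG : r ∣ Nat.card (Matrix.ProjectiveSpecialLinearGroup (Fin n) F)) (hsG : s ∣ Nat.card (Matrix.ProjectiveSpecialLinearGroup (Fin n) F))
    (k l : ℕ) (hk : k = orderOf ((Fintype.card F : ℕ) : ZMod r)) (hl : l = orderOf ((Fintype.card F : ℕ) : ZMod s))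
    (h2k : 2 ≤ k) (hkl : k ≤ l) :
    (r * s ∉ Set.range (orderOf : Matrix.ProjectiveSpecialLinearGroup (Fin n) F → ℕ)) ↔ (n < k + l ∧ ¬ k ∣ l) := by
  classical
  haveI : Nonempty (Fin n) := ⟨⟨0, by omega⟩⟩
  haveI := Fact.mk hr
  haveI := Fact.mk hs
  have h2l : 2 ≤ l := h2k.trans hkl
  have hrq : ¬ r ∣ Fintype.card F - 1 := H41.not_dvd_card_sub_one_of_two_le (hk ▸ h2k)
  have hsq : ¬ s ∣ Fintype.card F - 1 := H41.not_dvd_card_sub_one_of_two_le (hl ▸ h2l)
  have hcop : Nat.Coprime (r * s) (Fintype.card F - 1) :=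
    Nat.Coprime.mul_left (hr.coprime_iff_not_dvd.2 hrq) (hs.coprime_iff_not_dvd.2 hsq)
  have hrscop : Nat.Coprime r s := (Nat.coprime_primes hr hs).2 hrs
  have hkn : k ≤ n := hk ▸ H41.orderOf_le_of_dvd_psl p hr hrp hrG
  have hln : l ≤ n := hl ▸ H41.orderOf_le_of_dvd_psl p hs hsp hsG
  constructor
  · intro h
    by_contra hcon
    rw [not_and_or, not_lt, not_not] at hcon
    apply h
    rcases hcon with hsum | hdvd
    · obtain ⟨A, hA, hoA⟩ := H41.exists_gl_orderOf (F := F) k k r (by omega) le_rfl (H41.dvd_card_pow_sub_one hk dvd_rfl)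
      obtain ⟨B, hB, hoB⟩ := H41.exists_gl_orderOf (F := F) (n - k) l s (by omega) (by omega)
        (H41.dvd_card_pow_sub_one hl dvd_rfl)
      obtain ⟨C, hC, hoC⟩ := H41.exists_block_orderOf (show k + (n - k) = n by omega) A B hA hB
      rw [hoA, hoB, hrscop.lcm_eq_mul] at hoC
      obtain ⟨x, hx⟩ := H41.exists_psl_orderOf_of_coprime C hC hoC hcop
      exact ⟨x, hx⟩
    · obtain ⟨A, hA, hoA⟩ := H41.exists_gl_orderOf (F := F) n l (r * s) (by omega) hln
        (hrscop.mul_dvd_of_dvd_of_dvd (H41.dvd_card_pow_sub_one hk hdvd) (H41.dvd_card_pow_sub_one hl dvd_rfl))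
      obtain ⟨x, hx⟩ := H41.exists_psl_orderOf_of_coprime A hA hoA hcop
      exact ⟨x, hx⟩
  · rintro ⟨hgt, hndvd⟩ ⟨x, hx⟩
    obtain ⟨A, -, hoA⟩ := H41.exists_lift_orderOf x (by rw [hx]; exact hcop)
    rw [hx] at hoA
    have hN : ((r * s : ℕ) : F) ≠ 0 := by
      rw [Nat.cast_mul]
      exact mul_ne_zero (H41.cast_ne_zero_of_prime p hr hrp) (H41.cast_ne_zero_of_prime p hs hsp)
    have hA : A.val ^ (r * s) = 1 := hoA ▸ pow_orderOf_eq_one _
    obtain ⟨f, hf, hfd, hrf, -, hkf⟩ := H41.exists_factor_root_order A.val hN hA hr (hoA ▸ dvd_mul_right r s)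
    obtain ⟨g, hg, hgd, hsg, -, hlg⟩ := H41.exists_factor_root_order A.val hN hA hs (hoA ▸ dvd_mul_left s r)
    rw [← hk] at hkf
    rw [← hl] at hlg
    have hm0 : minpoly F A.val ≠ 0 := minpoly.ne_zero (Matrix.isIntegral _)
    have hdeg := H41.natDegree_minpoly_le A.val
    have hkle : k ≤ f.natDegree := Nat.le_of_dvd hf.natDegree_pos hkf
    have hlle : l ≤ g.natDegree := Nat.le_of_dvd hg.natDegree_pos hlg
    by_cases hfg : Associated f g
    · have hlf : l ∣ f.natDegree := by
        rw [Polynomial.natDegree_eq_of_degree_eq (Polynomial.degree_eq_degree_of_associated hfg)]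
        exact hlg
      have hlcm : Nat.lcm k l ≤ n := (Nat.le_of_dvd hf.natDegree_pos (Nat.lcm_dvd hkf hlf)).trans
        ((Polynomial.natDegree_le_of_dvd hfd hm0).trans hdeg)
      obtain ⟨c, hc⟩ := Nat.dvd_lcm_right k l
      have hc2 : 2 ≤ c := by
        by_contra hc2
        rcases (show c = 0 ∨ c = 1 by omega) with rfl | rfl
        · rw [mul_zero] at hc
          exact (Nat.lcm_pos (show 0 < k by omega) (show 0 < l by omega)).ne' hc
        · rw [mul_one] at hc
          exact hndvd (hc ▸ Nat.dvd_lcm_left k l)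
      have hlc : l * 2 ≤ l * c := Nat.mul_le_mul_left l hc2
      omega
    · have hcp : IsCoprime f g := hf.coprime_iff_not_dvd.2 fun h => hfg (hf.associated_of_dvd hg h)
      have := Polynomial.natDegree_le_of_dvd (hcp.mul_dvd hfd hgd) hm0
      rw [Polynomial.natDegree_mul hf.ne_zero hg.ne_zero] at this
      omega

end Cfsg.Agent.S2468
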