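import Cfsg.Statements.S2470
import Cfsg.Agent.H41.SemisimpleOrder
import Cfsg.Agent.H64.SL2Spectrum
-- import your own Cfsg.Agent.* helpers here

set_option autoImplicit false
open Cfsg
set_option linter.style.haveILetI false
set_option linter.unusedVariables false

namespace Cfsg.Agent.S2470

open Polynomial

variable {F : Type*} [Field F] [Fintype F] {n : ℕ} (p : ℕ) [Fact p.Prime] [CharP F p]

/-- A diagonal element commuting with a transvection. -/
lemma exists_diag_tv (hn : 3 ≤ n) {r : ℕ} (hr : r.Prime) (hrp : r ≠ p) (ρ : Fˣ)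
    (key : ∀ j : ℕ, (ρ ^ (3 * j) = 1 ∧ (4 ≤ n → ρ ^ j = 1)) ↔ r ∣ j) :
    ∃ x : Matrix.ProjectiveSpecialLinearGroup (Fin n) F, orderOf x = r * p := by
  classical
  obtain ⟨m, rfl⟩ : ∃ m, n = m + 3 := ⟨n - 3, by omega⟩
  haveI : Nonempty (Fin (m + 3)) := ⟨0⟩
  let a : Fin (m + 3) → F := fun x =>
    if x.val < 2 then (ρ : F) else if x.val = 2 then (((ρ ^ 2)⁻¹ : Fˣ) : F) else 1
  have hi : (0 : Fin (m + 3)) ≠ 1 := by simp [Fin.ext_iff]
  have hdet : (Matrix.diagonal a * Matrix.transvection (0 : Fin (m + 3)) 1 1).det = 1 := by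
    rw [Matrix.det_mul, Matrix.det_diagonal, Matrix.det_transvection_of_ne _ _ hi, mul_one,
      Fin.prod_univ_succ, Fin.prod_univ_succ, Fin.prod_univ_succ]
    simp [a, Nat.mod_eq_of_lt (show 2 < m + 3 by omega), Nat.mod_eq_of_lt (show 1 < m + 3 by omega)]
    field_simp
  let A : Matrix.SpecialLinearGroup (Fin (m + 3)) F := ⟨_, hdet⟩
  have hcomm : Commute (Matrix.diagonal a) (Matrix.transvection (0 : Fin (m + 3)) 1 (1 : F)) := by
    refine (Commute.one_right _).add_right ?_
    unfold Commute SemiconjBy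
    ext x y
    rw [Matrix.diagonal_mul, Matrix.mul_diagonal]
    by_cases hxy : (0 : Fin (m + 3)) = x ∧ (1 : Fin (m + 3)) = y
    · rw [← hxy.1, ← hxy.2]; simp [a]
    · simp [Matrix.single, hxy]
  have htv : ∀ j : ℕ, Matrix.transvection (0 : Fin (m + 3)) 1 (1 : F) ^ j =
      Matrix.transvection (0 : Fin (m + 3)) 1 (j : F) := by
    intro j
    induction j with
    | zero => simp [Matrix.transvection]
    | succ j ih => rw [pow_succ, ih, Matrix.transvection_mul_transvection_same _ _ hi, Nat.cast_succ]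
  have hpow : ∀ j : ℕ, ∀ x y, (A ^ j).val x y = a x ^ j * (Matrix.transvection (0 : Fin (m + 3)) 1 (j : F)) x y := by
    intro j x y
    rw [Matrix.SpecialLinearGroup.coe_pow]
    show (((Matrix.diagonal a * Matrix.transvection (0 : Fin (m + 3)) 1 1 : Matrix (Fin (m + 3)) (Fin (m + 3)) F)) ^ j) x y = _
    rw [hcomm.mul_pow, htv, Matrix.diagonal_pow, Matrix.diagonal_mul, Pi.pow_apply]
  have hiff : ∀ j : ℕ, (QuotientGroup.mk A : Matrix.ProjectiveSpecialLinearGroup (Fin (m + 3)) F) ^ j = 1 ↔
      r ∣ j ∧ p ∣ j := by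
    intro j
    rw [← QuotientGroup.mk_pow, H41.pslMk_eq_one_iff, ← key j, ← CharP.cast_eq_zero_iff F p j]
    constructor
    · rintro ⟨c, hc⟩
      have e : ∀ x y, (A ^ j).val x y = if x = y then c else 0 := fun x y => by
        rw [hc, Matrix.scalar_apply, Matrix.diagonal_apply]
      have e01 := e 0 1
      have e00 := e 0 0
      have e22 := e 2 2
      rw [hpow] at e01 e00 e22
      simp [Matrix.transvection, Matrix.single, a, Fin.ext_iff, Nat.mod_eq_of_lt (show 2 < m + 3 by omega)] at e01 e00 e22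
      refine ⟨⟨Units.ext ?_, fun h4 => Units.ext ?_⟩, e01⟩
      · push_cast
        rw [← e00] at e22
        field_simp at e22
        first
          | exact e22.symm
          | linear_combination e22
          | linear_combination -e22
      · have e33 := e ⟨3, by omega⟩ ⟨3, by omega⟩
        rw [hpow] at e33
        simp [Matrix.transvection, Matrix.single, a, Fin.ext_iff, Matrix.one_apply] at e33
        push_cast
        rw [e00, ← e33]
    · rintro ⟨⟨h3, h4⟩, hj⟩
      refine ⟨(ρ : F) ^ j, ?_⟩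
      ext x y
      rw [hpow, hj, Matrix.transvection_zero, Matrix.scalar_apply, Matrix.diagonal_apply, Matrix.one_apply]
      split_ifs with hxy
      · rw [mul_one]
        simp only [a]
        split_ifs with h1 h2
        · rfl
        · rw [← Units.val_pow_eq_pow_val, ← Units.val_pow_eq_pow_val, Units.val_inj, inv_pow, inv_eq_iff_mul_eq_one,
            ← pow_mul, ← pow_add, show 2 * j + j = 3 * j by ring, h3]
        · rw [one_pow, ← Units.val_pow_eq_pow_val, h4 (by omega), Units.val_one]
      · rw [mul_zero]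
  refine ⟨QuotientGroup.mk A, Nat.dvd_antisymm (orderOf_dvd_of_pow_eq_one ((hiff _).2 ⟨dvd_mul_right r p, dvd_mul_left p r⟩)) ?_⟩
  have h := (hiff _).1 (pow_orderOf_eq_one _)
  exact ((Nat.coprime_primes hr Fact.out).2 hrp).mul_dvd_of_dvd_of_dvd h.1 h.2

/-- Adjacency of an odd prime and the characteristic in the prime graph of PSL(n,q): let F be a finite field of characteristic p with q elements, n ≥ 2 with PSL(n,F) simple, and let r ≠ p be an odd prime dividing the order of PSL(n,F), with k the multiplicative order of q modulo r. Then PSL(n,F) has NO element of order r·p if and only if either k > n − 2, or n = 3, r = 3 and 3 divides q − 1 exactly once. -/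
theorem result {F : Type*} [Field F] [Fintype F] (p : ℕ) [Fact p.Prime] [CharP F p] (n : ℕ) (hn : 2 ≤ n) (hsmall : n = 2 → 4 ≤ Fintype.card F)
    (r : ℕ) (hr : r.Prime) (hr2 : r ≠ 2) (hrp : r ≠ p) (hrG : r ∣ Nat.card (Matrix.ProjectiveSpecialLinearGroup (Fin n) F))
    (k : ℕ) (hk : k = orderOf ((Fintype.card F : ℕ) : ZMod r)) :
    (r * p ∉ Set.range (orderOf : Matrix.ProjectiveSpecialLinearGroup (Fin n) F → ℕ)) ↔
      (n - 2 < k ∨ (n = 3 ∧ r = 3 ∧ 3 ∣ Fintype.card F - 1 ∧ ¬ 9 ∣ Fintype.card F - 1)) := by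
  classical
  haveI : Nonempty (Fin n) := ⟨⟨0, by omega⟩⟩
  haveI := Fact.mk hr
  have hp : p.Prime := Fact.out
  have hrF : ((r : ℕ) : F) ≠ 0 := H41.cast_ne_zero_of_prime p hr hrp
  have hrp' : Nat.Coprime r p := (Nat.coprime_primes hr hp).2 hrp
  have hpq : ¬ p ∣ Fintype.card F - 1 := fun h => by
    obtain ⟨j, hj0, hj⟩ := FiniteField.card F p
    have h1 : p ∣ Fintype.card F := hj ▸ dvd_pow_self p j.pos.ne'
    have h2 := Nat.dvd_sub h1 h
    rw [Nat.sub_sub_self Fintype.card_pos] at h2
    exact hp.ne_one (Nat.dvd_one.1 h2)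
  have hkn : k ≤ n := hk ▸ H41.orderOf_le_of_dvd_psl p hr hrp hrG
  have hk0 : 0 < k := by
    rw [hk, orderOf_pos_iff, isOfFinOrder_iff_pow_eq_one]
    refine ⟨r - 1, Nat.sub_pos_of_lt hr.one_lt, ZMod.pow_card_sub_one_eq_one fun e => ?_⟩
    rw [ZMod.natCast_eq_zero_iff] at e
    exact hrF ((CharP.cast_eq_zero_iff F p r).2 (by
      obtain ⟨j, -, hj⟩ := FiniteField.card F p
      rw [hj] at e
      exact absurd ((Nat.prime_dvd_prime_iff_eq hr hp).1 (hr.dvd_of_dvd_pow e)) hrp))
  have hk1 : k = 1 ↔ r ∣ Fintype.card F - 1 := by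
    rw [hk, orderOf_eq_one_iff, ← ZMod.natCast_eq_zero_iff, Nat.cast_sub Fintype.card_pos, sub_eq_zero, Nat.cast_one]
  constructor
  · intro h
    by_contra hcon
    rw [not_or, not_lt] at hcon
    obtain ⟨hkn2, hspec⟩ := hcon
    apply h
    rcases Nat.lt_or_ge 1 k with hk2 | hk2
    · have hcop : Nat.Coprime (r * p) (Fintype.card F - 1) := Nat.Coprime.mul_left
        (hr.coprime_iff_not_dvd.2 fun h => by have := hk1.2 h; omega) (hp.coprime_iff_not_dvd.2 hpq)
      obtain ⟨A, hA, hoA⟩ := H41.exists_gl_orderOf (F := F) k k r hk0 le_rfl (H41.dvd_card_pow_sub_one hk dvd_rfl)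
      obtain ⟨B, hoB, -⟩ := H41.exists_unipotent (F := F) p (n - k) (n - k) 1 le_rfl (Or.inr (by simp; omega))
      obtain ⟨C, hC, hoC⟩ := H41.exists_block_orderOf (show k + (n - k) = n by omega) A B.val hA
        (by rw [B.prop]; exact isUnit_one)
      rw [hoA, hoB, pow_one, hrp'.lcm_eq_mul] at hoC
      obtain ⟨x, hx⟩ := H41.exists_psl_orderOf_of_coprime C hC hoC hcop
      exact ⟨x, hx⟩
    · have hq1 : r ∣ Fintype.card F - 1 := hk1.1 (by omega)
      by_cases h33 : n = 3 ∧ r = 3
      · obtain ⟨rfl, rfl⟩ := h33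
        have h9 : 9 ∣ Fintype.card F - 1 := by
          by_contra h9
          exact hspec ⟨rfl, rfl, hq1, h9⟩
        obtain ⟨z, hz⟩ := IsCyclic.exists_ofOrder_eq_natCard (α := Fˣ)
        rw [Nat.card_units, Nat.card_eq_fintype_card] at hz
        have hq2 : 0 < Fintype.card F - 1 := Nat.sub_pos_of_lt Fintype.one_lt_card
        obtain ⟨x, hx⟩ := exists_diag_tv p le_rfl hr hrp (z ^ ((Fintype.card F - 1) / 9)) (fun j => by
          have ho : orderOf (z ^ ((Fintype.card F - 1) / 9)) = 9 := by
            rw [← hz]; exact orderOf_pow_orderOf_div (by omega) (hz.symm ▸ h9)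
          rw [← orderOf_dvd_iff_pow_eq_one, ho]
          constructor
          · rintro ⟨h, -⟩
            exact Nat.dvd_of_mul_dvd_mul_left (show 0 < 3 by norm_num) h
          · intro h
            exact ⟨Nat.mul_dvd_mul_left 3 h, fun h4 => absurd h4 (by norm_num)⟩)
        exact ⟨x, hx⟩
      · obtain ⟨ρ, hρ⟩ := H41.exists_unit_orderOf_prime (F := F) r hq1
        obtain ⟨x, hx⟩ := exists_diag_tv p (show 3 ≤ n by omega) hr hrp ρ (fun j => by
          rw [← orderOf_dvd_iff_pow_eq_one, ← orderOf_dvd_iff_pow_eq_one, hρ]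
          constructor
          · rintro ⟨h, h4⟩
            by_cases hn4 : 4 ≤ n
            · exact h4 hn4
            · exact ((Nat.coprime_primes hr Nat.prime_three).2 fun e => h33 ⟨by omega, e⟩).dvd_of_dvd_mul_left h
          · exact fun h => ⟨Dvd.dvd.mul_left h 3, fun _ => h⟩)
        exact ⟨x, hx⟩
  · rintro hcase ⟨x, hx⟩
    rcases eq_or_lt_of_le hn with hn2 | hn3
    · subst hn2
      have hmem : r * p ∈ Set.range (orderOf : Matrix.ProjectiveSpecialLinearGroup (Fin 2) F → ℕ) := ⟨x, hx⟩
      rw [H64.psl2_spectrum p] at hmem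
      rcases hmem with h | h | h
      · have h1 := Nat.le_of_dvd hp.pos h
        have h2 := Nat.mul_le_mul_right p hr.two_le
        have := hp.pos
        omega
      · exact hpq ((dvd_mul_left p r).trans (h.trans (Nat.div_dvd_of_dvd (Nat.gcd_dvd_right _ _))))
      · have h1 : p ∣ Fintype.card F + 1 := (dvd_mul_left p r).trans (h.trans (Nat.div_dvd_of_dvd (by
          have h2 : Nat.gcd 2 (Fintype.card F - 1) ∣ (Fintype.card F - 1) + 2 :=
            Nat.dvd_add (Nat.gcd_dvd_right _ _) (Nat.gcd_dvd_left _ _)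
          have := Fintype.card_pos (α := F)
          rwa [show Fintype.card F - 1 + 2 = Fintype.card F + 1 by omega] at h2)))
        obtain ⟨j, -, hj⟩ := FiniteField.card F p
        have h2 : p ∣ Fintype.card F := hj ▸ dvd_pow_self p j.pos.ne'
        exact hp.ne_one (Nat.dvd_one.1 ((Nat.dvd_add_right h2).1 h1))
    have key : ∀ A : Matrix (Fin n) (Fin n) F, ∀ c' : F, A ^ (r * p) = Matrix.scalar (Fin n) (c' ^ p) →
        A ^ r ≠ Matrix.scalar (Fin n) c' → ∃ g : F[X], Irreducible g ∧ g * g ∣ minpoly F A ∧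
          minpoly F A ∣ (X ^ r - Polynomial.C c') ^ p := by
      intro A c' hA hne
      have hm : minpoly F A ∣ (X ^ r - Polynomial.C c') ^ p := by
        refine minpoly.dvd F A ?_
        rw [sub_pow_char, ← pow_mul, ← map_pow, map_sub, map_pow, aeval_X, aeval_C, hA]
        exact sub_self _
      have hnsq : ¬ Squarefree (minpoly F A) := fun hsq => hne (by
        have h1 := H41.squarefree_dvd_of_factors (minpoly.ne_zero (Matrix.isIntegral _)) hsq
          (h := X ^ r - Polynomial.C c') fun q hq hqm => hq.prime.dvd_of_dvd_pow (hqm.trans hm)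
        have h2 := aeval_eq_zero_of_dvd_aeval_eq_zero h1 (minpoly.aeval F A)
        rw [map_sub, map_pow, aeval_X, aeval_C, sub_eq_zero] at h2
        exact h2)
      rw [squarefree_iff_irreducible_sq_not_dvd_of_ne_zero (minpoly.ne_zero (Matrix.isIntegral _))] at hnsq
      push Not at hnsq
      obtain ⟨g, hg, hgg⟩ := hnsq
      exact ⟨g, hg, hgg, hm⟩
    rcases hcase with hkgt | ⟨rfl, rfl, h3q, h9q⟩
    · have hk2 : 2 ≤ k := by omega
      have hcop : Nat.Coprime (r * p) (Fintype.card F - 1) := Nat.Coprime.mul_left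
        (hr.coprime_iff_not_dvd.2 fun h => by have := hk1.2 h; omega) (hp.coprime_iff_not_dvd.2 hpq)
      obtain ⟨A, -, hoA⟩ := H41.exists_lift_orderOf x (by rw [hx]; exact hcop)
      rw [hx] at hoA
      have hA : A.val ^ (r * p) = 1 := hoA ▸ pow_orderOf_eq_one _
      obtain ⟨g, hg, hgg, hm⟩ := key A.val 1 (by rw [one_pow, map_one]; exact hA) (by
        rw [map_one]
        intro h
        have h2 := Nat.le_of_dvd hr.pos (hoA ▸ orderOf_dvd_of_pow_eq_one h)
        have h3 := Nat.mul_le_mul_left r hp.two_le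
        have := hr.pos
        omega)
      obtain ⟨f, hf, hfd, hf1⟩ : ∃ f : F[X], Irreducible f ∧ f ∣ minpoly F A.val ∧ ¬ f ∣ X - Polynomial.C 1 := by
        by_contra hcon
        simp only [not_exists, not_and, not_not] at hcon
        have hfac : (X ^ r - Polynomial.C 1 : F[X]) = (X - Polynomial.C 1) * ∑ i ∈ Finset.range r, X ^ i := by
          rw [map_one, mul_geom_sum]
        have hcp : IsCoprime (minpoly F A.val) ((∑ i ∈ Finset.range r, (X : F[X]) ^ i) ^ p) := by
          refine isCoprime_of_irreducible_dvd (fun h => minpoly.ne_zero (Matrix.isIntegral _) h.1) fun f hf hfm hfh => ?_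
          have h1 := hcon f hf hfm
          have h2 : f ∣ ∑ i ∈ Finset.range r, (X : F[X]) ^ i := hf.prime.dvd_of_dvd_pow hfh
          have h3 := Polynomial.eval_eq_zero_of_dvd_of_eval_eq_zero
            ((hf.associated_of_dvd (Polynomial.irreducible_X_sub_C 1) h1).symm.dvd.trans h2) (x := (1 : F)) (by simp)
          simp [eval_finset_sum] at h3
          exact hrF h3
        rw [hfac, mul_pow] at hm
        have h1 := aeval_eq_zero_of_dvd_aeval_eq_zero (hcp.dvd_of_dvd_mul_right hm) (minpoly.aeval F A.val)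
        rw [map_one, sub_pow_char, one_pow, map_sub, map_pow, aeval_X, map_one, sub_eq_zero] at h1
        have h2 := Nat.le_of_dvd hp.pos (hoA ▸ orderOf_dvd_of_pow_eq_one h1)
        have h3 := Nat.mul_le_mul_right p hr.two_le
        have := hp.pos
        omega
      have hkf : k ∣ f.natDegree := by
        haveI := Fact.mk hf
        have hz : AdjoinRoot.root f ^ r = 1 := by
          have h2 := AdjoinRoot.mk_eq_zero.2 (hf.prime.dvd_of_dvd_pow (hfd.trans hm))
          rwa [map_sub, map_pow, AdjoinRoot.mk_X, map_one, map_one, sub_eq_zero] at h2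
        have hz1 : AdjoinRoot.root f ≠ 1 := fun e => hf1 (AdjoinRoot.mk_eq_zero.1 (by
          rw [map_sub, AdjoinRoot.mk_X, map_one, map_one, e, sub_self]))
        have hz0 : AdjoinRoot.root f ≠ 0 := fun e => by rw [e, zero_pow hr.ne_zero] at hz; exact zero_ne_one hz
        have h := orderOf_dvd_of_pow_eq_one (H41.root_pow_card_pow_sub_one hz0)
        rw [orderOf_eq_prime hz hz1, ← ZMod.natCast_eq_zero_iff, Nat.cast_sub (Nat.one_le_pow _ _ Fintype.card_pos),
          sub_eq_zero, Nat.cast_pow, Nat.cast_one, ← orderOf_dvd_iff_pow_eq_one, ← hk] at h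
        exact h
      have hkle := Nat.le_of_dvd hf.natDegree_pos hkf
      have hm0 : minpoly F A.val ≠ 0 := minpoly.ne_zero (Matrix.isIntegral _)
      have hdeg := H41.natDegree_minpoly_le A.val
      have hg1 := hg.natDegree_pos
      by_cases hfg : Associated f g
      · have h1 := Polynomial.natDegree_le_of_dvd hgg hm0
        rw [Polynomial.natDegree_mul hg.ne_zero hg.ne_zero,
          ← Polynomial.natDegree_eq_of_degree_eq (Polynomial.degree_eq_degree_of_associated hfg)] at h1
        omega
      · have hcp : IsCoprime f g := hf.coprime_iff_not_dvd.2 fun h => hfg (hf.associated_of_dvd hg h)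
        have h1 := Polynomial.natDegree_le_of_dvd ((hcp.mul_right hcp).mul_dvd hfd hgg) hm0
        rw [Polynomial.natDegree_mul hf.ne_zero (mul_ne_zero hg.ne_zero hg.ne_zero),
          Polynomial.natDegree_mul hg.ne_zero hg.ne_zero] at h1
        omega
    · obtain ⟨A, rfl⟩ := QuotientGroup.mk_surjective x
      obtain ⟨c, hc⟩ := (H41.pslMk_eq_one_iff (A ^ (3 * p))).1 (by
        rw [QuotientGroup.mk_pow, ← hx]; exact pow_orderOf_eq_one _)
      rw [Matrix.SpecialLinearGroup.coe_pow] at hc
      have hc3 : c ^ 3 = 1 := by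
        have := congrArg Matrix.det hc
        rw [Matrix.det_pow, A.prop, one_pow, Matrix.scalar_apply, Matrix.det_diagonal, Fin.prod_const] at this
        exact this.symm
      obtain ⟨c', rfl⟩ : ∃ c', c' ^ p = c := (bijective_frobenius F p).2 c
      obtain ⟨g, hg, hgg, hm⟩ := key A.val c' hc (fun h => by
        have h2 : (QuotientGroup.mk (A ^ 3) : Matrix.ProjectiveSpecialLinearGroup (Fin 3) F) = 1 :=
          (H41.pslMk_eq_one_iff _).2 ⟨c', by rw [Matrix.SpecialLinearGroup.coe_pow]; exact h⟩
        rw [QuotientGroup.mk_pow, ← orderOf_dvd_iff_pow_eq_one, hx] at h2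
        have := Nat.le_of_dvd (by norm_num) h2
        have := hp.two_le
        omega)
      have hχ : minpoly F A.val ∣ A.val.charpoly := Matrix.minpoly_dvd_charpoly _
      obtain ⟨h, hh⟩ := hgg.trans hχ
      have hdeg3 : A.val.charpoly.natDegree = 3 := by rw [Matrix.charpoly_natDegree_eq_dim, Fintype.card_fin]
      have hh0 : h ≠ 0 := by
        rintro rfl
        rw [mul_zero] at hh
        exact (Matrix.charpoly_monic _).ne_zero hh
      have hg1 : g.degree = 1 := by
        have := hg.natDegree_pos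
        rw [hh, Polynomial.natDegree_mul (mul_ne_zero hg.ne_zero hg.ne_zero) hh0,
          Polynomial.natDegree_mul hg.ne_zero hg.ne_zero] at hdeg3
        rw [Polynomial.degree_eq_natDegree hg.ne_zero, show g.natDegree = 1 by omega]; rfl
      obtain ⟨a, ha⟩ := Polynomial.exists_root_of_degree_eq_one hg1
      have hga : (X - Polynomial.C a) * (X - Polynomial.C a) ∣ g * g :=
        mul_dvd_mul (Polynomial.dvd_iff_isRoot.2 ha) (Polynomial.dvd_iff_isRoot.2 ha)
      obtain ⟨h', hh'⟩ := (hga.trans hgg).trans hχ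
      have hmon : h'.Monic := ((monic_X_sub_C a).mul (monic_X_sub_C a)).of_mul_monic_left
        (hh' ▸ Matrix.charpoly_monic _)
      have hh'1 : h'.natDegree = 1 := by
        rw [hh', ((monic_X_sub_C a).mul (monic_X_sub_C a)).natDegree_mul hmon,
          (monic_X_sub_C a).natDegree_mul (monic_X_sub_C a), natDegree_X_sub_C] at hdeg3
        omega
      obtain ⟨b, rfl⟩ : ∃ b, h' = X - Polynomial.C b := ⟨-h'.coeff 0, by
        rw [map_neg, sub_neg_eq_add]; exact hmon.eq_X_add_C hh'1⟩
      have hdet : a ^ 2 * b = 1 := by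
        have h1 := Matrix.det_eq_sign_charpoly_coeff A.val
        rw [A.prop, hh', Fintype.card_fin, mul_coeff_zero, mul_coeff_zero] at h1
        simp at h1
        linear_combination -h1
      have ha3 : a ^ 3 = c' := by
        have h1 := hg.prime.dvd_of_dvd_pow ((dvd_mul_right g g).trans (hgg.trans hm))
        have := ha.dvd h1
        rw [IsRoot, eval_sub, eval_pow, eval_X, eval_C, sub_eq_zero] at this
        exact this
      have hc'3 : c' ^ 3 = 1 := by
        apply frobenius_inj F p
        rw [frobenius_def, frobenius_def, ← pow_mul, mul_comm, pow_mul, hc3, one_pow]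
      have hc1 : c' = 1 := by
        by_contra hne
        have ha0 : a ≠ 0 := fun e => by rw [e, zero_pow two_ne_zero, zero_mul] at hdet; exact zero_ne_one hdet
        have h9 : orderOf (Units.mk0 a ha0) = 9 := by
          refine orderOf_eq_prime_pow (p := 3) (n := 1) ?_ ?_
          · rw [Units.ext_iff, Units.val_pow_eq_pow_val, Units.val_one, Units.val_mk0, pow_one, ha3]; exact hne
          · rw [Units.ext_iff, Units.val_pow_eq_pow_val, Units.val_one, Units.val_mk0, show 3 ^ (1 + 1) = 3 * 3 by rfl, pow_mul, ha3, hc'3]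
        apply h9q
        rw [← h9, ← Fintype.card_units]
        exact orderOf_dvd_card
      subst hc1
      have hba : b = a := by
        have h2 : a ^ 2 * b = a ^ 2 * a := by rw [hdet, ← pow_succ, ha3]
        exact mul_left_cancel₀ (fun e => by rw [e, zero_mul] at hdet; exact zero_ne_one hdet) h2
      subst hba
      have hnil : (A.val - Matrix.scalar (Fin 3) b) ^ 3 = 0 := by
        have := Matrix.aeval_self_charpoly A.val
        rw [hh', map_mul, map_mul, map_sub, aeval_X, aeval_C] at this
        rw [pow_succ, pow_two]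
        exact this
      set J := Nat.clog p 3
      have hJ := pow_eq_zero_of_le (Nat.le_pow_clog hp.one_lt 3) hnil
      rw [sub_pow_char_pow_of_commute p _ ((Matrix.scalar_commute b (fun _ => Commute.all _ _) _).symm), sub_eq_zero,
        ← map_pow] at hJ
      have h1 : (QuotientGroup.mk (A ^ p ^ J) : Matrix.ProjectiveSpecialLinearGroup (Fin 3) F) = 1 :=
        (H41.pslMk_eq_one_iff _).2 ⟨b ^ p ^ J, by rw [Matrix.SpecialLinearGroup.coe_pow]; exact hJ⟩
      rw [QuotientGroup.mk_pow, ← orderOf_dvd_iff_pow_eq_one, hx] at h1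
      exact hrp ((Nat.prime_dvd_prime_iff_eq hr hp).1 (hr.dvd_of_dvd_pow ((dvd_mul_right 3 p).trans h1)))

end Cfsg.Agent.S2470
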