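import Cfsg.Statements.S2471
import Mathlib

set_option autoImplicit false
open Cfsg

namespace Cfsg.Agent.S2471

/-- In PSL(2,q) with q odd, the characteristic p is isolated from 2 in the prime graph: for F a finite field of odd characteristic p with at least 5 elements, PSL(2,F) has no element of order 2p. -/
theorem result {F : Type*} [Field F] [Fintype F] (p : ℕ) [Fact p.Prime] [CharP F p] (hp : p ≠ 2) (h5 : 5 ≤ Fintype.card F) (g : Matrix.ProjectiveSpecialLinearGroup (Fin 2) F) :
    orderOf g ≠ 2 * p := by
  intro hg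
  obtain ⟨A, rfl⟩ := QuotientGroup.mk_surjective g
  have hpos : 2 ≤ p := (Fact.out : p.Prime).two_le
  have hpodd : Odd p := (Fact.out : p.Prime).odd_of_ne_two hp
  have h1 : A ^ (2 * p) ∈ Subgroup.center (Matrix.SpecialLinearGroup (Fin 2) F) := by
    rw [← QuotientGroup.eq_one_iff, QuotientGroup.mk_pow, ← hg]
    exact pow_orderOf_eq_one _
  obtain ⟨c, hc1, hc2⟩ := Matrix.SpecialLinearGroup.mem_center_iff.mp h1
  rw [Fintype.card_fin] at hc1
  have hcases : c = 1 ∨ c = -1 := by
    rw [← sq_eq_one_iff]; exact hc1
  have hcp : c ^ p = c := by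
    rcases hcases with rfl | rfl
    · simp
    · exact hpodd.neg_one_pow
  obtain ⟨M, hM⟩ : ∃ M : Matrix (Fin 2) (Fin 2) F, M = A.val := ⟨_, rfl⟩
  have hdet : M.det = 1 := hM ▸ A.prop
  rw [Matrix.SpecialLinearGroup.coe_pow, ← hM] at hc2
  have hCH : M * M = M.trace • M - 1 := by
    rw [Matrix.det_fin_two] at hdet
    ext i j
    fin_cases i <;> fin_cases j <;>
      simp [Matrix.mul_apply, Fin.sum_univ_two, Matrix.trace_fin_two] <;>
        first | linear_combination -hdet | ring
  have hnil : IsNilpotent (M * M - Matrix.scalar (Fin 2) c) := by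
    refine ⟨p, ?_⟩
    rw [sub_pow_char_of_commute p
      ((Matrix.scalar_commute c (fun r' => Commute.all _ _) (M * M)).symm)]
    rw [← map_pow, hcp, ← pow_two, ← pow_mul, ← hc2, sub_self]
  have htr := (Matrix.isNilpotent_trace_of_isNilpotent hnil).eq_zero
  rw [Matrix.trace_sub, hCH, Matrix.trace_sub, Matrix.trace_smul, smul_eq_mul, Matrix.trace_one, Fintype.card_fin] at htr
  have hsc : Matrix.trace (Matrix.scalar (Fin 2) c : Matrix (Fin 2) (Fin 2) F) = c + c := by
    simp [Matrix.trace_fin_two, two_mul]
  rw [hsc] at htr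
  push_cast at htr
  have hcen : ∀ k : ℕ, 0 < k → k < 2 * p →
      ∀ r : F, M ^ k = Matrix.scalar (Fin 2) r → False := by
    intro k hk0 hk2 r hr
    have hr' : (A ^ k) ∈ Subgroup.center (Matrix.SpecialLinearGroup (Fin 2) F) := by
      refine Subgroup.mem_center_iff.mpr fun B => Subtype.ext ?_
      simp only [Matrix.SpecialLinearGroup.coe_mul, Matrix.SpecialLinearGroup.coe_pow]
      rw [← hM, hr]
      exact (Matrix.scalar_commute r (fun r' => Commute.all _ _) B.val).symm.eq
    rw [← QuotientGroup.eq_one_iff, QuotientGroup.mk_pow] at hr'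
    have := Nat.le_of_dvd hk0 (hg ▸ orderOf_dvd_of_pow_eq_one hr')
    omega
  rcases hcases with rfl | rfl
  · have ht : (M.trace - 2) * (M.trace + 2) = 0 := by linear_combination htr
    have key : ∀ e : F, e ^ 2 = 1 → M.trace = e + e → False := by
      intro e he het
      apply hcen p (by omega) (by omega) e
      have hz : (M - Matrix.scalar (Fin 2) e) ^ 2 = 0 := by
        have hc := Matrix.scalar_commute e (fun r' => Commute.all _ _) M
        rw [pow_two, sub_mul, mul_sub, mul_sub, hCH, het, ← hc.eq, ← map_mul, ← pow_two, he, map_one,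
          add_smul, Matrix.scalar_apply, ← Matrix.smul_eq_diagonal_mul]
        abel
      have hzp : (M - Matrix.scalar (Fin 2) e) ^ p = 0 := pow_eq_zero_of_le hpos hz
      rw [sub_pow_char_of_commute p
        ((Matrix.scalar_commute e (fun r' => Commute.all _ _) M).symm), sub_eq_zero, ← map_pow] at hzp
      rw [hzp]
      congr 1
      rcases sq_eq_one_iff.mp he with rfl | rfl
      · simp
      · exact hpodd.neg_one_pow
    rcases mul_eq_zero.mp ht with h | h
    · exact key 1 (one_pow 2) (by linear_combination h)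
    · exact key (-1) neg_one_sq (by linear_combination h)
  · have ht : M.trace = 0 := mul_self_eq_zero.mp (by linear_combination htr)
    apply hcen 2 (by omega) (by omega) (-1)
    rw [pow_two, hCH, ht, zero_smul, zero_sub, map_neg, map_one]

end Cfsg.Agent.S2471
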