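import Cfsg.Statements.S2476
import Cfsg.Agent.H41.PSLSpectrum
-- import your own Cfsg.Agent.* helpers here

set_option autoImplicit false
open Cfsg
set_option linter.style.haveILetI false

namespace Cfsg.Agent.S2476

open Polynomial H41

variable {F : Type*} [Field F] [Fintype F] (p : ℕ) [Fact p.Prime] [CharP F p]

local notation "q" => Fintype.card F
local notation "d" => Nat.gcd 3 (Fintype.card F - 1)
local notation "L" => Matrix.ProjectiveSpecialLinearGroup (Fin 3) F

lemma mk_pow_eq_one_of_dvd (A : Matrix.SpecialLinearGroup (Fin 3) F) (N : ℕ) (c : F) (g : F[X])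
    (hg : aeval A.val g = 0) (h : g ∣ X ^ N - Polynomial.C c) : (QuotientGroup.mk A : L) ^ N = 1 := by
  rw [← QuotientGroup.mk_pow, pslMk_eq_one_iff]
  refine ⟨c, ?_⟩
  have := Polynomial.aeval_eq_zero_of_dvd_aeval_eq_zero h hg
  rw [map_sub, map_pow, aeval_X, aeval_C, sub_eq_zero] at this
  rw [Matrix.SpecialLinearGroup.coe_pow, this]
  rfl

lemma singerOrd_three : singerOrd q 3 = (q ^ 2 + q + 1) / d := by
  have h : qsum q 3 = q ^ 2 + q + 1 := by
    simp [qsum, Finset.sum_range_succ]; ring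
  rw [singerOrd, h]
  congr 1
  have hq : 1 ≤ q := Fintype.card_pos
  have h1 : q ≡ 1 [MOD q - 1] := ((Nat.modEq_iff_dvd' hq).2 dvd_rfl).symm
  exact Nat.ModEq.gcd_eq (((h1.pow 2).add h1).add_right 1)

lemma gcd_sq_add_two : Nat.gcd (q ^ 2 - 1) (q + 2) = d := by
  have hq : 2 ≤ q := Fintype.one_lt_card
  refine Nat.dvd_antisymm (Nat.dvd_gcd ?_ ?_) (Nat.dvd_gcd ?_ ?_)
  · obtain ⟨a, ha⟩ := Nat.exists_eq_add_of_le hq
    have h1 : q ^ 2 - 1 = (q + 2) * (q - 2) + 3 := by
      rw [ha, Nat.add_sub_cancel_left, show (2 + a) ^ 2 = (2 + a + 2) * a + 4 by ring]; omega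
    rw [h1, add_comm, Nat.gcd_comm, Nat.gcd_add_mul_left_right, Nat.gcd_comm]
    exact Nat.gcd_dvd_left _ _
  · have h3 : Nat.gcd (q ^ 2 - 1) (q + 2) ∣ 3 := by
      obtain ⟨a, ha⟩ := Nat.exists_eq_add_of_le hq
      have h1 : q ^ 2 - 1 = (q + 2) * (q - 2) + 3 := by
        rw [ha, Nat.add_sub_cancel_left, show (2 + a) ^ 2 = (2 + a + 2) * a + 4 by ring]; omega
      rw [h1, add_comm, Nat.gcd_comm, Nat.gcd_add_mul_left_right, Nat.gcd_comm]
      exact Nat.gcd_dvd_left _ _
    have h2 := Nat.dvd_sub (Nat.gcd_dvd_right (q ^ 2 - 1) (q + 2)) h3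
    rwa [show q + 2 - 3 = q - 1 by omega] at h2
  · exact (Nat.gcd_dvd_right _ _).trans ⟨q + 1, by
      rw [mul_comm, ← one_pow 2, Nat.sq_sub_sq, one_pow]⟩
  · have h2 := Nat.dvd_add (Nat.gcd_dvd_right 3 (q - 1)) (Nat.gcd_dvd_left 3 (q - 1))
    rwa [show q - 1 + 3 = q + 2 by omega] at h2

lemma dvd_three_mul : q - 1 ∣ 3 * ((q - 1) / d) := by
  obtain ⟨e, he⟩ := Nat.gcd_dvd_left 3 (q - 1)
  exact ⟨e, by nth_rw 1 [he]; rw [mul_comm d e, mul_assoc, Nat.mul_div_cancel' (Nat.gcd_dvd_right _ _), mul_comm]⟩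

theorem order_cases (x : L) :
    orderOf x ∣ (q ^ 2 + q + 1) / d ∨ orderOf x ∣ (q ^ 2 - 1) / d ∨ orderOf x ∣ q - 1 ∨
      orderOf x ∣ p * (q - 1) / d ∨ (p = 2 ∧ orderOf x ∣ 4) := by
  classical
  have hp : p.Prime := Fact.out
  obtain ⟨A, rfl⟩ := QuotientGroup.mk_surjective x
  set χ := A.val.charpoly with hχ
  have hm : χ.Monic := Matrix.charpoly_monic _
  have hd3 : χ.natDegree = 3 := by rw [hχ, Matrix.charpoly_natDegree_eq_dim, Fintype.card_fin]
  have haev : aeval A.val χ = 0 := Matrix.aeval_self_charpoly _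
  rw [Nat.mul_div_assoc p (Nat.gcd_dvd_right 3 (q - 1))]
  by_cases hroot : χ.roots = 0
  · left
    have hirr : Irreducible χ := (hm.irreducible_iff_roots_eq_zero_of_degree_le_three (by omega) (by omega)).2 hroot
    rw [← singerOrd_three]
    exact orderOf_dvd_of_pow_eq_one (pow_singerOrd_of_irreducible A (by norm_num) χ hirr haev)
  obtain ⟨a, ha⟩ := Multiset.exists_mem_of_ne_zero hroot
  obtain ⟨h, hh⟩ := dvd_iff_isRoot.2 (isRoot_of_mem_roots ha)
  have hhm : h.Monic := (monic_X_sub_C a).of_mul_monic_left (hh ▸ hm)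
  have hhd : h.natDegree = 2 := by
    rw [hh, (monic_X_sub_C a).natDegree_mul hhm, natDegree_X_sub_C] at hd3; omega
  have hdet : a * h.coeff 0 = 1 := by
    have h1 := Matrix.det_eq_sign_charpoly_coeff A.val
    rw [A.prop, ← hχ, hh, Fintype.card_fin, mul_coeff_zero] at h1
    simp at h1
    linear_combination -h1
  have ha0 : a ≠ 0 := fun e => by rw [e, zero_mul] at hdet; exact zero_ne_one hdet
  by_cases hroot2 : h.roots = 0
  · right; left
    have hirr : Irreducible h := (hhm.irreducible_iff_roots_eq_zero_of_degree_le_three (by omega) (by omega)).2 hroot2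
    haveI := Fact.mk hirr
    haveI : FiniteDimensional F (AdjoinRoot h) := (AdjoinRoot.powerBasis hirr.ne_zero).finite
    haveI : Finite (AdjoinRoot h) := Module.finite_of_finite F
    letI := Fintype.ofFinite (AdjoinRoot h)
    set z := AdjoinRoot.root h
    have hz : aeval z h = 0 := by rw [AdjoinRoot.aeval_eq, AdjoinRoot.mk_self]
    have hw : aeval (z ^ q) h = 0 := by
      rw [← expand_aeval, FiniteField.expand_card, map_pow, hz, zero_pow Fintype.card_ne_zero]
    have hne : z ^ q ≠ z := fun e => by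
      obtain ⟨c, hc⟩ := mem_range_algebraMap_of_pow_card (F := F) z e
      have h1 : c ∈ h.roots := by
        rw [mem_roots hhm.ne_zero, IsRoot]
        apply (algebraMap F (AdjoinRoot h)).injective
        rw [← aeval_algebraMap_apply_eq_algebraMap_eval, hc, hz, map_zero]
      rw [hroot2] at h1
      simp at h1
    rw [aeval_eq_sum_range, hhd] at hz hw
    simp only [Finset.sum_range_succ, Finset.sum_range_zero, zero_add, pow_zero, pow_one, Algebra.smul_def, mul_one,
      show h.coeff 2 = 1 by rw [← hhd]; exact hhm, map_one, one_mul] at hz hw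
    have hsum : z ^ q + z + algebraMap F (AdjoinRoot h) (h.coeff 1) = 0 :=
      mul_left_cancel₀ (sub_ne_zero.2 hne) (by linear_combination hw - hz)
    have hprod : z ^ (q + 1) = algebraMap F (AdjoinRoot h) (h.coeff 0) := by
      rw [pow_succ]; linear_combination z * hsum - hz
    have hz0 : z ≠ 0 := fun e => by
      rw [e, zero_pow Fintype.card_ne_zero] at hne; exact hne rfl
    set N := (q ^ 2 - 1) / d with hN
    obtain ⟨e, he⟩ : d ∣ q + 2 := by rw [← gcd_sq_add_two]; exact Nat.gcd_dvd_right _ _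
    have hzN : z ^ N * z ^ ((q + 1) * N) = 1 := by
      rw [← pow_add, show N + (q + 1) * N = (q + 2) * N by ring, he, hN, mul_comm d e, mul_assoc,
        Nat.mul_div_cancel' ((Nat.gcd_dvd_right 3 (q - 1)).trans ⟨q + 1, by
          rw [mul_comm, ← one_pow 2, Nat.sq_sub_sq, one_pow]⟩), mul_comm e, pow_mul]
      have h1 := FiniteField.pow_card_sub_one_eq_one z hz0
      rw [Module.card_eq_pow_finrank (K := F) (V := AdjoinRoot h), (AdjoinRoot.powerBasis hirr.ne_zero).finrank,
        AdjoinRoot.powerBasis_dim, hhd] at h1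
      rw [h1, one_pow]
    rw [pow_mul, hprod, ← map_pow] at hzN
    have hzN' : z ^ N = algebraMap F (AdjoinRoot h) (a ^ N) := by
      have h1 : algebraMap F (AdjoinRoot h) (a ^ N) * algebraMap F (AdjoinRoot h) (h.coeff 0 ^ N) = 1 := by
        rw [← map_mul, ← mul_pow, hdet, one_pow, map_one]
      exact mul_right_cancel₀ (right_ne_zero_of_mul_eq_one h1) (hzN.trans h1.symm)
    refine orderOf_dvd_of_pow_eq_one (mk_pow_eq_one_of_dvd A N (a ^ N) χ haev ?_)
    rw [hh]
    refine IsCoprime.mul_dvd ((irreducible_X_sub_C a).coprime_iff_not_dvd.2 fun hd' => ?_) (dvd_iff_isRoot.2 (by simp)) ?_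
    · have h1 : a ∈ h.roots := (mem_roots hhm.ne_zero).2 (dvd_iff_isRoot.1 hd')
      rw [hroot2] at h1
      simp at h1
    · rw [← AdjoinRoot.mk_eq_zero, map_sub, map_pow, AdjoinRoot.mk_X, AdjoinRoot.mk_C, sub_eq_zero]
      exact hzN'
  obtain ⟨b, hb⟩ := Multiset.exists_mem_of_ne_zero hroot2
  obtain ⟨h', hh'⟩ := dvd_iff_isRoot.2 (isRoot_of_mem_roots hb)
  have hm' : h'.Monic := (monic_X_sub_C b).of_mul_monic_left (hh' ▸ hhm)
  have hd' : h'.natDegree = 1 := by
    rw [hh', (monic_X_sub_C b).natDegree_mul hm', natDegree_X_sub_C] at hhd; omega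
  obtain ⟨e, rfl⟩ : ∃ e, h' = X - Polynomial.C e := ⟨-h'.coeff 0, by
    rw [map_neg, sub_neg_eq_add]; exact hm'.eq_X_add_C hd'⟩
  rw [hh'] at hh hdet
  have habe : a * b * e = 1 := by
    simp [mul_coeff_zero] at hdet
    linear_combination hdet
  have h0 : ∀ {u v w : F}, u * v * w = 1 → u ≠ 0 := fun h e => by simp [e] at h
  have hcop : ∀ {u v : F}, u ≠ v → IsCoprime (X - Polynomial.C u) (X - Polynomial.C v) := fun h =>
    isCoprime_X_sub_C_of_isUnit_sub (sub_ne_zero.2 h).isUnit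
  -- two equal roots
  have hpair : ∀ u v : F, χ = (X - Polynomial.C u) * ((X - Polynomial.C u) * (X - Polynomial.C v)) → u * u * v = 1 →
      u ≠ v → orderOf (QuotientGroup.mk A : L) ∣ p * ((q - 1) / d) := by
    intro u v hu huv hne
    set N := (q - 1) / d
    have hu0 : u ≠ 0 := h0 (show u * u * v = 1 from huv)
    have hu3 : u ^ (3 * N) = 1 := by
      obtain ⟨t, ht⟩ := dvd_three_mul (F := F)
      rw [ht, pow_mul, FiniteField.pow_card_sub_one_eq_one u hu0, one_pow]
    have hv : v ^ N = u ^ N := by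
      refine mul_left_cancel₀ (pow_ne_zero N (mul_ne_zero hu0 hu0)) ?_
      rw [← mul_pow, huv, one_pow, ← mul_pow, ← hu3, pow_mul]
      ring
    refine orderOf_dvd_of_pow_eq_one (mk_pow_eq_one_of_dvd A _ ((u ^ N) ^ p) χ haev ?_)
    rw [mul_comm p N, pow_mul, map_pow, ← sub_pow_char]
    have hdvd : (X - Polynomial.C u) * (X - Polynomial.C v) ∣ X ^ N - Polynomial.C (u ^ N) :=
      (hcop hne).mul_dvd (dvd_iff_isRoot.2 (by simp)) (dvd_iff_isRoot.2 (by simp [hv]))
    refine (show χ ∣ ((X - Polynomial.C u) * (X - Polynomial.C v)) ^ 2 from ?_).trans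
      ((pow_dvd_pow _ hp.two_le).trans (pow_dvd_pow_of_dvd hdvd p))
    exact ⟨X - Polynomial.C v, by rw [hu]; ring⟩
  by_cases hab : a = b
  · subst hab
    by_cases hae : a = e
    · subst hae
      have hnil : (A.val - Matrix.scalar (Fin 3) a) ^ 3 = 0 := by
        rw [hh, map_mul, map_mul, map_sub, aeval_X, aeval_C] at haev
        rw [pow_succ', pow_two]
        exact haev
      have hgen : ∀ i : ℕ, 3 ≤ p ^ i → (QuotientGroup.mk A : L) ^ p ^ i = 1 := fun i hi => by
        have hJ := pow_eq_zero_of_le hi hnil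
        rw [sub_pow_char_pow_of_commute p _ ((Matrix.scalar_commute a (fun _ => Commute.all _ _) _).symm), sub_eq_zero,
          ← map_pow] at hJ
        rw [← QuotientGroup.mk_pow, pslMk_eq_one_iff]
        exact ⟨a ^ p ^ i, by rw [Matrix.SpecialLinearGroup.coe_pow]; exact hJ⟩
      rcases eq_or_lt_of_le hp.two_le with h2 | h3
      · exact Or.inr (Or.inr (Or.inr (Or.inr ⟨h2.symm, by
          have := hgen 2 (by rw [← h2]; norm_num)
          rw [← h2, show (2 : ℕ) ^ 2 = 4 by rfl] at this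
          exact orderOf_dvd_of_pow_eq_one this⟩)))
      · right; right; right; left
        refine (orderOf_dvd_of_pow_eq_one ?_).trans (dvd_mul_right p _)
        have := hgen 1 (by rw [pow_one]; omega)
        rwa [pow_one] at this
    · exact Or.inr (Or.inr (Or.inr (Or.inl (hpair a e hh habe hae))))
  · by_cases hae : a = e
    · subst hae
      exact Or.inr (Or.inr (Or.inr (Or.inl (hpair a b (by rw [hh]; ring) (by linear_combination habe) hab))))
    · by_cases hbe : b = e
      · subst hbe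
        exact Or.inr (Or.inr (Or.inr (Or.inl (hpair b a (by rw [hh]; ring) (by linear_combination habe) (Ne.symm hab)))))
      · right; right; left
        refine orderOf_dvd_of_pow_eq_one (mk_pow_eq_one_of_dvd A _ 1 χ haev ?_)
        rw [hh]
        have hr : ∀ u : F, u ≠ 0 → X - Polynomial.C u ∣ X ^ (q - 1) - Polynomial.C 1 := fun u hu =>
          dvd_iff_isRoot.2 (by simp [FiniteField.pow_card_sub_one_eq_one u hu])
        exact ((hcop hab).mul_right (hcop hae)).mul_dvd (hr a ha0)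
          ((hcop hbe).mul_dvd (hr b (h0 (show b * a * e = 1 by linear_combination habe)))
            (hr e (h0 (show e * a * b = 1 by linear_combination habe))))

omit [Fintype F] in
lemma exists_order_of_iff {G : Type*} [Monoid G] (x : G) (N : ℕ) (h : ∀ j, x ^ j = 1 ↔ N ∣ j) : orderOf x = N :=
  Nat.dvd_antisymm (orderOf_dvd_of_pow_eq_one ((h N).2 dvd_rfl)) ((h _).1 (pow_orderOf_eq_one x))

/-- Cancelling the common factor. -/
lemma dvd_mul_iff_div (A B i g : ℕ) (hg : Nat.gcd A B = g) (h0 : 0 < g) : A ∣ B * i ↔ A / g ∣ i := by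
  obtain ⟨a, ha⟩ : g ∣ A := hg ▸ Nat.gcd_dvd_left A B
  obtain ⟨b, hb⟩ : g ∣ B := hg ▸ Nat.gcd_dvd_right A B
  have hcop : Nat.Coprime a b := by
    have h1 : g * Nat.gcd a b = g * 1 := by rw [← Nat.gcd_mul_left, ← ha, ← hb, hg, mul_one]
    exact Nat.eq_of_mul_eq_mul_left h0 h1
  subst ha hb
  rw [Nat.mul_div_cancel_left _ h0, mul_assoc, Nat.mul_dvd_mul_iff_left h0]
  exact ⟨hcop.dvd_of_dvd_mul_left, fun h => h.mul_left _⟩

include p in
/-- A generator of the quadratic torus. -/
theorem exists_quad : ∃ x : L, orderOf x = (q ^ 2 - 1) / d := by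
  classical
  let K := FiniteField.Extension F p 2
  let bK : Module.Basis (Fin 2) F K :=
    Module.finBasisOfFinrankEq F K (FiniteField.finrank_extension F p 2)
  obtain ⟨z, hz⟩ := IsCyclic.exists_ofOrder_eq_natCard (α := Kˣ)
  rw [Nat.card_units, FiniteField.natCard_extension, Nat.card_eq_fintype_card] at hz
  set M := Algebra.leftMulMatrix bK (z : K) with hM
  have hMdet : algebraMap F K M.det = (z : K) ^ (q + 1) := by
    rw [hM, det_algHom_pow_qsum (Algebra.leftMulMatrix bK), show qsum q 2 = q + 1 by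
      simp [qsum, Finset.sum_range_succ, add_comm]]
  have hM0 : M.det ≠ 0 := fun e => by
    rw [e, map_zero] at hMdet
    exact pow_ne_zero _ z.ne_zero hMdet.symm
  let e : Fin 2 ⊕ Fin 1 ≃ Fin 3 := finSumFinEquiv
  let B := Matrix.reindexAlgEquiv F F e (Matrix.fromBlocks M 0 0 (Matrix.scalar (Fin 1) M.det⁻¹))
  have hdet : B.det = 1 := by
    simp only [B, Matrix.reindexAlgEquiv_apply, Matrix.det_reindex_self, Matrix.det_fromBlocks_zero₂₁]
    simp [hM0]
  obtain ⟨A, hA⟩ : ∃ A : Matrix.SpecialLinearGroup (Fin 3) F, A.val = B := ⟨⟨B, hdet⟩, rfl⟩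
  refine ⟨QuotientGroup.mk A, exists_order_of_iff _ _ fun j => ?_⟩
  have hBj : B ^ j = Matrix.reindexAlgEquiv F F e (Matrix.fromBlocks (M ^ j) 0 0 (Matrix.scalar (Fin 1) (M.det⁻¹ ^ j))) := by
    rw [← map_pow]
    congr 1
    induction j with
    | zero => simp [Matrix.fromBlocks_one]
    | succ j ih => rw [pow_succ, ih, Matrix.fromBlocks_multiply, pow_succ, pow_succ, map_mul]; simp
  have hiff : (QuotientGroup.mk A : L) ^ j = 1 ↔ ((z : K) ^ ((q + 2) * j)) = 1 := by
    rw [← QuotientGroup.mk_pow, pslMk_eq_one_iff, Matrix.SpecialLinearGroup.coe_pow, hA, hBj]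
    have hsc : ∀ c : F, Matrix.reindexAlgEquiv F F e (Matrix.fromBlocks (Matrix.scalar (Fin 2) c) 0 0 (Matrix.scalar (Fin 1) c))
        = Matrix.scalar (Fin 3) c := fun c => by
      rw [show Matrix.scalar (Fin 3) c = algebraMap F _ c from rfl, ← AlgEquiv.commutes (Matrix.reindexAlgEquiv F F e) c]
      congr 1
      ext (x | x) (y | y) <;> simp [Matrix.algebraMap_eq_diagonal, Matrix.diagonal_apply]
    have hone : ∀ c : F, M ^ j = Matrix.scalar (Fin 2) c ↔ (z : K) ^ j = algebraMap F K c := fun c => by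
      rw [hM, ← map_pow, show Matrix.scalar (Fin 2) c = Algebra.leftMulMatrix bK (algebraMap F K c) by
        rw [AlgHom.commutes]; rfl, (Algebra.leftMulMatrix_injective bK).eq_iff]
    have hinv : algebraMap F K (M.det⁻¹ ^ j) * (z : K) ^ ((q + 1) * j) = 1 := by
      rw [pow_mul, ← hMdet, ← map_pow, ← map_mul, ← mul_pow, inv_mul_cancel₀ hM0, one_pow, map_one]
    constructor
    · rintro ⟨c, hc⟩
      rw [← hsc c] at hc
      obtain ⟨h1, -, -, h2⟩ := Matrix.fromBlocks_inj.1 ((Matrix.reindexAlgEquiv F F e).injective hc)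
      rw [Matrix.scalar_inj] at h2
      rw [show (q + 2) * j = j + (q + 1) * j by ring, pow_add, (hone c).1 h1, ← h2, hinv]
    · intro h
      refine ⟨M.det⁻¹ ^ j, ?_⟩
      rw [← hsc, (hone _).2 ?_]
      rw [show (q + 2) * j = j + (q + 1) * j by ring, pow_add] at h
      exact mul_right_cancel₀ (right_ne_zero_of_mul_eq_one hinv) (h.trans hinv.symm)
  rw [hiff, ← Units.val_pow_eq_pow_val, Units.val_eq_one, ← orderOf_dvd_iff_pow_eq_one, hz]
  exact dvd_mul_iff_div _ _ _ _ gcd_sq_add_two (Nat.gcd_pos_of_pos_left _ (by norm_num))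

theorem exists_split : ∃ x : L, orderOf x = q - 1 := by
  classical
  obtain ⟨g, hg⟩ := IsCyclic.exists_ofOrder_eq_natCard (α := Fˣ)
  rw [Nat.card_units, Nat.card_eq_fintype_card] at hg
  obtain ⟨A, hA⟩ : ∃ A : Matrix.SpecialLinearGroup (Fin 3) F,
      A.val = Matrix.diagonal ![(g : F), ((g⁻¹ : Fˣ) : F), 1] :=
    ⟨⟨Matrix.diagonal ![(g : F), ((g⁻¹ : Fˣ) : F), 1], by rw [Matrix.det_diagonal, Fin.prod_univ_three]; simp⟩, rfl⟩
  refine ⟨QuotientGroup.mk A, exists_order_of_iff _ _ fun j => ?_⟩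
  rw [← QuotientGroup.mk_pow, pslMk_eq_one_iff, Matrix.SpecialLinearGroup.coe_pow, hA, Matrix.diagonal_pow, ← hg,
    orderOf_dvd_iff_pow_eq_one]
  constructor
  · rintro ⟨c, hc⟩
    have h0 := congrFun (congrFun hc 0) 0
    have h2 := congrFun (congrFun hc 2) 2
    simp at h0 h2
    exact Units.ext (by rw [Units.val_pow_eq_pow_val, h0, ← h2, Units.val_one])
  · intro h
    refine ⟨1, ?_⟩
    rw [map_one, ← Matrix.diagonal_one]
    congr 1
    funext i
    fin_cases i <;> simp [← Units.val_pow_eq_pow_val, inv_pow, h]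

theorem exists_mixed : ∃ x : L, orderOf x = p * ((q - 1) / d) := by
  classical
  have hp : p.Prime := Fact.out
  obtain ⟨g, hg⟩ := IsCyclic.exists_ofOrder_eq_natCard (α := Fˣ)
  rw [Nat.card_units, Nat.card_eq_fintype_card] at hg
  set u : F := (g : F)
  set v : F := (((g ^ 2)⁻¹ : Fˣ) : F)
  let D : Matrix (Fin 3) (Fin 3) F := !![u, u, 0; 0, u, 0; 0, 0, v]
  have huv : u * u * v = 1 := by
    simp only [u, v]
    rw [← pow_two, ← Units.val_pow_eq_pow_val, ← Units.val_mul, mul_inv_cancel, Units.val_one]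
  obtain ⟨A, hA⟩ : ∃ A : Matrix.SpecialLinearGroup (Fin 3) F, A.val = D :=
    ⟨⟨D, by simp [D, Matrix.det_fin_three]; linear_combination huv⟩, rfl⟩
  have hpow : ∀ j : ℕ, D ^ j = !![u ^ j, (j : F) * u ^ j, 0; 0, u ^ j, 0; 0, 0, v ^ j] := by
    intro j
    induction j with
    | zero => simp [Matrix.one_fin_three]
    | succ j ih =>
      rw [pow_succ, ih]
      ext x y
      fin_cases x <;> fin_cases y <;> simp [D, Matrix.mul_apply, Fin.sum_univ_three, pow_succ] <;> ring
  refine ⟨QuotientGroup.mk A, exists_order_of_iff _ _ fun j => ?_⟩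
  have hd0 : 0 < d := Nat.gcd_pos_of_pos_left _ (by norm_num)
  have hqN : ∀ i, q - 1 ∣ 3 * i ↔ (q - 1) / d ∣ i := fun i => dvd_mul_iff_div _ _ _ _ (Nat.gcd_comm _ _) hd0
  have hpq : Nat.Coprime p ((q - 1) / d) := by
    rw [hp.coprime_iff_not_dvd]
    intro h
    obtain ⟨i, -, hi⟩ := FiniteField.card F p
    have h2 := Nat.dvd_sub (hi ▸ dvd_pow_self p i.pos.ne' : p ∣ q) (h.trans (Nat.div_dvd_of_dvd (Nat.gcd_dvd_right _ _)))
    rw [Nat.sub_sub_self Fintype.card_pos] at h2
    exact hp.ne_one (Nat.dvd_one.1 h2)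
  rw [← QuotientGroup.mk_pow, pslMk_eq_one_iff, Matrix.SpecialLinearGroup.coe_pow, hA, hpow]
  have hkey : v ^ j = u ^ j ↔ q - 1 ∣ 3 * j := by
    rw [← hg, orderOf_dvd_iff_pow_eq_one, ← Units.val_eq_one, Units.val_pow_eq_pow_val, pow_mul]
    have h1 : (u * u * v) ^ j = 1 := by rw [huv, one_pow]
    rw [mul_pow] at h1
    constructor
    · intro h
      rw [h] at h1
      rw [← h1, ← mul_pow]; ring
    · intro h
      refine mul_left_cancel₀ (left_ne_zero_of_mul_eq_one h1) (h1.trans ?_)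
      rw [← h, ← mul_pow]; ring
  constructor
  · rintro ⟨c, hc⟩
    have h00 := congrFun (congrFun hc 0) 0
    have h01 := congrFun (congrFun hc 0) 1
    have h22 := congrFun (congrFun hc 2) 2
    simp at h00 h22 h01
    refine hpq.mul_dvd_of_dvd_of_dvd ?_ ((hqN j).1 (hkey.1 (h22.trans h00.symm)))
    exact (CharP.cast_eq_zero_iff F p j).1 (h01.resolve_right fun h => g.ne_zero h.1)
  · intro h
    refine ⟨u ^ j, ?_⟩
    have h1 : (j : F) = 0 := (CharP.cast_eq_zero_iff F p j).2 ((dvd_mul_right _ _).trans h)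
    have h2 := hkey.2 ((hqN j).2 ((dvd_mul_left _ _).trans h))
    ext x y
    fin_cases x <;> fin_cases y <;> simp [h1, h2]

/-- The set of element orders of PSL(3,q): let F be a finite field of characteristic p with q elements and d = gcd(3, q − 1). The orders of elements of PSL(3,F) are exactly the divisors of (q² + q + 1)/d, of (q² − 1)/d, of q − 1, of p(q − 1)/d, and, when p = 2, of 4. -/
theorem result {F : Type*} [Field F] [Fintype F] (p : ℕ) [Fact p.Prime] [CharP F p] :
    Set.range (orderOf : Matrix.ProjectiveSpecialLinearGroup (Fin 3) F → ℕ) =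
      {m : ℕ | m ∣ (Fintype.card F ^ 2 + Fintype.card F + 1) / Nat.gcd 3 (Fintype.card F - 1) ∨
        m ∣ (Fintype.card F ^ 2 - 1) / Nat.gcd 3 (Fintype.card F - 1) ∨ m ∣ Fintype.card F - 1 ∨
        m ∣ p * (Fintype.card F - 1) / Nat.gcd 3 (Fintype.card F - 1) ∨ (p = 2 ∧ m ∣ 4)} := by
  classical
  ext m
  constructor
  · rintro ⟨x, rfl⟩
    exact order_cases p x
  · have hdiv : ∀ {N : ℕ}, (∃ x : Matrix.ProjectiveSpecialLinearGroup (Fin 3) F, orderOf x = N) → m ∣ N →
        m ∈ Set.range (orderOf : Matrix.ProjectiveSpecialLinearGroup (Fin 3) F → ℕ) := by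
      rintro N ⟨x, rfl⟩ hm
      exact ⟨x ^ (orderOf x / m), orderOf_pow_orderOf_div (orderOf_pos x).ne' hm⟩
    rintro (h | h | h | h | ⟨rfl, h⟩)
    · exact hdiv (H41.exists_singer_orderOf (by norm_num)) (by rw [singerOrd_three]; exact h)
    · exact hdiv (exists_quad p) h
    · exact hdiv exists_split h
    · exact hdiv (exists_mixed p) (by rw [← Nat.mul_div_assoc _ (Nat.gcd_dvd_right _ _)]; exact h)
    · refine hdiv ?_ h
      obtain ⟨A, hA, -⟩ := H41.exists_psl_pPower (F := F) (n := 3) 2 2 3 le_rfl (by norm_num) (Or.inr (by norm_num))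
      exact ⟨_, by simpa using hA⟩

end Cfsg.Agent.S2476
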