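import Cfsg.Statements.S2477
import Cfsg.Agent.H63.AltOrders
import Mathlib

set_option autoImplicit false
open Cfsg

namespace Cfsg.Agent.S2477

/-- The set of element orders of the alternating group of degree 10 is {1, 2, 3, 4, 5, 6, 7, 8, 9, 10, 12, 15, 21}. -/
theorem result : Set.range (orderOf : alternatingGroup (Fin 10) → ℕ) = {1, 2, 3, 4, 5, 6, 7, 8, 9, 10, 12, 15, 21} := by
  ext k
  rw [H63.mem_range_orderOf_alt_iff_list]
  constructor
  · intro h
    have hsub : ∀ x ∈ ((H63.allTypes 10 10).filter fun l => (l.sum + l.length) % 2 == 0).map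
        (fun (l : List ℕ) => Multiset.lcm (Multiset.ofList l)),
        x ∈ ([1, 2, 3, 4, 5, 6, 7, 8, 9, 10, 12, 15, 21] : List ℕ) := by decide +kernel
    simpa using hsub k h
  · intro h
    have hsup : ∀ x ∈ ([1, 2, 3, 4, 5, 6, 7, 8, 9, 10, 12, 15, 21] : List ℕ),
        x ∈ ((H63.allTypes 10 10).filter fun l => (l.sum + l.length) % 2 == 0).map
        (fun (l : List ℕ) => Multiset.lcm (Multiset.ofList l)) := by decide +kernel
    exact hsup k (by simpa using h)

end Cfsg.Agent.S2477
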