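import Cfsg.Statements.S2478
import Cfsg.Agent.H41.GLCount

set_option autoImplicit false
open Cfsg

namespace Cfsg.Agent.S2478

/-- The number of conjugacy classes of GL(n,q): for F a finite field with q elements and n ≥ 1, the number k of conjugacy classes of GL(n,F) satisfies q^n − q^(n−1) ≤ k ≤ q^n. -/
theorem result {F : Type*} [Field F] [Fintype F] (n : ℕ) (hn : 1 ≤ n) :
    Fintype.card F ^ n - Fintype.card F ^ (n - 1) ≤ Nat.card (ConjClasses (Matrix.GeneralLinearGroup (Fin n) F)) ∧ Nat.card (ConjClasses (Matrix.GeneralLinearGroup (Fin n) F)) ≤ Fintype.card F ^ n := by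
  rw [H41.card_classes_GL F n]
  constructor
  · obtain ⟨d, rfl⟩ : ∃ d, n = d + 1 := ⟨n - 1, by omega⟩
    have h1 : H41.nzCount F (d + 1) ≤ H41.seqCount F 1 (d + 1) := by
      rw [H41.seqCount_succ F 0 (d + 1)]
      have hle := Finset.single_le_sum
        (f := fun k => H41.nzCount F k * H41.seqCount F 0 (d + 1 - (0 + 1) * k))
        (fun k _ => Nat.zero_le _) (Finset.mem_range.mpr (by simp : d + 1 < (d + 1) / (0 + 1) + 1))
      refine le_trans (le_of_eq ?_) hle
      simp [H41.seqCount_zero]
    have h2 : ∀ m, 1 ≤ m → H41.seqCount F 1 (d + 1) ≤ H41.seqCount F m (d + 1) := fun m hm =>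
      Nat.le_induction le_rfl (fun m _ ih => ih.trans (H41.seqCount_mono F m _)) m hm
    refine le_trans ?_ (h1.trans (h2 _ hn))
    rw [H41.nzPoly_succ, Nat.add_sub_cancel, Nat.sub_mul, one_mul, pow_succ']
  · have h := (H41.seqCount_bound F n n).1
    exact_mod_cast h

end Cfsg.Agent.S2478
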