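import Cfsg.Statements.S2485
import Cfsg.Agent.H40.TwoByTwo
import Cfsg.Agent.H37.Card
-- import your own Cfsg.Agent.* helpers here

set_option autoImplicit false
open scoped Pointwise
open Cfsg

namespace Cfsg.Agent.S2485

set_option linter.style.haveILetI false

variable {F : Type*} [Field F] [Fintype F]

/-- Units of a quadratic algebra with trace zero. -/
lemma card_form_le (d : F) (hd : d ≠ 0) (h2 : (2 : F) ≠ 0) :
    Nat.card {x : F × F // x.1 ^ 2 - d * x.2 ^ 2 ≠ 0} ≤ Fintype.card F ^ 2 - 1 ∧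
    ((∃ s, s ^ 2 = d) →
      Nat.card {x : F × F // x.1 ^ 2 - d * x.2 ^ 2 ≠ 0} ≤ (Fintype.card F - 1) ^ 2) := by
  classical
  rw [Nat.card_eq_fintype_card, Fintype.card_subtype]
  have htot : (Finset.univ : Finset (F × F)).card = Fintype.card F ^ 2 := by simp [pow_two]
  constructor
  · calc _ ≤ ((Finset.univ : Finset (F × F)).erase (0, 0)).card := Finset.card_le_card (fun x hx => by
          simp only [Finset.mem_filter, Finset.mem_univ, true_and] at hx
          exact Finset.mem_erase.2 ⟨fun e => hx (by rw [e]; simp), Finset.mem_univ _⟩)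
      _ = _ := by rw [Finset.card_erase_of_mem (Finset.mem_univ _), htot]
  · rintro ⟨s, rfl⟩
    have hs : s ≠ 0 := fun h => hd (by rw [h]; simp)
    set A := (Finset.univ : Finset F).image fun b => (s * b, b) with hA
    set B := ((Finset.univ : Finset F).erase 0).image fun b => (-(s * b), b) with hB
    have hAc : A.card = Fintype.card F := Finset.card_image_of_injective _ fun a b h => by simpa using congrArg Prod.snd h
    have hBc : B.card = Fintype.card F - 1 := by
      rw [hB, Finset.card_image_of_injective _ fun a b h => by simpa using congrArg Prod.snd h,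
        Finset.card_erase_of_mem (Finset.mem_univ _), Finset.card_univ]
    have hAB : Disjoint A B := by
      rw [Finset.disjoint_left]
      intro x hxA hxB
      simp only [hA, hB, Finset.mem_image, Finset.mem_erase, Finset.mem_univ, true_and, and_true] at hxA hxB
      obtain ⟨a, rfl⟩ := hxA
      obtain ⟨b, hb, e⟩ := hxB
      obtain ⟨e1, rfl⟩ : -(s * b) = s * a ∧ b = a := ⟨congrArg Prod.fst e, congrArg Prod.snd e⟩
      exact mul_ne_zero h2 (mul_ne_zero hs hb) (by linear_combination -e1)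
    calc _ ≤ ((Finset.univ : Finset (F × F)) \ (A ∪ B)).card := Finset.card_le_card (fun x hx => by
          simp only [Finset.mem_filter, Finset.mem_univ, true_and] at hx
          simp only [Finset.mem_sdiff, Finset.mem_univ, true_and, Finset.mem_union, not_or, hA, hB,
            Finset.mem_image, Finset.mem_erase, and_true, not_exists, not_and]
          exact ⟨fun b e => hx (by rw [← e]; ring), fun b _ e => hx (by rw [← e]; ring)⟩)
      _ = _ := by
        rw [Finset.card_sdiff_of_subset (Finset.subset_univ _), Finset.card_union_of_disjoint hAB, hAc, hBc, htot]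
        obtain ⟨k, hk⟩ : ∃ k, Fintype.card F = k + 1 := ⟨Fintype.card F - 1, by have := Fintype.card_pos (α := F); omega⟩
        rw [hk, Nat.add_sub_cancel, show (k + 1) ^ 2 = k ^ 2 + (k + 1 + k) by ring, Nat.add_sub_cancel]

local notation "GL2" => GL (Fin 2) F
local notation "Z2" => Subgroup.center (GL (Fin 2) F)

/-- An involution of `PGL_2` has trace zero, and a small centraliser. -/
lemma invol_facts (h2 : (2 : F) ≠ 0) (Z : GL2) (hZ : Z ∉ Z2) (hsq : Z * Z ∈ Z2) :
    (Z : Matrix (Fin 2) (Fin 2) F).trace = 0 ∧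
    (∃ d : F, d ≠ 0 ∧ (Z : Matrix (Fin 2) (Fin 2) F) * Z = d • 1 ∧
      Nat.card (Subgroup.centralizer ({(QuotientGroup.mk Z : GL2 ⧸ Z2)} : Set (GL2 ⧸ Z2))) * (Fintype.card F - 1)
        ≤ 2 * Nat.card {x : F × F // x.1 ^ 2 - d * x.2 ^ 2 ≠ 0}) := by
  classical
  have hns : ¬ H40.IsScalar2 (Z : Matrix (Fin 2) (Fin 2) F) := by
    rintro ⟨a, b, c⟩
    refine hZ (Matrix.GeneralLinearGroup.mem_center_iff_val_mem_range_scalar.2 ⟨Z 0 0, ?_⟩)
    ext i j
    fin_cases i <;> fin_cases j <;> simp [a, b, c]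
  obtain ⟨d, hd⟩ := Matrix.GeneralLinearGroup.mem_center_iff_val_mem_range_scalar.1 hsq
  have hd' : (Z : Matrix (Fin 2) (Fin 2) F) * Z = d • 1 := by
    rw [← Units.val_mul, ← hd, Matrix.scalar_apply, Matrix.smul_one_eq_diagonal]
  have e := fun i j => congrFun (congrFun hd' i) j
  have e00 := e 0 0; have e01 := e 0 1; have e10 := e 1 0; have e11 := e 1 1
  simp [Matrix.mul_apply, Fin.sum_univ_two] at e00 e01 e10 e11
  set M := (Z : Matrix (Fin 2) (Fin 2) F) with hM
  have htr : M.trace = 0 := by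
    rw [Matrix.trace_fin_two]
    by_contra ht
    have b0 : M 0 1 = 0 := (mul_eq_zero.1 (show M 0 1 * (M 0 0 + M 1 1) = 0 by linear_combination e01)).resolve_right ht
    have c0 : M 1 0 = 0 := (mul_eq_zero.1 (show M 1 0 * (M 0 0 + M 1 1) = 0 by linear_combination e10)).resolve_right ht
    have hh : (M 0 0 - M 1 1) * (M 0 0 + M 1 1) = 0 := by linear_combination e00 - e11
    exact hns ⟨b0, c0, sub_eq_zero.1 ((mul_eq_zero.1 hh).resolve_right ht)⟩
  have hd0 : d ≠ 0 := by
    intro h0
    rw [h0, zero_smul] at hd'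
    have := (Z * Z).isUnit
    rw [Units.val_mul, ← hM, hd'] at this
    exact not_isUnit_zero this
  have hdet : M.det = -d := by
    rw [Matrix.trace_fin_two] at htr
    rw [Matrix.det_fin_two]
    linear_combination -e00 + M 0 0 * htr
  refine ⟨htr, d, hd0, hd', ?_⟩
  let π := QuotientGroup.mk' Z2
  let C : Set GL2 := {g | (g : Matrix (Fin 2) (Fin 2) F) * M = M * g}
  let C' : Set GL2 := {g | (g : Matrix (Fin 2) (Fin 2) F) * M = -(M * g)}
  have hsub : (((Subgroup.centralizer ({π Z} : Set (GL2 ⧸ Z2))).comap π : Subgroup GL2) : Set GL2) ⊆ C ∪ C' := by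
    intro g hg
    rw [SetLike.mem_coe, Subgroup.mem_comap, Subgroup.mem_centralizer_singleton_iff, ← map_mul, ← map_mul] at hg
    obtain ⟨c, hc⟩ := Matrix.GeneralLinearGroup.mem_center_iff_val_mem_range_scalar.1 (QuotientGroup.eq.1 hg.symm)
    have hgm : (g : Matrix (Fin 2) (Fin 2) F) * M = c • (M * g) := by
      have : g * Z = (Z * g) * ((Z * g)⁻¹ * (g * Z)) := by group
      have h' := congrArg Units.val this
      rw [Units.val_mul, Units.val_mul (Z * g), ← hc, Units.val_mul, Matrix.scalar_apply, ← Matrix.smul_one_eq_diagonal,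
        Matrix.mul_smul, Matrix.mul_one] at h'
      exact h'
    have h3 : (g : Matrix (Fin 2) (Fin 2) F) * (M * M) = (c * c) • ((M * M) * g) := by
      rw [← Matrix.mul_assoc, hgm, Matrix.smul_mul, Matrix.mul_assoc M (g : Matrix (Fin 2) (Fin 2) F) M, hgm,
        Matrix.mul_smul, smul_smul, Matrix.mul_assoc]
    rw [hd', Matrix.mul_smul, Matrix.mul_one, Matrix.smul_mul, Matrix.one_mul, smul_smul] at h3
    have hc2 : c * c * d = d := by
      by_contra hne
      have hg0 : (g : Matrix (Fin 2) (Fin 2) F) = 0 := by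
        have : (c * c * d - d) • (g : Matrix (Fin 2) (Fin 2) F) = 0 := by rw [sub_smul, ← h3, sub_self]
        exact (smul_eq_zero.1 this).resolve_left (sub_ne_zero.2 hne)
      exact not_isUnit_zero (hg0 ▸ g.isUnit)
    rcases sq_eq_one_iff.1 (show c ^ 2 = 1 by
        rw [pow_two]; exact mul_right_cancel₀ hd0 (hc2.trans (one_mul d).symm)) with h | h
    · left; change _ = _; rw [hgm, h, one_smul]
    · right; change _ = _; rw [hgm, h, neg_one_smul]
  have hC : C.ncard ≤ Nat.card {x : F × F // x.1 ^ 2 - d * x.2 ^ 2 ≠ 0} := by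
    rw [← Nat.card_coe_set_eq]
    have hpoly : ∀ g : C, ∃ x : {x : F × F // x.1 ^ 2 - d * x.2 ^ 2 ≠ 0},
        ((g : GL2) : Matrix (Fin 2) (Fin 2) F) = x.1.1 • 1 + x.1.2 • M := by
      rintro ⟨g, hg⟩
      obtain ⟨a, b, hab⟩ := H40.comm_eq_poly hns hg
      refine ⟨⟨(a, b), ?_⟩, hab⟩
      have h := H40.det_poly M a b
      rw [← hab, htr, hdet] at h
      intro h0
      exact ((Matrix.isUnit_iff_isUnit_det _).1 g.isUnit).ne_zero (h.trans (by linear_combination h0))
    choose f hf using hpoly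
    exact Nat.card_le_card_of_injective f fun g g' h => Subtype.ext (Units.ext (by rw [hf, hf, h]))
  have hC' : C'.ncard ≤ C.ncard := by
    rcases C'.eq_empty_or_nonempty with h | ⟨g0, hg0⟩
    · rw [h]; simp
    · refine Set.ncard_le_ncard_of_injOn (fun g => g0⁻¹ * g) (fun g hg => ?_) (mul_right_injective _).injOn (Set.toFinite _)
      have hg0' : ((g0⁻¹ : GL2) : Matrix (Fin 2) (Fin 2) F) * M = -(M * ((g0⁻¹ : GL2) : Matrix (Fin 2) (Fin 2) F)) := by
        have h1 : M = -((g0⁻¹ : GL2) : Matrix (Fin 2) (Fin 2) F) * (M * g0) := by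
          rw [Matrix.neg_mul, ← Matrix.mul_neg, ← hg0, ← Matrix.mul_assoc, Units.inv_mul, Matrix.one_mul]
        conv_rhs => rw [h1]
        rw [Matrix.mul_assoc, Matrix.mul_assoc, Units.mul_inv, Matrix.mul_one,
          Matrix.neg_mul, neg_neg]
      change ((g0⁻¹ * g : GL2) : Matrix (Fin 2) (Fin 2) F) * M = M * ((g0⁻¹ * g : GL2) : Matrix (Fin 2) (Fin 2) F)
      rw [Units.val_mul, Matrix.mul_assoc, (hg : _ = _), Matrix.mul_neg, ← Matrix.mul_assoc, hg0', Matrix.neg_mul,
        neg_neg, Matrix.mul_assoc]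
  have hcard : Nat.card ↥((Subgroup.centralizer ({π Z} : Set (GL2 ⧸ Z2))).comap π) =
      Nat.card (Subgroup.centralizer ({π Z} : Set (GL2 ⧸ Z2))) * (Fintype.card F - 1) := by
    set K := (Subgroup.centralizer ({π Z} : Set (GL2 ⧸ Z2))).comap π
    have h1 := Subgroup.index_comap_of_surjective (Subgroup.centralizer ({π Z} : Set (GL2 ⧸ Z2)))
      (QuotientGroup.mk'_surjective Z2)
    have h2 := K.card_mul_index
    have h3 := (Subgroup.centralizer ({π Z} : Set (GL2 ⧸ Z2))).card_mul_index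
    have h4 := Subgroup.card_eq_card_quotient_mul_card_subgroup Z2
    rw [H37.card_center_GL, Nat.card_eq_fintype_card (α := F), ← h3, ← h2, h1] at h4
    have hpos : 0 < (Subgroup.centralizer ({π Z} : Set (GL2 ⧸ Z2))).index := Nat.pos_of_ne_zero Subgroup.index_ne_zero_of_finite
    refine Nat.eq_of_mul_eq_mul_right hpos (h4.trans (by ring))
  rw [show (QuotientGroup.mk Z : GL2 ⧸ Z2) = π Z from rfl, ← hcard, two_mul, ← SetLike.coe_sort_coe,
    Nat.card_coe_set_eq]
  exact (Set.ncard_le_ncard hsub (Set.toFinite _)).trans ((Set.ncard_union_le _ _).trans (Nat.add_le_add hC (hC'.trans hC)))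


/-- Let q = 2^k − 1 ≥ 7 be a prime and let G = PGL(2,q), the general linear group of degree 2 over the field with q elements modulo its centre. Then any two Sylow 2-subgroups of G have a non-trivial intersection: for a Sylow 2-subgroup H and every x ∈ G, H ∩ H^x ≠ 1. -/
theorem result {q k : ℕ} [Fact q.Prime] (hk : q + 1 = 2 ^ k) (hq : 7 ≤ q)
    (H : Sylow 2 (GL (Fin 2) (ZMod q) ⧸ Subgroup.center (GL (Fin 2) (ZMod q))))
    (x : GL (Fin 2) (ZMod q) ⧸ Subgroup.center (GL (Fin 2) (ZMod q))) :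
    (H : Subgroup (GL (Fin 2) (ZMod q) ⧸ Subgroup.center (GL (Fin 2) (ZMod q)))) ⊓ MulAut.conj x • (H : Subgroup _) ≠ ⊥ := by
  classical
  haveI : Fact (Nat.Prime 2) := ⟨Nat.prime_two⟩
  have hqF : Fintype.card (ZMod q) = q := ZMod.card q
  have h2 : (2 : ZMod q) ≠ 0 := by
    intro h
    have := (ZMod.natCast_eq_zero_iff _ _).1 (show ((2 : ℕ) : ZMod q) = 0 by exact_mod_cast h)
    have := Nat.le_of_dvd two_pos this
    omega
  -- the Sylow subgroup has order at least `2 (q + 1)`
  have hH : 2 * (q + 1) ≤ Nat.card H.toSubgroup := by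
    have hG : Nat.card (GL (Fin 2) (ZMod q) ⧸ Subgroup.center (GL (Fin 2) (ZMod q))) = q * (q - 1) * (q + 1) := by
      have h1 := Subgroup.card_eq_card_quotient_mul_card_subgroup (Subgroup.center (GL (Fin 2) (ZMod q)))
      rw [H37.card_center_GL, Matrix.card_GL_field, hqF, Nat.card_eq_fintype_card (α := ZMod q), hqF] at h1
      simp only [Fin.prod_univ_two, Fin.val_zero, pow_zero, Fin.val_one, pow_one] at h1
      refine (Nat.eq_of_mul_eq_mul_right (show 0 < q - 1 by omega) (h1.symm.trans ?_))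
      obtain ⟨a, rfl⟩ : ∃ a, q = a + 1 := ⟨q - 1, by omega⟩
      rw [show (a + 1) ^ 2 - 1 = a * (a + 2) by rw [show (a + 1) ^ 2 = a * (a + 2) + 1 by ring, Nat.add_sub_cancel],
        show (a + 1) ^ 2 - (a + 1) = (a + 1) * a by
          rw [show (a + 1) ^ 2 = (a + 1) * a + (a + 1) by ring, Nat.add_sub_cancel], Nat.add_sub_cancel]
      ring
    have hdvd : 2 ^ (k + 1) ∣ Nat.card (GL (Fin 2) (ZMod q) ⧸ Subgroup.center (GL (Fin 2) (ZMod q))) := by
      rw [hG, pow_succ', ← hk]
      refine mul_dvd_mul_right (Dvd.dvd.mul_left ?_ q) _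
      have : Odd q := (Fact.out : q.Prime).odd_of_ne_two (by omega)
      obtain ⟨m, hm⟩ := this
      exact ⟨m, by omega⟩
    have := Nat.le_of_dvd Nat.card_pos (H.pow_dvd_card_of_pow_dvd_card hdvd)
    rwa [pow_succ', ← hk] at this
  haveI : Nontrivial H.toSubgroup := Finite.one_lt_card_iff_nontrivial.1 (by omega)
  -- a central involution
  obtain ⟨z, hz⟩ : ∃ z : Subgroup.center H.toSubgroup, orderOf z = 2 := by
    haveI := H.2.center_nontrivial
    refine exists_prime_orderOf_dvd_card' 2 ?_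
    obtain ⟨n, hn⟩ := IsPGroup.iff_card.1 (H.2.to_subgroup (Subgroup.center H.toSubgroup))
    rcases n with _ | n
    · rw [pow_zero] at hn
      exact absurd hn (Finite.one_lt_card (α := Subgroup.center H.toSubgroup)).ne'
    · exact hn ▸ dvd_pow_self 2 n.succ_ne_zero
  set z' : GL (Fin 2) (ZMod q) ⧸ Subgroup.center (GL (Fin 2) (ZMod q)) := ((z : H.toSubgroup) : GL (Fin 2) (ZMod q) ⧸ Subgroup.center (GL (Fin 2) (ZMod q))) with hz'def
  obtain ⟨Z, hZe⟩ := QuotientGroup.mk'_surjective _ z'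
  have hoz : orderOf z' = 2 := by rw [hz'def, Subgroup.orderOf_coe, Subgroup.orderOf_coe, hz]
  have hZ : Z ∉ Subgroup.center (GL (Fin 2) (ZMod q)) := fun h => by
    rw [← hZe, show QuotientGroup.mk' _ Z = 1 from (QuotientGroup.eq_one_iff Z).2 h, orderOf_one] at hoz
    omega
  have hsq : Z * Z ∈ Subgroup.center (GL (Fin 2) (ZMod q)) := by
    refine (QuotientGroup.eq_one_iff _).1 ?_
    change QuotientGroup.mk' _ (Z * Z) = 1
    rw [map_mul, hZe, ← pow_two]
    have := pow_orderOf_eq_one z'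
    rwa [hoz] at this
  obtain ⟨htr, d, hd0, hd, hcard⟩ := invol_facts h2 Z hZ hsq
  have hle : H.toSubgroup ≤ Subgroup.centralizer ({(QuotientGroup.mk Z : GL (Fin 2) (ZMod q) ⧸ Subgroup.center (GL (Fin 2) (ZMod q)))} : Set _) := by
    intro h hh
    rw [Subgroup.mem_centralizer_singleton_iff, show (QuotientGroup.mk Z : GL (Fin 2) (ZMod q) ⧸ Subgroup.center (GL (Fin 2) (ZMod q))) = z' from hZe]
    exact congrArg Subtype.val (Subgroup.mem_center_iff.1 z.2 ⟨h, hh⟩)
  have hHC := Subgroup.card_le_of_le hle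
  obtain ⟨hform, hsplit⟩ := card_form_le d hd0 h2
  rw [hqF] at hform hsplit hcard
  obtain ⟨a, rfl⟩ : ∃ a, q = a + 1 := ⟨q - 1, by omega⟩
  rw [Nat.add_sub_cancel] at hcard hsplit
  have hnsq : ¬ ∃ s, s ^ 2 = d := fun hs => by
    have h' := hsplit hs
    nlinarith
  have heq : H.toSubgroup = Subgroup.centralizer ({(QuotientGroup.mk Z : GL (Fin 2) (ZMod (a + 1)) ⧸ Subgroup.center (GL (Fin 2) (ZMod (a + 1))))} : Set _) := by
    refine Subgroup.eq_of_le_of_card_ge hle ?_
    have h' : (a + 1) ^ 2 - 1 = a * (a + 2) := by rw [show (a + 1) ^ 2 = a * (a + 2) + 1 by ring, Nat.add_sub_cancel]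
    rw [h'] at hform
    nlinarith
  -- a common anticommuting element of `Z` and its conjugate
  obtain ⟨X, rfl⟩ := QuotientGroup.mk'_surjective _ x
  set M := (Z : Matrix (Fin 2) (Fin 2) (ZMod (a + 1))) with hM
  set W := X * Z * X⁻¹ with hW
  set M' := (W : Matrix (Fin 2) (Fin 2) (ZMod (a + 1))) with hM'
  have hWd : M' * M' = d • 1 := by
    rw [hM', ← Units.val_mul, show W * W = X * (Z * Z) * X⁻¹ by rw [hW]; group,
      Subgroup.mem_center_iff.1 hsq X, mul_inv_cancel_right, Units.val_mul, ← hM, hd]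
  rw [Subgroup.ne_bot_iff_exists_ne_one]
  suffices h : ∃ w : GL (Fin 2) (ZMod (a + 1)) ⧸ Subgroup.center (GL (Fin 2) (ZMod (a + 1))), w ≠ 1 ∧
      w * QuotientGroup.mk Z = QuotientGroup.mk Z * w ∧ w * QuotientGroup.mk W = QuotientGroup.mk W * w by
    obtain ⟨w, hw1, hwZ, hwW⟩ := h
    refine ⟨⟨w, ?_, ?_⟩, fun e => hw1 (congrArg Subtype.val e)⟩
    · show w ∈ H.toSubgroup
      rw [heq, Subgroup.mem_centralizer_singleton_iff]; exact hwZ
    · show w ∈ MulAut.conj (QuotientGroup.mk' _ X) • H.toSubgroup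
      rw [Subgroup.mem_pointwise_smul_iff_inv_smul_mem, heq, Subgroup.mem_centralizer_singleton_iff]
      have e : (MulAut.conj (QuotientGroup.mk' (Subgroup.center (GL (Fin 2) (ZMod (a + 1)))) X))⁻¹ • w
          = (QuotientGroup.mk X)⁻¹ * w * QuotientGroup.mk X := by simp [MulAut.smul_def]
      rw [hW, QuotientGroup.mk_mul, QuotientGroup.mk_mul, QuotientGroup.mk_inv] at hwW
      rw [e]
      have := congrArg (fun y => (QuotientGroup.mk X)⁻¹ * y * QuotientGroup.mk X) hwW
      simpa [mul_assoc] using this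
  by_cases hN : M * M' - M' * M = 0
  · -- the two involutions commute: `Z` itself works
    refine ⟨QuotientGroup.mk Z, fun h => hZ ((QuotientGroup.eq_one_iff Z).1 h), rfl, ?_⟩
    rw [← QuotientGroup.mk_mul, ← QuotientGroup.mk_mul]
    congr 1
    exact Units.ext (by rw [Units.val_mul, Units.val_mul]; exact sub_eq_zero.1 hN)
  set N := M * M' - M' * M with hNdef
  have hMN : M * N = -(N * M) := by
    rw [hNdef, Matrix.mul_sub, Matrix.sub_mul, ← Matrix.mul_assoc, hd, Matrix.smul_mul, Matrix.one_mul,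
      Matrix.mul_assoc M' M M, hd, Matrix.mul_smul, Matrix.mul_one, Matrix.mul_assoc M M' M]
    abel
  have hM'N : M' * N = -(N * M') := by
    rw [hNdef, Matrix.mul_sub, Matrix.sub_mul, ← Matrix.mul_assoc M' M' M, hWd, Matrix.smul_mul, Matrix.one_mul,
      Matrix.mul_assoc M M' M', hWd, Matrix.mul_smul, Matrix.mul_one, Matrix.mul_assoc M' M M']
    abel
  have hdetN : IsUnit N.det := by
    rw [isUnit_iff_ne_zero]
    intro h0
    obtain ⟨v, hv, hNv⟩ := Matrix.exists_mulVec_eq_zero_iff.2 h0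
    -- the kernel line is preserved by `M`, so `M` has an eigenvector
    have hNMv : N.mulVec (M.mulVec v) = 0 := by
      rw [Matrix.mulVec_mulVec, show N * M = -(M * N) by rw [hMN, neg_neg], Matrix.neg_mulVec,
        ← Matrix.mulVec_mulVec, hNv, Matrix.mulVec_zero, neg_zero]
    have hk : Module.finrank (ZMod (a + 1)) (LinearMap.ker N.mulVecLin) ≤ 1 := by
      by_contra hgt
      apply hN
      have htop : LinearMap.ker N.mulVecLin = ⊤ := Submodule.eq_top_of_finrank_eq (by
        have := Submodule.finrank_le (LinearMap.ker N.mulVecLin)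
        rw [Module.finrank_fin_fun] at this ⊢
        omega)
      exact Matrix.ext_iff_mulVec.2 fun u => by
        rw [Matrix.zero_mulVec]
        exact LinearMap.mem_ker.1 (htop ▸ Submodule.mem_top (x := u) : u ∈ LinearMap.ker N.mulVecLin)
    have hk1 : Module.finrank (ZMod (a + 1)) (LinearMap.ker N.mulVecLin) = 1 := le_antisymm hk
      (Submodule.one_le_finrank_iff.2 ((Submodule.ne_bot_iff _).2 ⟨v, hNv, hv⟩))
    obtain ⟨c, hc⟩ := (finrank_eq_one_iff_of_nonzero' (⟨v, hNv⟩ : LinearMap.ker N.mulVecLin)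
      (fun e => hv (congrArg Subtype.val e))).1 hk1 ⟨M.mulVec v, hNMv⟩
    have hc' : c • v = M.mulVec v := congrArg Subtype.val hc
    refine hnsq ⟨c, ?_⟩
    have h : (c * c) • v = d • v := by
      rw [← smul_smul, hc', ← Matrix.mulVec_smul, hc', Matrix.mulVec_mulVec, hd, Matrix.smul_mulVec, Matrix.one_mulVec]
    rw [pow_two]
    exact smul_left_injective _ hv h
  let w : GL (Fin 2) (ZMod (a + 1)) := ((Matrix.isUnit_iff_isUnit_det N).2 hdetN).unit
  have hw : (w : Matrix (Fin 2) (Fin 2) (ZMod (a + 1))) = N := IsUnit.unit_spec _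
  have key : ∀ Y : GL (Fin 2) (ZMod (a + 1)), (Y : Matrix (Fin 2) (Fin 2) (ZMod (a + 1))) * N = -(N * (Y : Matrix (Fin 2) (Fin 2) (ZMod (a + 1)))) →
      (QuotientGroup.mk w : GL (Fin 2) (ZMod (a + 1)) ⧸ Subgroup.center (GL (Fin 2) (ZMod (a + 1)))) * QuotientGroup.mk Y
        = QuotientGroup.mk Y * QuotientGroup.mk w := by
    intro Y hY
    rw [← QuotientGroup.mk_mul, ← QuotientGroup.mk_mul, QuotientGroup.eq]
    refine Matrix.GeneralLinearGroup.mem_center_iff_val_mem_range_scalar.2 ⟨-1, ?_⟩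
    have e : ((Y * w : GL (Fin 2) (ZMod (a + 1))) : Matrix (Fin 2) (Fin 2) (ZMod (a + 1)))
        = -((w * Y : GL (Fin 2) (ZMod (a + 1))) : Matrix (Fin 2) (Fin 2) (ZMod (a + 1))) := by
      rw [Units.val_mul, Units.val_mul, hw, hY]
    rw [Units.val_mul (w * Y)⁻¹, e, Matrix.mul_neg, ← Units.val_mul, inv_mul_cancel, Units.val_one, map_neg, map_one]
  refine ⟨QuotientGroup.mk w, fun h => ?_, key Z hMN, key W hM'N⟩
  -- the element is not scalar, as it has trace zero and is invertible
  obtain ⟨c, hc⟩ := Matrix.GeneralLinearGroup.mem_center_iff_val_mem_range_scalar.1 ((QuotientGroup.eq_one_iff w).1 h)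
  rw [hw] at hc
  have ht : N.trace = 0 := by rw [hNdef, Matrix.trace_sub, Matrix.trace_mul_comm, sub_self]
  rw [← hc, Matrix.trace_fin_two] at ht
  simp at ht
  have hc0 : c = 0 := (mul_eq_zero.1 (show (2 : ZMod (a + 1)) * c = 0 by linear_combination ht)).resolve_left h2
  exact hN (by rw [← hc, hc0, map_zero])

end Cfsg.Agent.S2485
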