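import Cfsg.Statements.S2486
import Cfsg.Agent.H39.BruhatOvergroup
-- import your own Cfsg.Agent.* helpers here

set_option autoImplicit false
open scoped Pointwise
open Cfsg
set_option linter.style.haveILetI false
set_option linter.unusedVariables false

namespace Cfsg.Agent.S2486

open scoped Pointwise

variable {n : ℕ}

local notation "L" => Matrix.SpecialLinearGroup (Fin n) (ZMod 2)

lemma zmod_two_eq_one {x : ZMod 2} (h : x ≠ 0) : x = 1 := by revert x; decide

section Lin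

variable [Fact (Nat.Prime 2)]

lemma normalizer_unitriangular :
    Subgroup.normalizer ((H37.unitriangularSL n (ZMod 2) : Subgroup L) : Set L) = H37.unitriangularSL n (ZMod 2) := by
  refine le_antisymm (fun g hg => ?_) Subgroup.le_normalizer
  have hu := H39.Unip.upper_of_normalizes hg
  refine ⟨hu, fun i => zmod_two_eq_one fun h => ?_⟩
  have hd := g.2
  rw [Matrix.det_of_isUpperTriangular hu] at hd
  have h' : (g : Matrix (Fin n) (Fin n) (ZMod 2)) i i = 0 := h
  exact zero_ne_one ((Finset.prod_eq_zero (f := fun i => (g : Matrix (Fin n) (Fin n) (ZMod 2)) i i) (Finset.mem_univ i) h').symm.trans hd)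

/-- Conjugates of the unitriangular group meeting it trivially form one orbit. -/
lemma exists_conj_of_trivial_inter {a b : L}
    (ha : H37.unitriangularSL n (ZMod 2) ⊓ MulAut.conj a • H37.unitriangularSL n (ZMod 2) = ⊥)
    (hb : H37.unitriangularSL n (ZMod 2) ⊓ MulAut.conj b • H37.unitriangularSL n (ZMod 2) = ⊥) :
    ∃ u ∈ H37.unitriangularSL n (ZMod 2), ∃ v ∈ H37.unitriangularSL n (ZMod 2), b = u * a * v := by
  classical
  set U := H37.unitriangularSL n (ZMod 2) with hU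
  have key : ∀ a : L, U ⊓ MulAut.conj a • U = ⊥ → ∃ u₁ ∈ U, ∃ u₂ ∈ U, ∃ m : L,
      H39.Unip.IsMon Fin.revPerm m ∧ a = u₁ * m * u₂ := by
    intro a ha
    obtain ⟨u₁, hu₁, u₂, hu₂, σ, m, hm, rfl⟩ := H39.Unip.exists_unipotent_mon a
    have hanti : StrictAnti σ := by
      intro i j hij
      by_contra hle
      have hlt : σ i < σ j := lt_of_le_of_ne (not_lt.1 hle) (σ.injective.ne hij.ne)
      have h1 : H39.Unip.el hlt.ne (1 : ZMod 2) ∈ U := H39.Unip.el_mem_unitriangular hlt 1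
      have h2 : H39.Unip.el hlt.ne (1 : ZMod 2) = m * H39.Unip.el hij.ne 1 * m⁻¹ :=
        (hm.mul_el hij.ne 1 1 (by rw [zmod_two_eq_one (hm.ne_zero i), zmod_two_eq_one (hm.ne_zero j)])).symm
      have h3 : u₁ * H39.Unip.el hlt.ne (1 : ZMod 2) * u₁⁻¹ ∈ U ⊓ MulAut.conj (u₁ * m * u₂) • U := by
        refine Subgroup.mem_inf.2 ⟨U.mul_mem (U.mul_mem hu₁ h1) (U.inv_mem hu₁), ?_⟩
        rw [Subgroup.mem_pointwise_smul_iff_inv_smul_mem, h2]
        show (MulAut.conj (u₁ * m * u₂))⁻¹ _ ∈ U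
        rw [MulAut.conj_inv_apply]
        have : (u₁ * m * u₂)⁻¹ * (u₁ * (m * H39.Unip.el hij.ne 1 * m⁻¹) * u₁⁻¹) * (u₁ * m * u₂) =
            u₂⁻¹ * H39.Unip.el hij.ne 1 * u₂ := by group
        rw [this]
        exact U.mul_mem (U.mul_mem (U.inv_mem hu₂) (H39.Unip.el_mem_unitriangular hij 1)) hu₂
      rw [ha, Subgroup.mem_bot, mul_inv_eq_one, mul_eq_left] at h3
      have h4 := congrFun (congrFun (congrArg (fun g : L => (g : Matrix (Fin n) (Fin n) (ZMod 2))) h3) (σ i)) (σ j)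
      simp [H39.Unip.el_val, Matrix.transvection, Matrix.one_apply_ne hlt.ne] at h4
    have hσ : σ = Fin.revPerm := by
      have h1 : StrictMono (fun i => Fin.rev (σ i)) := fun i j hij => Fin.rev_lt_rev.2 (hanti hij)
      have h2 : (fun i => Fin.rev (σ i)) = id := (h1.range_inj strictMono_id).1 (by
        rw [Set.range_id, show (fun i => Fin.rev (σ i)) = Fin.rev ∘ σ from rfl,
          (Fin.rev_surjective.comp σ.surjective).range_eq])
      refine Equiv.ext fun i => ?_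
      have := congrFun h2 i
      simp only [id] at this
      rw [Fin.revPerm_apply, ← Fin.rev_rev (σ i), this]
    exact ⟨u₁, hu₁, u₂, hu₂, m, hσ ▸ hm, rfl⟩
  obtain ⟨u₁, hu₁, u₂, hu₂, m, hm, rfl⟩ := key a ha
  obtain ⟨v₁, hv₁, v₂, hv₂, m', hm', rfl⟩ := key b hb
  have hmm : m' = m := by
    refine Subtype.ext (Matrix.ext fun r c => ?_)
    by_cases hr : r = Fin.revPerm c
    · rw [hr, zmod_two_eq_one (hm'.ne_zero c), zmod_two_eq_one (hm.ne_zero c)]
    · rw [hm' r c hr, hm r c hr]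
  exact ⟨v₁ * u₁⁻¹, U.mul_mem hv₁ (U.inv_mem hu₁), u₂⁻¹ * v₂, U.mul_mem (U.inv_mem hu₂) hv₂, by rw [hmm]; group⟩

/-- The facts about Sylow two-subgroups of `SL n 2` which are used. -/
lemma sylow_facts (Q Q' Q'' : Sylow 2 L) :
    Subgroup.normalizer ((Q : Subgroup L) : Set L) = (Q : Subgroup L) ∧
      ((Q : Subgroup L) ⊓ (Q' : Subgroup L) = ⊥ → (Q : Subgroup L) ⊓ (Q'' : Subgroup L) = ⊥ →
        ∃ u ∈ (Q : Subgroup L), MulAut.conj u • (Q' : Subgroup L) = (Q'' : Subgroup L)) := by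
  set U := H37.unitriangularSL n (ZMod 2) with hU
  have hS : ((H37.sylowSL (F := ZMod 2) 2 n : Sylow 2 L) : Subgroup L) = U := H37.coe_sylowSL 2 n
  have hc : ∀ P : Sylow 2 L, ∃ g : L, (P : Subgroup L) = MulAut.conj g • U := fun P => by
    obtain ⟨g, hg⟩ := MulAction.exists_smul_eq L (H37.sylowSL (F := ZMod 2) 2 n) P
    exact ⟨g, by rw [← hg, Sylow.coe_subgroup_smul, hS]⟩
  obtain ⟨g, hg⟩ := hc Q
  obtain ⟨a, ha⟩ := hc Q'
  obtain ⟨b, hb⟩ := hc Q''
  rw [hg, ha, hb]
  constructor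
  · rw [Subgroup.pointwise_smul_def]
    have h := Subgroup.map_equiv_normalizer_eq U (MulAut.conj g)
    rw [normalizer_unitriangular] at h
    exact h.symm
  · intro h1 h2
    have hmove : ∀ c : L, MulAut.conj g • U ⊓ MulAut.conj c • U = ⊥ → U ⊓ MulAut.conj (g⁻¹ * c) • U = ⊥ := by
      intro c hc
      have h3 := congrArg (fun K : Subgroup L => (MulAut.conj g)⁻¹ • K) hc
      simp only [Subgroup.smul_inf, inv_smul_smul, Subgroup.smul_bot] at h3
      rw [smul_smul] at h3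
      rw [map_mul, map_inv]
      exact h3
    obtain ⟨u, hu, v, hv, he⟩ := exists_conj_of_trivial_inter (hmove a h1) (hmove b h2)
    refine ⟨g * u * g⁻¹, ⟨u, hu, rfl⟩, ?_⟩
    have hb' : b = g * u * g⁻¹ * (a * v) := by
      calc b = g * (g⁻¹ * b) := by group
        _ = _ := by rw [he]; group
    have hvU : MulAut.conj v • U = U := Subgroup.conj_smul_eq_self_of_mem hv
    rw [hb', map_mul (MulAut.conj) (g * u * g⁻¹), map_mul (MulAut.conj) a, ← smul_smul, ← smul_smul, hvU]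

end Lin

/-- Let n ≥ 4 and let G be a finite group with a normal subgroup N of index 2 isomorphic to SL(n,2) and with trivial centralizer in G (so G is the extension of the simple group L_n(2) by its inverse-transpose automorphism, its full automorphism group). Then any two Sylow 2-subgroups of G have a non-trivial intersection: for a Sylow 2-subgroup H and every x ∈ G, H ∩ H^x ≠ 1. -/
theorem result {G : Type*} [Group G] [Finite G] {n : ℕ} (hn : 4 ≤ n) (N : Subgroup G) [N.Normal]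
    (e : N ≃* Matrix.SpecialLinearGroup (Fin n) (ZMod 2)) (hidx : N.index = 2)
    (hC : Subgroup.centralizer (N : Set G) = ⊥)
    (H : Sylow 2 G) (x : G) :
    (H : Subgroup G) ⊓ MulAut.conj x • (H : Subgroup G) ≠ ⊥ := by
  classical
  haveI : Fact (Nat.Prime 2) := ⟨Nat.prime_two⟩
  set P := (H : Subgroup G) ⊓ N with hPdef
  -- Sylow subgroups of `N`
  obtain ⟨h0, hh0, hh0N⟩ : ∃ h0 ∈ (H : Subgroup G), h0 ∉ N := by
    by_contra hcon
    push Not at hcon
    apply H.not_dvd_index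
    have h2 := Subgroup.index_dvd_of_le hcon
    rw [hidx] at h2
    exact h2
  have hrel : N.relIndex (H : Subgroup G) = 2 := by
    have h1 : N.relIndex (H : Subgroup G) ∣ 2 := by
      have h3 := Subgroup.relIndex_dvd_index_of_normal N (H : Subgroup G)
      rw [hidx] at h3
      exact h3
    rcases (Nat.dvd_prime Nat.prime_two).1 h1 with h | h
    · exact absurd (Subgroup.relIndex_eq_one.1 h hh0) hh0N
    · exact h
  let PN : Sylow 2 N := (H.2.comap_subtype (K := N)).toSylow (by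
    change ¬ 2 ∣ (H : Subgroup G).relIndex N
    intro h
    apply H.not_dvd_index
    have h1 := Subgroup.relIndex_mul_index (inf_le_right : (H : Subgroup G) ⊓ N ≤ N)
    have h2 := Subgroup.relIndex_mul_index (inf_le_left : (H : Subgroup G) ⊓ N ≤ H)
    rw [Subgroup.inf_relIndex_right, hidx, ← h2, Subgroup.inf_relIndex_left, hrel, mul_comm] at h1
    rw [Nat.eq_of_mul_eq_mul_left two_pos h1] at h
    exact h)
  have hPN : (PN : Subgroup N) = (H : Subgroup G).subgroupOf N := rfl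
  -- transfer to the linear group
  let f : N →* Matrix.SpecialLinearGroup (Fin n) (ZMod 2) := e.toMonoidHom
  have hfs : Function.Surjective f := e.surjective
  have hfi : Function.Injective f := e.injective
  have hnorm : ∀ g : N, (∀ y : N, y ∈ (PN : Subgroup N) ↔ g * y * g⁻¹ ∈ (PN : Subgroup N)) →
      g ∈ (PN : Subgroup N) := by
    intro g hg
    have h1 := (sylow_facts (PN.mapSurjective hfs) (PN.mapSurjective hfs) (PN.mapSurjective hfs)).1
    rw [Sylow.coe_mapSurjective] at h1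
    have h2 : f g ∈ Subgroup.normalizer (((PN : Subgroup N).map f : Subgroup _) : Set _) := by
      rw [Subgroup.mem_normalizer_iff]
      intro z
      obtain ⟨y, rfl⟩ := hfs z
      rw [← map_inv, ← map_mul, ← map_mul, Subgroup.mem_map_iff_mem hfi, Subgroup.mem_map_iff_mem hfi]
      exact hg y
    rw [h1, Subgroup.mem_map_iff_mem hfi] at h2
    exact h2
  have hconj : ∀ (g : G) (y : G), g ∈ (H : Subgroup G) → (y ∈ P ↔ g * y * g⁻¹ ∈ P) := by
    intro g y hg
    have hN : y ∈ N ↔ g * y * g⁻¹ ∈ N := ⟨fun h => Subgroup.Normal.conj_mem ‹N.Normal› y h g,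
      fun h => by simpa [mul_assoc] using Subgroup.Normal.conj_mem ‹N.Normal› _ h g⁻¹⟩
    simp only [hPdef, Subgroup.mem_inf, ← hN]
    refine and_congr_left fun _ => ⟨fun h => mul_mem (mul_mem hg h) (inv_mem hg), fun h => ?_⟩
    simpa [mul_assoc] using mul_mem (mul_mem (inv_mem hg) h) hg
  -- the normalizer of `P` in `G` is `H`
  have hNG : ∀ g : G, (∀ y, y ∈ P ↔ g * y * g⁻¹ ∈ P) → g ∈ (H : Subgroup G) := by
    intro g hg
    have hin : ∀ g' : G, g' ∈ N → (∀ y, y ∈ P ↔ g' * y * g'⁻¹ ∈ P) → g' ∈ (H : Subgroup G) := by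
      intro g' hg'N hg'
      refine hnorm ⟨g', hg'N⟩ fun y => ?_
      have := hg' (y : G)
      simp only [hPdef, Subgroup.mem_inf] at this
      constructor
      · intro h; exact (this.1 ⟨h, y.2⟩).1
      · intro h; exact (this.2 ⟨h, Subgroup.Normal.conj_mem ‹N.Normal› _ y.2 g'⟩).1
    by_cases hgN : g ∈ N
    · exact hin g hgN hg
    · have hprod : h0 * g ∈ N := (Subgroup.mul_mem_iff_of_index_two hidx).2
        ⟨fun h => absurd h hh0N, fun h => absurd h hgN⟩
      have h1 := hin _ hprod fun y => by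
        rw [hg y, hconj h0 (g * y * g⁻¹) hh0]
        simp [mul_assoc]
      simpa using mul_mem (inv_mem hh0) h1
  intro hbot
  -- two disjoint Sylow subgroups of `N` and a third
  have hmem : ∀ y : G, y ∈ MulAut.conj x • (H : Subgroup G) ↔ x⁻¹ * y * x ∈ (H : Subgroup G) := fun y => by
    rw [Subgroup.mem_pointwise_smul_iff_inv_smul_mem]
    show (MulAut.conj x)⁻¹ y ∈ _ ↔ _
    rw [MulAut.conj_inv_apply]
  let c : MulAut N := MulAut.conjNormal x
  let P' : Sylow 2 N := c • PN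
  let P'' : Sylow 2 N := (MulAut.conjNormal h0 : MulAut N) • P'
  have hP' : ∀ y : N, y ∈ (P' : Subgroup N) ↔ x⁻¹ * (y : G) * x ∈ (H : Subgroup G) := fun y => by
    show y ∈ c • (PN : Subgroup N) ↔ _
    rw [Subgroup.mem_pointwise_smul_iff_inv_smul_mem, hPN, Subgroup.mem_subgroupOf]
    show (((MulAut.conjNormal x : MulAut N)⁻¹ y : N) : G) ∈ _ ↔ _
    rw [← map_inv, MulAut.conjNormal_apply, inv_inv]
  have hP'' : ∀ y : N, y ∈ (P'' : Subgroup N) ↔ x⁻¹ * (h0⁻¹ * (y : G) * h0) * x ∈ (H : Subgroup G) := fun y => by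
    show y ∈ (MulAut.conjNormal h0 : MulAut N) • (P' : Subgroup N) ↔ _
    rw [Subgroup.mem_pointwise_smul_iff_inv_smul_mem, hP']
    show x⁻¹ * (((MulAut.conjNormal h0 : MulAut N)⁻¹ y : N) : G) * x ∈ _ ↔ _
    rw [← map_inv, MulAut.conjNormal_apply, inv_inv]
  have hd1 : (PN : Subgroup N) ⊓ (P' : Subgroup N) = ⊥ := by
    rw [eq_bot_iff]
    rintro y ⟨h1, h2⟩
    have h3 : (y : G) ∈ (H : Subgroup G) ⊓ MulAut.conj x • (H : Subgroup G) := ⟨h1, (hmem _).2 ((hP' y).1 h2)⟩
    rw [hbot, Subgroup.mem_bot] at h3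
    exact Subgroup.mem_bot.2 (Subtype.ext h3)
  have hd2 : (PN : Subgroup N) ⊓ (P'' : Subgroup N) = ⊥ := by
    rw [eq_bot_iff]
    rintro y ⟨h1, h2⟩
    have h3 : h0⁻¹ * (y : G) * h0 ∈ (H : Subgroup G) ⊓ MulAut.conj x • (H : Subgroup G) :=
      Subgroup.mem_inf.2 ⟨mul_mem (mul_mem (inv_mem hh0) (show (y : G) ∈ (H : Subgroup G) from h1)) hh0, (hmem _).2 ((hP'' y).1 h2)⟩
    rw [hbot, Subgroup.mem_bot] at h3
    refine Subgroup.mem_bot.2 (Subtype.ext ?_)
    calc (y : G) = h0 * (h0⁻¹ * (y : G) * h0) * h0⁻¹ := by group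
      _ = _ := by rw [h3]; simp
  have hinf : ∀ A B : Subgroup N, A ⊓ B = ⊥ → A.map f ⊓ B.map f = ⊥ := fun A B h => by
    rw [← Subgroup.map_inf A B f hfi, h, Subgroup.map_bot]
  obtain ⟨w, hw, hwe⟩ := (sylow_facts (PN.mapSurjective hfs) (P'.mapSurjective hfs) (P''.mapSurjective hfs)).2
    (by rw [Sylow.coe_mapSurjective, Sylow.coe_mapSurjective]; exact hinf _ _ hd1)
    (by rw [Sylow.coe_mapSurjective, Sylow.coe_mapSurjective]; exact hinf _ _ hd2)
  rw [Sylow.coe_mapSurjective] at hw hwe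
  rw [Sylow.coe_mapSurjective] at hwe
  obtain ⟨u, hu, rfl⟩ := hw
  -- the element outside `N`
  have hzH : (u : G)⁻¹ * h0 ∈ (H : Subgroup G) := mul_mem (inv_mem hu) hh0
  have hzN : (u : G)⁻¹ * h0 ∉ N := fun h => hh0N (by simpa using mul_mem u.2 h)
  have hiff : ∀ y : N, y ∈ (P'' : Subgroup N) ↔ u⁻¹ * y * u ∈ (P' : Subgroup N) := fun y => by
    rw [← Subgroup.mem_map_iff_mem hfi (K := (P'' : Subgroup N)), ← hwe,
      Subgroup.mem_pointwise_smul_iff_inv_smul_mem]
    show (MulAut.conj (f u))⁻¹ (f y) ∈ _ ↔ _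
    rw [MulAut.conj_inv_apply, ← map_inv, ← map_mul, ← map_mul, Subgroup.mem_map_iff_mem hfi]
  set z := (u : G)⁻¹ * h0 with hz
  have hzx : x⁻¹ * z * x ∈ (H : Subgroup G) := by
    refine hNG _ fun y => ?_
    simp only [hPdef, Subgroup.mem_inf]
    have hN : ∀ g y : G, y ∈ N ↔ g * y * g⁻¹ ∈ N := fun g y =>
      ⟨fun h => Subgroup.Normal.conj_mem ‹N.Normal› y h g,
        fun h => by simpa [mul_assoc] using Subgroup.Normal.conj_mem ‹N.Normal› _ h g⁻¹⟩
    rw [← hN (x⁻¹ * z * x) y]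
    refine and_congr_left fun hyN => ?_
    have h1 : x * y * x⁻¹ ∈ N := (hN x y).1 hyN
    have h2 : z * (x * y * x⁻¹) * z⁻¹ ∈ N := (hN z _).1 h1
    have e1 := hP' ⟨_, h1⟩
    have h3 : h0 * (x * y * x⁻¹) * h0⁻¹ ∈ N := (hN h0 _).1 h1
    have e2 := hP'' ⟨_, h3⟩
    rw [hiff, hP'] at e2
    simp only [Subgroup.coe_mul, Subgroup.coe_inv, hz, mul_inv_rev, inv_inv, mul_assoc, inv_mul_cancel_left,
      mul_inv_cancel_left, inv_mul_cancel, mul_one] at e2 ⊢
    exact e2.symm
  have h3 : z ∈ (H : Subgroup G) ⊓ MulAut.conj x • (H : Subgroup G) := ⟨hzH, (hmem z).2 hzx⟩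
  rw [hbot, Subgroup.mem_bot] at h3
  exact hzN (h3 ▸ N.one_mem)

end Cfsg.Agent.S2486
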