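import Cfsg.Statements.S2487
import Cfsg.Agent.H44.SylowInter

set_option autoImplicit false
open scoped Pointwise
open Cfsg

namespace Cfsg.Agent.S2487

/-- Let m ≥ 4 and let G be the full isometry group of the hyperbolic quadratic form x₁y₁ + ⋯ + x_m y_m on the 2m-dimensional space over the field with 2 elements (the orthogonal group O⁺(2m,2), which contains Ω⁺(2m,2) with index 2). Then any two Sylow 2-subgroups of G have a non-trivial intersection: for a Sylow 2-subgroup H and every x ∈ G, H ∩ H^x ≠ 1. -/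
theorem result {F : Type*} [Field F] [Fintype F] (hF : Fintype.card F = 2) {m : ℕ} (hm : 4 ≤ m)
    (H : Sylow 2 (Cfsg.isometryGroup F (Cfsg.quadFormPlus m F)))
    (x : Cfsg.isometryGroup F (Cfsg.quadFormPlus m F)) :
    (H : Subgroup (Cfsg.isometryGroup F (Cfsg.quadFormPlus m F))) ⊓ MulAut.conj x • (H : Subgroup _) ≠ ⊥ := by
  revert H x
  rw [← H43.coe_qPlus m F]
  intro H x
  let φ := H43.toOrth (H43.qPlus m F)
  have hc : Nat.card F = 2 := by rw [Nat.card_eq_fintype_card, hF]
  obtain ⟨g, hg1, hg, hgx⟩ := H44.sylow_inter_ne_bot hc (H43.qPlus_nondeg m) (by omega) (H43.finrank_qPlus m)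
    (H43.stdTS_isTS m F) (H.mapSurjective (f := φ.toMonoidHom) φ.surjective) (φ x)
  obtain ⟨a, ha, rfl⟩ := hg
  intro hbot
  apply hg1
  show φ a = 1
  rw [map_eq_one_iff _ φ.injective]
  rw [Subgroup.eq_bot_iff_forall] at hbot
  refine hbot a ⟨ha, ?_⟩
  obtain ⟨b, hb, hbe⟩ := hgx
  refine Subgroup.mem_pointwise_smul_iff_inv_smul_mem.mpr ?_
  have : b = x⁻¹ * a * x := φ.injective (by simpa [φ] using hbe)
  rw [MulAut.smul_def, ← map_inv, MulAut.conj_apply, inv_inv, ← this]
  exact hb

end Cfsg.Agent.S2487
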