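import Cfsg.Agent.H6.Basic
import Cfsg.Statements.S2488
-- import your own Cfsg.Agent.* helpers here

set_option autoImplicit false
open scoped Pointwise
open Cfsg

namespace Cfsg.Agent.S2488


section Helpers
open Equiv

/-- a double transposition -/
def t0 : Perm (Fin 6) := swap 0 1 * swap 2 3

lemma count_centralizer : (Finset.univ.filter
    (fun v : Perm (Fin 6) => Perm.sign v = 1 ∧ v * t0 = t0 * v)).card = 8 := by decide +kernel

lemma involution_conj : ∀ v : Perm (Fin 6), v * v = 1 → Perm.sign v = 1 → v ≠ 1 →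
    ∃ g, g * t0 * g⁻¹ = v := by decide +kernel

lemma three_cases : ∀ v : Perm (Fin 6), Perm.sign v = 1 → v * v = 1 →
    (t0 * v) ^ 3 = 1 ∨ (t0 * v) ^ 4 = 1 ∨ (t0 * v) ^ 5 = 1 := by decide +kernel

lemma count_suborbit : ∀ k ∈ [3, 4, 5], (Finset.univ.filter
    (fun v : Perm (Fin 6) => Perm.sign v = 1 ∧ v * v = 1 ∧ (t0 * v) ^ k = 1)).card < 32 := by
  decide +kernel

/-- an isomorphism with the even permutations sending a given involution to `t0` -/
lemma exists_normalised {K : Type*} [Group K] (e : K ≃* alternatingGroup (Fin 6)) (t : K)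
    (ht : t * t = 1) (ht1 : t ≠ 1) :
    ∃ f : K →* Perm (Fin 6), Function.Injective f ∧ (∀ a, Perm.sign (f a) = 1) ∧ f t = t0 := by
  obtain ⟨g, hg⟩ := involution_conj (e t : Perm (Fin 6))
    (by rw [← Subgroup.coe_mul, ← map_mul, ht, map_one, Subgroup.coe_one])
    (Perm.mem_alternatingGroup.1 (e t).2)
    (fun h => ht1 (e.map_eq_one_iff.1 (Subtype.ext h)))
  refine ⟨((MulAut.conj g⁻¹).toMonoidHom.comp (alternatingGroup (Fin 6)).subtype).comp e.toMonoidHom,
    (MulAut.conj g⁻¹).injective.comp (Subtype.val_injective.comp e.injective), fun a => ?_, ?_⟩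
  · show Perm.sign (g⁻¹ * (e a : Perm (Fin 6)) * g⁻¹⁻¹) = 1
    rw [map_mul, map_mul, Perm.mem_alternatingGroup.1 (e a).2, mul_one, ← map_mul,
      mul_inv_cancel, map_one]
  · show g⁻¹ * (e t : Perm (Fin 6)) * g⁻¹⁻¹ = t0
    rw [← hg]
    group

end Helpers


/-- Let G be a finite group with a normal subgroup N of index 4 isomorphic to the alternating group of degree 6 and with trivial centralizer in G (so G is the full automorphism group of A₆). Then any two Sylow 2-subgroups of G have a non-trivial intersection: for a Sylow 2-subgroup H and every x ∈ G, H ∩ H^x ≠ 1. -/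
theorem result {G : Type*} [Group G] [Finite G] (N : Subgroup G) [N.Normal]
    (e : N ≃* alternatingGroup (Fin 6)) (hidx : N.index = 4)
    (hC : Subgroup.centralizer (N : Set G) = ⊥)
    (H : Sylow 2 G) (x : G) :
    (H : Subgroup G) ⊓ MulAut.conj x • (H : Subgroup G) ≠ ⊥ := by
  classical
  have : Fact (Nat.Prime 2) := ⟨Nat.prime_two⟩
  have hA : Nat.card ↥(alternatingGroup (Fin 6)) = 360 := by
    rw [nat_card_alternatingGroup, Nat.card_fin]
    decide
  have hN : Nat.card N = 360 := by rw [Nat.card_congr e.toEquiv, hA]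
  have hG : Nat.card G = 1440 := by rw [← N.card_mul_index, hN, hidx]
  have hH : Nat.card (H : Subgroup G) = 32 := by
    rw [H.card_eq_multiplicity, hG]
    have : Nat.factorization 1440 2 = 5 := by
      rw [show 1440 = 2 ^ 5 * 45 by norm_num,
        Nat.factorization_mul (by norm_num) (by norm_num), Finsupp.add_apply,
        Nat.Prime.factorization_pow Nat.prime_two, Finsupp.single_eq_same,
        Nat.factorization_eq_zero_of_not_dvd (by norm_num : ¬ 2 ∣ 45)]
    rw [this]
    norm_num
  -- a central involution of `H` inside `N`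
  have hmeet : (N ⊓ (H : Subgroup G)) ≠ ⊥ := by
    intro h0
    have hinj : Function.Injective ((QuotientGroup.mk' N).comp (H : Subgroup G).subtype) := by
      rw [injective_iff_map_eq_one]
      intro a ha
      rw [MonoidHom.comp_apply, QuotientGroup.mk'_apply, QuotientGroup.eq_one_iff] at ha
      have : (a : G) ∈ N ⊓ (H : Subgroup G) := ⟨ha, a.2⟩
      rw [h0] at this
      exact Subtype.ext this
    have := Nat.card_le_card_of_injective _ hinj
    rw [hH, ← Subgroup.index_eq_card, hidx] at this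
    omega
  have hbot : N.subgroupOf (H : Subgroup G) ≠ ⊥ := by
    intro h0
    apply hmeet
    rw [eq_bot_iff]
    intro a ha
    have : (⟨a, ha.2⟩ : (H : Subgroup G)) ∈ N.subgroupOf (H : Subgroup G) := ha.1
    rw [h0, Subgroup.mem_bot] at this
    exact congrArg Subtype.val this
  have hz := H6.inf_center_ne_bot H.isPGroup' hbot
  set Z := N.subgroupOf (H : Subgroup G) ⊓ Subgroup.center (H : Subgroup G) with hZ
  have : Nontrivial Z := Z.nontrivial_iff_ne_bot.2 hz
  obtain ⟨z, hz2⟩ := exists_prime_orderOf_dvd_card' (G := Z) 2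
    ((H.isPGroup'.to_subgroup Z).card_eq_or_dvd.resolve_left Finite.one_lt_card.ne')
  set t : G := ((z : (H : Subgroup G)) : G) with htdef
  have htN : t ∈ N := z.2.1
  have htH : ∀ h ∈ (H : Subgroup G), h * t = t * h := fun h hh =>
    congrArg Subtype.val (Subgroup.mem_center_iff.1 z.2.2 ⟨h, hh⟩)
  have ht2 : orderOf t = 2 := by rw [htdef, Subgroup.orderOf_coe, Subgroup.orderOf_coe, hz2]
  have htsq : t * t = 1 := by rw [← pow_two, ← ht2, pow_orderOf_eq_one]
  have ht1 : t ≠ 1 := fun h => by rw [h, orderOf_one] at ht2; omega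
  obtain ⟨f, finj, fsgn, ft⟩ := exists_normalised e ⟨t, htN⟩ (Subtype.ext htsq)
    (fun h => ht1 (congrArg Subtype.val h))
  -- the centraliser of `t` is `H`
  have hC : Subgroup.centralizer ({t} : Set G) = (H : Subgroup G) := by
    refine (Subgroup.eq_of_le_of_card_ge (fun h hh => Subgroup.mem_centralizer_singleton_iff.2
      (htH h hh)) ?_).symm
    set C := Subgroup.centralizer ({t} : Set G)
    let φ := (QuotientGroup.mk' N).comp C.subtype
    have h1 : Nat.card φ.ker ≤ 8 := by
      rw [← count_centralizer, ← Fintype.card_coe, ← Nat.card_eq_fintype_card]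
      have hmem : ∀ a : φ.ker, ((a : C) : G) ∈ N := fun a => (QuotientGroup.eq_one_iff _).1 a.2
      refine Nat.card_le_card_of_injective (fun a => ⟨f ⟨((a : C) : G), hmem a⟩, ?_⟩) ?_
      · refine Finset.mem_filter.2 ⟨Finset.mem_univ _, fsgn _, ?_⟩
        rw [← ft, ← map_mul, ← map_mul]
        congr 1
        exact Subtype.ext (Subgroup.mem_centralizer_singleton_iff.1 (a : C).2)
      · intro a b hab
        have h := congrArg Subtype.val (finj (congrArg Subtype.val hab))
        exact Subtype.ext (Subtype.ext h)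
    have h2 : Nat.card φ.range ≤ 4 := by
      rw [← hidx, Subgroup.index_eq_card]
      exact Subgroup.card_le_card_group _
    have h3 := φ.ker.card_mul_index
    rw [Subgroup.index_ker] at h3
    rw [hH, ← h3]
    calc Nat.card φ.ker * Nat.card φ.range ≤ 8 * 4 := Nat.mul_le_mul h1 h2
      _ = 32 := by norm_num
  intro hdisj
  -- the orbit of `t^x` under `H` would be regular
  let u : G := x * t * x⁻¹
  have huN : u ∈ N := Subgroup.Normal.conj_mem inferInstance t htN x
  have husq : u * u = 1 := by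
    show x * t * x⁻¹ * (x * t * x⁻¹) = 1
    rw [show x * t * x⁻¹ * (x * t * x⁻¹) = x * (t * t) * x⁻¹ by group, htsq, mul_one, mul_inv_cancel]
  have hfu : f ⟨u, huN⟩ * f ⟨u, huN⟩ = 1 := by
    rw [← map_mul]
    exact (congrArg f (Subtype.ext husq : (⟨u, huN⟩ * ⟨u, huN⟩ : N) = 1)).trans (map_one f)
  obtain ⟨n, hn, hpow⟩ : ∃ n ∈ [3, 4, 5], (t0 * f ⟨u, huN⟩) ^ n = 1 := by
    rcases three_cases _ (fsgn _) hfu with h | h | h
    exacts [⟨3, by simp, h⟩, ⟨4, by simp, h⟩, ⟨5, by simp, h⟩]
  have htu : (t * u) ^ n = 1 := by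
    rw [← ft, ← map_mul, ← map_pow] at hpow
    have := congrArg Subtype.val (finj (hpow.trans (map_one f).symm))
    simpa using this
  have hlt := count_suborbit n hn
  rw [← Fintype.card_coe, ← Nat.card_eq_fintype_card] at hlt
  refine absurd hlt (not_lt.2 ?_)
  rw [← hH]
  have hvN : ∀ h : G, h * u * h⁻¹ ∈ N := fun h => Subgroup.Normal.conj_mem inferInstance u huN h
  refine Nat.card_le_card_of_injective (fun h => ⟨f ⟨(h : G) * u * (h : G)⁻¹, hvN _⟩, ?_⟩) ?_
  · refine Finset.mem_filter.2 ⟨Finset.mem_univ _, fsgn _, ?_, ?_⟩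
    · rw [← map_mul]
      refine (congrArg f (Subtype.ext ?_ : _ = (1 : N))).trans (map_one f)
      show (h : G) * u * (h : G)⁻¹ * ((h : G) * u * (h : G)⁻¹) = 1
      rw [show (h : G) * u * (h : G)⁻¹ * ((h : G) * u * (h : G)⁻¹) = h * (u * u) * (h : G)⁻¹ by group,
        husq, mul_one, mul_inv_cancel]
    · rw [← ft, ← map_mul, ← map_pow]
      refine (congrArg f (Subtype.ext ?_ : _ = (1 : N))).trans (map_one f)
      show (t * ((h : G) * u * (h : G)⁻¹)) ^ n = 1
      have ht' : t * ((h : G) * u * (h : G)⁻¹) = (h : G) * (t * u) * (h : G)⁻¹ := by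
        rw [← mul_assoc, ← mul_assoc, ← htH _ h.2, mul_assoc (h : G) t u]
      rw [ht', conj_pow, htu, mul_one, mul_inv_cancel]
  · intro a b hab
    have h1 : (a : G) * u * (a : G)⁻¹ = (b : G) * u * (b : G)⁻¹ :=
      congrArg Subtype.val (finj (congrArg Subtype.val hab))
    have h2 : (b : G)⁻¹ * (a : G) ∈ (H : Subgroup G) ⊓ MulAut.conj x • (H : Subgroup G) := by
      refine Subgroup.mem_inf.2 ⟨mul_mem (inv_mem b.2) a.2, ?_⟩
      rw [Subgroup.mem_pointwise_smul_iff_inv_smul_mem, MulAut.smul_def, ← map_inv, MulAut.conj_apply,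
        inv_inv]
      refine hC.le (Subgroup.mem_centralizer_singleton_iff.2 ?_)
      have h3 : ((b : G)⁻¹ * a) * u = u * ((b : G)⁻¹ * a) := by
        calc ((b : G)⁻¹ * a) * u = (b : G)⁻¹ * ((a : G) * u * (a : G)⁻¹) * a := by group
          _ = (b : G)⁻¹ * ((b : G) * u * (b : G)⁻¹) * a := by rw [h1]
          _ = u * ((b : G)⁻¹ * a) := by group
      calc x⁻¹ * ((b : G)⁻¹ * a) * x * t = x⁻¹ * (((b : G)⁻¹ * a) * u) * x := by simp only [u]; group
        _ = x⁻¹ * (u * ((b : G)⁻¹ * a)) * x := by rw [h3]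
        _ = t * (x⁻¹ * ((b : G)⁻¹ * a) * x) := by simp only [u]; group
    rw [hdisj, Subgroup.mem_bot, inv_mul_eq_one] at h2
    exact Subtype.ext h2.symm

end Cfsg.Agent.S2488
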