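import Cfsg.Statements.S2493
import Cfsg.Agent.H60.OreSelect
import Cfsg.Agent.H60.AltCoverAnti

set_option autoImplicit false
open Cfsg

namespace Cfsg.Agent.S2493

open scoped commutatorElement

/-- Let n ≥ 5 and let G be a finite perfect group whose centre has order 2 with G/Z(G) isomorphic to the alternating group of degree n (the double cover of the alternating group). Then every element of G is a commutator. -/
theorem result {G : Type*} [Group G] [Finite G] (hperf : commutator G = ⊤) {n : ℕ} (hn : 5 ≤ n)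
    (hZ : Nat.card (Subgroup.center G) = 2) (e : G ⧸ Subgroup.center G ≃* alternatingGroup (Fin n))
    (g : G) :
    ∃ a b : G, a * b * a⁻¹ * b⁻¹ = g := by
  classical
  let φ : G →* Equiv.Perm (Fin n) :=
    (alternatingGroup (Fin n)).subtype.comp (e.toMonoidHom.comp (QuotientGroup.mk' (Subgroup.center G)))
  have hker : ∀ x, φ x = 1 ↔ x ∈ Subgroup.center G := fun x => by
    rw [← QuotientGroup.eq_one_iff]
    exact ⟨fun h => e.injective ((Subtype.ext h).trans (map_one e).symm), fun h => by
      show ((e (x : G ⧸ Subgroup.center G)) : Equiv.Perm (Fin n)) = 1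
      rw [h, map_one]; rfl⟩
  have hrange : φ.range = alternatingGroup (Fin n) := by
    refine le_antisymm (fun σ ⟨x, hx⟩ => hx ▸ (e (x : G ⧸ Subgroup.center G)).2) fun σ hσ => ?_
    obtain ⟨x, hx⟩ := QuotientGroup.mk'_surjective (Subgroup.center G) (e.symm ⟨σ, hσ⟩)
    exact ⟨x, by simp only [φ, MonoidHom.comp_apply, hx]; simp⟩
  obtain ⟨z, hz1, hzu⟩ := (Nat.card_eq_two_iff' (1 : Subgroup.center G)).mp hZ
  have d : H60.AltCover.Data φ (z : G) :=
    { perfect := hperf
      range_eq := hrange
      central := fun x => Subgroup.mem_center_iff.mp z.2 x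
      ne_one := fun h => hz1 (Subtype.ext h)
      sq := by
        by_contra h
        have := hzu (z * z) (fun h' => h (congrArg Subtype.val h'))
        exact hz1 (mul_eq_left.mp this)
      ker := fun x hx => by
        by_cases h : x = 1
        · exact Or.inl h
        · exact Or.inr (congrArg Subtype.val (hzu ⟨x, (hker x).mp hx⟩ fun h' => h (congrArg Subtype.val h')))
      zmem := (hker _).mpr z.2
      deg := hn }
  have hσ : Equiv.Perm.sign (φ g) = 1 := Equiv.Perm.mem_alternatingGroup.mp (hrange ▸ ⟨g, rfl⟩)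
  obtain ⟨a, b, p, q, r, s, ha, hb, hab, hnd, hp, hq, hr, hs⟩ :=
    H60.OreC.exists_flexible (by simpa using hn) (φ g) hσ
  obtain ⟨A, rfl⟩ := d.lift ha
  obtain ⟨B, rfl⟩ := d.lift hb
  have hφ : φ g = φ ⁅A, B⁆ := by rw [map_commutatorElement, hab]
  rcases d.eq_or hφ with h | h
  · exact ⟨A, B, by rw [h, commutatorElement_def]⟩
  have hcs : Equiv.Perm.sign (Equiv.swap p r * Equiv.swap q s) = 1 := by
    simp only [List.nodup_cons, List.mem_cons, List.not_mem_nil, or_false, not_or] at hnd
    rw [map_mul, Equiv.Perm.sign_swap hnd.1.2.1, Equiv.Perm.sign_swap hnd.2.1.2]; decide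
  obtain ⟨C, hC⟩ := d.lift hcs
  have hAC : A * C * A⁻¹ * C⁻¹ = (z : G) := by
    rw [← commutatorElement_def]; exact d.anti hnd hp hq hr hs ha hC
  refine ⟨A, B * C, ?_⟩
  rw [h, commutatorElement_def]
  calc A * (B * C) * A⁻¹ * (B * C)⁻¹ = A * B * A⁻¹ * (A * C * A⁻¹ * C⁻¹) * B⁻¹ := by group
    _ = A * B * A⁻¹ * (z : G) * B⁻¹ := by rw [hAC]
    _ = A * B * A⁻¹ * B⁻¹ * (z : G) := by rw [mul_assoc _ (z : G), ← d.central B⁻¹]; simp only [mul_assoc]

end Cfsg.Agent.S2493
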