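import Cfsg.Statements.S2495
import Cfsg.Agent.H41.SemisimpleOrder
import Cfsg.Agent.H43.Primitive
-- import your own Cfsg.Agent.* helpers here

set_option autoImplicit false
open Cfsg
set_option linter.style.haveILetI false

namespace Cfsg.Agent.S2495

open H41

lemma qsum_modEq (q k : ℕ) (hq : 1 ≤ q) : qsum q k ≡ k [MOD q - 1] := by
  induction k with
  | zero => rw [qsum_zero]
  | succ k ih =>
    rw [qsum_succ]
    refine ih.add ?_
    have h : q ≡ 1 [MOD q - 1] := ((Nat.modEq_iff_dvd' hq).2 dvd_rfl).symm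
    simpa using h.pow k

lemma gcd_qsum (q k : ℕ) (hq : 1 ≤ q) : Nat.gcd (qsum q k) (q - 1) = Nat.gcd k (q - 1) :=
  Nat.ModEq.gcd_eq (qsum_modEq q k hq)

/-- The two-part criterion. -/
lemma gcd_dvd_half_iff (m Q : ℕ) (hm : m ≠ 0) (hQ : Q ≠ 0) :
    Nat.gcd (2 * m) Q ∣ m ↔ padicValNat 2 Q < padicValNat 2 (2 * m) := by
  haveI : Fact (Nat.Prime 2) := ⟨Nat.prime_two⟩
  have hv : padicValNat 2 (2 * m) = padicValNat 2 m + 1 := by
    rw [padicValNat.mul two_ne_zero hm, padicValNat_self]; ring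
  rw [hv]
  constructor
  · intro h
    by_contra hle
    rw [not_lt] at hle
    apply pow_succ_padicValNat_not_dvd (p := 2) hm
    refine dvd_trans (Nat.dvd_gcd ?_ ?_) h
    · rw [pow_succ']; exact Nat.mul_dvd_mul_left 2 pow_padicValNat_dvd
    · exact (pow_dvd_pow 2 hle).trans pow_padicValNat_dvd
  · intro h
    obtain ⟨Q', hQ'⟩ := pow_padicValNat_dvd (p := 2) (n := Q)
    have hodd : Nat.Coprime 2 Q' := by
      rw [Nat.prime_two.coprime_iff_not_dvd]
      rintro ⟨c, hc⟩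
      apply pow_succ_padicValNat_not_dvd (p := 2) hQ
      exact ⟨c, hQ'.trans (by rw [hc, pow_succ]; ring)⟩
    have hcop : Nat.Coprime (2 ^ padicValNat 2 Q) Q' := hodd.pow_left _
    rw [hQ', Nat.Coprime.gcd_mul _ hcop]
    refine (hcop.coprime_dvd_left (Nat.gcd_dvd_right _ _)).coprime_dvd_right (Nat.gcd_dvd_right _ _) |>.mul_dvd_of_dvd_of_dvd ?_ ?_
    · exact (Nat.gcd_dvd_right _ _).trans ((pow_dvd_pow 2 (show padicValNat 2 Q ≤ padicValNat 2 m by omega)).trans pow_padicValNat_dvd)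
    · exact ((hodd.symm.coprime_dvd_left (Nat.gcd_dvd_right _ _)).dvd_of_dvd_mul_left (Nat.gcd_dvd_left _ _))

/-- Let q be an odd prime power, n ≥ 4 even, and L = PSL(n,q). Then L has an element of order q^(n/2) + 1 if and only if the 2-part of n exceeds the 2-part of q − 1. -/
theorem result {F : Type*} [Field F] [Fintype F] {q : ℕ} (hF : Fintype.card F = q) (hodd : Odd q)
    {n : ℕ} (hn : 4 ≤ n) (heven : Even n) :
    (∃ g : Matrix.ProjectiveSpecialLinearGroup (Fin n) F, orderOf g = q ^ (n / 2) + 1) ↔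
      padicValNat 2 (q - 1) < padicValNat 2 n := by
  classical
  obtain ⟨p, hp⟩ := CharP.exists F
  haveI : Fact p.Prime := ⟨CharP.char_is_prime F p⟩
  haveI : Nonempty (Fin n) := ⟨⟨0, by omega⟩⟩
  obtain ⟨m, hm⟩ := heven
  obtain ⟨j, hpp, hj⟩ := FiniteField.card F p
  have hq3 : 3 ≤ q := by
    have : 1 < q := hF ▸ Fintype.one_lt_card
    obtain ⟨t, ht⟩ := hodd
    omega
  have hpq : p ∣ q := by rw [← hF, hj]; exact dvd_pow_self p j.pos.ne'
  rw [show n / 2 = m by omega]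
  have hn2 : n = 2 * m := by omega
  have hsum : qsum q n = (q ^ m + 1) * qsum q m := by rw [hm, qsum_add]; ring
  have hcrit : q ^ m + 1 ∣ singerOrd q n ↔ padicValNat 2 (q - 1) < padicValNat 2 n := by
    rw [hn2, ← gcd_dvd_half_iff m (q - 1) (by omega) (by omega), ← hn2, singerOrd,
      Nat.dvd_div_iff_mul_dvd (Nat.gcd_dvd_left _ _), gcd_qsum q n (by omega), hsum, mul_comm (Nat.gcd n (q - 1)),
      Nat.mul_dvd_mul_iff_left (by positivity)]
    constructor
    · intro h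
      have h1 := Nat.dvd_gcd h (Nat.gcd_dvd_right n (q - 1))
      rw [gcd_qsum q m (by omega)] at h1
      exact h1.trans (Nat.gcd_dvd_left _ _)
    · intro h
      have h1 := Nat.dvd_gcd h (Nat.gcd_dvd_right n (q - 1))
      rw [← gcd_qsum q m (by omega)] at h1
      exact h1.trans (Nat.gcd_dvd_left _ _)
  rw [← hcrit, ← hF]
  refine ⟨fun ⟨g, hg⟩ => ?_, fun h => H41.exists_orderOf_dvd_singerOrd (by omega) _ h⟩
  obtain ⟨A, rfl⟩ := QuotientGroup.mk_surjective g
  rw [hF] at hg ⊢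
  obtain ⟨r, hr, hrd, hro⟩ := H43.exists_primitive_prime (q := q) (n := n) hq3 (by omega)
  haveI := Fact.mk hr
  have hqr : ((q : ℕ) : ZMod r) ≠ 0 := fun e => by rw [e, orderOf_zero] at hro; omega
  have hrp : r ≠ p := fun e => hqr ((ZMod.natCast_eq_zero_iff _ _).2 (e ▸ hpq))
  have hrm : r ∣ q ^ m + 1 := by
    have h1 : q ^ n - 1 = (q ^ m + 1) * (q ^ m - 1) := by
      rw [hn2, mul_comm 2 m, pow_mul, ← Nat.sq_sub_sq, one_pow]
    rw [h1] at hrd
    refine (hr.dvd_mul.1 hrd).resolve_right fun h => ?_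
    rw [← ZMod.natCast_eq_zero_iff, Nat.cast_sub (Nat.one_le_pow _ _ (by omega)), sub_eq_zero, Nat.cast_pow,
      Nat.cast_one, ← orderOf_dvd_iff_pow_eq_one, hro] at h
    have := Nat.le_of_dvd (by omega) h
    omega
  have hoA : q ^ m + 1 ∣ orderOf A := hg ▸ orderOf_map_dvd (QuotientGroup.mk' _) A
  have hA0 : orderOf A ≠ 0 := (orderOf_pos A).ne'
  obtain ⟨i, N, hpN, hiN⟩ := Nat.exists_eq_pow_mul_and_not_dvd hA0 p (Fact.out : p.Prime).ne_one
  set B := A ^ p ^ i with hB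
  have hoB : orderOf B = N := by
    rw [hB, orderOf_pow' _ (pow_ne_zero _ (Fact.out : p.Prime).ne_zero), hiN, Nat.gcd_eq_right (dvd_mul_right _ _),
      Nat.mul_div_cancel_left _ (pow_pos (Fact.out : p.Prime).pos _)]
  have hNF : (N : F) ≠ 0 := fun e => hpN ((CharP.cast_eq_zero_iff F p N).1 e)
  have hrN : r ∣ N := by
    have h1 : r ∣ p ^ i * N := hiN ▸ hrm.trans hoA
    exact (hr.dvd_mul.1 h1).resolve_left fun h =>
      hrp ((Nat.prime_dvd_prime_iff_eq hr Fact.out).1 (hr.dvd_of_dvd_pow h))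
  rw [← slOrderOf_val] at hoB
  obtain ⟨f, hf, hfd, -, -, hnf⟩ := H41.exists_factor_root_order B.val hNF (hoB ▸ pow_orderOf_eq_one B.val) hr
    (hoB.symm ▸ hrN)
  rw [hF, hro] at hnf
  have hm0 : minpoly F B.val ≠ 0 := minpoly.ne_zero (Matrix.isIntegral _)
  have hnle := Nat.le_of_dvd hf.natDegree_pos hnf
  have hfB : Polynomial.aeval B.val f = 0 := Polynomial.aeval_eq_zero_of_dvd_aeval_eq_zero
    (Polynomial.associated_of_dvd_of_natDegree_le hfd hm0 ((H41.natDegree_minpoly_le B.val).trans hnle)).symm.dvd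
    (minpoly.aeval F B.val)
  have h1 := H41.pow_singerOrd_of_irreducible B (by omega) f hf hfB
  rw [hB, QuotientGroup.mk_pow, ← pow_mul, ← orderOf_dvd_iff_pow_eq_one, hg, hF] at h1
  refine Nat.Coprime.dvd_of_dvd_mul_left ?_ h1
  refine Nat.Coprime.pow_right i (Nat.Coprime.symm ?_)
  rw [(Fact.out : p.Prime).coprime_iff_not_dvd, Nat.dvd_add_right (dvd_pow hpq (by omega))]
  exact fun e => (Fact.out : p.Prime).ne_one (Nat.dvd_one.1 e)

end Cfsg.Agent.S2495
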