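import Cfsg.Statements.S2500
import Cfsg.Agent.H2.Cover.PSL
import Cfsg.Agent.H2.Cover.SU4
import Cfsg.Agent.H2.Cover.SU3
import Cfsg.Agent.H2.Cover.SpTwo
import Cfsg.Agent.H2.Cover.Sp6Cover
import Cfsg.Agent.H2.Cover.G2

set_option autoImplicit false
open Cfsg

namespace Cfsg.Agent.S2500

/-- The infinite families of simple groups with normal covering number 2. For a finite field F: each of PSL_2(F) (|F| ≥ 4), PSL_3(F), PSL_4(F), PSU_4 over F (|F| = q²), PSU_3 over F when |F| = q² with q a power of 3, PSp_{2m}(F) for |F| even, m ≥ 2 and (m, |F|) ≠ (2, 2), PSp_6(F) for |F| a power of 3, and G_2(F) (automorphisms of the split octonions) for |F| = 2^a ≥ 4 is the union of the conjugates of two proper subgroups: there are proper subgroups H, K such that every element is conjugate into H or into K. -/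
theorem result {F : Type} [Field F] [Fintype F] :
    (4 ≤ Fintype.card F → (∃ H K : Subgroup (Matrix.ProjectiveSpecialLinearGroup (Fin 2) F), H ≠ ⊤ ∧ K ≠ ⊤ ∧ ∀ g : (Matrix.ProjectiveSpecialLinearGroup (Fin 2) F), ∃ x : (Matrix.ProjectiveSpecialLinearGroup (Fin 2) F), x * g * x⁻¹ ∈ H ∨ x * g * x⁻¹ ∈ K)) ∧
    (∃ H K : Subgroup (Matrix.ProjectiveSpecialLinearGroup (Fin 3) F), H ≠ ⊤ ∧ K ≠ ⊤ ∧ ∀ g : (Matrix.ProjectiveSpecialLinearGroup (Fin 3) F), ∃ x : (Matrix.ProjectiveSpecialLinearGroup (Fin 3) F), x * g * x⁻¹ ∈ H ∨ x * g * x⁻¹ ∈ K) ∧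
    (∃ H K : Subgroup (Matrix.ProjectiveSpecialLinearGroup (Fin 4) F), H ≠ ⊤ ∧ K ≠ ⊤ ∧ ∀ g : (Matrix.ProjectiveSpecialLinearGroup (Fin 4) F), ∃ x : (Matrix.ProjectiveSpecialLinearGroup (Fin 4) F), x * g * x⁻¹ ∈ H ∨ x * g * x⁻¹ ∈ K) ∧
    (∀ q : ℕ, Fintype.card F = q ^ 2 → (∃ H K : Subgroup (Cfsg.PSU 4 F q), H ≠ ⊤ ∧ K ≠ ⊤ ∧ ∀ g : (Cfsg.PSU 4 F q), ∃ x : (Cfsg.PSU 4 F q), x * g * x⁻¹ ∈ H ∨ x * g * x⁻¹ ∈ K)) ∧
    (∀ q a : ℕ, Fintype.card F = q ^ 2 → 1 ≤ a → q = 3 ^ a → (∃ H K : Subgroup (Cfsg.PSU 3 F q), H ≠ ⊤ ∧ K ≠ ⊤ ∧ ∀ g : (Cfsg.PSU 3 F q), ∃ x : (Cfsg.PSU 3 F q), x * g * x⁻¹ ∈ H ∨ x * g * x⁻¹ ∈ K)) ∧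
    (∀ m : ℕ, 2 ≤ m → ¬ Odd (Fintype.card F) → ¬ (m = 2 ∧ Fintype.card F = 2) → (∃ H K : Subgroup (Cfsg.PSp m F), H ≠ ⊤ ∧ K ≠ ⊤ ∧ ∀ g : (Cfsg.PSp m F), ∃ x : (Cfsg.PSp m F), x * g * x⁻¹ ∈ H ∨ x * g * x⁻¹ ∈ K)) ∧
    (∀ a : ℕ, 1 ≤ a → Fintype.card F = 3 ^ a → (∃ H K : Subgroup (Cfsg.PSp 3 F), H ≠ ⊤ ∧ K ≠ ⊤ ∧ ∀ g : (Cfsg.PSp 3 F), ∃ x : (Cfsg.PSp 3 F), x * g * x⁻¹ ∈ H ∨ x * g * x⁻¹ ∈ K)) ∧
    (∀ a : ℕ, 2 ≤ a → Fintype.card F = 2 ^ a → (∃ H K : Subgroup (Cfsg.Lie.G2 F), H ≠ ⊤ ∧ K ≠ ⊤ ∧ ∀ g : (Cfsg.Lie.G2 F), ∃ x : (Cfsg.Lie.G2 F), x * g * x⁻¹ ∈ H ∨ x * g * x⁻¹ ∈ K)) := by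
  classical
  refine ⟨fun _ => H2.Cover.twoCover_psl_two, H2.Cover.twoCover_psl_three, H2.Cover.twoCover_psl_four,
    fun q hF => H2.Cover.SU4.twoCover hF, fun q a hF ha hq => ?_, fun m hm hodd _ => ?_, fun a ha hF => ?_,
    fun a ha hF => ?_⟩
  · have hp : Fact (Nat.Prime 3) := ⟨Nat.prime_three⟩
    have : CharP F 3 := by
      refine charP_of_card_eq_prime_pow (f := a * 2) ?_
      rw [hF, hq, pow_mul]
    exact H2.Cover.SU3.twoCover hF hq ha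
  · have h2 : (2 : F) = 0 := by
      obtain ⟨p, hp⟩ := CharP.exists F
      obtain ⟨n, hpp, hn⟩ := FiniteField.card F p
      rcases hpp.eq_two_or_odd' with rfl | ho
      · exact CharP.cast_eq_zero F 2
      · exact absurd (hn ▸ ho.pow) hodd
    exact H2.Cover.SpTwo.twoCover h2 (i := (⟨0, by omega⟩ : Fin m)) (j := ⟨1, by omega⟩) (by simp)
  · have hp : Fact (Nat.Prime 3) := ⟨Nat.prime_three⟩
    have : CharP F 3 := charP_of_card_eq_prime_pow (f := a) hF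
    exact H2.Cover.Sp6.twoCover
  · have hp : Fact (Nat.Prime 2) := ⟨Nat.prime_two⟩
    have : CharP F 2 := charP_of_card_eq_prime_pow (f := a) hF
    refine H2.Cover.G2C.twoCover (CharP.cast_eq_zero F 2) ?_
    by_contra hc
    push Not at hc
    have hle : Fintype.card F ≤ 2 := by
      rw [← Finset.card_univ]
      refine le_trans (Finset.card_le_card (t := {0, 1}) fun t _ => ?_) Finset.card_le_two
      by_cases h0 : t = 0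
      · simp [h0]
      · simp [hc t h0]
    have : 2 ^ 2 ≤ 2 ^ a := Nat.pow_le_pow_right (by norm_num) ha
    omega

end Cfsg.Agent.S2500
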