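import Cfsg.Statements.S2503
import Cfsg.Agent.H37.ABA
import Cfsg.Agent.H64.Char2Graph
-- import your own Cfsg.Agent.* helpers here

set_option autoImplicit false
open Cfsg

namespace Cfsg.Agent.S2503

/-- Let F be a finite field with q = 2^t ≥ 4 elements and L = PSL(2,F). Then L has a cyclic subgroup A of order q + 1 and an elementary abelian 2-subgroup B of order q such that L = ABA: every element of L is a product a·b·a' with a, a' ∈ A and b ∈ B. -/
theorem result {F : Type*} [Field F] [Fintype F]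
    (h2 : 2 ∣ Fintype.card F) (h4 : 4 ≤ Fintype.card F) :
    ∃ A B : Subgroup (Matrix.ProjectiveSpecialLinearGroup (Fin 2) F),
      IsCyclic A ∧ Nat.card A = Fintype.card F + 1 ∧ IsMulCommutative B ∧ (∀ b ∈ B, b * b = 1) ∧
        Nat.card B = Fintype.card F ∧
        ∀ g : Matrix.ProjectiveSpecialLinearGroup (Fin 2) F, ∃ a ∈ A, ∃ b ∈ B, ∃ c ∈ A, g = a * b * c := by
  haveI : CharP F 2 := by
    refine CharTwo.of_one_ne_zero_of_two_eq_zero one_ne_zero ?_
    obtain ⟨p, hp⟩ := CharP.exists F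
    haveI := hp
    obtain ⟨n, hpr, hn⟩ := FiniteField.card F p
    have : (2 : ℕ) = p := (Nat.prime_dvd_prime_iff_eq Nat.prime_two hpr).1
      (Nat.prime_two.dvd_of_dvd_pow (hn ▸ h2))
    have h : ((2 : ℕ) : F) = 0 := this ▸ CharP.cast_eq_zero F p
    simpa using h
  obtain ⟨e⟩ := H64.psl2_char2_equiv (F := F)
  obtain ⟨A, B, hA, hcA, hB, hB2, hcB, h⟩ := H37.exists_ABA_sl2 (F := F)
  refine ⟨A.map e.toMonoidHom, B.map e.toMonoidHom, ?_, ?_, ?_, ?_, ?_, ?_⟩
  · exact isCyclic_of_surjective (A.equivMapOfInjective e.toMonoidHom e.injective)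
      (MulEquiv.surjective _)
  · rw [Subgroup.card_map_of_injective e.injective, hcA]
  · exact Subgroup.map_isMulCommutative B _
  · rintro _ ⟨b, hb, rfl⟩
    rw [← map_mul, hB2 b hb, map_one]
  · rw [Subgroup.card_map_of_injective e.injective, hcB]
  · intro g
    obtain ⟨a, ha, b, hb, c, hc, hg⟩ := h (e.symm g)
    refine ⟨_, Subgroup.mem_map_of_mem _ ha, _, Subgroup.mem_map_of_mem _ hb, _,
      Subgroup.mem_map_of_mem _ hc, ?_⟩
    simp only [MulEquiv.coe_toMonoidHom, ← map_mul, ← hg, MulEquiv.apply_symm_apply]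

end Cfsg.Agent.S2503
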