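import Cfsg.Statements.S2509
import Cfsg.Agent.H47.PSp.Coord
import Cfsg.Agent.H47.PSp.Bridge

set_option autoImplicit false
open Cfsg

namespace Cfsg.Agent.S2509

/-- Let G be a finite direct product of groups PSp_{2m_i}(F_i) (the symplectic group on a 2m_i-dimensional space modulo its centre), where each m_i is a power of 2 (m_i = 1, giving PSL₂, is allowed), each F_i is a finite field of odd order, and each factor PSp_{2m_i}(F_i) is a simple group. Then every subgroup H of G of odd index is pronormal in G: for every g ∈ G the subgroups H and gHg⁻¹ are conjugate by an element of the subgroup they generate. -/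
theorem result {t : ℕ}
    (m : Fin t → ℕ) (F : Fin t → Type*) [∀ i, Field (F i)] [∀ i, Fintype (F i)]
    (hm : ∀ i, ∃ k : ℕ, m i = 2 ^ k) (hodd : ∀ i, Odd (Fintype.card (F i)))
    (hs : ∀ i, IsSimpleGroup (Cfsg.PSp (m i) (F i)))
    (H : Subgroup (Π i, Cfsg.PSp (m i) (F i))) (hH : Odd H.index) : Cfsg.IsPronormal H := by
  classical
  have h2 : ∀ i, (2 : F i) ≠ 0 := fun i => Ring.two_ne_zero fun h => by
    have := (FiniteField.even_card_iff_char_two (F := F i)).1 h
    have h' := hodd i
    rw [Nat.odd_iff] at h'
    omega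
  haveI : ∀ i, Nonempty (Fin (m i)) := fun i => by
    obtain ⟨k, hk⟩ := hm i
    exact ⟨⟨0, by rw [hk]; exact Nat.two_pow_pos k⟩⟩
  have hgood : ∀ n k : ℕ, n = 2 ^ k → ∃ P : Subgroup (Equiv.Perm (Fin n)), H47.PSp.Good P := by
    rintro n k rfl
    exact H47.PSp.exists_good k
  choose P hP using fun i => (hm i).elim fun k hk => hgood (m i) k hk
  let e := fun i => Classical.choice (H47.PSp.exists_equiv_symplectic (ι := Fin (m i)) (h2 i))
  let f : (∀ i, H47.PSp.SpH (Fin (m i)) (F i)) →* (∀ i, Cfsg.PSp (m i) (F i)) :=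
    MonoidHom.pi fun i =>
      ((QuotientGroup.mk' _).comp (e i).toMonoidHom).comp
        (Pi.evalMonoidHom (fun i => H47.PSp.SpH (Fin (m i)) (F i)) i)
  have hf : Function.Surjective f := by
    intro y
    choose x hx using fun i => QuotientGroup.mk'_surjective _ (y i)
    exact ⟨fun i => (e i).symm (x i), funext fun i => by simp [f]; exact hx i⟩
  have hK := H47.PSp.isPronormal_pi h2 hP (H := H.comap f)
    (by rw [Subgroup.index_comap_of_surjective _ hf]; exact hH)
  have := (H36.isPronormal_map_iff hf (Subgroup.ker_le_comap f H)).2 hK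
  rwa [Subgroup.map_comap_eq_self_of_surjective hf] at this

end Cfsg.Agent.S2509
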