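import Cfsg.Statements.S2510
import Cfsg.Agent.H41.PSLSpectrum

set_option autoImplicit false
open Cfsg

namespace Cfsg.Agent.S2510

/-- Let F be a finite field with q = p^a elements, n ≥ 2 (with q ≥ 4 when n = 2), L = PSL(n, F), and let r be a prime dividing q − 1 and not dividing n. Then for every m the direct product L × L × L × (ℤ/r)^m has the same set of element orders as L × L × L; and if n − 1 ≠ p^j for every j ≥ 0 (so never when n = 2, since 1 = p^0), then already L × L × (ℤ/r)^m has the same set of element orders as L × L. -/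
theorem result {F : Type*} [Field F] [Fintype F] (p a n r m : ℕ) (hp : p.Prime) (ha : 1 ≤ a) (hF : Fintype.card F = p ^ a)
    (hn : 2 ≤ n) (hn2 : n = 2 → 4 ≤ Fintype.card F) (hr : r.Prime) (hrq : r ∣ Fintype.card F - 1) (hrn : ¬ r ∣ n) :
    Set.range (orderOf : Matrix.ProjectiveSpecialLinearGroup (Fin n) F × Matrix.ProjectiveSpecialLinearGroup (Fin n) F × Matrix.ProjectiveSpecialLinearGroup (Fin n) F × Multiplicative (Fin m → ZMod r) → ℕ) =
      Set.range (orderOf : Matrix.ProjectiveSpecialLinearGroup (Fin n) F × Matrix.ProjectiveSpecialLinearGroup (Fin n) F × Matrix.ProjectiveSpecialLinearGroup (Fin n) F → ℕ) ∧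
    ((¬ ∃ j : ℕ, n - 1 = p ^ j) →
      Set.range (orderOf : Matrix.ProjectiveSpecialLinearGroup (Fin n) F × Matrix.ProjectiveSpecialLinearGroup (Fin n) F × Multiplicative (Fin m → ZMod r) → ℕ) =
        Set.range (orderOf : Matrix.ProjectiveSpecialLinearGroup (Fin n) F × Matrix.ProjectiveSpecialLinearGroup (Fin n) F → ℕ)) := by
  haveI : Fact p.Prime := ⟨hp⟩
  haveI : Fact r.Prime := ⟨hr⟩
  haveI : CharP F p := by
    obtain ⟨p', hp'⟩ := CharP.exists F
    haveI := hp'
    obtain ⟨e, he, hcard⟩ := FiniteField.card F p'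
    have hdvd : p ∣ p' ^ (e : ℕ) := by rw [← hcard, hF]; exact dvd_pow_self p (by omega)
    rwa [(Nat.prime_dvd_prime_iff_eq hp he).mp (hp.dvd_of_dvd_pow hdvd)]
  have hd : ∀ e : Multiplicative (Fin m → ZMod r), orderOf e = 1 ∨ orderOf e = r := fun e => by
    refine (Nat.dvd_prime hr).mp (orderOf_dvd_of_pow_eq_one ?_)
    apply Multiplicative.toAdd.injective
    rw [toAdd_pow, toAdd_one]
    ext i
    simp
  constructor
  · ext o
    constructor
    · rintro ⟨⟨x, y, z, e⟩, rfl⟩
      simp only [Prod.orderOf]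
      rcases hd e with h | h
      · exact ⟨(x, y, z), by simp [Prod.orderOf, h]⟩
      · obtain ⟨x', y', z', h'⟩ := H41.three_extend p r hr hrq hrn hn x y z
        refine ⟨(x', y', z'), ?_⟩
        simp only [Prod.orderOf, h]
        rw [h']
        simp only [Nat.lcm_assoc]
    · rintro ⟨⟨x, y, z⟩, rfl⟩
      exact ⟨(x, y, z, 1), by simp [Prod.orderOf]⟩
  · intro hpow
    ext o
    constructor
    · rintro ⟨⟨x, y, e⟩, rfl⟩
      simp only [Prod.orderOf]
      rcases hd e with h | h
      · exact ⟨(x, y), by simp [Prod.orderOf, h]⟩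
      · obtain ⟨x', y', h'⟩ := H41.two_extend p r hr hrq hrn hn hpow x y
        refine ⟨(x', y'), ?_⟩
        simp only [Prod.orderOf, h]
        rw [h', Nat.lcm_assoc]
    · rintro ⟨⟨x, y⟩, rfl⟩
      exact ⟨(x, y, 1), by simp [Prod.orderOf]⟩

end Cfsg.Agent.S2510
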