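import Cfsg.Statements.S2511
import Cfsg.Agent.H51.PSUExtend
-- import your own Cfsg.Agent.* helpers here

set_option autoImplicit false
open Cfsg

namespace Cfsg.Agent.S2511

/-- Let F be a finite field with q² elements, q = p^a, n ≥ 3 with (n, q) ≠ (3, 2), L = PSU(n, q) realised over F, and let r be a prime dividing q + 1 and not dividing n. Then for every m the direct product L × L × L × (ℤ/r)^m has the same set of element orders as L × L × L; and if n − 1 is not a power of p, then already L × L × (ℤ/r)^m has the same set of element orders as L × L. -/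
theorem result {F : Type*} [Field F] [Fintype F] (p a n q r m : ℕ) (hp : p.Prime) (ha : 1 ≤ a) (hq : q = p ^ a) (hF : Fintype.card F = q ^ 2)
    (hn : 3 ≤ n) (hn3 : ¬ (n = 3 ∧ q = 2)) (hr : r.Prime) (hrq : r ∣ q + 1) (hrn : ¬ r ∣ n) :
    Set.range (orderOf : Cfsg.PSU n F q × Cfsg.PSU n F q × Cfsg.PSU n F q × Multiplicative (Fin m → ZMod r) → ℕ) = Set.range (orderOf : Cfsg.PSU n F q × Cfsg.PSU n F q × Cfsg.PSU n F q → ℕ) ∧
    ((¬ ∃ j : ℕ, n - 1 = p ^ j) →
      Set.range (orderOf : Cfsg.PSU n F q × Cfsg.PSU n F q × Multiplicative (Fin m → ZMod r) → ℕ) = Set.range (orderOf : Cfsg.PSU n F q × Cfsg.PSU n F q → ℕ)) := by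
  classical
  haveI := Fact.mk hp
  have hFp : Fintype.card F = p ^ (2 * a) := by rw [hF, hq, ← pow_mul, mul_comm]
  haveI : CharP F p := charP_of_card_eq_prime_pow hFp
  have hpR : ringChar F = p := ringChar.eq F p
  set L := Cfsg.PSU n F q
  set J := Nat.clog p n with hJ
  have hJn : n ≤ p ^ J := Nat.le_pow_clog hp.one_lt n
  have hJ1 : p ^ (J - 1) < n := by
    rcases Nat.eq_zero_or_pos J with h | h
    · rw [h] at hJn ⊢; simp at hJn; omega
    · exact Nat.pow_lt_of_lt_clog (by omega)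
  have hJ0 : 0 < J := by
    rcases Nat.eq_zero_or_pos J with h | h
    · rw [h] at hJn; simp at hJn; omega
    · exact h
  have hd0 : 0 < Nat.gcd n (q + 1) := Nat.gcd_pos_of_pos_right _ (Nat.succ_pos q)
  obtain ⟨j0, hj0⟩ : Nat.gcd n (q + 1) ∣ (H51.negSum q n).natAbs := by
    rw [← Int.natCast_dvd]
    have h1 : ((Nat.gcd n (q + 1) : ℕ) : ℤ) ∣ (q : ℤ) + 1 := by
      exact_mod_cast Int.natCast_dvd_natCast.2 (Nat.gcd_dvd_right n (q + 1))
    have h2 : ((Nat.gcd n (q + 1) : ℕ) : ℤ) ∣ (n : ℤ) := Int.natCast_dvd_natCast.2 (Nat.gcd_dvd_left _ _)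
    simpa using dvd_add (h1.trans (H51.negSum_modEq q n)) h2
  -- torus elements
  obtain ⟨gT, hgT⟩ := H51.exists_su_torus hF (n := n) (by omega)
  have hT : ∀ k, k ∣ j0 → ∃ x : L, orderOf x = k := by
    intro k hk
    set xT : L := QuotientGroup.mk gT
    have h1 : (H51.negSum q n).natAbs ∣ orderOf xT * Nat.gcd n (q + 1) := by
      rw [← hgT]
      apply orderOf_dvd_of_pow_eq_one
      rw [pow_mul]
      have h1 : gT ^ orderOf xT ∈ Subgroup.center (Cfsg.SU n F q) := by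
        rw [← QuotientGroup.eq_one_iff, QuotientGroup.mk_pow]
        exact pow_orderOf_eq_one xT
      have h2 := pow_card_eq_one' (x := (⟨_, h1⟩ : Subgroup.center (Cfsg.SU n F q)))
      rw [H50.card_center_SU hF (by omega)] at h2
      exact congrArg Subtype.val h2
    rw [hj0, mul_comm (orderOf xT)] at h1
    have h2 := hk.trans (Nat.dvd_of_mul_dvd_mul_left hd0 h1)
    exact ⟨xT ^ (orderOf xT / k), orderOf_pow_orderOf_div (orderOf_pos xT).ne' h2⟩
  -- elements extendable by r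
  have hext : ∀ (k : ℕ), k ≤ n → 0 < k → k < n → p ^ (J - 1) < k → ∀ i, i ∣ p ^ J → ∃ x : L, orderOf x = r * i := by
    intro k hk hk0 hkn hkp i hi
    obtain ⟨g, hg, hge⟩ := H51.exists_su_unipotent hF hk (show 2 ≤ n by omega)
    rw [hpR] at hg
    obtain ⟨J', hJ'⟩ : ∃ J', J = J' + 1 := ⟨J - 1, by omega⟩
    have ho : orderOf (QuotientGroup.mk g : L) = p ^ J := by
      rw [hJ']
      refine orderOf_eq_prime_pow (fun h => ?_) ((hg _).2 (by rw [← hJ']; omega))
      have := (hg J').1 h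
      rw [hJ', Nat.add_sub_cancel] at hkp
      omega
    obtain ⟨e, h1, h2, h3, h4, h5⟩ := hge hk0 hkn
    have hrp : ¬ r ∣ p ^ J := by
      intro h
      have h' := (Nat.prime_dvd_prime_iff_eq hr hp).1 (hr.dvd_of_dvd_pow h)
      subst h'
      have h6 : r ∣ q := hq ▸ dvd_pow_self r (by omega)
      exact hr.one_lt.ne' (Nat.eq_one_of_dvd_one ((Nat.dvd_add_right h6).1 hrq))
    obtain ⟨x, hx⟩ := H51.extend_of_idem hF (by omega) g hr hrq hrn h1 h2 h3 h4 h5 (by rw [ho]; exact hrp)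
    rw [ho] at hx
    exact ⟨x ^ (orderOf x / (r * i)), orderOf_pow_orderOf_div (orderOf_pos x).ne'
      (hx ▸ Nat.mul_dvd_mul_left r hi)⟩
  have hP : ∀ i, i ∣ p ^ J → ∃ x : L, orderOf x = i := by
    intro i hi
    obtain ⟨g, hg, -⟩ := H51.exists_su_unipotent hF (k := n) le_rfl (show 2 ≤ n by omega)
    rw [hpR] at hg
    obtain ⟨J', hJ'⟩ : ∃ J', J = J' + 1 := ⟨J - 1, by omega⟩
    have ho : orderOf (QuotientGroup.mk g : L) = p ^ J := by
      rw [hJ']
      refine orderOf_eq_prime_pow (fun h => ?_) ((hg _).2 (by rw [← hJ']; omega))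
      have := (hg J').1 h
      rw [hJ', Nat.add_sub_cancel] at hJ1
      omega
    exact ⟨(QuotientGroup.mk g : L) ^ (orderOf (QuotientGroup.mk g : L) / i),
      orderOf_pow_orderOf_div (orderOf_pos _).ne' (ho ▸ hi)⟩
  have hrel : ∃ x : L, orderOf x = r := by
    obtain ⟨g, hg, hge⟩ := H51.exists_su_unipotent hF (k := 1) (show 1 ≤ n by omega) (show 2 ≤ n by omega)
    have h1 := (hg 0).2 (by simp)
    rw [pow_zero, pow_one] at h1
    obtain ⟨e, e1, e2, e3, e4, e5⟩ := hge one_pos (by omega)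
    obtain ⟨x, hx⟩ := H51.extend_of_idem hF (by omega) g hr hrq hrn e1 e2 e3 e4 e5
      (by rw [h1, orderOf_one]; exact hr.not_dvd_one)
    exact ⟨x, by rw [hx, h1, orderOf_one, mul_one]⟩
  have hdich : ∀ x : L, ¬ r ∣ orderOf x → (∃ y : L, orderOf y = Nat.lcm r (orderOf x)) ∨ orderOf x ∣ p ^ J * j0 := by
    intro x hx
    obtain ⟨g, rfl⟩ := QuotientGroup.mk_surjective x
    rcases H51.exists_idem_or_bound hF (show 2 ≤ n by omega) g (P := p ^ J) hJn ⟨J, by rw [hpR]⟩ with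
      ⟨e, h1, h2, h3, h4, h5⟩ | h
    · obtain ⟨y, hy⟩ := H51.extend_of_idem hF (by omega) g hr hrq hrn h1 h2 h3 h4 h5 hx
      exact Or.inl ⟨y, by rw [hy, Nat.Coprime.lcm_eq_mul ((Nat.Prime.coprime_iff_not_dvd hr).2 hx)]⟩
    · rw [hj0, Nat.mul_div_cancel_left _ hd0] at h
      exact Or.inr h
  have hcop : Nat.Coprime (p ^ J) j0 := by
    refine Nat.Coprime.pow_left _ ((Nat.Prime.coprime_iff_not_dvd hp).2 fun h => ?_)
    apply H51.negSum_cast_ne_zero hF (n := n) (by omega)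
    rw [CharP.cast_eq_zero_iff F p, hj0]
    exact h.mul_left _
  have hv : ∀ v : Multiplicative (Fin m → ZMod r), orderOf v = 1 ∨ orderOf v = r := by
    intro v
    apply (Nat.dvd_prime hr).1
    apply orderOf_dvd_of_pow_eq_one
    apply Multiplicative.toAdd.injective
    rw [toAdd_pow, toAdd_one]
    funext i
    show r • (Multiplicative.toAdd v i) = 0
    rw [nsmul_eq_mul, ZMod.natCast_self, zero_mul]
  have hsplit : ∀ l, l ∣ p ^ J * j0 → Nat.lcm (Nat.gcd l (p ^ J)) (Nat.gcd l j0) = l := by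
    intro l hl
    have h1 : Nat.Coprime (Nat.gcd l (p ^ J)) (Nat.gcd l j0) :=
      (hcop.coprime_dvd_left (Nat.gcd_dvd_right _ _)).coprime_dvd_right (Nat.gcd_dvd_right _ _)
    rw [h1.lcm_eq_mul, ← Nat.Coprime.gcd_mul l hcop, Nat.gcd_eq_left hl]
  have hlc : ∀ a b c : ℕ, Nat.lcm a (Nat.lcm b c) = Nat.lcm b (Nat.lcm a c) := fun a b c => by
    rw [← Nat.lcm_assoc, Nat.lcm_comm a b, Nat.lcm_assoc]
  constructor
  · apply Set.Subset.antisymm
    · rintro _ ⟨⟨x, y, z, v⟩, rfl⟩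
      simp only [Prod.orderOf, Set.mem_range, Prod.exists]
      rcases hv v with h | h
      · exact ⟨x, y, z, by rw [h, Nat.lcm_one_right]⟩
      rw [h]
      set o := Nat.lcm (orderOf x) (Nat.lcm (orderOf y) (orderOf z)) with ho
      have htot : Nat.lcm (orderOf x) (Nat.lcm (orderOf y) (Nat.lcm (orderOf z) r)) = Nat.lcm o r := by
        rw [ho, Nat.lcm_assoc, Nat.lcm_assoc]
      rw [htot]
      by_cases hro : r ∣ orderOf x ∨ r ∣ orderOf y ∨ r ∣ orderOf z
      · refine ⟨x, y, z, ?_⟩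
        rw [← ho, Nat.lcm_eq_left]
        rw [ho]
        rcases hro with h1 | h1 | h1
        · exact h1.trans (Nat.dvd_lcm_left _ _)
        · exact h1.trans ((Nat.dvd_lcm_left _ _).trans (Nat.dvd_lcm_right _ _))
        · exact h1.trans ((Nat.dvd_lcm_right _ _).trans (Nat.dvd_lcm_right _ _))
      push Not at hro
      rcases hdich x hro.1 with ⟨x', hx'⟩ | hxb
      · exact ⟨x', y, z, by rw [hx', ho]; simp only [Nat.lcm_comm, hlc, Nat.lcm_assoc]⟩
      rcases hdich y hro.2.1 with ⟨y', hy'⟩ | hyb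
      · refine ⟨x, y', z, ?_⟩
        rw [hy', ho]; simp only [Nat.lcm_comm, hlc, Nat.lcm_assoc]
      rcases hdich z hro.2.2 with ⟨z', hz'⟩ | hzb
      · refine ⟨x, y, z', ?_⟩
        rw [hz', ho]; simp only [Nat.lcm_comm, hlc, Nat.lcm_assoc]
      obtain ⟨x1, hx1⟩ := hP (Nat.gcd o (p ^ J)) (Nat.gcd_dvd_right _ _)
      obtain ⟨y1, hy1⟩ := hT (Nat.gcd o j0) (Nat.gcd_dvd_right _ _)
      obtain ⟨z1, hz1⟩ := hrel
      refine ⟨x1, y1, z1, ?_⟩
      rw [hx1, hy1, hz1, ← Nat.lcm_assoc, hsplit o (Nat.lcm_dvd hxb (Nat.lcm_dvd hyb hzb))]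
    · rintro _ ⟨⟨x, y, z⟩, rfl⟩
      exact ⟨⟨x, y, z, 1⟩, by simp [Prod.orderOf]⟩
  · intro hno
    apply Set.Subset.antisymm
    · rintro _ ⟨⟨x, y, v⟩, rfl⟩
      simp only [Prod.orderOf, Set.mem_range, Prod.exists]
      rcases hv v with h | h
      · exact ⟨x, y, by rw [h, Nat.lcm_one_right]⟩
      rw [h]
      set o := Nat.lcm (orderOf x) (orderOf y) with ho
      have htot : Nat.lcm (orderOf x) (Nat.lcm (orderOf y) r) = Nat.lcm o r := by
        rw [ho, Nat.lcm_assoc]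
      rw [htot]
      by_cases hro : r ∣ orderOf x ∨ r ∣ orderOf y
      · refine ⟨x, y, ?_⟩
        rw [← ho, Nat.lcm_eq_left]
        rw [ho]
        rcases hro with h1 | h1
        · exact h1.trans (Nat.dvd_lcm_left _ _)
        · exact h1.trans (Nat.dvd_lcm_right _ _)
      push Not at hro
      rcases hdich x hro.1 with ⟨x', hx'⟩ | hxb
      · exact ⟨x', y, by rw [hx', ho]; simp only [Nat.lcm_comm, hlc, Nat.lcm_assoc]⟩
      rcases hdich y hro.2 with ⟨y', hy'⟩ | hyb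
      · exact ⟨x, y', by rw [hy', ho]; simp only [Nat.lcm_comm, hlc, Nat.lcm_assoc]⟩
      have hn1 : p ^ (J - 1) < n - 1 := by
        rcases Nat.lt_or_ge (p ^ (J - 1)) (n - 1) with h1 | h1
        · exact h1
        · exact absurd ⟨J - 1, by omega⟩ hno
      obtain ⟨x1, hx1⟩ := hext (n - 1) (by omega) (by omega) (by omega) hn1 (Nat.gcd o (p ^ J)) (Nat.gcd_dvd_right _ _)
      obtain ⟨y1, hy1⟩ := hT (Nat.gcd o j0) (Nat.gcd_dvd_right _ _)
      refine ⟨x1, y1, ?_⟩
      have hl := hsplit o (Nat.lcm_dvd hxb hyb)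
      have hr' : Nat.Coprime r (Nat.gcd o (p ^ J)) := by
        refine (Nat.Prime.coprime_iff_not_dvd hr).2 fun h1 => ?_
        have h2 := h1.trans (Nat.gcd_dvd_left _ _)
        rcases hr.dvd_or_dvd ((h2.trans (Nat.lcm_dvd_mul _ _))) with h3 | h3
        · exact hro.1 h3
        · exact hro.2 h3
      rw [hx1, hy1, ← hr'.lcm_eq_mul, Nat.lcm_assoc, hl, Nat.lcm_comm]
    · rintro _ ⟨⟨x, y⟩, rfl⟩
      exact ⟨⟨x, y, 1⟩, by simp [Prod.orderOf]⟩

end Cfsg.Agent.S2511
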