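import Cfsg.Statements.S2512
import Cfsg.Agent.H49.SpectrumCube

set_option autoImplicit false
open Cfsg

namespace Cfsg.Agent.S2512

/-- Let F be a finite field of odd order q = p^a, n ≥ 2 (with q ≥ 3 automatic), and L = PSp(2n, F). Then for every m the direct product L × L × L × (ℤ/2)^m has the same set of element orders as L × L × L; and if 2n − 1 is not a power of p, then already L × L × (ℤ/2)^m has the same set of element orders as L × L. -/
theorem result {F : Type*} [Field F] [Fintype F] (p a n m : ℕ) (hp : p.Prime) (ha : 1 ≤ a) (hF : Fintype.card F = p ^ a) (hodd : Odd (Fintype.card F))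
    (hn : 2 ≤ n) :
    Set.range (orderOf : Cfsg.PSp n F × Cfsg.PSp n F × Cfsg.PSp n F × Multiplicative (Fin m → ZMod 2) → ℕ) = Set.range (orderOf : Cfsg.PSp n F × Cfsg.PSp n F × Cfsg.PSp n F → ℕ) ∧
    ((¬ ∃ j : ℕ, 2 * n - 1 = p ^ j) →
      Set.range (orderOf : Cfsg.PSp n F × Cfsg.PSp n F × Multiplicative (Fin m → ZMod 2) → ℕ) = Set.range (orderOf : Cfsg.PSp n F × Cfsg.PSp n F → ℕ)) := by
  haveI : Fact p.Prime := ⟨hp⟩
  obtain ⟨r, hr⟩ := CharP.exists F
  haveI : CharP F p := by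
    obtain ⟨k, hrp, hk⟩ := FiniteField.card F r
    have h1 : p ∣ r ^ (k : ℕ) := by rw [← hk, hF]; exact dvd_pow_self p (by omega)
    rwa [(Nat.prime_dvd_prime_iff_eq hp hrp).1 (hp.dvd_of_dvd_pow h1)]
  have hp2 : p ≠ 2 := by
    rintro rfl
    exact Nat.not_even_iff_odd.2 hodd (hF ▸ Nat.even_pow.2 ⟨even_two, by omega⟩)
  have hinv : 2 ∈ Set.range (orderOf : Cfsg.PSp n F → ℕ) := by
    have h := H49.two_mul_mem_of_split (F := F) (n := n) hp2 (d := 1) (k := n - 1) (b := 0) (M := 1)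
      one_pos (by omega) (by omega) (Or.inl (one_dvd _)) odd_one hp.not_dvd_one (Or.inl rfl)
    simpa using h
  have hE : ∀ e : Multiplicative (Fin m → ZMod 2), e ^ 2 = 1 := fun e => by
    apply Multiplicative.toAdd.injective
    rw [toAdd_pow, toAdd_one]
    funext i
    rw [Pi.smul_apply, nsmul_eq_mul, Pi.zero_apply]
    exact mul_eq_zero_of_left (by decide) _
  have hT : ∀ x y : ℕ, x ∣ H49.oddTorus F n → y ∣ H49.oddTorus F n →
      Nat.lcm x y ∈ Set.range (orderOf : Cfsg.PSp n F → ℕ) := fun x y hx hy =>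
    (H49.exists_psp_orderOf_oddTorus hp2 (by omega) (Nat.lcm_dvd hx hy)).2
  refine ⟨H49.absorb_three hE hinv (fun o => ∃ j, 2 * n - 1 = p ^ j ∧ o = p ^ (j + 1))
    (fun o => o ∣ H49.oddTorus F n) (fun y hy => H49.psp_odd_order_cases hp2 hn y hy) ?_ hT,
    fun hno => H49.absorb_two hE hinv (fun o => o ∣ H49.oddTorus F n) (fun y hy => ?_) hT⟩
  · rintro a b ⟨i, hi, rfl⟩ ⟨j, hj, rfl⟩
    rw [Nat.pow_right_injective hp.two_le (hi.symm.trans hj)]
  · rcases H49.psp_odd_order_cases hp2 hn y hy with h | ⟨j, hj, -⟩ | h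
    · exact Or.inl h
    · exact absurd ⟨j, hj⟩ hno
    · exact Or.inr h

end Cfsg.Agent.S2512
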