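import Cfsg.Statements.S2513
import Cfsg.Agent.H41.PSLSpectrum

set_option autoImplicit false
open Cfsg

namespace Cfsg.Agent.S2513

/-- Let F be the field with two elements, n ≥ 2, L = PSL(n, F) and k₀ = ⌊(n + 3)/2⌋. Then for every k ≥ k₀ the direct product of k copies of L has the same set of element orders as the direct product of k₀ copies of L. -/
theorem result {F : Type*} [Field F] [Fintype F] (hF : Fintype.card F = 2) (n k : ℕ) (hn : 2 ≤ n) (hk : (n + 3) / 2 ≤ k) :
    Set.range (orderOf : (Fin k → Matrix.ProjectiveSpecialLinearGroup (Fin n) F) → ℕ) = Set.range (orderOf : (Fin ((n + 3) / 2) → Matrix.ProjectiveSpecialLinearGroup (Fin n) F) → ℕ) := by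
  classical
  haveI : CharP F 2 := by
    obtain ⟨p', hp'⟩ := CharP.exists F
    haveI := hp'
    obtain ⟨e, he, hcard⟩ := FiniteField.card F p'
    have hdvd : 2 ∣ p' ^ (e : ℕ) := by rw [← hcard, hF]
    rwa [(Nat.prime_dvd_prime_iff_eq Nat.prime_two he).mp (Nat.prime_two.dvd_of_dvd_pow hdvd)]
  haveI : Fact (Nat.Prime 2) := ⟨Nat.prime_two⟩
  haveI : Nonempty (Fin n) := ⟨⟨0, by omega⟩⟩
  have hone : ∀ c : F, c ≠ 0 → c = 1 := fun c hc => by
    have h := FiniteField.pow_card_sub_one_eq_one c hc
    rwa [hF, pow_one] at h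
  have hmk : ∀ A : Matrix.SpecialLinearGroup (Fin n) F,
      orderOf (QuotientGroup.mk A : Matrix.ProjectiveSpecialLinearGroup (Fin n) F) = orderOf A := by
    intro A
    refine orderOf_injective (QuotientGroup.mk' (Subgroup.center (Matrix.SpecialLinearGroup (Fin n) F))) ?_ A
    rw [injective_iff_map_eq_one]
    intro B hB
    obtain ⟨c, hc⟩ := (H41.pslMk_eq_one_iff B).mp hB
    have hc0 : c ≠ 0 := by
      rintro rfl
      have := B.prop
      rw [hc] at this
      simp [show n ≠ 0 by omega] at this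
    apply Subtype.ext
    rw [hc, hone c hc0, map_one]
    rfl
  obtain ⟨J, hJdef⟩ : ∃ J, J = Nat.clog 2 n := ⟨_, rfl⟩
  obtain ⟨B, hBdef⟩ : ∃ B, B = H41.ordBound 2 n := ⟨_, rfl⟩
  ext o
  constructor
  · rintro ⟨f, rfl⟩
    rw [Pi.orderOf]
    obtain ⟨O, hO⟩ : ∃ O, O = Finset.univ.lcm (fun i => orderOf (f i)) := ⟨_, rfl⟩
    rw [← hO]
    have hdvd : O ∣ 2 ^ J * B := by
      rw [hO]
      refine Finset.lcm_dvd fun i _ => ?_
      obtain ⟨A, hA⟩ := QuotientGroup.mk_surjective (f i)
      rw [← hA, hmk, ← H41.slOrderOf_val, hJdef, hBdef]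
      apply orderOf_dvd_of_pow_eq_one
      have h := H41.pow_bound_eq_one 2 A.val (by rw [A.prop]; exact isUnit_one) (Nat.clog 2 n)
        (by rw [Fintype.card_fin]; exact Nat.le_pow_clog one_lt_two n)
      rwa [hF, Fintype.card_fin] at h
    have hodd : ¬ 2 ∣ B := by
      intro h
      have key : ∀ s : Finset ℕ, (∀ d ∈ s, 1 ≤ d) → ¬ 2 ∣ s.lcm (fun d => 2 ^ d - 1) := by
        intro s
        induction s using Finset.induction with
        | empty => simp
        | insert a s ha ih =>
          intro hs h2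
          rw [Finset.lcm_insert, lcm_eq_nat_lcm] at h2
          rcases (Nat.prime_two.dvd_mul).mp (h2.trans (Nat.lcm_dvd_mul _ _)) with h3 | h3
          · have h4 : 2 ∣ 2 ^ a := dvd_pow_self 2 (by have := hs a (Finset.mem_insert_self _ _); omega)
            have h5 : 0 < 2 ^ a := Nat.two_pow_pos a
            omega
          · exact ih (fun d hd => hs d (Finset.mem_insert_of_mem hd)) h3
      exact key _ (fun d hd => (Finset.mem_Icc.mp hd).1) (hBdef ▸ h)
    have hcop : Nat.Coprime (2 ^ J) B := (Nat.prime_two.coprime_iff_not_dvd.mpr hodd).pow_left J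
    obtain ⟨i, hi, hOi⟩ := (Nat.dvd_prime_pow Nat.prime_two).mp (Nat.gcd_dvd_right O (2 ^ J))
    obtain ⟨A₀, hA₀, -⟩ := H41.exists_psl_pPower (F := F) (n := n) 2 i n le_rfl (by omega) (by
      rcases Nat.eq_zero_or_pos i with h | h
      · exact Or.inl h
      · exact Or.inr (Nat.pow_lt_of_lt_clog (by omega)))
    have hex : ∀ s : Fin ((n + 1) / 2), ∃ x : Matrix.ProjectiveSpecialLinearGroup (Fin n) F,
        orderOf x = Nat.gcd O (2 ^ (n / 2 + 1 + s.val) - 1) := by
      intro s
      obtain ⟨M, hMu, hMo⟩ := H41.exists_gl_orderOf (F := F) n (n / 2 + 1 + s.val)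
        (Nat.gcd O (2 ^ (n / 2 + 1 + s.val) - 1)) (by omega) (by omega)
        (by rw [hF]; exact Nat.gcd_dvd_right _ _)
      obtain ⟨A, hA⟩ : ∃ A : Matrix.SpecialLinearGroup (Fin n) F, A.val = M :=
        ⟨⟨M, hone _ hMu.ne_zero⟩, rfl⟩
      refine ⟨QuotientGroup.mk A, ?_⟩
      rw [hmk, ← H41.slOrderOf_val, hA]
      exact hMo
    choose g hg using hex
    let f' : Fin ((n + 3) / 2) → Matrix.ProjectiveSpecialLinearGroup (Fin n) F := fun s =>
      if h : s.val < (n + 1) / 2 then g ⟨s.val, h⟩ else QuotientGroup.mk A₀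
    refine ⟨f', ?_⟩
    rw [Pi.orderOf]
    apply Nat.dvd_antisymm
    · refine Finset.lcm_dvd fun s _ => ?_
      simp only [f']
      split_ifs with h
      · rw [hg]; exact Nat.gcd_dvd_left _ _
      · rw [hA₀, ← hOi]; exact Nat.gcd_dvd_left _ _
    · have hsplit := H41.lcm_gcd_split hcop hdvd
      conv_lhs => rw [hsplit]
      refine Nat.lcm_dvd ?_ ?_
      · have key : ∀ s : Finset ℕ, (∀ d ∈ s, 1 ≤ d ∧ d ≤ n) →
            Nat.gcd O (s.lcm fun d => 2 ^ d - 1) ∣ Finset.univ.lcm (fun i => orderOf (f' i)) := by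
          intro s
          induction s using Finset.induction with
          | empty => simp
          | insert a s ha ih =>
            intro hs
            rw [Finset.lcm_insert, lcm_eq_nat_lcm]
            refine (H41.gcd_lcm_dvd O _ _).trans (Nat.lcm_dvd ?_ (ih fun d hd => hs d (Finset.mem_insert_of_mem hd)))
            obtain ⟨ha1, han⟩ := hs a (Finset.mem_insert_self _ _)
            -- `a` has a multiple in `(n/2, n]`
            obtain ⟨d, hd, hd1, hd2⟩ : ∃ d, a ∣ d ∧ n / 2 < d ∧ d ≤ n := by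
              refine ⟨a * (n / a), dvd_mul_right _ _, ?_, Nat.mul_div_le n a⟩
              have h1 := Nat.lt_mul_div_succ n (show 0 < a by omega)
              have h2 : 1 ≤ n / a := (Nat.one_le_div_iff (by omega)).mpr han
              have h3 : a ≤ a * (n / a) := Nat.le_mul_of_pos_right a h2
              rw [Nat.mul_succ] at h1
              omega
            obtain ⟨c, hc⟩ := hd
            have hdiv : 2 ^ a - 1 ∣ 2 ^ d - 1 := by
              rw [hc, pow_mul]
              exact Nat.sub_one_dvd_pow_sub_one (2 ^ a) c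
            refine (Nat.gcd_dvd_gcd_of_dvd_right O hdiv).trans ?_
            have h := Finset.dvd_lcm (f := fun i => orderOf (f' i))
              (Finset.mem_univ (⟨d - (n / 2 + 1), by omega⟩ : Fin ((n + 3) / 2)))
            have h' : d - (n / 2 + 1) < (n + 1) / 2 := by omega
            simp only [f', dif_pos h', hg] at h
            rwa [show n / 2 + 1 + (d - (n / 2 + 1)) = d by omega] at h
        rw [hBdef]
        exact key _ (fun d hd => Finset.mem_Icc.mp hd)
      · rw [hOi, ← hA₀]
        have := Finset.dvd_lcm (f := fun i => orderOf (f' i)) (Finset.mem_univ ⟨(n + 1) / 2, by omega⟩)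
        simpa [f'] using this
  · rintro ⟨f, rfl⟩
    refine ⟨fun i => if h : i.val < (n + 3) / 2 then f ⟨i.val, h⟩ else 1, ?_⟩
    rw [Pi.orderOf, Pi.orderOf]
    apply Nat.dvd_antisymm
    · refine Finset.lcm_dvd fun i _ => ?_
      split_ifs with h
      · exact Finset.dvd_lcm (f := fun i => orderOf (f i)) (Finset.mem_univ _)
      · simp
    · refine Finset.lcm_dvd fun i _ => ?_
      have := Finset.dvd_lcm (f := fun j : Fin k => orderOf
        (if h : j.val < (n + 3) / 2 then f ⟨j.val, h⟩ else 1)) (Finset.mem_univ ⟨i.val, by omega⟩)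
      simpa [i.isLt] using this

end Cfsg.Agent.S2513
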