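import Cfsg.Statements.S2514
import Mathlib

set_option autoImplicit false
open Cfsg

namespace Cfsg.Agent.S2514

theorem exists_maximal_order {G : Type*} [Group G] [Finite G] (g : G) :
    ∃ n : ℕ, (n ∈ Set.range (orderOf : G → ℕ) ∧ ∀ m ∈ Set.range (orderOf : G → ℕ), n ∣ m → m = n) ∧ orderOf g ∣ n := by
  classical
  haveI := Fintype.ofFinite G
  obtain ⟨x, hx, hmax⟩ := (Finset.univ.filter fun x : G => orderOf g ∣ orderOf x).exists_max_image orderOf
    ⟨g, by simp⟩
  simp only [Finset.mem_filter, Finset.mem_univ, true_and] at hx hmax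
  refine ⟨orderOf x, ⟨⟨x, rfl⟩, ?_⟩, hx⟩
  rintro m ⟨y, rfl⟩ hy
  exact le_antisymm (hmax y (hx.trans hy)) (Nat.le_of_dvd (orderOf_pos y) hy)

theorem mem_range_of_dvd {G : Type*} [Group G] [Finite G] (g : G) {d : ℕ} (h : d ∣ orderOf g) :
    d ∈ Set.range (orderOf : G → ℕ) := by
  obtain ⟨c, hc⟩ := h
  have hpos := orderOf_pos g
  refine ⟨g ^ c, ?_⟩
  rw [orderOf_pow' g (by rintro rfl; exact hpos.ne' (by rw [hc, mul_zero])), hc]
  rw [Nat.gcd_eq_right (dvd_mul_left c d)]
  rw [Nat.mul_div_cancel d]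
  rcases Nat.eq_zero_or_pos c with rfl | hc0
  · exact absurd (by rw [hc, mul_zero]) hpos.ne'
  · exact hc0

/-- For a finite group X write μ(X) for the set of element orders of X that are maximal under divisibility. Let G and H be finite groups and k ≥ 1 such that μ(H) ⊆ μ(G) and μ(G) has fewer than k elements outside μ(H). Then the direct product of k copies of G has the same set of element orders as the direct product of k − 1 copies of G with H. -/
theorem result {G H : Type*} [Group G] [Finite G] [Group H] [Finite H] (k : ℕ) (hk : 1 ≤ k)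
    (hsub : {n : ℕ | n ∈ Set.range (orderOf : H → ℕ) ∧ ∀ m ∈ Set.range (orderOf : H → ℕ), n ∣ m → m = n} ⊆ {n : ℕ | n ∈ Set.range (orderOf : G → ℕ) ∧ ∀ m ∈ Set.range (orderOf : G → ℕ), n ∣ m → m = n})
    (hfew : ({n : ℕ | n ∈ Set.range (orderOf : G → ℕ) ∧ ∀ m ∈ Set.range (orderOf : G → ℕ), n ∣ m → m = n} \ {n : ℕ | n ∈ Set.range (orderOf : H → ℕ) ∧ ∀ m ∈ Set.range (orderOf : H → ℕ), n ∣ m → m = n}).ncard < k) :
    Set.range (orderOf : (Fin k → G) → ℕ) = Set.range (orderOf : (Fin (k - 1) → G) × H → ℕ) := by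
  classical
  obtain ⟨k, rfl⟩ := Nat.exists_eq_add_of_le' hk
  change _ = Set.range (orderOf : (Fin k → G) × H → ℕ)
  set MG := {n : ℕ | n ∈ Set.range (orderOf : G → ℕ) ∧ ∀ m ∈ Set.range (orderOf : G → ℕ), n ∣ m → m = n}
  set MH := {n : ℕ | n ∈ Set.range (orderOf : H → ℕ) ∧ ∀ m ∈ Set.range (orderOf : H → ℕ), n ∣ m → m = n}
  have hHG : ∀ h : H, ∃ g : G, orderOf g = orderOf h := by
    intro h
    obtain ⟨n, hn, hdvd⟩ := exists_maximal_order h
    obtain ⟨g, hg⟩ := (hsub hn).1
    exact mem_range_of_dvd g (hg ▸ hdvd)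
  ext n
  constructor
  · rintro ⟨f, rfl⟩
    choose M hM hdM using fun i => exists_maximal_order (f i)
    have hred : ∃ i : Fin (k + 1), M i ∈ MH ∨ ∃ j, j ≠ i ∧ M j = M i := by
      by_contra hne
      push Not at hne
      have hinj : Function.Injective M := by
        intro a b hab
        by_contra hab'
        exact (hne b).2 a hab' hab
      have hsubset : Set.range M ⊆ MG \ MH := by
        rintro _ ⟨i, rfl⟩
        exact ⟨hM i, (hne i).1⟩
      have hfin : (MG \ MH).Finite :=
        (Set.finite_range (orderOf : G → ℕ)).subset fun x hx => hx.1.1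
      have := Set.ncard_le_ncard hsubset hfin
      rw [Set.ncard_range_of_injective hinj, Nat.card_fin] at this
      omega
    obtain ⟨i, hi⟩ := hred
    choose g hg using fun j => (hM j).1
    have hh : ∃ h : H, M i ∈ MH → orderOf h = M i := by
      by_cases hm : M i ∈ MH
      · obtain ⟨h, hh⟩ := hm.1; exact ⟨h, fun _ => hh⟩
      · exact ⟨1, fun h => absurd h hm⟩
    obtain ⟨h, hh⟩ := hh
    refine mem_range_of_dvd ((fun j : Fin k => g (i.succAbove j), h) : (Fin k → G) × H) ?_
    refine orderOf_dvd_of_pow_eq_one (funext fun j => ?_)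
    rw [Pi.pow_apply, Pi.one_apply, ← orderOf_dvd_iff_pow_eq_one, Prod.orderOf_mk]
    refine (hdM j).trans ?_
    have hone : ∀ l : Fin k, M (i.succAbove l) ∣ orderOf (fun j : Fin k => g (i.succAbove j)) := by
      intro l
      rw [← hg (i.succAbove l)]
      exact orderOf_map_dvd (Pi.evalMonoidHom (fun _ : Fin k => G) l) (fun j => g (i.succAbove j))
    rcases eq_or_ne j i with rfl | hji
    · rcases hi with hi | ⟨l, hl, hle⟩
      · rw [← hh hi]; exact Nat.dvd_lcm_right _ _
      · obtain ⟨l', rfl⟩ := Fin.exists_succAbove_eq hl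
        rw [← hle]; exact (hone l').trans (Nat.dvd_lcm_left _ _)
    · obtain ⟨l', rfl⟩ := Fin.exists_succAbove_eq hji
      exact (hone l').trans (Nat.dvd_lcm_left _ _)
  · rintro ⟨⟨a, h⟩, rfl⟩
    obtain ⟨g, hg⟩ := hHG h
    refine mem_range_of_dvd (Fin.cons g a : Fin (k + 1) → G) ?_
    rw [Prod.orderOf_mk]
    refine Nat.lcm_dvd (orderOf_dvd_of_pow_eq_one (funext fun j => ?_)) ?_
    · have := congrFun (pow_orderOf_eq_one (Fin.cons g a : Fin (k + 1) → G)) j.succ
      simpa using this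
    · rw [← hg]
      have := orderOf_map_dvd (Pi.evalMonoidHom (fun _ : Fin (k + 1) => G) 0) (Fin.cons g a : Fin (k + 1) → G)
      simpa using this

end Cfsg.Agent.S2514
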