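import Mathlib
import Cfsg.Statements.S2515
-- import your own Cfsg.Agent.* helpers here

set_option autoImplicit false
open Cfsg

namespace Cfsg.Agent.S2515

open Matrix

section Gen

variable {F : Type*} [Field F] [Fintype F] [CharP F 3]

/-- the sign scalar -/
def sgn (e : ℤˣ) : F := ((e : ℤ) : F)

omit [Fintype F] [CharP F 3] in
theorem sgn_one : sgn (F := F) 1 = 1 := by simp [sgn]

omit [Fintype F] [CharP F 3] in
theorem sgn_neg_one : sgn (F := F) (-1) = -1 := by simp [sgn]

omit [Fintype F] [CharP F 3] in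
theorem sgn_mul (a b : ℤˣ) : sgn (F := F) (a * b) = sgn a * sgn b := by simp [sgn]

variable (F) in
/-- the group acting -/
abbrev K0 : Type _ := Matrix.SpecialLinearGroup (Fin 2) F × ℤˣ

/-- twisted matrix -/
noncomputable def tw (g : Matrix.SpecialLinearGroup (Fin 2) F) : Matrix (Fin 2) (Fin 2) F :=
  ((g : Matrix (Fin 2) (Fin 2) F).map (frobenius F 3))ᵀ

omit [Fintype F] in
theorem tw_mul (g h : Matrix.SpecialLinearGroup (Fin 2) F) : tw (g * h) = tw h * tw g := by
  unfold tw
  rw [Matrix.SpecialLinearGroup.coe_mul, Matrix.map_mul, Matrix.transpose_mul]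

omit [Fintype F] in
theorem tw_one : tw (1 : Matrix.SpecialLinearGroup (Fin 2) F) = 1 := by
  simp [tw]

/-- the action -/
noncomputable def act (k : K0 F) (X : Matrix (Fin 2) (Fin 2) F) : Matrix (Fin 2) (Fin 2) F :=
  (sgn k.2 : F) • ((k.1 : Matrix (Fin 2) (Fin 2) F) * X * tw k.1)

omit [Fintype F] in
theorem act_one (X : Matrix (Fin 2) (Fin 2) F) : act (1 : K0 F) X = X := by
  simp [act, sgn_one, tw_one]

omit [Fintype F] in
theorem act_mul (k l : K0 F) (X : Matrix (Fin 2) (Fin 2) F) :
    act (k * l) X = act k (act l X) := by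
  simp only [act, Prod.fst_mul, Prod.snd_mul, Matrix.SpecialLinearGroup.coe_mul, tw_mul, sgn_mul,
    Matrix.mul_smul, Matrix.smul_mul, smul_smul, Matrix.mul_assoc]

omit [Fintype F] in
theorem act_add (k : K0 F) (X Y : Matrix (Fin 2) (Fin 2) F) :
    act k (X + Y) = act k X + act k Y := by
  simp [act, Matrix.mul_add, Matrix.add_mul, smul_add]

variable (F) in
/-- the action as automorphisms -/
noncomputable def rho : K0 F →* MulAut (Multiplicative (Matrix (Fin 2) (Fin 2) F)) where
  toFun k :=
    { toFun := fun X => Multiplicative.ofAdd (act k X.toAdd)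
      invFun := fun X => Multiplicative.ofAdd (act k⁻¹ X.toAdd)
      left_inv := fun X => by
        show Multiplicative.ofAdd (act k⁻¹ (act k X.toAdd)) = X
        rw [← act_mul, inv_mul_cancel, act_one]; rfl
      right_inv := fun X => by
        show Multiplicative.ofAdd (act k (act k⁻¹ X.toAdd)) = X
        rw [← act_mul, mul_inv_cancel, act_one]; rfl
      map_mul' := fun X Y => by
        rw [toAdd_mul, act_add, ofAdd_add] }
  map_one' := MulEquiv.ext fun X => congrArg Multiplicative.ofAdd (act_one X.toAdd)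
  map_mul' a b := MulEquiv.ext fun X => congrArg Multiplicative.ofAdd (act_mul a b X.toAdd)

omit [Fintype F] in
theorem rho_apply (k : K0 F) (X : Matrix (Fin 2) (Fin 2) F) :
    rho F k (Multiplicative.ofAdd X) = Multiplicative.ofAdd (act k X) := rfl

omit [Fintype F] in
theorem rho_eq_one_of (k : K0 F) (s : F) (hs : s * s = 1)
    (hg : (k.1 : Matrix (Fin 2) (Fin 2) F) = s • 1) (he : k.2 = 1) : rho F k = 1 := by
  refine MulEquiv.ext fun X => ?_
  show Multiplicative.ofAdd (act k X.toAdd) = X
  have h3 : s ^ 3 = s := by rw [pow_succ, pow_two, hs, one_mul]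
  have htw : tw k.1 = s • 1 := by
    simp only [tw, hg]
    ext i j
    fin_cases i <;> fin_cases j <;> simp [frobenius_def, h3]
  rw [act, htw, hg, he, sgn_one, one_smul]
  simp [smul_smul, hs]

omit [Fintype F] in
theorem rho_eq_one_only (k : K0 F) (hsq : ¬ IsSquare (-1 : F)) (h : rho F k = 1) :
    k.2 = 1 ∧ ((k.1 : Matrix (Fin 2) (Fin 2) F) = 1 ∨ (k.1 : Matrix (Fin 2) (Fin 2) F) = -1) := by
  have hX : ∀ X : Matrix (Fin 2) (Fin 2) F, act k X = X := fun X => by
    have := congrArg (fun e : MulAut _ => e (Multiplicative.ofAdd X)) h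
    exact congrArg Multiplicative.toAdd this
  set g : Matrix (Fin 2) (Fin 2) F := (k.1 : Matrix (Fin 2) (Fin 2) F) with hg
  set e : F := sgn k.2 with he
  have e2 : e * e = 1 := by
    rcases Int.units_eq_one_or k.2 with h | h <;> simp [he, h, sgn]
  -- `g` commutes with every matrix
  have h1 : e • (g * tw k.1) = 1 := by simpa [act] using hX 1
  have hcomm : ∀ X : Matrix (Fin 2) (Fin 2) F, g * X = X * g := by
    intro X
    have h2 : e • (g * (X * g) * tw k.1) = g * X := by
      have := hX (X * g)
      have h3 : (e • (g * X)) * (g * tw k.1) = e • (g * (X * g) * tw k.1) := by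
        simp [Matrix.mul_assoc]
      rw [← h3]
      rw [Matrix.smul_mul, ← Matrix.mul_smul, h1, Matrix.mul_one]
    have := hX (X * g)
    rw [act, ← hg, ← he, h2] at this
    exact this
  have g00 := congrFun (congrFun (hcomm !![1, 0; 0, 0]) 0) 1
  have g10 := congrFun (congrFun (hcomm !![1, 0; 0, 0]) 1) 0
  have g11 := congrFun (congrFun (hcomm !![0, 1; 0, 0]) 0) 1
  simp [Matrix.mul_apply, Fin.sum_univ_two] at g00 g10 g11
  have hdet : g 0 0 * g 1 1 - g 0 1 * g 1 0 = 1 := by
    have := k.1.2
    rwa [Matrix.det_fin_two] at this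
  have hlam : g 0 0 * g 0 0 = 1 := by
    rw [g10, ← g11] at hdet; linear_combination hdet
  have hgs : g = (g 0 0) • 1 := by
    ext i j
    fin_cases i <;> fin_cases j <;> simp [← g11, g10]
    exact g00.symm ▸ rfl
  have hlam3 : g 0 0 ^ 3 = g 0 0 := by rw [pow_succ, pow_two, hlam, one_mul]
  have hee : e = 1 := by
    have := congrFun (congrFun h1 0) 0
    have htw : tw k.1 0 0 = g 0 0 := by simp [tw, frobenius_def, hlam3, ← hg]
    have hz : g 0 1 = 0 := by
      have := congrFun (congrFun hgs 0) 1; simpa using this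
    simp [Matrix.mul_apply, Fin.sum_univ_two, htw, hz, hlam] at this
    exact this
  refine ⟨?_, ?_⟩
  · rcases Int.units_eq_one_or k.2 with h | h
    · exact h
    · exfalso
      rw [he, h, sgn_neg_one] at hee
      exact hsq ⟨1, by rw [hee, one_mul]⟩
  · rcases mul_self_eq_one_iff.1 hlam with h | h
    · left; rw [hgs, h, one_smul]
    · right; rw [hgs, h, neg_smul, one_smul]

omit [Fintype F] [CharP F 3] in
theorem sq_eq (g : Matrix (Fin 2) (Fin 2) F) (hd : g.det = 1) : g * g = g.trace • g - 1 := by
  rw [Matrix.det_fin_two] at hd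
  ext i j
  fin_cases i <;> fin_cases j <;>
    simp [Matrix.mul_apply, Fin.sum_univ_two, Matrix.trace_fin_two] <;>
    first
      | linear_combination hd
      | linear_combination -hd
      | ring1

omit [Fintype F] in
/-- a fixed matrix forces the trace to be `0` or `± 1` -/
theorem fixed_trace (k : K0 F) (X : Matrix (Fin 2) (Fin 2) F) (hX : X ≠ 0) (h : act k X = X) :
    (k.1 : Matrix (Fin 2) (Fin 2) F).trace = 0 ∨
      (k.1 : Matrix (Fin 2) (Fin 2) F).trace ^ 2 = sgn k.2 := by
  set g : Matrix (Fin 2) (Fin 2) F := (k.1 : Matrix (Fin 2) (Fin 2) F) with hg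
  set t := g.trace with ht
  set e : F := sgn k.2 with he
  set m := tw k.1 with hm
  have e2 : e * e = 1 := by
    rcases Int.units_eq_one_or k.2 with h | h <;> simp [he, h, sgn]
  have hmdet : m.det = 1 := by
    have hd := k.1.2
    rw [Matrix.det_fin_two] at hd
    rw [hm, tw, det_transpose, Matrix.det_fin_two]
    simp only [map_apply]
    rw [← map_mul, ← map_mul, ← map_sub, hd, map_one]
  have hmtr : m.trace = t ^ 3 := by
    rw [hm, tw, trace_transpose, ht, Matrix.trace_fin_two, Matrix.trace_fin_two]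
    simp only [map_apply]
    rw [← map_add, frobenius_def, hg]
  have hgg := sq_eq g k.1.2
  have hmm := sq_eq m hmdet
  rw [hmtr] at hmm
  -- inverse of m
  set n := t ^ 3 • (1 : Matrix (Fin 2) (Fin 2) F) - m with hn
  have hmn : m * n = 1 := by
    rw [hn, Matrix.mul_sub, Matrix.mul_smul, Matrix.mul_one, hmm]; abel
  have hnm : n * m = 1 := by
    rw [hn, Matrix.sub_mul, Matrix.smul_mul, Matrix.one_mul, hmm]; abel
  have hnn : n * n = t ^ 3 • n - 1 := by
    have h2 : n * n * m = (t ^ 3 • n - 1) * m := by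
      rw [Matrix.mul_assoc, hnm, Matrix.mul_one, Matrix.sub_mul, Matrix.smul_mul, hnm,
        Matrix.one_mul, hn]
    calc n * n = n * n * m * n := by rw [Matrix.mul_assoc (n * n), hmn, Matrix.mul_one]
      _ = (t ^ 3 • n - 1) * m * n := by rw [h2]
      _ = _ := by rw [Matrix.mul_assoc, hmn, Matrix.mul_one]
  have hgX : g * X = e • (X * n) := by
    have h1 : e • (g * X * m) = X := h
    conv_rhs => rw [← h1]
    rw [Matrix.smul_mul, smul_smul, e2, one_smul, Matrix.mul_assoc (g * X), hmn, Matrix.mul_one]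
  have hA : g * (g * X) = X * (n * n) := by
    rw [hgX, Matrix.mul_smul, ← Matrix.mul_assoc, hgX, Matrix.smul_mul, smul_smul, e2, one_smul,
      Matrix.mul_assoc]
  have hB : g * (g * X) = (t * e) • (X * n) - X := by
    rw [← Matrix.mul_assoc, hgg, Matrix.sub_mul, Matrix.one_mul, Matrix.smul_mul, hgX, smul_smul]
  have hC : (t ^ 3 - t * e) • (X * n) = 0 := by
    have h4 : X * (n * n) = t ^ 3 • (X * n) - X := by
      rw [hnn, Matrix.mul_sub, Matrix.mul_smul, Matrix.mul_one]
    have h5 : t ^ 3 • (X * n) - X = (t * e) • (X * n) - X := h4.symm.trans (hA.symm.trans hB)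
    rw [sub_smul, sub_eq_zero]
    exact sub_left_inj.1 h5
  rcases smul_eq_zero.1 hC with h5 | h5
  · have h6 : t * (t ^ 2 - e) = 0 := by linear_combination h5
    rcases mul_eq_zero.1 h6 with h7 | h7
    · exact Or.inl h7
    · exact Or.inr (sub_eq_zero.1 h7)
  · exfalso; apply hX
    rw [← Matrix.mul_one X, ← hnm, ← Matrix.mul_assoc, h5, Matrix.zero_mul]

omit [CharP F 3] in
/-- elements of generic trace have order dividing `q - 1` or `q + 1` -/
theorem generic_pow (g : Matrix (Fin 2) (Fin 2) F) (hd : g.det = 1) (h2 : g.trace ^ 2 ≠ 4)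
    (hodd : Odd (Fintype.card F)) :
    (g ^ ((Fintype.card F - 1) / 2) = 1 ∨ g ^ ((Fintype.card F - 1) / 2) = -1) ∨
    (g ^ ((Fintype.card F + 1) / 2) = 1 ∨ g ^ ((Fintype.card F + 1) / 2) = -1) := by
  classical
  set q := Fintype.card F with hq
  obtain ⟨c, hc⟩ := hodd
  have hgg := sq_eq g hd
  set t := g.trace
  by_cases hroot : ∃ l : F, l * l = t * l - 1
  · obtain ⟨l, hl⟩ := hroot
    have hl0 : l ≠ 0 := by rintro rfl; simp at hl
    have hmu : (t - l) * l = 1 := by linear_combination -hl
    have hne : l ≠ t - l := by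
      intro he
      apply h2
      have hts : t = l + l := by linear_combination -he
      have hll : l * l = 1 := by rw [hts] at hl; linear_combination -hl
      rw [hts]; linear_combination 4 * hll
    set u := l - (t - l) with hu
    have hu0 : u ≠ 0 := sub_ne_zero.2 hne
    obtain ⟨E, hE⟩ : ∃ E : Matrix (Fin 2) (Fin 2) F, E = u⁻¹ • (g - (t - l) • 1) := ⟨_, rfl⟩
    have hgE : g * E = l • E := by
      rw [hE, Matrix.mul_smul, Matrix.mul_sub, Matrix.mul_smul, Matrix.mul_one, hgg, smul_comm l]
      congr 1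
      ext i j
      simp only [Matrix.sub_apply, Matrix.smul_apply, Matrix.one_apply, smul_eq_mul]
      split <;> first
        | linear_combination hmu
        | ring1
    have hg1 : g = (t - l) • 1 + u • E := by
      rw [hE, smul_smul, mul_inv_cancel₀ hu0, one_smul]; abel
    have hpow : ∀ j : ℕ, g ^ j = (t - l) ^ j • 1 + (l ^ j - (t - l) ^ j) • E := by
      intro j
      induction j with
      | zero => simp
      | succ j ih =>
        rw [pow_succ', ih, Matrix.mul_add, Matrix.mul_smul, Matrix.mul_smul, Matrix.mul_one, hgE]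
        conv_lhs => arg 1; arg 2; rw [hg1]
        rw [smul_add, smul_smul, smul_smul, smul_smul, add_assoc, ← add_smul, hu]
        congr 2 <;> ring
    have hj : (q - 1) / 2 = c := by omega
    have hl1 : (l ^ c) ^ 2 = 1 := by
      rw [← pow_mul, show c * 2 = q - 1 by omega]
      exact FiniteField.pow_card_sub_one_eq_one l hl0
    have hlm : (t - l) ^ c = l ^ c := by
      have h7 : (t - l) ^ c * l ^ c = 1 := by rw [← mul_pow, hmu, one_pow]
      calc (t - l) ^ c = (t - l) ^ c * (l ^ c) ^ 2 := by rw [hl1, mul_one]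
        _ = ((t - l) ^ c * l ^ c) * l ^ c := by ring
        _ = l ^ c := by rw [h7, one_mul]
    left
    rw [hj, hpow, hlm, sub_self, zero_smul, add_zero]
    rcases mul_self_eq_one_iff.1 (show l ^ c * l ^ c = 1 by rw [← pow_two]; exact hl1) with h | h
    · left; rw [h, one_smul]
    · right; rw [h, neg_smul, one_smul]
  · -- irreducible case
    let P : Polynomial F := Polynomial.X ^ 2 - Polynomial.C t * Polynomial.X + 1
    have hPdeg : P.natDegree = 2 := by
      show (Polynomial.X ^ 2 - Polynomial.C t * Polynomial.X + 1 : Polynomial F).natDegree = 2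
      compute_degree!
    haveI hirr : Fact (Irreducible P) := ⟨by
      refine Polynomial.irreducible_of_degree_le_three_of_not_isRoot ?_ ?_
      · rw [hPdeg]; simp
      · intro l hl
        apply hroot
        refine ⟨l, ?_⟩
        simp [P] at hl
        linear_combination hl⟩
    let y : AdjoinRoot P := AdjoinRoot.root P
    let tc : AdjoinRoot P := algebraMap F _ t
    have hy : y * y = tc * y - 1 := by
      have h : AdjoinRoot.mk P (Polynomial.X ^ 2 - Polynomial.C t * Polynomial.X + 1) = 0 :=
        AdjoinRoot.mk_self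
      rw [map_add, map_sub, map_mul, map_pow, AdjoinRoot.mk_X, AdjoinRoot.mk_C, map_one] at h
      have h' : y ^ 2 - tc * y + 1 = 0 := h
      linear_combination h'
    have hP0 : Polynomial.aeval g P = 0 := by
      simp only [P, map_add, map_sub, map_mul, map_pow, Polynomial.aeval_X, Polynomial.aeval_C,
        map_one, ← Algebra.smul_def]
      rw [pow_two, hgg]; abel
    have htrans : ∀ j : ℕ, y ^ j = 1 ∨ y ^ j = -1 → g ^ j = 1 ∨ g ^ j = -1 := by
      intro j hj
      rcases hj with h | h
      · left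
        have h' : P ∣ Polynomial.X ^ j - 1 := by
          rw [← AdjoinRoot.mk_eq_zero, map_sub, map_pow, AdjoinRoot.mk_X, map_one]
          exact sub_eq_zero.2 h
        obtain ⟨Q, hQ⟩ := h'
        have := congrArg (Polynomial.aeval g) hQ
        rw [map_sub, map_pow, Polynomial.aeval_X, map_one, map_mul, hP0, zero_mul] at this
        exact sub_eq_zero.1 this
      · right
        have h' : P ∣ Polynomial.X ^ j + 1 := by
          rw [← AdjoinRoot.mk_eq_zero, map_add, map_pow, AdjoinRoot.mk_X, map_one]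
          exact add_eq_zero_iff_eq_neg.2 h
        obtain ⟨Q, hQ⟩ := h'
        have := congrArg (Polynomial.aeval g) hQ
        rw [map_add, map_pow, Polynomial.aeval_X, map_one, map_mul, hP0, zero_mul] at this
        exact add_eq_zero_iff_eq_neg.1 this
    -- Frobenius
    obtain ⟨p, hp⟩ := CharP.exists F
    haveI : Fact p.Prime := ⟨CharP.char_is_prime F p⟩
    haveI : CharP (AdjoinRoot P) p := charP_of_injective_algebraMap (algebraMap F _).injective p
    obtain ⟨n, -, hqn⟩ := FiniteField.card F p
    set z := y ^ q with hz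
    have htq : tc ^ q = tc := by
      show (algebraMap F (AdjoinRoot P) t) ^ q = _
      rw [← map_pow, hq, FiniteField.pow_card]
    have hzz : z * z = tc * z - 1 := by
      have h := congrArg (iterateFrobenius (AdjoinRoot P) p n) hy
      rw [map_mul, map_sub, map_mul, map_one, iterateFrobenius_def, iterateFrobenius_def,
        ← hqn, ← hq] at h
      rw [hz, h, htq]
    have hy0 : y ≠ 0 := by intro h0; rw [h0] at hy; simp at hy
    have hfac : (z - y) * (z + y - tc) = 0 := by linear_combination hzz - hy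
    rcases mul_eq_zero.1 hfac with h | h
    · -- `y ^ (q - 1) = 1`
      have h1 : (y ^ c) ^ 2 = 1 := by
        rw [← pow_mul]
        apply mul_right_cancel₀ hy0
        rw [← pow_succ, one_mul, show c * 2 + 1 = q by omega]
        exact sub_eq_zero.1 h
      left
      rw [show (q - 1) / 2 = c by omega]
      exact htrans c (mul_self_eq_one_iff.1 (by rw [← pow_two]; exact h1))
    · have h1 : (y ^ (c + 1)) ^ 2 = 1 := by
        rw [← pow_mul, show (c + 1) * 2 = q + 1 by omega, pow_succ, ← hz]
        linear_combination y * h - hy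
      right
      rw [show (q + 1) / 2 = c + 1 by omega]
      exact htrans (c + 1) (mul_self_eq_one_iff.1 (by rw [← pow_two]; exact h1))

/-- fixed point free elements of a semidirect product are conjugate into the complement -/
theorem orderOf_eq_of_fixfree {N G : Type*} [CommGroup N] [Finite N] [Group G]
    (φ : G →* MulAut N) (x : N ⋊[φ] G) (h : ∀ v, φ x.right v = v → v = 1) :
    orderOf x = orderOf x.right := by
  let f : N → N := fun u => u * (φ x.right u)⁻¹
  have hinj : Function.Injective f := by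
    intro a b hab
    have : φ x.right (a * b⁻¹) = a * b⁻¹ := by
      have hab' : a / φ x.right a = b / φ x.right b := by
        simpa [f, div_eq_mul_inv] using hab
      rw [div_eq_div_iff_mul_eq_mul] at hab'
      rw [← div_eq_mul_inv, map_div, div_eq_div_iff_mul_eq_mul, hab', mul_comm]
    exact mul_inv_eq_one.1 (h _ this)
  obtain ⟨u, hu⟩ := Finite.surjective_of_injective hinj x.left
  have hx : x = MulAut.conj (SemidirectProduct.inl u) (SemidirectProduct.inr x.right) := by
    rw [MulAut.conj_apply]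
    ext <;> simp [← hu, f]
  conv_lhs => rw [hx]
  rw [MulEquiv.orderOf_eq]
  exact orderOf_injective SemidirectProduct.inr SemidirectProduct.inr_injective _

omit [Fintype F] in
theorem pow_trichotomy (k : K0 F) (j : ℕ) (hj : Even j)
    (h : (k.1 : Matrix (Fin 2) (Fin 2) F) ^ j = 1 ∨ (k.1 : Matrix (Fin 2) (Fin 2) F) ^ j = -1) :
    (rho F k) ^ j = 1 := by
  rw [← map_pow]
  have he : (k ^ j).2 = 1 := by
    rw [Prod.pow_snd]
    obtain ⟨i, rfl⟩ := hj
    rcases Int.units_eq_one_or k.2 with h | h <;> simp [h, pow_add]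
  rcases h with h | h
  · exact rho_eq_one_of _ 1 (by norm_num)
      (by rw [Prod.pow_fst, Matrix.SpecialLinearGroup.coe_pow, h, one_smul]) he
  · exact rho_eq_one_of _ (-1) (by norm_num)
      (by rw [Prod.pow_fst, Matrix.SpecialLinearGroup.coe_pow, h, neg_smul, one_smul]) he

omit [Fintype F] in
theorem rho_pow_only (k : K0 F) (hsq : ¬ IsSquare (-1 : F)) (j : ℕ) (h : (rho F k) ^ j = 1) :
    k.2 ^ j = 1 ∧ ((k.1 : Matrix (Fin 2) (Fin 2) F) ^ j = 1 ∨
      (k.1 : Matrix (Fin 2) (Fin 2) F) ^ j = -1) := by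
  rw [← map_pow] at h
  have := rho_eq_one_only _ hsq h
  rwa [Prod.pow_snd, Prod.pow_fst, Matrix.SpecialLinearGroup.coe_pow] at this

omit [Fintype F] in
theorem pow3_eq_one (v : Multiplicative (Matrix (Fin 2) (Fin 2) F)) : v ^ 3 = 1 := by
  apply Multiplicative.toAdd.injective
  rw [toAdd_pow, toAdd_one]
  ext i j
  have h3 : (3 : F) = 0 := by exact_mod_cast CharP.cast_eq_zero F 3
  simp [h3]

omit [Fintype F] in
theorem pow_mul_three {G : Type*} [Group G] (φ : G →* MulAut (Multiplicative (Matrix (Fin 2) (Fin 2) F)))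
    (x : Multiplicative (Matrix (Fin 2) (Fin 2) F) ⋊[φ] G) (m : ℕ) (h : x.right ^ m = 1) :
    x ^ (m * 3) = 1 := by
  have hr : (x ^ m).right = 1 := by
    show SemidirectProduct.rightHom (x ^ m) = 1
    rw [map_pow]; exact h
  have hi : x ^ m = SemidirectProduct.inl (x ^ m).left := by
    ext
    · simp
    · simp [hr]
  rw [pow_mul, hi, ← map_pow, pow3_eq_one, map_one]

end Gen


set_option maxHeartbeats 2000000 in
/-- Let q = 3^α with α ≥ 3 odd. There is a finite group H having a non-trivial normal 3-subgroup and whose element orders maximal under divisibility are exactly 6, 9, q − 1 and (q + 1)/2. -/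
theorem result (α : ℕ) (hα : 3 ≤ α) (hodd : Odd α) :
    ∃ (H : Type) (_ : Group H) (_ : Fintype H), (∃ P : Subgroup H, P.Normal ∧ P ≠ ⊥ ∧ IsPGroup 3 ↥P) ∧
      {n : ℕ | n ∈ Set.range (orderOf : H → ℕ) ∧ ∀ m ∈ Set.range (orderOf : H → ℕ), n ∣ m → m = n} = ({6, 9, 3 ^ α - 1, (3 ^ α + 1) / 2} : Set ℕ) := by
  classical
  obtain ⟨β, hβ⟩ := hodd
  let F := GaloisField 3 α
  have hcardN : Nat.card F = 3 ^ α := GaloisField.card 3 α (by omega)
  letI : Fintype F := Fintype.ofFinite F
  set q := 3 ^ α with hq
  have hcard : Fintype.card F = q := by rw [← Nat.card_eq_fintype_card, hcardN]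
  have hq4 : q % 4 = 3 := by
    rw [hq, hβ, pow_succ, pow_mul, Nat.mul_mod, Nat.pow_mod]; norm_num
  have hq27 : 27 ≤ q := le_trans (by norm_num) (Nat.pow_le_pow_right (by norm_num : 0 < 3) hα)
  have hq3 : 3 ∣ q := dvd_pow_self 3 (by omega)
  have hqodd : Odd (Fintype.card F) := by rw [hcard, Nat.odd_iff]; omega
  have hsq : ¬ IsSquare (-1 : F) := by
    rw [FiniteField.isSquare_neg_one_iff, hcard]; omega
  have h3 : (3 : F) = 0 := by exact_mod_cast CharP.cast_eq_zero F 3
  let V := Multiplicative (Matrix (Fin 2) (Fin 2) F)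
  haveI : Finite (MulAut V) := Finite.of_injective (fun e : MulAut V => (e : V → V)) DFunLike.coe_injective
  let H := V ⋊[(rho F).range.subtype] (rho F).range
  haveI : Finite H := Finite.of_equiv _ SemidirectProduct.equivProd.symm
  letI : Fintype H := Fintype.ofFinite H
  -- every order divides one of the four numbers
  have hdiv : ∀ x : H, orderOf x ∣ 6 ∨ orderOf x ∣ 9 ∨ orderOf x ∣ q - 1 ∨ orderOf x ∣ (q + 1) / 2 := by
    intro x
    obtain ⟨a, ha⟩ := x.right.2
    have hr : ∀ j : ℕ, (rho F a) ^ j = 1 → x.right ^ j = 1 := fun j hj => by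
      apply Subtype.ext
      rw [SubgroupClass.coe_pow, ← ha]; exact hj
    set g : Matrix (Fin 2) (Fin 2) F := (a.1 : Matrix (Fin 2) (Fin 2) F) with hg
    set t := g.trace with ht
    have hgg := sq_eq g a.1.2
    have hff : (t ≠ 0 ∧ t ^ 2 ≠ sgn a.2) → orderOf x = orderOf x.right := by
      rintro ⟨h0, h1⟩
      apply orderOf_eq_of_fixfree
      intro v hv
      by_contra hne
      have hv' : act a v.toAdd = v.toAdd := by
        have : (x.right : MulAut V) v = v := hv
        rw [← ha] at this
        exact congrArg Multiplicative.toAdd this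
      rcases fixed_trace a v.toAdd (fun h => hne (congrArg Multiplicative.ofAdd h)) hv' with h | h
      exacts [h0 h, h1 h]
    by_cases ht0 : t = 0
    · left
      have h2 : (rho F a) ^ 2 = 1 :=
        pow_trichotomy a 2 (by decide) (Or.inr (by
          rw [pow_two, hgg, ← ht, ht0, zero_smul, zero_sub]))
      exact orderOf_dvd_of_pow_eq_one (pow_mul_three _ x 2 (hr 2 h2) : x ^ (2 * 3) = 1)
    by_cases ht1 : t ^ 2 = 1
    · have hg3 : g ^ 3 = (-t) • 1 := by
        rw [pow_succ, pow_two, hgg, Matrix.sub_mul, Matrix.smul_mul, hgg, Matrix.one_mul, ← ht,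
          smul_sub, smul_smul, ← pow_two, ht1, one_smul, neg_smul]
        abel
      rcases Int.units_eq_one_or a.2 with he | he
      · right; left
        have h3' : (rho F a) ^ 3 = 1 := by
          rw [← map_pow]
          refine rho_eq_one_of _ (-t) (by rw [neg_mul_neg, ← pow_two, ht1])
            (by rw [Prod.pow_fst, Matrix.SpecialLinearGroup.coe_pow, hg3]) ?_
          rw [Prod.pow_snd, he, one_pow]
        exact orderOf_dvd_of_pow_eq_one (pow_mul_three _ x 3 (hr 3 h3') : x ^ (3 * 3) = 1)
      · left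
        have hne : t ^ 2 ≠ sgn a.2 := by
          rw [he, sgn_neg_one, ht1]
          intro h1
          exact hsq ⟨1, by rw [← h1, one_mul]⟩
        rw [hff ⟨ht0, hne⟩]
        refine orderOf_dvd_of_pow_eq_one (hr 6 (pow_trichotomy a 6 (by decide) (Or.inl ?_)))
        rw [show (6 : ℕ) = 3 * 2 from rfl, pow_mul, hg3, pow_two, smul_mul_smul_comm, neg_mul_neg,
          ← pow_two, ht1, one_mul, one_smul]
    · right; right
      have hne : t ^ 2 ≠ sgn a.2 := by
        rcases Int.units_eq_one_or a.2 with he | he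
        · rw [he, sgn_one]; exact ht1
        · rw [he, sgn_neg_one]; intro h1
          exact hsq ⟨t, by rw [← h1, pow_two]⟩
      rw [hff ⟨ht0, hne⟩]
      have h4 : t ^ 2 ≠ 4 := by
        intro h4; apply ht1
        linear_combination h4 + h3
      rcases generic_pow g a.1.2 h4 hqodd with h | h <;> rw [hcard] at h
      · left
        refine orderOf_dvd_of_pow_eq_one (hr _ (pow_trichotomy a _ (by rw [Nat.even_iff]; omega) (Or.inl ?_)))
        rw [show q - 1 = (q - 1) / 2 * 2 by omega, pow_mul]
        rcases h with h | h <;> rw [h] <;> simp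
      · right
        exact orderOf_dvd_of_pow_eq_one (hr _ (pow_trichotomy a _ (by rw [Nat.even_iff]; omega) h))
  -- the four numbers are orders
  let el : K0 F → H := fun a => SemidirectProduct.inr ⟨rho F a, a, rfl⟩
  have hel : ∀ a, orderOf (el a) = orderOf (rho F a) := fun a => by
    rw [orderOf_injective SemidirectProduct.inr SemidirectProduct.inr_injective,
      ← Subgroup.orderOf_coe]
  have hm1 : ∀ j : ℕ, (-1 : ℤˣ) ^ j = 1 → Even j := fun j h => by
    rcases Nat.even_or_odd j with he | ho
    · exact he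
    · rw [ho.neg_one_pow] at h; exact absurd h (by decide)
  let u1 : Matrix.SpecialLinearGroup (Fin 2) F := ⟨!![1, 1; 0, 1], by simp [Matrix.det_fin_two]⟩
  have hu1 : ∀ j : ℕ, (u1 : Matrix (Fin 2) (Fin 2) F) ^ j = !![1, (j : F); 0, 1] := by
    intro j
    induction j with
    | zero => ext i k; fin_cases i <;> fin_cases k <;> simp
    | succ j ih =>
      rw [pow_succ, ih]
      ext i k
      fin_cases i <;> fin_cases k <;> simp [u1, Matrix.mul_apply, Fin.sum_univ_two, add_comm]
  have h6 : ∃ x : H, orderOf x = 6 := by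
    refine ⟨el (u1, -1), ?_⟩
    rw [hel]
    apply Nat.dvd_antisymm
    · refine orderOf_dvd_of_pow_eq_one (pow_trichotomy (u1, -1) 6 (by decide) (Or.inl ?_))
      rw [hu1]
      ext i k
      have : ((6 : ℕ) : F) = 0 := by push_cast; linear_combination 2 * h3
      fin_cases i <;> fin_cases k <;> simp [this] <;> linear_combination 2 * h3
    · obtain ⟨he, hg'⟩ := rho_pow_only (u1, -1) hsq _ (pow_orderOf_eq_one (rho F (u1, -1)))
      rw [hu1] at hg'
      have h2 : 2 ∣ orderOf (rho F (u1, -1)) := (hm1 _ he).two_dvd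
      have h3' : 3 ∣ orderOf (rho F (u1, -1)) := by
        have hz : ((orderOf (rho F (u1, -1)) : ℕ) : F) = 0 := by
          rcases hg' with h | h <;> simpa using congrFun (congrFun h 0) 1
        exact (CharP.cast_eq_zero_iff F 3 _).1 hz
      exact Nat.Coprime.mul_dvd_of_dvd_of_dvd (by norm_num : Nat.Coprime 2 3) h2 h3'
  have h9 : ∃ x : H, orderOf x = 9 := by
    let a : K0 F := (u1, 1)
    let x : H := ⟨Multiplicative.ofAdd !![0, 0; 0, 1], ⟨rho F a, a, rfl⟩⟩
    have ha3 : (rho F a) ^ 3 = 1 := by
      rw [← map_pow]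
      refine rho_eq_one_of _ 1 (one_mul 1) ?_ (one_pow 3)
      rw [Prod.pow_fst, Matrix.SpecialLinearGroup.coe_pow, hu1, one_smul]
      ext i k
      fin_cases i <;> fin_cases k <;> simp [h3]
    have hx9 : x ^ (3 * 3) = 1 := pow_mul_three _ x 3 (Subtype.ext (by
      rw [SubgroupClass.coe_pow]; exact ha3))
    have hx3 : ¬ x ^ 3 = 1 := by
      intro h
      have hact : ∀ M : Matrix (Fin 2) (Fin 2) F, act a M
          = !![M 0 0 + M 1 0 + (M 0 1 + M 1 1), M 0 1 + M 1 1; M 1 0 + M 1 1, M 1 1] := by
        intro M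
        have htw : tw u1 = !![1, 0; 1, 1] := by
          ext i k
          fin_cases i <;> fin_cases k <;> simp [tw, u1, frobenius_def]
        show (sgn (1 : ℤˣ) : F) • ((u1 : Matrix (Fin 2) (Fin 2) F) * M * tw u1) = _
        rw [sgn_one, one_smul, htw, Matrix.eta_fin_two M]
        show !![(1 : F), 1; 0, 1] * _ * _ = _
        rw [Matrix.mul_fin_two, Matrix.mul_fin_two]
        ext i k
        fin_cases i <;> fin_cases k <;> simp
      have h1 : (x ^ 3).left = 1 := by rw [h]; rfl
      have key : (x ^ 3).left = (1 * x.left) * (((1 : (rho F).range) * x.right : (rho F).range) : MulAut V) x.left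
          * (((1 : (rho F).range) * x.right * x.right : (rho F).range) : MulAut V) x.left := rfl
      rw [key, one_mul, one_mul] at h1
      have h2 : !![(0 : F), 0; 0, 1] + act a !![0, 0; 0, 1] + act a (act a !![0, 0; 0, 1]) = 0 :=
        congrArg Multiplicative.toAdd h1
      rw [hact (act a _), hact] at h2
      have h00 := congrFun (congrFun h2 0) 0
      simp at h00
      have : (2 : F) = 0 := by linear_combination h00 - h3
      exact one_ne_zero (show (1 : F) = 0 by linear_combination h3 - this)
    refine ⟨x, ?_⟩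
    have := orderOf_eq_prime_pow (p := 3) (n := 1) (x := x) (by simpa using hx3) (by simpa using hx9)
    simpa using this
  obtain ⟨μ, hμ⟩ := IsCyclic.exists_ofOrder_eq_natCard (α := Fˣ)
  rw [Nat.card_units, hcardN] at hμ
  have hqm : ∃ x : H, orderOf x = q - 1 := by
    let g : Matrix.SpecialLinearGroup (Fin 2) F :=
      ⟨!![(μ : F), 0; 0, ((μ⁻¹ : Fˣ) : F)], by simp [Matrix.det_fin_two]⟩
    have hgp : ∀ j : ℕ, (g : Matrix (Fin 2) (Fin 2) F) ^ j
        = !![((μ ^ j : Fˣ) : F), 0; 0, (((μ⁻¹) ^ j : Fˣ) : F)] := by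
      intro j
      induction j with
      | zero => ext i k; fin_cases i <;> fin_cases k <;> simp
      | succ j ih =>
        rw [pow_succ, ih]
        ext i k
        fin_cases i <;> fin_cases k <;> simp [g, Matrix.mul_apply, Fin.sum_univ_two, pow_succ]
    refine ⟨el (g, -1), ?_⟩
    rw [hel]
    apply Nat.dvd_antisymm
    · refine orderOf_dvd_of_pow_eq_one (pow_trichotomy (g, -1) _ (by rw [Nat.even_iff]; omega) (Or.inl ?_))
      have hμq : μ ^ (q - 1) = 1 := by rw [hq, ← hμ]; exact pow_orderOf_eq_one μ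
      rw [hgp, inv_pow, hμq]
      ext i k
      fin_cases i <;> fin_cases k <;> simp
    · obtain ⟨he, hg'⟩ := rho_pow_only (g, -1) hsq _ (pow_orderOf_eq_one (rho F (g, -1)))
      set j := orderOf (rho F (g, -1))
      obtain ⟨i, hi⟩ := hm1 _ he
      rw [hgp] at hg'
      have h2 : μ ^ (j * 2) = 1 := by
        apply Units.ext
        rw [pow_mul]
        push_cast
        rcases hg' with h | h
        · have := congrFun (congrFun h 0) 0
          simp at this
          rw [this]; norm_num
        · have := congrFun (congrFun h 0) 0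
          simp at this
          rw [this]; norm_num
      have h5 : q - 1 ∣ j * 2 := by rw [hq, ← hμ]; exact orderOf_dvd_of_pow_eq_one h2
      obtain ⟨r, hr⟩ : ∃ r, q = 4 * r + 3 := ⟨q / 4, by omega⟩
      have h6' : 2 * (2 * r + 1) ∣ 2 * (2 * i) := by
        have e : q - 1 = 2 * (2 * r + 1) := by omega
        rw [← e, show 2 * (2 * i) = j * 2 by omega]; exact h5
      have h7 : 2 * r + 1 ∣ 2 * i := Nat.dvd_of_mul_dvd_mul_left two_pos h6'
      have h8 : 2 * r + 1 ∣ i := (Nat.Coprime.dvd_of_dvd_mul_left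
        (Nat.coprime_two_right.2 ⟨r, rfl⟩) h7)
      rw [show q - 1 = 2 * (2 * r + 1) by omega, show j = 2 * i by omega]
      exact Nat.mul_dvd_mul_left 2 h8
  have hqp : ∃ x : H, orderOf x = (q + 1) / 2 := by
    let F' := FiniteField.Extension F 3 2
    have hF' : Nat.card F' = q ^ 2 := by rw [FiniteField.natCard_extension, hcardN]
    letI : Fintype F' := Fintype.ofFinite F'
    obtain ⟨ζ, hζ⟩ := IsCyclic.exists_ofOrder_eq_natCard (α := F'ˣ)
    rw [Nat.card_units, hF'] at hζ
    set y : F'ˣ := ζ ^ (q - 1) with hy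
    have hsq2 : q ^ 2 - 1 = (q + 1) * (q - 1) := by
      simpa using Nat.sq_sub_sq q 1
    have hyord : orderOf y = q + 1 := by
      rw [hy, orderOf_pow, hζ, hsq2, Nat.gcd_eq_right (dvd_mul_left _ _),
        Nat.mul_div_cancel _ (by omega)]
    have hfin : Module.finrank F F' = 2 := by
      have h := Module.natCard_eq_pow_finrank (K := F) (V := F')
      rw [hF', hcardN] at h
      exact (Nat.pow_right_injective (by omega : 2 ≤ q) h).symm
    let b : Module.Basis (Fin 2) F F' := Module.finBasisOfFinrankEq F F' hfin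
    have hdet : (Algebra.leftMulMatrix b (y : F')).det = 1 := by
      rw [← Algebra.norm_eq_matrix_det]
      apply (algebraMap F F').injective
      rw [FiniteField.algebraMap_norm_eq_pow, hF', hcardN, map_one, hsq2,
        Nat.mul_div_cancel _ (by omega), ← hyord, ← Units.val_pow_eq_pow_val, pow_orderOf_eq_one,
        Units.val_one]
    let g : Matrix.SpecialLinearGroup (Fin 2) F := ⟨_, hdet⟩
    refine ⟨el (g, 1), ?_⟩
    rw [hel]
    apply Nat.dvd_antisymm
    · refine orderOf_dvd_of_pow_eq_one (pow_trichotomy (g, 1) _ (by rw [Nat.even_iff]; omega) ?_)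
      show (Algebra.leftMulMatrix b (y : F')) ^ _ = 1 ∨ (Algebra.leftMulMatrix b (y : F')) ^ _ = -1
      rw [← map_pow]
      have h2 : ((y : F') ^ ((q + 1) / 2)) * (y : F') ^ ((q + 1) / 2) = 1 := by
        rw [← pow_add, show (q + 1) / 2 + (q + 1) / 2 = q + 1 by omega, ← hyord,
          ← Units.val_pow_eq_pow_val, pow_orderOf_eq_one, Units.val_one]
      rcases mul_self_eq_one_iff.1 h2 with h | h
      · left; rw [h, map_one]
      · right; rw [h, map_neg, map_one]
    · obtain ⟨-, hg'⟩ := rho_pow_only (g, 1) hsq _ (pow_orderOf_eq_one (rho F (g, 1)))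
      set j := orderOf (rho F (g, 1))
      have hg2 : (Algebra.leftMulMatrix b (y : F')) ^ j = 1 ∨ (Algebra.leftMulMatrix b (y : F')) ^ j = -1 := hg'
      rw [← map_pow, ← map_one (Algebra.leftMulMatrix b), ← map_neg] at hg2
      have h2 : y ^ (j * 2) = 1 := by
        apply Units.ext
        rw [pow_mul]
        push_cast
        rcases hg2 with h | h <;> rw [Algebra.leftMulMatrix_injective b h] <;> norm_num
      have h5 : q + 1 ∣ j * 2 := hyord ▸ orderOf_dvd_of_pow_eq_one h2
      rw [show q + 1 = (q + 1) / 2 * 2 by omega] at h5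
      exact Nat.dvd_of_mul_dvd_mul_right two_pos h5
  -- conclusion
  refine ⟨H, inferInstance, inferInstance,
    ⟨(SemidirectProduct.inl : V →* H).range, ?_, ?_, ?_⟩, ?_⟩
  · rw [SemidirectProduct.range_inl_eq_ker_rightHom]; infer_instance
  · intro hb
    have h1 : (SemidirectProduct.inl (Multiplicative.ofAdd (1 : Matrix (Fin 2) (Fin 2) F)) : H) = 1 := by
      rw [← Subgroup.mem_bot, ← hb]; exact ⟨_, rfl⟩
    have h2 := congrArg (fun z : H => Multiplicative.toAdd z.left) h1
    simp at h2
  · rintro ⟨_, v, rfl⟩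
    exact ⟨1, Subtype.ext (by rw [SubgroupClass.coe_pow, pow_one, ← map_pow, pow3_eq_one, map_one]; rfl)⟩
  have hnd : ∀ a b : ℕ, 0 < b → b < a → ¬ a ∣ b := fun a b h1 h2 => Nat.not_dvd_of_pos_of_lt h1 h2
  have e3 : ∀ n, (n = q - 1 ∨ n = (q + 1) / 2) → ¬ 3 ∣ n := by
    rintro n (rfl | rfl)
    · omega
    · intro h; omega
  have e6 : ∀ n, (n = q - 1 ∨ n = (q + 1) / 2) → ¬ n ∣ 6 ∧ ¬ n ∣ 9 := by
    rintro n (rfl | rfl) <;> exact ⟨hnd _ _ (by norm_num) (by omega), hnd _ _ (by norm_num) (by omega)⟩
  have epm : ¬ q - 1 ∣ (q + 1) / 2 := hnd _ _ (by omega) (by omega)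
  have emp : ¬ (q + 1) / 2 ∣ q - 1 := by
    intro h
    have h' : (q + 1) / 2 ∣ q + 1 := ⟨2, by omega⟩
    have := Nat.dvd_sub h' h
    rw [show q + 1 - (q - 1) = 2 by omega] at this
    exact hnd _ _ (by norm_num) (by omega) this
  ext n
  simp only [Set.mem_setOf_eq, Set.mem_insert_iff, Set.mem_singleton_iff]
  constructor
  · rintro ⟨⟨x, rfl⟩, hmax⟩
    rcases hdiv x with h | h | h | h
    · exact Or.inl (hmax 6 h6 h).symm
    · exact Or.inr (Or.inl (hmax 9 h9 h).symm)
    · exact Or.inr (Or.inr (Or.inl (hmax _ hqm h).symm))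
    · exact Or.inr (Or.inr (Or.inr (hmax _ hqp h).symm))
  · intro hn
    have hmem : n ∈ Set.range (orderOf : H → ℕ) := by
      rcases hn with rfl | rfl | rfl | rfl
      exacts [h6, h9, hqm, hqp]
    refine ⟨hmem, ?_⟩
    rintro m ⟨x, rfl⟩ hnx
    apply Nat.dvd_antisymm ?_ hnx
    rcases hn with rfl | rfl | rfl | rfl
    · rcases hdiv x with h | h | h | h
      · exact h
      · exact absurd (hnx.trans h) (by norm_num)
      · exact absurd ((show 3 ∣ 6 by norm_num).trans (hnx.trans h)) (e3 _ (Or.inl rfl))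
      · exact absurd ((show 3 ∣ 6 by norm_num).trans (hnx.trans h)) (e3 _ (Or.inr rfl))
    · rcases hdiv x with h | h | h | h
      · exact absurd (hnx.trans h) (by norm_num)
      · exact h
      · exact absurd ((show 3 ∣ 9 by norm_num).trans (hnx.trans h)) (e3 _ (Or.inl rfl))
      · exact absurd ((show 3 ∣ 9 by norm_num).trans (hnx.trans h)) (e3 _ (Or.inr rfl))
    · rcases hdiv x with h | h | h | h
      · exact absurd (hnx.trans h) (e6 _ (Or.inl rfl)).1
      · exact absurd (hnx.trans h) (e6 _ (Or.inl rfl)).2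
      · exact h
      · exact absurd (hnx.trans h) epm
    · rcases hdiv x with h | h | h | h
      · exact absurd (hnx.trans h) (e6 _ (Or.inr rfl)).1
      · exact absurd (hnx.trans h) (e6 _ (Or.inr rfl)).2
      · exact absurd (hnx.trans h) emp
      · exact h

end Cfsg.Agent.S2515
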