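import Cfsg.Statements.S2516
-- import your own Cfsg.Agent.* helpers here

set_option autoImplicit false
open Cfsg

namespace Cfsg.Agent.S2516

/-- Let F be a field of characteristic p > 0, V a non-zero finite-dimensional F-vector space, G a finite group and ρ a representation of G on V; form the semidirect product V ⋊ G. For g ∈ G of order k, the coset Vg contains an element of order pk if and only if the minimal polynomial of ρ(g) does not divide 1 + X + ⋯ + X^(k−1). -/
theorem result {F : Type*} [Field F] (p : ℕ) [Fact p.Prime] [CharP F p] {V : Type*} [AddCommGroup V] [Module F V] [FiniteDimensional F V] [Nontrivial V]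
    {G : Type*} [Group G] [Finite G] (ρ : Representation F G V) (g : G) :
    (∃ x : Multiplicative V ⋊[(MulAutMultiplicative V).symm.toMonoidHom.comp
        ((DistribMulAction.toAddAut ((V →ₗ[F] V)ˣ) V).comp ρ.asGroupHom)] G,
        x.right = g ∧ orderOf x = p * orderOf g) ↔
      ¬ (minpoly F (ρ g) ∣ ∑ i ∈ Finset.range (orderOf g), (Polynomial.X : Polynomial F) ^ i) := by
  classical
  set φ := (MulAutMultiplicative V).symm.toMonoidHom.comp
        ((DistribMulAction.toAddAut ((V →ₗ[F] V)ˣ) V).comp ρ.asGroupHom) with hφ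
  have hφa : ∀ (a : G) (v : Multiplicative V), (φ a v).toAdd = ρ a v.toAdd := fun a v => rfl
  have hpow : ∀ (x : Multiplicative V ⋊[φ] G), x.right = g → ∀ j : ℕ,
      (x ^ j).left.toAdd = (∑ i ∈ Finset.range j, (ρ g) ^ i) x.left.toAdd ∧ (x ^ j).right = g ^ j := by
    intro x hx j
    induction j with
    | zero => simp
    | succ j ih =>
      obtain ⟨ih1, ih2⟩ := ih
      refine ⟨?_, ?_⟩
      · rw [pow_succ, SemidirectProduct.mul_left, toAdd_mul, ih1, hφa, ih2, Finset.sum_range_succ, map_pow]
        simp
      · rw [pow_succ, SemidirectProduct.mul_right, ih2, hx, pow_succ]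
  have haeval : (Polynomial.aeval (ρ g)) (∑ i ∈ Finset.range (orderOf g), (Polynomial.X : Polynomial F) ^ i)
      = ∑ i ∈ Finset.range (orderOf g), (ρ g) ^ i := by simp
  have hp : p.Prime := Fact.out
  have hk0 : 0 < orderOf g := orderOf_pos g
  have hV : ∀ w : V, p • w = 0 := by
    intro w
    rw [← Nat.cast_smul_eq_nsmul F, CharP.cast_eq_zero, zero_smul]
  rw [minpoly.dvd_iff, haeval]
  constructor
  · rintro ⟨x, hx, ho⟩ hzero
    have h1 : x ^ orderOf g = 1 := by
      refine SemidirectProduct.ext (Multiplicative.toAdd.injective ?_) ?_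
      · rw [(hpow x hx _).1, hzero]; simp
      · rw [(hpow x hx _).2, pow_orderOf_eq_one]; rfl
    have h2 := Nat.le_of_dvd hk0 (orderOf_dvd_of_pow_eq_one h1)
    rw [ho] at h2
    have : 2 * orderOf g ≤ p * orderOf g := Nat.mul_le_mul_right _ hp.two_le
    omega
  · intro hne
    obtain ⟨v, hv⟩ : ∃ v, (∑ i ∈ Finset.range (orderOf g), (ρ g) ^ i) v ≠ 0 := by
      by_contra hcon
      push Not at hcon
      exact hne (LinearMap.ext hcon)
    let x : Multiplicative V ⋊[φ] G := ⟨Multiplicative.ofAdd v, g⟩
    refine ⟨x, rfl, ?_⟩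
    obtain ⟨hl, hr⟩ := hpow x rfl (orderOf g)
    rw [pow_orderOf_eq_one] at hr
    have h0 : x ^ orderOf g = SemidirectProduct.inl (x ^ orderOf g).left := by
      refine SemidirectProduct.ext (by simp) ?_
      rw [hr]; simp
    have hne1 : x ^ orderOf g ≠ 1 := fun h => hv (by
      rw [h] at hl
      exact hl.symm)
    have hp1 : (x ^ orderOf g) ^ p = 1 := by
      rw [h0, ← map_pow]
      have : (x ^ orderOf g).left ^ p = 1 := Multiplicative.toAdd.injective (by rw [toAdd_pow, toAdd_one]; exact hV _)
      rw [this, map_one]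
    have hop := orderOf_eq_prime hp1 hne1
    have hdvd : orderOf g ∣ orderOf x := orderOf_map_dvd SemidirectProduct.rightHom x
    rw [orderOf_pow' x hk0.ne', Nat.gcd_eq_right hdvd] at hop
    rw [← hop, Nat.div_mul_cancel hdvd]

end Cfsg.Agent.S2516
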