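import Cfsg.Statements.S2517
import Cfsg.Agent.H33.Iso9.Bridge

set_option autoImplicit false
open Cfsg

namespace Cfsg.Agent.S2517

/-- Let F be a finite field of odd order q, let Ω₉ be the simple orthogonal group PΩ(9, F), and let Ω₈⁻ be the commutator subgroup of the isometry group of a minus-type non-singular quadratic form on V = F⁸ (the simple group PΩ⁻(8, F), acting on its natural module V). Then Ω₉ and the semidirect product V ⋊ Ω₈⁻ have exactly the same set of element orders. -/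
theorem result {F : Type*} [Field F] [Fintype F] (hF : Odd (Fintype.card F)) (a b : F)
    (hab : ∀ z₁ z₂ : F, z₁ ^ 2 + a * z₁ * z₂ + b * z₂ ^ 2 = 0 → z₁ = 0 ∧ z₂ = 0) :
    Set.range (orderOf : Cfsg.POmega F (Cfsg.quadFormOdd 4 F) → ℕ) =
      Set.range (orderOf :
        (Multiplicative (((Fin 3 ⊕ Fin 3) ⊕ Fin 2) → F)) ⋊[
          (MulAutMultiplicative (((Fin 3 ⊕ Fin 3) ⊕ Fin 2) → F)).symm.toMonoidHom.comp
           ((DistribMulAction.toAddAut (LinearMap.GeneralLinearGroup F (((Fin 3 ⊕ Fin 3) ⊕ Fin 2) → F))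
              (((Fin 3 ⊕ Fin 3) ⊕ Fin 2) → F)).comp
            (Matrix.GeneralLinearGroup.toLin.toMonoidHom.comp
              ((Cfsg.isometryGroup F (Cfsg.quadFormMinus 3 F a b)).subtype.comp
                (Cfsg.Omega F (Cfsg.quadFormMinus 3 F a b)).subtype)))]
          ↥(Cfsg.Omega F (Cfsg.quadFormMinus 3 F a b)) → ℕ) := by
  classical
  obtain ⟨p, hp⟩ := CharP.exists F
  have hpp : Fact p.Prime := ⟨CharP.char_is_prime F p⟩
  have h2 := H43.two_ne_zero_of_odd_card hF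
  have hQ9 := H43.qOdd_nondeg (F := F) h2 4
  have hQ8 := H43.qMinus_nondeg (F := F) 3 hab
  rw [← H43.coe_qOdd 4 F]
  -- the action
  let Q8 := H43.qMinus 3 F a b
  have hc8 : ⇑Q8 = Cfsg.quadFormMinus 3 F a b := H43.coe_qMinus 3 F a b
  revert hab
  rw [← hc8]
  intro hab
  set φ := (MulAutMultiplicative (((Fin 3 ⊕ Fin 3) ⊕ Fin 2) → F)).symm.toMonoidHom.comp
           ((DistribMulAction.toAddAut (LinearMap.GeneralLinearGroup F (((Fin 3 ⊕ Fin 3) ⊕ Fin 2) → F))
              (((Fin 3 ⊕ Fin 3) ⊕ Fin 2) → F)).comp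
            (Matrix.GeneralLinearGroup.toLin.toMonoidHom.comp
              ((Cfsg.isometryGroup F ⇑Q8).subtype.comp (Cfsg.Omega F ⇑Q8).subtype))) with hφdef
  let ψ : ↥(Cfsg.Omega F ⇑Q8) →* Module.End F (((Fin 3 ⊕ Fin 3) ⊕ Fin 2) → F) :=
    (H33.Iso9.endHom Q8).comp (Cfsg.Omega F ⇑Q8).subtype
  have hord := H33.Iso9.orderOf_semidirect (p := p) φ ψ (fun h v => rfl)
    (fun h => isOfFinOrder_of_finite h)
  have hc9 : Fintype.card (Unit ⊕ (Fin 4 ⊕ Fin 4)) = 9 := by simp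
  have hc8' : Fintype.card ((Fin 3 ⊕ Fin 3) ⊕ Fin 2) = 8 := by simp
  -- the center of `Ω₉` is trivial
  have hz : Subgroup.center (Cfsg.Omega F ⇑(H43.qOdd 4 F)) = ⊥ := by
    rw [eq_bot_iff]
    intro g hg
    rcases (H43.omega_center_iff hQ9 (by rw [hc9]; norm_num) g).1 hg with h | h
    · exact Subgroup.mem_bot.2 (Subtype.ext (Subtype.ext (Units.ext h)))
    · exfalso
      have hm := (H43.mem_commutator_iff_odd hQ9 h2
        (by rw [Module.finrank_fintype_fun_eq_card, hc9]; norm_num) _).1 ((H43.mem_Omega_iff g.1).1 g.2)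
      have e := congrArg Units.val hm.1
      rw [H43.coe_detHom, Units.val_one, H43.toOrth_det, h, Matrix.det_neg, Matrix.det_one, mul_one, hc9] at e
      exact h2 (by norm_num at e ⊢; linear_combination -e)
  have hfin : Finite (Multiplicative (((Fin 3 ⊕ Fin 3) ⊕ Fin 2) → F) ⋊[φ] ↥(Cfsg.Omega F ⇑Q8)) :=
    Finite.of_equiv _ SemidirectProduct.equivProd.symm
  refine H33.Iso9.range_orderOf_eq ?_ ?_
  · intro x
    obtain ⟨g, rfl⟩ := QuotientGroup.mk_surjective x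
    have hTO := (H33.Iso9.inOm_triOf h2 (by rw [hc9]; norm_num) hQ9 _).2 ((H43.mem_Omega_iff g.1).1 g.2)
    obtain ⟨T, v, hd, hchi, hT, hdvd⟩ := H33.Iso9.dirB (p := p) hF
      (T := H33.Iso9.triOf hQ9 (H43.toOrth _ g.1))
      (Module.finrank_fintype_fun_eq_card F |>.trans hc9) hTO
    obtain ⟨h, e, he⟩ := H33.Iso9.exists_matrix (Q := Q8) h2 (by rw [hc8']; norm_num) hQ8 (hd.trans hc8'.symm)
      (hchi.trans (H33.Iso9.chiQ_qMinus_three hF hab).symm) hT
    refine ⟨⟨Multiplicative.ofAdd (e v), h⟩, ?_⟩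
    refine (orderOf_map_dvd (QuotientGroup.mk' _) g).trans ?_
    rw [← H33.Iso9.orderOf_endHom g]
    refine hdvd.trans ?_
    obtain ⟨ho, hk⟩ := H33.Iso9.orderOf_conj e he
    have ho' : orderOf T.g = orderOf h := ho.trans (H33.Iso9.orderOf_endHom h)
    have hS : e ((∑ i ∈ Finset.range (orderOf T.g), T.g ^ i) v) =
        (∑ i ∈ Finset.range (orderOf h), ψ h ^ i) (e v) := by
      rw [LinearMap.sum_apply, map_sum, LinearMap.sum_apply, ho']
      exact Finset.sum_congr rfl fun i _ => hk i v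
    obtain ⟨hz0, hz1⟩ := hord ⟨Multiplicative.ofAdd (e v), h⟩
    rw [H33.Iso9.ordv]
    split_ifs with hv
    · rw [hz0 (show (∑ i ∈ Finset.range (orderOf h), ψ h ^ i) (e v) = 0 by rw [← hS, hv, map_zero])]
      exact dvd_of_eq ho'
    · rw [hz1 (show (∑ i ∈ Finset.range (orderOf h), ψ h ^ i) (e v) ≠ 0 by
        rw [← hS]; exact fun h0 => hv (e.map_eq_zero_iff.1 h0))]
      exact dvd_of_eq (by rw [ho'])
  · intro y
    have hTO := (H33.Iso9.inOm_triOf h2 (by rw [hc8']; norm_num) hQ8 _).2 ((H43.mem_Omega_iff y.right.1).1 y.right.2)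
    obtain ⟨T, hd, hT, hdvd⟩ := H33.Iso9.dirA (p := p) h2
      (T := H33.Iso9.triOf hQ8 (H43.toOrth _ y.right.1))
      (Module.finrank_fintype_fun_eq_card F |>.trans hc8') hTO (Multiplicative.toAdd y.left)
    -- match the discriminant of `qOdd`
    obtain ⟨T', hd', hT', hc', ho'⟩ : ∃ T' : H44.Cls.Tri F (1 : F), Module.finrank F T'.V = 9 ∧
        H33.Iso9.InOm T' ∧ T'.chi = H33.Iso9.chiQ (H43.qOdd 4 F) ∧ orderOf T'.g = orderOf T.g := by
      by_cases hc : T.chi = H33.Iso9.chiQ (H43.qOdd 4 F)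
      · exact ⟨T, hd, hT, hc, rfl⟩
      obtain ⟨ν, hν0, hν⟩ := H44.Cls.exists_nonsquare' (F := F) h2
      refine ⟨T.scale hν0, hd, hT.scale h2 hν0, ?_, rfl⟩
      rw [H44.Cls.Tri.chi_scale, hd, show ν ^ 9 = (ν ^ 4) ^ 2 * ν by ring,
        H44.Cls.qc_sq_mul (pow_ne_zero _ hν0) hν0, hν, neg_one_mul]
      have key : ∀ x z : ℤ, (x = 1 ∨ x = -1) → (z = 1 ∨ z = -1) → x ≠ z → -x = z := by omega
      exact key _ _ (H44.Cls.qc_cases _) (H44.Cls.qc_cases _) hc
    obtain ⟨g, e, he⟩ := H33.Iso9.exists_matrix h2 (by rw [hc9]; norm_num) hQ9 (hd'.trans hc9.symm) hc' hT'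
    refine ⟨QuotientGroup.mk g, ?_⟩
    have hinj : Function.Injective (QuotientGroup.mk' (Subgroup.center (Cfsg.Omega F ⇑(H43.qOdd 4 F)))) := by
      rw [← MonoidHom.ker_eq_bot_iff, QuotientGroup.ker_mk', hz]
    rw [show orderOf (QuotientGroup.mk g : Cfsg.POmega F ⇑(H43.qOdd 4 F)) = orderOf g from
      orderOf_injective _ hinj g, ← H33.Iso9.orderOf_endHom g, ← (H33.Iso9.orderOf_conj e he).1, ho']
    refine dvd_trans (dvd_of_eq ?_) hdvd
    obtain ⟨hz0, hz1⟩ := hord y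
    obtain ⟨ho, hiff⟩ := H33.Iso9.triOf_data hQ8 y.right (Multiplicative.toAdd y.left)
    rw [H33.Iso9.ordv]
    split_ifs with hv
    · rw [ho]
      exact hz0 (hiff.1 hv)
    · rw [ho]
      exact hz1 fun h0 => hv (hiff.2 h0)

end Cfsg.Agent.S2517
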