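import Cfsg.Statements.S2518
import Cfsg.Agent.H56.G2Three
import Cfsg.Agent.H64.SL2Spectrum
import Cfsg.Agent.H37.Card

set_option autoImplicit false
open Cfsg

namespace Cfsg.Agent.S2518

/-- Let F₃ be the field with 3 elements and F₁₃ the field with 13 elements. The Chevalley group G₂(F₃) and PSL(2, F₁₃) have the same prime graph: the same prime divisors of their orders, and for distinct primes r, s an element of order rs in one iff in the other. -/
theorem result {F : Type*} [Field F] [Fintype F] (hF : Fintype.card F = 3) {E : Type*} [Field E] [Fintype E] (hE : Fintype.card E = 13) :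
    ((∀ r : ℕ, r.Prime → (r ∣ Nat.card ↥(Cfsg.Lie.chevG2.group F) ↔ r ∣ Nat.card (Matrix.ProjectiveSpecialLinearGroup (Fin 2) E))) ∧
      (∀ r s : ℕ, r.Prime → s.Prime → r ≠ s → ((∃ x : ↥(Cfsg.Lie.chevG2.group F), orderOf x = r * s) ↔ (∃ y : (Matrix.ProjectiveSpecialLinearGroup (Fin 2) E), orderOf y = r * s)))) := by
  classical
  haveI : Fact (Nat.Prime 3) := ⟨by norm_num⟩
  haveI : Fact (Nat.Prime 7) := ⟨by norm_num⟩
  haveI : Fact (Nat.Prime 13) := ⟨by norm_num⟩
  haveI : CharP F 3 := charP_of_card_eq_prime (by simpa using hF)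
  haveI : CharP E 13 := charP_of_card_eq_prime (by simpa using hE)
  have hG : Nat.card ↥(Cfsg.Lie.chevG2.group F) = 3 ^ 6 * (2 ^ 6 * (7 * 13)) := by
    rw [H55.G2.card_chev, hF]; norm_num
  have hL : Nat.card (Matrix.ProjectiveSpecialLinearGroup (Fin 2) E) = 2 ^ 2 * (3 * (7 * 13)) := by
    have h := H37.card_PSL_fin (F := E) 2 (by norm_num)
    rw [Nat.card_eq_fintype_card (α := E), hE, Fin.prod_univ_two] at h
    norm_num at h ⊢
    omega
  have hdiv : ∀ r : ℕ, r.Prime →
      ((r ∣ Nat.card ↥(Cfsg.Lie.chevG2.group F) ↔ r = 2 ∨ r = 3 ∨ r = 7 ∨ r = 13) ∧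
      (r ∣ Nat.card (Matrix.ProjectiveSpecialLinearGroup (Fin 2) E) ↔ r = 2 ∨ r = 3 ∨ r = 7 ∨ r = 13)) := by
    intro r hr
    have key : ∀ p k : ℕ, p.Prime → k ≠ 0 → (r ∣ p ^ k ↔ r = p) := fun p k hp hk =>
      ⟨fun h => (Nat.prime_dvd_prime_iff_eq hr hp).1 (hr.dvd_of_dvd_pow h), fun h => h ▸ dvd_pow_self _ hk⟩
    rw [hG, hL]
    simp only [Nat.Prime.dvd_mul hr, key 3 6 (by norm_num) (by norm_num), key 2 6 (by norm_num) (by norm_num),
      key 2 2 (by norm_num) (by norm_num), Nat.prime_dvd_prime_iff_eq hr (by norm_num : Nat.Prime 7),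
      Nat.prime_dvd_prime_iff_eq hr (by norm_num : Nat.Prime 13),
      Nat.prime_dvd_prime_iff_eq hr (by norm_num : Nat.Prime 3)]
    tauto
  refine ⟨fun r hr => (hdiv r hr).1.trans (hdiv r hr).2.symm, ?_⟩
  obtain ⟨e⟩ := H56G2.nonempty_equiv_range (F := F) (by omega)
  have e3 : F ≃+* ZMod 3 := (ZMod.ringEquiv F (by simpa using hF)).symm
  obtain ⟨a, b, ha, hb, hab⟩ := H56G2.exists_seven_six (F := F) e3
  have hR : Nat.card ↥(H55.G2.stG2 (F := F)).range = 3 ^ 6 * (2 ^ 6 * (7 * 13)) := by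
    rw [← Nat.card_congr e.toEquiv, hG]
  have hcard : ∀ (p : ℕ) [Fact p.Prime], (p = 7 ∨ p = 13) →
      ∀ P : Sylow p ↥(H55.G2.stG2 (F := F)).range, Nat.card P = p := by
    intro p hp hp' P
    have key : ∀ m : ℕ, m ≠ 0 → ¬ p ∣ m → (p * m).factorization p = 1 := fun m hm hnd => by
      rw [Nat.factorization_mul (Fact.out : p.Prime).ne_zero hm, Finsupp.add_apply,
        (Fact.out : p.Prime).factorization_self, Nat.factorization_eq_zero_of_not_dvd hnd]
    rw [Sylow.card_eq_multiplicity, hR]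
    rcases hp' with rfl | rfl
    · rw [show (3 ^ 6 * (2 ^ 6 * (7 * 13)) : ℕ) = 7 * 606528 by norm_num,
        key 606528 (by norm_num) (by norm_num), pow_one]
    · rw [show (3 ^ 6 * (2 ^ 6 * (7 * 13)) : ℕ) = 13 * 326592 by norm_num,
        key 326592 (by norm_num) (by norm_num), pow_one]
  -- elements of prime order 7 or 13 generate conjugate subgroups
  have hconj : ∀ (p : ℕ) [Fact p.Prime], (p = 7 ∨ p = 13) →
      ∀ c y : ↥(H55.G2.stG2 (F := F)).range, orderOf c = p → orderOf y = p →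
        ∃ g, g * c * g⁻¹ ∈ Subgroup.zpowers y := by
    intro p hp hp' c y hc hy
    obtain ⟨P, hP⟩ := (IsPGroup.of_card (n := 1) (by rw [Nat.card_zpowers, hc, pow_one]) :
      IsPGroup p (Subgroup.zpowers c)).exists_le_sylow
    obtain ⟨Q, hQ⟩ := (IsPGroup.of_card (n := 1) (by rw [Nat.card_zpowers, hy, pow_one]) :
      IsPGroup p (Subgroup.zpowers y)).exists_le_sylow
    have hQe : (Subgroup.zpowers y) = (Q : Subgroup _) :=
      Subgroup.eq_of_le_of_card_ge hQ (by rw [Nat.card_zpowers, hy]; exact le_of_eq (hcard p hp' Q))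
    obtain ⟨g, hg⟩ := MulAction.exists_smul_eq (↥(H55.G2.stG2 (F := F)).range) P Q
    refine ⟨g, ?_⟩
    rw [hQe, ← hg]
    exact Subgroup.smul_mem_pointwise_smul c (MulAut.conj g) _ (hP (Subgroup.mem_zpowers c))
  obtain ⟨N, _, τ, ω, hτ, hN, -, hcen⟩ := H56G2.exists_singer (F := F) 3 hF
  let σ : ↥(H55.G2.stG2 (F := F)).range := ⟨H56G2.sl3Hom (τ ω), H56G2.sl3Hom_mem_range _⟩
  -- no element of order 7r or 13r
  have hbad : ∀ (p r : ℕ) [Fact p.Prime], (p = 7 ∨ p = 13) → r.Prime → r ≠ p →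
      (r = 2 ∨ r = 3 ∨ r = 7 ∨ r = 13) → (p = 7 → r ≠ 13) →
      ∀ x : ↥(Cfsg.Lie.chevG2.group F), orderOf x ≠ p * r := by
    intro p r hp hp' hr hne hrlist h713 x hx
    have hy : orderOf (e x) = p * r := by rw [MulEquiv.orderOf_eq, hx]
    have hpp : p ≠ 0 := (Fact.out : p.Prime).ne_zero
    have h1 : orderOf ((e x) ^ r) = p := by
      rw [orderOf_pow' _ hr.ne_zero, hy, Nat.gcd_eq_right (dvd_mul_left r p), Nat.mul_div_cancel _ hr.pos]
    have h2 : orderOf ((e x) ^ p) = r := by
      rw [orderOf_pow' _ hpp, hy, Nat.gcd_eq_right (dvd_mul_right p r),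
        Nat.mul_div_cancel_left _ (Nat.pos_of_ne_zero hpp)]
    rcases hp' with hp7 | hp13
    · obtain ⟨g, hg⟩ := hconj p (Or.inl hp7) a ((e x) ^ r) (ha.trans hp7.symm) h1
      obtain ⟨k, hk⟩ := Subgroup.mem_zpowers_iff.1 hg
      set u := g⁻¹ * (e x) ^ p * g
      have hu : orderOf u = r := by
        rw [show u = MulAut.conj g⁻¹ ((e x) ^ p) by simp [u], MulEquiv.orderOf_eq, h2]
      have hr23 : r = 2 ∨ r = 3 := by
        rcases hrlist with h | h | h | h
        · exact Or.inl h
        · exact Or.inr h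
        · exact absurd (h.trans hp7.symm) hne
        · exact absurd h (h713 hp7)
      have hc : (e x) ^ p * (g * a * g⁻¹) = g * a * g⁻¹ * (e x) ^ p := by
        rw [← hk]
        exact (((Commute.refl (e x)).pow_pow p r).zpow_right k).eq
      have hu1 : u = 1 := by
        refine hab u ?_ ?_
        · calc g⁻¹ * (e x) ^ p * g * a = g⁻¹ * ((e x) ^ p * (g * a * g⁻¹)) * g := by group
            _ = g⁻¹ * (g * a * g⁻¹ * (e x) ^ p) * g := by rw [hc]
            _ = a * (g⁻¹ * (e x) ^ p * g) := by group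
        · rcases hr23 with h | h
          · exact Or.inl (h ▸ hu ▸ pow_orderOf_eq_one u)
          · exact Or.inr (h ▸ hu ▸ pow_orderOf_eq_one u)
      rw [hu1, orderOf_one] at hu
      exact hr.one_lt.ne hu
    · have hσ : orderOf σ = p := by
        refine orderOf_eq_prime ?_ ?_
        · refine Subtype.ext ?_
          show (H56G2.sl3Hom (τ ω)) ^ p = 1
          rw [← map_pow, ← map_pow, hp13, show (13 : ℕ) = Nat.card N by omega, pow_card_eq_one', map_one, map_one]
        · intro h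
          have h' : H56G2.sl3Hom (τ ω) = 1 := congrArg Subtype.val h
          obtain ⟨y, hy'⟩ := hcen b.1 (by rw [h', mul_one, one_mul])
          have h13 : orderOf b ∣ 13 := by
            rw [orderOf_dvd_iff_pow_eq_one]
            refine Subtype.ext ?_
            show b.1 ^ 13 = 1
            rw [hy', ← map_pow, ← map_pow, show (13 : ℕ) = Nat.card N by omega, pow_card_eq_one', map_one, map_one]
          rw [hb] at h13
          norm_num at h13
      obtain ⟨g, hg⟩ := hconj p (Or.inr hp13) σ ((e x) ^ r) hσ h1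
      obtain ⟨k, hk⟩ := Subgroup.mem_zpowers_iff.1 hg
      set u := g⁻¹ * (e x) ^ p * g
      have hu : orderOf u = r := by
        rw [show u = MulAut.conj g⁻¹ ((e x) ^ p) by simp [u], MulEquiv.orderOf_eq, h2]
      have hc : (e x) ^ p * (g * σ * g⁻¹) = g * σ * g⁻¹ * (e x) ^ p := by
        rw [← hk]
        exact (((Commute.refl (e x)).pow_pow p r).zpow_right k).eq
      have hcu : u * σ = σ * u := by
        calc g⁻¹ * (e x) ^ p * g * σ = g⁻¹ * ((e x) ^ p * (g * σ * g⁻¹)) * g := by group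
          _ = g⁻¹ * (g * σ * g⁻¹ * (e x) ^ p) * g := by rw [hc]
          _ = σ * (g⁻¹ * (e x) ^ p * g) := by group
      obtain ⟨y, hy'⟩ := hcen u.1 (congrArg Subtype.val hcu)
      have hu13 : orderOf u ∣ 13 := by
        rw [orderOf_dvd_iff_pow_eq_one]
        refine Subtype.ext ?_
        show u.1 ^ 13 = 1
        rw [hy', ← map_pow, ← map_pow, show (13 : ℕ) = Nat.card N by omega, pow_card_eq_one', map_one, map_one]
      rw [hu] at hu13
      exact hne (((Nat.prime_dvd_prime_iff_eq hr (by norm_num)).1 hu13).trans hp13.symm)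
  have hspec := H64.psl2_spectrum (F := E) 13
  intro r s hr hs hrs
  constructor
  · rintro ⟨x, hx⟩
    have hdx : r * s ∣ Nat.card ↥(Cfsg.Lie.chevG2.group F) := hx ▸ orderOf_dvd_natCard x
    have hr' := ((hdiv r hr).1).1 ((dvd_mul_right r s).trans hdx)
    have hs' := ((hdiv s hs).1).1 ((dvd_mul_left s r).trans hdx)
    have h6 : r * s = 6 := by
      have h13r : r ≠ 13 := fun h => hbad 13 s (Or.inr rfl) hs (fun e => hrs (h.trans e.symm)) hs'
        (fun e => absurd e (by norm_num)) x (h ▸ hx)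
      have h13s : s ≠ 13 := fun h => hbad 13 r (Or.inr rfl) hr (fun e => hrs (e.trans h.symm)) hr'
        (fun e => absurd e (by norm_num)) x (hx.trans (by rw [h, mul_comm]))
      have h7r : r ≠ 7 := fun h => hbad 7 s (Or.inl rfl) hs (fun e => hrs (h.trans e.symm)) hs'
        (fun _ => h13s) x (h ▸ hx)
      have h7s : s ≠ 7 := fun h => hbad 7 r (Or.inl rfl) hr (fun e => hrs (e.trans h.symm)) hr'
        (fun _ => h13r) x (hx.trans (by rw [h, mul_comm]))
      rcases hr' with h | h | h | h <;> rcases hs' with h' | h' | h' | h' <;>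
        first
          | exact absurd (h.trans h'.symm) hrs
          | exact absurd h h7r
          | exact absurd h h13r
          | exact absurd h' h7s
          | exact absurd h' h13s
          | (rw [h, h'])
    have hmem : (6 : ℕ) ∈ Set.range (orderOf : Matrix.ProjectiveSpecialLinearGroup (Fin 2) E → ℕ) := by
      rw [hspec, hE]; right; left; norm_num
    obtain ⟨y, hy⟩ := hmem
    exact ⟨y, h6 ▸ hy⟩
  · rintro ⟨y, hy⟩
    have hmem : r * s ∈ Set.range (orderOf : Matrix.ProjectiveSpecialLinearGroup (Fin 2) E → ℕ) := ⟨y, hy⟩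
    rw [hspec, hE, Set.mem_setOf_eq] at hmem
    have hnp : ¬ Nat.Prime (r * s) := Nat.not_prime_mul hr.one_lt.ne' hs.one_lt.ne'
    have hne1 : r * s ≠ 1 := fun h => hr.one_lt.ne' (mul_eq_one.1 h).1
    have h6 : r * s = 6 := by
      norm_num at hmem
      rcases hmem with h | h | h
      · exact absurd ((((Nat.dvd_prime (by norm_num)).1 h).resolve_left hne1) ▸ (by norm_num : Nat.Prime 13)) hnp
      · have hle := Nat.le_of_dvd (by norm_num) h
        generalize r * s = m at *
        interval_cases m <;> norm_num at *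
      · exact absurd ((((Nat.dvd_prime (by norm_num)).1 h).resolve_left hne1) ▸ (by norm_num : Nat.Prime 7)) hnp
    exact ⟨e.symm b, by rw [MulEquiv.orderOf_eq, hb, h6]⟩

end Cfsg.Agent.S2518
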