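import Cfsg.Statements.S2519
import Cfsg.Agent.H56.G2Spectrum
-- import your own Cfsg.Agent.* helpers here

set_option autoImplicit false
open Cfsg

namespace Cfsg.Agent.S2519

/-- Let F be a finite field of odd order q = p^a ≥ 5. The element orders of the Chevalley group G₂(F) that are maximal under divisibility are exactly p(q + 1), p(q − 1), q² − 1, q² + q + 1, q² − q + 1, together with p² when p is 3 or 5. -/
theorem result {F : Type*} [Field F] [Fintype F] (p a : ℕ) (hp : p.Prime) (hp2 : p ≠ 2) (ha : 1 ≤ a) (hF : Fintype.card F = p ^ a) (hq5 : 5 ≤ Fintype.card F) :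
    {n : ℕ | n ∈ Set.range (orderOf : ↥(Cfsg.Lie.chevG2.group F) → ℕ) ∧ ∀ m ∈ Set.range (orderOf : ↥(Cfsg.Lie.chevG2.group F) → ℕ), n ∣ m → m = n} =
      ({p * (p ^ a + 1), p * (p ^ a - 1), p ^ (2 * a) - 1, p ^ (2 * a) + p ^ a + 1, p ^ (2 * a) - p ^ a + 1} : Set ℕ) ∪
        (if p = 3 ∨ p = 5 then ({p ^ 2} : Set ℕ) else ∅) := by
  classical
  haveI : Fact p.Prime := ⟨hp⟩
  haveI : CharP F p := charP_of_card_eq_prime_pow hF
  have hq : 3 ≤ Fintype.card F := by omega
  have hodd : Odd p := hp.odd_of_ne_two hp2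
  have h2a : (p ^ a) ^ 2 = p ^ (2 * a) := by rw [← pow_mul, mul_comm]
  have hiff : ∀ n, n ∈ (({p * (p ^ a + 1), p * (p ^ a - 1), p ^ (2 * a) - 1, p ^ (2 * a) + p ^ a + 1,
      p ^ (2 * a) - p ^ a + 1} : Set ℕ) ∪ (if p = 3 ∨ p = 5 then ({p ^ 2} : Set ℕ) else ∅)) ↔
      H56G2.IsBound p (Fintype.card F) n := by
    intro n
    rw [H56G2.IsBound, hF, h2a]
    simp only [Set.mem_union, Set.mem_insert_iff, Set.mem_singleton_iff, List.mem_cons, List.not_mem_nil,
      or_false, hp2, false_and, false_or]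
    by_cases h35 : p = 3 ∨ p = 5
    · rw [if_pos h35, Set.mem_singleton_iff]; tauto
    · rw [if_neg h35]; simp only [Set.mem_empty_iff_false, or_false]; tauto
  ext n
  rw [hiff]
  constructor
  · rintro ⟨hn, hmax⟩
    exact H56G2.maximal_subset hq hn hmax
  · intro hn
    refine ⟨H56G2.chev_realised hq hn, fun m hm hdvd => ?_⟩
    obtain ⟨N, hN, hd⟩ := H56G2.chev_bound (p := p) hq hm
    have := H56G2.bound_antichain hodd ha hF hq5 hn hN (hdvd.trans hd)
    exact Nat.dvd_antisymm (this ▸ hd) hdvd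

end Cfsg.Agent.S2519
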