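import Cfsg.Statements.S2531
import Mathlib

set_option autoImplicit false
set_option linter.style.haveILetI false
set_option linter.unusedVariables false
open Cfsg

namespace Cfsg.Agent.S2531

open Projectivization

theorem rep_mem_iff {F V : Type*} [Field F] [AddCommGroup V] [Module F V] (W : Submodule F V) (v : V) (hv : v ≠ 0) :
    (Projectivization.mk F v hv).rep ∈ W ↔ v ∈ W := by
  obtain ⟨a, ha⟩ := exists_smul_eq_mk_rep F v hv
  rw [← ha, Units.smul_def]
  exact W.smul_mem_iff a.ne_zero

theorem map_rep_mem_iff {F V : Type*} [Field F] [AddCommGroup V] [Module F V] {σ : F →+* F}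
    (f : V →ₛₗ[σ] V) (hf : Function.Injective f) (W : Submodule F V) (x : Projectivization F V) :
    (Projectivization.map f hf x).rep ∈ W ↔ f x.rep ∈ W := by
  induction x using Projectivization.ind with
  | h v hv =>
    have h1 : Projectivization.map f hf (Projectivization.mk F v hv) = Projectivization.mk F (f v) (fun h => hv (hf (by rw [h, map_zero]))) := rfl
    rw [h1, rep_mem_iff]
    obtain ⟨a, ha⟩ := exists_smul_eq_mk_rep F v hv
    rw [← ha, Units.smul_def, map_smulₛₗ]
    exact (W.smul_mem_iff (by simp)).symm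

theorem card_points_modEq {F V : Type*} [Field F] [Finite F] [AddCommGroup V] [Module F V] [Finite V]
    (p : ℕ) [CharP F p] [Fact p.Prime] (W : Submodule F V) (hW : W ≠ ⊥) :
    (Nat.card {x : Projectivization F V // x.rep ∈ W} : ZMod p) = 1 := by
  have e : Nat.card (Projectivization F W) = Nat.card {x : Projectivization F V // x.rep ∈ W} := by
    refine Nat.card_eq_of_bijective (fun x => ⟨Projectivization.map W.subtype W.injective_subtype x, ?_⟩) ⟨?_, ?_⟩
    · induction x using Projectivization.ind with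
      | h v hv => exact (rep_mem_iff W _ _).mpr v.2
    · intro x y h
      exact Projectivization.map_injective _ W.injective_subtype (congrArg Subtype.val h)
    · rintro ⟨x, hx⟩
      induction x using Projectivization.ind with
      | h v hv =>
        have hv' := (rep_mem_iff W _ _).mp hx
        exact ⟨Projectivization.mk F ⟨v, hv'⟩ (fun h => hv (congrArg Subtype.val h)), rfl⟩
  haveI := Fintype.ofFinite F
  haveI := Fintype.ofFinite V
  obtain ⟨w, hw, hw0⟩ := W.ne_bot_iff.mp hW
  haveI : Nontrivial W := ⟨⟨⟨w, hw⟩, 0, fun h => hw0 (congrArg Subtype.val h)⟩⟩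
  obtain ⟨m, -, hm⟩ := FiniteField.card F p
  have hcard := Projectivization.card' F W
  rw [e] at hcard
  set c := Nat.card {x : Projectivization F V // x.rep ∈ W}
  have hq : ((Nat.card F - 1 : ℕ) : ZMod p) = -1 := by
    rw [Nat.cast_sub Nat.card_pos, Nat.card_eq_fintype_card, hm]
    simp
  have hWq : ((Nat.card W : ℕ) : ZMod p) = 0 := by
    rw [Module.natCard_eq_pow_finrank (K := F), Nat.card_eq_fintype_card, hm, Nat.cast_pow, Nat.cast_pow]
    simp [Module.finrank_pos.ne']
  have := congrArg (Nat.cast : ℕ → ZMod p) hcard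
  rw [hWq, Nat.cast_add, Nat.cast_mul, hq, Nat.cast_one] at this
  linear_combination this


/-- Let `F` be a finite field and `n ≥ 3`. No set of permutations of the points of the projective space of `Fⁿ`, each induced by an invertible semilinear transformation of `Fⁿ` (so a subset of the full projective semilinear group), is sharply 2-transitive on the points: it is impossible that for all pairs of distinct points `(a, b)` and `(c, d)` exactly one member of the set sends `a` to `c` and `b` to `d`. -/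
theorem result {F : Type*} [Field F] [Finite F]
    (n : ℕ) (hn : 3 ≤ n) (S : Set (Equiv.Perm (Projectivization F (Fin n → F))))
    (hS : ∀ s ∈ S, ∃ (σ : F ≃+* F) (f : (Fin n → F) →ₛₗ[(σ : F →+* F)] (Fin n → F)) (hf : Function.Injective f),
      ∀ x, s x = Projectivization.map f hf x) :
    ¬ (∀ a b c d : Projectivization F (Fin n → F), a ≠ b → c ≠ d →
        ∃! s, s ∈ S ∧ s a = c ∧ s b = d) := by
  classical
  intro h
  obtain ⟨p, hchar⟩ := CharP.exists F
  haveI : Fact p.Prime := ⟨CharP.char_is_prime F p⟩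
  let Ω := Projectivization F (Fin n → F)
  haveI : Fintype Ω := Fintype.ofFinite _
  let i0 : Fin n := ⟨0, by omega⟩
  let i1 : Fin n := ⟨1, by omega⟩
  let i2 : Fin n := ⟨2, by omega⟩
  let H : Submodule F (Fin n → F) := LinearMap.ker (LinearMap.proj i0)
  let L : Submodule F (Fin n → F) := Submodule.span F {Pi.single i1 1, Pi.single i2 1}
  have h01 : i0 ≠ i1 := by simp [i0, i1]
  have h02 : i0 ≠ i2 := by simp [i0, i2]
  have h12 : i1 ≠ i2 := by simp [i1, i2]
  have hLH : L ≤ H := by
    rw [Submodule.span_le]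
    rintro v (rfl | rfl) <;> simp [H, h01, h02]
  let a : Ω := Projectivization.mk F (Pi.single i0 1) (by simp)
  have haH : ∀ x : Ω, x.rep ∈ H → x ≠ a := by
    rintro x hx rfl
    have := (rep_mem_iff H _ _).mp hx
    simp [H] at this
  let Sa := {s : Equiv.Perm Ω // s ∈ S ∧ s a = a}
  let PL := {x : Ω // x.rep ∈ L}
  let PH := {x : Ω // x.rep ∈ H}
  have hreg : ∀ x : Ω, x ≠ a → ∀ y : Ω, y ≠ a → ∃! s : Sa, (s : Equiv.Perm Ω) x = y := by
    intro x hx y hy
    obtain ⟨s, ⟨hs, hsa, hsx⟩, huniq⟩ := h a x a y hx.symm hy.symm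
    exact ⟨⟨s, hs, hsa⟩, hsx, fun t ht => Subtype.ext (huniq _ ⟨t.2.1, t.2.2, ht⟩)⟩
  have hcount : (Nat.card Sa : ZMod p) = 0 := by
    let x0 : Ω := Projectivization.mk F (Pi.single i1 1) (by simp)
    have hx0 : x0 ≠ a := haH x0 ((rep_mem_iff H _ _).mpr (by simp [H, h01]))
    have hb : Function.Bijective (fun s : Sa => (⟨(s : Equiv.Perm Ω) x0, fun hc => hx0 ((s : Equiv.Perm Ω).injective (hc.trans s.2.2.symm))⟩ : {y : Ω // y ≠ a})) := by
      constructor
      · intro s t hst
        exact (hreg x0 hx0 _ (fun hc => hx0 ((s : Equiv.Perm Ω).injective (hc.trans s.2.2.symm)))).unique rfl (congrArg Subtype.val hst).symm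
      · rintro ⟨y, hy⟩
        obtain ⟨s, hs, -⟩ := hreg x0 hx0 y hy
        exact ⟨s, Subtype.ext hs⟩
    rw [Nat.card_eq_of_bijective _ hb]
    have h1 : (Nat.card Ω : ZMod p) = 1 := by
      haveI : Nonempty (Fin n) := ⟨i0⟩
      have h2 := card_points_modEq p (⊤ : Submodule F (Fin n → F)) top_ne_bot
      have e : Nat.card {x : Ω // x.rep ∈ (⊤ : Submodule F (Fin n → F))} = Nat.card Ω :=
        Nat.card_congr (Equiv.subtypeUnivEquiv fun x => Submodule.mem_top)
      rwa [e] at h2
    rw [Nat.card_eq_fintype_card, Fintype.card_subtype_compl, Fintype.card_subtype_eq,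
      Nat.cast_sub (Fintype.card_pos_iff.mpr ⟨a⟩), ← Nat.card_eq_fintype_card, h1, Nat.cast_one, sub_self]
  -- double counting of pairs `(s, x)` with `s x ∈ H`
  have h1 : ∀ s : Sa, (Nat.card {x : PL // ((s : Equiv.Perm Ω) x).rep ∈ H} : ZMod p) = 1 := by
    intro s
    obtain ⟨σ, f, hf, hsf⟩ := hS s s.2.1
    let W : Submodule F (Fin n → F) := L ⊓ H.comap f
    have hW : W ≠ ⊥ := by
      rw [Submodule.ne_bot_iff]
      set α := f (Pi.single i1 1) i0 with hα
      set β := f (Pi.single i2 1) i0 with hβ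
      by_cases hα0 : α = 0
      · exact ⟨Pi.single i1 1, ⟨Submodule.subset_span (by simp), by simpa [H] using hα0⟩, by simp⟩
      refine ⟨σ.symm β • Pi.single i1 1 - σ.symm α • Pi.single i2 1, ⟨?_, ?_⟩, ?_⟩
      · exact L.sub_mem (L.smul_mem _ (Submodule.subset_span (by simp))) (L.smul_mem _ (Submodule.subset_span (by simp)))
      · simp [H, map_sub, ← hα, ← hβ, mul_comm]
      · intro hc
        have := congrFun hc i2
        simp [h12, h12.symm] at this
        exact hα0 this
    rw [← card_points_modEq p W hW]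
    congr 1
    refine Nat.card_congr ((Equiv.subtypeSubtypeEquivSubtypeInter (fun x : Ω => x.rep ∈ L)
      (fun x : Ω => ((s : Equiv.Perm Ω) x).rep ∈ H)).trans (Equiv.subtypeEquivRight fun x => ?_))
    rw [hsf, map_rep_mem_iff]
    exact Iff.rfl
  have h2 : ∀ x : PL, Nat.card {s : Sa // ((s : Equiv.Perm Ω) x).rep ∈ H} = Nat.card PH := by
    intro x
    have hx : (x : Ω) ≠ a := haH x (hLH x.2)
    refine Nat.card_eq_of_bijective (fun s => ⟨_, s.2⟩) ⟨?_, ?_⟩
    · intro s t hst
      exact Subtype.ext ((hreg x hx _ (haH _ s.2)).unique rfl (congrArg Subtype.val hst).symm)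
    · rintro ⟨y, hy⟩
      obtain ⟨s, hs, -⟩ := hreg x hx y (haH _ hy)
      exact ⟨⟨s, by rw [hs]; exact hy⟩, Subtype.ext hs⟩
  haveI : Fintype Sa := Fintype.ofFinite _
  haveI : Fintype PL := Fintype.ofFinite _
  have e : Nat.card ((s : Sa) × {x : PL // ((s : Equiv.Perm Ω) x).rep ∈ H}) = Nat.card ((x : PL) × {s : Sa // ((s : Equiv.Perm Ω) x).rep ∈ H}) :=
    Nat.card_congr
      { toFun := fun z => ⟨z.2.1, z.1, z.2.2⟩
        invFun := fun z => ⟨z.2.1, z.1, z.2.2⟩
        left_inv := fun _ => rfl
        right_inv := fun _ => rfl }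
  rw [Nat.card_sigma, Nat.card_sigma, Finset.sum_congr rfl (fun x _ => h2 x), Finset.sum_const, Finset.card_univ, smul_eq_mul] at e
  have := congrArg (Nat.cast : ℕ → ZMod p) e
  rw [Nat.cast_sum, Finset.sum_congr rfl (fun s _ => h1 s), Finset.sum_const, Finset.card_univ, nsmul_one,
    ← Nat.card_eq_fintype_card, hcount, Nat.cast_mul, ← Nat.card_eq_fintype_card] at this
  have hLbot : L ≠ ⊥ := (Submodule.ne_bot_iff _).mpr ⟨_, Submodule.subset_span (Set.mem_insert _ _), by simp⟩
  have hHbot : H ≠ ⊥ := fun hb => hLbot (le_bot_iff.mp (hb ▸ hLH))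
  rw [card_points_modEq p L hLbot, card_points_modEq p H hHbot, mul_one] at this
  exact zero_ne_one this

end Cfsg.Agent.S2531
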