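import Cfsg.Statements.S2532
import Mathlib

set_option autoImplicit false
set_option linter.style.haveILetI false
open Cfsg

namespace Cfsg.Agent.S2532

open Equiv Equiv.Perm

/-- A homomorphism from an alternating group into a symmetric group has even image. -/
theorem sign_map_alternating {r : ℕ} {β : Type*} [Fintype β] [DecidableEq β]
    (φ : Perm (Fin r) →* Perm β) (g : Perm (Fin r)) (hg : g ∈ alternatingGroup (Fin r)) :
    sign (φ g) = 1 := by
  rw [← closure_three_cycles_eq_alternating] at hg
  induction hg using Subgroup.closure_induction with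
  | mem x hx =>
    have h3 : x ^ 3 = 1 := by
      rw [← IsThreeCycle.orderOf hx]; exact pow_orderOf_eq_one x
    have h4 : sign (φ x) ^ 3 = 1 := by rw [← map_pow, ← map_pow, h3, map_one, map_one]
    rwa [show (3 : ℕ) = 2 + 1 from rfl, pow_succ, Int.units_sq, one_mul] at h4
  | one => simp
  | mul a b _ _ iha ihb => simp [iha, ihb]
  | inv a _ iha => simp [iha]

theorem exists_points {G α : Type*} [Group G] [MulAction G α] [Finite G] [Finite α]
    (r : ℕ) (h : Nat.card G * Nat.card (Subgroup G) * r < Nat.card α) :
    ∃ x : Fin r → α, (∀ i, MulAction.stabilizer G (x i) = MulAction.stabilizer G (x i)) ∧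
      (∀ i j, MulAction.stabilizer G (x i) = MulAction.stabilizer G (x j)) ∧
      ∀ i j, i ≠ j → ∀ g : G, g • x i ≠ x j := by
  classical
  haveI := Fintype.ofFinite α
  haveI := Fintype.ofFinite G
  haveI := Fintype.ofFinite (Subgroup G)
  obtain ⟨S, -, hS⟩ := Finset.exists_lt_card_fiber_of_mul_lt_card_of_maps_to
    (s := (Finset.univ : Finset α)) (t := (Finset.univ : Finset (Subgroup G)))
    (f := fun a => MulAction.stabilizer G a) (n := Nat.card G * r) (fun _ _ => Finset.mem_univ _)
    (by simp only [Finset.card_univ, ← Nat.card_eq_fintype_card]; calc _ = Nat.card G * Nat.card (Subgroup G) * r := by ring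
                                                                       _ < _ := h)
  set A := Finset.univ.filter fun a : α => MulAction.stabilizer G a = S
  let q : α → MulAction.orbitRel.Quotient G α := Quotient.mk''
  have hfib : A.card ≤ Nat.card G * (A.image q).card := by
    refine Finset.card_le_mul_card_image A _ fun o ho => ?_
    obtain ⟨a, -, rfl⟩ := Finset.mem_image.mp ho
    refine le_trans (Finset.card_le_card (t := Finset.univ.image fun g : G => g • a) fun b hb => ?_) ?_
    · obtain ⟨g, hg⟩ := (Quotient.eq''.mp (Finset.mem_filter.mp hb).2 : MulAction.orbitRel G α b a)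
      exact Finset.mem_image.mpr ⟨g, Finset.mem_univ _, hg⟩
    · exact Finset.card_image_le.trans (by simp [Nat.card_eq_fintype_card])
  have hr : r ≤ (A.image q).card := by
    by_contra hlt
    have : Nat.card G * (A.image q).card ≤ Nat.card G * r := Nat.mul_le_mul_left _ (by omega)
    omega
  obtain ⟨T, hT, hTc⟩ := Finset.exists_subset_card_eq hr
  let e := (T.equivFinOfCardEq hTc).symm
  have hpre : ∀ i, ∃ a ∈ A, q a = (e i : MulAction.orbitRel.Quotient G α) := fun i =>
    Finset.mem_image.mp (hT (e i).2)
  choose x hxA hxq using hpre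
  refine ⟨x, fun i => rfl, fun i j => ?_, fun i j hij g hg => hij (e.injective (Subtype.ext ?_))⟩
  · rw [(Finset.mem_filter.mp (hxA i)).2, (Finset.mem_filter.mp (hxA j)).2]
  · rw [← hxq, ← hxq, ← hg]
    exact (Quotient.sound' ⟨g, rfl⟩ : q (g • x i) = q (x i)).symm

/-- There is a function `f` of two natural-number arguments such that, whenever `m ≥ f(n, r)`, every subgroup of order `n` of the alternating group of degree `m` centralizes some subgroup of that alternating group isomorphic to the alternating group of degree `r`. -/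
theorem result :
    ∃ f : ℕ → ℕ → ℕ, ∀ (m r : ℕ) (H : Subgroup ↥(alternatingGroup (Fin m))), f (Nat.card H) r ≤ m →
      ∃ K : Subgroup ↥(alternatingGroup (Fin m)), Nonempty (↥K ≃* ↥(alternatingGroup (Fin r))) ∧
        K ≤ Subgroup.centralizer (H : Set ↥(alternatingGroup (Fin m))) := by
  classical
  refine ⟨fun n r => n * 2 ^ n * r + 1, fun m r H hm => ?_⟩
  rcases Nat.eq_zero_or_pos r with rfl | hr
  · haveI : Subsingleton (alternatingGroup (Fin 0)) := inferInstance
    exact ⟨⊥, ⟨MulEquiv.ofUnique⟩, bot_le⟩
  let φH : Subgroup (Perm (Fin m)) := H.map (alternatingGroup (Fin m)).subtype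
  have hcard : Nat.card φH = Nat.card H := Subgroup.card_subtype _ _
  have hsub : Nat.card (Subgroup φH) ≤ 2 ^ Nat.card H := by
    haveI := Fintype.ofFinite φH
    rw [← hcard]
    calc Nat.card (Subgroup φH) ≤ Nat.card (Set φH) := Nat.card_le_card_of_injective _ SetLike.coe_injective
      _ = 2 ^ Nat.card φH := by simp [Nat.card_eq_fintype_card]
  have hlt : Nat.card φH * Nat.card (Subgroup φH) * r < Nat.card (Fin m) := by
    rw [Nat.card_fin, hcard]
    have := Nat.mul_le_mul_right r (Nat.mul_le_mul_left (Nat.card H) hsub)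
    simp only at hm
    omega
  obtain ⟨x, -, hst, hdis⟩ := exists_points r hlt
  let i0 : Fin r := ⟨0, hr⟩
  let S := MulAction.stabilizer φH (x i0)
  have hS : ∀ i, MulAction.stabilizer φH (x i) = S := fun i => hst i i0
  let emb : Fin r × (φH ⧸ S) → Fin m := fun z =>
    Quotient.liftOn' z.2 (fun g : φH => g • x z.1) (fun a b hab => by
      have : a⁻¹ * b ∈ MulAction.stabilizer φH (x z.1) := (hS z.1).symm ▸ QuotientGroup.leftRel_apply.mp hab
      rw [MulAction.mem_stabilizer_iff, mul_smul, inv_smul_eq_iff] at this
      exact this.symm)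
  have hemb : Function.Injective emb := by
    rintro ⟨i, a⟩ ⟨j, b⟩ h
    induction a using Quotient.inductionOn' with
    | h a =>
    induction b using Quotient.inductionOn' with
    | h b =>
    change a • x i = b • x j at h
    have hij : i = j := by
      by_contra hij
      exact hdis i j hij (b⁻¹ * a) (by rw [mul_smul, h, inv_smul_smul])
    subst hij
    refine Prod.ext rfl (QuotientGroup.eq.mpr ?_)
    rw [← hS i, MulAction.mem_stabilizer_iff, mul_smul, ← h, inv_smul_smul]
  let ι : Fin r × (φH ⧸ S) ↪ Fin m := ⟨emb, hemb⟩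
  let φ : Perm (Fin r) →* Perm (Fin m) :=
    (viaEmbeddingHom ι).comp
      { toFun := fun σ => Equiv.prodCongr σ (Equiv.refl _)
        map_one' := rfl
        map_mul' := fun _ _ => rfl }
  have hφ : ∀ σ i a, φ σ (emb (i, a)) = emb (σ i, a) := fun σ i a => viaEmbedding_apply _ ι (i, a)
  have hφ' : ∀ σ y, y ∉ Set.range emb → φ σ y = y := fun σ y hy => viaEmbedding_apply_of_notMem _ ι y hy
  have hφinj : Function.Injective φ := by
    intro σ τ h
    ext i
    have h1 := congrArg (fun g : Perm (Fin m) => g (emb (i, (QuotientGroup.mk (1 : φH))))) h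
    simp only [hφ] at h1
    exact congrArg Fin.val (congrArg Prod.fst (hemb h1))
  let φA : alternatingGroup (Fin r) →* alternatingGroup (Fin m) :=
    (φ.comp (alternatingGroup (Fin r)).subtype).codRestrict _ (fun g => sign_map_alternating φ g g.2)
  have hφA : Function.Injective φA := fun a b h => Subtype.ext (hφinj (congrArg Subtype.val h))
  refine ⟨φA.range, ⟨(MonoidHom.ofInjective hφA).symm⟩, ?_⟩
  rintro _ ⟨σ, rfl⟩
  rw [Subgroup.mem_centralizer_iff]
  intro h hh
  apply Subtype.ext
  change (h : Perm (Fin m)) * φ σ = φ σ * h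
  let h' : φH := ⟨h, Subgroup.mem_map_of_mem _ hh⟩
  have hmove : ∀ i a, (h : Perm (Fin m)) (emb (i, a)) = emb (i, h' • a) := by
    intro i a
    induction a using Quotient.inductionOn' with
    | h a => exact (mul_smul h' a (x i)).symm
  ext y : 1
  simp only [Perm.mul_apply]
  by_cases hy : y ∈ Set.range emb
  · obtain ⟨⟨i, a⟩, rfl⟩ := hy
    rw [hφ, hmove, hmove, hφ]
  · rw [hφ' _ y hy, hφ' _ _ ?_]
    rintro ⟨⟨i, a⟩, hia⟩
    refine hy ⟨(i, h'⁻¹ • a), (h : Perm (Fin m)).injective ?_⟩
    rw [hmove, smul_inv_smul, hia]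

end Cfsg.Agent.S2532
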