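import Cfsg.Statements.S2533
-- import your own Cfsg.Agent.* helpers here

set_option autoImplicit false
open Cfsg

namespace Cfsg.Agent.S2533


section Helpers

variable {p : ℕ} [Fact p.Prime] {m : ℕ}

/-- three strictly lower block-triangular maps -/
def X (a : Fin 3 → ZMod p) : Matrix (Fin (2 * m + 1)) (Fin (2 * m + 1)) (ZMod p) :=
  fun i j => if (j : ℕ) < m then
    (if (i : ℕ) = m + j then a 0 else 0) + (if (i : ℕ) = m + j + 1 then a 1 else 0)
      + (if (i : ℕ) = m + 2 ∧ (j : ℕ) = 0 then a 2 else 0) else 0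

lemma X_apply_eq_zero (a : Fin 3 → ZMod p) {i j : Fin (2 * m + 1)}
    (h : m ≤ (j : ℕ) ∨ (i : ℕ) < m) : (X a : Matrix _ _ (ZMod p)) i j = 0 := by
  simp only [X]
  split_ifs <;> first | (exfalso; omega) | simp

lemma X_add (a b : Fin 3 → ZMod p) :
    (X (a + b) : Matrix (Fin (2 * m + 1)) _ (ZMod p)) = X a + X b := by
  ext i j
  simp only [X, Pi.add_apply, Matrix.add_apply]
  split_ifs <;> ring

lemma X_zero : (X (0 : Fin 3 → ZMod p) : Matrix (Fin (2 * m + 1)) _ (ZMod p)) = 0 := by
  ext i j
  simp [X]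

lemma X_smul (c : ZMod p) (a : Fin 3 → ZMod p) :
    (X (c • a) : Matrix (Fin (2 * m + 1)) _ (ZMod p)) = c • X a := by
  ext i j
  simp only [X, Pi.smul_apply, Matrix.smul_apply, smul_eq_mul]
  split_ifs <;> ring

lemma X_mul (a b : Fin 3 → ZMod p) :
    (X a : Matrix (Fin (2 * m + 1)) _ (ZMod p)) * X b = 0 := by
  ext i j
  rw [Matrix.mul_apply, Matrix.zero_apply]
  refine Finset.sum_eq_zero fun l _ => ?_
  rcases Nat.lt_or_ge (l : ℕ) m with h | h
  · rw [X_apply_eq_zero b (Or.inr h), mul_zero]
  · rw [X_apply_eq_zero a (Or.inl h), zero_mul]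

/-- sign on the two blocks -/
def sgnV (u : ℤˣ) : Fin (2 * m + 1) → ZMod p := fun i => if (i : ℕ) < m then 1 else ((u : ℤ) : ZMod p)

def unipSL (a : Fin 3 → ZMod p) : Matrix.SpecialLinearGroup (Fin (2 * m + 1)) (ZMod p) :=
  ⟨1 + X a, by
    rw [Matrix.det_of_isLowerTriangular]
    · refine Finset.prod_eq_one fun i _ => ?_
      rw [Matrix.add_apply, Matrix.one_apply_eq, X_apply_eq_zero a (le_or_gt m (i : ℕ)), add_zero]
    · intro i j hij
      have hij' : (i : ℕ) < (j : ℕ) := hij
      rw [Matrix.add_apply, Matrix.one_apply_ne (Fin.ne_of_lt hij'), zero_add]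
      apply X_apply_eq_zero
      omega⟩

lemma prod_sgnV (hm : Odd m) (u : ℤˣ) : ∏ i : Fin (2 * m + 1), sgnV (p := p) u i = 1 := by
  have h1 : (((u : ℤ) : ZMod p)) ^ 2 = 1 := by
    rw [← Int.cast_pow, ← Units.val_pow_eq_pow_val, Int.units_sq, Units.val_one, Int.cast_one]
  have h2 : ∏ i : Fin (2 * m + 1), sgnV (p := p) u i
      = (((u : ℤ) : ZMod p)) ^ (m + 1) := by
    show ∏ i : Fin (2 * m + 1), (if (i : ℕ) < m then (1 : ZMod p) else _) = _
    rw [Fin.prod_univ_eq_prod_range (fun i => if i < m then (1 : ZMod p) else ((u : ℤ) : ZMod p))]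
    rw [show 2 * m + 1 = m + (m + 1) from by omega, Finset.prod_range_add]
    rw [Finset.prod_eq_one (fun i hi => if_pos (Finset.mem_range.1 hi)), one_mul]
    simp
  rw [h2]
  obtain ⟨k, rfl⟩ := hm
  rw [show 2 * k + 1 + 1 = 2 * (k + 1) from by ring, pow_mul, h1, one_pow]

def sgnSL (hm : Odd m) : ℤˣ →* Matrix.SpecialLinearGroup (Fin (2 * m + 1)) (ZMod p) where
  toFun u := ⟨Matrix.diagonal (sgnV u), by rw [Matrix.det_diagonal, prod_sgnV hm]⟩
  map_one' := by
    apply Subtype.ext
    show Matrix.diagonal (sgnV 1) = 1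
    ext i j
    simp [Matrix.diagonal_apply, Matrix.one_apply, sgnV]
  map_mul' u v := by
    apply Subtype.ext
    show Matrix.diagonal (sgnV (u * v)) = Matrix.diagonal (sgnV u) * Matrix.diagonal (sgnV v)
    rw [Matrix.diagonal_mul_diagonal]
    congr 1
    funext i
    simp only [sgnV]
    split_ifs <;> simp

def unipHom : Multiplicative (Fin 3 → ZMod p) →* Matrix.SpecialLinearGroup (Fin (2 * m + 1)) (ZMod p) where
  toFun x := unipSL x.toAdd
  map_one' := by
    apply Subtype.ext
    show 1 + X (0 : Fin 3 → ZMod p) = 1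
    rw [X_zero, add_zero]
  map_mul' x y := by
    apply Subtype.ext
    show 1 + X (x.toAdd + y.toAdd) = (1 + X x.toAdd) * (1 + X y.toAdd)
    rw [X_add, mul_add, add_mul, add_mul, one_mul, one_mul, mul_one, X_mul, add_zero]
    abel

/-- the action of ±1 -/
def act (p : ℕ) : ℤˣ →* MulAut (Multiplicative (Fin 3 → ZMod p)) where
  toFun u :=
    { toFun := fun x => Multiplicative.ofAdd (((u : ℤ) : ZMod p) • x.toAdd)
      invFun := fun x => Multiplicative.ofAdd (((u : ℤ) : ZMod p) • x.toAdd)
      left_inv := fun x => by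
        simp [smul_smul, ← Int.cast_mul, ← Units.val_mul, Int.units_mul_self]
      right_inv := fun x => by
        simp [smul_smul, ← Int.cast_mul, ← Units.val_mul, Int.units_mul_self]
      map_mul' := fun x y => by simp [smul_add] }
  map_one' := by ext x; simp
  map_mul' u v := by ext x; simp [smul_smul]

lemma sgn_conj (hm : Odd m) (u : ℤˣ) (a : Fin 3 → ZMod p) :
    unipSL (m := m) (((u : ℤ) : ZMod p) • a) * sgnSL hm u = sgnSL hm u * unipSL a := by
  apply Subtype.ext
  show (1 + X (((u : ℤ) : ZMod p) • a)) * Matrix.diagonal (sgnV u)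
    = Matrix.diagonal (sgnV u) * (1 + X a)
  rw [add_mul, mul_add, one_mul, mul_one]
  congr 1
  ext i j
  rw [Matrix.mul_diagonal, Matrix.diagonal_mul, X_smul, Matrix.smul_apply, smul_eq_mul]
  rcases Nat.lt_or_ge (j : ℕ) m with h | h
  · rcases Nat.lt_or_ge (i : ℕ) m with h' | h'
    · rw [X_apply_eq_zero a (Or.inr h')]; simp
    · simp [sgnV, h, not_lt.2 h']
  · rw [X_apply_eq_zero a (Or.inl h)]; simp

/-- the representation -/
def rep (hm : Odd m) : Multiplicative (Fin 3 → ZMod p) ⋊[act p] ℤˣ →*
    Matrix.SpecialLinearGroup (Fin (2 * m + 1)) (ZMod p) :=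
  SemidirectProduct.lift unipHom (sgnSL hm) (by
    intro u
    refine MonoidHom.ext fun x => ?_
    show unipSL (((u : ℤ) : ZMod p) • x.toAdd) = sgnSL hm u * unipSL x.toAdd * (sgnSL hm u)⁻¹
    rw [← sgn_conj, mul_inv_cancel_right])

lemma rep_val (hm : Odd m) (h : Multiplicative (Fin 3 → ZMod p) ⋊[act p] ℤˣ) :
    ((rep hm h : Matrix.SpecialLinearGroup (Fin (2 * m + 1)) (ZMod p)) :
      Matrix (Fin (2 * m + 1)) (Fin (2 * m + 1)) (ZMod p)) =
      (1 + X h.left.toAdd) * Matrix.diagonal (sgnV h.right) := rfl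

lemma two_ne (hp : p ≠ 2) : (2 : ZMod p) ≠ 0 := by
  intro h
  have : ((2 : ℕ) : ZMod p) = 0 := by simpa using h
  rw [ZMod.natCast_eq_zero_iff] at this
  exact hp ((Nat.prime_dvd_prime_iff_eq (Fact.out) Nat.prime_two).1 this)

lemma neg_one_ne (hp : p ≠ 2) : (-1 : ZMod p) ≠ 1 := fun h =>
  two_ne hp (by linear_combination -h)

lemma rep_inj (hp : p ≠ 2) (hm : Odd m) (h3 : 3 ≤ m)
    (h : Multiplicative (Fin 3 → ZMod p) ⋊[act p] ℤˣ) (r : ZMod p)
    (hr : Matrix.scalar (Fin (2 * m + 1)) r = (rep hm h).1) : h = 1 := by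
  rw [rep_val] at hr
  have entry : ∀ i j : Fin (2 * m + 1), (if i = j then r else 0)
      = ((if i = j then (1 : ZMod p) else 0) + X h.left.toAdd i j) * sgnV h.right j := fun i j => by
    have := congrFun (congrFun hr i) j
    rw [Matrix.mul_diagonal, Matrix.add_apply, Matrix.one_apply] at this
    simpa [Matrix.scalar_apply, Matrix.diagonal_apply] using this
  have e0 := entry ⟨0, by omega⟩ ⟨0, by omega⟩
  have em := entry ⟨m, by omega⟩ ⟨m, by omega⟩
  rw [X_apply_eq_zero _ (Or.inr (show (0 : ℕ) < m by omega))] at e0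
  rw [X_apply_eq_zero _ (Or.inl (le_refl m))] at em
  simp [sgnV, show 0 < m by omega] at e0 em
  have hu : h.right = 1 := by
    rcases Int.units_eq_one_or h.right with h1 | h1
    · exact h1
    · exfalso
      rw [h1] at em
      apply neg_one_ne hp
      rw [e0] at em
      simpa using em.symm
  have key : ∀ (i j : ℕ) (hi : i < 2 * m + 1) (hj : j < m),
      i ≠ j → (X h.left.toAdd : Matrix (Fin (2 * m + 1)) _ (ZMod p)) ⟨i, hi⟩ ⟨j, by omega⟩ = 0 := by
    intro i j hi hj hne
    have := entry ⟨i, hi⟩ ⟨j, by omega⟩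
    simpa [sgnV, hj, hne] using this.symm
  have a0 := key m 0 (by omega) (by omega) (by omega)
  have a1 := key (m + 1) 0 (by omega) (by omega) (by omega)
  have a2 := key (m + 2) 0 (by omega) (by omega) (by omega)
  simp [X, show 0 < m by omega] at a0 a1 a2
  refine SemidirectProduct.ext ?_ hu
  show h.left = 1
  apply Multiplicative.toAdd.injective
  funext k
  fin_cases k <;> first | exact a0 | exact a1 | exact a2

lemma brick (h3 : 3 ≤ m)
    (g : Matrix (Fin (2 * m + 1)) (Fin (2 * m + 1)) (ZMod p))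
    (hd : ∀ i j : Fin (2 * m + 1), ¬((i : ℕ) < m ↔ (j : ℕ) < m) → g i j = 0)
    (hX : ∀ a : Fin 3 → ZMod p, g * X a = X a * g) :
    ∃ r : ZMod p, Matrix.scalar (Fin (2 * m + 1)) r = g := by
  let G : ℕ → ℕ → ZMod p := fun i j =>
    if h : i < 2 * m + 1 ∧ j < 2 * m + 1 then g ⟨i, h.1⟩ ⟨j, h.2⟩ else 0
  have gG : ∀ i j : Fin (2 * m + 1), g i j = G i j := fun i j => by
    simp only [G]; rw [dif_pos ⟨i.isLt, j.isLt⟩]
  have L : ∀ (a : Fin 3 → ZMod p), a 2 = 0 → ∀ i j : Fin (2 * m + 1), (j : ℕ) < m →
      (g * X (m := m) a) i j = a 0 * G i (m + j) + a 1 * G i (m + j + 1) := by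
    intro a ha i j hj
    rw [Matrix.mul_apply]
    have e : ∀ l : Fin (2 * m + 1), g i l * X a l j
        = (if l = ⟨m + j, by omega⟩ then a 0 * G i (m + j) else 0)
          + (if l = ⟨m + j + 1, by omega⟩ then a 1 * G i (m + j + 1) else 0) := fun l => by
      simp only [X, hj, if_true, ha, gG, Fin.ext_iff]
      split_ifs <;> simp_all <;> ring
    simp only [e, Finset.sum_add_distrib, Finset.sum_ite_eq', Finset.mem_univ, if_true]
  have R : ∀ (a : Fin 3 → ZMod p), a 2 = 0 → ∀ i j : Fin (2 * m + 1), m ≤ (i : ℕ) →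
      (X (m := m) a * g) i j = (if (i : ℕ) < 2 * m then a 0 * G (i - m) j else 0)
        + (if m < (i : ℕ) then a 1 * G (i - m - 1) j else 0) := by
    intro a ha i j hi
    rw [Matrix.mul_apply]
    have e : ∀ l : Fin (2 * m + 1), X a i l * g l j
        = (if l = ⟨i - m, by omega⟩ then (if (i : ℕ) < 2 * m then a 0 * G (i - m) j else 0) else 0)
          + (if l = ⟨i - m - 1, by omega⟩ then (if m < (i : ℕ) then a 1 * G (i - m - 1) j else 0) else 0) := fun l => by
      simp only [X, ha, gG, Fin.ext_iff]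
      split_ifs <;> first | (exfalso; omega) | ring1 | (rw [show (l : ℕ) = i - m by omega]; ring1) | (rw [show (l : ℕ) = i - m - 1 by omega]; ring1)
    simp only [e, Finset.sum_add_distrib, Finset.sum_ite_eq', Finset.mem_univ, if_true]
  have P0 : ∀ i j, m ≤ i → i < 2 * m + 1 → j < m →
      G i (m + j) = if i < 2 * m then G (i - m) j else 0 := by
    intro i j h1 h2 hj
    have := congrFun (congrFun (hX ![1, 0, 0]) ⟨i, h2⟩) ⟨j, by omega⟩
    rw [L _ (by simp) _ _ hj, R _ (by simp) _ _ h1] at this
    simpa using this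
  have P1 : ∀ i j, m ≤ i → i < 2 * m + 1 → j < m →
      G i (m + j + 1) = if m < i then G (i - m - 1) j else 0 := by
    intro i j h1 h2 hj
    have := congrFun (congrFun (hX ![0, 1, 0]) ⟨i, h2⟩) ⟨j, by omega⟩
    rw [L _ (by simp) _ _ hj, R _ (by simp) _ _ h1] at this
    simpa using this
  have sh : ∀ i j, i + 1 < m → j + 1 < m → G (i + 1) (j + 1) = G i j := by
    intro i j hi hj
    have h0 := P0 (m + (i + 1)) (j + 1) (by omega) (by omega) hj
    have h1 := P1 (m + (i + 1)) j (by omega) (by omega) (by omega)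
    rw [if_pos (by omega), Nat.add_sub_cancel_left] at h0
    rw [if_pos (by omega), show m + (i + 1) - m - 1 = i by omega, Nat.add_assoc] at h1
    rw [← h0, h1]
  have top : ∀ j, j + 1 < m → G 0 (j + 1) = 0 := by
    intro j hj
    have h0 := P0 m (j + 1) le_rfl (by omega) hj
    have h1 := P1 m j le_rfl (by omega) (by omega)
    rw [if_pos (by omega), Nat.sub_self] at h0
    rw [if_neg (lt_irrefl m), Nat.add_assoc] at h1
    rw [← h0, h1]
  have bot : ∀ j, j + 1 < m → G (m - 1) j = 0 := by
    intro j hj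
    have h0 := P0 (2 * m) (j + 1) (by omega) (by omega) hj
    have h1 := P1 (2 * m) j (by omega) (by omega) (by omega)
    rw [if_neg (lt_irrefl _)] at h0
    rw [if_pos (by omega), show 2 * m - m - 1 = m - 1 by omega, Nat.add_assoc] at h1
    rw [← h1, h0]
  have low : ∀ k i j, i + k + 1 = m → j < i → G i j = 0 := by
    intro k
    induction k with
    | zero =>
      intro i j hi hj
      rw [show i = m - 1 by omega]
      exact bot j (by omega)
    | succ k ih =>
      intro i j hi hj
      rw [← sh i j (by omega) (by omega)]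
      exact ih (i + 1) (j + 1) (by omega) (by omega)
  have A : ∀ i j, i < m → j < m → G i j = if i = j then G 0 0 else 0 := by
    intro i
    induction i with
    | zero =>
      intro j _ hj
      rcases j with _ | j
      · simp
      · rw [top j hj, if_neg (by omega)]
    | succ i ih =>
      intro j hi hj
      rcases j with _ | j
      · rw [low (m - (i + 2)) (i + 1) 0 (by omega) (by omega), if_neg (by omega)]
      · rw [sh i j hi hj, ih j (by omega) (by omega)]
        simp
  refine ⟨G 0 0, ?_⟩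
  ext i j
  rw [Matrix.scalar_apply, Matrix.diagonal_apply]
  have hij : i = j ↔ (i : ℕ) = j := Fin.ext_iff
  simp only [hij]
  rcases Nat.lt_or_ge (i : ℕ) m with hi | hi <;> rcases Nat.lt_or_ge (j : ℕ) m with hj | hj
  · rw [gG, A _ _ hi hj]
  · rw [hd i j (by omega), if_neg (by omega)]
  · rw [hd i j (by omega), if_neg (by omega)]
  · rw [gG]
    rcases Nat.lt_or_ge (j : ℕ) (2 * m) with hj2 | hj2
    · have h0 := P0 i (j - m) hi i.isLt (by omega)
      rw [show m + ((j : ℕ) - m) = j by omega] at h0
      rw [h0]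
      by_cases hi2 : (i : ℕ) < 2 * m
      · rw [if_pos hi2, A ((i : ℕ) - m) ((j : ℕ) - m) (by omega) (by omega)]
        by_cases e : (i : ℕ) = j
        · rw [if_pos e, if_pos (by omega)]
        · rw [if_neg e, if_neg (by omega)]
      · rw [if_neg hi2, if_neg (by omega)]
    · have hjv : (j : ℕ) = m + (m - 1) + 1 := by omega
      have h1 := P1 i (m - 1) hi i.isLt (by omega)
      rw [← hjv] at h1
      rw [h1]
      by_cases hi2 : m < (i : ℕ)
      · rw [if_pos hi2, A ((i : ℕ) - m - 1) (m - 1) (by omega) (by omega)]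
        by_cases e : (i : ℕ) = j
        · rw [if_pos e, if_pos (by omega)]
        · rw [if_neg e, if_neg (by omega)]
      · rw [if_neg hi2, if_neg (by omega)]

lemma centralizing (hp : p ≠ 2) (hm : Odd m) (h3 : 3 ≤ m)
    (g : Matrix.SpecialLinearGroup (Fin (2 * m + 1)) (ZMod p))
    (hg : ∀ h, ∃ r : ZMod p,
      g.1 * (rep hm h).1 = r • ((rep hm h).1 * g.1)) :
    ∃ r : ZMod p, Matrix.scalar (Fin (2 * m + 1)) r = g.1 := by
  have hne : g.1 ≠ 0 := by
    intro h0
    have := g.2
    rw [h0, Matrix.det_zero] at this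
    exact zero_ne_one this
  have hX : ∀ a, g.1 * X a = X a * g.1 := by
    intro a
    obtain ⟨r, hr⟩ := hg (SemidirectProduct.inl (Multiplicative.ofAdd a))
    have hv : (rep hm (SemidirectProduct.inl (Multiplicative.ofAdd a))).1 = 1 + X a := by
      rw [rep_val]
      have : Matrix.diagonal (sgnV (p := p) (m := m) 1) = 1 := congrArg Subtype.val (sgnSL (p := p) hm).map_one
      simp [this]
    rw [hv] at hr
    have pw : ∀ k : ℕ, g.1 * (1 + X ((k : ZMod p) • a)) = r ^ k • ((1 + X ((k : ZMod p) • a)) * g.1) := by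
      intro k
      induction k with
      | zero => simp [X_zero]
      | succ k ih =>
        have e : (1 + X (((k + 1 : ℕ) : ZMod p) • a) : Matrix (Fin (2 * m + 1)) _ (ZMod p))
            = (1 + X ((k : ZMod p) • a)) * (1 + X a) := by
          rw [mul_add, add_mul, add_mul, one_mul, one_mul, mul_one, X_mul, add_zero, Nat.cast_succ,
            add_smul, one_smul, X_add]
          abel
        rw [e, ← mul_assoc, ih, smul_mul_assoc, mul_assoc, hr, mul_smul_comm, smul_smul,
          ← pow_succ, ← mul_assoc]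
    have hp1 := pw p
    rw [ZMod.natCast_self, zero_smul, X_zero, add_zero, one_mul, mul_one, ZMod.pow_card] at hp1
    have hr1 : r = 1 := by
      have : (r - 1) • g.1 = 0 := by rw [sub_smul, one_smul, ← hp1, sub_self]
      rcases smul_eq_zero.1 this with h | h
      · exact sub_eq_zero.1 h
      · exact absurd h hne
    rw [hr1, one_smul, mul_add, add_mul, mul_one, one_mul] at hr
    exact add_left_cancel hr
  obtain ⟨r, hr⟩ := hg (SemidirectProduct.inr (-1))
  have hv : (rep (p := p) hm (SemidirectProduct.inr (-1))).1 = Matrix.diagonal (sgnV (p := p) (m := m) (-1)) := by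
    rw [rep_val]; simp [X_zero]
  rw [hv] at hr
  have ent : ∀ i j, g.1 i j * sgnV (p := p) (-1) j = r * (sgnV (p := p) (-1) i * g.1 i j) := fun i j => by
    have := congrFun (congrFun hr i) j
    simpa [Matrix.mul_diagonal, Matrix.diagonal_mul] using this
  have hsame : r = 1 ∨ ∀ i j : Fin (2 * m + 1), ((i : ℕ) < m ↔ (j : ℕ) < m) → g.1 i j = 0 := by
    by_cases h1 : r = 1
    · exact Or.inl h1
    · refine Or.inr fun i j hij => ?_
      have := ent i j
      have e : (r - 1) * (sgnV (p := p) (-1) i * g.1 i j) = 0 := by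
        have hs : sgnV (p := p) (-1) i = sgnV (-1) j := by simp only [sgnV, hij]
        rw [hs] at this ⊢
        linear_combination -this
      rcases mul_eq_zero.1 e with h | h
      · exact absurd (sub_eq_zero.1 h) h1
      · rcases mul_eq_zero.1 h with h | h
        · exfalso
          simp only [sgnV] at h
          split_ifs at h <;> simp at h
        · exact h
  rcases hsame with h1 | hz
  · refine brick h3 g.1 (fun i j hij => ?_) hX
    have := ent i j
    rw [h1, one_mul] at this
    have e : g.1 i j * 2 = 0 := by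
      simp only [sgnV] at this
      split_ifs at this <;> first | tauto | (push_cast [Units.val_neg, Units.val_one] at this; first | linear_combination this | linear_combination -this)
    exact (mul_eq_zero.1 e).resolve_right (two_ne hp)
  · exfalso
    have row : ∀ j, g.1 ⟨0, by omega⟩ j = 0 := by
      intro j
      rcases Nat.lt_or_ge (j : ℕ) m with hj | hj
      · exact hz _ _ (iff_of_true (show (0 : ℕ) < m by omega) hj)
      · rcases Nat.lt_or_ge (j : ℕ) (2 * m) with hj2 | hj2
        · have hh := congrFun (congrFun (hX ![1, 0, 0]) ⟨0, by omega⟩) ⟨j - m, by omega⟩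
          rw [Matrix.mul_apply, Matrix.mul_apply, Finset.sum_eq_single j] at hh
          · rw [Finset.sum_eq_zero (fun l _ => by
              rw [X_apply_eq_zero _ (Or.inr (show (0 : ℕ) < m by omega)), zero_mul])] at hh
            simp only [X] at hh
            rw [if_pos (show (j : ℕ) - m < m by omega), if_pos (show (j : ℕ) = m + (j - m) by omega)] at hh
            simpa using hh
          · intro l _ hl
            have : (l : ℕ) ≠ m + (j - m) := fun e => hl (Fin.ext (by omega))
            simp [X, show (j : ℕ) - m < m by omega, this]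
          · simp
        · have hjv : (j : ℕ) = 2 * m := by omega
          have hh := congrFun (congrFun (hX ![0, 1, 0]) ⟨0, by omega⟩) ⟨m - 1, by omega⟩
          rw [Matrix.mul_apply, Matrix.mul_apply, Finset.sum_eq_single j] at hh
          · rw [Finset.sum_eq_zero (fun l _ => by
              rw [X_apply_eq_zero _ (Or.inr (show (0 : ℕ) < m by omega)), zero_mul])] at hh
            simp only [X] at hh
            rw [if_pos (show m - 1 < m by omega), if_pos (show (j : ℕ) = m + (m - 1) + 1 by omega)] at hh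
            simpa using hh
          · intro l _ hl
            have : (l : ℕ) ≠ m + (m - 1) + 1 := fun e => hl (Fin.ext (by omega))
            simp [X, show m - 1 < m by omega, this]
          · simp
    have := g.2
    rw [Matrix.det_eq_zero_of_row_eq_zero ⟨0, by omega⟩ row] at this
    exact zero_ne_one this

end Helpers


/-- For every odd prime `p` there is a finite group `H` of order `2p³` which, for infinitely many `n`, embeds in the projective special linear group `PSL(n, p)` as a subgroup with trivial centralizer. -/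
theorem result
    (p : ℕ) [Fact p.Prime] (hp : p ≠ 2) :
    ∃ (H : Type) (_ : Group H) (_ : Finite H), Nat.card H = 2 * p ^ 3 ∧
      ∀ N : ℕ, ∃ n, N ≤ n ∧ ∃ φ : H →* Matrix.ProjectiveSpecialLinearGroup (Fin n) (ZMod p),
        Function.Injective φ ∧ Subgroup.centralizer (φ.range : Set (Matrix.ProjectiveSpecialLinearGroup (Fin n) (ZMod p))) = ⊥ := by
  classical
  refine ⟨Multiplicative (Fin 3 → ZMod p) ⋊[act p] ℤˣ, inferInstance,
    Finite.of_equiv _ SemidirectProduct.equivProd.symm, ?_, fun N => ?_⟩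
  · rw [SemidirectProduct.card, Nat.card_congr Multiplicative.toAdd, Nat.card_fun,
      Nat.card_eq_fintype_card (α := ℤˣ), Fintype.card_units_int, Nat.card_zmod, Nat.card_fin]
    ring
  obtain ⟨m, hm, h3, hN⟩ : ∃ m : ℕ, Odd m ∧ 3 ≤ m ∧ N ≤ 2 * m + 1 :=
    ⟨2 * N + 3, ⟨N + 1, by ring⟩, by omega, by omega⟩
  refine ⟨2 * m + 1, hN, (QuotientGroup.mk' _).comp (rep (p := p) hm), ?_, ?_⟩
  · rw [injective_iff_map_eq_one]
    intro h hh
    rw [MonoidHom.comp_apply, QuotientGroup.mk'_apply, QuotientGroup.eq_one_iff] at hh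
    obtain ⟨r, -, hr⟩ := Matrix.SpecialLinearGroup.mem_center_iff.1 hh
    exact rep_inj hp hm h3 h r hr
  · rw [eq_bot_iff]
    intro x hx
    obtain ⟨g, rfl⟩ := QuotientGroup.mk_surjective x
    rw [Subgroup.mem_bot, QuotientGroup.eq_one_iff]
    obtain ⟨r, hr⟩ := centralizing hp hm h3 g fun h => by
      have h1 := Subgroup.mem_centralizer_iff.1 hx _ ⟨h, rfl⟩
      rw [MonoidHom.comp_apply, QuotientGroup.mk'_apply, ← QuotientGroup.mk_mul,
        ← QuotientGroup.mk_mul, QuotientGroup.eq] at h1
      obtain ⟨r, -, hr⟩ := Matrix.SpecialLinearGroup.mem_center_iff.1 h1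
      refine ⟨r, ?_⟩
      have h2 : g * rep hm h = rep hm h * g * ((rep hm h * g)⁻¹ * (g * rep hm h)) :=
        (mul_inv_cancel_left _ _).symm
      generalize (rep hm h * g)⁻¹ * (g * rep hm h) = z at h2 hr
      have h4 := congrArg Subtype.val h2
      simp only [Matrix.SpecialLinearGroup.coe_mul] at h4
      rw [h4, ← hr, Matrix.scalar_apply, ← Matrix.smul_one_eq_diagonal, mul_smul_comm, mul_one]
    refine Matrix.SpecialLinearGroup.mem_center_iff.2 ⟨r, ?_, hr⟩
    have := g.2
    rw [← hr, Matrix.scalar_apply, Matrix.det_diagonal] at this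
    simpa using this

end Cfsg.Agent.S2533
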