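import Cfsg.Statements.S2534
import Cfsg.Agent.H60.HallDpi

set_option autoImplicit false
open Cfsg

namespace Cfsg.Agent.S2534

/-- A permutation of prime order at least five preserving a set of at most four pairs
covering all points but one is trivial. -/
theorem pair_order {n : ℕ} {Q : Finset (Finset (Fin n))} (hQ4 : Q.card ≤ 4)
    (hQ2 : ∀ e ∈ Q, e.card = 2) (hQc : (Q.biUnion fun e => e)ᶜ.card ≤ 1)
    {g : Equiv.Perm (Fin n)} (hg : Q.image (fun e => e.image g) = Q) {r : ℕ} (hr : r.Prime)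
    (hr5 : 5 ≤ r) (hord : orderOf g = r) : False := by
  have hpow : ∀ i : ℕ, ∀ e ∈ Q, e.image ⇑(g ^ i) ∈ Q := by
    intro i
    induction i with
    | zero => intro e he; simpa using he
    | succ i ih =>
      intro e he
      rw [pow_succ', Equiv.Perm.coe_mul, ← Finset.image_image, ← hg]
      exact Finset.mem_image_of_mem (fun e => e.image g) (ih e he)
  have hfix : ∀ e ∈ Q, e.image g = e := by
    intro e he
    obtain ⟨i, hi, k, hk, hik, heq⟩ := Finset.exists_ne_map_eq_of_card_lt_of_maps_to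
      (s := Finset.range r) (t := Q) (f := fun i => e.image ⇑(g ^ i))
      (by rw [Finset.card_range]; omega) (fun i _ => hpow i e he)
    wlog hlt : i < k generalizing i k with Hw
    · exact Hw k hk i hi hik.symm heq.symm (by omega)
    have h1 : e.image ⇑(g ^ (k - i)) = e := by
      refine Finset.image_injective (g ^ i).injective ?_
      rw [Finset.image_image, ← Equiv.Perm.coe_mul, ← pow_add, Nat.add_sub_cancel' hlt.le]
      exact heq.symm
    have hcop : Nat.Coprime (k - i) (orderOf g) := by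
      rw [hord]
      refine ((hr.coprime_iff_not_dvd).mpr fun h => ?_).symm
      have := Nat.le_of_dvd (by omega) h
      have := Finset.mem_range.mp hk
      omega
    have hmem : g ∈ Subgroup.zpowers (g ^ (k - i)) := (mem_zpowers_pow_iff).mpr hcop
    open scoped Pointwise in
    exact (Subgroup.zpowers_le.mpr
      (show g ^ (k - i) ∈ MulAction.stabilizer (Equiv.Perm (Fin n)) e from h1)) hmem
  have hsub : g.support ⊆ (Q.biUnion fun e => e)ᶜ := by
    intro z hz
    refine Finset.mem_compl.mpr fun hz' => Equiv.Perm.mem_support.mp hz ?_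
    obtain ⟨e, he, hze⟩ := Finset.mem_biUnion.mp hz'
    by_contra hgz
    have h1 : g z ∈ e := hfix e he ▸ Finset.mem_image_of_mem g hze
    have h2 : g (g z) ∈ e := hfix e he ▸ Finset.mem_image_of_mem g h1
    have hzz : g (g z) = z := by
      by_contra hne
      have h3 : ({z, g z, g (g z)} : Finset (Fin n)) ⊆ e := by
        intro w hw
        simp only [Finset.mem_insert, Finset.mem_singleton] at hw
        rcases hw with rfl | rfl | rfl <;> assumption
      have h4 := Finset.card_le_card h3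
      rw [hQ2 e he, Finset.card_insert_of_notMem, Finset.card_pair] at h4
      · omega
      · exact fun h => hgz (g.injective h.symm)
      · simp only [Finset.mem_insert, Finset.mem_singleton, not_or]
        exact ⟨Ne.symm hgz, Ne.symm hne⟩
    have hcop : Nat.Coprime 2 (orderOf g) := by
      rw [hord]; exact (Nat.coprime_primes Nat.prime_two hr).mpr (by omega)
    exact hgz ((Subgroup.zpowers_le.mpr (show g ^ 2 ∈ MulAction.stabilizer (Equiv.Perm (Fin n)) z from
      by rw [MulAction.mem_stabilizer_iff, sq]; exact hzz)) ((mem_zpowers_pow_iff).mpr hcop))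
  have h1 : g = 1 := Equiv.Perm.card_support_le_one.mp ((Finset.card_le_card hsub).trans hQc)
  rw [h1, orderOf_one] at hord
  omega

theorem exists_escape {π : Set ℕ} (h2 : 2 ∈ π) (h3 : 3 ∈ π) {n : ℕ}
    (Q : Finset (Finset (Fin n))) (hQ4 : Q.card ≤ 4) (hQ2 : ∀ e ∈ Q, e.card = 2)
    (hQc : (Q.biUnion fun e => e)ᶜ.card ≤ 1) (a b : Equiv.Perm (Fin n))
    (ha : Q.image (fun e => e.image a) = Q) (hb : Q.image (fun e => e.image b) = Q)
    (hsa : Equiv.Perm.sign a = 1) (hsb : Equiv.Perm.sign b = 1)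
    (hesc : ∀ C ∈ (Finset.univ : Finset (Fin n)).powersetCard 4,
      (C.image a ≠ C ∧ C.image a ≠ Cᶜ) ∨ (C.image b ≠ C ∧ C.image b ≠ Cᶜ)) :
    ∃ K : Subgroup ↥(alternatingGroup (Fin n)), Cfsg.IsPiSubgroup π K ∧
      ∀ C : Finset (Fin n), C.card = 4 → ∃ u ∈ K, C.image (u : Equiv.Perm (Fin n)) ≠ C ∧
        C.image (u : Equiv.Perm (Fin n)) ≠ Cᶜ := by
  open scoped Pointwise in
  refine ⟨(MulAction.stabilizer (Equiv.Perm (Fin n)) Q).subgroupOf _, fun p hp hd => ?_, fun C hC => ?_⟩
  · by_contra hpπ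
    have hp5 : 5 ≤ p := by
      have := hp.two_le
      by_contra hlt
      rcases (show p = 2 ∨ p = 3 ∨ p = 4 by omega) with rfl | rfl | rfl
      · exact hpπ h2
      · exact hpπ h3
      · norm_num at hp
    haveI : Fact p.Prime := ⟨hp⟩
    obtain ⟨g, hg⟩ := exists_prime_orderOf_dvd_card' p hd
    exact pair_order hQ4 hQ2 hQc (g := ((g : alternatingGroup (Fin n)) : Equiv.Perm (Fin n))) g.2 hp hp5
      (by rw [Subgroup.orderOf_coe, Subgroup.orderOf_coe, hg])
  · rcases hesc C (Finset.mem_powersetCard_univ.mpr hC) with h | h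
    · exact ⟨⟨a, Equiv.Perm.mem_alternatingGroup.mpr hsa⟩, ha, h⟩
    · exact ⟨⟨b, Equiv.Perm.mem_alternatingGroup.mpr hsb⟩, hb, h⟩

theorem escape_seven {π : Set ℕ} (h2 : 2 ∈ π) (h3 : 3 ∈ π) :
    ∃ K : Subgroup ↥(alternatingGroup (Fin 7)), Cfsg.IsPiSubgroup π K ∧
      ∀ C : Finset (Fin 7), C.card = 4 → ∃ u ∈ K, C.image (u : Equiv.Perm (Fin 7)) ≠ C ∧
        C.image (u : Equiv.Perm (Fin 7)) ≠ Cᶜ :=
  exists_escape h2 h3 {{0, 1}, {2, 3}, {4, 5}} (by decide +kernel) (by decide +kernel) (by decide +kernel)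
    (Equiv.swap 0 2 * Equiv.swap 2 4 * (Equiv.swap 1 3 * Equiv.swap 3 5))
    (Equiv.swap 0 1 * Equiv.swap 2 3) (by decide +kernel) (by decide +kernel) (by decide +kernel)
    (by decide +kernel) (by decide +kernel)

theorem escape_eight {π : Set ℕ} (h2 : 2 ∈ π) (h3 : 3 ∈ π) :
    ∃ K : Subgroup ↥(alternatingGroup (Fin 8)), Cfsg.IsPiSubgroup π K ∧
      ∀ C : Finset (Fin 8), C.card = 4 → ∃ u ∈ K, C.image (u : Equiv.Perm (Fin 8)) ≠ C ∧
        C.image (u : Equiv.Perm (Fin 8)) ≠ Cᶜ :=
  exists_escape h2 h3 {{0, 1}, {2, 3}, {4, 5}, {6, 7}} (by decide +kernel) (by decide +kernel) (by decide +kernel)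
    (Equiv.swap 0 2 * Equiv.swap 2 4 * (Equiv.swap 1 3 * Equiv.swap 3 5))
    (Equiv.swap 0 1 * Equiv.swap 2 3) (by decide +kernel) (by decide +kernel) (by decide +kernel)
    (by decide +kernel) (by decide +kernel)

open scoped Pointwise in
theorem not_dpi {n : ℕ} (hn : 5 ≤ n) {π : Set ℕ} {r s t : ℕ} (hr : r.Prime) (hs : s.Prime) (ht : t.Prime)
    (hrs : r ≠ s) (hrπ : r ∈ π) (hsπ : s ∈ π) (htπ : t ∉ π) (hrn : r ≤ n) (hsn : s ≤ n) (htn : t ≤ n) :
    ¬ Cfsg.IsDPiGroup π ↥(alternatingGroup (Fin n)) := by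
  intro hD
  have hcover : ∀ Q : Subgroup ↥(alternatingGroup (Fin n)), Cfsg.IsPiSubgroup π Q →
      ∃ K : Subgroup (Equiv.Perm (Fin n)), Cfsg.IsPiHall π K ∧
        ∀ q ∈ Q, (q : Equiv.Perm (Fin n)) ∈ K := by
    intro Q hQ
    obtain ⟨L, hQL, hL⟩ := Finite.exists_le_maximal hQ
    have hLh := H60.HallDpi.hall_of_maximal hD hL
    obtain ⟨K, hK, hKL⟩ := H60.HallAlt.exists_hall (π := π) (Subgroup.map_subtype_le L)
      (fun p hp hd => hLh.1 p hp (by
        rwa [Nat.card_congr (Subgroup.equivMapOfInjective L _ (alternatingGroup (Fin n)).subtype_injective).toEquiv]))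
      (fun p hp hpπ hd => hLh.2 p hp hpπ (by
        rwa [Subgroup.relIndex, Subgroup.subgroupOf,
          Subgroup.comap_map_eq_self_of_injective (alternatingGroup (Fin n)).subtype_injective] at hd))
    exact ⟨K, hK, fun q hq => (hKL.ge (Subgroup.mem_map_of_mem _ (hQL hq))).1⟩
  by_cases h2 : 2 ∈ π
  swap
  · obtain ⟨K, hK, -⟩ := hcover ⊥ (fun p hp hd => by
      rw [Subgroup.card_bot] at hd; exact absurd (Nat.dvd_one.mp hd) hp.ne_one)
    exact hrs (H60.HallSym.one_prime_of_odd K hK.1 hK.2 h2 hr hs hrπ hsπ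
      (by rwa [Fintype.card_fin]) (by rwa [Fintype.card_fin]))
  have hodd : ∃ q : ℕ, q.Prime ∧ q ≠ 2 ∧ q ∈ π ∧ q ≤ Fintype.card (Fin n) := by
    rw [Fintype.card_fin]
    by_cases e : r = 2
    · exact ⟨s, hs, fun h => hrs (e.trans h.symm), hsπ, hsn⟩
    · exact ⟨r, hr, e, hrπ, hrn⟩
  have hns : ∃ p : ℕ, p.Prime ∧ p ≤ Fintype.card (Fin n) ∧ p ∉ π := ⟨t, ht, by rwa [Fintype.card_fin], htπ⟩
  -- the shape of every Hall subgroup
  obtain ⟨K₀, hK₀, -⟩ := hcover ⊥ (fun p hp hd => by
    rw [Subgroup.card_bot] at hd; exact absurd (Nat.dvd_one.mp hd) hp.ne_one)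
  obtain ⟨x₀, hπ₀, hc₀⟩ := H60.HallSym.classify K₀ hK₀.1 hK₀.2 h2 hodd hns
  simp only [Fintype.card_fin] at hπ₀ hc₀
  rcases hc₀ with ⟨hp, hY⟩ | ⟨h78, hY, -⟩
  · -- `n` prime: the pair stabiliser
    have hπ : ∀ p : ℕ, p.Prime → p < n → p ∈ π := fun p hp' hlt => (hπ₀ p hp' hlt.le).mpr (by omega)
    have hnπ : n ∉ π := fun h => by have := (hπ₀ n hp le_rfl).mp h; omega
    let a : Fin n := ⟨0, by omega⟩
    let b : Fin n := ⟨1, by omega⟩
    have hab : a ≠ b := by simp [a, b]
    obtain ⟨K, hK, hQK⟩ := hcover _ (H60.HallDpi.pair_pi (α := Fin n) (by simpa using hp)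
      (by simpa using hn) hab (by simpa using hπ))
    obtain ⟨x, hπx, hcx⟩ := H60.HallSym.classify K hK.1 hK.2 h2 hodd hns
    simp only [Fintype.card_fin] at hπx hcx
    rcases hcx with ⟨-, hYx⟩ | ⟨h78, hYx, -⟩
    · have hother : ∀ y, H60.HallSym.cls K y ≠ H60.HallSym.cls K x →
          (H60.HallSym.cls K y).card + (H60.HallSym.cls K x).card = Fintype.card (Fin n) := by
        intro y hy
        have h1 := Finset.card_le_univ (H60.HallSym.cls K y ∪ H60.HallSym.cls K x)
        rw [Finset.card_union_of_disjoint (H60.HallSym.cls_disjoint hy)] at h1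
        have h2 : 0 < (H60.HallSym.cls K y).card :=
          Finset.card_pos.mpr ⟨y, H60.HallSym.mem_cls_self K y⟩
        rw [Fintype.card_fin] at h1 ⊢
        omega
      have hKeq := H60.HallConj.eq_pairStab h2 hK hother
      set C := H60.HallSym.cls K x
      obtain ⟨z, hz⟩ : ∃ z, z ∈ Cᶜ := Finset.card_pos.mp (by rw [Finset.card_compl, Fintype.card_fin]; omega)
      obtain ⟨g, hgA, hgfix, hgz⟩ := H60.HallDpi.exists_move hab (by simpa using hn) z
      have hgK : g ∈ K := hQK ⟨g, hgA⟩ (show g ∈ MulAction.stabilizer _ _ from hgfix)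
      rw [hKeq] at hgK
      have hone : ∀ w ∈ Cᶜ, w = z := fun w hw => by
        refine Finset.card_le_one.mp (le_of_eq ?_) w hw z hz
        rw [Finset.card_compl, Fintype.card_fin]; omega
      rcases H60.HallConj.mem_pairStab.mp hgK with h | h
      · refine hgz (hone _ ?_)
        have := Finset.smul_mem_smul_finset (a := g) hz
        rwa [H60.HallConj.smul_compl, h] at this
      · have := congrArg Finset.card h
        rw [Finset.card_smul_finset, Finset.card_compl, Fintype.card_fin] at this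
        omega
    · rcases h78 with rfl | rfl
      · have h5 := (hπx 5 (by norm_num) (by norm_num)).mp (hπ 5 (by norm_num) (by norm_num))
        omega
      · norm_num at hp
  · -- `n = 7` or `8`
    have h3π : 3 ∈ π := (hπ₀ 3 Nat.prime_three (by omega)).mpr (by omega)
    have h5π : 5 ∉ π := fun h => by have := (hπ₀ 5 (by norm_num) (by omega)).mp h; omega
    suffices ∀ K : Subgroup (Equiv.Perm (Fin n)), Cfsg.IsPiHall π K →
        ∃ C : Finset (Fin n), C.card = 4 ∧ ∀ g ∈ K, C.image g = C ∨ C.image g = Cᶜ by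
      rcases h78 with rfl | rfl
      · obtain ⟨Q, hQ, hesc⟩ := escape_seven h2 h3π
        obtain ⟨K, hK, hQK⟩ := hcover Q hQ
        obtain ⟨C, hC, hinv⟩ := this K hK
        obtain ⟨u, hu, hu1, hu2⟩ := hesc C hC
        exact (hinv _ (hQK u hu)).elim hu1 hu2
      · obtain ⟨Q, hQ, hesc⟩ := escape_eight h2 h3π
        obtain ⟨K, hK, hQK⟩ := hcover Q hQ
        obtain ⟨C, hC, hinv⟩ := this K hK
        obtain ⟨u, hu, hu1, hu2⟩ := hesc C hC
        exact (hinv _ (hQK u hu)).elim hu1 hu2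
    intro K hK
    obtain ⟨x, hπx, hcx⟩ := H60.HallSym.classify K hK.1 hK.2 h2 hodd hns
    simp only [Fintype.card_fin] at hπx hcx
    rcases hcx with ⟨hp, hYx⟩ | ⟨-, hYx, hsum⟩
    · exfalso
      exact h5π ((hπx 5 (by norm_num) (by omega)).mpr (by omega))
    · refine ⟨_, hYx, fun g hg => ?_⟩
      rw [H60.HallConj.eq_pairStab h2 hK (x := x) (fun y hy => by rw [Fintype.card_fin, hYx]; exact hsum y hy)] at hg
      exact H60.HallConj.mem_pairStab.mp hg

/-- For `n ≥ 5` and a set of primes `π`, the alternating group of degree `n` satisfies the full Sylow analogue for `π` (its maximal `π`-subgroups are pairwise conjugate; for a finite group this says Hall `π`-subgroups exist, are all conjugate, and contain every `π`-subgroup up to conjugacy) if and only if either at most one prime of `π` divides its order or every prime dividing its order lies in `π`. -/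
theorem result (n : ℕ) (hn : 5 ≤ n) (π : Set ℕ) :
    Cfsg.IsDPiGroup π ↥(alternatingGroup (Fin n)) ↔
      ((∀ r s : ℕ, r.Prime → s.Prime → r ∈ π → s ∈ π → r ∣ Nat.card ↥(alternatingGroup (Fin n)) → s ∣ Nat.card ↥(alternatingGroup (Fin n)) → r = s) ∨
        ∀ r : ℕ, r.Prime → r ∣ Nat.card ↥(alternatingGroup (Fin n)) → r ∈ π) := by
  constructor
  · intro hD
    by_contra hcon
    push Not at hcon
    obtain ⟨⟨r, s, hr, hs, hrπ, hsπ, hrd, hsd, hrs⟩, t, ht, htd, htπ⟩ := hcon
    have hd := fun {p : ℕ} (hp : p.Prime) (h : p ∣ Nat.card ↥(alternatingGroup (Fin n))) =>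
      (H60.HallDpi.prime_dvd_alt (α := Fin n) hp (by rw [Fintype.card_fin]; omega)).mp h
    simp only [Fintype.card_fin] at hd
    exact not_dpi hn hr hs ht hrs hrπ hsπ htπ (hd hr hrd) (hd hs hsd) (hd ht htd) hD
  · rintro (h | h)
    · exact H60.HallDpi.dpi_of_one_prime h
    · exact H60.HallDpi.dpi_of_all h

end Cfsg.Agent.S2534
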