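import Cfsg.Statements.S2535
import Cfsg.Agent.H60.HallConj

set_option autoImplicit false
open Cfsg

namespace Cfsg.Agent.S2535

/-- For every `n` and every set of primes `π`, the following are equivalent for the symmetric group `S` of degree `n` and its alternating subgroup `A`: `S` has a Hall `π`-subgroup; `S` has a Hall `π`-subgroup and all of them are conjugate; `A` has a Hall `π`-subgroup; `A` has a Hall `π`-subgroup and all of them are conjugate. -/
theorem result (n : ℕ) (π : Set ℕ) :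
    (Cfsg.IsEPiGroup π (Equiv.Perm (Fin n)) ↔ Cfsg.IsCPiGroup π (Equiv.Perm (Fin n))) ∧
    (Cfsg.IsEPiGroup π (Equiv.Perm (Fin n)) ↔ Cfsg.IsEPiGroup π ↥(alternatingGroup (Fin n))) ∧
    (Cfsg.IsEPiGroup π ↥(alternatingGroup (Fin n)) ↔ Cfsg.IsCPiGroup π ↥(alternatingGroup (Fin n))) := by
  have hEA : Cfsg.IsEPiGroup π (Equiv.Perm (Fin n)) ↔ Cfsg.IsEPiGroup π ↥(alternatingGroup (Fin n)) := by
    constructor
    · rintro ⟨H, hH⟩
      exact ⟨_, H60.HallAlt.hall_subgroupOf hH⟩
    · rintro ⟨M, hM⟩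
      obtain ⟨K, hK, -⟩ := H60.HallAlt.exists_hall (π := π) (Subgroup.map_subtype_le M)
        (fun r hr hd => hM.1 r hr (by
          rwa [Nat.card_congr (Subgroup.equivMapOfInjective M _ (alternatingGroup (Fin n)).subtype_injective).toEquiv]))
        (fun r hr hrπ hd => hM.2 r hr hrπ (by
          rwa [Subgroup.relIndex, Subgroup.subgroupOf,
            Subgroup.comap_map_eq_self_of_injective (alternatingGroup (Fin n)).subtype_injective] at hd))
      exact ⟨K, hK⟩
  exact ⟨⟨fun h => ⟨h, fun _ _ hH hK => H60.HallConj.conj_perm hH hK⟩, fun h => h.1⟩, hEA,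
    ⟨fun h => ⟨h, fun _ _ hH hK => H60.HallConj.conj_alt hH hK⟩, fun h => h.1⟩⟩

end Cfsg.Agent.S2535
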