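import Cfsg.Statements.S2536
import Cfsg.Agent.H60.HallClass
import Cfsg.Agent.H60.HallOdd

set_option autoImplicit false
open Cfsg

namespace Cfsg.Agent.S2536

open scoped Pointwise

theorem isPiHall_of_index {π : Set ℕ} {n k : ℕ} (H : Subgroup (Equiv.Perm (Fin n))) (hk : H.index = k)
    (h1 : ∀ r : ℕ, r.Prime → r ∣ n.factorial / k → r ∈ π) (h2 : ∀ r : ℕ, r.Prime → r ∈ π → ¬ r ∣ k) :
    Cfsg.IsPiHall π H := by
  refine ⟨fun r hr hd => h1 r hr ?_, fun r hr hπ => hk ▸ h2 r hr hπ⟩
  have h := H.card_mul_index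
  rw [hk, Nat.card_perm, Nat.card_fin] at h
  have hk0 : 0 < k := Nat.pos_of_ne_zero (hk ▸ Subgroup.index_ne_zero_of_finite)
  rwa [← h, Nat.mul_div_cancel _ hk0]

theorem two_three_of_dvd {r a b : ℕ} (hr : r.Prime) (h : r ∣ 2 ^ a * 3 ^ b) : r = 2 ∨ r = 3 := by
  rcases hr.dvd_mul.mp h with h | h
  · exact Or.inl ((Nat.prime_dvd_prime_iff_eq hr Nat.prime_two).mp (hr.dvd_of_dvd_pow h))
  · exact Or.inr ((Nat.prime_dvd_prime_iff_eq hr Nat.prime_three).mp (hr.dvd_of_dvd_pow h))

theorem exists_index_seven : ∃ H : Subgroup (Equiv.Perm (Fin 7)), H.index = 35 := by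
  let x : Set.powersetCard (Fin 7) 4 := ⟨{0, 1, 2, 3}, rfl⟩
  haveI := Set.powersetCard.isPretransitive (α := Fin 7) (n := 4)
  refine ⟨MulAction.stabilizer _ x, ?_⟩
  rw [MulAction.index_stabilizer_of_transitive, Set.powersetCard.card, Nat.card_fin]
  rfl

theorem exists_index_eight : ∃ H : Subgroup (Equiv.Perm (Fin 8)), H.index = 35 := by
  let s : Finset (Fin 8) := {0, 1, 2, 3}
  let T0 : Finset (Finset (Fin 8)) := {s, sᶜ}
  refine ⟨MulAction.stabilizer _ T0, ?_⟩
  have hcompl : ∀ g : Equiv.Perm (Fin 8), g • sᶜ = (g • s)ᶜ := by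
    intro g; ext y
    simp only [Finset.mem_compl, Finset.mem_smul_finset]
    constructor
    · rintro ⟨u, hu, rfl⟩ ⟨v, hv, e⟩
      exact hu (smul_left_cancel g e ▸ hv)
    · intro h
      exact ⟨g⁻¹ • y, fun hu => h ⟨_, hu, smul_inv_smul g y⟩, smul_inv_smul g y⟩
  have horb : MulAction.orbit (Equiv.Perm (Fin 8)) T0 =
      ↑(((Finset.univ : Finset (Fin 8)).powersetCard 4).image fun t => ({t, tᶜ} : Finset (Finset (Fin 8)))) := by
    ext T
    simp only [MulAction.mem_orbit_iff, Finset.coe_image, Set.mem_image, Finset.mem_coe,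
      Finset.mem_powersetCard_univ]
    constructor
    · rintro ⟨g, rfl⟩
      refine ⟨g • s, by rw [Finset.card_smul_finset]; rfl, ?_⟩
      rw [show g • T0 = ({g • s, g • sᶜ} : Finset (Finset (Fin 8))) by
        simp [T0, Finset.smul_finset_insert, Finset.smul_finset_singleton], hcompl]
    · rintro ⟨t, ht, rfl⟩
      haveI := Set.powersetCard.isPretransitive (α := Fin 8) (n := 4)
      obtain ⟨g, hg⟩ := MulAction.exists_smul_eq (Equiv.Perm (Fin 8))
        (⟨s, rfl⟩ : Set.powersetCard (Fin 8) 4) ⟨t, ht⟩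
      refine ⟨g, ?_⟩
      have hg' : g • s = t := congrArg Subtype.val hg
      rw [show g • T0 = ({g • s, g • sᶜ} : Finset (Finset (Fin 8))) by
        simp [T0, Finset.smul_finset_insert, Finset.smul_finset_singleton], hcompl, hg']
  rw [MulAction.index_stabilizer, horb, Set.ncard_coe_finset]
  decide +kernel


/-- Let `π` be a set of primes and `n` a natural number such that at least two primes of `π` divide `n!` but not every prime dividing `n!` lies in `π`. Then the symmetric group of degree `n` has a Hall `π`-subgroup if and only if either `n` is prime and the primes of `π` dividing `n!` are exactly the primes smaller than `n` (a point stabilizer is then such a subgroup), or `n ∈ {7, 8}` and the primes of `π` dividing `n!` are exactly 2 and 3. -/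
theorem result (n : ℕ) (π : Set ℕ)
    (h2 : ∃ r s : ℕ, r.Prime ∧ s.Prime ∧ r ≠ s ∧ r ∈ π ∧ s ∈ π ∧ r ≤ n ∧ s ≤ n)
    (hns : ∃ r : ℕ, r.Prime ∧ r ≤ n ∧ r ∉ π) :
    Cfsg.IsEPiGroup π (Equiv.Perm (Fin n)) ↔
      ((n.Prime ∧ ∀ r : ℕ, r.Prime → r ≤ n → (r ∈ π ↔ r < n)) ∨
       ((n = 7 ∨ n = 8) ∧ ∀ r : ℕ, r.Prime → r ≤ n → (r ∈ π ↔ (r = 2 ∨ r = 3)))) := by
  obtain ⟨r, s, hr, hs, hrs, hrπ, hsπ, hrn, hsn⟩ := h2
  constructor
  · rintro ⟨H, hH, hI⟩
    by_cases h2π : 2 ∈ π
    · have hodd : ∃ q : ℕ, q.Prime ∧ q ≠ 2 ∧ q ∈ π ∧ q ≤ Fintype.card (Fin n) := by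
        rw [Fintype.card_fin]
        by_cases e : r = 2
        · exact ⟨s, hs, fun h => hrs (e.trans h.symm), hsπ, hsn⟩
        · exact ⟨r, hr, e, hrπ, hrn⟩
      obtain ⟨x, hπ, hc⟩ := H60.HallSym.classify H hH hI h2π hodd
        (by simpa only [Fintype.card_fin] using hns)
      simp only [Fintype.card_fin] at hπ hc
      rcases hc with ⟨hp, hY⟩ | ⟨h78, hY, -⟩
      · refine Or.inl ⟨hp, fun t ht htn => ?_⟩
        rw [hπ t ht htn]
        omega
      · refine Or.inr ⟨h78, fun t ht htn => ?_⟩
        rw [hπ t ht htn, hY]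
        constructor
        · intro h
          have := ht.two_le
          rcases (show t = 2 ∨ t = 3 ∨ t = 4 by omega) with e | e | e
          · exact Or.inl e
          · exact Or.inr e
          · subst e; exact absurd ht (by norm_num)
        · omega
    · exact absurd (H60.HallSym.one_prime_of_odd H hH hI h2π hr hs hrπ hsπ
        (by rwa [Fintype.card_fin]) (by rwa [Fintype.card_fin])) hrs
  · rintro (⟨hp, hπ⟩ | ⟨h78, hπ⟩)
    · have hn2 := hp.two_le
      obtain ⟨k, rfl⟩ : ∃ k, n = k + 1 := ⟨n - 1, by omega⟩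
      refine ⟨MulAction.stabilizer (Equiv.Perm (Fin (k + 1))) (Fin.last k),
        isPiHall_of_index _ (k := k + 1) (by rw [MulAction.index_stabilizer_of_transitive, Nat.card_fin]) ?_ ?_⟩
      · intro t ht htd
        rw [Nat.factorial_succ, Nat.mul_div_cancel_left _ (by omega)] at htd
        have := ht.dvd_factorial.mp htd
        exact (hπ t ht (by omega)).mpr (by omega)
      · intro t ht htπ hd
        have htn := (Nat.prime_dvd_prime_iff_eq ht hp).mp hd
        have := (hπ t ht (by omega)).mp htπ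
        omega
    · rcases h78 with rfl | rfl
      · obtain ⟨H, hH⟩ := exists_index_seven
        refine ⟨H, isPiHall_of_index H hH ?_ ?_⟩
        · intro t ht htd
          have h23 := two_three_of_dvd (a := 4) (b := 2) ht (by simpa [Nat.factorial] using htd)
          exact (hπ t ht (by omega)).mpr h23
        · intro t ht htπ hd
          have := Nat.le_of_dvd (by norm_num) hd
          rcases Nat.lt_or_ge 7 t with h | h
          · interval_cases t <;> first | omega | (revert ht; norm_num; done) | (revert hd; norm_num; done)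
          · rcases (hπ t ht h).mp htπ with rfl | rfl <;> norm_num at hd
      · obtain ⟨H, hH⟩ := exists_index_eight
        refine ⟨H, isPiHall_of_index H hH ?_ ?_⟩
        · intro t ht htd
          have h23 := two_three_of_dvd (a := 7) (b := 2) ht (by simpa [Nat.factorial] using htd)
          exact (hπ t ht (by omega)).mpr h23
        · intro t ht htπ hd
          have := Nat.le_of_dvd (by norm_num) hd
          rcases Nat.lt_or_ge 8 t with h | h
          · interval_cases t <;> first | omega | (revert ht; norm_num; done) | (revert hd; norm_num; done)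
          · rcases (hπ t ht h).mp htπ with rfl | rfl <;> norm_num at hd

end Cfsg.Agent.S2536
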