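import Cfsg.Statements.S2537
import Cfsg.Agent.H39.Dickson
import Cfsg.Agent.H39.Platonic
import Cfsg.Agent.H39.MaxDihedral
import Cfsg.Agent.H39.MinSimple
import Cfsg.Agent.H1.Hall
-- import your own Cfsg.Agent.* helpers here

set_option autoImplicit false
open Cfsg
set_option linter.style.haveILetI false

namespace Cfsg.Agent.S2537

/-- The `{2,3}`-part. -/
def part (m : ℕ) : ℕ := 2 ^ m.factorization 2 * 3 ^ m.factorization 3

lemma part_mul {a b : ℕ} (ha : a ≠ 0) (hb : b ≠ 0) : part (a * b) = part a * part b := by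
  simp only [part, Nat.factorization_mul ha hb, Finsupp.add_apply, pow_add]
  ring

lemma part_dvd (m : ℕ) : part m ∣ m :=
  ((Nat.coprime_primes Nat.prime_two Nat.prime_three).2 (by norm_num)).pow _ _ |>.mul_dvd_of_dvd_of_dvd
    (Nat.ordProj_dvd m 2) (Nat.ordProj_dvd m 3)

lemma part_eq_one {m : ℕ} (h2 : ¬ 2 ∣ m) (h3 : ¬ 3 ∣ m) : part m = 1 := by
  rw [part, Nat.factorization_eq_zero_of_not_dvd h2, Nat.factorization_eq_zero_of_not_dvd h3]; rfl

lemma part_two : part 2 = 2 := by
  rw [part, Nat.prime_two.factorization]; simp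

lemma not_dvd_div_part {m r : ℕ} (hm : m ≠ 0) (hr : r = 2 ∨ r = 3) : ¬ r ∣ m / part m := by
  intro h
  have hrp : r.Prime := by
    rcases hr with rfl | rfl
    · exact Nat.prime_two
    · exact Nat.prime_three
  have h1 : part m * r ∣ m := (Nat.dvd_div_iff_mul_dvd (part_dvd m)).1 h
  refine Nat.pow_succ_factorization_not_dvd hm hrp (dvd_trans ?_ h1)
  rw [pow_succ]
  refine Nat.mul_dvd_mul_right ?_ r
  rcases hr with rfl | rfl
  · exact dvd_mul_right _ _
  · exact dvd_mul_left _ _

lemma coprime_div_part {m : ℕ} (hm : m ≠ 0) : Nat.Coprime (part m) (m / part m) :=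
  Nat.Coprime.mul_left
    (Nat.Coprime.pow_left _ (Nat.prime_two.coprime_iff_not_dvd.2 (not_dvd_div_part hm (Or.inl rfl))))
    (Nat.Coprime.pow_left _ (Nat.prime_three.coprime_iff_not_dvd.2 (not_dvd_div_part hm (Or.inr rfl))))

lemma isPiHall_iff {G : Type*} [Group G] [Finite G] (H : Subgroup G) :
    Cfsg.IsPiHall ({2, 3} : Set ℕ) H ↔ Nat.card H = part (Nat.card G) := by
  have hm : Nat.card G ≠ 0 := Nat.card_pos.ne'
  have hci := H.card_mul_index
  constructor
  · rintro ⟨h1, h2⟩
    refine Nat.dvd_antisymm ?_ ?_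
    · rw [Nat.dvd_iff_prime_pow_dvd_dvd]
      intro r k hr hrk
      rcases Nat.eq_zero_or_pos k with rfl | hk
      · simp
      have hkf : k ≤ (Nat.card G).factorization r :=
        (hr.pow_dvd_iff_le_factorization hm).1 (hrk.trans H.card_subgroup_dvd_card)
      rcases h1 r hr ((dvd_pow_self r hk.ne').trans hrk) with rfl | e
      · exact (pow_dvd_pow 2 hkf).trans (dvd_mul_right _ _)
      · rw [Set.mem_singleton_iff] at e
        subst e
        exact (pow_dvd_pow 3 hkf).trans (dvd_mul_left _ _)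
    · have hcop : Nat.Coprime (part (Nat.card G)) H.index :=
        Nat.Coprime.mul_left (Nat.Coprime.pow_left _ (Nat.prime_two.coprime_iff_not_dvd.2 (h2 2 Nat.prime_two (by simp))))
          (Nat.Coprime.pow_left _ (Nat.prime_three.coprime_iff_not_dvd.2 (h2 3 Nat.prime_three (by simp))))
      exact hcop.dvd_of_dvd_mul_right (hci.symm ▸ part_dvd _)
  · intro h
    refine ⟨fun r hr hrd => ?_, fun r hr hrm => ?_⟩
    · rw [h, part] at hrd
      rcases hr.dvd_mul.1 hrd with e | e
      · exact Or.inl ((Nat.prime_dvd_prime_iff_eq hr Nat.prime_two).1 (hr.dvd_of_dvd_pow e))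
      · exact Or.inr ((Nat.prime_dvd_prime_iff_eq hr Nat.prime_three).1 (hr.dvd_of_dvd_pow e))
    · have hidx : H.index = Nat.card G / part (Nat.card G) := by
        rw [← h]
        nth_rw 1 [← hci]
        rw [Nat.mul_div_cancel_left _ Nat.card_pos]
      rw [hidx]
      exact not_dvd_div_part hm (by simpa using hrm)

/-- Let `F` be a finite field with `q` elements of characteristic `p ≥ 5`, and `ε = 1` if `q ≡ 1 (mod 4)`, `ε = -1` otherwise. Then `PSL(2, F)` has a Hall `{2, 3}`-subgroup if and only if `3` divides `q − ε`, or the `{2,3}`-part of `q² − 1` is 24, or the `{2,3}`-part of `q² − 1` is 48 (the `{2,3}`-part of `m` being the largest divisor of `m` with no prime factor other than 2 and 3). -/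
theorem result {F : Type*} [Field F] [Fintype F] {p : ℕ} [Fact p.Prime] [CharP F p]
    (hp : 5 ≤ p) (q : ℕ) (hq : Fintype.card F = q) :
    (∃ H : Subgroup (Matrix.ProjectiveSpecialLinearGroup (Fin 2) F), Cfsg.IsPiHall ({2, 3} : Set ℕ) H) ↔
      (3 ∣ q - 1 ∧ q % 4 = 1) ∨ (3 ∣ q + 1 ∧ q % 4 = 3) ∨
        2 ^ (q ^ 2 - 1).factorization 2 * 3 ^ (q ^ 2 - 1).factorization 3 = 24 ∨
        2 ^ (q ^ 2 - 1).factorization 2 * 3 ^ (q ^ 2 - 1).factorization 3 = 48 := by
  classical
  have hp' : p.Prime := Fact.out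
  obtain ⟨n, -, hn⟩ := FiniteField.card F p
  have hqn : q = p ^ (n : ℕ) := hq ▸ hn
  have h2q : ¬ 2 ∣ q := fun h => by
    have := (Nat.prime_dvd_prime_iff_eq Nat.prime_two hp').1 (Nat.prime_two.dvd_of_dvd_pow (hqn ▸ h))
    omega
  have h3q : ¬ 3 ∣ q := fun h => by
    have := (Nat.prime_dvd_prime_iff_eq Nat.prime_three hp').1 (Nat.prime_three.dvd_of_dvd_pow (hqn ▸ h))
    omega
  have hq5 : 5 ≤ q := hp.trans (hqn ▸ Nat.le_self_pow n.ne_zero p)
  have hd : Nat.gcd 2 (Fintype.card F - 1) = 2 := Nat.gcd_eq_left (by omega)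
  have hG : Nat.card (Matrix.ProjectiveSpecialLinearGroup (Fin 2) F) = q * ((q - 1) / 2) * (q + 1) := by
    rw [H39.card_G2_eq, hd, hq]
  have hfac : q ^ 2 - 1 = (q + 1) * (q - 1) := by rw [← Nat.sq_sub_sq, one_pow]
  have hsq : q ^ 2 - 1 = 2 * ((q - 1) / 2) * (q + 1) := by
    rw [show 2 * ((q - 1) / 2) = q - 1 by omega, mul_comm, hfac]
  set M := part (Nat.card (Matrix.ProjectiveSpecialLinearGroup (Fin 2) F)) with hMdef
  have hM : M = part ((q - 1) / 2) * part (q + 1) := by
    rw [hMdef, hG, part_mul (mul_ne_zero (by omega) (by omega)) (by omega), part_mul (by omega) (by omega),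
      part_eq_one h2q h3q, one_mul]
  have hM2 : 2 ^ (q ^ 2 - 1).factorization 2 * 3 ^ (q ^ 2 - 1).factorization 3 = 2 * M := by
    show part (q ^ 2 - 1) = _
    rw [hsq, part_mul (mul_ne_zero two_ne_zero (by omega)) (by omega), part_mul two_ne_zero (by omega), part_two, hM,
      mul_assoc]
  rw [hM2]
  constructor
  · rintro ⟨H, hH⟩
    rw [isPiHall_iff, ← hMdef] at hH
    have hM4 : 4 ∣ M ∧ 3 ∣ M := by
      have h8 : 2 ^ 3 ∣ q ^ 2 - 1 := by
        rw [hfac]
        obtain ⟨t, ht⟩ : ∃ t, q = 2 * t + 1 := ⟨q / 2, by omega⟩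
        rw [ht, show 2 * t + 1 - 1 = 2 * t by omega, show (2 * t + 1 + 1) * (2 * t) = 4 * (t * (t + 1)) by ring]
        obtain ⟨c, hc⟩ := (Nat.even_mul_succ_self t).two_dvd
        exact ⟨c, by rw [hc]; ring⟩
      have h3 : 3 ∣ q ^ 2 - 1 := by
        rw [hfac]
        rcases (show q % 3 = 1 ∨ q % 3 = 2 by omega) with h | h
        · exact dvd_mul_of_dvd_right (show 3 ∣ q - 1 by omega) _
        · exact dvd_mul_of_dvd_left (show 3 ∣ q + 1 by omega) _
      have hne : q ^ 2 - 1 ≠ 0 := by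
        have := Nat.pow_le_pow_left hq5 2
        omega
      have e2 : 2 ^ 3 ∣ 2 * M := hM2 ▸ dvd_mul_of_dvd_left
        (pow_dvd_pow 2 ((Nat.prime_two.pow_dvd_iff_le_factorization hne).1 h8)) _
      have e3 : 3 ∣ 2 * M := hM2 ▸ dvd_mul_of_dvd_right
        (dvd_pow_self 3 (Nat.prime_three.factorization_pos_of_dvd hne h3).ne') _
      exact ⟨Nat.dvd_of_mul_dvd_mul_left two_pos e2,
        ((Nat.coprime_primes Nat.prime_three Nat.prime_two).2 (by norm_num)).dvd_of_dvd_mul_left e3⟩
    have htor : ∀ k, 2 ∣ k → 3 ∣ k → (k ∣ (Fintype.card F + 1) / Nat.gcd 2 (Fintype.card F - 1) ∨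
        k ∣ (Fintype.card F - 1) / Nat.gcd 2 (Fintype.card F - 1)) →
        (3 ∣ q - 1 ∧ q % 4 = 1) ∨ (3 ∣ q + 1 ∧ q % 4 = 3) := by
      intro k hk2 hk3 hk
      rw [hd, hq] at hk
      rcases hk with hk | hk
      · have := hk2.trans hk
        have := hk3.trans hk
        omega
      · have := hk2.trans hk
        have := hk3.trans hk
        omega
    cases H39.dickson p H with
    | cyclic _ hk =>
      rw [hH] at hk
      exact (htor M ((show 2 ∣ 4 by norm_num).trans hM4.1) hM4.2 hk).imp_right Or.inl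
    | dihedral k hc hk =>
      obtain ⟨e⟩ := hc
      have hMk : M = 2 * k := by rw [← hH, Nat.card_congr e.toEquiv, DihedralGroup.nat_card]
      have hk3 : 3 ∣ k := ((Nat.coprime_primes Nat.prime_three Nat.prime_two).2 (by norm_num)).dvd_of_dvd_mul_left
        (hMk ▸ hM4.2)
      have hk2 : 2 ∣ k := Nat.dvd_of_mul_dvd_mul_left two_pos (show 2 * 2 ∣ 2 * k from hMk ▸ hM4.1)
      exact (htor k hk2 hk3 hk).imp_right Or.inl
    | borel _ _ hz =>
      obtain ⟨z, hzH, hz1, hzp⟩ := hz
      have hp1 : p ∣ Nat.card H := by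
        rw [← orderOf_eq_prime hzp hz1]; exact H.orderOf_dvd_natCard hzH
      rw [hH, hMdef, part] at hp1
      rcases hp'.dvd_mul.1 hp1 with h | h
      · have := (Nat.prime_dvd_prime_iff_eq hp' Nat.prime_two).1 (hp'.dvd_of_dvd_pow h); omega
      · have := (Nat.prime_dvd_prime_iff_eq hp' Nat.prime_three).1 (hp'.dvd_of_dvd_pow h); omega
    | a4 h =>
      obtain ⟨e⟩ := h
      rw [Nat.card_congr e.toEquiv, nat_card_alternatingGroup, Nat.card_eq_fintype_card, Fintype.card_fin] at hH
      refine Or.inr (Or.inr (Or.inl ?_))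
      rw [← hH]; rfl
    | s4 h =>
      obtain ⟨e⟩ := h
      rw [Nat.card_congr e.toEquiv, Nat.card_perm, Nat.card_eq_fintype_card, Fintype.card_fin] at hH
      refine Or.inr (Or.inr (Or.inr ?_))
      rw [← hH]; rfl
    | a5 h =>
      obtain ⟨e⟩ := h
      rw [Nat.card_congr e.toEquiv, nat_card_alternatingGroup, Nat.card_eq_fintype_card, Fintype.card_fin] at hH
      have h5 : 5 ∣ M := by rw [← hH]; decide
      rw [hMdef, part] at h5
      rcases (Nat.Prime.dvd_mul (by norm_num)).1 h5 with h | h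
      · have := Nat.Prime.dvd_of_dvd_pow (by norm_num : Nat.Prime 5) h; norm_num at this
      · have := Nat.Prime.dvd_of_dvd_pow (by norm_num : Nat.Prime 5) h; norm_num at this
    | field P K _ he =>
      exfalso
      haveI : Fintype K := Fintype.ofFinite K
      haveI : CharP K p := K.subtype.charP K.subtype.injective p
      obtain ⟨j, -, hj⟩ := FiniteField.card K p
      have hpK : p ∣ Fintype.card K * (Fintype.card K ^ 2 - 1) := (hj ▸ dvd_pow_self p j.ne_zero).mul_right _
      have hp1 : p ∣ 2 * Nat.card H := by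
        rcases he with ⟨⟨e⟩⟩ | ⟨⟨e⟩⟩
        · rw [Nat.card_congr e.toEquiv, H39.card_PGL2]
          exact hpK.mul_left 2
        · rw [← H39.card_PSL2_mul, ← Nat.card_congr e.toEquiv] at hpK
          exact hpK.trans (Nat.mul_dvd_mul_right (Nat.gcd_dvd_left _ _) _)
      rw [hH, hMdef, part] at hp1
      rcases hp'.dvd_mul.1 hp1 with h | h
      · have := (Nat.prime_dvd_prime_iff_eq hp' Nat.prime_two).1 h; omega
      rcases hp'.dvd_mul.1 h with h | h
      · have := (Nat.prime_dvd_prime_iff_eq hp' Nat.prime_two).1 (hp'.dvd_of_dvd_pow h); omega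
      · have := (Nat.prime_dvd_prime_iff_eq hp' Nat.prime_three).1 (hp'.dvd_of_dvd_pow h); omega
  · have htorus : ∀ (y : Matrix.ProjectiveSpecialLinearGroup (Fin 2) F) (t : ℕ), y ^ p ≠ 1 →
        Nat.card (H39.tor y) = t → part (2 * t) = M →
        ∃ H : Subgroup (Matrix.ProjectiveSpecialLinearGroup (Fin 2) F), Cfsg.IsPiHall ({2, 3} : Set ℕ) H := by
      intro y t hy ht hpart
      obtain ⟨e⟩ := H39.normalizer_tor_dihedral p hy
      haveI := H39.dihedral_solvable (Nat.card (H39.tor y))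
      set N := Subgroup.normalizer (H39.tor y : Set (Matrix.ProjectiveSpecialLinearGroup (Fin 2) F))
      haveI : Group.IsSolvable N := Group.isSolvable_of_isSolvable_injective (f := e.toMonoidHom) e.injective
      have hN : Nat.card N = 2 * t := by rw [(H39.tor_trichotomy p hy).2.1, ht]
      have ht0 : 2 * t ≠ 0 := hN ▸ Nat.card_pos.ne'
      obtain ⟨H, hH⟩ := H1.hall_exists (G := N) (part (2 * t)) (2 * t / part (2 * t))
        (by rw [hN, Nat.mul_div_cancel' (part_dvd _)]) (coprime_div_part ht0)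
      refine ⟨H.map N.subtype, (isPiHall_iff _).2 ?_⟩
      rw [Subgroup.card_map_of_injective N.subtype_injective, hH, hpart]
    rintro (⟨h3, h4⟩ | ⟨h3, h4⟩ | h | h)
    · obtain ⟨y, hy, hcy⟩ := H39.exists_tor_minus p (F := F) (by rw [hd]; omega)
      rw [hd, hq] at hcy
      refine htorus y _ hy hcy ?_
      have hodd : part ((q + 1) / 2) = 1 := part_eq_one (by omega) (by omega)
      have h1 : part (q + 1) = 2 := by
        rw [show q + 1 = 2 * ((q + 1) / 2) by omega, part_mul two_ne_zero (by omega), part_two, hodd]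
      rw [hM, part_mul two_ne_zero (by omega), part_two, h1, mul_comm]
    · obtain ⟨y, hy, hcy⟩ := H39.exists_tor_plus p (F := F)
      rw [hd, hq] at hcy
      refine htorus y _ hy hcy ?_
      have hodd : part ((q - 1) / 2) = 1 := part_eq_one (by omega) (by omega)
      rw [hM, hodd, one_mul, show 2 * ((q + 1) / 2) = q + 1 by omega]
    · obtain ⟨H, ⟨e⟩⟩ := (H39.exists_alt4_iff p (F := F) hn).2 (fun h' => by omega)
      refine ⟨H, (isPiHall_iff _).2 ?_⟩
      rw [← hMdef, Nat.card_congr e.toEquiv, nat_card_alternatingGroup, Nat.card_eq_fintype_card, Fintype.card_fin]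
      rw [show M = 12 by omega]; rfl
    · obtain ⟨H, ⟨e⟩⟩ := (H39.exists_perm4_iff p (F := F)).2 (by
        have h16 : 16 ∣ q ^ 2 - 1 := by
          refine (?_ : 16 ∣ part (q ^ 2 - 1)).trans (part_dvd _)
          show 16 ∣ 2 ^ _ * 3 ^ _
          rw [hM2, h]; norm_num
        have := Nat.one_le_pow 2 q (by omega)
        rw [hq]
        omega)
      refine ⟨H, (isPiHall_iff _).2 ?_⟩
      rw [← hMdef, Nat.card_congr e.toEquiv, Nat.card_perm, Nat.card_eq_fintype_card, Fintype.card_fin]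
      rw [show M = 24 by omega]; rfl

end Cfsg.Agent.S2537
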