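import Cfsg.Statements.S2538
import Cfsg.Agent.H60.HallAltMain

set_option autoImplicit false
open Cfsg

namespace Cfsg.Agent.S2538

/-- For every `n` and every set of primes `π`, a subgroup of the alternating group of degree `n` is a Hall `π`-subgroup of it if and only if it is the intersection with the alternating group of some Hall `π`-subgroup of the symmetric group of degree `n`. -/
theorem result (n : ℕ) (π : Set ℕ)
    (M : Subgroup ↥(alternatingGroup (Fin n))) :
    Cfsg.IsPiHall π M ↔ ∃ M₀ : Subgroup (Equiv.Perm (Fin n)), Cfsg.IsPiHall π M₀ ∧ M = M₀.subgroupOf (alternatingGroup (Fin n)) := by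
  constructor
  · intro h
    obtain ⟨K, hK, hKM⟩ := H60.HallAlt.exists_hall (π := π) (M := M.map (alternatingGroup (Fin n)).subtype)
      (Subgroup.map_subtype_le M)
      (fun r hr hd => h.1 r hr (by
        rwa [Nat.card_congr (Subgroup.equivMapOfInjective M _ (alternatingGroup (Fin n)).subtype_injective).toEquiv]))
      (fun r hr hrπ hd => h.2 r hr hrπ (by
        rwa [Subgroup.relIndex, Subgroup.subgroupOf,
          Subgroup.comap_map_eq_self_of_injective (alternatingGroup (Fin n)).subtype_injective] at hd))
    refine ⟨K, hK, ?_⟩
    rw [← Subgroup.inf_subgroupOf_right, hKM, Subgroup.subgroupOf,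
      Subgroup.comap_map_eq_self_of_injective (alternatingGroup (Fin n)).subtype_injective]
  · rintro ⟨K, hK, rfl⟩
    exact H60.HallAlt.hall_subgroupOf hK

end Cfsg.Agent.S2538
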