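import Cfsg.Statements.S2541
import Mathlib

set_option autoImplicit false
open Cfsg

namespace Cfsg.Agent.S2541

/-- Let F be a field with 9 elements. The symmetric group S_6 is not isomorphic to PGL_2(F) (although both have index-2 subgroups isomorphic to A_6). -/
theorem result {F : Type*} [Field F] [Fintype F] (hF : Fintype.card F = 9) : ¬ Nonempty (Equiv.Perm (Fin 6) ≃* Matrix.ProjGenLinGroup (Fin 2) F) := by
  rintro ⟨e⟩
  classical
  let D : Fˣ →* Matrix.GeneralLinearGroup (Fin 2) F :=
    MonoidHom.toHomUnits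
      { toFun := fun u => Matrix.diagonal ![(u : F), 1]
        map_one' := by ext i j; fin_cases i <;> fin_cases j <;> simp
        map_mul' := fun a b => by
          rw [Matrix.diagonal_mul_diagonal]
          congr 1; ext i; fin_cases i <;> simp }
  let φ : Fˣ →* Matrix.ProjGenLinGroup (Fin 2) F := Matrix.ProjGenLinGroup.mk.comp D
  have hinj : Function.Injective φ := by
    rw [injective_iff_map_eq_one]
    intro u hu
    obtain ⟨a, ha⟩ := Matrix.GeneralLinearGroup.mem_center_iff_val_mem_range_scalar.mp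
      (Matrix.ProjGenLinGroup.mk_eq_one.mp hu)
    have h0 := congrFun (congrFun ha 0) 0
    have h1 := congrFun (congrFun ha 1) 1
    simp [D] at h0 h1
    ext
    rw [← h0, h1]
    simp
  obtain ⟨u, hu⟩ := IsCyclic.exists_ofOrder_eq_natCard (α := Fˣ)
  rw [Nat.card_eq_fintype_card, Fintype.card_units, hF] at hu
  have h8 : orderOf (e.symm (φ u)) = 8 := by
    rw [MulEquiv.orderOf_eq, orderOf_injective φ hinj, hu]
  obtain ⟨σ, hσ⟩ : ∃ σ : Equiv.Perm (Fin 6), σ = e.symm (φ u) := ⟨_, rfl⟩
  rw [← hσ, ← Equiv.Perm.lcm_cycleType] at h8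
  have h4 : σ.cycleType.lcm ∣ 4 := by
    refine Multiset.lcm_dvd.mpr fun m hm => ?_
    have hd : m ∣ 8 := h8 ▸ Multiset.dvd_lcm hm
    have hle : m ≤ 6 := le_trans (Equiv.Perm.le_card_support_of_mem_cycleType hm)
      (le_trans (Finset.card_le_univ _) (by simp))
    have : m ∣ 2 ^ 3 := by simpa using hd
    obtain ⟨i, hi, rfl⟩ := (Nat.dvd_prime_pow Nat.prime_two).mp this
    interval_cases i <;> first | omega | (norm_num; done) | exact absurd hle (by norm_num)
  rw [h8] at h4
  norm_num at h4

end Cfsg.Agent.S2541
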