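import Cfsg.Statements.S2542
import Cfsg.Agent.H41.PSL11Conj
-- import your own Cfsg.Agent.* helpers here

set_option autoImplicit false
open Cfsg

namespace Cfsg.Agent.S2542

/-- Let F be a field with 11 elements. PSL_2(F) has a subgroup H of index 11 isomorphic to the alternating group A_5, and the action of PSL_2(F) on the cosets of H is 2-transitive (of degree 11). -/
theorem result {F : Type*} [Field F] [Fintype F] (hF : Fintype.card F = 11) : ∃ H : Subgroup (Matrix.ProjectiveSpecialLinearGroup (Fin 2) F), H.index = 11 ∧ Nonempty (H ≃* alternatingGroup (Fin 5)) ∧ MulAction.IsMultiplyPretransitive (Matrix.ProjectiveSpecialLinearGroup (Fin 2) F) ((Matrix.ProjectiveSpecialLinearGroup (Fin 2) F) ⧸ H) 2 := by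
  classical
  let e := H41.ringEquivEleven hF
  have hG := H41.card_psl11 hF
  refine ⟨H41.icoOne e, ?_, H41.icoOne_iso e, ?_⟩
  · have h := (H41.icoOne e).card_mul_index
    rw [H41.card_icoOne e, hG] at h
    omega
  obtain ⟨-, -, -, -, -, hg0, -⟩ := H41.Q11.elY_mem
  have key : ∀ a b : Matrix.ProjectiveSpecialLinearGroup (Fin 2) F ⧸ H41.icoOne e, a ≠ b →
      ∃ g : Matrix.ProjectiveSpecialLinearGroup (Fin 2) F, g • (((1 : Matrix.ProjectiveSpecialLinearGroup (Fin 2) F)) :
          Matrix.ProjectiveSpecialLinearGroup (Fin 2) F ⧸ H41.icoOne e) = a ∧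
        g • ((H41.Q11.el e H41.Q11.g0 : Matrix.ProjectiveSpecialLinearGroup (Fin 2) F) :
          Matrix.ProjectiveSpecialLinearGroup (Fin 2) F ⧸ H41.icoOne e) = b := by
    intro a b hab
    obtain ⟨A, rfl⟩ := QuotientGroup.mk_surjective a
    obtain ⟨B, rfl⟩ := QuotientGroup.mk_surjective b
    rw [Ne, QuotientGroup.eq] at hab
    obtain ⟨x, hx, hxe⟩ := H41.Q11.el_surjective e (A⁻¹ * B)
    obtain ⟨xa, xb, xc, xd⟩ := x
    rcases H41.Q11.cover_ten xa xb xc xd hx with h | h
    · exact absurd (hxe ▸ (H41.Q11.mem_sub e H41.Q11.closed_lists.1 H41.Q11.closed_lists.2.2.2.2.1 hx).2 h) hab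
    obtain ⟨h, hh, hmem⟩ := List.any_eq_true.1 h
    obtain ⟨h', hh', he⟩ : ∃ y ∈ H41.Q11.listOne, H41.Q11.el e y = H41.Q11.el e h := by
      have hh1 := H41.Q11.ten_mem h hh
      simp only [H41.Q11.memQ, List.any_eq_true, Bool.or_eq_true, decide_eq_true_eq] at hh1
      obtain ⟨y, hy, hyh⟩ := hh1
      have hdy := H41.Q11.det_of_closed H41.Q11.closed_lists.1 y hy
      rcases hyh with rfl | rfl
      · exact ⟨y, hy, rfl⟩
      · refine ⟨_, hy, ?_⟩
        rw [H41.Q11.det_neg] at hdy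
        exact ((H41.Q11.el_eq_iff e hdy (by rw [H41.Q11.det_neg]; exact hdy)).2 (Or.inr rfl)).symm
    have hdh : h.det = 1 := by
      have hh1 := H41.Q11.ten_mem h hh
      simp only [H41.Q11.memQ, List.any_eq_true, Bool.or_eq_true, decide_eq_true_eq] at hh1
      obtain ⟨y, hy, rfl | rfl⟩ := hh1
      · exact H41.Q11.det_of_closed H41.Q11.closed_lists.1 y hy
      · have := H41.Q11.det_of_closed H41.Q11.closed_lists.1 _ hy
        rwa [H41.Q11.det_neg] at this
    have hdm : (H41.Q11.mul h H41.Q11.g0).det = 1 := by rw [H41.Q11.det_mul, hdh, hg0, one_mul]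
    have hmem' := (H41.Q11.mem_sub e H41.Q11.closed_lists.1 H41.Q11.closed_lists.2.2.2.2.1
      (by rw [H41.Q11.det_mul, H41.Q11.det_adj, hdm, hx, one_mul])).2 hmem
    rw [H41.Q11.el_mul e (by rw [H41.Q11.det_adj, hdm]) hx, H41.Q11.el_adj e hdm, H41.Q11.el_mul e hdh hg0, hxe] at hmem'
    refine ⟨A * H41.Q11.el e h, ?_, ?_⟩
    · rw [MulAction.Quotient.smul_coe, smul_eq_mul, mul_one, eq_comm, QuotientGroup.eq, inv_mul_cancel_left]
      exact ⟨h', hh', he⟩
    · rw [MulAction.Quotient.smul_coe, smul_eq_mul, QuotientGroup.eq]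
      show _ ∈ H41.Q11.sub e _ _ _
      convert hmem' using 1
      group
  rw [MulAction.is_two_pretransitive_iff]
  intro a b c d hab hcd
  obtain ⟨g, hga, hgb⟩ := key a b hab
  obtain ⟨g', hgc, hgd⟩ := key c d hcd
  exact ⟨g' * g⁻¹, by rw [mul_smul, ← hga, inv_smul_smul, hgc], by rw [mul_smul, ← hgb, inv_smul_smul, hgd]⟩

end Cfsg.Agent.S2542
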