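import Cfsg.Statements.S2543
import Cfsg.Agent.H41.PSL11Conj
-- import your own Cfsg.Agent.* helpers here

set_option autoImplicit false
open scoped Pointwise
open Cfsg

namespace Cfsg.Agent.S2543

/-- Let F be a field with 11 elements. PSL_2(F) has exactly 22 subgroups isomorphic to the alternating group A_5, and they form two conjugacy classes: there are two such subgroups that are not conjugate, and every such subgroup is conjugate to one of these two. -/
theorem result {F : Type*} [Field F] [Fintype F] (hF : Fintype.card F = 11) : Nat.card {H : Subgroup (Matrix.ProjectiveSpecialLinearGroup (Fin 2) F) // Nonempty (H ≃* alternatingGroup (Fin 5))} = 22 ∧ ∃ H K : Subgroup (Matrix.ProjectiveSpecialLinearGroup (Fin 2) F), Nonempty (H ≃* alternatingGroup (Fin 5)) ∧ Nonempty (K ≃* alternatingGroup (Fin 5)) ∧ (∀ g : Matrix.ProjectiveSpecialLinearGroup (Fin 2) F, MulAut.conj g • H ≠ K) ∧ ∀ L : Subgroup (Matrix.ProjectiveSpecialLinearGroup (Fin 2) F), Nonempty (L ≃* alternatingGroup (Fin 5)) → ∃ g :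 Matrix.ProjectiveSpecialLinearGroup (Fin 2) F, MulAut.conj g • L = H ∨ MulAut.conj g • L = K := by
  classical
  let e := H41.ringEquivEleven hF
  refine ⟨?_, H41.icoOne e, H41.icoTwo e, H41.icoOne_iso e, H41.icoTwo_iso e, H41.ico_not_conj hF e,
    fun L hL => H41.ico_conj hF e L hL⟩
  let orb : Subgroup (Matrix.ProjectiveSpecialLinearGroup (Fin 2) F) → Set (Subgroup (Matrix.ProjectiveSpecialLinearGroup (Fin 2) F)) :=
    fun H => Set.range fun g => H.map (MulAut.conj g).toMonoidHom
  have hiso : ∀ H : Subgroup (Matrix.ProjectiveSpecialLinearGroup (Fin 2) F), Nonempty (H ≃* alternatingGroup (Fin 5)) →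
      ∀ g, Nonempty ((H.map (MulAut.conj g).toMonoidHom : Subgroup _) ≃* alternatingGroup (Fin 5)) :=
    fun H ⟨φ⟩ g => ⟨(Subgroup.equivMapOfInjective H _ (MulEquiv.injective (MulAut.conj g))).symm.trans φ⟩
  have hset : {H : Subgroup (Matrix.ProjectiveSpecialLinearGroup (Fin 2) F) | Nonempty (H ≃* alternatingGroup (Fin 5))}
      = orb (H41.icoOne e) ∪ orb (H41.icoTwo e) := by
    ext L
    constructor
    · intro hL
      obtain ⟨g, h | h⟩ := H41.ico_conj hF e L hL
      · left
        refine ⟨g⁻¹, ?_⟩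
        show MulAut.conj g⁻¹ • H41.icoOne e = L
        rw [← h, map_inv, inv_smul_smul]
      · right
        refine ⟨g⁻¹, ?_⟩
        show MulAut.conj g⁻¹ • H41.icoTwo e = L
        rw [← h, map_inv, inv_smul_smul]
    · rintro (⟨g, rfl⟩ | ⟨g, rfl⟩)
      · exact hiso _ (H41.icoOne_iso e) g
      · exact hiso _ (H41.icoTwo_iso e) g
  have hdis : Disjoint (orb (H41.icoOne e)) (orb (H41.icoTwo e)) := by
    rw [Set.disjoint_left]
    rintro L ⟨g, rfl⟩ ⟨g', hg'⟩
    refine H41.ico_not_conj hF e (g'⁻¹ * g) ?_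
    have h : MulAut.conj g' • H41.icoTwo e = MulAut.conj g • H41.icoOne e := hg'
    rw [map_mul, mul_smul, ← h, map_inv, inv_smul_smul]
  have hc : ∀ H : Subgroup (Matrix.ProjectiveSpecialLinearGroup (Fin 2) F), Nat.card H = 60 → (orb H).ncard = 11 := by
    intro H hH
    rw [← Nat.card_coe_set_eq, H39.card_conjugates H, H41.normalizer_ico hF hH]
  show Nat.card {H : Subgroup (Matrix.ProjectiveSpecialLinearGroup (Fin 2) F) | Nonempty (H ≃* alternatingGroup (Fin 5))} = 22
  rw [Nat.card_coe_set_eq, hset, Set.ncard_union_eq hdis, hc _ (H41.card_icoOne e), hc _ (H41.card_icoTwo e)]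

end Cfsg.Agent.S2543
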