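import Cfsg.Statements.S2550
import Cfsg.Agent.H37.PSL34
import Cfsg.Agent.H37.SmallIsoBig
-- import your own Cfsg.Agent.* helpers here

set_option autoImplicit false
open Cfsg

namespace Cfsg.Agent.S2550

/-- Let F be a field with 2 elements and K a field with 4 elements. PSL_4(F) and PSL_3(K) have the same order (20160) but are not isomorphic. -/
theorem result {F K : Type*} [Field F] [Fintype F] [Field K] [Fintype K] (hF : Fintype.card F = 2) (hK : Fintype.card K = 4) : Nat.card (Matrix.ProjectiveSpecialLinearGroup (Fin 4) F) = Nat.card (Matrix.ProjectiveSpecialLinearGroup (Fin 3) K) ∧ ¬ Nonempty (Matrix.ProjectiveSpecialLinearGroup (Fin 4) F ≃* Matrix.ProjectiveSpecialLinearGroup (Fin 3) K) := by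
  have hcK := H37.card_PSL_fin (F := K) 3 (by norm_num)
  have hcF := H37.card_PSL_fin (F := F) 4 (by norm_num)
  rw [Nat.card_eq_fintype_card (α := K), hK] at hcK
  rw [Nat.card_eq_fintype_card (α := F), hF] at hcF
  norm_num [Fin.prod_univ_three, -Nat.card_eq_fintype_card] at hcK
  norm_num [Fin.prod_univ_four, -Nat.card_eq_fintype_card] at hcF
  refine ⟨by omega, ?_⟩
  rintro ⟨e⟩
  obtain ⟨φ⟩ := H37.PSL4_two_mulEquiv_alternating hF
  let a : alternatingGroup (Fin 8) := ⟨Equiv.swap 0 1 * Equiv.swap 2 3, Equiv.Perm.mem_alternatingGroup.2 (by decide)⟩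
  let b : alternatingGroup (Fin 8) :=
    ⟨Equiv.swap 0 1 * Equiv.swap 2 3 * Equiv.swap 4 5 * Equiv.swap 6 7, Equiv.Perm.mem_alternatingGroup.2 (by decide)⟩
  have ha : orderOf a = 2 := orderOf_eq_prime (Subtype.ext (by decide)) (by decide)
  have hb : orderOf b = 2 := orderOf_eq_prime (Subtype.ext (by decide)) (by decide)
  let ψ := φ.symm.trans e
  have hψ : IsConj (ψ a) (ψ b) := H37.isConj_involutions_PSL34 hK _ _
    ((MulEquiv.orderOf_eq ψ a).trans ha) ((MulEquiv.orderOf_eq ψ b).trans hb)
  have hab : IsConj a b := by simpa using ψ.symm.toMonoidHom.map_isConj hψ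
  have h := (alternatingGroup (Fin 8)).subtype.map_isConj hab
  rw [Equiv.Perm.isConj_iff_cycleType_eq] at h
  have h8 := congrArg Multiset.sum h
  rw [Equiv.Perm.sum_cycleType, Equiv.Perm.sum_cycleType] at h8
  revert h8
  decide

end Cfsg.Agent.S2550
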