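import Cfsg.Statements.S2551
import Cfsg.Agent.H37.GL42A7
-- import your own Cfsg.Agent.* helpers here

set_option autoImplicit false
open Cfsg

namespace Cfsg.Agent.S2551

/-- Let F be the field with 2 elements. GL_4(F) (≅ A_8) has a subgroup isomorphic to the alternating group A_7, and every such subgroup acts 2-transitively on the 15 non-zero vectors of F⁴: any ordered pair of distinct non-zero vectors is carried to any other by some element of the subgroup. -/
theorem result {F : Type*} [Field F] [Fintype F] (hF : Fintype.card F = 2) : (∃ H : Subgroup (Matrix.GeneralLinearGroup (Fin 4) F), Nonempty (H ≃* alternatingGroup (Fin 7))) ∧ ∀ H : Subgroup (Matrix.GeneralLinearGroup (Fin 4) F), Nonempty (H ≃* alternatingGroup (Fin 7)) → ∀ v w v' w' : Fin 4 → F, v ≠ 0 → w ≠ 0 → v ≠ w → v' ≠ 0 → w' ≠ 0 → v' ≠ w' → ∃ g ∈ H, (g : Matrix (Fin 4) (Fin 4) F).mulVec v = v' ∧ (g : Matrix (Fin 4) (Fin 4) F).mulVec w = w' := by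
  haveI : Fact (Nat.Prime 2) := ⟨Nat.prime_two⟩
  let e : ZMod 2 ≃+* F := ZMod.ringEquivOfPrime F Fact.out hF
  have hdet : ∀ x : F, x ≠ 0 → x = 1 := fun x hx => by
    have h1 : ∀ a : ZMod 2, a ≠ 0 → a = 1 := fun a ha => by fin_cases a <;> first | rfl | exact absurd rfl ha
    rw [← e.apply_symm_apply x, h1 (e.symm x) (by simpa using hx), map_one]
  let ψ : Matrix.SpecialLinearGroup (Fin 4) (ZMod 2) →* Matrix.GeneralLinearGroup (Fin 4) F :=
    Matrix.SpecialLinearGroup.toGL.comp (Matrix.SpecialLinearGroup.map (e : ZMod 2 →+* F))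
  have hψm : ∀ (g : Matrix.SpecialLinearGroup (Fin 4) (ZMod 2)) (u : Fin 4 → ZMod 2),
      (ψ g : Matrix (Fin 4) (Fin 4) F).mulVec (e ∘ u) =
        e ∘ ((g : Matrix (Fin 4) (Fin 4) (ZMod 2)).mulVec u) := by
    intro g u
    funext i
    exact (RingHom.map_mulVec (e : ZMod 2 →+* F) _ _ i).symm
  have hψi : Function.Injective ψ := by
    intro a b hab
    apply Subtype.ext
    ext i j
    exact e.injective (congrFun (congrFun (congrArg (fun u : Matrix.GeneralLinearGroup (Fin 4) F => (u : Matrix (Fin 4) (Fin 4) F)) hab) i) j)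
  have hψs : Function.Surjective ψ := by
    intro x
    have hx : (x : Matrix (Fin 4) (Fin 4) F).det = 1 :=
      hdet _ ((Matrix.isUnit_iff_isUnit_det _).1 x.isUnit).ne_zero
    refine ⟨Matrix.SpecialLinearGroup.map (e.symm : F →+* ZMod 2) ⟨_, hx⟩, ?_⟩
    apply Units.ext
    ext i j
    exact e.apply_symm_apply _
  let E := MulEquiv.ofBijective ψ ⟨hψi, hψs⟩
  constructor
  · obtain ⟨H, ⟨φ⟩⟩ := H37.exists_alternating_seven
    exact ⟨H.map ψ, ⟨(H.equivMapOfInjective ψ hψi).symm.trans φ⟩⟩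
  · intro H hH v w v' w' hv hw hvw hv' hw' hvw'
    obtain ⟨φ⟩ := hH
    let H0 : Subgroup (Matrix.SpecialLinearGroup (Fin 4) (ZMod 2)) := H.comap ψ
    have hmap : H0.map ψ = H := Subgroup.map_comap_eq_self_of_surjective hψs H
    have hH0 : Nonempty (H0 ≃* alternatingGroup (Fin 7)) :=
      ⟨((H0.equivMapOfInjective ψ hψi).trans (MulEquiv.subgroupCongr hmap)).trans φ⟩
    have hz : ∀ u : Fin 4 → F, u ≠ 0 → e.symm ∘ u ≠ 0 := fun u hu h => hu (funext fun i => by
      simpa using congrFun h i)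
    have hn : ∀ u u' : Fin 4 → F, u ≠ u' → e.symm ∘ u ≠ e.symm ∘ u' := fun u u' hu h =>
      hu (funext fun i => e.symm.injective (congrFun h i))
    obtain ⟨g, hg, h1, h2⟩ := H37.alternating_seven_two_transitive H0 hH0 (hz v hv) (hz w hw)
      (hn v w hvw) (hz v' hv') (hz w' hw') (hn v' w' hvw')
    have hc : ∀ u : Fin 4 → F, e ∘ (e.symm ∘ u) = u := fun u => funext fun i => e.apply_symm_apply _
    refine ⟨ψ g, hg, ?_, ?_⟩
    · rw [← hc v, hψm, h1, hc]
    · rw [← hc w, hψm, h2, hc]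

end Cfsg.Agent.S2551
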