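import Cfsg.Statements.S2552
import Mathlib

set_option autoImplicit false
open Cfsg

namespace Cfsg.Agent.S2552

/-- Let F be a finite field and n ≥ 1. For every k, the special linear group SL_n(F) acts transitively on the set of k-dimensional subspaces of F^n: any two subspaces of the same dimension are carried onto each other by some matrix of determinant 1. -/
theorem result {F : Type*} [Field F] [Fintype F] (n : ℕ) (hn : 1 ≤ n) (U₁ U₂ : Submodule F (Fin n → F)) (h : Module.finrank F U₁ = Module.finrank F U₂) : ∃ g : Matrix.SpecialLinearGroup (Fin n) F, U₁.map ((Matrix.SpecialLinearGroup.toLin' g : (Fin n → F) ≃ₗ[F] (Fin n → F)) : (Fin n → F) →ₗ[F] (Fin n → F)) = U₂ := by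
  classical
  obtain ⟨W₁, hW₁⟩ := Submodule.exists_isCompl U₁
  obtain ⟨W₂, hW₂⟩ := Submodule.exists_isCompl U₂
  let b₁ := Module.finBasis F U₁
  let c₁ := Module.finBasis F W₁
  let b₂ := (Module.finBasis F U₂).reindex (finCongr h.symm)
  have hW : Module.finrank F W₁ = Module.finrank F W₂ := by
    have e₁ := Submodule.finrank_add_eq_of_isCompl hW₁
    have e₂ := Submodule.finrank_add_eq_of_isCompl hW₂
    omega
  let c₂ := (Module.finBasis F W₂).reindex (finCongr hW.symm)
  let B₁ := (b₁.prod c₁).map (Submodule.prodEquivOfIsCompl U₁ W₁ hW₁)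
  let B₂ := (b₂.prod c₂).map (Submodule.prodEquivOfIsCompl U₂ W₂ hW₂)
  let e := B₁.equiv B₂ (Equiv.refl _)
  obtain ⟨i₀⟩ : Nonempty (Fin (Module.finrank F U₁) ⊕ Fin (Module.finrank F W₁)) := by
    have e₁ := Submodule.finrank_add_eq_of_isCompl hW₁
    rw [Module.finrank_fin_fun] at e₁
    rw [← Fintype.card_pos_iff, Fintype.card_sum, Fintype.card_fin, Fintype.card_fin]
    omega
  let d : Fˣ := LinearEquiv.det e
  let w : Fin (Module.finrank F U₁) ⊕ Fin (Module.finrank F W₁) → Fˣ := Function.update 1 i₀ d⁻¹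
  let f := B₁.equiv (B₂.unitsSMul w) (Equiv.refl _)
  have hf : LinearMap.det (f : (Fin n → F) →ₗ[F] (Fin n → F)) = 1 := by
    have : (f : (Fin n → F) →ₗ[F] (Fin n → F)) =
        (e : (Fin n → F) →ₗ[F] (Fin n → F)) ∘ₗ (B₁.equiv (B₁.unitsSMul w) (Equiv.refl _) : (Fin n → F) →ₗ[F] (Fin n → F)) := by
      refine B₁.ext fun i => ?_
      simp only [LinearMap.comp_apply, LinearEquiv.coe_coe, f, e, Module.Basis.equiv_apply, Module.Basis.unitsSMul_apply,
        Equiv.refl_apply, Units.smul_def, map_smul]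
    rw [this, LinearMap.det_comp]
    have hd : LinearMap.det (B₁.equiv (B₁.unitsSMul w) (Equiv.refl _) : (Fin n → F) →ₗ[F] (Fin n → F)) = ((d⁻¹ : Fˣ) : F) := by
      rw [← LinearMap.det_toMatrix B₁]
      have : LinearMap.toMatrix B₁ B₁ (B₁.equiv (B₁.unitsSMul w) (Equiv.refl _) : (Fin n → F) →ₗ[F] (Fin n → F)) = Matrix.diagonal (fun i => (w i : F)) := by
        ext i j
        rw [LinearMap.toMatrix_apply, LinearEquiv.coe_coe, Module.Basis.equiv_apply, Equiv.refl_apply,
          Module.Basis.unitsSMul_apply, Units.smul_def, map_smul, Finsupp.smul_apply, Module.Basis.repr_self,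
          Finsupp.single_apply, Matrix.diagonal_apply]
        by_cases hij : i = j
        · subst hij; simp
        · simp [hij, Ne.symm hij]
      rw [this, Matrix.det_diagonal, ← Units.coe_prod]
      simp [w, Finset.prod_update_of_mem]
    rw [hd, ← LinearEquiv.coe_det, ← Units.val_mul]
    simp [d]
  obtain ⟨g, hg⟩ : ∃ g : Matrix.SpecialLinearGroup (Fin n) F,
      g.val = LinearMap.toMatrix' (f : (Fin n → F) →ₗ[F] (Fin n → F)) :=
    ⟨⟨_, by rw [LinearMap.det_toMatrix']; exact hf⟩, rfl⟩
  refine ⟨g, ?_⟩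
  · rw [Matrix.SpecialLinearGroup.toLin'_to_linearMap, hg, Matrix.toLin'_toMatrix']
    have hspan : U₁ = Submodule.span F (Set.range (fun i => B₁ (Sum.inl i))) := by
      have h1 : (fun i => B₁ (Sum.inl i)) = fun i => (b₁ i : Fin n → F) := by
        funext i; simp [B₁]
      rw [h1, show (fun i => (b₁ i : Fin n → F)) = U₁.subtype ∘ b₁ from rfl, Set.range_comp,
        Submodule.span_image, b₁.span_eq, Submodule.map_subtype_top]
    have hspan₂ : U₂ = Submodule.span F (Set.range (fun i => B₂ (Sum.inl i))) := by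
      have h1 : (fun i => B₂ (Sum.inl i)) = fun i => (b₂ i : Fin n → F) := by
        funext i; simp [B₂]
      rw [h1, show (fun i => (b₂ i : Fin n → F)) = U₂.subtype ∘ b₂ from rfl, Set.range_comp,
        Submodule.span_image, b₂.span_eq, Submodule.map_subtype_top]
    rw [hspan, hspan₂, Submodule.map_span, ← Set.range_comp]
    have key : ∀ i, f (B₁ (Sum.inl i)) = (w (Sum.inl i) : F) • B₂ (Sum.inl i) := by
      intro i
      simp [f, Module.Basis.equiv_apply, Module.Basis.unitsSMul_apply, Units.smul_def]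
    apply le_antisymm <;> rw [Submodule.span_le] <;> rintro _ ⟨i, rfl⟩
    · simp only [Function.comp_apply, LinearEquiv.coe_coe, key]
      exact Submodule.smul_mem _ _ (Submodule.subset_span ⟨i, rfl⟩)
    · have : B₂ (Sum.inl i) = ((w (Sum.inl i))⁻¹ : Fˣ).val • f (B₁ (Sum.inl i)) := by
        rw [key, smul_smul, ← Units.val_mul, inv_mul_cancel, Units.val_one, one_smul]
      simp only [SetLike.mem_coe]
      rw [this]
      exact Submodule.smul_mem _ _ (Submodule.subset_span ⟨i, rfl⟩)

end Cfsg.Agent.S2552
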