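import Cfsg.Statements.S2553
import Cfsg.Agent.H41.A8Sub
import Cfsg.Agent.H37.SmallIsoBig
import Cfsg.Agent.S0495
-- import your own Cfsg.Agent.* helpers here

set_option autoImplicit false
open Cfsg
set_option linter.style.haveILetI false

namespace Cfsg.Agent.S2553

/-- Over the field of two elements the projective special linear group is the general linear group. -/
lemma psl_equiv_gl (n : ℕ) [NeZero n] :
    Nonempty (Matrix.ProjectiveSpecialLinearGroup (Fin n) (ZMod 2) ≃* GL (Fin n) (ZMod 2)) := by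
  have hone : ∀ x : ZMod 2, x ≠ 0 → x = 1 := by decide
  haveI : Fact (Nat.Prime 2) := ⟨Nat.prime_two⟩
  let a : Matrix.SpecialLinearGroup (Fin n) (ZMod 2) ≃* GL (Fin n) (ZMod 2) :=
    MulEquiv.ofBijective Matrix.SpecialLinearGroup.toGL ⟨Matrix.SpecialLinearGroup.toGL_injective,
      fun g => ⟨⟨(g : Matrix (Fin n) (Fin n) (ZMod 2)), hone _ ((Matrix.isUnit_iff_isUnit_det _).1 g.isUnit).ne_zero⟩,
        Units.ext rfl⟩⟩
  have hc : Subgroup.center (Matrix.SpecialLinearGroup (Fin n) (ZMod 2)) = ⊥ := by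
    rw [← Subgroup.card_eq_one, H37.card_center_SL]; simp
  let b : Matrix.ProjectiveSpecialLinearGroup (Fin n) (ZMod 2) ≃* Matrix.SpecialLinearGroup (Fin n) (ZMod 2) :=
    (QuotientGroup.quotientMulEquivOfEq hc).trans QuotientGroup.quotientBot
  exact ⟨b.trans a⟩

/-- Let H be a nontrivial subgroup of GL(4,2) (a group isomorphic to the alternating group of degree 8) whose largest normal 2-subgroup and largest normal subgroup of odd order are both trivial. Then H is isomorphic to an alternating group of degree n for some 5 ≤ n ≤ 8, to the symmetric group of degree 5 or 6, or to GL(3,2). -/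
theorem result (H : Subgroup (GL (Fin 4) (ZMod 2))) (hH : H ≠ ⊥) (hO : Cfsg.pPrimeCore 2 ↥H = ⊥) (hO2 : Cfsg.pCore 2 ↥H = ⊥) :
    (∃ n : ℕ, 5 ≤ n ∧ n ≤ 8 ∧ Nonempty (↥H ≃* alternatingGroup (Fin n))) ∨
    Nonempty (↥H ≃* Equiv.Perm (Fin 5)) ∨ Nonempty (↥H ≃* Equiv.Perm (Fin 6)) ∨ Nonempty (↥H ≃* GL (Fin 3) (ZMod 2)) := by
  classical
  haveI : Fact (Nat.Prime 2) := ⟨Nat.prime_two⟩
  obtain ⟨b⟩ := psl_equiv_gl 4
  obtain ⟨ψ⟩ := H37.PSL4_two_mulEquiv_alternating (F := ZMod 2) (ZMod.card 2)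
  let f : GL (Fin 4) (ZMod 2) →* Equiv.Perm (Fin 8) :=
    (alternatingGroup (Fin 8)).subtype.comp (b.symm.trans ψ).toMonoidHom
  have hf : Function.Injective f := Subtype.val_injective.comp (b.symm.trans ψ).injective
  set R := H.map f with hRdef
  let e : H ≃* R := H.equivMapOfInjective f hf
  have hA : R ≤ alternatingGroup (Fin 8) := by
    rintro _ ⟨g, -, rfl⟩
    exact ((b.symm.trans ψ) g).2
  have hR : H41.RadFree R := (H41.radFree_of_cores hO hO2).congr e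
  haveI : Nontrivial H := (Subgroup.nontrivial_iff_ne_bot H).2 hH
  haveI : Nontrivial R := e.symm.toEquiv.nontrivial
  by_cases h5 : 5 ∣ Nat.card R <;> by_cases h7 : 7 ∣ Nat.card R
  · rcases H41.A8.five_seven hA h5 h7 with ⟨⟨φ⟩⟩ | ⟨⟨φ⟩⟩
    · exact Or.inl ⟨8, by norm_num, le_rfl, ⟨e.trans φ⟩⟩
    · exact Or.inl ⟨7, by norm_num, by norm_num, ⟨e.trans φ⟩⟩
  · rcases H41.A8.five_only hA hR h5 h7 with ⟨⟨φ⟩⟩ | ⟨⟨φ⟩⟩ | ⟨⟨φ⟩⟩ | ⟨⟨φ⟩⟩
    · exact Or.inl ⟨5, le_rfl, by norm_num, ⟨e.trans φ⟩⟩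
    · exact Or.inr (Or.inl ⟨e.trans φ⟩)
    · exact Or.inl ⟨6, by norm_num, by norm_num, ⟨e.trans φ⟩⟩
    · exact Or.inr (Or.inr (Or.inl ⟨e.trans φ⟩))
  · obtain ⟨h168, hs⟩ := H41.A8.seven_only hA hR h5 h7
    haveI := hs
    haveI : Fact (Nat.Prime 7) := ⟨by norm_num⟩
    obtain ⟨φ⟩ := Cfsg.Agent.S0495.result (G := R) h168 (F := ZMod 7) (ZMod.card 7)
    obtain ⟨χ⟩ := H37.PSL2_seven_mulEquiv_PSL3_two (F := ZMod 7) (K := ZMod 2) (ZMod.card 7) (ZMod.card 2)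
    obtain ⟨ω⟩ := psl_equiv_gl 3
    exact Or.inr (Or.inr (Or.inr ⟨((e.trans φ).trans χ).trans ω⟩))
  · exact (hR.not_solvable (H41.A8.solvable_of_dvd (H41.A8.card_dvd hA) h5 h7)).elim

end Cfsg.Agent.S2553
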