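import Cfsg.Statements.S2556
import Cfsg.Agent.H57.SzSylowAut
import Cfsg.Agent.H57.SzForm

set_option autoImplicit false
open Cfsg

namespace Cfsg.Agent.S2556

/-- Let S be a Sylow 2-subgroup of the Suzuki group Sz(q), q = 2ⁿ with n = 2m + 1 ≥ 3 (realised as 4 × 4 matrices over the field with q elements). Then the largest normal 2-subgroup of the automorphism group of S is elementary abelian of order 2^(n²), and the automorphism group of S has order 2^(n²) · n · (q − 1). -/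
theorem result {S : Type*} [Group S] [Finite S] (m : ℕ) (hm : 1 ≤ m)
    {F : Type*} [Field F] [Fintype F] (hF : Fintype.card F = 2 ^ (2 * m + 1))
    (P : Sylow 2 ↥(Cfsg.Lie.Sz F (2 ^ (m + 1)))) (hS : Nonempty (S ≃* ↥(P : Subgroup ↥(Cfsg.Lie.Sz F (2 ^ (m + 1)))))) :
    Cfsg.IsElementaryAbelian 2 (Cfsg.pCore 2 (MulAut S)) ∧ Nat.card ↥(Cfsg.pCore 2 (MulAut S)) = 2 ^ ((2 * m + 1) ^ 2) ∧
      Nat.card (MulAut S) = 2 ^ ((2 * m + 1) ^ 2) * ((2 * m + 1) * (2 ^ (2 * m + 1) - 1)) := by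
  classical
  haveI : Fact (Nat.Prime 2) := ⟨Nat.prime_two⟩
  let e := H57.lieSzEquiv hm hF
  obtain ⟨eS⟩ := hS
  let P' : Sylow 2 (Cfsg.Sz F m) := P.comapOfInjective e.toMonoidHom e.injective
    (fun x _ => MonoidHom.mem_range.mpr (e.surjective x))
  obtain ⟨eP⟩ := H57.sylow_two_equiv hm hF P'
  have hP : Nonempty (↥(P : Subgroup (Cfsg.Lie.Sz F (2 ^ (m + 1)))) ≃*
      ↥(H57.tSub (m := m) hF)) := by
    refine ⟨MulEquiv.trans ?_ eP⟩
    refine ((e.symm.subgroupMap _).trans (MulEquiv.subgroupCongr ?_))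
    exact Subgroup.map_symm_eq_iff_map_eq _ |>.mpr (by
      show (((P : Subgroup _).comap e.toMonoidHom)).map e.toMonoidHom = _
      exact (Subgroup.map_comap_eq_self_of_surjective e.surjective _))
  obtain ⟨eP'⟩ := hP
  let c : MulAut (H57.tSub (m := m) hF) ≃* MulAut S := MulAut.congr (eS.trans eP').symm
  set K := (H57.centralAuts (H57.tSub (m := m) hF)).map c.toMonoidHom
  haveI : K.Normal := (H57.centralAuts_normal _).map _ c.surjective
  have hcard : Nat.card K = 2 ^ ((2 * m + 1) ^ 2) := by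
    rw [Subgroup.card_map_of_injective c.injective, H57.card_centralAuts hm hF]
  have htot : Nat.card (MulAut S) =
      2 ^ ((2 * m + 1) ^ 2) * ((2 * m + 1) * (2 ^ (2 * m + 1) - 1)) := by
    rw [← Nat.card_congr c.toEquiv, H57.card_aut_tSub hm hF]
  have hindex : K.index = (2 * m + 1) * (2 ^ (2 * m + 1) - 1) := by
    have h := K.card_mul_index
    rw [hcard, htot] at h
    exact Nat.eq_of_mul_eq_mul_left (by positivity) h
  have hK : Cfsg.pCore 2 (MulAut S) = K := by
    refine H57.normal_sylow_eq_core K (IsPGroup.of_card hcard) ?_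
    rw [hindex, ← even_iff_two_dvd, Nat.not_even_iff_odd]
    exact (odd_two_mul_add_one m).mul
      (Nat.Even.sub_odd Nat.one_le_two_pow ((Nat.even_pow' (by omega)).mpr even_two) odd_one)
  obtain ⟨hcomm, hsq⟩ := H57.centralAuts_elementary hm hF
  rw [hK]
  refine ⟨⟨⟨⟨?_⟩⟩, ?_⟩, hcard, htot⟩
  · rintro ⟨_, a, ha, rfl⟩ ⟨_, b, hb, rfl⟩
    apply Subtype.ext
    simp only [Subgroup.coe_mul, ← map_mul, hcomm a ha b hb]
  · rintro _ ⟨a, ha, rfl⟩
    rw [← map_pow, hsq a ha, map_one]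

end Cfsg.Agent.S2556
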