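import Cfsg.Statements.S2560
import Cfsg.Agent.H43.Bridge
import Cfsg.Agent.H43.Omega
import Cfsg.Agent.H44.Cls.OddForm

set_option autoImplicit false
open Cfsg

namespace Cfsg.Agent.S2560

theorem card_classes_congr {A B : Type*} [Group A] [Group B] (e : A ≃* B) :
    Nat.card (ConjClasses A) = Nat.card (ConjClasses B) := by
  refine Nat.card_eq_of_bijective (ConjClasses.map e.toMonoidHom) ⟨?_, ?_⟩
  · intro a b
    obtain ⟨x, rfl⟩ := ConjClasses.exists_rep a
    obtain ⟨y, rfl⟩ := ConjClasses.exists_rep b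
    intro h
    rw [ConjClasses.mk_eq_mk_iff_isConj]
    have h' : IsConj (e x) (e y) := ConjClasses.mk_eq_mk_iff_isConj.1 h
    obtain ⟨c, hc⟩ := isConj_iff.1 h'
    exact isConj_iff.2 ⟨e.symm c, e.injective (by simpa using hc)⟩
  · intro b
    obtain ⟨y, rfl⟩ := ConjClasses.exists_rep b
    exact ⟨ConjClasses.mk (e.symm y), congrArg ConjClasses.mk (e.apply_symm_apply y)⟩

/-- The number of conjugacy classes of Ω(2n+1,q), q odd, n ≥ 2: for F a finite field of odd order q, the number k of conjugacy classes of the commutator subgroup of the isometry group of the quadratic form x₀² + Σ xᵢyᵢ on F^{2n+1} satisfies q^n/2 ≤ k ≤ 7.3·q^n. -/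
theorem result {F : Type*} [Field F] [Fintype F] (hodd : Odd (Fintype.card F)) (n : ℕ) (hn : 2 ≤ n) :
    Fintype.card F ^ n ≤ 2 * Nat.card (ConjClasses ↥(Cfsg.Omega F (Cfsg.quadFormOdd n F))) ∧
      10 * Nat.card (ConjClasses ↥(Cfsg.Omega F (Cfsg.quadFormOdd n F))) ≤ 73 * Fintype.card F ^ n := by
  classical
  obtain ⟨k, hk⟩ := hodd
  have h2 : (2 : F) ≠ 0 := Ring.two_ne_zero (H44.ringChar_ne_two_of_odd_card ⟨k, hk⟩)
  rw [← H43.coe_qOdd]
  set Q := H43.qOdd n F
  have hQ : (H43.polB Q).Nondegenerate := H43.qOdd_nondeg h2 n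
  have hN : Module.finrank F (Unit ⊕ (Fin n ⊕ Fin n) → F) = 2 * n + 1 := by
    rw [Module.finrank_fintype_fun_eq_card]
    simp
    omega
  obtain ⟨hlow, hup⟩ := H44.Cls.spinor_ker_bounds hQ h2 hN (by omega)
  set K := (H43.spinorSO hQ (H43.reflGenerates_of_two_ne_zero h2)).ker
  have hmap : K.map (H43.specialOrth Q).subtype = commutator (H43.orthGroup Q) := by
    ext g
    rw [H43.mem_commutator_iff_odd hQ h2 (by omega)]
    constructor
    · rintro ⟨x, hx, rfl⟩
      exact ⟨H43.mem_specialOrth.1 x.2, MonoidHom.mem_ker.1 hx⟩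
    · rintro ⟨hd, hs⟩
      exact ⟨⟨g, H43.mem_specialOrth.2 hd⟩, MonoidHom.mem_ker.2 hs, rfl⟩
  have e1 : K ≃* commutator (H43.orthGroup Q) :=
    (K.equivMapOfInjective _ (H43.specialOrth Q).subtype_injective).trans (MulEquiv.subgroupCongr hmap)
  have e2 : Cfsg.Omega F ⇑Q ≃* commutator (H43.orthGroup Q) :=
    ((Cfsg.Omega F ⇑Q).equivMapOfInjective _ (H43.toOrth Q).injective).trans
      (MulEquiv.subgroupCongr H43.omega_map_toOrth)
  rw [card_classes_congr e2, ← card_classes_congr e1]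
  exact ⟨hlow, hup⟩

end Cfsg.Agent.S2560
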