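import Cfsg.Statements.S2561
import Cfsg.Agent.H44.ArfTwo

set_option autoImplicit false
open Cfsg

namespace Cfsg.Agent.S2561

open H44 in
/-- Fix the non-singular alternating form on the 2m-dimensional space over the field of two elements obtained by polarizing the plus-type form Σ xᵢyᵢ (m ≥ 1). The functions q on the space with q(u + v) = q(u) + q(v) + f(u, v) (the quadratic forms polarizing to f) number 2^(2m); each is equivalent under an invertible linear map either to the plus-type form or to the minus-type form Σ xᵢyᵢ + (z₁² + z₁z₂ + z₂²); and those of plus type number 2^(2m−1) + 2^(m−1), those of minus type 2^(2m−1) − 2^(m−1). -/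
theorem result (m : ℕ) (hm : 1 ≤ m) :
    Nat.card {q : (Fin m ⊕ Fin m → ZMod 2) → ZMod 2 // (∀ u v : (Fin m ⊕ Fin m → ZMod 2), q (u + v) = q u + q v + (Cfsg.quadFormPlus m (ZMod 2) (u + v) - Cfsg.quadFormPlus m (ZMod 2) u - Cfsg.quadFormPlus m (ZMod 2) v))} = 2 ^ (2 * m) ∧
    (∀ q : (Fin m ⊕ Fin m → ZMod 2) → ZMod 2, (∀ u v : (Fin m ⊕ Fin m → ZMod 2), q (u + v) = q u + q v + (Cfsg.quadFormPlus m (ZMod 2) (u + v) - Cfsg.quadFormPlus m (ZMod 2) u - Cfsg.quadFormPlus m (ZMod 2) v)) →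
      (∃ g : (Fin m ⊕ Fin m → ZMod 2) ≃ₗ[ZMod 2] (Fin m ⊕ Fin m → ZMod 2), ∀ v, q v = Cfsg.quadFormPlus m (ZMod 2) (g v)) ∨
      (∃ g : (Fin m ⊕ Fin m → ZMod 2) ≃ₗ[ZMod 2] ((Fin (m - 1) ⊕ Fin (m - 1)) ⊕ Fin 2 → ZMod 2), ∀ v, q v = Cfsg.quadFormMinus (m - 1) (ZMod 2) 1 1 (g v))) ∧
    Nat.card {q : (Fin m ⊕ Fin m → ZMod 2) → ZMod 2 // (∀ u v : (Fin m ⊕ Fin m → ZMod 2), q (u + v) = q u + q v + (Cfsg.quadFormPlus m (ZMod 2) (u + v) - Cfsg.quadFormPlus m (ZMod 2) u - Cfsg.quadFormPlus m (ZMod 2) v)) ∧ ∃ g : (Fin m ⊕ Fin m → ZMod 2) ≃ₗ[ZMod 2] (Fin m ⊕ Fin m → ZMod 2), ∀ v, q v = Cfsg.quadFormPlus m (ZMod 2) (g v)} = 2 ^ (2 * m - 1) + 2 ^ (m - 1) ∧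
    Nat.card {q : (Fin m ⊕ Fin m → ZMod 2) → ZMod 2 // (∀ u v : (Fin m ⊕ Fin m → ZMod 2), q (u + v) = q u + q v + (Cfsg.quadFormPlus m (ZMod 2) (u + v) - Cfsg.quadFormPlus m (ZMod 2) u - Cfsg.quadFormPlus m (ZMod 2) v)) ∧ ∃ g : (Fin m ⊕ Fin m → ZMod 2) ≃ₗ[ZMod 2] ((Fin (m - 1) ⊕ Fin (m - 1)) ⊕ Fin 2 → ZMod 2), ∀ v, q v = Cfsg.quadFormMinus (m - 1) (ZMod 2) 1 1 (g v)} = 2 ^ (2 * m - 1) - 2 ^ (m - 1) := by
  let q0 := Cfsg.quadFormPlus m (ZMod 2)
  have hp : Polarises m q0 := polarises_plus m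
  have hrange : Set.range (shiftForm q0) = {q | Polarises m q} := by
    ext q
    exact ⟨fun ⟨w, hw⟩ => hw ▸ polarises_shift hp w, fun hq => (exists_shift hq).imp (fun w hw => (funext hw).symm)⟩
  have hcount : ∀ P : ((Fin m ⊕ Fin m → ZMod 2) → ZMod 2) → Prop,
      Nat.card {q // Polarises m q ∧ P q} = Nat.card {w // P (shiftForm q0 w)} := by
    intro P
    refine (Nat.card_eq_of_bijective (fun w => (⟨shiftForm q0 w.1, polarises_shift hp w.1, w.2⟩ : {q // Polarises m q ∧ P q})) ⟨?_, ?_⟩).symm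
    · intro a b h; exact Subtype.ext (shift_injective m q0 (congrArg Subtype.val h))
    · rintro ⟨q, hq, hP⟩
      obtain ⟨w, hw⟩ := exists_shift hq
      obtain rfl : q = shiftForm q0 w := funext hw
      exact ⟨⟨w, hP⟩, rfl⟩
  have hplus : ∀ w, (∃ g : (Fin m ⊕ Fin m → ZMod 2) ≃ₗ[ZMod 2] (Fin m ⊕ Fin m → ZMod 2), ∀ v, shiftForm q0 w v = q0 (g v)) ↔ q0 w = 0 := by
    refine fun w => ⟨fun ⟨g, hg⟩ => ?_, fun h => ⟨shiftEquiv m w, shift_equiv_of_zero hp h⟩⟩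
    have h1 := signSum_shift hp w
    rw [signSum_of_plus g hg, signSum_plus] at h1
    rcases zmod2_cases (q0 w) with e | e
    · exact e
    · rw [e] at h1
      have : (0 : ℤ) < 2 ^ m := by positivity
      simp [sign2] at h1; omega
  have hminus : ∀ w, (∃ g : (Fin m ⊕ Fin m → ZMod 2) ≃ₗ[ZMod 2] ((Fin (m - 1) ⊕ Fin (m - 1)) ⊕ Fin 2 → ZMod 2), ∀ v, shiftForm q0 w v = Cfsg.quadFormMinus (m - 1) (ZMod 2) 1 1 (g v)) ↔ ¬ q0 w = 0 := by
    refine fun w => ⟨fun ⟨g, hg⟩ h => ?_, fun h => ?_⟩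
    · have h1 := signSum_shift hp w
      rw [signSum_of_minus hm g hg, signSum_plus, h] at h1
      have : (0 : ℤ) < 2 ^ m := by positivity
      simp [sign2] at h1; omega
    · rcases (polarises_shift hp w).plus_or_minus with hg | ⟨_, hg⟩
      · exact absurd ((hplus w).1 hg) h
      · exact hg
  have hz := card_zeros q0
  have hV : Fintype.card (Fin m ⊕ Fin m → ZMod 2) = 2 ^ (2 * m) := by simp; ring_nf
  have hs : signSum q0 = 2 ^ m := signSum_plus m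
  have h2m : 2 ^ (2 * m) = 2 * 2 ^ (2 * m - 1) := by rw [← pow_succ']; congr 1; omega
  have hm' : 2 ^ m = 2 * 2 ^ (m - 1) := by rw [← pow_succ']; congr 1; omega
  have hzn : Nat.card {v // q0 v = 0} = 2 ^ (2 * m - 1) + 2 ^ (m - 1) := by
    have : 2 * (Nat.card {v // q0 v = 0} : ℤ) = ((2 * (2 ^ (2 * m - 1) + 2 ^ (m - 1)) : ℕ) : ℤ) := by
      rw [hz, hV, hs, h2m]
      push_cast
      have : (2 : ℤ) ^ m = 2 * 2 ^ (m - 1) := by exact_mod_cast hm'
      rw [this]; ring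
    exact_mod_cast (by omega : (Nat.card {v // q0 v = 0} : ℤ) = ((2 ^ (2 * m - 1) + 2 ^ (m - 1) : ℕ) : ℤ))
  refine ⟨?_, fun q hq => (Polarises.plus_or_minus hq).imp id And.right, ?_, ?_⟩
  · show Nat.card ↥{q | Polarises m q} = _
    rw [← hrange, Nat.card_range_of_injective (shift_injective m q0), Nat.card_eq_fintype_card, hV]
  · refine (hcount _).trans ?_
    rw [Nat.card_congr (Equiv.subtypeEquivRight hplus), hzn]
  · refine (hcount _).trans ?_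
    rw [Nat.card_congr (Equiv.subtypeEquivRight hminus)]
    have h : Nat.card {v // q0 v = 0} + Nat.card {v // ¬ q0 v = 0} = 2 ^ (2 * m) := by
      rw [← Nat.card_sum, Nat.card_congr (Equiv.sumCompl _), Nat.card_eq_fintype_card, hV]
    omega

end Cfsg.Agent.S2561
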