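import Cfsg.Statements.S2562
import Cfsg.Agent.H44.Basic

set_option autoImplicit false
open Cfsg

namespace Cfsg.Agent.S2562

/-- Witt indices over the field of two elements, m ≥ 1: for the plus-type form Σ xᵢyᵢ in dimension 2m some m-dimensional subspace is totally singular and no totally singular subspace has larger dimension; for the minus-type form Σ xᵢyᵢ + (z₁² + z₁z₂ + z₂²) in dimension 2m the maximal dimension of a totally singular subspace is m − 1. -/
theorem result (m : ℕ) (hm : 1 ≤ m) :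
    (∃ U : Submodule (ZMod 2) (Fin m ⊕ Fin m → ZMod 2), (∀ u ∈ U, Cfsg.quadFormPlus m (ZMod 2) u = 0) ∧ Module.finrank (ZMod 2) ↥U = m) ∧
    (∀ U : Submodule (ZMod 2) (Fin m ⊕ Fin m → ZMod 2), (∀ u ∈ U, Cfsg.quadFormPlus m (ZMod 2) u = 0) → Module.finrank (ZMod 2) ↥U ≤ m) ∧
    (∃ U : Submodule (ZMod 2) ((Fin (m - 1) ⊕ Fin (m - 1)) ⊕ Fin 2 → ZMod 2), (∀ u ∈ U, Cfsg.quadFormMinus (m - 1) (ZMod 2) 1 1 u = 0) ∧ Module.finrank (ZMod 2) ↥U = m - 1) ∧
    (∀ U : Submodule (ZMod 2) ((Fin (m - 1) ⊕ Fin (m - 1)) ⊕ Fin 2 → ZMod 2), (∀ u ∈ U, Cfsg.quadFormMinus (m - 1) (ZMod 2) 1 1 u = 0) → Module.finrank (ZMod 2) ↥U ≤ m - 1) := by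
  refine ⟨?_, ?_, ?_, ?_⟩
  · let f : (Fin m → ZMod 2) →ₗ[ZMod 2] (Fin m ⊕ Fin m → ZMod 2) :=
      { toFun := fun x => Sum.elim x 0
        map_add' := fun x y => by ext (i | i) <;> simp
        map_smul' := fun c x => by ext (i | i) <;> simp }
    refine ⟨LinearMap.range f, ?_, ?_⟩
    · rintro u ⟨x, rfl⟩; simp [f, Cfsg.quadFormPlus]
    · rw [LinearMap.finrank_range_of_inj (fun x y h => funext (fun i => congrFun h (Sum.inl i)))]
      simp
  · intro U hU
    exact H44.finrank_le_of_totally_singular (W := Fin 0 → ZMod 2)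
      (LinearMap.funLeft (ZMod 2) (ZMod 2) Sum.inl) (LinearMap.funLeft (ZMod 2) (ZMod 2) Sum.inr) 0
      (fun v h1 h2 _ => by
        ext (i | i)
        · exact congrFun h1 i
        · exact congrFun h2 i)
      _ (fun _ => 0) (fun w _ => Subsingleton.elim _ _)
      (fun v => by simp [Cfsg.quadFormPlus, dotProduct, LinearMap.funLeft]) U hU
  · let f : (Fin (m - 1) → ZMod 2) →ₗ[ZMod 2] ((Fin (m - 1) ⊕ Fin (m - 1)) ⊕ Fin 2 → ZMod 2) :=
      { toFun := fun x => Sum.elim (Sum.elim x 0) 0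
        map_add' := fun x y => by ext ((i | i) | i) <;> simp
        map_smul' := fun c x => by ext ((i | i) | i) <;> simp }
    refine ⟨LinearMap.range f, ?_, ?_⟩
    · rintro u ⟨x, rfl⟩; simp [f, Cfsg.quadFormMinus]
    · rw [LinearMap.finrank_range_of_inj (fun x y h => funext (fun i => congrFun h (Sum.inl (Sum.inl i))))]
      simp
  · intro U hU
    exact H44.finrank_le_of_totally_singular
      (LinearMap.funLeft (ZMod 2) (ZMod 2) (fun i => Sum.inl (Sum.inl i)))
      (LinearMap.funLeft (ZMod 2) (ZMod 2) (fun i => Sum.inl (Sum.inr i)))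
      (LinearMap.funLeft (ZMod 2) (ZMod 2) Sum.inr)
      (fun v h1 h2 h3 => by
        ext ((i | i) | i)
        · exact congrFun h1 i
        · exact congrFun h2 i
        · exact congrFun h3 i)
      _ (fun w : Fin 2 → ZMod 2 => w 0 ^ 2 + 1 * w 0 * w 1 + 1 * w 1 ^ 2) (by decide)
      (fun v => rfl) U hU

end Cfsg.Agent.S2562
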