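import Cfsg.Statements.S2563
import Cfsg.Agent.H44.EvenSets

set_option autoImplicit false
open Cfsg

namespace Cfsg.Agent.S2563

/-- For k ≥ 1 the symmetric group of degree 4k + 4 embeds in a full orthogonal group in dimension 4k + 2 over the field of two elements: in the isometry group of the plus-type form Σ xᵢyᵢ when k is odd, and in that of the minus-type form Σ xᵢyᵢ + (z₁² + z₁z₂ + z₂²) when k is even (through its action on even partitions of a (4k+4)-set, with the form 'half the size of a part, modulo 2'). -/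
theorem result (k : ℕ) (hk : 1 ≤ k) :
    (Odd k → ∃ φ : Equiv.Perm (Fin (4 * k + 4)) →* ↥(Cfsg.isometryGroup (ZMod 2) (Cfsg.quadFormPlus (2 * k + 1) (ZMod 2))), Function.Injective φ) ∧
    (Even k → ∃ φ : Equiv.Perm (Fin (4 * k + 4)) →* ↥(Cfsg.isometryGroup (ZMod 2) (Cfsg.quadFormMinus (2 * k) (ZMod 2) 1 1)), Function.Injective φ) := by
  have hn : (4 * k + 2) % 4 = 2 := by omega
  let ψ := H44.evenHom (4 * k + 2) hn
  have hψ : Function.Injective ψ := H44.evenHom_injective _ hn (by omega)
  have hs := H44.signSum_evenQ k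
  rcases H44.equiv_plus_or_minus (V := Fin (4 * k + 2) → ZMod 2) (m := 2 * k + 1) (by simp; omega)
      (H44.evenForm (4 * k + 2)) (H44.evenForm_sep _ (Nat.even_iff.2 (by omega))) with ⟨φ, hφ⟩ | ⟨_, ζ, φ, hζ, hφ⟩
  · have h1 : H44.signSum (H44.evenQ (4 * k + 2)) = 2 ^ (2 * k + 1) := by
      rw [show H44.evenQ (4 * k + 2) = fun v => Cfsg.quadFormPlus (2 * k + 1) (ZMod 2) (φ v) from funext hφ]
      exact (H44.signSum_comp_equiv φ.toEquiv _).trans (H44.signSum_plus _)
    have hodd : Odd k := by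
      by_contra h
      rw [Nat.not_odd_iff_even] at h
      rw [hs, h.add_one.neg_one_pow] at h1
      have : (0 : ℤ) < 2 ^ (2 * k + 1) := by positivity
      omega
    refine ⟨fun _ => ?_, fun h => absurd hodd (Nat.not_odd_iff_even.2 h)⟩
    let E := H38.isometryGroupCongr (Q := Cfsg.quadFormPlus (2 * k + 1) (ZMod 2)) (Q' := H44.evenQ (4 * k + 2)) φ.symm
      (fun v => by rw [show H44.evenQ (4 * k + 2) (φ.symm v) = _ from hφ (φ.symm v), LinearEquiv.apply_symm_apply])
    exact ⟨E.symm.toMonoidHom.comp ψ, E.symm.injective.comp hψ⟩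
  · obtain rfl := H44.zmod2_root ζ hζ
    have h1 : H44.signSum (H44.evenQ (4 * k + 2)) = -(2 ^ (2 * k + 1)) := by
      rw [show H44.evenQ (4 * k + 2) = fun v => Cfsg.quadFormMinus (2 * k + 1 - 1) (ZMod 2) 1 1 (φ v) from funext hφ]
      exact (H44.signSum_comp_equiv φ.toEquiv _).trans (H44.signSum_minus _)
    have heven : Even k := by
      by_contra h
      rw [Nat.not_even_iff_odd] at h
      rw [hs, h.add_one.neg_one_pow] at h1
      have : (0 : ℤ) < 2 ^ (2 * k + 1) := by positivity
      omega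
    refine ⟨fun h => absurd h (Nat.not_odd_iff_even.2 heven), fun _ => ?_⟩
    let E := H38.isometryGroupCongr (Q := Cfsg.quadFormMinus (2 * k) (ZMod 2) 1 1) (Q' := H44.evenQ (4 * k + 2)) φ.symm
      (fun v => by rw [show H44.evenQ (4 * k + 2) (φ.symm v) = _ from hφ (φ.symm v), LinearEquiv.apply_symm_apply]; rfl)
    exact ⟨E.symm.toMonoidHom.comp ψ, E.symm.injective.comp hψ⟩

end Cfsg.Agent.S2563
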