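import Cfsg.Statements.S2564
import Cfsg.Agent.H44.ArfTwo

set_option autoImplicit false
open Cfsg

namespace Cfsg.Agent.S2564

/-- On the 2m-dimensional space over the field of two elements (m ≥ 1) let f be the alternating form obtained by polarizing the plus-type form Σ xᵢyᵢ, and let q be any quadratic form polarizing to f. For a vector w, the function q + f(·, w) again polarizes to f, and it is equivalent to q under an invertible linear map (that is, has the same type) if and only if q(w) = 0. -/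
theorem result (m : ℕ) (hm : 1 ≤ m) (q : (Fin m ⊕ Fin m → ZMod 2) → ZMod 2) (hq : (∀ u v : (Fin m ⊕ Fin m → ZMod 2), q (u + v) = q u + q v + (Cfsg.quadFormPlus m (ZMod 2) (u + v) - Cfsg.quadFormPlus m (ZMod 2) u - Cfsg.quadFormPlus m (ZMod 2) v))) (w : (Fin m ⊕ Fin m → ZMod 2)) :
    (∀ u v : (Fin m ⊕ Fin m → ZMod 2), (q (u + v) + (Cfsg.quadFormPlus m (ZMod 2) (u + v + w) - Cfsg.quadFormPlus m (ZMod 2) (u + v) - Cfsg.quadFormPlus m (ZMod 2) w)) =
        (q u + (Cfsg.quadFormPlus m (ZMod 2) (u + w) - Cfsg.quadFormPlus m (ZMod 2) u - Cfsg.quadFormPlus m (ZMod 2) w)) + (q v + (Cfsg.quadFormPlus m (ZMod 2) (v + w) - Cfsg.quadFormPlus m (ZMod 2) v - Cfsg.quadFormPlus m (ZMod 2) w)) +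
        (Cfsg.quadFormPlus m (ZMod 2) (u + v) - Cfsg.quadFormPlus m (ZMod 2) u - Cfsg.quadFormPlus m (ZMod 2) v)) ∧
    ((∃ g : (Fin m ⊕ Fin m → ZMod 2) ≃ₗ[ZMod 2] (Fin m ⊕ Fin m → ZMod 2), ∀ v, q v + (Cfsg.quadFormPlus m (ZMod 2) (v + w) - Cfsg.quadFormPlus m (ZMod 2) v - Cfsg.quadFormPlus m (ZMod 2) w) = q (g v)) ↔ q w = 0) := by
  have hP : H44.Polarises m q := hq
  refine ⟨fun u v => ?_, ?_, fun h => ?_⟩
  · simp only [← H44.polarTwo_apply]
    exact (H44.polarises_shift hP w u v).trans (by rw [H44.polarTwo_apply m u v]; rfl)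
  · rintro ⟨g, hg⟩
    have h1 := H44.signSum_shift hP w
    have h2 : H44.signSum (H44.shiftForm q w) = H44.signSum q := by
      have : H44.shiftForm q w = fun v => q (g v) := by
        funext v; rw [← hg, H44.shiftForm, H44.polarTwo_apply]
      rw [this]
      exact H44.signSum_comp_equiv g.toEquiv q
    rw [h2] at h1
    rcases H44.zmod2_cases (q w) with e | e
    · exact e
    · exfalso
      rw [e] at h1
      simp [H44.sign2] at h1
      exact hP.signSum_ne_zero (by omega)
  · exact ⟨H44.shiftEquiv m w, fun v => by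
      rw [← H44.polarTwo_apply]; exact H44.shift_equiv_of_zero hP h v⟩

end Cfsg.Agent.S2564
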