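import Cfsg.Statements.S2565
import Cfsg.Agent.H44.OPlusSix

set_option autoImplicit false
open Cfsg

namespace Cfsg.Agent.S2565

/-- The commutator subgroup of the full orthogonal group of the plus-type form Σ xᵢyᵢ in dimension 6 over the field of two elements (the group Ω⁺₆(2), of index 2) is isomorphic to the alternating group of degree 8. -/
theorem result :
    (Cfsg.Omega (ZMod 2) (Cfsg.quadFormPlus 3 (ZMod 2))).index = 2 ∧
    Nonempty (↥(Cfsg.Omega (ZMod 2) (Cfsg.quadFormPlus 3 (ZMod 2))) ≃* alternatingGroup (Fin 8)) := by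
  obtain ⟨e⟩ := H44.oPlusSix_equiv
  have hmap : (alternatingGroup (Fin 8)).map e.toMonoidHom = Cfsg.Omega (ZMod 2) (Cfsg.quadFormPlus 3 (ZMod 2)) := by
    rw [← alternatingGroup.commutator_perm_eq (by simp)]
    simp only [Cfsg.Omega, commutator_def, Subgroup.map_commutator]
    rw [Subgroup.map_top_of_surjective e.toMonoidHom e.surjective]
  refine ⟨?_, ?_⟩
  · rw [← hmap, Subgroup.index_map_of_bijective (f := e.toMonoidHom) e.bijective]
    exact alternatingGroup.index_eq_two
  · exact ⟨((e.subgroupMap _).trans (MulEquiv.subgroupCongr hmap)).symm⟩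

end Cfsg.Agent.S2565
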