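import Cfsg.Statements.S2567
import Mathlib

set_option autoImplicit false
open Cfsg

namespace Cfsg.Agent.S2567

/-- Lifting elements of prime order from PGL to GL: let F be a finite field with q elements, r a prime not dividing q − 1, and x an element of order r in GL_n(F) modulo its centre (the scalar matrices). Then x has exactly one preimage in GL_n(F) of order r. -/
theorem result {F : Type*} [Field F] [Fintype F] {q n r : ℕ} (hF : Fintype.card F = q) (hr : r.Prime) (hdiv : ¬ r ∣ q - 1) (x : GL (Fin n) F ⧸ Subgroup.center (GL (Fin n) F)) (hx : orderOf x = r) : ∃! g : GL (Fin n) F, (QuotientGroup.mk g : GL (Fin n) F ⧸ Subgroup.center (GL (Fin n) F)) = x ∧ orderOf g = r := by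
  classical
  haveI : Fact r.Prime := ⟨hr⟩
  rcases n.eq_zero_or_pos with rfl | hn
  · exfalso
    have : x = 1 := by
      obtain ⟨g, rfl⟩ := QuotientGroup.mk_surjective x
      rw [show g = 1 from Subsingleton.elim _ _]; rfl
    rw [this, orderOf_one] at hx
    exact hr.ne_one hx.symm
  haveI : Nonempty (Fin n) := ⟨⟨0, hn⟩⟩
  obtain ⟨g₀, rfl⟩ := QuotientGroup.mk_surjective x
  have hcop : (Nat.card (Subgroup.center (GL (Fin n) F))).Coprime r := by
    rw [Nat.coprime_comm, hr.coprime_iff_not_dvd]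
    intro h
    apply hdiv
    rw [← hF, ← Fintype.card_units, ← Nat.card_eq_fintype_card]
    refine h.trans ?_
    rw [Matrix.GeneralLinearGroup.center_eq_range_scalar]
    exact Subgroup.card_range_dvd _
  have hz : g₀ ^ r ∈ Subgroup.center (GL (Fin n) F) := by
    rw [← QuotientGroup.eq_one_iff, QuotientGroup.mk_pow, ← hx]
    exact pow_orderOf_eq_one _
  obtain ⟨w, hw⟩ := (powCoprime hcop).surjective ⟨g₀ ^ r, hz⟩
  have hw' : (w : GL (Fin n) F) ^ r = g₀ ^ r := by
    have := congrArg Subtype.val hw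
    simpa using this
  have hcomm : Commute g₀ (w : GL (Fin n) F)⁻¹ :=
    (Subgroup.mem_center_iff.mp (inv_mem w.2) g₀)
  have hmk : (QuotientGroup.mk (g₀ * (w : GL (Fin n) F)⁻¹) :
      GL (Fin n) F ⧸ Subgroup.center (GL (Fin n) F)) = QuotientGroup.mk g₀ :=
    QuotientGroup.mk_mul_of_mem g₀ (inv_mem w.2)
  have hord : orderOf (g₀ * (w : GL (Fin n) F)⁻¹) = r := by
    refine orderOf_eq_prime ?_ ?_
    · rw [hcomm.mul_pow, inv_pow, hw', mul_inv_cancel]
    · intro h1
      rw [h1] at hmk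
      rw [← hmk] at hx
      simp at hx
      exact hr.ne_one hx.symm
  refine ⟨_, ⟨hmk, hord⟩, ?_⟩
  rintro g ⟨hg, hgo⟩
  have hv : (g₀ * (w : GL (Fin n) F)⁻¹)⁻¹ * g ∈ Subgroup.center (GL (Fin n) F) := by
    rw [← QuotientGroup.eq, hmk, hg]
  obtain ⟨v, hvdef⟩ : ∃ v, v = (g₀ * (w : GL (Fin n) F)⁻¹)⁻¹ * g := ⟨_, rfl⟩
  rw [← hvdef] at hv
  have hgv : g = (g₀ * (w : GL (Fin n) F)⁻¹) * v := by rw [hvdef, mul_inv_cancel_left]
  have hvr : (⟨v, hv⟩ : Subgroup.center (GL (Fin n) F)) ^ r = 1 := by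
    apply Subtype.ext
    have hcv : Commute (g₀ * (w : GL (Fin n) F)⁻¹) v := Subgroup.mem_center_iff.mp hv _
    have := pow_orderOf_eq_one g
    rw [hgo, hgv, hcv.mul_pow, ← hord, pow_orderOf_eq_one, one_mul, hord] at this
    simpa using this
  have h1 : (⟨v, hv⟩ : Subgroup.center (GL (Fin n) F)) = 1 := by
    apply (powCoprime hcop).injective
    simpa using hvr
  rw [hgv, show v = 1 from congrArg Subtype.val h1, mul_one]

end Cfsg.Agent.S2567
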