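import Cfsg.Statements.S2568
import Cfsg.Agent.H41.ClassCount

set_option autoImplicit false
open Cfsg

namespace Cfsg.Agent.S2568

/-- Number of conjugacy classes of elements of a given prime order r, coprime to the characteristic, in GL_n(q): if i is the multiplicative order of q modulo r and t = (r − 1)/i, the classes correspond to the non-zero t-tuples of natural numbers (a_1, …, a_t) with i(a_1 + ⋯ + a_t) ≤ n (a_j is the multiplicity of the j-th Frobenius orbit of nontrivial r-th roots of unity among the eigenvalues), so there are exactly C(⌊n/i⌋ + t, t) − 1 of them. -/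
theorem result {F : Type*} [Field F] [Fintype F] {p q : ℕ} [Fact p.Prime] [CharP F p] (hF : Fintype.card F = q) (n r i t : ℕ) (hr : r.Prime) (hrp : r ≠ p) (hi : i = orderOf (q : ZMod r)) (ht : t * i = r - 1) : Nat.card {C : ConjClasses (GL (Fin n) F) // ∃ g : GL (Fin n) F, ConjClasses.mk g = C ∧ orderOf g = r} = Nat.choose (n / i + t) t - 1 := by
  classical
  haveI : Fact r.Prime := ⟨hr⟩
  rw [H41.card_classes_orderOf_prime r hr]
  congr 1
  subst hF
  obtain ⟨u, hu⟩ : ∃ u : Polynomial F, u = Polynomial.X - Polynomial.C 1 := ⟨_, rfl⟩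
  have hum : u.Monic := hu ▸ Polynomial.monic_X_sub_C 1
  have hui : Irreducible u := hu ▸ Polynomial.irreducible_X_sub_C 1
  have hud : u.natDegree = 1 := hu ▸ Polynomial.natDegree_X_sub_C 1
  have huX : u ≠ Polynomial.X := fun h => by
    rw [hu] at h
    have := congrArg (Polynomial.eval 0) h
    simp at this
  obtain ⟨G, hG⟩ : ∃ G : Polynomial F, G = Polynomial.X ^ r - 1 := ⟨_, rfl⟩
  have hGm : G.Monic := by
    rw [hG, ← Polynomial.C_1]; exact Polynomial.monic_X_pow_sub_C 1 hr.ne_zero
  have hGsq : Squarefree G := by
    rw [hG, ← Polynomial.C_1]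
    refine (Polynomial.separable_X_pow_sub_C (1 : F) ?_ one_ne_zero).squarefree
    rw [Ne, CharP.cast_eq_zero_iff F p]
    intro h
    exact hrp ((Nat.prime_dvd_prime_iff_eq (Fact.out) hr).mp h).symm
  have hipos : 0 < i := by
    rcases Nat.eq_zero_or_pos i with h | h
    · rw [h, Nat.mul_zero] at ht
      have := hr.two_le
      omega
    · exact h
  have hdeg : ∀ f : Polynomial F, f.Monic → Irreducible f → f ∣ G → f ≠ u → f.natDegree = i := by
    intro f hfm hfi hfG hfu
    haveI : Fact (Irreducible f) := ⟨hfi⟩
    have hroot : (AdjoinRoot.root f) ^ r = 1 := by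
      have h0 := AdjoinRoot.mk_eq_zero.mpr hfG
      rw [hG, map_sub, map_pow, AdjoinRoot.mk_X, map_one, sub_eq_zero] at h0
      exact h0
    have hne1 : AdjoinRoot.root f ≠ 1 := by
      intro h
      apply hfu
      refine Polynomial.eq_of_monic_of_associated hfm hum (hfi.associated_of_dvd hui ?_)
      rw [← AdjoinRoot.mk_eq_zero, hu, map_sub, AdjoinRoot.mk_X, AdjoinRoot.mk_C, map_one, h, sub_self]
    have hord := orderOf_eq_prime hroot hne1
    have hne0 : AdjoinRoot.root f ≠ 0 := fun h => by
      rw [h, zero_pow hr.ne_zero] at hroot; exact zero_ne_one hroot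
    have key : ∀ d, f.natDegree ∣ d ↔ ((Fintype.card F : ℕ) : ZMod r) ^ d = 1 := by
      intro d
      rw [hfi.natDegree_dvd_iff_dvd_X_pow_card_pow_sub_X, Nat.card_eq_fintype_card,
        ← AdjoinRoot.mk_eq_zero, map_sub, map_pow, AdjoinRoot.mk_X, sub_eq_zero,
        ← H41.dvd_card_pow_sub_one_iff]
      obtain ⟨c, hc⟩ : ∃ c, Fintype.card F ^ d = c + 1 :=
        ⟨Fintype.card F ^ d - 1, (Nat.sub_add_cancel (Nat.one_le_pow _ _ Fintype.card_pos)).symm⟩
      rw [hc, Nat.add_sub_cancel, pow_succ, mul_eq_right₀ hne0, ← orderOf_dvd_iff_pow_eq_one, hord]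
    refine Nat.dvd_antisymm ((key i).mpr (hi ▸ pow_orderOf_eq_one _)) ?_
    rw [hi]
    exact orderOf_dvd_of_pow_eq_one ((key _).mp dvd_rfl)
  obtain ⟨S, hS⟩ : ∃ S : Finset (Polynomial F),
      S = (UniqueFactorizationMonoid.normalizedFactors G).toFinset := ⟨_, rfl⟩
  have hmem : ∀ f, f ∈ S ↔ f.Monic ∧ Irreducible f ∧ f ∣ G := fun f => by
    rw [hS, Multiset.mem_toFinset, H41.mem_normalizedFactors_poly hGm.ne_zero]
  have huS : u ∈ S := (hmem u).mpr ⟨hum, hui, by rw [hu, hG, Polynomial.dvd_iff_isRoot]; simp⟩
  have hcard : (S.erase u).card = t := by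
    have hsum : ∑ f ∈ S, f.natDegree = r := by
      rw [hS, Finset.sum_eq_multiset_sum, Multiset.toFinset_val,
        Multiset.dedup_eq_self.mpr
          ((UniqueFactorizationMonoid.squarefree_iff_nodup_normalizedFactors hGm.ne_zero).mp hGsq),
        ← Polynomial.natDegree_multiset_prod_of_monic _
          (fun f hf => ((H41.mem_normalizedFactors_poly hGm.ne_zero).mp hf).1),
        Polynomial.natDegree_eq_of_degree_eq (Polynomial.degree_eq_degree_of_associated
          (UniqueFactorizationMonoid.prod_normalizedFactors hGm.ne_zero)), hG, ← Polynomial.C_1,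
        Polynomial.natDegree_X_pow_sub_C]
    rw [← Finset.add_sum_erase _ _ huS, hud, Finset.sum_eq_card_nsmul (b := i) (fun f hf => by
      obtain ⟨hne, hf⟩ := Finset.mem_erase.mp hf
      obtain ⟨h1, h2, h3⟩ := (hmem f).mp hf
      exact hdeg f h1 h2 h3 hne), smul_eq_mul] at hsum
    exact Nat.eq_of_mul_eq_mul_right hipos (by omega)
  have hfac : ∀ s : H41.EDiv F n, (∀ x ∈ s.1, x.1 ^ x.2 ∣ (Polynomial.X : Polynomial F) ^ r - 1) →
      ∀ x ∈ s.1, x.2 = 1 ∧ x.1 ∈ S := by
    intro s hs x hx
    obtain ⟨hm, hir, -, he⟩ := s.2.1 x hx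
    have h := hs x hx
    rw [← hG] at h
    refine ⟨?_, (hmem _).mpr ⟨hm, hir, (dvd_pow_self _ he.ne').trans h⟩⟩
    by_contra h1
    exact hir.not_isUnit (hGsq x.1 ((by rw [← pow_two]; exact pow_dvd_pow _ (by omega) : x.1 * x.1 ∣ x.1 ^ x.2).trans h))
  let O := Option {f // f ∈ S.erase u}
  let toP : O → Polynomial F := fun o => o.elim u Subtype.val
  have htoP : ∀ o : O, toP o ∈ S := by
    rintro (_ | f)
    · exact huS
    · exact Finset.mem_of_mem_erase f.2
  have hdsum : ∀ w : Multiset O, ((w.map fun o => (toP o).natDegree)).sum =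
      w.count none + i * (Multiset.card w - w.count none) := by
    intro w
    induction w using Multiset.induction with
    | empty => simp
    | cons o w ih =>
      rw [Multiset.map_cons, Multiset.sum_cons, ih, Multiset.count_cons, Multiset.card_cons]
      rcases o with _ | f
      · show u.natDegree + _ = _
        rw [hud, if_pos rfl, Nat.add_sub_add_right]
        ring
      · show f.1.natDegree + _ = _
        obtain ⟨hne, hf⟩ := Finset.mem_erase.mp f.2
        obtain ⟨h1, h2, h3⟩ := (hmem f.1).mp hf
        have := w.count_le_card none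
        rw [hdeg f.1 h1 h2 h3 hne, if_neg (by simp), Nat.add_zero,
          Nat.sub_add_comm this, Nat.mul_succ]
        omega
  let ofX : Polynomial F → O := fun f => if h : f ∈ S.erase u then some ⟨f, h⟩ else none
  have hinv : ∀ f ∈ S, toP (ofX f) = f := by
    intro f hf
    simp only [ofX]
    split_ifs with h
    · rfl
    · exact (by simpa [hf] using h : f = u).symm
  have hofX : ∀ o : O, ofX (toP o) = o := by
    rintro (_ | f)
    · simp [ofX, toP]
    · show dite _ _ _ = _
      exact dif_pos f.2
  have hW : Nat.card {s : H41.EDiv F n // ∀ x ∈ s.1, x.1 ^ x.2 ∣ (Polynomial.X : Polynomial F) ^ r - 1} =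
      Nat.card {w : Multiset O // (w.map fun o => (toP o).natDegree).sum = n} := by
    refine Nat.card_congr
      { toFun := fun s => ⟨s.1.1.map fun x => ofX x.1, ?_⟩
        invFun := fun w => ⟨⟨w.1.map fun o => (toP o, 1), ?_, ?_⟩, ?_⟩
        left_inv := ?_
        right_inv := ?_ }
    · rw [Multiset.map_map]
      refine Eq.trans ?_ s.1.2.2
      congr 1
      exact Multiset.map_congr rfl fun x hx => by
        rw [Function.comp_apply, hinv _ (hfac s.1 s.2 x hx).2, (hfac s.1 s.2 x hx).1, mul_one]
    · intro x hx
      obtain ⟨o, -, rfl⟩ := Multiset.mem_map.mp hx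
      obtain ⟨h1, h2, h3⟩ := (hmem _).mp (htoP o)
      refine ⟨h1, h2, ?_, Nat.one_pos⟩
      intro h
      have h3' : (Polynomial.X : Polynomial F) ∣ G := h ▸ h3
      rw [hG, Polynomial.X_dvd_iff] at h3'
      simp [Polynomial.coeff_X_pow, hr.ne_zero.symm] at h3'
    · rw [Multiset.map_map]
      simpa [Function.comp_def] using w.2
    · intro x hx
      obtain ⟨o, -, rfl⟩ := Multiset.mem_map.mp hx
      rw [pow_one, ← hG]
      exact ((hmem _).mp (htoP o)).2.2
    · intro s
      apply Subtype.ext; apply Subtype.ext
      show (s.1.1.map fun x => ofX x.1).map (fun o => (toP o, 1)) = s.1.1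
      rw [Multiset.map_map]
      refine Eq.trans ?_ (Multiset.map_id _)
      exact Multiset.map_congr rfl fun x hx =>
        Prod.ext (hinv _ (hfac s.1 s.2 x hx).2) (hfac s.1 s.2 x hx).1.symm
    · intro w
      apply Subtype.ext
      show (w.1.map fun o => (toP o, 1)).map (fun x => ofX x.1) = w.1
      rw [Multiset.map_map]
      exact (Multiset.map_congr rfl fun o _ => hofX o).trans (Multiset.map_id' _)
  rw [hW]
  simp only [hdsum]
  have hrec : ∀ w : Multiset O,
      w.filter (fun o => ¬ o = none) + Multiset.replicate (w.count none) none = w := by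
    intro w
    refine Multiset.ext.mpr fun o => ?_
    rw [Multiset.count_add, Multiset.count_filter, Multiset.count_replicate]
    by_cases ho : o = none
    · subst ho; simp
    · simp [ho, Ne.symm ho]
  have hcn : ∀ w : Multiset O,
      w.count none + Multiset.card (w.filter (fun o => ¬ o = none)) = Multiset.card w := by
    intro w
    conv_rhs => rw [← hrec w, Multiset.card_add, Multiset.card_replicate, add_comm]
  have hrep : ∀ k : ℕ, (Multiset.replicate k (none : O)).filter (fun o => ¬ o = none) = 0 :=
    fun k => Multiset.filter_eq_nil.mpr fun o ho => not_not_intro (Multiset.eq_of_mem_replicate ho)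
  have hsym : {w : Multiset O // w.count none + i * (Multiset.card w - w.count none) = n} ≃ Sym O (n / i) := by
    refine
      { toFun := fun w => ⟨w.1.filter (· ≠ none) +
          Multiset.replicate (n / i - Multiset.card (w.1.filter (· ≠ none))) none, ?_⟩
        invFun := fun v => ⟨v.1.filter (· ≠ none) +
          Multiset.replicate (n - i * Multiset.card (v.1.filter (· ≠ none))) none, ?_⟩
        left_inv := ?_
        right_inv := ?_ }
    · have h := w.2
      have hsplit := hcn w.1
      rw [← hsplit, Nat.add_sub_cancel_left] at h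
      have : Multiset.card (w.1.filter (· ≠ none)) ≤ n / i := by
        rw [Nat.le_div_iff_mul_le hipos, mul_comm]; simp only [ne_eq] at h ⊢; omega
      rw [Multiset.card_add, Multiset.card_replicate]
      omega
    · have hv : Multiset.card (v.1.filter (· ≠ none)) ≤ n / i :=
        (Multiset.card_le_card (Multiset.filter_le _ _)).trans_eq v.2
      have hv' : i * Multiset.card (v.1.filter (· ≠ none)) ≤ n :=
        (Nat.mul_le_mul_left i hv).trans (Nat.mul_div_le n i)
      rw [Multiset.count_add, Multiset.count_filter, Multiset.card_add, Multiset.count_replicate_self,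
        Multiset.card_replicate, if_neg (by simp), Nat.zero_add, Nat.add_sub_cancel]
      omega
    · intro w
      apply Subtype.ext
      have h := w.2
      have hsplit := hcn w.1
      rw [← hsplit, Nat.add_sub_cancel_left] at h
      simp only [ne_eq, Multiset.filter_add, Multiset.filter_filter, and_self]
      rw [hrep, add_zero,
        show n - i * Multiset.card (w.1.filter (fun o => ¬ o = none)) = w.1.count none by omega]
      exact hrec w.1
    · intro v
      apply Subtype.ext
      have hsplit := hcn v.1
      rw [v.2] at hsplit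
      simp only [ne_eq, Multiset.filter_add, Multiset.filter_filter, and_self]
      rw [hrep, add_zero,
        show n / i - Multiset.card (v.1.filter (fun o => ¬ o = none)) = v.1.count none by omega]
      exact hrec v.1
  rw [Nat.card_congr hsym, Nat.card_eq_fintype_card, Sym.card_sym_eq_choose, Fintype.card_option,
    Fintype.card_coe, hcard]
  generalize n / i = m
  rw [show t + 1 + m - 1 = m + t by omega, Nat.choose_symm_add]

end Cfsg.Agent.S2568
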