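import Cfsg.Statements.S2569
import Cfsg.Agent.H41.CentralDet

set_option autoImplicit false
open Cfsg

namespace Cfsg.Agent.S2569

/-- In GL_n over a finite field of characteristic p, the conjugacy class of a semisimple element (an element of order prime to p) under the special linear group is its whole GL-conjugacy class: for every such x and every invertible g there is h of determinant one with h x h⁻¹ = g x g⁻¹. -/
theorem result {F : Type*} [Field F] [Fintype F] {p : ℕ} [Fact p.Prime] [CharP F p] {n : ℕ} (x g : GL (Fin n) F) (hx : (orderOf x).Coprime p) : ∃ h : GL (Fin n) F, (h : Matrix (Fin n) (Fin n) F).det = 1 ∧ h * x * h⁻¹ = g * x * g⁻¹ := by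
  classical
  rcases n.eq_zero_or_pos with rfl | hn
  · exact ⟨1, by simp, Subsingleton.elim _ _⟩
  obtain ⟨s, hs⟩ := H41.exists_ediv_of_gl x
  have hcls : ConjClasses.mk x = H41.glClassEquiv s := (H41.mk_eq_glClassEquiv_iff x s).mpr hs
  have hm0 : (orderOf x : F) ≠ 0 := by
    rw [Ne, CharP.cast_eq_zero_iff F p]
    intro h
    exact (Fact.out : p.Prime).ne_one (Nat.eq_one_of_dvd_coprimes hx h dvd_rfl)
  have hsq : Squarefree ((Polynomial.X : Polynomial F) ^ orderOf x - 1) := by
    rw [← Polynomial.C_1]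
    exact (Polynomial.separable_X_pow_sub_C (1 : F) hm0 one_ne_zero).squarefree
  have hne : s.1 ≠ 0 := by
    intro h
    have := s.2.2
    rw [h] at this
    simp at this
    omega
  obtain ⟨y, hy⟩ := Multiset.exists_mem_of_ne_zero hne
  obtain ⟨hym, hyi, -, hye⟩ := s.2.1 y hy
  have hd := (H41.pow_eq_one_iff_ediv x s hcls (orderOf x)).mp (pow_orderOf_eq_one x) y hy
  have hy1 : y.2 = 1 := by
    by_contra h
    exact hyi.not_isUnit (hsq y.1 (((pow_two y.1).symm ▸ pow_dvd_pow y.1 (by omega : 2 ≤ y.2)).trans hd))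
  obtain ⟨c, hc, hcd⟩ := H41.exists_commute_det_eq_pow x s hcls y hy (Matrix.GeneralLinearGroup.det g)⁻¹
  rw [hy1, pow_one] at hcd
  refine ⟨g * c, ?_, ?_⟩
  · rw [← Matrix.GeneralLinearGroup.val_det_apply, map_mul, hcd, mul_inv_cancel, Units.val_one]
  · rw [mul_inv_rev, mul_assoc g c x, hc.eq]
    group

end Cfsg.Agent.S2569
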