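import Cfsg.Statements.S2570
import Cfsg.Agent.H41.ClassCount

set_option autoImplicit false
open Cfsg

namespace Cfsg.Agent.S2570

/-- Number of conjugacy classes of elements of order p in GL_n over a finite field of characteristic p: they correspond to the Jordan types, that is, to the partitions of n with all parts at most p other than the partition into ones, so there are (number of partitions of n with parts ≤ p) − 1 of them. -/
theorem result {F : Type*} [Field F] [Fintype F] {p : ℕ} [Fact p.Prime] [CharP F p] (n : ℕ) : Nat.card {C : ConjClasses (GL (Fin n) F) // ∃ g : GL (Fin n) F, ConjClasses.mk g = C ∧ orderOf g = p} = (Finset.univ.filter (fun μ : Nat.Partition n => ∀ a ∈ μ.parts, a ≤ p)).card - 1 := by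
  classical
  have hp : p.Prime := Fact.out
  rw [H41.card_classes_orderOf_prime p hp, ← Fintype.card_subtype, ← Nat.card_eq_fintype_card]
  congr 1
  have hX1 : ((Polynomial.X : Polynomial F) ^ p - 1) = (Polynomial.X - Polynomial.C 1) ^ p := by
    rw [sub_pow_char, map_one, one_pow]
  have hne : (Polynomial.X - Polynomial.C (1 : F)) ≠ Polynomial.X := fun h => by
    have := congrArg (Polynomial.eval 0) h
    simp at this
  have hfst : ∀ s : H41.EDiv F n, (∀ x ∈ s.1, x.1 ^ x.2 ∣ (Polynomial.X : Polynomial F) ^ p - 1) →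
      ∀ x ∈ s.1, x.1 = Polynomial.X - Polynomial.C 1 ∧ x.2 ≤ p := by
    intro s hs x hx
    obtain ⟨hm, hi, -, he⟩ := s.2.1 x hx
    have h := hs x hx
    rw [hX1] at h
    have h1 : x.1 = Polynomial.X - Polynomial.C 1 :=
      Polynomial.eq_of_monic_of_associated hm (Polynomial.monic_X_sub_C 1)
        (hi.associated_of_dvd (Polynomial.irreducible_X_sub_C 1)
          (hi.prime.dvd_of_dvd_pow ((dvd_pow_self _ he.ne').trans h)))
    rw [h1] at h
    exact ⟨h1, (pow_dvd_pow_iff (Polynomial.X_sub_C_ne_zero 1)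
      (Polynomial.not_isUnit_X_sub_C 1)).mp h⟩
  refine Nat.card_congr
    { toFun := fun s => ⟨⟨s.1.1.map Prod.snd, ?_, ?_⟩, ?_⟩
      invFun := fun μ => ⟨⟨μ.1.parts.map fun a => (Polynomial.X - Polynomial.C 1, a), ?_, ?_⟩, ?_⟩
      left_inv := ?_
      right_inv := ?_ }
  · intro i hi
    obtain ⟨x, hx, rfl⟩ := Multiset.mem_map.mp hi
    exact (s.1.2.1 x hx).2.2.2
  · refine Eq.trans ?_ s.1.2.2
    congr 1
    exact Multiset.map_congr rfl fun x hx => by
      rw [(hfst s.1 s.2 x hx).1, Polynomial.natDegree_X_sub_C, one_mul]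
  · intro a ha
    obtain ⟨x, hx, rfl⟩ := Multiset.mem_map.mp ha
    exact (hfst s.1 s.2 x hx).2
  · intro x hx
    obtain ⟨a, ha, rfl⟩ := Multiset.mem_map.mp hx
    exact ⟨Polynomial.monic_X_sub_C 1, Polynomial.irreducible_X_sub_C 1, hne, μ.1.parts_pos ha⟩
  · rw [Multiset.map_map]
    refine Eq.trans ?_ μ.1.parts_sum
    congr 1
    refine Eq.trans ?_ (Multiset.map_id _)
    refine Multiset.map_congr rfl fun a _ => ?_
    simp only [Function.comp_apply, id, Polynomial.natDegree_X_sub_C, one_mul]
  · intro x hx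
    obtain ⟨a, ha, rfl⟩ := Multiset.mem_map.mp hx
    rw [hX1]
    exact pow_dvd_pow _ (μ.2 a ha)
  · intro s
    apply Subtype.ext
    apply Subtype.ext
    show (s.1.1.map Prod.snd).map _ = s.1.1
    rw [Multiset.map_map]
    refine Eq.trans ?_ (Multiset.map_id _)
    exact Multiset.map_congr rfl fun x hx => Prod.ext (hfst s.1 s.2 x hx).1.symm rfl
  · intro μ
    apply Subtype.ext
    apply Nat.Partition.ext
    show (μ.1.parts.map _).map Prod.snd = μ.1.parts
    rw [Multiset.map_map]
    exact Multiset.map_id' _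

end Cfsg.Agent.S2570
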