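import Cfsg.Statements.S2571
import Cfsg.Agent.H41.UnipCentralizer
-- import your own Cfsg.Agent.* helpers here

set_option autoImplicit false
open Cfsg

namespace Cfsg.Agent.S2571

/-- Centraliser of a regular unipotent element in GL_n(q): if u is an invertible n × n matrix over the field with q elements, n ≥ 1, with (u − 1)^n = 0 and rank(u − 1) = n − 1 (a single unipotent Jordan block), then its centraliser in GL_n(q) has order (q − 1) q^(n−1). -/
theorem result {F : Type*} [Field F] [Fintype F] {q n : ℕ} (hF : Fintype.card F = q) (hn : 1 ≤ n) (u : GL (Fin n) F) (hnil : ((u : Matrix (Fin n) (Fin n) F) - 1) ^ n = 0) (hreg : ((u : Matrix (Fin n) (Fin n) F) - 1).rank = n - 1) : Nat.card ↥(Subgroup.centralizer ({u} : Set (GL (Fin n) F))) = (q - 1) * q ^ (n - 1) := by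
  classical
  obtain ⟨t, d, e, hd, hc⟩ := H51.exists_jordanType (u : Matrix (Fin n) (Fin n) F) ⟨n, hnil⟩
  have hs := H41.sum_type e
  have h1 := H51.rank_of_isConj_jordanType e hc 1
  rw [pow_one, hreg] at h1
  have h2 := H41.sum_sub_one hd
  obtain rfl : t = 1 := by omega
  rw [H41.card_centralizer_of_jordanType u e hc, Cfsg.Agent.S2581.result hF d hd]
  have hd0 : d 0 = n := by simpa using hs
  have hsup : Finset.univ.sup d = n := by simpa using hd0
  rw [hsup]
  have hf : ∀ i, (Finset.univ.filter (fun k : Fin 1 => d k = i)).card = if i = n then 1 else 0 := by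
    intro i
    split_ifs with h
    · rw [Finset.filter_true_of_mem fun k _ => by rw [Subsingleton.elim k 0, hd0, h], Finset.card_univ, Fintype.card_fin]
    · rw [Finset.card_eq_zero, Finset.filter_eq_empty_iff]
      intro k _
      rw [Subsingleton.elim k 0, hd0]
      exact Ne.symm h
  have e1 : (∑ i ∈ Finset.range (n + 1), ∑ j ∈ Finset.range (n + 1), if i < j then i * (Finset.univ.filter (fun k : Fin 1 => d k = i)).card * (Finset.univ.filter (fun k : Fin 1 => d k = j)).card else 0) = 0 := by
    refine Finset.sum_eq_zero fun i hi => Finset.sum_eq_zero fun j hj => ?_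
    rw [hf, hf, Finset.mem_range] at *
    by_cases hij : i < j
    · have : i ≠ n := by omega
      simp [this]
    · simp [hij]
  have e2 : ∑ i ∈ Finset.range (n + 1), (i - 1) * (Finset.univ.filter (fun k : Fin 1 => d k = i)).card ^ 2 = n - 1 := by
    rw [Finset.sum_eq_single n]
    · rw [hf, if_pos rfl]; simp
    · intro i _ hi; rw [hf, if_neg hi]; simp
    · simp
  have e3 : (∏ i ∈ Finset.range (n + 1), ∏ j : Fin ((Finset.univ.filter (fun k : Fin 1 => d k = i)).card), (q ^ (Finset.univ.filter (fun k : Fin 1 => d k = i)).card - q ^ (j : ℕ))) = q - 1 := by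
    rw [Finset.prod_eq_single n]
    · rw [hf n, if_pos rfl]; simp
    · intro i _ hi
      rw [hf i, if_neg hi]; simp
    · simp
  rw [e1, e2, e3, mul_comm, mul_zero, zero_add]

end Cfsg.Agent.S2571
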