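import Cfsg.Statements.S2572
import Cfsg.Agent.H41.UnipCentralizer
-- import your own Cfsg.Agent.* helpers here

set_option autoImplicit false
open Cfsg

namespace Cfsg.Agent.S2572

/-- Centraliser of a transvection in GL_n(q), n ≥ 2: if t − 1 has rank one and square zero, the centraliser of t in GL_n(q) has order q^(2n−3) (q − 1) |GL_(n−2)(q)| (a group of order q^(2n−3) extended by GL_1(q) × GL_(n−2)(q)). -/
theorem result {F : Type*} [Field F] [Fintype F] {q n : ℕ} (hF : Fintype.card F = q) (hn : 2 ≤ n) (t : GL (Fin n) F) (ht : Cfsg.IsTransvection (t : Matrix (Fin n) (Fin n) F)) : Nat.card ↥(Subgroup.centralizer ({t} : Set (GL (Fin n) F))) = q ^ (2 * n - 3) * (q - 1) * ∏ i : Fin (n - 2), (q ^ (n - 2) - q ^ (i : ℕ)) := by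
  classical
  obtain ⟨ht1, ht2⟩ := ht
  obtain ⟨s, d, e, hd, hc⟩ := H51.exists_jordanType (t : Matrix (Fin n) (Fin n) F) ⟨2, by rw [pow_two, ht2]⟩
  have hs := H41.sum_type e
  have h1 := H51.rank_of_isConj_jordanType e hc 1
  rw [pow_one, ht1] at h1
  have h2 := H41.sum_sub_one hd
  have h3 := H51.rank_of_isConj_jordanType e hc 2
  rw [pow_two, ht2, Matrix.rank_zero, eq_comm, Finset.sum_eq_zero_iff] at h3
  have hle : ∀ k, d k = 1 ∨ d k = 2 := fun k => by
    have := hd k; have := h3 k (Finset.mem_univ k); omega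
  have c2 : (Finset.univ.filter (fun k => d k = 2)).card = 1 := by
    refine Eq.trans ?_ h1.symm
    rw [Finset.card_filter]
    exact Finset.sum_congr rfl fun k _ => by rcases hle k with h | h <;> simp [h]
  have c1 : (Finset.univ.filter (fun k => d k = 1)).card = n - 2 := by
    have := Finset.card_filter_add_card_filter_not (s := (Finset.univ : Finset (Fin s))) (p := fun k => d k = 2)
    rw [c2, Finset.card_univ, Fintype.card_fin, Finset.filter_congr (fun k _ => (show ¬ d k = 2 ↔ d k = 1 by
      rcases hle k with h | h <;> omega))] at this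
    omega
  have c0 : (Finset.univ.filter (fun k => d k = 0)).card = 0 := by
    rw [Finset.card_eq_zero, Finset.filter_eq_empty_iff]
    intro k _
    have := hd k; omega
  have hsup : Finset.univ.sup d = 2 := by
    refine le_antisymm (Finset.sup_le fun k _ => by rcases hle k with h | h <;> omega) ?_
    obtain ⟨k, hk⟩ := Finset.card_pos.mp (c2 ▸ Nat.one_pos)
    exact (Finset.mem_filter.mp hk).2 ▸ Finset.le_sup (Finset.mem_univ k)
  rw [H41.card_centralizer_of_jordanType t e hc, Cfsg.Agent.S2581.result hF d hd, hsup]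
  have hsum : 2 * (∑ i ∈ Finset.range (2 + 1), ∑ j ∈ Finset.range (2 + 1), if i < j then i * (Finset.univ.filter (fun k => d k = i)).card * (Finset.univ.filter (fun k => d k = j)).card else 0) + ∑ i ∈ Finset.range (2 + 1), (i - 1) * (Finset.univ.filter (fun k => d k = i)).card ^ 2 = 2 * n - 3 := by
    simp [Finset.sum_range_succ, c0, c1, c2]
    omega
  have hprod : (∏ i ∈ Finset.range (2 + 1), ∏ j : Fin ((Finset.univ.filter (fun k => d k = i)).card), (q ^ (Finset.univ.filter (fun k => d k = i)).card - q ^ (j : ℕ))) = (∏ i : Fin (n - 2), (q ^ (n - 2) - q ^ (i : ℕ))) * (q - 1) := by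
    rw [Finset.prod_range_succ, Finset.prod_range_succ, Finset.prod_range_one, c0, c1, c2]
    simp
  rw [hsum, hprod]
  ring

end Cfsg.Agent.S2572
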