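import Cfsg.Statements.S2573

set_option autoImplicit false
open Cfsg

namespace Cfsg.Agent.S2573

/-- The invariant subspaces of a regular unipotent matrix form a chain: over a finite field, if u is an n × n matrix with (u − 1)^n = 0 and rank(u − 1) = n − 1, then every subspace W of F^n with u W ⊆ W is the kernel of (u − 1)^(dim W); so u has at most one invariant subspace of each dimension. -/
theorem result {F : Type*} [Field F] [Finite F] {n : ℕ} (u : Matrix (Fin n) (Fin n) F) (hnil : (u - 1) ^ n = 0) (hreg : (u - 1).rank = n - 1) (W : Submodule F (Fin n → F)) (hW : ∀ v ∈ W, u.mulVec v ∈ W) : W = LinearMap.ker (Matrix.mulVecLin ((u - 1) ^ Module.finrank F W)) := by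
  set N : Module.End F (Fin n → F) := Matrix.toLinAlgEquiv' (u - 1) with hN
  have hNpow : ∀ k, Matrix.mulVecLin ((u - 1) ^ k) = N ^ k := fun k => by
    rw [hN, ← map_pow]; rfl
  rw [hNpow]
  have hNv : ∀ v, N v = u.mulVec v - v := fun v => by
    rw [hN, Matrix.toLinAlgEquiv'_apply, Matrix.sub_mulVec, Matrix.one_mulVec]
  have hker1 : Module.finrank F (LinearMap.ker N) ≤ 1 := by
    have h := LinearMap.finrank_range_add_finrank_ker N
    have h2 : Module.finrank F (LinearMap.range N) = n - 1 := by rw [← hreg]; rfl
    rw [h2, Module.finrank_fin_fun] at h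
    omega
  have hk : ∀ k, Module.finrank F (LinearMap.ker (N ^ k)) ≤ k := by
    intro k
    induction k with
    | zero => rw [pow_zero, Module.End.one_eq_id, LinearMap.ker_id, finrank_bot]
    | succ k ih =>
      have hle : ∀ x ∈ LinearMap.ker (N ^ (k + 1)), N x ∈ LinearMap.ker (N ^ k) := by
        intro x hx
        rw [LinearMap.mem_ker, ← Module.End.mul_apply, ← pow_succ]
        exact hx
      set f := N.restrict hle with hf
      have h := LinearMap.finrank_range_add_finrank_ker f
      have h1 : Module.finrank F (LinearMap.range f) ≤ k := (Submodule.finrank_le _).trans ih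
      have h2 : Module.finrank F (LinearMap.ker f) ≤ 1 := by
        refine le_trans ?_ hker1
        let g : LinearMap.ker f →ₗ[F] LinearMap.ker N :=
          { toFun := fun x => ⟨(x.1 : Fin n → F), congrArg Subtype.val x.2⟩
            map_add' := fun _ _ => rfl
            map_smul' := fun _ _ => rfl }
        exact LinearMap.finrank_le_finrank_of_injective (f := g) fun x y hxy => by
          have := congrArg Subtype.val hxy
          exact Subtype.ext (Subtype.ext this)
      omega
  have hWN : ∀ v ∈ W, N v ∈ W := fun v hv => by rw [hNv]; exact W.sub_mem (hW v hv) hv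
  have hnilW : IsNilpotent (N.restrict hWN) := by
    refine ⟨n, ?_⟩
    rw [Module.End.pow_restrict n]
    apply LinearMap.ext
    intro x
    apply Subtype.ext
    rw [LinearMap.coe_restrict_apply, ← hNpow, hnil]
    simp
  have hpow : (N.restrict hWN) ^ Module.finrank F W = 0 := by
    rw [← Polynomial.aeval_X (R := F) (N.restrict hWN), ← map_pow,
      ← IsNilpotent.charpoly_eq_X_pow_finrank hnilW, LinearMap.aeval_self_charpoly]
  have hle : W ≤ LinearMap.ker (N ^ Module.finrank F W) := by
    intro v hv
    have h := DFunLike.congr_fun hpow ⟨v, hv⟩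
    rw [Module.End.pow_restrict] at h
    simpa using congrArg Subtype.val h
  exact Submodule.eq_of_le_of_finrank_le hle (hk _)

end Cfsg.Agent.S2573
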