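import Cfsg.Statements.S2574
import Cfsg.Agent.H48.Form

set_option autoImplicit false
open Cfsg

namespace Cfsg.Agent.S2574

/-- A regular unipotent element of the symplectic group has totally isotropic small invariant subspaces: over a finite field, if u ∈ Sp_2m(F) satisfies (u − 1)^(2m) = 0 and rank(u − 1) = 2m − 1, and W is a u-invariant subspace with 2 dim W ≤ 2m, then the alternating form vanishes identically on W. -/
theorem result {F : Type*} [Field F] [Finite F] {m : ℕ} (u : Matrix.symplecticGroup (Fin m) F) (hnil : ((u : Matrix (Fin m ⊕ Fin m) (Fin m ⊕ Fin m) F) - 1) ^ (2 * m) = 0) (hreg : ((u : Matrix (Fin m ⊕ Fin m) (Fin m ⊕ Fin m) F) - 1).rank = 2 * m - 1) (W : Submodule F (Fin m ⊕ Fin m → F)) (hW : ∀ v ∈ W, (u : Matrix (Fin m ⊕ Fin m) (Fin m ⊕ Fin m) F).mulVec v ∈ W) (hdim : 2 * Module.finrank F W ≤ 2 * m) : ∀ v ∈ W, ∀ w ∈ W, Cfsg.sympForm m F v w = 0 := by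
  let N : Module.End F (Fin m ⊕ Fin m → F) :=
    Matrix.toLinAlgEquiv' ((u : Matrix (Fin m ⊕ Fin m) (Fin m ⊕ Fin m) F) - 1)
  have hNapp : ∀ x, N x = u • x - x := fun x => by
    simp [N, Matrix.sub_mulVec, H48.spSmulDef]
  have hN : N ^ (2 * m) = 0 := by rw [← map_pow, hnil, map_zero]
  have hrank : Module.finrank F (LinearMap.range N) = 2 * m - 1 := hreg
  have hV : Module.finrank F (Fin m ⊕ Fin m → F) = 2 * m := by simp; ring
  -- kernels grow by at most one
  have hker : ∀ k, Module.finrank F (LinearMap.ker (N ^ k)) ≤ k := by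
    intro k
    induction k with
    | zero => simp [Module.End.one_eq_id]
    | succ k ih =>
      let R : LinearMap.ker (N ^ (k + 1)) →ₗ[F] LinearMap.ker (N ^ k) :=
        (N.comp (LinearMap.ker (N ^ (k + 1))).subtype).codRestrict _ (fun x => by
          have hx : (N ^ (k + 1)) x.1 = 0 := x.2
          have h : ∀ z, (N ^ (k + 1)) z = (N ^ k) (N z) := fun z => by
            rw [pow_succ, Module.End.mul_apply]
          exact (h _).symm.trans hx)
      have h1 := R.finrank_range_add_finrank_ker
      have h2 : Module.finrank F (LinearMap.range R) ≤ k := le_trans (Submodule.finrank_le _) ih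
      have h3 : Module.finrank F (LinearMap.ker R) ≤ 1 := by
        let S : LinearMap.ker R →ₗ[F] LinearMap.ker N :=
          ((LinearMap.ker (N ^ (k + 1))).subtype.comp (LinearMap.ker R).subtype).codRestrict _
            (fun x => congrArg Subtype.val (LinearMap.mem_ker.1 x.2))
        have hS : Function.Injective S := fun a b hab =>
          Subtype.ext (Subtype.ext (congrArg (fun z : LinearMap.ker N => (z : Fin m ⊕ Fin m → F)) hab))
        have h4 := LinearMap.finrank_le_finrank_of_injective hS
        have h5 := N.finrank_range_add_finrank_ker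
        rw [hrank, hV] at h5
        omega
      omega
  set d := Module.finrank F W with hd
  have heq : LinearMap.range (N ^ (2 * m - d)) = LinearMap.ker (N ^ d) := by
    refine Submodule.eq_of_le_of_finrank_le ?_ ?_
    · rintro _ ⟨x, rfl⟩
      rw [LinearMap.mem_ker, ← Module.End.mul_apply, ← pow_add,
        show d + (2 * m - d) = 2 * m by omega, hN, LinearMap.zero_apply]
    · have := (N ^ (2 * m - d)).finrank_range_add_finrank_ker
      have := hker (2 * m - d)
      have := hker d
      rw [hV] at *
      omega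
  have hWN : ∀ x ∈ W, N x ∈ W := fun x hx => by
    rw [hNapp]; exact W.sub_mem (hW x hx) hx
  have hWle : ∀ x ∈ W, x ∈ LinearMap.ker (N ^ d) := by
    intro x hx
    have hni : IsNilpotent (N.restrict hWN) := by
      refine ⟨2 * m, ?_⟩
      rw [Module.End.pow_restrict]
      ext ⟨y, hy⟩
      simp [hN]
    have h0 : (N.restrict hWN).charpoly = Polynomial.X ^ d :=
      IsNilpotent.charpoly_eq_X_pow_finrank hni
    have h1 : (N.restrict hWN) ^ d = 0 := by
      have := (N.restrict hWN).aeval_self_charpoly
      rwa [h0, map_pow, Polynomial.aeval_X] at this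
    rw [Module.End.pow_restrict] at h1
    exact congrArg Subtype.val (LinearMap.congr_fun h1 ⟨x, hx⟩)
  -- adjointness
  have hadj : ∀ k x y, H48.sf ((N ^ k) x) y = H48.sf x ((-1 : F) ^ k • ((u⁻¹) ^ k • (N ^ k) y)) := by
    intro k
    induction k with
    | zero => intro x y; simp
    | succ k ih =>
      intro x y
      have h1 : ∀ z, H48.sf (N x) z = H48.sf x ((-1 : F) • (u⁻¹ • N z)) := by
        intro z
        rw [hNapp, hNapp, map_sub, LinearMap.sub_apply, H48.sf_smul_left, smul_sub,
          inv_smul_smul, neg_one_smul, neg_sub, map_sub]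
      have hcomm : ∀ z, N (u⁻¹ • z) = u⁻¹ • N z := fun z => by
        rw [hNapp, hNapp, smul_sub, smul_inv_smul, inv_smul_smul]
      have hcommk : ∀ (j : ℕ) z, N ((u⁻¹) ^ j • z) = (u⁻¹) ^ j • N z := by
        intro j
        induction j with
        | zero => intro z; simp
        | succ j ihj => intro z; rw [pow_succ, mul_smul, ihj, hcomm, mul_smul]
      rw [pow_succ, Module.End.mul_apply, ih, h1]
      simp only [map_smul, hcommk, smul_eq_mul]
      rw [smul_comm (u⁻¹) ((-1 : F) ^ k), smul_smul (u⁻¹) ((u⁻¹) ^ k), ← pow_succ',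
        ← Module.End.mul_apply N, ← pow_succ']
      simp only [map_smul, smul_eq_mul, pow_succ', (Commute.self_pow N k).eq]
      ring
  intro v hv w hw
  obtain ⟨a, rfl⟩ : v ∈ LinearMap.range (N ^ (2 * m - d)) := heq ▸ hWle v hv
  obtain ⟨b, rfl⟩ : w ∈ LinearMap.range (N ^ (2 * m - d)) := heq ▸ hWle w hw
  rw [H48.sympForm_eq_sf, hadj, ← Module.End.mul_apply, ← pow_add,
    show 2 * m - d + (2 * m - d) = (2 * m - 2 * d) + 2 * m by omega, pow_add, hN, mul_zero,
    LinearMap.zero_apply, smul_zero, smul_zero, map_zero]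

end Cfsg.Agent.S2574
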