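import Cfsg.Statements.S2575
import Cfsg.Agent.H42.PowResidue

set_option autoImplicit false
open Cfsg

namespace Cfsg.Agent.S2575

/-- Which diagonal involutions of PGL_n(q) lie in PSL_n(q), q odd: for the diagonal matrix t with i entries −1 and n − i entries 1, some non-zero scalar multiple of t has determinant one if and only if i is even or the 2-part of q − 1 exceeds the 2-part of n (that is, −1 is an n-th power in the field exactly in the latter case). -/
theorem result {F : Type*} [Field F] [Fintype F] {q : ℕ} (hF : Fintype.card F = q) (hq : Odd q) {n : ℕ} (hn : 1 ≤ n) (i : ℕ) (hi : i ≤ n) : (∃ c : F, c ≠ 0 ∧ (c • Matrix.diagonal (fun j : Fin n => if (j : ℕ) < i then (-1 : F) else 1)).det = 1) ↔ (Even i ∨ padicValNat 2 n < padicValNat 2 (q - 1)) := by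
  subst hF
  haveI : Fact (Nat.Prime 2) := ⟨Nat.prime_two⟩
  have hodd : ringChar F ≠ 2 := by
    intro h
    have h2 := (FiniteField.even_card_iff_char_two (F := F)).1 h
    rw [Nat.odd_iff] at hq; omega
  have hneg : (-1 : F) ≠ 1 := Ring.neg_one_ne_one_of_char_ne_two hodd
  have hdet : ∀ c : F, (c • Matrix.diagonal (fun j : Fin n => if (j : ℕ) < i then (-1 : F) else 1)).det
      = c ^ n * (-1) ^ i := by
    intro c
    rw [Matrix.det_smul, Matrix.det_diagonal, Fintype.card_fin, Finset.prod_ite, Finset.prod_const,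
      Finset.prod_const, one_pow, mul_one]
    congr 2
    rw [Fin.card_filter_val_lt, min_eq_right hi]
  simp only [hdet]
  have hsq : ((-1 : F) ^ i) * (-1) ^ i = 1 := by rw [← mul_pow]; simp
  have hequiv : (∃ c : F, c ≠ 0 ∧ c ^ n * (-1) ^ i = 1) ↔ ∃ c : F, c ≠ 0 ∧ c ^ n = (-1) ^ i := by
    constructor
    · rintro ⟨c, hc, h⟩
      exact ⟨c, hc, by linear_combination ((-1 : F) ^ i) * h - c ^ n * hsq⟩
    · rintro ⟨c, hc, h⟩
      exact ⟨c, hc, by rw [h, hsq]⟩
  rw [hequiv]
  rcases Nat.even_or_odd i with he | ho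
  · simp only [he, true_or, iff_true]
    exact ⟨1, one_ne_zero, by rw [one_pow, he.neg_one_pow]⟩
  · rw [ho.neg_one_pow, H42.exists_ne_zero_pow_eq_iff n (x := (-1 : F)) (by simp)]
    have hord : orderOf (Units.mk0 (-1 : F) (by simp)) = 2 ^ 1 := by
      rw [pow_one, orderOf_eq_prime_iff]
      exact ⟨Units.ext (by simp), fun h => hneg (by simpa using congrArg Units.val h)⟩
    rw [H42.exists_pow_eq_iff_of_orderOf (ℓ := 2) (by omega) _ 1 hord, H42.natCard_units_field]
    simp only [Nat.not_even_iff_odd.2 ho, false_or]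
    omega

end Cfsg.Agent.S2575
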