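import Cfsg.Statements.S2576
import Cfsg.Agent.H42.PowResidue

set_option autoImplicit false
open Cfsg

namespace Cfsg.Agent.S2576

/-- Which involutions of PGL_2m(q) coming from a scalar of the quadratic extension field lie in PSL_2m(q), q odd: let μ generate the Sylow 2-subgroup of the multiplicative group of the field with q elements (μ has order the 2-part of q − 1) and let t be the block-diagonal matrix with m diagonal blocks [[0, 1], [μ, 0]] (so t² is the scalar μ and t is an involution modulo scalars). Then some non-zero scalar multiple of t has determinant one if and only if q ≡ 3 (mod 4) or the 2-part of q − 1 is less than the 2-part of 2m. -/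
theorem result {F : Type*} [Field F] [Fintype F] {q : ℕ} (hF : Fintype.card F = q) (hq : Odd q) {m : ℕ} (hm : 1 ≤ m) (μ : F) (hμ : orderOf μ = 2 ^ padicValNat 2 (q - 1)) : (∃ c : F, c ≠ 0 ∧ (c • Matrix.blockDiagonal (fun _ : Fin m => !![(0 : F), 1; μ, 0])).det = 1) ↔ (q % 4 = 3 ∨ padicValNat 2 (q - 1) < padicValNat 2 (2 * m)) := by
  subst hF
  haveI : Fact (Nat.Prime 2) := ⟨Nat.prime_two⟩
  have hodd : ringChar F ≠ 2 := by
    intro h
    have h2 := (FiniteField.even_card_iff_char_two (F := F)).1 h
    rw [Nat.odd_iff] at hq; omega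
  have hneg : (-1 : F) ≠ 1 := Ring.neg_one_ne_one_of_char_ne_two hodd
  have hq1 : 2 < Fintype.card F := by
    have := Fintype.one_lt_card (α := F)
    rw [Nat.odd_iff] at hq; omega
  set a := padicValNat 2 (Fintype.card F - 1) with ha
  have ha1 : 1 ≤ a := one_le_padicValNat_of_dvd (by omega)
    (by rw [Nat.odd_iff] at hq; omega)
  have hμ0 : μ ≠ 0 := by
    intro h; subst h
    have : orderOf (0 : F) = 0 := by
      rw [orderOf_eq_zero_iff, isOfFinOrder_iff_pow_eq_one]
      rintro ⟨k, hk, h⟩
      rw [zero_pow (by omega)] at h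
      exact zero_ne_one h
    rw [this] at hμ; exact absurd hμ.symm (by positivity)
  have h4 : Fintype.card F % 4 = 3 ↔ a = 1 := by
    rw [Nat.odd_iff] at hq
    constructor
    · intro h
      by_contra hne
      have : 2 ^ 2 ∣ Fintype.card F - 1 := dvd_trans (pow_dvd_pow 2 (show 2 ≤ a by omega)) pow_padicValNat_dvd
      omega
    · intro h
      by_contra hne
      have h22 : 2 ^ 2 ∣ Fintype.card F - 1 := by omega
      rw [padicValNat_dvd_iff_le (by omega)] at h22
      omega
  have hdet : ∀ c : F, (c • Matrix.blockDiagonal (fun _ : Fin m => !![(0 : F), 1; μ, 0])).det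
      = c ^ (2 * m) * (-μ) ^ m := by
    intro c
    rw [Matrix.det_smul, Matrix.det_blockDiagonal, Fintype.card_prod, Fintype.card_fin, Fintype.card_fin,
      Finset.prod_const, Finset.card_univ, Fintype.card_fin, Matrix.det_fin_two]
    simp
  simp only [hdet, h4]
  by_cases haone : a = 1
  · have hμ1 : μ = -1 := by
      rw [haone, pow_one, orderOf_eq_prime_iff] at hμ
      rcases sq_eq_one_iff.1 hμ.1 with h | h
      · exact absurd h hμ.2
      · exact h
    simp only [haone, true_or, iff_true]
    exact ⟨1, one_ne_zero, by simp [hμ1]⟩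
  · have hequiv : (∃ c : F, c ≠ 0 ∧ c ^ (2 * m) * (-μ) ^ m = 1) ↔
        ∃ c : F, c ≠ 0 ∧ c ^ (2 * m) = (-μ) ^ m := by
      have hne : (-μ) ^ m ≠ 0 := pow_ne_zero _ (neg_ne_zero.2 hμ0)
      constructor
      · rintro ⟨c, hc, h⟩
        refine ⟨c⁻¹, inv_ne_zero hc, ?_⟩
        rw [inv_pow, inv_eq_of_mul_eq_one_right h]
      · rintro ⟨c, hc, h⟩
        refine ⟨c⁻¹, inv_ne_zero hc, ?_⟩
        rw [inv_pow, h, inv_mul_cancel₀ hne]
    rw [hequiv, H42.exists_ne_zero_pow_eq_iff (2 * m) (x := (-μ) ^ m) (pow_ne_zero _ (neg_ne_zero.2 hμ0))]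
    have hnegord : orderOf (-μ) = 2 ^ a := by
      obtain ⟨b, hb⟩ : ∃ b, a = b + 2 := ⟨a - 2, by omega⟩
      have e1 : (-μ) ^ (2 ^ (b + 1)) = μ ^ (2 ^ (b + 1)) :=
        Even.neg_pow ⟨2 ^ b, by rw [pow_succ]; omega⟩ μ
      have hpow : ∀ k, μ ^ (2 ^ k) = 1 → a ≤ k := by
        intro k hk
        have h := orderOf_dvd_of_pow_eq_one hk
        rw [hμ] at h
        exact (Nat.pow_dvd_pow_iff_le_right (le_refl 2)).1 h
      rw [hb]
      apply orderOf_eq_prime_pow (p := 2) (n := b + 1)
      · intro h
        rw [e1] at h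
        have := hpow _ h
        omega
      · rw [show b + 1 + 1 = b + 2 from rfl, pow_succ, pow_mul, e1, ← pow_mul, ← pow_succ,
          show b + 1 + 1 = a by omega, ← hμ, pow_orderOf_eq_one]
    have hord : orderOf (Units.mk0 ((-μ) ^ m) (pow_ne_zero _ (neg_ne_zero.2 hμ0)))
        = 2 ^ (a - min a (padicValNat 2 m)) := by
      rw [← orderOf_units, Units.val_mk0, orderOf_pow' _ (by omega), hnegord]
      have hg : Nat.gcd (2 ^ a) m = 2 ^ min a (padicValNat 2 m) := by
        obtain ⟨k, hk, hk'⟩ := (Nat.dvd_prime_pow Nat.prime_two).1 (Nat.gcd_dvd_left (2 ^ a) m)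
        rw [hk']
        congr 1
        refine le_antisymm (le_min hk ?_) ?_
        · rw [← padicValNat_dvd_iff_le (by omega), ← hk']
          exact Nat.gcd_dvd_right _ _
        · rw [← Nat.pow_dvd_pow_iff_le_right (le_refl 2), ← hk']
          exact Nat.dvd_gcd (pow_dvd_pow _ (min_le_left _ _))
            (dvd_trans (pow_dvd_pow _ (min_le_right _ _)) pow_padicValNat_dvd)
      rw [hg, Nat.pow_div (min_le_left _ _) (by omega)]
    rw [H42.exists_pow_eq_iff_of_orderOf (ℓ := 2) (by omega) _ _ hord, H42.natCard_units_field, ← ha,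
      padicValNat.mul (by omega) (by omega), padicValNat.self (by omega)]
    simp only [haone, false_or]
    omega

end Cfsg.Agent.S2576
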