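import Cfsg.Statements.S2578
import Cfsg.Agent.H42.CyclicNilpotent
import Cfsg.Agent.H42.OutPSL

set_option autoImplicit false
set_option linter.style.haveILetI false
open Cfsg

namespace Cfsg.Agent.S2578

/-- Regular unipotent classes of SL_n(q): for n ≥ 2 over the field with q elements, the matrices u of determinant one with (u − 1)^n = 0 and rank(u − 1) = n − 1 form a single GL_n(q)-class which splits into exactly gcd(n, q − 1) conjugacy classes of SL_n(q). -/
theorem result {F : Type*} [Field F] [Fintype F] {q : ℕ} (hF : Fintype.card F = q) {n : ℕ} (hn : 2 ≤ n) : Nat.card {C : ConjClasses (Matrix.SpecialLinearGroup (Fin n) F) // ∃ u : Matrix.SpecialLinearGroup (Fin n) F, ConjClasses.mk u = C ∧ ((u : Matrix (Fin n) (Fin n) F) - 1) ^ n = 0 ∧ ((u : Matrix (Fin n) (Fin n) F) - 1).rank = n - 1} = Nat.gcd n (q - 1) := by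
  classical
  haveI : NeZero n := ⟨by omega⟩
  subst hF
  let J := H42.shiftMat n F
  have hdetu : (1 + J).det = 1 := by
    rw [← one_smul F (1 : Matrix (Fin n) (Fin n) F),
      H42.det_smul_one_add_of_isNilpotent 1 J ⟨n, H42.shiftMat_pow_self⟩, one_pow]
  let u₀ : GL (Fin n) F := Matrix.GeneralLinearGroup.mkOfDetNeZero (1 + J) (by rw [hdetu]; exact one_ne_zero)
  let d := H42.diagFirst (F := F) n
  have hdet1 : ∀ g : GL (Fin n) F, ((g * u₀ * g⁻¹ : GL (Fin n) F) : Matrix (Fin n) (Fin n) F).det = 1 := by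
    intro g
    have h1 : Matrix.GeneralLinearGroup.det (g * u₀ * g⁻¹) = Matrix.GeneralLinearGroup.det u₀ := by
      rw [map_mul, map_mul, map_inv, mul_inv_cancel_comm]
    have h2 := congrArg Units.val h1
    rw [Matrix.GeneralLinearGroup.val_det_apply, Matrix.GeneralLinearGroup.val_det_apply] at h2
    exact h2.trans hdetu
  let toSL : GL (Fin n) F → Matrix.SpecialLinearGroup (Fin n) F := fun g =>
    ⟨((g * u₀ * g⁻¹ : GL (Fin n) F) : Matrix (Fin n) (Fin n) F), hdet1 g⟩
  have hGL : ∀ g, Matrix.SpecialLinearGroup.toGL (toSL g) = g * u₀ * g⁻¹ := fun g => Units.ext rfl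
  have hu₀ : ∀ g : GL (Fin n) F, ((g * u₀ * g⁻¹ : GL (Fin n) F) : Matrix (Fin n) (Fin n) F) - 1
      = (g : Matrix (Fin n) (Fin n) F) * J * ((g⁻¹ : GL (Fin n) F) : Matrix (Fin n) (Fin n) F) := by
    intro g
    rw [Units.val_mul, Units.val_mul]
    change _ * (1 + J) * _ - 1 = _
    rw [mul_add, mul_one, add_mul, Units.mul_inv, add_sub_cancel_left]
  have hrankJ : J.rank = n - 1 := H42.rank_shiftMat (by omega)
  have key : ∀ a b : Fˣ, IsConj (toSL (d a)) (toSL (d b)) ↔ a⁻¹ * b ∈ (powMonoidHom n : Fˣ →* Fˣ).range := by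
    intro a b
    constructor
    · rw [isConj_iff]
      rintro ⟨s, hs⟩
      have h1 := congrArg Matrix.SpecialLinearGroup.toGL hs
      rw [map_mul, map_mul, map_inv, hGL, hGL] at h1
      set S := Matrix.SpecialLinearGroup.toGL s with hS
      have hc : (d b)⁻¹ * S * d a * u₀ = u₀ * ((d b)⁻¹ * S * d a) := by
        calc (d b)⁻¹ * S * d a * u₀
            = (d b)⁻¹ * (S * (d a * u₀ * (d a)⁻¹) * S⁻¹) * S * d a := by group
          _ = (d b)⁻¹ * (d b * u₀ * (d b)⁻¹) * S * d a := by rw [h1]
          _ = _ := by group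
      set M := (d b)⁻¹ * S * d a with hM
      have hcomm : Commute (M : Matrix (Fin n) (Fin n) F) J := by
        have h2 : (M : Matrix (Fin n) (Fin n) F) * (1 + J) = (1 + J) * (M : Matrix (Fin n) (Fin n) F) :=
          congrArg Units.val hc
        rw [mul_add, add_mul, mul_one, one_mul] at h2
        exact add_left_cancel h2
      obtain ⟨c, hc'⟩ := H42.exists_det_eq_pow_of_commute (by omega) _ hcomm
      have hS1 : Matrix.GeneralLinearGroup.det S = 1 := Units.ext (by
        rw [Matrix.GeneralLinearGroup.val_det_apply, Units.val_one]; exact s.2)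
      have hMdet : Matrix.GeneralLinearGroup.det M = b⁻¹ * a := by
        rw [hM, map_mul, map_mul, map_inv, hS1, H42.det_diagFirst, H42.det_diagFirst, mul_one]
      have h3 := congrArg Units.val hMdet
      rw [Matrix.GeneralLinearGroup.val_det_apply, hc'] at h3
      have hc0 : c ≠ 0 := by
        rintro rfl
        rw [zero_pow (by omega)] at h3
        exact (b⁻¹ * a).ne_zero h3.symm
      refine ⟨(Units.mk0 c hc0)⁻¹, ?_⟩
      have h4 : Units.mk0 c hc0 ^ n = b⁻¹ * a := Units.ext (by simpa using h3)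
      rw [powMonoidHom_apply, inv_pow, h4, mul_inv_rev, inv_inv]
    · rintro ⟨c, hc⟩
      rw [powMonoidHom_apply] at hc
      let S : GL (Fin n) F := d b * Matrix.GeneralLinearGroup.scalar (Fin n) c⁻¹ * (d a)⁻¹
      have hdetS : Matrix.GeneralLinearGroup.det S = 1 := by
        simp only [S, d, map_mul, map_inv, H42.det_diagFirst, H42.det_scalar_gl, inv_pow, hc]
        simp [mul_comm, mul_left_comm]
      have hdetS' : ((S : GL (Fin n) F) : Matrix (Fin n) (Fin n) F).det = 1 := by
        rw [← Matrix.GeneralLinearGroup.val_det_apply, hdetS, Units.val_one]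
      rw [isConj_iff]
      let s₀ : Matrix.SpecialLinearGroup (Fin n) F := ⟨_, hdetS'⟩
      refine ⟨s₀, Matrix.SpecialLinearGroup.toGL_injective ?_⟩
      rw [map_mul, map_mul, map_inv, hGL, hGL]
      have hSS : Matrix.SpecialLinearGroup.toGL s₀ = S := Units.ext rfl
      rw [hSS]
      have hz : Commute (Matrix.GeneralLinearGroup.scalar (Fin n) c⁻¹) u₀ :=
        Units.ext (Matrix.scalar_commute _ (fun y => Commute.all _ y) _).eq
      calc S * (d a * u₀ * (d a)⁻¹) * S⁻¹
          = d b * (Matrix.GeneralLinearGroup.scalar (Fin n) c⁻¹ * u₀) *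
            (Matrix.GeneralLinearGroup.scalar (Fin n) c⁻¹)⁻¹ * (d b)⁻¹ := by simp only [S]; group
        _ = _ := by rw [hz.eq]; group
  let f : Fˣ → {C : ConjClasses (Matrix.SpecialLinearGroup (Fin n) F) // ∃ u : Matrix.SpecialLinearGroup (Fin n) F, ConjClasses.mk u = C ∧ ((u : Matrix (Fin n) (Fin n) F) - 1) ^ n = 0 ∧ ((u : Matrix (Fin n) (Fin n) F) - 1).rank = n - 1} :=
    fun a => ⟨ConjClasses.mk (toSL (d a)), toSL (d a), rfl, by
      change (((d a * u₀ * (d a)⁻¹ : GL (Fin n) F) : Matrix (Fin n) (Fin n) F) - 1) ^ n = 0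
      rw [hu₀, Units.conj_pow, H42.shiftMat_pow_self, mul_zero, zero_mul], by
      change (((d a * u₀ * (d a)⁻¹ : GL (Fin n) F) : Matrix (Fin n) (Fin n) F) - 1).rank = n - 1
      rw [hu₀, Matrix.rank_mul_eq_left_of_isUnit_det _ _ ((Matrix.isUnit_iff_isUnit_det _).1 (d a)⁻¹.isUnit),
        Matrix.rank_mul_eq_right_of_isUnit_det _ _ ((Matrix.isUnit_iff_isUnit_det _).1 (d a).isUnit), hrankJ]⟩
  let fq : Fˣ ⧸ (powMonoidHom n : Fˣ →* Fˣ).range → _ := Quotient.lift f (fun a b h => by
    exact Subtype.ext (ConjClasses.mk_eq_mk_iff_isConj.2 ((key a b).2 (QuotientGroup.leftRel_apply.1 h))))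
  have hbij : Function.Bijective fq := by
    constructor
    · intro x y
      induction x using QuotientGroup.induction_on with | _ a => ?_
      induction y using QuotientGroup.induction_on with | _ b => ?_
      intro h
      exact QuotientGroup.eq.2 ((key a b).1 (ConjClasses.mk_eq_mk_iff_isConj.1 (congrArg Subtype.val h)))
    · rintro ⟨C, u, rfl, hnil, hrank⟩
      obtain ⟨P, hP⟩ := H42.exists_cyclic_conj _ (by omega) hnil
        (H42.pow_pred_ne_zero_of_rank _ (by omega) hrank)
      refine ⟨(QuotientGroup.mk (Matrix.GeneralLinearGroup.det P)), Subtype.ext ?_⟩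
      change ConjClasses.mk (toSL (d _)) = ConjClasses.mk u
      rw [ConjClasses.mk_eq_mk_iff_isConj, isConj_iff]
      have hU : Matrix.SpecialLinearGroup.toGL u = P * u₀ * P⁻¹ := by
        rw [eq_mul_inv_iff_mul_eq]
        apply Units.ext
        change (u : Matrix (Fin n) (Fin n) F) * (P : Matrix (Fin n) (Fin n) F) =
          (P : Matrix (Fin n) (Fin n) F) * (1 + J)
        rw [mul_add, mul_one, ← hP, sub_mul, one_mul, add_sub_cancel]
      let S : GL (Fin n) F := P * (d (Matrix.GeneralLinearGroup.det P))⁻¹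
      have hdetS : Matrix.GeneralLinearGroup.det S = 1 := by
        simp only [S, map_mul, map_inv, d, H42.det_diagFirst, mul_inv_cancel]
      have hdetS' : ((S : GL (Fin n) F) : Matrix (Fin n) (Fin n) F).det = 1 := by
        rw [← Matrix.GeneralLinearGroup.val_det_apply, hdetS, Units.val_one]
      let s₀ : Matrix.SpecialLinearGroup (Fin n) F := ⟨_, hdetS'⟩
      refine ⟨s₀, Matrix.SpecialLinearGroup.toGL_injective ?_⟩
      have hSS : Matrix.SpecialLinearGroup.toGL s₀ = S := Units.ext rfl
      rw [map_mul, map_mul, map_inv, hGL, hU, hSS]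
      simp only [S]; group
  rw [← Nat.card_eq_of_bijective fq hbij, ← Subgroup.index_eq_card, IsCyclic.index_powMonoidHom_range,
    Nat.card_units, Nat.card_eq_fintype_card, Nat.gcd_comm]

end Cfsg.Agent.S2578
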