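import Cfsg.Statements.S2579
import Cfsg.Agent.H42.RankOneConj

set_option autoImplicit false
open Cfsg

namespace Cfsg.Agent.S2579

/-- In SL_n(F) with n ≥ 3, over a finite field F, any two transvections (matrices t with t − 1 of rank one and square zero) are conjugate by an element of SL_n(F). -/
theorem result {F : Type*} [Field F] [Finite F] {n : ℕ} (hn : 3 ≤ n) (s t : Matrix.SpecialLinearGroup (Fin n) F) (hs : Cfsg.IsTransvection (s : Matrix (Fin n) (Fin n) F)) (ht : Cfsg.IsTransvection (t : Matrix (Fin n) (Fin n) F)) : IsConj s t := by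
  have conv : ∀ x : Matrix.SpecialLinearGroup (Fin n) F, Cfsg.IsTransvection (x : Matrix (Fin n) (Fin n) F) →
      ∃ (u : Fin n → F) (φ : Module.Dual F (Fin n → F)), u ≠ 0 ∧ φ ≠ 0 ∧ φ u = 0 ∧
        ∀ z, Matrix.toLin' ((x : Matrix (Fin n) (Fin n) F) - 1) z = φ z • u := by
    intro x hx
    apply H42.exists_eq_smulRight_of_rank_one
    · rw [← hx.1, Matrix.rank, Matrix.toLin'_apply']
    · rw [← Matrix.toLin'_mul, hx.2, map_zero]
  obtain ⟨u, φ, hu, hφ, hφu, hs'⟩ := conv s hs
  obtain ⟨v, ψ, hv, hψ, hψv, ht'⟩ := conv t ht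
  obtain ⟨g, hdet, hgu, hgψ⟩ :=
    H42.exists_det_one_intertwining (by simpa using hn) u v φ ψ hu hv hφ hψ hφu hψv
  let G : Matrix.SpecialLinearGroup (Fin n) F :=
    ⟨LinearMap.toMatrix' g, by rw [LinearMap.det_toMatrix', hdet]⟩
  rw [isConj_iff]
  refine ⟨G, ?_⟩
  rw [mul_inv_eq_iff_eq_mul]
  apply Subtype.ext
  have key : LinearMap.toMatrix' g * ((s : Matrix (Fin n) (Fin n) F) - 1) =
      ((t : Matrix (Fin n) (Fin n) F) - 1) * LinearMap.toMatrix' g := by
    apply Matrix.toLin'.injective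
    rw [Matrix.toLin'_mul, Matrix.toLin'_mul, Matrix.toLin'_toMatrix']
    apply LinearMap.ext
    intro z
    have hz : ψ (g z) = φ z := DFunLike.congr_fun hgψ z
    simp only [LinearMap.comp_apply, hs', ht', map_smul, hgu, hz]
  rw [mul_sub, sub_mul, mul_one, one_mul, sub_left_inj] at key
  exact key

end Cfsg.Agent.S2579
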