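import Cfsg.Statements.S2582
import Cfsg.Agent.H49.SpJordan

set_option autoImplicit false
open Cfsg

namespace Cfsg.Agent.S2582

/-- Which unipotent Jordan types occur in the finite symplectic group: over a finite field, a unipotent matrix with Jordan block sizes d_1, …, d_t (sum 2m, all at least 1) is similar to an element of Sp_2m(F) if and only if every odd block size occurs an even number of times. -/
theorem result {F : Type*} [Field F] [Fintype F] {m t : ℕ} (d : Fin t → ℕ) (hd : ∀ k, 1 ≤ d k) (hsum : ∑ k, d k = 2 * m) : (∃ e : ((k : Fin t) × Fin (d k)) ≃ (Fin m ⊕ Fin m), ∃ A : Matrix.symplecticGroup (Fin m) F, IsConj (Matrix.reindex e e (Cfsg.jordanTypeMatrix d F)) (A : Matrix (Fin m ⊕ Fin m) (Fin m ⊕ Fin m) F)) ↔ ∀ j : ℕ, Odd j → Even (Finset.univ.filter (fun k : Fin t => d k = j)).card := by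
  classical
  constructor
  · rintro ⟨e, A, hA⟩ j hj
    obtain ⟨k, rfl⟩ : ∃ k, j = k + 1 := ⟨j - 1, by have := hj.pos; omega⟩
    have hk : Even k := by
      rwa [Nat.odd_add_one, Nat.not_odd_iff_even] at hj
    let T : (Fin m ⊕ Fin m → F) ≃ₗ[F] (Fin m ⊕ Fin m → F) := DistribMulAction.toLinearEquiv F _ A
    have hB : (H48.sf (l := Fin m) (F := F)).Nondegenerate :=
      ⟨fun x hx => H48.eq_zero_of_sf hx, fun y hy => H48.eq_zero_of_sf fun x => H48.sf_eq_zero_comm (hy x)⟩
    have heven := H44.even_powRank_add (H48.sf) hB (fun x y h => H48.sf_eq_zero_comm h) T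
      (fun x y => H48.sf_smul_smul A x y) k
      (fun x hx => H44.form_pow_self_alt _ T (fun x y => H48.sf_smul_smul A x y) H48.sf_self hk x hx)
    have hT : (T.toLinearMap : Module.End F (Fin m ⊕ Fin m → F)) =
        Matrix.toLinAlgEquiv' (A : Matrix (Fin m ⊕ Fin m) (Fin m ⊕ Fin m) F) := rfl
    have hr : ∀ j, H44.powRank (T.toLinearMap - 1 : Module.End F (Fin m ⊕ Fin m → F)) j =
        ∑ i, (d i - j) := fun j => by
      rw [← H49.rank_reindex_jordanType (F := F) d e j,
        H49.rank_pow_eq_of_isConj hA j, H44.powRank, hT,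
        ← map_one (Matrix.toLinAlgEquiv' (n := Fin m ⊕ Fin m) (R := F)), ← map_sub, ← map_pow]
      rfl
    rw [hr, hr] at heven
    exact H44.even_count_of_even_sum d k heven
  · intro h
    obtain ⟨n, A, hn, hA⟩ := H49.spRealised_of_parity (F := F) (Finset.univ.val.map d)
      (fun j hj => by rw [H44.count_map_univ]; exact h j hj)
    obtain rfl : n = m := by
      have : (Finset.univ.val.map d).sum = ∑ k, d k := rfl
      omega
    let e : ((k : Fin t) × Fin (d k)) ≃ (Fin n ⊕ Fin n) := Fintype.equivOfCardEq (by simp; omega)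
    have hr : ∀ j, (((A : Matrix (Fin n ⊕ Fin n) (Fin n ⊕ Fin n) F) - 1) ^ j).rank = ∑ k, (d k - j) :=
      fun j => by rw [hA j, Multiset.map_map]; rfl
    have hz : ∀ j, 2 * n ≤ j → ∑ k, (d k - j) = 0 := fun j hj => Finset.sum_eq_zero fun k _ => by
      have := Finset.single_le_sum (f := d) (fun l _ => Nat.zero_le _) (Finset.mem_univ k)
      omega
    refine ⟨e, A, H49.isConj_of_rank_eq ⟨2 * n, H44.eq_zero_of_rank _ ?_⟩
      ⟨2 * n, H44.eq_zero_of_rank _ ?_⟩ fun j => ?_⟩
    · rw [H49.rank_reindex_jordanType, hz _ le_rfl]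
    · rw [hr, hz _ le_rfl]
    · rw [H49.rank_reindex_jordanType, hr]

end Cfsg.Agent.S2582
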