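import Cfsg.Statements.S2586
import Cfsg.Agent.H42.SymmetricForm

set_option autoImplicit false
open Cfsg

namespace Cfsg.Agent.S2586

/-- Over a finite field, every element of the symplectic group Sp_2m(F) is conjugate by an invertible matrix to its inverse. -/
theorem result {F : Type*} [Field F] [Finite F] {m : ℕ} (A : Matrix.symplecticGroup (Fin m) F) : IsConj (A : Matrix (Fin m ⊕ Fin m) (Fin m ⊕ Fin m) F) ((A⁻¹ : Matrix.symplecticGroup (Fin m) F) : Matrix (Fin m ⊕ Fin m) (Fin m ⊕ Fin m) F) := by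
  obtain ⟨P, hP⟩ := H42.exists_units_conj_transpose (A : Matrix (Fin m ⊕ Fin m) (Fin m ⊕ Fin m) F)
  have h1 : IsConj (A : Matrix (Fin m ⊕ Fin m) (Fin m ⊕ Fin m) F)
      (A : Matrix (Fin m ⊕ Fin m) (Fin m ⊕ Fin m) F).transpose := ⟨P, hP⟩
  refine h1.trans ⟨⟨Matrix.J (Fin m) F, -Matrix.J (Fin m) F, ?_, ?_⟩, ?_⟩
  · rw [mul_neg, Matrix.J_squared, neg_neg]
  · rw [neg_mul, Matrix.J_squared, neg_neg]
  · rw [SemiconjBy, SymplecticGroup.coe_inv]
    show Matrix.J (Fin m) F * (A : Matrix (Fin m ⊕ Fin m) (Fin m ⊕ Fin m) F).transpose =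
      -Matrix.J (Fin m) F * (A : Matrix (Fin m ⊕ Fin m) (Fin m ⊕ Fin m) F).transpose *
        Matrix.J (Fin m) F * Matrix.J (Fin m) F
    rw [mul_assoc (-Matrix.J (Fin m) F * _), Matrix.J_squared, mul_neg, mul_one, neg_mul, neg_neg]

end Cfsg.Agent.S2586
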