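import Cfsg.Statements.S2590
import Cfsg.Agent.H44.SemisimpleConj
import Cfsg.Agent.H43.Bridge

set_option autoImplicit false
open Cfsg

namespace Cfsg.Agent.S2590

open Matrix H43 in
/-- Two semisimple elements of odd order of a finite orthogonal group (isometry group of a quadratic form on F^n with non-degenerate polar form, F finite of characteristic p; the elements have odd order prime to p) are conjugate in the orthogonal group if and only if they are conjugate in GL_n(F). -/
theorem result {F : Type*} [Field F] [Fintype F] {p : ℕ} [Fact p.Prime] [CharP F p] {n : ℕ} (Q : QuadraticForm F (Fin n → F)) (hQ : (QuadraticMap.polarBilin Q).Nondegenerate) (A B : ↥(Cfsg.isometryGroup F ⇑Q)) (hodd : Odd (orderOf A)) (hA : (orderOf A).Coprime p) : IsConj A B ↔ IsConj ((A : Matrix.GeneralLinearGroup (Fin n) F) : Matrix (Fin n) (Fin n) F) ((B : Matrix.GeneralLinearGroup (Fin n) F) : Matrix (Fin n) (Fin n) F) := by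
  constructor
  · intro h
    exact MonoidHom.map_isConj ((Units.coeHom _).comp (Cfsg.isometryGroup F ⇑Q).subtype) h
  rintro ⟨c, hc⟩
  have hn0 : ((orderOf A : ℕ) : F) ≠ 0 := fun e => by
    have h := (CharP.cast_eq_zero_iff F p _).1 e
    have := Nat.dvd_gcd h (dvd_refl p)
    rw [hA] at this
    exact (Fact.out (p := p.Prime)).not_dvd_one this
  let g : (Fin n → F) ≃ₗ[F] (Fin n → F) := glEquiv c
  obtain ⟨h, hh⟩ := H44.isConj_of_linear_conj (Q := Q) hQ (toOrth Q A) (toOrth Q B) (orderOf A) hodd
    (by rw [← map_pow, pow_orderOf_eq_one, map_one]) hn0 g (fun x => by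
      simp only [g, glEquiv_apply, toOrth_apply, mulVec_mulVec]
      exact congrArg (fun M => M *ᵥ x) hc.eq)
  refine isConj_iff.2 ⟨(toOrth Q).symm h, (toOrth Q).injective (orth_ext (fun x => ?_))⟩
  rw [map_mul, map_mul, map_inv, MulEquiv.apply_symm_apply, orth_mul_apply, orth_mul_apply, hh,
    orth_apply_inv_self]

end Cfsg.Agent.S2590
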