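import Cfsg.Statements.S2593
import Cfsg.Agent.H44.InvolModels
import Cfsg.Agent.H48.InvolutionClass

set_option autoImplicit false
open Cfsg

namespace Cfsg.Agent.S2593

open Matrix

theorem polB_eq_sf {F : Type*} [Field F] [CharP F 2] (m : ℕ) (u v : Fin m ⊕ Fin m → F) :
    H43.polB (H43.qPlus m F) u v = H48.sf u v := by
  rw [← H48.sympForm_eq_sf, H43.polB_qPlus]
  simp only [Cfsg.sympForm, Matrix.J, Matrix.fromBlocks_mulVec, dotProduct, Fintype.sum_sum_type,
    zero_mulVec, neg_mulVec, one_mulVec, zero_add, add_zero, Sum.elim_inl, Sum.elim_inr, Function.comp,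
    Pi.neg_apply, Pi.add_apply, ← Finset.sum_add_distrib, CharTwo.neg_eq]

/-- An orthogonal involution as a symplectic one with the same invariants. -/
theorem exists_symp {F : Type*} [Field F] [CharP F 2] {m : ℕ} (t : H43.orthGroup (H43.qPlus m F))
    (ht : t * t = 1) :
    ∃ a : Matrix.symplecticGroup (Fin m) F, a * a = 1 ∧
      ((a : Matrix (Fin m ⊕ Fin m) (Fin m ⊕ Fin m) F) - 1).rank = Module.finrank F (H43.resid t) ∧
      ((∀ v : Fin m ⊕ Fin m → F, H48.sf v (a • v) = 0) ↔ H44.IsAlt t) := by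
  classical
  let M := LinearMap.toMatrix' (t.1 : (Fin m ⊕ Fin m → F) →ₗ[F] (Fin m ⊕ Fin m → F))
  have hM : ∀ v, M *ᵥ v = t.1 v := fun v => by
    rw [← Matrix.toLin'_apply, Matrix.toLin'_toMatrix']; rfl
  have hmem : M ∈ Matrix.symplecticGroup (Fin m) F := by
    rw [H48.mem_symplectic_iff]
    intro u v
    rw [← polB_eq_sf, ← polB_eq_sf, hM, hM, H43.orth_polB_map]
  refine ⟨⟨M, hmem⟩, Subtype.ext ?_, ?_, ?_⟩
  · show M * M = 1
    refine Matrix.ext_of_mulVec_single fun i => ?_
    rw [← mulVec_mulVec, hM, hM, H44.invol_apply_apply ht, one_mulVec]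
  · rw [Matrix.rank]
    show Module.finrank F (LinearMap.range (M - 1).mulVecLin) = Module.finrank F (LinearMap.range (H43.resMap t))
    have e : (M - 1).mulVecLin = H43.resMap t := by
      refine LinearMap.ext fun v => ?_
      rw [mulVecLin_apply, sub_mulVec, one_mulVec, hM, H43.resMap_apply]
      funext i
      simp [CharTwo.sub_eq_add, add_comm]
    rw [e]
  · have key : ∀ v, H43.polB (H43.qPlus m F) v (H43.resMap t v) = H48.sf v ((⟨M, hmem⟩ : Matrix.symplecticGroup (Fin m) F) • v) := by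
      intro v
      rw [polB_eq_sf, H43.resMap_apply, map_sub, H48.sf_self, zero_sub, CharTwo.neg_eq]
      show _ = H48.sf v (M *ᵥ v)
      rw [hM]
    constructor
    · rintro h u ⟨v, rfl⟩
      rw [H43.qmap_resMap, key, h]
    · intro h v
      rw [← key, ← H43.qmap_resMap, h _ (H43.resMap_mem t v)]

/-- Number of conjugacy classes of involutions in the symplectic group Sp_2m(F) over a finite field of characteristic two (m ≥ 1): for each s with 1 ≤ s ≤ m there is one class with rank(t − 1) = s if s is odd and two if s is even (according as v ↦ f(v, tv), f the symplectic form, vanishes identically or not), so m + ⌊m/2⌋ classes in all. -/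
theorem result {F : Type*} [Field F] [Fintype F] [CharP F 2] {m : ℕ} (hm : 1 ≤ m) : Nat.card {C : ConjClasses ↥(Matrix.symplecticGroup (Fin m) F) // ∃ g : Matrix.symplecticGroup (Fin m) F, ConjClasses.mk g = C ∧ orderOf g = 2} = m + m / 2 := by
  classical
  have hM := H44.involModel_plus (F := F) m
  choose t1 a1 b1 c1 using fun i : Fin m => hM.one ((i : ℕ) + 1) (by omega) (by omega)
  choose r1 h11 h12 h13 using fun i : Fin m => exists_symp (t1 i) (a1 i)
  choose t2 a2 b2 c2 using fun i : Fin (m / 2) => hM.alt ((i : ℕ) + 1) (by omega)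
  choose r2 h21 h22 h23 using fun i : Fin (m / 2) => exists_symp (t2 i) (a2 i)
  have hne : ∀ a : Matrix.symplecticGroup (Fin m) F,
      1 ≤ ((a : Matrix (Fin m ⊕ Fin m) (Fin m ⊕ Fin m) F) - 1).rank → a ≠ 1 := by
    intro a ha e
    rw [e] at ha
    simp at ha
  have hsq : ∀ c : F, ∃ b, b * b = c := fun c =>
    (H43.isSquare_of_two_eq_zero CharTwo.two_eq_zero c).imp fun r hr => hr.symm
  have hinv : ∀ a b : Matrix.symplecticGroup (Fin m) F, IsConj a b →
      ((a : Matrix (Fin m ⊕ Fin m) (Fin m ⊕ Fin m) F) - 1).rank = ((b : Matrix (Fin m ⊕ Fin m) (Fin m ⊕ Fin m) F) - 1).rank ∧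
      ((∀ v : Fin m ⊕ Fin m → F, H48.sf v (a • v) = 0) → ∀ v : Fin m ⊕ Fin m → F, H48.sf v (b • v) = 0) := by
    intro a b h
    obtain ⟨g, hg⟩ := isConj_iff.1 h
    refine ⟨?_, fun hz v => ?_⟩
    · rw [← hg, Submonoid.coe_mul, Submonoid.coe_mul, SymplecticGroup.coe_inv']
      have hu := SymplecticGroup.symplectic_det g.2
      rw [show g.1 * a.1 * g.1⁻¹ - 1 = g.1 * (a.1 - 1) * g.1⁻¹ by
          rw [Matrix.mul_sub, Matrix.sub_mul, Matrix.mul_one, Matrix.mul_nonsing_inv _ hu],
        Matrix.rank_mul_eq_left_of_isUnit_det _ _ (Matrix.isUnit_nonsing_inv_det _ hu),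
        Matrix.rank_mul_eq_right_of_isUnit_det _ _ hu]
    · have e := hz (g⁻¹ • v)
      rw [← H48.sf_smul_smul g (g⁻¹ • v) (a • g⁻¹ • v), ← mul_smul, ← mul_smul, ← mul_smul, mul_inv_cancel,
        one_smul, hg] at e
      exact e
  rw [H44.card_classes (T := Fin m ⊕ Fin (m / 2)) _ (Sum.elim r1 r2)]
  · simp
  · rintro (i | i) <;> rw [H44.orderOf_eq_two_iff']
    · exact ⟨h11 i, hne _ (by show 1 ≤ ((r1 i : Matrix (Fin m ⊕ Fin m) (Fin m ⊕ Fin m) F) - 1).rank; rw [h12, b1]; omega)⟩
    · exact ⟨h21 i, hne _ (by show 1 ≤ ((r2 i : Matrix (Fin m ⊕ Fin m) (Fin m ⊕ Fin m) F) - 1).rank; rw [h22, b2]; omega)⟩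
  · rintro (i | i) (j | j) hij <;> obtain ⟨e1, e2⟩ := hinv _ _ hij <;>
      simp only [Sum.elim_inl, Sum.elim_inr] at e1 e2
    · rw [h12, h12, b1, b1] at e1
      rw [Fin.ext (by omega : (i : ℕ) = j)]
    · exact absurd ((h13 i).1 ((hinv _ _ hij.symm).2 ((h23 j).2 (c2 j)))) (c1 i)
    · exact absurd ((h13 j).1 (e2 ((h23 i).2 (c2 i)))) (c1 j)
    · rw [h22, h22, b2, b2] at e1
      rw [Fin.ext (by omega : (i : ℕ) = j)]
  · intro g hg
    rw [H44.orderOf_eq_two_iff'] at hg
    have hpos : 1 ≤ ((g : Matrix (Fin m ⊕ Fin m) (Fin m ⊕ Fin m) F) - 1).rank := by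
      rw [Nat.one_le_iff_ne_zero]
      intro h0
      apply hg.2
      have h1 : ((g : Matrix (Fin m ⊕ Fin m) (Fin m ⊕ Fin m) F) - 1).mulVecLin = 0 :=
        LinearMap.range_eq_bot.1 (Submodule.finrank_eq_zero.1 h0)
      refine Subtype.ext (sub_eq_zero.1 (Matrix.ext_of_mulVec_single fun i => ?_))
      rw [zero_mulVec]
      exact LinearMap.congr_fun h1 _
    have hle : ((g : Matrix (Fin m ⊕ Fin m) (Fin m ⊕ Fin m) F) - 1).rank ≤ m := by
      obtain ⟨x, w, hx, -, -, hperp, -⟩ := H48.exists_gram hg.1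
      have h0 : ∀ u ∈ Submodule.span F (Set.range x), ∀ v ∈ Submodule.span F (Set.range x),
          H43.polB (H43.qPlus m F) u v = 0 := by
        intro u hu v hv
        rw [polB_eq_sf]
        induction hu using Submodule.span_induction with
        | mem a ha =>
          obtain ⟨i, rfl⟩ := ha
          induction hv using Submodule.span_induction with
          | mem b hb => obtain ⟨j, rfl⟩ := hb; exact hperp i j
          | zero => simp
          | add a b _ _ ha hb => simp [ha, hb]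
          | smul c a _ ha => simp [ha]
        | zero => simp
        | add a b _ _ ha hb => simp [ha, hb]
        | smul c a _ ha => simp [ha]
      have h1 : Submodule.span F (Set.range x) ≤
          (H43.polB (H43.qPlus m F)).orthogonal (Submodule.span F (Set.range x)) := fun u hu v hv => h0 v hv u hu
      have h2 := Submodule.finrank_mono h1
      have h3 := H43.finrank_orth_add (H43.qPlus_nondeg m) (Submodule.span F (Set.range x))
      rw [finrank_span_eq_card hx, Fintype.card_fin, H43.finrank_qPlus] at h3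
      rw [finrank_span_eq_card hx, Fintype.card_fin] at h2
      omega
    by_cases ha : ∀ v : Fin m ⊕ Fin m → F, H48.sf v (g • v) = 0
    · obtain ⟨r, hr⟩ := H48.even_rank_of_alt hg.1 ha
      refine ⟨Sum.inr ⟨r - 1, by omega⟩, H48.conj_of_invariants hsq (h21 _) hg.1 ?_
        (iff_of_true ((h23 _).2 (c2 _)) ha)⟩
      show ((r2 _ : Matrix (Fin m ⊕ Fin m) (Fin m ⊕ Fin m) F) - 1).rank = _
      rw [h22, b2]; simp; omega
    · refine ⟨Sum.inl ⟨((g : Matrix (Fin m ⊕ Fin m) (Fin m ⊕ Fin m) F) - 1).rank - 1, by omega⟩,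
        H48.conj_of_invariants hsq (h11 _) hg.1 ?_ (iff_of_false (fun h => c1 _ ((h13 _).1 h)) ha)⟩
      show ((r1 _ : Matrix (Fin m ⊕ Fin m) (Fin m ⊕ Fin m) F) - 1).rank = _
      rw [h12, b1]; simp; omega

end Cfsg.Agent.S2593
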