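import Cfsg.Statements.S2594
import Cfsg.Agent.H48.Count

set_option autoImplicit false
open Cfsg

namespace Cfsg.Agent.S2594

/-- Over a finite field with q elements, q even, an element t of Sp_2m(F) with rank(t − 1) = 1 (a symplectic transvection) has centraliser in Sp_2m(F) of order q^(2m−1) · |Sp_(2m−2)(q)| = q^(2m−1) · q^((m−1)²) · Π_(i=1)^(m−1) (q^(2i) − 1). -/
theorem result {F : Type*} [Field F] [Fintype F] [CharP F 2] {q : ℕ} (hF : Fintype.card F = q) {m : ℕ} (hm : 1 ≤ m) (t : Matrix.symplecticGroup (Fin m) F) (ht : ((t : Matrix (Fin m ⊕ Fin m) (Fin m ⊕ Fin m) F) - 1).rank = 1) : Nat.card ↥(Subgroup.centralizer ({t} : Set ↥(Matrix.symplecticGroup (Fin m) F))) = q ^ (2 * m - 1) * (q ^ ((m - 1) ^ 2) * ∏ i : Fin (m - 1), (q ^ (2 * ((i : ℕ) + 1)) - 1)) := by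
  obtain ⟨v, hv, c, hc, rfl⟩ : ∃ v : Fin m ⊕ Fin m → F, v ≠ 0 ∧ ∃ c : F, c ≠ 0 ∧ t = H48.tv v c := by
    let L := Matrix.mulVecLin ((t : Matrix (Fin m ⊕ Fin m) (Fin m ⊕ Fin m) F) - 1)
    have hr : Module.finrank F (LinearMap.range L) = 1 := ht
    obtain ⟨⟨v, hvL⟩, hv0, hv⟩ := finrank_eq_one_iff'.mp hr
    have hψ : ∀ x, ∃ a : F, t • x = x + a • v := fun x => by
      obtain ⟨a, ha⟩ := hv ⟨L x, LinearMap.mem_range_self L x⟩
      refine ⟨a, ?_⟩
      have h' : a • v = L x := congrArg Subtype.val ha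
      rw [h', H48.spSmulDef]
      simp [L, Matrix.sub_mulVec]
    choose ψ hψ using hψ
    have hv' : v ≠ 0 := fun h => hv0 (Subtype.ext h)
    obtain ⟨y, hy⟩ := H48.exists_sf_ne hv'
    have key : ∀ x, ψ x = (-(ψ y) / H48.sf v y) * H48.sf x v := by
      intro x
      have h := H48.sf_smul_smul t x y
      rw [hψ x, hψ y] at h
      simp only [map_add, LinearMap.add_apply, map_smul, LinearMap.smul_apply, H48.sf_self,
        smul_eq_mul] at h
      field_simp
      linear_combination h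
    refine ⟨v, hv', -(ψ y) / H48.sf v y, fun hc0 => ?_, H48.sp_ext fun x => ?_⟩
    · obtain ⟨x, hx⟩ := hvL
      apply hv'
      have h1 := hψ x
      rw [key x, hc0, zero_mul, zero_smul, add_zero, H48.spSmulDef] at h1
      rw [← hx]
      simp [L, Matrix.sub_mulVec, h1]
    · rw [H48.tv_smul, hψ, key]
  have hlin : LinearIndependent F (fun _ : Fin 1 => v) :=
    linearIndependent_unique_iff.mpr hv
  have hframe : (fun _ : Fin 1 => v) ∈ H48.frames (Fin m) F 1 :=
    ⟨hlin, fun i j => H48.sf_self v⟩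
  have hC : Subgroup.centralizer ({H48.tv v c} : Set ↥(Matrix.symplecticGroup (Fin m) F)) =
      H48.fixFam (fun _ : Fin 1 => v) := by
    ext g
    rw [Subgroup.mem_centralizer_singleton_iff, H48.mem_fixFam]
    constructor
    · intro h _
      have h1 : H48.tv (g • v) c = H48.tv v c := by
        rw [← H48.tv_conj, h, mul_inv_cancel_right]
      obtain ⟨y, hy⟩ := H48.exists_sf_ne hv
      have hy' : H48.sf y v ≠ 0 := fun e => hy (H48.sf_eq_zero_comm e)
      have h2 := congrArg (· • y) h1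
      simp only [H48.tv_smul, add_right_inj] at h2
      obtain ⟨μ, hμ⟩ : ∃ μ : F, g • v = μ • v := by
        by_cases h0 : H48.sf y (g • v) = 0
        · rw [h0, mul_zero, zero_smul] at h2
          exact absurd (smul_eq_zero.1 h2.symm) (by simp [hc, hy', hv])
        · exact ⟨(c * H48.sf y (g • v))⁻¹ * (c * H48.sf y v), by
            rw [mul_smul, ← h2, smul_smul, inv_mul_cancel₀ (mul_ne_zero hc h0), one_smul]⟩
      rw [hμ, map_smul, smul_eq_mul, smul_smul] at h2
      have h3 : c * (μ * H48.sf y v) * μ = c * H48.sf y v := smul_left_injective F hv h2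
      have h4 : (μ - 1) ^ 2 = 0 := by
        have h5 : (μ * μ - 1) * (c * H48.sf y v) = 0 := by linear_combination h3
        have h6 := (mul_eq_zero.1 h5).resolve_right (mul_ne_zero hc hy')
        have h2' : (2 : F) = 0 := CharTwo.two_eq_zero
        linear_combination h6 - (μ - 1) * h2'
      rw [hμ, sub_eq_zero.1 (pow_eq_zero_iff two_ne_zero |>.1 h4), one_smul]
    · intro h
      have h1 : g * H48.tv v c * g⁻¹ = H48.tv v c := by rw [H48.tv_conj, h 0]
      exact mul_inv_eq_iff_eq_mul.mp h1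
  rw [hC, H48.card_fixFam_frame (by rw [Fintype.card_fin]; exact hm) hframe, Fintype.card_fin, hF,
    Nat.choose_eq_zero_of_lt (by norm_num : 1 < 2), Nat.sub_zero,
    Finset.prod_range, ← mul_assoc, ← pow_add]
  congr 2
  obtain ⟨k, rfl⟩ := Nat.exists_eq_add_of_le hm
  simp only [Nat.add_sub_cancel_left]
  rw [show 2 * (1 + k) - 1 = 2 * k + 1 by omega]
  ring

end Cfsg.Agent.S2594
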