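import Cfsg.Statements.S2599

set_option autoImplicit false
open Cfsg

namespace Cfsg.Agent.S2599

open Matrix in
/-- An irreducible invariant subspace of a semisimple isometry is non-degenerate or totally singular: let Q be a quadratic form on F^n (F finite of characteristic p) with non-degenerate polar form f, x an isometry of Q of order prime to p, and U a non-zero x-invariant subspace containing no x-invariant subspace other than 0 and U. Then U meets its f-orthogonal trivially, or Q vanishes on U, or p = 2, U is a line spanned by a non-singular vector and x fixes U pointwise. -/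
theorem result {F : Type*} [Field F] [Fintype F] {p : ℕ} [Fact p.Prime] [CharP F p] {n : ℕ} (Q : QuadraticForm F (Fin n → F)) (hQ : (QuadraticMap.polarBilin Q).Nondegenerate) (x : ↥(Cfsg.isometryGroup F ⇑Q)) (hx : (orderOf x).Coprime p) (U : Submodule F (Fin n → F)) (hU0 : U ≠ ⊥) (hUx : ∀ u ∈ U, ((x : Matrix.GeneralLinearGroup (Fin n) F) : Matrix (Fin n) (Fin n) F).mulVec u ∈ U) (hirr : ∀ W : Submodule F (Fin n → F), W ≤ U → (∀ w ∈ W, ((x : Matrix.GeneralLinearGroup (Fin n) F) : Matrix (Fin n) (Fin n) F).mulVec w ∈ W) → W = ⊥ ∨ W = U) : U ⊓ LinearMap.BilinForm.orthogonal (QuadraticMap.polarBilin Q) U = ⊥ ∨ (∀ u ∈ U, Q u = 0) ∨ (p = 2 ∧ Module.finrank F U = 1 ∧ (∃ u ∈ U, Q u ≠ 0) ∧ ∀ u ∈ U, ((x : Matrix.GeneralLinearGroup (Fin n) F) : Matrix (Fin n) (Fin n) F).mulVec u = u) := by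
  set M : Matrix (Fin n) (Fin n) F := ((x : Matrix.GeneralLinearGroup (Fin n) F) : Matrix (Fin n) (Fin n) F)
  have hiso : ∀ v, Q (M *ᵥ v) = Q v := fun v => x.2 v v
  have hpol : ∀ u v, QuadraticMap.polar ⇑Q (M *ᵥ u) (M *ᵥ v) = QuadraticMap.polar ⇑Q u v := by
    intro u v
    simp only [QuadraticMap.polar, ← Matrix.mulVec_add, hiso]
  have hinj : Function.Injective (fun v => M *ᵥ v) :=
    Matrix.mulVec_injective_iff_isUnit.2 (Units.isUnit _)
  have hsurj : ∀ u ∈ U, ∃ u' ∈ U, M *ᵥ u' = u := by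
    intro u hu
    obtain ⟨⟨u', hu'⟩, he⟩ := (Finite.injective_iff_surjective (f := fun w : U => (⟨M *ᵥ w.1, hUx _ w.2⟩ : U))).1
      (fun a b hab => Subtype.ext (hinj (congrArg Subtype.val hab))) ⟨u, hu⟩
    exact ⟨u', hu', congrArg Subtype.val he⟩
  rcases hirr (U ⊓ LinearMap.BilinForm.orthogonal (QuadraticMap.polarBilin Q) U) inf_le_left (by
    rintro w ⟨hw, hw'⟩
    refine ⟨hUx w hw, ?_⟩
    rw [SetLike.mem_coe, LinearMap.BilinForm.mem_orthogonal_iff] at hw' ⊢
    intro u hu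
    obtain ⟨u', hu', rfl⟩ := hsurj u hu
    show QuadraticMap.polar ⇑Q (M *ᵥ u') (M *ᵥ w) = 0
    rw [hpol]
    exact hw' u' hu') with h | h
  · exact Or.inl h
  have h0 : ∀ u ∈ U, ∀ v ∈ U, QuadraticMap.polar ⇑Q u v = 0 := by
    intro u hu v hv
    have hv' : v ∈ U ⊓ LinearMap.BilinForm.orthogonal (QuadraticMap.polarBilin Q) U := h.symm ▸ hv
    exact LinearMap.BilinForm.mem_orthogonal_iff.1 hv'.2 u hu
  have hadd : ∀ u ∈ U, ∀ v ∈ U, Q (u + v) = Q u + Q v := by
    intro u hu v hv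
    rw [QuadraticMap.map_add (⇑Q), h0 u hu v hv, add_zero]
  by_cases hp : p = 2
  swap
  · refine Or.inr (Or.inl (fun u hu => ?_))
    have h1 := h0 u hu u hu
    rw [QuadraticMap.polar_self] at h1
    have h2 : ((2 : ℕ) : F) ≠ 0 := by
      intro h2
      exact hp ((Nat.prime_dvd_prime_iff_eq (Fact.out) Nat.prime_two).1 ((CharP.cast_eq_zero_iff F p 2).1 h2))
    exact (mul_eq_zero.1 (by simpa using h1)).resolve_left (by simpa using h2)
  subst hp
  let W : Submodule F (Fin n → F) :=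
    { carrier := {u | u ∈ U ∧ Q u = 0}
      zero_mem' := ⟨U.zero_mem, map_zero Q⟩
      add_mem' := fun {a b} ha hb => ⟨U.add_mem ha.1 hb.1, by rw [hadd a ha.1 b hb.1, ha.2, hb.2, add_zero]⟩
      smul_mem' := fun t a ha => ⟨U.smul_mem t ha.1, by rw [QuadraticMap.map_smul, ha.2, smul_zero]⟩ }
  rcases hirr W (fun a ha => ha.1) (fun a ha => ⟨hUx a ha.1, by rw [hiso]; exact ha.2⟩) with hW | hW
  swap
  · exact Or.inr (Or.inl (fun u hu => ((hW.symm ▸ hu : u ∈ W)).2))
  have hW' : ∀ u ∈ U, Q u = 0 → u = 0 := fun u hu e => by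
    have : u ∈ W := ⟨hu, e⟩
    simpa [hW] using this
  have hdiff : ∀ u ∈ U, ∀ v ∈ U, Q u = Q v → u = v := by
    intro u hu v hv e
    have h1 := hadd (u - v) (U.sub_mem hu hv) v hv
    rw [sub_add_cancel] at h1
    exact sub_eq_zero.1 (hW' _ (U.sub_mem hu hv) (by linear_combination e - h1))
  obtain ⟨u₀, hu₀, hne⟩ := U.exists_mem_ne_zero_of_ne_bot hU0
  have hQ0 : Q u₀ ≠ 0 := fun e => hne (hW' _ hu₀ e)
  refine Or.inr (Or.inr ⟨rfl, ?_, ⟨u₀, hu₀, hQ0⟩, fun u hu => hdiff _ (hUx u hu) u hu (hiso u)⟩)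
  have hspan : U = F ∙ u₀ := by
    refine le_antisymm (fun u hu => ?_) ((Submodule.span_singleton_le_iff_mem _ _).2 hu₀)
    obtain ⟨t, ht⟩ := FiniteField.isSquare_of_char_two (ringChar.eq F 2) (Q u / Q u₀)
    refine Submodule.mem_span_singleton.2 ⟨t, hdiff _ (U.smul_mem _ hu₀) u hu ?_⟩
    rw [QuadraticMap.map_smul, smul_eq_mul, ← ht, div_mul_cancel₀ _ hQ0]
  rw [hspan, finrank_span_singleton hne]

end Cfsg.Agent.S2599
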