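import Cfsg.Statements.S2601
import Cfsg.Agent.H42.OutPSL

set_option autoImplicit false
set_option linter.style.haveILetI false
open Cfsg

namespace Cfsg.Agent.S2601

open H55 in
/-- Structure of the outer automorphism group of PSL_n(q), n ≥ 3, q = p^f: it has a normal cyclic subgroup of order gcd(n, q − 1) (the diagonal automorphisms) whose quotient is the direct product of a cyclic group of order f (field automorphisms) and a group of order 2 (the inverse-transpose graph automorphism). -/
theorem result {F : Type*} [Field F] [Fintype F] {p f n : ℕ} [Fact p.Prime] (hf : 1 ≤ f) (hF : Fintype.card F = p ^ f) (hn : 3 ≤ n) : ∃ φ : Cfsg.Out (Matrix.ProjectiveSpecialLinearGroup (Fin n) F) →* Multiplicative (ZMod f × ZMod 2), Function.Surjective φ ∧ IsCyclic φ.ker ∧ Nat.card φ.ker = Nat.gcd n (p ^ f - 1) := by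
  haveI : NeZero n := ⟨by omega⟩
  obtain ⟨θ⟩ := H42.exists_ringAut_equiv hF
  rw [← hF]
  have hn2 : 2 ≤ n := by omega
  -- inverse-transpose as a homomorphism from `ZMod 2`
  have he1 : ∀ e : Multiplicative (ZMod 2), e = 1 ∨ e = Multiplicative.ofAdd 1 := by decide
  let j : Multiplicative (ZMod 2) →* MulAut (PSLn n F) :=
    { toFun := fun e => if e = 1 then 1 else iotaP
      map_one' := if_pos rfl
      map_mul' := by
        intro a b
        rcases he1 a with rfl | rfl <;> rcases he1 b with rfl | rfl <;>
          simp [iotaP_mul_self, ← ofAdd_add, show (1 : ZMod 2) + 1 = 0 from rfl] }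
  have hne2 : Multiplicative.ofAdd (1 : ZMod 2) ≠ 1 := by decide
  have hj1 : j (Multiplicative.ofAdd 1) = iotaP := by simp [j, hne2]
  have hjc : ∀ e, j e = 1 ∨ j e = iotaP := by
    intro e
    have he : ∀ z : ZMod 2, z = 0 ∨ z = 1 := by decide
    rcases he e.toAdd with h | h
    · left
      rw [show e = 1 from Multiplicative.toAdd.injective h, map_one]
    · right
      rw [show e = Multiplicative.ofAdd 1 from Multiplicative.toAdd.injective h, hj1]
  have hcommF : ∀ σ e, Commute (fieldP σ : MulAut (PSLn n F)) (j e) := by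
    intro σ e
    rcases hjc e with h | h <;> rw [h]
    · exact Commute.one_right _
    · exact (iotaP_fieldP σ).symm
  let prj : Multiplicative (ZMod f × ZMod 2) ≃* Multiplicative (ZMod f) × Multiplicative (ZMod 2) :=
    MulEquiv.prodMultiplicative (ZMod f) (ZMod 2)
  let s : Multiplicative (ZMod f × ZMod 2) →* MulAut (PSLn n F) :=
    (MonoidHom.noncommCoprod (fieldP.comp θ.symm.toMonoidHom) j (fun a e => hcommF _ e)).comp prj.toMonoidHom
  have hs : ∀ x, s x = fieldP (θ.symm (prj x).1) * j (prj x).2 := fun x => rfl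
  refine H42.out_structure hn2 s ?_ ?_ ?_
  · intro α
    obtain ⟨g, σ, γ, hγ | ⟨-, hγ⟩, rfl⟩ := aut_PSL hn2 α
    · refine ⟨g, prj.symm (θ σ, 1), ?_⟩
      rw [hs]
      simp [hγ]
    · refine ⟨g, prj.symm (θ σ, Multiplicative.ofAdd 1), ?_⟩
      rw [hs]
      simp [hγ, hj1, mul_assoc]
  · intro g a h
    rw [hs] at h
    rcases hjc (prj a).2 with he | he <;> rw [he] at h
    · rw [mul_one] at h
      have h1 : θ.symm (prj a).1 = 1 := (conjP_eq_fieldP hn2 h.symm).1
      have h2 : (prj a).1 = 1 := by simpa using congrArg θ h1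
      have h3 : (prj a).2 = 1 := by
        by_contra hne
        have he1 : ∀ e : Multiplicative (ZMod 2), e ≠ 1 → e = Multiplicative.ofAdd 1 := by decide
        rw [he1 _ hne, hj1] at he
        exact iotaP_ne hn 1 1 (by simpa using he)
      exact prj.injective (by rw [map_one]; exact Prod.ext h2 h3)
    · exfalso
      have h1 : (iotaP : MulAut (PSLn n F)) = (fieldP (θ.symm (prj a).1))⁻¹ * conjP g := by
        rw [← h, inv_mul_cancel_left]
      rw [← map_inv, fieldP_conjP] at h1
      exact iotaP_ne hn _ _ h1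
  · intro a g
    rw [hs]
    rcases hjc (prj a).2 with he | he <;> rw [he]
    · refine ⟨mapGL (θ.symm (prj a).1) g, ?_⟩
      rw [mul_one, fieldP_conjP]
    · refine ⟨mapGL (θ.symm (prj a).1) (itGL g), ?_⟩
      rw [mul_assoc, iotaP_conjP, ← mul_assoc, fieldP_conjP, mul_assoc]

end Cfsg.Agent.S2601
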