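import Cfsg.Statements.S2609
import Cfsg.Agent.H44.Pairs

set_option autoImplicit false
open Cfsg

namespace Cfsg.Agent.S2609

open Matrix in
/-- Spinor norm criterion for Ω over a finite field of odd order: let Q be a quadratic form on F^n, n ≥ 2, with non-degenerate polar form, and let g be an isometry written as a product of reflections in non-singular vectors v_1, …, v_k. Then g lies in Ω (the commutator subgroup of the orthogonal group) if and only if k is even and Q(v_1)⋯Q(v_k) is a square; in particular, for g of determinant one, whether that product is a square does not depend on the chosen factorisation (it is the spinor norm of g). -/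
theorem result {F : Type*} [Field F] [Fintype F] (h2 : (2 : F) ≠ 0) {n : ℕ} (hn : 2 ≤ n) (Q : QuadraticForm F (Fin n → F)) (hQ : (QuadraticMap.polarBilin Q).Nondegenerate) (g : ↥(Cfsg.isometryGroup F ⇑Q)) (vs : List (Fin n → F)) (hvs : ∀ v ∈ vs, Q v ≠ 0) (hg : ((g : Matrix.GeneralLinearGroup (Fin n) F) : Matrix (Fin n) (Fin n) F) = (vs.map (fun v => Cfsg.reflectionMatrix ⇑Q v)).prod) : g ∈ Cfsg.Omega F ⇑Q ↔ (Even vs.length ∧ IsSquare (vs.map (fun v => Q v)).prod) := by
  have hnd : (H43.polB Q).Nondegenerate := hQ
  have hgen : H43.ReflGenerates F (Fin n → F) := H44.reflGenerates_of_two_ne_zero h2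
  have e : H43.toOrth Q g = (vs.map (H43.refl Q)).prod := by
    rw [H43.toOrth_eq_iff, hg]
    clear hg hvs
    intro x
    induction vs generalizing x with
    | nil => simp [H43.orth_one_apply]
    | cons a t ih =>
      simp only [List.map_cons, List.prod_cons, H43.orth_mul_apply, ← mulVec_mulVec]
      rw [ih, H43.reflectionMatrix_mulVec_eq]
  obtain ⟨h1, h3⟩ := H44.spinor_list_prod hnd hgen vs hvs
  have hne : (vs.map (fun v => Q v)).prod ≠ 0 := by
    refine List.prod_ne_zero ?_
    intro h0
    obtain ⟨v, hv, he⟩ := List.mem_map.1 h0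
    exact hvs v hv he
  rw [H43.mem_Omega_iff, H44.mem_commutator_iff hnd hgen, e, h1, h3, H44.dickson_ofAdd_eq_one_iff,
    H43.sqc_eq_one_iff hne]

end Cfsg.Agent.S2609
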