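import Cfsg.Statements.S2610
import Cfsg.Agent.H44.Translate
import Cfsg.Agent.H44.Classify

set_option autoImplicit false
open Cfsg

namespace Cfsg.Agent.S2610

open Matrix H43 in
/-- For a quadratic form Q on F^n with non-degenerate polar form, F finite of odd order and n ≥ 2 even, the isometry −1 lies in Ω (the commutator subgroup of the orthogonal group) if and only if the discriminant of Q (the determinant of the Gram matrix of its polar form) is a square. -/
theorem result {F : Type*} [Field F] [Fintype F] (h2 : (2 : F) ≠ 0) {n : ℕ} (hn : 2 ≤ n) (he : Even n) (Q : QuadraticForm F (Fin n → F)) (hQ : (QuadraticMap.polarBilin Q).Nondegenerate) : (∃ g : ↥(Cfsg.isometryGroup F ⇑Q), g ∈ Cfsg.Omega F ⇑Q ∧ ((g : Matrix.GeneralLinearGroup (Fin n) F) : Matrix (Fin n) (Fin n) F) = -1) ↔ IsSquare (Matrix.of (fun i j : Fin n => QuadraticMap.polar ⇑Q (Pi.single i 1) (Pi.single j 1))).det := by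
  have hnd : (polB Q).Nondegenerate := hQ
  have hgen : ReflGenerates F (Fin n → F) := H44.reflGenerates_of_two_ne_zero h2
  haveI : Invertible (2 : F) := invertibleOfNonzero h2
  obtain ⟨b₀, hb₀⟩ := LinearMap.BilinForm.exists_orthogonal_basis (B := polB Q) ⟨fun x y => polB_comm x y⟩
  let b : Module.Basis (Fin n) F (Fin n → F) := b₀.reindex (finCongr (by simp))
  have horth : ∀ i j, i ≠ j → polB Q (b i) (b j) = 0 := fun i j hij => by
    simp only [b, Module.Basis.reindex_apply]
    exact hb₀ (fun e => hij (by simpa using e))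
  have hG : (Matrix.of fun i j => QuadraticMap.polar (⇑Q) (b i) (b j)) = Matrix.diagonal (fun i => 2 * Q (b i)) := by
    ext i j
    by_cases hij : i = j
    · subst hij
      rw [Matrix.diagonal_apply_eq, of_apply, QuadraticMap.polar_self, two_smul, two_mul]
    · rw [Matrix.diagonal_apply_ne _ hij]; exact horth i j hij
  have hne : ∀ i, Q (b i) ≠ 0 := fun i e => by
    have := H44.gram_det_ne_zero Q (H44.polarSep_of_nondegenerate hQ) b
    rw [hG, det_diagonal] at this
    exact this (Finset.prod_eq_zero (Finset.mem_univ i) (by rw [e, mul_zero]))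
  obtain ⟨g, hgx, hgd, hgs⟩ := H44.neg_one_invariants hnd hgen b horth hne
  rw [H44.exists_omega_iff hnd hgen (-1) g (fun x => by rw [hgx, neg_mulVec, one_mulVec]), hgd,
    H44.dickson_ofAdd_eq_one_iff, hgs, sqc_eq_one_iff (Finset.prod_ne_zero_iff.2 (fun i _ => hne i))]
  simp only [he, true_and]
  obtain ⟨d, hd, hdet⟩ := H44.gram_det_isometry Q Q (LinearEquiv.refl F _) (fun _ => rfl) (Pi.basisFun F (Fin n)) b
  simp only [Pi.basisFun_apply] at hdet
  rw [hdet, hG, det_diagonal, Finset.prod_mul_distrib, Finset.prod_const, Finset.card_univ, Fintype.card_fin]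
  obtain ⟨k, rfl⟩ := he
  rw [show d ^ 2 * (2 ^ (k + k) * ∏ i, Q (b i)) = (d * 2 ^ k) ^ 2 * ∏ i, Q (b i) by ring,
    H44.isSquare_sq_mul_iff (mul_ne_zero hd (pow_ne_zero _ h2))]

end Cfsg.Agent.S2610
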