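import Cfsg.Statements.S2612
import Cfsg.Agent.H44.BlockDiag

set_option autoImplicit false
open Cfsg

namespace Cfsg.Agent.S2612

open Matrix H43 in
/-- For the hyperbolic quadratic form Σ x_i y_i on F^(2m) (F finite, m ≥ 1, excluding m = 2 over the field of two elements), Ω⁺_2m(F) (the commutator subgroup of the orthogonal group) contains an element interchanging the two complementary maximal totally singular subspaces {y = 0} and {x = 0} if and only if m is even (dimension divisible by 4). -/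
theorem result {F : Type*} [Field F] [Fintype F] {m : ℕ} (hm : 1 ≤ m) (h : Fintype.card F ≠ 2 ∨ m ≠ 2) : (∃ g : ↥(Cfsg.isometryGroup F (Cfsg.quadFormPlus m F)), g ∈ Cfsg.Omega F (Cfsg.quadFormPlus m F) ∧ (∀ v : Fin m ⊕ Fin m → F, (∀ i, v (Sum.inr i) = 0) → ∀ i, (((g : Matrix.GeneralLinearGroup (Fin m ⊕ Fin m) F) : Matrix (Fin m ⊕ Fin m) (Fin m ⊕ Fin m) F).mulVec v) (Sum.inl i) = 0) ∧ (∀ v : Fin m ⊕ Fin m → F, (∀ i, v (Sum.inl i) = 0) → ∀ i, (((g : Matrix.GeneralLinearGroup (Fin m ⊕ Fin m) F) : Matrix (Fin m ⊕ Fin m) (Fin m ⊕ Fin m) F).mulVec v) (Sum.inr i) = 0)) ↔ Even m := by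
  have hgen : ReflGenerates F (Fin m ⊕ Fin m → F) :=
    H44.reflGenerates_of_card (h.imp id (fun h e => h (by rw [finrank_qPlus] at e; omega)))
  have hnd := qPlus_nondeg (F := F) m
  obtain ⟨σ, hσd, hσs, hσx⟩ := H44.exists_swapHalves (F := F) (m := m) hgen
  let U₀ := LinearMap.ker (LinearMap.funLeft F F (Sum.inr : Fin m → Fin m ⊕ Fin m))
  constructor
  · rintro ⟨a, ha, hU, hW⟩
    obtain ⟨G, hG, -, hmem⟩ := H44.exists_orth_of_iso (coe_qPlus m F) hnd hgen a
    have hGd := (hmem.1 ha).1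
    -- σ * G fixes U₀
    have hfix : U₀.map ((σ * G).1 : (Fin m ⊕ Fin m → F) →ₗ[F] (Fin m ⊕ Fin m → F)) = U₀ := by
      refine Submodule.eq_of_le_of_finrank_eq ?_ (H44.finrank_map_orth _ _)
      rintro x ⟨v, hv, rfl⟩
      have hv' : ∀ i, v (Sum.inr i) = 0 := fun i => congrFun (LinearMap.mem_ker.1 hv) i
      rw [LinearMap.mem_ker]
      funext i
      show (σ * G).1 v (Sum.inr i) = 0
      rw [orth_mul_apply, hσx, hG]
      exact hU v hv' i
    have hpar := H44.even_inf_map_iff hnd hgen (finrank_qPlus m) (σ * G) (H44.plus_half_singular m)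
      (H44.plus_half_singular m) (H44.plus_half_finrank m) (H44.plus_half_finrank m)
    rw [hfix, inf_idem, H44.plus_half_finrank, Nat.sub_self] at hpar
    have hd : dickson (σ * G) = 1 := by simpa using hpar
    rw [H44.dickson_mul hnd hgen, hGd, mul_one, hσd] at hd
    exact (H44.dickson_ofAdd_eq_one_iff m).1 hd
  · intro hm2
    obtain ⟨a, ha, hax⟩ := H44.exists_iso_of_orth (coe_qPlus m F) hnd hgen σ
      (by rw [hσd]; exact (H44.dickson_ofAdd_eq_one_iff m).2 hm2)
      (by rw [hσs, hm2.neg_one_pow, sqc_one])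
    refine ⟨a, ha, fun v hv i => ?_, fun v hv i => ?_⟩ <;> rw [← hax, hσx]
    · exact hv i
    · exact hv i

end Cfsg.Agent.S2612
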