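import Cfsg.Statements.S2615
import Cfsg.Agent.H44.Translate
-- import your own Cfsg.Agent.* helpers here

set_option autoImplicit false
open Cfsg

namespace Cfsg.Agent.S2615

open Matrix H43 in
/-- For an elliptic form Σ_(j<m−1) x_j y_j + (z₁² + a z₁z₂ + b z₂²) (anisotropic binary part) on F^(2m), F finite with q elements, q odd, and 1 ≤ i ≤ m − 1: the involution negating the first i hyperbolic pairs and fixing the rest lies in Ω⁻_2m(q) (commutator subgroup of the orthogonal group) if and only if q^i ≡ 1 (mod 4). -/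
theorem result {F : Type*} [Field F] [Fintype F] {q : ℕ} (hF : Fintype.card F = q) (hq : Odd q) {m : ℕ} (a b : F) (hab : ∀ z₁ z₂ : F, z₁ ^ 2 + a * z₁ * z₂ + b * z₂ ^ 2 = 0 → z₁ = 0 ∧ z₂ = 0) (i : ℕ) (hi : 1 ≤ i) (him : i + 1 ≤ m) : (∃ g : ↥(Cfsg.isometryGroup F (Cfsg.quadFormMinus (m - 1) F a b)), g ∈ Cfsg.Omega F (Cfsg.quadFormMinus (m - 1) F a b) ∧ ((g : Matrix.GeneralLinearGroup ((Fin (m - 1) ⊕ Fin (m - 1)) ⊕ Fin 2) F) : Matrix ((Fin (m - 1) ⊕ Fin (m - 1)) ⊕ Fin 2) ((Fin (m - 1) ⊕ Fin (m - 1)) ⊕ Fin 2) F) = Matrix.diagonal (fun k : (Fin (m - 1) ⊕ Fin (m - 1)) ⊕ Fin 2 => if (Sum.elim (Sum.elim (fun j : Fin (m - 1) => (j : ℕ)) (fun j : Fin (m - 1) => (j : ℕ))) (fun _ : Fin 2 => i) k) < i then (-1 : F) else 1)) ↔ q ^ i % 4 = 1 := by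
  classical
  have h2 : (2 : F) ≠ 0 := fun h => by
    have h' := FiniteField.even_card_iff_char_two.1 (CharP.ringChar_of_prime_eq_zero Nat.prime_two (R := F) (by exact_mod_cast h))
    rw [hF] at h'; rw [Nat.odd_iff] at hq; omega
  have hnd := qMinus_nondeg (F := F) (m - 1) hab
  have hgen : ReflGenerates F (((Fin (m - 1) ⊕ Fin (m - 1)) ⊕ Fin 2) → F) := H44.reflGenerates_of_two_ne_zero h2
  let e : Fin (m - 1) → ((Fin (m - 1) ⊕ Fin (m - 1)) ⊕ Fin 2) → F := fun j => Pi.single (Sum.inl (Sum.inl j)) 1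
  let f : Fin (m - 1) → ((Fin (m - 1) ⊕ Fin (m - 1)) ⊕ Fin 2) → F := fun j => Pi.single (Sum.inl (Sum.inr j)) 1
  obtain ⟨g, hgd, hgs, hgx⟩ := H44.exists_neg_pairs hnd hgen h2 e f
    (fun j => ⟨by simp [e, coe_qMinus, Cfsg.quadFormMinus, Pi.single_apply],
      by simp [f, coe_qMinus, Cfsg.quadFormMinus, Pi.single_apply],
      by simp [e, f, polB_qMinus, Pi.single_apply]⟩)
    (fun j k hjk => by simp [e, f, polB_qMinus, Pi.single_apply, Finset.sum_add_distrib, hjk, Ne.symm hjk])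
    (Finset.univ.filter (fun j : Fin (m - 1) => (j : ℕ) < i))
  rw [H44.exists_omega_iff' (coe_qMinus (m - 1) F a b) hnd hgen _ g ?_, hgd, hgs]
  · have hcard : (Finset.univ.filter (fun j : Fin (m - 1) => (j : ℕ) < i)).card = i := by
      rw [Fin.card_filter_val_lt, min_eq_right (by omega)]
    rw [hcard, sqc_eq_one_iff (pow_ne_zero _ (by simp)), H44.neg_one_pow_isSquare_iff_mod hF hq]
    simp
  · intro x
    ext ((k | k) | k) <;>
    · rw [hgx, mulVec_diagonal]
      simp [e, f, polB_qMinus, Pi.single_apply, Finset.sum_apply, Finset.sum_filter, mul_ite, ite_apply]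
      all_goals
        rw [Finset.sum_eq_single k (by intro b _ hb; simp [Ne.symm hb]) (by simp)]
        simp
        split_ifs with h <;> simp [h] <;> ring


end Cfsg.Agent.S2615
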