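import Cfsg.Statements.S2617
import Cfsg.Agent.H44.Basic

set_option autoImplicit false
open Cfsg

namespace Cfsg.Agent.S2617

open Matrix in
/-- The two standard quadratic forms of even dimension 2m over a finite field are not isometric: there is no linear isomorphism carrying the elliptic form Σ_(i<m−1) x_i y_i + z₁² + z₁z₂ + ζ z₂² (t² + t + ζ without roots) to the hyperbolic form Σ_(i<m) x_i y_i (they have different Witt index). -/
theorem result {F : Type*} [Field F] [Finite F] {m : ℕ} (hm : 1 ≤ m) (ζ : F) (hζ : ∀ t : F, t ^ 2 + t + ζ ≠ 0) (g : (Fin m ⊕ Fin m → F) ≃ₗ[F] ((Fin (m - 1) ⊕ Fin (m - 1)) ⊕ Fin 2 → F)) : ¬ (∀ v : Fin m ⊕ Fin m → F, Cfsg.quadFormMinus (m - 1) F 1 ζ (g v) = Cfsg.quadFormPlus m F v) := by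
  intro h
  let px : ((Fin (m - 1) ⊕ Fin (m - 1)) ⊕ Fin 2 → F) →ₗ[F] (Fin (m - 1) → F) :=
    LinearMap.funLeft F F (fun i => Sum.inl (Sum.inl i))
  let py : ((Fin (m - 1) ⊕ Fin (m - 1)) ⊕ Fin 2 → F) →ₗ[F] (Fin (m - 1) → F) :=
    LinearMap.funLeft F F (fun i => Sum.inl (Sum.inr i))
  let pz : ((Fin (m - 1) ⊕ Fin (m - 1)) ⊕ Fin 2 → F) →ₗ[F] (Fin 2 → F) :=
    LinearMap.funLeft F F Sum.inr
  let U := LinearMap.ker (LinearMap.funLeft F F (Sum.inr : Fin m → Fin m ⊕ Fin m))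
  have h1 : ∀ w : Fin 2 → F, w 0 ^ 2 + 1 * w 0 * w 1 + ζ * w 1 ^ 2 = 0 → w = 0 := by
    intro w hw
    by_cases h0 : w 1 = 0
    · simp [h0] at hw
      ext i; fin_cases i <;> simp [hw, h0]
    · exact absurd (by field_simp; linear_combination hw) (hζ (w 0 / w 1))
  have hU : ∀ u ∈ U.map (g : (Fin m ⊕ Fin m → F) →ₗ[F] _), Cfsg.quadFormMinus (m - 1) F 1 ζ u = 0 := by
    rintro u ⟨v, hv, rfl⟩
    rw [LinearEquiv.coe_coe, h]
    have hv' : ∀ i, v (Sum.inr i) = 0 := fun i => congrFun (LinearMap.mem_ker.1 hv) i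
    simp [Cfsg.quadFormPlus, hv']
  have hle := H44.finrank_le_of_totally_singular px py pz (by
      intro v e1 e2 e3
      ext ((i | i) | i)
      · exact congrFun e1 i
      · exact congrFun e2 i
      · exact congrFun e3 i)
    (Cfsg.quadFormMinus (m - 1) F 1 ζ) (fun w => w 0 ^ 2 + 1 * w 0 * w 1 + ζ * w 1 ^ 2) h1
    (fun v => rfl) _ hU
  rw [LinearEquiv.finrank_map_eq] at hle
  have h2 := (LinearMap.funLeft F F (Sum.inr : Fin m → Fin m ⊕ Fin m)).finrank_range_add_finrank_ker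
  rw [LinearMap.range_eq_top.2 (LinearMap.funLeft_surjective_of_injective F F _ Sum.inr_injective),
    finrank_top, Module.finrank_fintype_fun_eq_card, Module.finrank_fintype_fun_eq_card] at h2
  simp at h2
  change Module.finrank F U ≤ m - 1 at hle
  simp only [U] at hle
  omega

end Cfsg.Agent.S2617
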