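import Cfsg.Statements.S2619

set_option autoImplicit false
open Cfsg

namespace Cfsg.Agent.S2619

/-- Over a finite field of characteristic two, given an alternating bilinear form B on a finite-dimensional space, a basis (v_i) and scalars (λ_i), there is exactly one quadratic form whose polar form is B and whose value at each v_i is λ_i. -/
theorem result {F V ι : Type*} [Field F] [Finite F] [CharP F 2] [AddCommGroup V] [Module F V] [Fintype ι] (b : Module.Basis ι F V) (B : LinearMap.BilinForm F V) (hB : B.IsAlt) (c : ι → F) : ∃! Q : QuadraticForm F V, QuadraticMap.polarBilin Q = B ∧ ∀ i, Q (b i) = c i := by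
  classical
  letI : LinearOrder ι := LinearOrder.lift' (Fintype.equivFin ι) (Fintype.equivFin ι).injective
  let A : LinearMap.BilinForm F V :=
    b.constr F (fun i => b.constr F (fun j => if i < j then B (b i) (b j) else if i = j then c i else 0))
  have hA : ∀ i j, A (b i) (b j) = if i < j then B (b i) (b j) else if i = j then c i else 0 := by
    intro i j; simp only [A, Module.Basis.constr_basis]
  have hneg : ∀ x : F, -x = x := fun x => CharTwo.neg_eq x
  have hflip : A + A.flip = B := by
    refine b.ext (fun i => b.ext (fun j => ?_))
    show A (b i) (b j) + A (b j) (b i) = B (b i) (b j)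
    simp only [hA]
    rcases lt_trichotomy i j with h | h | h
    · simp [h, h.not_gt, h.ne']
    · subst h
      simp [hB.self_eq_zero, CharTwo.add_self_eq_zero]
    · simp [h, h.not_gt, h.ne']
      rw [← hB.neg_eq, hneg]
  refine ⟨A.toQuadraticMap, ⟨?_, fun i => ?_⟩, ?_⟩
  · rw [LinearMap.BilinMap.polarBilin_toQuadraticMap]; exact hflip
  · simp [LinearMap.BilinMap.toQuadraticMap_apply, hA]
  · rintro Q ⟨hQ, hQc⟩
    have hp : ∀ x y, QuadraticMap.polar (⇑Q) x y = QuadraticMap.polar (⇑A.toQuadraticMap) x y := by
      intro x y
      rw [LinearMap.BilinMap.polar_toQuadraticMap]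
      have h1 := LinearMap.congr_fun (LinearMap.congr_fun hQ x) y
      have h2 := LinearMap.congr_fun (LinearMap.congr_fun hflip x) y
      change A x y + A y x = B x y at h2
      rw [h2]; simpa using h1
    ext x
    have hx : ∀ x, x ∈ Submodule.span F (Set.range b) → Q x = A.toQuadraticMap x := by
      intro x hx
      induction hx using Submodule.span_induction with
      | mem x hx =>
        obtain ⟨i, rfl⟩ := hx
        simp [hQc, LinearMap.BilinMap.toQuadraticMap_apply, hA]
      | zero => simp
      | add x y _ _ h1 h2 =>
        rw [QuadraticMap.map_add (⇑Q), QuadraticMap.map_add (⇑A.toQuadraticMap), h1, h2, hp]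
      | smul a x _ h1 => rw [QuadraticMap.map_smul, QuadraticMap.map_smul, h1]
    exact hx x (by simp [b.span_eq])

end Cfsg.Agent.S2619
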