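import Cfsg.Statements.S2620
import Cfsg.Agent.H44.Basic

set_option autoImplicit false
open Cfsg

namespace Cfsg.Agent.S2620

open Matrix in
/-- Discriminant of the hyperbolic quadratic form Σ_(i<m) x_i y_i over a field with q elements, q odd, m ≥ 1: the determinant of the Gram matrix of its polar form in any basis is a square if and only if m(q − 1)/2 is even (equivalently q^m ≡ 1 (mod 4)). -/
theorem result {F : Type*} [Field F] [Fintype F] {q : ℕ} (hF : Fintype.card F = q) (hq : Odd q) {m : ℕ} (hm : 1 ≤ m) {ι : Type*} [Fintype ι] [DecidableEq ι] (b : Module.Basis ι F (Fin m ⊕ Fin m → F)) : IsSquare (Matrix.of (fun i j : ι => QuadraticMap.polar (Cfsg.quadFormPlus m F) (b i) (b j))).det ↔ Even (m * (q - 1) / 2) := by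
  subst hF
  let G : Matrix (Fin m ⊕ Fin m) (Fin m ⊕ Fin m) F := fromBlocks 0 1 1 0
  have hf : ∀ u v, QuadraticMap.polar (Cfsg.quadFormPlus m F) u v = u ⬝ᵥ G *ᵥ v := by
    intro u v
    rw [Matrix.fromBlocks_mulVec]
    simp only [QuadraticMap.polar, Cfsg.quadFormPlus, dotProduct, Fintype.sum_sum_type,
      zero_mulVec, one_mulVec, zero_add, add_zero, Sum.elim_inl, Sum.elim_inr,
      Function.comp, Pi.add_apply, ← Finset.sum_sub_distrib, ← Finset.sum_add_distrib]
    exact Finset.sum_congr rfl (fun i _ => by ring)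
  rw [H44.gram_det_isSquare_iff _ G hf b]
  have hdet : G.det = (-1 : F) ^ m := by
    have h1 : fromBlocks 1 1 0 1 * G = (fromBlocks 1 1 1 0 : Matrix (Fin m ⊕ Fin m) (Fin m ⊕ Fin m) F) := by
      simp [G, fromBlocks_multiply]
    have h2 := congrArg Matrix.det h1
    rw [det_mul, det_fromBlocks_zero₂₁, det_fromBlocks_one₁₁] at h2
    simpa [det_neg] using h2
  rw [hdet, H44.isSquare_neg_one_pow_iff hq]

end Cfsg.Agent.S2620
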