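import Cfsg.Statements.S2621
import Cfsg.Agent.H44.Basic

set_option autoImplicit false
open Cfsg

namespace Cfsg.Agent.S2621

open Matrix in
/-- Discriminant of an elliptic quadratic form Σ_(i<m−1) x_i y_i + z₁² + a z₁z₂ + c z₂² (binary part anisotropic) in dimension 2m over a field with q elements, q odd, m ≥ 1: the determinant of the Gram matrix of its polar form in any basis is a square if and only if m(q − 1)/2 is odd (equivalently q^m ≡ 3 (mod 4)). -/
theorem result {F : Type*} [Field F] [Fintype F] {q : ℕ} (hF : Fintype.card F = q) (hq : Odd q) {m : ℕ} (hm : 1 ≤ m) (a c : F) (hac : ∀ z₁ z₂ : F, z₁ ^ 2 + a * z₁ * z₂ + c * z₂ ^ 2 = 0 → z₁ = 0 ∧ z₂ = 0) {ι : Type*} [Fintype ι] [DecidableEq ι] (b : Module.Basis ι F ((Fin (m - 1) ⊕ Fin (m - 1)) ⊕ Fin 2 → F)) : IsSquare (Matrix.of (fun i j : ι => QuadraticMap.polar (Cfsg.quadFormMinus (m - 1) F a c) (b i) (b j))).det ↔ ¬ Even (m * (q - 1) / 2) := by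
  subst hF
  obtain ⟨k, rfl⟩ : ∃ k, m = k + 1 := ⟨m - 1, by omega⟩
  let G : Matrix ((Fin (k + 1 - 1) ⊕ Fin (k + 1 - 1)) ⊕ Fin 2) ((Fin (k + 1 - 1) ⊕ Fin (k + 1 - 1)) ⊕ Fin 2) F :=
    fromBlocks (fromBlocks 0 1 1 0) 0 0 !![2, a; a, 2 * c]
  have hf : ∀ u v, QuadraticMap.polar (Cfsg.quadFormMinus (k + 1 - 1) F a c) u v = u ⬝ᵥ G *ᵥ v := by
    intro u v
    rw [Matrix.fromBlocks_mulVec, Matrix.fromBlocks_mulVec]
    simp only [QuadraticMap.polar, Cfsg.quadFormMinus, dotProduct, Fintype.sum_sum_type,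
      zero_mulVec, one_mulVec, zero_add, add_zero, Sum.elim_inl, Sum.elim_inr,
      Function.comp, Pi.add_apply, Fin.sum_univ_two, mulVec, of_apply, cons_val', cons_val_zero,
      cons_val_one]
    simp only [add_mul, mul_add, Finset.sum_add_distrib]
    simp only [mul_comm (v (Sum.inl (Sum.inl _))) (u _)]
    ring
  rw [H44.gram_det_isSquare_iff _ G hf b]
  have hdet : G.det = (-1 : F) ^ (k + 1) * (a ^ 2 - 4 * c) := by
    have h1 : fromBlocks 1 1 0 1 * (fromBlocks 0 1 1 0) = (fromBlocks 1 1 1 0 : Matrix (Fin (k + 1 - 1) ⊕ Fin (k + 1 - 1)) (Fin (k + 1 - 1) ⊕ Fin (k + 1 - 1)) F) := by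
      simp [fromBlocks_multiply]
    have h2 := congrArg Matrix.det h1
    rw [det_mul, det_fromBlocks_zero₂₁, det_fromBlocks_one₁₁] at h2
    simp [det_neg] at h2
    simp only [G]
    rw [det_fromBlocks_zero₂₁, h2, det_fin_two_of, pow_succ]
    ring
  have h2 : (2 : F) ≠ 0 := by
    intro h
    apply H44.ringChar_ne_two_of_odd_card hq
    exact (CharP.ringChar_of_prime_eq_zero Nat.prime_two (by exact_mod_cast h))
  have hns : ¬ IsSquare (a ^ 2 - 4 * c) := by
    rintro ⟨r, hr⟩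
    have h := hac ((r - a) / 2) 1 (by field_simp; linear_combination -hr)
    exact one_ne_zero h.2
  rw [hdet, ← H44.isSquare_neg_one_pow_iff hq (k + 1)]
  have hne : a ^ 2 - 4 * c ≠ 0 := fun h => hns (h ▸ IsSquare.zero)
  have hs : ∀ x y : F, x ≠ 0 → y ≠ 0 → (IsSquare (x * y) ↔ (IsSquare x ↔ IsSquare y)) := by
    intro x y hx hy
    classical
    have h := map_mul (quadraticChar F) x y
    have hsq : ∀ z : F, z ≠ 0 → (IsSquare z ↔ quadraticChar F z = 1) :=
      fun z hz => (quadraticChar_one_iff_isSquare hz).symm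
    rw [hsq x hx, hsq y hy, hsq (x * y) (mul_ne_zero hx hy), h]
    rcases quadraticChar_dichotomy hx with e1 | e1 <;>
      rcases quadraticChar_dichotomy hy with e2 | e2 <;> simp [e1, e2]
  rw [hs _ _ (pow_ne_zero _ (by simp)) hne]
  tauto

end Cfsg.Agent.S2621
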