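import Cfsg.Statements.S2622
import Cfsg.Agent.H64.OrthonormalChar2

set_option autoImplicit false
open Cfsg

namespace Cfsg.Agent.S2622

/-- Over a finite field of characteristic two, a non-degenerate symmetric bilinear form that is not alternating (some vector v has B(v, v) ≠ 0) admits an orthonormal basis. -/
theorem result {F V : Type*} [Field F] [Finite F] [CharP F 2] [AddCommGroup V] [Module F V] [FiniteDimensional F V] {n : ℕ} (hV : Module.finrank F V = n) (B : LinearMap.BilinForm F V) (hS : B.IsSymm) (hB : B.Nondegenerate) (hna : ∃ v : V, B v v ≠ 0) : ∃ b : Module.Basis (Fin n) F V, ∀ i j, B (b i) (b j) = if i = j then 1 else 0 := by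
  obtain ⟨b, hb⟩ := H64.exists_orthonormal_family n B hV hS hB (Or.inr hna)
  have hli : LinearIndependent F b := by
    rw [Fintype.linearIndependent_iff]
    intro g hg i
    have := congrArg (B (b i)) hg
    simpa [map_sum, map_smul, hb, Finset.sum_ite_eq] using this
  have hsp : ⊤ ≤ Submodule.span F (Set.range b) :=
    (hli.span_eq_top_of_card_eq_finrank' (by rw [Fintype.card_fin, hV])).ge
  refine ⟨Module.Basis.mk hli hsp, fun i j => ?_⟩
  rw [Module.Basis.mk_apply, Module.Basis.mk_apply]
  exact hb i j

end Cfsg.Agent.S2622
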