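import Cfsg.Statements.S2623
import Cfsg.Agent.H44.Classify

set_option autoImplicit false
open Cfsg

namespace Cfsg.Agent.S2623

open Matrix

theorem isSquare_prod_iff_equiv {F : Type*} [Field F] [Finite F] {x y : F} (hx : x ≠ 0) (hy : y ≠ 0) :
    IsSquare (x * y) ↔ ∃ s : F, s ≠ 0 ∧ y = s ^ 2 * x := by
  constructor
  · rintro ⟨r, hr⟩
    refine ⟨r / x, div_ne_zero (fun e => ?_) hx, by field_simp; linear_combination hr⟩
    rw [e, mul_zero] at hr; exact mul_ne_zero hx hy hr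
  · rintro ⟨s, _, rfl⟩; exact ⟨s * x, by ring⟩

open Matrix in
/-- Over a finite field of odd order, two quadratic forms on F^n with non-degenerate polar forms are isometric (related by an invertible linear change of variables) if and only if their discriminants (determinants of the Gram matrices of their polar forms) lie in the same square class. -/
theorem result {F : Type*} [Field F] [Fintype F] (h2 : (2 : F) ≠ 0) {n : ℕ} (Q₁ Q₂ : QuadraticForm F (Fin n → F)) (h₁ : (QuadraticMap.polarBilin Q₁).Nondegenerate) (h₂ : (QuadraticMap.polarBilin Q₂).Nondegenerate) : (∃ g : (Fin n → F) ≃ₗ[F] (Fin n → F), ∀ v, Q₂ (g v) = Q₁ v) ↔ IsSquare ((Matrix.of (fun i j : Fin n => QuadraticMap.polar ⇑Q₁ (Pi.single i 1) (Pi.single j 1))).det * (Matrix.of (fun i j : Fin n => QuadraticMap.polar ⇑Q₂ (Pi.single i 1) (Pi.single j 1))).det) := by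
  have s₁ := H44.polarSep_of_nondegenerate h₁
  have s₂ := H44.polarSep_of_nondegenerate h₂
  let std := Pi.basisFun F (Fin n)
  have hstd : ∀ i, std i = Pi.single i 1 := fun i => by simp [std]
  have hD : ∀ Q : QuadraticForm F (Fin n → F), (Matrix.of (fun i j : Fin n => QuadraticMap.polar ⇑Q (Pi.single i 1) (Pi.single j 1))) = Matrix.of (fun i j : Fin n => QuadraticMap.polar ⇑Q (std i) (std j)) := by
    intro Q; simp only [hstd]
  rw [hD, hD]
  have n₁ := H44.gram_det_ne_zero Q₁ s₁ std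
  have n₂ := H44.gram_det_ne_zero Q₂ s₂ std
  constructor
  · rintro ⟨g, hg⟩
    obtain ⟨d, hd, h⟩ := H44.gram_det_isometry Q₁ Q₂ g hg std std
    exact ⟨d * (Matrix.of (fun i j : Fin n => QuadraticMap.polar ⇑Q₂ (std i) (std j))).det, by rw [h]; ring⟩
  intro hsq
  rcases Nat.even_or_odd n with ⟨m, hm⟩ | ⟨m, hm⟩
  · have hdim : Module.finrank F (Fin n → F) = 2 * m := by simp; omega
    have mixed : ∀ (P M : QuadraticForm F (Fin n → F)) (ζ : F), (∀ t : F, t ^ 2 + t + ζ ≠ 0) →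
        (φ : (Fin n → F) ≃ₗ[F] (Fin m ⊕ Fin m → F)) → (∀ v, P v = Cfsg.quadFormPlus m F (φ v)) →
        (ψ : (Fin n → F) ≃ₗ[F] ((Fin (m - 1) ⊕ Fin (m - 1)) ⊕ Fin 2 → F)) →
        (∀ v, M v = Cfsg.quadFormMinus (m - 1) F 1 ζ (ψ v)) → 1 ≤ m →
        ¬ IsSquare ((Matrix.of (fun i j : Fin n => QuadraticMap.polar ⇑P (std i) (std j))).det * (Matrix.of (fun i j : Fin n => QuadraticMap.polar ⇑M (std i) (std j))).det) := by
      intro P M ζ hζ φ hφ ψ hψ hm1 hsquare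
      obtain ⟨d, hd, hP⟩ := H44.gram_det_isometry P (H44.plusForm m F) φ
        (fun v => by rw [H44.plusForm_apply, hφ]) std (Pi.basisFun F _)
      obtain ⟨e, he, hM⟩ := H44.gram_det_isometry M (H44.minusForm (m - 1) 1 ζ) ψ
        (fun v => by rw [H44.minusForm_apply, hψ]) std (Pi.basisFun F _)
      rw [hP, hM] at hsquare
      have hplus : ∀ k : ℕ, (Matrix.fromBlocks 0 1 1 0 : Matrix (Fin k ⊕ Fin k) (Fin k ⊕ Fin k) F).det = (-1) ^ k := by
        intro k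
        have h1 : fromBlocks 1 1 0 1 * (fromBlocks 0 1 1 0) = (fromBlocks 1 1 1 0 : Matrix (Fin k ⊕ Fin k) (Fin k ⊕ Fin k) F) := by
          simp [fromBlocks_multiply]
        have h3 := congrArg Matrix.det h1
        rw [det_mul, det_fromBlocks_zero₂₁, det_fromBlocks_one₁₁] at h3
        simpa [det_neg] using h3
      have eP : (Matrix.of fun i j => QuadraticMap.polar (⇑(H44.plusForm m F)) (Pi.basisFun F _ i) (Pi.basisFun F _ j)) = fromBlocks 0 1 1 0 := by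
        ext (i | i) (j | j) <;>
          simp [QuadraticMap.polar, H44.plusForm_apply, Cfsg.quadFormPlus, Pi.single_apply, Matrix.one_apply, eq_comm]
      have eM : (Matrix.of fun i j => QuadraticMap.polar (⇑(H44.minusForm (m - 1) 1 ζ)) (Pi.basisFun F _ i) (Pi.basisFun F _ j)) = fromBlocks (fromBlocks 0 1 1 0) 0 0 !![2, 1; 1, 2 * ζ] := by
        ext ((i | i) | i) ((j | j) | j) <;> (try fin_cases i) <;> (try fin_cases j) <;>
          simp [QuadraticMap.polar, H44.minusForm_apply, Cfsg.quadFormMinus, Pi.single_apply, Matrix.one_apply, eq_comm] <;> ring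
      rw [eP, eM, det_fromBlocks_zero₂₁, hplus, hplus, det_fin_two_of] at hsquare
      have hne : d * e * (-1 : F) ^ (m - 1) ≠ 0 :=
        mul_ne_zero (mul_ne_zero hd he) (pow_ne_zero _ (by simp))
      have h3 : d ^ 2 * (-1 : F) ^ m * (e ^ 2 * ((-1) ^ (m - 1) * (2 * (2 * ζ) - 1 * 1))) =
          (d * e * (-1 : F) ^ (m - 1)) ^ 2 * (1 - 4 * ζ) := by
        obtain ⟨k, rfl⟩ : ∃ k, m = k + 1 := ⟨m - 1, by omega⟩
        simp only [Nat.add_sub_cancel, pow_succ]; ring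
      rw [h3, H44.isSquare_sq_mul_iff hne] at hsquare
      obtain ⟨r, hr⟩ := hsquare
      exact hζ ((r - 1) / 2) (by field_simp; linear_combination -hr)
    rcases H44.equiv_plus_or_minus hdim Q₁ s₁ with ⟨φ, hφ⟩ | ⟨hm1, ζ, φ, hζ, hφ⟩ <;>
      rcases H44.equiv_plus_or_minus hdim Q₂ s₂ with ⟨ψ, hψ⟩ | ⟨hm2, ζ', ψ, hζ', hψ⟩
    · exact ⟨φ.trans ψ.symm, fun v => by simp [hφ, hψ]⟩
    · exact absurd hsq (mixed Q₁ Q₂ ζ' hζ' φ hφ ψ hψ hm2)
    · exact absurd (by rwa [mul_comm] at hsq) (mixed Q₂ Q₁ ζ hζ ψ hψ φ hφ hm1)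
    · obtain ⟨χ, hχ⟩ := H44.minus_equiv_normal hζ' (m - 1) 1 ζ (H44.binForm_one_anisotropic hζ)
      exact ⟨φ.trans (χ.trans ψ.symm), fun v => by simp [hφ, hψ, hχ]⟩
  · have hdim : Module.finrank F (Fin n → F) = 2 * m + 1 := by simp [hm]
    obtain ⟨c₁, φ, hc₁, hφ⟩ := H44.equiv_odd hdim Q₁ s₁
    obtain ⟨c₂, ψ, hc₂, hψ⟩ := H44.equiv_odd hdim Q₂ s₂
    have key : ∀ (Q : QuadraticForm F (Fin n → F)) (c : F) (χ : (Fin n → F) ≃ₗ[F] (Unit ⊕ (Fin m ⊕ Fin m) → F)),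
        (∀ v, Q v = c * χ v (.inl ()) ^ 2 + ∑ i : Fin m, χ v (.inr (.inl i)) * χ v (.inr (.inr i))) →
        ∃ d : F, d ≠ 0 ∧ (Matrix.of (fun i j : Fin n => QuadraticMap.polar ⇑Q (std i) (std j))).det = d ^ 2 * (2 * c * (fromBlocks 0 1 1 0 : Matrix (Fin m ⊕ Fin m) (Fin m ⊕ Fin m) F).det) := by
      intro Q c χ hχ
      obtain ⟨d, hd, hQd⟩ := H44.gram_det_isometry Q Q (LinearEquiv.refl F _) (fun _ => rfl) std (Module.Basis.ofEquivFun χ)
      refine ⟨d, hd, ?_⟩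
      have eQ : (Matrix.of fun i j => QuadraticMap.polar (⇑Q) (Module.Basis.ofEquivFun χ i) (Module.Basis.ofEquivFun χ j)) = fromBlocks (Matrix.diagonal (fun _ : Unit => 2 * c)) 0 0 (fromBlocks 0 1 1 0) := by
        ext (i | (i | i)) (j | (j | j)) <;>
          simp [QuadraticMap.polar, hχ, Pi.single_apply, Matrix.one_apply, eq_comm] <;> ring
      rw [hQd, eQ, det_fromBlocks_zero₂₁, det_diagonal]
      simp
    obtain ⟨d, hd, e₁⟩ := key Q₁ c₁ φ hφ
    obtain ⟨e, he, e₂⟩ := key Q₂ c₂ ψ hψ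
    set D := (fromBlocks 0 1 1 0 : Matrix (Fin m ⊕ Fin m) (Fin m ⊕ Fin m) F).det
    have hDne : d * e * 2 * D ≠ 0 := by
      rw [e₁] at n₁
      exact mul_ne_zero (mul_ne_zero (mul_ne_zero hd he) h2) (fun h => n₁ (by rw [h]; ring))
    rw [e₁, e₂, show d ^ 2 * (2 * c₁ * D) * (e ^ 2 * (2 * c₂ * D)) = (d * e * 2 * D) ^ 2 * (c₁ * c₂) by ring,
      H44.isSquare_sq_mul_iff hDne, isSquare_prod_iff_equiv hc₁ hc₂] at hsq
    obtain ⟨s, hs, hsc⟩ := hsq
    let σ : (Unit ⊕ (Fin m ⊕ Fin m) → F) ≃ₗ[F] (Unit ⊕ (Fin m ⊕ Fin m) → F) :=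
      (LinearEquiv.sumArrowLequivProdArrow _ _ F F).trans
        (((LinearEquiv.smulOfUnit (M := Unit → F) (Units.mk0 s hs)⁻¹).prodCongr (LinearEquiv.refl F _)).trans
          (LinearEquiv.sumArrowLequivProdArrow _ _ F F).symm)
    refine ⟨φ.trans (σ.trans ψ.symm), fun v => ?_⟩
    simp [hφ, hψ, hsc, σ, LinearEquiv.smulOfUnit, Units.smul_def]
    field_simp

end Cfsg.Agent.S2623
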