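import Cfsg.Statements.S2625
import Cfsg.Agent.H44.Basic

set_option autoImplicit false
open Cfsg

namespace Cfsg.Agent.S2625

/-- For a quadratic form Q on F^n with non-degenerate polar form, F finite and n odd (so |F| is odd), the multiplier of any similarity is a square: if g is an invertible linear map with Q(g v) = c·Q(v) for all v then c is a square. -/
theorem result {F : Type*} [Field F] [Fintype F] {n : ℕ} (hn : Odd n) (Q : QuadraticForm F (Fin n → F)) (hQ : (QuadraticMap.polarBilin Q).Nondegenerate) (g : (Fin n → F) ≃ₗ[F] (Fin n → F)) (c : F) (hg : ∀ v, Q (g v) = c * Q v) : IsSquare c := by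
  by_cases hc : c = 0
  · exact hc ▸ IsSquare.zero
  obtain ⟨d, hd, h⟩ := H44.gram_det_basis_change (QuadraticMap.polarBilin Q)
    ((Pi.basisFun F (Fin n)).map g) (Pi.basisFun F (Fin n))
  have hne : (Matrix.of fun i j => QuadraticMap.polarBilin Q (Pi.basisFun F (Fin n) i) (Pi.basisFun F (Fin n) j)).det ≠ 0 :=
    (LinearMap.BilinForm.nondegenerate_iff_det_ne_zero (Pi.basisFun F (Fin n))).1 hQ |> fun h => by
      convert h using 2
      ext i j; simp [LinearMap.BilinForm.toMatrix_apply]
  have h1 : (Matrix.of fun i j => QuadraticMap.polarBilin Q ((Pi.basisFun F (Fin n)).map g i) ((Pi.basisFun F (Fin n)).map g j)) =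
      c • (Matrix.of fun i j => QuadraticMap.polarBilin Q (Pi.basisFun F (Fin n) i) (Pi.basisFun F (Fin n) j)) := by
    ext i j
    simp [QuadraticMap.polar, ← map_add, hg]
    ring
  rw [h1, Matrix.det_smul, Fintype.card_fin] at h
  exact H44.isSquare_of_pow_odd hn hc (mul_right_cancel₀ hne h)

end Cfsg.Agent.S2625
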