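import Cfsg.Statements.S2626

set_option autoImplicit false
open Cfsg

namespace Cfsg.Agent.S2626

open Matrix in
/-- Ω of an orthogonal direct sum contains the product of the Ω's: for quadratic forms Q₁ on F^k and Q₂ on F^l with non-degenerate polar forms (F finite) and Q = Q₁ ⊕ Q₂ on F^(k+l), if g₁ lies in Ω(Q₁) and g₂ in Ω(Q₂) (commutator subgroups of the orthogonal groups) then the block-diagonal isometry diag(g₁, g₂) lies in Ω(Q). -/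
theorem result {F : Type*} [Field F] [Fintype F] {k l : ℕ} (Q₁ : QuadraticForm F (Fin k → F)) (Q₂ : QuadraticForm F (Fin l → F)) (h₁ : (QuadraticMap.polarBilin Q₁).Nondegenerate) (h₂ : (QuadraticMap.polarBilin Q₂).Nondegenerate) (g₁ : ↥(Cfsg.isometryGroup F ⇑Q₁)) (g₂ : ↥(Cfsg.isometryGroup F ⇑Q₂)) (hg₁ : g₁ ∈ Cfsg.Omega F ⇑Q₁) (hg₂ : g₂ ∈ Cfsg.Omega F ⇑Q₂) : ∃ g : ↥(Cfsg.isometryGroup F (fun v : Fin k ⊕ Fin l → F => Q₁ (v ∘ Sum.inl) + Q₂ (v ∘ Sum.inr))), g ∈ Cfsg.Omega F (fun v : Fin k ⊕ Fin l → F => Q₁ (v ∘ Sum.inl) + Q₂ (v ∘ Sum.inr)) ∧ ((g : Matrix.GeneralLinearGroup (Fin k ⊕ Fin l) F) : Matrix (Fin k ⊕ Fin l) (Fin k ⊕ Fin l) F) = Matrix.fromBlocks ((g₁ : Matrix.GeneralLinearGroup (Fin k) F) : Matrix (Fin k) (Fin k) F) 0 0 ((g₂ : Matrix.GeneralLinearGroup (Fin l) F) : Matrix (Fin l) (Fin l) F) := by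
  let ψ : Matrix (Fin k) (Fin k) F × Matrix (Fin l) (Fin l) F →* Matrix (Fin k ⊕ Fin l) (Fin k ⊕ Fin l) F :=
    { toFun := fun p => fromBlocks p.1 0 0 p.2
      map_one' := fromBlocks_one
      map_mul' := fun p q => by simp [fromBlocks_multiply] }
  let ι : ↥(Cfsg.isometryGroup F ⇑Q₁) × ↥(Cfsg.isometryGroup F ⇑Q₂) →*
      Matrix (Fin k) (Fin k) F × Matrix (Fin l) (Fin l) F :=
    MonoidHom.prodMap ((Units.coeHom _).comp (Subgroup.subtype _)) ((Units.coeHom _).comp (Subgroup.subtype _))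
  let φ₀ := (ψ.comp ι).toHomUnits
  have hmem : ∀ p, φ₀ p ∈ Cfsg.isometryGroup F (fun v : Fin k ⊕ Fin l → F => Q₁ (v ∘ Sum.inl) + Q₂ (v ∘ Sum.inr)) := by
    intro p u v
    have e1 := p.1.2 (u ∘ Sum.inl) (u ∘ Sum.inl)
    have e2 := p.2.2 (u ∘ Sum.inr) (u ∘ Sum.inr)
    simp only [φ₀, ψ, ι, MonoidHom.coe_toHomUnits, Units.coeHom_apply, MonoidHom.comp_apply,
      MonoidHom.coe_mk, OneHom.coe_mk, MonoidHom.coe_prodMap, Prod.map_fst, Prod.map_snd,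
      Matrix.fromBlocks_mulVec, Subgroup.coe_subtype] at e1 e2 ⊢
    simp [e1, e2, Sum.elim_comp_inl, Sum.elim_comp_inr]
  let φ := φ₀.codRestrict _ hmem
  refine ⟨φ (g₁, g₂), ?_, rfl⟩
  have h : (g₁, g₂) ∈ ⁅(⊤ : Subgroup (↥(Cfsg.isometryGroup F ⇑Q₁) × ↥(Cfsg.isometryGroup F ⇑Q₂))), (⊤ : Subgroup (↥(Cfsg.isometryGroup F ⇑Q₁) × ↥(Cfsg.isometryGroup F ⇑Q₂)))⁆ := by
    rw [← Subgroup.top_prod_top, Subgroup.commutator_prod_prod, Subgroup.mem_prod]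
    exact ⟨by simpa [Cfsg.Omega, commutator_def] using hg₁, by simpa [Cfsg.Omega, commutator_def] using hg₂⟩
  have h' := Subgroup.mem_map_of_mem φ h
  rw [Subgroup.map_commutator] at h'
  exact Subgroup.commutator_mono le_top le_top h'

end Cfsg.Agent.S2626
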