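import Cfsg.Statements.S2627
import Cfsg.Agent.H44.DirectSum

set_option autoImplicit false
open Cfsg

namespace Cfsg.Agent.S2627

open Matrix H43 in
/-- For an orthogonal direct sum Q = Q₁ ⊕ Q₂ of quadratic forms with non-degenerate polar forms over a finite field, an isometry g₁ of Q₁ extended by the identity on the second summand lies in Ω(Q) (the commutator subgroup of the orthogonal group of Q) if and only if g₁ lies in Ω(Q₁). (Excluded: the field of two elements when the first summand or the whole space has dimension 4, where the commutator subgroup of O⁺₄(2) is smaller than the group usually called Ω.) -/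
theorem result {F : Type*} [Field F] [Fintype F] {k l : ℕ} (h : Fintype.card F ≠ 2 ∨ (k ≠ 4 ∧ k + l ≠ 4)) (Q₁ : QuadraticForm F (Fin k → F)) (Q₂ : QuadraticForm F (Fin l → F)) (h₁ : (QuadraticMap.polarBilin Q₁).Nondegenerate) (h₂ : (QuadraticMap.polarBilin Q₂).Nondegenerate) (g₁ : ↥(Cfsg.isometryGroup F ⇑Q₁)) : (∃ g : ↥(Cfsg.isometryGroup F (fun v : Fin k ⊕ Fin l → F => Q₁ (v ∘ Sum.inl) + Q₂ (v ∘ Sum.inr))), g ∈ Cfsg.Omega F (fun v : Fin k ⊕ Fin l → F => Q₁ (v ∘ Sum.inl) + Q₂ (v ∘ Sum.inr)) ∧ ((g : Matrix.GeneralLinearGroup (Fin k ⊕ Fin l) F) : Matrix (Fin k ⊕ Fin l) (Fin k ⊕ Fin l) F) = Matrix.fromBlocks ((g₁ : Matrix.GeneralLinearGroup (Fin k) F) : Matrix (Fin k) (Fin k) F) 0 0 1) ↔ g₁ ∈ Cfsg.Omega F ⇑Q₁ := by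
  have hgen₁ : ReflGenerates F (Fin k → F) :=
    H44.reflGenerates_of_card (h.imp id (fun h => by simpa using h.1))
  have hgen : ReflGenerates F (Fin k ⊕ Fin l → F) :=
    H44.reflGenerates_of_card (h.imp id (fun h => by simpa using h.2))
  rw [H44.exists_omega_iff' H44.coe_sumForm (H44.sumForm_nondeg (Q₁ := Q₁) (Q₂ := Q₂) h₁ h₂) hgen _
    (H44.sumOrth (toOrth Q₁ g₁) 1)
    (H44.sumOrth_matrix _ _ _ _ (toOrth_apply g₁) (fun x => by rw [orth_one_apply, one_mulVec]))]
  rw [mem_Omega_iff, H44.mem_commutator_iff h₁ hgen₁, H44.sumOrth_dickson, H44.sumOrth_spinor h₁ h₂,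
    dickson_one, spinor_one h₂, mul_one, mul_one]

end Cfsg.Agent.S2627
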