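import Cfsg.Statements.S2628
import Cfsg.Agent.H44.DirectSum

set_option autoImplicit false
open Cfsg

namespace Cfsg.Agent.S2628

open Matrix H43 in
/-- For the orthogonal direct sum Q ⊕ Q of two copies of a quadratic form Q with non-degenerate polar form on F^k (F finite), every isometry g of Q acting diagonally, diag(g, g), lies in Ω(Q ⊕ Q), the commutator subgroup of the orthogonal group of Q ⊕ Q. (Excluded: k = 2 over the field of two elements, where Q ⊕ Q is the hyperbolic 4-space whose orthogonal group's commutator subgroup is smaller than the group usually called Ω.) -/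
theorem result {F : Type*} [Field F] [Fintype F] {k : ℕ} (h : Fintype.card F ≠ 2 ∨ k ≠ 2) (Q : QuadraticForm F (Fin k → F)) (hQ : (QuadraticMap.polarBilin Q).Nondegenerate) (g : ↥(Cfsg.isometryGroup F ⇑Q)) : ∃ x : ↥(Cfsg.isometryGroup F (fun v : Fin k ⊕ Fin k → F => Q (v ∘ Sum.inl) + Q (v ∘ Sum.inr))), x ∈ Cfsg.Omega F (fun v : Fin k ⊕ Fin k → F => Q (v ∘ Sum.inl) + Q (v ∘ Sum.inr)) ∧ ((x : Matrix.GeneralLinearGroup (Fin k ⊕ Fin k) F) : Matrix (Fin k ⊕ Fin k) (Fin k ⊕ Fin k) F) = Matrix.fromBlocks ((g : Matrix.GeneralLinearGroup (Fin k) F) : Matrix (Fin k) (Fin k) F) 0 0 ((g : Matrix.GeneralLinearGroup (Fin k) F) : Matrix (Fin k) (Fin k) F) := by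
  have hgen : ReflGenerates F (Fin k ⊕ Fin k → F) :=
    H44.reflGenerates_of_card (h.imp id (fun h e => h (by simp at e; omega)))
  rw [H44.exists_omega_iff' H44.coe_sumForm (H44.sumForm_nondeg (Q₁ := Q) (Q₂ := Q) hQ hQ) hgen _
    (H44.sumOrth (toOrth Q g) (toOrth Q g))
    (H44.sumOrth_matrix _ _ _ _ (toOrth_apply g) (toOrth_apply g))]
  rw [H44.sumOrth_dickson, H44.sumOrth_spinor hQ hQ]
  exact ⟨H44.mulTwo_mul_self _, sqClass_mul_self _⟩

end Cfsg.Agent.S2628
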