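import Cfsg.Statements.S2629
import Cfsg.Agent.H44.StdHalf

set_option autoImplicit false
open Cfsg

namespace Cfsg.Agent.S2629

open Matrix H43 in
/-- For the hyperbolic form Σ x_i y_i on F^(2m) over a finite field of odd order (m ≥ 1), an isometry g preserves the class of the maximal totally singular subspace U₀ = {y = 0} (that is, m − dim(U₀ ∩ gU₀) is even) if and only if det g = 1: the stabiliser of each of the two classes of maximal totally singular subspaces is SO. -/
theorem result {F : Type*} [Field F] [Fintype F] (h2 : (2 : F) ≠ 0) {m : ℕ} (hm : 1 ≤ m) (g : ↥(Cfsg.isometryGroup F (Cfsg.quadFormPlus m F))) : Even (m - Module.finrank F ↥(LinearMap.ker (LinearMap.funLeft F F (Sum.inr : Fin m → Fin m ⊕ Fin m)) ⊓ (LinearMap.ker (LinearMap.funLeft F F (Sum.inr : Fin m → Fin m ⊕ Fin m))).map (Matrix.mulVecLin ((g : Matrix.GeneralLinearGroup (Fin m ⊕ Fin m) F) : Matrix (Fin m ⊕ Fin m) (Fin m ⊕ Fin m) F)))) ↔ ((g : Matrix.GeneralLinearGroup (Fin m ⊕ Fin m)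 F) : Matrix (Fin m ⊕ Fin m) (Fin m ⊕ Fin m) F).det = 1 := by
  have hgen : ReflGenerates F (Fin m ⊕ Fin m → F) := H44.reflGenerates_of_two_ne_zero h2
  obtain ⟨G, hG, hdet, -⟩ := H44.exists_orth_of_iso (coe_qPlus m F) (qPlus_nondeg m) hgen g
  have e : (Matrix.mulVecLin ((g : Matrix.GeneralLinearGroup (Fin m ⊕ Fin m) F) : Matrix (Fin m ⊕ Fin m) (Fin m ⊕ Fin m) F)) = (G.1 : (Fin m ⊕ Fin m → F) →ₗ[F] (Fin m ⊕ Fin m → F)) :=
    LinearMap.ext (fun x => (hG x).symm)
  rw [e, H44.even_inf_map_iff (qPlus_nondeg m) hgen (finrank_qPlus m) G (H44.plus_half_singular m)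
      (H44.plus_half_singular m) (H44.plus_half_finrank m) (H44.plus_half_finrank m),
    inf_idem, H44.plus_half_finrank, Nat.sub_self,
    H44.dickson_eq_one_iff_det (qPlus_nondeg m) hgen h2, hdet]
  simp

end Cfsg.Agent.S2629
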