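import Cfsg.Statements.S2630
import Cfsg.Agent.H44.StdHalf

set_option autoImplicit false
open Cfsg

namespace Cfsg.Agent.S2630

open Matrix H43 in
/-- For the hyperbolic form Σ x_i y_i on F^(2m) over a finite field of characteristic two (m ≥ 1, excluding m = 2 over the field of two elements), an isometry g preserves the class of the maximal totally singular subspace U₀ = {y = 0} (m − dim(U₀ ∩ gU₀) even) if and only if g lies in Ω (the commutator subgroup of the orthogonal group): the stabiliser of each class is Ω. -/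
theorem result {F : Type*} [Field F] [Fintype F] [CharP F 2] {m : ℕ} (hm : 1 ≤ m) (h : Fintype.card F ≠ 2 ∨ m ≠ 2) (g : ↥(Cfsg.isometryGroup F (Cfsg.quadFormPlus m F))) : Even (m - Module.finrank F ↥(LinearMap.ker (LinearMap.funLeft F F (Sum.inr : Fin m → Fin m ⊕ Fin m)) ⊓ (LinearMap.ker (LinearMap.funLeft F F (Sum.inr : Fin m → Fin m ⊕ Fin m))).map (Matrix.mulVecLin ((g : Matrix.GeneralLinearGroup (Fin m ⊕ Fin m) F) : Matrix (Fin m ⊕ Fin m) (Fin m ⊕ Fin m) F)))) ↔ g ∈ Cfsg.Omega F (Cfsg.quadFormPlus m F) := by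
  have hgen : ReflGenerates F (Fin m ⊕ Fin m → F) :=
    H44.reflGenerates_of_card (h.imp id (fun h e => h (by rw [finrank_qPlus] at e; omega)))
  obtain ⟨G, hG, -, hmem⟩ := H44.exists_orth_of_iso (coe_qPlus m F) (qPlus_nondeg m) hgen g
  have e : (Matrix.mulVecLin ((g : Matrix.GeneralLinearGroup (Fin m ⊕ Fin m) F) : Matrix (Fin m ⊕ Fin m) (Fin m ⊕ Fin m) F)) = (G.1 : (Fin m ⊕ Fin m → F) →ₗ[F] (Fin m ⊕ Fin m → F)) :=
    LinearMap.ext (fun x => (hG x).symm)
  rw [e, H44.even_inf_map_iff (qPlus_nondeg m) hgen (finrank_qPlus m) G (H44.plus_half_singular m)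
      (H44.plus_half_singular m) (H44.plus_half_finrank m) (H44.plus_half_finrank m),
    inf_idem, H44.plus_half_finrank, Nat.sub_self, hmem]
  simp [H44.sqc_eq_one_of_two_eq_zero (CharTwo.two_eq_zero (R := F)) (spinor G)]

end Cfsg.Agent.S2630
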