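import Cfsg.Statements.S2631
import Cfsg.Agent.H44.StdHalf

set_option autoImplicit false
open Cfsg

namespace Cfsg.Agent.S2631

open Matrix H43 in
/-- For the hyperbolic form Σ x_i y_i on F^(2m) over a finite field (m ≥ 1, excluding m = 2 over the field of two elements), Ω (the commutator subgroup of the orthogonal group) acts transitively on each of the two classes of maximal totally singular subspaces: if U and W are m-dimensional totally singular subspaces with m − dim(U ∩ W) even, some element of Ω carries U to W. -/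
theorem result {F : Type*} [Field F] [Fintype F] {m : ℕ} (hm : 1 ≤ m) (h : Fintype.card F ≠ 2 ∨ m ≠ 2) (U W : Submodule F (Fin m ⊕ Fin m → F)) (hU : Module.finrank F U = m) (hW : Module.finrank F W = m) (hU0 : ∀ u ∈ U, Cfsg.quadFormPlus m F u = 0) (hW0 : ∀ w ∈ W, Cfsg.quadFormPlus m F w = 0) (he : Even (m - Module.finrank F ↥(U ⊓ W))) : ∃ g : ↥(Cfsg.isometryGroup F (Cfsg.quadFormPlus m F)), g ∈ Cfsg.Omega F (Cfsg.quadFormPlus m F) ∧ U.map (Matrix.mulVecLin ((g : Matrix.GeneralLinearGroup (Fin m ⊕ Fin m) F) : Matrix (Fin m ⊕ Fin m) (Fin m ⊕ Fin m) F)) = W := by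
  have hgen : ReflGenerates F (Fin m ⊕ Fin m → F) :=
    H44.reflGenerates_of_card (h.imp id (fun h e => h (by rw [finrank_qPlus] at e; omega)))
  obtain ⟨G, hd, hs, hUW⟩ := H44.exists_map_eq (qPlus_nondeg m) hgen hm (finrank_qPlus m)
    (fun u hu => by rw [coe_qPlus]; exact hU0 u hu) (fun w hw => by rw [coe_qPlus]; exact hW0 w hw) hU hW he
  obtain ⟨a, ha, hax⟩ := H44.exists_iso_of_orth (coe_qPlus m F) (qPlus_nondeg m) hgen G hd hs
  refine ⟨a, ha, ?_⟩
  have e : (Matrix.mulVecLin ((a : Matrix.GeneralLinearGroup (Fin m ⊕ Fin m) F) : Matrix (Fin m ⊕ Fin m) (Fin m ⊕ Fin m) F)) = (G.1 : (Fin m ⊕ Fin m → F) →ₗ[F] (Fin m ⊕ Fin m → F)) :=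
    LinearMap.ext (fun x => (hax x).symm)
  rw [e, hUW]

end Cfsg.Agent.S2631
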