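import Cfsg.Statements.S2632
import Cfsg.Agent.H45.OmegaTools

set_option autoImplicit false
open Cfsg H43 H45

namespace Cfsg.Agent.S2632

/-- Ω is transitive on non-degenerate subspaces of each isometry type: for a quadratic form Q on F^n, n ≥ 3, with non-degenerate polar form (F finite; excluding dimension 4 over the field of two elements), if U and W are subspaces on which the polar form is non-degenerate and there is a Q-preserving linear isomorphism U → W, then some element of Ω (the commutator subgroup of the orthogonal group) carries U to W. (In dimension 2 this fails: Ω can be {±1}, which fixes every line.) -/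
theorem result {F : Type*} [Field F] [Fintype F] {n : ℕ} (hn : 3 ≤ n) (h : Fintype.card F ≠ 2 ∨ n ≠ 4) (Q : QuadraticForm F (Fin n → F)) (hQ : (QuadraticMap.polarBilin Q).Nondegenerate) (U W : Submodule F (Fin n → F)) (hU : U ⊓ LinearMap.BilinForm.orthogonal (QuadraticMap.polarBilin Q) U = ⊥) (hW : W ⊓ LinearMap.BilinForm.orthogonal (QuadraticMap.polarBilin Q) W = ⊥) (e : U ≃ₗ[F] W) (he : ∀ u : U, Q (e u : Fin n → F) = Q (u : Fin n → F)) : ∃ g : ↥(Cfsg.isometryGroup F ⇑Q), g ∈ Cfsg.Omega F ⇑Q ∧ U.map (Matrix.mulVecLin ((g : Matrix.GeneralLinearGroup (Fin n) F) : Matrix (Fin n) (Fin n) F)) = W := by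
  have hdim : Module.finrank F (Fin n → F) = n := by simp
  have hgen : ReflGenerates F (Fin n → F) := reflGenerates_of_card (by rwa [hdim])
  obtain ⟨g₀, hg₀⟩ := witt_extend hQ U (W.subtype ∘ₗ e.toLinearMap)
    (W.injective_subtype.comp e.injective) (fun u => he u)
  obtain ⟨k, hk, hgk⟩ := exists_mem_commutator hQ hgen (by omega) (orthStab Q U)
    (exists_orthStab_invHom hQ hgen (by omega) U hU) g₀
  refine ⟨(toOrth Q).symm (g₀ * k),
    (mem_Omega_iff _).mpr (by rw [MulEquiv.apply_symm_apply]; exact hgk), ?_⟩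
  have happ : ∀ x, Matrix.mulVecLin
      (((toOrth Q).symm (g₀ * k) : Matrix.GeneralLinearGroup (Fin n) F) :
        Matrix (Fin n) (Fin n) F) x = g₀.1 (k.1 x) := fun x => by
    rw [Matrix.mulVecLin_apply, ← toOrth_apply, MulEquiv.apply_symm_apply]; rfl
  ext y
  constructor
  · rintro ⟨x, hx, rfl⟩
    rw [happ]
    have hkx : k.1 x ∈ U := by rw [← hk]; exact ⟨x, hx, rfl⟩
    rw [hg₀ ⟨_, hkx⟩]
    exact (e _).2
  · intro hy
    obtain ⟨u, hu⟩ := e.surjective ⟨y, hy⟩
    have hk' : U.map (k.1 : (Fin n → F) →ₗ[F] (Fin n → F)) = U := hk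
    obtain ⟨x, hx, hxu⟩ : (u : Fin n → F) ∈ U.map (k.1 : (Fin n → F) →ₗ[F] (Fin n → F)) := by
      rw [hk']; exact u.2
    refine ⟨x, hx, ?_⟩
    have hxu' : k.1 x = (u : Fin n → F) := hxu
    rw [happ, hxu', hg₀ u]
    exact congrArg Subtype.val hu

end Cfsg.Agent.S2632
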