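import Cfsg.Statements.S2633
import Cfsg.Agent.H45.OmegaTools

set_option autoImplicit false
open Cfsg H43 H45

namespace Cfsg.Agent.S2633

/-- Ω is transitive on totally singular subspaces of each dimension less than half the dimension: for a quadratic form Q on F^n with non-degenerate polar form (F finite; excluding dimension 4 over the field of two elements), if U and W are subspaces of the same dimension k with 2k < n on which Q vanishes, then some element of Ω (the commutator subgroup of the orthogonal group) carries U to W. -/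
theorem result {F : Type*} [Field F] [Fintype F] {n : ℕ} (h : Fintype.card F ≠ 2 ∨ n ≠ 4) (Q : QuadraticForm F (Fin n → F)) (hQ : (QuadraticMap.polarBilin Q).Nondegenerate) (U W : Submodule F (Fin n → F)) {k : ℕ} (hk : 2 * k < n) (hU : Module.finrank F U = k) (hW : Module.finrank F W = k) (hU0 : ∀ u ∈ U, Q u = 0) (hW0 : ∀ w ∈ W, Q w = 0) : ∃ g : ↥(Cfsg.isometryGroup F ⇑Q), g ∈ Cfsg.Omega F ⇑Q ∧ U.map (Matrix.mulVecLin ((g : Matrix.GeneralLinearGroup (Fin n) F) : Matrix (Fin n) (Fin n) F)) = W := by
  have hdim : Module.finrank F (Fin n → F) = n := by simp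
  have hgen : ReflGenerates F (Fin n → F) := reflGenerates_of_card (by rwa [hdim])
  by_cases hk0 : k = 0
  · subst hk0
    rw [Submodule.finrank_eq_zero] at hU hW
    subst hU hW
    exact ⟨1, one_mem _, Submodule.map_bot _⟩
  have hne : U ≠ ⊥ := by
    rintro rfl; simp at hU; exact hk0 hU.symm
  obtain ⟨g₀, hg₀⟩ := exists_orth_map_singular hQ hU0 hW0 (by omega)
  obtain ⟨c, hc, hgc⟩ := exists_mem_commutator hQ hgen (by omega) (orthStab Q U)
    (exists_singStab_invHom hQ hgen U hU0 hne (by omega)) g₀
  refine ⟨(toOrth Q).symm (g₀ * c),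
    (mem_Omega_iff _).mpr (by rw [MulEquiv.apply_symm_apply]; exact hgc), ?_⟩
  have happ : Matrix.mulVecLin
      (((toOrth Q).symm (g₀ * c) : Matrix.GeneralLinearGroup (Fin n) F) :
        Matrix (Fin n) (Fin n) F) = (g₀.1 : _ →ₗ[F] _) ∘ₗ (c.1 : _ →ₗ[F] _) :=
    LinearMap.ext fun x => by
      rw [Matrix.mulVecLin_apply, ← toOrth_apply, MulEquiv.apply_symm_apply]; rfl
  rw [happ, Submodule.map_comp, hc]
  refine Submodule.eq_of_le_of_finrank_le ?_ ?_
  · rintro _ ⟨x, hx, rfl⟩; exact hg₀ x hx
  · rw [LinearEquiv.finrank_map_eq, hU, hW]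

end Cfsg.Agent.S2633
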