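import Cfsg.Statements.S2634
import Cfsg.Agent.H45.OmegaTools

set_option autoImplicit false
open Cfsg H43 H45

namespace Cfsg.Agent.S2634

/-- Over a finite field of characteristic two, Ω (the commutator subgroup of the orthogonal group of a quadratic form Q on F^n with non-degenerate polar form; excluding dimension 4 over the field of two elements) acts transitively on the non-singular 1-spaces: for u, v with Q(u) ≠ 0 and Q(v) ≠ 0 some element of Ω carries the line through u to the line through v. -/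
theorem result {F : Type*} [Field F] [Fintype F] [CharP F 2] {n : ℕ} (h : Fintype.card F ≠ 2 ∨ n ≠ 4) (Q : QuadraticForm F (Fin n → F)) (hQ : (QuadraticMap.polarBilin Q).Nondegenerate) (u v : Fin n → F) (hu : Q u ≠ 0) (hv : Q v ≠ 0) : ∃ g : ↥(Cfsg.isometryGroup F ⇑Q), g ∈ Cfsg.Omega F ⇑Q ∧ (F ∙ ((g : Matrix.GeneralLinearGroup (Fin n) F) : Matrix (Fin n) (Fin n) F).mulVec u) = F ∙ v := by
  have h2 : (2 : F) = 0 := CharTwo.two_eq_zero
  have hdim : Module.finrank F (Fin n → F) = n := by simp
  have hgen : ReflGenerates F (Fin n → F) := reflGenerates_of_card (by rwa [hdim])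
  have hu0 : u ≠ 0 := fun h => hu (h ▸ QuadraticMap.map_zero Q)
  have hn := two_le_finrank hQ h2 hu0
  obtain ⟨t, ht⟩ : IsSquare (Q u / Q v) := H43.isSquare_of_two_eq_zero h2 _
  have ht0 : t ≠ 0 := by
    rintro rfl
    rw [mul_zero, div_eq_zero_iff] at ht
    exact ht.elim hu hv
  have hv0 : t • v ≠ 0 := smul_ne_zero ht0 fun h => hv (h ▸ QuadraticMap.map_zero Q)
  obtain ⟨g₀, hg₀⟩ := exists_orth_map hQ hu0 hv0 (by
    rw [qmap_smul, ← ht, div_mul_cancel₀ _ hv])
  have hru : (refl Q u).1 u = u := by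
    rw [refl_self hu, neg_eq_iff_add_eq_zero, ← two_smul F u, h2, zero_smul]
  obtain ⟨g, hg, hgu⟩ : ∃ g ∈ commutator (orthGroup Q), g.1 u = t • v := by
    by_cases hd : dickson g₀ = 1
    · exact ⟨g₀, (mem_commutator_iff_dickson hQ hgen hn h2 _).mpr hd, hg₀⟩
    · refine ⟨g₀ * refl Q u, (mem_commutator_iff_dickson hQ hgen hn h2 _).mpr ?_,
        by rw [orth_mul_apply, hru, hg₀]⟩
      have hhom := (invHom hQ hgen).map_mul g₀ (refl Q u)
      have h1 : dickson (g₀ * refl Q u) = dickson g₀ * dickson (refl Q u) :=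
        congrArg Prod.fst hhom
      rw [h1, dickson_refl hQ hu]
      revert hd
      generalize dickson g₀ = d
      revert d
      decide
  refine ⟨(toOrth Q).symm g, (mem_Omega_iff _).mpr (by rwa [MulEquiv.apply_symm_apply]), ?_⟩
  rw [← toOrth_apply, MulEquiv.apply_symm_apply, hgu]
  exact Submodule.span_singleton_smul_eq (IsUnit.mk0 t ht0) v

end Cfsg.Agent.S2634
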