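import Cfsg.Statements.S2635
import Cfsg.Agent.H45.OmegaTools

set_option autoImplicit false
open Cfsg H43 H45

namespace Cfsg.Agent.S2635

/-- Over a finite field of characteristic two, for a quadratic form Q on F^n with non-degenerate polar form, n ≥ 2, other than dimension 4 over the field of two elements, Ω (the commutator subgroup of the orthogonal group) is exactly the subgroup generated by the products of two reflections (orthogonal transvections) x ↦ x − Q(v)⁻¹ f(x, v) v, Q(v) ≠ 0: the products of an even number of reflections. -/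
theorem result {F : Type*} [Field F] [Fintype F] [CharP F 2] {n : ℕ} (hn : 2 ≤ n) (h : Fintype.card F ≠ 2 ∨ n ≠ 4) (Q : QuadraticForm F (Fin n → F)) (hQ : (QuadraticMap.polarBilin Q).Nondegenerate) : Cfsg.Omega F ⇑Q = Subgroup.closure {g : ↥(Cfsg.isometryGroup F ⇑Q) | ∃ u v : Fin n → F, Q u ≠ 0 ∧ Q v ≠ 0 ∧ ((g : Matrix.GeneralLinearGroup (Fin n) F) : Matrix (Fin n) (Fin n) F) = Cfsg.reflectionMatrix ⇑Q u * Cfsg.reflectionMatrix ⇑Q v} := by
  have hdim : Module.finrank F (Fin n → F) = n := by simp
  have hgen : ReflGenerates F (Fin n → F) := reflGenerates_of_card (by rwa [hdim])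
  apply Subgroup.map_injective (f := (toOrth Q).toMonoidHom) (toOrth Q).injective
  rw [MonoidHom.map_closure]
  have h1 := omega_map_toOrth (Q := Q)
  refine h1.trans ?_
  rw [commutator_eq_closure_reflPair hQ hgen (by omega) CharTwo.two_eq_zero]
  congr 1
  ext x
  constructor
  · rintro ⟨a, b, ha, hb, rfl⟩
    refine ⟨(toOrth Q).symm (refl Q a * refl Q b), ⟨a, b, ha, hb, ?_⟩,
      (toOrth Q).apply_symm_apply _⟩
    refine Matrix.ext_iff_mulVec.mpr fun y => ?_
    rw [← toOrth_apply, MulEquiv.apply_symm_apply, orth_mul_apply, ← Matrix.mulVec_mulVec,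
      reflectionMatrix_mulVec_eq, reflectionMatrix_mulVec_eq]
  · rintro ⟨g, ⟨a, b, ha, hb, hg⟩, rfl⟩
    refine ⟨a, b, ha, hb, orth_ext fun y => ?_⟩
    change (toOrth Q g).1 y = _
    rw [toOrth_apply, hg, orth_mul_apply, ← Matrix.mulVec_mulVec, reflectionMatrix_mulVec_eq,
      reflectionMatrix_mulVec_eq]

end Cfsg.Agent.S2635
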