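import Cfsg.Statements.S2636

set_option autoImplicit false
set_option linter.style.haveILetI false
open Cfsg

namespace Cfsg.Agent.S2636

/-- Centraliser of a field automorphism in PGL_n: let F be the field with q = q₀^r elements, σ a field automorphism of F of prime order r (so its fixed field has q₀ elements) and n ≥ 1. The invertible matrices g whose entrywise image under σ is a scalar multiple of g — those whose coset modulo scalars is fixed by σ — number (q − 1)/(q₀ − 1) · |GL_n(q₀)|; equivalently the centraliser in PGL_n(q) of the induced automorphism has the order of PGL_n(q₀). -/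
theorem result {F : Type*} [Field F] [Fintype F] {q₀ r n : ℕ} (hr : r.Prime) (hn : 1 ≤ n) (hF : Fintype.card F = q₀ ^ r) (σ : F ≃+* F) (hσ : orderOf σ = r) : Nat.card {g : GL (Fin n) F // ∃ c : F, c ≠ 0 ∧ (g : Matrix (Fin n) (Fin n) F).map σ = c • (g : Matrix (Fin n) (Fin n) F)} = (q₀ ^ r - 1) / (q₀ - 1) * ∏ i : Fin n, (q₀ ^ n - q₀ ^ (i : ℕ)) := by
  classical
  haveI : NeZero n := ⟨by omega⟩
  set Z := Subgroup.zpowers σ with hZ
  haveI : Finite (F ≃+* F) := Finite.of_injective (fun τ => (τ : F → F)) DFunLike.coe_injective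
  haveI : FaithfulSMul ↥Z F := ⟨fun {a b} h => Subtype.ext (RingEquiv.ext h)⟩
  haveI := Fintype.ofFinite ↥Z
  set F₀ := FixedPoints.subfield ↥Z F with hF₀
  haveI := Fintype.ofFinite ↥F₀
  have hcard0 : Fintype.card ↥F₀ = q₀ := by
    have h1 : Module.finrank ↥F₀ F = r := by
      rw [hF₀, FixedPoints.finrank_eq_card, Fintype.card_eq_nat_card, Nat.card_zpowers, hσ]
    have h2 := Module.card_eq_pow_finrank (K := ↥F₀) (V := F)
    rw [h1, hF] at h2
    exact (Nat.pow_left_injective hr.ne_zero h2).symm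
  have hmem : ∀ x : F, x ∈ F₀ ↔ σ x = x := by
    intro x
    constructor
    · intro h
      exact h ⟨σ, Subgroup.mem_zpowers σ⟩
    · intro h g
      have hle : Z ≤ MulAction.stabilizer (F ≃+* F) x := Subgroup.zpowers_le.2 h
      exact hle g.2
  set ι : ↥F₀ →+* F := F₀.subtype with hι
  let Ψ : Fˣ × GL (Fin n) ↥F₀ →* GL (Fin n) F :=
    MonoidHom.noncommCoprod (Matrix.GeneralLinearGroup.scalar (Fin n)) (Matrix.GeneralLinearGroup.map ι)
      (fun a h => Units.ext (Matrix.scalar_commute (a : F) (fun y => mul_comm _ y) _).eq)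
  have hΨ : ∀ a h, ((Ψ (a, h) : GL (Fin n) F) : Matrix (Fin n) (Fin n) F)
      = (a : F) • ((h : Matrix (Fin n) (Fin n) ↥F₀).map ι) := by
    intro a h
    change Matrix.scalar (Fin n) (a : F) * _ = _
    rw [Matrix.scalar_apply, ← Matrix.smul_one_eq_diagonal, Matrix.smul_mul, one_mul]
    rfl
  have hset : {g : GL (Fin n) F | ∃ c : F, c ≠ 0 ∧ (g : Matrix (Fin n) (Fin n) F).map σ
      = c • (g : Matrix (Fin n) (Fin n) F)} = (Ψ.range : Set (GL (Fin n) F)) := by
    ext g
    constructor
    · rintro ⟨c, hc, hg⟩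
      obtain ⟨i, j, hij⟩ : ∃ i j, (g : Matrix (Fin n) (Fin n) F) i j ≠ 0 := by
        by_contra h
        push Not at h
        exact g.ne_zero (Matrix.ext h)
      have hent : ∀ k l, σ ((g : Matrix (Fin n) (Fin n) F) k l) = c * (g : Matrix (Fin n) (Fin n) F) k l :=
        fun k l => congrFun (congrFun hg k) l
      have hfix : ∀ k l, (g : Matrix (Fin n) (Fin n) F) k l / (g : Matrix (Fin n) (Fin n) F) i j ∈ F₀ := by
        intro k l
        rw [hmem, map_div₀, hent, hent]
        field_simp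
      let M : Matrix (Fin n) (Fin n) ↥F₀ := Matrix.of fun k l => ⟨_, hfix k l⟩
      have hM : M.map ι = ((g : Matrix (Fin n) (Fin n) F) i j)⁻¹ • (g : Matrix (Fin n) (Fin n) F) := by
        ext k l
        simp [M, hι, div_eq_inv_mul, Subfield.coe_subtype]
      have hdet : M.det ≠ 0 := by
        intro h0
        have h1 := RingHom.map_det ι M
        rw [h0, map_zero, RingHom.mapMatrix_apply, hM, Matrix.det_smul] at h1
        exact mul_ne_zero (pow_ne_zero _ (inv_ne_zero hij)) ((Matrix.isUnit_iff_isUnit_det _).1 g.isUnit).ne_zero h1.symm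
      refine ⟨(Units.mk0 _ hij, Matrix.GeneralLinearGroup.mkOfDetNeZero M hdet), Units.ext ?_⟩
      rw [hΨ]
      change _ • M.map ι = _
      rw [hM, smul_smul, Units.val_mk0, mul_inv_cancel₀ hij, one_smul]
    · rintro ⟨⟨a, h⟩, rfl⟩
      refine ⟨σ (a : F) / a, div_ne_zero (by simp) a.ne_zero, ?_⟩
      rw [hΨ, smul_smul, div_mul_cancel₀ _ a.ne_zero]
      ext k l
      simp only [Matrix.map_apply, Matrix.smul_apply, smul_eq_mul, map_mul]
      have hy : ∀ y : ↥F₀, σ (ι y) = ι y := fun y => (hmem _).1 y.2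
      rw [hy]
  have hkerinv : ∀ x : Ψ.ker, ((x.1.1⁻¹ : Fˣ) : F) ∈ F₀ := by
    rintro ⟨⟨a, h⟩, hx⟩
    have h0 : ((Ψ (a, h) : GL (Fin n) F) : Matrix (Fin n) (Fin n) F) = ((1 : GL (Fin n) F) : Matrix (Fin n) (Fin n) F) :=
      congrArg Units.val (MonoidHom.mem_ker.1 hx)
    rw [hΨ] at h0
    have h1 := congrFun (congrFun h0 0) 0
    simp only [Units.val_one, Matrix.one_apply_eq, Matrix.smul_apply, smul_eq_mul, Matrix.map_apply] at h1
    have h2 : ι ((h : Matrix (Fin n) (Fin n) ↥F₀) 0 0) = ((a⁻¹ : Fˣ) : F) := by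
      rw [Units.val_inv_eq_inv_val]; exact eq_inv_of_mul_eq_one_right h1
    change ((a⁻¹ : Fˣ) : F) ∈ F₀
    rw [← h2]
    exact SetLike.coe_mem _
  let θ : Ψ.ker ≃ (↥F₀)ˣ :=
    { toFun := fun x => Units.mk0 ⟨_, hkerinv x⟩ (fun h => (x.1.1⁻¹).ne_zero (congrArg Subtype.val h))
      invFun := fun b => ⟨((Units.map ι.toMonoidHom b)⁻¹, Matrix.GeneralLinearGroup.scalar (Fin n) b), by
        rw [MonoidHom.mem_ker]
        apply Units.ext
        rw [hΨ]
        simp [Matrix.scalar_apply, ← Matrix.smul_one_eq_diagonal, Matrix.map_smul']⟩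
      left_inv := by
        rintro ⟨⟨a, h⟩, hx⟩
        have h1 := congrArg Units.val (MonoidHom.mem_ker.1 hx)
        rw [hΨ] at h1
        apply Subtype.ext
        refine Prod.ext (Units.ext (by simp [hι])) (Units.ext (Matrix.ext fun k l => Subtype.ext ?_))
        have h2 := congrFun (congrFun h1 k) l
        simp only [Units.val_one, Matrix.smul_apply, smul_eq_mul, Matrix.map_apply] at h2
        have ha := a.ne_zero
        simp only [Matrix.GeneralLinearGroup.coe_scalar, Matrix.scalar_apply, Matrix.diagonal_apply]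
        split_ifs with hkl
        · subst hkl
          rw [Matrix.one_apply_eq] at h2
          simpa [hι] using (eq_inv_of_mul_eq_one_right h2).symm
        · rw [Matrix.one_apply_ne hkl] at h2
          simpa [hι] using ((mul_eq_zero.1 h2).resolve_left ha).symm
      right_inv := fun b => by
        apply Units.ext; apply Subtype.ext; simp [hι] }
  have hk : Nat.card Ψ.ker = q₀ - 1 := by
    rw [Nat.card_congr θ, Nat.card_units, Nat.card_eq_fintype_card, hcard0]
  have hmul := Subgroup.card_mul_index Ψ.ker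
  rw [Subgroup.index_ker, hk, Nat.card_prod, Nat.card_units, Nat.card_eq_fintype_card (α := F), hF,
    Matrix.card_GL_field, hcard0] at hmul
  have hS := Nat.card_congr (Equiv.setCongr hset)
  refine hS.trans ?_
  have hq1 : 1 < q₀ := hcard0 ▸ Fintype.one_lt_card
  have hdvd : q₀ - 1 ∣ q₀ ^ r - 1 := by
    simpa using Nat.sub_dvd_pow_sub_pow q₀ 1 r
  apply Nat.eq_of_mul_eq_mul_left (by omega : 0 < q₀ - 1)
  rw [← mul_assoc, Nat.mul_div_cancel' hdvd]
  exact hmul

end Cfsg.Agent.S2636
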