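import Cfsg.Statements.S2641
import Cfsg.Agent.H45.UnitToOrth

set_option autoImplicit false
open Cfsg H45

namespace Cfsg.Agent.S2641

/-- For m odd, the unitary group GU_m(q) (over the field with q² elements) embeds in the orthogonal group O⁻_2m(q) of an elliptic form (Σ_(i<m−1) x_i y_i plus an anisotropic binary form) over the field with q elements (there is an injective homomorphism). -/
theorem result {K F : Type*} [Field K] [Fintype K] [Field F] [Fintype F] {q : ℕ} (hK : Fintype.card K = q ^ 2) (hF : Fintype.card F = q) (m : ℕ) (hm : Odd m) (a b : F) (hab : ∀ z₁ z₂ : F, z₁ ^ 2 + a * z₁ * z₂ + b * z₂ ^ 2 = 0 → z₁ = 0 ∧ z₂ = 0) : ∃ φ : ↥(Cfsg.GU m K q) →* ↥(Cfsg.isometryGroup F (Cfsg.quadFormMinus (m - 1) F a b)), Function.Injective φ := by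
  classical
  obtain ⟨i, hfix, hsurj⟩ := exists_fixed_embedding hK hF
  obtain ⟨ω, hω, hωa, hωb⟩ := exists_norm_root hK hF i hfix hsurj a b hab
  letI : Algebra F K := i.toAlgebra
  obtain ⟨k, rfl⟩ := hm
  rw [two_mul, Nat.add_sub_cancel]
  obtain ⟨R, hR⟩ := exists_normForm hK hfix hsurj (k + k + 1)
  obtain ⟨R', hR'⟩ := exists_normForm hK hfix hsurj (k + k)
  obtain ⟨φ, hφ⟩ := exists_plus_coords_even hK hfix hsurj hF k R' hR'
  -- coordinates from the hyperbolic part and from the last entry in the basis `1, ω`
  let M : ((Fin (k + k) ⊕ Fin (k + k)) ⊕ Fin 2 → F) →ₗ[F] (Fin (k + k + 1) → K) :=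
    { toFun := fun u => Fin.snoc (φ.symm (u ∘ Sum.inl)) (i (u (.inr 0)) + i (u (.inr 1)) * ω)
      map_add' := fun u v => by
        ext j
        induction j using Fin.lastCases with
        | last => simp; ring
        | cast j => simp [show (u + v) ∘ Sum.inl = u ∘ Sum.inl + v ∘ Sum.inl from rfl]
      map_smul' := fun c u => by
        ext j
        induction j using Fin.lastCases with
        | last => simp [Algebra.smul_def, RingHom.algebraMap_toAlgebra]; ring
        | cast j => simp [show (c • u) ∘ Sum.inl = c • (u ∘ Sum.inl) from rfl] }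
  have hMinj : Function.Injective M := by
    refine (injective_iff_map_eq_zero M).mpr fun u hu => ?_
    have hl : φ.symm (u ∘ Sum.inl) = 0 := by
      ext j
      simpa [M] using congrFun hu (Fin.castSucc j)
    rw [LinearEquiv.map_eq_zero_iff] at hl
    have h2 : i (u (.inr 0)) + i (u (.inr 1)) * ω = 0 := by
      simpa [M] using congrFun hu (Fin.last _)
    have h1 : u (.inr 1) = 0 := by
      by_contra h
      apply hω
      have hne : i (u (.inr 1)) ≠ 0 := (map_ne_zero i).mpr h
      have e : ω = i (-u (.inr 0) / u (.inr 1)) := by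
        rw [map_div₀, map_neg, eq_div_iff hne]
        linear_combination h2
      rw [e]; exact hfix _
    rw [h1, map_zero, zero_mul, add_zero, map_eq_zero] at h2
    ext (j | j)
    · exact congrFun hl j
    · fin_cases j <;> assumption
  let e := LinearEquiv.ofBijective M ⟨hMinj,
    (LinearMap.injective_iff_surjective_of_finrank_eq_finrank (by
      rw [finrank_pi_eq hK hfix hsurj hF, Module.finrank_fintype_fun_eq_card]
      simp; ring)).mp hMinj⟩
  have hval : ∀ u, R (M u) = quadFormMinus (k + k) F a b u := by
    intro u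
    apply i.injective
    have h1 : i (quadFormPlus (k + k) F (u ∘ Sum.inl)) =
        hermForm (k + k) K q (φ.symm (u ∘ Sum.inl)) (φ.symm (u ∘ Sum.inl)) := by
      rw [← hR' (φ.symm _), ← hφ, LinearEquiv.apply_symm_apply]
      rfl
    simp only [quadFormPlus, Function.comp_apply, hermForm] at h1
    refine (hR (M u)).trans ?_
    simp only [hermForm, quadFormMinus, M, LinearMap.coe_mk, AddHom.coe_mk,
      Fin.sum_univ_castSucc, Fin.snoc_castSucc, Fin.snoc_last]
    rw [map_add, h1]
    simp only [map_add, map_mul, map_pow, ← hωa, ← hωb, H50.add_pow_q hK, mul_pow, hfix]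
    ring
  refine exists_gu_hom hK hfix hsurj _ _ R hR e.symm fun w => ?_
  conv_rhs => rw [← e.apply_symm_apply w]
  exact (hval _).symm

end Cfsg.Agent.S2641
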