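import Cfsg.Statements.S2644
import Cfsg.Agent.H51.Witt
-- import your own Cfsg.Agent.* helpers here

set_option autoImplicit false
open Cfsg

namespace Cfsg.Agent.S2644

open Matrix in
/-- A unitary transvection is `1 + c v v*` with `v` isotropic. -/
lemma transvection_form {K : Type*} [Field K] [Fintype K] {q n : ℕ} (hK : Fintype.card K = q ^ 2)
    {t : Matrix (Fin n) (Fin n) K} (ht : Cfsg.IsTransvection t) (hu : H51.adj hK t * t = 1) :
    ∃ (v : Fin n → K) (c : K), v ≠ 0 ∧ c ≠ 0 ∧ c ^ q = -c ∧ Cfsg.hermForm n K q v v = 0 ∧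
      t = 1 + c • (Matrix.replicateCol Unit v * H51.adj hK (Matrix.replicateCol Unit v)) := by
  classical
  obtain ⟨N, rfl⟩ : ∃ N, t = 1 + N := ⟨t - 1, by simp⟩
  obtain ⟨hr, hN2⟩ := ht
  rw [add_sub_cancel_left] at hr hN2
  have hadj : H51.adj hK N = -N := by
    have hinv : (1 - N) * (1 + N) = 1 := by noncomm_ring; simp [hN2]
    have := left_inv_eq_right_inv hu (mul_eq_one_comm.mp hinv)
    rw [H51.adj_add, H51.adj_one, sub_eq_add_neg] at this
    exact add_left_cancel this
  have hN0 : N ≠ 0 := fun h => by simp [h] at hr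
  obtain ⟨i0, j0, hij⟩ : ∃ i j, N i j ≠ 0 := by
    by_contra h; push_neg at h; exact hN0 (Matrix.ext h)
  set a : Fin n → K := fun i => N i j0 with ha
  have ha0 : a ≠ 0 := fun h => hij (congrFun h i0)
  have hcol : ∀ j, ∃ b : K, ∀ i, N i j = b * a i := by
    intro j
    have hspan := finrank_eq_one_iff_of_nonzero' (K := K) (⟨a, ⟨Pi.single j0 1, by funext i; simp [ha]⟩⟩ :
        LinearMap.range N.mulVecLin) (fun h => ha0 (congrArg Subtype.val h))
    obtain ⟨b, hb⟩ := hspan.mp hr ⟨fun i => N i j, ⟨Pi.single j 1, by funext i; simp⟩⟩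
    exact ⟨b, fun i => (congrFun (congrArg Subtype.val hb) i).symm⟩
  choose b hb using hcol
  set c : K := -(b i0 ^ q / a i0) with hc
  have hbj : ∀ j, b j = c * a j ^ q := by
    intro j
    have h1 := congrFun (congrFun hadj i0) j
    rw [H51.adj_apply, Matrix.neg_apply, hb i0 j, hb j i0, mul_pow] at h1
    have hai : a i0 ≠ 0 := hij
    rw [hc]
    field_simp
    linear_combination h1
  have hform : N = c • (Matrix.replicateCol Unit a * H51.adj hK (Matrix.replicateCol Unit a)) := by
    ext i j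
    rw [hb j i, hbj]
    simp [Matrix.mul_apply]
    ring
  have hc0 : c ≠ 0 := fun h => hN0 (by rw [hform, h, zero_smul])
  set P := Matrix.replicateCol Unit a * H51.adj hK (Matrix.replicateCol Unit a) with hP
  have hP0 : P ≠ 0 := fun h => hN0 (by rw [hform, h, smul_zero])
  refine ⟨a, c, ha0, hc0, ?_, ?_, by rw [hform]⟩
  · have h1 := hadj
    rw [hform, H51.adj_smul, hP, H51.adj_mul, H51.adj_adj, ← neg_smul] at h1
    exact smul_left_injective K (hP ▸ hP0) h1
  · have hPP : P * P = Cfsg.hermForm n K q a a • P := by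
      rw [hP]
      calc _ = Matrix.replicateCol Unit a *
            (H51.adj hK (Matrix.replicateCol Unit a) * Matrix.replicateCol Unit a) *
            H51.adj hK (Matrix.replicateCol Unit a) := by simp only [Matrix.mul_assoc]
        _ = _ := by
          rw [H51.adj_replicateCol_mul hK, Matrix.mul_smul, Matrix.mul_one, Matrix.smul_mul]
    have h2 := hN2
    rw [hform, smul_mul_smul_comm, hPP, smul_smul] at h2
    simpa [hc0] using (smul_eq_zero.mp h2).resolve_right hP0

/-- In the special unitary group SU_n(q) with n ≥ 3 (isometries of Σ u_i v_i^q of determinant one over the field with q² elements), any two transvections (elements t with t − 1 of rank one and square zero) are conjugate. -/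
theorem result {K : Type*} [Field K] [Fintype K] {q n : ℕ} (hK : Fintype.card K = q ^ 2) (hn : 3 ≤ n) (s t : ↥(Cfsg.SU n K q)) (hs : Cfsg.IsTransvection (((s : GL (Fin n) K) : Matrix (Fin n) (Fin n) K))) (ht : Cfsg.IsTransvection (((t : GL (Fin n) K) : Matrix (Fin n) (Fin n) K))) : IsConj s t := by
  obtain ⟨v, c, hv0, hc0, hcq, hvv, hvN⟩ := transvection_form hK hs (H51.adj_mul_self_SU hK s)
  obtain ⟨w, d, hw0, hd0, hdq, hww, hwN⟩ := transvection_form hK ht (H51.adj_mul_self_SU hK t)
  obtain ⟨μ, hμ⟩ := H51.exists_norm_eq hK (x := c / d) (by rw [div_pow, hcq, hdq, neg_div_neg_eq])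
  have hμ0 : μ ≠ 0 := by
    rintro rfl
    rw [mul_zero] at hμ
    exact div_ne_zero hc0 hd0 hμ.symm
  obtain ⟨g, hg⟩ := H51.su_isotropic_trans hK hn (v := μ • v) (w := w) (smul_ne_zero hμ0 hv0) hw0
    (by
      have : Cfsg.hermForm n K q (μ • v) (μ • v) = μ * μ ^ q * Cfsg.hermForm n K q v v := by
        simp only [Cfsg.hermForm, Pi.smul_apply, smul_eq_mul, mul_pow, Finset.mul_sum]
        exact Finset.sum_congr rfl fun i _ => by ring
      rw [this, hvv, mul_zero]) hww
  refine isConj_iff.mpr ⟨g, ?_⟩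
  rw [mul_inv_eq_iff_eq_mul]
  apply Subtype.ext
  apply Subtype.ext
  show ((g : GL (Fin n) K) : Matrix (Fin n) (Fin n) K) * ((s : GL (Fin n) K) : Matrix (Fin n) (Fin n) K)
    = ((t : GL (Fin n) K) : Matrix (Fin n) (Fin n) K) * ((g : GL (Fin n) K) : Matrix (Fin n) (Fin n) K)
  set G := ((g : GL (Fin n) K) : Matrix (Fin n) (Fin n) K) with hG
  rw [hvN, hwN, mul_add, add_mul, mul_one, one_mul]
  congr 1
  have hgg := H51.adj_mul_self_SU hK g
  have e1 : G * Matrix.replicateCol Unit v = μ⁻¹ • Matrix.replicateCol Unit w := by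
    ext i j
    have : (Matrix.mulVec G (μ • v)) i = w i := congrFun hg i
    rw [Matrix.mulVec_smul, Pi.smul_apply, smul_eq_mul] at this
    rw [Matrix.smul_apply, Matrix.replicateCol_apply, smul_eq_mul, ← this, ← mul_assoc, inv_mul_cancel₀ hμ0,
      one_mul]
    simp [Matrix.mul_apply, Matrix.mulVec, dotProduct]
  have e2 : H51.adj hK (Matrix.replicateCol Unit v) = μ⁻¹ ^ q • (H51.adj hK (Matrix.replicateCol Unit w) * G) := by
    calc H51.adj hK (Matrix.replicateCol Unit v)
        = H51.adj hK (G * Matrix.replicateCol Unit v) * G := by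
          rw [H51.adj_mul, Matrix.mul_assoc, hgg, Matrix.mul_one]
      _ = _ := by rw [e1, H51.adj_smul, Matrix.smul_mul]
  rw [Matrix.mul_smul, ← Matrix.mul_assoc, e1, e2]
  simp only [Matrix.smul_mul, Matrix.mul_smul, smul_smul, ← Matrix.mul_assoc]
  congr 1
  calc c * (μ⁻¹ ^ q * μ⁻¹) = c * (μ ^ q * μ)⁻¹ := by rw [mul_inv, inv_pow]
    _ = d := by rw [hμ]; field_simp

end Cfsg.Agent.S2644
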