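import Cfsg.Statements.S2648
import Cfsg.Agent.H61.SpWreathTwo
import Cfsg.Agent.H35.DerivedLinear

set_option autoImplicit false
open Cfsg

namespace Cfsg.Agent.S2648

/-- Let q be odd, F a field with q elements and n ≥ 1. A Sylow 2-subgroup R of the symplectic group Sp_{2n}(F) has derived length exactly k + 1, where 2^k ≤ 2n < 2^{k+1}: the (k+1)-st term of its derived series is trivial and the k-th is not. -/
theorem result {F : Type*} [Field F] [Fintype F] [DecidableEq F] (q : ℕ) (hF : Fintype.card F = q) (hq : Odd q) (n : ℕ) (hn : 1 ≤ n) (R : Sylow 2 ↥(Matrix.symplecticGroup (Fin n) F)) : derivedSeries ↥(R : Subgroup ↥(Matrix.symplecticGroup (Fin n) F)) (Nat.log 2 (2 * n) + 1) = ⊥ ∧ derivedSeries ↥(R : Subgroup ↥(Matrix.symplecticGroup (Fin n) F)) (Nat.log 2 (2 * n)) ≠ ⊥ := by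
  classical
  haveI : Fact (Nat.Prime 2) := ⟨Nat.prime_two⟩
  haveI : Finite (Matrix.symplecticGroup (Fin n) F) := Finite.of_injective _ Subtype.val_injective
  have h2 : (2 : F) ≠ 0 := by
    refine Ring.two_ne_zero fun h => ?_
    have := FiniteField.even_card_iff_char_two.1 h
    have := Nat.odd_iff.1 hq
    omega
  have hlog : Nat.log 2 (2 * n) = Nat.log 2 n + 1 := by
    rw [mul_comm, Nat.log_mul_base one_lt_two (by omega)]
  refine ⟨?_, ?_⟩
  · let e : Fin n ⊕ Fin n ≃ Fin (2 * n) := finSumFinEquiv.trans (finCongr (by omega))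
    let ρ₀ : Matrix.symplecticGroup (Fin n) F →* Matrix (Fin (2 * n)) (Fin (2 * n)) F :=
      ((Matrix.reindexAlgEquiv F F e).toMonoidHom).comp (Matrix.symplecticGroup (Fin n) F).subtype
    have hρ₀ : Function.Injective ρ₀ := fun a b h =>
      Subtype.ext ((Matrix.reindexAlgEquiv F F e).injective h)
    refine H35.derivedSeries_eq_bot_of_matrix R.isPGroup'
      (ρ₀.toHomUnits.comp (Subgroup.subtype (R : Subgroup (Matrix.symplecticGroup (Fin n) F)))) (fun a b h => ?_)
    exact Subtype.ext (hρ₀ (congrArg Units.val h))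
  · obtain ⟨W, _, _, X, _, -, hX, hW, ⟨ψ, hψ⟩, hne⟩ :=
      H61.SpWreath.exists_mon_group (F := F) h2 (Nat.log 2 n)
    haveI := Fintype.ofFinite X
    obtain ⟨ι⟩ : Nonempty (X ↪ Fin n) := Function.Embedding.nonempty_of_card_le (by
      rw [← Nat.card_eq_fintype_card, hX, Fintype.card_fin]
      exact Nat.pow_log_le_self 2 (by omega))
    obtain ⟨Φ, hΦ⟩ := H61.SpWreath.exists_sp_embedding (F := F) ι
    let g := Φ.comp ψ
    have hg : Function.Injective g := hΦ.comp hψ
    obtain ⟨P, hP⟩ := (hW.of_surjective g.rangeRestrict g.rangeRestrict_surjective : IsPGroup 2 g.range).exists_le_sylow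
    let h : W →* ↥(R : Subgroup (Matrix.symplecticGroup (Fin n) F)) :=
      (P.equiv R).toMonoidHom.comp (g.codRestrict (P : Subgroup _) fun w => hP ⟨w, rfl⟩)
    have hh : Function.Injective h :=
      (P.equiv R).injective.comp fun a b hab => hg (congrArg Subtype.val hab)
    rw [hlog]
    intro hbot
    apply hne
    have h1 := map_derivedSeries_le_derivedSeries h (Nat.log 2 n + 1)
    rw [hbot, le_bot_iff, Subgroup.map_eq_bot_iff_of_injective _ hh] at h1
    exact h1

end Cfsg.Agent.S2648
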