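import Cfsg.Statements.S2652
import Cfsg.Agent.H92.FiT.Checks

set_option autoImplicit false
open Cfsg

namespace Cfsg.Agent.S2652

open H92.FiT H93 in
/-- Let T be a Sylow 2-subgroup of the Fischer group Fi₂₃ (the finitely presented group `Spor.Fi23`; T has order 2¹⁸). Then every elementary abelian subgroup of Fi₂₃ contained in T and normal in T has order at most 2¹¹, and there is exactly one such subgroup of order 2¹¹. -/
theorem result
    (T : Sylow 2 Cfsg.Spor.Fi23) :
    (∀ A : Subgroup Cfsg.Spor.Fi23, A ≤ T → (A.subgroupOf T).Normal → Cfsg.IsElementaryAbelian 2 A →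
        Nat.card A ≤ 2 ^ 11) ∧
    ∃! A : Subgroup Cfsg.Spor.Fi23, A ≤ T ∧ (A.subgroupOf T).Normal ∧ Cfsg.IsElementaryAbelian 2 A ∧
        Nat.card A = 2 ^ 11 := by
  haveI := Fi23Cover.finite
  haveI : Fact (Nat.Prime 2) := ⟨Nat.prime_two⟩
  obtain ⟨K, hK, hjK, htK⟩ := form_subgroup forms.basis _ _ forms.acts forms.closed
  have hKcard : Nat.card K = 2 ^ 18 := by
    rw [forms.card hK, jw_len, tw_len, ← pow_add]
  obtain ⟨P, hP⟩ := (IsPGroup.of_card hKcard).exists_le_sylow
  have hPK : (P : Subgroup Cfsg.Spor.Fi23) = K := by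
    obtain ⟨k, hk⟩ := P.isPGroup'.exists_card_eq
    refine (Subgroup.eq_of_le_of_card_ge hP ?_).symm
    have hdvd : 2 ^ k ∣ 4089470473293004800 := by
      rw [← hk, ← Fi23Cover.card_G]
      exact Subgroup.card_subgroup_dvd_card _
    have hk18 : k ≤ 18 := by
      by_contra hlt
      have := (pow_dvd_pow 2 (show 19 ≤ k by omega)).trans hdvd
      norm_num at this
    rw [hk, hKcard]
    exact Nat.pow_le_pow_right (by norm_num) hk18
  obtain ⟨g, hg⟩ := MulAction.exists_smul_eq Cfsg.Spor.Fi23 P T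
  let φ : Cfsg.Spor.Fi23 ≃* Cfsg.Spor.Fi23 := MulAut.conj g
  have hT : (T : Subgroup Cfsg.Spor.Fi23) = K.map φ.toMonoidHom := by
    rw [← hg, ← hPK]
    rfl
  have hJK : span basis ≤ K := by
    rintro x ⟨v, -, rfl⟩
    exact bitsProd_mem _ hjK v
  have hcardT : ∀ A : Subgroup Cfsg.Spor.Fi23,
      Nat.card (A.map φ.toMonoidHom) = Nat.card A := fun A =>
    (Nat.card_congr (Subgroup.equivMapOfInjective A φ.toMonoidHom φ.injective).toEquiv).symm
  have main : ∀ A : Subgroup Cfsg.Spor.Fi23, A ≤ T → (A.subgroupOf T).Normal →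
      Cfsg.IsElementaryAbelian 2 A →
      A ≤ (span basis).map φ.toMonoidHom ∨ Nat.card A < 2 ^ 11 := by
    intro A hAT hn hel
    let A' := A.comap φ.toMonoidHom
    have hmap : A'.map φ.toMonoidHom = A := Subgroup.map_comap_eq_self_of_surjective φ.surjective A
    have hA'K : A' ≤ K := by
      intro a ha
      have h1 : φ a ∈ K.map φ.toMonoidHom := hT ▸ hAT ha
      obtain ⟨b, hb, hab⟩ := Subgroup.mem_map.1 h1
      exact φ.injective hab ▸ hb
    have h := bound (A := A') (fun a ha => (hK a).1 (hA'K ha)) ?_ ?_ ?_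
    · rcases h with h | h
      · exact Or.inl (hmap ▸ Subgroup.map_mono h)
      · exact Or.inr (by rw [← hmap, hcardT]; exact h)
    · intro t ht a ha
      have htT : φ t ∈ (T : Subgroup Cfsg.Spor.Fi23) :=
        hT ▸ Subgroup.mem_map_of_mem φ.toMonoidHom (htK t ht)
      have := hn.conj_mem ⟨φ a, hAT ha⟩ ha ⟨φ t, htT⟩
      show φ (t * a * t⁻¹) ∈ A
      rw [map_mul, map_mul, map_inv]
      exact this
    · intro a ha
      apply φ.injective
      rw [map_mul, map_one, ← pow_two]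
      exact hel.2 _ ha
    · intro a ha b hb
      apply φ.injective
      rw [map_mul, map_mul]
      exact congrArg Subtype.val (hel.1.is_comm.comm ⟨φ a, ha⟩ ⟨φ b, hb⟩)
  have hJcard : Nat.card ((span basis).map φ.toMonoidHom) = 2 ^ 11 := by
    rw [hcardT, span_card, jw_len]
  refine ⟨fun A h1 h2 h3 => ?_, (span basis).map φ.toMonoidHom, ⟨?_, ?_, ?_, hJcard⟩, ?_⟩
  · rcases main A h1 h2 h3 with h | h
    · exact hJcard ▸ Subgroup.card_le_of_le h
    · exact h.le
  · exact hT ▸ Subgroup.map_mono hJK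
  · refine ⟨fun n hn t => ?_⟩
    obtain ⟨j, ⟨v, hv, rfl⟩, hj⟩ := Subgroup.mem_map.1 hn
    have ht : (t : Cfsg.Spor.Fi23) ∈ K.map φ.toMonoidHom := by
      rw [← hT]; exact t.2
    obtain ⟨x, hx, hxt⟩ := Subgroup.mem_map.1 ht
    refine Subgroup.mem_map.2 ⟨x * bitsProd (jw.map fev) v * x⁻¹, ?_, ?_⟩
    · obtain ⟨w, hw, e, he, rfl⟩ := (hK x).1 hx
      have hact := (acts_bits forms.basis w).mul forms.basis
        (acts_form forms.basis _ ms forms.acts e)
      rw [hact.apply forms.basis]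
      exact ⟨_, app_lt _ hact.2.1 v, rfl⟩
    · rw [map_mul, map_mul, map_inv, hj, hxt]
      rfl
  · obtain ⟨hc, hs⟩ := span_elementary basis
    refine ⟨⟨⟨fun a b => ?_⟩⟩, ?_⟩
    · obtain ⟨x, hx, hxa⟩ := Subgroup.mem_map.1 a.2
      obtain ⟨y, hy, hyb⟩ := Subgroup.mem_map.1 b.2
      apply Subtype.ext
      show (a : Cfsg.Spor.Fi23) * b = b * a
      rw [← hxa, ← hyb, ← map_mul, ← map_mul]
      exact congrArg φ.toMonoidHom (congrArg Subtype.val (hc.is_comm.comm ⟨x, hx⟩ ⟨y, hy⟩))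
    · intro a ha
      obtain ⟨x, hx, rfl⟩ := Subgroup.mem_map.1 ha
      rw [← map_pow, hs x hx, map_one]
  · rintro A ⟨h1, h2, h3, h4⟩
    refine Subgroup.eq_of_le_of_card_ge ((main A h1 h2 h3).resolve_right (by omega)) ?_
    rw [hJcard, h4]

end Cfsg.Agent.S2652
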