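import Cfsg.Statements.S2653
import Cfsg.Agent.H82.Alt.Reduce

set_option autoImplicit false
open scoped MatrixGroups
open Cfsg

namespace Cfsg.Agent.S2653

/-- Alternating sections of finite linear groups. Let `F` be a finite field of characteristic `p` and `n` a natural number, and suppose some subgroup `H` of GL_n(F) has a normal subgroup `K` with `H ⧸ K` isomorphic to the alternating group of degree `r ≥ 9`. Then `n ≥ r - 2` when `p` divides `r`, and `n ≥ r - 1` otherwise (the smallest degree of a nontrivial projective representation of that alternating group in characteristic `p`). The same bound follows for every classical group with natural module of dimension `n` over `F`, since each is a section of a subgroup of GL_n(F). -/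
theorem result {F : Type*} [Field F] [Fintype F] (p : ℕ) [Fact p.Prime] [CharP F p]
    (n : ℕ) (r : ℕ) (H : Subgroup (GL (Fin n) F)) (K : Subgroup ↥H) [K.Normal]
    (h : Nonempty (↥H ⧸ K ≃* ↥(alternatingGroup (Fin r)))) (hr : 9 ≤ r) :
    r - 1 - (if p ∣ r then 1 else 0) ≤ n := by
  obtain ⟨e⟩ := h
  let k := AlgebraicClosure F
  haveI : CharP k p := charP_of_injective_algebraMap (algebraMap F k).injective p
  let toK : Matrix (Fin n) (Fin n) F →* Module.End k (Fin n → k) :=
    ((Matrix.toLinAlgEquiv' (R := k) (n := Fin n)).toRingHom.comp
      (algebraMap F k).mapMatrix).toMonoidHom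
  have hinj : Function.Injective toK := fun x y hxy =>
    Matrix.map_injective (algebraMap F k).injective
      ((Matrix.toLinAlgEquiv' (R := k) (n := Fin n)).injective hxy)
  let ρ : ↥H →* Module.End k (Fin n → k) := toK.comp ((Units.coeHom _).comp H.subtype)
  have hρ : Function.Injective ρ := fun a b hab => Subtype.ext (Units.ext (hinj hab))
  let φ : ↥H →* Equiv.Perm (Fin r) :=
    (alternatingGroup (Fin r)).subtype.comp (e.toMonoidHom.comp (QuotientGroup.mk' K))
  have hφ : φ.range = alternatingGroup (Fin r) := by
    rw [MonoidHom.range_comp, MonoidHom.range_eq_top.2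
      (e.surjective.comp (QuotientGroup.mk'_surjective K)), ← MonoidHom.range_eq_map,
      Subgroup.range_subtype]
  obtain ⟨h1, h2⟩ := H82.Alt.bd_all p r hr n (Fin n → k) (Module.finrank_fin_fun (R := k)) ↥H ρ φ hφ hρ
  split_ifs with hp
  · omega
  · have h3 : n ≠ r - 2 := fun hn => hp ((CharP.cast_eq_zero_iff k p r).1 (h2 hn))
    omega

end Cfsg.Agent.S2653
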