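import Cfsg.Statements.S2658
import Cfsg.Agent.H74.G2Sections

set_option autoImplicit false
open scoped MatrixGroups
open Cfsg

namespace Cfsg.Agent.S2658

/-- Alternating sections of the groups of type G₂. Let `F` be a finite field of characteristic `p` and let `G` be the Chevalley group of type G₂ over `F`. If some subgroup of `G` has a quotient isomorphic to the alternating group of degree `r`, then `r` is at most 6, or 7 in characteristic 5. (Only an upper bound is asserted.) -/
theorem result {F : Type*} [Field F] [Fintype F] (p : ℕ) [Fact p.Prime] [CharP F p]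
    (r : ℕ) (H : Subgroup ↥(Cfsg.Lie.chevG2.group F)) (K : Subgroup ↥H) [K.Normal]
    (h : Nonempty (↥H ⧸ K ≃* ↥(alternatingGroup (Fin r)))) :
    r ≤ 6 + (if p = 5 then 1 else 0) := by
  classical
  obtain ⟨e⟩ := h
  let φ : ↥H →* ↥(alternatingGroup (Fin r)) := e.toMonoidHom.comp (QuotientGroup.mk' K)
  have hφ : Function.Surjective φ := e.surjective.comp (QuotientGroup.mk'_surjective K)
  by_cases hq : 3 ≤ Fintype.card F
  · obtain ⟨j⟩ := H56G2.nonempty_equiv_group (F := F) hq
    exact H74.G2S.sections p r φ hφ (j.toMonoidHom.comp H.subtype) (j.injective.comp H.subtype_injective)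
  · have h2 : Fintype.card F = 2 := by
      have := Fintype.one_lt_card (α := F)
      omega
    by_contra hr
    have hr7 : 7 ≤ r := by
      split_ifs at hr <;> omega
    haveI : Fact (Nat.Prime 5) := ⟨by norm_num⟩
    obtain ⟨x, -, hx, hx1, -⟩ := H74.G2S.alt_five hr7
    have h5 : 5 ∣ Nat.card ↥H := by
      rw [← orderOf_eq_prime hx hx1]
      exact orderOf_dvd_natCard x |>.trans (Subgroup.card_dvd_of_surjective φ hφ)
    have hd := h5.trans (Subgroup.card_subgroup_dvd_card H)
    rw [H55.G2.card_chev, h2] at hd
    norm_num at hd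

end Cfsg.Agent.S2658
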