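import Cfsg.Statements.S2667
import Cfsg.Agent.H64.Shintani

set_option autoImplicit false
open Cfsg

namespace Cfsg.Agent.S2667

/-- Shintani descent, in an abstract form. Let `σ` be an automorphism of a group `X` and `e ≥ 1` (no surjectivity of the Lang maps is needed for this part; in the classical setting `X` is a connected algebraic group and `σ` a Steinberg endomorphism). Write `G` for the subgroup of fixed points of `σᵉ` and `H` for the subgroup of fixed points of `σ`. The `G`-conjugacy classes in the coset `G σ` of the semidirect product of `G` by `σ` correspond to the orbits of `G` on itself under twisted conjugation `g ↦ k g σ(k)⁻¹`, and the `e`-th power of `g σ` has `G`-part the norm `g σ(g) ⋯ σ^(e-1)(g)`. For `g` in `G` and any `a` with `g = a σ(a)⁻¹`, put `x = σᵉ(a)⁻¹ a`. Then conjugation by `a⁻¹` carries the twisted centralizer `{k ∈ G : k g σ(k)⁻¹ = g}` (the centralizer of `g σ` in `G`) exactly onto the centralizer of `x` in `H`: an element `k` of `X` lies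 in `G` and satisfies `k g σ(k)⁻¹ = g` if and only if `a⁻¹ k a` lies in `H` and commutes with `x`. In particular the two centralizers are conjugate in `X` and have the same order. -/
theorem result {X : Type*} [Group X] (σ : MulAut X) (e : ℕ) (he : 1 ≤ e)
    (g : X) (hg : g ∈ (MulEquiv.toMonoidHom (σ ^ e)).eqLocus (MonoidHom.id X)) (a : X) (ha : g = a * (σ a)⁻¹) (k : X) :
    (k ∈ (MulEquiv.toMonoidHom (σ ^ e)).eqLocus (MonoidHom.id X) ∧ k * g * (σ k)⁻¹ = g) ↔
      (a⁻¹ * k * a ∈ (MulEquiv.toMonoidHom σ).eqLocus (MonoidHom.id X) ∧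
        (a⁻¹ * k * a) * (((σ ^ e) a)⁻¹ * a) = (((σ ^ e) a)⁻¹ * a) * (a⁻¹ * k * a)) := by
  simp only [H64.mem_eqLocus_id_iff] at hg ⊢
  have hxf := H64.shintani_x_fixed σ e hg ha
  constructor
  · rintro ⟨hk, hkg⟩
    have hfix : σ (a⁻¹ * k * a) = a⁻¹ * k * a := by
      have h1 : (σ k)⁻¹ = (k * g)⁻¹ * g := eq_inv_mul_of_mul_eq hkg
      have h3 : σ k = ((σ k)⁻¹)⁻¹ := (inv_inv _).symm
      rw [map_mul, map_mul, map_inv, h3, h1, ha]; group
    refine ⟨hfix, ?_⟩
    have h4 := H64.mulAut_pow_fix σ hfix e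
    rw [map_mul, map_mul, map_inv, hk] at h4
    calc a⁻¹ * k * a * (((σ ^ e) a)⁻¹ * a)
        = (((σ ^ e) a)⁻¹ * k * (σ ^ e) a) * (((σ ^ e) a)⁻¹ * a) := by rw [h4]
      _ = _ := by group
  · rintro ⟨hfix, hcomm⟩
    set h := a⁻¹ * k * a with hh
    have hk : k = a * h * a⁻¹ := by rw [hh]; group
    refine ⟨?_, ?_⟩
    · have h2 : (σ ^ e) a = a * (((σ ^ e) a)⁻¹ * a)⁻¹ := by group
      rw [hk, map_mul, map_mul, map_inv, H64.mulAut_pow_fix σ hfix e, h2]
      generalize ((σ ^ e) a)⁻¹ * a = x at hcomm ⊢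
      calc a * x⁻¹ * h * (a * x⁻¹)⁻¹ = a * x⁻¹ * (h * x) * a⁻¹ := by group
        _ = _ := by rw [hcomm]; group
    · rw [hk, ha, map_mul, map_mul, map_inv, hfix]; group

end Cfsg.Agent.S2667
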