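import Cfsg.Statements.S2669
import Cfsg.Agent.H64.Shintani

set_option autoImplicit false
open Cfsg

namespace Cfsg.Agent.S2669

/-- Shintani descent preserves numbers of fixed points on coset spaces (abstract form). Let `σ` be an automorphism of a group `X` and `e ≥ 1`; write `G` for the fixed points of `σᵉ` and `H` for the fixed points of `σ`, and assume `G` is finite. Let `Y` be a `σ`-stable subgroup of `X` on which the maps `a ↦ a σ(a)⁻¹` and `a ↦ a σᵉ(a)⁻¹` are surjective (as for a closed connected `σ`-stable subgroup of an algebraic group). Let `g ∈ G`, let `a ∈ X` satisfy `g = a σ(a)⁻¹` and put `x = σᵉ(a)⁻¹ a` (the Shintani image, an element of `H`). The element `g σ` of the semidirect product acts on the cosets of `Y ∩ G` in `G` by `k (Y ∩ G) ↦ g σ(k) (Y ∩ G)`, fixing that coset exactly when `k⁻¹ g σ(k) ∈ Y`; and `x` fixes the coset `h (Y ∩ H)` of `H` exactly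 when `h⁻¹ x h ∈ Y`. Then the two numbers of fixed cosets agree; in cross-multiplied form, `#{k ∈ G : k⁻¹ g σ(k) ∈ Y} · |Y ∩ H| = #{h ∈ H : h⁻¹ x h ∈ Y} · |Y ∩ G|`. -/
theorem result {X : Type*} [Group X] (σ : MulAut X) (e : ℕ) (he : 1 ≤ e)
    [Finite ↥((MulEquiv.toMonoidHom (σ ^ e)).eqLocus (MonoidHom.id X))]
    (Y : Subgroup X) (hY : ∀ y : X, y ∈ Y ↔ σ y ∈ Y)
    (hYL : ∀ y ∈ Y, ∃ a ∈ Y, y = a * (σ a)⁻¹) (hYLe : ∀ y ∈ Y, ∃ a ∈ Y, y = a * ((σ ^ e) a)⁻¹)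
    (g : X) (hg : g ∈ (MulEquiv.toMonoidHom (σ ^ e)).eqLocus (MonoidHom.id X)) (a : X) (ha : g = a * (σ a)⁻¹) :
    Nat.card {k : ↥((MulEquiv.toMonoidHom (σ ^ e)).eqLocus (MonoidHom.id X)) // (k : X)⁻¹ * g * σ k ∈ Y} *
        Nat.card ↥(Y ⊓ (MulEquiv.toMonoidHom σ).eqLocus (MonoidHom.id X)) =
      Nat.card {h : ↥((MulEquiv.toMonoidHom σ).eqLocus (MonoidHom.id X)) // (h : X)⁻¹ * (((σ ^ e) a)⁻¹ * a) * h ∈ Y} *
        Nat.card ↥(Y ⊓ (MulEquiv.toMonoidHom (σ ^ e)).eqLocus (MonoidHom.id X)) := by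
  classical
  set G := (MulEquiv.toMonoidHom (σ ^ e)).eqLocus (MonoidHom.id X) with hG
  set H := (MulEquiv.toMonoidHom σ).eqLocus (MonoidHom.id X) with hH
  set x := ((σ ^ e) a)⁻¹ * a with hx
  replace hg : (σ ^ e) g = g := hg
  let P := {p : ↥G × ↥H // (p.1 : X)⁻¹ * a * (p.2 : X) ∈ Y}
  have hseY : ∀ (n : ℕ), ∀ y ∈ Y, (σ ^ n) y ∈ Y := by
    intro n
    induction n with
    | zero => simp
    | succ n ih => intro y hy; rw [H64.mulAut_pow_succ_apply]; exact (hY _).1 (ih y hy)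
  have hl : ∀ p : P, (p.1.1 : X)⁻¹ * g * σ (p.1.1 : X) ∈ Y := by
    rintro ⟨⟨k, h⟩, hc⟩
    have hh : σ (h : X) = (h : X) := h.2
    set c := (k : X)⁻¹ * a * (h : X) with hcdef
    have : (k : X)⁻¹ * g * σ (k : X) = c * (σ c)⁻¹ := by
      rw [hcdef, map_mul, map_mul, map_inv, hh, ha]; group
    show (k : X)⁻¹ * g * σ (k : X) ∈ Y
    rw [this]; exact Y.mul_mem hc (Y.inv_mem ((hY _).1 hc))
  have hr : ∀ p : P, (p.1.2 : X)⁻¹ * x * (p.1.2 : X) ∈ Y := by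
    rintro ⟨⟨k, h⟩, hc⟩
    have hh : (σ ^ e) (h : X) = (h : X) := H64.mulAut_pow_fix σ h.2 e
    have hk : (σ ^ e) (k : X) = (k : X) := k.2
    set c := (k : X)⁻¹ * a * (h : X) with hcdef
    have : (h : X)⁻¹ * x * (h : X) = ((σ ^ e) c)⁻¹ * c := by
      rw [hcdef, map_mul, map_mul, map_inv, hh, hk, hx]; group
    show (h : X)⁻¹ * x * (h : X) ∈ Y
    rw [this]; exact Y.mul_mem (Y.inv_mem (hseY e _ hc)) hc
  have exl : ∀ k : {k : ↥G // (k : X)⁻¹ * g * σ k ∈ Y}, ∃ h : ↥H, (k.1 : X)⁻¹ * a * (h : X) ∈ Y := by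
    rintro ⟨k, hk⟩
    obtain ⟨c, hc, hce⟩ := hYL _ hk
    have hfix : σ (a⁻¹ * (k : X) * c) = a⁻¹ * (k : X) * c := by
      have h1 : (σ c)⁻¹ = c⁻¹ * ((k : X)⁻¹ * g * σ k) := by rw [hce]; group
      have h3 : σ c = ((σ c)⁻¹)⁻¹ := (inv_inv _).symm
      rw [map_mul, map_mul, map_inv, h3, h1, ha]; group
    refine ⟨⟨a⁻¹ * (k : X) * c, hfix⟩, ?_⟩
    show (k : X)⁻¹ * a * (a⁻¹ * (k : X) * c) ∈ Y
    convert hc using 1; group
  have exr : ∀ h : {h : ↥H // (h : X)⁻¹ * x * h ∈ Y}, ∃ k : ↥G, (k : X)⁻¹ * a * (h.1 : X) ∈ Y := by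
    rintro ⟨h, hh⟩
    obtain ⟨d, hd, hde⟩ := hYLe _ (Y.inv_mem hh)
    have hfe : (σ ^ e) (h : X) = (h : X) := H64.mulAut_pow_fix σ h.2 e
    have hfix : (σ ^ e) (a * (h : X) * d) = a * (h : X) * d := by
      have h1 : ((σ ^ e) d)⁻¹ = d⁻¹ * ((h : X)⁻¹ * x * h)⁻¹ := by rw [hde]; group
      have h3 : (σ ^ e) d = (((σ ^ e) d)⁻¹)⁻¹ := (inv_inv _).symm
      have h4 : (σ ^ e) a = a * x⁻¹ := by rw [hx]; group
      rw [map_mul, map_mul, hfe, h3, h1, h4]; group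
    refine ⟨⟨a * (h : X) * d, hfix⟩, ?_⟩
    show (a * (h : X) * d)⁻¹ * a * (h : X) ∈ Y
    convert Y.inv_mem hd using 1; group
  choose fl hfl using exl
  choose fr hfr using exr
  let el : {k : ↥G // (k : X)⁻¹ * g * σ k ∈ Y} × ↥(Y ⊓ H) ≃ P :=
    { toFun := fun z => ⟨(z.1.1, fl z.1 * ⟨z.2.1, z.2.2.2⟩), by
        show (z.1.1 : X)⁻¹ * a * ((fl z.1 : X) * (z.2 : X)) ∈ Y
        rw [← mul_assoc]; exact Y.mul_mem (hfl z.1) z.2.2.1⟩
      invFun := fun p => (⟨p.1.1, hl p⟩, ⟨(fl ⟨p.1.1, hl p⟩ : X)⁻¹ * (p.1.2 : X), by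
        refine ⟨?_, H.mul_mem (H.inv_mem (fl _).2) p.1.2.2⟩
        show (fl ⟨p.1.1, hl p⟩ : X)⁻¹ * (p.1.2 : X) ∈ Y
        have := Y.mul_mem (Y.inv_mem (hfl ⟨p.1.1, hl p⟩)) p.2
        convert this using 1; group⟩)
      left_inv := fun z => by
        refine Prod.ext rfl (Subtype.ext ?_)
        show (fl z.1 : X)⁻¹ * ((fl z.1 : X) * (z.2 : X)) = z.2
        group
      right_inv := fun p => by
        refine Subtype.ext (Prod.ext rfl (Subtype.ext ?_))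
        show (fl ⟨p.1.1, hl p⟩ : X) * ((fl ⟨p.1.1, hl p⟩ : X)⁻¹ * (p.1.2 : X)) = p.1.2
        group }
  let er : {h : ↥H // (h : X)⁻¹ * x * h ∈ Y} × ↥(Y ⊓ G) ≃ P :=
    { toFun := fun z => ⟨(fr z.1 * ⟨z.2.1, z.2.2.2⟩, z.1.1), by
        show ((fr z.1 : X) * (z.2 : X))⁻¹ * a * (z.1.1 : X) ∈ Y
        have := Y.mul_mem (Y.inv_mem z.2.2.1) (hfr z.1)
        convert this using 1; group⟩
      invFun := fun p => (⟨p.1.2, hr p⟩, ⟨(fr ⟨p.1.2, hr p⟩ : X)⁻¹ * (p.1.1 : X), by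
        refine ⟨?_, G.mul_mem (G.inv_mem (fr _).2) p.1.1.2⟩
        show (fr ⟨p.1.2, hr p⟩ : X)⁻¹ * (p.1.1 : X) ∈ Y
        have := Y.mul_mem (hfr ⟨p.1.2, hr p⟩) (Y.inv_mem p.2)
        convert this using 1; group⟩)
      left_inv := fun z => by
        refine Prod.ext rfl (Subtype.ext ?_)
        show (fr z.1 : X)⁻¹ * ((fr z.1 : X) * (z.2 : X)) = z.2
        group
      right_inv := fun p => by
        refine Subtype.ext (Prod.ext (Subtype.ext ?_) rfl)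
        show (fr ⟨p.1.2, hr p⟩ : X) * ((fr ⟨p.1.2, hr p⟩ : X)⁻¹ * (p.1.1 : X)) = p.1.1
        group }
  rw [← Nat.card_prod, ← Nat.card_prod]
  exact (Nat.card_congr el).trans (Nat.card_congr er).symm

end Cfsg.Agent.S2669
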