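import Cfsg.Statements.S2679
import Cfsg.Agent.H45.Embed

set_option autoImplicit false
open Cfsg H45

namespace Cfsg.Agent.S2679

/-- A (non-symmetric) matrix of the minus-type form. -/
def gram (k : ℕ) {F : Type*} [Field F] (a c : F) :
    Matrix ((Fin k ⊕ Fin k) ⊕ Fin 2) ((Fin k ⊕ Fin k) ⊕ Fin 2) F
  | .inl (.inl x), .inl (.inr y) => if x = y then 1 else 0
  | .inr x, .inr y => if x = 0 ∧ y = 0 then 1 else if x = 0 ∧ y = 1 then a else
      if x = 1 ∧ y = 1 then c else 0
  | _, _ => 0

lemma gram_spec (k : ℕ) {F : Type*} [Field F] (a c : F) {R' : Type*} [CommRing R'] (j : F →+* R')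
    (u : (Fin k ⊕ Fin k) ⊕ Fin 2 → R') :
    dotProduct u (((gram k a c).map j).mulVec u) =
      (∑ x : Fin k, u (.inl (.inl x)) * u (.inl (.inr x)))
        + (u (.inr 0) ^ 2 + j a * u (.inr 0) * u (.inr 1) + j c * u (.inr 1) ^ 2) := by
  simp [dotProduct, Matrix.mulVec, Fintype.sum_sum_type, Fin.sum_univ_two, gram, apply_ite j]
  ring

lemma map_congr_form {R R' : Type*} [CommRing R] [CommRing R'] (j : R →+* R') {ι : Type*}
    [Fintype ι] [DecidableEq ι] (A G : Matrix ι ι R) (u : ι → R') :
    dotProduct u (((A.transpose * G * A).map j).mulVec u) =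
      dotProduct ((A.map j).mulVec u) ((G.map j).mulVec ((A.map j).mulVec u)) := by
  rw [Matrix.map_mul, Matrix.map_mul, Matrix.transpose_map, ← Matrix.mulVec_mulVec,
    ← Matrix.mulVec_mulVec, Matrix.dotProduct_mulVec, Matrix.vecMul_transpose]

/-- A matrix with zero diagonal and antisymmetric entries gives the zero quadratic map. -/
lemma form_eq_zero {R R' : Type*} [CommRing R] [CommRing R'] (j : R →+* R') {ι : Type*}
    [Fintype ι] [DecidableEq ι] (C : Matrix ι ι R) (hC : ∀ p, C p p = 0)
    (hC' : ∀ p r, C p r + C r p = 0) (w : ι → R') : dotProduct w ((C.map j).mulVec w) = 0 := by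
  simp only [dotProduct, Matrix.mulVec, Finset.mul_sum, Matrix.map_apply]
  rw [← Fintype.sum_prod_type']
  refine Finset.sum_involution (fun p _ => (p.2, p.1)) (fun p _ => ?_) (fun p _ hp => ?_)
    (fun _ _ => Finset.mem_univ _) (fun p _ => rfl)
  · have := congrArg j (hC' p.1 p.2)
    rw [map_add, map_zero] at this
    linear_combination (w p.1 * w p.2) * this
  · intro h
    apply hp
    have : p.1 = p.2 := (congrArg Prod.fst h).symm
    rw [this, hC, map_zero]; ring

/-- An elliptic orthogonal group embeds in the hyperbolic orthogonal group of the same dimension over the quadratic extension: for a field F with q elements and a field K with q² elements there is an injective homomorphism from O⁻_2m(F) (isometries of Σ_(j<m−1) x_j y_j + z₁² + a z₁z₂ + c z₂², binary part anisotropic) to O⁺_2m(K) (isometries of Σ_(j<m) x_j y_j over K). -/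
theorem result {F K : Type*} [Field F] [Fintype F] [Field K] [Fintype K] {q : ℕ} (hF : Fintype.card F = q) (hK : Fintype.card K = q ^ 2) {m : ℕ} (hm : 1 ≤ m) (a c : F) (hac : ∀ z₁ z₂ : F, z₁ ^ 2 + a * z₁ * z₂ + c * z₂ ^ 2 = 0 → z₁ = 0 ∧ z₂ = 0) : ∃ φ : ↥(Cfsg.isometryGroup F (Cfsg.quadFormMinus (m - 1) F a c)) →* ↥(Cfsg.isometryGroup K (Cfsg.quadFormPlus m K)), Function.Injective φ := by
  classical
  obtain ⟨i, hfix, hsurj⟩ := exists_fixed_embedding hK hF
  obtain ⟨ω, hω, hωa, hωc⟩ := exists_norm_root hK hF i hfix hsurj a c hac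
  obtain ⟨k, rfl⟩ : ∃ k, m = k + 1 := ⟨m - 1, by omega⟩
  show ∃ φ : ↥(isometryGroup F (quadFormMinus k F a c)) →* ↥(isometryGroup K (quadFormPlus (k + 1) K)), Function.Injective φ
  let ι := (Fin k ⊕ Fin k) ⊕ Fin 2
  let R : (ι → K) → K := quadFormMinus k K (i a) (i c)
  -- extension of scalars
  let ext : Matrix ι ι F →+* Matrix ι ι K := i.mapMatrix
  let ρ : ↥(isometryGroup F (quadFormMinus k F a c)) →* Module.End K (ι → K) :=
    { toFun := fun g => Matrix.toLin' (ext ((g : GL ι F) : Matrix ι ι F))
      map_one' := by simp [Matrix.toLin'_one, Module.End.one_eq_id]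
      map_mul' := fun g h => by
        simp [Matrix.toLin'_mul, Module.End.mul_eq_comp] }
  have hρinj : Function.Injective ρ := fun g h e => by
    apply Subtype.ext
    apply Units.ext
    exact Matrix.map_injective i.injective (Matrix.toLin'.injective e)
  -- matrices over `F` preserving the form preserve it after extension
  have hR : ∀ (g : ↥(isometryGroup F (quadFormMinus k F a c))) (w : ι → K), R (ρ g w) = R w := by
    intro g w
    set A : Matrix ι ι F := ((g : GL ι F) : Matrix ι ι F) with hA
    set B : Matrix ι ι F := A.transpose * gram k a c * A with hB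
    have hQ : ∀ u : ι → F,
        quadFormMinus k F a c u = dotProduct u ((gram k a c).mulVec u) := fun u => by
      simpa [quadFormMinus] using (gram_spec k a c (RingHom.id F) u).symm
    have hBG : ∀ u : ι → F, dotProduct u (B.mulVec u) = dotProduct u ((gram k a c).mulVec u) := by
      intro u
      have h1 := map_congr_form (RingHom.id F) A (gram k a c) u
      simp only [RingHom.coe_id, Matrix.map_id] at h1
      rw [hB, h1, ← hQ, ← hQ]
      exact g.2 u u
    have hdiag : ∀ p, B p p = gram k a c p p := fun p => by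
      simpa using hBG (Pi.single p 1)
    have hoff : ∀ p r, B p r + B r p = gram k a c p r + gram k a c r p := fun p r => by
      have := hBG (Pi.single p 1 + Pi.single r 1)
      simp [Matrix.mulVec_add] at this
      linear_combination this - hdiag p - hdiag r
    have hK' : ∀ u : ι → K, R u = dotProduct u (((gram k a c).map i).mulVec u) := fun u =>
      (gram_spec k a c i u).symm
    rw [hK', hK' w]
    have hact : ρ g w = (A.map i).mulVec w := by simp [ρ, ext, hA]
    rw [hact, ← map_congr_form, ← hB, ← sub_eq_zero]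
    have h0 := form_eq_zero i (B - gram k a c) (fun p => by simp [hdiag])
      (fun p r => by simp only [Matrix.sub_apply]; linear_combination hoff p r) w
    rwa [Matrix.map_sub i (map_sub i), Matrix.sub_mulVec, dotProduct_sub] at h0
  -- the binary part is hyperbolic over `K`
  let M : (ι → K) →ₗ[K] (Fin (k + 1) ⊕ Fin (k + 1) → K) :=
    { toFun := fun u => Sum.elim
        (Fin.snoc (fun x => u (.inl (.inl x))) (u (.inr 0) + u (.inr 1) * ω))
        (Fin.snoc (fun x => u (.inl (.inr x))) (u (.inr 0) + u (.inr 1) * ω ^ q))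
      map_add' := fun u v => by
        ext (j | j) <;> induction j using Fin.lastCases <;> simp <;> ring
      map_smul' := fun s u => by
        ext (j | j) <;> induction j using Fin.lastCases <;> simp <;> ring }
  have hMinj : Function.Injective M := by
    refine (injective_iff_map_eq_zero M).mpr fun u hu => ?_
    have h1 : u (.inr 0) + u (.inr 1) * ω = 0 := by simpa [M] using congrFun hu (.inl (Fin.last k))
    have h2 : u (.inr 0) + u (.inr 1) * ω ^ q = 0 := by
      simpa [M] using congrFun hu (.inr (Fin.last k))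
    have h3 : u (.inr 1) * (ω - ω ^ q) = 0 := by linear_combination h1 - h2
    have h4 : u (.inr 1) = 0 := (mul_eq_zero.mp h3).resolve_right (sub_ne_zero.mpr (Ne.symm hω))
    rw [h4, zero_mul, add_zero] at h1
    ext (⟨x | x⟩ | x)
    · simpa [M] using congrFun hu (.inl (Fin.castSucc x))
    · simpa [M] using congrFun hu (.inr (Fin.castSucc x))
    · fin_cases x <;> assumption
  let e := LinearEquiv.ofBijective M ⟨hMinj,
    (LinearMap.injective_iff_surjective_of_finrank_eq_finrank (by
      simp [ι, Module.finrank_fintype_fun_eq_card]; omega)).mp hMinj⟩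
  refine exists_embed _ R ρ hρinj hR e fun w => ?_
  change quadFormPlus (k + 1) K (M w) = R w
  simp only [M, LinearMap.coe_mk, AddHom.coe_mk, quadFormPlus, R,
    quadFormMinus, Fin.sum_univ_castSucc, Sum.elim_inl, Sum.elim_inr, Fin.snoc_castSucc,
    Fin.snoc_last, ← hωa, ← hωc]
  ring

end Cfsg.Agent.S2679
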