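import Cfsg.Statements.S2680
import Cfsg.Agent.H38.InvolCent
import Cfsg.Agent.H48.Form

set_option autoImplicit false
open Cfsg

namespace Cfsg.Agent.S2680

/-- Centraliser order of an involution t of Sp_2m(q), q even, with s = rank(t − 1) odd (type b_s): |C(t)| = q^(2ms − (3s² − s)/2) · |Sp_(s−1)(q)| · |Sp_(2m−2s)(q)|, where |Sp_2k(q)| = q^(k²) Π_(i=1)^k (q^(2i) − 1). -/
theorem result {F : Type*} [Field F] [Fintype F] [CharP F 2] {q : ℕ} (hF : Fintype.card F = q) {m s : ℕ} (t : Matrix.symplecticGroup (Fin m) F) (ht : t ^ 2 = 1) (hs : ((t : Matrix (Fin m ⊕ Fin m) (Fin m ⊕ Fin m) F) - 1).rank = s) (hodd : Odd s) : Nat.card ↥(Subgroup.centralizer ({t} : Set ↥(Matrix.symplecticGroup (Fin m) F))) = q ^ (2 * m * s - (3 * s ^ 2 - s) / 2) * ((q : ℕ) ^ (((s - 1) / 2) ^ 2) * ∏ i : Fin ((s - 1) / 2), (q ^ (2 * ((i : ℕ) + 1)) - 1)) * ((q : ℕ) ^ ((m - s) ^ 2) * ∏ i : Fin (m - s), (q ^ (2 * ((i : ℕ) + 1)) -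 1)) := by
  subst hF
  obtain ⟨k, rfl⟩ := hodd
  have hna : ¬ ∀ v : Fin m ⊕ Fin m → F, H48.sf v (t • v) = 0 := fun h => by
    have := H48.even_rank_of_alt (by rw [← sq, ht]) h
    rw [hs] at this
    exact Nat.not_even_two_mul_add_one k this
  obtain ⟨hle, hc⟩ := H38.InvolCent.card_centralizer_one (by rw [← sq, ht]) hna hs
  rw [Fintype.card_fin] at hle hc
  rw [hc, (H38.IdOrth.card_orth k).1, Finset.prod_range, show (2 * k + 1 - 1) / 2 = k by omega]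
  have he : m ^ 2 - (2 * k + 1).choose 2 =
      2 * m * (2 * k + 1) - (3 * (2 * k + 1) ^ 2 - (2 * k + 1)) / 2 + (m - (2 * k + 1)) ^ 2 := by
    obtain ⟨d, rfl⟩ := Nat.exists_eq_add_of_le hle
    rw [Nat.add_sub_cancel_left, Nat.choose_two_right]
    have e1 : (2 * k + 1) * (2 * k + 1 - 1) / 2 = (2 * k + 1) * k := by
      rw [show 2 * k + 1 - 1 = 2 * k by omega, show (2 * k + 1) * (2 * k) = (2 * k + 1) * k * 2 by ring,
        Nat.mul_div_cancel _ two_pos]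
    have e2 : (3 * (2 * k + 1) ^ 2 - (2 * k + 1)) / 2 = (2 * k + 1) * (3 * k + 1) := by
      rw [show 3 * (2 * k + 1) ^ 2 = (2 * k + 1) * (3 * k + 1) * 2 + (2 * k + 1) by ring,
        Nat.add_sub_cancel, Nat.mul_div_cancel _ two_pos]
    rw [e1, e2]
    have h1 : 2 * (2 * k + 1 + d) * (2 * k + 1) =
        (2 * k + 1) * (3 * k + 1) + ((2 * k + 1) * (k + 1) + 2 * d * (2 * k + 1)) := by ring
    have h2 : (2 * k + 1 + d) ^ 2 =
        (2 * k + 1) * k + ((2 * k + 1) * (k + 1) + 2 * d * (2 * k + 1) + d ^ 2) := by ring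
    rw [h1, h2, Nat.add_sub_cancel_left, Nat.add_sub_cancel_left]
  rw [he, pow_add]
  ring


end Cfsg.Agent.S2680
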