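import Cfsg.Statements.S2681
import Cfsg.Agent.H38.InvolCent
import Cfsg.Agent.H48.Form

set_option autoImplicit false
open Cfsg

namespace Cfsg.Agent.S2681

/-- Centraliser order of an involution t of Sp_2m(q), q even, with s = rank(t − 1) even and f(v, tv) = 0 for every v, f the symplectic form (type a_s): |C(t)| = q^(2ms − (3s² − s)/2) · |Sp_s(q)| · |Sp_(2m−2s)(q)|. -/
theorem result {F : Type*} [Field F] [Fintype F] [CharP F 2] {q : ℕ} (hF : Fintype.card F = q) {m s : ℕ} (t : Matrix.symplecticGroup (Fin m) F) (ht : t ^ 2 = 1) (ht1 : t ≠ 1) (hs : ((t : Matrix (Fin m ⊕ Fin m) (Fin m ⊕ Fin m) F) - 1).rank = s) (heven : Even s) (halt : ∀ v : Fin m ⊕ Fin m → F, Cfsg.sympForm m F v ((t : Matrix (Fin m ⊕ Fin m) (Fin m ⊕ Fin m) F).mulVec v) = 0) : Nat.card ↥(Subgroup.centralizer ({t} : Set ↥(Matrix.symplecticGroup (Fin m) F))) = q ^ (2 * m * s - (3 * s ^ 2 - s) / 2) * ((q : ℕ) ^ ((s / 2) ^ 2) * ∏ i :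 Fin (s / 2), (q ^ (2 * ((i : ℕ) + 1)) - 1)) * ((q : ℕ) ^ ((m - s) ^ 2) * ∏ i : Fin (m - s), (q ^ (2 * ((i : ℕ) + 1)) - 1)) := by
  subst hF
  obtain ⟨r, rfl⟩ := heven.two_dvd
  obtain ⟨hle, hc⟩ := H38.InvolCent.card_centralizer_alt (by rw [← sq, ht])
    (fun v => by rw [← H48.sympForm_eq_sf]; exact halt v) hs
  rw [Fintype.card_fin] at hle hc
  rw [hc, H48.card_sp, Fintype.card_fin, Finset.prod_range, Finset.prod_range,
    Nat.mul_div_cancel_left r two_pos]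
  have he : m ^ 2 - (2 * r).choose 2 =
      2 * m * (2 * r) - (3 * (2 * r) ^ 2 - (2 * r)) / 2 + (m - 2 * r) ^ 2 := by
    obtain ⟨d, rfl⟩ := Nat.exists_eq_add_of_le hle
    rw [Nat.add_sub_cancel_left, Nat.choose_two_right]
    rcases Nat.eq_zero_or_pos r with rfl | hr
    · simp
    obtain ⟨j, rfl⟩ := Nat.exists_eq_add_of_le hr
    have e1 : 2 * (1 + j) * (2 * (1 + j) - 1) / 2 = (1 + j) * (2 * j + 1) := by
      rw [show 2 * (1 + j) - 1 = 2 * j + 1 by omega, Nat.mul_assoc, Nat.mul_div_cancel_left _ two_pos]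
    have e2 : (3 * (2 * (1 + j)) ^ 2 - 2 * (1 + j)) / 2 = (1 + j) * (6 * j + 5) := by
      rw [show 3 * (2 * (1 + j)) ^ 2 = (1 + j) * (6 * j + 5) * 2 + 2 * (1 + j) by ring,
        Nat.add_sub_cancel, Nat.mul_div_cancel _ two_pos]
    rw [e1, e2]
    have h1 : 2 * (2 * (1 + j) + d) * (2 * (1 + j)) =
        (1 + j) * (6 * j + 5) + ((1 + j) * (2 * j + 3) + 4 * d * (1 + j)) := by ring
    have h2 : (2 * (1 + j) + d) ^ 2 =
        (1 + j) * (2 * j + 1) + ((1 + j) * (2 * j + 3) + 4 * d * (1 + j) + d ^ 2) := by ring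
    rw [h1, h2, Nat.add_sub_cancel_left, Nat.add_sub_cancel_left]
  rw [he, pow_add]
  ring


end Cfsg.Agent.S2681
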