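import Cfsg.Statements.S2682
import Cfsg.Agent.H38.InvolCent
import Cfsg.Agent.H48.Form

set_option autoImplicit false
open Cfsg

namespace Cfsg.Agent.S2682

/-- Centraliser order of an involution t of Sp_2m(q), q even, with s = rank(t − 1) even and f(v, tv) ≠ 0 for some v, f the symplectic form (type c_s): |C(t)| = q^(2ms − (3s² − 3s)/2 − 1) · |Sp_(s−2)(q)| · |Sp_(2m−2s)(q)|. -/
theorem result {F : Type*} [Field F] [Fintype F] [CharP F 2] {q : ℕ} (hF : Fintype.card F = q) {m s : ℕ} (t : Matrix.symplecticGroup (Fin m) F) (ht : t ^ 2 = 1) (hs : ((t : Matrix (Fin m ⊕ Fin m) (Fin m ⊕ Fin m) F) - 1).rank = s) (heven : Even s) (hna : ∃ v : Fin m ⊕ Fin m → F, Cfsg.sympForm m F v ((t : Matrix (Fin m ⊕ Fin m) (Fin m ⊕ Fin m) F).mulVec v) ≠ 0) : Nat.card ↥(Subgroup.centralizer ({t} : Set ↥(Matrix.symplecticGroup (Fin m) F))) = q ^ (2 * m * s - (3 * s ^ 2 - 3 * s) / 2 - 1) * ((q : ℕ) ^ (((s - 2) / 2)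 ^ 2) * ∏ i : Fin ((s - 2) / 2), (q ^ (2 * ((i : ℕ) + 1)) - 1)) * ((q : ℕ) ^ ((m - s) ^ 2) * ∏ i : Fin (m - s), (q ^ (2 * ((i : ℕ) + 1)) - 1)) := by
  subst hF
  obtain ⟨r, rfl⟩ := heven.two_dvd
  have hna' : ¬ ∀ v : Fin m ⊕ Fin m → F, H48.sf v (t • v) = 0 := fun h => by
    obtain ⟨v, hv⟩ := hna
    exact hv (by rw [H48.sympForm_eq_sf]; exact h v)
  obtain ⟨hle, hc⟩ := H38.InvolCent.card_centralizer_one (by rw [← sq, ht]) hna' hs
  rw [Fintype.card_fin] at hle hc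
  rcases Nat.eq_zero_or_pos r with rfl | hr
  · exfalso
    have h0 : ((t : Matrix (Fin m ⊕ Fin m) (Fin m ⊕ Fin m) F) - 1).rank = 0 := by simpa using hs
    have h1 : ((t : Matrix (Fin m ⊕ Fin m) (Fin m ⊕ Fin m) F) - 1).mulVecLin = 0 :=
      LinearMap.range_eq_bot.1 (Submodule.finrank_eq_zero.1 h0)
    refine hna' fun v => ?_
    rw [H48.sf_smul_eq_nil, show H48.nil t v = 0 from LinearMap.congr_fun h1 v, map_zero]
  obtain ⟨j, rfl⟩ := Nat.exists_eq_add_of_le hr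
  rw [hc, show 2 * (1 + j) = 2 * j + 2 by ring, (H38.IdOrth.card_orth j).2, Finset.prod_range,
    show (2 * j + 2 - 2) / 2 = j by omega]
  have he : m ^ 2 - (2 * j + 2).choose 2 + (2 * j + 1) =
      2 * m * (2 * j + 2) - (3 * (2 * j + 2) ^ 2 - 3 * (2 * j + 2)) / 2 - 1 + (m - (2 * j + 2)) ^ 2 := by
    obtain ⟨d, rfl⟩ := Nat.exists_eq_add_of_le hle
    rw [Nat.choose_two_right, show 2 * (1 + j) + d - (2 * j + 2) = d by omega,
      show 2 * (1 + j) = 2 * j + 2 by ring]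
    have e1 : (2 * j + 2) * (2 * j + 2 - 1) / 2 = (j + 1) * (2 * j + 1) := by
      rw [show 2 * j + 2 - 1 = 2 * j + 1 by omega,
        show (2 * j + 2) * (2 * j + 1) = (j + 1) * (2 * j + 1) * 2 by ring,
        Nat.mul_div_cancel _ two_pos]
    have e2 : (3 * (2 * j + 2) ^ 2 - 3 * (2 * j + 2)) / 2 = 3 * ((j + 1) * (2 * j + 1)) := by
      rw [show 3 * (2 * j + 2) ^ 2 = 3 * ((j + 1) * (2 * j + 1)) * 2 + 3 * (2 * j + 2) by ring,
        Nat.add_sub_cancel, Nat.mul_div_cancel _ two_pos]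
    rw [e1, e2]
    have h1 : 2 * (2 * j + 2 + d) * (2 * j + 2) =
        3 * ((j + 1) * (2 * j + 1)) + ((2 * j * j + 7 * j + 4) + 2 * d * (2 * j + 2) + 1) := by ring
    have h2 : (2 * j + 2 + d) ^ 2 =
        (j + 1) * (2 * j + 1) + (2 * j * j + 5 * j + 3 + 2 * d * (2 * j + 2) + d ^ 2) := by ring
    rw [h1, h2, Nat.add_sub_cancel_left, Nat.add_sub_cancel_left, Nat.add_sub_cancel]
    ring
  rw [show j ^ 2 + 2 * j + 1 = (2 * j + 1) + j ^ 2 by ring, pow_add]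
  calc _ = (Fintype.card F ^ (m ^ 2 - (2 * j + 2).choose 2) * Fintype.card F ^ (2 * j + 1)) *
          Fintype.card F ^ (j ^ 2) *
          (∏ i : Fin (m - (2 * j + 2)), (Fintype.card F ^ (2 * ((i : ℕ) + 1)) - 1)) *
          ∏ i : Fin j, (Fintype.card F ^ (2 * ((i : ℕ) + 1)) - 1) := by ring
    _ = _ := by rw [← pow_add, he, pow_add]; ring


end Cfsg.Agent.S2682
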