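import Cfsg.Statements.S2683
import Cfsg.Agent.H44.InvolCent

set_option autoImplicit false
open Cfsg

namespace Cfsg.Agent.S2683

/-- For the hyperbolic form Σ x_j y_j on F^(2m) over a finite field with q elements, q even (excluding m = 2 over the field of two elements), and an involution x of the orthogonal group with s = rank(x − 1) odd (type b_s; such x lie outside Ω): the elements of Ω (the commutator subgroup of the orthogonal group) commuting with x number q^(2m(s−1) − (3s² − 3s)/2) · |Sp_(s−1)(q)| · |Sp_(2m−2s)(q)|, where |Sp_2k(q)| = q^(k²) Π_(i=1)^k (q^(2i) − 1). -/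
theorem result {F : Type*} [Field F] [Fintype F] [CharP F 2] {q : ℕ} (hF : Fintype.card F = q) {m s : ℕ} (h : Fintype.card F ≠ 2 ∨ m ≠ 2) (x : ↥(Cfsg.isometryGroup F (Cfsg.quadFormPlus m F))) (hx : x ^ 2 = 1) (hs : (((x : Matrix.GeneralLinearGroup (Fin m ⊕ Fin m) F) : Matrix (Fin m ⊕ Fin m) (Fin m ⊕ Fin m) F) - 1).rank = s) (hodd : Odd s) : Nat.card {g : ↥(Cfsg.Omega F (Cfsg.quadFormPlus m F)) // (g : ↥(Cfsg.isometryGroup F (Cfsg.quadFormPlus m F))) * x = x * (g : ↥(Cfsg.isometryGroup F (Cfsg.quadFormPlus m F)))} = q ^ (2 * m * (s - 1) - (3 * s ^ 2 - 3 * s) / 2) * ((q : ℕ) ^ (((s - 1) / 2) ^ 2) * ∏ i : Fin ((s - 1) / 2), (q ^ (2 * ((i : ℕ) + 1)) - 1)) * ((q : ℕ) ^ ((m - s) ^ 2) * ∏ i : Fin (m - s), (q ^ (2 * ((i : ℕ) + 1)) - 1)) := by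
  subst hF
  obtain ⟨t, hmul, -, hrk, halt, hcard⟩ := H44.OCent.card_omega_eq h x
  have ht := hmul hx
  rw [hs] at hrk
  rw [hcard]
  obtain ⟨j, rfl⟩ := hodd
  have hna : ¬ H44.IsAlt t := fun ha => by
    have := H44.even_of_isAlt (H43.qPlus_nondeg m) ht ha
    rw [hrk] at this
    exact Nat.not_even_two_mul_add_one j this
  have ht1 : t ≠ 1 := H44.ne_one_of_finrank_resid (by omega)
  have hle := H44.finrank_resid_le (H43.qPlus_nondeg m) ht
  rw [hrk, H43.finrank_qPlus] at hle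
  obtain ⟨r, rfl⟩ : ∃ r, m = 2 * j + (r + 1) := ⟨m - (2 * j + 1), by omega⟩
  have h1 := H44.OCent.card_cent_one ht hna hrk
  rw [H44.OCent.two_mul_omega h ht ht1 (fun e => hna e.1), (H38.IdOrth.card_orth j).1] at h1
  rw [show 2 * j + (r + 1) - (2 * j + 1) = r by omega, show 2 * j + 1 - 1 = 2 * j by omega,
    Nat.mul_div_cancel_left _ two_pos]
  have e1 : (3 * (2 * j + 1) ^ 2 - 3 * (2 * j + 1)) / 2 = 6 * j * j + 3 * j :=
    Nat.div_eq_of_eq_mul_left two_pos (Nat.sub_eq_of_eq_add (by ring))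
  have e2 : (2 * j).choose 2 = j * (2 * j - 1) := by
    rw [Nat.choose_two_right]; exact Nat.div_eq_of_eq_mul_left two_pos (by ring)
  rw [e1]
  rw [e2] at h1
  apply Nat.eq_of_mul_eq_mul_left (show 0 < 2 * Fintype.card F ^ (2 * j) from
    Nat.mul_pos two_pos (pow_pos Fintype.card_pos _))
  rw [mul_comm 2, mul_assoc, h1, Finset.prod_range, show r * r = r ^ 2 by ring]
  obtain rfl | ⟨d, rfl⟩ : j = 0 ∨ ∃ d, j = d + 1 := by
    rcases j with - | d
    · exact Or.inl rfl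
    · exact Or.inr ⟨d, rfl⟩
  · simp; ring
  have e3 : 2 * (2 * (d + 1) + (r + 1)) * (2 * (d + 1)) - (6 * (d + 1) * (d + 1) + 3 * (d + 1)) + 2 * (d + 1)
      = 2 * (2 * (d + 1)) * (r + 1) + (d + 1) * (2 * (d + 1) - 1) := by
    rw [show 2 * (d + 1) - 1 = 2 * d + 1 by omega,
      show 2 * (2 * (d + 1) + (r + 1)) * (2 * (d + 1)) = (6 * (d + 1) * (d + 1) + 3 * (d + 1)) +
        (2 * d * d + 4 * r * d + 4 * r + 5 * d + 3) by ring, Nat.add_sub_cancel_left]
    ring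
  rw [← e3, pow_add]
  ring

end Cfsg.Agent.S2683
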