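import Cfsg.Statements.S2684
import Cfsg.Agent.H44.InvolCent

set_option autoImplicit false
open Cfsg

namespace Cfsg.Agent.S2684

/-- For the hyperbolic form Q = Σ x_j y_j on F^(2m) over a finite field with q elements, q even (excluding m = 2 over the field of two elements), and an involution x ≠ 1 of the orthogonal group with s = rank(x − 1) even and Q vanishing on the image of x − 1 (equivalently f(v, xv) = 0 for all v, where f(u, w) = Q(u + w) − Q(u) − Q(w) is the bilinear form of Q; type a_s, which lies in Ω): its centraliser in Ω (the commutator subgroup of the orthogonal group) has order q^(2ms − (3s² + s)/2) · |Sp_s(q)| · |Ω⁺_(2m−2s)(q)|, where |Ω⁺_2k(q)| = q^(k(k−1)) (q^k − 1) Π_(i=1)^(k−1) (q^(2i) − 1) for k ≥ 1 and the last factor is 1 when s = m. -/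
theorem result {F : Type*} [Field F] [Fintype F] [CharP F 2] {q : ℕ} (hF : Fintype.card F = q) {m s : ℕ} (h : Fintype.card F ≠ 2 ∨ m ≠ 2) (x : ↥(Cfsg.isometryGroup F (Cfsg.quadFormPlus m F))) (hx : x ^ 2 = 1) (hx1 : x ≠ 1) (hs : (((x : Matrix.GeneralLinearGroup (Fin m ⊕ Fin m) F) : Matrix (Fin m ⊕ Fin m) (Fin m ⊕ Fin m) F) - 1).rank = s) (heven : Even s) (halt : ∀ v : Fin m ⊕ Fin m → F, Cfsg.quadFormPlus m F ((((x : Matrix.GeneralLinearGroup (Fin m ⊕ Fin m) F) : Matrix (Fin m ⊕ Fin m) (Fin m ⊕ Fin m) F) - 1).mulVec v) = 0) : Nat.card {g : ↥(Cfsg.Omega F (Cfsg.quadFormPlus m F)) // (g : ↥(Cfsg.isometryGroup F (Cfsg.quadFormPlus m F))) * x = x * (g : ↥(Cfsg.isometryGroup F (Cfsg.quadFormPlus m F)))} = q ^ (2 * m * s - (3 * s ^ 2 + s) / 2) * ((q : ℕ) ^ ((s / 2) ^ 2) * ∏ i : Fin (s / 2), (q ^ (2 * ((i : ℕ) + 1)) - 1)) * (if s = m then 1 else q ^ ((m - s) * (m - s - 1)) * (q ^ (m - s) - 1) * ∏ i : Fin (m - s - 1), (q ^ (2 * ((i : ℕ) + 1)) - 1))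 := by
  subst hF
  obtain ⟨t, hmul, hne1, hrk, halt', hcard⟩ := H44.OCent.card_omega_eq h x
  have ht := hmul hx
  have ht1 := hne1 hx1
  rw [hs] at hrk
  rw [hcard]
  have ha := halt'.2 halt
  obtain ⟨a, rfl⟩ := heven.two_dvd
  have hle := H44.finrank_resid_le (H43.qPlus_nondeg m) ht
  rw [hrk, H43.finrank_qPlus] at hle
  obtain ⟨r, rfl⟩ : ∃ r, m = 2 * a + r := ⟨m - 2 * a, by omega⟩
  have h1 := H44.OCent.card_cent_alt ht ha hrk
  rw [H48.card_sp, Fintype.card_fin, Finset.prod_range] at h1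
  rw [show 2 * a / 2 = a by omega, Nat.add_sub_cancel_left]
  have e1 : (3 * (2 * a) ^ 2 + 2 * a) / 2 = 6 * a * a + a :=
    Nat.div_eq_of_eq_mul_left two_pos (by ring)
  have e2 : (2 * a).choose 2 + (6 * a * a + a) = 8 * a * a := by
    rcases a with - | b
    · simp
    · rw [Nat.choose_two_right, show 2 * (b + 1) - 1 = 2 * b + 1 by omega,
        Nat.div_eq_of_eq_mul_left two_pos (show 2 * (b + 1) * (2 * b + 1) = ((b + 1) * (2 * b + 1)) * 2 by ring)]
      ring
  have e3 : 2 * (2 * a + r) * (2 * a) - (6 * a * a + a) = 2 * (2 * a) * r + (2 * a).choose 2 :=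
    Nat.sub_eq_of_eq_add (by rw [add_assoc, e2]; ring)
  rw [e1, e3]
  rcases r with - | n
  · rw [H44.OCent.omega_extremal h ht ha (hrk.trans (by omega)), h1, if_pos (add_zero _).symm]
    simp [H44.OCent.plusOrder]
    ring
  · rw [H44.OCent.two_mul_omega h ht ht1 (fun e => by have := hrk.symm.trans e.2; omega)] at h1
    rw [if_neg (by omega), show n + 1 - 1 = n by omega]
    apply Nat.eq_of_mul_eq_mul_left two_pos
    rw [h1, H44.OCent.plusOrder, Finset.prod_range]
    ring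

end Cfsg.Agent.S2684
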