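import Cfsg.Statements.S2685
import Cfsg.Agent.H44.InvolCent

set_option autoImplicit false
open Cfsg

namespace Cfsg.Agent.S2685

/-- For the hyperbolic form Q = Σ x_j y_j on F^(2m) over a finite field with q elements, q even (excluding m = 2 over the field of two elements), and an involution x of the orthogonal group with s = rank(x − 1) even and Q not vanishing on the image of x − 1 (f(v, xv) ≠ 0 for some v, where f(u, w) = Q(u + w) − Q(u) − Q(w) is the bilinear form of Q; type c_s, which lies in Ω): its centraliser in Ω (the commutator subgroup of the orthogonal group) has order q^(2m(s−1) − (3s² − 5s)/2 − 1) · |Sp_(s−2)(q)| · |Sp_(2m−2s)(q)|. -/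
theorem result {F : Type*} [Field F] [Fintype F] [CharP F 2] {q : ℕ} (hF : Fintype.card F = q) {m s : ℕ} (h : Fintype.card F ≠ 2 ∨ m ≠ 2) (x : ↥(Cfsg.isometryGroup F (Cfsg.quadFormPlus m F))) (hx : x ^ 2 = 1) (hs : (((x : Matrix.GeneralLinearGroup (Fin m ⊕ Fin m) F) : Matrix (Fin m ⊕ Fin m) (Fin m ⊕ Fin m) F) - 1).rank = s) (heven : Even s) (hna : ∃ v : Fin m ⊕ Fin m → F, Cfsg.quadFormPlus m F ((((x : Matrix.GeneralLinearGroup (Fin m ⊕ Fin m) F) : Matrix (Fin m ⊕ Fin m) (Fin m ⊕ Fin m) F) - 1).mulVec v) ≠ 0) : Nat.card {g : ↥(Cfsg.Omega F (Cfsg.quadFormPlus m F)) // (g : ↥(Cfsg.isometryGroup F (Cfsg.quadFormPlus m F))) * x = x * (g : ↥(Cfsg.isometryGroup F (Cfsg.quadFormPlus m F)))} = q ^ (2 * m * (s - 1) - (3 * s ^ 2 - 5 * s) / 2 - 1) * ((q : ℕ) ^ (((s - 2) / 2) ^ 2) * ∏ i : Fin ((s - 2) / 2), (q ^ (2 * ((i : ℕ) + 1)) - 1)) * ((q : ℕ) ^ ((m - s) ^ 2) * ∏ i : Fin (m - s), (q ^ (2 * ((i : ℕ) + 1)) - 1)) := by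
  subst hF
  obtain ⟨t, hmul, -, hrk, halt, hcard⟩ := H44.OCent.card_omega_eq h x
  have ht := hmul hx
  rw [hs] at hrk
  rw [hcard]
  have hna' : ¬ H44.IsAlt t := fun ha => by
    obtain ⟨v, hv⟩ := hna
    exact hv (halt.1 ha v)
  obtain ⟨r', rfl⟩ := heven.two_dvd
  rcases r' with - | j
  · exfalso
    refine hna' fun u hu => ?_
    rw [show H43.resid t = ⊥ from Submodule.finrank_eq_zero.1 (hrk.trans (mul_zero 2))] at hu
    rw [(Submodule.mem_bot F).1 hu, map_zero]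
  have ht1 : t ≠ 1 := H44.ne_one_of_finrank_resid (by omega)
  have hle := H44.finrank_resid_le (H43.qPlus_nondeg m) ht
  rw [hrk, H43.finrank_qPlus] at hle
  obtain ⟨r, rfl⟩ : ∃ r, m = (2 * j + 1) + (r + 1) := ⟨m - (2 * j + 2), by omega⟩
  have h1 := H44.OCent.card_cent_one ht hna' (hrk.trans (by ring))
  rw [H44.OCent.two_mul_omega h ht ht1 (fun e => hna' e.1), show 2 * j + 1 + 1 = 2 * j + 2 by ring,
    (H38.IdOrth.card_orth j).2] at h1
  rw [show 2 * j + 1 + (r + 1) - 2 * (j + 1) = r by omega, show 2 * (j + 1) - 1 = 2 * j + 1 by omega,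
    show (2 * (j + 1) - 2) / 2 = j by omega]
  have e1 : (3 * (2 * (j + 1)) ^ 2 - 5 * (2 * (j + 1))) / 2 = 6 * j * j + 7 * j + 1 :=
    Nat.div_eq_of_eq_mul_left two_pos (Nat.sub_eq_of_eq_add (by ring))
  have e2 : (2 * j + 1).choose 2 = 2 * j * j + j := by
    rw [Nat.choose_two_right, Nat.add_sub_cancel]; exact Nat.div_eq_of_eq_mul_left two_pos (by ring)
  rw [e2] at h1
  rw [e1]
  apply Nat.eq_of_mul_eq_mul_left (show 0 < 2 * Fintype.card F ^ (2 * j + 1) from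
    Nat.mul_pos two_pos (pow_pos Fintype.card_pos _))
  rw [mul_comm 2, mul_assoc, h1, Finset.prod_range, show r * r = r ^ 2 by ring]
  have e3 : 2 * (2 * j + 1 + (r + 1)) * (2 * j + 1) - (6 * j * j + 7 * j + 1) - 1 =
      2 * j * j + 5 * j + 4 * r * j + 2 * r + 2 := by
    rw [show 2 * (2 * j + 1 + (r + 1)) * (2 * j + 1) = (6 * j * j + 7 * j + 1) +
        ((2 * j * j + 5 * j + 4 * r * j + 2 * r + 2) + 1) by ring, Nat.add_sub_cancel_left, Nat.add_sub_cancel]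
  rw [e3]
  ring

end Cfsg.Agent.S2685
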