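import Cfsg.Statements.S2697
import Cfsg.Agent.H55.PSLGraphField

set_option autoImplicit false
open Cfsg

namespace Cfsg.Agent.S2697

/-- Let T = PSL_n(F) be simple over a finite field (n ≥ 2; |F| ≥ 4 when n = 2) and let x be a field automorphism or a graph-field automorphism of T of prime order r. Then an element y of the coset Inndiag(T)·x (that is, y = δ x with δ in the inner-diagonal group, the image of PGL_n(F)) has order r if and only if y is conjugate to x by an element of Inndiag(T). -/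
theorem result {F : Type*} [Field F] [Fintype F] {p f : ℕ} [Fact p.Prime] (hF : Fintype.card F = p ^ f) (hf : 1 ≤ f) {n : ℕ} (hn : 2 ≤ n) (hs : n = 2 → 4 ≤ Fintype.card F) (x δ : MulAut (Matrix.ProjectiveSpecialLinearGroup (Fin n) F)) (hx : Cfsg.IsFieldAutClassPSL x ∨ Cfsg.IsGraphFieldAutClassPSL x) {r : ℕ} (hr : r.Prime) (hxr : orderOf x = r) (hδ : δ ∈ Cfsg.inndiagPSL n F) :
    orderOf (δ * x) = r ↔ Cfsg.IsConjUnder (Cfsg.inndiagPSL n F) x (δ * x) := by
  constructor
  · intro hord
    rw [H55.inndiagPSL_eq_range] at hδ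
    obtain ⟨g, rfl⟩ := hδ
    rcases hx with hx | hx
    · obtain ⟨σ, k, -, rfl⟩ := H55.fieldClass_normal_form hn hx
      have hσr : orderOf σ = r := by rwa [H55.orderOf_field_conj hn] at hxr
      have e : H55.conjP g * (H55.conjP k * H55.fieldP σ * (H55.conjP k)⁻¹) =
          H55.conjP (g * k * (H55.mapGL σ k)⁻¹) * H55.fieldP σ := by
        rw [map_mul, map_mul, map_inv]
        have h2 : H55.fieldP σ * (H55.conjP k)⁻¹ =
            (H55.conjP (H55.mapGL σ k))⁻¹ * H55.fieldP σ := by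
          rw [mul_inv_eq_iff_eq_mul, mul_assoc, H55.fieldP_conjP, inv_mul_cancel_left]
        calc H55.conjP g * (H55.conjP k * H55.fieldP σ * (H55.conjP k)⁻¹)
            = H55.conjP g * H55.conjP k * (H55.fieldP σ * (H55.conjP k)⁻¹) := by group
          _ = _ := by rw [h2]; group
      rw [e] at hord ⊢
      obtain ⟨l, hl⟩ := H55.coset_conj hn
        (by rw [hσr, ← hord]; exact pow_orderOf_eq_one _ :
          (H55.conjP (g * k * (H55.mapGL σ k)⁻¹) * H55.fieldP σ) ^ orderOf σ = 1)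
      refine ⟨H55.conjP (l * k⁻¹), by rw [H55.inndiagPSL_eq_range]; exact ⟨_, rfl⟩, ?_⟩
      rw [hl, map_mul, map_inv]
      group
    · obtain ⟨σ, k, hn3, hσ, rfl⟩ := H55.gf_normal_form hx
      have h2 : orderOf (H55.gfP (n := n) σ) = r := by rwa [H55.orderOf_conj'] at hxr
      obtain ⟨rfl, hσ2⟩ := H55.orderOf_gfP hn3 hσ hr h2
      have e : H55.conjP g * (H55.conjP k * H55.gfP σ * (H55.conjP k)⁻¹) =
          H55.conjP (g * k * (H55.gfGL σ k)⁻¹) * H55.gfP σ := by
        rw [map_mul, map_mul, map_inv]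
        have h2 : H55.gfP σ * (H55.conjP k)⁻¹ =
            (H55.conjP (H55.gfGL σ k))⁻¹ * H55.gfP σ := by
          rw [mul_inv_eq_iff_eq_mul, mul_assoc, H55.gfP_conjP, inv_mul_cancel_left]
        calc H55.conjP g * (H55.conjP k * H55.gfP σ * (H55.conjP k)⁻¹)
            = H55.conjP g * H55.conjP k * (H55.gfP σ * (H55.conjP k)⁻¹) := by group
          _ = _ := by rw [h2]; group
      rw [e] at hord ⊢
      obtain ⟨l, hl⟩ := H55.gf_coset_conj hn3 hσ2
        (by rw [← hord]; exact pow_orderOf_eq_one _ :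
          (H55.conjP (g * k * (H55.gfGL σ k)⁻¹) * H55.gfP σ) ^ 2 = 1)
      refine ⟨H55.conjP (l * k⁻¹), by rw [H55.inndiagPSL_eq_range]; exact ⟨_, rfl⟩, ?_⟩
      rw [hl, map_mul, map_inv]
      group
  · rintro ⟨h, -, e⟩
    rw [e, H55.orderOf_conj', hxr]

end Cfsg.Agent.S2697
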