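import Cfsg.Statements.S2702
import Cfsg.Agent.H55.PSLGraph

set_option autoImplicit false
open Cfsg

namespace Cfsg.Agent.S2702

/-- Let T = PSL_n(F) over the field with q = p^f elements, n ≥ 3, G = Inndiag(T) the image of PGL_n(F), and γ an involutory graph automorphism of T. The G-class of γ is the union of exactly c T-classes, where: if n is even and q is odd, c = gcd(n/2, q − 1) when C_G(γ) is isomorphic to the projective conformal symplectic group PGSp_n(F) (symplectic type) and c = gcd(n, q − 1)/2 otherwise; and c = gcd(n, q − 1) when n is odd or q is even. -/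
theorem result {F : Type*} [Field F] [Fintype F] {p f : ℕ} [Fact p.Prime] (hF : Fintype.card F = p ^ f) (hf : 1 ≤ f) {n : ℕ} (hn : 3 ≤ n) (γ : MulAut (Matrix.ProjectiveSpecialLinearGroup (Fin n) F)) (hγ : Cfsg.IsGraphAutClassPSL γ) (hγ2 : orderOf γ = 2) :
    ((Even n ∧ Odd p ∧ Nonempty (↥(Cfsg.inndiagPSL n F ⊓ Subgroup.centralizer {γ}) ≃* Cfsg.PGSp (n / 2) F)) → Cfsg.splitClassCount (Cfsg.inndiagPSL n F) (Cfsg.Inn (Matrix.ProjectiveSpecialLinearGroup (Fin n) F)) γ = Nat.gcd (n / 2) (p ^ f - 1)) ∧ ((Even n ∧ Odd p ∧ ¬ Nonempty (↥(Cfsg.inndiagPSL n F ⊓ Subgroup.centralizer {γ}) ≃* Cfsg.PGSp (n / 2) F)) → Cfsg.splitClassCount (Cfsg.inndiagPSL n F) (Cfsg.Inn (Matrix.ProjectiveSpecialLinearGroup (Fin n) F)) γ = Nat.gcd n (p ^ f - 1) / 2) ∧ (¬ (Even n ∧ Odd p) → Cfsg.splitClassCount (Cfsg.inndiagPSL n F) (Cfsg.Inn (Matrix.ProjectiveSpecialLinearGroup (Fin n) F)) γ = Nat.gcd n (p ^ f - 1)) := by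
  obtain ⟨S, hS⟩ := (H55.pslGraphModel (F := F) hn).exists_rep γ hγ hγ2
  have hS' := hS
  obtain ⟨hshape, h, rfl, rfl⟩ := hS'
  rw [H55.splitClassCount_graph (by omega) h]
  have hd := ((H55.pslGraphModel (F := F) hn).shape hS).2
  have hpo : Odd p ↔ Odd (Fintype.card F) := by
    rw [hF, Nat.odd_pow_iff (by omega)]
  have hK : Nat.card F - 1 = p ^ f - 1 := by rw [Nat.card_eq_fintype_card, hF]
  refine ⟨?_, ?_, ?_⟩
  · rintro ⟨⟨m, rfl⟩, hp, hC⟩
    have hm : (m + m) / 2 = m := by omega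
    rw [hm] at hC
    have hsk := ((H55.pslGraphModel (F := F) hn).skew_of_pgsp (hpo.1 hp) (m := m) (by omega) (by omega) hS).1 hC
    rw [H55.det_simG_J (H55.congr_J_of_skew (hpo.1 hp) hsk hd (m := m) (by simp; omega)),
      H55.index_powRange, hK, hm]
  · rintro ⟨⟨m, rfl⟩, hp, hC⟩
    have hm : (m + m) / 2 = m := by omega
    rw [hm] at hC
    have hsy := hshape.resolve_right fun h' =>
      hC (((H55.pslGraphModel (F := F) hn).skew_of_pgsp (hpo.1 hp) (m := m) (by omega) (by omega) hS).2 h')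
    rw [H55.det_simG_symm (hpo.1 hp) hsy hd (m := m) (by simp; omega) (by omega),
      H55.index_powRange_sup_neg (hpo.1 hp), hF, two_mul]
  · intro hne
    rcases Nat.even_or_odd n with he | ho
    · have h2 : ringChar F = 2 := FiniteField.even_card_iff_char_two.2
        (Nat.even_iff.1 (Nat.not_odd_iff_even.1 fun h' => hne ⟨he, hpo.2 h'⟩))
      haveI : CharP F 2 := h2 ▸ ringChar.charP F
      rw [H55.det_simG_charTwo hd, H55.index_powRange, hK, Fintype.card_fin]
    · rw [H55.det_simG_odd hd (by simpa using ho), H55.index_powRange, hK, Fintype.card_fin]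

end Cfsg.Agent.S2702
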