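import Cfsg.Statements.S2703
import Cfsg.Agent.H55.PSLGraph

set_option autoImplicit false
open Cfsg

namespace Cfsg.Agent.S2703

/-- Let T = PSL_n(F) over the field with q elements, q odd, n = 2m ≥ 4 even, and ι the inverse-transpose automorphism. Its centralizer in G = Inndiag(T) (the image of PGL_n(F)) is isomorphic to the projective conformal orthogonal group of the plus-type form Σ xᵢ yᵢ in dimension n when n(q − 1)/4 is even, and to that of a minus-type form (Σ xᵢ yᵢ + z₁² + a z₁ z₂ + b z₂² with anisotropic binary part) when n(q − 1)/4 is odd. -/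
theorem result {F : Type*} [Field F] [Fintype F] (hodd : Odd (Fintype.card F)) {n m : ℕ} (hm : 2 ≤ m) (hnm : n = 2 * m) (ι : MulAut (Matrix.ProjectiveSpecialLinearGroup (Fin n) F)) (hι : Cfsg.IsInverseTransposeAutPSL ι) :
    (Even (n * (Fintype.card F - 1) / 4) → Nonempty (↥(Cfsg.inndiagPSL n F ⊓ Subgroup.centralizer {ι}) ≃* Cfsg.PGO F (Cfsg.quadFormPlus m F))) ∧ (¬ Even (n * (Fintype.card F - 1) / 4) → ∃ a b : F, (∀ z₁ z₂ : F, z₁ ^ 2 + a * z₁ * z₂ + b * z₂ ^ 2 = 0 → z₁ = 0 ∧ z₂ = 0) ∧ Nonempty (↥(Cfsg.inndiagPSL n F ⊓ Subgroup.centralizer {ι}) ≃* Cfsg.PGO F (Cfsg.quadFormMinus (m - 1) F a b))) := by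
  classical
  obtain rfl : ι = H55.iotaP := H55.isInverseTranspose_iff.1 hι
  have h2 := H55.two_ne_of_odd hodd
  obtain ⟨e⟩ := H55.cent_graph (F := F) (show 2 ≤ n by omega) 1
  rw [map_one, one_mul, Units.val_one] at e
  have hiff : IsSquare ((-1 : F) ^ m) ↔ Even (n * (Fintype.card F - 1) / 4) := by
    rw [H44.isSquare_neg_one_pow_iff hodd,
      show n * (Fintype.card F - 1) / 4 = m * (Fintype.card F - 1) / 2 by
        rw [hnm, mul_assoc, show (4 : ℕ) = 2 * 2 by norm_num, Nat.mul_div_mul_left _ _ (by norm_num)]]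
  have hone : (1 : Matrix (Fin n) (Fin n) F).det ≠ 0 := by simp
  refine ⟨fun he => ?_, fun he => ?_⟩
  · obtain ⟨e'⟩ := H55.simG_equiv (H55.congr_of_det hodd Matrix.transpose_one (H55.gPlus_symm m) hone
      (H55.det_gPlus_ne m) (by simp [hnm]; omega) (by rw [Matrix.det_one, one_mul, H55.det_gPlus]; exact hiff.2 he))
    obtain ⟨e''⟩ := H55.pgo_plus_equiv h2 m
    exact ⟨e.trans (e'.trans e'')⟩
  · obtain ⟨ν, hν0, hν, hab⟩ := H55.exists_nonsquare_form hodd
    obtain ⟨k, rfl⟩ : ∃ k, m = k + 1 := ⟨m - 1, by omega⟩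
    rw [Nat.add_sub_cancel]
    refine ⟨0, -ν, hab, ?_⟩
    have hns : ¬ IsSquare ((-1 : F) ^ (k + 1)) := fun h => he (hiff.1 h)
    have hsq : IsSquare ((1 : Matrix (Fin n) (Fin n) F).det * (H55.gMinus k (0 : F) (-ν)).det) := by
      rw [Matrix.det_one, one_mul, H55.det_gMinus,
        show (-1 : F) ^ k * (4 * -ν - 0 ^ 2) = 2 ^ 2 * (ν * (-1) ^ (k + 1)) by ring,
        H44.isSquare_sq_mul_iff h2,
        ← quadraticChar_one_iff_isSquare (mul_ne_zero hν0 (pow_ne_zero _ (neg_ne_zero.2 one_ne_zero))),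
        map_mul, quadraticChar_neg_one_iff_not_isSquare.2 hν, quadraticChar_neg_one_iff_not_isSquare.2 hns]
      rfl
    obtain ⟨e'⟩ := H55.simG_equiv (H55.congr_of_det hodd Matrix.transpose_one (H55.gMinus_symm k 0 (-ν)) hone
      (H55.det_gMinus_ne hodd k hν0) (by simp [hnm]; omega) hsq)
    obtain ⟨e''⟩ := H55.pgo_minus_equiv h2 k (0 : F) (-ν)
    exact ⟨e.trans (e'.trans e'')⟩

end Cfsg.Agent.S2703
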