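import Cfsg.Statements.S2704
import Cfsg.Agent.H55.PSLGraphField

set_option autoImplicit false
open Cfsg

namespace Cfsg.Agent.S2704

/-- Let T = PSL_n(F) over the field F with p^f elements, n ≥ 3, and G = Inndiag(T) the image of PGL_n(F). If x is an involutory graph-field automorphism of T then f is even; x is G-conjugate to every other involutory graph-field automorphism; C_G(x) is isomorphic to the projective general unitary group PGU_n(q₀) with q₀² = p^f, realised over F itself through the Hermitian form Σ uᵢ vᵢ^{q₀}; and the G-class of x is the union of exactly gcd(n, q₀ − 1) T-classes. -/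
theorem result {F : Type*} [Field F] [Fintype F] {p f : ℕ} [Fact p.Prime] (hF : Fintype.card F = p ^ f) (hf : 1 ≤ f) {n : ℕ} (hn : 3 ≤ n) (x : MulAut (Matrix.ProjectiveSpecialLinearGroup (Fin n) F)) (hx : Cfsg.IsGraphFieldAutClassPSL x) (hx2 : orderOf x = 2) :
    Even f ∧ (∀ y : MulAut (Matrix.ProjectiveSpecialLinearGroup (Fin n) F), Cfsg.IsGraphFieldAutClassPSL y → orderOf y = 2 → Cfsg.IsConjUnder (Cfsg.inndiagPSL n F) x y) ∧ Nonempty (↥(Cfsg.inndiagPSL n F ⊓ Subgroup.centralizer {x}) ≃* Cfsg.PGU n F (p ^ (f / 2))) ∧ Cfsg.splitClassCount (Cfsg.inndiagPSL n F) (Cfsg.Inn (Matrix.ProjectiveSpecialLinearGroup (Fin n) F)) x = Nat.gcd n (p ^ (f / 2) - 1) := by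
  obtain ⟨σ, k, -, hσ, rfl⟩ := H55.gf_normal_form hx
  have h2 : orderOf (H55.gfP (n := n) σ) = 2 := by rwa [H55.orderOf_conj'] at hx2
  have hσ2 : orderOf σ = 2 := (H55.orderOf_gfP hn hσ Nat.prime_two h2).2
  obtain ⟨hdvd, hcard⟩ := H55.card_fixF_eq (Fact.out : p.Prime)
    (by rw [Nat.card_eq_fintype_card, hF]) σ
  rw [hσ2] at hdvd hcard
  have hk : H55.conjP k ∈ Cfsg.inndiagPSL n F := by
    rw [H55.inndiagPSL_eq_range]; exact ⟨k, rfl⟩
  refine ⟨even_iff_two_dvd.2 hdvd, ?_, ?_, ?_⟩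
  · intro y hy hy2
    obtain ⟨τ, l, -, hτ, rfl⟩ := H55.gf_normal_form hy
    have h2' : orderOf (H55.gfP (n := n) τ) = 2 := by rwa [H55.orderOf_conj'] at hy2
    have hτ2 : orderOf τ = 2 := (H55.orderOf_gfP hn hτ Nat.prime_two h2').2
    obtain rfl := H55.gfP_eq_of_orderOf hσ2 hτ2
    refine ⟨H55.conjP l * (H55.conjP k)⁻¹, mul_mem ?_ (inv_mem hk), by group⟩
    rw [H55.inndiagPSL_eq_range]; exact ⟨l, rfl⟩
  · obtain ⟨e₁⟩ := H55.centralizer_conj_equiv (Cfsg.inndiagPSL n F) hk (H55.gfP σ)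
    obtain ⟨e₂⟩ := H55.centralizer_gf hn hσ2 hcard.symm
    exact ⟨e₁.trans e₂⟩
  · rw [H55.splitClassCount_conj _ _ hk, H55.splitClassCount_gf hn hσ2, hcard]

end Cfsg.Agent.S2704
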