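import Cfsg.Statements.S2705
import Cfsg.Agent.H55.PSUFieldCount

set_option autoImplicit false
open Cfsg

namespace Cfsg.Agent.S2705

/-- Let T = PSU_n(q) be simple (n ≥ 3, (n, q) ≠ (3, 2), q = p^f), realised over the field F with q² elements, G = Inndiag(T) the image of PGU_n(q) in Aut(T), and x a field automorphism of T (conjugate to a standard field automorphism of odd order) of odd prime order r. Then r divides f; C_G(x) is isomorphic to PGU_n(q₀) with q₀ = p^(f/r), realised over a field F₀ with q₀² elements; and the G-class of x is the union of exactly gcd(n, (q + 1)/(q₀ + 1)) T-classes. -/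
theorem result {F : Type*} [Field F] [Fintype F] {p f q : ℕ} [Fact p.Prime] (hq : q = p ^ f) (hf : 1 ≤ f) (hF : Fintype.card F = q ^ 2) {n : ℕ} (hn : 3 ≤ n) (hs : ¬ (n = 3 ∧ q = 2)) (x : MulAut (Cfsg.PSU n F q)) (hx : Cfsg.IsFieldAutClassPSU x) {r : ℕ} (hr : r.Prime) (hro : Odd r) (hxr : orderOf x = r) (F₀ : Type*) [Field F₀] [Fintype F₀] (hF₀ : Fintype.card F₀ = p ^ (2 * (f / r))) :
    r ∣ f ∧ Nonempty (↥(Cfsg.inndiagPSU n F q ⊓ Subgroup.centralizer {x}) ≃* Cfsg.PGU n F₀ (p ^ (f / r))) ∧ Cfsg.splitClassCount (Cfsg.inndiagPSU n F q) (Cfsg.Inn (Cfsg.PSU n F q)) x = Nat.gcd n ((q + 1) / (p ^ (f / r) + 1)) := by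
  obtain ⟨σ, k, hodd, hσx, rfl⟩ := H55.Psu.fieldClass_normal hF hn hs hx
  rw [hxr] at hσx
  have hcF : Nat.card F = p ^ (2 * f) := by
    rw [Nat.card_eq_fintype_card, hF, hq, ← pow_mul, mul_comm]
  obtain ⟨hdvd, hcard⟩ := H55.card_fixF_eq (Fact.out : p.Prime) hcF σ
  rw [hσx] at hdvd hcard
  have hrf : r ∣ f := ((hr.dvd_mul).1 hdvd).resolve_left fun h => by
    have := (Nat.prime_dvd_prime_iff_eq hr Nat.prime_two).1 h
    obtain ⟨j, hj⟩ := hro
    omega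
  have h2 : 2 * f / r = 2 * (f / r) := Nat.mul_div_assoc 2 hrf
  rw [h2] at hcard
  have hk := H55.Psu.inndiag_conjPu k
  have hcard' : Nat.card (H55.fixF σ) = (p ^ (f / r)) ^ 2 := by rw [hcard, ← pow_mul, mul_comm]
  have hq' : q = (p ^ (f / r)) ^ orderOf σ := by rw [hσx, ← pow_mul, Nat.div_mul_cancel hrf, hq]
  have hF₀' : Fintype.card F₀ = (p ^ (f / r)) ^ 2 := by rw [hF₀, ← pow_mul, mul_comm]
  obtain ⟨e⟩ := H55.nonempty_ringEquiv_fixF σ (by rw [hF₀, hcard] : Fintype.card F₀ = _)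
  set φ : F₀ →+* F := (H55.fixF σ).subtype.comp e.toRingHom with hφ
  have hf' : ∀ y : F₀, φ y ^ q = φ (y ^ (p ^ (f / r))) := fun y => by
    rw [← map_pow, hq', H55.Psu.pow_q_eq_pow_base hF₀' hodd]
  have hfix : ∀ y : F, σ y = y ↔ y ∈ φ.range := fun y =>
    ⟨fun h => ⟨e.symm ⟨y, h⟩, by simp [hφ]⟩, by rintro ⟨z, rfl⟩; exact (e z).2⟩
  refine ⟨hrf, ?_, ?_⟩
  · obtain ⟨e₁⟩ := H55.centralizer_conj_equiv (Cfsg.inndiagPSU n F q) hk (H55.Psu.fieldPu σ)
    obtain ⟨e₂⟩ := H55.Psu.centralizer_fieldPu hF hF₀' φ hf' hfix hodd hcard' hq' hn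
    exact ⟨e₁.trans e₂⟩
  · rw [H55.splitClassCount_conj _ _ hk,
      H55.Psu.splitClassCount_fieldPu hF hF₀' φ hf' hfix hodd hcard' hq' hn]

end Cfsg.Agent.S2705
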