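import Cfsg.Statements.S2709
import Cfsg.Agent.H55.PSUGraphCount

set_option autoImplicit false
open Cfsg

namespace Cfsg.Agent.S2709

/-- Let T = PSU_n(q) be simple (n ≥ 3, (n,q) ≠ (3,2), q = p^f), realised over the field F with q² elements, G = Inndiag(T) the image of PGU_n(q), and γ an involutory graph automorphism of T. The G-class of γ is the union of exactly c T-classes, where: if n is even and q is odd, c = gcd(n/2, q + 1) when C_G(γ) is isomorphic to PGSp_n(F₀) for a field F₀ with q elements (symplectic type) and c = gcd(n, q + 1)/2 otherwise; and c = gcd(n, q + 1) when n is odd or q is even. -/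
theorem result {F : Type*} [Field F] [Fintype F] {p f q : ℕ} [Fact p.Prime] (hq : q = p ^ f) (hf : 1 ≤ f) (hF : Fintype.card F = q ^ 2) {n : ℕ} (hn : 3 ≤ n) (hs : ¬ (n = 3 ∧ q = 2)) (F₀ : Type*) [Field F₀] [Fintype F₀] (hF₀ : Fintype.card F₀ = q) (γ : MulAut (Cfsg.PSU n F q)) (hγ : Cfsg.IsGraphAutClassPSU γ) (hγ2 : orderOf γ = 2) :
    ((Even n ∧ Odd q ∧ Nonempty (↥(Cfsg.inndiagPSU n F q ⊓ Subgroup.centralizer {γ}) ≃* Cfsg.PGSp (n / 2) F₀)) → Cfsg.splitClassCount (Cfsg.inndiagPSU n F q) (Cfsg.Inn (Cfsg.PSU n F q)) γ = Nat.gcd (n / 2) (q + 1)) ∧ ((Even n ∧ Odd q ∧ ¬ Nonempty (↥(Cfsg.inndiagPSU n F q ⊓ Subgroup.centralizer {γ}) ≃* Cfsg.PGSp (n / 2) F₀)) → Cfsg.splitClassCount (Cfsg.inndiagPSU n F q) (Cfsg.Inn (Cfsg.PSU n F q)) γ = Nat.gcd n (q + 1) / 2) ∧ (¬ (Even n ∧ Odd q) → Cfsg.splitClassCount (Cfsg.inndiagPSU n F q) (Cfsg.Inn (Cfsg.PSU n F q)) γ = Nat.gcd n (q + 1)) := by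
  obtain ⟨g, hg⟩ := H55.Psu.exists_hom_fix hF hF₀
  obtain ⟨S, hS⟩ := (H55.Psu.psuGraphModel hF hg hn).exists_rep γ hγ hγ2
  have hS' := hS
  obtain ⟨hshape, hd, A, rfl, ⟨r⟩⟩ := hS'
  rw [H55.Psu.splitClassCount_psu hF hn]
  refine ⟨?_, ?_, ?_⟩
  · rintro ⟨⟨m, rfl⟩, hodd, hC⟩
    have hm : (m + m) / 2 = m := by omega
    rw [hm] at hC
    have hsk := ((H55.Psu.psuGraphModel hF hg hn).skew_of_pgsp (hF₀.symm ▸ hodd) (m := m) (by omega) (by omega) hS).1 hC
    rw [H55.Psu.det_pre_skew hF hg hn r hd (m := m) (by omega)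
      (H55.congr_J_of_skew (hF₀.symm ▸ hodd) hsk hd (m := m) (by simp; omega)), H55.Psu.index_powU hF, hm]
  · rintro ⟨⟨m, rfl⟩, hodd, hC⟩
    have hm : (m + m) / 2 = m := by omega
    rw [hm] at hC
    have ho : Odd (Fintype.card F₀) := hF₀.symm ▸ hodd
    have hsy := hshape.resolve_right fun h' =>
      hC (((H55.Psu.psuGraphModel hF hg hn).skew_of_pgsp ho (m := m) (by omega) (by omega) hS).2 h')
    rw [H55.Psu.det_pre_symm hF hg ho hn r hsy hd (m := m) (by omega),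
      H55.Psu.index_powU_sup hF (fun h => H55.two_ne_of_odd ho (g.injective (by simpa [map_ofNat] using h))),
      two_mul]
  · intro hne
    have hcase : Odd n ∨ CharP F₀ 2 := by
      rcases Nat.even_or_odd n with he | ho
      · refine Or.inr ?_
        have h2 : ringChar F₀ = 2 := FiniteField.even_card_iff_char_two.2
          (Nat.even_iff.1 (hF₀.symm ▸ Nat.not_odd_iff_even.1 fun h' => hne ⟨he, h'⟩))
        exact h2 ▸ ringChar.charP F₀
      · exact Or.inl ho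
    rw [H55.Psu.det_pre_root hF hg hn r hd hcase, H55.Psu.index_powU hF]

end Cfsg.Agent.S2709
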