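import Cfsg.Statements.S2710
import Cfsg.Agent.H55.PSUGraphCount

set_option autoImplicit false
open Cfsg

namespace Cfsg.Agent.S2710

/-- Let T = PSU_n(q) with n ≥ 4 divisible by 4 (n = 2m) and q odd, realised over the field F with q² elements, G = Inndiag(T) the image of PGU_n(q), and φ the standard field automorphism of T attached to the q-th power map of F (it induces inverse-transpose on the unitary matrices and is a graph automorphism). Its centralizer in G is isomorphic to the projective conformal orthogonal group of the plus-type form Σ xᵢ yᵢ in dimension n over a field F₀ with q elements. (Dimensions n ≡ 2 (mod 4) are not covered.) -/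
theorem result {F : Type*} [Field F] [Fintype F] {q : ℕ} (hodd : Odd q) (hF : Fintype.card F = q ^ 2) {n m : ℕ} (hm : 2 ≤ m) (hnm : n = 2 * m) (h4 : 4 ∣ n) (F₀ : Type*) [Field F₀] [Fintype F₀] (hF₀ : Fintype.card F₀ = q) (σ : F ≃+* F) (hσ : ∀ a : F, σ a = a ^ q) (φ : MulAut (Cfsg.PSU n F q)) (hφ : Cfsg.IsFieldAutPSUOf σ φ) :
    Nonempty (↥(Cfsg.inndiagPSU n F q ⊓ Subgroup.centralizer {φ}) ≃* Cfsg.PGO F₀ (Cfsg.quadFormPlus m F₀)) := by
  obtain ⟨g, hg⟩ := H55.Psu.exists_hom_fix hF hF₀
  obtain rfl : σ = H55.Psu.qEquiv hF := RingEquiv.ext hσ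
  obtain rfl : φ = H55.Psu.fieldPu (H55.Psu.qEquiv hF) := H55.Psu.isFieldAutOf_iff.1 hφ
  have ho : Odd (Fintype.card F₀) := hF₀.symm ▸ hodd
  let r : H55.Psu.URep hF g (H50.guMat (1 : Cfsg.GU n F q)) (1 : Matrix (Fin n) (Fin n) F₀) :=
    { a := 1, θ := 1, k := 1, ha := one_ne_zero, hθ := one_ne_zero,
      coc := by
        rw [one_smul, Units.val_one, Matrix.map_one _ (map_zero _) (map_one _), Matrix.mul_one]
        rfl
      gram := by
        rw [one_smul, Units.val_one, H51.adj_one, Matrix.mul_one, Matrix.map_one _ (map_zero _) (map_one _)] }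
  obtain ⟨e⟩ := H55.Psu.cent_graphU hF hg (show 3 ≤ n by omega) r (by simp)
  rw [map_one, one_mul] at e
  have hev : Even m := by
    obtain ⟨j, hj⟩ := h4
    exact ⟨j, by omega⟩
  obtain ⟨e'⟩ := H55.simG_equiv (H55.congr_of_det (S := (1 : Matrix (Fin n) (Fin n) F₀)) ho Matrix.transpose_one (H55.gPlus_symm m)
    (by simp) (H55.det_gPlus_ne m) (by simp [hnm]; omega)
    (by rw [Matrix.det_one, one_mul, H55.det_gPlus, hev.neg_one_pow]; exact IsSquare.one))
  obtain ⟨e''⟩ := H55.pgo_plus_equiv (H55.two_ne_of_odd ho) m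
  exact ⟨e.trans (e'.trans e'')⟩

end Cfsg.Agent.S2710
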