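import Cfsg.Statements.S2711
import Cfsg.Agent.H55.PSUFieldCount

set_option autoImplicit false
open Cfsg

namespace Cfsg.Agent.S2711

/-- Let T = PSU_n(q) be simple (n ≥ 3, (n,q) ≠ (3,2)), realised over the field F with q² elements, and let x be a field automorphism of T (conjugate to a standard field automorphism of odd order) of prime order r. Then an element y of the coset Inndiag(T)·x (y = δ x with δ in the image of PGU_n(q)) has order r if and only if y is conjugate to x by an element of Inndiag(T). (T has no graph-field automorphisms.) -/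
theorem result {F : Type*} [Field F] [Fintype F] {p f q : ℕ} [Fact p.Prime] (hq : q = p ^ f) (hf : 1 ≤ f) (hF : Fintype.card F = q ^ 2) {n : ℕ} (hn : 3 ≤ n) (hs : ¬ (n = 3 ∧ q = 2)) (x δ : MulAut (Cfsg.PSU n F q)) (hx : Cfsg.IsFieldAutClassPSU x) {r : ℕ} (hr : r.Prime) (hxr : orderOf x = r) (hδ : δ ∈ Cfsg.inndiagPSU n F q) :
    orderOf (δ * x) = r ↔ Cfsg.IsConjUnder (Cfsg.inndiagPSU n F q) x (δ * x) := by
  obtain ⟨σ, k, hodd, hσx, hxk⟩ := H55.Psu.fieldClass_normal hF hn hs hx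
  rw [hxr] at hσx
  have hcF : Nat.card F = p ^ (2 * f) := by
    rw [Nat.card_eq_fintype_card, hF, hq, ← pow_mul, mul_comm]
  obtain ⟨hdvd, hcard⟩ := H55.card_fixF_eq (Fact.out : p.Prime) hcF σ
  rw [hσx] at hdvd hcard
  have hrf : r ∣ f := ((hr.dvd_mul).1 hdvd).resolve_left fun h => by
    have := (Nat.prime_dvd_prime_iff_eq hr Nat.prime_two).1 h
    obtain ⟨j, hj⟩ := hσx ▸ hodd
    omega
  have h2 : 2 * f / r = 2 * (f / r) := Nat.mul_div_assoc 2 hrf
  rw [h2] at hcard
  have hcard' : Nat.card (H55.fixF σ) = (p ^ (f / r)) ^ 2 := by rw [hcard, ← pow_mul, mul_comm]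
  have hq' : q = (p ^ (f / r)) ^ orderOf σ := by rw [hσx, ← pow_mul, Nat.div_mul_cancel hrf, hq]
  constructor
  · intro h
    rw [H55.Psu.inndiagPSU_eq_range] at hδ
    obtain ⟨d, rfl⟩ := hδ
    have e : H55.Psu.conjPu d * x =
        H55.Psu.conjPu (d * k * H55.Psu.mapGU σ k⁻¹) * H55.Psu.fieldPu σ := by
      rw [hxk, map_mul, map_mul, ← map_inv H55.Psu.conjPu k]
      simp only [mul_assoc]
      rw [H55.Psu.fieldPu_conjPu]
    obtain ⟨l, hl⟩ := H55.Psu.coset_conj hF hn hodd hcard' hq'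
      (g := d * k * H55.Psu.mapGU σ k⁻¹) (by rw [hσx, ← e, ← h, pow_orderOf_eq_one])
    refine ⟨H55.Psu.conjPu (l * k⁻¹), H55.Psu.inndiag_conjPu _, ?_⟩
    rw [e, hl, hxk, map_mul, map_inv]
    group
  · rintro ⟨h, -, e⟩
    rw [e, ← hxr]
    exact orderOf_injective (MulAut.conj h).toMonoidHom (MulEquiv.injective _) x

end Cfsg.Agent.S2711
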