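import Cfsg.Statements.S2713
import Cfsg.Agent.H55.PSpField

set_option autoImplicit false
open Cfsg

namespace Cfsg.Agent.S2713

/-- Let T = PSp_{2m}(F) be simple over a finite field (m ≥ 2, (2m, |F|) ≠ (4, 2)) and let x be a field automorphism of T of prime order r. Then an element y of the coset Inndiag(T)·x (y = δ x with δ in the image of the projective conformal symplectic group) has order r if and only if y is conjugate to x by an element of Inndiag(T). -/
theorem result {F : Type*} [Field F] [Fintype F] {m : ℕ} (hm : 2 ≤ m) (hs : m = 2 → 3 ≤ Fintype.card F) (x δ : MulAut (Cfsg.PSp m F)) (hx : Cfsg.IsFieldAutClassPSp x) {r : ℕ} (hr : r.Prime) (hxr : orderOf x = r) (hδ : δ ∈ Cfsg.inndiagPSp m F) :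
    orderOf (δ * x) = r ↔ Cfsg.IsConjUnder (Cfsg.inndiagPSp m F) x (δ * x) := by
  obtain ⟨σ, k, hσr, hxk⟩ := H55.Psp.fieldClass_normal hm hx hr hxr
  constructor
  · intro h
    rw [H55.Psp.inndiagPSp_eq_range] at hδ
    obtain ⟨d, rfl⟩ := hδ
    have e : H55.Psp.conjPs d * x =
        H55.Psp.conjPs (d * k * H55.Psp.mapGSp σ k⁻¹) * H55.Psp.fieldPs σ := by
      rw [hxk, map_mul, map_mul, ← map_inv H55.Psp.conjPs k]
      simp only [mul_assoc]
      rw [H55.Psp.fieldPs_conjPs]
    obtain ⟨l, hl⟩ := H55.Psp.coset_conj_PSp (m := m) (by omega) (σ := σ)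
      (g := d * k * H55.Psp.mapGSp σ k⁻¹) (by rw [hσr, ← e, ← h, pow_orderOf_eq_one])
    refine ⟨H55.Psp.conjPs (l * k⁻¹), ?_, ?_⟩
    · rw [H55.Psp.inndiagPSp_eq_range]; exact ⟨_, rfl⟩
    · rw [e, hl, hxk, map_mul, map_inv]
      group
  · rintro ⟨h, -, e⟩
    rw [e, ← hxr]
    exact orderOf_injective (MulAut.conj h).toMonoidHom (MulEquiv.injective _) x

end Cfsg.Agent.S2713
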