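import Cfsg.Statements.S2730
import Cfsg.Agent.H48.LocalBalance
-- import your own Cfsg.Agent.* helpers here

set_option autoImplicit false
open Cfsg

namespace Cfsg.Agent.S2730

/-- A criterion for the failure of local balance in almost simple groups whose socle is a projective symplectic group PSp_{2m}(F) (m ≥ 2, (2m, |F|) ≠ (4, 2)). Let F be a finite field of characteristic r and K the (simple) group in question; let A be a group of automorphisms of K containing all inner automorphisms, and x ∈ A an automorphism of prime order p ≠ r that is not inner-diagonal (not induced by a conformal symplectic matrix). Then the largest normal subgroup of C_A(x) of order prime to p is nontrivial if and only if x is a field automorphism of K (conjugate under Aut(K) to a non-identity standard field automorphism) and p does not divide the number of fixed points of x on K. -/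
theorem result {F : Type*} [Field F] [Fintype F] {r : ℕ} [Fact r.Prime] [CharP F r] {m : ℕ} (hm : 2 ≤ m) (hs : m = 2 → 3 ≤ Fintype.card F) (hK : IsSimpleGroup (Cfsg.PSp m F)) (A : Subgroup (MulAut (Cfsg.PSp m F))) (hinn : ∀ k : Cfsg.PSp m F, MulAut.conj k ∈ A) {p : ℕ} [Fact p.Prime] (hpr : p ≠ r) (x : MulAut (Cfsg.PSp m F)) (hxA : x ∈ A) (hord : orderOf x = p) (hnot : ¬ Cfsg.IsInnerDiagonalAutPSp x) :
    Cfsg.pPrimeCore p ↥(A ⊓ Subgroup.centralizer {x}) ≠ ⊥ ↔ (Cfsg.IsFieldAutClassPSp x ∧ Nat.Coprime p (Nat.card ↥(MonoidHom.eqLocus x.toMonoidHom (MonoidHom.id (Cfsg.PSp m F))))) := by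
  classical
  obtain ⟨σ, k, hσ, rfl⟩ := H48.Balance.exists_normal_form hm hpr x hord hnot
  set a := H55.Psp.conjPs k with ha
  set φ : MulAut (Cfsg.PSp m F) := H55.Psp.fieldPs σ with hφ
  have hclass : Cfsg.IsFieldAutClassPSp (a * φ * a⁻¹) := by
    refine ⟨a⁻¹, σ, fun h => ?_, H55.Psp.isStdField_iff.2 (by rw [hφ]; group)⟩
    have h1 : orderOf σ = 1 := by rw [h]; exact orderOf_one
    exact (Fact.out : p.Prime).ne_one (hσ ▸ h1)
  rw [and_iff_right hclass]
  set A' := A.map (MulAut.conj a⁻¹).toMonoidHom with hA'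
  have hinn' : ∀ y : Cfsg.PSp m F, MulAut.conj y ∈ A' := fun y => ⟨MulAut.conj (a y), hinn _, by
    show a⁻¹ * MulAut.conj (a y) * a⁻¹⁻¹ = _
    rw [H48.Balance.conjPs_conj, show a⁻¹ (a y) = y from a.symm_apply_apply y]⟩
  have hC : (A ⊓ Subgroup.centralizer {a * φ * a⁻¹}).map (MulAut.conj a⁻¹).toMonoidHom
      = A' ⊓ Subgroup.centralizer {φ} := by
    rw [Subgroup.map_inf _ _ _ (MulEquiv.injective _)]
    congr 1
    ext y
    rw [Subgroup.mem_map, Subgroup.mem_centralizer_singleton_iff]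
    constructor
    · rintro ⟨z, hz, rfl⟩
      rw [Subgroup.mem_centralizer_singleton_iff] at hz
      show a⁻¹ * z * a⁻¹⁻¹ * φ = φ * (a⁻¹ * z * a⁻¹⁻¹)
      calc a⁻¹ * z * a⁻¹⁻¹ * φ = a⁻¹ * (z * (a * φ * a⁻¹)) * a := by group
        _ = a⁻¹ * ((a * φ * a⁻¹) * z) * a := by rw [hz]
        _ = φ * (a⁻¹ * z * a⁻¹⁻¹) := by group
    · intro hy
      refine ⟨a * y * a⁻¹, Subgroup.mem_centralizer_singleton_iff.2 ?_, ?_⟩
      · calc a * y * a⁻¹ * (a * φ * a⁻¹) = a * (y * φ) * a⁻¹ := by group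
          _ = a * (φ * y) * a⁻¹ := by rw [hy]
          _ = a * φ * a⁻¹ * (a * y * a⁻¹) := by group
      · show a⁻¹ * (a * y * a⁻¹) * a⁻¹⁻¹ = y
        group
  let E : ↥(A ⊓ Subgroup.centralizer {a * φ * a⁻¹}) ≃* ↥(A' ⊓ Subgroup.centralizer {φ}) :=
    (Subgroup.equivMapOfInjective _ _ (MulEquiv.injective _)).trans (MulEquiv.subgroupCongr hC)
  have hcore : Cfsg.pPrimeCore p ↥(A ⊓ Subgroup.centralizer {a * φ * a⁻¹}) ≠ ⊥ ↔
      Cfsg.pPrimeCore p ↥(A' ⊓ Subgroup.centralizer {φ}) ≠ ⊥ := by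
    rw [← H10.map_pPrimeCore_equiv E, ne_eq, ne_eq, Subgroup.map_eq_bot_iff_of_injective _ E.injective]
  have hloc : Nat.card ↥(MonoidHom.eqLocus (a * φ * a⁻¹).toMonoidHom (MonoidHom.id (Cfsg.PSp m F)))
      = Nat.card ↥(MonoidHom.eqLocus φ.toMonoidHom (MonoidHom.id (Cfsg.PSp m F))) := by
    refine Nat.card_congr (Equiv.subtypeEquiv (a.symm.toEquiv) fun y => ?_)
    show a (φ (a⁻¹ y)) = y ↔ φ (a.symm y) = a.symm y
    rw [show a⁻¹ y = a.symm y from rfl]
    exact (MulEquiv.eq_symm_apply a).symm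
  rw [hcore, hloc]
  exact H48.Balance.core_ne_bot_iff hm hs hpr hσ A' hinn'

end Cfsg.Agent.S2730
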