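import Cfsg.Statements.S2738
import Cfsg.Agent.H42.PowResidue

set_option autoImplicit false
open Cfsg

namespace Cfsg.Agent.S2738

open Matrix in
/-- The special linear group SL(3, 4) has centre of order 3 and does not split over it: no subgroup is a complement to the centre (so SL(3, 4) is a non-split central extension of PSL(3, 4) by a group of order 3). -/
theorem result (F : Type*) [Field F] [Fintype F] (hF : Fintype.card F = 4) : Nat.card ↥(Subgroup.center (Matrix.SpecialLinearGroup (Fin 3) F)) = 3 ∧ ¬ ∃ K : Subgroup (Matrix.SpecialLinearGroup (Fin 3) F), Subgroup.IsComplement' (Subgroup.center (Matrix.SpecialLinearGroup (Fin 3) F)) K := by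
  have hcard : Nat.card Fˣ = 3 := by rw [H42.natCard_units_field, hF]
  have h3 : ∀ c : Fˣ, c ^ 3 = 1 := fun c => by rw [← hcard]; exact pow_card_eq_one'
  have hcentre : Nat.card ↥(Subgroup.center (SpecialLinearGroup (Fin 3) F)) = 3 := by
    rw [Nat.card_congr SpecialLinearGroup.center_equiv_rootsOfUnity.toEquiv]
    have htop : rootsOfUnity (max (Fintype.card (Fin 3)) 1) F = ⊤ := by
      rw [eq_top_iff]
      intro c _
      simp [mem_rootsOfUnity, h3]
    simp only [Fintype.card_fin] at htop ⊢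
    rw [htop, Subgroup.card_top, hcard]
  refine ⟨hcentre, ?_⟩
  rintro ⟨K, hK⟩
  set Z := Subgroup.center (SpecialLinearGroup (Fin 3) F) with hZ
  have hcomm : ∀ x y : SpecialLinearGroup (Fin 3) F, x * y * x⁻¹ * y⁻¹ ∈ K := by
    intro x y
    obtain ⟨⟨⟨z, hz⟩, ⟨k, hk⟩⟩, rfl, -⟩ := hK.existsUnique x
    obtain ⟨⟨⟨w, hw⟩, ⟨l, hl⟩⟩, rfl, -⟩ := hK.existsUnique y
    simp only [SetLike.mem_coe, hZ, Subgroup.mem_center_iff] at hz hw
    simp only [SetLike.mem_coe] at hk hl ⊢
    have : z * k * (w * l) * (z * k)⁻¹ * (w * l)⁻¹ = k * l * k⁻¹ * l⁻¹ := by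
      have cz : ∀ g, Commute z g := fun g => (hz g).symm
      have cw : ∀ g, Commute w g := fun g => (hw g).symm
      calc z * k * (w * l) * (z * k)⁻¹ * (w * l)⁻¹
          = z * ((k * w) * l * k⁻¹) * z⁻¹ * (l⁻¹ * w⁻¹) := by group
        _ = ((k * w) * l * k⁻¹) * z * z⁻¹ * (l⁻¹ * w⁻¹) := by rw [(cz _).eq]
        _ = w * (k * l * k⁻¹ * l⁻¹) * w⁻¹ := by rw [← (cw k).eq]; group
        _ = k * l * k⁻¹ * l⁻¹ := by rw [(cw _).eq]; group
    rw [this]
    exact K.mul_mem (K.mul_mem (K.mul_mem hk hl) (K.inv_mem hk)) (K.inv_mem hl)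
  obtain ⟨ω, hω⟩ : ∃ ω : Fˣ, ω ≠ 1 := by
    haveI : Nontrivial Fˣ := Finite.one_lt_card_iff_nontrivial.1 (by rw [hcard]; norm_num)
    exact exists_ne 1
  have hω3 : (ω : F) * ω * ω = 1 := by
    have := congrArg Units.val (h3 ω)
    simpa [pow_succ] using this
  let a : SpecialLinearGroup (Fin 3) F :=
    ⟨Matrix.diagonal ![1, (ω : F), ω * ω], by
      simp [Matrix.det_diagonal, Fin.prod_univ_three]; linear_combination hω3⟩
  let b : SpecialLinearGroup (Fin 3) F :=
    ⟨!![0, 0, 1; 1, 0, 0; 0, 1, 0], by simp [Matrix.det_fin_three]⟩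
  let z : SpecialLinearGroup (Fin 3) F :=
    ⟨Matrix.diagonal fun _ => (ω : F), by
      simp [Matrix.det_diagonal, Fin.prod_univ_three]; linear_combination hω3⟩
  have hzc : z ∈ Z := by
    rw [hZ, Subgroup.mem_center_iff]
    intro g
    apply Subtype.ext
    change (g : Matrix (Fin 3) (Fin 3) F) * Matrix.diagonal (fun _ => (ω : F)) =
      Matrix.diagonal (fun _ => (ω : F)) * (g : Matrix (Fin 3) (Fin 3) F)
    ext i j
    simp [mul_comm]
  have hab : a * b = z * (b * a) := by
    apply Subtype.ext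
    change Matrix.diagonal ![1, (ω : F), ω * ω] * !![0, 0, 1; 1, 0, 0; 0, 1, 0] =
      Matrix.diagonal (fun _ => (ω : F)) * (!![0, 0, 1; 1, 0, 0; 0, 1, 0] * Matrix.diagonal ![1, (ω : F), ω * ω])
    ext i j
    rw [Matrix.diagonal_mul, Matrix.diagonal_mul, Matrix.mul_diagonal]
    fin_cases i <;> fin_cases j <;> simp <;> linear_combination -hω3
  have hzK : z ∈ K := by
    have : a * b * a⁻¹ * b⁻¹ = z := by rw [hab]; group
    rw [← this]; exact hcomm a b
  have hz1 : z ≠ 1 := by
    intro h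
    have := congrFun (congrFun (congrArg Subtype.val h) 0) 0
    simp [z] at this
    exact hω this
  have := hK.disjoint
  rw [Subgroup.disjoint_def] at this
  exact hz1 (this hzc hzK)

end Cfsg.Agent.S2738
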