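import Cfsg.Statements.S2739
import Cfsg.Agent.H42.PGLPrimeOrder

set_option autoImplicit false
set_option linter.style.haveILetI false
open scoped Pointwise MatrixGroups
open Cfsg

namespace Cfsg.Agent.S2739

variable {F : Type*} [Field F]

theorem cube_eq_one [Fintype F] (hF : Fintype.card F = 4) (c : Fˣ) : c ^ 3 = 1 := by
  classical
  have h : Fintype.card Fˣ = 3 := by
    rw [← Nat.card_eq_fintype_card, Nat.card_units, Nat.card_eq_fintype_card, hF]
  rw [← h]; exact pow_card_eq_one

/-- standard element -/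
theorem exists_conj_diag [Fintype F] (hF : Fintype.card F = 4) (ω : Fˣ) (hω : ω ≠ 1)
    (x : Matrix.SpecialLinearGroup (Fin 3) F) (hx : x ^ 3 ∈ Subgroup.center (Matrix.SpecialLinearGroup (Fin 3) F))
    (hx1 : x ∉ Subgroup.center (Matrix.SpecialLinearGroup (Fin 3) F)) :
    ∃ Q : Matrix.SpecialLinearGroup (Fin 3) F,
      (x : Matrix (Fin 3) (Fin 3) F) = (Q : Matrix (Fin 3) (Fin 3) F) * Matrix.diagonal ![1, (ω : F), (ω : F) ^ 2] * ((Q⁻¹ : Matrix.SpecialLinearGroup (Fin 3) F) : Matrix (Fin 3) (Fin 3) F) := by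
  classical
  obtain ⟨c, hc, hcx⟩ := Matrix.SpecialLinearGroup.mem_center_iff.1 hx
  have hc0 : c ≠ 0 := by
    rintro rfl; simp at hc
  have hgl : ((Matrix.SpecialLinearGroup.toGL x : GL (Fin 3) F) : Matrix (Fin 3) (Fin 3) F) ^ 3 = c • 1 := by
    have h1 : ((Matrix.SpecialLinearGroup.toGL x : GL (Fin 3) F) : Matrix (Fin 3) (Fin 3) F) = x.1 := rfl
    rw [h1, ← Matrix.SpecialLinearGroup.coe_pow, ← hcx]
    simp [Matrix.smul_one_eq_diagonal]
  by_cases hc1 : c = 1
  · subst hc1
    have hg : (Matrix.SpecialLinearGroup.toGL x : GL (Fin 3) F) ^ 3 = 1 := by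
      apply Units.ext
      rw [Units.val_pow_eq_pow_val, hgl, one_smul, Units.val_one]
    obtain ⟨P, f, hPf⟩ := H42.exists_diagonalize Nat.prime_three (by rw [hF]) _ hg
    set d : Fin 3 → Fˣ := fun i => (f i : Fˣ) with hd
    have hdet : d 0 * d 1 * d 2 = 1 := by
      have h1 := congrArg (fun g : GL (Fin 3) F => Matrix.det (g : Matrix (Fin 3) (Fin 3) F)) hPf
      simp only [Units.val_mul, Matrix.det_units_conj, H42.coe_diagGL, Matrix.det_diagonal,
        Fin.prod_univ_three] at h1
      apply Units.ext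
      have h2 : ((Matrix.SpecialLinearGroup.toGL x : GL (Fin 3) F) : Matrix (Fin 3) (Fin 3) F).det = 1 := x.2
      rw [h2] at h1
      simpa using h1.symm
    have hcases : ∀ a : Fˣ, a = 1 ∨ a = ω ∨ a = ω ^ 2 := by
      intro a
      have ho : orderOf ω = 3 := orderOf_eq_prime (hp := ⟨Nat.prime_three⟩) (cube_eq_one hF ω) hω
      have hcard : Nat.card Fˣ = 3 := by rw [Nat.card_units, Nat.card_eq_fintype_card, hF]
      have htop : Subgroup.zpowers ω = ⊤ := Subgroup.eq_top_of_card_eq _ (by rw [Nat.card_zpowers, ho, hcard])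
      have ha : a ∈ Subgroup.zpowers ω := by rw [htop]; trivial
      rw [← mem_powers_iff_mem_zpowers] at ha
      obtain ⟨k, rfl⟩ := ha
      change ω ^ k = 1 ∨ ω ^ k = ω ∨ ω ^ k = ω ^ 2
      rw [← pow_mod_orderOf, ho]
      have := Nat.mod_lt k (show 3 > 0 by norm_num)
      interval_cases (k % 3) <;> simp
    have hω3 : ω * (ω * ω) = 1 := by rw [← cube_eq_one hF ω, pow_three]
    have hω2 : ω ^ 2 ≠ ω := fun h => hω (by rw [pow_two] at h; exact mul_left_cancel (a := ω) (by rw [h, mul_one]))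
    have hω21 : ω ^ 2 ≠ 1 := fun h => hω (by rw [← hω3, ← pow_two, h, mul_one])
    have hmul : (Finset.univ : Finset (Fin 3)).val.map ![1, ω, ω ^ 2] = Finset.univ.val.map d := by
      have hnot : ¬ (d 0 = d 1 ∧ d 1 = d 2) := by
        rintro ⟨h01, h12⟩
        apply hx1
        rw [Matrix.SpecialLinearGroup.mem_center_iff]
        refine ⟨(d 0 : F), ?_, ?_⟩
        · rw [Fintype.card_fin, ← Units.val_pow_eq_pow_val, cube_eq_one hF, Units.val_one]
        · have h1 : ((Matrix.SpecialLinearGroup.toGL x : GL (Fin 3) F) : Matrix (Fin 3) (Fin 3) F) = x.1 := rfl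
          rw [← h1, hPf]
          have h2 : H42.diagGL d = Matrix.GeneralLinearGroup.scalar (Fin 3) (d 0) := by
            apply Units.ext
            rw [H42.coe_diagGL, H42.coe_scalar_gl, Matrix.smul_one_eq_diagonal]
            congr 1; funext i
            fin_cases i <;> simp [h01, h12]
          rw [h2]
          have h3 : Commute (Matrix.GeneralLinearGroup.scalar (Fin 3) (d 0)) P :=
            Units.ext (Matrix.scalar_commute _ (fun y => Commute.all _ y) _).eq
          rw [← h3.eq, mul_inv_cancel_right, H42.coe_scalar_gl, Matrix.smul_one_eq_diagonal]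
          rfl
      have hinj : Function.Injective d := by
        have h3 := cube_eq_one hF
        have e01 : d 0 = d 1 → False := fun h => hnot ⟨h, mul_left_cancel (a := d 0 * d 1)
          (by rw [hdet, ← h, ← pow_two, ← pow_succ, h3])⟩
        have e12 : d 1 = d 2 → False := fun h => hnot ⟨mul_right_cancel (b := d 1 * d 2)
          (by rw [← mul_assoc, hdet, ← h, ← pow_two, ← pow_succ', h3]), h⟩
        have e02 : d 0 = d 2 → False := fun h => e01 (mul_left_cancel (a := d 0 * d 0)
          (by rw [← pow_two, ← pow_succ, h3, pow_two, mul_assoc, mul_comm (d 0) (d 1), ← mul_assoc]; nth_rewrite 2 [h]; exact hdet.symm))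
        intro i j hij
        fin_cases i <;> fin_cases j
        all_goals first | rfl | exact (e01 hij).elim | exact (e01 hij.symm).elim | exact (e12 hij).elim | exact (e12 hij.symm).elim | exact (e02 hij).elim | exact (e02 hij.symm).elim
      have hinj2 : Function.Injective ![1, ω, ω ^ 2] := by
        intro i j hij
        fin_cases i <;> fin_cases j <;> first | rfl | (exfalso; revert hij; simp [hω, hω2, hω21, hω.symm, hω2.symm, hω21.symm])
      have hc3 : Fintype.card Fˣ = Fintype.card (Fin 3) := by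
        rw [← Nat.card_eq_fintype_card, Nat.card_units, Nat.card_eq_fintype_card, hF, Fintype.card_fin]
      have huniv : ∀ e : Fin 3 → Fˣ, Function.Injective e → Finset.univ.val.map e = Finset.univ.val := by
        intro e he
        have hb := (Fintype.bijective_iff_injective_and_card e).2 ⟨he, hc3.symm⟩
        exact Finset.map_univ_equiv (Equiv.ofBijective e hb) ▸ rfl
      rw [huniv _ hinj, huniv _ hinj2]
    obtain ⟨R, hR⟩ := H42.diagGL_conj_of_map_eq _ _ hmul
    rw [hR] at hPf
    set t : Fˣ := (Matrix.GeneralLinearGroup.det (P * R⁻¹))⁻¹ with ht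
    set T := H42.diagGL ![t, 1, 1] with hT
    set Qg := P * R⁻¹ * T with hQg
    have hQdet : (Qg : Matrix (Fin 3) (Fin 3) F).det = 1 := by
      rw [hQg, Units.val_mul, Matrix.det_mul, hT, H42.coe_diagGL, Matrix.det_diagonal, Fin.prod_univ_three,
        ← Matrix.GeneralLinearGroup.val_det_apply]
      simp only [Matrix.cons_val_zero, Matrix.cons_val_one, Matrix.cons_val, Units.val_one, mul_one, ht,
        Units.mul_inv]
    have hcomm : T * H42.diagGL ![1, ω, ω ^ 2] = H42.diagGL ![1, ω, ω ^ 2] * T := by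
      apply Units.ext
      rw [Units.val_mul, Units.val_mul, hT, H42.coe_diagGL, H42.coe_diagGL, Matrix.diagonal_mul_diagonal,
        Matrix.diagonal_mul_diagonal]
      congr 1; funext i; exact mul_comm _ _
    refine ⟨⟨Qg, hQdet⟩, ?_⟩
    have h1 : ((Matrix.SpecialLinearGroup.toGL x : GL (Fin 3) F) : Matrix (Fin 3) (Fin 3) F) = x.1 := rfl
    rw [← h1, hPf]
    have h4 : P * (R⁻¹ * H42.diagGL ![1, ω, ω ^ 2] * R) * P⁻¹ = Qg * H42.diagGL ![1, ω, ω ^ 2] * Qg⁻¹ := by
      rw [hQg, mul_assoc (P * R⁻¹) T, hcomm]; group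
    rw [h4, Units.val_mul, Units.val_mul]
    congr 1
    · let Q' : Matrix.SpecialLinearGroup (Fin 3) F := ⟨Qg, hQdet⟩
      have h6 : Qg = Matrix.SpecialLinearGroup.toGL Q' := Units.ext rfl
      exact (congrArg (fun g : GL (Fin 3) F => ((g⁻¹ : GL (Fin 3) F) : Matrix (Fin 3) (Fin 3) F)) h6).trans (congrArg (fun g : GL (Fin 3) F => (g : Matrix (Fin 3) (Fin 3) F)) (map_inv Matrix.SpecialLinearGroup.toGL Q').symm)
  · exfalso
    have hl : ∀ y : F, y ^ 3 ≠ c := by
      intro y hy
      by_cases hy0 : y = 0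
      · subst hy0; exact hc0 (by simpa using hy.symm)
      · apply hc1
        have := congrArg Units.val (cube_eq_one hF (Units.mk0 y hy0))
        rw [Units.val_pow_eq_pow_val, Units.val_mk0, hy, Units.val_one] at this
        exact this
    have hM : (!![0,0,c;1,0,0;0,1,0] : Matrix (Fin 3) (Fin 3) F).det = c := by
      simp [Matrix.det_fin_three]
    obtain ⟨P, hP⟩ := (H42.dvd_and_conj_of_pow_eq Nat.prime_three hl _ hgl).2
      (Matrix.GeneralLinearGroup.mkOfDetNeZero !![0,0,c;1,0,0;0,1,0] (by rw [hM]; exact hc0)) (by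
        show (!![0,0,c;1,0,0;0,1,0] : Matrix (Fin 3) (Fin 3) F) ^ 3 = c • 1
        ext i j; fin_cases i <;> fin_cases j <;> simp [pow_three, Matrix.mul_apply, Fin.sum_univ_three])
    have h1 := congrArg (fun g : GL (Fin 3) F => Matrix.det (g : Matrix (Fin 3) (Fin 3) F)) hP
    simp only [Units.val_mul, Matrix.det_units_conj] at h1
    rw [show ((Matrix.SpecialLinearGroup.toGL x : GL (Fin 3) F) : Matrix (Fin 3) (Fin 3) F).det = 1 from x.2] at h1
    exact hc1 (hM.symm.trans h1)

/-- In the projective special linear group PSL(3, 4) all subgroups of order 3 are conjugate. -/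
theorem result (F : Type*) [Field F] [Fintype F] (hF : Fintype.card F = 4) (X Y : Subgroup (Matrix.ProjectiveSpecialLinearGroup (Fin 3) F)) (hX : Nat.card ↥X = 3) (hY : Nat.card ↥Y = 3) : ∃ g : Matrix.ProjectiveSpecialLinearGroup (Fin 3) F, MulAut.conj g • X = Y := by
  classical
  have hcard : Nat.card Fˣ = 3 := by rw [Nat.card_units, Nat.card_eq_fintype_card, hF]
  haveI : Nontrivial Fˣ := by rw [← Finite.one_lt_card_iff_nontrivial, hcard]; norm_num
  obtain ⟨ω, hω⟩ := exists_ne (1 : Fˣ)
  have gen : ∀ Z : Subgroup (Matrix.ProjectiveSpecialLinearGroup (Fin 3) F), Nat.card ↥Z = 3 →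
      ∃ z, Z = Subgroup.zpowers z ∧ orderOf z = 3 := by
    intro Z hZ
    haveI : Fact (Nat.Prime 3) := ⟨Nat.prime_three⟩
    haveI : Nontrivial Z := by rw [← Finite.one_lt_card_iff_nontrivial, hZ]; norm_num
    obtain ⟨z, hz⟩ := exists_ne (1 : Z)
    have hoz : orderOf (z : Matrix.ProjectiveSpecialLinearGroup (Fin 3) F) = 3 := by
      apply orderOf_eq_prime
      · have h := pow_card_eq_one' (x := z)
        rw [hZ] at h
        exact_mod_cast congrArg Subtype.val h
      · exact fun h => hz (Subtype.ext h)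
    refine ⟨z, (Subgroup.eq_of_le_of_card_ge ?_ ?_).symm, hoz⟩
    · exact Subgroup.zpowers_le.2 z.2
    · rw [Nat.card_zpowers, hoz, hZ]
  have conj : ∀ x y : Matrix.ProjectiveSpecialLinearGroup (Fin 3) F, orderOf x = 3 → orderOf y = 3 →
      ∃ g, g * x * g⁻¹ = y := by
    intro x y hx hy
    obtain ⟨x', rfl⟩ := QuotientGroup.mk_surjective x
    obtain ⟨y', rfl⟩ := QuotientGroup.mk_surjective y
    have hh : ∀ z : Matrix.SpecialLinearGroup (Fin 3) F,
        orderOf (QuotientGroup.mk z : Matrix.ProjectiveSpecialLinearGroup (Fin 3) F) = 3 →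
        z ^ 3 ∈ Subgroup.center _ ∧ z ∉ Subgroup.center _ := by
      intro z hz
      refine ⟨?_, ?_⟩
      · have h := pow_orderOf_eq_one (QuotientGroup.mk z : Matrix.ProjectiveSpecialLinearGroup (Fin 3) F)
        rw [hz] at h
        rw [← QuotientGroup.eq_one_iff, QuotientGroup.mk_pow]
        exact h
      · intro h
        rw [(QuotientGroup.eq_one_iff z).2 h, orderOf_one] at hz
        exact absurd hz (by norm_num)
    obtain ⟨Q, hQ⟩ := exists_conj_diag hF ω hω x' (hh x' hx).1 (hh x' hx).2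
    obtain ⟨R, hR⟩ := exists_conj_diag hF ω hω y' (hh y' hy).1 (hh y' hy).2
    refine ⟨QuotientGroup.mk (R * Q⁻¹), ?_⟩
    have : R * Q⁻¹ * x' * (R * Q⁻¹)⁻¹ = y' := by
      apply Subtype.ext
      show ((R * Q⁻¹ * x' * (R * Q⁻¹)⁻¹ : Matrix.SpecialLinearGroup (Fin 3) F) : Matrix (Fin 3) (Fin 3) F) = y'
      rw [hR, mul_inv_rev, inv_inv]
      simp only [Matrix.SpecialLinearGroup.coe_mul, hQ, mul_assoc]
      have e1 : ∀ M : Matrix (Fin 3) (Fin 3) F, ((Q⁻¹ : Matrix.SpecialLinearGroup (Fin 3) F) : Matrix (Fin 3) (Fin 3) F) * ((Q : Matrix (Fin 3) (Fin 3) F) * M) = M := by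
        intro M; rw [← mul_assoc, ← Matrix.SpecialLinearGroup.coe_mul, inv_mul_cancel, Matrix.SpecialLinearGroup.coe_one, one_mul]
      rw [e1, e1]
    rw [← this]; rfl
  obtain ⟨x, hXx, hx⟩ := gen X hX
  obtain ⟨y, hYy, hy⟩ := gen Y hY
  obtain ⟨g, hg⟩ := conj x y hx hy
  refine ⟨g, ?_⟩
  rw [hXx, hYy]
  exact (MonoidHom.map_zpowers (MulAut.conj g).toMonoidHom x).trans (congrArg _ hg)

end Cfsg.Agent.S2739
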