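import Cfsg.Statements.S2756
import Cfsg.Agent.S3861
import Cfsg.Agent.H4.RealZJ

set_option autoImplicit false
open Cfsg

namespace Cfsg.Agent.S2756

/-- For a finite group G the following are equivalent: (a) G has a normal Sylow 2-subgroup; (b) for every odd prime q dividing the order of G and every Sylow q-subgroup T, the normalizer of Z(J(T)) has a normal Sylow 2-subgroup; (c) for every odd prime q and every Sylow q-subgroup T, no nonidentity element of T is inverted by an element of the normalizer of Z(J(T)). Here J(T) is the Thompson subgroup generated by the abelian subgroups of T of largest order. Stated as the two equivalences (a) ⇔ (b) and (a) ⇔ (c). -/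
theorem result {G : Type*} [Group G] [Finite G] : ((∀ P : Sylow 2 G, (P : Subgroup G).Normal) ↔ ∀ (q : ℕ) [Fact q.Prime], q ≠ 2 → q ∣ Nat.card G → ∀ T : Sylow q G, ∀ P : Sylow 2 ↥(Subgroup.normalizer (Cfsg.centerThompsonAOf (T : Subgroup G) : Set G)), (P : Subgroup ↥(Subgroup.normalizer (Cfsg.centerThompsonAOf (T : Subgroup G) : Set G))).Normal) ∧ ((∀ P : Sylow 2 G, (P : Subgroup G).Normal) ↔ ∀ (q : ℕ) [Fact q.Prime], q ≠ 2 → ∀ T : Sylow q G, ∀ x ∈ (T : Subgroup G), x ≠ 1 → ∀ g ∈ Subgroup.normalizer (Cfsg.centerThompsonAOf (T : Subgroup G) : Set G), g * x * g⁻¹ ≠ x⁻¹) := by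
  haveI : Fact (Nat.Prime 2) := ⟨Nat.prime_two⟩
  have oddT : ∀ (q : ℕ) [Fact q.Prime], q ≠ 2 → ∀ (T : Sylow q G), ∀ x ∈ (T : Subgroup G),
      Odd (orderOf x) ∧ (x ≠ 1 → q ∣ Nat.card G) := by
    intro q hq hq2 T x hx
    obtain ⟨k, hk⟩ := IsPGroup.iff_orderOf.mp T.isPGroup' ⟨x, hx⟩
    rw [Subgroup.orderOf_mk] at hk
    refine ⟨hk ▸ (hq.out.odd_of_ne_two hq2).pow, fun hx1 => ?_⟩
    have hk0 : k ≠ 0 := fun h => hx1 (orderOf_eq_one_iff.mp (by rw [hk, h, pow_zero]))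
    exact (dvd_pow_self q hk0).trans (hk ▸ orderOf_dvd_natCard x)
  have hA : (∀ P : Sylow 2 G, (P : Subgroup G).Normal) →
      ∀ x : G, x ≠ 1 → Odd (orderOf x) → ∀ g : G, g * x * g⁻¹ ≠ x⁻¹ := fun h x hx1 hx g hg =>
    (Cfsg.Agent.S3861.result (Classical.arbitrary _)).mpr (h _) x hx1 hx (isConj_iff.mpr ⟨g, hg⟩)
  have hab : (∀ P : Sylow 2 G, (P : Subgroup G).Normal) → ∀ (q : ℕ) [Fact q.Prime], q ≠ 2 →
      q ∣ Nat.card G → ∀ T : Sylow q G,
      ∀ P : Sylow 2 ↥(Subgroup.normalizer (Cfsg.centerThompsonAOf (T : Subgroup G) : Set G)),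
      (P : Subgroup ↥(Subgroup.normalizer (Cfsg.centerThompsonAOf (T : Subgroup G) : Set G))).Normal := by
    intro h q _ _ _ T P
    refine (Cfsg.Agent.S3861.result P).mp fun x hx1 hx hc => ?_
    obtain ⟨g, hg⟩ := isConj_iff.mp hc
    refine hA h (x : G) (fun he => hx1 (Subtype.ext he)) (by rwa [Subgroup.orderOf_coe]) g ?_
    simpa using congrArg Subtype.val hg
  have hbc : (∀ (q : ℕ) [Fact q.Prime], q ≠ 2 → q ∣ Nat.card G → ∀ T : Sylow q G,
      ∀ P : Sylow 2 ↥(Subgroup.normalizer (Cfsg.centerThompsonAOf (T : Subgroup G) : Set G)),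
      (P : Subgroup ↥(Subgroup.normalizer (Cfsg.centerThompsonAOf (T : Subgroup G) : Set G))).Normal) →
      ∀ (q : ℕ) [Fact q.Prime], q ≠ 2 → ∀ T : Sylow q G, ∀ x ∈ (T : Subgroup G), x ≠ 1 →
        ∀ g ∈ Subgroup.normalizer (Cfsg.centerThompsonAOf (T : Subgroup G) : Set G),
          g * x * g⁻¹ ≠ x⁻¹ := by
    intro h q _ hq2 T x hx hx1 g hg hgx
    obtain ⟨hodd, hdvd⟩ := oddT q hq2 T x hx
    set N := Subgroup.normalizer (Cfsg.centerThompsonAOf (T : Subgroup G) : Set G) with hN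
    have hxN : x ∈ N :=
      (Subgroup.le_normalizer.trans (H11.normalizer_le_normalizer_centerThompsonAOf _)) hx
    refine (Cfsg.Agent.S3861.result (Classical.arbitrary (Sylow 2 N))).mpr (h q hq2 (hdvd hx1) T _)
      ⟨x, hxN⟩ (fun he => hx1 (congrArg Subtype.val he)) (by rwa [Subgroup.orderOf_mk]) ?_
    exact isConj_iff.mpr ⟨⟨g, hg⟩, Subtype.ext hgx⟩
  have hca : (∀ (q : ℕ) [Fact q.Prime], q ≠ 2 → ∀ T : Sylow q G, ∀ x ∈ (T : Subgroup G), x ≠ 1 →
      ∀ g ∈ Subgroup.normalizer (Cfsg.centerThompsonAOf (T : Subgroup G) : Set G),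
        g * x * g⁻¹ ≠ x⁻¹) → ∀ P : Sylow 2 G, (P : Subgroup G).Normal := by
    intro h P
    refine (Cfsg.Agent.S3861.result P).mp fun x hx1 hx hc => ?_
    obtain ⟨g, hg⟩ := isConj_iff.mp hc
    obtain ⟨q, hq, hqd⟩ := Nat.exists_prime_and_dvd
      (fun he => hx1 (orderOf_eq_one_iff.mp he) : orderOf x ≠ 1)
    haveI := Fact.mk hq
    have hq2 : q ≠ 2 := fun he => by
      rw [he] at hqd
      exact (Nat.not_even_iff_odd.mpr hx) (even_iff_two_dvd.mpr hqd)
    set y := x ^ (orderOf x / q) with hy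
    have hyord : orderOf y = q := orderOf_pow_orderOf_div (orderOf_pos x).ne' hqd
    have hgy : g * y * g⁻¹ = y⁻¹ := by rw [hy, ← conj_pow, hg, inv_pow]
    have hyp : IsPGroup q (Subgroup.zpowers y) :=
      IsPGroup.of_card (n := 1) (by rw [Nat.card_zpowers, hyord, pow_one])
    obtain ⟨T⟩ := (inferInstance : Nonempty (Sylow q G))
    obtain ⟨z, hz, hz1, v, hv, hvz⟩ := H4.RealZJ.exists_inverted_in_zj_normalizer hq2 _ G le_rfl T
      y g hyp (fun he => hq.ne_one (by rw [← hyord, he, orderOf_one])) hgy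
    exact h q hq2 T z hz hz1 v hv hvz
  exact ⟨⟨hab, fun hb => hca (hbc hb)⟩, ⟨fun ha => hbc (hab ha), hca⟩⟩
end Cfsg.Agent.S2756
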