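import Cfsg.Statements.S2758
import Cfsg.Agent.H74.InvertSection
-- import your own Cfsg.Agent.* helpers here

set_option autoImplicit false
open Cfsg

namespace Cfsg.Agent.S2758

/-- For an odd prime p and a finite group G the following are equivalent: the dihedral group of order 2p is involved in G; some element of 2-power order normalizes but does not centralize some p-subgroup of G; some element of 2-power order inverts some nonidentity element of p-power order. -/
theorem result {G : Type*} [Group G] [Finite G] {p : ℕ} [Fact p.Prime] (hp : p ≠ 2) : (Cfsg.Involves (DihedralGroup p) G ↔ ∃ (x : G) (P : Subgroup G), (∃ k : ℕ, orderOf x = 2 ^ k) ∧ IsPGroup p ↥P ∧ x ∈ Subgroup.normalizer (P : Set G) ∧ x ∉ Subgroup.centralizer (P : Set G)) ∧ (Cfsg.Involves (DihedralGroup p) G ↔ ∃ x y : G, (∃ k : ℕ, orderOf x = 2 ^ k) ∧ (∃ k : ℕ, orderOf y = p ^ k) ∧ y ≠ 1 ∧ x * y * x⁻¹ = y⁻¹) := by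
  have hp' : p.Prime := Fact.out
  haveI : NeZero p := ⟨hp'.ne_zero⟩
  have hac : Cfsg.Involves (DihedralGroup p) G → ∃ x y : G, (∃ k : ℕ, orderOf x = 2 ^ k) ∧
      (∃ k : ℕ, orderOf y = p ^ k) ∧ y ≠ 1 ∧ x * y * x⁻¹ = y⁻¹ := by
    rintro ⟨K, R, hn, ⟨e⟩⟩
    haveI := hn
    haveI : (Subgroup.zpowers (DihedralGroup.r (1 : ZMod p))).Normal := by
      refine Subgroup.Normal.mk fun z hz g => ?_
      obtain ⟨i, rfl⟩ := Subgroup.mem_zpowers_iff.mp hz
      rcases g with j | j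
      · exact Subgroup.mem_zpowers_iff.mpr ⟨i, by simp [DihedralGroup.r_one_zpow]⟩
      · exact Subgroup.mem_zpowers_iff.mpr ⟨-i, by simp [DihedralGroup.r_one_zpow]⟩
    obtain ⟨x, y, ⟨k, hk⟩, ⟨l, hl⟩, hy1, hinv⟩ := H74.Section.exists_inverted hp
      (e.toMonoidHom.comp (QuotientGroup.mk' (R.subgroupOf K)))
      (e.surjective.comp (QuotientGroup.mk'_surjective _))
      (c := DihedralGroup.r (1 : ZMod p)) (s := DihedralGroup.sr 0) DihedralGroup.orderOf_r_one
      (by simp) (by simp)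
    refine ⟨x, y, ⟨k, (Subgroup.orderOf_coe x).trans hk⟩, ⟨l, (Subgroup.orderOf_coe y).trans hl⟩,
      fun h => hy1 ?_, congrArg Subtype.val hinv⟩
    rw [show y = 1 from Subtype.ext h, map_one]
  have hca : (∃ x y : G, (∃ k : ℕ, orderOf x = 2 ^ k) ∧ (∃ k : ℕ, orderOf y = p ^ k) ∧ y ≠ 1 ∧
      x * y * x⁻¹ = y⁻¹) → Cfsg.Involves (DihedralGroup p) G := by
    rintro ⟨x, y, ⟨k, hk⟩, ⟨l, hl⟩, hy1, hinv⟩
    rcases l with _ | l
    · exact absurd (orderOf_eq_one_iff.mp (by simpa using hl)) hy1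
    refine H74.Section.involves_dihedral hp (x := x) (y := y ^ (p ^ l)) hk ?_ ?_
    · rw [orderOf_pow' _ (pow_ne_zero _ hp'.ne_zero), hl,
        Nat.gcd_eq_right (pow_dvd_pow p (Nat.le_succ l)), Nat.pow_div (Nat.le_succ l) hp'.pos,
        Nat.succ_sub (le_refl l), Nat.sub_self, pow_one]
    · rw [← conj_pow, hinv, inv_pow]
  refine ⟨⟨fun h => ?_, fun h => hca ?_⟩, hac, hca⟩
  · obtain ⟨x, y, hx, ⟨l, hl⟩, hy1, hinv⟩ := hac h
    refine ⟨x, Subgroup.zpowers y, hx, IsPGroup.of_card (n := l) (by rw [Nat.card_zpowers, hl]),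
      H74.mem_normalizer_of_map_conj ?_, fun hc => ?_⟩
    · rw [MonoidHom.map_zpowers, show (MulAut.conj x).toMonoidHom y = y⁻¹ from hinv,
        Subgroup.zpowers_inv]
    · have h1 := Subgroup.mem_centralizer_iff.mp hc y (Subgroup.mem_zpowers y)
      rw [← h1, mul_inv_cancel_right] at hinv
      have h2 : y ^ 2 = 1 := by rw [pow_two]; exact mul_eq_one_iff_eq_inv.mpr hinv
      have h3 := orderOf_dvd_of_pow_eq_one h2
      rw [hl] at h3
      rcases l with _ | l
      · exact hy1 (orderOf_eq_one_iff.mp (by simpa using hl))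
      · exact hp ((Nat.prime_dvd_prime_iff_eq hp' Nat.prime_two).mp
          ((dvd_pow_self p (Nat.succ_ne_zero l)).trans h3))
  · obtain ⟨x, P, ⟨k, hk⟩, hP, hxP, hxC⟩ := h
    induction k generalizing x with
    | zero =>
      have hx1 : x = 1 := orderOf_eq_one_iff.mp (by simpa using hk)
      exact absurd (by rw [hx1]; exact one_mem _) hxC
    | succ k ih =>
      by_cases h2 : x ^ 2 ∈ Subgroup.centralizer (P : Set G)
      · rw [Subgroup.mem_centralizer_iff] at hxC
        push Not at hxC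
        obtain ⟨a, ha, hne⟩ := hxC
        have hxa : x * a * x⁻¹ ∈ P := (Subgroup.mem_normalizer_iff.mp hxP a).mp ha
        have hyP : a⁻¹ * (x * a * x⁻¹) ∈ P := mul_mem (inv_mem ha) hxa
        refine ⟨x, a⁻¹ * (x * a * x⁻¹), ⟨k + 1, hk⟩, ?_, fun h => hne ?_, ?_⟩
        · obtain ⟨l, hl⟩ := IsPGroup.iff_orderOf.mp hP ⟨_, hyP⟩
          exact ⟨l, (Subgroup.orderOf_mk _ _).symm.trans hl⟩
        · rw [inv_mul_eq_one] at h
          exact (eq_mul_inv_iff_mul_eq.mp h)
        · have h3 : x ^ 2 * a * (x ^ 2)⁻¹ = a := by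
            rw [← Subgroup.mem_centralizer_iff.mp h2 a ha, mul_inv_cancel_right]
          calc x * (a⁻¹ * (x * a * x⁻¹)) * x⁻¹ = (x * a * x⁻¹)⁻¹ * (x ^ 2 * a * (x ^ 2)⁻¹) := by
                rw [pow_two]; group
            _ = (a⁻¹ * (x * a * x⁻¹))⁻¹ := by rw [h3]; group
      · refine ih (x ^ 2) ?_ (pow_mem hxP 2) h2
        rw [orderOf_pow' _ two_ne_zero, hk, pow_succ, Nat.gcd_eq_right (dvd_mul_left 2 _),
          Nat.mul_div_cancel _ two_pos]

end Cfsg.Agent.S2758
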