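import Cfsg.Statements.S2760
import Cfsg.Agent.H76.CharP
import Cfsg.Agent.H75.Basic
-- import your own Cfsg.Agent.* helpers here

set_option autoImplicit false
open Cfsg

namespace Cfsg.Agent.S2760

/-- Let G be a finite group with C_G(O₂(G)) ≤ O₂(G) and H a subgroup of G such that H is normal in G, or the subgroup O²(H) generated by the elements of H of odd order is normal in G. Then C_H(O₂(H)) ≤ O₂(H). -/
theorem result {G : Type*} [Group G] [Finite G] (hchar : Subgroup.centralizer (Cfsg.pCore 2 G : Set G) ≤ Cfsg.pCore 2 G) (H : Subgroup G) (hH : H.Normal ∨ ((Cfsg.pResidual 2 ↥H).map H.subtype).Normal) : Subgroup.centralizer (Cfsg.pCore 2 ↥H : Set ↥H) ≤ Cfsg.pCore 2 ↥H := by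
  set Q := Cfsg.pCore 2 G with hQ
  have hG : H76.CharPIn 2 (⊤ : Subgroup G) := H76.charPIn_top_iff.mpr hchar
  rw [← H76.charPIn_iff]
  rcases hH with hH | hH
  · exact hG.normal le_top (by rw [Subgroup.normalizer_eq_top]) 
  rw [H75.map_pResidual_eq_resOf] at hH
  set R := H75.resOf 2 H with hR
  have hRc : H76.CharPIn 2 R := hG.normal le_top (by rw [Subgroup.normalizer_eq_top])
  have hRH : R ≤ H := H75.resOf_le H
  refine H76.le_pCoreOf inf_le_left ?_ ?_
  · exact (le_inf Subgroup.le_normalizer ((H75.le_normalizer_pCoreOf H).trans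
      (H75.normalizer_le_normalizer_centralizer _))).trans (H75.normalizer_inf_le_normalizer_inf _ _)
  refine H76.isPGroup_of_forall_coprime fun x hx hxc => ?_
  have hxR : x ∈ R := Subgroup.subset_closure ⟨hx.1, hxc⟩
  have hle : Cfsg.pCoreOf 2 R ≤ Cfsg.pCoreOf 2 H := H75.le_pCoreOf ((H75.pCoreOf_le R).trans hRH)
    ((Subgroup.le_normalizer.trans
      (H75.normalizer_le_normalizer_resOf H)).trans (H75.normalizer_le_normalizer_pCoreOf R))
    (H75.isPGroup_pCoreOf R)
  exact H76.eq_one_of_mem_pgroup (H76.isPGroup_pCoreOf R)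
    (hRc ⟨hxR, Subgroup.centralizer_le hle hx.2⟩) hxc

end Cfsg.Agent.S2760
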