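import Cfsg.Statements.S2762
import Cfsg.Agent.H74.Qd
-- import your own Cfsg.Agent.* helpers here

set_option autoImplicit false
open Cfsg

namespace Cfsg.Agent.S2762

/-- Structure of Qd over a finite field F of characteristic p (the affine subgroup of SL₃(F)): its largest normal p-subgroup is the group of translations (matrices with upper-left block the identity), the block-diagonal matrices form a complement isomorphic to SL₂(F), and the translation subgroup is a natural SL₂(F)-module for that complement. -/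
theorem result {F : Type*} [Field F] [Fintype F] {p : ℕ} [Fact p.Prime] [CharP F p] : (∀ M : ↥(Cfsg.qdOver F), M ∈ Cfsg.pCore p ↥(Cfsg.qdOver F) ↔ ((M : Matrix.SpecialLinearGroup (Fin 3) F) : Matrix (Fin 3) (Fin 3) F) 0 0 = 1 ∧ ((M : Matrix.SpecialLinearGroup (Fin 3) F) : Matrix (Fin 3) (Fin 3) F) 0 1 = 0 ∧ ((M : Matrix.SpecialLinearGroup (Fin 3) F) : Matrix (Fin 3) (Fin 3) F) 1 0 = 0 ∧ ((M : Matrix.SpecialLinearGroup (Fin 3) F) : Matrix (Fin 3) (Fin 3) F) 1 1 = 1) ∧ ∃ K : Subgroup ↥(Cfsg.qdOver F), (∀ M : ↥(Cfsg.qdOver F), M ∈ K ↔ ((M : Matrix.SpecialLinearGroup (Fin 3) F) : Matrix (Fin 3) (Fin 3) F) 0 2 = 0 ∧ ((M : Matrix.SpecialLinearGroup (Fin 3) F) : Matrix (Fin 3) (Fin 3) F) 1 2 = 0) ∧ K ⊓ Cfsg.pCore p ↥(Cfsg.qdOver F) = ⊥ ∧ K ⊔ Cfsg.pCore p ↥(Cfsg.qdOver F) = ⊤ ∧ Nonempty (↥K ≃* Matrix.SpecialLinearGroup (Fin 2) F) ∧ Cfsg.IsNaturalSL2Module F (Cfsg.pCore p ↥(Cfsg.qdOver F)) K := by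
  rw [H74.Qd.pCore_eq_ker]
  have hmem : ∀ M : ↥(Cfsg.qdOver F), M ∈ (H74.Qd.lin (F := F)).ker ↔
      H74.Qd.mat M 0 0 = 1 ∧ H74.Qd.mat M 0 1 = 0 ∧ H74.Qd.mat M 1 0 = 0 ∧ H74.Qd.mat M 1 1 = 1 := by
    intro M
    rw [MonoidHom.mem_ker]
    constructor
    · intro h
      have e := congrArg (fun A : Matrix.SpecialLinearGroup (Fin 2) F =>
        (A : Matrix (Fin 2) (Fin 2) F)) h
      simp only [H74.Qd.coe_lin] at e
      refine ⟨?_, ?_, ?_, ?_⟩
      exacts [by simpa using congrFun (congrFun e 0) 0, by simpa using congrFun (congrFun e 0) 1,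
        by simpa using congrFun (congrFun e 1) 0, by simpa using congrFun (congrFun e 1) 1]
    · rintro ⟨h0, h1, h2, h3⟩
      apply Subtype.ext
      ext i j
      fin_cases i <;> fin_cases j <;> simp [H74.Qd.coe_lin, h0, h1, h2, h3]
  refine ⟨hmem, ?_⟩
  let ι : Matrix.SpecialLinearGroup (Fin 2) F →* ↥(Cfsg.qdOver F) :=
    MonoidHom.mk' (fun A => H74.Qd.mk A 0) (fun A B => by rw [H74.Qd.mk_mul]; simp)
  have hK : ∀ M : ↥(Cfsg.qdOver F), M ∈ ι.range ↔ H74.Qd.vec M = 0 := fun M => by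
    constructor
    · rintro ⟨A, rfl⟩; exact H74.Qd.vec_mk A 0
    · intro h
      refine ⟨H74.Qd.lin M, ?_⟩
      show H74.Qd.mk (H74.Qd.lin M) 0 = M
      rw [← h, H74.Qd.mk_lin_vec]
  have hinj : Function.Injective ι := fun A B h => by
    have := congrArg H74.Qd.lin h
    simpa [ι] using this
  refine ⟨ι.range, fun M => ?_, ?_, ?_, ⟨(MonoidHom.ofInjective hinj).symm⟩, ?_⟩
  · rw [hK]
    constructor
    · intro h
      exact ⟨congrFun h 0, congrFun h 1⟩
    · rintro ⟨h0, h1⟩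
      funext i
      fin_cases i
      exacts [h0, h1]
  · rw [Subgroup.eq_bot_iff_forall]
    rintro M ⟨h1, h2⟩
    exact H74.Qd.ext_lin_vec (by simpa using MonoidHom.mem_ker.mp h2)
      (by rw [(hK M).mp h1, H74.Qd.vec_one])
  · rw [eq_top_iff]
    intro M _
    have h : H74.Qd.mk (1 : Matrix.SpecialLinearGroup (Fin 2) F) (H74.Qd.vec M) *
        H74.Qd.mk (H74.Qd.lin M) 0 = M := by
      rw [H74.Qd.mk_mul]; simp [H74.Qd.mk_lin_vec]
    rw [← h]
    exact mul_mem (Subgroup.mem_sup_right (H74.Qd.lin_mk _ _))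
      (Subgroup.mem_sup_left ⟨_, rfl⟩)
  · let ψ : Additive (H74.Qd.lin (F := F)).ker ≃+ (Fin 2 → F) :=
      { toFun := fun v => H74.Qd.vec (Additive.toMul v : _)
        invFun := fun t => Additive.ofMul ⟨H74.Qd.mk 1 t, H74.Qd.lin_mk 1 t⟩
        left_inv := fun v => by
          apply Additive.toMul.injective
          refine Subtype.ext ?_
          show H74.Qd.mk 1 _ = _
          conv_rhs => rw [← H74.Qd.mk_lin_vec (Additive.toMul v : (H74.Qd.lin (F := F)).ker).1]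
          rw [show H74.Qd.lin (Additive.toMul v : (H74.Qd.lin (F := F)).ker).1 = 1 from
            (Additive.toMul v : (H74.Qd.lin (F := F)).ker).2]
        right_inv := fun t => H74.Qd.vec_mk 1 t
        map_add' := fun v w => by
          show H74.Qd.vec ((Additive.toMul v : (H74.Qd.lin (F := F)).ker).1 *
            (Additive.toMul w : (H74.Qd.lin (F := F)).ker).1) = _
          rw [H74.Qd.vec_mul, show H74.Qd.lin (Additive.toMul v : (H74.Qd.lin (F := F)).ker).1 = 1 from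
            (Additive.toMul v : (H74.Qd.lin (F := F)).ker).2]
          simp [add_comm] }
    refine ⟨?_, (H74.Qd.lin).comp ι.range.subtype, ψ, fun A => ?_, ?_, fun l v => ?_⟩
    · rw [Subgroup.normalizer_eq_top_iff.mpr inferInstance]; exact le_top
    · exact ⟨⟨ι A, A, rfl⟩, H74.Qd.lin_mk A 0⟩
    · ext l
      rw [MonoidHom.mem_ker, Subgroup.mem_subgroupOf, Subgroup.mem_centralizer_iff]
      constructor
      · intro h v hv
        have hl : (l : ↥(Cfsg.qdOver F)) = 1 :=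
          H74.Qd.ext_lin_vec (by simpa using h) (by rw [(hK _).mp l.2, H74.Qd.vec_one])
        rw [hl]; simp
      · intro h
        have key : ∀ t, (H74.Qd.lin (l : ↥(Cfsg.qdOver F)) : Matrix (Fin 2) (Fin 2) F).mulVec t = t := by
          intro t
          have h1 := H74.Qd.conj_translation (l : ↥(Cfsg.qdOver F)) t
          have h2 : H74.Qd.mk 1 t * (l : ↥(Cfsg.qdOver F)) = (l : ↥(Cfsg.qdOver F)) * H74.Qd.mk 1 t :=
            h (H74.Qd.mk 1 t) (H74.Qd.lin_mk 1 t)
          rw [← h2, mul_inv_cancel_right] at h1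
          have h3 := congrArg H74.Qd.vec h1
          rw [H74.Qd.vec_mk, H74.Qd.vec_mk] at h3
          exact h3.symm
        apply Subtype.ext
        show (H74.Qd.lin (l : ↥(Cfsg.qdOver F)) : Matrix (Fin 2) (Fin 2) F) = 1
        exact Matrix.ext_of_mulVec_single fun i => by rw [key, Matrix.one_mulVec]
    · have hv : (v : ↥(Cfsg.qdOver F)) = H74.Qd.mk 1 (H74.Qd.vec (v : ↥(Cfsg.qdOver F))) := by
        conv_lhs => rw [← H74.Qd.mk_lin_vec (v : ↥(Cfsg.qdOver F))]
        rw [show H74.Qd.lin (v : ↥(Cfsg.qdOver F)) = 1 from v.2]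
      refine ⟨⟨_, (MonoidHom.normal_ker _).conj_mem _ v.2 (l : ↥(Cfsg.qdOver F))⟩, rfl, ?_⟩
      show H74.Qd.vec ((l : ↥(Cfsg.qdOver F)) * (v : ↥(Cfsg.qdOver F)) * (l : ↥(Cfsg.qdOver F))⁻¹) = _
      conv_lhs => rw [hv, H74.Qd.conj_translation, H74.Qd.vec_mk]
      rfl

end Cfsg.Agent.S2762
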