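import Cfsg.Statements.S2766
import Cfsg.Agent.H71.BGNP.MaxLocal
-- import your own Cfsg.Agent.* helpers here

set_option autoImplicit false
open Cfsg

namespace Cfsg.Agent.S2766

/-- Let p ≥ 5 be prime and G a maximal p-local subgroup of a finite group H (G is the normalizer of a nontrivial p-subgroup and lies in no other such normalizer). Suppose C_G(O_p(G)) ≤ O_p(G), G/K ≅ PSL₂(p^n) for some normal K and n ≥ 1, a Sylow p-subgroup S of G lies in exactly one maximal subgroup of G, and N_H(S) is not contained in G. Then G = G₀ × E for subgroups G₀ ≅ Qd(p^n) (the natural semidirect product of the plane over the field with p^n elements by SL₂) and E an elementary abelian p-group. -/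
theorem result {H : Type*} [Group H] [Finite H] {p : ℕ} [Fact p.Prime] (hp : 5 ≤ p) (G : Subgroup H) (hloc : ∃ R : Subgroup H, IsPGroup p ↥R ∧ R ≠ ⊥ ∧ G = Subgroup.normalizer (R : Set H)) (hmax : ∀ R : Subgroup H, IsPGroup p ↥R → R ≠ ⊥ → G ≤ Subgroup.normalizer (R : Set H) → Subgroup.normalizer (R : Set H) = G) (S : Sylow p ↥G) (hE₁ : Subgroup.centralizer (Cfsg.pCore p ↥G : Set ↥G) ≤ Cfsg.pCore p ↥G) (hE₂ : ∃! M : Subgroup ↥G, IsCoatom M ∧ (S : Subgroup ↥G) ≤ M) (K : Subgroup ↥G) [K.Normal] (F : Type) [Field F] [Fintype F] (n : ℕ) (hn : 1 ≤ n) (hF : Fintype.card F = p ^ n) (hE₃ : Nonempty (↥G ⧸ K ≃* Matrix.ProjectiveSpecialLinearGroup (Fin 2) F)) (hN : ¬ Subgroup.normalizer (((S : Subgroup ↥G).map G.subtype : Subgroup H) : Set H) ≤ G) : ∃ G₀ E : Subgroup H, Cfsg.IsInternalDirectProduct G₀ E G ∧ Cfsg.IsElementaryAbelian p E ∧ Nonempty (↥G₀ ≃* ↥(Cfsg.qdOver F)) := by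
  obtain ⟨e⟩ := hE₃
  have hd : ∀ T : Subgroup ↥(S : Subgroup ↥G), T ≠ ⊥ → T.Characteristic →
      ¬ (T.map (S : Subgroup ↥G).subtype).Normal := by
    intro T hT hTc hTn
    refine hN (le_trans (H71.BGNP.normalizer_le_normalizer_char G _ T hTc) ?_)
    refine (hmax _ (((S.2.to_subgroup T).map _).map _) ?_ fun g hg => ?_).le
    · intro e0
      rw [Subgroup.map_eq_bot_iff_of_injective _ G.subtype_injective,
        Subgroup.map_eq_bot_iff_of_injective _ (S : Subgroup ↥G).subtype_injective] at e0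
      exact hT e0
    · exact (Subgroup.le_normalizer_map G.subtype) (Subgroup.mem_map_of_mem G.subtype
        (show (⟨g, hg⟩ : ↥G) ∈ Subgroup.normalizer ((T.map (S : Subgroup ↥G).subtype :
          Subgroup ↥G) : Set ↥G) by rw [Subgroup.normalizer_eq_top]; trivial))
  obtain ⟨ψ, h⟩ := H71.BGNP.exists_sit hF K e S hE₁ hE₂ hd
  haveI := h.char
  obtain ⟨r, s, N, R, em, hs⟩ := h.exists_split hp
  have hcomm := hs.comm_R hp hmax hN
  let f : ↥(Cfsg.qdOver F) →* ↥G :=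
    MonoidHom.mk' (fun M => em (H74.Qd.vec M) * s (H74.Qd.lin M)) fun M M' => by
      rw [map_mul, map_mul, H74.Qd.vec_mul, add_comm, hs.em_add, ← hs.em_act]
      group
  have hrf : ∀ M, r (f M) = H74.Qd.lin M := fun M => by
    show r (em (H74.Qd.vec M) * s (H74.Qd.lin M)) = _
    rw [map_mul, hs.r_em, hs.section', one_mul]
  have hf : Function.Injective f := fun M M' e' => by
    have h1 : H74.Qd.lin M = H74.Qd.lin M' := by rw [← hrf, e', hrf]
    refine H74.Qd.ext_lin_vec h1 (hs.em_inj ?_)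
    have h2 : em (H74.Qd.vec M) * s (H74.Qd.lin M) = em (H74.Qd.vec M') * s (H74.Qd.lin M') := e'
    rw [h1] at h2
    exact mul_right_cancel h2
  refine ⟨f.range.map G.subtype, R.map G.subtype, ⟨Subgroup.map_subtype_le _,
    Subgroup.map_subtype_le _, ?_, ?_, ?_⟩, ⟨⟨⟨?_⟩⟩, ?_⟩,
    ⟨((MonoidHom.ofInjective hf).trans
      (f.range.equivMapOfInjective G.subtype G.subtype_injective)).symm⟩⟩
  · rintro _ ⟨_, ⟨M, rfl⟩, rfl⟩ _ ⟨c, hc, rfl⟩
    rw [← map_mul, ← map_mul]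
    congr 1
    show em (H74.Qd.vec M) * s (H74.Qd.lin M) * c = c * (em (H74.Qd.vec M) * s (H74.Qd.lin M))
    rw [mul_assoc, hs.commS _ c hc, ← mul_assoc, hs.commN _ c hc, mul_assoc]
  · rw [← Subgroup.map_inf _ _ _ G.subtype_injective,
      Subgroup.map_eq_bot_iff_of_injective _ G.subtype_injective, eq_bot_iff]
    rintro _ ⟨⟨M, rfl⟩, hc⟩
    have h1 : H74.Qd.lin M = 1 := by
      rw [← hrf, ← MonoidHom.mem_ker, hs.ker]
      exact hs.R_le hc
    have h2 : f M = em (H74.Qd.vec M) := by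
      show em (H74.Qd.vec M) * s (H74.Qd.lin M) = _
      rw [h1, map_one, mul_one]
    rw [← hs.disj]
    exact ⟨(hs.N_eq _).2 ⟨_, h2.symm⟩, hc⟩
  · refine le_antisymm (sup_le (Subgroup.map_subtype_le _) (Subgroup.map_subtype_le _)) ?_
    intro g hg
    obtain ⟨v, c, hc, e'⟩ := hs.exists_prod ⟨g, hg⟩
    have h1 : g = G.subtype (f (H74.Qd.mk (r ⟨g, hg⟩) v)) * G.subtype c := by
      rw [← map_mul]
      show g = G.subtype (em (H74.Qd.vec (H74.Qd.mk (r ⟨g, hg⟩) v)) *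
        s (H74.Qd.lin (H74.Qd.mk (r ⟨g, hg⟩) v)) * c)
      rw [H74.Qd.vec_mk, H74.Qd.lin_mk, ← e']
      rfl
    rw [h1]
    exact Subgroup.mul_mem_sup (Subgroup.mem_map_of_mem _ ⟨_, rfl⟩) (Subgroup.mem_map_of_mem _ hc)
  · rintro ⟨_, a, ha, rfl⟩ ⟨_, b, hb, rfl⟩
    exact Subtype.ext (congrArg G.subtype (hcomm a ha b hb))
  · rintro _ ⟨a, ha, rfl⟩
    rw [← map_pow, hs.pow a ha, map_one]

end Cfsg.Agent.S2766
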