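import Cfsg.Statements.S2772
import Cfsg.Agent.H8.S3Amalgam.Main
import Cfsg.Agent.H8.S3Amalgam.Sims

set_option autoImplicit false
open Cfsg

namespace Cfsg.Agent.S2772

/-- Sims' Theorem in local form: let H be a finite non-abelian simple group and G a maximal subgroup of H with C_G(O₂(G)) ≤ O₂(G), such that N_H(S) is not contained in G for a Sylow 2-subgroup S of G and G/O₂(G) is dihedral of order 2q for a prime q. Then G is isomorphic to the symmetric group of degree 4 or to its direct product with a group of order 2. -/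
theorem result {H : Type*} [Group H] [Finite H] [IsSimpleGroup H] (hna : ¬ IsMulCommutative H) (G : Subgroup H) (hG : IsCoatom G) (hchar : Subgroup.centralizer (Cfsg.pCore 2 ↥G : Set ↥G) ≤ Cfsg.pCore 2 ↥G) (S : Sylow 2 ↥G) (hN : ¬ Subgroup.normalizer (((S : Subgroup ↥G).map G.subtype : Subgroup H) : Set H) ≤ G) (q : ℕ) (hq : q.Prime) (hD : Nonempty (↥G ⧸ Cfsg.pCore 2 ↥G ≃* DihedralGroup q)) : Nonempty (↥G ≃* Equiv.Perm (Fin 4)) ∨ Nonempty (↥G ≃* Equiv.Perm (Fin 4) × Multiplicative (ZMod 2)) := by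
  classical
  obtain ⟨e⟩ := hD
  haveI : Fact (Nat.Prime 2) := ⟨Nat.prime_two⟩
  haveI : Fact q.Prime := ⟨hq⟩
  haveI := H1.pCore_normal' 2 G
  let φ : G →* DihedralGroup q := e.toMonoidHom.comp (QuotientGroup.mk' (Cfsg.pCore 2 G))
  have hsurj : Function.Surjective φ :=
    e.surjective.comp (QuotientGroup.mk'_surjective _)
  have hφker : φ.ker = Cfsg.pCore 2 G := by
    ext x
    simp [φ]
  have hcard : (Cfsg.pCore 2 G).index = 2 * q := by
    rw [Subgroup.index, Nat.card_congr e.toEquiv, DihedralGroup.nat_card]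
  have hq2 : q ≠ 2 := by
    rintro rfl
    have h1 : IsPGroup 2 G := by
      obtain ⟨k, hk⟩ := IsPGroup.iff_card.1 (H1.isPGroup_pCore 2 G)
      refine IsPGroup.iff_card.2 ⟨k + 2, ?_⟩
      rw [← Subgroup.card_mul_index (Cfsg.pCore 2 G), hk, hcard, pow_add]
      rfl
    have h2 : (⊤ : Subgroup G) ≤ Cfsg.pCore 2 G := H1.le_pCore (h1.to_subgroup ⊤)
    rw [top_le_iff.1 h2, Subgroup.index_top] at hcard
    omega
  have hQS : Cfsg.pCore 2 G ≤ (S : Subgroup G) := H1.pCore_le_sylow S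
  obtain ⟨hSidx, hSQ⟩ : (S : Subgroup G).index = q ∧
      (Cfsg.pCore 2 G).relIndex (S : Subgroup G) = 2 := by
    have hodd : ¬ 2 ∣ (S : Subgroup G).index := S.not_dvd_index
    have hmul := Subgroup.relIndex_mul_index hQS
    rw [hcard] at hmul
    obtain ⟨k, hk⟩ := S.isPGroup'.index ((Cfsg.pCore 2 G).subgroupOf S)
    change (Cfsg.pCore 2 G).relIndex (S : Subgroup G) = 2 ^ k at hk
    rw [hk] at hmul
    rcases k with _ | _ | k
    · exfalso; rw [pow_zero, one_mul] at hmul; exact hodd ⟨q, hmul⟩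
    · refine ⟨?_, hk⟩
      rw [zero_add, pow_one] at hmul
      omega
    · exfalso
      have h2q : 2 ∣ q := by
        have : 4 * (2 ^ k * (S : Subgroup G).index) = 2 * q := by rw [← hmul]; ring
        omega
      exact hq2 ((Nat.prime_dvd_prime_iff_eq Nat.prime_two hq).1 h2q).symm
  set T : Subgroup H := (S : Subgroup G).map G.subtype with hTdef
  have hTA : T ≤ G := Subgroup.map_subtype_le _
  have hQT : Cfsg.pCoreOf 2 G ≤ T := Subgroup.map_mono hQS
  have hT2 : IsPGroup 2 T := S.isPGroup'.map _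
  have hidx : T.relIndex G = q := by
    show (T.subgroupOf G).index = q
    rw [hTdef, Subgroup.subgroupOf, Subgroup.comap_map_eq_self_of_injective G.subtype_injective,
      hSidx]
  have hQidx : (Cfsg.pCoreOf 2 G).relIndex T = 2 := by
    rw [hTdef, Cfsg.pCoreOf, Subgroup.relIndex_map_map_of_injective _ _ G.subtype_injective, hSQ]
  have hTne : T ≠ ⊥ := fun h => by
    rw [h, Subgroup.relIndex_bot_right] at hQidx
    omega
  have hQn : G ≤ Subgroup.normalizer (Cfsg.pCoreOf 2 G : Set H) :=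
    H8.S3Am.Hyp.le_normalizer_core
  have hcons : G ⊓ Subgroup.centralizer (Cfsg.pCoreOf 2 G : Set H) ≤ Cfsg.pCoreOf 2 G := by
    rintro g ⟨hg, hgc⟩
    refine ⟨⟨g, hg⟩, hchar (Subgroup.mem_centralizer_iff.2 fun p hp => Subtype.ext ?_), rfl⟩
    exact Subgroup.mem_centralizer_iff.1 hgc p ⟨p, hp, rfl⟩
  obtain ⟨y, hy, hyG⟩ := SetLike.not_le_iff_exists.1 hN
  have hyT : H8.S3Am.cj y T = T := H8.S3Am.cj_eq_of_mem_normalizer hy
  have hnormal : ∀ N : Subgroup H, N ≤ T → N.Normal → N = ⊥ := fun N hN hNn =>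
    hNn.eq_bot_or_eq_top.resolve_right fun h =>
      hG.1 (top_le_iff.1 (h ▸ hN.trans hTA))
  have hkill : ∀ N : Subgroup H, N ≤ T → G ≤ Subgroup.normalizer (N : Set H) →
      H8.S3Am.cj y N = N → N = ⊥ := fun N hN hGN hyN =>
    hnormal N hN (Subgroup.normalizer_eq_top_iff.1 (hG.2 _ (lt_of_le_of_ne hGN fun h =>
      hyG (h ▸ H8.S3Am.mem_normalizer_of_cj hyN))))
  have hker : φ.ker.map G.subtype = Cfsg.pCoreOf 2 G := by rw [hφker]; rfl
  obtain rfl := H8.S3Am.offender_three hq hq2 φ hsurj hker hTA hQT hT2 hTne hidx hQidx hQn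
    hcons hyT hkill
  set B : Subgroup H := H8.S3Am.cj y G with hB
  have hcardB : Nat.card B = Nat.card G := (Nat.card_congr (H8.S3Am.cjEquiv y G).toEquiv).symm
  have hBG : B ≠ G := fun h => by
    have h1 := H8.S3Am.mem_normalizer_of_cj h
    have h2 : Subgroup.normalizer (G : Set H) = ⊤ :=
      hG.2 _ (lt_of_le_of_ne Subgroup.le_normalizer fun he => hyG (he ▸ h1))
    rcases (Subgroup.normalizer_eq_top_iff.1 h2).eq_bot_or_eq_top with h3 | h3
    · exact hTne (le_bot_iff.1 (h3 ▸ hTA))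
    · exact hG.1 h3
  have hnle : ¬ G ≤ B := fun h => hBG (Subgroup.eq_of_le_of_card_ge h hcardB.le).symm
  have hgen : G ⊔ B = ⊤ := hG.2 _ (lt_of_le_of_ne le_sup_left fun h =>
    hBG (Subgroup.eq_of_le_of_card_ge (h ▸ le_sup_right) hcardB.ge))
  have hTB : T ≤ B := hyT.ge.trans (H8.S3Am.cj_mono hTA)
  have hAB : G ⊓ B = T := by
    have h1 := Subgroup.relIndex_mul_relIndex T (G ⊓ B) G (le_inf hTA hTB) inf_le_left
    rw [hidx] at h1
    rcases (Nat.dvd_prime hq).1 (Dvd.intro _ h1) with e' | e'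
    · exact le_antisymm (Subgroup.relIndex_eq_one.1 e') (le_inf hTA hTB)
    · rw [e'] at h1
      have h2 : (G ⊓ B).relIndex G = 1 := by omega
      exact absurd ((Subgroup.relIndex_eq_one.1 h2).trans inf_le_right) hnle
  have hBA : B ⊓ G = T := (inf_comm B G).trans hAB
  have hmoved : ¬ G ≤ Subgroup.centralizer (H8.S3Am.zc T : Set H) := fun h =>
    H8.S3Am.zc_ne_bot_of hT2 hTne (hkill _
      (((Subgroup.closure_le _).2 fun w hw => hw.1.1))
      (h.trans (Subgroup.centralizer_le_normalizer _)) (by rw [H8.S3Am.cj_zc, hyT]))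
  have hf : ∀ N : Subgroup H, N ≤ T → G ≤ Subgroup.normalizer (N : Set H) →
      B ≤ Subgroup.normalizer (N : Set H) → N = ⊥ := fun N hN a b =>
    hnormal N hN (Subgroup.normalizer_eq_top_iff.1 (top_le_iff.1 (hgen ▸ sup_le a b)))
  have hA : H8.S3Am.Hyp G B :=
    ⟨inferInstance, hAB ▸ hT2, by rw [hAB, hidx], by rw [hAB, hQidx], hAB ▸ hQT, hcons,
      hAB ▸ hmoved, fun N hN => hf N (hN.trans hAB.le)⟩
  have hBhyp : H8.S3Am.Hyp B G := by
    refine ⟨inferInstance, hBA ▸ hT2, ?_, ?_, ?_, ?_, ?_, fun N hN a b => hf N (hN.trans hBA.le) b a⟩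
    · rw [hBA, ← hyT, hB, H8.S3Am.relIndex_cj, hidx]
    · rw [hBA, ← hyT, hB, ← H8.S3Am.cj_pCoreOf, H8.S3Am.relIndex_cj, hQidx]
    · rw [hBA, ← hyT, hB, ← H8.S3Am.cj_pCoreOf]
      exact H8.S3Am.cj_mono hQT
    · rw [hB, ← H8.S3Am.cj_pCoreOf, ← H8.S3Am.cj_centralizer, ← H8.S3Am.cj_inf]
      exact H8.S3Am.cj_mono hcons
    · rw [hBA, ← hyT, ← H8.S3Am.cj_zc, ← H8.S3Am.cj_centralizer, hB]
      exact fun h =>
        hmoved ((Subgroup.map_le_map_iff_of_injective (MulAut.conj y).injective).1 h)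
  rcases H8.S3Am.classify ⟨hgen, hA, hBhyp⟩ with ⟨h, -⟩ | ⟨⟨f⟩, -⟩
  · exact Or.inl h
  · exact Or.inr ⟨f.trans MulEquiv.prodComm⟩

end Cfsg.Agent.S2772
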