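import Cfsg.Statements.S2779
import Cfsg.Agent.H74.NatMod
-- import your own Cfsg.Agent.* helpers here

set_option autoImplicit false
open Cfsg

namespace Cfsg.Agent.S2779

/-- Let L act on the elementary abelian p-group V (inside a finite group, by conjugation, faithfully) as SL₂(F) on its natural module, F a field with p^n elements, and let S be a Sylow p-subgroup of L. Then [V, S, S] = 1; |V| = p^(2n) and |C_V(S)| = p^n; and for every nonidentity s ∈ S and every v ∈ V outside C_V(S): C_V(s) = C_V(S) = [V, S] = [V, s] = the subgroup generated by the commutators [v, t], t ∈ S. -/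
theorem result {G : Type*} [Group G] [Finite G] {p : ℕ} [Fact p.Prime] {F : Type*} [Field F] [Fintype F] (n : ℕ) (hF : Fintype.card F = p ^ n) (V L : Subgroup G) (hnat : Cfsg.IsNaturalSL2Module F V L) (hf : L ⊓ Subgroup.centralizer (V : Set G) = ⊥) (S : Sylow p ↥L) (T : Subgroup G) (hT : T = ((S : Subgroup ↥L).map L.subtype)) : ⁅⁅V, T⁆, T⁆ = ⊥ ∧ Nat.card V = p ^ (2 * n) ∧ Nat.card ↥(V ⊓ Subgroup.centralizer ((T : Subgroup G) : Set G)) = p ^ n ∧ ∀ s ∈ T, s ≠ 1 → (V ⊓ Subgroup.centralizer ({s} : Set G)) = (V ⊓ Subgroup.centralizer ((T : Subgroup G) : Set G)) ∧ ⁅V, T⁆ = (V ⊓ Subgroup.centralizer ((T : Subgroup G) : Set G)) ∧ ⁅V, Subgroup.zpowers s⁆ = (V ⊓ Subgroup.centralizer ((T : Subgroup G) : Set G)) ∧ ∀ v ∈ V, v ∉ Subgroup.centralizer (T : Set G) → Subgroup.closure {x : G | ∃ t ∈ T, x = v * t * v⁻¹ * t⁻¹} = (V ⊓ Subgroup.centralizer ((T : Subgroup G) : Set G)) := by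
  obtain ⟨D⟩ := H74.NatMod.exists_adapted n hF V L hnat hf S
  subst hT
  set T := ((S : Subgroup ↥L).map L.subtype) with hT
  refine ⟨?_, by rw [D.card_V, hF, ← pow_mul, mul_comm], by rw [D.card_centralizerT, hF], fun s hs hs1 => ?_⟩
  · rw [Subgroup.commutator_eq_bot_iff_le_centralizer]
    exact D.comm_le.trans inf_le_right
  have hCs : V ⊓ Subgroup.centralizer ({s} : Set G) = V ⊓ Subgroup.centralizer (T : Set G) := by
    ext v
    rw [D.mem_centralizer_one_iff hs hs1, D.mem_centralizerT_iff]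
  obtain ⟨x, hx⟩ := H74.SL2.mem_upper.mp ((D.mem_iff ⟨s, D.le hs⟩).mp hs)
  have hx0 : x ≠ 0 := by
    rintro rfl
    exact hs1 (congrArg Subtype.val (D.e.map_eq_one_iff.mp
      (hx.symm.trans (map_one (H74.SL2.uHom F)))))
  have hle : V ⊓ Subgroup.centralizer (T : Set G) ≤ ⁅V, Subgroup.zpowers s⁆ := by
    intro w hw
    obtain ⟨hwV, hw1⟩ := D.mem_centralizerT_iff.mp hw
    obtain ⟨v, hv, hvw⟩ := D.vecOf_surj ![0, -(D.vecOf hwV 0) / x]
    have : v * s * v⁻¹ * s⁻¹ = w := by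
      refine D.vecOf_inj (hv := D.comm_mem hv ⟨s, D.le hs⟩) (hw := hwV) ?_
      rw [D.vecOf_comm hv ⟨s, D.le hs⟩ x hx.symm, hvw]
      funext i
      fin_cases i
      · simp [mul_div_cancel₀ _ hx0]
      · simpa using hw1.symm
    rw [← this, ← commutatorElement_def]
    exact Subgroup.commutator_mem_commutator hv (Subgroup.mem_zpowers s)
  have hzs : ⁅V, Subgroup.zpowers s⁆ ≤ ⁅V, T⁆ :=
    Subgroup.commutator_mono le_rfl (Subgroup.zpowers_le.mpr hs)
  refine ⟨hCs, le_antisymm D.comm_le (hle.trans hzs), le_antisymm (hzs.trans D.comm_le) hle,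
    fun v hv hvc => ?_⟩
  have hv1 : D.vecOf hv 1 ≠ 0 := fun h0 => hvc (D.mem_centralizerT_iff.mpr ⟨hv, h0⟩).2
  refine le_antisymm ((Subgroup.closure_le _).mpr ?_) (fun w hw => Subgroup.subset_closure ?_)
  · rintro y ⟨t, ht, rfl⟩
    refine D.comm_le ?_
    rw [← commutatorElement_def]
    exact Subgroup.commutator_mem_commutator hv ht
  · obtain ⟨hwV, hw1⟩ := D.mem_centralizerT_iff.mp hw
    obtain ⟨l, hl, hle'⟩ := D.exists_uT (-(D.vecOf hwV 0) / D.vecOf hv 1)
    refine ⟨l, hl, D.vecOf_inj (hv := hwV) (hw := D.comm_mem hv l) ?_⟩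
    rw [D.vecOf_comm hv l _ hle']
    funext i
    fin_cases i
    · simp [div_mul_cancel₀ _ hv1]
    · simpa using hw1

end Cfsg.Agent.S2779
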