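import Cfsg.Statements.S2780
import Cfsg.Agent.H74.NatMod
-- import your own Cfsg.Agent.* helpers here

set_option autoImplicit false
open Cfsg

namespace Cfsg.Agent.S2780

/-- Let L act on the elementary abelian p-group V (inside a finite group, faithfully) as SL₂(F) on its natural module, F a field with p^n elements, S a Sylow p-subgroup of L. Then: for every g ∈ L not normalizing S, V is the internal direct product of C_V(S) and C_V(gSg⁻¹); every nonidentity element of L of order prime to p acts on V without nonidentity fixed points; and C_V(S) and V/C_V(S) are irreducible for N_L(S): the only N_L(S)-invariant subgroups of C_V(S) are 1 and C_V(S), and the only N_L(S)-invariant subgroups between C_V(S) and V are those two. -/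
theorem result {G : Type*} [Group G] [Finite G] {p : ℕ} [Fact p.Prime] {F : Type*} [Field F] [Fintype F] (n : ℕ) (hF : Fintype.card F = p ^ n) (V L : Subgroup G) (hnat : Cfsg.IsNaturalSL2Module F V L) (hf : L ⊓ Subgroup.centralizer (V : Set G) = ⊥) (S : Sylow p ↥L) (T : Subgroup G) (hT : T = ((S : Subgroup ↥L).map L.subtype)) : (∀ g ∈ L, g ∉ Subgroup.normalizer (T : Set G) → Cfsg.IsInternalDirectProduct (V ⊓ Subgroup.centralizer ((T : Subgroup G) : Set G)) (V ⊓ Subgroup.centralizer ((T.map (MulAut.conj g).toMonoidHom : Subgroup G) : Set G)) V) ∧ (∀ x ∈ L, x ≠ 1 → (orderOf x).Coprime p → (V ⊓ Subgroup.centralizer ({x} : Set G)) = ⊥) ∧ (∀ U : Subgroup G, U ≤ (V ⊓ Subgroup.centralizer ((T : Subgroup G) : Set G)) → L ⊓ Subgroup.normalizer (T : Set G) ≤ Subgroup.normalizer (U : Set G) → U = ⊥ ∨ U = (V ⊓ Subgroup.centralizer ((T : Subgroup G) : Set G))) ∧ (∀ U : Subgroup G, (V ⊓ Subgroup.centralizer ((T : Subgroup G) : Set G)) ≤ U → U ≤ V → L ⊓ Subgroup.normalizer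 (T : Set G) ≤ Subgroup.normalizer (U : Set G) → U = (V ⊓ Subgroup.centralizer ((T : Subgroup G) : Set G)) ∨ U = V) := by
  obtain ⟨D⟩ := H74.NatMod.exists_adapted n hF V L hnat hf S
  subst hT
  set T := ((S : Subgroup ↥L).map L.subtype) with hT
  haveI := charP_of_card_eq_prime_pow (R := F) hF
  set C := V ⊓ Subgroup.centralizer (T : Set G) with hC
  have hdiag : ∀ lam : F, lam ≠ 0 → ∃ l : ↥L, (l : G) ∈ L ⊓ Subgroup.normalizer (T : Set G) ∧
      (D.e l : Matrix (Fin 2) (Fin 2) F) = !![lam, 0; 0, lam⁻¹] := by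
    intro lam hlam
    let A : Matrix.SpecialLinearGroup (Fin 2) F :=
      ⟨!![lam, 0; 0, lam⁻¹], by simp [Matrix.det_fin_two, hlam]⟩
    refine ⟨D.e.symm A, ⟨(D.e.symm A).2, Subgroup.mem_normalizer_iff.mpr fun t => ?_⟩,
      by rw [MulEquiv.apply_symm_apply]⟩
    have hA : A ∈ Subgroup.normalizer (H74.SL2.upper F : Set (Matrix.SpecialLinearGroup (Fin 2) F)) :=
      H74.SL2.mem_normalizer_upper.mpr (by simp [A])
    by_cases htL : t ∈ L
    · change _ ↔ ((D.e.symm A * ⟨t, htL⟩ * (D.e.symm A)⁻¹ : ↥L) : G) ∈ T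
      rw [D.mem_iff, map_mul, map_mul, map_inv, MulEquiv.apply_symm_apply,
        show t ∈ T ↔ D.e ⟨t, htL⟩ ∈ H74.SL2.upper F from D.mem_iff ⟨t, htL⟩]
      exact Subgroup.mem_normalizer_iff.mp hA _
    · refine ⟨fun h => absurd (D.le h) htL, fun h => absurd ?_ htL⟩
      have h2 := L.mul_mem (L.mul_mem (L.inv_mem (D.e.symm A).2) (D.le h)) (D.e.symm A).2
      simpa [mul_assoc] using h2
  refine ⟨fun g hg hgn => ?_, fun x hx hx1 hxp => ?_, fun U hU hUn => ?_, fun U hCU hUV hUn => ?_⟩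
  · have hgV : V.map (MulAut.conj g).toMonoidHom = V := H74.map_conj_eq_self (hnat.1 hg)
    have hD : V ⊓ Subgroup.centralizer ((T.map (MulAut.conj g).toMonoidHom : Subgroup G) : Set G) =
        C.map (MulAut.conj g).toMonoidHom := by
      rw [hC, H74.inf_centralizer_map _ _ _ (MulAut.conj g).injective, hgV]
    rw [hD]
    set A := D.e ⟨g, hg⟩ with hA
    have hc : (A : Matrix (Fin 2) (Fin 2) F) 1 0 ≠ 0 := by
      intro h0
      refine hgn (Subgroup.mem_normalizer_iff.mpr fun t => ?_)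
      have hAn := Subgroup.mem_normalizer_iff.mp (H74.SL2.mem_normalizer_upper.mpr h0)
      by_cases htL : t ∈ L
      · change _ ↔ ((⟨g, hg⟩ * ⟨t, htL⟩ * (⟨g, hg⟩ : ↥L)⁻¹ : ↥L) : G) ∈ T
        rw [D.mem_iff, map_mul, map_mul, map_inv,
          show t ∈ T ↔ D.e ⟨t, htL⟩ ∈ H74.SL2.upper F from D.mem_iff ⟨t, htL⟩]
        exact hAn _
      · refine ⟨fun h => absurd (D.le h) htL, fun h => absurd ?_ htL⟩
        have h2 := L.mul_mem (L.mul_mem (L.inv_mem hg) (D.le h)) hg
        simpa [mul_assoc] using h2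
    have him : ∀ v, v ∈ C → ∃ hv : g * v * g⁻¹ ∈ V, ∃ hv' : v ∈ V,
        D.vecOf hv = ![(A : Matrix (Fin 2) (Fin 2) F) 0 0 * D.vecOf hv' 0,
          (A : Matrix (Fin 2) (Fin 2) F) 1 0 * D.vecOf hv' 0] := fun v hv => by
      obtain ⟨hv', h1⟩ := D.mem_centralizerT_iff.mp hv
      refine ⟨D.conj_mem ⟨g, hg⟩ ⟨v, hv'⟩, hv', (D.vecOf_conj ⟨g, hg⟩ hv').trans ?_⟩
      funext i
      fin_cases i <;> simp [hA, Matrix.mulVec, dotProduct, Fin.sum_univ_two, h1]
    have hle : C.map (MulAut.conj g).toMonoidHom ≤ V := (Subgroup.map_mono inf_le_left).trans hgV.le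
    refine ⟨inf_le_left, hle, fun a ha b hb => ?_, ?_, le_antisymm (sup_le inf_le_left hle) ?_⟩
    · exact congrArg Subtype.val (Additive.ofMul.injective (D.co.injective (by
        show D.co (Additive.ofMul (⟨a, ha.1⟩ : V) + Additive.ofMul (⟨b, hle hb⟩ : V)) =
          D.co (Additive.ofMul (⟨b, hle hb⟩ : V) + Additive.ofMul (⟨a, ha.1⟩ : V))
        rw [map_add, map_add, add_comm])) : (⟨a * b, mul_mem ha.1 (hle hb)⟩ : V) =
          ⟨b * a, mul_mem (hle hb) ha.1⟩)
    · rw [Subgroup.eq_bot_iff_forall]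
      rintro _ ⟨hw, v, hv, rfl⟩
      obtain ⟨h1, hv', h2⟩ := him v hv
      obtain ⟨h3, h4⟩ := D.mem_centralizerT_iff.mp hw
      change D.vecOf h1 1 = 0 at h4
      rw [h2] at h4
      have h0 : D.vecOf hv' 0 = 0 := by simpa [hc] using h4
      refine D.vecOf_eq_zero h1 (h2.trans ?_)
      funext i
      fin_cases i <;> simp [h0]
    · intro w hw
      obtain ⟨v, hv', hv⟩ := D.vecOf_surj ![D.vecOf hw 1 / (A : Matrix (Fin 2) (Fin 2) F) 1 0, 0]
      have hvC : v ∈ C := D.mem_centralizerT_iff.mpr ⟨hv', by simp [hv]⟩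
      obtain ⟨h1, _, h2⟩ := him v hvC
      have h3 : w * (g * v * g⁻¹)⁻¹ ∈ C := by
        refine D.mem_centralizerT_iff.mpr ⟨mul_mem hw (inv_mem h1), ?_⟩
        rw [D.vecOf_mul hw (inv_mem h1), D.vecOf_inv h1, h2, hv]
        simp [mul_div_cancel₀ _ hc]
      have h4 := mul_mem (Subgroup.mem_sup_left h3)
        (Subgroup.mem_sup_right (S := C) (Subgroup.mem_map_of_mem (MulAut.conj g).toMonoidHom hvC))
      simpa [mul_assoc] using h4
  · rw [Subgroup.eq_bot_iff_forall]
    rintro v ⟨hv, hc⟩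
    set A := D.e ⟨x, hx⟩ with hA
    by_contra hv1
    have hw := (D.commute_iff ⟨x, hx⟩ hv).mp (Subgroup.mem_centralizer_singleton_iff.mp hc)
    rw [← hA] at hw
    set w := D.vecOf hv with hwdef
    have h0 := congrFun hw 0
    have h1 := congrFun hw 1
    simp only [Matrix.mulVec, dotProduct, Fin.sum_univ_two] at h0 h1
    have hdet := A.2
    rw [Matrix.det_fin_two] at hdet
    have htr : (A : Matrix (Fin 2) (Fin 2) F) 0 0 + (A : Matrix (Fin 2) (Fin 2) F) 1 1 = 2 := by
      have e0 : (2 - (A : Matrix (Fin 2) (Fin 2) F) 0 0 - (A : Matrix (Fin 2) (Fin 2) F) 1 1) * w 0 = 0 := by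
        linear_combination ((A : Matrix (Fin 2) (Fin 2) F) 1 1 - 1) * h0 -
          (A : Matrix (Fin 2) (Fin 2) F) 0 1 * h1 - w 0 * hdet
      have e1 : (2 - (A : Matrix (Fin 2) (Fin 2) F) 0 0 - (A : Matrix (Fin 2) (Fin 2) F) 1 1) * w 1 = 0 := by
        linear_combination ((A : Matrix (Fin 2) (Fin 2) F) 0 0 - 1) * h1 -
          (A : Matrix (Fin 2) (Fin 2) F) 1 0 * h0 - w 1 * hdet
      by_contra hne
      have hne' : (2 - (A : Matrix (Fin 2) (Fin 2) F) 0 0 - (A : Matrix (Fin 2) (Fin 2) F) 1 1) ≠ 0 :=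
        fun h => hne (by linear_combination -h)
      refine hv1 (D.vecOf_eq_zero hv ?_)
      funext i
      fin_cases i
      · exact (mul_eq_zero.mp e0).resolve_left hne'
      · exact (mul_eq_zero.mp e1).resolve_left hne'
    set N : Matrix (Fin 2) (Fin 2) F := (A : Matrix (Fin 2) (Fin 2) F) - 1 with hN
    have hNN : N * N = 0 := by
      ext i j
      fin_cases i <;> fin_cases j <;> simp [hN, Matrix.mul_apply, Fin.sum_univ_two]
      · linear_combination ((A : Matrix (Fin 2) (Fin 2) F) 0 0) * htr - hdet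
      · linear_combination (A : Matrix (Fin 2) (Fin 2) F) 0 1 * htr
      · linear_combination (A : Matrix (Fin 2) (Fin 2) F) 1 0 * htr
      · linear_combination ((A : Matrix (Fin 2) (Fin 2) F) 1 1) * htr - hdet
    have hpow : ∀ k : ℕ, ((A : Matrix (Fin 2) (Fin 2) F)) ^ k = 1 + k • N := by
      intro k
      induction k with
      | zero => simp
      | succ k ih =>
        rw [pow_succ, ih, show (A : Matrix (Fin 2) (Fin 2) F) = 1 + N by rw [hN]; abel,
          add_mul, mul_add, mul_add, one_mul, mul_one, one_mul, smul_mul_assoc, hNN, smul_zero,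
          add_zero, succ_nsmul]
        abel
    have hAp : A ^ p = 1 := by
      apply Subtype.ext
      rw [Matrix.SpecialLinearGroup.coe_pow, hpow]
      ext i j
      simp [CharP.cast_eq_zero F p]
    apply hx1
    have hxp' : x ^ p = 1 := by
      have := (D.e.map_eq_one_iff (x := (⟨x, hx⟩ : ↥L) ^ p)).mp (by rw [map_pow, ← hA, hAp])
      simpa using congrArg Subtype.val this
    exact orderOf_eq_one_iff.mp (Nat.eq_one_of_dvd_coprimes hxp (dvd_refl _) (orderOf_dvd_of_pow_eq_one hxp'))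
  · rcases eq_or_ne U ⊥ with h | h
    · exact Or.inl h
    refine Or.inr (le_antisymm hU fun w hw => ?_)
    obtain ⟨⟨u, hu⟩, hu1⟩ := Subgroup.ne_bot_iff_exists_ne_one.mp h
    obtain ⟨huV, hu0⟩ := D.mem_centralizerT_iff.mp (hU hu)
    obtain ⟨hwV, hw0⟩ := D.mem_centralizerT_iff.mp hw
    have hua : D.vecOf huV 0 ≠ 0 := fun ha => hu1 (Subtype.ext (D.vecOf_eq_zero huV (by
      funext i; fin_cases i <;> simp [ha, hu0])))
    by_cases hwa : D.vecOf hwV 0 = 0
    · rw [D.vecOf_eq_zero hwV (by funext i; fin_cases i <;> simp [hwa, hw0])]; exact one_mem U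
    obtain ⟨l, hl, hle⟩ := hdiag _ (div_ne_zero hwa hua)
    have h2 := (Subgroup.mem_normalizer_iff.mp (hUn hl) u).mp hu
    rwa [show (l : G) * u * (l : G)⁻¹ = w from D.vecOf_inj (hv := D.conj_mem l ⟨u, huV⟩) (hw := hwV) (by
      rw [D.vecOf_conj l huV, hle]
      funext i
      fin_cases i <;> simp [Matrix.mulVec, dotProduct, Fin.sum_univ_two, hu0, hw0,
        div_mul_cancel₀ _ hua])] at h2
  · rcases em (U ≤ C) with h | h
    · exact Or.inl (le_antisymm h hCU)
    refine Or.inr (le_antisymm hUV fun w hw => ?_)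
    obtain ⟨u, hu, huC⟩ := SetLike.not_le_iff_exists.mp h
    have hub : D.vecOf (hUV hu) 1 ≠ 0 := fun h0 => huC (D.mem_centralizerT_iff.mpr ⟨hUV hu, h0⟩)
    by_cases hwb : D.vecOf hw 1 = 0
    · exact hCU (D.mem_centralizerT_iff.mpr ⟨hw, hwb⟩)
    obtain ⟨l, hl, hle⟩ := hdiag _ (div_ne_zero hub hwb)
    have hv : (l : G) * u * (l : G)⁻¹ ∈ V := D.conj_mem l ⟨u, hUV hu⟩
    have h2 : w * ((l : G) * u * (l : G)⁻¹)⁻¹ ∈ U := hCU (D.mem_centralizerT_iff.mpr
      ⟨mul_mem hw (inv_mem hv), by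
        rw [D.vecOf_mul hw (inv_mem hv), D.vecOf_inv hv, D.vecOf_conj l (hUV hu), hle]
        simp [Matrix.mulVec, dotProduct, Fin.sum_univ_two, inv_div, div_mul_cancel₀ _ hub]⟩)
    simpa [mul_assoc] using mul_mem h2 ((Subgroup.mem_normalizer_iff.mp (hUn hl) u).mp hu)

end Cfsg.Agent.S2780
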