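import Cfsg.Statements.S2781
import Cfsg.Agent.H75.PReduced2
import Cfsg.Agent.H74.SylIn
-- import your own Cfsg.Agent.* helpers here

set_option autoImplicit false
open Cfsg

namespace Cfsg.Agent.S2781

/-- Let H act faithfully by conjugation on the elementary abelian p-subgroup V of a finite group, let O^p(H) be the subgroup of H generated by its elements of order prime to p, and T a Sylow p-subgroup of O^p(H). If V is generated by the H-conjugates of C_V(T) (V is the smallest H-invariant subgroup containing C_V(T)), then V = [V, O^p(H)]·C_V(O^p(H)). -/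
theorem result {G : Type*} [Group G] [Finite G] {p : ℕ} [Fact p.Prime] (V H : Subgroup G) (hV : Cfsg.IsElementaryAbelian p V) (hHV : H ≤ Subgroup.normalizer (V : Set G)) (hf : H ⊓ Subgroup.centralizer (V : Set G) = ⊥) (R : Subgroup G) (hR : R = (Cfsg.pResidual p ↥H).map H.subtype) (S : Sylow p ↥R) (T : Subgroup G) (hT : T = ((S : Subgroup ↥R).map R.subtype)) (hgen : ∀ W : Subgroup G, H ≤ Subgroup.normalizer (W : Set G) → (V ⊓ Subgroup.centralizer ((T : Subgroup G) : Set G)) ≤ W → V ≤ W) : ⁅V, R⁆ ⊔ (V ⊓ Subgroup.centralizer ((R : Subgroup G) : Set G)) = V := by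
  have hRH : R ≤ H := by rw [hR]; exact Subgroup.map_subtype_le _
  haveI : (Cfsg.pResidual p ↥H).Characteristic := H75.pResidual_characteristic p ↥H
  have hHR : H ≤ Subgroup.normalizer (R : Set G) := by
    rw [hR]
    exact Subgroup.le_normalizer.trans (H75.normalizer_le_normalizer_map_characteristic H _)
  have hVR : ⁅V, R⁆ ≤ V := Subgroup.commutator_le.mpr fun v hv r hr => by
    rw [commutatorElement_def, mul_assoc, mul_assoc, ← mul_assoc r]
    exact mul_mem hv ((Subgroup.mem_normalizer_iff.mp (hHV (hRH hr)) v⁻¹).mp (inv_mem hv))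
  refine le_antisymm (sup_le hVR inf_le_left) (hgen _ ?_ fun v hv => ?_)
  · refine le_trans (le_inf ?_ ?_) (H75.normalizer_inf_le_normalizer_sup _ _)
    · exact (le_inf hHV hHR).trans (H75.normalizer_inf_le_normalizer_commutator V R)
    · exact (le_inf hHV (hHR.trans (H75.normalizer_le_normalizer_centralizer R))).trans
        (H75.normalizer_inf_le_normalizer_inf _ _)
  rw [sup_comm]
  refine H75.exists_fixed_congr hV (hRH.trans hHV) le_rfl hv.1 fun hd => ?_
  refine S.not_dvd_index (hd.trans (Subgroup.index_dvd_of_le fun x hx => ?_))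
  rw [Subgroup.mem_subgroupOf, Subgroup.mem_centralizer_singleton_iff]
  exact Subgroup.mem_centralizer_iff.mp hv.2 (x : G) (hT ▸ Subgroup.mem_map_of_mem R.subtype hx)

end Cfsg.Agent.S2781
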