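import Cfsg.Statements.S2787
import Cfsg.Agent.H32.QuadImageRee
import Cfsg.Agent.H84.PQLemma

set_option autoImplicit false
open Cfsg

namespace Cfsg.Agent.S2787

open scoped commutatorElement

/-- Let p be a prime and let H act by conjugation on the elementary abelian p-subgroup V of a finite group, irreducibly (no H-invariant subgroups of V other than 1 and V) and nontrivially, and suppose H/C_H(V) is isomorphic to PSL₂(F) for a field F with p^n elements, p^n odd, or p = 3 and H/C_H(V) is isomorphic to a Ree group ²G₂(3^(2m+1)), m ≥ 1. Then no subgroup A of H acting nontrivially on V acts quadratically: [V, A, A] = 1 forces [V, A] = 1. -/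
theorem result {G : Type*} [Group G] [Finite G] {p : ℕ} [Fact p.Prime] (V H : Subgroup G) (hV : Cfsg.IsElementaryAbelian p V) (hHV : H ≤ Subgroup.normalizer (V : Set G)) (hirr : ∀ U : Subgroup G, U ≤ V → H ≤ Subgroup.normalizer (U : Set G) → U = ⊥ ∨ U = V) (hnt : ¬ H ≤ Subgroup.centralizer (V : Set G)) [hn : ((Subgroup.centralizer (V : Set G)).subgroupOf H).Normal] (hq : (∃ (F : Type) (_ : Field F) (_ : Fintype F) (n : ℕ), Fintype.card F = p ^ n ∧ Odd (Fintype.card F) ∧ Nonempty (↥H ⧸ (Subgroup.centralizer (V : Set G)).subgroupOf H ≃* Matrix.ProjectiveSpecialLinearGroup (Fin 2) F)) ∨ (p = 3 ∧ Cfsg.Lie.IsoRee (↥H ⧸ (Subgroup.centralizer (V : Set G)).subgroupOf H))) (A : Subgroup G) (hA : A ≤ H) (hquad : ⁅⁅V, A⁆, A⁆ = ⊥) : ⁅V, A⁆ = ⊥ := by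
  classical
  set C := (Subgroup.centralizer (V : Set G)).subgroupOf H with hC
  obtain ⟨n, ρ, hker, hq0⟩ := H10.exists_rep V hV hHV
  by_contra hne
  obtain ⟨a, haA, haC⟩ : ∃ a ∈ A, a ∉ Subgroup.centralizer (V : Set G) := by
    by_contra h
    push Not at h
    apply hne
    rw [Subgroup.commutator_comm, Subgroup.commutator_eq_bot_iff_le_centralizer]
    exact h
  have hqa : H10.IsQuadOn V a := by
    have hz : Subgroup.zpowers a ≤ A := Subgroup.zpowers_le.2 haA
    exact eq_bot_iff.2 ((Subgroup.commutator_mono (Subgroup.commutator_mono le_rfl hz) hz).trans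
      hquad.le)
  let ρ₁ := QuotientGroup.lift C ρ fun y hy => MonoidHom.mem_ker.mpr ((hker y).mpr hy)
  have hinj : Function.Injective ρ₁ := by
    rw [← MonoidHom.ker_eq_bot_iff, eq_bot_iff]
    intro y hy
    obtain ⟨g, rfl⟩ := QuotientGroup.mk'_surjective C y
    exact Subgroup.mem_bot.mpr ((QuotientGroup.eq_one_iff g).mpr ((hker g).mp hy))
  have hq1 : H10.IsQuadEnd ρ₁ ((⟨a, hA haA⟩ : H) : H ⧸ C) := hq0 ⟨a, hA haA⟩ hqa
  have hVne : V ≠ ⊥ := fun h => hnt (by
    intro x _
    rw [Subgroup.mem_centralizer_iff]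
    intro v hv
    rw [h, SetLike.mem_coe, Subgroup.mem_bot] at hv
    rw [hv, one_mul, mul_one])
  have hcore : Cfsg.pCore p (H ⧸ C) = ⊥ := by
    rw [eq_bot_iff]
    intro y hy
    obtain ⟨g, rfl⟩ := QuotientGroup.mk'_surjective C y
    set Y := (Cfsg.pCore p (H ⧸ C)).comap (QuotientGroup.mk' C) with hY
    haveI : Y.Normal := Subgroup.Normal.comap inferInstance _
    obtain ⟨S⟩ : Nonempty (Sylow p Y) := inferInstance
    set S' := ((S : Subgroup Y).map Y.subtype).map H.subtype with hS'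
    have hS'p : IsPGroup p S' := (S.isPGroup'.map _).map _
    have hVp : IsPGroup p V := fun v => ⟨1, Subtype.ext (by simpa using hV.2 _ v.2)⟩
    have hVS : S' ≤ Subgroup.normalizer (V : Set G) := (Subgroup.map_subtype_le _).trans hHV
    have hYS : ∀ z ∈ Y, ∃ s ∈ (S : Subgroup Y).map Y.subtype, ∃ c ∈ C, z = s * c := by
      intro z hz
      let f := (QuotientGroup.mk' C).comp Y.subtype
      have hfr : IsPGroup p f.range := by
        refine (H10.pCore_isPGroup (G := H ⧸ C) (p := p)).to_le ?_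
        rintro _ ⟨b, rfl⟩
        exact b.2
      let T := S.mapSurjective (f := f.rangeRestrict) f.rangeRestrict_surjective
      have hT : (T : Subgroup f.range) = ⊤ := by
        rw [← Subgroup.index_eq_one]
        obtain ⟨k, hk⟩ := hfr.exists_card_eq
        have hd := (T : Subgroup f.range).index_dvd_card
        rw [hk] at hd
        obtain ⟨i, -, hi⟩ := (Nat.dvd_prime_pow (Fact.out : p.Prime)).mp hd
        rcases Nat.eq_zero_or_pos i with h0 | h0
        · rw [hi, h0, pow_zero]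
        · exact absurd (hi ▸ dvd_pow_self p h0.ne') T.not_dvd_index
      obtain ⟨s, hs, hse⟩ := hT.ge (Subgroup.mem_top (f.rangeRestrict ⟨z, hz⟩))
      refine ⟨s, ⟨s, hs, rfl⟩, (s : H)⁻¹ * z, ?_, by group⟩
      exact QuotientGroup.eq.mp (congrArg Subtype.val hse)
    have hlt : ⁅V, S'⁆ < V := H84.commutator_lt_of_isPGroup hVp hS'p hVS hVne
    have heq : ⁅V, Y.map H.subtype⁆ ≤ ⁅V, S'⁆ := by
      rw [Subgroup.commutator_le]
      rintro v hv _ ⟨z, hz, rfl⟩
      obtain ⟨s, hs, c, hc, rfl⟩ := hYS z hz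
      have hc' : (c : G) ∈ Subgroup.centralizer (V : Set G) := hc
      have hca : (c : G) * v⁻¹ * (c : G)⁻¹ = v⁻¹ := by
        rw [mul_inv_eq_iff_eq_mul]
        exact (Subgroup.mem_centralizer_iff.mp hc' _ (inv_mem hv)).symm
      have e : ⁅v, (s : G) * c⁆ = v * s * ((c : G) * v⁻¹ * (c : G)⁻¹) * (s : G)⁻¹ := by
        simp only [commutatorElement_def]; group
      rw [Subgroup.coe_subtype, Subgroup.coe_mul, e, hca, ← commutatorElement_def]
      exact Subgroup.commutator_mem_commutator hv ⟨s, hs, rfl⟩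
    have hnY : H ≤ Subgroup.normalizer (Y.map H.subtype : Set G) := by
      intro h hh
      rw [Subgroup.mem_normalizer_iff]
      intro x
      constructor
      · rintro ⟨y, hy, rfl⟩
        exact ⟨⟨h, hh⟩ * y * ⟨h, hh⟩⁻¹, Subgroup.Normal.conj_mem inferInstance y hy _, by simp⟩
      · rintro ⟨y, hy, hyx⟩
        refine ⟨⟨h, hh⟩⁻¹ * y * ⟨h, hh⟩⁻¹⁻¹, Subgroup.Normal.conj_mem inferInstance y hy _, ?_⟩
        rw [Subgroup.coe_subtype] at hyx
        simp [hyx, mul_assoc]
    have hnC : H ≤ Subgroup.normalizer ((⁅V, Y.map H.subtype⁆ : Subgroup G) : Set G) := by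
      intro h hh
      rw [Subgroup.mem_normalizer_iff_map_conj_eq, Subgroup.map_commutator,
        Subgroup.mem_normalizer_iff_map_conj_eq.mp (hHV hh),
        Subgroup.mem_normalizer_iff_map_conj_eq.mp (hnY hh)]
    have hbot : ⁅V, Y.map H.subtype⁆ = ⊥ := by
      refine (hirr _ (heq.trans hlt.le) hnC).resolve_right fun h => ?_
      exact hlt.not_ge (le_of_eq_of_le h.symm heq)
    refine Subgroup.mem_bot.mpr ((QuotientGroup.eq_one_iff g).mpr ?_)
    rw [Subgroup.commutator_comm, Subgroup.commutator_eq_bot_iff_le_centralizer] at hbot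
    exact hbot ⟨g, hy, rfl⟩
  have hna : ((⟨a, hA haA⟩ : H) : H ⧸ C) ∉ Cfsg.pCore p (H ⧸ C) := by
    rw [hcore, Subgroup.mem_bot]
    exact fun h => haC ((QuotientGroup.eq_one_iff (N := C) (⟨a, hA haA⟩ : H)).mp h)
  rcases hq with ⟨F, _, _, k, hF, hodd, ⟨e⟩⟩ | ⟨hp3, hR⟩
  · have hp2 : p ≠ 2 := by
      rintro rfl
      rw [hF, Nat.odd_pow_iff (fun h => ?_)] at hodd
      · exact absurd hodd (by decide)
      · have := Fintype.one_lt_card (α := F)
        rw [hF, h, pow_zero] at this
        omega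
    have h2 : (2 : F) ≠ 0 := by
      intro h2
      have h21 : ringChar F = 2 := by
        haveI := (CharTwo.of_one_ne_zero_of_two_eq_zero one_ne_zero h2 : CharP F 2)
        exact ringChar.eq F 2
      exact FiniteField.even_card_iff_char_two.mp h21 |> fun h => by
        rw [Nat.odd_iff] at hodd
        omega
    obtain ⟨S, ψ, hS, x, y, hxy⟩ := H32.Quad.exists_not_comm_two hp2 hinj hq1 hna
    let e' := S.equivMapOfInjective e.toMonoidHom e.injective
    apply hxy
    have := H32.Quad.comm_psl2 hp2 h2 (hS.of_equiv e') (ψ.comp e'.symm.toMonoidHom) (e' x) (e' y)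
    have hsym : ∀ w : S, (ψ.comp e'.symm.toMonoidHom) (e' w) = ψ w :=
      fun w => congrArg ψ (e'.symm_apply_apply w)
    exact ((congrArg₂ (· * ·) (hsym x) (hsym y)).symm.trans this).trans
      (congrArg₂ (· * ·) (hsym y) (hsym x))
  · subst hp3
    obtain ⟨S, ψ, hS, x, y, hxy⟩ := H32.Quad.exists_not_comm_two (show (3 : ℕ) ≠ 2 by norm_num) hinj hq1 hna
    exact hxy (H32.Quad.comm_ree (p := 3) (by norm_num) hR hS ψ x y)

end Cfsg.Agent.S2787
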