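import Cfsg.Statements.S2788
import Cfsg.Agent.H74.Rank1Bound
-- import your own Cfsg.Agent.* helpers here

set_option autoImplicit false
open Cfsg

namespace Cfsg.Agent.S2788

/-- Let H act faithfully by conjugation on the elementary abelian p-subgroup V of a finite group with H ≅ SL₂(F), F a field with p^n elements, S a Sylow p-subgroup of H, and A ≤ S a subgroup of order at least 3 acting quadratically on V ([V, A, A] = 1). Then |V/C_V(a)| ≥ p^n for every nonidentity a ∈ A. -/
theorem result {G : Type*} [Group G] [Finite G] {p : ℕ} [Fact p.Prime] (V H : Subgroup G) (hV : Cfsg.IsElementaryAbelian p V) (hHV : H ≤ Subgroup.normalizer (V : Set G)) (hf : H ⊓ Subgroup.centralizer (V : Set G) = ⊥) {F : Type*} [Field F] [Fintype F] (n : ℕ) (hF : Fintype.card F = p ^ n) (hiso : Nonempty (↥H ≃* Matrix.SpecialLinearGroup (Fin 2) F)) (S : Sylow p ↥H) (T : Subgroup G) (hT : T = ((S : Subgroup ↥H).map H.subtype)) (A : Subgroup G) (hA : A ≤ T) (hA3 : 3 ≤ Nat.card A) (hquad : ⁅⁅V, A⁆, A⁆ = ⊥) : ∀ a ∈ A, a ≠ 1 → p ^ n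 ≤ ((V ⊓ Subgroup.centralizer ({a} : Set G))).relIndex V := by
  subst hT
  intro a haA ha1
  obtain ⟨s, hsS, rfl⟩ := hA haA
  have hpp : p.Prime := Fact.out
  haveI : CharP F p := charP_of_card_eq_prime_pow hF
  obtain ⟨e⟩ := hiso
  have hVp : IsPGroup p V := fun v => ⟨1, Subtype.ext (by simpa using hV.2 v v.2)⟩
  by_cases hn : 2 ≤ n
  · refine H74.Rank1.sq_le_relIndex_sq hVp hHV hf (H39.proj.comp e.toMonoidHom)
      (H39.proj_surjective.comp e.surjective) hF hn s ?_ ?_
    · rw [← MonoidHom.map_zpowers]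
      exact (S.isPGroup'.to_le (Subgroup.zpowers_le.mpr hsS)).map _
    · intro h
      apply ha1
      obtain ⟨k, hk⟩ := S.isPGroup' ⟨s, hsS⟩
      have hk' : e s ^ p ^ k = 1 := by rw [← map_pow, show s ^ p ^ k = 1 from congrArg Subtype.val hk, map_one]
      have hse : e s = 1 := by
        rcases (H39.mem_center_iff_pm.mp (H39.proj_eq_one_iff.mp h) : _) with h1 | h1
        · exact h1
        · by_cases hp2 : p = 2
          · subst hp2
            refine h1.trans ?_
            apply Subtype.ext
            ext i j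
            simp [CharTwo.neg_eq]
          · have ho : ((-1 : Matrix.SpecialLinearGroup (Fin 2) F)) ^ p ^ k = -1 := ((hpp.odd_of_ne_two hp2).pow).neg_one_pow
            rw [show e s = -1 from h1, ho] at hk'
            rw [show e s = -1 from h1, hk']
      have := e.injective (hse.trans (map_one e).symm)
      rw [this]; rfl
  · have hn1 : n ≤ 1 := by omega
    refine le_trans (Nat.pow_le_pow_right hpp.pos hn1) ?_
    rw [pow_one]
    set C := V ⊓ Subgroup.centralizer ({(H.subtype s)} : Set G) with hC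
    obtain ⟨i, hi⟩ := (hVp.index (C.subgroupOf V))
    show p ≤ (C.subgroupOf V).index
    rw [hi]
    refine Nat.le_self_pow (fun h0 => ha1 ?_) p
    rw [h0, pow_zero, Subgroup.index_eq_one, Subgroup.subgroupOf_eq_top] at hi
    have h1 : (s : G) ∈ H ⊓ Subgroup.centralizer (V : Set G) := ⟨s.2, Subgroup.mem_centralizer_iff.mpr
      fun v hv => Subgroup.mem_centralizer_singleton_iff.mp (hi hv).2⟩
    rw [hf, Subgroup.mem_bot] at h1
    exact h1

end Cfsg.Agent.S2788
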