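import Cfsg.Statements.S2791
import Cfsg.Agent.H85.Normal
import Cfsg.Agent.H85.GroupSystem
-- import your own Cfsg.Agent.* helpers here

set_option autoImplicit false
open Cfsg

namespace Cfsg.Agent.S2791

/-- Let S be a Sylow p-subgroup of the finite group G and A an abelian subgroup of S that is strongly closed in S with respect to G. Then A controls strong fusion in G: for some Sylow p-subgroup T containing A, whenever a subset of T is conjugated into T by an element of G, the same elementwise conjugation is induced by an element of N_G(A). -/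
theorem result {G : Type*} [Group G] [Finite G] {p : ℕ} [Fact p.Prime] (S : Sylow p G) (A : Subgroup G) (hA : IsMulCommutative ↥A) (hsc : Cfsg.IsStronglyClosed A (S : Subgroup G)) : Cfsg.ControlsStrongFusion p A := by
  have hscF : (Cfsg.groupFusionSystem (S : Subgroup G)).StronglyClosed A := by
    refine ⟨hsc.1, ?_⟩
    rintro R hR φ ⟨-, hφS, g, hg⟩ x
    have h := hφS x
    rw [hg x] at h ⊢
    exact hsc.2 x (hR x.2) g h
  obtain ⟨-, hN⟩ := H85.isNormal_of_abelian S.isPGroup' (H85.isSaturated_groupFusionSystem S) hscF hA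
  refine ⟨S, hsc.1, fun A₀ hA₀ => ⟨hA₀, fun g hg => ?_⟩⟩
  have hP : Subgroup.closure A₀ ≤ (S : Subgroup G) := (Subgroup.closure_le _).mpr hA₀
  let φ : ↥(Subgroup.closure A₀) →* G :=
    (MulAut.conj g).toMonoidHom.comp (Subgroup.closure A₀).subtype
  have hPS : ∀ x : ↥(Subgroup.closure A₀), φ x ∈ (S : Subgroup G) := by
    intro x
    have : Subgroup.closure A₀ ≤ (S : Subgroup G).comap (MulAut.conj g).toMonoidHom :=
      (Subgroup.closure_le _).mpr fun a ha => hg ⟨a, ha, rfl⟩
    exact this x.2
  obtain ⟨ψ, ⟨-, -, h, hh⟩, hext, hmap⟩ := hN _ φ ⟨hP, hPS, g, fun x => rfl⟩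
  refine ⟨h, ?_, fun a ha => ?_⟩
  · rw [Subgroup.mem_normalizer_iff_map_conj_eq]
    conv_rhs => rw [← hmap]
    ext y
    constructor
    · rintro ⟨a, ha, rfl⟩
      exact ⟨⟨a, le_sup_right (a := Subgroup.closure A₀) ha⟩, ha, hh _⟩
    · rintro ⟨z, hz, rfl⟩
      exact ⟨z, hz, (hh z).symm⟩
  · have e := hext ⟨a, Subgroup.subset_closure ha⟩
    rw [hh] at e
    exact e.symm

end Cfsg.Agent.S2791
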