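import Cfsg.Statements.S2792
import Cfsg.Agent.H5.YoshidaNorm
-- import your own Cfsg.Agent.* helpers here

set_option autoImplicit false
open Cfsg

namespace Cfsg.Agent.S2792

/-- Let S be a Sylow p-subgroup of the finite group G and W a subgroup of S weakly closed in S with respect to G. If S ∩ G' ≠ S ∩ (N_G(W))', then there are x ∈ S, z ∈ W and a maximal subgroup W₀ of W such that the iterated commutator [x, z; p−1] (with [x, z] = x⁻¹z⁻¹xz and [x, z; i+1] = [[x, z; i], z]) lies in W₀ but not in the Frattini subgroup of W₀; in particular [x, z; p−1] ≠ 1. -/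
theorem result {G : Type*} [Group G] [Finite G] {p : ℕ} [Fact p.Prime] (S : Sylow p G) (W : Subgroup G) (hW : Cfsg.IsWeaklyClosed W (S : Subgroup G)) (h : (S : Subgroup G) ⊓ commutator G ≠ (S : Subgroup G) ⊓ ⁅Subgroup.normalizer (W : Set G), Subgroup.normalizer (W : Set G)⁆) : ∃ x ∈ (S : Subgroup G), ∃ z ∈ W, ∃ W₀ : Subgroup ↥W, IsCoatom W₀ ∧ (fun y : G => y⁻¹ * z⁻¹ * y * z)^[p - 1] x ∈ W₀.map W.subtype ∧ (fun y : G => y⁻¹ * z⁻¹ * y * z)^[p - 1] x ∉ ((frattini ↥W₀).map W₀.subtype).map W.subtype := by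
  obtain ⟨T, M, hMn, ν, z, w, hTS, hWT, hM, hzW, hzM, hw, hne⟩ := H5.exists_norm_ne_one S hW h
  have := hMn
  have hit : ∀ k, (fun y : G => y⁻¹ * (z : G)⁻¹ * y * z)^[k] (w : G) =
      (((H5.commStep z)^[k] w : T) : G) := by
    intro k
    induction k with
    | zero => rfl
    | succ k ih =>
      rw [Function.iterate_succ_apply', Function.iterate_succ_apply', ih]
      simp [H5.commStep]
  have hSW : ∀ s ∈ (S : Subgroup G), ∀ x ∈ W, s * x * s⁻¹ ∈ W := by
    intro s hs x hx
    have h1 := hW.2 s (by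
      rintro _ ⟨y, hy, rfl⟩
      exact mul_mem (mul_mem hs (hW.1 hy)) (inv_mem hs))
    exact h1 ▸ ⟨x, hx, rfl⟩
  set y : T := (H5.commStep z)^[p - 1] w with hy
  have hyM : y ∈ M := H5.commStep_iterate_mem z hw _
  have hyW : (y : G) ∈ W := by
    obtain ⟨k, hk⟩ : ∃ k, p - 1 = k + 1 :=
      ⟨p - 2, by have := (Fact.out : p.Prime).two_le; omega⟩
    rw [hy, hk, Function.iterate_succ_apply']
    set v : T := (H5.commStep z)^[k] w
    show (v : G)⁻¹ * (z : G)⁻¹ * v * z ∈ W
    refine mul_mem ?_ hzW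
    have h1 := hSW _ (inv_mem (hTS v.2)) _ (inv_mem hzW)
    simpa using h1
  refine ⟨w, hTS w.2, z, hzW, (M.map T.subtype).subgroupOf W, ?_, ?_, ?_⟩
  · have hidx : ((M.map T.subtype).subgroupOf W).index ∣ p := by
      show (M.map T.subtype).relIndex W ∣ p
      rw [← Subgroup.map_subgroupOf_eq_of_le hWT, Subgroup.relIndex_map_map_of_injective _ _ T.subtype_injective]
      have h1 := Subgroup.relIndex_dvd_index_of_normal M (W.subgroupOf T)
      rwa [Subgroup.index_eq_card, H31.card_quotient_coatom (S.2.to_le hTS) hM] at h1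
    have hne' : (M.map T.subtype).subgroupOf W ≠ ⊤ := by
      intro htop
      rw [Subgroup.subgroupOf_eq_top] at htop
      obtain ⟨m, hm, hme⟩ := htop hzW
      exact hzM ((Subtype.ext hme : m = z) ▸ hm)
    have hp := (Fact.out : p.Prime)
    have hidx' : ((M.map T.subtype).subgroupOf W).index = p :=
      ((Nat.dvd_prime hp).mp hidx).resolve_left fun h1 => hne' (Subgroup.index_eq_one.mp h1)
    refine ⟨hne', fun K hK => ?_⟩
    rcases (Nat.dvd_prime hp).mp (hidx' ▸ Subgroup.index_dvd_of_le hK.le) with h1 | h1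
    · exact Subgroup.index_eq_one.mp h1
    · exact absurd (Subgroup.index_strictAnti hK) (by rw [h1, hidx']; exact lt_irrefl _)
  · rw [hit]
    exact ⟨⟨y, hyW⟩, Subgroup.mem_subgroupOf.mpr ⟨y, hyM, rfl⟩, rfl⟩
  · rw [hit]
    rintro ⟨_, ⟨a, ha, rfl⟩, hay⟩
    -- `ν` kills the Frattini subgroup of `W₀`
    have hmem : ∀ b : (M.map T.subtype).subgroupOf W, ∃ hT : ((b : W) : G) ∈ T,
        (⟨_, hT⟩ : T) ∈ M := by
      intro b
      obtain ⟨m, hm, hmb⟩ := Subgroup.mem_subgroupOf.mp b.2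
      have hT' : ((b : W) : G) ∈ T := by rw [show ((b : W) : G) = (m : G) from hmb.symm]; exact m.2
      exact ⟨hT', (Subtype.ext hmb : m = ⟨_, hT'⟩) ▸ hm⟩
    let incl : (M.map T.subtype).subgroupOf W →* M :=
      { toFun := fun b => ⟨⟨_, (hmem b).1⟩, (hmem b).2⟩
        map_one' := rfl
        map_mul' := fun _ _ => rfl }
    have hA : Nat.card (Multiplicative (ZMod p)) = p := by simp
    have h1 : ν (incl a) = 1 := H5.frattini_le_ker_of_card_eq hA (ν.comp incl) ha
    refine H5.map_iterate_ne_one ν z hw hne ?_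
    rw [← h1]
    congr 1
    exact Subtype.ext (Subtype.ext hay.symm)
end Cfsg.Agent.S2792
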