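import Cfsg.Statements.S2796
import Cfsg.Agent.H74.Pair.Functor
import Cfsg.Agent.S1997
-- import your own Cfsg.Agent.* helpers here

set_option autoImplicit false
universe u
open Cfsg

namespace Cfsg.Agent.S2796

/-- Let G be a finite group in which the symmetric group of degree 4 is not involved, such that for every section K/R of G with C(O₂(K/R)) ≤ O₂(K/R) every non-abelian composition factor of K/R is a Suzuki group Sz(2^(2n+1)) or PSL₂ over a field with 3^(2n+1) elements. Let S be a Sylow 2-subgroup, J_e(S) the subgroup generated by its elementary abelian subgroups of largest order, and A the normal closure of Ω₁(Z(S)) in N_G(J_e(S)). Then A is an elementary abelian subgroup of S, strongly closed in S with respect to G, and A controls strong fusion in G. -/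
theorem result {G : Type u} [Group G] [Finite G] (hfree : ¬ Cfsg.Involves (Equiv.Perm (Fin 4)) G) (hsec : ∀ (K R : Subgroup G) [hR : (R.subgroupOf K).Normal], Subgroup.centralizer (Cfsg.pCore 2 (K ⧸ R.subgroupOf K) : Set (K ⧸ R.subgroupOf K)) ≤ Cfsg.pCore 2 (K ⧸ R.subgroupOf K) → Cfsg.IsCompositionKGroupWith Cfsg.IsSuzukiOrPSL2OddPowerThree (K ⧸ R.subgroupOf K)) (S : Sylow 2 G) (N : Subgroup G) (hN : N = Subgroup.normalizer (Cfsg.thompsonSubgroupOf 2 (S : Subgroup G) : Set G)) (A : Subgroup G) (hA : A = (Subgroup.normalClosure (((Cfsg.omegaOne 2 ((S : Subgroup G) ⊓ Subgroup.centralizer ((S : Subgroup G) : Set G))).subgroupOf N : Subgroup ↥N) : Set ↥N)).map N.subtype) : A ≤ S ∧ Cfsg.IsElementaryAbelian 2 A ∧ Cfsg.IsStronglyClosed A (S : Subgroup G) ∧ Cfsg.ControlsStrongFusion 2 A := by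
  haveI : Fact (Nat.Prime 2) := ⟨Nat.prime_two⟩
  refine Cfsg.Agent.S1997.result S H74.Pair.jFun.{u} H74.Pair.zJFun.{u} H74.Pair.isCharPFunctor_jFun
    H74.Pair.isCharPFunctor_zJFun ?_ ?_ N hN A hA
  · intro K R hR hconstr T
    have hc := hsec K R hconstr
    have hf : ¬ Cfsg.Involves (Equiv.Perm (Fin 4)) (↥K ⧸ R.subgroupOf K) :=
      fun e => hfree (H74.JA.involves_subgroup (H74.JA.involves_quotient e))
    have hle : ∀ P : Subgroup (↥K ⧸ R.subgroupOf K),
        Subgroup.centralizer ((P ⊓ Subgroup.centralizer (P : Set (↥K ⧸ R.subgroupOf K)) :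
            Subgroup (↥K ⧸ R.subgroupOf K)) : Set (↥K ⧸ R.subgroupOf K)) ≤
          Subgroup.centralizer ((Cfsg.omegaOne 2 (P ⊓ Subgroup.centralizer
            (P : Set (↥K ⧸ R.subgroupOf K))) : Subgroup (↥K ⧸ R.subgroupOf K)) :
              Set (↥K ⧸ R.subgroupOf K)) := by
      intro P
      apply Subgroup.centralizer_le
      intro x hx
      refine (Subgroup.closure_le _).mpr ?_ hx
      exact fun y hy => hy.1
    refine ⟨fun x => ?_, fun x => ?_, fun x => ?_⟩
    · obtain ⟨c, hc', n, hn, e⟩ := H74.Pair.factor_thompson hconstr hf hc T x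
      exact ⟨c, hle _ hc', n, hn, e⟩
    · obtain ⟨c, hc', n, hn, e⟩ := H74.Pair.factor_jHat hconstr hf hc T x
      refine ⟨c, hle _ hc', n, ?_, e⟩
      rw [H74.Pair.inducedFunctor_zJFun]
      exact H74.Pair.normalizer_jH_le_normalizer_zJH _ hn
    · obtain ⟨c, hc', n, hn, e⟩ := H74.Pair.factor_zJH hconstr hf hc T x⁻¹
      refine ⟨n⁻¹, inv_mem hn, c⁻¹, ?_, by rw [← mul_inv_rev, ← e, inv_inv]⟩
      rw [H74.Pair.inducedFunctor_zJFun]
      exact inv_mem (Subgroup.centralizer_le_normalizer _ hc')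
  · rw [H74.Pair.inducedFunctor_zJFun]
    exact H74.Pair.omegaOne_center_le _

end Cfsg.Agent.S2796
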