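import Cfsg.Statements.S2809
import Cfsg.Agent.H75.Basic

set_option autoImplicit false
open Cfsg
open Subgroup
open scoped commutatorElement

namespace Cfsg.Agent.S2809

/-- Let H be a finite group, p a prime, R a p-subgroup of H with C_H(R) ≤ R, and L a subgroup of N_H(R) acting nilpotently on R (some iterated commutator [R, L, …, L] is trivial). Then L is a p-group. -/
theorem result {H : Type*} [Group H] [Finite H] {p : ℕ} [Fact p.Prime] (R : Subgroup H) (hR : IsPGroup p ↥R) (hC : Subgroup.centralizer (R : Set H) ≤ R) (L : Subgroup H) (hL : L ≤ Subgroup.normalizer (R : Set H)) (hnil : ∃ n : ℕ, Cfsg.iterCommutator R L n = ⊥) : IsPGroup p ↥L := by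
  obtain ⟨n, hn⟩ := hnil
  have hle : ∀ i, Cfsg.iterCommutator R L i ≤ R := by
    intro i
    induction i with
    | zero => exact le_rfl
    | succ i ih =>
      exact (commutator_mono ih le_rfl).trans (le_normalizer_iff_commutator_le_left.mp hL)
  refine H75.isPGroup_of_no_coprime fun x hx hxc => ?_
  have key : ∀ j i, i + j = n → ∀ a ∈ Cfsg.iterCommutator R L i, Commute x a := by
    intro j
    induction j with
    | zero =>
      intro i hi a ha
      obtain rfl : i = n := by omega
      rw [hn, mem_bot] at ha
      rw [ha]
      exact Commute.one_right x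
    | succ j ih =>
      intro i hi
      refine H75.commute_of_stabilize (B := Cfsg.iterCommutator R L (i + 1)) (hR.to_le (hle _)) hxc
        (fun a ha => ?_) (ih (i + 1) (by omega))
      show ⁅x, a⁆ ∈ ⁅Cfsg.iterCommutator R L i, L⁆
      rw [commutator_comm]
      exact commutator_mem_commutator hx ha
  have hxR : x ∈ R := hC (mem_centralizer_iff.mpr fun a ha => ((key n 0 (by omega)) a ha).symm.eq)
  exact H75.eq_one_of_mem_of_coprime hR hxR hxc

end Cfsg.Agent.S2809
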