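import Cfsg.Statements.S2810
import Cfsg.Agent.H75.Basic

set_option autoImplicit false
open Cfsg
open Subgroup
open scoped commutatorElement

namespace Cfsg.Agent.S2810

/-- Let H be a finite group of characteristic p and L a subgroup of H centralizing every factor of some H-invariant chain 1 = A₀ ≤ A₁ ≤ … ≤ Aₙ = O_p(H) of normal subgroups (that is, [A_{i+1}, L] ≤ Aᵢ for each i). Then L ≤ O_p(H). -/
theorem result {H : Type*} [Group H] [Finite H] {p : ℕ} [Fact p.Prime] (hchar : Subgroup.centralizer (Cfsg.pCore p H : Set H) ≤ Cfsg.pCore p H) (L : Subgroup H) (n : ℕ) (A : Fin (n + 1) → Subgroup H) (h0 : A 0 = ⊥) (hn : A (Fin.last n) = Cfsg.pCore p H) (hmono : Monotone A) (hnorm : ∀ i, (A i).Normal) (hcent : ∀ i : Fin n, ⁅A i.succ, L⁆ ≤ A i.castSucc) : L ≤ Cfsg.pCore p H := by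
  have hN : ∀ i : Fin n, ⁅A i.succ, normalClosure (L : Set H)⁆ ≤ A i.castSucc := by
    intro i
    have := hnorm i.succ
    have := hnorm i.castSucc
    set f := QuotientGroup.mk' (A i.castSucc)
    have hAn : ((A i.succ).map f).Normal := Normal.map inferInstance _ (QuotientGroup.mk'_surjective _)
    have key : ∀ X : Subgroup H, ⁅A i.succ, X⁆ ≤ A i.castSucc ↔
        X ≤ (centralizer ((A i.succ).map f : Set (H ⧸ A i.castSucc))).comap f := by
      intro X
      rw [← map_le_iff_le_comap, ← commutator_eq_bot_iff_le_centralizer, commutator_comm (X.map f),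
        ← map_commutator, Subgroup.map_eq_bot_iff, QuotientGroup.ker_mk']
    exact (key _).mpr (normalClosure_le_normal ((key L).mp (hcent i)))
  refine le_normalClosure.trans (H1.le_pCore (H75.isPGroup_of_no_coprime fun x hx hxc => ?_))
  have hp := H1.isPGroup_pCore p H
  have hle : ∀ i, A i ≤ Cfsg.pCore p H := fun i => hn ▸ hmono (Fin.le_last i)
  have key : ∀ i, ∀ a ∈ A i, Commute x a := by
    intro i
    induction i using Fin.induction with
    | zero =>
      intro a ha
      rw [h0, mem_bot] at ha
      rw [ha]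
      exact Commute.one_right x
    | succ i ih =>
      refine H75.commute_of_stabilize (B := A i.castSucc) (hp.to_le (hle _)) hxc (fun a ha => ?_) ih
      refine hN i ?_
      rw [commutator_comm]
      exact commutator_mem_commutator hx ha
  have hxP : x ∈ Cfsg.pCore p H :=
    hchar (mem_centralizer_iff.mpr fun a ha => (key (Fin.last n) a (hn ▸ ha)).symm.eq)
  exact H75.eq_one_of_mem_of_coprime hp hxP hxc

end Cfsg.Agent.S2810
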