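import Cfsg.Statements.S2813
import Cfsg.Agent.H75.Basic

set_option autoImplicit false
open Cfsg
open Subgroup
open scoped commutatorElement

namespace Cfsg.Agent.S2813

/-- Let K be a subgroup of the finite group H with O_p(K) = 1 and Y a p-subgroup of N_H(K) with [K, Y, Y] = 1. Then [K, Y] = 1. -/
theorem result {H : Type*} [Group H] [Finite H] {p : ℕ} [Fact p.Prime] (K : Subgroup H) (hO : Cfsg.pCore p ↥K = ⊥) (Y : Subgroup H) (hY : IsPGroup p ↥Y) (hYK : Y ≤ Subgroup.normalizer (K : Set H)) (hq : ⁅⁅K, Y⁆, Y⁆ = ⊥) : ⁅K, Y⁆ = ⊥ := by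
  set D := ⁅K, Y⁆ with hD
  have hKD : K ≤ normalizer (D : Set H) := normalizer_commutator_ge_left K Y
  have hDK : D ≤ K := le_normalizer_iff_commutator_le_left.mp hYK
  have hDY : D ≤ centralizer (Y : Set H) := commutator_eq_bot_iff_le_centralizer.mp hq
  have h1 : ⁅⁅K, D⁆, Y⁆ = ⊥ :=
    commutator_eq_bot_iff_le_centralizer.mpr
      ((le_normalizer_iff_commutator_le_right.mp hKD).trans hDY)
  have hDD : ⁅D, D⁆ = ⊥ := by
    refine commutator_commutator_eq_bot_of_rotate ?_ ?_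
    · rw [commutator_comm Y, hq, commutator_bot_left]
    · rw [show ⁅D, K⁆ = ⁅K, D⁆ from commutator_comm D K, h1]
  have hDc : D ≤ centralizer (D : Set H) := commutator_eq_bot_iff_le_centralizer.mp hDD
  let Dp : Subgroup H :=
    { carrier := {d | d ∈ D ∧ ∃ k : ℕ, d ^ (p ^ k) = 1}
      one_mem' := ⟨one_mem _, 0, one_pow _⟩
      mul_mem' := by
        rintro a b ⟨ha, i, hi⟩ ⟨hb, j, hj⟩
        refine ⟨mul_mem ha hb, i + j, ?_⟩
        have hc : Commute a b := (mem_centralizer_iff.mp (hDc hb)) a ha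
        rw [hc.mul_pow, pow_add, pow_mul, hi, one_pow, one_mul, mul_comm, pow_mul, hj, one_pow]
      inv_mem' := by
        rintro a ⟨ha, i, hi⟩
        exact ⟨inv_mem ha, i, by rw [inv_pow, hi, inv_one]⟩ }
  have hle : D ≤ Dp := by
    rw [hD, commutator_le]
    intro k hk y hy
    have hc : ⁅k, y⁆ ∈ D := commutator_mem_commutator hk hy
    refine ⟨hc, ?_⟩
    obtain ⟨j, hj⟩ := hY ⟨y, hy⟩
    refine ⟨j, ?_⟩
    have hyj : y ^ (p ^ j) = 1 := by simpa using congrArg Subtype.val hj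
    set c := ⁅k, y⁆⁻¹ with hcdef
    have hyc : Commute y c :=
      ((mem_centralizer_iff.mp (hDY (inv_mem hc))) y hy)
    have key : ∀ n : ℕ, y ^ n * k * (y ^ n)⁻¹ = c ^ n * k := by
      intro n
      induction n with
      | zero => simp
      | succ n ih =>
        calc y ^ (n + 1) * k * (y ^ (n + 1))⁻¹ = y * (y ^ n * k * (y ^ n)⁻¹) * y⁻¹ := by
              rw [pow_succ']; group
          _ = (y * c ^ n) * k * y⁻¹ := by rw [ih]; group
          _ = (c ^ n * y) * k * y⁻¹ := by rw [(hyc.pow_right n).eq]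
          _ = c ^ (n + 1) * k := by rw [pow_succ, hcdef, commutatorElement_def]; group
    have := key (p ^ j)
    rw [hyj] at this
    simpa [hcdef, -commutatorElement_inv] using this.symm
  have hDp : IsPGroup p ↥D := by
    rintro ⟨d, hd⟩
    obtain ⟨k, hk⟩ := (hle hd).2
    exact ⟨k, Subtype.ext (by simpa using hk)⟩
  exact le_bot_iff.mp ((H75.le_pCoreOf hDK hKD hDp).trans (H75.pCore_eq_bot_iff.mpr hO).le)

end Cfsg.Agent.S2813
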