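import Cfsg.Statements.S2814
import Cfsg.Agent.H75.Basic
import Cfsg.Agent.H3.SubnormalJoin

set_option autoImplicit false
open Cfsg
open Subgroup
open scoped commutatorElement

namespace Cfsg.Agent.S2814

/-- Let A be a subgroup of the finite group H and K the subnormal closure of A (intersection of the subnormal subgroups containing A). Then K is the normal closure of A inside K and N_H(A) ≤ N_H(K); K = A·O^p(K), O^p(K) being generated by the elements of K of order prime to p; and if A is a p-group, O^p(K) = [O^p(K), A]. -/
theorem result {H : Type*} [Group H] [Finite H] {p : ℕ} [Fact p.Prime] (A : Subgroup H) (K : Subgroup H) (hK : K = Cfsg.subnormalClosure A) : (Subgroup.normalClosure ((A.subgroupOf K : Subgroup ↥K) : Set ↥K)).map K.subtype = K ∧ Subgroup.normalizer (A : Set H) ≤ Subgroup.normalizer (K : Set H) ∧ A ⊔ (Cfsg.pResidual p ↥K).map K.subtype = K ∧ (IsPGroup p ↥A → ⁅(Cfsg.pResidual p ↥K).map K.subtype, A⁆ = (Cfsg.pResidual p ↥K).map K.subtype) := by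
  subst hK
  set K := Cfsg.subnormalClosure A
  have hKmem : ∀ W : Subgroup H, A ≤ W → W.IsSubnormal → K ≤ W := fun W h1 h2 => sInf_le ⟨h1, h2⟩
  have hAK : A ≤ K := le_sInf fun W hW => hW.1
  have hKsn : K.IsSubnormal := by
    have : ∀ S : Set (Subgroup H), (∀ W ∈ S, W.IsSubnormal) → (sInf S).IsSubnormal := by
      intro S hS
      induction S, S.toFinite using Set.Finite.induction_on with
      | empty => simp
      | @insert a t _ _ ih =>
        rw [sInf_insert]
        exact (hS a (Set.mem_insert _ _)).inf (ih fun W hW => hS W (Set.mem_insert_of_mem _ hW))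
    exact this _ fun W hW => hW.2
  set NC := normalClosure ((A.subgroupOf K : Subgroup ↥K) : Set ↥K)
  have hNC : ∀ W : Subgroup ↥K, A.subgroupOf K ≤ W → W.IsSubnormal → W = ⊤ := by
    intro W hW hWs
    have h1 : K ≤ W.map K.subtype := hKmem _ (fun a ha => ⟨⟨a, hAK ha⟩, hW ha, rfl⟩) (hWs.trans' hKsn)
    rw [eq_top_iff]
    intro x _
    obtain ⟨y, hy, hyx⟩ := h1 x.2
    rwa [← K.subtype_injective hyx]
  have h1 : NC = ⊤ := hNC _ le_normalClosure normalClosure_normal.isSubnormal
  have hR := H75.pResidual_normal p ↥K
  refine ⟨by rw [h1, ← MonoidHom.range_eq_map, range_subtype], ?_, ?_, ?_⟩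
  · intro g hg
    rw [← H70.cj_eq_self_iff] at hg ⊢
    refine (Subgroup.eq_of_le_of_card_ge ?_ (H70.card_cj g K).le).symm
    exact hKmem _ (hg.ge.trans (H70.cj_mono g hAK)) (hKsn.map (MulAut.conj g).surjective)
  · have h2 : A.subgroupOf K ⊔ Cfsg.pResidual p ↥K = ⊤ := by
      refine hNC _ le_sup_left ?_
      have hp : IsPGroup p (↥K ⧸ Cfsg.pResidual p ↥K) := H75.isPGroup_quotient_of_pResidual_le le_rfl
      have := hp.isNilpotent
      have h3 := (H3.subnormal_of_isNilpotent
        ((A.subgroupOf K).map (QuotientGroup.mk' (Cfsg.pResidual p ↥K)))).comap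
          (QuotientGroup.mk' (Cfsg.pResidual p ↥K))
      rwa [comap_map_eq, QuotientGroup.ker_mk'] at h3
    have h3 := congrArg (Subgroup.map K.subtype) h2
    rwa [Subgroup.map_sup, map_subgroupOf_eq_of_le hAK, ← MonoidHom.range_eq_map, range_subtype] at h3
  · intro hA
    set R := Cfsg.pResidual p ↥K
    have hD : ⁅R, A.subgroupOf K⁆ = R := by
      set A' := A.subgroupOf K
      refine le_antisymm (commutator_le_left R A') ?_
      set D := ⁅R, A'⁆
      have hp : IsPGroup p (↥K ⧸ R) := H75.isPGroup_quotient_of_pResidual_le le_rfl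
      have hsup : A' ⊔ R = ⊤ := by
        refine hNC _ le_sup_left ?_
        have := hp.isNilpotent
        have h3 := (H3.subnormal_of_isNilpotent (A'.map (QuotientGroup.mk' R))).comap
          (QuotientGroup.mk' R)
        rwa [comap_map_eq, QuotientGroup.ker_mk'] at h3
      have hDn : D.Normal := by
        refine H75.normal_of_top_le ?_
        rw [← hsup]
        exact sup_le (normalizer_commutator_ge_right R A') (normalizer_commutator_ge_left R A')
      have htop : D ⊔ A' = ⊤ := by
        refine hNC _ le_sup_right ((H75.normal_of_top_le ?_).isSubnormal)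
        rw [← hsup]
        refine sup_le ?_ ?_
        · exact (le_inf (normalizer_commutator_ge_right R A') le_normalizer).trans
            (H75.normalizer_inf_le_normalizer_sup D A')
        · rw [le_normalizer_iff_commutator_le_right, commutator_le]
          intro r hr z hz
          obtain ⟨d, hd, a, ha, rfl⟩ := mem_sup_of_normal_left.mp hz
          rw [commutatorElement_mul_right_eq_mul_conj]
          exact mul_mem (mul_mem (mul_mem (mem_sup_left
            ((commutator_le_right (H₁ := R) (H₂ := D)) (commutator_mem_commutator hr hd)))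
            (mem_sup_left hd)) (mem_sup_left (commutator_mem_commutator hr ha)))
            (inv_mem (mem_sup_left hd))
      exact H75.pResidual_le_of_sup_eq_top (IsPGroup.comap_subtype hA) htop
    have h3 := congrArg (Subgroup.map K.subtype) hD
    rwa [map_commutator, map_subgroupOf_eq_of_le hAK] at h3

end Cfsg.Agent.S2814
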