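import Cfsg.Statements.S2815
import Cfsg.Agent.H75.FStar

set_option autoImplicit false
open Cfsg
open Subgroup
open scoped commutatorElement

namespace Cfsg.Agent.S2815

theorem perfect_le_pResidual {H : Type*} [Group H] [Finite H] {p : ℕ} [Fact p.Prime]
    {L : Subgroup H} (hL : ⁅L, L⁆ = L) : L ≤ Cfsg.pResidual p H := by
  have := H75.pResidual_normal p H
  have hq := H75.isPGroup_quotient_of_pResidual_le (p := p) (le_refl (Cfsg.pResidual p H))
  rw [← QuotientGroup.ker_mk' (Cfsg.pResidual p H), ← Subgroup.map_eq_bot_iff]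
  by_contra hne
  have hn : Group.IsNilpotent ↥(L.map (QuotientGroup.mk' (Cfsg.pResidual p H))) :=
    (hq.to_subgroup _).isNilpotent
  exact (Cfsg.Comp.commutator_lt_of_nilpotent le_rfl hn le_normalizer hne).ne
    (by rw [← Subgroup.map_commutator, hL])

theorem quasisimple_residual {H : Type*} [Group H] [Finite H] {p : ℕ} [Fact p.Prime]
    (hp : p ∣ Nat.card H) (hO : Cfsg.pCore p H = ⊥)
    (hq : Cfsg.IsQuasisimple ↥(Cfsg.pResidual p H)) :
    Cfsg.pResidual p H = Cfsg.generalizedFittingSubgroup H ∧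
      (∀ Y : Subgroup H, IsPGroup p ↥Y → Y ≠ ⊥ → ⁅Cfsg.pResidual p H, Y⁆ = Cfsg.pResidual p H ∧
        Cfsg.pResidual p H ≤ ⨆ k : ↥(Cfsg.pResidual p H),
          Y.map (MulAut.conj (k : H)).toMonoidHom) ∧
      (∀ C : Subgroup H, C.Normal → ¬ Cfsg.pResidual p H ≤ C → (Nat.card ↥C).Coprime p) ∧
      Cfsg.IsPIrreducible p H := by
  set K := Cfsg.pResidual p H with hKdef
  have hKn : K.Normal := H75.pResidual_normal p H
  have hKc : Cfsg.IsComponent K := ⟨hKn.isSubnormal, hq⟩
  have hKp : ⁅K, K⁆ = K := Cfsg.Comp.isComponent_perfect hKc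
  have hFK : Cfsg.fittingSubgroup H ≤ K := fun x hx =>
    H75.coprime_mem_pResidual ((H75.fitting_coprime hO).coprime_dvd_left
      (Subgroup.orderOf_dvd_natCard _ hx))
  have hF : K = Cfsg.generalizedFittingSubgroup H :=
    le_antisymm ((Cfsg.Comp.le_layer hKc).trans Cfsg.Comp.layer_le_fStar)
      (sup_le (Cfsg.Comp.layer_le_iff.mpr fun L hL =>
        perfect_le_pResidual (Cfsg.Comp.isComponent_perfect hL)) hFK)
  -- a subgroup of `K` normalised by `K` is all of it or is central
  have hdich : ∀ R : Subgroup H, R ≤ K → K ≤ normalizer (R : Set H) → R = K ∨ ⁅R, K⁆ = ⊥ := by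
    intro R hRK hKR
    rcases Cfsg.Comp.normal_eq_top_or_le_center hq
      ((normal_subgroupOf_iff_le_normalizer hRK).mpr hKR) with h | h
    · exact .inl (le_antisymm hRK (subgroupOf_eq_top.mp h))
    · right
      rw [commutator_eq_bot_iff_le_centralizer]
      intro r hr
      refine mem_centralizer_iff.mpr fun k hk => ?_
      exact congrArg Subtype.val (mem_center_iff.mp
        (h (show (⟨r, hRK hr⟩ : K) ∈ R.subgroupOf K from hr)) ⟨k, hk⟩)
  have hC : ∀ C : Subgroup H, C.Normal → ¬ K ≤ C → (Nat.card ↥C).Coprime p := by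
    intro C hCn hKC
    have h1 : ⁅K, C⁆ ≤ C := commutator_le_right K C
    have h2 : ⁅K, C⁆ ≤ K := commutator_le_left K C
    have h3 : ⁅⁅K, C⁆, K⁆ = ⊥ := (hdich _ h2 H1.left_le_normalizer_commutator).resolve_left
      fun e => hKC (e ▸ h1)
    have h4 : ⁅K, C⁆ = ⊥ := by
      rw [← hKp]
      exact commutator_commutator_eq_bot_of_rotate h3 (by rwa [commutator_comm C K])
    refine H75.coprime_of_le ?_ (H75.centralizer_fStar_coprime hO)
    rw [← hF]
    exact le_centralizer_iff.mp (commutator_eq_bot_iff_le_centralizer.mp h4)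
  refine ⟨hF, fun Y hY hY1 => ?_, hC, ?_, fun N hN hNp => ?_⟩
  · have hle : ⁅K, Y⁆ ≤ K := commutator_le_left K Y
    have e : ⁅K, Y⁆ = K := by
      refine (hdich _ hle H1.left_le_normalizer_commutator).resolve_right fun h3 => hY1 ?_
      refine H75.eq_bot_of_centralizes_fStar hO hY ?_
      rw [← hF, ← hKp]
      exact commutator_commutator_eq_bot_of_rotate h3 (by rwa [commutator_comm Y K])
    refine ⟨e, e.ge.trans ?_⟩
    rw [commutator_le]
    intro k hk y hy
    refine mul_mem ?_ ?_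
    · exact le_iSup (fun k : ↥K => Y.map (MulAut.conj (k : H)).toMonoidHom) ⟨k, hk⟩
        (show k * y * k⁻¹ ∈ _ from ⟨y, hy, rfl⟩)
    · exact le_iSup (fun k : ↥K => Y.map (MulAut.conj (k : H)).toMonoidHom) 1
        (show y⁻¹ ∈ _ from ⟨y⁻¹, inv_mem hy, by simp⟩)
  · intro hpc
    obtain ⟨P⟩ : Nonempty (Sylow p H) := inferInstance
    refine P.ne_bot_of_dvd_card hp (le_bot_iff.mp ?_)
    rw [← hO]
    have := hpc P
    exact H1.le_pCore P.isPGroup'
  · by_contra hKN
    refine hNp fun P => ?_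
    have : (P : Subgroup ↥N) = ⊥ := H75.eq_bot_of_coprime_pgroup P.isPGroup' le_top
      (by rw [Subgroup.card_top]; exact hC N hN hKN)
    rw [this]
    infer_instance

/-- Let H be a finite group and p a prime dividing its order with O_p(H) = 1, and suppose K = O^p(H) (generated by the elements of order prime to p) is quasisimple. Then K = F*(H); for every nontrivial p-subgroup Y of H, K = [K, Y] and K lies in the subgroup generated by the K-conjugates of Y; every normal subgroup of H not containing K has order prime to p; and H is p-irreducible. -/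
theorem result {H : Type*} [Group H] [Finite H] {p : ℕ} [Fact p.Prime] (hp : p ∣ Nat.card H) (hO : Cfsg.pCore p H = ⊥) (hq : Cfsg.IsQuasisimple ↥(Cfsg.pResidual p H)) : Cfsg.pResidual p H = Cfsg.generalizedFittingSubgroup H ∧ (∀ Y : Subgroup H, IsPGroup p ↥Y → Y ≠ ⊥ → ⁅Cfsg.pResidual p H, Y⁆ = Cfsg.pResidual p H ∧ Cfsg.pResidual p H ≤ ⨆ k : ↥(Cfsg.pResidual p H), Y.map (MulAut.conj (k : H)).toMonoidHom) ∧ (∀ C : Subgroup H, C.Normal → ¬ Cfsg.pResidual p H ≤ C → (Nat.card ↥C).Coprime p) ∧ Cfsg.IsPIrreducible p H := by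
  exact quasisimple_residual hp hO hq

end Cfsg.Agent.S2815
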