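import Cfsg.Statements.S2816
import Cfsg.Agent.H75.FStar

set_option autoImplicit false
open Cfsg
open Subgroup
open scoped commutatorElement

namespace Cfsg.Agent.S2816

/-- Let H be a finite group and p a prime with O_p(H) = 1, and Y a p-subgroup of H. Then for every subnormal subgroup K of H containing Y, [F*(H), Y] = [F*(K), Y] = [F*(K), Y, Y]; and if Y₀ ≤ Y with [F*(H), Y, Y₀] = 1 then Y₀ = 1 (in particular [F*(H), Y] = 1 forces Y = 1). -/
theorem result {H : Type*} [Group H] [Finite H] {p : ℕ} [Fact p.Prime] (hO : Cfsg.pCore p H = ⊥) (Y : Subgroup H) (hY : IsPGroup p ↥Y) : (∀ K : Subgroup H, K.IsSubnormal → Y ≤ K → ⁅Cfsg.generalizedFittingSubgroup H, Y⁆ = ⁅(Cfsg.generalizedFittingSubgroup ↥K).map K.subtype, Y⁆ ∧ ⁅(Cfsg.generalizedFittingSubgroup ↥K).map K.subtype, Y⁆ = ⁅⁅(Cfsg.generalizedFittingSubgroup ↥K).map K.subtype, Y⁆, Y⁆) ∧ (∀ Y₀ : Subgroup H, Y₀ ≤ Y → ⁅⁅Cfsg.generalizedFittingSubgroup H, Y⁆,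 Y₀⁆ = ⊥ → Y₀ = ⊥) := by
  refine ⟨fun K hK hYK => ?_, fun Y₀ hY₀ h => ?_⟩
  · set F := Cfsg.generalizedFittingSubgroup H
    have h1 := H75.fStar_commutator_idem hO hY
    rw [H75.fStar_map_subtype_eq hK]
    have hSK : ⁅F, Y⁆ ≤ K := H75.le_of_commutator_eq_of_subnormal h1 hK hYK
    have hSF : ⁅F, Y⁆ ≤ F :=
      H1.commutator_le_left_of_le_normalizer
        (le_top.trans (normalizer_eq_top_iff.mpr inferInstance).ge)
    have h2 : ⁅F, Y⁆ = ⁅F ⊓ K, Y⁆ :=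
      le_antisymm (h1.ge.trans (commutator_mono (le_inf hSF hSK) le_rfl))
        (commutator_mono inf_le_left le_rfl)
    exact ⟨h2, by rw [← h2, h1]⟩
  · refine H75.eq_bot_of_centralizes_fStar hO (hY.to_le hY₀) (le_bot_iff.mp (h ▸ ?_))
    rw [← H75.fStar_commutator_idem hO (hY.to_le hY₀)]
    exact commutator_mono (commutator_mono le_rfl hY₀) le_rfl

end Cfsg.Agent.S2816
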