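import Cfsg.Statements.S2817
import Cfsg.Agent.H75.FStar

set_option autoImplicit false
open Cfsg
open Subgroup
open scoped commutatorElement

namespace Cfsg.Agent.S2817

theorem inf_center_le_frattini {H : Type*} [Group H] [Finite H] {z : H} (hz : z ∈ center H)
    (hz' : z ∈ commutator H) : z ∈ frattini H := by
  unfold frattini
  rw [Order.radical, Subgroup.mem_iInf]
  intro M
  rw [Subgroup.mem_iInf]
  intro hM
  by_contra hzM
  have hsup : M ⊔ zpowers z = ⊤ :=
    hM.2 _ (lt_of_le_of_ne le_sup_left fun e => hzM (e ▸ mem_sup_right (mem_zpowers z)))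
  have hn : M ≤ normalizer (zpowers z : Set H) := by
    refine le_trans ?_ (centralizer_le_normalizer _)
    intro m _
    refine mem_centralizer_iff.mpr ?_
    rintro _ ⟨i, rfl⟩
    exact (mem_center_iff.mp (zpow_mem hz i) m).symm
  have hall : ∀ h : H, ∃ m ∈ M, ∃ c ∈ center H, h = m * c := by
    intro h
    have hh : h ∈ M ⊔ zpowers z := hsup ▸ mem_top h
    rw [← SetLike.mem_coe, coe_mul_of_left_le_normalizer_right _ _ hn] at hh
    obtain ⟨m, hm, c, ⟨i, rfl⟩, rfl⟩ := hh
    exact ⟨m, hm, _, zpow_mem hz i, rfl⟩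
  refine hzM ((?_ : commutator H ≤ M) hz')
  rw [commutator_def, commutator_le]
  intro a _ b _
  obtain ⟨m, hm, c, hc, rfl⟩ := hall a
  obtain ⟨m', hm', c', hc', rfl⟩ := hall b
  have e1 : ∀ x, x * c = c * x := fun x => mem_center_iff.mp hc x
  have e2 : ∀ x, x * c' = c' * x := fun x => mem_center_iff.mp hc' x
  have : ⁅m * c, m' * c'⁆ = ⁅m, m'⁆ := by
    simp only [commutatorElement_def, mul_inv_rev]
    calc m * c * (m' * c') * (c⁻¹ * m⁻¹) * (c'⁻¹ * m'⁻¹)
        = m * (c * (m' * c')) * c⁻¹ * m⁻¹ * c'⁻¹ * m'⁻¹ := by group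
      _ = m * ((m' * c') * c) * c⁻¹ * m⁻¹ * c'⁻¹ * m'⁻¹ := by rw [e1]
      _ = m * m' * (c' * m⁻¹) * c'⁻¹ * m'⁻¹ := by group
      _ = m * m' * (m⁻¹ * c') * c'⁻¹ * m'⁻¹ := by rw [e2]
      _ = m * m' * m⁻¹ * m'⁻¹ := by group
  rw [this, commutatorElement_def]
  exact mul_mem (mul_mem (mul_mem hm hm') (inv_mem hm)) (inv_mem hm')

/-- The norm argument: a fixed `p'`-element of `L = [L,Q]` lies in `L'`. -/
theorem fixed_mem_derived {H : Type*} [Group H] [Finite H] {p : ℕ} [Fact p.Prime]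
    {L Q : Subgroup H} (hQ : IsPGroup p Q) (hQL : Q ≤ normalizer (L : Set H))
    (hLQ : ⁅L, Q⁆ = L) {z : H} (hz : z ∈ L) (hzQ : z ∈ centralizer (Q : Set H))
    (hord : (orderOf z).Coprime p) : (⟨z, hz⟩ : L) ∈ commutator ↥L := by
  classical
  have : Fintype Q := Fintype.ofFinite _
  have hconj : ∀ (q : Q) (l : L), (q : H) * (l : H) * (q : H)⁻¹ ∈ L := fun q l =>
    (mem_normalizer_iff.mp (hQL q.2) _).mp l.2
  let c : Q → (L →* L) := fun q =>
    { toFun := fun l => ⟨(q : H) * (l : H) * (q : H)⁻¹, hconj q l⟩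
      map_one' := Subtype.ext (by simp)
      map_mul' := fun a b => Subtype.ext (by simp [mul_assoc]) }
  let N : L →* Abelianization L := ∏ q : Q, Abelianization.of.comp (c q)
  have hN : ∀ l, N l = ∏ q : Q, Abelianization.of (c q l) := fun l => by
    simp [N]
  have hinv : ∀ (a : Q) (l : L), N (c a l) = N l := by
    intro a l
    rw [hN, hN]
    refine Fintype.prod_equiv (Equiv.mulRight a) _ _ fun q => ?_
    congr 1
    exact Subtype.ext (by simp [c, mul_assoc])
  have hker : ∀ l : L, N l = 1 := by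
    have key : ⁅L, Q⁆ ≤ N.ker.map L.subtype := by
      rw [commutator_le]
      intro l hl q hq
      refine ⟨⟨l, hl⟩ * c ⟨q, hq⟩ ⟨l, hl⟩⁻¹, ?_, ?_⟩
      · rw [SetLike.mem_coe, MonoidHom.mem_ker, map_mul, hinv, map_inv, mul_inv_cancel]
      · simp [c, commutatorElement_def, mul_assoc]
    intro l
    obtain ⟨k, hk, hkl⟩ := key (hLQ.ge l.2)
    rw [← L.subtype_injective hkl]
    exact hk
  have h1 := hker ⟨z, hz⟩
  rw [hN] at h1
  have hfix : ∀ q : Q, c q ⟨z, hz⟩ = ⟨z, hz⟩ := fun q => Subtype.ext (by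
    show (q : H) * z * (q : H)⁻¹ = z
    rw [mem_centralizer_iff.mp hzQ q q.2, mul_inv_cancel_right])
  simp only [hfix, Finset.prod_const, Finset.card_univ] at h1
  rw [← map_pow] at h1
  obtain ⟨n, hn⟩ := IsPGroup.iff_card.mp hQ
  rw [← Nat.card_eq_fintype_card, hn, ← MonoidHom.mem_ker, Abelianization.ker_of] at h1
  have hord' : (orderOf (⟨z, hz⟩ : L)).Coprime (p ^ n) := by
    rw [← Subgroup.orderOf_coe]; exact Nat.Coprime.pow_right n hord
  obtain ⟨m, hm⟩ := exists_pow_eq_self_of_coprime hord'.symm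
  rw [← hm]
  exact pow_mem h1 m

theorem fStar_action {H : Type*} [Group H] [Finite H] {p : ℕ} [Fact p.Prime]
    (hO : Cfsg.pCore p H = ⊥) (Q : Subgroup H) (hQ : IsPGroup p ↥Q) (L : Subgroup H)
    (hL : L = ⁅Cfsg.generalizedFittingSubgroup H, Q⁆) (F : Subgroup H)
    (hF : F ≤ Cfsg.generalizedFittingSubgroup H ∧
      Cfsg.generalizedFittingSubgroup H ≤ Subgroup.normalizer (F : Set H) ∧
      Q ≤ Subgroup.centralizer (F : Set H) ∧
      ∀ N : Subgroup H, N ≤ Cfsg.generalizedFittingSubgroup H →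
        Cfsg.generalizedFittingSubgroup H ≤ Subgroup.normalizer (N : Set H) →
        Q ≤ Subgroup.centralizer (N : Set H) → N ≤ F) :
    F = Cfsg.generalizedFittingSubgroup H ⊓ Subgroup.centralizer ((L ⊔ Q : Subgroup H) : Set H) ∧
      ⁅L, Q⁆ = L ∧ L ⊓ F ≤ (frattini ↥L).map L.subtype ∧
      (∀ B : Subgroup H, IsPGroup p ↥B → B ≤ Subgroup.normalizer (Q : Set H) → ⁅L, B⁆ ≤ F →
        ⁅L, B⁆ = ⊥) ∧
      (Nat.card ↥(Subgroup.centralizer ((F ⊔ L : Subgroup H) : Set H))).Coprime p := by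
  obtain ⟨hF1, hF2, hF3, hF4⟩ := hF
  set X := Cfsg.generalizedFittingSubgroup H with hX
  have hXn : X.Normal := inferInstance
  have hXN : ∀ A : Subgroup H, A ≤ normalizer (X : Set H) := fun A =>
    le_top.trans (normalizer_eq_top_iff.mpr hXn).ge
  have hsplit := (H75.fStar_split hO hQ le_rfl hXn.isSubnormal (hXN Q)).1
  rw [← hX, ← hL] at hsplit
  have hLQ : ⁅L, Q⁆ = L := by rw [hL]; exact H75.fStar_commutator_idem hO hQ
  have hLX : L ≤ X := hL ▸ commutator_le_left X Q
  have hXL : X ≤ normalizer (L : Set H) := hL ▸ H1.left_le_normalizer_commutator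
  have hQL : Q ≤ normalizer (L : Set H) := hL ▸ H1.right_le_normalizer_commutator
  have hLsn : L.IsSubnormal :=
    IsSubnormal.step L X hLX hXn.isSubnormal ((normal_subgroupOf_iff_le_normalizer hLX).mpr hXL)
  have hFQ : ⁅Q, F⁆ = ⊥ := commutator_eq_bot_iff_le_centralizer.mpr hF3
  have hFL : ⁅L, F⁆ = ⊥ := by
    rw [hL]
    refine commutator_commutator_eq_bot_of_rotate (by rw [hFQ, commutator_bot_left]) ?_
    rw [eq_bot_iff, ← hFQ, commutator_comm Q F]
    exact commutator_mono (H1.commutator_le_left_of_le_normalizer hF2) le_rfl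
  have hFC : F ≤ centralizer ((L ⊔ Q : Subgroup H) : Set H) :=
    le_centralizer_iff.mp (sup_le (commutator_eq_bot_iff_le_centralizer.mp hFL) hF3)
  have hFeq : F = X ⊓ centralizer ((L ⊔ Q : Subgroup H) : Set H) := by
    refine le_antisymm (le_inf hF1 hFC) (hF4 _ inf_le_left ?_ ?_)
    · refine (le_inf (le_normalizer) ?_).trans (H75.normalizer_inf_le_normalizer_inf _ _)
      refine hsplit.ge.trans (sup_le ?_ ?_)
      · refine le_trans ?_ (centralizer_le_normalizer _)
        exact le_centralizer_iff.mp (centralizer_le (SetLike.coe_subset_coe.mpr le_sup_left))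
      · refine le_trans ?_ (H75.normalizer_le_normalizer_centralizer _)
        exact (le_inf (inf_le_left.trans hXL) (inf_le_right.trans (centralizer_le_normalizer _))).trans
          (H75.normalizer_inf_le_normalizer_sup _ _)
    · exact (le_centralizer_iff.mp inf_le_right).trans' le_sup_right
  have hD : ∀ l ∈ L ⊓ F, l ∈ centralizer (L : Set H) := fun l hl =>
    le_centralizer_iff.mp (commutator_eq_bot_iff_le_centralizer.mp hFL) (mem_inf.mp hl).2
  have hDcop : (Nat.card ↥(L ⊓ F)).Coprime p := by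
    refine H75.coprime_of_le ?_ (H75.fitting_coprime hO)
    refine Cfsg.Comp.le_fitting_of_subnormal
      (IsSubnormal.step _ L inf_le_left hLsn ((normal_subgroupOf_iff_le_normalizer inf_le_left).mpr ?_))
      (Cfsg.Comp.isNilpotent_of_commutator_commutator ?_)
    · refine le_trans ?_ (centralizer_le_normalizer _)
      exact le_centralizer_iff.mp fun x hx => hD x hx
    · have h0 : ⁅L ⊓ F, L ⊓ F⁆ = ⊥ := by
        rw [eq_bot_iff, ← hFL]; exact commutator_mono inf_le_left inf_le_right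
      rw [h0, commutator_bot_left]
  have hPhi : L ⊓ F ≤ (frattini ↥L).map L.subtype := by
    intro z hz
    have hzL : z ∈ L := (mem_inf.mp hz).1
    refine ⟨⟨z, hzL⟩, inf_center_le_frattini ?_ ?_, rfl⟩
    · exact mem_center_iff.mpr fun y => Subtype.ext (mem_centralizer_iff.mp (hD z hz) y y.2)
    · refine fixed_mem_derived hQ hQL hLQ hzL ?_
        (hDcop.coprime_dvd_left (Subgroup.orderOf_dvd_natCard _ hz))
      exact le_centralizer_iff.mp hF3 (mem_inf.mp hz).2
  refine ⟨hFeq, hLQ, hPhi, fun B hB hBQ hLB => ?_, ?_⟩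
  · have hBL : B ≤ normalizer (L : Set H) := hL ▸ (le_inf (hXN B) hBQ).trans
      (H75.normalizer_inf_le_normalizer_commutator _ _)
    have hBD : B ≤ normalizer ((L ⊓ F : Subgroup H) : Set H) := by
      have e : L ⊓ F = L ⊓ centralizer ((L ⊔ Q : Subgroup H) : Set H) := by
        rw [hFeq, ← inf_assoc, inf_eq_left.mpr hLX]
      rw [e]
      refine (le_inf hBL ?_).trans (H75.normalizer_inf_le_normalizer_inf _ _)
      exact ((le_inf hBL hBQ).trans (H75.normalizer_inf_le_normalizer_sup _ _)).trans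
        (H75.normalizer_le_normalizer_centralizer _)
    have hgen : (L ⊓ centralizer (B : Set H)).subgroupOf L ⊔ frattini ↥L = ⊤ := by
      rw [eq_top_iff]
      rintro ⟨y, hy⟩ -
      obtain ⟨d, hd, hdy⟩ := Cfsg.Comp.exists_mul_mem_centralizer hB hBD
        (Cfsg.Comp.coprime_iff_not_dvd.mp hDcop) y (fun a ha => by
          have h1 : ⁅y, a⁆ ∈ ⁅L, B⁆ := commutator_mem_commutator hy ha
          have h2 : ⁅y, a⁆⁻¹ ∈ L ⊓ F :=
            inv_mem (mem_inf.mpr ⟨H1.commutator_le_left_of_le_normalizer hBL h1, hLB h1⟩)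
          simpa [commutatorElement_def, mul_assoc] using h2)
      obtain ⟨d', hd', rfl⟩ := hPhi hd
      have : (⟨y, hy⟩ : L) = d'⁻¹ * (d' * ⟨y, hy⟩) := by group
      rw [this]
      refine mul_mem (mem_sup_right (inv_mem hd')) (mem_sup_left ?_)
      exact show _ ∈ L ⊓ _ from mem_inf.mpr ⟨(d' * (⟨y, hy⟩ : L)).2, hdy⟩
    have := frattini_nongenerating hgen
    rw [subgroupOf_eq_top] at this
    exact commutator_eq_bot_iff_le_centralizer.mpr (this.trans inf_le_right)
  · rw [Cfsg.Comp.coprime_iff_not_dvd]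
    intro hdvd
    set C := centralizer ((F ⊔ L : Subgroup H) : Set H)
    have hQC : Q ≤ normalizer (C : Set H) :=
      ((le_inf (hF3.trans (centralizer_le_normalizer _)) hQL).trans
        (H75.normalizer_inf_le_normalizer_sup _ _)).trans (H75.normalizer_le_normalizer_centralizer _)
    obtain ⟨P, hP, hP1, hPC, hQP⟩ := H75.exists_invariant_pgroup hQ hQC hdvd
    refine H75.inf_centralizer_ne_bot hP hP1 hQ hQP ?_
    set P1 := P ⊓ centralizer (Q : Set H)
    have hP1p : IsPGroup p P1 := hP.to_le inf_le_left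
    have hsub : F ⊔ L ≤ centralizer (P1 : Set H) :=
      le_centralizer_iff.mp (inf_le_left.trans hPC)
    have e1 : ⁅L, P1⁆ = ⊥ := commutator_eq_bot_iff_le_centralizer.mpr (le_sup_right.trans hsub)
    have e2 : ⁅F, P1⁆ = ⊥ := commutator_eq_bot_iff_le_centralizer.mpr (le_sup_left.trans hsub)
    have e3 : ⁅P1, Q⁆ = ⊥ := commutator_eq_bot_iff_le_centralizer.mpr inf_le_right
    have e4 : ⁅⁅X, P1⁆, Q⁆ = ⊥ := by
      refine commutator_commutator_eq_bot_of_rotate (by rw [e3, commutator_bot_left]) ?_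
      rw [commutator_comm Q X, ← hL, e1]
    refine H75.eq_bot_of_centralizes_fStar hO hP1p (le_bot_iff.mp ?_)
    rw [← hX, ← e2, ← H75.fStar_commutator_idem hO hP1p]
    refine commutator_mono (hF4 _ (commutator_le_left X P1) H1.left_le_normalizer_commutator ?_) le_rfl
    exact commutator_eq_bot_iff_le_centralizer.mp (by rw [commutator_comm, e4])

/-- Let H be a finite group and p a prime with O_p(H) = 1, Q a p-subgroup of H, L = [F*(H), Q], and F the largest normal subgroup of F*(H) centralized by Q (a normal subgroup of F*(H) centralized by Q and containing every such). Then F = C_{F*(H)}(LQ); L = [L, Q]; L ∩ F ≤ Φ(L); every p-subgroup B of N_H(Q) with [L, B] ≤ F satisfies [L, B] = 1; and C_H(FL) has order prime to p. -/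
theorem result {H : Type*} [Group H] [Finite H] {p : ℕ} [Fact p.Prime] (hO : Cfsg.pCore p H = ⊥) (Q : Subgroup H) (hQ : IsPGroup p ↥Q) (L : Subgroup H) (hL : L = ⁅Cfsg.generalizedFittingSubgroup H, Q⁆) (F : Subgroup H) (hF : F ≤ Cfsg.generalizedFittingSubgroup H ∧ Cfsg.generalizedFittingSubgroup H ≤ Subgroup.normalizer (F : Set H) ∧ Q ≤ Subgroup.centralizer (F : Set H) ∧ ∀ N : Subgroup H, N ≤ Cfsg.generalizedFittingSubgroup H → Cfsg.generalizedFittingSubgroup H ≤ Subgroup.normalizer (N : Set H) → Q ≤ Subgroup.centralizer (N : Set H) → N ≤ F) : F = Cfsg.generalizedFittingSubgroup H ⊓ Subgroup.centralizer ((L ⊔ Q : Subgroup H) : Set H) ∧ ⁅L, Q⁆ = L ∧ L ⊓ F ≤ (frattini ↥L).map L.subtype ∧ (∀ B : Subgroup H, IsPGroup p ↥B → B ≤ Subgroup.normalizer (Q : Set H) → ⁅L, B⁆ ≤ F → ⁅L, B⁆ = ⊥) ∧ (Nat.card ↥(Subgroup.centralizer ((F ⊔ L : Subgroup H) : Set H))).Coprime p := by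
  exact fStar_action hO Q hQ L hL F hF

end Cfsg.Agent.S2817
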