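import Cfsg.Statements.S2818
import Cfsg.Agent.H75.Basic

set_option autoImplicit false
open Cfsg
open Subgroup
open scoped commutatorElement

namespace Cfsg.Agent.S2818

theorem frattini_le_of_quotient {P : Type*} [Group P] [Finite P] {p : ℕ} [Fact p.Prime]
    (N : Subgroup P) (hc : commutator P ≤ N) (hp : ∀ x : P, x ^ p ∈ N) : frattini P ≤ N := by
  intro a ha
  by_contra haN
  obtain ⟨M, hM, hmax⟩ :=
    (Set.toFinite {M : Subgroup P | N ≤ M ∧ a ∉ M}).exists_maximalFor id _ ⟨N, le_rfl, haN⟩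
  obtain ⟨hNM, haM⟩ := hM
  have hMn : M.Normal := Subgroup.Normal.of_commutator_le (G := P) (hc.trans hNM)
  refine haM (frattini_le_coatom (K := M) ⟨fun h => haM (h ▸ mem_top a), fun X hX => ?_⟩ ha)
  rw [eq_top_iff]
  intro b _
  by_contra hb
  have haX : a ∈ X := by
    by_contra h
    exact hX.not_ge (hmax ⟨hNM.trans hX.le, h⟩ hX.le)
  have hbM : b ∉ M := fun h => hb (hX.le h)
  have h1 : a ∈ M ⊔ zpowers b := by
    by_contra h
    exact hbM (hmax ⟨hNM.trans le_sup_left, h⟩ le_sup_left (mem_sup_right (mem_zpowers b)))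
  obtain ⟨m, hm, z, hz, hmz⟩ := mem_sup_of_normal_left.mp h1
  obtain ⟨k, rfl⟩ := mem_zpowers_iff.mp hz
  have hbk : b ^ k ∈ X := by
    have : b ^ k = m⁻¹ * a := by rw [← hmz]; group
    rw [this]
    exact mul_mem (inv_mem (hX.le hm)) haX
  have hbp : b ^ (p : ℤ) ∈ X := by
    rw [zpow_natCast]
    exact hX.le (hNM (hp b))
  by_cases hd : (p : ℤ) ∣ k
  · obtain ⟨j, rfl⟩ := hd
    refine haM ?_
    rw [← hmz]
    refine mul_mem hm ?_
    rw [zpow_mul, zpow_natCast]
    exact zpow_mem (hNM (hp b)) j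
  · have hcop : IsCoprime (p : ℤ) k :=
      (Prime.coprime_iff_not_dvd (Nat.prime_iff_prime_int.mp Fact.out)).mpr hd
    obtain ⟨u, v, huv⟩ := hcop
    apply hb
    have : b = (b ^ (p : ℤ)) ^ u * (b ^ k) ^ v := by
      rw [← zpow_mul, ← zpow_mul, ← zpow_add, mul_comm (p : ℤ) u, mul_comm k v, huv, zpow_one]
    rw [this]
    exact mul_mem (zpow_mem hbp u) (zpow_mem hbk v)

/-- Let P be a finite p-subgroup of a group G and H a subgroup of N_G(P) with [P, H] ≤ Ω₁(Z(P)) (the elements of order dividing p in the centre of P). Then H centralizes the Frattini subgroup of P. -/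
theorem result {G : Type*} [Group G] [Finite G] {p : ℕ} [Fact p.Prime] (P : Subgroup G) (hP : IsPGroup p ↥P) (H : Subgroup G) (hH : H ≤ Subgroup.normalizer (P : Set G)) (h : ⁅P, H⁆ ≤ Cfsg.omegaOne p (P ⊓ Subgroup.centralizer (P : Set G))) : ⁅(frattini ↥P).map P.subtype, H⁆ = ⊥ := by
  rw [commutator_eq_bot_iff_le_centralizer]
  set Z := Cfsg.omegaOne p (P ⊓ centralizer (P : Set G)) with hZ
  have hZ1 : Z ≤ P ⊓ centralizer (P : Set G) := (closure_le _).mpr fun x hx => hx.1
  have hZp : ∀ z ∈ Z, z ^ p = 1 := by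
    intro z hz
    rw [hZ, Cfsg.omegaOne] at hz
    induction hz using closure_induction with
    | mem x hx => exact hx.2
    | one => exact one_pow p
    | mul x y hx hy ihx ihy =>
      have hcomm : Commute x y :=
        ((mem_centralizer_iff.mp (mem_inf.mp (hZ1 hy)).2) x (mem_inf.mp (hZ1 hx)).1)
      rw [hcomm.mul_pow, ihx, ihy, one_mul]
    | inv x _ ih => rw [inv_pow, ih, inv_one]
  rintro _ ⟨a, ha, rfl⟩
  rw [mem_centralizer_iff]
  intro h' hh'
  let N : Subgroup ↥P := (centralizer ({h'} : Set G)).subgroupOf P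
  suffices a ∈ N from (mem_centralizer_iff.mp this) h' rfl
  have key : ∀ x : ↥P, h' * (x : G) * h'⁻¹ = ⁅h', (x : G)⁆ * x ∧ ⁅h', (x : G)⁆ ∈ Z := by
    intro x
    refine ⟨by rw [commutatorElement_def]; group, h ?_⟩
    rw [commutator_comm]
    exact commutator_mem_commutator hh' x.2
  have hmem : ∀ x : ↥P, x ∈ N ↔ ⁅h', (x : G)⁆ = 1 := by
    intro x
    rw [commutatorElement_eq_one_iff_mul_comm]
    refine ⟨fun hx => (mem_centralizer_iff.mp hx) h' rfl, fun hx => ?_⟩
    refine mem_centralizer_iff.mpr fun y hy => ?_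
    rw [Set.mem_singleton_iff.mp hy]
    exact hx
  let f : ↥P →* G :=
    { toFun := fun x => ⁅h', (x : G)⁆
      map_one' := by simp
      map_mul' := fun x y => by
        show ⁅h', (x : G) * y⁆ = _
        have hy := mem_centralizer_iff.mp (mem_inf.mp (hZ1 (key y).2)).2 (x : G) x.2
        rw [commutatorElement_mul_right_eq_mul_conj, mul_assoc ⁅h', (x : G)⁆, hy]
        group }
  have hker : f.ker = N := by ext x; rw [MonoidHom.mem_ker, hmem]; rfl
  refine frattini_le_of_quotient (p := p) N ?_ ?_ ha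
  · rw [← hker, commutator_def, commutator_le]
    intro x _ y _
    rw [MonoidHom.mem_ker, map_commutatorElement, commutatorElement_eq_one_iff_mul_comm]
    exact ((mem_centralizer_iff.mp (mem_inf.mp (hZ1 (key x).2)).2) _ (mem_inf.mp (hZ1 (key y).2)).1).symm
  · intro x
    rw [← hker, MonoidHom.mem_ker, map_pow]
    exact hZp _ (key x).2

end Cfsg.Agent.S2818
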