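import Cfsg.Statements.S2819
import Cfsg.Agent.H75.Basic
import Cfsg.Agent.S2818

set_option autoImplicit false
open Cfsg
open Subgroup
open scoped commutatorElement

namespace Cfsg.Agent.S2819

/-- Let P be a finite p-subgroup of a group G, H a subgroup of N_G(P), and Y a subgroup of H centralizing the derived subgroup P' such that [P, Y] is elementary abelian. Then O^p(⟨Y^H⟩), the subgroup of the normal closure of Y in H generated by its elements of order prime to p, centralizes the Frattini subgroup of P. -/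
theorem result {G : Type*} [Group G] [Finite G] {p : ℕ} [Fact p.Prime] (P : Subgroup G) (hP : IsPGroup p ↥P) (H : Subgroup G) (hH : H ≤ Subgroup.normalizer (P : Set G)) (Y : Subgroup G) (hYH : Y ≤ H) (hYc : Y ≤ Subgroup.centralizer ((⁅P, P⁆ : Subgroup G) : Set G)) (hel : Cfsg.IsElementaryAbelian p ⁅P, Y⁆) (NY : Subgroup G) (hNY : NY = (Subgroup.normalClosure ((Y.subgroupOf H : Subgroup ↥H) : Set ↥H)).map H.subtype) : (Cfsg.pResidual p ↥NY).map NY.subtype ≤ Subgroup.centralizer (((frattini ↥P).map P.subtype : Subgroup G) : Set G) := by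
  subst hNY
  set P' := ⁅P, P⁆
  have hP'P : P' ≤ P := commutator_le_self P
  have hNP' : normalizer (P : Set G) ≤ normalizer (P' : Set G) :=
    (le_inf le_rfl le_rfl).trans (H75.normalizer_inf_le_normalizer_commutator P P)
  let K : Subgroup G :=
    { carrier := {g | g ∈ normalizer (P : Set G) ⊓ centralizer (P' : Set G) ∧
        ∀ a ∈ P, ⁅g, a ^ p⁆ ∈ P'}
      one_mem' := ⟨one_mem _, fun a _ => by simp⟩
      mul_mem' := by
        rintro g h ⟨hg, hg'⟩ ⟨hh, hh'⟩
        refine ⟨mul_mem hg hh, fun a ha => ?_⟩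
        rw [commutatorElement_mul_left_eq_conj_mul]
        exact mul_mem (H75.conj_mem_of_mem_normalizer (hNP' (mem_inf.mp hg).1) (hh' a ha)) (hg' a ha)
      inv_mem' := by
        rintro g ⟨hg, hg'⟩
        refine ⟨inv_mem hg, fun a ha => ?_⟩
        rw [commutatorElement_inv_left, ← commutatorElement_inv g (a ^ p)]
        exact H75.conj'_mem_of_mem_normalizer (hNP' (mem_inf.mp hg).1) (inv_mem (hg' a ha)) }
  have hYK : Y ≤ K := by
    intro y hy
    have hyP : y ∈ normalizer (P : Set G) := hH (hYH hy)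
    refine ⟨mem_inf.mpr ⟨hyP, hYc hy⟩, fun a ha => ?_⟩
    set c := ⁅y, a⁆
    have hcP : c ∈ P := by
      simp only [c, commutatorElement_def]
      exact mul_mem (H75.conj_mem_of_mem_normalizer hyP ha) (inv_mem ha)
    have hcp : c ^ p = 1 := by
      refine hel.2 c ?_
      rw [commutator_comm]
      exact commutator_mem_commutator hy ha
    have e : ⁅y, a ^ p⁆ = (c * a) ^ p * (a ^ p)⁻¹ := by
      have h1 : (c * a) ^ p = y * a ^ p * y⁻¹ := by
        rw [show c * a = y * a * y⁻¹ by simp only [c, commutatorElement_def]; group, conj_pow]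
      rw [h1, commutatorElement_def]
    rw [e]
    let a' : ↥P := ⟨a, ha⟩
    let c' : ↥P := ⟨c, hcP⟩
    have h2 : Abelianization.of ((c' * a') ^ p * (a' ^ p)⁻¹) = 1 := by
      have hc' : c' ^ p = 1 := Subtype.ext hcp
      rw [map_mul, map_pow, map_mul, mul_pow, map_inv, map_pow, mul_inv_cancel_right, ← map_pow,
        hc', map_one]
    have h3 : (c' * a') ^ p * (a' ^ p)⁻¹ ∈ commutator ↥P :=
      (QuotientGroup.eq_one_iff _).mp h2
    have h4 := mem_map_of_mem P.subtype h3
    rw [map_subtype_commutator] at h4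
    exact h4
  have hKn : H ≤ normalizer (K : Set G) := by
    refine H75.le_normalizer_of_conj fun h hh g hg => ?_
    have hhP : h ∈ normalizer (P : Set G) := hH hh
    refine ⟨mem_inf.mpr ⟨mul_mem (mul_mem hhP (mem_inf.mp hg.1).1) (inv_mem hhP),
      H75.conj_mem_of_mem_normalizer
        (H75.normalizer_le_normalizer_centralizer P' (hNP' hhP)) (mem_inf.mp hg.1).2⟩, fun a ha => ?_⟩
    have h1 := H75.conj_mem_of_mem_normalizer (hNP' hhP)
      (hg.2 (h⁻¹ * a * h) (H75.conj'_mem_of_mem_normalizer hhP ha))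
    rw [conjugate_commutatorElement, ← conj_pow] at h1
    simpa [mul_assoc] using h1
  set NY := (normalClosure ((Y.subgroupOf H : Subgroup ↥H) : Set ↥H)).map H.subtype
  have hNYK : NY ≤ K := by
    refine map_le_iff_le_comap.mpr ?_
    have : (K.comap H.subtype).Normal := ⟨fun x hx g =>
      show (g : G) * (x : G) * (g : G)⁻¹ ∈ K from H75.conj_mem_of_mem_normalizer (hKn g.2) hx⟩
    exact normalClosure_le_normal fun y hy => hYK hy
  rw [H75.map_pResidual_eq_resOf, H75.resOf, closure_le]
  rintro x ⟨hx, hxc⟩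
  obtain ⟨hxK, hxp⟩ := hNYK hx
  have hP'p : IsPGroup p ↥P' := hP.to_le hP'P
  let N : Subgroup ↥P := (centralizer ({x} : Set G)).subgroupOf P
  have hN : ∀ a : ↥P, Commute x (a : G) → a ∈ N := fun a ha => mem_centralizer_iff.mpr fun z hz => by
    rw [Set.mem_singleton_iff.mp hz]; exact ha.eq
  have hxP' : ∀ d ∈ P', Commute x d := fun d hd =>
    ((mem_centralizer_iff.mp (mem_inf.mp hxK).2) d hd).symm
  have hfr : frattini ↥P ≤ N := Cfsg.Agent.S2818.frattini_le_of_quotient (p := p) N
    (fun a ha => hN a (hxP' _ (by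
      have h4 := mem_map_of_mem P.subtype ha
      rwa [map_subtype_commutator] at h4)))
    (fun a => hN (a ^ p) (by
      rw [Subgroup.coe_pow]
      exact H75.commute_of_coprime_step hP'p hxc (hxp _ a.2) (hxP' _ (hxp _ a.2))))
  rw [SetLike.mem_coe, mem_centralizer_iff]
  rintro _ ⟨a, ha, rfl⟩
  exact ((mem_centralizer_iff.mp (hfr ha)) x rfl).symm

end Cfsg.Agent.S2819
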