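import Cfsg.Statements.S2824
import Cfsg.Agent.H75.PReduced2

set_option autoImplicit false
open Cfsg
open Subgroup
open scoped commutatorElement

namespace Cfsg.Agent.S2824

set_option maxHeartbeats 1000000 in
/-- Let H be a finite group, p a prime, T a Sylow p-subgroup, L and M subgroups of characteristic p containing T, Y_L the largest p-reduced normal subgroup of L and T₀ = C_T(Y_L). If M·C_H(Y_L) = L·C_H(Y_L), then L* := N_M(T₀) has Y_{L*} = Y_L and L·C_H(Y_L) = L*·C_H(Y_L). -/
theorem result {H : Type*} [Group H] [Finite H] {p : ℕ} [Fact p.Prime] (T : Sylow p H) (L M : Subgroup H) (hTL : (T : Subgroup H) ≤ L) (hTM : (T : Subgroup H) ≤ M) (hL : Subgroup.centralizer (Cfsg.pCore p ↥L : Set ↥L) ≤ Cfsg.pCore p ↥L) (hM : Subgroup.centralizer (Cfsg.pCore p ↥M : Set ↥M) ≤ Cfsg.pCore p ↥M) (T₀ : Subgroup H) (hT₀ : T₀ = (T : Subgroup H) ⊓ Subgroup.centralizer (((Cfsg.largestPReducedOf p L) : Subgroup H) : Set H)) (hfac : M ⊔ Subgroup.centralizer (((Cfsg.largestPReducedOf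 p L) : Subgroup H) : Set H) = L ⊔ Subgroup.centralizer (((Cfsg.largestPReducedOf p L) : Subgroup H) : Set H)) (Ls : Subgroup H) (hLs : Ls = M ⊓ Subgroup.normalizer ((T₀ : Subgroup H) : Set H)) : (Cfsg.largestPReducedOf p Ls) = (Cfsg.largestPReducedOf p L) ∧ L ⊔ Subgroup.centralizer (((Cfsg.largestPReducedOf p L) : Subgroup H) : Set H) = Ls ⊔ Subgroup.centralizer (((Cfsg.largestPReducedOf p L) : Subgroup H) : Set H) := by
  subst hT₀ hLs
  set Y := Cfsg.largestPReducedOf p L with hYdef
  set C := centralizer (Y : Set H)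
  set T₀ := (T : Subgroup H) ⊓ C
  set Ls := M ⊓ normalizer (T₀ : Set H)
  have hY := H75.redIn_largest (p := p) L
  have hM' := H75.charP_iff.mp hM
  have hCn : C ≤ normalizer (Y : Set H) := centralizer_le_normalizer _
  have hMC : M ≤ normalizer (C : Set H) :=
    le_sup_left.trans (hfac.le.trans ((sup_le hY.norm hCn).trans
      (H75.normalizer_le_normalizer_centralizer Y)))
  obtain ⟨P, hP⟩ := H75.exists_sylow_inf_of_normalized T (hTL.trans hY.norm) hCn
    (H75.normalizer_le_normalizer_centralizer Y)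
  have hPmap : (P : Subgroup C).map C.subtype = T₀ := by
    rw [hP, map_subgroupOf_eq_of_le inf_le_right]
  have hT₀p : IsPGroup p ↥T₀ := T.isPGroup'.to_inf_left
  have hmax : ∀ R : Subgroup H, IsPGroup p ↥R → R ≤ C → T₀ ≤ R → R = T₀ := by
    intro R hR hRC hTR
    rw [← map_subgroupOf_eq_of_le hRC, ← hPmap]
    congr 1
    refine P.is_maximal' (IsPGroup.comap_subtype hR) ?_
    rw [hP]
    exact comap_mono hTR
  have hTN : (T : Subgroup H) ≤ normalizer (T₀ : Set H) :=
    (le_inf le_normalizer (hTM.trans hMC)).trans (H75.normalizer_inf_le_normalizer_inf _ _)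
  -- Frattini: `M ≤ Ls ⊔ C`
  have hMLs : M ≤ Ls ⊔ C := by
    intro m hm
    have hT₀MC : T₀ ≤ M ⊓ C := inf_le_inf_right _ hTM
    have hmT₀ : H70.cj m T₀ ≤ M ⊓ C :=
      (H70.cj_mono m hT₀MC).trans (H70.cj_eq_self_iff.mpr
        (((le_inf le_normalizer hMC).trans (H75.normalizer_inf_le_normalizer_inf M C)) hm)).le
    obtain ⟨R, hR, hRle, hTR, d, hd, hdR⟩ :=
      H75.exists_conj_common_pgroup hT₀p (hT₀p.map (MulAut.conj m).toMonoidHom) hT₀MC hmT₀
    have hReq := hmax R hR (hRle.trans inf_le_right) hTR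
    have hn : d * m ∈ normalizer (T₀ : Set H) := by
      rw [← H70.cj_eq_self_iff, ← H70.cj_cj]
      exact Subgroup.eq_of_le_of_card_ge (hdR.trans hReq.le)
        (by rw [H70.card_cj, H70.card_cj])
    have := mul_mem (mem_sup_right (S := Ls) (inv_mem (mem_inf.mp hd).2))
      (mem_sup_left (T := C) (mem_inf.mpr ⟨mul_mem (mem_inf.mp hd).1 hm, hn⟩))
    simpa using this
  have hfac' : L ⊔ C = Ls ⊔ C := by
    refine le_antisymm ?_ (sup_le ((inf_le_left.trans le_sup_left).trans hfac.le) le_sup_right)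
    rw [← hfac]
    exact sup_le hMLs le_sup_right
  refine ⟨?_, hfac'⟩
  have hTLs : (T : Subgroup H) ≤ Ls := le_inf hTM hTN
  have hY' := H75.redIn_largest (p := p) Ls
  have hT₀core : T₀ ≤ Cfsg.pCoreOf p Ls :=
    H75.le_pCoreOf (inf_le_left.trans hTLs) inf_le_right hT₀p
  -- `Y ≤ Y_{Ls}`
  have hle : Y ≤ Cfsg.largestPReducedOf p Ls :=
    (hY.transfer (L := Ls) (((hY.le_pCoreOf.trans (H75.pCoreOf_le_sylow T hTL))).trans hTLs)
      ((le_sup_left.trans hfac'.ge).trans (sup_le hY.norm hCn)) hfac'.symm).le_largest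
  refine le_antisymm ?_ hle
  set Y' := Cfsg.largestPReducedOf p Ls with hY'def
  have hY'T₀ : T₀ ≤ centralizer (Y' : Set H) := hT₀core.trans hY'.pCoreOf_le
  have hY'TL : Y' ≤ L := (hY'.le_pCoreOf.trans (H75.pCoreOf_le_sylow T hTLs)).trans hTL
  set P' := Cfsg.pCoreOf p L ⊓ centralizer (Cfsg.pCoreOf p L : Set H)
  have hL' := H75.charP_iff.mp hL
  have hY'P : Y' ≤ P' := by
    have h1 : Y' ≤ centralizer (Cfsg.pCoreOf p L : Set H) :=
      le_centralizer_iff.mp ((le_inf (H75.pCoreOf_le_sylow T hTL) hY.pCoreOf_le).trans hY'T₀)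
    exact le_inf ((le_inf hY'TL h1).trans hL') h1
  have hLP : L ≤ normalizer ((Cfsg.omegaOne p P' : Subgroup H) : Set H) := by
    refine H75.le_normalizer_of_conj fun l hl a ha => ?_
    have h1 : l ∈ normalizer (P' : Set H) :=
      ((le_inf (H75.le_normalizer_pCoreOf L) ((H75.le_normalizer_pCoreOf L).trans
        (H75.normalizer_le_normalizer_centralizer _))).trans
        (H75.normalizer_inf_le_normalizer_inf _ _)) hl
    have h2 : Cfsg.omegaOne p P' ≤ (Cfsg.omegaOne p P').comap (MulAut.conj l).toMonoidHom := by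
      refine (closure_le _).mpr ?_
      rintro x ⟨hx, hxp⟩
      refine subset_closure ⟨H75.conj_mem_of_mem_normalizer h1 hx, ?_⟩
      rw [← map_pow, hxp, map_one]
    exact h2 ha
  set U := ⨆ l : L, H70.cj (l : H) Y'
  have hUle : U ≤ Cfsg.omegaOne p P' := iSup_le fun l => (H70.cj_mono _
    (H75.le_omegaOne hY'.elem.2 hY'P)).trans (H70.cj_eq_self_iff.mpr (hLP l.2)).le
  have hY'U : Y' ≤ U := by
    refine le_trans ?_ (le_iSup (fun l : L => H70.cj (l : H) Y') 1)
    simp
  have hUred : H75.RedIn p U L := by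
    refine ⟨hUle.trans ((H75.omegaOne_le _).trans (inf_le_left.trans (H75.pCoreOf_le L))),
      H75.le_normalizer_of_conj fun k hk a ha => ?_,
      H75.elemAb_mono (H75.omegaOne_elemAb (H75.centre_abelian _)) hUle,
      fun N hNL hLN hp => ?_⟩
    · have h2 : U ≤ U.comap (MulAut.conj k).toMonoidHom := by
        refine iSup_le fun l => ?_
        rw [← map_le_iff_le_comap]
        exact (H70.cj_cj k (l : H) Y').le.trans
          (le_iSup (fun l : L => H70.cj (l : H) Y') (⟨k, hk⟩ * l))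
      exact h2 ha
    · have h1 : N ≤ C := hY.red N hNL hLN
        (H75.powInto_mono hp le_rfl (centralizer_le (hle.trans hY'U)))
      have := normal_subgroupOf_of_le_normalizer hLN
      have h3 := H75.le_of_powInto (T.subtype hTL) (N := N.subgroupOf L)
        (C := (centralizer (Y' : Set H)).subgroupOf L) (by
          intro x hx
          obtain ⟨k, hk⟩ := hp _ hx
          exact ⟨k, by simpa [mem_subgroupOf] using centralizer_le hY'U hk⟩) (by
          rw [Sylow.coe_subtype]
          intro x hx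
          exact hY'T₀ (mem_inf.mpr ⟨(mem_inf.mp hx).1, h1 (mem_inf.mp hx).2⟩))
      refine le_centralizer_iff.mp (iSup_le fun l => le_centralizer_iff.mp ?_)
      intro x hx
      rw [mem_centralizer_iff]
      rintro _ ⟨y, hy, rfl⟩
      have hx' : (l : H)⁻¹ * x * l ∈ N := H75.conj'_mem_of_mem_normalizer (hLN l.2) hx
      have h4 := (mem_centralizer_iff.mp (h3 (show (⟨_, hNL hx'⟩ : L) ∈ N.subgroupOf L from hx'))) y hy
      show (l : H) * y * (l : H)⁻¹ * x = x * ((l : H) * y * (l : H)⁻¹)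
      calc (l : H) * y * (l : H)⁻¹ * x = (l : H) * (y * ((l : H)⁻¹ * x * l)) * (l : H)⁻¹ := by group
        _ = (l : H) * ((l : H)⁻¹ * x * l * y) * (l : H)⁻¹ := by
          simp only [coe_subtype] at h4 ⊢; rw [h4]
        _ = _ := by group
  exact hY'U.trans hUred.le_largest

end Cfsg.Agent.S2824
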