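import Cfsg.Statements.S2825
import Cfsg.Agent.H75.PReduced2

set_option autoImplicit false
open Cfsg
open Subgroup
open scoped commutatorElement

namespace Cfsg.Agent.S2825

/-- Let L be a subnormal subgroup of the finite group H, p a prime, Y_H and Y_L the largest p-reduced normal subgroups. Then Y_H ∩ L = Y_H ∩ Y_L and this subgroup is a p-reduced normal subgroup of L; C_L(Y_L) = C_L(Y_H) = C_L(Y_H ∩ L); and if O^p(H) ≤ L, then [Y_L, L] = 1 if and only if [Y_H, H] = 1. -/
theorem result {H : Type*} [Group H] [Finite H] {p : ℕ} [Fact p.Prime] (L : Subgroup H) (hL : L.IsSubnormal) : Cfsg.largestPReduced p H ⊓ L = Cfsg.largestPReduced p H ⊓ (Cfsg.largestPReducedOf p L) ∧ Cfsg.IsPReducedNormal p ((Cfsg.largestPReduced p H ⊓ L).subgroupOf L) ∧ L ⊓ Subgroup.centralizer ((Cfsg.largestPReducedOf p L : Subgroup H) : Set H) = L ⊓ Subgroup.centralizer (Cfsg.largestPReduced p H : Set H) ∧ L ⊓ Subgroup.centralizer (Cfsg.largestPReduced p H : Set H) = L ⊓ Subgroup.centralizer ((Cfsg.largestPReduced p H ⊓ L : Subgroup H) : Set H) ∧ (Cfsg.pResidual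 p H ≤ L → (⁅(Cfsg.largestPReducedOf p L), L⁆ = ⊥ ↔ ⁅Cfsg.largestPReduced p H, (⊤ : Subgroup H)⁆ = ⊥)) := by
  have hY := H75.largestPReduced_redIn (p := p) (G := H)
  have hr := H75.inf_redIn (p := p) hL
  have hYL := H75.redIn_largest (p := p) L
  refine ⟨le_antisymm (le_inf inf_le_left hr.le_largest) (inf_le_inf_left _ hYL.le), ?_,
    H75.centralizer_largest_subnormal hL, le_antisymm (inf_le_inf_left _ (centralizer_le inf_le_left))
      (le_inf inf_le_left (H75.centralizer_inf_eq hL)), fun hres => ?_⟩
  · rw [← H75.redIn_top_iff, ← H75.redIn_map_subtype_iff, map_subgroupOf_eq_of_le inf_le_right]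
    exact hr
  · rw [commutator_eq_bot_iff_le_centralizer, commutator_eq_bot_iff_le_centralizer,
      le_centralizer_iff]
    constructor
    · intro h
      have h1 : L ≤ centralizer (Cfsg.largestPReduced p H : Set H) :=
        ((le_inf le_rfl h).trans (H75.centralizer_largest_subnormal hL).le).trans inf_le_right
      rw [le_centralizer_iff]
      refine hY.red ⊤ le_rfl (by rw [normalizer_eq_top]) ?_
      refine H75.powInto_of_resOf_le ?_
      rw [H75.resOf_top]
      exact hres.trans h1
    · intro h
      rw [le_centralizer_iff] at h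
      exact ((le_inf le_rfl (le_top.trans h)).trans
        (H75.centralizer_largest_subnormal hL).ge).trans inf_le_right

end Cfsg.Agent.S2825
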