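import Cfsg.Statements.S2826
import Cfsg.Agent.H75.PReduced2

set_option autoImplicit false
open Cfsg
open Subgroup
open scoped commutatorElement

namespace Cfsg.Agent.S2826

/-- Let H be a finite group of characteristic p, T a Sylow p-subgroup, and V a normal elementary abelian p-subgroup of H containing Ω₁(Z(T)). Then C_H(Ω₁(Z(T))) = C_H([V, O^p(H)] ∩ Ω₁(Z(T))), O^p(H) being generated by the elements of order prime to p. -/
theorem result {H : Type*} [Group H] [Finite H] {p : ℕ} [Fact p.Prime] (hH : Subgroup.centralizer (Cfsg.pCore p H : Set H) ≤ Cfsg.pCore p H) (T : Sylow p H) (V : Subgroup H) [V.Normal] (hV : Cfsg.IsElementaryAbelian p V) (hZV : (Cfsg.omegaOne p ((T : Subgroup H) ⊓ Subgroup.centralizer (((T : Subgroup H) : Subgroup H) : Set H))) ≤ V) : Subgroup.centralizer ((Cfsg.omegaOne p ((T : Subgroup H) ⊓ Subgroup.centralizer (((T : Subgroup H) : Subgroup H) : Set H))) : Set H) = Subgroup.centralizer (((⁅V, Cfsg.pResidual p H⁆ ⊓ (Cfsg.omegaOne p ((T : Subgroup H) ⊓ Subgroup.centralizer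 (((T : Subgroup H) : Subgroup H) : Set H)))) : Subgroup H) : Set H) := by
  set U := Cfsg.omegaOne p ((T : Subgroup H) ⊓ centralizer ((T : Subgroup H) : Set H))
  set Z := Cfsg.sylowCenterClosure p (⊤ : Subgroup H)
  set Om := Cfsg.omegaOne p ((⊤ : Subgroup H) ⊓ centralizer ((⊤ : Subgroup H) : Set H))
  refine le_antisymm (centralizer_le inf_le_right) ?_
  obtain ⟨h1, -, h3⟩ := H75.closure_factor T (L := (⊤ : Subgroup H)) le_top
    (H75.charPSub_top.mpr hH)
  have hUZ : U ≤ Z := H75.omega_centre_le_closure T le_top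
  rw [H75.resOf_top] at h1
  have hZV : Z ≤ V := by
    refine iSup_le fun S => ?_
    obtain ⟨g, hg⟩ := MulAction.exists_smul_eq (⊤ : Subgroup H) (T.subtype le_top) S
    have hS : (S : Subgroup (⊤ : Subgroup H)).map (⊤ : Subgroup H).subtype =
        H70.cj (g : H) (T : Subgroup H) := by
      rw [← hg, Sylow.coe_subgroup_smul]
      show (H70.cj g ((T.subtype le_top : Sylow p (⊤ : Subgroup H)) : Subgroup _)).map _ = _
      rw [Sylow.coe_subtype]
      simp only [H70.cj, Subgroup.map_map]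
      conv_rhs => rw [← map_subgroupOf_eq_of_le (le_top : (T : Subgroup H) ≤ ⊤), Subgroup.map_map]
      congr 1
    rw [hS]
    refine (le_of_eq (H74.omegaZ_map _ _ (MulAut.conj (g : H)).injective)).trans ?_
    refine (Subgroup.map_mono hZV).trans ?_
    exact (Normal.map_conj_eq V (g : H)).le
  have hOm : Om.Normal := ⟨fun x hx g => by
    rw [(mem_centralizer_iff.mp (mem_inf.mp (H75.omegaOne_le _ hx)).2) g (mem_top g),
      mul_inv_cancel_right]
    exact hx⟩
  intro c hc
  rw [mem_centralizer_iff] at hc ⊢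
  intro u hu
  obtain ⟨a, ha, b, hb, rfl⟩ := H75.sup_eq_mul_of_le_normalizer (A := Om)
    (B := ⁅Z, Cfsg.pResidual p H⁆) (le_top.trans (le_of_eq (normalizer_eq_top_iff.mpr hOm).symm))
    (h1.le (hUZ hu))
  · have hac : Commute a c :=
      ((mem_centralizer_iff.mp (mem_inf.mp (H75.omegaOne_le _ ha)).2) c (mem_top c)).symm
    have hb' : b ∈ ⁅V, Cfsg.pResidual p H⁆ ⊓ U := by
      refine mem_inf.mpr ⟨commutator_mono hZV le_rfl hb, ?_⟩
      have h4 := mul_mem (inv_mem (h3 ha)) hu
      rwa [inv_mul_cancel_left] at h4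
    exact (hac.mul_left (hc b hb')).eq

end Cfsg.Agent.S2826
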