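import Cfsg.Statements.S2830
import Cfsg.Agent.H75.PReduced2
import Cfsg.Agent.H75.Irreducible

set_option autoImplicit false
open Cfsg
open Subgroup
open scoped commutatorElement

namespace Cfsg.Agent.S2830

/-- Let H act by conjugation on the elementary abelian p-subgroup V of a finite group G (H ≤ N(V)), with H p-irreducible and O^p(H) not centralizing V. Then C_H(V) is p-closed and C_T(V) ≤ O_p(H) for every p-subgroup T of H. If in addition O_p(H) centralizes V, then C_T(V) = T ∩ O_p(H) for every p-subgroup T of H, and V is p-reduced for H: O_p(H/C_H(V)) = 1. -/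
theorem result {G : Type*} [Group G] [Finite G] {p : ℕ} [Fact p.Prime] (V H : Subgroup G) (hV : Cfsg.IsElementaryAbelian p V) (hHV : H ≤ Subgroup.normalizer (V : Set G)) (hH : Cfsg.IsPIrreducible p ↥H) (hnc : ¬ (Cfsg.pResidual p ↥H).map H.subtype ≤ Subgroup.centralizer (V : Set G)) [hn : ((Subgroup.centralizer (V : Set G)).subgroupOf H).Normal] : Cfsg.IsPClosed p ↥(H ⊓ Subgroup.centralizer (V : Set G)) ∧ (∀ T : Subgroup G, T ≤ H → IsPGroup p ↥T → T ⊓ Subgroup.centralizer (V : Set G) ≤ Cfsg.pCoreOf p H) ∧ (Cfsg.pCoreOf p H ≤ Subgroup.centralizer (V : Set G) → (∀ T : Subgroup G, T ≤ H → IsPGroup p ↥T → T ⊓ Subgroup.centralizer (V : Set G) = T ⊓ Cfsg.pCoreOf p H) ∧ Cfsg.pCore p (↥H ⧸ (Subgroup.centralizer (V : Set G)).subgroupOf H) = ⊥) := by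
  have := H1.pCore_normal' p ↥H
  set C := centralizer (V : Set G)
  have hres : ¬ Cfsg.pResidual p ↥H ≤ C.subgroupOf H := by
    intro h
    apply hnc
    exact (Subgroup.map_mono h).trans (by rw [subgroupOf_map_subtype]; exact inf_le_left)
  have hcl : Cfsg.IsPClosed p ↥(C.subgroupOf H) := by
    by_contra h
    exact hres (hH.2 _ hn h)
  have hcl' : Cfsg.IsPClosed p ↥(H ⊓ C) := by
    rw [H75.isPClosed_subgroup_iff] at hcl ⊢
    intro x hx hk
    obtain ⟨k, hk⟩ := hk
    obtain ⟨hxH, hxC⟩ := mem_inf.mp hx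
    have h1 := hcl ⟨x, hxH⟩ hxC ⟨k, Subtype.ext hk⟩
    have h2 : (Cfsg.pCoreOf p (C.subgroupOf H)).map H.subtype ≤ Cfsg.pCoreOf p (H ⊓ C) := by
      refine H75.le_pCoreOf ((Subgroup.map_mono (H75.pCoreOf_le _)).trans ?_) ?_
        ((H75.isPGroup_pCoreOf _).map _)
      · rw [subgroupOf_map_subtype, inf_comm]
      · have h3 := (Subgroup.map_mono (f := H.subtype) (H75.le_normalizer_pCoreOf (p := p) (C.subgroupOf H))).trans
          (le_normalizer_map H.subtype)
        rwa [subgroupOf_map_subtype, inf_comm] at h3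
    exact h2 ⟨_, h1, rfl⟩
  have hT : ∀ T : Subgroup G, T ≤ H → IsPGroup p ↥T → T ⊓ C ≤ Cfsg.pCoreOf p H := by
    intro T hTH hTp x hx
    obtain ⟨hxT, hxC⟩ := mem_inf.mp hx
    refine ⟨⟨x, hTH hxT⟩, ?_, rfl⟩
    exact H75.le_pCore_of_le_isPClosed hcl (IsPGroup.comap_subtype (K := H) hTp.to_inf_left)
      (Y := (T ⊓ C).subgroupOf H) (comap_mono inf_le_right) hx
  refine ⟨hcl', hT, fun hcore => ⟨fun T hTH hTp => le_antisymm (le_inf inf_le_left (hT T hTH hTp))
    (inf_le_inf_left _ hcore), ?_⟩⟩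
  rw [eq_bot_iff]
  have := H1.pCore_normal' p (↥H ⧸ C.subgroupOf H)
  set N := (Cfsg.pCore p (↥H ⧸ C.subgroupOf H)).comap (QuotientGroup.mk' (C.subgroupOf H))
  have hNp : H75.PowInto p N (C.subgroupOf H) := by
    intro x hx
    obtain ⟨k, hk⟩ := H1.isPGroup_pCore p _ ⟨_, hx⟩
    refine ⟨k, (QuotientGroup.eq_one_iff _).mp ?_⟩
    simpa using congrArg Subtype.val hk
  have hNC : N ≤ C.subgroupOf H := by
    by_cases hNc : Cfsg.IsPClosed p ↥N
    · let T : Sylow p ↥H := default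
      refine H75.le_of_powInto T hNp ?_
      intro x hx
      have h1 := H75.le_pCore_of_le_isPClosed hNc
        (T.isPGroup'.to_inf_left : IsPGroup p ↥((T : Subgroup ↥H) ⊓ N)) inf_le_right hx
      exact hcore (mem_map_of_mem H.subtype h1)
    · exact absurd (H75.resOf_pResidual.ge.trans ((H75.resOf_mono
        (hH.2 N inferInstance hNc)).trans (H75.resOf_le_of_powInto hNp))) hres
  intro q hq
  obtain ⟨x, rfl⟩ := QuotientGroup.mk'_surjective _ q
  rw [mem_bot, QuotientGroup.mk'_apply, QuotientGroup.eq_one_iff]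
  exact hNC hq

end Cfsg.Agent.S2830
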