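import Cfsg.Statements.S2833
import Cfsg.Agent.H75.Basic

set_option autoImplicit false
open Cfsg
open Subgroup
open scoped commutatorElement

namespace Cfsg.Agent.S2833

/-- Let V be a subgroup of a finite group G normalized by the subgroup L, let X ≤ L and g ∈ L with [V, X, X] = 1 and L generated by X and gXg⁻¹. Put W = [V, L]. Then W = [V, X]·[V, gXg⁻¹], C_W(X) = [V, X], and C_W(L) = [V, X] ∩ [V, gXg⁻¹]. -/
theorem result {G : Type*} [Group G] [Finite G] (V L : Subgroup G) (hLV : L ≤ Subgroup.normalizer (V : Set G)) (X : Subgroup G) (hX : X ≤ L) (g : G) (hg : g ∈ L) (hq : ⁅⁅V, X⁆, X⁆ = ⊥) (hgen : X ⊔ X.map (MulAut.conj g).toMonoidHom = L) (W : Subgroup G) (hW : W = ⁅V, L⁆) : ⁅V, X⁆ ⊔ ⁅V, X.map (MulAut.conj g).toMonoidHom⁆ = W ∧ W ⊓ Subgroup.centralizer (X : Set G) = ⁅V, X⁆ ∧ W ⊓ Subgroup.centralizer (L : Set G) = ⁅V, X⁆ ⊓ ⁅V, X.map (MulAut.conj g).toMonoidHom⁆ := by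
  subst hW
  have hVA : ∀ Y : Subgroup G, V ≤ normalizer ((⁅V, Y⁆ : Subgroup G) : Set G) :=
    fun Y => normalizer_commutator_ge_left V Y
  set X' := X.map (MulAut.conj g).toMonoidHom with hX'
  have hgV : g ∈ normalizer (V : Set G) := hLV hg
  have hX'L : X' ≤ L := by
    rw [hX', map_le_iff_le_comap]
    intro x hx
    exact mul_mem (mul_mem hg (hX hx)) (inv_mem hg)
  have hXV : X ≤ normalizer (V : Set G) := hX.trans hLV
  have hX'V : X' ≤ normalizer (V : Set G) := hX'L.trans hLV
  have hcA : ⁅V, X'⁆ = ⁅V, X⁆.map (MulAut.conj g).toMonoidHom := by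
    rw [map_commutator, show V.map (MulAut.conj g).toMonoidHom = V from
      H70.cj_eq_self_iff.mpr hgV]
  have hA'V : ⁅V, X'⁆ ≤ V := le_normalizer_iff_commutator_le_left.mp hX'V
  have hAV : ⁅V, X⁆ ≤ V := le_normalizer_iff_commutator_le_left.mp hXV
  set U := ⁅V, X⁆ ⊔ ⁅V, X'⁆ with hU
  have hUV : V ≤ normalizer (U : Set G) :=
    (le_inf (hVA X) (hVA X')).trans (H75.normalizer_inf_le_normalizer_sup _ _)
  have hUsub : U ≤ V := sup_le hAV hA'V
  have hLU : L ≤ normalizer (U : Set G) := by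
    rw [← hgen]
    refine sup_le ?_ ?_
    · rw [le_normalizer_iff_commutator_le_left]
      exact (commutator_mono hUsub le_rfl).trans le_sup_left
    · rw [le_normalizer_iff_commutator_le_left]
      exact (commutator_mono hUsub le_rfl).trans le_sup_right
  have hWU : U = ⁅V, L⁆ := by
    refine le_antisymm (sup_le (commutator_mono le_rfl hX) (commutator_mono le_rfl hX'L)) ?_
    rw [commutator_le]
    intro v hv l hl
    rw [← hgen] at hl
    suffices ∀ l ∈ X ⊔ X', l ∈ normalizer (U : Set G) ∧ ∀ v ∈ V, ⁅v, l⁆ ∈ U from (this l hl).2 v hv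
    intro l hl
    rw [sup_eq_closure] at hl
    induction hl using closure_induction with
    | mem x hx =>
      refine ⟨hLU (hgen ▸ ?_), fun v hv => ?_⟩
      · exact hx.elim (fun h => mem_sup_left h) (fun h => mem_sup_right h)
      · exact hx.elim (fun h => mem_sup_left (commutator_mem_commutator hv h))
          (fun h => mem_sup_right (commutator_mem_commutator hv h))
    | one => exact ⟨one_mem _, fun v _ => by simp⟩
    | mul x y _ _ ihx ihy =>
      refine ⟨mul_mem ihx.1 ihy.1, fun v hv => ?_⟩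
      rw [commutatorElement_mul_right_eq_mul_conj, mul_assoc, mul_assoc, ← mul_assoc x]
      exact mul_mem (ihx.2 v hv) (H75.conj_mem_of_mem_normalizer ihx.1 (ihy.2 v hv))
    | inv x _ ihx =>
      refine ⟨inv_mem ihx.1, fun v hv => ?_⟩
      rw [commutatorElement_inv_right, ← commutatorElement_inv v x]
      exact H75.conj'_mem_of_mem_normalizer ihx.1 (inv_mem (ihx.2 v hv))
  have hc : ⁅V, X⁆ ≤ centralizer (X : Set G) := commutator_eq_bot_iff_le_centralizer.mp hq
  have hc' : ⁅V, X'⁆ ≤ centralizer (X' : Set G) := by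
    rw [← commutator_eq_bot_iff_le_centralizer, hcA, hX', ← map_commutator, hq, Subgroup.map_bot]
  have hCX : ⁅V, L⁆ ⊓ centralizer (X : Set G) = ⁅V, X⁆ := by
    refine le_antisymm ?_ (le_inf (commutator_mono le_rfl hX) hc)
    intro w hw
    obtain ⟨hw, hwc⟩ := mem_inf.mp hw
    rw [← hWU] at hw
    rw [← SetLike.mem_coe, hU,
      coe_mul_of_right_le_normalizer_left _ _ (hA'V.trans (hVA X))] at hw
    obtain ⟨a, ha, b, hb, rfl⟩ := hw
    have hbc : b ∈ centralizer (X : Set G) := by
      simpa using mul_mem (inv_mem (hc ha)) hwc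
    have hbL : L ≤ centralizer ({b} : Set G) := by
      rw [← hgen]
      refine sup_le ?_ ?_ <;> intro x hx <;> rw [mem_centralizer_iff] <;> intro y hy <;>
        rw [Set.mem_singleton_iff.mp hy]
      · exact ((mem_centralizer_iff.mp hbc) x hx).symm
      · exact ((mem_centralizer_iff.mp (hc' hb)) x hx).symm
    have hgb : b * g = g * b := (mem_centralizer_iff.mp (hbL hg)) b rfl
    have hb' : b ∈ ⁅V, X'⁆ := hb
    rw [hcA] at hb'
    obtain ⟨c, hc2, hcb⟩ := hb'
    have hcb' : g * c * g⁻¹ = b := hcb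
    have : c = b := by
      calc c = g⁻¹ * (g * c * g⁻¹) * g := by group
        _ = g⁻¹ * b * g := by rw [hcb']
        _ = g⁻¹ * (b * g) := by group
        _ = b := by rw [hgb]; group
    exact mul_mem ha (this ▸ hc2)
  refine ⟨hWU, hCX, le_antisymm ?_ ?_⟩
  · refine le_inf ((inf_le_inf_left _ (centralizer_le hX)).trans hCX.le) ?_
    intro w hw
    obtain ⟨hw, hwc⟩ := mem_inf.mp hw
    rw [hcA]
    refine ⟨g⁻¹ * w * g, hCX.le (mem_inf.mpr ?_), by simp [mul_assoc]⟩
    have : g⁻¹ * w * g = w := by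
      have := (mem_centralizer_iff.mp hwc) g hg
      rw [mul_assoc, ← this]; group
    rw [this]
    exact ⟨hw, centralizer_le hX hwc⟩
  · refine le_inf (inf_le_left.trans (commutator_mono le_rfl hX)) ?_
    rw [← hgen]
    intro w hw
    obtain ⟨h1, h2⟩ := mem_inf.mp hw
    have : X ⊔ X' ≤ centralizer ({w} : Set G) := by
      refine sup_le ?_ ?_ <;> intro x hx <;> rw [mem_centralizer_iff] <;> intro y hy <;>
        rw [Set.mem_singleton_iff.mp hy]
      · exact ((mem_centralizer_iff.mp (hc h1)) x hx).symm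
      · exact ((mem_centralizer_iff.mp (hc' h2)) x hx).symm
    exact mem_centralizer_iff.mpr fun x hx => ((mem_centralizer_iff.mp (this hx)) w rfl).symm

end Cfsg.Agent.S2833
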