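import Cfsg.Statements.S2836
import Cfsg.Agent.H75.Irreducible

set_option autoImplicit false
open Cfsg
open Subgroup
open scoped commutatorElement

namespace Cfsg.Agent.S2836

/-- Let L be a finite group, L₀ a maximal subgroup, T a Sylow p-subgroup of L₀, Y ≤ T, and suppose L is Y-minimal. Let D be the intersection of the conjugates of L₀ (the core of L₀). Then D contains O_p(L) and D/O_p(L) is the Frattini subgroup of L/O_p(L), so D is p-closed; and every normal subgroup N of L contained in L₀ is p-closed with N/O_p(N) a nilpotent group of order prime to p. -/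
theorem result {L : Type*} [Group L] [Finite L] {p : ℕ} [Fact p.Prime] (L₀ : Subgroup L) (hL₀ : IsCoatom L₀) (T : Sylow p ↥L₀) (Y : Subgroup L) (hYT : Y ≤ (T : Subgroup ↥L₀).map L₀.subtype) (hmin : Cfsg.IsMinimalOver Y) : (Cfsg.pCore p L ≤ L₀.normalCore ∧ (L₀.normalCore).map (QuotientGroup.mk' (Cfsg.pCore p L)) = frattini (L ⧸ Cfsg.pCore p L) ∧ Cfsg.IsPClosed p ↥(L₀.normalCore)) ∧ ∀ (N : Subgroup L) [N.Normal], N ≤ L₀ → Cfsg.IsPClosed p ↥N ∧ Group.IsNilpotent (↥N ⧸ Cfsg.pCore p ↥N) ∧ (Nat.card (↥N ⧸ Cfsg.pCore p ↥N)).Coprime p := by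
  obtain ⟨hO, hcl, hfr⟩ := H75.min_core hmin hL₀ T hYT
  have hn := H1.pCore_normal' p L
  have hs := QuotientGroup.mk'_surjective (Cfsg.pCore p L)
  have hker : ∀ X : Subgroup L, Cfsg.pCore p L ≤ X →
      (X.map (QuotientGroup.mk' (Cfsg.pCore p L))).comap (QuotientGroup.mk' (Cfsg.pCore p L)) = X := by
    intro X hX
    rw [comap_map_eq, QuotientGroup.ker_mk', sup_eq_left]
    exact hX
  have hPhi : (L₀.normalCore).map (QuotientGroup.mk' (Cfsg.pCore p L)) =
      frattini (L ⧸ Cfsg.pCore p L) := by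
    refine le_antisymm ?_ ?_
    · refine le_iInf₂ fun Mb hMb => ?_
      rw [map_le_iff_le_comap]
      refine hfr _ (isCoatom_comap_of_surjective hs hMb) ?_
      intro x hx
      rw [mem_comap, QuotientGroup.mk'_apply, (QuotientGroup.eq_one_iff x).mpr hx]
      exact one_mem _
    · have key : (frattini (L ⧸ Cfsg.pCore p L)).comap (QuotientGroup.mk' (Cfsg.pCore p L)) ≤
          L₀.normalCore := by
        refine normal_le_normalCore.mpr ?_
        have hO' : Cfsg.pCore p L ≤ L₀ := H75.min_pCore_le hmin hL₀ T hYT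
        refine le_trans (comap_mono (frattini_le_coatom ?_)) (hker L₀ hO').le
        refine ⟨fun htop => hL₀.1 ?_, fun X hX => ?_⟩
        · rw [← hker L₀ hO', htop, comap_top]
        · have h1 : L₀ < X.comap (QuotientGroup.mk' (Cfsg.pCore p L)) := by
            refine lt_of_le_of_ne (map_le_iff_le_comap.mp hX.le) fun e => hX.ne ?_
            rw [e, map_comap_eq_self_of_surjective hs]
          rw [← map_comap_eq_self_of_surjective hs X, hL₀.2 _ h1, map_top_of_surjective _ hs]
      have := map_mono (f := QuotientGroup.mk' (Cfsg.pCore p L)) key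
      rwa [map_comap_eq_self_of_surjective hs] at this
  refine ⟨⟨hO, hPhi, hcl⟩, fun N _ hN => ?_⟩
  have hND : N ≤ L₀.normalCore := normal_le_normalCore.mpr hN
  have hNcl := H75.isPClosed_mono hND hcl
  have hnN := H1.pCore_normal' p ↥N
  refine ⟨hNcl, ?_, ?_⟩
  · let f : ↥N ⧸ Cfsg.pCore p ↥N →* L ⧸ Cfsg.pCore p L :=
      QuotientGroup.map _ _ N.subtype (fun x hx => mem_comap.mpr
        (H75.pCoreOf_le_of_subnormal (Normal.isSubnormal ‹_›) (mem_map_of_mem _ hx)))
    have hfinj : Function.Injective f := by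
      rw [← MonoidHom.ker_eq_bot_iff, eq_bot_iff]
      intro q hq
      obtain ⟨x, rfl⟩ := QuotientGroup.mk'_surjective _ q
      have hx : (x : L) ∈ Cfsg.pCore p L := (QuotientGroup.eq_one_iff _).mp hq
      rw [mem_bot, QuotientGroup.mk'_apply, QuotientGroup.eq_one_iff]
      obtain ⟨y, hy, hyx⟩ := H75.pCore_inf_le N ⟨hx, x.2⟩
      rwa [← N.subtype_injective hyx]
    have hfle : ∀ q, f q ∈ frattini (L ⧸ Cfsg.pCore p L) := by
      intro q
      obtain ⟨x, rfl⟩ := QuotientGroup.mk'_surjective _ q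
      rw [← hPhi]
      exact ⟨(x : L), hND x.2, rfl⟩
    have := frattini_nilpotent (G := L ⧸ Cfsg.pCore p L)
    let g := f.codRestrict _ hfle
    refine @Subgroup.isNilpotent_of_ker_le_center _ _ _ _ g (by
      intro q hq
      have : f q = 1 := congrArg Subtype.val (MonoidHom.mem_ker.mp hq)
      rw [← MonoidHom.mem_ker, (MonoidHom.ker_eq_bot_iff f).mpr hfinj, mem_bot] at this
      rw [this]
      exact one_mem _) this
  · rw [Nat.coprime_comm, (Fact.out : p.Prime).coprime_iff_not_dvd]
    obtain ⟨S⟩ := (inferInstance : Nonempty (Sylow p ↥N))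
    have hS : (S : Subgroup ↥N) = Cfsg.pCore p ↥N := by
      have := hNcl S
      exact le_antisymm (H1.le_pCore S.isPGroup') (H1.pCore_le_sylow S)
    rw [← index_eq_card, ← hS]
    exact S.not_dvd_index

end Cfsg.Agent.S2836
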