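import Cfsg.Statements.S2837
import Cfsg.Agent.H75.Irreducible
import Cfsg.Agent.H31.Basic
import Cfsg.Agent.H6.Basic
import Cfsg.Agent.H1.CoprimeAction

set_option autoImplicit false
open Cfsg
open Subgroup
open scoped commutatorElement

namespace Cfsg.Agent.S2837

theorem minimal_charP {L : Type*} [Group L] [Finite L] {p : ℕ} [Fact p.Prime]
    (L₀ : Subgroup L) (hL₀ : IsCoatom L₀) (Y : Subgroup L) (hYL₀ : Y ≤ L₀)
    (hYel : Cfsg.IsElementaryAbelian p Y) (hmin : Cfsg.IsMinimalOver Y)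
    (hOY : Cfsg.pCore p L ≤ Subgroup.normalizer (Y : Set L)) (A : Subgroup L)
    (hA : A = Subgroup.normalClosure (((Cfsg.pCore p L ⊓ Y : Subgroup L)) : Set L))
    (g : L) (hg : g ∉ L₀) :
    (frattini ↥A).map A.subtype = ⁅A, A⁆ ∧ ⁅A, A⁆ = ⁅A ⊓ Y, A⁆ ∧
      ⁅A ⊓ Y, A⁆ = ⁅A ⊓ Y, A ⊓ Y.map (MulAut.conj g).toMonoidHom⁆ ∧
      ⁅A ⊓ Y, A⁆ ≤ Y ⊓ Subgroup.center L ∧
      Y ⊓ Y.map (MulAut.conj g).toMonoidHom = Y ⊓ Subgroup.center L ∧
      (A ⊓ Y) ⊓ (A ⊓ Y.map (MulAut.conj g).toMonoidHom) = Y ⊓ Subgroup.center L ∧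
      A ⊓ Subgroup.center L = Y ⊓ Subgroup.center L := by
  set O := Cfsg.pCore p L
  have hOn : O.Normal := H1.pCore_normal' p L
  set E := Y.map (MulAut.conj g).toMonoidHom
  have hgen : Y ⊔ E = ⊤ := H75.min_generate hmin hL₀ hYL₀ hg
  set D := O ⊓ Y
  set D' := O ⊓ E
  have hgO : O.map (MulAut.conj g).toMonoidHom = O := Normal.map_conj_eq O g
  have hDD' : D.map (MulAut.conj g).toMonoidHom = D' := by
    rw [Subgroup.map_inf _ _ _ (MulAut.conj g).injective, hgO]
  have hYab : Y ≤ centralizer (Y : Set L) := le_centralizer_iff_isMulCommutative.mpr hYel.1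
  have hEab : E ≤ centralizer (E : Set L) := by
    have := hYel.1
    exact le_centralizer_iff_isMulCommutative.mpr (Subgroup.map_isMulCommutative Y _)
  have hOE : O ≤ normalizer (E : Set L) :=
    hgO.ge.trans ((Subgroup.map_mono hOY).trans (le_normalizer_map _))
  have hON : ∀ X : Subgroup L, X ≤ normalizer (O : Set L) := fun X =>
    le_top.trans (normalizer_eq_top_iff.mpr hOn).ge
  -- the centre
  have hcen : ∀ x, x ∈ centralizer (Y : Set L) → x ∈ centralizer (E : Set L) → x ∈ center L := by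
    intro x h1 h2
    have h : (⊤ : Subgroup L) ≤ centralizer ({x} : Set L) := by
      rw [← hgen]
      refine sup_le ?_ ?_ <;> intro a ha <;> rw [mem_centralizer_iff] <;> intro z hz <;>
        rw [Set.mem_singleton_iff.mp hz]
      · exact ((mem_centralizer_iff.mp h1) a ha).symm
      · exact ((mem_centralizer_iff.mp h2) a ha).symm
    rw [mem_center_iff]
    intro a
    exact ((mem_centralizer_iff.mp (h (mem_top a))) x rfl).symm
  have hfix : ∀ y ∈ Y ⊓ center L, y ∈ E := fun y hy => by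
    obtain ⟨hyY, hyZ⟩ := mem_inf.mp hy
    refine ⟨y, hyY, ?_⟩
    show g * y * g⁻¹ = y
    rw [mem_center_iff.mp hyZ g, mul_inv_cancel_right]
  have hYE : Y ⊓ E = Y ⊓ center L := le_antisymm
    (fun x hx => mem_inf.mpr ⟨(mem_inf.mp hx).1, hcen x (hYab (mem_inf.mp hx).1) (hEab (mem_inf.mp hx).2)⟩)
    (fun x hx => mem_inf.mpr ⟨(mem_inf.mp hx).1, hfix x hx⟩)
  have hYZO : Y ⊓ center L ≤ O := by
    have hn : (Y ⊓ center L).Normal := ⟨fun x hx a => by
      rw [mem_center_iff.mp (mem_inf.mp hx).2 a, mul_inv_cancel_right]; exact hx⟩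
    exact H1.le_pCore fun x => ⟨1, Subtype.ext (by simpa using hYel.2 x (mem_inf.mp x.2).1)⟩
  -- `A = D ⊔ D'`
  have hYB : Y ≤ normalizer ((D ⊔ D' : Subgroup L) : Set L) := by
    refine le_normalizer_iff_commutator_le_left.mpr ?_
    rw [commutator_le]
    intro b hb y hy
    have hbY : b ∈ O := (sup_le inf_le_left inf_le_left : D ⊔ D' ≤ O) hb
    refine mem_sup_left (mem_inf.mpr ⟨?_, ?_⟩)
    · exact H1.commutator_le_left_of_le_normalizer (hON Y) (commutator_mem_commutator hbY hy)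
    · rw [commutatorElement_def]
      exact mul_mem ((mem_normalizer_iff.mp (hOY hbY) y).mp hy) (inv_mem hy)
  have hEB : E ≤ normalizer ((D ⊔ D' : Subgroup L) : Set L) := by
    refine le_normalizer_iff_commutator_le_left.mpr ?_
    rw [commutator_le]
    intro b hb y hy
    have hbY : b ∈ O := (sup_le inf_le_left inf_le_left : D ⊔ D' ≤ O) hb
    refine mem_sup_right (mem_inf.mpr ⟨?_, ?_⟩)
    · exact H1.commutator_le_left_of_le_normalizer (hON E) (commutator_mem_commutator hbY hy)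
    · rw [commutatorElement_def]
      exact mul_mem ((mem_normalizer_iff.mp (hOE hbY) y).mp hy) (inv_mem hy)
  have hBn : (D ⊔ D').Normal := H75.normal_of_top_le (hgen.ge.trans (sup_le hYB hEB))
  have hAn : A.Normal := hA ▸ normalClosure_normal
  have hDA : D ≤ A := hA ▸ le_normalClosure
  have hD'A : D' ≤ A := by
    rw [← hDD']
    exact (Subgroup.map_mono hDA).trans (Normal.map_conj_eq A g).le
  have hAB : A = D ⊔ D' := le_antisymm (by rw [hA]; exact normalClosure_le_normal (SetLike.coe_subset_coe.mpr le_sup_left))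
    (sup_le hDA hD'A)
  have hAO : A ≤ O := hAB.le.trans (sup_le inf_le_left inf_le_left)
  have hAY : A ⊓ Y = D := le_antisymm (inf_le_inf_right _ hAO) (le_inf hDA inf_le_right)
  have hAE : A ⊓ E = D' := le_antisymm (inf_le_inf_right _ hAO) (le_inf hD'A inf_le_right)
  set K := ⁅D, D'⁆
  have hKZ : K ≤ Y ⊓ center L := by
    rw [← hYE]
    exact le_inf
      ((H1.commutator_le_left_of_le_normalizer (inf_le_left.trans ((le_inf (hON O) hOY).trans
        (H75.normalizer_inf_le_normalizer_inf _ _)))).trans inf_le_right)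
      ((le_normalizer_iff_commutator_le_right.mp (inf_le_left.trans ((le_inf (hON O) hOE).trans
        (H75.normalizer_inf_le_normalizer_inf _ _)))).trans inf_le_right)
  have hKn : K.Normal := ⟨fun x hx a => by
    rw [mem_center_iff.mp (mem_inf.mp (hKZ hx)).2 a, mul_inv_cancel_right]; exact hx⟩
  -- commutators in `A`
  have hDc : D ≤ centralizer (D : Set L) :=
    inf_le_right.trans (hYab.trans (centralizer_le inf_le_right))
  have hD'c : D' ≤ centralizer (D' : Set L) :=
    inf_le_right.trans (hEab.trans (centralizer_le inf_le_right))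
  set q := QuotientGroup.mk' K
  have hq : A.map q ≤ centralizer ((A.map q : Subgroup (L ⧸ K)) : Set (L ⧸ K)) := by
    have hcr : D'.map q ≤ centralizer ((D.map q : Subgroup (L ⧸ K)) : Set (L ⧸ K)) := by
      rw [← commutator_eq_bot_iff_le_centralizer, commutator_comm, ← Subgroup.map_commutator,
        Subgroup.map_eq_bot_iff, QuotientGroup.ker_mk']
    have hab : ∀ X : Subgroup L, X ≤ centralizer (X : Set L) →
        X.map q ≤ centralizer ((X.map q : Subgroup (L ⧸ K)) : Set (L ⧸ K)) := fun X hX => by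
      rw [← commutator_eq_bot_iff_le_centralizer, ← Subgroup.map_commutator,
        commutator_eq_bot_iff_le_centralizer.mpr hX, Subgroup.map_bot]
    rw [hAB, Subgroup.map_sup]
    exact sup_le (le_centralizer_iff.mpr (sup_le (hab D hDc) hcr))
      (le_centralizer_iff.mpr (sup_le (le_centralizer_iff.mp hcr) (hab D' hD'c)))
  have hAA : ⁅A, A⁆ = K := by
    refine le_antisymm ?_ (commutator_mono hDA hD'A)
    rw [← QuotientGroup.ker_mk' K, ← Subgroup.map_eq_bot_iff, Subgroup.map_commutator]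
    exact commutator_eq_bot_iff_le_centralizer.mpr hq
  have hDAK : ⁅D, A⁆ = K :=
    le_antisymm ((commutator_mono hDA le_rfl).trans hAA.le) (commutator_mono le_rfl hD'A)
  have hAp : IsPGroup p A := (H1.isPGroup_pCore p L).to_le hAO
  have hpow : ∀ a ∈ A, a ^ p ∈ K := by
    intro a ha
    have hcomm : ∀ x ∈ A, ∀ y ∈ A, Commute (q x) (q y) := fun x hx y hy =>
      (mem_centralizer_iff.mp (hq (mem_map_of_mem q hy))) _ (mem_map_of_mem q hx)
    have hEp : ∀ x ∈ E, x ^ p = 1 := by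
      rintro _ ⟨y, hy, rfl⟩
      rw [← map_pow, hYel.2 y hy, map_one]
    rw [← QuotientGroup.eq_one_iff]
    show q (a ^ p) = 1
    have hD'n : D' ≤ normalizer (D : Set L) :=
      inf_le_left.trans ((le_inf (hON O) hOY).trans (H75.normalizer_inf_le_normalizer_inf _ _))
    rw [hAB, ← SetLike.mem_coe, coe_mul_of_right_le_normalizer_left _ _ hD'n] at ha
    obtain ⟨d, hd, e, he, rfl⟩ := ha
    show q ((d * e) ^ p) = 1
    rw [map_pow, map_mul, (hcomm d (hDA hd) e (hD'A he)).mul_pow, ← map_pow, ← map_pow,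
      hYel.2 d (mem_inf.mp hd).2, hEp e (mem_inf.mp he).2, map_one, one_mul]
  have hfr : (frattini ↥A).map A.subtype = ⁅A, A⁆ := by
    refine le_antisymm ?_ ?_
    · rw [hAA, map_le_iff_le_comap]
      refine H31.frattini_le_of_pow_mem (p := p) Fact.out _ ?_ fun x => ?_
      · rw [← map_le_iff_le_comap, map_subtype_commutator, hAA]
      · exact hpow _ x.2
    · rw [← map_subtype_commutator]
      exact Subgroup.map_mono (H6.commutator_le_frattini hAp)
  refine ⟨hfr, by rw [hAY, hAA, hDAK], by rw [hAY, hAE, hDAK], by rw [hAY, hDAK]; exact hKZ, hYE,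
    ?_, ?_⟩
  · rw [hAY, hAE]
    refine le_antisymm ((inf_le_inf inf_le_right inf_le_right).trans hYE.le) ?_
    exact le_inf (le_inf hYZO inf_le_left) (le_inf hYZO fun x hx => hfix x hx)
  · refine le_antisymm (fun a ha => ?_)
      (le_inf ((le_inf hYZO inf_le_left : Y ⊓ center L ≤ D).trans hDA) inf_le_right)
    obtain ⟨haA, haZ⟩ := mem_inf.mp ha
    have hD'n : D' ≤ normalizer (D : Set L) :=
      inf_le_left.trans ((le_inf (hON O) hOY).trans (H75.normalizer_inf_le_normalizer_inf _ _))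
    rw [hAB, ← SetLike.mem_coe, coe_mul_of_right_le_normalizer_left _ _ hD'n] at haA
    obtain ⟨d, hd, e, he, rfl⟩ := haA
    have heY : e ∈ centralizer (Y : Set L) := by
      have h1 : d * e ∈ centralizer (Y : Set L) := mem_centralizer_iff.mpr fun y _ =>
        mem_center_iff.mp haZ y
      simpa using mul_mem (inv_mem (hYab (mem_inf.mp hd).2)) h1
    have heZ : e ∈ center L := hcen e heY (hEab (mem_inf.mp he).2)
    obtain ⟨y, hy, hye⟩ := (mem_inf.mp he).2
    have hye' : g * y * g⁻¹ = e := hye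
    have heY' : e ∈ Y := by
      have hye'' : y = e := by
        calc y = g⁻¹ * (g * y * g⁻¹) * g := by group
          _ = g⁻¹ * (e * g) := by rw [hye']; group
          _ = g⁻¹ * (g * e) := by rw [mem_center_iff.mp heZ g]
          _ = e := by group
      rw [← hye'']; exact hy
    exact mem_inf.mpr ⟨mul_mem (mem_inf.mp hd).2 heY', haZ⟩

/-- Let L be a finite group of characteristic p, L₀ a maximal subgroup, Y an elementary abelian p-subgroup of L₀ with L Y-minimal and O_p(L) ≤ N_L(Y). Put A = the normal closure of O_p(L) ∩ Y in L. Then for every g ∈ L outside L₀: Φ(A) = A' = [A ∩ Y, A] = [A ∩ Y, A ∩ gYg⁻¹] ≤ C_Y(L), and Y ∩ gYg⁻¹ = (A ∩ Y) ∩ (A ∩ gYg⁻¹) = C_Y(L) = C_A(L). -/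
theorem result {L : Type*} [Group L] [Finite L] {p : ℕ} [Fact p.Prime] (hchar : Subgroup.centralizer (Cfsg.pCore p L : Set L) ≤ Cfsg.pCore p L) (L₀ : Subgroup L) (hL₀ : IsCoatom L₀) (Y : Subgroup L) (hYL₀ : Y ≤ L₀) (hYel : Cfsg.IsElementaryAbelian p Y) (hmin : Cfsg.IsMinimalOver Y) (hOY : Cfsg.pCore p L ≤ Subgroup.normalizer (Y : Set L)) (A : Subgroup L) (hA : A = Subgroup.normalClosure (((Cfsg.pCore p L ⊓ Y : Subgroup L)) : Set L)) (g : L) (hg : g ∉ L₀) : (frattini ↥A).map A.subtype = ⁅A, A⁆ ∧ ⁅A, A⁆ = ⁅A ⊓ Y, A⁆ ∧ ⁅A ⊓ Y, A⁆ = ⁅A ⊓ Y, A ⊓ Y.map (MulAut.conj g).toMonoidHom⁆ ∧ ⁅A ⊓ Y, A⁆ ≤ Y ⊓ Subgroup.center L ∧ Y ⊓ Y.map (MulAut.conj g).toMonoidHom = Y ⊓ Subgroup.center L ∧ (A ⊓ Y) ⊓ (A ⊓ Y.map (MulAut.conj g).toMonoidHom) = Y ⊓ Subgroup.center L ∧ A ⊓ Subgroup.center L = Y ⊓ Subgroup.center L := by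
  exact minimal_charP L₀ hL₀ Y hYL₀ hYel hmin hOY A hA g hg

end Cfsg.Agent.S2837
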