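import Cfsg.Statements.S2846
import Cfsg.Agent.H75.FrakMExists
import Cfsg.Agent.H75.Large

set_option autoImplicit false
open Cfsg
open Subgroup
open scoped commutatorElement

namespace Cfsg.Agent.S2846

/-- Let Q be a nontrivial large p-subgroup of the finite group H, S a Sylow p-subgroup containing Q, and L a subgroup containing S with O_p(L) ≠ 1 and C_H(O_p(L)) ≤ O_p(L). Then there are a subgroup M containing S having the basic property (M ∈ 𝔐_H, writing Y_X for the largest p-reduced normal subgroup of X and 𝓛_H for the set of subgroups X with O_p(X) ≠ 1 and C_H(O_p(X)) ≤ O_p(X): M ∈ 𝓛_H, M·C_H(Y_M) is the only maximal member of 𝓛_H containing M and its largest p-reduced normal subgroup is again Y_M, C_M(Y_M) is p-closed, and the image of C_M(Y_M) in M/O_p(M) lies in the Frattini subgroup of M/O_p(M)) and a subgroup L* with S ≤ L* ≤ M, O_p(L*) ≠ 1, C_H(O_p(L*)) ≤ O_p(L*), such that L·C_H(Y_L) = L*·C_H(Y_L), the weak closures of Q in L and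 in L* agree and lie in that of M, and Y_L = Y_{L*} ≤ Y_M. If moreover Q is not normal in L, then Q is normal in neither L* nor M. -/
theorem result {H : Type*} [Group H] [Finite H] {p : ℕ} [Fact p.Prime] (Q : Subgroup H) (hQp : IsPGroup p ↥Q) (hQ1 : Q ≠ ⊥) (hLg : Cfsg.IsLarge Q) (S : Sylow p H) (hQS : Q ≤ (S : Subgroup H)) (L : Subgroup H) (hSL : (S : Subgroup H) ≤ L) (hL : L ∈ Cfsg.charPSubgroups p H) : ∃ M Ls : Subgroup H, (S : Subgroup H) ≤ M ∧ Cfsg.IsInFrakM p M ∧ (S : Subgroup H) ≤ Ls ∧ Ls ≤ M ∧ Ls ∈ Cfsg.charPSubgroups p H ∧ L ⊔ Subgroup.centralizer (((Cfsg.largestPReducedOf p L) : Subgroup H) : Set H) = Ls ⊔ Subgroup.centralizer (((Cfsg.largestPReducedOf p L) : Subgroup H) : Set H) ∧ Cfsg.weakClosure Q L = Cfsg.weakClosure Q Ls ∧ Cfsg.weakClosure Q Ls ≤ Cfsg.weakClosure Q M ∧ (Cfsg.largestPReducedOf p L) = (Cfsg.largestPReducedOf p Ls) ∧ (Cfsg.largestPReducedOf p Ls) ≤ (Cfsg.largestPReducedOf p M) ∧ (¬ L ≤ Subgroup.normalizer ((Q : Subgroup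 H) : Set H) → ¬ Ls ≤ Subgroup.normalizer ((Q : Subgroup H) : Set H) ∧ ¬ M ≤ Subgroup.normalizer ((Q : Subgroup H) : Set H)) := by
  obtain ⟨M, Ls, h1, h2, h3, h4, h5, h6, h7, h8⟩ :=
    H75.exists_frakM (H75.large_parabolicChar hQp hQ1 hLg) S hSL hL
  set Y := Cfsg.largestPReducedOf p L
  have hY := H75.redIn_largest (p := p) L
  obtain ⟨hne, hc⟩ := H75.mem_charPSubgroups_iff.mp hL
  have hYp : IsPGroup p Y := H75.elemAb_isPGroup hY.elem
  have hY1 : Y ≠ ⊥ := H75.largest_ne_bot S hSL hne hc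
  have hLsY : Ls ≤ normalizer (Y : Set H) :=
    (show Ls ≤ Ls ⊔ centralizer (Y : Set H) from le_sup_left).trans
      (h8.ge.trans (sup_le hY.norm (centralizer_le_normalizer _)))
  have e1 := (H75.large_weakClosure_sup hQp hQ1 hLg (hQS.trans hSL) hYp hY1 hY.norm).1
  have e2 := (H75.large_weakClosure_sup hQp hQ1 hLg (hQS.trans h3) hYp hY1 hLsY).1
  have e : Cfsg.weakClosure Q L = Cfsg.weakClosure Q Ls := by rw [e1, e2, h8]
  refine ⟨M, Ls, h1, h2, h3, h4, h5, h8, e, H75.weakClosure_mono h4, h6, h6 ▸ h7, fun hn => ?_⟩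
  have hLs : ¬ Ls ≤ normalizer (Q : Set H) := by
    intro hle
    have e3 : Cfsg.weakClosure Q Ls = Q := by
      refine le_antisymm ?_ (H75.le_weakClosure (hQS.trans h3))
      rw [H75.weakClosure_eq_conj hQp (H75.large_wc hQp hQ1 hLg) (hQS.trans h3)]
      exact iSup_le fun k => (H70.cj_eq_self_iff.mpr (hle k.2)).le
    refine hn ?_
    rw [← e3, ← e]
    exact le_normalizer.trans (H75.normalizer_le_normalizer_weakClosure Q L)
  exact ⟨hLs, fun hle => hLs (h4.trans hle)⟩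

end Cfsg.Agent.S2846
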