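import Cfsg.Statements.S2853
import Cfsg.Agent.H76.FrakH

set_option autoImplicit false
open Cfsg

namespace Cfsg.Agent.S2853

/-- Standing hypotheses: G a finite group, S a Sylow p-subgroup, Q a nontrivial large p-subgroup of G contained in S, M a subgroup containing S with the basic property (M ∈ 𝔐_G(S)); Y_M the largest p-reduced normal subgroup of M and M† = M·C_G(Y_M). Suppose Y_M is char-p-tall and asymmetric in G and H ∈ ℌ_G(O_p(M)). Then every Sylow p-subgroup of H ∩ M† is a Sylow p-subgroup of H; O_p(H) normalizes O_p(M) and Y_M; O^p(H) = [O^p(H), Y_M] and H = O^p(H)·O_p(M); O^p(H)·Y_M is the normal closure of Y_M in H; and H is the normal closure of O_p(M) in H. Here O^p(H) is the subgroup generated by the elements of H of order prime to p. -/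
theorem result {G : Type*} [Group G] [Finite G] {p : ℕ} [Fact p.Prime] (S : Sylow p G) (Q : Subgroup G) (hQp : IsPGroup p ↥Q) (hQ1 : Q ≠ ⊥) (hQS : Q ≤ (S : Subgroup G)) (hQ : Cfsg.IsLarge Q) (M : Subgroup G) (hSM : (S : Subgroup G) ≤ M) (hM : Cfsg.IsInFrakM p M) (htall : Cfsg.IsCharPTall p (Cfsg.largestPReducedOf p M)) (hasym : ¬ Cfsg.IsSymmetricIn (Cfsg.largestPReducedOf p M)) (H : Subgroup G) (hH : Cfsg.IsInFrakH p M H) (R : Subgroup G) (hR : R = (Cfsg.pResidual p ↥H).map H.subtype) : (∀ T : Sylow p ↥(H ⊓ (M ⊔ Subgroup.centralizer (((Cfsg.largestPReducedOf p M) : Subgroup G) : Set G))), ∃ P : Sylow p ↥H, ((P : Subgroup ↥H).map H.subtype) = (T : Subgroup ↥(H ⊓ (M ⊔ Subgroup.centralizer (((Cfsg.largestPReducedOf p M) : Subgroup G) : Set G)))).map (H ⊓ (M ⊔ Subgroup.centralizer (((Cfsg.largestPReducedOf p M) : Subgroup G) : Set G))).subtype) ∧ Cfsg.pCoreOf p H ≤ Subgroup.normalizer (((Cfsg.pCoreOf p M) : Subgroup G) : Set G) ⊓ Subgroup.normalizer (((Cfsg.largestPReducedOf p M) : Subgroup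 G) : Set G) ∧ ⁅R, (Cfsg.largestPReducedOf p M)⁆ = R ∧ R ⊔ (Cfsg.pCoreOf p M) = H ∧ R ⊔ (Cfsg.largestPReducedOf p M) = (Subgroup.normalClosure ((((Cfsg.largestPReducedOf p M)).subgroupOf H : Subgroup ↥H) : Set ↥H)).map H.subtype ∧ (Subgroup.normalClosure ((((Cfsg.pCoreOf p M)).subgroupOf H : Subgroup ↥H) : Set ↥H)).map H.subtype = H := by
  classical
  have hG := H75.large_parabolicChar hQp hQ1 hQ
  obtain ⟨hN, hwc⟩ := H75.frak_asym_props hG hSM hM hasym
  obtain ⟨hcm, hPY⟩ := H76.frakH_props hG hSM hM hH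
  set Y := Cfsg.largestPReducedOf p M with hYdef
  set P := Cfsg.pCoreOf p M with hPdef
  have hPH : P ≤ H := hH.2.1
  have hYP : Y ≤ P := (H75.redIn_largest M).le_pCoreOf
  set D := M ⊔ Subgroup.centralizer ((Y : Subgroup G) : Set G) with hD
  have hDY : D ≤ Subgroup.normalizer (Y : Set G) := (H75.frakFacts hSM hM).dag_le
  have hPD : P ≤ D := (H75.pCoreOf_le M).trans le_sup_left
  have hND : Subgroup.normalizer (P : Set G) ≤ D := (hN P (H75.isPGroup_pCoreOf M) le_rfl).2
  -- a Sylow subgroup of `H` over `O_p(M)`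
  obtain ⟨T, hT⟩ := (IsPGroup.comap_subtype (K := H) (H75.isPGroup_pCoreOf (p := p) M)).exists_le_sylow
  have hPT : P ≤ (T : Subgroup H).map H.subtype := fun y hy => ⟨⟨y, hPH hy⟩, hT hy, rfl⟩
  have hTD : (T : Subgroup H).map H.subtype ≤ D :=
    (H76.core_normalizes hG hSM hM hasym (T.isPGroup'.map _) hPT).trans hND
  have hirr := hcm.isPIrreducible
  have hres : (Cfsg.pResidual p ↥H) ⊔ P.subgroupOf H = ⊤ := hcm.residual_sup_eq_top
  have hcomm : ⁅Cfsg.pResidual p ↥H, Y.subgroupOf H⁆ = Cfsg.pResidual p ↥H := by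
    refine H75.pirr_res_commutator_eq hirr T ?_ ?_ hcm.not_le
    · intro y hy
      exact hT (hYP hy)
    · intro t ht
      have h1 : (t : G) ∈ Subgroup.normalizer (Y : Set G) := hDY (hTD (Subgroup.mem_map_of_mem _ ht))
      rw [Subgroup.mem_normalizer_iff] at h1 ⊢
      intro n
      exact h1 (n : G)
  have hRY : ⁅R, Y⁆ = R := by
    have h := congrArg (Subgroup.map H.subtype) hcomm
    rw [Subgroup.map_commutator, Subgroup.map_subgroupOf_eq_of_le (hYP.trans hPH), ← hR] at h
    exact h
  refine ⟨fun T' => ?_, ?_, hRY, ?_, ?_, ?_⟩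
  · obtain ⟨P', hP'⟩ := (T'.isPGroup'.map (H ⊓ D).subtype |>.comap_subtype (K := H)).exists_le_sylow
    refine ⟨P', (Subgroup.eq_of_le_of_card_ge (fun x hx => ?_) ?_).symm⟩
    · exact ⟨⟨x, (Subgroup.map_subtype_le _ hx).1⟩, hP' hx, rfl⟩
    · have h1 : Nat.card ((P' : Subgroup H).map H.subtype) = Nat.card ((T : Subgroup H).map H.subtype) := by
        rw [Subgroup.card_map_of_injective H.subtype_injective,
          Subgroup.card_map_of_injective H.subtype_injective]
        exact Sylow.card_eq_multiplicity P' |>.trans (Sylow.card_eq_multiplicity T).symm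
      rw [h1, Subgroup.card_map_of_injective (H ⊓ D).subtype_injective]
      obtain ⟨T'', hT''⟩ := ((T.isPGroup'.map H.subtype).comap_subtype (K := H ⊓ D)).exists_le_sylow
      refine le_trans ?_ (le_of_eq ((Sylow.card_eq_multiplicity T'').trans
        (Sylow.card_eq_multiplicity T').symm))
      refine le_trans (le_of_eq ?_) (Subgroup.card_le_of_le hT'')
      exact (Nat.card_congr (Subgroup.subgroupOfEquivOfLe
        (le_inf (Subgroup.map_subtype_le _) hTD)).toEquiv).symm
  · have h1 := H76.pCoreOf_le_normalizer_core hG hSM hM hasym hPH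
    exact le_inf h1 (h1.trans hPY)
  · have h := congrArg (Subgroup.map H.subtype) hres
    rw [Subgroup.map_sup, Subgroup.map_subgroupOf_eq_of_le hPH, ← hR, ← MonoidHom.range_eq_map,
      Subgroup.range_subtype] at h
    exact h
  · set N := Subgroup.normalClosure ((Y.subgroupOf H : Subgroup ↥H) : Set ↥H)
    have hEn := H75.pResidual_normal p ↥H
    have hEY : ((Cfsg.pResidual p ↥H) ⊔ Y.subgroupOf H).Normal := by
      refine H75.normal_of_top_le ?_
      rw [← H75.pResidual_sup_sylow (p := p) T]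
      refine sup_le (le_trans le_sup_left Subgroup.le_normalizer) ?_
      refine le_trans (le_inf (le_top.trans (Subgroup.normalizer_eq_top_iff.mpr hEn).ge) ?_)
        (H75.normalizer_inf_le_normalizer_sup _ _)
      intro t ht
      have h1 : (t : G) ∈ Subgroup.normalizer (Y : Set G) := hDY (hTD (Subgroup.mem_map_of_mem _ ht))
      rw [Subgroup.mem_normalizer_iff] at h1 ⊢
      intro n
      exact h1 (n : G)
    have hN' : N = Cfsg.pResidual p ↥H ⊔ Y.subgroupOf H := by
      refine le_antisymm (Subgroup.normalClosure_le_normal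
        (SetLike.coe_subset_coe.mpr le_sup_right)) (sup_le ?_ Subgroup.le_normalClosure)
      rw [← hcomm]
      exact (Subgroup.commutator_mono le_rfl Subgroup.le_normalClosure).trans
        (Subgroup.commutator_le_right _ _)
    rw [hN', Subgroup.map_sup, Subgroup.map_subgroupOf_eq_of_le (hYP.trans hPH), hR]
  · rw [hcm.normalClosure_eq_top, ← MonoidHom.range_eq_map, Subgroup.range_subtype]

end Cfsg.Agent.S2853
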