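import Cfsg.Statements.S2854
import Cfsg.Agent.H76.FrakH

set_option autoImplicit false
open Cfsg

namespace Cfsg.Agent.S2854

/-- Standing hypotheses: G a finite group, S a Sylow p-subgroup, Q a nontrivial large p-subgroup of G contained in S, M a subgroup containing S with the basic property (M ∈ 𝔐_G(S)); Y_M the largest p-reduced normal subgroup of M and M† = M·C_G(Y_M). Suppose Y_M is asymmetric in G, H ∈ ℌ_G(O_p(M)), and H ≤ N_G(gQg⁻¹) for some g ∈ G. Then gQg⁻¹ ≤ O_p(H·gQg⁻¹) ≤ N_G(O_p(M)) ≤ N_G(Y_M) = M†; H is normal in H·gQg⁻¹ with O^p(H) = O^p(H·gQg⁻¹); and H·gQg⁻¹ is p-irreducible. -/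
theorem result {G : Type*} [Group G] [Finite G] {p : ℕ} [Fact p.Prime] (S : Sylow p G) (Q : Subgroup G) (hQp : IsPGroup p ↥Q) (hQ1 : Q ≠ ⊥) (hQS : Q ≤ (S : Subgroup G)) (hQ : Cfsg.IsLarge Q) (M : Subgroup G) (hSM : (S : Subgroup G) ≤ M) (hM : Cfsg.IsInFrakM p M) (hasym : ¬ Cfsg.IsSymmetricIn (Cfsg.largestPReducedOf p M)) (H : Subgroup G) (hH : Cfsg.IsInFrakH p M H) (g : G) (hHQ : H ≤ Subgroup.normalizer ((((Q : Subgroup G).map (MulAut.conj (g : G)).toMonoidHom) : Subgroup G) : Set G)) : ((Q : Subgroup G).map (MulAut.conj (g : G)).toMonoidHom) ≤ Cfsg.pCoreOf p (H ⊔ ((Q : Subgroup G).map (MulAut.conj (g : G)).toMonoidHom)) ∧ Cfsg.pCoreOf p (H ⊔ ((Q : Subgroup G).map (MulAut.conj (g : G)).toMonoidHom)) ≤ Subgroup.normalizer (((Cfsg.pCoreOf p M) : Subgroup G) : Set G) ∧ Subgroup.normalizer (((Cfsg.pCoreOf p M) : Subgroup G) : Set G) ≤ Subgroup.normalizer (((Cfsg.largestPReducedOf p M) : Subgroup G) : Set G) ∧ Subgroup.normalizer (((Cfsg.largestPReducedOf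 p M) : Subgroup G) : Set G) = (M ⊔ Subgroup.centralizer (((Cfsg.largestPReducedOf p M) : Subgroup G) : Set G)) ∧ (H.subgroupOf (H ⊔ ((Q : Subgroup G).map (MulAut.conj (g : G)).toMonoidHom))).Normal ∧ (Cfsg.pResidual p ↥H).map H.subtype = (Cfsg.pResidual p ↥(H ⊔ ((Q : Subgroup G).map (MulAut.conj (g : G)).toMonoidHom))).map (H ⊔ ((Q : Subgroup G).map (MulAut.conj (g : G)).toMonoidHom)).subtype ∧ Cfsg.IsPIrreducible p ↥(H ⊔ ((Q : Subgroup G).map (MulAut.conj (g : G)).toMonoidHom)) := by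
  classical
  have hG := H75.large_parabolicChar hQp hQ1 hQ
  obtain ⟨hcm, hPY⟩ := H76.frakH_props hG hSM hM hH
  obtain ⟨-, hPH, hYO, hmin⟩ := hH
  set Y := Cfsg.largestPReducedOf p M with hYdef
  set P := Cfsg.pCoreOf p M with hPdef
  set Q' := (Q : Subgroup G).map (MulAut.conj (g : G)).toMonoidHom with hQ'
  set U := H ⊔ Q' with hU
  have hQ'p : IsPGroup p ↥Q' := hQp.map _
  have hQ'O : Q' ≤ Cfsg.pCoreOf p U :=
    H75.le_pCoreOf le_sup_right (sup_le hHQ Subgroup.le_normalizer) hQ'p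
  have hUP := H76.pCoreOf_le_normalizer_core hG hSM hM hasym (U := U) (hPH.trans le_sup_left)
  have hQP : Q' ≤ Subgroup.normalizer (P : Set G) := hQ'O.trans hUP
  -- `Q'` normalises `H`, the normal closure of `O_p(M)` in it
  have hQH : Q' ≤ Subgroup.normalizer (H : Set G) := by
    have hgen : (Subgroup.normalClosure ((P.subgroupOf H : Subgroup ↥H) : Set ↥H)).map H.subtype = H := by
      rw [hcm.normalClosure_eq_top, ← MonoidHom.range_eq_map, Subgroup.range_subtype]
    rw [H75.normalClosure_subgroupOf_map hPH] at hgen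
    intro q hq
    rw [← H70.cj_eq_self_iff]
    conv_lhs => rw [← hgen]
    conv_rhs => rw [← hgen]
    rw [H70.cj, Subgroup.map_iSup]
    refine iSup_congr fun h => ?_
    show H70.cj q (H70.cj (h : G) P) = H70.cj (h : G) P
    have hq' : (h : G)⁻¹ * q * (h : G) ∈ Q' := H75.conj'_mem_of_mem_normalizer (hHQ h.2) hq
    rw [H70.cj_cj, show q * (h : G) = (h : G) * ((h : G)⁻¹ * q * (h : G)) by group, ← H70.cj_cj,
      H70.cj_eq_self_iff.mpr (hQP hq')]
  have hUH : U ≤ Subgroup.normalizer (H : Set G) := sup_le Subgroup.le_normalizer hQH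
  have hUn : (H.subgroupOf U).Normal := Subgroup.normal_subgroupOf_of_le_normalizer hUH
  have hres : (Cfsg.pResidual p ↥H).map H.subtype = (Cfsg.pResidual p ↥U).map U.subtype := by
    rw [H75.map_pResidual_eq_resOf, H75.map_pResidual_eq_resOf]
    refine le_antisymm (H75.resOf_mono le_sup_left) ?_
    rw [← H75.resOf_resOf U]
    exact H75.resOf_mono (H75.resOf_le_of_sup hUH hQ'p rfl)
  refine ⟨hQ'O, hUP, hPY, H76.frak_normalizer_largest_eq hG hSM hM, hUn, hres, ?_⟩
  refine (H76.coreMinimal_subgroupOf (P := P ⊔ Q') (Y := Y)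
    ((H75.isPGroup_pCoreOf M).to_sup_of_normal_left' hQ'p hQP)
    ((H75.redIn_largest M).le_pCoreOf.trans le_sup_left)
    (sup_le (hPH.trans le_sup_left) le_sup_right) ?_ ?_).isPIrreducible
  · intro h
    exact hYO ((le_inf h ((H75.redIn_largest M).le_pCoreOf.trans hPH)).trans
      (H75.pCoreOf_inf_le le_sup_left))
  · intro X hX hXU
    have hlt : X ⊓ H < H := lt_of_le_of_ne inf_le_right fun e =>
      hXU.not_ge (sup_le (inf_eq_right.mp e) (le_sup_right.trans hX))
    refine (hmin _ (le_inf (le_sup_left.trans hX) hPH) hlt).trans ?_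
    have hn : X ≤ Subgroup.normalizer ((X ⊓ H : Subgroup G) : Set G) :=
      (le_inf Subgroup.le_normalizer (hXU.le.trans hUH)).trans
        (H75.normalizer_inf_le_normalizer_inf _ _)
    exact H75.le_pCoreOf ((H75.pCoreOf_le _).trans inf_le_left)
      (hn.trans (H75.normalizer_le_normalizer_pCoreOf _)) (H75.isPGroup_pCoreOf _)

end Cfsg.Agent.S2854
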