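import Cfsg.Statements.S2855
import Cfsg.Agent.H76.MinimalFamily

set_option autoImplicit false
open Cfsg

namespace Cfsg.Agent.S2855

/-- Let H be a finite group, p a prime, and 𝒦 a nonempty set of subgroups of H permuted transitively by conjugation, with R the subgroup generated by the members of 𝒦. Suppose O^p(H) ≤ R, each E ∈ 𝒦 has E·O_p(H) normal in R·O_p(H), and each E ∈ 𝒦 is p-minimal (generated by the conjugates of a Sylow p-subgroup T_E of E, with T_E in exactly one maximal subgroup of E). Then H is p-minimal in the same sense. If instead each E ∈ 𝒦 is strongly p-irreducible, then H is p-irreducible and, for E, K ∈ 𝒦, either O^p(E·O_p(H)) = O^p(K·O_p(H)) or [E, K] ≤ O_p(H). -/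
theorem result {H : Type*} [Group H] [Finite H] {p : ℕ} [Fact p.Prime] (𝒦 : Set (Subgroup H)) (hne : 𝒦.Nonempty) (hinv : ∀ h : H, ∀ E ∈ 𝒦, E.map (MulAut.conj h).toMonoidHom ∈ 𝒦) (htr : ∀ E ∈ 𝒦, ∀ K ∈ 𝒦, ∃ h : H, K = E.map (MulAut.conj h).toMonoidHom) (hres : Cfsg.pResidual p H ≤ sSup 𝒦) (hnorm : ∀ E ∈ 𝒦, sSup 𝒦 ⊔ Cfsg.pCore p H ≤ Subgroup.normalizer ((E ⊔ Cfsg.pCore p H : Subgroup H) : Set H)) : ((∀ E ∈ 𝒦, ∀ T : Sylow p ↥E, Cfsg.IsMinimalOver (T : Subgroup ↥E)) → ∀ T : Sylow p H, Cfsg.IsMinimalOver (T : Subgroup H)) ∧ ((∀ E ∈ 𝒦, Cfsg.IsStronglyPIrreducible p ↥E) → Cfsg.IsPIrreducible p H ∧ ∀ E ∈ 𝒦, ∀ K ∈ 𝒦, (Cfsg.pResidual p ↥(E ⊔ Cfsg.pCore p H)).map (E ⊔ Cfsg.pCore p H).subtype = (Cfsg.pResidual p ↥(K ⊔ Cfsg.pCore p H)).map (K ⊔ Cfsg.pCore p H).subtype ∨ ⁅E, K⁆ ≤ Cfsg.pCore p H) := by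
  classical
  refine ⟨fun hmin T => H76.family_minimal hne hinv htr hres hnorm hmin T, fun hirr => ?_⟩
  set Q := Cfsg.pCore p H with hQ
  have hQn : Q.Normal := H1.pCore_normal' p H
  have hQp : IsPGroup p ↥Q := H1.isPGroup_pCore p H
  let π := QuotientGroup.mk' Q
  have hsurj : Function.Surjective π := QuotientGroup.mk'_surjective Q
  have hker : π.ker = Q := QuotientGroup.ker_mk' Q
  have hQbot : Q.map π = ⊥ := (Subgroup.map_eq_bot_iff _).mpr hker.ge
  have hmap : ∀ E : Subgroup H, (E ⊔ Q).map π = E.map π := fun E => by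
    rw [Subgroup.map_sup, hQbot, sup_bot_eq]
  have hcj : ∀ (h : H) (E : Subgroup H), H70.cj (π h) (E.map π) = (H70.cj h E).map π := fun h E => by
    rw [H70.cj, H70.cj, Subgroup.map_map, Subgroup.map_map]
    congr 1
  have hO : Cfsg.pCore p (H ⧸ Q) = ⊥ := by
    rw [H1.pCore_quotient p Q hQp]; exact hQbot
  have hfam : H76.FamilyHyp p ((fun E : Subgroup H => E.map π) '' 𝒦) := by
    refine ⟨hne.image _, ?_, ?_, ?_, ?_⟩
    · rintro g _ ⟨E, hE, rfl⟩
      obtain ⟨h, rfl⟩ := hsurj g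
      exact ⟨_, hinv h E hE, (hcj h E).symm⟩
    · rintro _ ⟨E, hE, rfl⟩ _ ⟨K, hK, rfl⟩
      obtain ⟨h, rfl⟩ := htr E hE K hK
      exact ⟨π h, (hcj h E).symm⟩
    · rw [← H75.map_pResidual_of_surjective π hsurj, sSup_image]
      refine (Subgroup.map_mono hres).trans ?_
      rw [Subgroup.map_le_iff_le_comap, sSup_le_iff]
      exact fun E hE => Subgroup.map_le_iff_le_comap.mp
        (le_iSup₂ (f := fun E (_ : E ∈ 𝒦) => E.map π) E hE)
    · rintro _ ⟨E, hE, rfl⟩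
      refine sSup_le ?_
      rintro _ ⟨K, hK, rfl⟩
      show K.map π ≤ Subgroup.normalizer ((E.map π : Subgroup _) : Set _)
      rw [← hmap E]
      exact (Subgroup.map_mono ((le_sSup hK).trans (le_sup_left.trans (hnorm E hE)))).trans
        (Subgroup.le_normalizer_map π)
  obtain ⟨hp, hd⟩ := H76.family_strongly hfam hO (by
    rintro _ ⟨E, hE, rfl⟩; exact H76.isStronglyPIrreducible_map_mk hQp (hirr E hE))
  refine ⟨(H75.isPIrreducible_quotient_iff hQp).mp hp, fun E hE K hK => ?_⟩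
  rw [H75.map_pResidual_eq_resOf, H75.map_pResidual_eq_resOf]
  rcases hd _ ⟨E, hE, rfl⟩ _ ⟨K, hK, rfl⟩ with h1 | h1
  · left
    have hle : H75.resOf p (E ⊔ Q) ≤ H75.resOf p (K ⊔ Q) := by
      rw [← H75.resOf_resOf (E ⊔ Q)]
      refine H75.resOf_mono ?_
      rw [H75.resOf, Subgroup.closure_le]
      rintro x ⟨hx, ho⟩
      have h2 : π x ∈ H75.resOf p (E.map π) := Subgroup.subset_closure
        ⟨hmap E ▸ Subgroup.mem_map_of_mem π hx,
          Nat.Coprime.coprime_dvd_left (orderOf_map_dvd π x) ho⟩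
      have h3 : x ∈ (K.map π).comap π := h1 h2
      rwa [Subgroup.comap_map_eq, hker] at h3
    refine Subgroup.eq_of_le_of_card_ge hle (le_of_eq ?_)
    obtain ⟨h, rfl⟩ := htr E hE K hK
    have h4 : H70.cj h (E ⊔ Q) = E.map (MulAut.conj h).toMonoidHom ⊔ Q := by
      rw [H70.cj, Subgroup.map_sup]
      congr 1
      exact H70.cj_eq_self_iff.mpr (by rw [Subgroup.normalizer_eq_top]; trivial)
    rw [← h4, ← H76.cj_resOf, H70.card_cj]
  · right
    have h2 : (⁅E, K⁆).map π = ⊥ := by rw [Subgroup.map_commutator]; exact h1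
    exact ((Subgroup.map_eq_bot_iff _).mp h2).trans hker.le

end Cfsg.Agent.S2855
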