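import Cfsg.Statements.S2859
import Cfsg.Agent.H75.WCFactor

set_option autoImplicit false
open Cfsg
open Subgroup
open scoped commutatorElement

namespace Cfsg.Agent.S2859

theorem side {G : Type*} [Group G] [Finite G] {p : ℕ} [Fact p.Prime] {Q Hc H₁ H₂ : Subgroup G}
    (hQp : IsPGroup p ↥Q) (hwc : Cfsg.IsWeaklyClosedSubgroup p Q) (hQc : Q ≤ Hc)
    (h₁ : H₁ ≤ Hc) (n₁ : Hc ≤ Subgroup.normalizer (H₁ : Set G))
    (n₂ : Hc ≤ Subgroup.normalizer (H₂ : Set G)) (h₂ : H₂ ≤ Hc) (hprod : H₁ ⊔ H₂ = Hc)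
    (hP : ⁅H₁, H₂⁆ ≤ Cfsg.pCoreOf p Hc) (K : Subgroup G)
    (hK : K = H75.resOf p (Cfsg.weakClosure Q (H₁ ⊔ Q))) :
    ⁅K, Q⁆ = K ∧ ⁅K, H₁⁆ = K ∧ K ≤ ⁅H₁, H₁⁆ ∧ Hc ≤ Subgroup.normalizer (K : Set G) ∧
      H₁ ≤ Subgroup.normalizer ((K ⊔ Q : Subgroup G) : Set G) := by
  set U := Cfsg.weakClosure Q (H₁ ⊔ Q) with hU
  have hQU : Q ≤ U := H75.le_weakClosure le_sup_right
  obtain ⟨hUe, hKQ⟩ := H75.resOf_sup_wc (p := p) hQp hwc hQU (H75.weakClosure_idem Q _)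
  rw [← hK] at hUe hKQ
  set P := Cfsg.pCoreOf p Hc with hPdef
  have hPp : IsPGroup p ↥P := H75.isPGroup_pCoreOf Hc
  have hPQ : P ≤ Subgroup.normalizer (Q : Set G) :=
    H75.wc_le_normalizer_of_normalized hQp hwc hPp (hQc.trans (H75.le_normalizer_pCoreOf Hc))
  have hKH : K ≤ H₁ := by
    rw [hK]
    refine (H75.resOf_mono (H75.weakClosure_le Q _)).trans ?_
    exact H75.resOf_le_of_sup (sup_le Subgroup.le_normalizer (hQc.trans n₁)) hQp rfl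
  have hUn : ∀ X : Subgroup G, X ≤ Subgroup.normalizer ((H₁ ⊔ Q : Subgroup G) : Set G) →
      X ≤ Subgroup.normalizer (K : Set G) := fun X hX => by
    rw [hK]
    exact hX.trans ((H75.normalizer_le_normalizer_weakClosure Q _).trans
      (H75.normalizer_le_normalizer_resOf _))
  have hH₁K : H₁ ≤ Subgroup.normalizer (K : Set G) :=
    hUn _ (le_sup_left.trans Subgroup.le_normalizer)
  have hPK : P ≤ Subgroup.normalizer (K : Set G) :=
    hUn _ ((le_inf ((H75.pCoreOf_le Hc).trans n₁) hPQ).trans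
      (H75.normalizer_inf_le_normalizer_sup _ _))
  have hKH₁ : ⁅K, H₁⁆ ≤ K := Subgroup.le_normalizer_iff_commutator_le_left.mp hH₁K
  have hKK : H75.resOf p K = K := by rw [hK]; exact H75.resOf_resOf _
  -- `K = [K, H₁]`
  have hKe : ⁅K, H₁⁆ = K := by
    refine le_antisymm hKH₁ ?_
    set X := ⁅K, H₁⁆
    have hXK : K ≤ Subgroup.normalizer (X : Set G) := Subgroup.normalizer_commutator_ge_left K H₁
    have hn : K ≤ Subgroup.normalizer ((X ⊔ (P ⊓ K) : Subgroup G) : Set G) :=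
      (le_inf hXK ((le_inf ((hKH.trans h₁).trans (H75.le_normalizer_pCoreOf Hc))
        Subgroup.le_normalizer).trans (H75.normalizer_inf_le_normalizer_inf _ _))).trans
        (H75.normalizer_inf_le_normalizer_sup _ _)
    have hle : K ≤ X ⊔ (P ⊓ K) := by
      conv_lhs => rw [← hKQ]
      rw [Subgroup.commutator_le]
      intro k hk q hq
      obtain ⟨a, ha, b, hb, rfl⟩ := H75.sup_eq_mul_of_le_normalizer (h₂.trans n₁)
        (hprod.ge (hQc hq) : q ∈ H₁ ⊔ H₂)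
      have hkb : ⁅k, b⁆ ∈ P := hP (Subgroup.commutator_mem_commutator (hKH hk) hb)
      have hka : ⁅k, a⁆ ∈ X := Subgroup.commutator_mem_commutator hk ha
      have hkab : ⁅k, a * b⁆ ∈ K := by
        have := Subgroup.commutator_mem_commutator (H₂ := Q) hk hq
        rwa [hKQ] at this
      rw [commutatorElement_mul_right_eq_mul_conj, mul_assoc, mul_assoc, ← mul_assoc a] at hkab ⊢
      have hconj : a * ⁅k, b⁆ * a⁻¹ ∈ P ⊓ K := by
        refine Subgroup.mem_inf.mpr ⟨H75.conj_mem_of_mem_normalizer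
          (H75.le_normalizer_pCoreOf Hc (h₁ ha)) hkb, ?_⟩
        have := mul_mem (inv_mem (hKH₁ hka)) hkab
        rwa [inv_mul_cancel_left] at this
      exact mul_mem (Subgroup.mem_sup_left hka) (Subgroup.mem_sup_right hconj)
    have heq : X ⊔ (P ⊓ K) = K := le_antisymm (sup_le hKH₁ inf_le_right) hle
    have := H75.resOf_le_of_sup (p := p) hXK (hPp.to_le inf_le_left) heq
    rwa [hKK] at this
  -- normality
  have hKn : Hc ≤ Subgroup.normalizer (K : Set G) := by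
    rw [← hprod]
    refine sup_le hH₁K ?_
    have hT : H₂ ≤ Subgroup.normalizer ((K ⊔ P : Subgroup G) : Set G) := by
      refine H75.le_normalizer_of_conj fun b hb z hz => ?_
      obtain ⟨k, hk, t, ht, rfl⟩ := H75.sup_eq_mul_of_le_normalizer hPK hz
      have hbk : ⁅k, b⁆⁻¹ ∈ P := inv_mem (hP (Subgroup.commutator_mem_commutator (hKH hk) hb))
      have e : b * (k * t) * b⁻¹ = ⁅k, b⁆⁻¹ * k * (b * t * b⁻¹) := by
        rw [commutatorElement_def]; group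
      rw [e]
      exact mul_mem (mul_mem (Subgroup.mem_sup_right hbk) (Subgroup.mem_sup_left hk))
        (Subgroup.mem_sup_right (H75.conj_mem_of_mem_normalizer
          (H75.le_normalizer_pCoreOf Hc (h₂ hb)) ht))
    have e : H75.resOf p (K ⊔ P) = K := le_antisymm
      (H75.resOf_le_of_sup (sup_le Subgroup.le_normalizer hPK) hPp rfl)
      (hKK.ge.trans (H75.resOf_mono le_sup_left))
    rw [← e]
    exact hT.trans (H75.normalizer_le_normalizer_resOf _)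
  refine ⟨hKQ, hKe, hKe.ge.trans (Subgroup.commutator_mono hKH le_rfl), hKn, ?_⟩
  rw [hUe]
  exact (le_sup_left.trans Subgroup.le_normalizer).trans
    (H75.normalizer_le_normalizer_weakClosure Q _)

/-- Let Q be a nontrivial p-subgroup of the finite group H that is a weakly closed subgroup, H° the weak closure of Q in H (generated by the conjugates of Q) and H_∘ = O^p(H°). Suppose H₁, H₂ are normal subgroups of H° with H° = H₁H₂ and [H₁, H₂] ≤ N_H(Q), and put Kᵢ = O^p of the weak closure of Q in HᵢQ. Then for i = 1, 2: Kᵢ = [Kᵢ, Q] = [Kᵢ, Hᵢ] ≤ Hᵢ′ and Kᵢ is normal in H°; H_∘ = K₁K₂; and [K₁, K₂] ≤ O_p(H°). -/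
theorem result {G : Type*} [Group G] [Finite G] {p : ℕ} [Fact p.Prime] (Q : Subgroup G) (hQp : IsPGroup p ↥Q) (hQ1 : Q ≠ ⊥) (hwc : Cfsg.IsWeaklyClosedSubgroup p Q) (Hc : Subgroup G) (hHc : Hc = Cfsg.weakClosure Q ⊤) (H₁ H₂ : Subgroup G) (hn₁ : H₁ ≤ Hc ∧ Hc ≤ Subgroup.normalizer ((H₁ : Subgroup G) : Set G)) (hn₂ : H₂ ≤ Hc ∧ Hc ≤ Subgroup.normalizer ((H₂ : Subgroup G) : Set G)) (hprod : H₁ ⊔ H₂ = Hc) (hcomm : ⁅H₁, H₂⁆ ≤ Subgroup.normalizer ((Q : Subgroup G) : Set G)) (K₁ K₂ : Subgroup G) (hK₁ : K₁ = ((Cfsg.pResidual p ↥(Cfsg.weakClosure Q (H₁ ⊔ Q))).map ((Cfsg.weakClosure Q (H₁ ⊔ Q))).subtype)) (hK₂ : K₂ = ((Cfsg.pResidual p ↥(Cfsg.weakClosure Q (H₂ ⊔ Q))).map ((Cfsg.weakClosure Q (H₂ ⊔ Q))).subtype)) : (⁅K₁, Q⁆ = K₁ ∧ ⁅K₁, H₁⁆ = K₁ ∧ K₁ ≤ ⁅H₁, H₁⁆ ∧ Hc ≤ Subgroup.normalizer ((K₁ : Subgroup G) : Set G)) ∧ (⁅K₂, Q⁆ = K₂ ∧ ⁅K₂, H₂⁆ = K₂ ∧ K₂ ≤ ⁅H₂, H₂⁆ ∧ Hc ≤ Subgroup.normalizer ((K₂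 : Subgroup G) : Set G)) ∧ K₁ ⊔ K₂ = ((Cfsg.pResidual p ↥Hc).map (Hc).subtype) ∧ ⁅K₁, K₂⁆ ≤ (Cfsg.pCoreOf p Hc) := by
  have hQc : Q ≤ Hc := hHc ▸ H75.le_weakClosure le_top
  have hHci : Cfsg.weakClosure Q Hc = Hc := by rw [hHc]; exact H75.weakClosure_idem Q ⊤
  obtain ⟨h₁, n₁⟩ := hn₁
  obtain ⟨h₂, n₂⟩ := hn₂
  have hP := H75.commutator_le_pCoreOf_of_factorization (p := p) hQp hwc hQc hHci h₁ n₁ h₂ n₂
    hprod hcomm
  rw [H75.map_pResidual_eq_resOf] at hK₁ hK₂ ⊢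
  obtain ⟨a1, a2, a3, a4, a5⟩ := side hQp hwc hQc h₁ n₁ n₂ h₂ hprod hP K₁ hK₁
  obtain ⟨b1, b2, b3, b4, b5⟩ := side hQp hwc hQc h₂ n₂ n₁ h₁ (by rw [sup_comm]; exact hprod)
    (by rw [Subgroup.commutator_comm]; exact hP) K₂ hK₂
  have hle₁ : K₁ ≤ H₁ := a3.trans (Subgroup.commutator_le_self H₁)
  have hle₂ : K₂ ≤ H₂ := b3.trans (Subgroup.commutator_le_self H₂)
  refine ⟨⟨a1, a2, a3, a4⟩, ⟨b1, b2, b3, b4⟩, ?_, (Subgroup.commutator_mono hle₁ hle₂).trans hP⟩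
  set S := K₁ ⊔ K₂ ⊔ Q
  have hKn : Hc ≤ Subgroup.normalizer ((K₁ ⊔ K₂ : Subgroup G) : Set G) :=
    (le_inf a4 b4).trans (H75.normalizer_inf_le_normalizer_sup _ _)
  have hS : S = Hc := by
    refine le_antisymm (sup_le (sup_le (hle₁.trans h₁) (hle₂.trans h₂)) hQc) ?_
    have hn : Hc ≤ Subgroup.normalizer (S : Set G) := by
      rw [← hprod]
      refine sup_le ?_ ?_
      · have e : S = (K₁ ⊔ Q) ⊔ K₂ := by rw [show S = K₁ ⊔ K₂ ⊔ Q from rfl, sup_right_comm]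
        rw [e]
        exact (le_inf a5 (h₁.trans b4)).trans (H75.normalizer_inf_le_normalizer_sup _ _)
      · have e : S = K₁ ⊔ (K₂ ⊔ Q) := sup_assoc _ _ _
        rw [e]
        exact (le_inf (h₂.trans a4) b5).trans (H75.normalizer_inf_le_normalizer_sup _ _)
    conv_lhs => rw [← hHci, H75.weakClosure_eq_conj hQp hwc hQc]
    exact iSup_le fun k => (H70.cj_mono _ le_sup_right).trans (H70.cj_eq_self_iff.mpr (hn k.2)).le
  refine le_antisymm ?_ (H75.resOf_le_of_sup hKn hQp hS)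
  rw [hK₁, hK₂]
  exact sup_le (H75.resOf_mono ((H75.weakClosure_le Q _).trans (sup_le h₁ hQc)))
    (H75.resOf_mono ((H75.weakClosure_le Q _).trans (sup_le h₂ hQc)))

end Cfsg.Agent.S2859
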