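import Cfsg.Statements.S2860
import Cfsg.Agent.H75.WCFactor
import Cfsg.Agent.H75.Large
import Cfsg.Agent.H75.PReduced
import Cfsg.Agent.S2815

set_option autoImplicit false
open Cfsg
open Subgroup
open scoped commutatorElement

namespace Cfsg.Agent.S2860

open Subgroup

theorem residual_eq_bot_of_central {X : Type*} [Group X] [Finite X] {p : ℕ} [Fact p.Prime]
    {R : Subgroup X} (hR : IsPGroup p ↥R) (hcl : normalClosure (R : Set X) = ⊤)
    (hc : Cfsg.pResidual p X ≤ center X) : Cfsg.pResidual p X = ⊥ := by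
  obtain ⟨T, hT⟩ := hR.exists_le_sylow
  have hn : (T : Subgroup X).Normal := by
    refine H75.normal_of_top_le ((H75.pResidual_sup_sylow (p := p) T).ge.trans (sup_le ?_ le_normalizer))
    refine H75.le_normalizer_of_conj fun k hk a ha => ?_
    rw [← (mem_center_iff.mp (hc hk) a), mul_inv_cancel_right]
    exact ha
  refine le_bot_iff.mp (H75.pResidual_le_of_sup_eq_top T.isPGroup' ?_)
  rw [bot_sup_eq, eq_top_iff, ← hcl]
  exact normalClosure_le_normal hT

theorem core {G : Type*} [Group G] [Finite G] {p : ℕ} [Fact p.Prime] (Q : Subgroup G) (hQp : IsPGroup p ↥Q) (hQ1 : Q ≠ ⊥) (hQ : Cfsg.IsLarge Q) (U : Subgroup G) (hU : Cfsg.IsElementaryAbelian p U) (hU1 : U ≠ ⊥) (E : Subgroup G) (hQE : Q ≤ E) (hEU : E ≤ Subgroup.normalizer ((U : Subgroup G) : Set G)) (hQn : ¬ E ≤ Subgroup.normalizer ((Q : Subgroup G) : Set G)) [hn : ((Subgroup.centralizer ((U : Subgroup G) : Set G)).subgroupOf E).Normal] (hred : Cfsg.pCore p (↥E ⧸ (Subgroup.centralizer ((U :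 Subgroup G) : Set G)).subgroupOf E) = ⊥) (hqs : Cfsg.IsQuasisimple ↥(((Cfsg.pResidual p ↥E) ⊔ (Subgroup.centralizer ((U : Subgroup G) : Set G)).subgroupOf E).map (QuotientGroup.mk' ((Subgroup.centralizer ((U : Subgroup G) : Set G)).subgroupOf E)))) (Er : Subgroup G) (hEr : Er = H75.resOf p (Cfsg.weakClosure Q E)) [hn2 : ((Subgroup.centralizer ((U : Subgroup G) : Set G)).subgroupOf Er).Normal] : ((Cfsg.pResidual p ↥E).map (E).subtype) ⊔ (E ⊓ Subgroup.centralizer ((U : Subgroup G) : Set G)) = Er ⊔ (E ⊓ Subgroup.centralizer ((U : Subgroup G) : Set G)) ∧ ⁅Er, Er⁆ = Er ∧ ((Cfsg.pResidual p ↥Er).map (Er).subtype) = Er ∧ Cfsg.IsQuasisimple (↥Er ⧸ (Subgroup.centralizer ((U : Subgroup G) : Set G)).subgroupOf Er) ∧ Cfsg.IsQuasisimple (↥Er ⧸ Cfsg.pCore p ↥Er) ∧ ∀ Y : Subgroup G, Y ≤ E → IsPGroup p ↥Y → ¬ Y ≤ Subgroup.centralizer ((U : Subgroup G) : Set G) → ⁅Er, Y⁆ = Er := by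
  have hUp : IsPGroup p ↥U := H75.elemAb_isPGroup hU
  have hwc := H75.large_wc hQp hQ1 hQ
  set C := centralizer (U : Set G) with hCdef
  set W := Cfsg.weakClosure Q E with hWdef
  set P := Cfsg.pCoreOf p W with hPdef
  have hWE : W ≤ E := H75.weakClosure_le Q E
  have hQW : Q ≤ W := H75.le_weakClosure hQE
  obtain ⟨hWgen, -⟩ := H75.resOf_sup_wc (p := p) hQp hwc hQW (H75.weakClosure_idem Q E)
  rw [← hEr] at hWgen
  obtain ⟨-, hWC, -⟩ := H75.large_weakClosure_sup hQp hQ1 hQ hQE hUp hU1 hEU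
  have hEW : E ≤ normalizer (W : Set G) :=
    le_normalizer.trans (H75.normalizer_le_normalizer_weakClosure Q E)
  have hErW : Er ≤ W := hEr ▸ H75.resOf_le W
  have hErE : Er ≤ E := hErW.trans hWE
  have hEEr : E ≤ normalizer (Er : Set G) := hEr ▸ hEW.trans (H75.normalizer_le_normalizer_resOf W)
  have hErr : H75.resOf p Er = Er := by rw [hEr]; exact H75.resOf_resOf W
  have hWC' : ∀ w ∈ W, ∀ c ∈ C, ⁅w, c⁆ ∈ P := fun w hw c hc =>
    hWC (commutator_mem_commutator hw hc)
  have hCW' : ∀ w ∈ W, ∀ c ∈ C, ⁅c, w⁆ ∈ P := fun w hw c hc => by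
    rw [← commutatorElement_inv]; exact inv_mem (hWC' w hw c hc)
  have hPn : W ≤ normalizer (P : Set G) := H75.le_normalizer_pCoreOf W
  have hPp : IsPGroup p ↥P := H75.isPGroup_pCoreOf W
  have hErP : Er ≤ normalizer ((P ⊓ Er : Subgroup G) : Set G) :=
    (le_inf (hErW.trans hPn) le_normalizer).trans (H75.normalizer_inf_le_normalizer_inf _ _)
  -- the quotient of `E`
  set Cs := C.subgroupOf E
  set f := QuotientGroup.mk' Cs
  have hfs : Function.Surjective f := QuotientGroup.mk'_surjective Cs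
  set Kb := Cfsg.pResidual p (↥E ⧸ Cs)
  have hK0 : (Cfsg.pResidual p ↥E).map f = Kb := H75.map_pResidual_of_surjective f hfs
  have hKb : (Cfsg.pResidual p ↥E ⊔ Cs).map f = Kb := by
    rw [Subgroup.map_sup, hK0, sup_eq_left]
    refine le_trans (le_of_eq ?_) bot_le
    rw [Subgroup.map_eq_bot_iff, QuotientGroup.ker_mk']
  have hqK : Cfsg.IsQuasisimple ↥Kb := Cfsg.Comp.isQuasisimple_of_equiv (MulEquiv.subgroupCongr hKb) hqs
  have hQC : ¬ Q ≤ C := by
    intro hle
    apply hQn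
    exact hEU.trans (hQ.2 U (le_centralizer_iff.mp hle) hU1)
  set Qb := (Q.subgroupOf E).map f
  have hQbp : IsPGroup p ↥Qb := (IsPGroup.comap_subtype (K := E) hQp).map f
  have hne : ∀ Y : Subgroup G, Y ≤ E → ¬ Y ≤ C → (Y.subgroupOf E).map f ≠ ⊥ := by
    intro Y hYE hY hb
    rw [Subgroup.map_eq_bot_iff, QuotientGroup.ker_mk'] at hb
    exact hY fun y hy => hb (show (⟨y, hYE hy⟩ : E) ∈ Y.subgroupOf E from hy)
  have hQb1 : Qb ≠ ⊥ := hne Q hQE hQC
  have hdvd : p ∣ Nat.card (↥E ⧸ Cs) := by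
    haveI : Nontrivial Qb := (Subgroup.nontrivial_iff_ne_bot _).mpr hQb1
    obtain ⟨n, hn0, hc⟩ := hQbp.nontrivial_iff_card.mp inferInstance
    exact ((dvd_pow_self p (Nat.pos_iff_ne_zero.mp hn0)).trans (dvd_of_eq hc.symm)).trans
      (card_subgroup_dvd_card Qb)
  obtain ⟨-, hYK, -, -⟩ := Cfsg.Agent.S2815.quasisimple_residual hdvd hred hqK
  have hKperf : ⁅Kb, Kb⁆ = Kb := by
    rw [← map_subtype_commutator, Cfsg.Comp.perfect_of_quasisimple hqK, ← MonoidHom.range_eq_map,
      Subgroup.range_subtype]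
  set Ers := Er.subgroupOf E
  haveI hErsn : Ers.Normal := normal_subgroupOf_of_le_normalizer hEEr
  haveI hWn : (W.subgroupOf E).Normal := normal_subgroupOf_of_le_normalizer hEW
  have hEK : Ers.map f = Kb := by
    refine le_antisymm ?_ ?_
    · rw [← hK0]
      refine Subgroup.map_mono fun x hx => ?_
      have h1 : (x : G) ∈ (Cfsg.pResidual p ↥E).map E.subtype := by
        rw [H75.map_pResidual_eq_resOf]
        exact H75.resOf_mono hWE (hEr ▸ (hx : (x : G) ∈ Er))
      obtain ⟨y, hy, hyx⟩ := h1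
      rwa [← E.subtype_injective hyx]
    · have hWb : Kb ≤ (W.subgroupOf E).map f := by
        refine (hYK Qb hQbp hQb1).2.trans (iSup_le fun k => ?_)
        have hWbn : ((W.subgroupOf E).map f).Normal := hWn.map f hfs
        rintro _ ⟨q, hq, rfl⟩
        exact hWbn.conj_mem q (Subgroup.map_mono (Subgroup.comap_mono hQW) hq) _
      have hsup : Ers.map f ⊔ Qb = (W.subgroupOf E).map f := by
        rw [← Subgroup.map_sup, ← subgroupOf_sup hErE hQE, hWgen]
      have hErn : (Ers.map f).Normal := hErsn.map f hfs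
      calc Kb = H75.resOf p Kb := H75.resOf_pResidual.symm
        _ ≤ H75.resOf p ((W.subgroupOf E).map f) := H75.resOf_mono hWb
        _ ≤ Ers.map f := H75.resOf_le_of_sup
          (le_top.trans (normalizer_eq_top_iff.mpr hErn).ge) hQbp hsup
  have h1 : ((Cfsg.pResidual p ↥E).map E.subtype) ⊔ (E ⊓ C) = Er ⊔ (E ⊓ C) := by
    have e : Cfsg.pResidual p ↥E ⊔ Cs = Ers ⊔ Cs := by
      have := Subgroup.map_eq_map_iff.mp (hK0.trans hEK.symm)
      rwa [QuotientGroup.ker_mk'] at this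
    have := congrArg (Subgroup.map E.subtype) e
    rwa [Subgroup.map_sup, Subgroup.map_sup, subgroupOf_map_subtype, subgroupOf_map_subtype,
      inf_of_le_left hErE, inf_comm C E] at this
  -- decompose the elements of `Er`
  have hdec : ∀ D : Subgroup G, D ≤ Er → Kb ≤ (D.subgroupOf E).map f →
      ∀ x ∈ Er, ∃ d ∈ D, ∃ c ∈ Er ⊓ C, x = d * c := by
    intro D hDE hD x hx
    have hxE : (⟨x, hErE hx⟩ : E) ∈ Ers := hx
    obtain ⟨d, hd, hdx⟩ := hD (hEK ▸ mem_map_of_mem f hxE)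
    refine ⟨d, hd, (d : G)⁻¹ * x, mem_inf.mpr ⟨mul_mem (inv_mem (hDE hd)) hx, ?_⟩, by group⟩
    have : d⁻¹ * (⟨x, hErE hx⟩ : E) ∈ Cs := by
      rw [← QuotientGroup.eq_one_iff]
      show f _ = 1
      rw [map_mul, map_inv, hdx, inv_mul_cancel]
    exact this
  -- perfectness
  have hKle : Kb ≤ (⁅Er, Er⁆.subgroupOf E).map f := by
    rw [← hKperf, ← hEK, ← Subgroup.map_commutator]
    refine Subgroup.map_mono fun z hz => ?_
    have := mem_map_of_mem E.subtype hz
    rwa [Subgroup.map_commutator, map_subgroupOf_eq_of_le hErE] at this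
  have hEr' : ⁅Er, Er⁆ ≤ Er := commutator_le_self Er
  set N0 := ⁅Er, Er⁆ ⊔ P
  have hN0 : W ≤ normalizer (N0 : Set G) :=
    (le_inf (((le_inf (hWE.trans hEEr) (hWE.trans hEEr)).trans
      (H75.normalizer_inf_le_normalizer_commutator Er Er))) hPn).trans
      (H75.normalizer_inf_le_normalizer_sup _ _)
  have hErN0 : Er ≤ N0 := by
    haveI : (N0.subgroupOf W).Normal := normal_subgroupOf_of_le_normalizer hN0
    set g := QuotientGroup.mk' (N0.subgroupOf W)
    have hgs : Function.Surjective g := QuotientGroup.mk'_surjective _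
    have hres : (Er.subgroupOf W).map g = Cfsg.pResidual p _ := by
      rw [← H75.map_pResidual_of_surjective g hgs]
      congr 1
      apply Subgroup.map_injective W.subtype_injective
      rw [map_subgroupOf_eq_of_le hErW, H75.map_pResidual_eq_resOf, hEr]
    have hb : Cfsg.pResidual p (↥W ⧸ N0.subgroupOf W) = ⊥ := by
      refine residual_eq_bot_of_central ((IsPGroup.comap_subtype (K := W) hQp).map g) ?_ ?_
      · have hcl : normalClosure ((Q.subgroupOf W : Subgroup W) : Set W) = ⊤ := by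
          apply Subgroup.map_injective W.subtype_injective
          rw [H75.normalClosure_subgroupOf_map hQW, ← H75.weakClosure_eq_conj hQp hwc hQW,
            H75.weakClosure_idem Q E, ← MonoidHom.range_eq_map, Subgroup.range_subtype]
        rw [← top_le_iff, ← map_top_of_surjective g hgs, ← hcl, map_le_iff_le_comap]
        haveI : (normalClosure (((Q.subgroupOf W).map g : Subgroup (↥W ⧸ N0.subgroupOf W)) :
            Set (↥W ⧸ N0.subgroupOf W))).Normal := normalClosure_normal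
        exact normalClosure_le_normal fun q hq => subset_normalClosure (mem_map_of_mem g hq)
      · rw [← hres]
        rintro _ ⟨r, hr, rfl⟩
        rw [mem_center_iff]
        intro y
        obtain ⟨w, rfl⟩ := hgs y
        obtain ⟨d, hd, c, hc, hrdc⟩ := hdec _ hEr' hKle (r : G) hr
        have hcW : c ∈ W := hErW (mem_inf.mp hc).1
        have hd1 : g r = g ⟨c, hcW⟩ := by
          have hd' : (⟨d, hErW (hEr' hd)⟩ : W) ∈ N0.subgroupOf W := mem_sup_left hd
          have : r = (⟨d, hErW (hEr' hd)⟩ : W) * ⟨c, hcW⟩ := Subtype.ext hrdc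
          rw [this, map_mul, show g ⟨d, hErW (hEr' hd)⟩ = 1 from (QuotientGroup.eq_one_iff _).mpr hd',
            one_mul]
        rw [hd1]
        have hcomm : g ⁅w, (⟨c, hcW⟩ : W)⁆ = 1 :=
          (QuotientGroup.eq_one_iff _).mpr
            (show ⁅(w : G), c⁆ ∈ N0 from mem_sup_right (hWC' w w.2 c (mem_inf.mp hc).2))
        rwa [map_commutatorElement, commutatorElement_eq_one_iff_mul_comm] at hcomm
    intro x hx
    have hmem : g ⟨x, hErW hx⟩ ∈ (Er.subgroupOf W).map g := mem_map_of_mem g hx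
    rw [hres, hb, mem_bot] at hmem
    exact (QuotientGroup.eq_one_iff (⟨x, hErW hx⟩ : W)).mp hmem
  have hfin : ∀ D : Subgroup G, D ≤ Er → Er ≤ normalizer (D : Set G) → Er ≤ D ⊔ (P ⊓ Er) →
      D = Er := by
    intro D hD hn hle
    refine le_antisymm hD ?_
    have := H75.resOf_le_of_sup (p := p) hn (hPp.to_le inf_le_left)
      (le_antisymm (sup_le hD inf_le_right) hle)
    rwa [hErr] at this
  have hperf : ⁅Er, Er⁆ = Er := by
    refine hfin _ hEr' (normalizer_commutator_ge_left Er Er) fun x hx => ?_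
    obtain ⟨d, hd, t, ht, rfl⟩ := H75.sup_eq_mul_of_le_normalizer
      ((H75.pCoreOf_le W).trans ((le_inf (hWE.trans hEEr) (hWE.trans hEEr)).trans
        (H75.normalizer_inf_le_normalizer_commutator Er Er))) (hErN0 hx)
    refine mul_mem (mem_sup_left hd) (mem_sup_right (mem_inf.mpr ⟨ht, ?_⟩))
    have := mul_mem (inv_mem (hEr' hd)) hx
    rwa [inv_mul_cancel_left] at this
  have hPEr : P ⊓ Er ≤ Cfsg.pCoreOf p Er := H75.pCoreOf_inf_le hErW
  -- the quotients
  set φ : ↥Er →* ↥E ⧸ Cs := f.comp (Subgroup.inclusion hErE)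
  have hrange : φ.range = Kb := by
    rw [MonoidHom.range_eq_map, ← Subgroup.map_map, ← MonoidHom.range_eq_map,
      Subgroup.inclusion_range]
    exact hEK
  have hker : φ.ker = C.subgroupOf Er := by
    ext x
    rw [MonoidHom.mem_ker, MonoidHom.comp_apply]
    exact QuotientGroup.eq_one_iff _
  have hq1 : Cfsg.IsQuasisimple (↥Er ⧸ C.subgroupOf Er) :=
    Cfsg.Comp.isQuasisimple_of_equiv
      ((QuotientGroup.quotientMulEquivOfEq hker.symm).trans
        ((QuotientGroup.quotientKerEquivRange φ).trans (MulEquiv.subgroupCongr hrange))).symm hqK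
  have hcore : Cfsg.pCore p ↥Er ≤ C.subgroupOf Er := by
    rw [← hker, ← Subgroup.map_eq_bot_iff, ← le_bot_iff, ← hred]
    have hO : Cfsg.pCoreOf p Er ≤ Cfsg.pCoreOf p E :=
      H75.le_pCoreOf ((H75.pCoreOf_le Er).trans hErE)
        (hEEr.trans (H75.normalizer_le_normalizer_pCoreOf Er)) (H75.isPGroup_pCoreOf Er)
    have hb : (Cfsg.pCore p ↥E).map f ≤ Cfsg.pCore p (↥E ⧸ Cs) := by
      haveI := (H1.pCore_normal' p ↥E).map f hfs
      exact H1.le_pCore ((H1.isPGroup_pCore p ↥E).map f)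
    refine le_trans ?_ hb
    rw [← Subgroup.map_map]
    refine Subgroup.map_mono ?_
    rintro _ ⟨x, hx, rfl⟩
    obtain ⟨y, hy, hyx⟩ := hO (mem_map_of_mem Er.subtype hx)
    rwa [show Subgroup.inclusion hErE x = y from E.subtype_injective hyx.symm]
  have hq2 : Cfsg.IsQuasisimple (↥Er ⧸ Cfsg.pCore p ↥Er) := by
    let ψ : ↥Er ⧸ Cfsg.pCore p ↥Er →* ↥Er ⧸ C.subgroupOf Er :=
      QuotientGroup.map (Cfsg.pCore p ↥Er) (C.subgroupOf Er) (MonoidHom.id ↥Er) hcore
    refine Cfsg.Comp.isQuasisimple_of_ker_le_center ?_ hq1 ψ ?_ ?_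
    · rw [_root_.commutator_def, ← map_top_of_surjective _ (QuotientGroup.mk'_surjective _),
        ← Subgroup.map_commutator]
      congr 1
      apply Subgroup.map_injective Er.subtype_injective
      rw [Subgroup.map_commutator, ← MonoidHom.range_eq_map, Subgroup.range_subtype, hperf]
    · intro y
      obtain ⟨x, rfl⟩ := QuotientGroup.mk'_surjective _ y
      exact ⟨QuotientGroup.mk' _ x, rfl⟩
    · intro y hy
      obtain ⟨x, rfl⟩ := QuotientGroup.mk'_surjective _ y
      have hxC : (x : G) ∈ C := (QuotientGroup.eq_one_iff x).mp (MonoidHom.mem_ker.mp hy)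
      rw [mem_center_iff]
      intro z
      obtain ⟨z, rfl⟩ := QuotientGroup.mk'_surjective _ z
      have hz : QuotientGroup.mk' (Cfsg.pCore p ↥Er) ⁅z, x⁆ = 1 := by
        refine (QuotientGroup.eq_one_iff _).mpr ?_
        obtain ⟨w, hw, hwx⟩ := hPEr (show ((⁅z, x⁆ : Er) : G) ∈ P ⊓ Er from
          mem_inf.mpr ⟨hWC' z (hErW z.2) x hxC, (⁅z, x⁆ : Er).2⟩)
        exact (Er.subtype_injective (show Er.subtype w = Er.subtype ⁅z, x⁆ from hwx)) ▸ hw
      rwa [map_commutatorElement, commutatorElement_eq_one_iff_mul_comm] at hz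
  refine ⟨h1, hperf, by rw [H75.map_pResidual_eq_resOf, hErr], hq1, hq2, ?_⟩
  intro Y hYE hY hYC
  set D := ⁅Er, Y⁆ with hD
  have hDle : D ≤ Er := le_normalizer_iff_commutator_le_left.mp (hYE.trans hEEr)
  refine hfin D hDle (normalizer_commutator_ge_left Er Y) ?_
  have hKD : Kb ≤ (D.subgroupOf E).map f := by
    refine (hYK ((Y.subgroupOf E).map f) ((IsPGroup.comap_subtype (K := E) hY).map f)
      (hne Y hYE hYC)).1.ge.trans ?_
    show ⁅Kb, _⁆ ≤ _
    rw [← hEK, ← Subgroup.map_commutator]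
    refine Subgroup.map_mono fun z hz => ?_
    have := mem_map_of_mem E.subtype hz
    rwa [Subgroup.map_commutator, map_subgroupOf_eq_of_le hErE, map_subgroupOf_eq_of_le hYE] at this
  conv_lhs => rw [← hperf]
  rw [commutator_le]
  intro x hx y hy
  obtain ⟨d, hd, c, hc, rfl⟩ := hdec D hDle hKD y hy
  rw [commutatorElement_mul_right_eq_mul_conj, mul_assoc, mul_assoc, ← mul_assoc d]
  refine mul_mem (mem_sup_left ?_) (mem_sup_right ?_)
  · rw [commutatorElement_def]
    exact mul_mem (H75.conj_mem_of_mem_normalizer (normalizer_commutator_ge_left Er Y hx) hd)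
      (inv_mem hd)
  · exact H75.conj_mem_of_mem_normalizer (hErP (hDle hd)) (mem_inf.mpr
      ⟨hWC' x (hErW hx) c (mem_inf.mp hc).2, hEr' (commutator_mem_commutator hx (mem_inf.mp hc).1)⟩)

/-- Let Q be a nontrivial large p-subgroup of the finite group H, U a nontrivial elementary abelian p-subgroup of H, and Q ≤ E ≤ N_H(U) with Q not normal in E. Suppose O_p(E/C_E(U)) = 1 and O^p(E)·C_E(U)/C_E(U) is quasisimple. Let E° be the weak closure of Q in E (generated by the conjugates of Q inside E) and E_∘ = O^p(E°). Then O^p(E)·C_E(U) = E_∘·C_E(U); E_∘ is perfect and equals O^p(E_∘); E_∘/C_{E_∘}(U) and E_∘/O_p(E_∘) are quasisimple; and E_∘ = [E_∘, Y] for every p-subgroup Y of E not centralizing U. -/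
theorem result {G : Type*} [Group G] [Finite G] {p : ℕ} [Fact p.Prime] (Q : Subgroup G) (hQp : IsPGroup p ↥Q) (hQ1 : Q ≠ ⊥) (hQ : Cfsg.IsLarge Q) (U : Subgroup G) (hU : Cfsg.IsElementaryAbelian p U) (hU1 : U ≠ ⊥) (E : Subgroup G) (hQE : Q ≤ E) (hEU : E ≤ Subgroup.normalizer ((U : Subgroup G) : Set G)) (hQn : ¬ E ≤ Subgroup.normalizer ((Q : Subgroup G) : Set G)) [hn : ((Subgroup.centralizer ((U : Subgroup G) : Set G)).subgroupOf E).Normal] (hred : Cfsg.pCore p (↥E ⧸ (Subgroup.centralizer ((U : Subgroup G) : Set G)).subgroupOf E) = ⊥) (hqs : Cfsg.IsQuasisimple ↥(((Cfsg.pResidual p ↥E) ⊔ (Subgroup.centralizer ((U : Subgroup G) : Set G)).subgroupOf E).map (QuotientGroup.mk' ((Subgroup.centralizer ((U : Subgroup G) : Set G)).subgroupOf E)))) (Er : Subgroup G) (hEr : Er = ((Cfsg.pResidual p ↥(Cfsg.weakClosure Q E)).map ((Cfsg.weakClosure Q E)).subtype)) [hn2 : ((Subgroup.centralizer ((U : Subgroup G) : Set G)).subgroupOf Er).Normal] : ((Cfsg.pResidual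 p ↥E).map (E).subtype) ⊔ (E ⊓ Subgroup.centralizer ((U : Subgroup G) : Set G)) = Er ⊔ (E ⊓ Subgroup.centralizer ((U : Subgroup G) : Set G)) ∧ ⁅Er, Er⁆ = Er ∧ ((Cfsg.pResidual p ↥Er).map (Er).subtype) = Er ∧ Cfsg.IsQuasisimple (↥Er ⧸ (Subgroup.centralizer ((U : Subgroup G) : Set G)).subgroupOf Er) ∧ Cfsg.IsQuasisimple (↥Er ⧸ Cfsg.pCore p ↥Er) ∧ ∀ Y : Subgroup G, Y ≤ E → IsPGroup p ↥Y → ¬ Y ≤ Subgroup.centralizer ((U : Subgroup G) : Set G) → ⁅Er, Y⁆ = Er := by
  rw [H75.map_pResidual_eq_resOf] at hEr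
  exact core Q hQp hQ1 hQ U hU hU1 E hQE hEU hQn hred hqs Er hEr

end Cfsg.Agent.S2860
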