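import Cfsg.Statements.S2861
import Cfsg.Agent.H76.FrakL

set_option autoImplicit false
open Cfsg

namespace Cfsg.Agent.S2861

/-- Standing hypotheses: G a finite group, S a Sylow p-subgroup, Q a nontrivial large p-subgroup of G contained in S, M a subgroup containing S with the basic property (M ∈ 𝔐_G(S)); Y_M the largest p-reduced normal subgroup of M and M† = M·C_G(Y_M). Let L ∈ 𝔏_G(Y_M) (L ∈ 𝔏_G(Y_M): Y_M ≤ L; O_p(L) is the normal closure in L of Y_M ∩ O_p(L) and normalizes Y_M; L is Y_M-minimal of characteristic p with N_L(Y_M) its unique maximal subgroup over Y_M; and L/O_p(L) ≅ SL₂(q) with q = |Y_M : Y_M ∩ O_p(L)|, or p = 2 and L/O_p(L) is a Suzuki group Sz(q) or dihedral of order 2r, r an odd prime) and A = O_p(L). Then Y_M·A/A is the unique nontrivial elementary abelian normal p-subgroup of N_L(Y_M)/A. -/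
theorem result {G : Type*} [Group G] [Finite G] {p : ℕ} [Fact p.Prime] (S : Sylow p G) (Q : Subgroup G) (hQp : IsPGroup p ↥Q) (hQ1 : Q ≠ ⊥) (hQS : Q ≤ (S : Subgroup G)) (hQ : Cfsg.IsLarge Q) (M : Subgroup G) (hSM : (S : Subgroup G) ≤ M) (hM : Cfsg.IsInFrakM p M) (L : Subgroup G) (hL : Cfsg.IsInFrakL p M L) (NL : Subgroup G) (hNL : NL = L ⊓ Subgroup.normalizer (((Cfsg.largestPReducedOf p M) : Subgroup G) : Set G)) [hn : (((Cfsg.pCoreOf p L)).subgroupOf NL).Normal] : let Ybar : Subgroup (↥NL ⧸ ((Cfsg.pCoreOf p L)).subgroupOf NL) := (((Cfsg.largestPReducedOf p M)).subgroupOf NL).map (QuotientGroup.mk' (((Cfsg.pCoreOf p L)).subgroupOf NL)); Ybar ≠ ⊥ ∧ Ybar.Normal ∧ Cfsg.IsElementaryAbelian p Ybar ∧ ∀ (V : Subgroup (↥NL ⧸ ((Cfsg.pCoreOf p L)).subgroupOf NL)), V.Normal → Cfsg.IsElementaryAbelian p V → V ≠ ⊥ → V = Ybar := by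
  intro Ybar
  obtain ⟨hctx, hmod⟩ := H76.exists_frakL_model hL
  have hYL : Cfsg.largestPReducedOf p M ≤ L := hL.1
  set Y := Cfsg.largestPReducedOf p M with hYdef
  have hs := QuotientGroup.mk'_surjective (Cfsg.pCore p ↥L)
  have hk : (QuotientGroup.mk' (Cfsg.pCore p ↥L)).ker = Cfsg.pCore p ↥L := QuotientGroup.ker_mk' _
  have hm := hmod _ rfl
  set A := (Cfsg.pCoreOf p L).subgroupOf NL with hA
  have hNLL : NL ≤ L := hNL ▸ inf_le_left
  have hYN : Y ≤ NL := hNL ▸ le_inf hYL Subgroup.le_normalizer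
  have hYnorm : (Y.subgroupOf NL).Normal :=
    Subgroup.normal_subgroupOf_of_le_normalizer (hNL ▸ inf_le_right)
  let ψ : ↥NL →* ↥L ⧸ Cfsg.pCore p ↥L :=
    (QuotientGroup.mk' (Cfsg.pCore p ↥L)).comp (Subgroup.inclusion hNLL)
  have hψA : A ≤ ψ.ker := by
    intro x hx
    show QuotientGroup.mk' _ (Subgroup.inclusion hNLL x) = 1
    refine (QuotientGroup.eq_one_iff _).mpr ?_
    rw [← H76.subgroupOf_pCoreOf]
    exact hx
  have hψinj : ψ.ker ≤ A := by
    intro x hx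
    have h1 := (QuotientGroup.eq_one_iff _).mp (show QuotientGroup.mk' _ (Subgroup.inclusion hNLL x) = 1 from hx)
    rw [← H76.subgroupOf_pCoreOf] at h1
    exact h1
  let f := QuotientGroup.lift A ψ hψA
  have hf : Function.Injective f := by
    rw [← MonoidHom.ker_eq_bot_iff, eq_bot_iff]
    intro q hq
    induction q using QuotientGroup.induction_on with
    | H x => exact Subgroup.mem_bot.mpr ((QuotientGroup.eq_one_iff x).mpr (hψinj hq))
  set T := (Y.subgroupOf L).map (QuotientGroup.mk' (Cfsg.pCore p ↥L)) with hT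
  have hmap : Ybar.map f = T := by
    ext t
    constructor
    · rintro ⟨q, ⟨x, hx, rfl⟩, rfl⟩
      exact ⟨Subgroup.inclusion hNLL x, hx, rfl⟩
    · rintro ⟨⟨x, hxL⟩, hx, rfl⟩
      exact ⟨_, ⟨⟨x, hYN hx⟩, hx, rfl⟩, rfl⟩
  have htop := hctx.topCtx hs hk
  have hrange : Subgroup.normalizer (T : Set (↥L ⧸ Cfsg.pCore p ↥L)) ≤ f.range := by
    intro t ht
    obtain ⟨x, rfl⟩ := hs t
    have hx : x ∈ Subgroup.normalizer ((Y.subgroupOf L : Subgroup ↥L) : Set ↥L) := by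
      rw [← hctx.comap_normalizer hs hk]; exact ht
    rw [← Subgroup.subgroupOf_normalizer_eq hYL] at hx
    exact ⟨QuotientGroup.mk' A ⟨x, hNL ▸ ⟨x.2, hx⟩⟩, rfl⟩
  have hYb : Ybar.Normal := hYnorm.map _ (QuotientGroup.mk'_surjective _)
  have hnormT : f.range ≤ Subgroup.normalizer (T : Set (↥L ⧸ Cfsg.pCore p ↥L)) := by
    rintro _ ⟨q, rfl⟩
    rw [← hmap]
    refine Subgroup.le_normalizer_map f ⟨q, ?_, rfl⟩
    rw [Subgroup.normalizer_eq_top_iff.mpr hYb]; trivial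
  refine ⟨fun e => htop.ne (by rw [← hT, ← hmap, e, Subgroup.map_bot]), hYb, ⟨⟨⟨?_⟩⟩, ?_⟩, fun V hV hVe hne => ?_⟩
  · intro a b
    apply Subtype.ext
    apply hf
    simpa using congrArg Subtype.val (htop.comm.is_comm.comm
      (⟨f a, hT ▸ hmap ▸ Subgroup.mem_map_of_mem f a.2⟩ : _) ⟨f b, hT ▸ hmap ▸ Subgroup.mem_map_of_mem f b.2⟩)
  · intro a ha
    apply hf
    rw [map_pow, map_one]
    exact htop.pow _ (hT ▸ hmap ▸ Subgroup.mem_map_of_mem f ha)
  · have hVT : V.map f ≤ T := by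
      rintro _ ⟨v, hv, rfl⟩
      refine hm.omega _ (hnormT ⟨v, rfl⟩) ?_
      rw [← map_pow, hVe.2 v hv, map_one]
    have hVne : V.map f ≠ ⊥ := by
      rw [Ne, Subgroup.map_eq_bot_iff_of_injective _ hf]; exact hne
    have hVnorm : Subgroup.normalizer (T : Set (↥L ⧸ Cfsg.pCore p ↥L)) ≤
        Subgroup.normalizer ((V.map f : Subgroup _) : Set (↥L ⧸ Cfsg.pCore p ↥L)) := by
      refine hrange.trans ?_
      rw [MonoidHom.range_eq_map, ← Subgroup.normalizer_eq_top_iff.mpr hV]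
      exact Subgroup.le_normalizer_map f
    have := hm.irred _ hVT hVne hVnorm
    rw [← hmap] at this
    exact Subgroup.map_injective hf this

end Cfsg.Agent.S2861
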