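import Cfsg.Statements.S2862
import Cfsg.Agent.H75.AsymLMain
import Cfsg.Agent.H75.Asym

set_option autoImplicit false
open Cfsg
open Subgroup
open scoped commutatorElement

namespace Cfsg.Agent.S2862

open Subgroup

theorem mem_normalizer_subgroupOf {G : Type*} [Group G] {H A : Subgroup G} (hAH : A ≤ H) {x : ↥H} :
    x ∈ normalizer ((A.subgroupOf H : Subgroup ↥H) : Set ↥H) ↔ (x : G) ∈ normalizer (A : Set G) := by
  constructor
  · intro h
    rw [← H70.cj_eq_self_iff] at h ⊢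
    have := congrArg (Subgroup.map H.subtype) h
    rwa [H75.cj_map_subtype, map_subgroupOf_eq_of_le hAH] at this
  · intro h
    rw [mem_normalizer_iff] at h ⊢
    intro y
    exact h y

theorem alData {G : Type*} [Group G] [Finite G] {p : ℕ} [Fact p.Prime] (S : Sylow p G)
    (M : Subgroup G) (hG : Cfsg.IsOfParabolicCharacteristic p G) (hSM : (S : Subgroup G) ≤ M)
    (hM : Cfsg.IsInFrakM p M) (hasym : ¬ Cfsg.IsSymmetricIn (Cfsg.largestPReducedOf p M))
    (H : Subgroup G) (hH : Cfsg.IsInFrakH p M H) (L : Subgroup G) (hLH : L ≤ H)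
    (hYL : Cfsg.largestPReducedOf p M ≤ L)
    (hYO : ¬ Cfsg.largestPReducedOf p M ≤ Cfsg.pCoreOf p L)
    (hmin : ∀ L' : Subgroup G, L' ≤ L → Cfsg.largestPReducedOf p M ≤ L' →
      ¬ Cfsg.largestPReducedOf p M ≤ Cfsg.pCoreOf p L' → L' = L) :
    H75.ALData p ((Cfsg.pCoreOf p M).subgroupOf H) ((Cfsg.largestPReducedOf p M).subgroupOf H)
      (L.subgroupOf H) := by
  obtain ⟨hchar, hPH, hYnot, hHmin⟩ := hH
  have hY := H75.redIn_largest (p := p) M
  obtain ⟨hN, hwc⟩ := H75.frak_asym_props hG hSM hM hasym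
  have hdag := (H75.frakFacts hSM hM).dag_le
  set Y := Cfsg.largestPReducedOf p M
  set P := Cfsg.pCoreOf p M
  have hYP : Y ≤ P := hY.le_pCoreOf
  have hYH : Y ≤ H := hYP.trans hPH
  have hPp : IsPGroup p ↥P := H75.isPGroup_pCoreOf M
  have hmapcore : ∀ (K : Subgroup ↥H) (A : Subgroup G), A ≤ H →
      (A.subgroupOf H ≤ Cfsg.pCoreOf p K ↔ A ≤ Cfsg.pCoreOf p (K.map H.subtype)) := by
    intro K A hA
    rw [H74.pCoreOf_map K H.subtype H.subtype_injective]
    conv_rhs => rw [← map_subgroupOf_eq_of_le hA]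
    exact (map_le_map_iff_of_injective H.subtype_injective).symm
  refine ⟨IsPGroup.comap_subtype (K := H) hPp, comap_mono hYP, ?_, H75.elemAb_comap H.subtype_injective hY.elem,
    hchar, H75.wc_subgroupOf hPp hwc hPH, ?_, ?_, ?_, ?_, comap_mono hYL, ?_, ?_⟩
  · intro x hx
    rw [mem_centralizer_iff]
    intro y hy
    exact Subtype.ext ((mem_centralizer_iff.mp (hY.pCoreOf_le hx)) y hy)
  · intro x hx
    rw [mem_normalizer_subgroupOf hPH] at hx
    rw [mem_normalizer_subgroupOf hYH]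
    exact ((hN P hPp le_rfl).2.trans hdag) hx
  · intro g h1 h2
    have e : (H70.cj g (Y.subgroupOf H)).map H.subtype = H70.cj (g : G) Y := by
      rw [H75.cj_map_subtype, map_subgroupOf_eq_of_le hYH]
    have h1' : H70.cj (g : G) Y ≤ normalizer (Y : Set G) := by
      rw [← e]
      rintro _ ⟨x, hx, rfl⟩
      exact (mem_normalizer_subgroupOf hYH).mp (h1 hx)
    have h2' : Y ≤ normalizer (H70.cj (g : G) Y : Set G) := by
      intro y hy
      have := h2 (show (⟨y, hYH hy⟩ : H) ∈ Y.subgroupOf H from hy)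
      rw [← H70.cj_eq_self_iff] at this ⊢
      have h3 := congrArg (Subgroup.map H.subtype) this
      rwa [H75.cj_map_subtype, e] at h3
    have h3 := H75.asym_commute hasym h1' h2'
    intro x hx
    rw [mem_centralizer_iff]
    intro y hy
    exact Subtype.ext ((mem_centralizer_iff.mp (h3 (e ▸ mem_map_of_mem H.subtype hx))) y hy)
  · intro hle
    exact hYnot fun y hy =>
      ⟨⟨y, hYH hy⟩, hle (show (⟨y, hYH hy⟩ : H) ∈ Y.subgroupOf H from hy), rfl⟩
  · intro K hPK hK
    rw [hmapcore K Y hYH]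
    refine hHmin _ (fun x hx => ⟨⟨x, hPH hx⟩, hPK hx, rfl⟩) ?_
    refine lt_of_le_of_ne (map_subtype_le K) fun e => hK ?_
    apply Subgroup.map_injective H.subtype_injective
    rw [e, ← MonoidHom.range_eq_map, Subgroup.range_subtype]
  · rw [hmapcore _ Y hYH, map_subgroupOf_eq_of_le hLH]
    exact hYO
  · intro L' hL' hYL' hnot
    rw [hmapcore L' Y hYH] at hnot
    have := hmin (L'.map H.subtype) (fun x hx => by
      obtain ⟨z, hz, rfl⟩ := hx; exact hL' hz)
      (fun y hy => ⟨⟨y, hYH hy⟩, hYL' hy, rfl⟩) hnot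
    rw [← this]
    exact (comap_map_eq_self_of_injective H.subtype_injective L').symm

/-- Standing hypotheses: G a finite group, S a Sylow p-subgroup, Q a nontrivial large p-subgroup of G contained in S, M a subgroup containing S with the basic property (M ∈ 𝔐_G(S)); Y_M the largest p-reduced normal subgroup of M and M† = M·C_G(Y_M). Suppose Y_M is char-p-tall and asymmetric in G, H ∈ ℌ_G(O_p(M)), and L is minimal among the subgroups of H containing Y_M with Y_M ≰ O_p(L). Then H = ⟨L, O_p(M)⟩ = ⟨hY_Mh⁻¹, O_p(M)⟩ for every h ∈ L outside N_L(Y_M); L is Y_M-minimal and of characteristic p, with N_L(Y_M) the unique maximal subgroup of L containing Y_M; [V, O^p(L)] ≠ 1 for every noncentral chief factor V/W of H inside O_p(H) (that is, O^p(L) does not act trivially on V/W); and the normal closure of O_p(L) ∩ Y_M in L lies in O_p(H). -/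
theorem result {G : Type*} [Group G] [Finite G] {p : ℕ} [Fact p.Prime] (S : Sylow p G) (Q : Subgroup G) (hQp : IsPGroup p ↥Q) (hQ1 : Q ≠ ⊥) (hQS : Q ≤ (S : Subgroup G)) (hQ : Cfsg.IsLarge Q) (M : Subgroup G) (hSM : (S : Subgroup G) ≤ M) (hM : Cfsg.IsInFrakM p M) (htall : Cfsg.IsCharPTall p (Cfsg.largestPReducedOf p M)) (hasym : ¬ Cfsg.IsSymmetricIn (Cfsg.largestPReducedOf p M)) (H : Subgroup G) (hH : Cfsg.IsInFrakH p M H) (L : Subgroup G) (hLH : L ≤ H) (hYL : (Cfsg.largestPReducedOf p M) ≤ L) (hYO : ¬ (Cfsg.largestPReducedOf p M) ≤ (Cfsg.pCoreOf p L)) (hmin : ∀ L' : Subgroup G, L' ≤ L → (Cfsg.largestPReducedOf p M) ≤ L' → ¬ (Cfsg.largestPReducedOf p M) ≤ (Cfsg.pCoreOf p L') → L' = L) : (L ⊔ (Cfsg.pCoreOf p M) = H ∧ ∀ h ∈ L, h ∉ Subgroup.normalizer (((Cfsg.largestPReducedOf p M) : Subgroup G) : Set G) → (((Cfsg.largestPReducedOf p M) : Subgroup G).map (MulAut.conj (h : G)).toMonoidHom) ⊔ (Cfsg.pCoreOf p M) = H) ∧ (Cfsg.IsMinimalOver (((Cfsg.largestPReducedOf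 p M)).subgroupOf L) ∧ Subgroup.centralizer (Cfsg.pCore p ↥L : Set ↥L) ≤ Cfsg.pCore p ↥L ∧ L ⊓ Subgroup.normalizer (((Cfsg.largestPReducedOf p M) : Subgroup G) : Set G) < L ∧ ∀ X : Subgroup G, (Cfsg.largestPReducedOf p M) ≤ X → X < L → X ≤ L ⊓ Subgroup.normalizer (((Cfsg.largestPReducedOf p M) : Subgroup G) : Set G)) ∧ (∀ V W' : Subgroup G, V ≤ (Cfsg.pCoreOf p H) → H ≤ Subgroup.normalizer ((V : Subgroup G) : Set G) → H ≤ Subgroup.normalizer ((W' : Subgroup G) : Set G) → W' < V → (∀ Z' : Subgroup G, H ≤ Subgroup.normalizer ((Z' : Subgroup G) : Set G) → W' ≤ Z' → Z' ≤ V → Z' = W' ∨ Z' = V) → ¬ ⁅V, H⁆ ≤ W' → ¬ ⁅V, ((Cfsg.pResidual p ↥L).map (L).subtype)⁆ ≤ W') ∧ (Subgroup.normalClosure (((((Cfsg.pCoreOf p L) ⊓ (Cfsg.largestPReducedOf p M)).subgroupOf L : Subgroup ↥L)) : Set ↥L)).map L.subtype ≤ (Cfsg.pCoreOf p H) := by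
  have hG := H75.large_parabolicChar hQp hQ1 hQ
  have hA := alData S M hG hSM hM hasym H hH L hLH hYL hYO hmin
  have hY := H75.redIn_largest (p := p) M
  have hPH : Cfsg.pCoreOf p M ≤ H := hH.2.1
  set Y := Cfsg.largestPReducedOf p M with hYdef
  set P := Cfsg.pCoreOf p M
  have hYH : Y ≤ H := hY.le_pCoreOf.trans hPH
  have hLc : ((Cfsg.pCoreOf p (L.subgroupOf H)).map H.subtype) = Cfsg.pCoreOf p L := by
    rw [← H74.pCoreOf_map _ H.subtype H.subtype_injective, Subgroup.map_subgroupOf_eq_of_le hLH]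
  have hHtop : ∀ K : Subgroup ↥H, K = ⊤ → K.map H.subtype = H := fun K e => by
    rw [e, ← MonoidHom.range_eq_map, Subgroup.range_subtype]
  have hproper : ∀ X : Subgroup G, Y ≤ X → X < L → X ≤ L ⊓ Subgroup.normalizer (Y : Set G) := by
    intro X hYX hXL x hx
    have hXH : X ≤ H := hXL.le.trans hLH
    have hlt : X.subgroupOf H < L.subgroupOf H := by
      refine lt_of_le_of_ne (Subgroup.comap_mono hXL.le) fun e => hXL.ne ?_
      rw [← Subgroup.map_subgroupOf_eq_of_le hXH, ← Subgroup.map_subgroupOf_eq_of_le hLH, e]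
    have h := hA.le_norm_inf (Subgroup.comap_mono hYX) hlt
      (show (⟨x, hXH hx⟩ : H) ∈ X.subgroupOf H from hx)
    exact Subgroup.mem_inf.mpr ⟨(Subgroup.mem_inf.mp h).1,
      (mem_normalizer_subgroupOf hYH).mp (Subgroup.mem_inf.mp h).2⟩
  refine ⟨⟨?_, ?_⟩, ⟨?_, ?_, ?_, hproper⟩, ?_, ?_⟩
  · have := hHtop _ hA.sup_eq_top
    rwa [Subgroup.map_sup, Subgroup.map_subgroupOf_eq_of_le hLH,
      Subgroup.map_subgroupOf_eq_of_le hPH] at this
  · intro h hh hn
    have := hHtop _ (hA.gen_top (h := ⟨h, hLH hh⟩) hh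
      (fun e => hn ((mem_normalizer_subgroupOf hYH).mp e)))
    rwa [Subgroup.map_sup, H75.cj_map_subtype, Subgroup.map_subgroupOf_eq_of_le hYH,
      Subgroup.map_subgroupOf_eq_of_le hPH] at this
  · -- minimality, read in `↥L`
    have hmo := hA.minimalOver
    let e : ↥(L.subgroupOf H) ≃* ↥L := Subgroup.subgroupOfEquivOfLe hLH
    have he : ((Y.subgroupOf H).subgroupOf (L.subgroupOf H)).map e.toMonoidHom = Y.subgroupOf L := by
      ext x
      constructor
      · rintro ⟨z, hz, rfl⟩; exact hz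
      · intro hx
        exact ⟨⟨⟨x, hLH x.2⟩, x.2⟩, hx, rfl⟩
    rw [← he]
    obtain ⟨hcl, M0, ⟨hM0, hYM0⟩, huniq⟩ := hmo
    set Y' := (Y.subgroupOf H).subgroupOf (L.subgroupOf H)
    have hiso : ∀ M' : Subgroup ↥(L.subgroupOf H),
        IsCoatom (M'.map e.toMonoidHom) ↔ IsCoatom M' := fun M' =>
      (MulEquiv.mapSubgroup e).isCoatom_iff M'
    refine ⟨?_, M0.map e.toMonoidHom, ⟨(hiso M0).mpr hM0, Subgroup.map_mono hYM0⟩, fun M' ⟨h1, h2⟩ => ?_⟩
    · rw [Subgroup.coe_map, ← Subgroup.map_normalClosure (Y' : Set _) e.toMonoidHom e.surjective,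
        hcl, Subgroup.map_top_of_surjective _ e.surjective]
    · have e' : M' = (M'.comap e.toMonoidHom).map e.toMonoidHom :=
        (Subgroup.map_comap_eq_self_of_surjective e.surjective M').symm
      rw [e'] at h1 h2 ⊢
      rw [huniq _ ⟨(hiso _).mp h1, (Subgroup.map_le_map_iff_of_injective e.injective).mp h2⟩]
  · refine H75.charP_iff.mpr fun x hx => ?_
    obtain ⟨hxL, hxc⟩ := Subgroup.mem_inf.mp hx
    have h : (⟨x, hLH hxL⟩ : H) ∈ L.subgroupOf H ⊓
        Subgroup.centralizer (Cfsg.pCoreOf p (L.subgroupOf H) : Set ↥H) := by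
      refine Subgroup.mem_inf.mpr ⟨hxL, Subgroup.mem_centralizer_iff.mpr fun y hy => Subtype.ext ?_⟩
      exact (Subgroup.mem_centralizer_iff.mp hxc) y (hLc ▸ Subgroup.mem_map_of_mem H.subtype hy)
    have h2 := Subgroup.mem_map_of_mem H.subtype (hA.charP_L h)
    rw [hLc] at h2
    exact h2
  · refine lt_of_le_of_ne inf_le_left fun e => hA.norm_lt.ne (inf_eq_left.mpr fun x hx => ?_)
    exact (mem_normalizer_subgroupOf hYH).mpr ((inf_eq_left.mp e) hx)
  · intro V W' hV hHV hHW hlt hchief hnc hres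
    have hVH : V ≤ H := hV.trans (H75.pCoreOf_le H)
    have hWH : W' ≤ H := hlt.le.trans hVH
    haveI := Subgroup.normal_subgroupOf_of_le_normalizer hHV
    haveI := Subgroup.normal_subgroupOf_of_le_normalizer hHW
    refine hA.chief_factor (V := V.subgroupOf H) (W' := W'.subgroupOf H) ?_ ?_ ?_ ?_ ?_
    · intro x hx
      obtain ⟨y, hy, hyx⟩ := hV hx
      rwa [← H.subtype_injective hyx]
    · refine lt_of_le_of_ne (Subgroup.comap_mono hlt.le) fun e => hlt.ne ?_
      rw [← Subgroup.map_subgroupOf_eq_of_le hWH, ← Subgroup.map_subgroupOf_eq_of_le hVH, e]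
    · intro Z hZn hWZ hZV
      have h := hchief (Z.map H.subtype) (fun x hx => by
          rw [← H70.cj_eq_self_iff, show H70.cj x (Z.map H.subtype) =
            (H70.cj (⟨x, hx⟩ : H) Z).map H.subtype from (H75.cj_map_subtype ⟨x, hx⟩ Z).symm,
            show H70.cj (⟨x, hx⟩ : H) Z = Z from Subgroup.Normal.map_conj_eq Z _])
        (fun x hx => ⟨⟨x, hWH hx⟩, hWZ hx, rfl⟩)
        (fun x hx => by obtain ⟨z, hz, rfl⟩ := hx; exact hZV hz)
      refine h.imp (fun e => ?_) (fun e => ?_) <;>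
        rw [← e] <;> exact (Subgroup.comap_map_eq_self_of_injective H.subtype_injective Z).symm
    · intro hle
      apply hnc
      have := Subgroup.map_mono (f := H.subtype) hle
      rwa [Subgroup.map_commutator, Subgroup.map_subgroupOf_eq_of_le hVH,
        Subgroup.map_subgroupOf_eq_of_le hWH, ← MonoidHom.range_eq_map, Subgroup.range_subtype] at this
    · have e : (H75.resOf p (L.subgroupOf H)).map H.subtype =
          (Cfsg.pResidual p ↥L).map L.subtype := by
        rw [H75.map_pResidual_eq_resOf, H75.resOf, H75.resOf, MonoidHom.map_closure]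
        congr 1
        ext x
        constructor
        · rintro ⟨y, ⟨hy, ho⟩, rfl⟩
          exact ⟨hy, by rw [Subgroup.coe_subtype, Subgroup.orderOf_coe]; exact ho⟩
        · rintro ⟨hx, ho⟩
          refine ⟨⟨x, hLH hx⟩, ⟨hx, ?_⟩, rfl⟩
          rwa [Subgroup.orderOf_mk]
      rw [← e] at hres
      refine (Subgroup.map_le_map_iff_of_injective H.subtype_injective).mp ?_
      rw [Subgroup.map_commutator, Subgroup.map_subgroupOf_eq_of_le hVH,
        Subgroup.map_subgroupOf_eq_of_le hWH]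
      exact hres
  · have hkey : Cfsg.pCoreOf p L ⊓ Y ≤ Cfsg.pCoreOf p H := by
      intro x hx
      obtain ⟨hxB, hxY⟩ := Subgroup.mem_inf.mp hx
      have h1 : (⟨x, hYH hxY⟩ : H) ∈ Cfsg.pCoreOf p (L.subgroupOf H) := by
        rw [← hLc] at hxB
        obtain ⟨z, hz, hzx⟩ := hxB
        rwa [show (⟨x, hYH hxY⟩ : H) = z from H.subtype_injective hzx.symm]
      exact ⟨⟨x, hYH hxY⟩, hA.inter_le_core (Subgroup.mem_inf.mpr ⟨h1, hxY⟩), rfl⟩
    haveI : ((Cfsg.pCoreOf p H).subgroupOf L).Normal :=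
      Subgroup.normal_subgroupOf_of_le_normalizer (hLH.trans (H75.le_normalizer_pCoreOf H))
    refine (Subgroup.map_mono (Subgroup.normalClosure_le_normal
      (N := (Cfsg.pCoreOf p H).subgroupOf L) fun x hx => hkey hx)).trans ?_
    rw [Subgroup.subgroupOf_map_subtype]
    exact inf_le_left

end Cfsg.Agent.S2862
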