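import Cfsg.Statements.S2863
import Cfsg.Agent.H76.FrakL

set_option autoImplicit false
open Cfsg

namespace Cfsg.Agent.S2863

/-- Standing hypotheses: G a finite group, S a Sylow p-subgroup, Q a nontrivial large p-subgroup of G contained in S, M a subgroup containing S with the basic property (M ∈ 𝔐_G(S)); Y_M the largest p-reduced normal subgroup of M and M† = M·C_G(Y_M). Let L ∈ 𝔏_G(Y_M) (L ∈ 𝔏_G(Y_M): Y_M ≤ L; O_p(L) is the normal closure in L of Y_M ∩ O_p(L) and normalizes Y_M; L is Y_M-minimal of characteristic p with N_L(Y_M) its unique maximal subgroup over Y_M; and L/O_p(L) ≅ SL₂(q) with q = |Y_M : Y_M ∩ O_p(L)|, or p = 2 and L/O_p(L) is a Suzuki group Sz(q) or dihedral of order 2r, r an odd prime), A = O_p(L), and C = C_{Y_M}(L). Then every element h of L whose order is not a power of p acts without nontrivial fixed points on A/C: for a ∈ A, hah⁻¹a⁻¹ ∈ C implies a ∈ C. -/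
theorem result {G : Type*} [Group G] [Finite G] {p : ℕ} [Fact p.Prime] (S : Sylow p G) (Q : Subgroup G) (hQp : IsPGroup p ↥Q) (hQ1 : Q ≠ ⊥) (hQS : Q ≤ (S : Subgroup G)) (hQ : Cfsg.IsLarge Q) (M : Subgroup G) (hSM : (S : Subgroup G) ≤ M) (hM : Cfsg.IsInFrakM p M) (L : Subgroup G) (hL : Cfsg.IsInFrakL p M L) (h : G) (hh : h ∈ L) (hnp : ¬ ∃ k : ℕ, orderOf h = p ^ k) : ∀ a ∈ (Cfsg.pCoreOf p L), h * a * h⁻¹ * a⁻¹ ∈ (Cfsg.largestPReducedOf p M) ⊓ Subgroup.centralizer ((L : Subgroup G) : Set G) → a ∈ (Cfsg.largestPReducedOf p M) ⊓ Subgroup.centralizer ((L : Subgroup G) : Set G) := by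
  obtain ⟨hctx, hmod⟩ := H76.exists_frakL_model hL
  have hk : (QuotientGroup.mk' (Cfsg.pCore p ↥L)).ker = Cfsg.pCore p ↥L := QuotientGroup.ker_mk' _
  have hw : ¬ ∃ k : ℕ, orderOf (⟨h, hh⟩ : L) = p ^ k := by
    rwa [← Subgroup.orderOf_coe]
  intro a ha hfix
  have haL : a ∈ L := H75.pCoreOf_le L ha
  have haA : (⟨a, haL⟩ : L) ∈ Cfsg.pCore p ↥L := by
    rw [← H76.subgroupOf_pCoreOf]; exact ha
  have hC : ∀ x : L, ((x : G) ∈ Cfsg.largestPReducedOf p M ⊓ Subgroup.centralizer (L : Set G)) ↔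
      x ∈ (Cfsg.largestPReducedOf p M).subgroupOf L ⊓ Subgroup.center ↥L := by
    intro x
    simp only [Subgroup.mem_inf, Subgroup.mem_subgroupOf, Subgroup.mem_centralizer_iff,
      Subgroup.mem_center_iff, SetLike.mem_coe]
    exact ⟨fun ⟨h1, h2⟩ => ⟨h1, fun g => Subtype.ext (h2 g g.2)⟩,
      fun ⟨h1, h2⟩ => ⟨h1, fun g hg => congrArg Subtype.val (h2 ⟨g, hg⟩)⟩⟩
  exact (hC ⟨a, haL⟩).mpr (hctx.isFree (QuotientGroup.mk'_surjective _) hk (hmod _ rfl) hw _ haA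
    ((hC (⟨h, hh⟩ * ⟨a, haL⟩ * ⟨h, hh⟩⁻¹ * ⟨a, haL⟩⁻¹)).mp hfix))

end Cfsg.Agent.S2863
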