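import Cfsg.Statements.S2864
import Cfsg.Agent.H76.CharPTools

set_option autoImplicit false
open Cfsg

namespace Cfsg.Agent.S2864

/-- Standing hypotheses: G a finite group, S a Sylow p-subgroup, Q a nontrivial large p-subgroup of G contained in S, M a subgroup containing S with the basic property (M ∈ 𝔐_G(S)); Y_M the largest p-reduced normal subgroup of M and M† = M·C_G(Y_M). Let I be a nontrivial normal p-subgroup of M and Y ≤ O_p(M†); let L be a subgroup of G containing Y and A a normal p-subgroup of L with I ≤ A ≤ M. If [Y, A] ≤ [I, A], then Y ≤ O_p(L). -/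
theorem result {G : Type*} [Group G] [Finite G] {p : ℕ} [Fact p.Prime] (S : Sylow p G) (Q : Subgroup G) (hQp : IsPGroup p ↥Q) (hQ1 : Q ≠ ⊥) (hQS : Q ≤ (S : Subgroup G)) (hQ : Cfsg.IsLarge Q) (M : Subgroup G) (hSM : (S : Subgroup G) ≤ M) (hM : Cfsg.IsInFrakM p M) (I : Subgroup G) (hI1 : I ≠ ⊥) (hIp : IsPGroup p ↥I) (hIM : I ≤ M ∧ M ≤ Subgroup.normalizer ((I : Subgroup G) : Set G)) (Y : Subgroup G) (hY : Y ≤ (Cfsg.pCoreOf p (M ⊔ Subgroup.centralizer (((Cfsg.largestPReducedOf p M) : Subgroup G) : Set G)))) (L : Subgroup G) (hYL : Y ≤ L) (A : Subgroup G) (hAp : IsPGroup p ↥A) (hAL : A ≤ L ∧ L ≤ Subgroup.normalizer ((A : Subgroup G) : Set G)) (hIA : I ≤ A) (hAM : A ≤ M) (hc : ⁅Y, A⁆ ≤ ⁅I, A⁆) : Y ≤ (Cfsg.pCoreOf p L) := by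
  set Md := M ⊔ Subgroup.centralizer (((Cfsg.largestPReducedOf p M) : Subgroup G) : Set G) with hMd
  obtain ⟨-, -, huniq, -⟩ := hM
  -- the normaliser of I
  set X := Subgroup.normalizer (I : Set G) with hX
  have hIS : I ≤ (S : Subgroup G) := by
    have h1 : IsPGroup p ↥((S : Subgroup G) ⊔ I) :=
      S.isPGroup'.to_sup_of_normal_right' hIp (hSM.trans hIM.2)
    rw [← S.is_maximal' h1 le_sup_left]
    exact le_sup_right
  obtain ⟨z, hzI, hzp, hzS⟩ := H76.exists_central_of_le S.isPGroup' hIS (hSM.trans hIM.2) hI1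
  have hzQ : Subgroup.zpowers z ≤ Subgroup.centralizer (Q : Set G) :=
    Subgroup.zpowers_le.mpr (Subgroup.mem_centralizer_iff.mpr fun q hq => hzS q (hQS hq))
  have hNzQ := hQ.2 _ hzQ (H76.zpowers_ne_bot hzp)
  have hNQ : H76.CharPIn p (Subgroup.normalizer (Q : Set G)) := fun x hx => by
    have hQO : Q ≤ Cfsg.pCoreOf p (Subgroup.normalizer (Q : Set G)) :=
      H76.le_pCoreOf Subgroup.le_normalizer le_rfl hQp
    exact hQO (hQ.1 (Subgroup.centralizer_le hQO hx.2))
  have hCzN : Subgroup.centralizer ({z} : Set G) ≤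
      Subgroup.normalizer ((Subgroup.zpowers z : Subgroup G) : Set G) := by
    rw [← H76.centralizer_zpowers]
    exact Subgroup.centralizer_le_normalizer _
  have hz1 : H76.CharPIn p (Subgroup.centralizer ({z} : Set G)) := by
    have h1 := hNQ.normalizer (P := Subgroup.zpowers z)
      ((Subgroup.le_normalizer).trans hNzQ) (H76.isPGroup_zpowers hzp)
    rw [inf_eq_right.mpr hNzQ] at h1
    refine h1.normal hCzN ?_
    rw [← H76.centralizer_zpowers]
    exact H76.normalizer_le_normalizer_centralizer _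
  have hXchar := H76.charPIn_normalizer_of_central hIp hzI (fun r hr => hzS r (hIS hr)) hz1
  have hIO : I ≤ Cfsg.pCoreOf p X := H76.le_pCoreOf Subgroup.le_normalizer le_rfl hIp
  have hXmem : X ∈ Cfsg.charPSubgroups p G := by
    refine ⟨fun h0 => ?_, fun x hx => ?_⟩
    · rw [Cfsg.pCoreOf, h0, Subgroup.map_bot] at hIO
      exact hI1 (le_bot_iff.mp hIO)
    · exact hXchar ⟨Subgroup.centralizer_le_normalizer _ (Subgroup.centralizer_le hIO hx), hx⟩
  have hXMd : X ≤ Md := by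
    obtain ⟨Z, hXZ, hZ⟩ := (Set.toFinite (Cfsg.charPSubgroups p G)).exists_le_maximal hXmem
    have := huniq Z ⟨hZ.1, fun L hL hle => le_antisymm (hZ.2 hL hle) hle⟩ (hIM.2.trans hXZ)
    exact hXZ.trans this.le
  -- the elements acting trivially on A / [A,A]
  let K : Subgroup G :=
    { carrier := {l | l ∈ L ∧ ∀ a ∈ A, l * a * l⁻¹ * a⁻¹ ∈ ⁅A, A⁆}
      one_mem' := ⟨one_mem _, fun a _ => by simp⟩
      mul_mem' := by
        rintro x y ⟨hx, hx'⟩ ⟨hy, hy'⟩
        refine ⟨mul_mem hx hy, fun a ha => ?_⟩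
        have h1 := (Subgroup.mem_normalizer_iff.mp (hAL.2 hy) a).mp ha
        refine Eq.mp (congrArg (· ∈ ⁅A, A⁆) ?_) (Subgroup.mul_mem _ (hx' _ h1) (hy' a ha))
        group
      inv_mem' := by
        rintro x ⟨hx, hx'⟩
        refine ⟨inv_mem hx, fun a ha => ?_⟩
        have h1 : x⁻¹ * a * x ∈ A := by
          simpa using (Subgroup.mem_normalizer_iff.mp (hAL.2 (inv_mem hx)) a).mp ha
        refine Eq.mp (congrArg (· ∈ ⁅A, A⁆) ?_) (Subgroup.inv_mem _ (hx' _ h1))
        group }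
  have hKn : ∀ l ∈ L, ∀ k ∈ K, l * k * l⁻¹ ∈ K := by
    rintro l hl k ⟨hk, hk'⟩
    refine ⟨L.mul_mem (L.mul_mem hl hk) (L.inv_mem hl), fun a ha => ?_⟩
    have h1 : l⁻¹ * a * l ∈ A := by
      simpa using (Subgroup.mem_normalizer_iff.mp (hAL.2 (L.inv_mem hl)) a).mp ha
    have h2 := (Subgroup.mem_normalizer_iff.mp
      (H76.mem_normalizer_commutator (hAL.2 hl) (hAL.2 hl)) _).mp (hk' _ h1)
    refine Eq.mp (congrArg (· ∈ ⁅A, A⁆) ?_) h2
    group
  have hYK : Y ≤ K := fun y hy => ⟨hYL hy, fun a ha =>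
    Subgroup.commutator_mono hIA le_rfl (hc (Subgroup.commutator_mem_commutator hy ha))⟩
  -- C = C_K(A), W = O_p(C)
  set C := K ⊓ Subgroup.centralizer (A : Set G) with hC
  have hCMd : C ≤ Md := fun c hc' =>
    hXMd (Subgroup.centralizer_le_normalizer _ (Subgroup.centralizer_le hIA hc'.2))
  have hLC : L ≤ Subgroup.normalizer (C : Set G) := by
    intro l hl
    rw [Subgroup.mem_normalizer_iff]
    intro x
    rw [hC, Subgroup.mem_inf, Subgroup.mem_inf]
    refine and_congr ⟨hKn l hl x, fun h => ?_⟩ (Subgroup.mem_normalizer_iff.mp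
      (H76.normalizer_le_normalizer_centralizer A (hAL.2 hl)) x)
    simpa [mul_assoc] using hKn l⁻¹ (L.inv_mem hl) _ h
  set W := Cfsg.pCoreOf p C with hW
  have hLW : L ≤ Subgroup.normalizer (W : Set G) := fun l hl => H76.le_normalizer_pCoreOf (hLC hl)
  set O := Cfsg.pCoreOf p Md with hO
  have hCO : C ⊓ O ≤ W := by
    refine H76.le_pCoreOf inf_le_left ?_ ((H76.isPGroup_pCoreOf Md).to_le inf_le_right)
    intro c hc'
    rw [Subgroup.mem_normalizer_iff]
    intro x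
    rw [Subgroup.mem_inf, Subgroup.mem_inf]
    exact and_congr (Subgroup.mem_normalizer_iff.mp (Subgroup.le_normalizer hc') x)
      (Subgroup.mem_normalizer_iff.mp (H76.self_le_normalizer_pCoreOf Md (hCMd hc')) x)
  let U : Subgroup G :=
    { carrier := {l | l ∈ L ∧ ∀ c ∈ C, l * c * l⁻¹ * c⁻¹ ∈ W}
      one_mem' := ⟨one_mem _, fun a _ => by simp⟩
      mul_mem' := by
        rintro x y ⟨hx, hx'⟩ ⟨hy, hy'⟩
        refine ⟨mul_mem hx hy, fun a ha => ?_⟩
        have h1 := (Subgroup.mem_normalizer_iff.mp (hLC hy) a).mp ha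
        refine Eq.mp (congrArg (· ∈ W) ?_) (Subgroup.mul_mem _ (hx' _ h1) (hy' a ha))
        group
      inv_mem' := by
        rintro x ⟨hx, hx'⟩
        refine ⟨inv_mem hx, fun a ha => ?_⟩
        have h1 : x⁻¹ * a * x ∈ C := by
          simpa using (Subgroup.mem_normalizer_iff.mp (hLC (inv_mem hx)) a).mp ha
        refine Eq.mp (congrArg (· ∈ W) ?_) (Subgroup.inv_mem _ (hx' _ h1))
        group }
  have hUn : ∀ l ∈ L, ∀ k ∈ U, l * k * l⁻¹ ∈ U := by
    rintro l hl k ⟨hk, hk'⟩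
    refine ⟨L.mul_mem (L.mul_mem hl hk) (L.inv_mem hl), fun a ha => ?_⟩
    have h1 : l⁻¹ * a * l ∈ C := by
      simpa using (Subgroup.mem_normalizer_iff.mp (hLC (L.inv_mem hl)) a).mp ha
    refine Eq.mp (congrArg (· ∈ W) ?_) ((Subgroup.mem_normalizer_iff.mp (hLW hl) _).mp (hk' _ h1))
    group
  have hYU : Y ≤ U := by
    intro y hy
    refine ⟨hYL hy, fun c hc' => hCO ⟨?_, ?_⟩⟩
    · exact C.mul_mem ((Subgroup.mem_normalizer_iff.mp (hLC (hYL hy)) c).mp hc') (C.inv_mem hc')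
    · have h1 := (Subgroup.mem_normalizer_iff.mp (H76.self_le_normalizer_pCoreOf Md (hCMd hc')) _).mp
        (Subgroup.inv_mem _ (hY hy))
      have h2 := Subgroup.mul_mem _ (hY hy) h1
      simpa [mul_assoc] using h2
  set Z := K ⊓ U with hZdef
  have hZL : Z ≤ L := fun x hx => hx.1.1
  have hLZ : L ≤ Subgroup.normalizer (Z : Set G) := by
    intro l hl
    rw [Subgroup.mem_normalizer_iff]
    intro x
    refine ⟨fun h => ⟨hKn l hl x h.1, hUn l hl x h.2⟩, fun h => ⟨?_, ?_⟩⟩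
    · simpa [mul_assoc] using hKn l⁻¹ (L.inv_mem hl) _ h.1
    · simpa [mul_assoc] using hUn l⁻¹ (L.inv_mem hl) _ h.2
  let P : Sylow p ↥Z := default
  set P' := (P : Subgroup ↥Z).map Z.subtype with hP'
  have hWP : W ⊓ Z ≤ P' := by
    have hn : ((W ⊓ Z).subgroupOf Z).Normal := by
      refine (Subgroup.normal_subgroupOf_iff_le_normalizer inf_le_right).mpr fun x hx => ?_
      rw [Subgroup.mem_normalizer_iff]
      intro y
      rw [Subgroup.mem_inf, Subgroup.mem_inf]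
      exact and_congr (Subgroup.mem_normalizer_iff.mp (hLW (hZL hx)) y)
        (Subgroup.mem_normalizer_iff.mp (Subgroup.le_normalizer hx) y)
    have hp' : IsPGroup p ↥((W ⊓ Z).subgroupOf Z) :=
      IsPGroup.comap_subtype ((H76.isPGroup_pCoreOf C).to_le inf_le_left)
    intro x hx
    exact ⟨⟨x, hx.2⟩, hp'.le_sylow_of_normal P (Subgroup.mem_subgroupOf.mpr hx), rfl⟩
  have hgen : (P : Subgroup ↥Z) ⊔ C.subgroupOf Z = ⊤ := by
    refine Subgroup.eq_top_of_le_card _ (Nat.le_of_dvd Nat.card_pos ?_)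
    rw [Nat.dvd_iff_prime_pow_dvd_dvd]
    intro q k hq hqk
    by_cases hqp : q = p
    · subst hqp
      refine dvd_trans ?_ (Subgroup.card_dvd_of_le le_sup_left)
      rw [P.card_eq_multiplicity]
      exact pow_dvd_pow q ((hq.pow_dvd_iff_le_factorization Nat.card_pos.ne').mp hqk)
    · have : Fact q.Prime := ⟨hq⟩
      obtain ⟨V, hV⟩ := Sylow.exists_subgroup_card_pow_prime q hqk
      rw [← hV]
      refine Subgroup.card_dvd_of_le (le_trans ?_ le_sup_right)
      intro v hv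
      have hord : (orderOf (v : G)).Coprime p := by
        refine Nat.Coprime.coprime_dvd_left (k := q ^ k) ?_ (((Nat.coprime_primes hq Fact.out).mpr hqp).pow_left k)
        rw [Subgroup.orderOf_coe, ← hV]
        exact Subgroup.orderOf_dvd_natCard V hv
      exact Subgroup.mem_subgroupOf.mpr ⟨v.2.1, H76.mem_centralizer_of_commutator_le hAp
        (hAL.2 (hZL v.2)) hord v.2.1.2⟩
  have hPn : (P : Subgroup ↥Z).Normal := by
    rw [← Subgroup.normalizer_eq_top_iff, ← top_le_iff, ← hgen]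
    refine sup_le Subgroup.le_normalizer fun c hc' => ?_
    have hcC : (c : G) ∈ C := Subgroup.mem_subgroupOf.mp hc'
    have key : ∀ d : ↥Z, (d : G) ∈ C → ∀ x ∈ (P : Subgroup ↥Z), d * x * d⁻¹ ∈ (P : Subgroup ↥Z) := by
      intro d hd x hx
      have h1 : (d : G) * x * (d : G)⁻¹ * (x : G)⁻¹ ∈ W := by
        have := Subgroup.inv_mem _ (x.2.2.2 _ hd)
        simpa [mul_assoc] using this
      have h2 : (d : G) * x * (d : G)⁻¹ * (x : G)⁻¹ ∈ Z := (d * x * d⁻¹ * x⁻¹ : ↥Z).2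
      obtain ⟨w, hw, hwe⟩ := hWP ⟨h1, h2⟩
      have hwe' : w = d * x * d⁻¹ * x⁻¹ := Subtype.ext hwe
      rw [show d * x * d⁻¹ = w * x by rw [hwe']; group]
      exact (P : Subgroup ↥Z).mul_mem hw hx
    rw [Subgroup.mem_normalizer_iff]
    intro x
    refine ⟨key c hcC x, fun h => ?_⟩
    have := key c⁻¹ (by simpa using C.inv_mem hcC) _ h
    simpa [mul_assoc] using this
  have hYp : IsPGroup p ↥Y := (H76.isPGroup_pCoreOf Md).to_le hY
  intro y hy
  have hyP : (⟨y, hYK hy, hYU hy⟩ : ↥Z) ∈ (P : Subgroup ↥Z) := by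
    obtain ⟨Q', hQ'⟩ := (IsPGroup.comap_subtype (K := Z) hYp).exists_le_sylow
    have := Sylow.unique_of_normal P hPn
    have hQP : Q' = P := Subsingleton.elim _ _
    exact hQP ▸ hQ' (Subgroup.mem_subgroupOf.mpr hy)
  have hP'O : P' ≤ Cfsg.pCoreOf p Z := by
    exact Subgroup.map_mono (H1.le_pCore P.isPGroup')
  exact H76.le_pCoreOf ((H76.pCoreOf_le Z).trans hZL)
    (fun l hl => H76.le_normalizer_pCoreOf (hLZ hl)) (H76.isPGroup_pCoreOf Z) (hP'O ⟨_, hyP, rfl⟩)

end Cfsg.Agent.S2864
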