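import Cfsg.Statements.S2872
import Cfsg.Agent.H76.CenterTransfer

set_option autoImplicit false
open Cfsg

namespace Cfsg.Agent.S2872

/-- Let S be a Sylow 2-subgroup of the finite group G. Then G has a proper normal subgroup of 2-power index (O²(G) ≠ G), or Ω₁(Z(S)) is contained in the Frattini subgroup of S, or N_G(S) acts nontrivially on Ω₁(Z(S)) by conjugation. -/
theorem result {G : Type*} [Group G] [Finite G] (S : Sylow 2 G) : Cfsg.pResidual 2 G ≠ ⊤ ∨ Cfsg.omegaOne 2 ((S : Subgroup G) ⊓ Subgroup.centralizer ((S : Subgroup G) : Set G)) ≤ (frattini ↥(S : Subgroup G)).map (S : Subgroup G).subtype ∨ ∃ g ∈ Subgroup.normalizer ((S : Subgroup G) : Set G), ∃ z ∈ Cfsg.omegaOne 2 ((S : Subgroup G) ⊓ Subgroup.centralizer ((S : Subgroup G) : Set G)), g * z * g⁻¹ ≠ z := by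
  classical
  rw [or_iff_not_imp_right]
  intro hnot
  obtain ⟨hnΦ, hcent⟩ := not_or.mp hnot
  push Not at hcent
  set W := Cfsg.omegaOne 2 ((S : Subgroup G) ⊓ Subgroup.centralizer ((S : Subgroup G) : Set G)) with hW
  obtain ⟨z, ⟨⟨hzS, hzC⟩, hz2⟩, hzΦ⟩ : ∃ z ∈ {x : G | x ∈ (S : Subgroup G) ⊓
      Subgroup.centralizer ((S : Subgroup G) : Set G) ∧ x ^ 2 = 1},
      z ∉ (frattini ↥(S : Subgroup G)).map (S : Subgroup G).subtype := by
    by_contra h
    push Not at h
    exact hnΦ ((Subgroup.closure_le _).mpr h)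
  have hzW : z ∈ W := Subgroup.subset_closure ⟨⟨hzS, hzC⟩, hz2⟩
  have hzΦ' : (⟨z, hzS⟩ : ↥(S : Subgroup G)) ∉ frattini ↥(S : Subgroup G) :=
    fun h => hzΦ ⟨_, h, rfl⟩
  rw [frattini, Order.radical] at hzΦ'
  simp only [Subgroup.mem_iInf, not_forall] at hzΦ'
  obtain ⟨M, hM, hzM⟩ := hzΦ'
  have hMn : M.Normal := by
    have : Group.IsNilpotent ↥(S : Subgroup G) := S.isPGroup'.isNilpotent
    exact Subgroup.NormalizerCondition.normal_of_coatom M
      (Group.normalizerCondition_of_isNilpotent (G := ↥(S : Subgroup G))) hM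
  set π := QuotientGroup.mk' M with hπ
  set a := π ⟨z, hzS⟩ with ha
  have ha2 : a ^ 2 = 1 := by
    rw [ha, ← map_pow, show (⟨z, hzS⟩ : ↥(S : Subgroup G)) ^ 2 = 1 from Subtype.ext hz2, map_one]
  have hall : ∀ b, b = 1 ∨ b = a := by
    have htop : (Subgroup.zpowers a).comap π = ⊤ := by
      refine hM.2 _ (lt_of_le_of_ne (fun m hm => ?_) fun he => hzM ?_)
      · rw [Subgroup.mem_comap, hπ, QuotientGroup.mk'_apply, (QuotientGroup.eq_one_iff m).mpr hm]
        exact Subgroup.one_mem _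
      · rw [he, Subgroup.mem_comap]
        exact Subgroup.mem_zpowers _
    intro b
    obtain ⟨y, rfl⟩ := QuotientGroup.mk'_surjective M b
    have : y ∈ (Subgroup.zpowers a).comap π := htop ▸ Subgroup.mem_top y
    obtain ⟨i, hi⟩ := Subgroup.mem_zpowers_iff.mp this
    obtain ⟨j, rfl | rfl⟩ := Int.even_or_odd' i
    · left
      rw [← hi, zpow_mul, zpow_ofNat, ha2, one_zpow]
    · right
      rw [← hi, zpow_add, zpow_mul, zpow_ofNat, ha2, one_zpow, one_mul, zpow_one]
  have ha1 : a ≠ 1 := fun h => hzM ((QuotientGroup.eq_one_iff _).mp h)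
  let _ : CommGroup (↥(S : Subgroup G) ⧸ M) :=
    { (inferInstance : Group (↥(S : Subgroup G) ⧸ M)) with
      mul_comm := fun x y => by
        rcases hall x with rfl | rfl <;> rcases hall y with rfl | rfl <;> simp }
  have hV := H76.transfer_central_involution S π a hall z hzS
    (fun s hs => Subgroup.mem_centralizer_iff.mp hzC s hs) hz2
    (fun g hg => hcent g hg z hzW) rfl ha1
  intro htop
  apply ha1
  have hle : Cfsg.pResidual 2 G ≤ (MonoidHom.transfer π).ker := by
    rw [Cfsg.pResidual, Subgroup.closure_le]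
    intro g hg
    rw [SetLike.mem_coe, MonoidHom.mem_ker]
    have h1 : (MonoidHom.transfer π g) ^ orderOf g = 1 := by
      rw [← map_pow, pow_orderOf_eq_one, map_one]
    have h2 : (MonoidHom.transfer π g) ^ 2 = 1 := by
      rcases hall (MonoidHom.transfer π g) with h | h <;> rw [h]
      · exact one_pow _
      · exact ha2
    have h3 := Nat.dvd_gcd (orderOf_dvd_of_pow_eq_one h1) (orderOf_dvd_of_pow_eq_one h2)
    rw [show Nat.gcd (orderOf g) 2 = 1 from hg] at h3
    exact orderOf_eq_one_iff.mp (Nat.eq_one_of_dvd_one h3)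
  rw [← hV]
  exact hle (htop ▸ Subgroup.mem_top z)

end Cfsg.Agent.S2872
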