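import Cfsg.Statements.S2881
import Cfsg.Agent.H76.Extraspecial

set_option autoImplicit false
open Cfsg

namespace Cfsg.Agent.S2881

/-- Let E be an extraspecial 2-group of order 2^(2m+1) of plus type (containing an elementary abelian subgroup of order 2^(m+1)), and let ω be an automorphism of E of order 5 whose fixed points are exactly the centre of E. Then m is divisible by 4. -/
theorem result {E : Type*} [Group E] [Finite E] (m : ℕ) (hm : 1 ≤ m) (hE : Cfsg.IsExtraspecial 2 E) (hcard : Nat.card E = 2 ^ (2 * m + 1)) (hplus : ∃ A : Subgroup E, Cfsg.IsElementaryAbelian 2 A ∧ Nat.card A = 2 ^ (m + 1)) (ω : E ≃* E) (hω : orderOf ω = 5) (hfix : ∀ x : E, ω x = x ↔ x ∈ Subgroup.center E) : 4 ∣ m := by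
  have hcount := H76.extraspecial_card_orderOf_four hE hcard hplus
  have hfive : Fact (Nat.Prime 5) := ⟨by norm_num⟩
  have hmap : ∀ x : E, ∀ i : ℤ, orderOf ((ω ^ i : MulAut E) x) = orderOf x := fun x i =>
    MulEquiv.orderOf_eq _ x
  let σ : Equiv.Perm {x : E // orderOf x = 4} :=
    (ω.toEquiv).subtypeEquiv fun x => by simp [MulEquiv.orderOf_eq]
  have hσ5 : σ ^ (5 : ℕ) ^ 1 = 1 := by
    ext x
    have h5 : (ω : MulAut E) ^ 5 = 1 := by rw [← hω]; exact pow_orderOf_eq_one _
    have key : ∀ (i : ℕ) (y : {x : E // orderOf x = 4}), ((σ ^ i) y : E) = ((ω : MulAut E) ^ i) (y : E) := by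
      intro i
      induction i with
      | zero => intro y; rfl
      | succ i ih =>
        intro y
        rw [pow_succ', pow_succ', Equiv.Perm.mul_apply, MulAut.mul_apply, ← ih y]
        rfl
    rw [key, pow_one, h5]
    rfl
  classical
  have : Fintype {x : E // orderOf x = 4} := Fintype.ofFinite _
  have hfp : ∀ y : {x : E // orderOf x = 4}, σ y ≠ y := by
    rintro ⟨x, hx⟩ h
    have hxc : x ∈ Subgroup.center E := (hfix x).mp (congrArg Subtype.val h)
    have h2 : x ^ 2 = 1 := by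
      rw [← hE.2]
      exact congrArg Subtype.val (pow_card_eq_one' (x := (⟨x, hxc⟩ : ↥(Subgroup.center E))))
    have := Nat.le_of_dvd two_pos (orderOf_dvd_of_pow_eq_one h2)
    omega
  have hdvd : 5 ∣ Fintype.card {x : E // orderOf x = 4} := by
    by_contra hn
    obtain ⟨y, hy⟩ := Equiv.Perm.exists_fixed_point_of_prime hn hσ5
    exact hfp y hy
  rw [← Nat.card_eq_fintype_card, hcount] at hdvd
  have h1 : 2 ^ (2 * m) - 2 ^ m = 2 ^ m * (2 ^ m - 1) := by
    rw [Nat.mul_sub_left_distrib, mul_one, ← pow_add, two_mul]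
  rw [h1] at hdvd
  have h5 : (5 : ℕ).Coprime (2 ^ m) := (by norm_num : Nat.Coprime 5 2).pow_right m
  have h6 := h5.dvd_of_dvd_mul_left hdvd
  obtain ⟨k, r, hr, rfl⟩ : ∃ k r, r < 4 ∧ m = 4 * k + r := ⟨m / 4, m % 4, Nat.mod_lt _ (by norm_num), (Nat.div_add_mod m 4).symm⟩
  have hp : 2 ^ (4 * k + r) % 5 = 2 ^ r % 5 := by
    rw [pow_add, pow_mul, Nat.mul_mod, Nat.pow_mod]
    norm_num
  have hpos : 0 < 2 ^ (4 * k + r) := pow_pos (by norm_num) _
  interval_cases r <;> norm_num at hp ⊢ <;> omega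

end Cfsg.Agent.S2881
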