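import Cfsg.Statements.S2896
import Cfsg.Agent.H76.CharPFStar

set_option autoImplicit false
open Cfsg

namespace Cfsg.Agent.S2896

/-- Let p be a prime dividing the order of the finite group G, S a Sylow p-subgroup of G and X a subgroup of S. (i) If some nontrivial element z of the centre of X has F*(C_G(z)) = O_p(C_G(z)), then F*(N_G(X)) = O_p(N_G(X)). (ii) G has parabolic characteristic p if and only if F*(C_G(z)) = O_p(C_G(z)) for every nontrivial z ∈ Ω₁(Z(S)). (iii) If F*(C_G(z)) = O_p(C_G(z)) for every element z of S of order p, then G has local characteristic p. -/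
theorem result {G : Type*} [Group G] [Finite G] {p : ℕ} [Fact p.Prime] (hdiv : p ∣ Nat.card G) (S : Sylow p G) (X : Subgroup G) (hX : X ≤ (S : Subgroup G)) : (∀ z : G, z ≠ 1 → z ∈ X → (∀ x ∈ X, x * z = z * x) → Cfsg.generalizedFittingSubgroup ↥(Subgroup.centralizer ({z} : Set G)) = Cfsg.pCore p ↥(Subgroup.centralizer ({z} : Set G)) → Cfsg.generalizedFittingSubgroup ↥(Subgroup.normalizer (X : Set G)) = Cfsg.pCore p ↥(Subgroup.normalizer (X : Set G))) ∧ (Cfsg.IsOfParabolicCharacteristic p G ↔ ∀ z : G, z ≠ 1 → z ∈ Cfsg.omegaOne p ((S : Subgroup G) ⊓ Subgroup.centralizer ((S : Subgroup G) : Set G)) → Cfsg.generalizedFittingSubgroup ↥(Subgroup.centralizer ({z} : Set G)) = Cfsg.pCore p ↥(Subgroup.centralizer ({z} : Set G))) ∧ ((∀ z : G, z ∈ (S : Subgroup G) → orderOf z = p → Cfsg.generalizedFittingSubgroup ↥(Subgroup.centralizer ({z} : Set G)) = Cfsg.pCore p ↥(Subgroup.centralizer ({z} : Set G))) → Cfsg.IsOfLocalCharacteristic p G) := by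
  refine ⟨?_, ⟨?_, ?_⟩, ?_⟩
  · intro z _ hzX hzc h
    rw [H76.fStar_subgroup_eq_iff] at h ⊢
    exact H76.charPIn_normalizer_of_central (S.isPGroup'.to_le hX) hzX hzc h
  · intro hG z hz1 hz
    rw [H76.fStar_subgroup_eq_iff]
    obtain ⟨⟨-, hzC⟩, hzp⟩ := H76.pow_eq_one_of_mem_omegaOne
      (H := (S : Subgroup G) ⊓ Subgroup.centralizer ((S : Subgroup G) : Set G))
      (fun x hx y hy => (Subgroup.mem_centralizer_iff.mp hx.2 y hy.1).symm) hz
    exact H76.charPIn_centralizer_of_parabolic hG (orderOf_eq_prime hzp hz1) S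
      (Subgroup.mem_centralizer_iff.mp hzC)
  · intro h R hR hR1 hpar
    obtain ⟨T, hT⟩ := hpar
    refine (H76.charPIn_iff _).mp ?_
    have hRT : R ≤ (T : Subgroup G) := by
      have h1 : IsPGroup p ↥((T : Subgroup G) ⊔ R) := T.isPGroup'.to_sup_of_normal_right' hR hT
      rw [← T.is_maximal' h1 le_sup_left]
      exact le_sup_right
    obtain ⟨z, hzR, hzp, hzT⟩ := H76.exists_central_of_le T.isPGroup' hRT hT hR1
    refine H76.charPIn_normalizer_of_central hR hzR (fun r hr => hzT r (hRT hr)) ?_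
    obtain ⟨g, hg⟩ := MulAction.exists_smul_eq G T S
    have hmem : ∀ t ∈ (T : Subgroup G), g * t * g⁻¹ ∈ (S : Subgroup G) := fun t ht => by
      rw [← hg, Sylow.coe_subgroup_smul, Subgroup.mem_pointwise_smul_iff_inv_smul_mem]
      simpa [mul_assoc] using ht
    refine H76.charPIn_centralizer_conj g ((H76.fStar_subgroup_eq_iff _).mp (h _ ?_ ?_))
    · intro h1
      have h2 := H76.orderOf_conj g z
      rw [h1, hzp, orderOf_one] at h2
      exact (Fact.out : p.Prime).ne_one h2.symm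
    · refine Subgroup.subset_closure ⟨⟨hmem z (hRT hzR), Subgroup.mem_centralizer_iff.mpr fun s hs => ?_⟩, ?_⟩
      · rw [SetLike.mem_coe, ← hg, Sylow.coe_subgroup_smul, Subgroup.mem_pointwise_smul_iff_inv_smul_mem] at hs
        have ht : g⁻¹ * s * g ∈ (T : Subgroup G) := by simpa [mul_assoc] using hs
        calc s * (g * z * g⁻¹) = g * ((g⁻¹ * s * g) * z) * g⁻¹ := by group
          _ = g * (z * (g⁻¹ * s * g)) * g⁻¹ := by rw [hzT _ ht]
          _ = g * z * g⁻¹ * s := by group
      · rw [conj_pow, ← hzp, pow_orderOf_eq_one, mul_one, mul_inv_cancel]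
  · intro h
    refine ⟨hdiv, fun T hT hT1 => (H76.charPIn_iff _).mp ?_⟩
    obtain ⟨z, hzT, hzp, hz⟩ := H76.exists_central_orderOf_eq hT hT1
    refine H76.charPIn_normalizer_of_central hT hzT hz ?_
    obtain ⟨P, hP⟩ := hT.exists_le_sylow
    obtain ⟨g, hg⟩ := MulAction.exists_smul_eq G P S
    refine H76.charPIn_centralizer_conj g ((H76.fStar_subgroup_eq_iff _).mp (h _ ?_ ?_))
    · rw [← hg, Sylow.coe_subgroup_smul, Subgroup.mem_pointwise_smul_iff_inv_smul_mem]
      simpa [mul_assoc] using hP hzT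
    · rw [H76.orderOf_conj, hzp]

end Cfsg.Agent.S2896
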