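import Cfsg.Statements.S2897
import Cfsg.Agent.H76.CharPTools

set_option autoImplicit false
open Cfsg

namespace Cfsg.Agent.S2897

/-- Let p be a prime dividing the order of the finite group G, suppose G has parabolic characteristic p, let S be a Sylow p-subgroup of G and G₁ a normal subgroup of G. If Ω₁(Z(S ∩ G₁)) is nontrivial and contained in Ω₁(Z(S)), then G₁ has parabolic characteristic p. -/
theorem result {G : Type*} [Group G] [Finite G] {p : ℕ} [Fact p.Prime] (hdiv : p ∣ Nat.card G) (hG : Cfsg.IsOfParabolicCharacteristic p G) (S : Sylow p G) (G₁ : Subgroup G) [G₁.Normal] (hne : Cfsg.omegaOne p (((S : Subgroup G) ⊓ G₁) ⊓ Subgroup.centralizer (((S : Subgroup G) ⊓ G₁ : Subgroup G) : Set G)) ≠ ⊥) (hle : Cfsg.omegaOne p (((S : Subgroup G) ⊓ G₁) ⊓ Subgroup.centralizer (((S : Subgroup G) ⊓ G₁ : Subgroup G) : Set G)) ≤ Cfsg.omegaOne p ((S : Subgroup G) ⊓ Subgroup.centralizer ((S : Subgroup G) : Set G))) : Cfsg.IsOfParabolicCharacteristic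 p ↥G₁ := by
  intro R hR hR1 hpar
  obtain ⟨T, hT⟩ := hpar
  -- R is a normal subgroup of T
  have hRT : R ≤ (T : Subgroup ↥G₁) := by
    have h1 : IsPGroup p ↥((T : Subgroup ↥G₁) ⊔ R) :=
      T.isPGroup'.to_sup_of_normal_right' hR hT
    rw [← T.is_maximal' h1 le_sup_left]
    exact le_sup_right
  obtain ⟨z, hzR, hzp, hzT⟩ := H76.exists_central_of_le T.isPGroup' hRT hT hR1
  obtain ⟨P, hP⟩ := (T.isPGroup'.map G₁.subtype).exists_le_sylow
  obtain ⟨g, hg⟩ := MulAction.exists_smul_eq G S P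
  have hPmem : ∀ x : G, x ∈ (P : Subgroup G) ↔ g⁻¹ * x * g ∈ (S : Subgroup G) := fun x => by
    rw [← hg, Sylow.coe_subgroup_smul, Subgroup.mem_pointwise_smul_iff_inv_smul_mem]
    simp [mul_assoc]
  -- the trace of P on G₁ is T
  have hPT : ∀ x : G, x ∈ (P : Subgroup G) → ∀ hx : x ∈ G₁, (⟨x, hx⟩ : G₁) ∈ (T : Subgroup ↥G₁) := by
    intro x hxP hx
    have h1 : IsPGroup p ↥((P : Subgroup G).subgroupOf G₁) := IsPGroup.comap_subtype P.isPGroup'
    have h2 := T.is_maximal' h1 (fun t ht => Subgroup.mem_subgroupOf.mpr (hP ⟨t, ht, rfl⟩))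
    rw [← h2]
    exact Subgroup.mem_subgroupOf.mpr hxP
  set z' := g⁻¹ * (z : G) * g with hz'
  have hz'G₁ : z' ∈ G₁ := by
    have := Subgroup.Normal.conj_mem (H := G₁) inferInstance (z : G) z.2 g⁻¹
    simpa [hz'] using this
  have hz'S : z' ∈ (S : Subgroup G) := (hPmem _).mp (hP ⟨z, hRT hzR, rfl⟩)
  have hz'p : z' ^ p = 1 := by
    rw [hz', show g⁻¹ * (z : G) * g = g⁻¹ * (z : G) * g⁻¹⁻¹ by rw [inv_inv], conj_pow,
      show (z : G) ^ p = 1 by rw [← hzp, ← Subgroup.orderOf_coe, pow_orderOf_eq_one]]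
    simp
  have hz'cent : z' ∈ Subgroup.centralizer (((S : Subgroup G) ⊓ G₁ : Subgroup G) : Set G) := by
    rw [Subgroup.mem_centralizer_iff]
    rintro y ⟨hyS, hyG⟩
    have hy' : g * y * g⁻¹ ∈ G₁ := Subgroup.Normal.conj_mem inferInstance y hyG g
    have hyP : g * y * g⁻¹ ∈ (P : Subgroup G) := (hPmem _).mpr (by
      rw [show g⁻¹ * (g * y * g⁻¹) * g = y by group]
      exact hyS)
    have hc : g * y * g⁻¹ * (z : G) = (z : G) * (g * y * g⁻¹) :=
      congrArg Subtype.val (hzT ⟨_, hy'⟩ (hPT _ hyP hy'))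
    calc y * z' = g⁻¹ * (g * y * g⁻¹ * (z : G)) * g := by rw [hz']; group
      _ = g⁻¹ * ((z : G) * (g * y * g⁻¹)) * g := by rw [hc]
      _ = z' * y := by rw [hz']; group
  have hz'Z : z' ∈ (S : Subgroup G) ⊓ Subgroup.centralizer ((S : Subgroup G) : Set G) := by
    have h1 : z' ∈ Cfsg.omegaOne p ((S : Subgroup G) ⊓ Subgroup.centralizer ((S : Subgroup G) : Set G)) :=
      hle (Subgroup.subset_closure ⟨⟨⟨hz'S, hz'G₁⟩, hz'cent⟩, hz'p⟩)
    exact (Subgroup.closure_le _).mpr (fun x hx => hx.1) h1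
  have hzP : ∀ s ∈ (P : Subgroup G), s * (z : G) = (z : G) * s := by
    intro s hs
    have hc := Subgroup.mem_centralizer_iff.mp hz'Z.2 _ ((hPmem s).mp hs)
    calc s * (z : G) = g * ((g⁻¹ * s * g) * z') * g⁻¹ := by rw [hz']; group
      _ = g * (z' * (g⁻¹ * s * g)) * g⁻¹ := by rw [hc]
      _ = (z : G) * s := by rw [hz']; group
  have hC := H76.charPIn_centralizer_of_parabolic hG (by rw [Subgroup.orderOf_coe, hzp]) P hzP
  set R' := R.map G₁.subtype with hR'
  have hN := H76.charPIn_normalizer_of_central (R := R') (hR.map _) (⟨z, hzR, rfl⟩ : (z : G) ∈ R')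
    (by
      rintro _ ⟨r, hr, rfl⟩
      exact congrArg Subtype.val (hzT r (hRT hr))) hC
  have hmap : (Subgroup.normalizer (R : Set ↥G₁)).map G₁.subtype
      = Subgroup.normalizer (R' : Set G) ⊓ G₁ := by
    ext x
    constructor
    · rintro ⟨y, hy, rfl⟩
      exact ⟨Subgroup.le_normalizer_map _ ⟨y, hy, rfl⟩, y.2⟩
    · rintro ⟨hx, hxG⟩
      refine ⟨⟨x, hxG⟩, ?_, rfl⟩
      rw [SetLike.mem_coe, Subgroup.mem_normalizer_iff]
      intro y
      have := Subgroup.mem_normalizer_iff.mp hx (y : G)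
      constructor
      · intro hy
        obtain ⟨w, hw, hwe⟩ := this.mp ⟨y, hy, rfl⟩
        rwa [show (⟨x, hxG⟩ : ↥G₁) * y * ⟨x, hxG⟩⁻¹ = w from Subtype.ext hwe.symm]
      · intro hy
        obtain ⟨w, hw, hwe⟩ := this.mpr ⟨_, hy, rfl⟩
        rwa [← Subtype.ext (a1 := w) (a2 := y) hwe]
  refine (H76.charPIn_iff _).mp (H76.CharPIn.of_map G₁.subtype G₁.subtype_injective ?_)
  rw [hmap]
  refine hN.normal inf_le_left fun x hx => ?_
  rw [Subgroup.mem_normalizer_iff]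
  intro y
  rw [Subgroup.mem_inf, Subgroup.mem_inf]
  exact and_congr (Subgroup.mem_normalizer_iff.mp (Subgroup.le_normalizer hx) y)
    ⟨fun h => Subgroup.Normal.conj_mem inferInstance y h x, fun h => by
      simpa [mul_assoc] using Subgroup.Normal.conj_mem (H := G₁) inferInstance _ h x⁻¹⟩

end Cfsg.Agent.S2897
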