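import Cfsg.Statements.S2898
import Cfsg.Agent.H76.CharPTools

set_option autoImplicit false
open Cfsg

namespace Cfsg.Agent.S2898

/-- Let G be a finite group of even order with parabolic characteristic 2. If the centre of G ⧸ O(G) is trivial, then O(G) = 1. -/
theorem result {G : Type*} [Group G] [Finite G] (h2 : 2 ∣ Nat.card G) (hG : Cfsg.IsOfParabolicCharacteristic 2 G) [hN : (Cfsg.oddCore G).Normal] (hZ : Subgroup.center (G ⧸ Cfsg.oddCore G) = ⊥) : Cfsg.oddCore G = ⊥ := by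
  have : Fact (Nat.Prime 2) := ⟨Nat.prime_two⟩
  set N := Cfsg.oddCore G with hNdef
  by_contra hN1
  let S : Sylow 2 G := default
  have hNodd : (Nat.card N).Coprime 2 := H1.card_pPrimeCore_coprime 2 G
  have hNone : ∀ x ∈ N, x ^ 2 = 1 → x = 1 := fun x hx h =>
    orderOf_eq_one_iff.mp (Nat.eq_one_of_dvd_coprimes hNodd (Subgroup.orderOf_dvd_natCard N hx)
      (orderOf_dvd_of_pow_eq_one h))
  have hS1 : (S : Subgroup G) ≠ ⊥ := S.ne_bot_of_dvd_card h2
  have inverts : ∀ w ∈ (S : Subgroup G), orderOf w = 2 → (∀ s ∈ (S : Subgroup G), s * w = w * s) →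
      ∀ x ∈ N, w * x * w⁻¹ = x⁻¹ := by
    intro w _ hw hws
    set C := Subgroup.centralizer ({w} : Set G) with hC
    have hchar := H76.charPIn_centralizer_of_parabolic hG hw S hws
    have htriv : ∀ x ∈ N, x * w = w * x → x = 1 := by
      intro x hx hxw
      have hnorm : C ≤ Subgroup.normalizer ((N ⊓ C : Subgroup G) : Set G) := fun c hc => by
        rw [Subgroup.mem_normalizer_iff]
        intro y
        rw [Subgroup.mem_inf, Subgroup.mem_inf]
        refine and_congr ⟨fun h => hN.conj_mem y h c, fun h => ?_⟩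
          (Subgroup.mem_normalizer_iff.mp (Subgroup.le_normalizer hc) y)
        simpa [mul_assoc] using hN.conj_mem _ h c⁻¹
      have hxO : x ∈ Cfsg.pCoreOf 2 C := by
        refine hchar ⟨Subgroup.mem_centralizer_singleton_iff.mpr hxw,
          Subgroup.mem_centralizer_iff.mpr fun y hy => ?_⟩
        have hyC : y ∈ C := H76.pCoreOf_le C hy
        have h1 : y * x * y⁻¹ * x⁻¹ ∈ N := N.mul_mem (hN.conj_mem x hx y) (N.inv_mem hx)
        have h2 : y * x * y⁻¹ * x⁻¹ ∈ Cfsg.pCoreOf 2 C := by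
          have := (Subgroup.mem_normalizer_iff.mp (H76.self_le_normalizer_pCoreOf C
            (Subgroup.mem_centralizer_singleton_iff.mpr hxw)) _).mp (Subgroup.inv_mem _ hy)
          simpa [mul_assoc] using Subgroup.mul_mem _ hy this
        have h3 := H76.eq_one_of_mem_pgroup (H76.isPGroup_pCoreOf C) h2
          (hNodd.coprime_dvd_left (Subgroup.orderOf_dvd_natCard N h1))
        rw [mul_inv_eq_one, mul_inv_eq_iff_eq_mul] at h3
        exact h3
      exact H76.eq_one_of_mem_pgroup (H76.isPGroup_pCoreOf C) hxO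
        (hNodd.coprime_dvd_left (Subgroup.orderOf_dvd_natCard N hx))
    have hw2 : w * w = 1 := by rw [← pow_two, ← hw, pow_orderOf_eq_one]
    have hwi : w⁻¹ = w := inv_eq_of_mul_eq_one_right hw2
    let f : N → N := fun n => ⟨(n : G)⁻¹ * (w * n * w⁻¹),
      N.mul_mem (N.inv_mem n.2) (hN.conj_mem _ n.2 w)⟩
    have hf : Function.Injective f := by
      intro a b hab
      have h : (a : G)⁻¹ * (w * a * w⁻¹) = (b : G)⁻¹ * (w * b * w⁻¹) := congrArg Subtype.val hab
      have h' : ((b : G) * (a : G)⁻¹) * w = w * ((b : G) * (a : G)⁻¹) := by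
        calc (b : G) * (a : G)⁻¹ * w
            = (b : G) * ((a : G)⁻¹ * (w * a * w⁻¹)) * w * (a : G)⁻¹ := by group
          _ = (b : G) * ((b : G)⁻¹ * (w * b * w⁻¹)) * w * (a : G)⁻¹ := by rw [h]
          _ = _ := by group
      exact Subtype.ext (mul_inv_eq_one.mp (htriv _ (N.mul_mem b.2 (N.inv_mem a.2)) h')).symm
    intro x hx
    obtain ⟨n, hn⟩ := (Finite.injective_iff_surjective.mp hf) ⟨x, hx⟩
    have hn' : (n : G)⁻¹ * (w * n * w⁻¹) = x := congrArg Subtype.val hn
    calc w * x * w⁻¹ = w * (n : G)⁻¹ * (w * n * (w⁻¹ * w⁻¹)) := by rw [← hn']; group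
      _ = (w⁻¹ * (n : G)⁻¹ * w * n) := by rw [hwi, hw2]; group
      _ = ((n : G)⁻¹ * (w⁻¹ * n * w))⁻¹ := by group
      _ = x⁻¹ := by rw [hwi] at hn' ⊢; rw [hn']
  obtain ⟨z, hzS, hz2, hzc⟩ := H76.exists_central_orderOf_eq S.isPGroup' hS1
  have hzinv := inverts z hzS hz2 hzc
  set C := Subgroup.centralizer (N : Set G) with hC
  have hCn : C.Normal := inferInstance
  have hCN : C ≤ N := by
    refine H1.le_pPrimeCore ?_
    refine ((Nat.prime_two.coprime_iff_not_dvd).mpr fun hdvd => ?_).symm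
    obtain ⟨⟨c, hc⟩, hc2⟩ := exists_prime_orderOf_dvd_card' 2 hdvd
    rw [Subgroup.orderOf_mk] at hc2
    obtain ⟨P, hP⟩ := (H76.isPGroup_zpowers hc2).exists_le_sylow
    obtain ⟨g, hg⟩ := MulAction.exists_smul_eq G P S
    have hmem : g * c * g⁻¹ ∈ (S : Subgroup G) := by
      rw [← hg, Sylow.coe_subgroup_smul, Subgroup.mem_pointwise_smul_iff_inv_smul_mem]
      have := hP (Subgroup.mem_zpowers c)
      simpa [mul_assoc] using this
    have hne : C ⊓ (S : Subgroup G) ≠ ⊥ := by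
      intro h
      have : g * c * g⁻¹ ∈ (⊥ : Subgroup G) := h ▸ ⟨hCn.conj_mem c hc g, hmem⟩
      rw [Subgroup.mem_bot, conj_eq_one_iff] at this
      rw [this, orderOf_one] at hc2
      omega
    obtain ⟨w, hw, hw2, hwc⟩ := H76.exists_central_of_le S.isPGroup' inf_le_right (fun s hs => by
      rw [Subgroup.mem_normalizer_iff]
      intro y
      rw [Subgroup.mem_inf, Subgroup.mem_inf]
      exact and_congr ⟨fun h => hCn.conj_mem y h s, fun h => by
          simpa [mul_assoc] using hCn.conj_mem _ h s⁻¹⟩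
        (Subgroup.mem_normalizer_iff.mp (Subgroup.le_normalizer hs) y)) hne
    apply hN1
    rw [eq_bot_iff]
    intro x hx
    refine Subgroup.mem_bot.mpr (hNone x hx ?_)
    have h1 := inverts w hw.2 hw2 hwc x hx
    rw [← Subgroup.mem_centralizer_iff.mp hw.1 x hx, mul_inv_cancel_right] at h1
    rw [pow_two]
    exact mul_eq_one_iff_eq_inv.mpr h1
  have hzN : z ∈ N := by
    have hcen : QuotientGroup.mk' N z ∈ Subgroup.center (G ⧸ N) := by
      rw [Subgroup.mem_center_iff]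
      intro q
      obtain ⟨g, rfl⟩ := QuotientGroup.mk'_surjective N q
      have hmem : g * z * g⁻¹ * z⁻¹ ∈ N := by
        refine hCN (Subgroup.mem_centralizer_iff.mpr fun x hx => ?_)
        have h1 : z⁻¹ * x * z = x⁻¹ := by
          have h := hzinv x⁻¹ (N.inv_mem hx)
          rw [inv_inv] at h
          calc z⁻¹ * x * z = z⁻¹ * (z * x⁻¹ * z⁻¹) * z := by rw [h]
            _ = x⁻¹ := by group
        have h2 : g * z * g⁻¹ * x⁻¹ * (g * z * g⁻¹)⁻¹ = x := by
          have hy : g⁻¹ * x⁻¹ * g ∈ N := by simpa using hN.conj_mem _ (N.inv_mem hx) g⁻¹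
          calc g * z * g⁻¹ * x⁻¹ * (g * z * g⁻¹)⁻¹ = g * (z * (g⁻¹ * x⁻¹ * g) * z⁻¹) * g⁻¹ := by group
            _ = g * (g⁻¹ * x⁻¹ * g)⁻¹ * g⁻¹ := by rw [hzinv _ hy]
            _ = x := by group
        calc x * (g * z * g⁻¹ * z⁻¹)
            = (g * z * g⁻¹ * x⁻¹ * (g * z * g⁻¹)⁻¹) * (g * z * g⁻¹ * z⁻¹) := by rw [h2]
          _ = g * z * g⁻¹ * x⁻¹ * z⁻¹ := by group
          _ = g * z * g⁻¹ * (z⁻¹ * x * z) * z⁻¹ := by rw [h1]
          _ = g * z * g⁻¹ * z⁻¹ * x := by group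
      have h0 := (QuotientGroup.eq_one_iff (N := N) _).mpr hmem
      rw [← map_mul, ← map_mul, show g * z = (g * z * g⁻¹ * z⁻¹) * (z * g) by group, map_mul,
        QuotientGroup.mk'_apply, h0, one_mul]
    rw [hZ, Subgroup.mem_bot] at hcen
    exact (QuotientGroup.eq_one_iff z).mp hcen
  have := hNone z hzN (by rw [← hz2, pow_orderOf_eq_one])
  rw [this, orderOf_one] at hz2
  omega

end Cfsg.Agent.S2898
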