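import Cfsg.Statements.S2904
import Cfsg.Agent.H76.Zsigmondy

set_option autoImplicit false
open Cfsg

namespace Cfsg.Agent.S2904

/-- Zsigmondy's Theorem: for natural numbers a > 1 and n > 1 there is a prime dividing aⁿ − 1 that divides aᵏ − 1 for no natural number 0 < k < n, unless a = 2 and n = 6, or n = 2 and a + 1 is a power of two. -/
theorem result (a n : ℕ) (ha : 1 < a) (hn : 1 < n) (h6 : ¬ (a = 2 ∧ n = 6)) (h2 : ¬ (n = 2 ∧ ∃ m : ℕ, a + 1 = 2 ^ m)) : ∃ r : ℕ, r.Prime ∧ r ∣ a ^ n - 1 ∧ ∀ k : ℕ, 0 < k → k < n → ¬ r ∣ a ^ k - 1 := by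
  suffices h : ∃ r : ℕ, r.Prime ∧ r ∣ a ^ n - 1 ∧ orderOf (a : ZMod r) = n by
    obtain ⟨r, hr, hd, ho⟩ := h
    refine ⟨r, hr, hd, fun k hk hkn hdk => ?_⟩
    haveI : Fact r.Prime := ⟨hr⟩
    have h1 : (a : ZMod r) ^ k = 1 := by
      rw [← ZMod.natCast_eq_zero_iff, Nat.cast_sub (Nat.one_le_pow _ _ (by omega)), sub_eq_zero] at hdk
      simpa using hdk
    have := Nat.le_of_dvd hk (orderOf_dvd_of_pow_eq_one h1)
    omega
  rcases Nat.lt_or_ge n 3 with hn3 | hn3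
  · obtain rfl : n = 2 := by omega
    obtain ⟨r, hr, hr2, hra⟩ : ∃ r : ℕ, r.Prime ∧ r ≠ 2 ∧ r ∣ a + 1 := by
      by_contra hall
      push Not at hall
      exact h2 ⟨rfl, _, Nat.eq_prime_pow_of_unique_prime_dvd (by omega) fun {d} hd hdd =>
        by_contra fun hne => hall d hd hne hdd⟩
    haveI : Fact r.Prime := ⟨hr⟩
    have hm : (a : ZMod r) = -1 := by
      rw [← ZMod.natCast_eq_zero_iff] at hra; push_cast at hra; linear_combination hra
    refine ⟨r, hr, ?_, orderOf_eq_prime (by rw [hm]; ring) ?_⟩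
    · exact hra.trans ⟨a - 1, by simpa using Nat.sq_sub_sq a 1⟩
    · rw [hm]
      intro h
      have : ((2 : ℕ) : ZMod r) = 0 := by push_cast; linear_combination -h
      rw [ZMod.natCast_eq_zero_iff] at this
      exact hr2 ((Nat.prime_dvd_prime_iff_eq hr Nat.prime_two).mp this)
  rcases Nat.lt_or_ge a 3 with ha3 | ha3
  · obtain rfl : a = 2 := by omega
    simpa using H76.exists_primitive_two hn3 (fun e => h6 ⟨rfl, e⟩)
  · exact H43.exists_primitive_prime ha3 hn3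

end Cfsg.Agent.S2904
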