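import Cfsg.Statements.S2907
import Cfsg.Agent.H76.Basic

set_option autoImplicit false
open Cfsg

namespace Cfsg.Agent.S2907

/-- Let X be a finite semi-extraspecial p-group and x an element of X outside the centre. Then the index of C_X(x) in X equals the order of Z(X), and the commutators [x, y], y ∈ X, form exactly the centre Z(X). -/
theorem result {X : Type*} [Group X] [Finite X] {p : ℕ} [Fact p.Prime] (hX : Cfsg.IsSemiExtraspecial p X) (x : X) (hx : x ∉ Subgroup.center X) : (Subgroup.centralizer ({x} : Set X)).index = Nat.card ↥(Subgroup.center X) ∧ {z : X | ∃ y : X, z = x * y * x⁻¹ * y⁻¹} = (Subgroup.center X : Set X) := by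
  obtain ⟨⟨hXp, -, hcomm⟩, hquot⟩ := hX
  have hmem : ∀ a b : X, a * b * a⁻¹ * b⁻¹ ∈ Subgroup.center X := fun a b => by
    rw [← hcomm]
    exact Subgroup.commutator_mem_commutator (Subgroup.mem_top a) (Subgroup.mem_top b)
  let φ : X →* ↥(Subgroup.center X) :=
    MonoidHom.mk' (fun y => ⟨x * y * x⁻¹ * y⁻¹, hmem x y⟩) fun y z => Subtype.ext (by
      have hz := Subgroup.mem_center_iff.mp (hmem x z) y
      show x * (y * z) * x⁻¹ * (y * z)⁻¹ = (x * y * x⁻¹ * y⁻¹) * (x * z * x⁻¹ * z⁻¹)
      calc x * (y * z) * x⁻¹ * (y * z)⁻¹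
          = (x * y * x⁻¹ * y⁻¹) * (y * (x * z * x⁻¹ * z⁻¹)) * y⁻¹ := by group
        _ = (x * y * x⁻¹ * y⁻¹) * ((x * z * x⁻¹ * z⁻¹) * y) * y⁻¹ := by rw [hz]
        _ = _ := by group)
  have hsurj : φ.range = ⊤ := by
    by_contra hne
    obtain ⟨Y, hY, hle⟩ := (eq_top_or_exists_le_coatom φ.range).resolve_left hne
    set Y' := Y.map (Subgroup.center X).subtype with hY'
    have hYsub : Y'.subgroupOf (Subgroup.center X) = Y :=
      Subgroup.comap_map_eq_self_of_injective (Subgroup.center X).subtype_injective Y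
    obtain ⟨hn, ⟨-, -, -⟩, hc⟩ := hquot Y' (Subgroup.map_subtype_le _) (by rw [hYsub]; exact hY)
    have hmemY : ∀ y : X, x * y * x⁻¹ * y⁻¹ ∈ Y' := fun y => ⟨φ y, hle ⟨y, rfl⟩, rfl⟩
    set π := QuotientGroup.mk' Y' with hπ
    have hxc : π x ∈ Subgroup.center (X ⧸ Y') := by
      rw [Subgroup.mem_center_iff]
      intro q
      obtain ⟨y, rfl⟩ := QuotientGroup.mk'_surjective Y' q
      have h1 := (QuotientGroup.eq_one_iff _).mpr (hmemY y)
      rw [← QuotientGroup.mk'_apply] at h1
      have h2 : π (x * y) = π (y * x) := by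
        rw [show x * y = (x * y * x⁻¹ * y⁻¹) * (y * x) by group, map_mul]
        rw [h1, one_mul]
      rw [map_mul, map_mul] at h2
      exact h2.symm
    have hZle : (Subgroup.center X).map π ≤ Subgroup.center (X ⧸ Y') := by
      rintro _ ⟨c, hc, rfl⟩
      rw [Subgroup.mem_center_iff]
      intro q
      obtain ⟨y, rfl⟩ := QuotientGroup.mk'_surjective Y' q
      rw [← map_mul, ← map_mul, Subgroup.mem_center_iff.mp hc y]
    have hpr : (Nat.card ↥(Subgroup.center (X ⧸ Y'))).Prime := hc ▸ (Fact.out : p.Prime)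
    have hne' : (Subgroup.center X).map π ≠ ⊥ := by
      rw [Ne, Subgroup.map_eq_bot_iff, QuotientGroup.ker_mk']
      intro hle'
      apply hY.1
      rw [← hYsub, Subgroup.subgroupOf_eq_top]
      exact hle'
    have heq : (Subgroup.center X).map π = Subgroup.center (X ⧸ Y') := by
      refine Subgroup.eq_of_le_of_card_ge hZle ?_
      rcases (Nat.dvd_prime hpr).mp (Subgroup.card_dvd_of_le hZle) with h | h
      · exact absurd (Subgroup.card_eq_one.mp h) hne'
      · exact h.ge
    rw [← heq] at hxc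
    obtain ⟨c, hcc, hce⟩ := hxc
    refine hx ?_
    have : c⁻¹ * x ∈ Y' := QuotientGroup.eq.mp hce
    have h2 := (Subgroup.center X).mul_mem hcc (Subgroup.map_subtype_le Y this)
    simpa using h2
  have hker : φ.ker = Subgroup.centralizer ({x} : Set X) := by
    ext y
    rw [MonoidHom.mem_ker, Subgroup.mem_centralizer_singleton_iff]
    constructor
    · intro h
      have h' : x * y * x⁻¹ * y⁻¹ = 1 := congrArg Subtype.val h
      calc y * x = (x * y * x⁻¹ * y⁻¹) * (y * x) := by rw [h', one_mul]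
        _ = x * y := by group
    · intro h
      apply Subtype.ext
      show x * y * x⁻¹ * y⁻¹ = 1
      rw [← h]; group
  refine ⟨?_, ?_⟩
  · rw [← hker, Subgroup.index_ker, hsurj, Subgroup.card_top]
  · ext z
    constructor
    · rintro ⟨y, rfl⟩
      exact hmem x y
    · intro hz
      obtain ⟨y, hy⟩ := MonoidHom.range_eq_top.mp hsurj ⟨z, hz⟩
      exact ⟨y, congrArg Subtype.val hy.symm⟩

end Cfsg.Agent.S2907
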