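import Cfsg.Statements.S2908
import Cfsg.Agent.H76.Basic

set_option autoImplicit false
open Cfsg
open scoped commutatorElement

namespace Cfsg.Agent.S2908

/-- Let P be a p-subgroup of a finite group, normalized by a p-subgroup A and by a subgroup B of order prime to p that commutes elementwise with A. If [P, B] ≤ [P, A], then B centralizes P. -/
theorem result {G : Type*} [Group G] [Finite G] {p : ℕ} [Fact p.Prime] (P A B : Subgroup G) (hP : IsPGroup p ↥P) (hA : IsPGroup p ↥A) (hB : ¬ p ∣ Nat.card ↥B) (hnA : A ≤ Subgroup.normalizer (P : Set G)) (hnB : B ≤ Subgroup.normalizer (P : Set G)) (hAB : ⁅A, B⁆ = ⊥) (hcomm : ⁅P, B⁆ ≤ ⁅P, A⁆) : ⁅P, B⁆ = ⊥ := by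
  set D := ⁅P, B⁆ with hD
  set T := P ⊔ A with hT'
  have hTp : IsPGroup p T := hP.to_sup_of_normal_left' hA hnA
  have hDP : D ≤ P := Subgroup.le_normalizer_iff_commutator_le_left.mp hnB
  have hDT : D ≤ T := hDP.trans le_sup_left
  have hAnB : A ≤ Subgroup.normalizer (B : Set G) :=
    (Subgroup.commutator_eq_bot_iff_le_centralizer.mp hAB).trans (Subgroup.centralizer_le_normalizer _)
  have hBnA : B ≤ Subgroup.normalizer (A : Set G) :=
    (Subgroup.le_centralizer_iff.mp (Subgroup.commutator_eq_bot_iff_le_centralizer.mp hAB)).trans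
      (Subgroup.centralizer_le_normalizer _)
  have hnDP : P ≤ Subgroup.normalizer (D : Set G) := Subgroup.normalizer_commutator_ge_left ..
  have hnDB : B ≤ Subgroup.normalizer (D : Set G) := Subgroup.normalizer_commutator_ge_right ..
  have hnDA : A ≤ Subgroup.normalizer (D : Set G) := fun a ha =>
    H76.mem_normalizer_commutator (hnA ha) (hAnB ha)
  set D1 := ⁅D, T⁆ with hD1
  have hTD1 : T ≤ Subgroup.normalizer (D1 : Set G) := Subgroup.normalizer_commutator_ge_right ..
  have hBT : B ≤ Subgroup.normalizer (T : Set G) := by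
    intro b hb
    rw [Subgroup.mem_normalizer_iff_map_conj_eq]
    exact (Subgroup.map_sup P A (MulAut.conj b).toMonoidHom).trans (congrArg₂ (· ⊔ ·)
      (H76.map_conj_eq_of_mem_normalizer (hnB hb)) (H76.map_conj_eq_of_mem_normalizer (hBnA hb)))
  have hBD1 : B ≤ Subgroup.normalizer (D1 : Set G) := fun b hb =>
    H76.mem_normalizer_commutator (hnDB hb) (hBT hb)
  let W : Subgroup G :=
    { carrier := {x | x ∈ T ∧ ∀ b ∈ B, b * x * b⁻¹ * x⁻¹ ∈ D1}
      one_mem' := ⟨one_mem T, fun b _ => by simp⟩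
      mul_mem' := by
        rintro x y ⟨hx, hx'⟩ ⟨hy, hy'⟩
        refine ⟨mul_mem hx hy, fun b hb => ?_⟩
        have := D1.mul_mem (hx' b hb) ((Subgroup.mem_normalizer_iff.mp (hTD1 hx) _).mp (hy' b hb))
        refine Eq.mp (congrArg (· ∈ D1) ?_) this
        group
      inv_mem' := by
        rintro x ⟨hx, hx'⟩
        refine ⟨inv_mem hx, fun b hb => ?_⟩
        have := (Subgroup.mem_normalizer_iff.mp (hTD1 (inv_mem hx)) _).mp (D1.inv_mem (hx' b hb))
        refine Eq.mp (congrArg (· ∈ D1) ?_) this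
        group }
  have hPAW : ⁅P, A⁆ ≤ W := by
    rw [Subgroup.commutator_le]
    intro k hk a ha
    have hcT : ⁅k, a⁆ ∈ T := by
      rw [commutatorElement_def]
      exact mul_mem (mul_mem (mul_mem (Subgroup.mem_sup_left hk) (Subgroup.mem_sup_right ha))
        (inv_mem (Subgroup.mem_sup_left hk))) (inv_mem (Subgroup.mem_sup_right ha))
    refine ⟨hcT, fun b hb => ?_⟩
    have hbk : ⁅b, k⁆ ∈ D := by
      rw [hD, Subgroup.commutator_comm]; exact Subgroup.commutator_mem_commutator hb hk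
    have hab : b * a * b⁻¹ = a := by
      have h1 : ⁅a, b⁆ ∈ (⊥ : Subgroup G) := hAB ▸ Subgroup.commutator_mem_commutator ha hb
      rw [Subgroup.mem_bot, commutatorElement_eq_one_iff_mul_comm] at h1
      rw [← h1, mul_inv_cancel_right]
    rw [conjugate_commutatorElement, hab, show b * k * b⁻¹ = ⁅b, k⁆ * k by
      rw [commutatorElement_def]; group, commutatorElement_mul_left_eq_conj_mul]
    have h1 : ⁅⁅b, k⁆, a⁆ ∈ D1 := Subgroup.commutator_mem_commutator hbk (Subgroup.mem_sup_right ha)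
    have h2 : ⁅⁅b, k⁆, ⁅k, a⁆⁆ ∈ D1 := Subgroup.commutator_mem_commutator hbk hcT
    have h3 := D1.mul_mem h2 ((Subgroup.mem_normalizer_iff.mp (hTD1 hcT) _).mp h1)
    refine Eq.mp (congrArg (· ∈ D1) ?_) h3
    simp only [commutatorElement_def]
    group
  have hstable : ∀ k ∈ P, ∀ b ∈ B, ⁅b, k⁆ ∈ D1 := by
    intro k hk b hb
    set d := ⁅b, k⁆ with hd
    have hdD : d ∈ D := by
      rw [hD, Subgroup.commutator_comm]; exact Subgroup.commutator_mem_commutator hb hk
    have hiter : ∀ i : ℕ, (b ^ i * k * (b ^ i)⁻¹) * k⁻¹ * (d ^ i)⁻¹ ∈ D1 := by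
      intro i
      induction i with
      | zero => simp
      | succ i ih =>
        set e := (b ^ i * k * (b ^ i)⁻¹) * k⁻¹ * (d ^ i)⁻¹ with he
        have h1 : b * e * b⁻¹ ∈ D1 := (Subgroup.mem_normalizer_iff.mp (hBD1 hb) _).mp ih
        have hdW : d ^ i ∈ W := hPAW (hcomm (D.pow_mem hdD i))
        have h2 : b * d ^ i * b⁻¹ * (d ^ i)⁻¹ ∈ D1 := hdW.2 b hb
        have h3 := (Subgroup.mem_normalizer_iff.mp (hTD1 (hDT (D.pow_mem hdD i))) _).mp
          (show ⁅d, d ^ i⁆ ∈ D1 from Subgroup.commutator_mem_commutator hdD (hDT (D.pow_mem hdD i)))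
        have heq : (b ^ (i + 1) * k * (b ^ (i + 1))⁻¹) * k⁻¹ * (d ^ (i + 1))⁻¹
            = (b * e * b⁻¹) * (b * d ^ i * b⁻¹ * (d ^ i)⁻¹) := by
          rw [he, pow_succ' b, pow_succ d, hd, commutatorElement_def]
          group
        rw [heq]
        exact D1.mul_mem h1 h2
    have hn := hiter (orderOf b)
    rw [pow_orderOf_eq_one] at hn
    have hdn : d ^ orderOf b ∈ D1 := by
      simpa using D1.inv_mem hn
    obtain ⟨j, hj⟩ := IsPGroup.iff_orderOf.mp hP ⟨d, hDP hdD⟩
    rw [Subgroup.orderOf_mk] at hj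
    have hco : Nat.Coprime (orderOf b) (orderOf d) := by
      rw [hj]
      refine Nat.Coprime.pow_right _ ?_
      refine ((Fact.out : p.Prime).coprime_iff_not_dvd.mpr fun hpd => hB ?_).symm
      exact hpd.trans (Subgroup.orderOf_dvd_natCard B hb)
    obtain ⟨u, hu⟩ := exists_pow_eq_self_of_coprime hco
    rw [← hu]
    exact D1.pow_mem hdn u
  refine H76.eq_bot_of_le_commutator hTp hDT ?_
  refine (le_of_eq (hD.trans (Subgroup.commutator_comm P B))).trans ?_
  rw [Subgroup.commutator_le]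
  exact fun b hb k hk => hstable k hk b hb

end Cfsg.Agent.S2908
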