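import Cfsg.Statements.S2910
import Cfsg.Agent.H5.Frobenius
import Cfsg.Agent.H83.TrivAction

set_option autoImplicit false
open Cfsg

namespace Cfsg.Agent.S2910

/-- Let p be an odd prime dividing the order of the finite group G and P a Sylow p-subgroup of G. If Ω₁(P) (generated by the elements of order dividing p) is contained in the centre of G, then G has a normal p-complement. In particular, if G is quasisimple then Ω₁(P) is not central in G. -/
theorem result {G : Type*} [Group G] [Finite G] {p : ℕ} [Fact p.Prime] (hp : p ≠ 2) (hdiv : p ∣ Nat.card G) (P : Sylow p G) (hZ : Cfsg.omegaOne p (P : Subgroup G) ≤ Subgroup.center G) : Cfsg.HasNormalPComplement p G ∧ ¬ Cfsg.IsQuasisimple G := by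
  obtain ⟨hN, hnc⟩ : Cfsg.HasNormalPComplement p G ∧ True := by
    refine ⟨H5.hasNormalPComplement_of_frobenius P fun Q hQP g hg hgo => ?_, trivial⟩
    have h := H83.le_centralizer_of_fixes_omega hp (A := Subgroup.zpowers g) (P.2.to_le hQP)
      (Subgroup.zpowers_le.2 hg) (by rwa [Nat.card_zpowers]) ?_
    · exact h (Subgroup.mem_zpowers g)
    · intro x hx hxp a _
      exact Subgroup.mem_center_iff.1 (hZ (Subgroup.subset_closure ⟨hQP hx, hxp⟩)) a
  refine ⟨hN, fun hq => ?_⟩
  obtain ⟨Q, N, hNn, hNQ⟩ := hN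
  haveI := hNn
  have hind : N.index = Nat.card ↥(Q : Subgroup G) := hNQ.symm.index_eq_card
  have hQ : IsPGroup p (G ⧸ N) := by
    obtain ⟨k, hk⟩ := IsPGroup.iff_card.1 Q.2
    exact IsPGroup.of_card (n := k) (by rw [← hk, ← hind]; rfl)
  haveI := hQ.isNilpotent
  haveI : Nontrivial (G ⧸ N) := by
    rw [← Finite.one_lt_card_iff_nontrivial]
    show 1 < N.index
    rw [hind]
    exact lt_of_lt_of_le (Fact.out : p.Prime).one_lt
      (Nat.le_of_dvd Nat.card_pos (Q.dvd_card_of_dvd_card hdiv))
  have h1 : commutator (G ⧸ N) < ⊤ := Group.IsSolvable.commutator_lt_top_of_nontrivial _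
  apply h1.ne
  rw [eq_top_iff, ← Subgroup.map_top_of_surjective _ (QuotientGroup.mk'_surjective N)]
  have hperf : commutator G = ⊤ := hq.1.commutator_eq_top
  rw [← hperf, commutator_def, commutator_def, Subgroup.map_commutator]
  exact Subgroup.commutator_mono le_top le_top

end Cfsg.Agent.S2910
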