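import Cfsg.Statements.S2911
import Cfsg.Agent.H9.SylowCTwoDEight
-- import your own Cfsg.Agent.* helpers here

set_option autoImplicit false
open Cfsg

namespace Cfsg.Agent.S2911

/-- A finite group whose Sylow 2-subgroups are isomorphic to the direct product of a group of order 2 and a dihedral group of order 8 has a subgroup of index two. -/
theorem result {G : Type*} [Group G] [Finite G] (S : Sylow 2 G) (hS : Nonempty (↥(S : Subgroup G) ≃* Multiplicative (ZMod 2) × DihedralGroup 4)) : ∃ H : Subgroup G, H.index = 2 := by
  obtain ⟨e⟩ := hS
  exact Cfsg.Agent.H9.CTwoD.exists_index_two (ι := (S : Subgroup G).subtype.comp e.symm.toMonoidHom) S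
    ((S : Subgroup G).subtype_injective.comp e.symm.injective)
    (by rw [MonoidHom.range_comp, MonoidHom.range_eq_top.2 (show Function.Surjective e.symm.toMonoidHom from e.symm.surjective), ← MonoidHom.range_eq_map, Subgroup.range_subtype])

end Cfsg.Agent.S2911
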