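import Cfsg.Statements.S2912
import Cfsg.Agent.H8.ExtraspecialModule

set_option autoImplicit false
open Cfsg

namespace Cfsg.Agent.S2912

/-- Let p and r be distinct primes, let E be an extraspecial subgroup of order p^(2w+1) of a finite group, and let A be an elementary abelian r-subgroup normalized by E on which E acts faithfully (C_E(A) = 1). If n ≥ 1 is least with p dividing rⁿ − 1 (the smallest dimension of a faithful representation of a group of order p over the field with r elements), then the order of A is at least r^(n·p^w). -/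
theorem result {G : Type*} [Group G] [Finite G] {p r : ℕ} [Fact p.Prime] [hr : Fact r.Prime] (hpr : p ≠ r) (E A : Subgroup G) (w : ℕ) (hE : Cfsg.IsExtraspecial p ↥E) (hEcard : Nat.card ↥E = p ^ (2 * w + 1)) (hA : Cfsg.IsElementaryAbelian r A) (hnorm : E ≤ Subgroup.normalizer (A : Set G)) (hfaith : E ⊓ Subgroup.centralizer (A : Set G) = ⊥) (n : ℕ) (hn : 1 ≤ n) (hdiv : p ∣ r ^ n - 1) (hmin : ∀ k : ℕ, 1 ≤ k → p ∣ r ^ k - 1 → n ≤ k) : r ^ (n * p ^ w) ≤ Nat.card ↥A := by
  haveI := hA.1
  letI : CommGroup A :=
    { (inferInstance : Group A) with mul_comm := mul_comm' }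
  have hp := (Fact.out : p.Prime)
  obtain ⟨⟨-, -, hcom⟩, hcard⟩ := hE
  let conjA : E → Additive A →+ Additive A := fun g =>
    { toFun := fun v => Additive.ofMul ⟨(g : G) * (v.toMul : G) * (g : G)⁻¹,
        (Subgroup.mem_normalizer_iff.1 (hnorm g.2) _).1 (Additive.toMul v).2⟩
      map_zero' := Additive.toMul.injective (Subtype.ext (by simp))
      map_add' := fun a b => Additive.toMul.injective (Subtype.ext (by simp [mul_assoc])) }
  let ρ : E →* AddMonoid.End (Additive A) :=
    { toFun := conjA
      map_one' := AddMonoidHom.ext fun v => Additive.toMul.injective (Subtype.ext (by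
        show (1 : G) * _ * (1 : G)⁻¹ = _; simp; rfl))
      map_mul' := fun a b => AddMonoidHom.ext fun v => Additive.toMul.injective (Subtype.ext (by
        show (a : G) * b * _ * ((a : G) * b)⁻¹ = (a : G) * ((b : G) * _ * (b : G)⁻¹) * (a : G)⁻¹
        simp [mul_assoc])) }
  haveI : Nontrivial (Subgroup.center E) :=
    Finite.one_lt_card_iff_nontrivial.1 (by rw [hcard]; exact hp.one_lt)
  obtain ⟨⟨z, hz⟩, hz1⟩ := exists_ne (1 : Subgroup.center E)
  have hne : ρ z ≠ 1 := by
    intro h
    refine hz1 (Subtype.ext (Subtype.ext ?_))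
    have hmem : (z : G) ∈ E ⊓ Subgroup.centralizer (A : Set G) := by
      refine ⟨z.2, fun a ha => ?_⟩
      let a' : A := ⟨a, ha⟩
      have h0 : ρ z (Additive.ofMul a') = Additive.ofMul a' := DFunLike.congr_fun h _
      have h1 : (z : G) * a * (z : G)⁻¹ = a :=
        congrArg (fun v : Additive A => ((Additive.toMul v : A) : G)) h0
      exact (mul_inv_eq_iff_eq_mul.1 h1).symm
    rw [hfaith] at hmem
    exact Subgroup.mem_bot.1 hmem
  refine (H8.ExtraMod.bound_nontrivial (r := r) hpr ρ (fun v => Additive.toMul.injective ?_) hcard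
    (fun g h => hcom ▸ Subgroup.commutator_mem_commutator (Subgroup.mem_top g) (Subgroup.mem_top h))
    hz hne n hmin w (le_of_eq ?_)).trans_eq rfl
  · show (Additive.toMul v) ^ r = 1
    exact Subtype.ext (by simpa using hA.2 _ (Additive.toMul v).2)
  · have h := (Subgroup.center E).card_mul_index
    rw [hcard, hEcard, pow_succ'] at h
    exact (Nat.eq_of_mul_eq_mul_left hp.pos h).symm

end Cfsg.Agent.S2912
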