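import Cfsg.Statements.S2923
import Cfsg.Agent.H77.CharP

set_option autoImplicit false
open Cfsg

namespace Cfsg.Agent.S2923

/-- Let p be a prime and X a finite group of characteristic p, that is C_X(O_p(X)) ≤ O_p(X). Then every subnormal subgroup of X has characteristic p. -/
theorem result {X : Type*} [Group X] [Finite X] {p : ℕ} [Fact p.Prime] (hX : Subgroup.centralizer (Cfsg.pCore p X : Set X) ≤ Cfsg.pCore p X) (Y : Subgroup X) (hY : Y.IsSubnormal) : Subgroup.centralizer (Cfsg.pCore p ↥Y : Set ↥Y) ≤ Cfsg.pCore p ↥Y := by
  induction hY with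
  | top =>
    rw [H77.charP_subgroup_iff]
    exact H77.charP_of_normalized hX fun q _ =>
      H77.mem_normalizer_of_forall fun a _ => Subgroup.mem_top _
  | step H K hle _ hN ih =>
    rw [H77.charP_subgroup_iff]
    have hnorm : pCore p ↥K ≤ Subgroup.normalizer ((H.subgroupOf K : Subgroup ↥K) : Set ↥K) := by
      intro q _
      exact H77.mem_normalizer_of_forall fun a ha => hN.conj_mem a ha q
    have h := H77.charP_of_normalized ih hnorm
    rw [← H77.charP_subgroup_iff] at h
    rw [← H77.charP_subgroup_iff]
    exact H77.charP_equiv (Subgroup.subgroupOfEquivOfLe hle) h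

end Cfsg.Agent.S2923
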