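import Cfsg.Statements.S2925
import Cfsg.Agent.CompLayer
import Cfsg.Agent.H3.SubnormalJoin
import Cfsg.Agent.H77.Conj

set_option autoImplicit false
open Cfsg

namespace Cfsg.Agent.S2925

/-- Let K be a component of the finite group X and T a Sylow 2-subgroup of X. If some abelian normal subgroup Y of T does not normalize K, then K ⧸ Z(K) has abelian Sylow 2-subgroups. -/
theorem result {X : Type*} [Group X] [Finite X] (K : Subgroup X) (hK : Cfsg.IsComponent K) (T : Sylow 2 X) (Y : Subgroup X) (hYT : Y ≤ (T : Subgroup X)) (hYn : (Y.subgroupOf (T : Subgroup X)).Normal) (hYab : IsMulCommutative ↥Y) (hnot : ¬ Y ≤ Subgroup.normalizer (K : Set X)) (P : Sylow 2 (↥K ⧸ Subgroup.center ↥K)) : IsMulCommutative ↥(P : Subgroup (↥K ⧸ Subgroup.center ↥K)) := by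
  haveI : Fact (Nat.Prime 2) := ⟨Nat.prime_two⟩
  obtain ⟨y, hyY, hy⟩ := SetLike.not_le_iff_exists.1 hnot
  have hK' : Cfsg.IsComponent (K.map (MulAut.conj y).toMonoidHom) := Cfsg.Comp.isComponent_conj hK y
  have hcomm : ∀ a ∈ K, ∀ b ∈ K.map (MulAut.conj y).toMonoidHom, a * b = b * a := by
    rcases Cfsg.Comp.component_eq_or_commute hK hK' with h | h
    · exact absurd (H77.mem_normalizer_of_cmap_eq h.symm) hy
    · exact fun a ha b hb => Cfsg.Comp.commute_of_commutator_eq_bot h ha hb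
  have hYn : (T : Subgroup X) ≤ Subgroup.normalizer (Y : Set X) :=
    (Subgroup.normal_subgroupOf_iff_le_normalizer hYT).1 hYn
  -- two elements of `T ∩ K` commute modulo the centre
  have key : ∀ a : ↥K, (a : X) ∈ (T : Subgroup X) → ∀ b : ↥K, (b : X) ∈ (T : Subgroup X) →
      (QuotientGroup.mk (a * b) : ↥K ⧸ Subgroup.center ↥K) = QuotientGroup.mk (b * a) := by
    rintro ⟨a, haK⟩ ha ⟨b, hbK⟩ hb
    have hcm : ∀ c ∈ (T : Subgroup X), c * (y * c⁻¹ * y⁻¹) ∈ Y := by
      intro c hc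
      have := mul_mem ((Subgroup.mem_normalizer_iff.1 (hYn hc) y).1 hyY) (inv_mem hyY)
      simpa [mul_assoc] using this
    set a' := y * a⁻¹ * y⁻¹ with ha'
    set b' := y * b⁻¹ * y⁻¹ with hb'
    have ha'K : a' ∈ K.map (MulAut.conj y).toMonoidHom := H77.conj_mem_cmap (inv_mem haK)
    have hb'K : b' ∈ K.map (MulAut.conj y).toMonoidHom := H77.conj_mem_cmap (inv_mem hbK)
    have hY2 : (a * a') * (b * b') = (b * b') * (a * a') :=
      setLike_mul_comm (hcm a ha) (hcm b hb)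
    have e1 : a * b * (a' * b') = b * a * (b' * a') := by
      calc a * b * (a' * b') = a * (b * a') * b' := by group
        _ = a * (a' * b) * b' := by rw [hcomm b hbK a' ha'K]
        _ = (a * a') * (b * b') := by group
        _ = (b * b') * (a * a') := hY2
        _ = b * (b' * a) * a' := by group
        _ = b * (a * b') * a' := by rw [hcomm a haK b' hb'K]
        _ = b * a * (b' * a') := by group
    have e2 : (b * a)⁻¹ * (a * b) = (b' * a') * (a' * b')⁻¹ := by
      calc (b * a)⁻¹ * (a * b) = (b * a)⁻¹ * (a * b * (a' * b')) * (a' * b')⁻¹ := by group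
        _ = (b * a)⁻¹ * (b * a * (b' * a')) * (a' * b')⁻¹ := by rw [e1]
        _ = (b' * a') * (a' * b')⁻¹ := by group
    have hmem : (b * a)⁻¹ * (a * b) ∈ K.map (MulAut.conj y).toMonoidHom := by
      rw [e2]; exact mul_mem (mul_mem hb'K ha'K) (inv_mem (mul_mem ha'K hb'K))
    refine (QuotientGroup.eq.2 ?_).symm
    rw [Subgroup.mem_center_iff]
    rintro ⟨k, hk⟩
    exact Subtype.ext (hcomm k hk _ hmem)
  obtain ⟨Q, hQ⟩ := H3.subnormal_inf_sylow hK.1 T
  obtain ⟨c, hc⟩ := MulAction.exists_smul_eq (↥K ⧸ Subgroup.center ↥K)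
    (Q.mapSurjective (QuotientGroup.mk'_surjective (Subgroup.center ↥K))) P
  refine ⟨⟨fun u v => Subtype.ext ?_⟩⟩
  have hmem : ∀ w : ↥(P : Subgroup (↥K ⧸ Subgroup.center ↥K)), ∃ a : ↥K, (a : X) ∈ (T : Subgroup X) ∧
      (w : ↥K ⧸ Subgroup.center ↥K) = c * QuotientGroup.mk a * c⁻¹ := by
    rintro ⟨w, hw⟩
    rw [← hc, H77.sylow_smul_coe, H77.mem_cmap, Sylow.coe_mapSurjective, Subgroup.mem_map] at hw
    obtain ⟨a, ha, ha'⟩ := hw
    rw [hQ, Subgroup.mem_subgroupOf] at ha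
    refine ⟨a, ha, ?_⟩
    rw [QuotientGroup.mk'_apply] at ha'
    rw [ha']; group
  obtain ⟨a, ha, hu⟩ := hmem u
  obtain ⟨b, hb, hv⟩ := hmem v
  have hab := key a ha b hb
  simp only [QuotientGroup.mk_mul] at hab
  rw [Subgroup.coe_mul, Subgroup.coe_mul, hu, hv, conj_mul, conj_mul, hab]

end Cfsg.Agent.S2925
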