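import Cfsg.Statements.S2928
import Cfsg.Agent.H77.QuadSylow

set_option autoImplicit false
open Cfsg

namespace Cfsg.Agent.S2928

/-- Let n ≥ 8 and let H be a subgroup of the symmetric group of degree n whose generalized Fitting subgroup F*(H) is quasisimple. If H contains a Sylow 2-subgroup of the alternating group of degree n, then F*(H) is isomorphic to an alternating group of degree m for some m ∈ {n − 3, n − 2, n − 1, n}. -/
theorem result (n : ℕ) (hn : 8 ≤ n) (H : Subgroup (Equiv.Perm (Fin n))) (hF : Cfsg.IsQuasisimple ↥(Cfsg.generalizedFittingSubgroup ↥H)) (hS : ∃ P : Sylow 2 ↥(alternatingGroup (Fin n)), ((P : Subgroup ↥(alternatingGroup (Fin n))).map (alternatingGroup (Fin n)).subtype) ≤ H) : ∃ m : ℕ, (m = n - 3 ∨ m = n - 2 ∨ m = n - 1 ∨ m = n) ∧ Nonempty (↥(Cfsg.generalizedFittingSubgroup ↥H) ≃* ↥(alternatingGroup (Fin m))) := by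
  classical
  obtain ⟨P, hP⟩ := hS
  haveI : Fact (Nat.Prime 2) := ⟨by norm_num⟩
  obtain ⟨F, hF4, hFd⟩ := H77.Quads.exists_quads_of_sylow P hP
  -- all but three points are covered
  set V : Finset (Fin n) := (Finset.univ.biUnion F)ᶜ with hV
  have hVcard : V.card ≤ 3 := by
    rw [hV, Finset.card_compl, Finset.card_biUnion fun i _ j _ h => hFd i j h,
      Finset.sum_congr rfl fun i _ => (hF4 i).1]
    simp only [Finset.sum_const, Finset.card_univ, Fintype.card_fin, smul_eq_mul]
    omega
  have hcov : ∀ x ∉ V, H77.Quads.QCov H x := fun x hx => by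
    simp only [hV, Finset.mem_compl, not_not, Finset.mem_biUnion] at hx
    obtain ⟨i, -, hi⟩ := hx
    exact ⟨F i, hF4 i, hi⟩
  obtain ⟨a, b, c, hab, hac, hbc, h⟩ := H77.Quads.exists_cyc hF V hVcard hcov
    ⟨F ⟨0, by omega⟩, F ⟨1, by omega⟩, hF4 _, hF4 _, hFd _ _ (by simp)⟩
  obtain ⟨x₀, hx₀⟩ := H77.Blocks.exists_big_block hF hab hac hbc h
  obtain ⟨-, hinv, hfaith, ⟨e⟩⟩ := H77.Blocks.fStar_block hF hx₀
  set s := H77.Blocks.blk H x₀ with hs
  refine ⟨s.card, ?_, ⟨e.trans (Equiv.altCongrHom s.equivFin)⟩⟩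
  have hle : s.card ≤ n := by simpa using Finset.card_le_univ s
  have hge : n ≤ s.card + 3 := by
    -- the Sylow subgroup acts faithfully on the block
    let res : ↥(P : Subgroup ↥(alternatingGroup (Fin n))) →* Equiv.Perm {x // x ∈ s} :=
      { toFun := fun g => ((g : ↥(alternatingGroup (Fin n))) : Equiv.Perm (Fin n)).subtypePerm
          (hinv _ (hP ⟨_, g.2, rfl⟩))
        map_one' := by ext; simp
        map_mul' := fun g g' => by ext; rfl }
    have hinj : Function.Injective res := by
      refine (injective_iff_map_eq_one res).mpr fun g hg => Subtype.ext (Subtype.ext ?_)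
      refine hfaith _ (hP ⟨_, g.2, rfl⟩) fun x hx => ?_
      have h1 := congrArg (fun f : Equiv.Perm {x // x ∈ s} => ((f ⟨x, hx⟩ : {x // x ∈ s}) : Fin n)) hg
      simpa [res] using h1
    have hdvd : Nat.card (P : Subgroup ↥(alternatingGroup (Fin n))) ∣ s.card.factorial := by
      have := Subgroup.card_dvd_of_injective res hinj
      rwa [Nat.card_perm, Nat.card_eq_fintype_card (α := {x // x ∈ s}), Fintype.card_coe] at this
    by_contra hlt
    push Not at hlt
    have h24 : s.card.factorial * Nat.factorial 4 ∣ n.factorial :=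
      (Nat.factorial_mul_factorial_dvd_factorial_add _ _).trans (Nat.factorial_dvd_factorial hlt)
    haveI : Nontrivial (Fin n) := Fin.nontrivial_iff_two_le.mpr (by omega)
    have hA : 2 * Nat.card ↥(alternatingGroup (Fin n)) = n.factorial := by
      rw [two_mul_nat_card_alternatingGroup, Nat.card_perm, Nat.card_fin]
    obtain ⟨q, hq⟩ := (mul_dvd_mul_right hdvd (Nat.factorial 4)).trans h24
    have hidx := P.not_dvd_index
    have hmul := (P : Subgroup ↥(alternatingGroup (Fin n))).card_mul_index
    refine hidx ⟨6 * q, ?_⟩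
    have hpos : 0 < Nat.card (P : Subgroup ↥(alternatingGroup (Fin n))) := Nat.card_pos
    refine Nat.eq_of_mul_eq_mul_left hpos ?_
    rw [hmul]
    rw [show Nat.factorial 4 = 24 from rfl, ← hA] at hq
    linarith
  omega

end Cfsg.Agent.S2928
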