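import Cfsg.Statements.S2932
import Cfsg.Agent.H71.NatSL2.Final
-- import your own Cfsg.Agent.* helpers here

set_option autoImplicit false
open Cfsg

namespace Cfsg.Agent.S2932

open H71.NatSL2

/-- Conjugation on an additive copy of a normalized subgroup. -/
def conjV {X : Type*} [Group X] (V : Subgroup X) (g : X)
    (hg : g ∈ Subgroup.normalizer (V : Set X)) : Additive V ≃+ Additive V where
  toFun v := Additive.ofMul ⟨g * (v.toMul : X) * g⁻¹,
    (Subgroup.mem_normalizer_iff.1 hg _).1 v.toMul.2⟩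
  invFun v := Additive.ofMul ⟨g⁻¹ * (v.toMul : X) * g,
    (Subgroup.mem_normalizer_iff''.1 hg _).1 v.toMul.2⟩
  left_inv v := by
    apply Additive.toMul.injective
    apply Subtype.ext
    simp [mul_assoc]
  right_inv v := by
    apply Additive.toMul.injective
    apply Subtype.ext
    simp [mul_assoc]
  map_add' v w := by
    apply Additive.toMul.injective
    apply Subtype.ext
    simp [mul_assoc]

theorem coe_conjV {X : Type*} [Group X] (V : Subgroup X) (g : X)
    (hg : g ∈ Subgroup.normalizer (V : Set X)) (v : Additive V) :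
    ((conjV V g hg v).toMul : X) = g * (v.toMul : X) * g⁻¹ := rfl

/-- Let p be a prime. Inside a finite ambient group let V be an elementary abelian p-subgroup and G a subgroup normalizing V and acting faithfully on it (G ∩ C(V) = 1), and let L ≤ G act on V as SL₂(F) on its natural module, F a finite field of characteristic p, with L ≅ SL₂(F). If every Sylow p-subgroup of N_G(L) is a Sylow p-subgroup of G, then either L is normal in G, or F has 4 elements and G is isomorphic to the alternating group of degree 7. -/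
theorem result {X : Type*} [Group X] [Finite X] {p : ℕ} [Fact p.Prime] (F : Type) [Field F] [Fintype F] [CharP F p] (V G L : Subgroup X) (hV : Cfsg.IsElementaryAbelian p V) (hGV : G ≤ Subgroup.normalizer (V : Set X)) (hfaith : G ⊓ Subgroup.centralizer (V : Set X) = ⊥) (hLG : L ≤ G) (hnat : Cfsg.IsNaturalSL2Module F V L) (hLiso : Nonempty (↥L ≃* Matrix.SpecialLinearGroup (Fin 2) F)) (hSyl : ∀ S : Sylow p ↥(G ⊓ Subgroup.normalizer (L : Set X)), ∀ P : Sylow p ↥G, Nat.card S = Nat.card P) : (L.subgroupOf G).Normal ∨ (Fintype.card F = 4 ∧ Nonempty (↥G ≃* ↥(alternatingGroup (Fin 7)))) := by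
  classical
  obtain ⟨hLV, ρ, ψ, hρ, -, hact⟩ := hnat
  let φ : G →* AW F := MonoidHom.mk'
    (fun g => ((ψ.symm.trans (conjV V g (hGV g.2))).trans ψ).toNatLinearEquiv)
    (fun g h => by
      apply LinearEquiv.ext
      intro w
      rw [LinearEquiv.mul_apply]
      change ψ (conjV V (g * h : G) (hGV (g * h).2) (ψ.symm w)) =
        ψ (conjV V g (hGV g.2) (ψ.symm (ψ (conjV V h (hGV h.2) (ψ.symm w)))))
      rw [ψ.symm_apply_apply]
      congr 1
      apply Additive.toMul.injective
      apply Subtype.ext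
      simp only [coe_conjV, Subgroup.coe_mul, mul_inv_rev, mul_assoc])
  have hφ : ∀ (g : G) w, φ g w = ψ (conjV V g (hGV g.2) (ψ.symm w)) := fun _ _ => rfl
  have hinj : Function.Injective φ := by
    rw [← MonoidHom.ker_eq_bot_iff, Subgroup.eq_bot_iff_forall]
    intro g hg
    apply Subtype.ext
    have hmem : (g : X) ∈ G ⊓ Subgroup.centralizer (V : Set X) := by
      refine Subgroup.mem_inf.2 ⟨g.2, Subgroup.mem_centralizer_iff.2 fun v hv => ?_⟩
      have h1 := hφ g (ψ (Additive.ofMul ⟨v, hv⟩))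
      rw [MonoidHom.mem_ker.1 hg, ψ.symm_apply_apply] at h1
      have h2 := congrArg (fun a => ((Additive.toMul a : V) : X)) (ψ.injective h1)
      simp only [coe_conjV, toMul_ofMul] at h2
      exact (eq_mul_inv_iff_mul_eq.1 h2)
    rw [hfaith, Subgroup.mem_bot] at hmem
    exact hmem
  have hL : ∀ l : L, φ ⟨l, hLG l.2⟩ = slHom F (ρ l) := by
    intro l
    apply LinearEquiv.ext
    intro w
    obtain ⟨u, hu, hψu⟩ := hact l (ψ.symm w).toMul
    rw [slHom_apply, hφ]
    rw [ofMul_toMul, ψ.apply_symm_apply] at hψu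
    rw [← hψu]
    congr 1
    apply Additive.toMul.injective
    apply Subtype.ext
    rw [coe_conjV]
    exact hu.symm
  set H := φ.range with hH
  have hsl : (L.subgroupOf G).map φ = sl F := by
    ext x
    constructor
    · rintro ⟨l, hl, rfl⟩
      exact ⟨ρ ⟨l, hl⟩, (hL ⟨l, hl⟩).symm⟩
    · rintro ⟨A, rfl⟩
      obtain ⟨l, rfl⟩ := hρ A
      exact ⟨⟨l, hLG l.2⟩, l.2, hL l⟩
  set N := G ⊓ Subgroup.normalizer (L : Set X) with hN
  have hNeq : H ⊓ Subgroup.normalizer (sl F : Set (AW F)) = (N.subgroupOf G).map φ := by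
    ext x
    constructor
    · rintro ⟨⟨g, rfl⟩, hg⟩
      refine ⟨g, Subgroup.mem_subgroupOf.2 (Subgroup.mem_inf.2 ⟨g.2, ?_⟩), rfl⟩
      rw [Subgroup.mem_normalizer_iff]
      intro y
      by_cases hy : y ∈ G
      · have := Subgroup.mem_normalizer_iff.1 hg (φ ⟨y, hy⟩)
        rw [← hsl, ← map_inv, ← map_mul, ← map_mul, Subgroup.mem_map_iff_mem hinj,
          Subgroup.mem_map_iff_mem hinj] at this
        exact this
      · refine iff_of_false (fun h => hy (hLG h)) fun h => hy ?_
        have := mul_mem (mul_mem (inv_mem g.2) (hLG h)) g.2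
        simpa [mul_assoc] using this
    · rintro ⟨g, hg, rfl⟩
      refine Subgroup.mem_inf.2 ⟨⟨g, rfl⟩, ?_⟩
      rw [Subgroup.mem_normalizer_iff]
      intro y
      have hgn := Subgroup.mem_normalizer_iff.1 (Subgroup.mem_inf.1 (Subgroup.mem_subgroupOf.1 hg)).2
      rw [← hsl]
      constructor
      · rintro ⟨z, hz, rfl⟩
        exact ⟨g * z * g⁻¹, (hgn z).1 hz, by simp⟩
      · rintro ⟨z, hz, hzy⟩
        refine ⟨g⁻¹ * z * g, (hgn _).2 ?_, ?_⟩
        · simpa [mul_assoc, Subgroup.mem_subgroupOf] using hz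
        · simp [hzy, mul_assoc]
  have hS : Setting p H := by
    refine ⟨?_, fun Q hQH hQ => ?_⟩
    · rw [← hsl]
      exact Subgroup.map_le_range _ _
    obtain ⟨S⟩ := (inferInstance : Nonempty (Sylow p N))
    obtain ⟨R, hR⟩ := (hQ.comap_of_injective φ hinj).exists_le_sylow
    have h1 : Nat.card Q ≤ Nat.card R := by
      rw [← Subgroup.card_map_of_injective hinj]
      exact Subgroup.card_le_of_le ((Subgroup.map_comap_eq_self hQH).ge.trans
        (Subgroup.map_mono hR))
    rw [← hSyl S R, S.card_eq_multiplicity] at h1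
    rw [hNeq, Subgroup.card_map_of_injective hinj,
      Nat.card_congr (Subgroup.subgroupOfEquivOfLe (inf_le_left : N ≤ G)).toEquiv]
    exact h1
  rcases H71.NatSL2.main hS with h | ⟨h4, ⟨e⟩⟩
  · left
    refine ⟨fun l hl g => ?_⟩
    rw [← Subgroup.mem_map_iff_mem hinj, hsl, map_mul, map_mul, map_inv]
    exact h _ ⟨g, rfl⟩ _ (hsl ▸ Subgroup.mem_map_of_mem φ hl)
  · exact Or.inr ⟨h4, ⟨(MonoidHom.ofInjective hinj).trans e⟩⟩

end Cfsg.Agent.S2932
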