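import Cfsg.Statements.S3157
import Cfsg.Agent.H69.FpfSixtyFour

set_option autoImplicit false
open Cfsg

namespace Cfsg.Agent.S3157

theorem H69_q8 {G : Type*} [Group G] (r s : G) (hr : r ^ 4 = 1) (hs : s * s = r ^ 2)
    (hsr : s * r * s⁻¹ = r⁻¹) :
    ∃ f : QuaternionGroup 2 →* G, f (QuaternionGroup.a 1) = r ∧ f (QuaternionGroup.xa 0) = s := by
  let f : QuaternionGroup 2 → G := fun x => match x with
    | .a i => r ^ i.val
    | .xa i => s * r ^ i.val
  have hadd : ∀ i j : ZMod (2 * 2), r ^ (i + j).val = r ^ i.val * r ^ j.val := by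
    intro i j
    rw [ZMod.val_add, ← pow_eq_pow_mod _ hr, pow_add]
  have hneg : ∀ i j : ZMod (2 * 2), r ^ (j - i).val = (r ^ i.val)⁻¹ * r ^ j.val := by
    intro i j
    rw [eq_inv_mul_iff_mul_eq, ← hadd, add_sub_cancel]
  have hsr2 : ∀ k : ℕ, r ^ k * s = s * (r ^ k)⁻¹ := by
    intro k
    have h1 : s * r ^ k * s⁻¹ = (r ^ k)⁻¹ := by rw [← conj_pow, hsr, inv_pow]
    have h2 : s * (r ^ k)⁻¹ * s⁻¹ = r ^ k := by
      have := congrArg (·⁻¹) h1
      simpa [mul_assoc] using this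
    calc r ^ k * s = s * (r ^ k)⁻¹ * s⁻¹ * s := by rw [h2]
      _ = s * (r ^ k)⁻¹ := inv_mul_cancel_right _ _
  refine ⟨MonoidHom.mk' f ?_, ?_, ?_⟩
  · rintro (i | i) (j | j)
    · exact hadd i j
    · show s * r ^ (j - i).val = r ^ i.val * (s * r ^ j.val)
      rw [← mul_assoc, hsr2, hneg, mul_assoc]
    · show s * r ^ (i + j).val = s * r ^ i.val * r ^ j.val
      rw [hadd, mul_assoc]
    · show r ^ ((2 : ZMod (2 * 2)) + j - i).val = s * r ^ i.val * (s * r ^ j.val)
      rw [mul_assoc s, ← mul_assoc (r ^ i.val), hsr2, show (2 : ZMod (2 * 2)) + j - i = 2 + (j - i) by ring,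
        hadd, hneg, mul_assoc s, ← mul_assoc s s, hs]
      rfl
  · show r ^ (1 : ZMod (2 * 2)).val = r
    exact pow_one r
  · show s * r ^ (0 : ZMod (2 * 2)).val = s
    simp

theorem H69_elems : (∀ k : DihedralGroup 4, k ≠ 1 → k = .r 2 ∨
    ∃ h, h * k * h⁻¹ * k⁻¹ = DihedralGroup.r 2) ∧
    (∀ k : QuaternionGroup 2, k ≠ 1 → k = .a 2 ∨ ∃ h, h * k * h⁻¹ * k⁻¹ = QuaternionGroup.a 2) := by
  constructor <;> decide +kernel

/-- Homomorphisms nontrivial on the central element are injective. -/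
theorem H69_inj {D G : Type*} [Group D] [Group G] (z : D)
    (hD : ∀ k : D, k ≠ 1 → k = z ∨ ∃ h, h * k * h⁻¹ * k⁻¹ = z) (f : D →* G) (hz : f z ≠ 1) :
    Function.Injective f := by
  rw [injective_iff_map_eq_one]
  intro k hk
  by_contra hk1
  rcases hD k hk1 with rfl | ⟨h, rfl⟩
  · exact hz hk
  · exact hz (by simp [hk])

theorem H69_iso_of_inj {D G : Type*} [Group D] [Group G] (C : Subgroup G) (f : D →* G)
    (hf : Function.Injective f) (hC : Nat.card C = Nat.card D) [Finite C] (hm : ∀ d, f d ∈ C) :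
    Nonempty (↥C ≃* D) :=
  ⟨(MulEquiv.ofBijective (f.codRestrict C hm)
    ((Nat.bijective_iff_injective_and_card _).2
      ⟨fun a b h => hf (congrArg Subtype.val h), hC.symm⟩)).symm⟩

open scoped commutatorElement
open Subgroup in
theorem H69_fixed {T : Type*} [Group T] [Finite T] (hT : Nat.card T = 64) (hna : center T ≠ ⊤)
    (ρ x : MulAut T) (h : H69.Fpf.IsFpf ρ) (hx : ∀ g, x (x g) = g)
    (hxr : ∀ g, x (ρ g) = ρ (ρ (x g))) (C : Subgroup T) (hC : ∀ y, y ∈ C ↔ x y = y) :
    Nat.card (center T) = 4 ∧ H69.Fpf.Class2 T ∧ Nat.card C = 8 ∧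
      ∃ c ∈ C, ∃ d ∈ C, ∃ z : T, z ∈ C ∧ z ∈ center T ∧ z ≠ 1 ∧ ⁅c, d⁆ = z ∧
        (c * c = 1 ∨ c * c = z) ∧ (d * d = 1 ∨ d * d = z) := by
  obtain ⟨hZ, hzsq, hcomm, hsq⟩ := H69.Fpf.structure64 h hT hna
  have hc : H69.Fpf.Class2 T := ⟨hzsq, hcomm, hsq⟩
  have hxc : ∀ g ∈ center T, x g ∈ center T := fun g hg => mem_center_iff.2 fun y => by
    have := congrArg x (mem_center_iff.1 hg (x y))
    rw [map_mul, map_mul, hx] at this
    exact this
  -- fixed points on the centre
  let δ : center T →* center T :=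
    MonoidHom.mk' (fun s => ⟨(s : T) * x s, mul_mem s.2 (hxc _ s.2)⟩) fun a b => Subtype.ext (by
      show (a : T) * b * x (a * b) = (a * x a) * (b * x b)
      rw [map_mul, mul_assoc, ← mul_assoc (b : T), ← (mem_center_iff.1 b.2 (x a))]
      simp only [mul_assoc])
  have hker : ∀ s, s ∈ δ.ker ↔ x s = s := fun s => by
    rw [MonoidHom.mem_ker]
    constructor
    · intro hh
      have e : (s : T) * x s = 1 := congrArg Subtype.val hh
      rw [eq_inv_of_mul_eq_one_right e, inv_eq_of_mul_eq_one_right (hzsq _ s.2)]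
    · intro hh
      exact Subtype.ext (by show (s : T) * x s = 1; rw [hh]; exact hzsq _ s.2)
  have hnt : δ.ker ≠ ⊤ := by
    intro htop
    obtain ⟨s, hs, hs1⟩ : ∃ s ∈ center T, s ≠ (1 : T) := by
      by_contra hcon
      push Not at hcon
      rw [show center T = ⊥ from (eq_bot_iff_forall _).2 hcon, card_bot] at hZ
      omega
    have f : ∀ s ∈ center T, x s = s := fun s hs => (hker ⟨s, hs⟩).1 (htop ▸ mem_top _)
    have := hxr s
    rw [f s hs, f _ (H69.Fpf.center_map _ hs)] at this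
    exact hs1 (h.2 s (ρ.injective this.symm))
  have hrk : δ.range ≤ δ.ker := by
    rintro _ ⟨s, rfl⟩
    rw [hker]
    show x ((s : T) * x s) = s * x s
    rw [map_mul, hx, mem_center_iff.1 s.2 (x s)]
  have hk2 : Nat.card δ.ker = 2 := by
    have hcm := δ.ker.card_mul_index
    rw [index_ker, hZ] at hcm
    have hle := card_le_of_le hrk
    have : Nat.card δ.ker ≠ 4 := fun h4 => hnt (eq_top_of_card_eq _ (h4.trans hZ.symm))
    have h4 : Nat.card δ.ker ≤ 4 := Nat.le_of_dvd (by norm_num) (hZ ▸ card_subgroup_dvd_card _)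
    interval_cases hk : Nat.card δ.ker <;> omega
  have hrange : δ.range = δ.ker := by
    refine eq_of_le_of_card_ge hrk ?_
    have hcm := δ.ker.card_mul_index
    rw [index_ker, hZ, hk2] at hcm
    omega
  -- fixed points on the quotient
  have hxN : (center T).map (x : T ≃* T).toMonoidHom = center T :=
    le_antisymm (by rintro _ ⟨g, hg, rfl⟩; exact hxc g hg) fun g hg => ⟨x g, hxc g hg, hx g⟩
  obtain ⟨σ, hσ, hσe⟩ := H69.Fpf.quotient h (N := center T) H69.Fpf.center_map
  let ξ : MulAut (T ⧸ center T) := QuotientGroup.congr _ _ x hxN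
  have hξe : ∀ g : T, ξ (QuotientGroup.mk g) = QuotientGroup.mk (x g) := fun g => rfl
  have hQc : ∀ a b : T ⧸ center T, a * b = b * a := by
    intro a b
    obtain ⟨a, rfl⟩ := QuotientGroup.mk'_surjective _ a
    obtain ⟨b, rfl⟩ := QuotientGroup.mk'_surjective _ b
    rw [← commutatorElement_eq_one_iff_mul_comm, ← map_commutatorElement, QuotientGroup.mk'_apply,
      QuotientGroup.eq_one_iff]
    exact hcomm a b
  have hQ2 : ∀ a : T ⧸ center T, a * a = 1 := by
    intro a
    obtain ⟨a, rfl⟩ := QuotientGroup.mk_surjective a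
    rw [← QuotientGroup.mk_mul, QuotientGroup.eq_one_iff]
    exact hsq a
  have hQ : Nat.card (T ⧸ center T) = 16 := by
    have := (center T).card_mul_index
    rw [hZ, hT, index_eq_card] at this; omega
  let ε : T ⧸ center T →* T ⧸ center T := MonoidHom.mk' (fun a => a * ξ a) fun a b => by
    rw [map_mul, mul_assoc, ← mul_assoc b, hQc b (ξ a)]; simp only [mul_assoc]
  have hεker : ∀ a, a ∈ ε.ker ↔ ξ a = a := fun a =>
    ⟨fun hh => (eq_inv_of_mul_eq_one_right hh).trans (inv_eq_of_mul_eq_one_right (hQ2 a)),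
      fun hh => by show a * ξ a = 1; rw [hh]; exact hQ2 a⟩
  have hξ2 : ∀ a, ξ (ξ a) = a := fun a => by
    obtain ⟨a, rfl⟩ := QuotientGroup.mk_surjective a
    rw [hξe, hξe, hx]
  have hξσ : ∀ a, ξ (σ a) = σ (σ (ξ a)) := fun a => by
    obtain ⟨a, rfl⟩ := QuotientGroup.mk_surjective a
    rw [hσe, hξe, hξe, hσe, hσe, hxr]
  have hεcard : Nat.card ε.ker = 4 := by
    have hrk : ε.range ≤ ε.ker := by
      rintro _ ⟨a, rfl⟩
      rw [hεker]
      show ξ (a * ξ a) = a * ξ a
      rw [map_mul, hξ2, hQc]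
    have hcm := ε.ker.card_mul_index
    rw [index_ker, hQ] at hcm
    have hle := card_le_of_le hrk
    -- `ker ∩ σ ker = 1`
    have hinj : Function.Injective fun p : ε.ker × ε.ker => (p.1 : T ⧸ center T) * σ p.2 := by
      rintro ⟨a, b⟩ ⟨a', b'⟩ hab
      have e : σ ((b : T ⧸ center T) * (b' : T ⧸ center T)⁻¹) = (a : T ⧸ center T)⁻¹ * a' := by
        rw [map_mul, map_inv]
        calc σ b * (σ (b' : T ⧸ center T))⁻¹
            = (a : T ⧸ center T)⁻¹ * ((a : T ⧸ center T) * σ b) * (σ (b' : T ⧸ center T))⁻¹ := by group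
          _ = _ := by rw [show (a : T ⧸ center T) * σ b = a' * σ b' from hab]; group
      set w := (b : T ⧸ center T) * (b' : T ⧸ center T)⁻¹
      have hw : ξ w = w := (hεker w).1 (mul_mem b.2 (inv_mem b'.2))
      have hsw : ξ (σ w) = σ w := (hεker _).1 (e ▸ mul_mem (inv_mem a.2) a'.2)
      rw [hξσ, hw] at hsw
      have hw1 : w = 1 := hσ.2 w (σ.injective hsw)
      have hb : b = b' := Subtype.ext (mul_inv_eq_one.1 hw1)
      subst hb
      exact Prod.ext (Subtype.ext (mul_right_cancel (hab : (a : T ⧸ center T) * σ b = a' * σ b))) rfl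
    have h16 := Nat.card_le_card_of_injective _ hinj
    rw [Nat.card_prod, hQ] at h16
    nlinarith
  -- lifting
  let φ : C →* T ⧸ center T := (QuotientGroup.mk' (center T)).comp C.subtype
  have hφr : φ.range = ε.ker := by
    ext a
    constructor
    · rintro ⟨g, rfl⟩
      rw [hεker]
      show ξ (QuotientGroup.mk (g : T)) = QuotientGroup.mk (g : T)
      rw [hξe, (hC _).1 g.2]
    · intro ha
      obtain ⟨g, rfl⟩ := QuotientGroup.mk_surjective a
      have hm : g⁻¹ * x g ∈ center T := QuotientGroup.eq.1 ((hξe g).symm.trans ((hεker _).1 ha)).symm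
      set w := g⁻¹ * x g with hw
      have hwk : (⟨w, hm⟩ : center T) ∈ δ.ker := by
        rw [hker]
        show x w = w
        have e : w * x w = 1 := by rw [hw, map_mul, map_inv, hx]; group
        rw [eq_inv_of_mul_eq_one_right e, inv_eq_of_mul_eq_one_right (hzsq _ hm)]
      rw [← hrange] at hwk
      obtain ⟨s, hs⟩ := hwk
      have hs' : (s : T) * x s = w := congrArg Subtype.val hs
      refine ⟨⟨g * s, (hC _).2 ?_⟩, ?_⟩
      · rw [map_mul, show x g = g * w by rw [hw, mul_inv_cancel_left], ← hs', mul_assoc, mul_assoc,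
          hzsq _ (hxc _ s.2), mul_one]
      · show QuotientGroup.mk (g * (s : T)) = (QuotientGroup.mk g : T ⧸ center T)
        exact QuotientGroup.mk_mul_of_mem g s.2
  have hφk : Nat.card φ.ker = 2 := by
    rw [← hk2]
    refine Nat.card_congr
      { toFun := fun g => ⟨⟨(g.1 : T), (QuotientGroup.eq_one_iff _).1 g.2⟩, (hker _).2 ((hC _).1 g.1.2)⟩
        invFun := fun s => ⟨⟨(s.1 : T), (hC _).2 ((hker _).1 s.2)⟩, (QuotientGroup.eq_one_iff _).2 s.1.2⟩
        left_inv := fun g => rfl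
        right_inv := fun s => rfl }
  have hC8 : Nat.card C = 8 := by
    rw [← φ.ker.card_mul_index, index_ker, hφr, hεcard, hφk]
  refine ⟨hZ, hc, hC8, ?_⟩
  -- the noncommuting pair
  obtain ⟨z, hzC, hzc, hz1⟩ : ∃ z, z ∈ C ∧ z ∈ center T ∧ z ≠ 1 := by
    obtain ⟨s, hs, hs1⟩ := (bot_or_exists_ne_one δ.ker).resolve_left (fun hb => by
      rw [hb, card_bot] at hk2; omega)
    exact ⟨s, (hC _).2 ((hker s).1 hs), s.2, fun hh => hs1 (Subtype.ext hh)⟩
  have hcz : ∀ g ∈ C, g ∈ center T → g = 1 ∨ g = z := by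
    intro g hg hgc
    by_contra hcon
    push Not at hcon
    let m : Fin 3 → δ.ker := ![1, ⟨⟨z, hzc⟩, (hker _).2 ((hC _).1 hzC)⟩, ⟨⟨g, hgc⟩, (hker _).2 ((hC _).1 hg)⟩]
    have hm : Function.Injective m := by
      intro i j hij
      have e := congrArg (fun s : δ.ker => ((s : center T) : T)) hij
      fin_cases i <;> fin_cases j <;> simp [m] at e ⊢ <;>
        first
          | exact hz1 e
          | exact hz1 e.symm
          | exact hcon.1 e
          | exact hcon.1 e.symm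
          | exact hcon.2 e
          | exact hcon.2 e.symm
    have := Nat.card_le_card_of_injective m hm
    rw [Nat.card_fin, hk2] at this
    omega
  obtain ⟨c, hcC, d, hdC, hcd⟩ : ∃ c ∈ C, ∃ d ∈ C, ⁅c, d⁆ ≠ 1 := by
    by_contra hcon
    push Not at hcon
    apply hna
    -- the image of `C` and its conjugate generate the quotient
    have hgen : ∀ g : T, ∃ a ∈ C, ∃ b ∈ C, ∃ s ∈ center T, g = a * ρ b * s := by
      intro g
      have hinj : Function.Injective fun p : ε.ker × ε.ker => (p.1 : T ⧸ center T) * σ p.2 := by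
        rintro ⟨a, b⟩ ⟨a', b'⟩ hab
        have e : σ ((b : T ⧸ center T) * (b' : T ⧸ center T)⁻¹) = (a : T ⧸ center T)⁻¹ * a' := by
          rw [map_mul, map_inv]
          calc σ b * (σ (b' : T ⧸ center T))⁻¹
              = (a : T ⧸ center T)⁻¹ * ((a : T ⧸ center T) * σ b) * (σ (b' : T ⧸ center T))⁻¹ := by group
            _ = _ := by rw [show (a : T ⧸ center T) * σ b = a' * σ b' from hab]; group
        set w := (b : T ⧸ center T) * (b' : T ⧸ center T)⁻¹
        have hw : ξ w = w := (hεker w).1 (mul_mem b.2 (inv_mem b'.2))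
        have hsw : ξ (σ w) = σ w := (hεker _).1 (e ▸ mul_mem (inv_mem a.2) a'.2)
        rw [hξσ, hw] at hsw
        have hw1 : w = 1 := hσ.2 w (σ.injective hsw)
        have hb : b = b' := Subtype.ext (mul_inv_eq_one.1 hw1)
        subst hb
        exact Prod.ext (Subtype.ext (mul_right_cancel (hab : (a : T ⧸ center T) * σ b = a' * σ b))) rfl
      have hbij := (Nat.bijective_iff_injective_and_card _).2
        ⟨hinj, by rw [Nat.card_prod, hεcard, hQ]⟩
      obtain ⟨⟨⟨a, ha⟩, ⟨b, hb⟩⟩, hab⟩ := hbij.2 (QuotientGroup.mk g)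
      rw [← hφr] at ha hb
      obtain ⟨⟨a, haC⟩, rfl⟩ := ha
      obtain ⟨⟨b, hbC⟩, rfl⟩ := hb
      refine ⟨a, haC, b, hbC, (a * ρ b)⁻¹ * g, ?_, (mul_inv_cancel_left _ _).symm⟩
      refine QuotientGroup.eq.1 ?_
      rw [QuotientGroup.mk_mul, ← hσe]
      exact hab
    have zc : ∀ (g : T), ∀ s ∈ center T, ⁅g, s⁆ = 1 := fun g s hs =>
      commutatorElement_eq_one_iff_mul_comm.2 (mem_center_iff.1 hs g)
    have hall : ∀ g k : T, ⁅g, k⁆ = 1 := by
      intro g k
      obtain ⟨a, ha, b, hb, s, hs, rfl⟩ := hgen g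
      obtain ⟨a', ha', b', hb', s', hs', rfl⟩ := hgen k
      simp only [H69.Fpf.comm_mul_left hc, H69.Fpf.comm_mul_right hc, zc _ _ hs']
      rw [H69.Fpf.comm_symm hc a' s, H69.Fpf.comm_symm hc (ρ b') s, zc _ _ hs, zc _ _ hs,
        hcon a ha a' ha', H69.Fpf.comm_cross hc h a b', hcon a ha b' hb',
        H69.Fpf.comm_symm hc a' (ρ b), H69.Fpf.comm_cross hc h a' b, hcon a' ha' b hb,
        ← H69.Fpf.rho_comm b b', hcon b hb b' hb']
      simp
    exact eq_top_iff.2 fun g _ => mem_center_iff.2 fun k =>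
      commutatorElement_eq_one_iff_mul_comm.1 (hall k g)
  have hcd' : ⁅c, d⁆ = z := (hcz _ (by
    rw [commutatorElement_def]
    exact mul_mem (mul_mem (mul_mem hcC hdC) (inv_mem hcC)) (inv_mem hdC)) (hcomm c d)).resolve_left hcd
  exact ⟨c, hcC, d, hdC, z, hzC, hzc, hz1, hcd', hcz _ (mul_mem hcC hcC) (hsq c),
    hcz _ (mul_mem hdC hdC) (hsq d)⟩

open Subgroup in
theorem H69_main {T : Type*} [Group T] [Finite T] (hT : Nat.card T = 64) (hna : center T ≠ ⊤)
    (ρ x : MulAut T) (h : H69.Fpf.IsFpf ρ) (hx : ∀ g, x (x g) = g)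
    (hxr : ∀ g, x (ρ g) = ρ (ρ (x g))) (C : Subgroup T) (hC : ∀ y, y ∈ C ↔ x y = y) :
    (∃ (u v : T), u * u = 1 ∧ v * v = 1 ∧ ⁅u, v⁆ ≠ 1) ∧ Nat.card (center T) = 4 ∧
      H69.Fpf.Class2 T ∧ (Nonempty (↥C ≃* DihedralGroup 4) ∨ Nonempty (↥C ≃* QuaternionGroup 2)) := by
  obtain ⟨hZ, hc, hC8, c, hcC, d, hdC, z, hzC, hzc, hz1, hcd, hc2, hd2⟩ :=
    H69_fixed hT hna ρ x h hx hxr C hC
  have hz2 : z * z = 1 := hc.zsq z hzc
  have hzi : z⁻¹ = z := inv_eq_of_mul_eq_one_right hz2
  -- the dihedral case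
  have dih : ∀ r s : T, r ∈ C → s ∈ C → r * r = z → s * s = 1 → ⁅r, s⁆ = z →
      (∃ (u v : T), u * u = 1 ∧ v * v = 1 ∧ ⁅u, v⁆ ≠ 1) ∧ Nonempty (↥C ≃* DihedralGroup 4) := by
    intro r s hr hs hr2 hs2 hrs
    have hsr : ⁅s, r⁆ = z := (H69.Fpf.comm_symm hc r s).trans hrs
    have hr4 : r ^ 4 = 1 := by
      rw [show (4 : ℕ) = 2 * 2 from rfl, pow_mul, sq, sq, hr2, hz2]
    have hconj : s * r * s⁻¹ = r⁻¹ := by
      calc s * r * s⁻¹ = ⁅s, r⁆ * r := by rw [commutatorElement_def]; group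
        _ = r * r * r := by rw [hsr, hr2]
        _ = r⁻¹ := eq_inv_of_mul_eq_one_left (by rw [← hr4]; simp [pow_succ, mul_assoc])
    refine ⟨⟨s * r, s, ?_, hs2, ?_⟩, ?_⟩
    · rw [H69.Fpf.sq_mul hc, hs2, hr2, hsr, one_mul, hz2]
    · rw [H69.Fpf.comm_mul_left hc, commutatorElement_self, hrs, one_mul]; exact hz1
    · refine H69_iso_of_inj C (H91.dihedralLift r s hr4 hs2 hconj) ?_ (by rw [hC8, DihedralGroup.nat_card]) ?_
      · refine H69_inj _ H69_elems.1 _ ?_
        show r ^ (2 : ZMod 4).val ≠ 1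
        rw [show (2 : ZMod 4).val = 2 from rfl, sq, hr2]; exact hz1
      · rintro (i | i)
        · exact pow_mem hr _
        · exact mul_mem hs (pow_mem hr _)
  rcases hc2 with hc1 | hc1 <;> rcases hd2 with hd1 | hd1
  · obtain ⟨hu, hi⟩ := dih (c * d) c (mul_mem hcC hdC) hcC
      (by rw [H69.Fpf.sq_mul hc, hc1, hd1, one_mul, one_mul, hcd]) hc1
      (by rw [H69.Fpf.comm_mul_left hc, commutatorElement_self, one_mul, H69.Fpf.comm_symm hc c d, hcd])
    exact ⟨hu, hZ, hc, .inl hi⟩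
  · obtain ⟨hu, hi⟩ := dih d c hdC hcC hd1 hc1 ((H69.Fpf.comm_symm hc c d).trans hcd)
    exact ⟨hu, hZ, hc, .inl hi⟩
  · obtain ⟨hu, hi⟩ := dih c d hcC hdC hc1 hd1 hcd
    exact ⟨hu, hZ, hc, .inl hi⟩
  · have hsum : z * ρ z * ρ (ρ z) = 1 := H69.Fpf.orbit_prod h z
    refine ⟨⟨c * ρ d, d * ρ c, ?_, ?_, ?_⟩, hZ, hc, .inr ?_⟩
    · rw [H69.Fpf.sq_mul hc, hc1, ← map_mul, hd1, H69.Fpf.comm_cross hc h, hcd]; exact hsum
    · rw [H69.Fpf.sq_mul hc, hd1, ← map_mul, hc1, H69.Fpf.comm_cross hc h,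
        H69.Fpf.comm_symm hc c d, hcd]; exact hsum
    · rw [H69.Fpf.comm_mul_left hc, H69.Fpf.comm_mul_right hc, H69.Fpf.comm_mul_right hc, hcd,
        commutatorElement_eq_one_iff_mul_comm.2 (H69.Fpf.commute_rho h c),
        commutatorElement_eq_one_iff_mul_comm.2 (H69.Fpf.commute_rho h d).symm, ← H69.Fpf.rho_comm d c,
        H69.Fpf.comm_symm hc c d, hcd, mul_one, one_mul]
      intro hh
      rw [hh, one_mul] at hsum
      exact hz1 (ρ.injective (ρ.injective (hsum.trans (by rw [map_one, map_one]))))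
    · have hr4 : c ^ 4 = 1 := by
        rw [show (4 : ℕ) = 2 * 2 from rfl, pow_mul, sq, sq, hc1, hz2]
      have hconj : d * c * d⁻¹ = c⁻¹ := by
        calc d * c * d⁻¹ = ⁅d, c⁆ * c := by rw [commutatorElement_def]; group
          _ = c * c * c := by rw [H69.Fpf.comm_symm hc c d, hcd, hc1]
          _ = c⁻¹ := eq_inv_of_mul_eq_one_left (by rw [← hr4]; simp [pow_succ, mul_assoc])
      obtain ⟨f, fa, fx⟩ := H69_q8 c d hr4 (by rw [hd1, sq, hc1]) hconj
      refine H69_iso_of_inj C f ?_ (by rw [hC8, Nat.card_eq_fintype_card, QuaternionGroup.card]) ?_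
      · refine H69_inj _ H69_elems.2 f ?_
        rw [show (QuaternionGroup.a 2 : QuaternionGroup 2) = QuaternionGroup.a 1 * QuaternionGroup.a 1 from rfl,
          map_mul, fa, hc1]
        exact hz1
      · intro k
        have hk : k ∈ closure ({QuaternionGroup.a 1, QuaternionGroup.xa 0} : Set (QuaternionGroup 2)) := by
          rcases k with i | i
          · rw [show (QuaternionGroup.a i : QuaternionGroup 2) = QuaternionGroup.a 1 ^ i.val by
              rw [QuaternionGroup.a_one_pow, ZMod.natCast_zmod_val]]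
            exact pow_mem (subset_closure (Set.mem_insert _ _)) _
          · rw [show (QuaternionGroup.xa i : QuaternionGroup 2) = QuaternionGroup.xa 0 * QuaternionGroup.a 1 ^ i.val by
              rw [QuaternionGroup.a_one_pow, ZMod.natCast_zmod_val, QuaternionGroup.xa_mul_a, zero_add]]
            exact mul_mem (subset_closure (Set.mem_insert_of_mem _ rfl))
              (pow_mem (subset_closure (Set.mem_insert _ _)) _)
        refine (closure_le (K := C.comap f)).2 ?_ hk
        rintro _ (rfl | rfl)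
        · show f _ ∈ C; rw [fa]; exact hcC
        · show f _ ∈ C; rw [fx]; exact hdC

theorem H69_sylow {F : Type} [Field F] [Fintype F] (hF : Fintype.card F = 4) :
    ∃ S : Sylow 2 (Matrix.ProjectiveSpecialLinearGroup (Fin 3) F),
      Nonempty (↥(H37.unitriangularSL 3 F) ≃* ↥(S : Subgroup (Matrix.ProjectiveSpecialLinearGroup (Fin 3) F))) := by
  classical
  have := H37.charP_two_of_card_four hF
  have := Fact.mk Nat.prime_two
  set π := QuotientGroup.mk' (Subgroup.center (Matrix.SpecialLinearGroup (Fin 3) F))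
  let P := H37.sylowSL (F := F) 2 3
  let S := P.mapSurjective (f := π) (QuotientGroup.mk'_surjective _)
  have hS : (S : Subgroup _) = (H37.unitriangularSL 3 F).map π := rfl
  have hd : Disjoint (H37.unitriangularSL 3 F) π.ker := by
    rw [disjoint_iff]
    refine Subgroup.inf_eq_bot_of_coprime ?_
    rw [QuotientGroup.ker_mk', H37.card_unitriangularSL, H37.card_center_SL,
      Nat.card_eq_fintype_card, hF, Fintype.card_fin]
    decide
  have hinj : Function.Injective (π.comp (H37.unitriangularSL 3 F).subtype) := by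
    rw [← MonoidHom.ker_eq_bot_iff]
    ext g
    rw [MonoidHom.mem_ker, Subgroup.mem_bot]
    refine ⟨fun hg => Subtype.ext ?_, fun hg => by rw [hg, map_one]⟩
    exact Subgroup.mem_bot.1 (hd.le_bot ⟨g.2, MonoidHom.mem_ker.2 hg⟩)
  exact ⟨S, ⟨(MonoidHom.ofInjective hinj).trans (MulEquiv.subgroupCongr (by
    rw [hS, MonoidHom.range_comp, Subgroup.range_subtype]))⟩⟩


/-- Let T be a non-abelian group of order 64 admitting automorphisms ρ of order 3 and x of order 2 with x ρ x⁻¹ = ρ⁻¹ (so they generate a symmetric group of degree 3), where ρ fixes only the identity. Then T is isomorphic to a Sylow 2-subgroup of the projective special linear group of dimension 3 over the field with 4 elements, and the subgroup of fixed points of x is dihedral of order 8 or quaternion of order 8. -/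
theorem result {T : Type*} [Group T] [Finite T] (hT : Nat.card T = 64) (hna : ¬ IsMulCommutative T) (ρ x : MulAut T) (hρ : orderOf ρ = 3) (hx : orderOf x = 2)
    (hxr : x * ρ * x⁻¹ = ρ⁻¹) (hfp : ∀ y : T, ρ y = y → y = 1) (C : Subgroup T) (hC : ∀ y : T, y ∈ C ↔ x y = y) :
    (∃ (F : Type) (_ : Field F) (_ : Fintype F), Fintype.card F = 4 ∧
        ∃ S : Sylow 2 (Matrix.ProjectiveSpecialLinearGroup (Fin 3) F), Nonempty (T ≃* ↥(S : Subgroup (Matrix.ProjectiveSpecialLinearGroup (Fin 3) F)))) ∧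
      (Nonempty (↥C ≃* DihedralGroup 4) ∨ Nonempty (↥C ≃* QuaternionGroup 2)) := by
  have h : H69.Fpf.IsFpf ρ := ⟨fun g => by
    have := DFunLike.congr_fun (pow_orderOf_eq_one ρ) g
    rw [hρ] at this
    simpa [pow_succ] using this, hfp⟩
  have hx2 : ∀ g, x (x g) = g := fun g => by
    have := DFunLike.congr_fun (pow_orderOf_eq_one x) g
    rw [hx] at this
    simpa [pow_succ] using this
  have hρinv : ∀ g, ρ⁻¹ g = ρ (ρ g) := fun g => ρ.injective (by
    rw [h.1, ← MulAut.mul_apply, mul_inv_cancel, MulAut.one_apply])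
  have hxr' : ∀ g, x (ρ g) = ρ (ρ (x g)) := fun g => by
    have := DFunLike.congr_fun hxr (x g)
    rw [MulAut.mul_apply, MulAut.mul_apply, hρinv] at this
    rwa [show x⁻¹ (x g) = g from x.symm_apply_apply g] at this
  have hna' : Subgroup.center T ≠ ⊤ := fun htop => hna
    ⟨⟨fun a b => Subgroup.mem_center_iff.1 (htop ▸ Subgroup.mem_top b) a⟩⟩
  obtain ⟨⟨u, v, hu, hv, huv⟩, hZ, hcl, hCiso⟩ := H69_main hT hna' ρ x h hx2 hxr' C hC
  refine ⟨?_, hCiso⟩
  have := Fact.mk Nat.prime_two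
  letI : Fintype (GaloisField 2 2) := Fintype.ofFinite _
  have hF : Fintype.card (GaloisField 2 2) = 4 := by
    rw [← Nat.card_eq_fintype_card, GaloisField.card 2 2 (by norm_num)]; rfl
  obtain ⟨e⟩ := H69.Fpf.iso_model hcl h hT hZ hu hv huv hF
  obtain ⟨S, ⟨eS⟩⟩ := H69_sylow hF
  exact ⟨_, inferInstance, inferInstance, hF, S, ⟨e.symm.trans eS⟩⟩

end Cfsg.Agent.S3157
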