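import Cfsg.Statements.S2933
import Cfsg.Agent.H77.FourCentralizerSetup
import Cfsg.Agent.H29.ThreeInvolutionsPSU
import Cfsg.Agent.S3157

set_option autoImplicit false
open Cfsg

namespace Cfsg.Agent.S2933

/-- Let T be a 2-subgroup of a finite group G, V ≤ Z(T) a four-group, and t, ρ ∈ N_G(V) ∩ N_G(T) elements of order 2 and 3 with t commuting with ρ and with V. If [V, ρ] = V and C_T(t) = V, then T is elementary abelian of order 16, or homocyclic of rank 2 (ℤ/2ⁿ × ℤ/2ⁿ for some n ≥ 1), or isomorphic to a Sylow 2-subgroup of PSL₃(4) or of PSU₃(4). -/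
theorem result {G : Type*} [Group G] [Finite G] (T V : Subgroup G) (hT : IsPGroup 2 ↥T) (hVT : V ≤ T ⊓ Subgroup.centralizer (T : Set G)) (hV : Nat.card ↥V = 4 ∧ ∀ v ∈ V, v ^ 2 = 1) (t ρ : G) (ht : orderOf t = 2) (hρ : orderOf ρ = 3) (htn : t ∈ Subgroup.normalizer (V : Set G) ⊓ Subgroup.normalizer (T : Set G)) (hρn : ρ ∈ Subgroup.normalizer (V : Set G) ⊓ Subgroup.normalizer (T : Set G)) (htρ : t * ρ = ρ * t) (htV : t ∈ Subgroup.centralizer (V : Set G)) (hVρ : ⁅V, Subgroup.zpowers ρ⁆ = V) (hCt : T ⊓ Subgroup.centralizer ({t} : Set G) = V) : (Nat.card ↥T = 16 ∧ ∀ x ∈ T, x ^ 2 = 1) ∨ (∃ n : ℕ, 1 ≤ n ∧ Nonempty (↥T ≃* Multiplicative (ZMod (2 ^ n)) × Multiplicative (ZMod (2 ^ n)))) ∨ (∃ (F : Type) (_ : Field F) (_ : Fintype F), Fintype.card F = 4 ∧ ∀ P : Sylow 2 (Matrix.ProjectiveSpecialLinearGroup (Fin 3) F), Nonempty (↥T ≃* ↥(P : Subgroup (Matrix.ProjectiveSpecialLinearGroup (Fin 3) F)))) ∨ (∃ (F : Type) (_ : Field F) (_ : Fintype F), Fintype.card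 F = 16 ∧ ∀ P : Sylow 2 (Cfsg.PSU 3 F 4), Nonempty (↥T ≃* ↥(P : Subgroup (Cfsg.PSU 3 F 4)))) := by
  classical
  haveI : Fact (Nat.Prime 2) := ⟨Nat.prime_two⟩
  obtain ⟨τ, σ, h⟩ := H77.FourCent.setup T V hT hVT hV t ρ ht hρ htn hρn htρ hVρ hCt
  by_cases hab : ∀ x y : T, x * y = y * x
  · rcases H77.FourCent.abelian_cases h hab with ⟨h16, hel⟩ | hall
    · exact Or.inl ⟨h16, fun x hx => by
        rw [pow_two]; exact congrArg Subtype.val (hel ⟨x, hx⟩)⟩
    · have hfour : Nat.card {x : T // x * x = 1} = 4 := by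
        rw [Nat.card_congr (Equiv.subtypeEquivRight fun x => (⟨hall x, h.sq x⟩ :
          x * x = 1 ↔ x ∈ V.subgroupOf T))]
        exact h.card
      obtain ⟨n, hn, ⟨e⟩⟩ := Cfsg.Agent.H29.ThreeInv.homocyclic hT hab hfour (k := σ)
        fun x y hx1 hx hy1 hy => H77.FourCent.fpf_trans h.fpf (P := fun u => u * u = 1) (one_mul 1)
          (fun u hu => by rw [← map_mul, hu, map_one]) hfour hx1 hx hy1 hy
      exact Or.inr (Or.inl ⟨n, hn, ⟨e.trans (MulEquiv.prodMultiplicative _ _)⟩⟩)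
  · obtain ⟨h64, hZ, hc2, hcases⟩ := H77.FourCent.nonabelian h hab
    rcases hcases with hfour | ⟨u, v, hu, hv, huv⟩
    · refine Or.inr (Or.inr (Or.inr ?_))
      letI : Fintype (GaloisField 2 4) := Fintype.ofFinite _
      have hF : Fintype.card (GaloisField 2 4) = 16 := by
        rw [← Nat.card_eq_fintype_card, GaloisField.card 2 4 (by omega)]; norm_num
      refine ⟨GaloisField 2 4, inferInstance, inferInstance, hF, fun P => ?_⟩
      push Not at hab
      have htrans : ∀ x y : T, orderOf x = 2 → orderOf y = 2 → ∃ j : ℕ, (σ ^ j) x = y := by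
        intro x y hx hy
        refine H77.FourCent.fpf_trans h.fpf (P := fun u => u * u = 1) (one_mul 1)
          (fun u hu => by rw [← map_mul, hu, map_one]) hfour
          (fun e => by rw [e, orderOf_one] at hx; omega) ?_
          (fun e => by rw [e, orderOf_one] at hy; omega) ?_
        · show x * x = 1; rw [← pow_two, ← hx, pow_orderOf_eq_one]
        · show y * y = 1; rw [← pow_two, ← hy, pow_orderOf_eq_one]
      obtain ⟨b, z₁, z₂, hb⟩ := Cfsg.Agent.H29.ThreeInv.nonabelian_table hT hab hfour σ htrans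
      obtain ⟨b', z₁', z₂', hb'⟩ := Cfsg.Agent.H29.ThreeInv.psu34_table hF P
      haveI : Finite (P : Subgroup (Cfsg.PSU 3 (GaloisField 2 4) 4)) :=
        Nat.finite_of_card_ne_zero (by rw [hb'.card]; norm_num)
      exact hb.iso hb'
    · refine Or.inr (Or.inr (Or.inl ?_))
      letI : Fintype (GaloisField 2 2) := Fintype.ofFinite _
      have hF : Fintype.card (GaloisField 2 2) = 4 := by
        rw [← Nat.card_eq_fintype_card, GaloisField.card 2 2 (by omega)]; norm_num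
      refine ⟨GaloisField 2 2, inferInstance, inferInstance, hF, fun P => ?_⟩
      obtain ⟨e⟩ := H69.Fpf.iso_model hc2 h.fpf h64 hZ hu hv huv hF
      obtain ⟨S, ⟨f⟩⟩ := Cfsg.Agent.S3157.H69_sylow hF
      exact ⟨e.symm.trans (f.trans (S.equiv P))⟩

end Cfsg.Agent.S2933
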