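import Cfsg.Statements.S2934
import Cfsg.Agent.H98.UniqueInvFixed

set_option autoImplicit false
open Cfsg

namespace Cfsg.Agent.S2934

/-- Let p be an odd prime, W a finite 2-group and E a non-cyclic abelian p-subgroup of Aut(W) such that, for every nontrivial e ∈ E, the fixed points of e in W contain at most one involution. Then E has order 9, W is extraspecial of order 2⁵, 2⁷ or 2⁹, and the common fixed points of E in W form exactly the centre Z(W). -/
theorem result {W : Type*} [Group W] [Finite W] (hW : IsPGroup 2 W) {p : ℕ} [Fact p.Prime] (hp : p ≠ 2) (E : Subgroup (MulAut W)) (hE : IsPGroup p ↥E) (hab : IsMulCommutative ↥E) (hnc : ¬ IsCyclic ↥E) (hfix : ∀ e ∈ E, e ≠ 1 → ∀ x y : W, orderOf x = 2 → orderOf y = 2 → e x = x → e y = y → x = y) : Nat.card ↥E = 9 ∧ Cfsg.IsExtraspecial 2 W ∧ (Nat.card W = 2 ^ 5 ∨ Nat.card W = 2 ^ 7 ∨ Nat.card W = 2 ^ 9) ∧ {x : W | ∀ e ∈ E, e x = x} = (Subgroup.center W : Set W) := by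
  classical
  let D₀ : H98.UniqueInvData W p := ⟨E, hW, hp, hE, hab, hnc, hfix⟩
  obtain ⟨z, h1, h2, h3, h4⟩ := D₀.exists_z
  let D : H98.UniqueInvCtx W p := ⟨D₀, z, h1, h2, h3, h4⟩
  haveI : Fintype (Subgroup W) := Fintype.ofFinite _
  obtain ⟨hex, hcen⟩ := D.isExtraspecial_main
  obtain ⟨hlo, hhi, h9⟩ := D.counts
  refine ⟨h9, hex, ?_, hcen⟩
  have hc := D.card_span (Finset.univ.filter (· ∈ D.qSet)) fun Q hQ => (Finset.mem_filter.1 hQ).2
  rw [D.span_all, Subgroup.card_top] at hc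
  generalize (Finset.univ.filter (· ∈ D.qSet)).card = k at hlo hhi hc
  interval_cases k <;> simp_all
end Cfsg.Agent.S2934
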