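import Cfsg.Statements.S2940
import Cfsg.Agent.H77.Conj

set_option autoImplicit false
open Cfsg

namespace Cfsg.Agent.S2940

/-- Let S be a Sylow p-subgroup of the finite group G and G₁, G₂ subgroups containing S with G = G₁G₂. Then for every g ∈ G there is a Sylow p-subgroup U of G with S ∩ S^g ≤ U ≤ G₁ ∩ G₂^g (conjugates taken as X^g = g⁻¹Xg). -/
theorem result {G : Type*} [Group G] [Finite G] {p : ℕ} [Fact p.Prime] (S : Sylow p G) (G₁ G₂ : Subgroup G) (h1 : (S : Subgroup G) ≤ G₁) (h2 : (S : Subgroup G) ≤ G₂) (hfact : ∀ g : G, ∃ g₁ ∈ G₁, ∃ g₂ ∈ G₂, g = g₁ * g₂) (g : G) : ∃ U : Sylow p G, (S : Subgroup G) ⊓ Cfsg.subgroupConjRight g (S : Subgroup G) ≤ (U : Subgroup G) ∧ (U : Subgroup G) ≤ G₁ ⊓ Cfsg.subgroupConjRight g G₂ := by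
  obtain ⟨g₂, hg₂, g₁, hg₁, hg⟩ : ∃ g₂ ∈ G₂, ∃ g₁ ∈ G₁, g = g₂ * g₁ := by
    obtain ⟨a, ha, b, hb, hab⟩ := hfact g⁻¹
    refine ⟨b⁻¹, G₂.inv_mem hb, a⁻¹, G₁.inv_mem ha, ?_⟩
    rw [← mul_inv_rev, ← hab, inv_inv]
  have hK : subgroupConjRight g G₂ = H77.cmap g₁⁻¹ G₂ := by
    show H77.cmap g⁻¹ G₂ = _
    rw [hg, mul_inv_rev, ← H77.cmap_cmap,
      H77.cmap_eq_of_mem_normalizer (Subgroup.le_normalizer (G₂.inv_mem hg₂))]
  have h1' : ((g₁⁻¹ • S : Sylow p G) : Subgroup G) ≤ G₁ ⊓ subgroupConjRight g G₂ := by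
    rw [H77.sylow_smul_coe, hK]
    refine le_inf ((H77.cmap_mono _ h1).trans ?_) (H77.cmap_mono _ h2)
    rw [H77.cmap_eq_of_mem_normalizer (Subgroup.le_normalizer (G₁.inv_mem hg₁))]
  have hD : (S : Subgroup G) ⊓ subgroupConjRight g (S : Subgroup G) ≤ G₁ ⊓ subgroupConjRight g G₂ :=
    le_inf (inf_le_left.trans h1) (inf_le_right.trans (H77.cmap_mono _ h2))
  exact H77.exists_sylow_between S.2.to_inf_left hD _ h1'

end Cfsg.Agent.S2940
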