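import Cfsg.Statements.S2955
import Cfsg.Agent.H77.SylowChain

set_option autoImplicit false
open Cfsg

namespace Cfsg.Agent.S2955

/-- Let p be a prime dividing the order of the finite group G and 𝓕 a conjugation-closed family of subgroups that controls Sylow p-intersections in G. Suppose the Sylow p-subgroups of G are chain-connected: any two of them are joined by a chain of Sylow p-subgroups, consecutive ones distinct with nontrivial intersection, all containing the intersection of the two ends (equivalently, the graph on the Sylow p-subgroups whose edges are the distinct pairs meeting nontrivially is connected). Then for every Sylow p-subgroup S, G is generated by N_G(S) together with the members of 𝓕 that meet S in a Sylow p-subgroup of themselves. -/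
theorem result {G : Type*} [Group G] [Finite G] (p : ℕ) [Fact p.Prime] (hdiv : p ∣ Nat.card G)
    (𝓕 : Set (Subgroup G)) (h𝓕 : Cfsg.IsNormalSet 𝓕) (hc : Cfsg.ControlsSylowIntersections p 𝓕)
    (hconn : Cfsg.IsSylowChainConnected p G) (S : Sylow p G) :
    (⨆ X ∈ Cfsg.sylowMembers p 𝓕 (S : Subgroup G), X) ⊔ Subgroup.normalizer ((S : Subgroup G) : Set G) = ⊤ := by
  classical
  set M : Subgroup G := (⨆ X ∈ Cfsg.sylowMembers p 𝓕 (S : Subgroup G), X) ⊔
    Subgroup.normalizer ((S : Subgroup G) : Set G) with hM
  have hstep : ∀ g : G, (g • S : Sylow p G) ≠ S →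
      (S : Subgroup G) ⊓ ((g • S : Sylow p G) : Subgroup G) ≠ ⊥ → g ∈ M := by
    intro g hne hD
    obtain ⟨n, c, X, x, h0, hn, hs⟩ := hc S (g • S) (Ne.symm hne) hD
    obtain ⟨Y, y, y₀, hy₀, hY, hg, -⟩ := H77.factor_of_chain h𝓕 S c X x h0 hn hs
    rw [hg]
    refine M.mul_mem (Subgroup.list_prod_mem M ?_) (Subgroup.mem_sup_right hy₀)
    intro z hz
    obtain ⟨i, rfl⟩ := List.mem_ofFn.1 hz
    exact Subgroup.mem_sup_left (Subgroup.mem_iSup_of_mem (Y i) (Subgroup.mem_iSup_of_mem (hY i).1 (hY i).2))
  rw [eq_top_iff]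
  intro g _
  obtain ⟨n, c, h0, hn, -, hadj⟩ := hconn S (g • S)
  have hall : ∀ i : Fin (n + 1), ∃ m ∈ M, c i = m • S := by
    intro i
    induction i using Fin.induction with
    | zero => exact ⟨1, M.one_mem, by rw [h0, one_smul]⟩
    | succ j ih =>
      obtain ⟨m, hm, hcj⟩ := ih
      obtain ⟨hne, hint⟩ := hadj j
      obtain ⟨t, ht⟩ := MulAction.exists_smul_eq G (c j.castSucc) (c j.succ)
      refine ⟨t * m, ?_, by rw [mul_smul, ← hcj, ht]⟩
      rw [hcj] at ht hne hint
      have he : (c j.succ) = m • ((m⁻¹ * t * m) • S) := by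
        rw [← ht, smul_smul, smul_smul]; congr 1; group
      have h1 : m⁻¹ * t * m ∈ M := by
        refine hstep _ (fun h => hne ?_) (fun h => hint ?_)
        · rw [he, h]
        · rw [he, H77.sylow_smul_coe, H77.sylow_smul_coe m, ← H77.cmap_inf, h]; exact Subgroup.map_bot _
      have := M.mul_mem hm h1
      simpa [mul_assoc] using this
  obtain ⟨m, hm, hlast⟩ := hall (Fin.last n)
  rw [hn] at hlast
  have h2 : m⁻¹ * g ∈ Subgroup.normalizer ((S : Subgroup G) : Set G) := by
    exact Sylow.smul_eq_iff_mem_normalizer.1 (by rw [mul_smul, hlast, inv_smul_smul])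
  have := M.mul_mem hm (Subgroup.mem_sup_right h2)
  simpa using this

end Cfsg.Agent.S2955
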