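import Cfsg.Statements.S2957
import Cfsg.Agent.H77.TopTransfer

set_option autoImplicit false
open Cfsg

namespace Cfsg.Agent.S2957

/-- Let p be a prime dividing the order of the finite group G, f an equivariant assignment of a set of subgroups f(P) of P to every p-subgroup P, each normalized by N_G(P), and S a Sylow p-subgroup. If G = G₁G₂ for subgroups G₁, G₂ both containing S and both regular for f (in each Gᵢ, the family of normalizers in Gᵢ of the members of f(P), P a Sylow p-subgroup of Gᵢ, controls Sylow p-intersections), then G itself is regular for f. -/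
theorem result {G : Type*} [Group G] [Finite G] (p : ℕ) [Fact p.Prime] (hdiv : p ∣ Nat.card G)
    (f : Subgroup G → Set (Subgroup G)) (hf : Cfsg.IsNormalizerFunctor p f) (S : Sylow p G)
    (G₁ G₂ : Subgroup G) (h₁ : (S : Subgroup G) ≤ G₁) (h₂ : (S : Subgroup G) ≤ G₂)
    (hprod : ∀ g : G, ∃ g₁ ∈ G₁, ∃ g₂ ∈ G₂, g = g₁ * g₂)
    (hr₁ : Cfsg.IsFunctorRegular p f G₁) (hr₂ : Cfsg.IsFunctorRegular p f G₂) :
    Cfsg.IsFunctorRegular p f ⊤ := by
  have h𝓕 := H77.functorFamily_top_normal hf
  have key : ∀ A B : Sylow p G, (A : Subgroup G) ⊓ (B : Subgroup G) ≠ ⊥ →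
      Relation.ReflTransGen (H77.ChainStep p (functorFamily p f ⊤) ((A : Subgroup G) ⊓ (B : Subgroup G))) A B := by
    intro A B hD
    obtain ⟨g0, rfl⟩ := MulAction.exists_smul_eq G S A
    obtain ⟨g1, rfl⟩ := MulAction.exists_smul_eq G (g0 • S) B
    obtain ⟨a, ha, b, hb, hab⟩ := hprod (g0⁻¹ * g1 * g0)
    set D := ((g0 • S : Sylow p G) : Subgroup G) ⊓ ((g1 • g0 • S : Sylow p G) : Subgroup G) with hDdef
    set D₀ := H77.cmap g0⁻¹ D with hD0
    have hg : g1 • g0 • S = g0 • a • b • S := by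
      rw [smul_smul, smul_smul, smul_smul]
      congr 1
      rw [mul_assoc g0 a b, ← hab]; group
    have hbS : ((b • S : Sylow p G) : Subgroup G) ≤ G₂ := by
      rw [H77.sylow_smul_coe]
      exact (H77.cmap_mono _ h₂).trans
        (le_of_eq (H77.cmap_eq_of_mem_normalizer (Subgroup.le_normalizer hb)))
    have hD1 : D₀ ≤ (S : Subgroup G) := by
      rw [hD0, H77.cmap_le_iff, inv_inv, ← H77.sylow_smul_coe]; exact inf_le_left
    have hD2 : D₀ ≤ ((a • b • S : Sylow p G) : Subgroup G) := by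
      rw [hD0, H77.cmap_le_iff, inv_inv, ← H77.sylow_smul_coe, ← hg]; exact inf_le_right
    have hD0ne : D₀ ≠ ⊥ := by
      intro h
      apply hD
      have := congrArg (H77.cmap g0) h
      rw [hD0, H77.cmap_cmap_inv] at this
      exact this.trans (Subgroup.map_bot _)
    have hDK : D₀ ≤ G₁ ⊓ H77.cmap a G₂ := by
      refine le_inf (hD1.trans h₁) (hD2.trans ?_)
      rw [H77.sylow_smul_coe a]
      exact H77.cmap_mono _ hbS
    have hK : ((a • S : Sylow p G) : Subgroup G) ≤ G₁ ⊓ H77.cmap a G₂ := by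
      rw [H77.sylow_smul_coe]
      exact le_inf ((H77.cmap_mono _ h₁).trans
        (le_of_eq (H77.cmap_eq_of_mem_normalizer (Subgroup.le_normalizer ha)))) (H77.cmap_mono _ h₂)
    obtain ⟨U, hU1, hU2⟩ := H77.exists_sylow_between (S.2.to_le hD1) hDK _ hK
    have c1 := H77.chain_of_regular hf hr₁ h₁ (hU2.trans inf_le_left) hD0ne hD1 hU1
    have hU' : ((a⁻¹ • U : Sylow p G) : Subgroup G) ≤ G₂ := by
      rw [H77.sylow_smul_coe, H77.cmap_le_iff, inv_inv]
      exact hU2.trans inf_le_right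
    have hne' : H77.cmap a⁻¹ D₀ ≠ ⊥ := by
      intro h
      apply hD0ne
      have := congrArg (H77.cmap a) h
      rw [H77.cmap_cmap_inv] at this
      exact this.trans (Subgroup.map_bot _)
    have e1 : H77.cmap a⁻¹ D₀ ≤ ((a⁻¹ • U : Sylow p G) : Subgroup G) := by
      rw [H77.sylow_smul_coe]; exact H77.cmap_mono _ hU1
    have e2 : H77.cmap a⁻¹ D₀ ≤ ((b • S : Sylow p G) : Subgroup G) := by
      rw [H77.cmap_le_iff, inv_inv, ← H77.sylow_smul_coe]; exact hD2
    have c2 := H77.chain_cmap h𝓕 a (H77.chain_of_regular hf hr₂ hU' hbS hne' e1 e2)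
    rw [smul_inv_smul, H77.cmap_cmap_inv] at c2
    have c3 := H77.chain_cmap h𝓕 g0 (c1.trans c2)
    rw [← hg, hD0, H77.cmap_cmap_inv] at c3
    exact c3
  -- transfer to the group `⊤`
  show ControlsSylowIntersections p _
  rw [H77.controls_iff_chain]
  intro a b hab hne
  obtain ⟨A, hA⟩ := H77.exists_sylow_eq_map S (le_top : (S : Subgroup G) ≤ ⊤) a
  obtain ⟨B, hB⟩ := H77.exists_sylow_eq_map S (le_top : (S : Subgroup G) ≤ ⊤) b
  exact H77.chain_to_top a b A B hA hB (key A B fun h => hne (by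
    apply Subgroup.map_injective (⊤ : Subgroup G).subtype_injective
    rw [Subgroup.map_inf _ _ _ (⊤ : Subgroup G).subtype_injective, ← hA, ← hB, h, Subgroup.map_bot]))

end Cfsg.Agent.S2957
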