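import Cfsg.Statements.S2958
import Cfsg.Agent.H77.Conj

set_option autoImplicit false
open Cfsg

namespace Cfsg.Agent.S2958

/-- Let X, A, B be subgroups of a group G such that G is generated by the conjugates of X and every conjugate of X is contained in A or in B. Then A = G or B = G. -/
theorem result {G : Type*} [Group G] (X A B : Subgroup G) (hgen : (⨆ g : G, X.map (MulAut.conj g).toMonoidHom) = ⊤) (hcover : ∀ g : G, X.map (MulAut.conj g).toMonoidHom ≤ A ∨ X.map (MulAut.conj g).toMonoidHom ≤ B) : A = ⊤ ∨ B = ⊤ := by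
  classical
  set c : G → Subgroup G := fun g => X.map (MulAut.conj g).toMonoidHom with hc
  by_cases hB : ∀ g, c g ≤ B
  · right
    rw [eq_top_iff, ← hgen]; exact iSup_le hB
  left
  push_neg at hB
  obtain ⟨g₀, hg₀⟩ := hB
  have hcc : ∀ g h, H77.cmap g (c h) = c (g * h) := fun g h => H77.cmap_cmap g h X
  set U : Subgroup G := ⨆ (g : G) (_ : ¬ c g ≤ B), c g with hU
  have hUA : U ≤ A := iSup₂_le fun g hg => (hcover g).resolve_right hg
  have hle : ∀ g, ¬ c g ≤ B → c g ≤ U := fun g hg => le_iSup₂_of_le g hg le_rfl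
  have hmapB : ∀ b ∈ B, H77.cmap b U ≤ U := by
    intro b hb
    rw [H77.cmap_le_iff]
    refine iSup₂_le fun g hg => ?_
    rw [← H77.cmap_le_iff, hcc]
    apply hle
    intro hle'
    apply hg
    intro x hx
    have h1 : b * x * b⁻¹ ∈ B := hle' (by rw [← hcc]; exact H77.conj_mem_cmap hx)
    have h2 := B.mul_mem (B.mul_mem (B.inv_mem hb) h1) hb
    simpa [mul_assoc] using h2
  have hBN : B ≤ Subgroup.normalizer (U : Set G) := by
    intro b hb
    apply H77.mem_normalizer_of_cmap_eq
    refine le_antisymm (hmapB b hb) ?_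
    have := H77.cmap_mono b (hmapB b⁻¹ (B.inv_mem hb))
    simpa [H77.cmap_cmap_inv] using this
  have hN : Subgroup.normalizer (U : Set G) = ⊤ := by
    rw [eq_top_iff, ← hgen]
    refine iSup_le fun g => ?_
    by_cases hg : c g ≤ B
    · exact hg.trans hBN
    · exact (hle g hg).trans Subgroup.le_normalizer
  have hUtop : U = ⊤ := by
    rw [eq_top_iff, ← hgen]
    refine iSup_le fun g => ?_
    have h1 : H77.cmap (g * g₀⁻¹) U = U :=
      H77.cmap_eq_of_mem_normalizer (by rw [hN]; trivial)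
    calc c g = H77.cmap (g * g₀⁻¹) (c g₀) := by rw [hcc]; simp
      _ ≤ H77.cmap (g * g₀⁻¹) U := H77.cmap_mono _ (hle g₀ hg₀)
      _ = U := h1
  exact eq_top_iff.2 (hUtop ▸ hUA)

end Cfsg.Agent.S2958
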