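import Cfsg.Statements.S2963
import Cfsg.Agent.H77.Conj
import Mathlib.GroupTheory.Perm.Sign
import Mathlib.Algebra.Group.Pointwise.Set.Basic
import Mathlib.Algebra.Group.Action.Pointwise.Set.Basic
import Mathlib.GroupTheory.GroupAction.Quotient
import Mathlib.Data.Fintype.Perm
import Mathlib.Algebra.Group.Subgroup.Finite
import Mathlib.Data.Nat.Prime.Pow

set_option autoImplicit false
open Cfsg
open scoped Pointwise

namespace Cfsg.Agent.S2963

/-- Let n be odd. If the symmetric group of degree n is a minimal parabolic group for the prime 2, that is, a Sylow 2-subgroup is not normal and lies in exactly one maximal subgroup, then n = 2^m + 1 for some natural number m. -/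
theorem result (n : ℕ) (hn : Odd n) (h : Cfsg.IsPMinimal 2 (Equiv.Perm (Fin n))) : ∃ m : ℕ, n = 2 ^ m + 1 := by
  classical
  obtain ⟨P⟩ : Nonempty (Sylow 2 (Equiv.Perm (Fin n))) := inferInstance
  obtain ⟨hnn, M, ⟨hM, hPM⟩, huniq⟩ := h P
  -- a fixed point
  have hfix : (MulAction.fixedPoints ↥(P : Subgroup (Equiv.Perm (Fin n))) (Fin n)).Nonempty := by
    refine P.2.nonempty_fixed_point_of_prime_not_dvd_card _ ?_
    simpa [Nat.card_eq_fintype_card] using hn.not_two_dvd_nat
  obtain ⟨a, ha⟩ := hfix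
  have hPa : (P : Subgroup (Equiv.Perm (Fin n))) ≤ MulAction.stabilizer (Equiv.Perm (Fin n)) a :=
    fun g hg => ha ⟨g, hg⟩
  by_cases hn1 : n = 1
  · subst hn1
    exfalso
    apply hnn
    constructor
    intro x hx g
    rw [Subsingleton.elim g 1]
    simpa using hx
  have hn3 : 3 ≤ n := by
    obtain ⟨k, hk⟩ := hn
    omega
  obtain ⟨x, hxa⟩ : ∃ x : Fin n, x ≠ a := by
    haveI : Nontrivial (Fin n) := Fin.nontrivial_iff_two_le.2 (by omega)
    exact exists_ne a
  set B : Set (Fin n) := MulAction.orbit ↥(P : Subgroup (Equiv.Perm (Fin n))) x with hB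
  have haB : a ∉ B := by
    rintro ⟨g, hg⟩
    have h1 := ha g⁻¹
    rw [← hg] at h1
    simp only [inv_smul_smul] at h1
    exact hxa (h1.trans hg)
  obtain ⟨j, hj⟩ := P.2.card_orbit x
  refine ⟨j, ?_⟩
  by_contra hne
  -- a second point outside B
  obtain ⟨b, hba, hbB⟩ : ∃ b : Fin n, b ≠ a ∧ b ∉ B := by
    by_contra hcon
    push Not at hcon
    have hBeq : B = {a}ᶜ := by
      ext y
      exact ⟨fun hy hya => haB (hya ▸ hy), fun hy => hcon y hy⟩
    apply hne
    have h1 : Nat.card ↥B = n - 1 := by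
      rw [Nat.card_coe_set_eq, hBeq, Set.ncard_compl, Set.ncard_singleton, Nat.card_eq_fintype_card,
        Fintype.card_fin]
    rw [← hB, h1] at hj
    omega
  have hPB : (P : Subgroup (Equiv.Perm (Fin n))) ≤ MulAction.stabilizer (Equiv.Perm (Fin n)) B :=
    fun g hg => MulAction.mem_stabilizer_iff.2 (MulAction.smul_orbit (⟨g, hg⟩ : ↥(P : Subgroup (Equiv.Perm (Fin n)))) x)
  have habB : Equiv.swap a b ∈ MulAction.stabilizer (Equiv.Perm (Fin n)) B := by
    rw [MulAction.mem_stabilizer_set]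
    intro y
    rw [Equiv.Perm.smul_def]
    by_cases h1 : y = a
    · subst h1; simp [hbB, haB]
    by_cases h2 : y = b
    · subst h2; simp [hbB, haB]
    rw [Equiv.swap_apply_of_ne_of_ne h1 h2]
  have hle : ∀ K : Subgroup (Equiv.Perm (Fin n)), (P : Subgroup (Equiv.Perm (Fin n))) ≤ K → K ≠ ⊤ → K ≤ M := by
    intro K hPK hK
    obtain ⟨M', hM', hKM'⟩ := (IsCoatomic.eq_top_or_exists_le_coatom K).resolve_left hK
    rw [← huniq M' ⟨hM', hPK.trans hKM'⟩]
    exact hKM'
  have hSa : MulAction.stabilizer (Equiv.Perm (Fin n)) a ≤ M := by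
    refine hle _ hPa fun htop => hxa ?_
    have : Equiv.swap a x ∈ MulAction.stabilizer (Equiv.Perm (Fin n)) a := htop ▸ Subgroup.mem_top _
    rw [MulAction.mem_stabilizer_iff, Equiv.Perm.smul_def, Equiv.swap_apply_left] at this
    exact this
  have habM : Equiv.swap a b ∈ M := by
    refine hle _ hPB (fun htop => haB ?_) habB
    have : Equiv.swap a x ∈ MulAction.stabilizer (Equiv.Perm (Fin n)) B := htop ▸ Subgroup.mem_top _
    rw [MulAction.mem_stabilizer_set] at this
    have h2 := (this x).2 (MulAction.mem_orbit_self x)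
    simpa using h2
  have hay : ∀ y, y ≠ a → Equiv.swap a y ∈ M := by
    intro y hy
    by_cases hyb : y = b
    · exact hyb ▸ habM
    have h1 : Equiv.swap b y ∈ M := hSa (by
      rw [MulAction.mem_stabilizer_iff, Equiv.Perm.smul_def]
      exact Equiv.swap_apply_of_ne_of_ne (Ne.symm hba) (Ne.symm hy))
    have h2 := M.mul_mem (M.mul_mem h1 habM) (M.inv_mem h1)
    rw [← Equiv.swap_apply_apply, Equiv.swap_apply_of_ne_of_ne (Ne.symm hba) (Ne.symm hy),
      Equiv.swap_apply_left] at h2
    exact h2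
  apply hM.1
  rw [eq_top_iff, ← Equiv.Perm.closure_isSwap, Subgroup.closure_le]
  rintro σ ⟨u, v, huv, rfl⟩
  by_cases hu : u = a
  · subst hu; exact hay v (Ne.symm huv)
  by_cases hv : v = a
  · subst hv; rw [Equiv.swap_comm]; exact hay u huv
  exact hSa (by
    rw [MulAction.mem_stabilizer_iff, Equiv.Perm.smul_def]
    exact Equiv.swap_apply_of_ne_of_ne (Ne.symm hu) (Ne.symm hv))

end Cfsg.Agent.S2963
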