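import Cfsg.Statements.S2968
import Cfsg.Agent.H77.Isolated

set_option autoImplicit false
open Cfsg

namespace Cfsg.Agent.S2968

/-- Let G be a finite group, p a prime, P a Sylow p-subgroup of G and x ∈ P an element of p-power order which is isolated in G (the only conjugate of x commuting with x is x itself). Then x lies in the centre of P, and the subgroup generated by x is both strongly closed and weakly closed in P with respect to G. -/
theorem result {G : Type*} [Group G] [Finite G] {p : ℕ} [Fact p.Prime] (P : Sylow p G) (x : G) (hxP : x ∈ (P : Subgroup G)) (hx : ∃ k : ℕ, orderOf x = p ^ k) (hiso : Cfsg.IsIsolated x) : x ∈ (P : Subgroup G) ⊓ Subgroup.centralizer ((P : Subgroup G) : Set G) ∧ Cfsg.IsStronglyClosed (Subgroup.zpowers x) (P : Subgroup G) ∧ Cfsg.IsWeaklyClosed (Subgroup.zpowers x) (P : Subgroup G) := by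
  have hcomm : ∀ y ∈ (P : Subgroup G), Commute x y := fun y hy => H77.isolated_commute P.2 hxP hiso hy
  have hstrong : IsStronglyClosed (Subgroup.zpowers x) (P : Subgroup G) := by
    refine ⟨Subgroup.zpowers_le.2 hxP, fun z hz g hg => ?_⟩
    obtain ⟨i, rfl⟩ := Subgroup.mem_zpowers_iff.1 hz
    have hxH : x ∈ Subgroup.centralizer ({g * x ^ i * g⁻¹} : Set G) :=
      Subgroup.mem_centralizer_singleton_iff.2 (hcomm _ hg)
    have hgH : g * x * g⁻¹ ∈ Subgroup.centralizer ({g * x ^ i * g⁻¹} : Set G) := by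
      rw [Subgroup.mem_centralizer_singleton_iff]
      have hc : Commute x (x ^ i) := Commute.self_zpow x i
      exact (Commute.conj_iff g).2 hc
    obtain ⟨h, hh, hfix⟩ := H77.isolated_exists_fix hx hxH hgH hiso
    rw [Subgroup.mem_centralizer_singleton_iff] at hh
    have e1 : g * x ^ i * g⁻¹ = h * (g * x ^ i * g⁻¹) * h⁻¹ := by rw [hh]; group
    have e2 : h * g * x ^ i * (h * g)⁻¹ = x ^ i := by
      rw [← conj_zpow, hfix]
    have e3 : g * x ^ i * g⁻¹ = x ^ i := by
      rw [e1]
      calc h * (g * x ^ i * g⁻¹) * h⁻¹ = h * g * x ^ i * (h * g)⁻¹ := by group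
        _ = x ^ i := e2
    rw [e3]
    exact Subgroup.zpow_mem _ (Subgroup.mem_zpowers x) i
  refine ⟨⟨hxP, fun y hy => (hcomm y hy).eq.symm⟩, hstrong, hstrong.1, fun g hg => ?_⟩
  apply Subgroup.eq_of_le_of_card_ge
  · rintro y ⟨z, hz, rfl⟩
    have := hstrong.2 z hz g (by simpa using hg ⟨z, hz, rfl⟩)
    simpa using this
  · exact le_of_eq (H77.card_cmap g (Subgroup.zpowers x)).symm

end Cfsg.Agent.S2968
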