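import Cfsg.Statements.S2970
import Cfsg.Agent.H77.Isolated
import Cfsg.Agent.H77.CyclicSylow
import Mathlib.GroupTheory.Transfer

set_option autoImplicit false
open Cfsg

namespace Cfsg.Agent.S2970

/-- Let G be a finite group, p a prime and x ∈ G an element of p-power order which is isolated in G. Then the image of x in any quotient G ⧸ N is isolated in G ⧸ N; and if x ≠ 1 and the Sylow p-subgroups of G are cyclic, then G has a normal p-complement. -/
theorem result {G : Type*} [Group G] [Finite G] {p : ℕ} [Fact p.Prime] (x : G) (hx : ∃ k : ℕ, orderOf x = p ^ k) (hiso : Cfsg.IsIsolated x) : (∀ (N : Subgroup G) [N.Normal], Cfsg.IsIsolated (QuotientGroup.mk x : G ⧸ N)) ∧ (x ≠ 1 → (∀ P : Sylow p G, IsCyclic ↥(P : Subgroup G)) → Cfsg.HasNormalPComplement p G) := by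
  constructor
  · intro N _ gbar hcomm
    obtain ⟨g, rfl⟩ := QuotientGroup.mk_surjective gbar
    set f := QuotientGroup.mk' N
    have hy : (QuotientGroup.mk g : G ⧸ N) * QuotientGroup.mk x * (QuotientGroup.mk g)⁻¹
        = f (g * x * g⁻¹) := by simp [f]
    rw [hy] at hcomm ⊢
    set H : Subgroup G := (Subgroup.centralizer ({f x, f (g * x * g⁻¹)} : Set (G ⧸ N))).comap f with hH
    have hxH : x ∈ H := by
      simp only [hH, Subgroup.mem_comap, Subgroup.mem_centralizer_iff]
      rintro z (rfl | rfl)
      · rfl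
      · exact hcomm.eq.symm
    have hgH : g * x * g⁻¹ ∈ H := by
      simp only [hH, Subgroup.mem_comap, Subgroup.mem_centralizer_iff]
      rintro z (rfl | rfl)
      · exact hcomm.eq
      · rfl
    obtain ⟨h, hh, hfix⟩ := H77.isolated_exists_fix hx hxH hgH hiso
    simp only [hH, Subgroup.mem_comap, Subgroup.mem_centralizer_iff] at hh
    have e1 := hh (f (g * x * g⁻¹)) (Or.inr rfl)
    have e2 : f h * f (g * x * g⁻¹) * (f h)⁻¹ = f x := by
      rw [← map_mul, ← map_inv, ← map_mul]
      congr 1
      conv_rhs => rw [← hfix]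
      group
    rw [← e1, mul_inv_cancel_right] at e2
    exact e2
  · intro hx1 hcyc
    classical
    obtain ⟨P, hP⟩ := (H77.isPGroup_zpowers hx).exists_le_sylow
    have hxP : x ∈ (P : Subgroup G) := hP (Subgroup.mem_zpowers x)
    haveI := hcyc P
    have hN : Subgroup.normalizer ((P : Subgroup G) : Set G) ≤ Subgroup.centralizer ((P : Subgroup G) : Set G) :=
      fun n hn => H77.mem_centralizer_of_cyclic_sylow P hxP hx1 hn
        (H77.isolated_conj_eq P.2 hxP ((Subgroup.mem_normalizer_iff.1 hn x).1 hxP) hiso)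
    exact ⟨P, _, inferInstance, MonoidHom.ker_transferSylow_isComplement' P hN⟩

end Cfsg.Agent.S2970
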