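import Cfsg.Statements.S2971
import Cfsg.Agent.H2.UniqueSubgroup
import Cfsg.Agent.H77.Isolated
import Cfsg.Agent.H77.CyclicSylow
import Cfsg.Agent.H1.Cores
import Mathlib.GroupTheory.Transfer

set_option autoImplicit false
open Cfsg

namespace Cfsg.Agent.S2971

/-- Let G be a finite group and p an odd prime such that G has p-rank at most 1 (no elementary abelian subgroup of order p²). If x ∈ G is an isolated element of order p, then x is central modulo the largest normal subgroup of G of order prime to p. -/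
theorem result {G : Type*} [Group G] [Finite G] {p : ℕ} [Fact p.Prime] (hp : p ≠ 2) (hrk : Cfsg.PRankLE p 1 G) (x : G) (hx : orderOf x = p) (hiso : Cfsg.IsIsolated x) : Cfsg.InZStar p x := by
  classical
  obtain ⟨P, hP⟩ := (H77.isPGroup_zpowers (p := p) ⟨1, by rw [pow_one, hx]⟩).exists_le_sylow
  have hxP : x ∈ (P : Subgroup G) := hP (Subgroup.mem_zpowers x)
  have hx1 : x ≠ 1 := fun h => (Fact.out : p.Prime).one_lt.ne (by rw [← hx, h, orderOf_one])
  -- every subgroup of order `p` of `P` is `⟨x⟩`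
  have huni : ∀ H : Subgroup ↥(P : Subgroup G), Nat.card H = p →
      H = Subgroup.zpowers (⟨x, hxP⟩ : ↥(P : Subgroup G)) := by
    intro H hH
    haveI : IsCyclic H := isCyclic_of_prime_card hH
    set Z : Subgroup ↥(P : Subgroup G) := Subgroup.zpowers (⟨x, hxP⟩ : ↥(P : Subgroup G)) with hZ
    have hZc : Nat.card ↥Z = p := by rw [hZ, Nat.card_zpowers, Subgroup.orderOf_mk, hx]
    have hcen : Z ≤ Subgroup.center _ := by
      rw [hZ, Subgroup.zpowers_le, Subgroup.mem_center_iff]
      exact fun y => Subtype.ext (H77.isolated_commute P.2 hxP hiso y.2).eq.symm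
    have hsup : ∀ z ∈ Z ⊔ H, ∃ a ∈ Z, ∃ b ∈ H, a * b = z := by
      intro z hz
      haveI : Z.Normal := ⟨fun a ha g => by rwa [Subgroup.mem_center_iff.1 (hcen ha) g, mul_inv_cancel_right]⟩
      exact (Subgroup.mem_sup_of_normal_left).1 hz
    have hcommH : ∀ a ∈ H, ∀ b ∈ H, a * b = b * a := by
      intro a ha b hb
      obtain ⟨g, hg⟩ := IsCyclic.exists_generator (α := ↥H)
      obtain ⟨i, hi⟩ := Subgroup.mem_zpowers_iff.1 (hg ⟨a, ha⟩)
      obtain ⟨j, hj⟩ := Subgroup.mem_zpowers_iff.1 (hg ⟨b, hb⟩)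
      have := congrArg Subtype.val ((Commute.refl g).zpow_zpow i j).eq
      rw [hi, hj] at this
      exact this
    have hA := hrk ((Z ⊔ H).map (P : Subgroup G).subtype) ⟨⟨fun u v => ?_⟩⟩ ?_
    · rw [Subgroup.card_map_of_injective (P : Subgroup G).subtype_injective, pow_one] at hA
      rw [Subgroup.eq_of_le_of_card_ge (le_sup_right : H ≤ Z ⊔ H) (hA.trans hH.ge),
        ← Subgroup.eq_of_le_of_card_ge (le_sup_left : Z ≤ Z ⊔ H) (hA.trans hZc.ge)]
    · obtain ⟨_, u', hu, rfl⟩ := u
      obtain ⟨_, v', hv, rfl⟩ := v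
      apply Subtype.ext
      show ((u' * v' : ↥(P : Subgroup G)) : G) = ((v' * u' : ↥(P : Subgroup G)) : G)
      congr 1
      obtain ⟨a, ha, b, hb, rfl⟩ := hsup u' hu
      obtain ⟨c, hc, d, hd, rfl⟩ := hsup v' hv
      have hac := fun (z) => Subgroup.mem_center_iff.1 (hcen ha) z
      have hcc := fun (z) => Subgroup.mem_center_iff.1 (hcen hc) z
      calc a * b * (c * d) = a * (b * c) * d := by group
        _ = a * (c * b) * d := by rw [hcc b]
        _ = (a * c) * (b * d) := by group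
        _ = (c * a) * (d * b) := by rw [hac c, hcommH b hb d hd]
        _ = c * (a * d) * b := by group
        _ = c * (d * a) * b := by rw [hac d]
        _ = c * d * (a * b) := by group
    · rintro _ ⟨u', hu, rfl⟩
      obtain ⟨a, ha, b, hb, rfl⟩ := hsup u' hu
      have hap : a ^ p = 1 :=
        orderOf_dvd_iff_pow_eq_one.1 ((Subgroup.orderOf_dvd_natCard Z ha).trans (dvd_of_eq hZc))
      have hbp : b ^ p = 1 :=
        orderOf_dvd_iff_pow_eq_one.1 ((Subgroup.orderOf_dvd_natCard H hb).trans (dvd_of_eq hH))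
      rw [← map_pow, (show Commute a b from (Subgroup.mem_center_iff.1 (hcen ha) b).symm).mul_pow, hap, hbp,
        mul_one, map_one]
  haveI hcyc : IsCyclic ↥(P : Subgroup G) :=
    (H2.cyclic_or_quaternion_of_unique P.2 (fun H K hH hK => (huni H hH).trans (huni K hK).symm)).resolve_right
      fun h => hp h.1
  have hN : Subgroup.normalizer ((P : Subgroup G) : Set G) ≤ Subgroup.centralizer ((P : Subgroup G) : Set G) :=
    fun n hn => H77.mem_centralizer_of_cyclic_sylow P hxP hx1 hn
      (H77.isolated_conj_eq P.2 hxP ((Subgroup.mem_normalizer_iff.1 hn x).1 hxP) hiso)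
  set N := (MonoidHom.transferSylow P hN).ker with hNdef
  have hc := MonoidHom.ker_transferSylow_isComplement' P hN
  have hle : N ≤ Cfsg.pPrimeCore p G := H1.le_pPrimeCore
    (((Fact.out : p.Prime).coprime_iff_not_dvd.2 (MonoidHom.not_dvd_card_ker_transferSylow P hN)).symm)
  intro g
  apply hle
  obtain ⟨⟨⟨n, hn⟩, ⟨q, hq⟩⟩, hnq⟩ := (hc.existsUnique g).exists
  rw [← hnq]
  have hqx : q * x * q⁻¹ = x := by
    rw [← (H77.isolated_commute P.2 hxP hiso hq).eq, mul_inv_cancel_right]
  have h2 : n * q * x * (n * q)⁻¹ * x⁻¹ = n * (x * n⁻¹ * x⁻¹) := by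
    calc n * q * x * (n * q)⁻¹ * x⁻¹ = n * (q * x * q⁻¹) * n⁻¹ * x⁻¹ := by group
      _ = n * (x * n⁻¹ * x⁻¹) := by rw [hqx]; group
  show n * q * x * (n * q)⁻¹ * x⁻¹ ∈ N
  rw [h2]
  exact mul_mem hn ((inferInstance : N.Normal).conj_mem _ (inv_mem hn) x)

end Cfsg.Agent.S2971
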