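import Cfsg.Statements.S2981
import Cfsg.Agent.H78.PMin.CStarStar

set_option autoImplicit false
open Cfsg
open Subgroup

namespace Cfsg.Agent.S2981

/-- The local C**(G,T)-Theorem for minimal parabolic groups. Let G be a finite p-minimal group (a Sylow p-subgroup T is not normal and lies in exactly one maximal subgroup) of characteristic p (C_G(O_p(G)) ≤ O_p(G)), and suppose G ≠ C**(G,T), the subgroup generated by C_G(Ω₁(Z(T))) and N_G(J(T)) (J(T) generated by the elementary abelian p-subgroups of T of largest order). Put V = Ω₁(Z(O_p(G))) and C = C_G(V). Then there are subgroups E₁, …, E_r of G containing C such that: J(G)TC = G and the E_i C/C form an internal direct product equal to J(G)C/C; any two of the E_i are conjugate by an element of T; V = C_V(⟨E_i⟩)·∏[V, E_i] with [V, E_i, E_j] = 1 for i ≠ j; for some n ≥ 1, each E_i/C is isomorphic to SL₂(pⁿ), or p = 2 and to the symmetric group of degree 2ⁿ + 1; and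 E_i acts on [V, E_i]/C_{[V,E_i]}(E_i) as the natural two-dimensional SL₂(pⁿ)-module, respectively as the symmetric group of degree 2ⁿ+1 on its even-weight permutation module. -/
theorem result {G : Type*} [Group G] [Finite G] {p : ℕ} [Fact p.Prime] (hmin : Cfsg.IsPMinimal p G) (hG : Subgroup.centralizer (Cfsg.pCore p G : Set G) ≤ Cfsg.pCore p G) (T : Sylow p G) (hne : Cfsg.cStarStarOf p (T : Subgroup G) ≠ ⊤) : ∃ (r : ℕ) (E : Fin r → Subgroup G), (∀ i, Subgroup.centralizer (Cfsg.omegaOneCenter p (Cfsg.pCore p G) : Set G) ≤ E i) ∧ Cfsg.thompsonSubgroup p G ⊔ (T : Subgroup G) ⊔ Subgroup.centralizer (Cfsg.omegaOneCenter p (Cfsg.pCore p G) : Set G) = ⊤ ∧ (⨆ i, E i) = Cfsg.thompsonSubgroup p G ⊔ Subgroup.centralizer (Cfsg.omegaOneCenter p (Cfsg.pCore p G) : Set G) ∧ (∀ i j, i ≠ j → ⁅E i, E j⁆ ≤ Subgroup.centralizer (Cfsg.omegaOneCenter p (Cfsg.pCore p G) : Set G)) ∧ (∀ i, E i ⊓ (⨆ j ∈ {j | j ≠ i}, E j) ≤ Subgroup.centralizer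 (Cfsg.omegaOneCenter p (Cfsg.pCore p G) : Set G)) ∧ (∀ i j, ∃ t ∈ (T : Subgroup G), (E i).map (MulAut.conj t).toMonoidHom = E j) ∧ (Cfsg.omegaOneCenter p (Cfsg.pCore p G) ⊓ Subgroup.centralizer ((⨆ i, E i : Subgroup G) : Set G)) ⊔ (⨆ i, ⁅Cfsg.omegaOneCenter p (Cfsg.pCore p G), E i⁆) = Cfsg.omegaOneCenter p (Cfsg.pCore p G) ∧ (∀ i j, i ≠ j → ⁅⁅Cfsg.omegaOneCenter p (Cfsg.pCore p G), E i⁆, E j⁆ = ⊥) ∧ ∀ i, ∃ n : ℕ, 1 ≤ n ∧ ((∃ (F : Type) (_ : Field F) (_ : Fintype F), Fintype.card F = p ^ n ∧ (∃ _ : ((Subgroup.centralizer (Cfsg.omegaOneCenter p (Cfsg.pCore p G) : Set G)).subgroupOf (E i)).Normal, Nonempty (↥(E i) ⧸ (Subgroup.centralizer (Cfsg.omegaOneCenter p (Cfsg.pCore p G) : Set G)).subgroupOf (E i) ≃* Matrix.SpecialLinearGroup (Fin 2) F)) ∧ Cfsg.ActsAsSL2OnSection F ⊤ (E i) ⁅Cfsg.omegaOneCenter p (Cfsg.pCore p G), E i⁆ (⁅Cfsg.omegaOneCenter p (Cfsg.pCore p G), E i⁆ ⊓ Subgroup.centralizer ((E i : Subgroup G) :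 Set G))) ∨ (p = 2 ∧ (∃ _ : ((Subgroup.centralizer (Cfsg.omegaOneCenter p (Cfsg.pCore p G) : Set G)).subgroupOf (E i)).Normal, Nonempty (↥(E i) ⧸ (Subgroup.centralizer (Cfsg.omegaOneCenter p (Cfsg.pCore p G) : Set G)).subgroupOf (E i) ≃* Equiv.Perm (Fin (2 ^ n + 1)))) ∧ Cfsg.ActsAsOddPermModuleOnSection (2 ^ n + 1) ⊤ (E i) ⁅Cfsg.omegaOneCenter p (Cfsg.pCore p G), E i⁆ (⁅Cfsg.omegaOneCenter p (Cfsg.pCore p G), E i⁆ ⊓ Subgroup.centralizer ((E i : Subgroup G) : Set G)))) := by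
  have h : H78.PMin.CSS.Hyp p T := ⟨hmin, hG, hne⟩
  obtain ⟨r, E', hr, hle, hcomm, hint, hgen, hJ, hconj, hdec, hVc, hpiece⟩ := h.exists_pieces
  show ∃ (r : ℕ) (E : Fin r → Subgroup G), _
  set f := H10.toModel (H78.PMin.CSS.W p G) with hf
  have hker : f.ker = Subgroup.centralizer (H78.PMin.CSS.W p G : Set G) := H78.PMin.CSS.model_ker
  have hmap : ∀ i, ((E' i).comap f).map f = E' i := fun i => H78.PMin.CSS.map_comap_model (hle i)
  have hsup : (⨆ i, (E' i).comap f) = Cfsg.thompsonSubgroup p G ⊔ f.ker := by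
    have hkle : f.ker ≤ ⨆ i, (E' i).comap f :=
      le_trans (comap_mono bot_le) (le_iSup (fun i => (E' i).comap f) ⟨0, hr⟩)
    rw [← sup_eq_left.2 hkle, ← comap_map_eq, Subgroup.map_iSup]
    simp only [hmap]
    rw [hJ, comap_map_eq]
  refine ⟨r, fun i => (E' i).comap f, fun i => hker.ge.trans (comap_mono bot_le), ?_,
    hsup.trans (by rw [hker]), fun i j hij => ?_, fun i => ?_, fun i j => ?_, ?_, fun i j hij => ?_,
    fun i => H78.PMin.CSS.piece_transfer (hle i) (hpiece i)⟩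
  · rw [← hker, ← comap_map_eq, Subgroup.map_sup, ← hJ, hgen]
    exact top_le_iff.1 fun x _ => mem_comap.2 ⟨x, rfl⟩
  · refine le_trans ?_ hker.le
    rw [← Subgroup.map_eq_bot_iff, map_commutator, hmap, hmap]
    exact hcomm i j hij
  · refine le_trans ?_ hker.le
    intro x hx
    have h1 : f x ∈ E' i ⊓ ⨆ j ∈ {j | j ≠ i}, E' j := ⟨hx.1,
      (iSup₂_le fun j hj => comap_mono (le_iSup₂ (f := fun j (_ : j ∈ {j | j ≠ i}) => E' j) j hj) :
        (⨆ j ∈ {j | j ≠ i}, (E' j).comap f) ≤ (⨆ j ∈ {j | j ≠ i}, E' j).comap f) hx.2⟩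
    rw [hint i] at h1
    exact MonoidHom.mem_ker.2 (Subgroup.mem_bot.1 h1)
  · obtain ⟨_, ⟨t, ht, rfl⟩, he⟩ := hconj i j
    refine ⟨t, ht, ?_⟩
    show H70.cj t _ = _
    ext x
    rw [H70.mem_cj, mem_comap, mem_comap, ← he, map_mul, map_mul, map_inv]
    exact H70.mem_cj.symm
  · refine le_antisymm (sup_le inf_le_left (iSup_le fun i => commutator_le_left _ _)) fun v hv => ?_
    set X := (H78.PMin.CSS.W p G ⊓ Subgroup.centralizer ((⨆ i, (E' i).comap f : Subgroup G) : Set G))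
      ⊔ (⨆ i, ⁅H78.PMin.CSS.W p G, (E' i).comap f⁆) with hX
    have hXle : (H10.modelV (H78.PMin.CSS.W p G) ⊓
        Subgroup.centralizer ((⨆ i, E' i : Subgroup _) : Set _)) ⊔
        (⨆ i, ⁅H10.modelV (H78.PMin.CSS.W p G), E' i⁆) ≤
        (X.subgroupOf (H78.PMin.CSS.W p G)).map (H10.ofV (H78.PMin.CSS.W p G)) := by
      refine sup_le ?_ (iSup_le fun i y hy => ?_)
      · rintro _ ⟨⟨u, rfl⟩, hu⟩
        refine ⟨u, mem_subgroupOf.2 (mem_sup_left ⟨u.2, ?_⟩), rfl⟩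
        refine (H78.PMin.CSS.mem_centralizer_model (⨆ i, (E' i).comap f) u).1 ?_
        have he : (⨆ i, (E' i).comap f).map f = ⨆ i, E' i := by
          rw [Subgroup.map_iSup]
          exact iSup_congr hmap
        show H10.ofV _ u ∈ Subgroup.centralizer (((⨆ i, (E' i).comap f).map f : Subgroup _) : Set _)
        rw [he]
        exact hu
      · obtain ⟨u, rfl⟩ : y ∈ H10.modelV (H78.PMin.CSS.W p G) :=
          (le_trans (le_iSup (fun i => ⁅H10.modelV (H78.PMin.CSS.W p G), E' i⁆) i)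
            (le_sup_right.trans hdec.le)) hy
        rw [← hmap i, H78.PMin.CSS.mem_commutator_model] at hy
        exact ⟨u, mem_subgroupOf.2 (mem_sup_right
          (le_iSup (fun i => ⁅H78.PMin.CSS.W p G, (E' i).comap f⁆) i hy)), rfl⟩
    obtain ⟨u, hu, he⟩ := hXle (hdec.ge (⟨⟨v, hv⟩, rfl⟩ : H10.ofV _ ⟨v, hv⟩ ∈ H10.modelV (H78.PMin.CSS.W p G)))
    have := H10.ofV_injective he
    rw [this] at hu
    exact hu
  · rw [commutator_eq_bot_iff_le_centralizer]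
    intro u hu
    have huW : u ∈ H78.PMin.CSS.W p G := commutator_le_left _ _ hu
    have h1 := (commutator_eq_bot_iff_le_centralizer.1 (hVc i j hij))
      (x := H10.ofV _ ⟨u, huW⟩) (by rw [← hmap i, H78.PMin.CSS.mem_commutator_model]; exact hu)
    rw [← hmap j, H78.PMin.CSS.mem_centralizer_model] at h1
    exact h1

end Cfsg.Agent.S2981
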