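import Cfsg.Statements.S2989
import Cfsg.Agent.H78.PushingUpMain

set_option autoImplicit false
open Cfsg

namespace Cfsg.Agent.S2989

/-- Let G be a finite group and S a Sylow p-subgroup of G in the basic pushing-up situation (G ≠ 1, C_G(O_p(G)) ≤ O_p(G), S lies in a unique maximal subgroup of G, and some quotient of G is isomorphic to PSL₂ over a field of order a power of p), and suppose that S centralizes Z(J(S)), where J(S) is generated by the abelian subgroups of S of largest order (that is, J̃(S) = C_S(Z(J(S))) = S). Call a subgroup R of S centrally large if |R|·|Z(R)| is as large as possible among subgroups of S, and let S_Φ be the subgroup generated by the Frattini subgroups Φ(Q) of those minimal centrally large subgroups Q of S whose Ω₁(Z(Q)) has the largest order among minimal centrally large subgroups. Then Z(S) or S_Φ is normal in G; and if S_Φ = 1, the minimal centrally large subgroups of S are exactly the abelian subgroups of S of largest order, and at least one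 of them is elementary abelian. -/
theorem result {G : Type*} [Group G] [Finite G] {p : ℕ} [Fact p.Prime] (S : Subgroup G) (hE : Cfsg.IsPushingUpSituation p S) (hJ : S ≤ Subgroup.centralizer (Cfsg.centerThompsonAOf S : Set G)) : ((S ⊓ Subgroup.centralizer (S : Set G)).Normal ∨ ((Cfsg.frattiniOfMinimalCLJoin p ↥S).map S.subtype).Normal) ∧ (Cfsg.frattiniOfMinimalCLJoin p ↥S = ⊥ → (∀ Q : Subgroup ↥S, Cfsg.IsMinimalCentrallyLarge Q ↔ Q ∈ Cfsg.maxAbelianSubgroups ↥S) ∧ ∃ A ∈ Cfsg.maxAbelianSubgroups ↥S, Cfsg.IsElementaryAbelian p A) := by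
  obtain ⟨q, h⟩ := H78.PU.exists_ctx hE
  refine ⟨h.frattini_alt hJ, fun hbot => ?_⟩
  obtain ⟨R, hR⟩ := H78.exists_cl (G := ↥S)
  obtain ⟨Q0, -, hQ0⟩ := H78.exists_mcl_le hR
  obtain ⟨Q, hQ, hQm⟩ : ∃ Q : Subgroup ↥S, IsMinimalCentrallyLarge Q ∧
      Nat.card ↥(omegaOneCenter p Q) = maxOmegaCenterOfMinimalCL p ↥S :=
    Nat.sSup_mem (s := {k : ℕ | ∃ Q : Subgroup ↥S, IsMinimalCentrallyLarge Q ∧
      Nat.card ↥(omegaOneCenter p Q) = k}) ⟨_, Q0, hQ0, rfl⟩ ⟨Nat.card ↥S, by
      rintro k ⟨Q, -, rfl⟩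
      exact Subgroup.card_le_card_group _⟩
  have hfr : frattini ↥Q = ⊥ := by
    have h1 : (frattini ↥Q).map Q.subtype ≤ ⊥ := hbot ▸
      (le_iSup (fun Q : {Q : Subgroup ↥S // IsMinimalCentrallyLarge Q ∧
        Nat.card ↥(omegaOneCenter p Q) = maxOmegaCenterOfMinimalCL p ↥S} =>
          (frattini ↥(Q : Subgroup ↥S)).map (Q : Subgroup ↥S).subtype) ⟨Q, hQ, hQm⟩)
    exact (Subgroup.map_eq_bot_iff_of_injective _ Q.subtype_injective).1 (le_bot_iff.1 h1)
  have hQp : IsPGroup p ↥Q := h.isPGroup.to_subgroup Q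
  have hone : ∀ x : ↥Q, x ∈ frattini ↥Q → x = 1 := fun x hx => Subgroup.mem_bot.1 (hfr ▸ hx)
  have hQa : IsMulCommutative ↥Q := IsMulCommutative.of_comm fun a b =>
    commutatorElement_eq_one_iff_mul_comm.1 (hone _
      (H6.commutator_le_frattini (p := p) hQp
        (Subgroup.commutator_mem_commutator (Subgroup.mem_top a) (Subgroup.mem_top b))))
  refine ⟨H78.mcl_iff_maxAb hQ hQa, Q, (H78.mcl_iff_maxAb hQ hQa Q).1 hQ, hQa, fun a ha => ?_⟩
  exact congrArg Subtype.val (hone _ (H6.pow_prime_mem_frattini (p := p) hQp (⟨a, ha⟩ : ↥Q)))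

end Cfsg.Agent.S2989
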