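import Cfsg.Statements.S2998
import Mathlib
import Cfsg.Agent.H78.SylowConj
import Cfsg.Agent.H78.CDLattice

set_option autoImplicit false
open Cfsg

namespace Cfsg.Agent.S2998

/-- Let G be a finite group, p a prime, P a Sylow p-subgroup of G and x ∈ P an element such that N_G(R) ≤ C_G(x) for every nontrivial subgroup R of P. Then P ≤ C_G(x); every G-conjugate of x lying in P equals x (so g ∈ C_G(x) whenever g x g⁻¹ ∈ P); and for every normal subgroup N of G, the image of x in G ⧸ N has the same property with respect to the image of P: the normalizer of every nontrivial subgroup of the image of P centralizes the image of x. -/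
theorem result {G : Type*} [Group G] [Finite G] {p : ℕ} [Fact p.Prime] (P : Sylow p G) (x : G) (hxP : x ∈ (P : Subgroup G)) (hlc : ∀ R : Subgroup G, R ≤ (P : Subgroup G) → R ≠ ⊥ → Subgroup.normalizer (R : Set G) ≤ Subgroup.centralizer ({x} : Set G)) : (P : Subgroup G) ≤ Subgroup.centralizer ({x} : Set G) ∧ (∀ g : G, g * x * g⁻¹ ∈ (P : Subgroup G) → g * x * g⁻¹ = x) ∧ ∀ (N : Subgroup G) [N.Normal], ∀ R : Subgroup (G ⧸ N), R ≤ (P : Subgroup G).map (QuotientGroup.mk' N) → R ≠ ⊥ → Subgroup.normalizer (R : Set (G ⧸ N)) ≤ Subgroup.centralizer ({(QuotientGroup.mk x : G ⧸ N)} : Set (G ⧸ N)) := by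
  have hC : ∀ {y z : G}, y ∈ Subgroup.centralizer ({z} : Set G) ↔ y * z = z * y :=
    Subgroup.mem_centralizer_singleton_iff
  by_cases hPbot : (P : Subgroup G) = ⊥
  · have hx1 : x = 1 := Subgroup.mem_bot.1 (hPbot ▸ hxP)
    subst hx1
    refine ⟨fun y _ => hC.2 (by simp), fun g _ => by simp, fun N _ R _ _ y _ => ?_⟩
    exact Subgroup.mem_centralizer_singleton_iff.2 (by simp)
  have hPC : (P : Subgroup G) ≤ Subgroup.centralizer ({x} : Set G) :=
    Subgroup.le_normalizer.trans (hlc _ le_rfl hPbot)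
  refine ⟨hPC, fun g hg => ?_, fun N hN R hR hR0 => ?_⟩
  · by_cases hx1 : x = 1
    · simp [hx1]
    set y := g * x * g⁻¹ with hy
    have hy1 : y ≠ 1 := fun h => hx1 (by simpa [hy] using h)
    have hle : Subgroup.centralizer ({y} : Set G) ≤ Subgroup.centralizer ({x} : Set G) := by
      refine le_trans ?_ (hlc (Subgroup.zpowers y) (Subgroup.zpowers_le.2 hg)
        (Subgroup.zpowers_ne_bot.2 hy1))
      rw [Subgroup.zpowers_eq_closure, ← Subgroup.centralizer_closure]
      exact Subgroup.centralizer_le_normalizer _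
    have hgP : (g • P : Sylow p G) ≤ Subgroup.centralizer ({x} : Set G) := by
      refine le_trans ?_ hle
      intro z hz
      rw [Sylow.coe_subgroup_smul, Subgroup.mem_pointwise_smul_iff_inv_smul_mem] at hz
      have h1 := hC.1 (hPC hz)
      refine hC.2 ?_
      simp only [MulAut.smul_def, MulAut.conj_inv_apply] at h1
      calc z * y = g * ((g⁻¹ * z * g) * x) * g⁻¹ := by rw [hy]; group
        _ = g * (x * (g⁻¹ * z * g)) * g⁻¹ := by rw [h1]
        _ = _ := by rw [hy]; group
    obtain ⟨c, hc⟩ := MulAction.exists_smul_eq ↥(Subgroup.centralizer ({x} : Set G))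
      (P.subtype hPC) ((g • P).subtype hgP)
    rw [Sylow.smul_subtype] at hc
    have hn : (c : G)⁻¹ * g ∈ Subgroup.normalizer ((P : Subgroup G) : Set G) := by
      refine Sylow.smul_eq_iff_mem_normalizer.1 ?_
      rw [mul_smul, ← Sylow.subtype_injective hc]
      simp [Subgroup.smul_def]
    have h1 := hC.1 (hlc _ le_rfl hPbot hn)
    have h2 := hC.1 c.2
    calc y = (c : G) * (((c : G)⁻¹ * g) * x) * ((c : G)⁻¹ * g)⁻¹ * (c : G)⁻¹ := by rw [hy]; group
      _ = (c : G) * x * (c : G)⁻¹ := by rw [h1]; group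
      _ = x := by rw [h2]; group
  · set π := QuotientGroup.mk' N with hπ
    set L := R.comap π with hL
    set R1 := (P : Subgroup G) ⊓ L with hR1
    have hπR1 : R1.map π = R := by
      refine le_antisymm (Subgroup.map_le_iff_le_comap.2 inf_le_right) (fun r hr => ?_)
      obtain ⟨a, ha, rfl⟩ := hR hr
      exact ⟨a, ⟨ha, hr⟩, rfl⟩
    have hR10 : R1 ≠ ⊥ := fun h => hR0 (by rw [← hπR1, h, Subgroup.map_bot])
    have hLeq : L = R1 ⊔ N := by
      rw [hL, ← hπR1, Subgroup.comap_map_eq, hπ, QuotientGroup.ker_mk']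
    have hLn : R1 ⊔ N ≤ L := hLeq.ge
    have hN' : ¬ p ∣ R1.relIndex L := by
      rw [hLeq, H78.relIndex_sup_of_le_normalizer Subgroup.le_normalizer_of_normal]
      have : R1.relIndex N = (P : Subgroup G).relIndex N := by
        rw [hR1, ← Subgroup.inf_relIndex_right, inf_assoc,
          inf_eq_right.2 (le_sup_right.trans hLn), Subgroup.inf_relIndex_right]
      rw [this]
      exact H78.not_dvd_sylow_relIndex P N
    have hR1p : IsPGroup p R1 := P.isPGroup'.to_le inf_le_left
    intro n hn
    obtain ⟨g, rfl⟩ := QuotientGroup.mk'_surjective N n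
    have hgL : ∀ a, a ∈ L ↔ g * a * g⁻¹ ∈ L := fun a => by
      simp only [hL, Subgroup.mem_comap, map_mul, map_inv]
      exact Subgroup.mem_normalizer_iff.1 hn _
    have hle2 : R1.map (MulAut.conj g).toMonoidHom ≤ L := by
      rintro _ ⟨a, ha, rfl⟩
      exact (hgL a).1 ha.2
    obtain ⟨l, hl, heq⟩ := H78.sylow_conj_in hR1p inf_le_right hN'
      (hR1p.map (MulAut.conj g).toMonoidHom) hle2 (Subgroup.card_map_of_injective
        (MulEquiv.injective _)).ge
    have hm : l⁻¹ * g ∈ Subgroup.normalizer (R1 : Set G) := by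
      rw [Subgroup.mem_normalizer_iff_map_conj_eq]
      have : (R1.map (MulAut.conj g).toMonoidHom).map (MulAut.conj l⁻¹).toMonoidHom = R1 := by
        rw [← heq, Subgroup.map_map]
        ext a
        simp [mul_assoc]
      refine Eq.trans ?_ this
      rw [Subgroup.map_map]
      ext a
      simp [mul_assoc]
    have h1 := hC.1 (hlc R1 inf_le_left hR10 hm)
    obtain ⟨a, ha, hla⟩ : π l ∈ (P : Subgroup G).map π := hR hl
    have h2 : π l * π x = π x * π l := by rw [← hla, ← map_mul, ← map_mul, hC.1 (hPC ha)]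
    refine Subgroup.mem_centralizer_singleton_iff.2 ?_
    change π g * π x = π x * π g
    have h3 : π (l⁻¹ * g) * π x = π x * π (l⁻¹ * g) := by rw [← map_mul, ← map_mul, h1]
    calc π g * π x = π l * (π (l⁻¹ * g) * π x) := by simp [mul_assoc]
      _ = (π x * π l) * π (l⁻¹ * g) := by rw [h3, ← mul_assoc, h2]
      _ = _ := by simp [mul_assoc]

end Cfsg.Agent.S2998
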