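import Cfsg.Statements.S2999
import Cfsg.Agent.H78.SpreadSL2
import Cfsg.Agent.H10.OffenderBasics
import Cfsg.Agent.H75.Basic

set_option autoImplicit false
open Cfsg
open Subgroup
open scoped commutatorElement IsMulCommutative

namespace Cfsg.Agent.S2999

/-- Let p be a prime and let P and V be subgroups of a finite group with V elementary abelian, P normalizing V and acting faithfully on it (P ∩ C(V) = 1). Suppose P is p-minimal (a Sylow p-subgroup T of P is not normal and lies in a unique maximal subgroup M of P) and A ≤ T is an elementary abelian subgroup such that: |V/C_V(A)| ≤ |A| while |A₀|·|C_V(A₀)| < |A|·|C_V(A)| for every nontrivial proper subgroup A₀ of A; [C_V(T), P] ≠ 1; and P = ⟨A, xAx⁻¹⟩ for every x ∈ P outside M. Then, with q = |A|, there is a field F with q elements such that P ≅ SL₂(F), C_V(A) = [V, A]·C_V(P), and P acts on V/C_V(P) as SL₂(F) on its natural two-dimensional module. -/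
theorem result {G : Type*} [Group G] [Finite G] {p : ℕ} [Fact p.Prime] (V P : Subgroup G) (hV : Cfsg.IsElementaryAbelian p V) (hPV : P ≤ Subgroup.normalizer (V : Set G)) (hfaith : P ⊓ Subgroup.centralizer (V : Set G) = ⊥) (hmin : Cfsg.IsPMinimal p ↥P) (T : Sylow p ↥P) (M : Subgroup ↥P) (hM : IsCoatom M) (hTM : (T : Subgroup ↥P) ≤ M) (A : Subgroup G) (hAT : A ≤ ((T : Subgroup ↥P).map P.subtype)) (hAel : Cfsg.IsElementaryAbelian p A) (hi : Nat.card ↥V ≤ Nat.card ↥A * Nat.card ↥(V ⊓ Subgroup.centralizer ((A : Subgroup G) : Set G)) ∧ ∀ A₀ : Subgroup G, A₀ ≤ A → A₀ ≠ ⊥ → A₀ ≠ A → Nat.card ↥A₀ * Nat.card ↥(V ⊓ Subgroup.centralizer ((A₀ : Subgroup G) : Set G)) < Nat.card ↥A * Nat.card ↥(V ⊓ Subgroup.centralizer ((A : Subgroup G) : Set G))) (hii : ⁅(V ⊓ Subgroup.centralizer ((((T : Subgroup ↥P).map P.subtype) : Subgroup G) : Set G)), P⁆ ≠ ⊥) (hiii : ∀ x : ↥P, x ∉ M → A ⊔ A.map (MulAut.conj (x : G)).toMonoidHom = P) : ∃ (F : Type) (_ : Field F) (_ : Fintype F),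 Fintype.card F = Nat.card ↥A ∧ Nonempty (↥P ≃* Matrix.SpecialLinearGroup (Fin 2) F) ∧ (V ⊓ Subgroup.centralizer ((A : Subgroup G) : Set G)) = ⁅V, A⁆ ⊔ (V ⊓ Subgroup.centralizer ((P : Subgroup G) : Set G)) ∧ Cfsg.ActsAsSL2OnSection F ⊤ P V (V ⊓ Subgroup.centralizer ((P : Subgroup G) : Set G)) := by
  classical
  have hp := Fact.out (p := p.Prime)
  set T' := (T : Subgroup ↥P).map P.subtype with hT'
  set M' := M.map P.subtype with hM'
  obtain ⟨hTn, hu⟩ := hmin T
  obtain ⟨M₀, hM₀, huniq⟩ := hu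
  have huM : ∀ N : Subgroup ↥P, N ≠ ⊤ → (T : Subgroup ↥P) ≤ N → N ≤ M := by
    intro N hN hTN
    rcases eq_top_or_exists_le_coatom N with h | ⟨K, hK, hNK⟩
    · exact absurd h hN
    · exact hNK.trans (by rw [huniq K ⟨hK, hTN.trans hNK⟩, ← huniq M ⟨hM, hTM⟩])
  have hAP : A ≤ P := hAT.trans (map_subtype_le _)
  have hAM : A ≤ M' := hAT.trans (Subgroup.map_mono hTM)
  have hMP : M' ≤ P := map_subtype_le _
  have hmemM : ∀ g : ↥P, (g : G) ∈ M' ↔ g ∈ M := fun g =>
    ⟨fun ⟨k, hk, he⟩ => (Subtype.ext he : k = g) ▸ hk, fun h => ⟨g, h, rfl⟩⟩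
  obtain ⟨x₀, hx₀⟩ : ∃ x : ↥P, x ∉ M := by
    by_contra hno
    push Not at hno
    exact hM.1 (eq_top_iff.2 fun g _ => hno g)
  have hA1 : A ≠ ⊥ := by
    intro h0
    have := hiii x₀ hx₀
    rw [h0, Subgroup.map_bot, bot_sup_eq] at this
    refine hTn ?_
    have hP : ∀ g : ↥P, g = 1 := fun g => Subtype.ext (Subgroup.mem_bot.1 (this ▸ g.2 : (g : G) ∈ (⊥ : Subgroup G)))
    exact ⟨fun a ha g => by rw [hP g]; simpa using ha⟩
  -- `Q = O_p(P)`
  set K := M.normalCore
  set Q := (T : Subgroup ↥P) ⊓ K with hQ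
  have hQn : Q.Normal := by
    have h := H75.normalizer_inf_sup_eq_top T K
    rw [← Subgroup.normalizer_eq_top_iff]
    by_contra hne
    have hTQ : (T : Subgroup ↥P) ≤ normalizer ((Q : Subgroup ↥P) : Set ↥P) :=
      le_trans (le_inf Subgroup.le_normalizer (le_top.trans (Subgroup.normalizer_eq_top_iff.2
        (Subgroup.normalCore_normal M)).ge)) inf_normalizer_le_normalizer_inf
    refine hM.1 (eq_top_iff.2 ?_)
    rw [← h]
    exact sup_le (huM _ hne hTQ) M.normalCore_le
  set Q' := Q.map P.subtype with hQ'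
  have hQnorm : P ≤ normalizer (Q' : Set G) := by
    rw [Subgroup.le_normalizer_iff]
    rintro g hg _ ⟨q, hq, rfl⟩
    exact ⟨(⟨g, hg⟩ : ↥P) * q * (⟨g, hg⟩ : ↥P)⁻¹, hQn.conj_mem q hq _, rfl⟩
  have hQcore : ∀ a ∈ A, (∀ y ∈ P, y⁻¹ * a * y ∈ M') → a ∈ Q' := by
    intro a ha h
    refine ⟨⟨a, hAP ha⟩, ⟨?_, fun y => ?_⟩, rfl⟩
    · obtain ⟨t, ht, he⟩ := hAT ha
      exact (Subtype.ext he : t = ⟨a, hAP ha⟩) ▸ ht
    · refine (hmemM _).1 ?_
      have := h ((y : G)⁻¹) (inv_mem y.2)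
      simpa using this
  have hQmax : ∀ N : Subgroup G, N ≤ P → IsPGroup p N → P ≤ normalizer (N : Set G) → N ≤ Q' := by
    intro N hNP hN hPN
    have hn : (N.subgroupOf P).Normal := Subgroup.normal_subgroupOf_of_le_normalizer hPN
    have hp' : IsPGroup p (N.subgroupOf P) := hN.of_equiv (subgroupOfEquivOfLe hNP).symm
    have hNT : N.subgroupOf P ≤ (T : Subgroup ↥P) := by
      have h1 := T.is_maximal' (IsPGroup.to_sup_of_normal_right T.isPGroup' hp') le_sup_left
      exact le_sup_right.trans h1.le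
    have hNK : N.subgroupOf P ≤ Q :=
      le_inf hNT (Subgroup.normal_le_normalCore.2 (hNT.trans hTM))
    intro n hn'
    exact ⟨⟨n, hNP hn'⟩, hNK hn', rfl⟩
  obtain ⟨z, hz, hzP⟩ : ∃ z, z ∈ V ⊓ centralizer (T' : Set G) ∧ z ∉ centralizer (P : Set G) := by
    by_contra hno
    push Not at hno
    exact hii (Subgroup.commutator_eq_bot_iff_le_centralizer.2 hno)
  haveI : IsMulCommutative ↥V := hV.1
  -- `A` is quadratic
  have hAV : A ≤ normalizer (V : Set G) := hAP.trans hPV
  have habel : ∀ a ∈ A, ∀ b ∈ A, a * b = b * a := fun a ha b hb => H10.comm_of_elem hAel ha hb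
  have hAab : ⁅A, A⁆ ≤ centralizer (V : Set G) := by
    rw [Subgroup.commutator_eq_bot_iff_le_centralizer.2 (fun a ha => mem_centralizer_iff.2
      fun b hb => habel b hb a ha)]
    exact bot_le
  have hmax : ∀ B : Subgroup G, B ≤ A → H10.offWeight V B ≤ H10.offWeight V A := by
    intro B hB
    by_cases h0 : B = ⊥
    · subst h0
      refine le_trans ?_ hi.1
      rw [H10.offWeight, Subgroup.card_bot, one_mul]
      exact Subgroup.card_le_of_le inf_le_left
    by_cases h1 : B = A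
    · subst h1; exact le_rfl
    exact (hi.2 B hB h0 h1).le
  obtain ⟨hw, hfix⟩ := H10.replacement hV hAV hAab hmax V le_rfl
  set B := A ⊓ centralizer ((⁅V, A⁆ : Subgroup G) : Set G) with hB
  have hBA : B = A := by
    by_contra hne
    rcases eq_or_ne B ⊥ with h0 | h0
    · rw [h0] at hfix
      have hV' : V ≤ ⁅V, A⁆ ⊔ (V ⊓ centralizer (A : Set G)) := by
        rw [← hfix]
        refine le_inf le_rfl fun v _ => mem_centralizer_iff.2 fun b hb => ?_
        rw [SetLike.mem_coe, Subgroup.mem_bot] at hb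
        simp [hb]
      have := H10.commutator_eq_bot_of_sup_eq hV hAV hAab
        (fun a ha => by rw [hAel.2 a ha]; exact one_mem _) le_rfl hV'
      rw [Subgroup.commutator_eq_bot_iff_le_centralizer] at this
      exact hA1 (eq_bot_iff.2 (hfaith ▸ le_inf hAP (Subgroup.le_centralizer_iff.1 this)))
    · exact (hi.2 B inf_le_left h0 hne).ne hw
  -- the section `V / C_V(P)`
  set C := V ⊓ centralizer (P : Set G) with hC
  have hC0 : (C.subgroupOf V).Normal := inferInstance
  letI : CommGroup (↥V ⧸ C.subgroupOf V) :=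
    { (inferInstance : Group (↥V ⧸ C.subgroupOf V)) with
      mul_comm := fun a b => by
        induction a using QuotientGroup.induction_on with
        | H a =>
          induction b using QuotientGroup.induction_on with
          | H b => rw [← QuotientGroup.mk_mul, ← QuotientGroup.mk_mul, mul_comm'] }
  let S : H78.Block.Sec G (Additive (↥V ⧸ C.subgroupOf V)) :=
    { U := V
      U₀ := C
      ψ := MonoidHom.mk' (fun v => Multiplicative.ofAdd (Additive.ofMul (QuotientGroup.mk v)))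
        fun _ _ => rfl
      surj := fun w => by
        obtain ⟨v, hv⟩ := QuotientGroup.mk_surjective (Additive.toMul (Multiplicative.toAdd w))
        refine ⟨v, ?_⟩
        show Multiplicative.ofAdd (Additive.ofMul ((v : ↥V ⧸ C.subgroupOf V))) = w
        rw [hv]; rfl
      ker := fun u => (QuotientGroup.eq_one_iff u).trans mem_subgroupOf }
  haveI : Finite (Additive (↥V ⧸ C.subgroupOf V)) :=
    inferInstanceAs (Finite (↥V ⧸ C.subgroupOf V))
  have hH : H78.Spread.Hyp p S P A M' Q' :=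
    { elem := hV
      le_norm := hPV
      faith := hfaith
      bot_eq := rfl
      le_M := hAM
      M_le := hMP
      abel := habel
      quad := fun a ha v hv => by
        refine ⟨?_, mem_centralizer_iff.2 fun b hb => ?_⟩
        · show a * v * a⁻¹ * v⁻¹ ∈ V
          exact mul_mem ((Subgroup.mem_normalizer_iff.1 (hAV ha) v).1 hv) (inv_mem hv)
        · have h1 : b ∈ centralizer ((⁅V, A⁆ : Subgroup G) : Set G) := (hBA.ge hb).2
          refine (mem_centralizer_iff.1 h1 _ ?_).symm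
          rw [Subgroup.commutator_comm]
          exact Subgroup.commutator_mem_commutator ha hv
      gen := fun x hx hxM => hiii ⟨x, hx⟩ fun h => hxM ((hmemM ⟨x, hx⟩).2 h)
      exists_out := ⟨x₀, x₀.2, fun h => hx₀ ((hmemM x₀).1 h)⟩
      off := hi.1
      strict := hi.2
      Q_le := Subgroup.map_mono (inf_le_left.trans hTM)
      Q_norm := hQnorm
      Q_core := hQcore
      Q_max := hQmax
      fixed := ⟨z, hz.1, centralizer_le (SetLike.coe_subset_coe.2 hAT) hz.2,
        centralizer_le (SetLike.coe_subset_coe.2 (Subgroup.map_mono inf_le_left)) hz.2, hzP⟩ }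
  obtain ⟨F, iF, iFf, hcard, ⟨c, hc, ρ, hρ, hact⟩, hXim⟩ := hH.exists_sl2
  refine ⟨F, iF, iFf, hcard, ⟨MulEquiv.ofBijective ρ hρ⟩, ?_, hPV, inf_le_left, ρ,
    (MonoidHom.mk' (fun v => Multiplicative.ofAdd (c (S.img v)))
      (fun u v => by rw [Subgroup.coe_mul, S.img_mul u.2 v.2, map_add]; rfl) :
        ↥V →* Multiplicative (Fin 2 → F)), ?_, ?_, ?_, ?_⟩
  · refine le_antisymm (fun v hv => ?_) (sup_le (le_inf ?_ ?_) ?_)
    · obtain ⟨w, a, ha, he⟩ := hXim (S.img v) ⟨v, hv.1, hv.2, rfl⟩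
      obtain ⟨u, hu', rfl⟩ := S.exists_img w
      have hau : ⁅a, u⁆ ∈ V := S.commutator_mem_U (hH.nz (hAP ha)) hu'
      rw [hH.phi_apply, ← S.img_commutator (hH.nz (hAP ha)) hu'] at he
      have h1 : ⁅a, u⁆⁻¹ * v ∈ C := (S.img_eq_zero (mul_mem (inv_mem hau) hv.1)).1 (by
        rw [S.img_mul (inv_mem hau) hv.1, S.img_inv hau, he, neg_add_cancel])
      have h2 : ⁅a, u⁆ ∈ ⁅V, A⁆ := by
        rw [Subgroup.commutator_comm]
        exact Subgroup.commutator_mem_commutator ha hu'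
      have := mul_mem (Subgroup.mem_sup_left (T := C) h2) (Subgroup.mem_sup_right (S := ⁅V, A⁆) h1)
      rwa [mul_inv_cancel_left] at this
    · exact Subgroup.commutator_le.2 fun v hv a ha => H10.comm_mem_of_norm hAV hv ha
    · exact Subgroup.le_centralizer_iff.1 (hBA.ge.trans inf_le_right)
    · exact inf_le_inf_left _ (centralizer_le (SetLike.coe_subset_coe.2 hAP))
  · exact MonoidHom.range_eq_top.2 hρ.2
  · intro t
    obtain ⟨w, hw'⟩ := hc.2 (Multiplicative.toAdd t)
    obtain ⟨v, hv, rfl⟩ := S.exists_img w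
    exact ⟨⟨v, hv⟩, Multiplicative.toAdd.injective hw'⟩
  · intro u
    show Multiplicative.ofAdd (c (S.img u)) = 1 ↔ (u : G) ∈ C
    rw [ofAdd_eq_one, ← S.img_eq_zero u.2]
    exact ⟨fun h => hc.1 (h.trans (map_zero c).symm), fun h => by rw [h, map_zero]⟩
  · intro g u
    refine ⟨⟨(g : G) * u * (g : G)⁻¹, H75.conj_mem_of_mem_normalizer (hPV g.2) u.2⟩, rfl, ?_⟩
    show c (S.img ((g : G) * u * (g : G)⁻¹)) = (ρ g).1.mulVec (c (S.img u))
    rw [← S.act_img (hH.nz g.2) u.2, hact]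

end Cfsg.Agent.S2999
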