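import Cfsg.Statements.S3001
import Cfsg.Agent.H80.MP.Main

set_option autoImplicit false
open Cfsg
open scoped commutatorElement

namespace Cfsg.Agent.S3001

/-- Let p be a prime and let P and V be subgroups of a finite group with V elementary abelian, P normalizing V and acting faithfully on it (P ∩ C(V) = 1). Suppose P is p-minimal (a Sylow p-subgroup is not normal and lies in a unique maximal subgroup), O_p(P) = 1, and P has a best offender on V (a subgroup A not centralizing V, with A/C_A(V) elementary abelian and |B|·|C_V(B)| ≤ |A|·|C_V(A)| for every B ≤ A). Then [C_V(T), P] ≠ 1 for every Sylow p-subgroup T of P. -/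
theorem result {G : Type*} [Group G] [Finite G] {p : ℕ} [Fact p.Prime] (V P : Subgroup G) (hV : Cfsg.IsElementaryAbelian p V) (hPV : P ≤ Subgroup.normalizer (V : Set G)) (hfaith : P ⊓ Subgroup.centralizer (V : Set G) = ⊥) (hmin : Cfsg.IsPMinimal p ↥P) (hOp : Cfsg.pCore p ↥P = ⊥) (hoff : ∃ A : Subgroup G, A ≤ P ∧ ¬ A ≤ Subgroup.centralizer (V : Set G) ∧ Cfsg.IsBestOffenderOn p V A) (T : Sylow p ↥P) : ⁅(V ⊓ Subgroup.centralizer ((((T : Subgroup ↥P).map P.subtype) : Subgroup G) : Set G)), P⁆ ≠ ⊥ := by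
  intro hbot
  rw [Subgroup.commutator_eq_bot_iff_le_centralizer] at hbot
  obtain ⟨A, hAP, hAne, hmax, hcomm, hpow⟩ := hoff
  obtain ⟨-, M, ⟨hM, hTM⟩, -⟩ := hmin T
  have hpm := H78.PMin.pm_of_isPMinimal hmin T hM hTM
  have hcore : Cfsg.pCoreOf p P = ⊥ := by
    show (Cfsg.pCore p ↥P).map P.subtype = ⊥
    rw [hOp, Subgroup.map_bot]
  have hel : Cfsg.IsElementaryAbelian p A := by
    refine ⟨⟨⟨fun a b => Subtype.ext ?_⟩⟩, fun a ha => ?_⟩
    · have h1 : ⁅(a : G), (b : G)⁆ ∈ P ⊓ Subgroup.centralizer (V : Set G) :=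
        Subgroup.mem_inf.2 ⟨mul_mem (mul_mem (mul_mem (hAP a.2) (hAP b.2)) (inv_mem (hAP a.2)))
          (inv_mem (hAP b.2)), hcomm (Subgroup.commutator_mem_commutator a.2 b.2)⟩
      rw [hfaith, Subgroup.mem_bot] at h1
      exact commutatorElement_eq_one_iff_mul_comm.1 h1
    · have h1 : a ^ p ∈ P ⊓ Subgroup.centralizer (V : Set G) :=
        Subgroup.mem_inf.2 ⟨pow_mem (hAP ha) p, hpow a ha⟩
      rwa [hfaith, Subgroup.mem_bot] at h1
  refine H80.MP.fixed_moved (Nat.card V) V P _ _ rfl hV hPV hfaith hpm hcore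
    ⟨A, hAP, hel, fun h => hAne (h.le.trans bot_le), ?_⟩ hbot
  have h := hmax ⊥ bot_le
  rwa [Subgroup.card_bot, one_mul, show V ⊓ Subgroup.centralizer ((⊥ : Subgroup G) : Set G) = V
    from inf_eq_left.2 fun v _ => Subgroup.mem_centralizer_iff.2 fun b hb => by
      rw [SetLike.mem_coe, Subgroup.mem_bot] at hb; simp [hb]] at h

end Cfsg.Agent.S3001
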