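import Cfsg.Statements.S3003
import Mathlib
import Cfsg.Agent.H8.Coprime
import Cfsg.Agent.H78.SylowConj

set_option autoImplicit false
open Cfsg

namespace Cfsg.Agent.S3003

/-- Let G be a finite group, p a prime and Q a large p-subgroup of G: C_G(Q) ≤ Q and N_G(U) ≤ N_G(Q) for every nontrivial subgroup U of C_G(Q). Let Q ≤ G₁ ≤ G, let R be a subgroup of order prime to p normalized by G₁, and let U ≤ G₁ be a p-subgroup. If U contains a nontrivial element which is G₁-conjugate to an element of Z(Q), then C_R(U) = 1. In particular, if U is elementary abelian of order at least p² and every maximal subgroup of U contains a nontrivial element G₁-conjugate into Z(Q), then R = 1. -/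
theorem result {G : Type*} [Group G] [Finite G] {p : ℕ} [Fact p.Prime] (Q : Subgroup G) (hQp : IsPGroup p ↥Q) (hlarge : Cfsg.IsLarge Q) (G₁ : Subgroup G) (hQG : Q ≤ G₁) (R : Subgroup G) (hR : (Nat.card ↥R).Coprime p) (hGR : G₁ ≤ Subgroup.normalizer (R : Set G)) (U : Subgroup G) (hUG : U ≤ G₁) (hUp : IsPGroup p ↥U) : ((∃ x ∈ U, x ≠ 1 ∧ ∃ g ∈ G₁, g * x * g⁻¹ ∈ Q ⊓ Subgroup.centralizer (Q : Set G)) → R ⊓ Subgroup.centralizer (U : Set G) = ⊥) ∧ (Cfsg.IsElementaryAbelian p U → p ^ 2 ≤ Nat.card ↥U → (∀ U₀ : Subgroup G, U₀ ≤ U → IsCoatom (U₀.subgroupOf U) → ∃ x ∈ U₀, x ≠ 1 ∧ ∃ g ∈ G₁, g * x * g⁻¹ ∈ Q ⊓ Subgroup.centralizer (Q : Set G)) → R = ⊥) := by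
  have hRQ : R ⊓ Q = ⊥ := by
    obtain ⟨n, hn⟩ := hQp.exists_card_eq
    exact (Subgroup.disjoint_of_coprime_natCard (hn ▸ hR.pow_right n)).eq_bot
  have key : ∀ z ∈ Q ⊓ Subgroup.centralizer (Q : Set G), z ≠ 1 →
      ∀ r ∈ R, r * z = z * r → r = 1 := by
    intro z hz hz1 r hr hrz
    have hrn : r ∈ Subgroup.normalizer (Q : Set G) := by
      refine hlarge.2 (Subgroup.zpowers z) (Subgroup.zpowers_le.2 hz.2)
        (Subgroup.zpowers_ne_bot.2 hz1) (Subgroup.centralizer_le_normalizer _ ?_)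
      rw [Subgroup.zpowers_eq_closure, Subgroup.centralizer_closure]
      exact Subgroup.mem_centralizer_singleton_iff.2 hrz
    have hrC : r ∈ Subgroup.centralizer (Q : Set G) := by
      intro q hq
      have h1 : q * r * q⁻¹ * r⁻¹ ∈ R :=
        mul_mem ((Subgroup.mem_normalizer_iff.1 (hGR (hQG hq)) r).1 hr) (inv_mem hr)
      have h2 : q * r * q⁻¹ * r⁻¹ ∈ Q := by
        have := mul_mem hq ((Subgroup.mem_normalizer_iff.1 hrn q⁻¹).1 (inv_mem hq))
        simpa [mul_assoc] using this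
      have h3 : q * r * q⁻¹ * r⁻¹ = 1 := Subgroup.mem_bot.1 (hRQ ▸ ⟨h1, h2⟩)
      calc q * r = (q * r * q⁻¹ * r⁻¹) * (r * q) := by group
        _ = r * q := by rw [h3, one_mul]
    exact Subgroup.mem_bot.1 (hRQ ▸ ⟨hr, hlarge.1 hrC⟩)
  have part1 : ∀ U' : Subgroup G,
      (∃ x ∈ U', x ≠ 1 ∧ ∃ g ∈ G₁, g * x * g⁻¹ ∈ Q ⊓ Subgroup.centralizer (Q : Set G)) →
      R ⊓ Subgroup.centralizer (U' : Set G) = ⊥ := by
    rintro U' ⟨x, hx, hx1, g, hg, hgx⟩
    refine (Subgroup.eq_bot_iff_forall _).2 fun r hr => ?_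
    have h1 : r * x = x * r := (hr.2 x hx).symm
    have h2 : g * r * g⁻¹ ∈ R := (Subgroup.mem_normalizer_iff.1 (hGR hg) r).1 hr.1
    have h3 := key _ hgx (by simpa using hx1) _ h2 (by
      calc (g * r * g⁻¹) * (g * x * g⁻¹) = g * (r * x) * g⁻¹ := by group
        _ = g * (x * r) * g⁻¹ := by rw [h1]
        _ = _ := by group)
    simpa using h3
  refine ⟨part1 U, fun hel hcard hmax => le_bot_iff.1 ?_⟩
  have hp := (Fact.out : p.Prime)
  refine H8.generation hel ?_ (hUG.trans hGR) (hp.coprime_iff_not_dvd.1 hR.symm) fun B hB hBi => ?_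
  · rintro rfl
    rw [Subgroup.card_bot] at hcard
    have := Nat.one_lt_pow two_ne_zero hp.one_lt
    omega
  · refine (part1 B (hmax B hB ?_)).le
    exact H78.isCoatom_of_index_prime' (by rw [show (B.subgroupOf U).index = p from hBi]; exact hp)

end Cfsg.Agent.S3003
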