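import Cfsg.Statements.S3008
import Cfsg.Agent.H78.NormalizedMCL

set_option autoImplicit false
open Cfsg

namespace Cfsg.Agent.S3008

/-- Let P be a finite p-group, with J(P) generated by its abelian subgroups of largest order and J̃(P) = C_P(Z(J(P))); call R ≤ P centrally large if |R|·|Z(R)| is as large as possible, and let P_MCL be generated by the minimal centrally large subgroups. Then: for every centrally large Q, Q·J(P) ⊇ J̃(P); some minimal centrally large subgroup of P is normalized by both J(P) and P_MCL; if P = J(P) and d(P)² = |P|·|Z(P)|, where d(P) is the largest order of an abelian subgroup, then every minimal centrally large subgroup of P is abelian; and if every minimal centrally large subgroup is abelian then J̃(P) = J(P). -/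
theorem result {p : ℕ} [Fact p.Prime] (P : Type*) [Group P] [Finite P] (hP : IsPGroup p P) : (∀ Q : Subgroup P, Cfsg.IsCentrallyLarge Q → Subgroup.centralizer ((Cfsg.thompsonSubgroupA P ⊓ Subgroup.centralizer (Cfsg.thompsonSubgroupA P : Set P) : Subgroup P) : Set P) ≤ Q ⊔ Cfsg.thompsonSubgroupA P) ∧ (∃ Q : Subgroup P, Cfsg.IsMinimalCentrallyLarge Q ∧ Cfsg.thompsonSubgroupA P ≤ Subgroup.normalizer (Q : Set P) ∧ Cfsg.minimalCentrallyLargeJoin P ≤ Subgroup.normalizer (Q : Set P)) ∧ (Cfsg.thompsonSubgroupA P = ⊤ → (∀ A ∈ Cfsg.maxAbelianSubgroups P, Nat.card ↥A ^ 2 = Nat.card P * Nat.card ↥(Subgroup.center P)) → ∀ Q : Subgroup P, Cfsg.IsMinimalCentrallyLarge Q → IsMulCommutative ↥Q) ∧ ((∀ Q : Subgroup P, Cfsg.IsMinimalCentrallyLarge Q → IsMulCommutative ↥Q) → Subgroup.centralizer ((Cfsg.thompsonSubgroupA P ⊓ Subgroup.centralizer (Cfsg.thompsonSubgroupA P : Set P) : Subgroup P) : Set P) = Cfsg.thompsonSubgroupA P) := by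
  refine ⟨fun Q hQ => H78.centralizer_center_thompson_le hQ,
    H78.exists_mcl_normalized_by_joins hP, fun hJ hd Q hQ => ?_, fun hall => ?_⟩
  · obtain ⟨A, hA⟩ := H78.exists_maxAb (G := P)
    have hcl := H78.cl_sup_thompson hQ.1
    rw [hJ, sup_top_eq] at hcl
    obtain ⟨hz, hc⟩ := H78.cl_iff.1 hcl
    have hAc := H78.maxAb_centralizer hA
    have hAcl : Cfsg.IsCentrallyLarge A := by
      refine H78.cl_iff.2 ⟨?_, hAc.le⟩
      unfold Cfsg.IsCentralizerLarge
      rw [hAc, ← sq, hd A hA, ← H78.cdm_eq hz, H78.cdm, Subgroup.card_top, Subgroup.coe_top,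
        Subgroup.centralizer_univ]
    obtain ⟨R, hRA, hR⟩ := H78.exists_mcl_le hAcl
    have hRab : IsMulCommutative ↥R := by
      rw [← Subgroup.le_centralizer_iff_isMulCommutative]
      exact hRA.trans (hAc.ge.trans (H78.centralizer_mono hRA))
    exact ((H78.mcl_iff_maxAb hR hRab Q).1 hQ).1
  · obtain ⟨Q0, hQ0⟩ := H78.exists_mcl (G := P)
    have hmax : ∀ X, Cfsg.IsMinimalCentrallyLarge X ↔ X ∈ Cfsg.maxAbelianSubgroups P :=
      H78.mcl_iff_maxAb hQ0 (hall Q0 hQ0)
    have hJ : Cfsg.thompsonSubgroupA P = Cfsg.minimalCentrallyLargeJoin P := by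
      unfold Cfsg.thompsonSubgroupA Cfsg.minimalCentrallyLargeJoin
      congr 1
      ext X
      exact (hmax X).symm
    obtain ⟨hz, hc⟩ := H78.cl_iff.1 (H78.cl_minimalCentrallyLargeJoin (G := P))
    rw [← hJ] at hz hc
    rw [inf_eq_right.2 hc]
    exact H78.cz_centralizer_centralizer hz

end Cfsg.Agent.S3008
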