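import Cfsg.Statements.S3011
import Cfsg.Agent.H65.BaerSuzuki
-- import your own Cfsg.Agent.* helpers here

set_option autoImplicit false
open Cfsg

namespace Cfsg.Agent.S3011

/-- Let G be a finite group and V a nontrivial elementary abelian 2-subgroup of G of order at most 4 such that, whenever an element of V inverts an element h of G of odd order, some nontrivial element of V commutes with h. Then V meets O₂(G) nontrivially. (The case of order at most 4 has a short argument from the Baer–Suzuki theorem.) -/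
theorem result {G : Type*} [Group G] [Finite G] (V : Subgroup G) (hV : Cfsg.IsElementaryAbelian 2 V) (hV1 : V ≠ ⊥) (hS : Cfsg.IsSidkiPair V) (h4 : Nat.card V ≤ 4) : V ⊓ Cfsg.pCore 2 G ≠ ⊥ := by
  classical
  intro hbot
  obtain ⟨hVc, hVsq⟩ := hV
  have hsq : ∀ v ∈ V, v * v = 1 := fun v hv => by rw [← pow_two]; exact hVsq v hv
  have hinv : ∀ v ∈ V, v⁻¹ = v := fun v hv => inv_eq_of_mul_eq_one_right (hsq v hv)
  -- odd order elements equal to their inverse are trivial
  have hodd : ∀ h : G, Odd (orderOf h) → h⁻¹ = h → h = 1 := by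
    intro h ho he
    have h2 : orderOf h ∣ 2 := orderOf_dvd_of_pow_eq_one (by
      rw [pow_two]; nth_rw 1 [← he]; exact inv_mul_cancel h)
    rcases (Nat.dvd_prime Nat.prime_two).1 h2 with h1 | h1
    · exact orderOf_eq_one_iff.1 h1
    · rw [h1] at ho; exact absurd ho (by decide)
  -- each involution of `V` inverts a nontrivial element centralized by another one
  have hstep : ∀ v ∈ V, v ≠ 1 → ∃ h w, h ≠ 1 ∧ Odd (orderOf h) ∧ v * h * v⁻¹ = h⁻¹ ∧
      w ∈ V ∧ w ≠ 1 ∧ w ≠ v ∧ w * h = h * w := by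
    intro v hv hv1
    have hvO : v ∉ Cfsg.pCore 2 G := fun hc => hv1 (by
      have : v ∈ V ⊓ Cfsg.pCore 2 G := ⟨hv, hc⟩
      rwa [hbot, Subgroup.mem_bot] at this)
    obtain ⟨h, h1, ho, hi⟩ := H65.exists_odd_inverted (orderOf_eq_prime (hVsq v hv) hv1) hvO
    obtain ⟨w, hw, hw1, hwh⟩ := hS h v hv ho hi
    refine ⟨h, w, h1, ho, hi, hw, hw1, ?_, hwh⟩
    rintro rfl
    refine h1 (hodd h ho ?_)
    rw [← hi, hwh, mul_inv_cancel_right]
  obtain ⟨v, hv, hv1⟩ := V.bot_or_exists_ne_one.resolve_left hV1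
  obtain ⟨x, b, hx1, hxo, hxi, hb, hb1, hbv, hbx⟩ := hstep v hv hv1
  obtain ⟨y, a, hy1, hyo, hyi, ha, ha1, hab, hay⟩ := hstep b hb hb1
  -- the four elements of `V`
  have hgen : ∀ v b : G, v ∈ V → b ∈ V → v ≠ 1 → b ≠ 1 → b ≠ v →
      ∀ w ∈ V, w = 1 ∨ w = v ∨ w = b ∨ w = v * b := by
    intro v b hv hb hv1 hb1 hbv
    intro w hw
    by_contra hne
    push Not at hne
    obtain ⟨hw1, hwv, hwb, hwvb⟩ := hne
    have hvb1 : v * b ≠ 1 := fun e => hbv (by
      have := inv_eq_of_mul_eq_one_right e; rw [hinv v hv] at this; exact this.symm)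
    have hvbv : v * b ≠ v := fun e => hb1 (mul_left_cancel (e.trans (mul_one v).symm))
    have hvbb : v * b ≠ b := fun e => hv1 (mul_right_cancel (e.trans (one_mul b).symm))
    have hsub : (({1, v, b, v * b, w} : Finset G) : Set G) ⊆ V := by
      intro z hz
      simp only [Finset.coe_insert, Finset.coe_singleton, Set.mem_insert_iff, Set.mem_singleton_iff] at hz
      rcases hz with rfl | rfl | rfl | rfl | rfl
      exacts [one_mem V, hv, hb, mul_mem hv hb, hw]
    have h5 : ({1, v, b, v * b, w} : Finset G).card = 5 := by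
      rw [Finset.card_insert_of_notMem, Finset.card_insert_of_notMem, Finset.card_insert_of_notMem,
        Finset.card_insert_of_notMem, Finset.card_singleton] <;>
        simp [hv1.symm, hb1.symm, hvb1.symm, hw1.symm, hbv.symm, hvbv.symm, hwv.symm, hvbb.symm, hwb.symm, hwvb.symm]
    have := Set.ncard_le_ncard hsub (Set.toFinite _)
    rw [Set.ncard_coe_finset, h5] at this
    have hc : (V : Set G).ncard = Nat.card V := rfl
    omega
  have hbxi : b * x * b⁻¹ = x := by rw [hbx, mul_inv_cancel_right]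
  have hall := hgen v b hv hb hv1 hb1 hbv
  have hxa : a * x * a⁻¹ = x⁻¹ := by
    rcases hall a ha with rfl | rfl | rfl | rfl
    · exact absurd rfl ha1
    · exact hxi
    · exact absurd rfl hab
    · calc v * b * x * (v * b)⁻¹ = v * (b * x * b⁻¹) * v⁻¹ := by group
        _ = x⁻¹ := by rw [hbxi, hxi]
  have hai := hinv a ha
  have hbi := hinv b hb
  have hxa' : a * x = x⁻¹ * a := by rw [← hxa, inv_mul_cancel_right]
  have hxa'' : a * x⁻¹ = x * a := by
    calc a * x⁻¹ = a * (x⁻¹ * a) * a⁻¹ := by group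
      _ = a * (a * x) * a⁻¹ := by rw [hxa']
      _ = (a * a) * x * a⁻¹ := by group
      _ = x * a := by rw [hsq a ha, one_mul, hai]
  have hyb : b * y = y⁻¹ * b := by rw [← hyi, inv_mul_cancel_right]
  have hbxinv : b * x⁻¹ = x⁻¹ * b := (Commute.inv_right hbx).eq
  -- `x` and `y` do not commute
  have hne : x * y ≠ y * x := by
    intro hc
    have hxy1 : x * y ≠ 1 := by
      intro e
      refine hx1 (hodd x hxo ?_)
      have hyx : y = x⁻¹ := (inv_eq_of_mul_eq_one_right e).symm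
      rw [hyx] at hay
      have : x⁻¹ * a = x * a := hay.symm.trans hxa''
      exact mul_right_cancel this
    have hord : Odd (orderOf (x * y)) := by
      refine Odd.of_dvd_nat (hxo.mul hyo) ?_
      exact (Commute.orderOf_mul_dvd_lcm hc).trans (Nat.lcm_dvd_mul _ _)
    have hiab : (a * b) * (x * y) * (a * b)⁻¹ = (x * y)⁻¹ := by
      calc a * b * (x * y) * (a * b)⁻¹ = a * (b * x) * y * b⁻¹ * a⁻¹ := by group
        _ = a * x * (b * y) * b⁻¹ * a⁻¹ := by rw [hbx]; group
        _ = x⁻¹ * (a * y⁻¹) * a⁻¹ := by rw [hyb, hxa']; group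
        _ = x⁻¹ * y⁻¹ := by rw [(Commute.inv_right hay).eq]; group
        _ = (x * y)⁻¹ := by rw [hc, mul_inv_rev]
    obtain ⟨w, hw, hw1, hwc⟩ := hS _ _ (mul_mem ha hb) hord hiab
    rcases hgen a b ha hb ha1 hb1 (Ne.symm hab) w hw with rfl | rfl | rfl | rfl
    · exact hw1 rfl
    · refine hx1 (hodd x hxo (mul_right_cancel (b := y * w) ?_))
      calc x⁻¹ * (y * w) = x⁻¹ * (w * y) := by rw [hay]
        _ = w * x * y := by rw [hxa']; group
        _ = x * y * w := by rw [mul_assoc, hwc]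
        _ = _ := by group
    · refine hy1 (hodd y hyo (mul_left_cancel (a := x) (mul_right_cancel (b := w) ?_)))
      calc x * y⁻¹ * w = x * (w * y) := by rw [hyb]; group
        _ = w * (x * y) := by rw [← mul_assoc, ← hbx, mul_assoc]
        _ = x * y * w := hwc
    · refine hxy1 (hodd _ hord ?_)
      rw [← hiab, hwc, mul_inv_cancel_right]
  -- the conjugate `x⁻¹ y x` is inverted by `b`
  set y' := x⁻¹ * y * x with hy'
  have hy'o : Odd (orderOf y') := by
    have : orderOf y' = orderOf y := by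
      have := (MulAut.conj x⁻¹).orderOf_eq y
      simpa [hy', MulAut.conj_apply] using this
    rwa [this]
  have hy'1 : y' ≠ 1 := fun e => hy1 (by
    calc y = x * y' * x⁻¹ := by rw [hy']; group
      _ = 1 := by rw [e]; group)
  have hy'i : b * y' * b⁻¹ = y'⁻¹ := by
    calc b * y' * b⁻¹ = (b * x⁻¹) * y * x * b⁻¹ := by rw [hy']; group
      _ = x⁻¹ * (b * y) * (x * b⁻¹) := by rw [hbxinv]; group
      _ = x⁻¹ * (y⁻¹ * b) * (b⁻¹ * x) := by rw [hyb, (Commute.inv_left hbx).eq]
      _ = y'⁻¹ := by rw [hy']; group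
  obtain ⟨w, hw, hw1, hwy⟩ := hS y' b hb hy'o hy'i
  have hax : a * y' * a⁻¹ = x * y * x⁻¹ := by
    calc a * y' * a⁻¹ = (a * x⁻¹) * y * x * a⁻¹ := by rw [hy']; group
      _ = x * (a * y) * (x * a⁻¹) := by rw [hxa'']; group
      _ = x * y * (a * x) * a⁻¹ := by rw [hay]; group
      _ = x * y * x⁻¹ := by rw [hxa']; group
  have hbb : b * y' * b⁻¹ = y' → False := fun e => hy'1 (hodd y' hy'o (hy'i.symm.trans e))
  rcases hgen a b ha hb ha1 hb1 (Ne.symm hab) w hw with hw' | hw' | hw' | hw'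
  · exact hw1 hw'
  pick_goal 2
  · subst hw'
    exact hbb (by rw [hwy, mul_inv_cancel_right])
  · subst hw'
    have e : x * y * x⁻¹ = y' := by rw [← hax, hwy, mul_inv_cancel_right]
    have hcomm2 : Commute (x ^ 2) y := by
      show x ^ 2 * y = y * x ^ 2
      calc x ^ 2 * y = x * (x * y * x⁻¹) * x := by rw [pow_two]; group
        _ = _ := by rw [e, hy', pow_two]; group
    obtain ⟨k, hk⟩ := hxo
    refine hne ?_
    have hx' : (x ^ 2) ^ (k + 1) = x := by
      rw [← pow_mul, show 2 * (k + 1) = orderOf x + 1 by omega, pow_succ, pow_orderOf_eq_one, one_mul]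
    rw [← hx']
    exact (hcomm2.pow_left (k + 1)).eq
  · subst hw'
    have e : x * y⁻¹ * x⁻¹ = y' := by
      have h1 : a * b * y' * (a * b)⁻¹ = y' := by rw [hwy, mul_inv_cancel_right]
      calc x * y⁻¹ * x⁻¹ = (x * y * x⁻¹)⁻¹ := by group
        _ = (a * y' * a⁻¹)⁻¹ := by rw [hax]
        _ = a * y'⁻¹ * a⁻¹ := by group
        _ = a * (b * y' * b⁻¹) * a⁻¹ := by rw [hy'i]
        _ = a * b * y' * (a * b)⁻¹ := by group
        _ = y' := h1
    have e2 : (x * x) * y * (x * x)⁻¹ = y⁻¹ := by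
      calc (x * x) * y * (x * x)⁻¹ = (x * (x * y⁻¹ * x⁻¹) * x⁻¹)⁻¹ := by simp [mul_inv_rev, mul_assoc]
        _ = y⁻¹ := by rw [e, hy']; group
    have hodd_pow : ∀ u : G, u * y * u⁻¹ = y⁻¹ → ∀ n : ℕ, u ^ (2 * n + 1) * y * (u ^ (2 * n + 1))⁻¹ = y⁻¹ := by
      intro u hu n
      induction n with
      | zero => simpa using hu
      | succ n ih =>
        calc u ^ (2 * (n + 1) + 1) * y * (u ^ (2 * (n + 1) + 1))⁻¹
            = u * (u * (u ^ (2 * n + 1) * y * (u ^ (2 * n + 1))⁻¹) * u⁻¹) * u⁻¹ := by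
              rw [show 2 * (n + 1) + 1 = (2 * n + 1) + 1 + 1 by ring, pow_succ' u, pow_succ' u]; group
          _ = u * (u * y * u⁻¹)⁻¹ * u⁻¹ := by rw [ih]; group
          _ = _ := by rw [hu, inv_inv, hu]
    obtain ⟨k, hk⟩ := hxo
    have h1 := hodd_pow (x * x) e2 k
    rw [← hk, ← pow_two, ← pow_mul, mul_comm, pow_mul, pow_orderOf_eq_one, one_pow, one_mul, inv_one, mul_one] at h1
    exact hy1 (hodd y hyo h1.symm)

end Cfsg.Agent.S3011
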