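import Cfsg.Statements.S3013
import Mathlib
import Cfsg.Agent.H78.UnitLemmas

set_option autoImplicit false
open Cfsg

namespace Cfsg.Agent.S3013

/-- Let G be a finite group and V a nontrivial elementary abelian 2-subgroup of G satisfying the Sidki pair condition. Let v ∈ V and let x be an element of odd order inverted by v, and put C = C_G(v) ∩ C_G(x), the centralizer of the dihedral subgroup generated by v and x. Then C ∩ V is nontrivial and satisfies the Sidki pair condition inside C: every odd-order element of C inverted by an element of C ∩ V commutes with a nontrivial element of C ∩ V. -/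
theorem result {G : Type*} [Group G] [Finite G] (V : Subgroup G) (hV : Cfsg.IsElementaryAbelian 2 V) (hV1 : V ≠ ⊥) (hS : Cfsg.IsSidkiPair V) (v x : G) (hv : v ∈ V) (hx : Odd (orderOf x)) (hinv : v * x * v⁻¹ = x⁻¹) (C : Subgroup G) (hC : C = Subgroup.centralizer ({v} : Set G) ⊓ Subgroup.centralizer ({x} : Set G)) : C ⊓ V ≠ ⊥ ∧ Cfsg.IsSidkiPair ((C ⊓ V).subgroupOf C) := by
  subst hC
  have hcom : ∀ a ∈ V, ∀ b ∈ V, a * b = b * a := fun a ha b hb =>
    congrArg Subtype.val (hV.1.is_comm.comm ⟨a, ha⟩ ⟨b, hb⟩)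
  have memC : ∀ g : G, g ∈ Subgroup.centralizer ({v} : Set G) ⊓ Subgroup.centralizer ({x} : Set G) ↔
      g * v = v * g ∧ g * x = x * g := fun g => by
    simp [Subgroup.mem_centralizer_singleton_iff]
  constructor
  · obtain ⟨w, hw, hw1, hwx⟩ := hS x v hv hx hinv
    exact fun h => hw1 (Subgroup.mem_bot.1 (h ▸ (⟨(memC w).2 ⟨hcom w hw v hv, hwx⟩, hw⟩ :
      w ∈ (Subgroup.centralizer ({v} : Set G) ⊓ Subgroup.centralizer ({x} : Set G)) ⊓ V)))
  · intro h u hu hodd hinvu
    obtain ⟨hu1, hu2⟩ := Subgroup.mem_inf.1 (Subgroup.mem_subgroupOf.1 hu)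
    obtain ⟨huv, hux⟩ := (memC _).1 hu1
    obtain ⟨hhv, hhx⟩ := (memC _).1 h.2
    have hodd' : Odd (orderOf (h : G)) := by rwa [Subgroup.orderOf_coe]
    have hinvu' : (u : G) * h * (u : G)⁻¹ = (h : G)⁻¹ := congrArg Subtype.val hinvu
    have hc : Commute x (h : G) := hhx.symm
    have hxh : Odd (orderOf (x * (h : G))) :=
      (Odd.mul hx hodd').of_dvd_nat hc.orderOf_mul_dvd_mul_orderOf
    have hinv2 : (v * (u : G)) * (x * (h : G)) * (v * (u : G))⁻¹ = (x * (h : G))⁻¹ := by
      calc (v * (u : G)) * (x * (h : G)) * (v * (u : G))⁻¹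
          = v * ((u : G) * x * (u : G)⁻¹) * ((u : G) * h * (u : G)⁻¹) * v⁻¹ := by group
        _ = (v * x * v⁻¹) * (v * (h : G)⁻¹ * v⁻¹) := by
          rw [hux, mul_inv_cancel_right, hinvu']; group
        _ = x⁻¹ * (h : G)⁻¹ := by
          rw [hinv, (Commute.inv_right (show Commute v (h : G) from hhv.symm)).eq,
            mul_inv_cancel_right]
        _ = _ := by rw [hc.inv_inv.eq, mul_inv_rev]
    obtain ⟨w, hw, hw1, hwxh⟩ := hS _ _ (mul_mem hv hu2) hxh hinv2
    have hwv : Commute w v := hcom w hw v hv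
    have h2 : Commute w (x⁻¹ * h) := by
      have hcj : v * (x * (h : G)) * v⁻¹ = x⁻¹ * h := by
        calc v * (x * (h : G)) * v⁻¹ = (v * x * v⁻¹) * (v * h * v⁻¹) := by group
          _ = _ := by rw [hinv, ← hhv, mul_inv_cancel_right]
      rw [← hcj]
      exact (hwv.mul_right hwxh).mul_right hwv.inv_right
    have h3 : Commute w ((h : G) ^ 2) := by
      have hm : (x * (h : G)) * (x⁻¹ * h) = (h : G) ^ 2 := by
        rw [hc.eq, mul_assoc, mul_inv_cancel_left, pow_two]
      rw [← hm]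
      exact Commute.mul_right hwxh h2
    have hwh : Commute w (h : G) := by
      obtain ⟨j, hj⟩ := exists_pow_eq_self_of_coprime (Nat.coprime_two_left.2 hodd')
      rw [← hj]
      exact h3.pow_right j
    have hwx : Commute w x := by
      simpa using Commute.mul_right hwxh hwh.inv_right
    refine ⟨⟨w, (memC w).2 ⟨hwv, hwx⟩⟩, Subgroup.mem_subgroupOf.2 (Subgroup.mem_inf.2
      ⟨(memC w).2 ⟨hwv, hwx⟩, hw⟩), fun e => hw1 (congrArg Subtype.val e), Subtype.ext hwh⟩

end Cfsg.Agent.S3013
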