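import Cfsg.Statements.S3014
import Cfsg.Agent.H78.TITransfer
import Cfsg.Agent.H78.SylowConj

set_option autoImplicit false
open Cfsg

namespace Cfsg.Agent.S3014

/-- Let G be a finite group and H ≤ M ≤ G subgroups such that for every g ∈ G the subgroup generated by H and g H g⁻¹ meets M exactly in H. If H is a maximal subgroup of M and M is a maximal subgroup of G, then the normal closure of H in G meets M exactly in H. -/
theorem result {G : Type*} [Group G] [Finite G] (H M : Subgroup G) (hHM : H ≤ M) (hcl : ∀ g : G, (H ⊔ H.map (MulAut.conj g).toMonoidHom) ⊓ M = H) (hmaxH : IsCoatom (H.subgroupOf M)) (hmaxM : IsCoatom M) : Subgroup.normalClosure (H : Set G) ⊓ M = H := by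
  refine le_antisymm ?_ (le_inf (Subgroup.le_normalClosure (H := H)) hHM)
  by_contra hcon
  have hnot : ∀ g : G, ¬ (H ⊔ H.map (MulAut.conj g).toMonoidHom).Normal := fun g hN =>
    hcon ((inf_le_inf_right M (Subgroup.normalClosure_le_normal
      (SetLike.coe_subset_coe.2 le_sup_left))).trans (hcl g).le)
  have hMn : M ≤ Subgroup.normalizer (H : Set G) := by
    intro g hg
    refine H78.normalizer_pair_le H (le_trans (le_inf le_rfl (sup_le hHM ?_)) (hcl g).le)
    rintro _ ⟨h, hh, rfl⟩
    exact mul_mem (mul_mem hg (hHM hh)) (inv_mem hg)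
  have hN : Subgroup.normalizer (H : Set G) = M := by
    rcases hMn.eq_or_lt with h | h
    · exact h.symm
    · have := Subgroup.normalizer_eq_top_iff.1 (hmaxM.2 _ h)
      exact absurd ((inf_le_left.trans (Subgroup.normalClosure_le_normal Set.Subset.rfl))) hcon
  haveI hn : (H.subgroupOf M).Normal := (Subgroup.normal_subgroupOf_iff_le_normalizer hHM).2 hMn
  have hno : ∀ x ∈ M, x ∉ H → ∀ g : G, g * x * g⁻¹ ∉ H := by
    intro x hx hxH g h
    refine hxH ((hcl g⁻¹).le ⟨Subgroup.mem_sup_right ⟨g * x * g⁻¹, h, ?_⟩, hx⟩)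
    simp [MulAut.conj_apply, mul_assoc]
  have hr : (H.relIndex M).Prime := by
    obtain ⟨a, ha, haH⟩ : ∃ a ∈ M, a ∉ H := by
      by_contra! hc
      exact hmaxH.1 (Subgroup.subgroupOf_eq_top.2 hc)
    set π := QuotientGroup.mk' (H.subgroupOf M)
    have hker : π.ker = H.subgroupOf M := QuotientGroup.ker_mk' _
    have hnt : Nat.card (↥M ⧸ H.subgroupOf M) ≠ 1 := fun h1 =>
      hmaxH.1 (Subgroup.index_eq_one.1 h1)
    obtain ⟨q, hq, hqd⟩ := Nat.exists_prime_and_dvd hnt
    have := Fact.mk hq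
    obtain ⟨z, hz⟩ := exists_prime_orderOf_dvd_card' q hqd
    have htop : (Subgroup.zpowers z).comap π = ⊤ := by
      refine hmaxH.2 _ (lt_of_le_of_ne (hker.ge.trans (π.ker_le_comap _)) fun e => ?_)
      obtain ⟨b, rfl⟩ := QuotientGroup.mk'_surjective (H.subgroupOf M) z
      have hb : b ∈ H.subgroupOf M := e.symm ▸ (Subgroup.mem_zpowers (π b) : _)
      have h1 : π b = 1 := (QuotientGroup.eq_one_iff b).2 hb
      rw [h1, orderOf_one] at hz
      exact hq.ne_one hz.symm
    have : Subgroup.zpowers z = ⊤ := by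
      rw [← Subgroup.map_comap_eq_self_of_surjective (QuotientGroup.mk'_surjective _)
        (Subgroup.zpowers z), htop, Subgroup.map_top_of_surjective _ (QuotientGroup.mk'_surjective _)]
    have hc : Nat.card (↥M ⧸ H.subgroupOf M) = q := by
      rw [← hz, ← Nat.card_zpowers, this, Subgroup.card_top]
    exact (show H.relIndex M = q from hc) ▸ hq
  have hTI : ∀ x ∈ M, x ∉ H → ∀ g : G, g * x * g⁻¹ ∈ M → g * x * g⁻¹ ∉ H → g ∈ M := by
    intro x hx hxH g hy hyH
    have hyX := H78.mem_normalizer_pair (H := H) (g := g) (hMn hy) (by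
      rw [show g⁻¹ * (g * x * g⁻¹) * g = x by group]; exact hMn hx)
    set X := H ⊔ H.map (MulAut.conj g).toMonoidHom with hX
    have hMX := H78.le_normalizer_of_coatom hmaxH hy hyH hyX
      ((le_sup_left : H ≤ X).trans Subgroup.le_normalizer)
    rcases hMX.eq_or_lt with h | h
    · rw [← hN]
      refine H78.normalizer_pair_le H ((le_inf le_rfl (Subgroup.le_normalizer.trans h.ge)).trans
        (hcl g).le)
    · exact absurd (Subgroup.normalizer_eq_top_iff.1 (hmaxM.2 _ h)) (hnot g)
  obtain ⟨f, ⟨x, hx, hfx⟩, hker⟩ := H78.exists_hom_of_ti H M hr hTI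
  have hle : Subgroup.normalClosure (H : Set G) ≤ f.ker :=
    Subgroup.normalClosure_le_normal fun h hh => hker hno h hh
  refine hcon ((inf_le_inf_right M hle).trans fun y hy => ?_)
  by_contra hyH
  have htop : f.ker.subgroupOf M = ⊤ := hmaxH.2 _ (lt_of_le_of_ne
    (fun z hz => (hker hno _ hz : _)) fun e =>
      hyH (Subgroup.mem_subgroupOf.1 (e.ge (Subgroup.mem_subgroupOf.2 hy.1 : (⟨y, hy.2⟩ : M) ∈ f.ker.subgroupOf M))))
  exact hfx (Subgroup.subgroupOf_eq_top.1 htop hx)

end Cfsg.Agent.S3014
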