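import Cfsg.Statements.S3015
import Cfsg.Agent.H78.TITransfer
import Cfsg.Agent.H78.SylowConj

set_option autoImplicit false
open Cfsg

namespace Cfsg.Agent.S3015

/-- Let G be a finite non-abelian simple group, M a maximal subgroup of G and H a normal subgroup of M of prime index in M. Then G is generated by H together with one of its conjugates. -/
theorem result {G : Type*} [Group G] [Finite G] [IsSimpleGroup G] (hG : ¬ IsMulCommutative G) (M H : Subgroup G) (hmaxM : IsCoatom M) (hHM : H ≤ M) (hHn : (H.subgroupOf M).Normal) (hidx : (H.relIndex M).Prime) : ∃ g : G, H ⊔ H.map (MulAut.conj g).toMonoidHom = ⊤ := by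
  by_contra! hcon
  haveI := hHn
  have hMn : M ≤ Subgroup.normalizer (H : Set G) :=
    (Subgroup.normal_subgroupOf_iff_le_normalizer hHM).1 hHn
  have hmaxH : IsCoatom (H.subgroupOf M) := H78.isCoatom_of_index_prime' hidx
  have hM0 : M ≠ ⊥ := by
    rintro rfl
    exact hidx.ne_one (by simp)
  have normM : ∀ g : G, g ∈ Subgroup.normalizer (M : Set G) → g ∈ M := by
    intro g hg
    rcases (Subgroup.le_normalizer (H := M)).eq_or_lt with h | h
    · rwa [← h] at hg
    · rcases (Subgroup.normalizer_eq_top_iff.1 (hmaxM.2 _ h)).eq_bot_or_eq_top with h' | h'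
      · exact absurd h' hM0
      · exact absurd h' hmaxM.1
  have hTI : ∀ x ∈ M, x ∉ H → ∀ g : G, g * x * g⁻¹ ∈ M → g * x * g⁻¹ ∉ H → g ∈ M := by
    intro x hx hxH g hy hyH
    have hcl : ∀ a ∈ M, a ∉ H → H ⊔ Subgroup.zpowers a = M := by
      intro a ha haH
      refine le_antisymm (sup_le hHM (Subgroup.zpowers_le.2 ha)) ?_
      rw [← Subgroup.subgroupOf_eq_top]
      refine hmaxH.2 _ (lt_of_le_of_ne (fun z hz => Subgroup.mem_sup_left hz) fun e => haH ?_)
      have hm : (⟨a, ha⟩ : M) ∈ (H ⊔ Subgroup.zpowers a).subgroupOf M :=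
        Subgroup.mem_sup_right (Subgroup.mem_zpowers a)
      exact Subgroup.mem_subgroupOf.1 (e.symm ▸ hm)
    by_cases hH0 : H = ⊥
    · have hx' := hcl x hx hxH
      have hy' := hcl _ hy hyH
      rw [hH0, bot_sup_eq] at hx' hy'
      refine normM g (Subgroup.mem_normalizer_iff_map_conj_eq.2 ?_)
      nth_rewrite 1 [← hx']
      rw [MonoidHom.map_zpowers, ← hy']
      rfl
    have hN : Subgroup.normalizer (H : Set G) = M := by
      rcases hMn.eq_or_lt with h | h
      · exact h.symm
      · rcases (Subgroup.normalizer_eq_top_iff.1 (hmaxM.2 _ h)).eq_bot_or_eq_top with h' | h'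
        · exact absurd h' hH0
        · exact absurd (h' ▸ hHM) (fun h'' => hmaxM.1 (top_le_iff.1 h''))
    have hyX := H78.mem_normalizer_pair (H := H) (g := g) (hMn hy) (by
      rw [show g⁻¹ * (g * x * g⁻¹) * g = x by group]; exact hMn hx)
    set X := H ⊔ H.map (MulAut.conj g).toMonoidHom with hX
    have hMX := H78.le_normalizer_of_coatom hmaxH hy hyH hyX
      ((le_sup_left : H ≤ X).trans Subgroup.le_normalizer)
    rcases hMX.eq_or_lt with h | h
    · have hXM : X ≤ M := Subgroup.le_normalizer.trans h.ge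
      by_cases hXH : X ≤ H
      · exact hN ▸ H78.normalizer_pair_le H hXH
      · refine normM g (Subgroup.mem_normalizer_iff_map_conj_eq.2 (Subgroup.eq_of_le_of_card_ge ?_
          (Subgroup.card_map_of_injective (MulEquiv.injective _)).ge))
        rw [Subgroup.map_le_iff_le_comap, ← hcl x hx hxH, sup_le_iff, Subgroup.zpowers_le]
        rw [hcl x hx hxH]
        exact ⟨Subgroup.map_le_iff_le_comap.1 (le_sup_right.trans hXM), hy⟩
    · rcases (Subgroup.normalizer_eq_top_iff.1 (hmaxM.2 _ h)).eq_bot_or_eq_top with h' | h'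
      · exact absurd (le_bot_iff.1 ((le_sup_left : H ≤ X).trans h'.le)) hH0
      · exact absurd h' (hcon g)
  obtain ⟨f, ⟨x, hx, hfx⟩, -⟩ := H78.exists_hom_of_ti H M hidx hTI
  rcases f.normal_ker.eq_bot_or_eq_top with h | h
  · refine hG ⟨⟨fun a b => (MonoidHom.ker_eq_bot_iff f).1 h ?_⟩⟩
    rw [map_mul, map_mul, mul_comm]
  · exact hfx (MonoidHom.mem_ker.1 (h ▸ Subgroup.mem_top x))

end Cfsg.Agent.S3015
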