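import Cfsg.Statements.S3020
import Mathlib
import Cfsg.Agent.H78.UnitLemmas
import Cfsg.Agent.H1.Cores

set_option autoImplicit false
open Cfsg

namespace Cfsg.Agent.S3020

/-- Let G be a finite group, p a prime and H an abelian p-subgroup of G that is extremely closed (for every g, the subgroup generated by H and g H g⁻¹ meets N_G(H) exactly in H). Then for every g ∈ G, the subgroup T generated by H and g H g⁻¹ is the product of H with O_{p'}(T), and H meets O_{p'}(T) trivially; that is, O_{p'}(T) is a normal p-complement of H in T. -/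
theorem result {G : Type*} [Group G] [Finite G] {p : ℕ} [Fact p.Prime] (H : Subgroup G) (hHp : IsPGroup p H) (hHab : IsMulCommutative H) (hcl : Cfsg.IsExtremelyClosed H) (g : G) (T : Subgroup G) (hT : T = H ⊔ H.map (MulAut.conj g).toMonoidHom) : H ⊔ (Cfsg.pPrimeCore p ↥T).map T.subtype = T ∧ H ⊓ (Cfsg.pPrimeCore p ↥T).map T.subtype = ⊥ := by
  set f := T.subtype
  have hHT : H ≤ T := hT ▸ le_sup_left
  have hTN : T ⊓ Subgroup.normalizer (H : Set G) = H := by rw [hT]; exact hcl g
  obtain ⟨P, hP⟩ := (hHp.comap_of_injective f T.subtype_injective :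
    IsPGroup p (H.subgroupOf T)).exists_le_sylow
  have hPG : H ≤ (P : Subgroup T).map f := by
    rw [← inf_eq_left.2 hHT, ← Subgroup.subgroupOf_map_subtype]
    exact Subgroup.map_mono hP
  have hPH : (P : Subgroup T).map f = H := by
    refine le_antisymm ((le_inf (Subgroup.map_subtype_le _) ?_).trans hTN.le) hPG
    exact (H78.extremelyClosed_normalizer hcl (P.isPGroup'.map f) hPG).1
  have hPs : (P : Subgroup T) = H.subgroupOf T := by
    rw [← Subgroup.map_subtype_inj, hPH, Subgroup.subgroupOf_map_subtype, inf_eq_left.2 hHT]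
  have hNC : Subgroup.normalizer ((P : Subgroup T) : Set T) ≤
      Subgroup.centralizer ((P : Subgroup T) : Set T) := by
    intro x hx y hy
    have hxH : (x : G) ∈ H := by
      refine hTN.le (Subgroup.mem_inf.2 ⟨x.2, ?_⟩)
      rw [hPs, ← Subgroup.subgroupOf_normalizer_eq hHT] at hx
      exact hx
    rw [SetLike.mem_coe, hPs] at hy
    have h1 : (y : G) * (x : G) = (x : G) * (y : G) :=
      congrArg Subtype.val (hHab.is_comm.comm (⟨(y : G), hy⟩ : H) ⟨(x : G), hxH⟩)
    exact Subtype.ext h1
  have hcompl := MonoidHom.ker_transferSylow_isComplement' P hNC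
  set N := (MonoidHom.transferSylow P hNC).ker with hN
  have hNle : N ≤ Cfsg.pPrimeCore p ↥T := le_sSup ⟨inferInstance,
    (((Fact.out : p.Prime).coprime_iff_not_dvd).2
      (MonoidHom.not_dvd_card_ker_transferSylow P hNC)).symm⟩
  have hsup : (P : Subgroup T) ⊔ N = ⊤ := by rw [sup_comm]; exact hcompl.sup_eq_top
  constructor
  · refine le_antisymm (sup_le hHT (Subgroup.map_subtype_le _)) ?_
    calc T = (⊤ : Subgroup T).map f := by rw [← MonoidHom.range_eq_map, T.range_subtype]
      _ ≤ (P : Subgroup T).map f ⊔ (Cfsg.pPrimeCore p ↥T).map f := by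
        rw [← Subgroup.map_sup, ← hsup]
        exact Subgroup.map_mono (sup_le_sup_left hNle _)
      _ = _ := by rw [hPH]
  · rw [← hPH, ← Subgroup.map_inf _ _ _ T.subtype_injective]
    have : (P : Subgroup T) ⊓ Cfsg.pPrimeCore p ↥T = ⊥ := by
      refine (Subgroup.disjoint_of_coprime_natCard ?_).eq_bot
      obtain ⟨k, hk⟩ := P.isPGroup'.exists_card_eq
      rw [hk]
      exact ((H1.card_pPrimeCore_coprime p ↥T).symm).pow_left k
    rw [this, Subgroup.map_bot]

end Cfsg.Agent.S3020
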