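import Cfsg.Statements.S3025
import Cfsg.Agent.H2.UniqueSubgroup
import Cfsg.Agent.H35.Subnormal

set_option autoImplicit false
open Cfsg

namespace Cfsg.Agent.S3025

/-- Let F be a finite group and H a nontrivial subgroup of F that is contained in every nontrivial subgroup of F which H normalizes. Then F has a nontrivial normal subgroup N contained in every nontrivial normal subgroup of F (a unique minimal normal subgroup), N is simple, and one of the following holds: C_F(N) = 1; or H = N has prime order p, C_F(N) is cyclic of order a power of p, and F/C_F(N) is cyclic of order dividing p − 1; or H = N has order 2, N is central in F, and F is a generalized quaternion group. -/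
theorem result {F : Type*} [Group F] [Finite F] (H : Subgroup F) (hH : H ≠ ⊥)
    (hmin : ∀ R : Subgroup F, R ≠ ⊥ → H ≤ Subgroup.normalizer (R : Set F) → H ≤ R) :
    ∃ N : Subgroup F, N.Normal ∧ N ≠ ⊥ ∧ (∀ M : Subgroup F, M.Normal → M ≠ ⊥ → N ≤ M) ∧ IsSimpleGroup ↥N ∧
      (Subgroup.centralizer (N : Set F) = ⊥ ∨
       (H = N ∧ (Nat.card N).Prime ∧ IsCyclic ↥(Subgroup.centralizer (N : Set F)) ∧
          (∃ k : ℕ, 1 ≤ k ∧ Nat.card ↥(Subgroup.centralizer (N : Set F)) = Nat.card N ^ k) ∧
          (∃ g : F, Subgroup.centralizer (N : Set F) ⊔ Subgroup.zpowers g = ⊤) ∧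
          (Subgroup.centralizer (N : Set F)).index ∣ Nat.card N - 1) ∨
       (H = N ∧ Nat.card N = 2 ∧ Subgroup.centralizer (N : Set F) = ⊤ ∧
          ∃ k : ℕ, 1 ≤ k ∧ Nonempty (F ≃* QuaternionGroup (2 ^ k)))) := by
  classical
  set N := Subgroup.normalClosure (H : Set F) with hN
  have hNn : N.Normal := Subgroup.normalClosure_normal
  have hHN : H ≤ N := Subgroup.le_normalClosure
  have hN0 : N ≠ ⊥ := fun h => hH (le_bot_iff.1 (h ▸ hHN))
  have hleast : ∀ M : Subgroup F, M.Normal → M ≠ ⊥ → N ≤ M := fun M hM hM0 =>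
    Subgroup.normalClosure_le_normal (hmin M hM0 (fun x _ => by
      rw [Subgroup.normalizer_eq_top_iff.2 hM]; trivial))
  have : Nontrivial ↥N := N.nontrivial_iff_ne_bot.2 hN0
  have hsimple : IsSimpleGroup ↥N := by
    refine ⟨fun M hM => ?_⟩
    refine or_iff_not_imp_left.2 fun hM0 => top_le_iff.1 fun x _ => ?_
    set M' := M.map N.subtype with hM'
    have hMN : M' ≤ N := Subgroup.map_subtype_le _
    have hNM : N ≤ Subgroup.normalizer (M' : Set F) := by
      rw [Subgroup.le_normalizer_iff]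
      rintro a ha _ ⟨m, hm, rfl⟩
      exact ⟨⟨a, ha⟩ * m * (⟨a, ha⟩ : N)⁻¹, hM.conj_mem m hm _, rfl⟩
    have hle : N ≤ M' := by
      refine (Subgroup.closure_le _).2 fun y hy => ?_
      obtain ⟨h, hh, hy⟩ := Group.mem_conjugatesOfSet_iff.1 hy
      obtain ⟨g, rfl⟩ := isConj_iff.1 hy
      have hM'g : M'.map (MulAut.conj g⁻¹).toMonoidHom ≠ ⊥ := fun e => hM0
        ((Subgroup.map_eq_bot_iff_of_injective _ N.subtype_injective).1
          ((Subgroup.map_eq_bot_iff_of_injective _ (MulEquiv.injective _)).1 e))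
      have hn2 : N ≤ Subgroup.normalizer ((M'.map (MulAut.conj g⁻¹).toMonoidHom : Subgroup F) : Set F) := by
        refine le_trans ?_ (Subgroup.le_normalizer_map _)
        intro a ha
        exact ⟨g * a * g⁻¹, hNM (hNn.conj_mem a ha g), by simp [MulAut.conj_apply, mul_assoc]⟩
      obtain ⟨m, hm, hmh⟩ := hmin _ hM'g (hHN.trans hn2) hh
      have : g * h * g⁻¹ = m := by
        rw [← hmh]; simp [MulAut.conj_apply, mul_assoc]
      rw [this]
      exact hm
    obtain ⟨m, hm, hmx⟩ := hle x.2
    rwa [← Subtype.ext (show (m : F) = (x : F) from hmx)]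
  refine ⟨N, hNn, hN0, hleast, hsimple, ?_⟩
  set C := Subgroup.centralizer (N : Set F) with hC
  by_cases hC0 : C = ⊥
  · exact Or.inl hC0
  right
  have hNC : N ≤ C := hleast C inferInstance hC0
  have hcomm : IsMulCommutative ↥N := Subgroup.le_centralizer_iff_isMulCommutative.1 hNC
  have hHC : ∀ R : Subgroup F, R ≤ C → R ≠ ⊥ → H ≤ R := by
    intro R hR hR0
    refine hmin R hR0 (hHN.trans ?_)
    exact ((Subgroup.le_centralizer_iff.1 hR).trans (Subgroup.centralizer_le_normalizer _))
  have hsub : ∀ R : Subgroup F, R ≤ N → R = ⊥ ∨ R = N := by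
    intro R hR
    have hn : (R.subgroupOf N).Normal := by
      rw [Subgroup.normal_subgroupOf_iff_le_normalizer hR]
      exact ((Subgroup.le_centralizer_iff.1 (hR.trans hNC)).trans (Subgroup.centralizer_le_normalizer _))
    rcases hsimple.eq_bot_or_eq_top_of_normal _ hn with h | h
    · left
      rwa [Subgroup.subgroupOf_eq_bot, disjoint_iff, inf_eq_left.2 hR] at h
    · exact Or.inr (le_antisymm hR (Subgroup.subgroupOf_eq_top.1 h))
  have hHeq : H = N := (hsub H hHN).resolve_left hH
  obtain ⟨q, hq, hqd⟩ := Nat.exists_prime_and_dvd (Finite.one_lt_card (α := ↥N)).ne'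
  have := Fact.mk hq
  have hNq : Nat.card N = q := by
    obtain ⟨c, hc⟩ := exists_prime_orderOf_dvd_card' q hqd
    have hc1 : (c : F) ≠ 1 := fun e => by
      rw [show c = 1 from Subtype.ext e, orderOf_one] at hc
      exact hq.one_lt.ne hc
    rw [← (hsub _ (Subgroup.zpowers_le.2 c.2)).resolve_left (Subgroup.zpowers_ne_bot.2 hc1),
      Nat.card_zpowers, Subgroup.orderOf_coe, hc]
  have huniq : ∀ (r : ℕ), r.Prime → ∀ R : Subgroup F, R ≤ C → Nat.card R = r → R = N := by
    intro r hr R hR hcard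
    have hR0 : R ≠ ⊥ := fun e => hr.ne_one (by rw [← hcard, e, Subgroup.card_bot])
    have hle : N ≤ R := hHeq ▸ hHC R hR hR0
    have hd := Subgroup.card_dvd_of_le hle
    rw [hNq, hcard] at hd
    exact (Subgroup.eq_of_le_of_card_ge hle (by rw [hcard, hNq, (Nat.prime_dvd_prime_iff_eq hq hr).1 hd])).symm
  have hCp : IsPGroup q ↥C := by
    refine IsPGroup.iff_card.2 ⟨_, Nat.eq_prime_pow_of_unique_prime_dvd Nat.card_pos.ne' ?_⟩
    intro r hr hrd
    have := Fact.mk hr
    obtain ⟨c, hc⟩ := exists_prime_orderOf_dvd_card' r hrd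
    have hz : Subgroup.zpowers (c : F) = N := huniq r hr _ (Subgroup.zpowers_le.2 c.2)
      (by rw [Nat.card_zpowers, Subgroup.orderOf_coe, hc])
    rw [← hc, ← Subgroup.orderOf_coe, ← Nat.card_zpowers, hz, hNq]
  have hu' : ∀ A B : Subgroup ↥C, Nat.card A = q → Nat.card B = q → A = B := by
    intro A B hA hB
    apply Subgroup.map_injective C.subtype_injective
    rw [huniq q hq _ (Subgroup.map_subtype_le _) (by rw [Subgroup.card_map_of_injective C.subtype_injective, hA]),
      huniq q hq _ (Subgroup.map_subtype_le _) (by rw [Subgroup.card_map_of_injective C.subtype_injective, hB])]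
  have hdis : IsCyclic ↥C ∨ (q = 2 ∧ ∃ k : ℕ, 1 ≤ k ∧ Nonempty (↥C ≃* QuaternionGroup (2 ^ k))) := by
    rcases H2.cyclic_or_quaternion_of_unique hCp hu' with h | ⟨h2, n, ⟨e⟩⟩
    · exact Or.inl h
    · rcases Nat.eq_zero_or_pos n with rfl | hn
      · have : IsCyclic (QuaternionGroup (2 ^ 0)) := QuaternionGroup.quaternionGroup_one_isCyclic
        exact Or.inl (e.isCyclic.2 this)
      · exact Or.inr ⟨h2, n, hn, ⟨e⟩⟩
  rcases hdis with hcyc | ⟨h2, k, hk, ⟨e⟩⟩
  · left
    refine ⟨hHeq, hNq ▸ hq, hcyc, ?_, ?_⟩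
    · obtain ⟨m, hm⟩ := IsPGroup.iff_card.1 hCp
      refine ⟨m, ?_, by rw [hNq, hm]⟩
      by_contra hm0
      rw [show m = 0 by omega, pow_zero] at hm
      exact hC0 (Subgroup.card_eq_one.1 hm)
    · have : IsCyclic ↥N := isCyclic_of_prime_card hNq
      set φ : F →* MulAut ↥N := MulAut.conjNormal with hφ
      have hker : φ.ker = C := by
        ext g
        rw [MonoidHom.mem_ker]
        constructor
        · intro hg x hx
          have h1 := congrArg (fun f : MulAut ↥N => ((f ⟨x, hx⟩ : ↥N) : F)) hg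
          simp [hφ] at h1
          rw [mul_inv_eq_iff_eq_mul] at h1
          exact h1.symm
        · intro hg
          ext x
          simp [hφ, (hg x x.2).symm]
      have hfin : Finite (MulAut ↥N) := inferInstance
      have hcu : IsCyclic (MulAut ↥N) := by
        have : IsCyclic (ZMod q)ˣ := inferInstance
        have e := IsCyclic.mulAutMulEquiv (↥N)
        rw [hNq] at e
        exact e.isCyclic.2 this
      obtain ⟨⟨_, g, rfl⟩, hg⟩ := IsCyclic.exists_generator (α := ↥φ.range)
      refine ⟨⟨g, top_le_iff.1 fun x _ => ?_⟩, ?_⟩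
      · obtain ⟨m, hm⟩ := hg ⟨φ x, x, rfl⟩
        have hm' : φ g ^ m = φ x := by simpa using congrArg Subtype.val hm
        have hxk : x * (g ^ m)⁻¹ ∈ C := by
          rw [← hker, MonoidHom.mem_ker, map_mul, map_inv, map_zpow, hm', mul_inv_cancel]
        have := mul_mem (Subgroup.mem_sup_left (T := Subgroup.zpowers g) hxk)
          (Subgroup.mem_sup_right (S := C) (Subgroup.zpow_mem_zpowers g m))
        simpa using this
      · rw [← hker, Subgroup.index_ker]
        refine (Subgroup.card_subgroup_dvd_card _).trans ?_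
        rw [IsCyclic.card_mulAut, hNq, Nat.totient_prime hq]
  · right
    subst h2
    have hcent : C = ⊤ := by
      rw [hC, Subgroup.centralizer_eq_top_iff_subset]
      intro x hx
      rw [SetLike.mem_coe, Subgroup.mem_center_iff]
      intro g
      by_cases hx1 : x = 1
      · simp [hx1]
      have hgx : g * x * g⁻¹ ∈ N := hNn.conj_mem x hx g
      obtain ⟨a, b, hab, huniv⟩ := Nat.card_eq_two_iff.1 hNq
      have hcase : ∀ y : ↥N, y = 1 ∨ y = ⟨x, hx⟩ := by
        intro y
        have h1 : (1 : ↥N) ≠ ⟨x, hx⟩ := fun e => hx1 (congrArg Subtype.val e).symm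
        have hy : y ∈ ({a, b} : Set ↥N) := huniv ▸ Set.mem_univ y
        have h1' : (1 : ↥N) ∈ ({a, b} : Set ↥N) := huniv ▸ Set.mem_univ _
        have hx' : (⟨x, hx⟩ : ↥N) ∈ ({a, b} : Set ↥N) := huniv ▸ Set.mem_univ _
        simp only [Set.mem_insert_iff, Set.mem_singleton_iff] at hy h1' hx'
        grind
      rcases hcase ⟨_, hgx⟩ with h | h
      · exact absurd (by simpa using congrArg Subtype.val h) hx1
      · have h' : g * x * g⁻¹ = x := congrArg Subtype.val h
        exact mul_inv_eq_iff_eq_mul.1 h'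
    refine ⟨hHeq, hNq, hcent, k, hk, ⟨?_⟩⟩
    exact ((Subgroup.topEquiv (G := F)).symm.trans (MulEquiv.subgroupCongr hcent.symm)).trans e

end Cfsg.Agent.S3025
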