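import Cfsg.Statements.S3049
import Cfsg.Agent.H71.Reduced
import Cfsg.Agent.H77.Isolated
import Cfsg.Agent.H77.ThompsonTwo
import Cfsg.Agent.H27.OmegaFixed
import Cfsg.Agent.H5.Frobenius
import Cfsg.Agent.H3.SubnormalJoin

set_option autoImplicit false
open Cfsg

namespace Cfsg.Agent.S3049

open Subgroup in
/-- In a component some element of order `p` of a Sylow subgroup is fused to another one. -/
theorem exists_fused {G : Type*} [Group G] [Finite G] {p : ℕ} [Fact p.Prime] (hp : p ≠ 2)
    (hO : Cfsg.pPrimeCore p G = ⊥) (P : Sylow p G) {L : Subgroup G} (hL : Cfsg.IsComponent L) :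
    ∃ r ∈ L, r ∈ (P : Subgroup G) ∧ orderOf r = p ∧
      ∃ g ∈ L, g * r * g⁻¹ ∈ (P : Subgroup G) ∧ g * r * g⁻¹ ≠ r := by
  classical
  by_contra hcon
  push Not at hcon
  obtain ⟨Q, hQ⟩ := H3.subnormal_inf_sylow hL.1 P
  have hQmem : ∀ a : L, a ∈ (Q : Subgroup L) ↔ (a : G) ∈ (P : Subgroup G) := fun a => by rw [hQ]; rfl
  have hN : Cfsg.HasNormalPComplement p L := by
    refine H5.hasNormalPComplement_of_frobenius Q fun R hR g hg hgc r hr => ?_
    refine ((H27.commute_of_fixes_omega hgc (Q.2.to_le hR)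
      (fun r hr => (Subgroup.mem_normalizer_iff.mp hg r).mp hr) (fun r hr ho => ?_)) r hr).symm
    have ho' : orderOf r = p := ho.resolve_right fun h => hp h.1
    have h1 := hcon (r : G) r.2 ((hQmem r).mp (hR hr)) ((Subgroup.orderOf_coe r).trans ho') (g : G) g.2
      ((hQmem (g * r * g⁻¹)).mp (hR ((Subgroup.mem_normalizer_iff.mp hg r).mp hr)))
    exact mul_inv_eq_iff_eq_mul.mp (Subtype.ext h1 : g * r * g⁻¹ = r)
  obtain ⟨Q', N, hNn, hNc⟩ := hN
  haveI := hNn
  have hd : p ∣ Nat.card L := Cfsg.Comp.dvd_card_component hO hL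
  rcases Cfsg.Comp.normal_eq_top_or_le_center hL.2 hNn with h | h
  · have h1 := hNc.card_mul
    rw [h, Subgroup.card_top] at h1
    have h2 : Nat.card (Q' : Subgroup L) = 1 :=
      Nat.eq_of_mul_eq_mul_left (Nat.card_pos (α := L)) (by rw [mul_one]; exact h1)
    have h3 := Q'.dvd_card_of_dvd_card hd
    rw [h2] at h3
    exact (Fact.out : p.Prime).ne_one (Nat.dvd_one.mp h3)
  · refine Cfsg.Comp.not_isSolvable_of_quasisimple hL.2 ?_
    haveI : Group.IsNilpotent (Q' : Subgroup L) := Q'.2.isNilpotent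
    haveI : Group.IsNilpotent (L ⧸ N) := Group.nilpotent_of_mulEquiv hNc.symm.QuotientMulEquiv.symm
    haveI : Group.IsSolvable N :=
      Group.isSolvable_of_comm fun a b => Subtype.ext (Subgroup.mem_center_iff.mp (h b.2) a)
    exact Group.isSolvable_of_ker_le_range (f := N.subtype) (g := QuotientGroup.mk' N) (by simp)

/-- Let G be a finite group and p an odd prime with O_{p'}(G) = 1. Suppose that G has p-rank at most 2 (no elementary abelian subgroup of order p³) and that some element x of order p is isolated in G (no G-conjugate of x other than x commutes with x) and not central. Then the generalized Fitting subgroup F*(G) is a non-abelian simple group. Since O_{p'}(G) = 1, such an x is not central modulo O_{p'}(G): the hypotheses describe a counterexample to the Z*_p statement in p-rank at most 2. -/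
theorem result {G : Type*} [Group G] [Finite G] {p : ℕ} [Fact p.Prime] (hp : p ≠ 2) (hcore : Cfsg.pPrimeCore p G = ⊥)
    (hrank : Cfsg.PRankLE p 2 G) (x : G) (hx : orderOf x = p) (hiso : Cfsg.IsIsolated x) (hnc : x ∉ Subgroup.center G) :
    IsSimpleGroup ↥(Cfsg.generalizedFittingSubgroup G) ∧ ¬ IsMulCommutative ↥(Cfsg.generalizedFittingSubgroup G) := by
  obtain ⟨P, hP⟩ := (H77.isPGroup_zpowers (p := p) (x := x) ⟨1, by rw [hx, pow_one]⟩).exists_le_sylow
  have hxP : x ∈ (P : Subgroup G) := hP (Subgroup.mem_zpowers x)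
  have hxc : ∀ a ∈ (P : Subgroup G), Commute x a := fun a ha => H77.isolated_commute P.2 hxP hiso ha
  have hfix : ∀ g : G, g * x * g⁻¹ ∈ (P : Subgroup G) → g * x * g⁻¹ = x := fun g hg =>
    hiso g (hxc _ hg)
  have hxp : x ^ p = 1 := hx ▸ pow_orderOf_eq_one x
  have hx1 : x ≠ 1 := fun h => hnc (h ▸ one_mem _)
  -- a subgroup generated by two commuting elements of order p in the Sylow group contains x
  have hspan : ∀ a b : G, a ∈ (P : Subgroup G) → b ∈ (P : Subgroup G) → orderOf a = p → orderOf b = p →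
      Commute a b → b ∉ Subgroup.zpowers a → ∃ i j : ℤ, x = a ^ i * b ^ j := by
    intro a b ha hb hao hbo hab hba
    set A := Subgroup.zpowers a ⊔ Subgroup.zpowers b
    have hcomm : ∀ u ∈ Subgroup.zpowers a, ∀ v ∈ Subgroup.zpowers b, u * v = v * u := fun u hu v hv => by
      obtain ⟨i, rfl⟩ := Subgroup.mem_zpowers_iff.mp hu
      obtain ⟨j, rfl⟩ := Subgroup.mem_zpowers_iff.mp hv
      exact (hab.zpow_zpow i j).eq
    have hAmem : ∀ u ∈ A, ∃ i j : ℤ, u = a ^ i * b ^ j := fun u hu => by
      rw [← SetLike.mem_coe, Subgroup.coe_mul_of_left_le_normalizer_right _ _ (Subgroup.zpowers_le.mpr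
        (Subgroup.centralizer_le_normalizer _ fun v hv => (hcomm a (Subgroup.mem_zpowers a) v hv).symm))] at hu
      obtain ⟨_, ⟨i, rfl⟩, _, ⟨j, rfl⟩, rfl⟩ := hu
      exact ⟨i, j, rfl⟩
    have hAcard : p ^ 2 ≤ Nat.card A := by
      have h1 := H77.card_sup_mul_card_inf hcomm
      rw [Nat.card_zpowers, Nat.card_zpowers, hao, hbo] at h1
      have h2 : Nat.card (Subgroup.zpowers a ⊓ Subgroup.zpowers b : Subgroup G) = 1 := by
        have h3 := Subgroup.card_dvd_of_le (inf_le_right : Subgroup.zpowers a ⊓ Subgroup.zpowers b ≤ _)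
        rw [Nat.card_zpowers, hbo] at h3
        refine ((Nat.dvd_prime Fact.out).mp h3).resolve_right fun h4 => hba ?_
        have h5 : Subgroup.zpowers a ⊓ Subgroup.zpowers b = Subgroup.zpowers b :=
          Subgroup.eq_of_le_of_card_ge inf_le_right (by rw [Nat.card_zpowers, hbo, h4])
        exact (h5.symm ▸ Subgroup.mem_zpowers b : b ∈ Subgroup.zpowers a ⊓ Subgroup.zpowers b).1
      rw [h2, mul_one] at h1
      rw [h1, pow_two]
    have hA'c : IsMulCommutative (A ⊔ Subgroup.zpowers x : Subgroup G) := by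
      have hAP : A ≤ (P : Subgroup G) := sup_le (Subgroup.zpowers_le.mpr ha) (Subgroup.zpowers_le.mpr hb)
      refine Subgroup.le_centralizer_iff_isMulCommutative.mp ?_
      have hax : ∀ u ∈ ({a, b, x} : Set G), ∀ v ∈ ({a, b, x} : Set G), u * v = v * u := by
        rintro u (rfl | rfl | rfl) v (rfl | rfl | rfl)
        all_goals first
          | rfl
          | exact hab.eq
          | exact hab.eq.symm
          | exact (hxc _ ha).eq
          | exact (hxc _ ha).eq.symm
          | exact (hxc _ hb).eq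
          | exact (hxc _ hb).eq.symm
      have hle : A ⊔ Subgroup.zpowers x ≤ Subgroup.closure ({a, b, x} : Set G) :=
        sup_le (sup_le (Subgroup.zpowers_le.mpr (Subgroup.subset_closure (by simp)))
          (Subgroup.zpowers_le.mpr (Subgroup.subset_closure (by simp))))
          (Subgroup.zpowers_le.mpr (Subgroup.subset_closure (by simp)))
      refine hle.trans (le_trans ?_ (Subgroup.centralizer_le hle))
      rw [Subgroup.centralizer_closure]
      exact (Subgroup.closure_le _).mpr fun u hu v hv => hax v hv u hu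
    have hA'e : ∀ u ∈ (A ⊔ Subgroup.zpowers x : Subgroup G), u ^ p = 1 := by
      haveI := hA'c
      suffices ∀ u ∈ Subgroup.closure ((A : Set G) ∪ (Subgroup.zpowers x : Set G)), u ^ p = 1 from
        fun u hu => this u (by rwa [← Subgroup.sup_eq_closure])
      intro u hu
      induction hu using Subgroup.closure_induction with
      | mem v hv =>
        rcases hv with hv | hv
        · obtain ⟨i, j, rfl⟩ := hAmem v hv
          rw [(hab.zpow_zpow i j).mul_pow, ← zpow_natCast, ← zpow_natCast, ← zpow_mul, ← zpow_mul, mul_comm i, mul_comm j,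
            zpow_mul, zpow_mul, zpow_natCast, zpow_natCast, ← hao, pow_orderOf_eq_one, hao, ← hbo, pow_orderOf_eq_one,
            one_zpow, one_zpow, one_mul]
        · obtain ⟨i, rfl⟩ := Subgroup.mem_zpowers_iff.mp hv
          rw [← zpow_natCast, ← zpow_mul, mul_comm, zpow_mul, zpow_natCast, hxp, one_zpow]
      | one => exact one_pow p
      | mul v w hv hw ihv ihw =>
        rw [← Subgroup.sup_eq_closure] at hv hw
        exact ((show Commute v w from congrArg Subtype.val
          (IsMulCommutative.is_comm.comm (⟨v, hv⟩ : (A ⊔ Subgroup.zpowers x : Subgroup G)) ⟨w, hw⟩)).mul_pow p).trans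
          ((congrArg₂ (· * ·) ihv ihw).trans (one_mul 1))
      | inv v _ ih => exact (inv_pow v p).trans ((congrArg (·⁻¹) ih).trans inv_one)
    have hle := hrank _ hA'c hA'e
    have he := Subgroup.eq_of_le_of_card_ge (le_sup_left : A ≤ A ⊔ Subgroup.zpowers x) (hle.trans hAcard)
    exact hAmem x (he.symm ▸ Subgroup.mem_sup_right (Subgroup.mem_zpowers x))
  -- the p-core is trivial
  set R := Cfsg.pCore p G with hR
  have hRP : R ≤ (P : Subgroup G) := by
    have hp1 : IsPGroup p ((P : Subgroup G) ⊔ R : Subgroup G) :=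
      P.2.to_sup_of_normal_right (Cfsg.Comp.pCore_isPGroup p)
    exact le_trans le_sup_right (P.3 hp1 le_sup_left).le
  have hFR : Cfsg.fittingSubgroup G ≤ R := H71.fitting_le_pCore hcore
  have hxR : x ∉ R := fun hxR => hnc (Subgroup.mem_center_iff.mpr fun g =>
    mul_inv_eq_iff_eq_mul.mp (hfix g (hRP ((inferInstance : R.Normal).conj_mem x hxR g))))
  obtain ⟨L, hL⟩ : ∃ L : Subgroup G, Cfsg.IsComponent L := by
    by_contra hno
    push Not at hno
    apply hxR
    have hE : Cfsg.layer G = ⊥ := le_bot_iff.mp (Cfsg.Comp.layer_le_iff.mpr fun L hL => absurd hL (hno L))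
    have hF : Cfsg.generalizedFittingSubgroup G ≤ R := sup_le (hE.le.trans bot_le) hFR
    exact hF (Cfsg.Comp.centralizer_fStar_le (G := G) fun a ha => (hxc a (hRP (hF ha))).eq.symm)
  have key : ∀ (z r g : G), z ∈ (P : Subgroup G) → r ∈ (P : Subgroup G) → orderOf z = p → orderOf r = p →
      Commute z r → g * r * g⁻¹ ∈ (P : Subgroup G) → g * r * g⁻¹ ≠ r → g * z * g⁻¹ = z →
      ∃ i : ℤ, x = z ^ i := by
    intro z r g hz hr hzo hro hzr hgr hne hgz
    obtain ⟨i, j, hij⟩ := hspan z r hz hr hzo hro hzr (fun h => hne (by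
      obtain ⟨n, rfl⟩ := Subgroup.mem_zpowers_iff.mp h
      rw [← conj_zpow, hgz]))
    refine ⟨i, ?_⟩
    by_cases hj : (p : ℤ) ∣ j
    · obtain ⟨k, rfl⟩ := hj
      rw [hij, zpow_mul, zpow_natCast, ← hro, pow_orderOf_eq_one, one_zpow, mul_one]
    · exfalso
      have hgx : g * x * g⁻¹ = z ^ i * (g * r * g⁻¹) ^ j := by
        rw [hij, conj_zpow, ← conj_mul, ← conj_zpow, hgz]
      have h1 := hfix g (hgx ▸ mul_mem (zpow_mem hz i) (zpow_mem hgr j))
      rw [hgx, hij] at h1
      have h2 := mul_left_cancel h1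
      obtain ⟨u, v, huv⟩ := ((Nat.prime_iff_prime_int.mp Fact.out).coprime_iff_not_dvd.mpr hj)
      have h3 : ∀ w : G, orderOf w = p → w = (w ^ j) ^ v := fun w hw => by
        rw [← zpow_mul]
        conv_lhs => rw [← zpow_one w, ← huv, zpow_add, mul_comm u, zpow_mul, zpow_natCast, ← hw, pow_orderOf_eq_one, one_zpow, one_mul, mul_comm v]
      refine hne ?_
      rw [h3 (g * r * g⁻¹) ((orderOf_injective (MulAut.conj g).toMonoidHom (MulAut.conj g).injective r).trans hro),
        h2, ← h3 r hro]
  have hRbot : R = ⊥ := by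
    by_contra hne
    obtain ⟨r, hrL, hrP, hro, g, hgL, hgr, hgne⟩ := exists_fused hp hcore P hL
    have hLR : ⁅L, R⁆ = ⊥ := le_bot_iff.mp ((Subgroup.commutator_mono (Cfsg.Comp.le_layer hL)
      (Cfsg.Comp.pCore_le_fitting p)).trans Cfsg.Comp.commutator_layer_fitting.le)
    have hd : p ∣ Nat.card R := ((Cfsg.Comp.pCore_isPGroup p).card_eq_or_dvd).resolve_left
      fun h => hne (Subgroup.card_eq_one.mp h)
    obtain ⟨⟨z, hzR⟩, hzo⟩ := exists_prime_orderOf_dvd_card' p hd
    have hzo' : orderOf z = p := by rwa [Subgroup.orderOf_mk] at hzo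
    obtain ⟨i, hi⟩ := key z r g (hRP hzR) hrP hzo' hro (Cfsg.Comp.commute_of_commutator_eq_bot hLR hrL hzR).symm hgr hgne
      (by rw [Cfsg.Comp.commute_of_commutator_eq_bot hLR hgL hzR, mul_inv_cancel_right])
    exact hxR (hi ▸ zpow_mem hzR i)
  have hF : Cfsg.fittingSubgroup G = ⊥ := le_bot_iff.mp (hRbot ▸ hFR)
  have hone : ∀ M : Subgroup G, Cfsg.IsComponent M → M = L := by
    intro M hM
    by_contra hne
    have hML := (Cfsg.Comp.component_eq_or_commute hM hL).resolve_left hne
    obtain ⟨r, hrL, hrP, hro, g, hgL, hgr, hgne⟩ := exists_fused hp hcore P hL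
    obtain ⟨z, hzM, hzP, hzo, g', hg'M, hg'z, hg'ne⟩ := exists_fused hp hcore P hM
    have hzr : Commute z r := Cfsg.Comp.commute_of_commutator_eq_bot hML hzM hrL
    obtain ⟨i, hi⟩ := key z r g hzP hrP hzo hro hzr hgr hgne
      (by rw [← Cfsg.Comp.commute_of_commutator_eq_bot hML hzM hgL, mul_inv_cancel_right])
    obtain ⟨i', hi'⟩ := key r z g' hrP hzP hro hzo hzr.symm hg'z hg'ne
      (by rw [Cfsg.Comp.commute_of_commutator_eq_bot hML hg'M hrL, mul_inv_cancel_right])
    refine hx1 ?_
    by_cases hi1 : (p : ℤ) ∣ i'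
    · obtain ⟨k, rfl⟩ := hi1
      rw [hi', zpow_mul, zpow_natCast, ← hro, pow_orderOf_eq_one, one_zpow]
    · exfalso
      have h1 : r ^ i' ∈ M := hi'.symm ▸ (hi ▸ zpow_mem hzM i : x ∈ M)
      have h2 : g * (r ^ i') * g⁻¹ = r ^ i' := by
        rw [← Cfsg.Comp.commute_of_commutator_eq_bot hML h1 hgL, mul_inv_cancel_right]
      rw [← conj_zpow] at h2
      obtain ⟨u, v, huv⟩ := ((Nat.prime_iff_prime_int.mp Fact.out).coprime_iff_not_dvd.mpr hi1)
      have h3 : ∀ w : G, orderOf w = p → w = (w ^ i') ^ v := fun w hw => by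
        rw [← zpow_mul]
        conv_lhs => rw [← zpow_one w, ← huv, zpow_add, mul_comm u, zpow_mul, zpow_natCast, ← hw, pow_orderOf_eq_one, one_zpow, one_mul, mul_comm v]
      refine hgne ?_
      rw [h3 (g * r * g⁻¹) ((orderOf_injective (MulAut.conj g).toMonoidHom (MulAut.conj g).injective r).trans hro),
        h2, ← h3 r hro]
  have hlayer : Cfsg.layer G = L :=
    le_antisymm (Cfsg.Comp.layer_le_iff.mpr fun M hM => (hone M hM).le) (Cfsg.Comp.le_layer hL)
  have hFstar : Cfsg.generalizedFittingSubgroup G = L := by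
    rw [Cfsg.generalizedFittingSubgroup, hlayer, hF, sup_bot_eq]
  rw [hFstar]
  have hLn : L.Normal := hlayer ▸ inferInstance
  have hZ : Subgroup.center L = ⊥ := by
    haveI := hLn
    haveI : ((Subgroup.center L).map L.subtype).Normal := inferInstance
    letI : CommGroup (Subgroup.center L) :=
      { (inferInstance : Group (Subgroup.center L)) with
        mul_comm := fun a b => Subtype.ext (Subgroup.mem_center_iff.mp b.2 a.1) }
    have hcn : Group.IsNilpotent (Subgroup.center L) := CommGroup.isNilpotent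
    have h1 : (Subgroup.center L).map L.subtype ≤ Cfsg.fittingSubgroup G :=
      Cfsg.Comp.le_fittingSubgroup inferInstance
        (Group.nilpotent_of_mulEquiv ((Subgroup.center L).equivMapOfInjective L.subtype L.subtype_injective))
    rw [hF, le_bot_iff, Subgroup.map_eq_bot_iff_of_injective _ L.subtype_injective] at h1
    exact h1
  haveI := hL.2.2
  haveI := Cfsg.Comp.nontrivial_of_quasisimple hL.2
  exact ⟨(((QuotientGroup.quotientMulEquivOfEq hZ).trans QuotientGroup.quotientBot).symm).isSimpleGroup,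
    Cfsg.Comp.not_isMulCommutative_of_quasisimple hL.2⟩

end Cfsg.Agent.S3049
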