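import Cfsg.Statements.S3040
import Cfsg.Agent.H41.FPFS3.Main

set_option autoImplicit false
open Cfsg

namespace Cfsg.Agent.S3040

/-- Let G be a finite group of even order coprime to 3, and let Σ be a group of automorphisms of G isomorphic to the symmetric group of degree 3 that is fixed-point-free (only the identity of G is fixed by every element of Σ). Then G is solvable, O_{2′,2}(G) (the preimage in G of O₂(G/O(G))) has odd index in G, and G = O_{2′,2}(G) C_G(σ) for every element σ of Σ of order 3; that is, O₂(G/O(G)) is a Sylow 2-subgroup of G/O(G) and G/O(G) = O₂(G/O(G)) C_{G/O(G)}(σ). -/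
theorem result {G : Type*} [Group G] [Finite G] (heven : 2 ∣ Nat.card G) (h3 : ¬ 3 ∣ Nat.card G)
    (Sig : Subgroup (MulAut G)) (hS3 : Nonempty (↥Sig ≃* Equiv.Perm (Fin 3))) (hfpf : ∀ g : G, (∀ σ ∈ Sig, σ g = g) → g = 1) :
    Group.IsSolvable G ∧ ¬ 2 ∣ (Cfsg.pPrimePCore 2 G).index ∧ ∀ σ ∈ Sig, orderOf σ = 3 →
      Cfsg.pPrimePCore 2 G ⊔ Subgroup.closure {g : G | σ g = g} = ⊤ := by
  obtain ⟨e⟩ := hS3
  have hact : ∀ c : Equiv.Perm (Fin 3), c ^ 3 = 1 → c ≠ 1 →
      ∃ a : H41.FPFS3.Act G, a.σ = (e.symm c : MulAut G) := by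
    intro c hc hc1
    let p : Equiv.Perm (Fin 3) := Equiv.swap 0 1
    have key : ∀ c : Equiv.Perm (Fin 3), c ^ 3 = 1 → c ≠ 1 →
        c * Equiv.swap 0 1 * c = Equiv.swap 0 1 ∧
        ∀ x : Equiv.Perm (Fin 3), x = 1 ∨ x = c ∨ x = c * c ∨ x = Equiv.swap 0 1 ∨
          x = c * Equiv.swap 0 1 ∨ x = c * c * Equiv.swap 0 1 := by decide
    obtain ⟨hrel, hgen⟩ := key c hc hc1
    let f : Equiv.Perm (Fin 3) →* MulAut G := Sig.subtype.comp e.symm.toMonoidHom
    refine ⟨⟨f c, f p, ?_, ?_, ?_, ?_⟩, rfl⟩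
    · intro g
      show (f c * (f c * f c)) g = g
      rw [← map_mul, ← map_mul, show c * (c * c) = c ^ 3 by rw [pow_succ, pow_two, mul_assoc], hc,
        map_one]
      rfl
    · intro g
      show (f p * f p) g = g
      rw [← map_mul, Equiv.swap_mul_self, map_one]
      rfl
    · intro g
      show (f c * f p * f c) g = f p g
      rw [← map_mul, ← map_mul, hrel]
    · intro g hσ hτ
      refine hfpf g fun x hx => ?_
      have hx' : f (e ⟨x, hx⟩) = x := congrArg Subtype.val (e.symm_apply_apply ⟨x, hx⟩)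
      rw [← hx']
      rcases hgen (e ⟨x, hx⟩) with h | h | h | h | h | h <;> rw [h]
      · rw [map_one]; rfl
      · exact hσ
      · rw [map_mul]; show f c (f c g) = g; rw [hσ, hσ]
      · exact hτ
      · rw [map_mul]; show f c (f p g) = g; rw [hτ, hσ]
      · rw [map_mul, map_mul]; show f c (f c (f p g)) = g; rw [hτ, hσ, hσ]
  obtain ⟨a, -⟩ := hact (finRotate 3) (by decide) (by decide)
  have h := H41.FPFS3.solvable_of_goal a (H41.FPFS3.goal a h3)
  refine ⟨h.1, h.2, fun σ hσ hord => ?_⟩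
  have hc : e ⟨σ, hσ⟩ ^ 3 = 1 := by
    have h' : (⟨σ, hσ⟩ : Sig) ^ 3 = 1 := Subtype.ext (by
      show σ ^ 3 = 1
      rw [← hord]
      exact pow_orderOf_eq_one σ)
    rw [← map_pow, h', map_one]
  obtain ⟨a, ha⟩ := hact (e ⟨σ, hσ⟩) hc fun h1 => by
    have h2 : (⟨σ, hσ⟩ : Sig) = 1 := e.injective (h1.trans (map_one e).symm)
    have h3' : σ = 1 := congrArg Subtype.val h2
    rw [h3', orderOf_one] at hord
    exact absurd hord (by decide)
  rw [e.symm_apply_apply] at ha
  have hfix : Subgroup.closure {g : G | σ g = g} = a.fix := by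
    have : {g : G | σ g = g} = (a.fix : Set G) := by
      ext g
      show σ g = g ↔ a.σ g = g
      rw [ha]
    rw [this, Subgroup.closure_eq]
  rw [hfix]
  exact H41.FPFS3.goal a h3

end Cfsg.Agent.S3040
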