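import Cfsg.Statements.S3050
import Cfsg.Agent.H79.SL2FpfGroup

set_option autoImplicit false
open Cfsg
open scoped IsMulCommutative

namespace Cfsg.Agent.S3050

/-- Let G be a finite group with a normal 2-subgroup Q such that G/Q is isomorphic to SL(2, 2ⁿ) with n ≥ 2, and suppose some element of G of order 3 fixes no nonidentity element of Q under conjugation. Then Q is elementary abelian and is the direct product of normal subgroups of G on each of which G acts as SL(2, 2ⁿ) acts on its natural two-dimensional module (a Galois twist of the natural action allowed). -/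
theorem result {G : Type*} [Group G] [Finite G]
    (Q : Subgroup G) [Q.Normal] (hQ : IsPGroup 2 ↥Q) (n : ℕ) (hn : 2 ≤ n)
    (K : Type*) [Field K] [Fintype K] (hK : Fintype.card K = 2 ^ n)
    (e : G ⧸ Q ≃* Matrix.SpecialLinearGroup (Fin 2) K)
    (x : G) (hx : orderOf x = 3) (hfpf : ∀ q ∈ Q, x * q * x⁻¹ = q → q = 1) :
    Cfsg.IsElementaryAbelian 2 Q ∧
      ∃ (k : ℕ) (V : Fin k → Subgroup G), (∀ i, V i ≤ Q ∧ (V i).Normal ∧
        Cfsg.ActsAsSL2OnSection K ⊤ ⊤ (V i) ⊥) ∧ iSupIndep V ∧ ⨆ i, V i = Q := by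
  classical
  haveI : Fact (Nat.Prime 2) := ⟨Nat.prime_two⟩
  haveI : CharP K 2 := charP_of_card_eq_prime_pow hK
  have hK4 : 4 ≤ Nat.card K := by
    rw [Nat.card_eq_fintype_card, hK]
    calc 4 = 2 ^ 2 := rfl
      _ ≤ 2 ^ n := Nat.pow_le_pow_right (by norm_num) hn
  have hsq := H79.SL2Fpf.sq_eq_one hK4 (Nat.card Q) G Q hQ e x hx hfpf le_rfl
  have hc : ∀ a ∈ Q, ∀ b ∈ Q, a * b = b * a := fun a ha b hb => by
    calc a * b = a * b * ((b * a) * (b * a)) := by rw [hsq _ (mul_mem hb ha), mul_one]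
      _ = a * (b * b) * a * (b * a) := by group
      _ = b * a := by rw [hsq b hb, mul_one, hsq a ha, one_mul]
  haveI : IsMulCommutative Q := IsMulCommutative.of_comm fun a b => Subtype.ext (hc a a.2 b b.2)
  refine ⟨⟨inferInstance, fun a ha => by rw [pow_two]; exact hsq a ha⟩, ?_⟩
  set ρ := H79.SL2Fpf.sectionAct Q Q hc e with hρdef
  have hρ : ∀ (g : G) (a : Additive Q), ((Additive.toMul (ρ (e (g : G ⧸ Q)) a) : Q) : G) =
      g * ((Additive.toMul a : Q) : G) * g⁻¹ :=
    fun g a => H79.SL2Fpf.sectionAct_apply Q Q hc e g a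
  have hf := H79.SL2Fpf.sectionAct_fpf Q Q hc le_rfl hQ e hx hfpf
  obtain ⟨k, Ψ, hΨ, hind, htop⟩ := H79.SL2Fpf.exists_decomp ρ hK4
    (fun v => Additive.toMul.injective (Subtype.ext (hsq _ (Additive.toMul v).2))) hf
  let W : Fin k → Subgroup Q := fun i => AddSubgroup.toSubgroup' (Ψ i).range
  let V : Fin k → Subgroup G := fun i => (W i).map Q.subtype
  have hmem : ∀ i (a : G), a ∈ V i ↔ ∃ v, ((Additive.toMul (Ψ i v) : Q) : G) = a := by
    intro i a
    constructor
    · rintro ⟨b, ⟨v, hv⟩, rfl⟩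
      exact ⟨v, by rw [hv]; rfl⟩
    · rintro ⟨v, rfl⟩
      exact ⟨_, ⟨v, rfl⟩, rfl⟩
  have hconj : ∀ i (g : G) v, g * ((Additive.toMul (Ψ i v) : Q) : G) * g⁻¹ =
      ((Additive.toMul (Ψ i (Matrix.mulVec
        ((e (g : G ⧸ Q) : Matrix.SpecialLinearGroup (Fin 2) K) : Matrix (Fin 2) (Fin 2) K) v)) : Q) : G) :=
    fun i g v => by rw [← hρ g (Ψ i v), (hΨ i).1]
  have hnorm : ∀ i, (V i).Normal := fun i => ⟨fun a ha g => by
    obtain ⟨v, rfl⟩ := (hmem i a).mp ha
    exact (hmem i _).mpr ⟨_, (hconj i g v).symm⟩⟩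
  refine ⟨k, V, fun i => ⟨Subgroup.map_subtype_le _, hnorm i, ?_⟩, ?_, ?_⟩
  · refine ⟨?_, bot_le, ?_⟩
    · haveI := hnorm i
      rw [Subgroup.normalizer_eq_top]
    let φ : Multiplicative (Fin 2 → K) →* V i :=
      { toFun := fun v => ⟨((Additive.toMul (Ψ i (Multiplicative.toAdd v)) : Q) : G), (hmem i _).mpr ⟨_, rfl⟩⟩
        map_one' := by
          apply Subtype.ext
          show ((Additive.toMul (Ψ i 0) : Q) : G) = 1
          rw [map_zero]; rfl
        map_mul' := fun v w => by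
          apply Subtype.ext
          show ((Additive.toMul (Ψ i (Multiplicative.toAdd v + Multiplicative.toAdd w)) : Q) : G) = _
          rw [map_add]; rfl }
    have hφ : Function.Bijective φ := by
      refine ⟨fun v w h => ?_, fun a => ?_⟩
      · exact Multiplicative.toAdd.injective ((hΨ i).2 (Additive.toMul.injective (Subtype.ext
          (congrArg (fun z : V i => (z : G)) h))))
      · obtain ⟨v, hv⟩ := (hmem i a).mp a.2
        exact ⟨Multiplicative.ofAdd v, Subtype.ext hv⟩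
    let E := MulEquiv.ofBijective φ hφ
    refine ⟨(e.toMonoidHom.comp (QuotientGroup.mk' Q)).comp (⊤ : Subgroup G).subtype, E.symm.toMonoidHom,
      ?_, E.symm.surjective, fun u => ?_, fun g u => ?_⟩
    · refine eq_top_iff.mpr fun s _ => ?_
      obtain ⟨g, hg⟩ := QuotientGroup.mk_surjective (e.symm s)
      exact ⟨⟨g, Subgroup.mem_top g⟩, by show e (g : G ⧸ Q) = s; rw [hg, e.apply_symm_apply]⟩
    · rw [Subgroup.mem_bot]
      show E.symm u = 1 ↔ _
      rw [MulEquiv.map_eq_one_iff]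
      exact ⟨fun h => by rw [h]; rfl, fun h => Subtype.ext h⟩
    · obtain ⟨v, rfl⟩ := E.surjective u
      refine ⟨E (Multiplicative.ofAdd (Matrix.mulVec
        ((e ((g : G) : G ⧸ Q) : Matrix.SpecialLinearGroup (Fin 2) K) : Matrix (Fin 2) (Fin 2) K)
          (Multiplicative.toAdd v))), (hconj i g (Multiplicative.toAdd v)).symm, ?_⟩
      show Multiplicative.toAdd (E.symm (E _)) = _
      rw [E.symm_apply_apply]
      show _ = Matrix.mulVec _ (Multiplicative.toAdd (E.symm (E v)))
      rw [E.symm_apply_apply]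
      rfl
  · have hW : iSupIndep W := hind.map_orderIso (AddSubgroup.toSubgroup' (G := Q))
    intro i
    rw [disjoint_iff]
    show (W i).map Q.subtype ⊓ ⨆ (j) (_ : j ≠ i), (W j).map Q.subtype = ⊥
    simp only [← Subgroup.map_iSup]
    rw [← Subgroup.map_inf _ _ _ (Subgroup.subtype_injective Q), disjoint_iff.mp (hW i), Subgroup.map_bot]
  · show ⨆ i, (W i).map Q.subtype = Q
    rw [← Subgroup.map_iSup]
    have : ⨆ i, W i = ⊤ := by
      show ⨆ i, AddSubgroup.toSubgroup' (Ψ i).range = ⊤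
      rw [← OrderIso.map_iSup, htop]
      exact map_top _
    rw [this, ← MonoidHom.range_eq_map, Subgroup.range_subtype]

end Cfsg.Agent.S3050
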