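import Cfsg.Statements.S3054
import Cfsg.Agent.H79.ExtraspecialTori

set_option autoImplicit false
open Cfsg

namespace Cfsg.Agent.S3054

open H79.ExtraspecialTori

/-- Let p be an odd prime and G a finite group with a Sylow p-subgroup P that is extraspecial of order p³ and exponent p. Suppose P contains three distinct subgroups A of order p² (each is elementary abelian of rank 2) such that every automorphism of A of order p is induced by conjugation by an element of G; equivalently the automorphism group induced on A by its normalizer contains the special linear group of A. Then p ≤ 13. -/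
theorem result {G : Type*} [Group G] [Finite G]
    {p : ℕ} [Fact p.Prime] (hp : p ≠ 2) (P : Sylow p G) (hE : Cfsg.IsExtraspecial p ↥P)
    (hcard : Nat.card P = p ^ 3) (hexp : Monoid.exponent ↥P = p)
    (A : Fin 3 → Subgroup G) (hA : Function.Injective A) (hAP : ∀ i, A i ≤ (P : Subgroup G))
    (hAcard : ∀ i, Nat.card ↥(A i) = p ^ 2)
    (hSL : ∀ i, ∀ φ : MulAut ↥(A i), orderOf φ = p → ∃ g : G, ∀ a : ↥(A i), (φ a : G) = g * (a : G) * g⁻¹) :
    p ≤ 13 := by
  classical
  have hpr : p.Prime := Fact.out
  obtain ⟨F⟩ := exists_frame hE hcard hexp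
  let ψ : ↥(P : Subgroup G) → ZMod p × ZMod p → ↥(P : Subgroup G) :=
    fun a t => zp F.z t.1 * zp a t.2
  have hBψ : ∀ i, ∃ a : ↥(P : Subgroup G), a ∉ Subgroup.center ↥(P : Subgroup G) ∧
      ((A i).subgroupOf (P : Subgroup G) : Set ↥(P : Subgroup G)) = Set.range (ψ a) := by
    intro i
    set B := (A i).subgroupOf (P : Subgroup G)
    have hB : Nat.card B = p ^ 2 := by
      rw [Nat.card_congr (Subgroup.subgroupOfEquivOfLe (hAP i)).toEquiv, hAcard]
    obtain ⟨a, haB, ha⟩ : ∃ a ∈ B, a ∉ Subgroup.center ↥(P : Subgroup G) := by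
      by_contra! h
      have h1 := Nat.le_of_dvd Nat.card_pos (Subgroup.card_dvd_of_le (fun a ha => h a ha : B ≤ _))
      have h2 : Nat.card (Subgroup.center ↥(P : Subgroup G)) = p := hE.2
      rw [hB, h2] at h1
      nlinarith [hpr.two_le]
    refine ⟨a, ha, Set.eq_of_subset_of_ncard_le (fun b hb => ?_) ?_ (Set.toFinite _)⟩
    · have hd : det2 (F.coord b) (F.coord a) = 0 := by
        apply zp_injective F.z_order
        rw [← F.comm, zp_zero, commutatorElement_eq_one_iff_mul_comm]
        exact congrArg Subtype.val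
          (IsPGroup.commutative_of_card_eq_prime_sq hB (⟨b, hb⟩ : B) ⟨a, haB⟩)
      obtain ⟨c, hc⟩ := exists_smul_of_det2 (fun h => ha ((F.coord_eq_zero a).mp h)) hd
      obtain ⟨k, hk⟩ := F.center_eq _ ((F.coord_eq_iff b (zp a c)).mp (by rw [hc, F.coord_zp]))
      exact ⟨(k, c), by simp [ψ, ← hk]⟩
    · rw [show (B : Set ↥(P : Subgroup G)).ncard = p ^ 2 from hB, ← Set.image_univ]
      refine (Set.ncard_image_le (Set.toFinite _)).trans ?_
      simp [Set.ncard_univ, Nat.card_prod, pow_two]
  choose a ha hAψ using hBψ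
  have hind : ∀ i j, i ≠ j → det2 (F.coord (a i)) (F.coord (a j)) ≠ 0 := by
    intro i j hij hd
    apply hij
    obtain ⟨c, hc⟩ := exists_smul_of_det2 (fun h => ha j ((F.coord_eq_zero _).mp h)) hd
    obtain ⟨k, hk⟩ := F.center_eq _ ((F.coord_eq_iff (a i) (zp (a j) c)).mp (by rw [hc, F.coord_zp]))
    have hai : a i ∈ (A j).subgroupOf (P : Subgroup G) := by
      rw [← SetLike.mem_coe, hAψ]; exact ⟨(k, c), by simp [ψ, ← hk]⟩
    have hz : F.z ∈ (A j).subgroupOf (P : Subgroup G) := by
      rw [← SetLike.mem_coe, hAψ]; exact ⟨(1, 0), by simp [ψ]⟩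
    apply hA
    refine Subgroup.eq_of_le_of_card_ge (fun x hx => ?_) (by rw [hAcard, hAcard])
    have h1 : (⟨x, hAP i hx⟩ : ↥(P : Subgroup G)) ∈ Set.range (ψ (a i)) := by
      rw [← hAψ]; exact hx
    obtain ⟨⟨r, s⟩, h2⟩ := h1
    have h3 : ψ (a i) (r, s) ∈ (A j).subgroupOf (P : Subgroup G) :=
      mul_mem (zp_mem hz r) (zp_mem hai s)
    rw [h2] at h3
    exact h3
  have hy : ∀ i, ∃ y : G, y * (a i : G) * y⁻¹ = a i ∧ y * (F.z : G) * y⁻¹ = (a i : G) * F.z := by
    intro i
    have hzA : (F.z : G) ∈ A i := by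
      show F.z ∈ ((A i).subgroupOf (P : Subgroup G) : Set ↥(P : Subgroup G))
      rw [hAψ]; exact ⟨(1, 0), by simp [ψ]⟩
    have haA : (a i : G) ∈ A i := by
      show a i ∈ ((A i).subgroupOf (P : Subgroup G) : Set ↥(P : Subgroup G))
      rw [hAψ]; exact ⟨(0, 1), by simp [ψ]⟩
    set z' : ↥(A i) := ⟨_, hzA⟩ with hz'
    set a' : ↥(A i) := ⟨_, haA⟩ with ha'
    have hpw : ∀ w : ↥(A i), w ^ p = 1 := fun w =>
      Subtype.ext (by simpa using congrArg Subtype.val (F.pow_p ⟨(w : G), hAP i w.2⟩))
    have hcomm : ∀ v w : ↥(A i), Commute v w :=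
      IsPGroup.commutative_of_card_eq_prime_sq (hAcard i)
    let e : ZMod p × ZMod p → ↥(A i) := fun t => zp z' t.1 * zp a' t.2
    have e_mul : ∀ s t, e (s + t) = e s * e t := fun s t => by
      simp only [e, Prod.fst_add, Prod.snd_add, zp_add (hpw _)]
      exact (hcomm _ _).mul_mul_mul_comm _ _
    haveI : Fintype ↥(A i) := Fintype.ofFinite _
    have he : Function.Bijective e := by
      refine (Fintype.bijective_iff_surjective_and_card e).mpr ⟨fun w => ?_, ?_⟩
      · have h1 : (⟨(w : G), hAP i w.2⟩ : ↥(P : Subgroup G)) ∈ Set.range (ψ (a i)) := by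
          rw [← hAψ]; exact w.2
        obtain ⟨t, ht⟩ := h1
        refine ⟨t, (A i).subtype_injective ?_⟩
        have h2 := congrArg (P : Subgroup G).subtype ht
        simp only [ψ, map_mul, map_zp] at h2
        simp only [e, map_mul, map_zp]
        exact h2
      · rw [← Nat.card_eq_fintype_card, ← Nat.card_eq_fintype_card, hAcard, Nat.card_prod,
          Nat.card_zmod, pow_two]
    let E := Equiv.ofBijective e he
    let sh : ZMod p × ZMod p → ZMod p × ZMod p := fun t => (t.1, t.2 + t.1)
    let φ : MulAut ↥(A i) :=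
      { toFun := fun w => e (sh (E.symm w))
        invFun := fun w => e ((E.symm w).1, (E.symm w).2 - (E.symm w).1)
        left_inv := fun w => by
          show e ((E.symm (E (sh (E.symm w)))).1, (E.symm (E (sh (E.symm w)))).2 -
            (E.symm (E (sh (E.symm w)))).1) = w
          rw [E.symm_apply_apply]
          simp only [sh, add_sub_cancel_right]
          exact E.apply_symm_apply w
        right_inv := fun w => by
          show e (sh (E.symm (E ((E.symm w).1, (E.symm w).2 - (E.symm w).1)))) = w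
          rw [E.symm_apply_apply]
          simp only [sh, sub_add_cancel]
          exact E.apply_symm_apply w
        map_mul' := fun v w => by
          obtain ⟨s, rfl⟩ := E.surjective v
          obtain ⟨t, rfl⟩ := E.surjective w
          have h : E s * E t = E (s + t) := (e_mul s t).symm
          rw [h]
          simp only [E.symm_apply_apply]
          rw [← e_mul]
          congr 1
          ext <;> simp [sh]
          ring }
    have hφ : ∀ t, φ (e t) = e (sh t) := fun t => by
      show e (sh (E.symm (E t))) = e (sh t)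
      rw [E.symm_apply_apply]
    have hpow : ∀ (n : ℕ) t, (φ ^ n) (e t) = e (t.1, t.2 + n * t.1) := by
      intro n
      induction n with
      | zero => simp
      | succ n ih =>
        intro t
        rw [pow_succ, MulAut.mul_apply, hφ, ih]
        simp only [sh]; congr 2; push_cast; ring
    have hord : orderOf φ = p := by
      refine orderOf_eq_prime (MulEquiv.ext fun w => ?_) fun h => ?_
      · obtain ⟨t, rfl⟩ := he.2 w
        rw [hpow]; simp
      · have h1 := hφ (1, 0)
        rw [h] at h1
        have h2 := congrArg Prod.snd (he.1 h1)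
        simp [sh] at h2
    obtain ⟨g, hg⟩ := hSL i φ hord
    have ez : z' = e (1, 0) := by simp [e]
    have ea : a' = e (0, 1) := by simp [e]
    refine ⟨g, ?_, ?_⟩
    · show g * (a' : G) * g⁻¹ = a'
      rw [← hg, ea, hφ]; simp [sh]
    · show g * (z' : G) * g⁻¹ = ((a' * z' : ↥(A i)) : G)
      rw [← hg, ez, hφ, (hcomm a' _).eq, ea, ← e_mul]; simp [sh]
  by_contra hlt
  obtain ⟨l, hl, hl'⟩ := exists_primitive p
  have h14 : p ≠ 14 ∧ p ≠ 15 ∧ p ≠ 16 := by
    refine ⟨?_, ?_, ?_⟩ <;> rintro rfl <;> norm_num at hpr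
  have key := card_le hp P F a hind ha hy hl (m := 6) (by norm_num) (fun k hk hk6 h => by
    have := Nat.le_of_dvd (by omega) (hl' _ h)
    omega)
  have := key.2 le_rfl
  simp at this

end Cfsg.Agent.S3054
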