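import Cfsg.Statements.S3055
import Cfsg.Agent.H79.ExtraspecialTori

set_option autoImplicit false
open Cfsg

namespace Cfsg.Agent.S3055

open H79.ExtraspecialTori

/-- Let p be an odd prime and G a finite group with a Sylow p-subgroup P that is extraspecial of order p³ and exponent p. If all nonidentity elements of P are conjugate in G, then p ≤ 7. -/
theorem result {G : Type*} [Group G] [Finite G]
    {p : ℕ} [Fact p.Prime] (hp : p ≠ 2) (P : Sylow p G) (hE : Cfsg.IsExtraspecial p ↥P)
    (hcard : Nat.card P = p ^ 3) (hexp : Monoid.exponent ↥P = p)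
    (hconj : ∀ x y : ↥P, x ≠ 1 → y ≠ 1 → ∃ g : G, g * (x : G) * g⁻¹ = (y : G)) :
    p ≤ 7 := by
  classical
  have hpr : p.Prime := Fact.out
  obtain ⟨F⟩ := exists_frame hE hcard hexp
  let a : Option (ZMod p) → ↥(P : Subgroup G) := fun o => o.elim F.v (fun t => F.u * zp F.v t)
  have hcv : ∀ o, F.coord (a o) = o.elim ![0, 1] (fun t => ![1, t]) := by
    intro o
    cases o with
    | none => exact F.coord_v
    | some t =>
      show F.coord (F.u * zp F.v t) = ![1, t]
      rw [F.coord_mul, F.coord_zp, F.coord_u, F.coord_v]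
      ext i; fin_cases i <;> simp
  have hind : ∀ i j, i ≠ j → det2 (F.coord (a i)) (F.coord (a j)) ≠ 0 := by
    intro i j hij
    rw [hcv, hcv]
    cases i <;> cases j <;> simp_all [det2, sub_eq_zero]
    exact fun h => hij h.symm
  have hne : ∀ i, a i ∉ Subgroup.center ↥(P : Subgroup G) := by
    intro i h
    have h1 := (F.coord_eq_zero _).mpr h
    rw [hcv] at h1
    cases i
    · exact one_ne_zero (α := ZMod p) (by simpa using congrFun h1 1)
    · exact one_ne_zero (α := ZMod p) (by simpa using congrFun h1 0)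
  have hy : ∀ i, ∃ y : G, y * (a i : G) * y⁻¹ = a i ∧ y * (F.z : G) * y⁻¹ = (a i : G) * F.z := by
    intro i
    set z : G := (F.z : G) with hz
    set w : G := (a i : G) with hw
    have hzP : ∀ x ∈ (P : Subgroup G), x * z = z * x := fun x hx =>
      congrArg Subtype.val (Subgroup.mem_center_iff.mp F.z_center ⟨x, hx⟩)
    have hz1 : F.z ≠ 1 := fun h => hpr.one_lt.ne' (by rw [← F.z_order, h, orderOf_one])
    obtain ⟨g, hg⟩ := hconj F.z (a i) hz1 (fun h => hne i (h ▸ one_mem _))
    set R := (P : Subgroup G).map (MulAut.conj g).toMonoidHom with hR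
    have hRC : R ≤ Subgroup.centralizer ({w} : Set G) := by
      rintro _ ⟨x, hx, rfl⟩
      refine Subgroup.mem_centralizer_singleton_iff.mpr ?_
      show g * x * g⁻¹ * w = w * (g * x * g⁻¹)
      rw [hw, ← hg]
      calc g * x * g⁻¹ * (g * z * g⁻¹) = g * (x * z) * g⁻¹ := by group
        _ = g * (z * x) * g⁻¹ := by rw [hzP x hx]
        _ = g * z * g⁻¹ * (g * x * g⁻¹) := by group
    set E := Subgroup.zpowers z with hEdef
    have hEC : E ≤ Subgroup.centralizer ({w} : Set G) :=
      Subgroup.zpowers_le.mpr (Subgroup.mem_centralizer_singleton_iff.mpr (hzP w (a i).2).symm)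
    obtain ⟨c, hc, hcE⟩ := H76.exists_conj_mem_sylow
      ((g • P).subtype (show (g • P : Sylow p G).toSubgroup ≤ Subgroup.centralizer ({w} : Set G) from hRC))
      hEC (P.isPGroup'.to_le (Subgroup.zpowers_le.mpr F.z.2))
    set h := c⁻¹ * g with hh
    have hhz : h * z * h⁻¹ = w := by
      have h1 : c * w = w * c := Subgroup.mem_centralizer_singleton_iff.mp hc
      have e : h * z * h⁻¹ = c⁻¹ * (g * z * g⁻¹) * c := by rw [hh]; group
      rw [e, hg, ← hw, mul_assoc, ← h1, inv_mul_cancel_left]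
    have hz' : h⁻¹ * z * h ∈ (P : Subgroup G) := by
      obtain ⟨t, ht, hte⟩ := hcE z (Subgroup.mem_zpowers z)
      obtain ⟨x, hx, hxt⟩ : (t : G) ∈ R := ht
      have e2 : h⁻¹ * z * h = x := by
        have h3 : c * z * c⁻¹ = g * x * g⁻¹ := hte.symm.trans hxt.symm
        calc h⁻¹ * z * h = g⁻¹ * (c * z * c⁻¹) * g := by rw [hh]; group
          _ = x := by rw [h3]; group
      exact e2 ▸ hx
    set z' : ↥(P : Subgroup G) := ⟨_, hz'⟩ with hz'def
    have hz'c : z' ∉ Subgroup.center ↥(P : Subgroup G) := by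
      intro hcz
      obtain ⟨k, hk⟩ := F.center_eq _ hcz
      have h1 : z = zp w k := by
        have h2 : h⁻¹ * z * h = zp z k :=
          (congrArg Subtype.val hk).trans (map_zp (P : Subgroup G).subtype F.z k)
        have h3 : MulAut.conj h (zp z k) = zp w k := by
          rw [map_zp]; congr 1
        rw [← h3, ← h2]; simp [mul_assoc]
      have h4 : F.coord F.z = k • F.coord (a i) := by
        rw [← F.coord_zp]
        exact congrArg F.coord (Subtype.ext (h1.trans (map_zp (P : Subgroup G).subtype (a i) k).symm))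
      rw [(F.coord_eq_zero _).mpr F.z_center] at h4
      rcases smul_eq_zero.mp h4.symm with h5 | h5
      · rw [h5, zp_zero] at h1
        exact hz1 (Subtype.ext h1)
      · exact hne i ((F.coord_eq_zero _).mp h5)
    obtain ⟨b, hb⟩ := H79.exists_commutator_eq hE hz'c F.z_center
    refine ⟨h * (b : G) * h⁻¹, ?_, ?_⟩
    · rw [← hhz]
      calc h * (b : G) * h⁻¹ * (h * z * h⁻¹) * (h * (b : G) * h⁻¹)⁻¹
          = h * ((b : G) * z) * (b : G)⁻¹ * h⁻¹ := by group
        _ = h * z * h⁻¹ := by rw [hzP b b.2]; group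
    · have hb' : (b : G) * (h⁻¹ * z * h) * (b : G)⁻¹ * (h⁻¹ * z * h)⁻¹ = z := congrArg Subtype.val hb
      calc h * (b : G) * h⁻¹ * z * (h * (b : G) * h⁻¹)⁻¹
          = h * ((b : G) * (h⁻¹ * z * h) * (b : G)⁻¹ * (h⁻¹ * z * h)⁻¹) * h⁻¹ * z := by group
        _ = w * z := by rw [hb', hhz]
  by_contra hlt
  obtain ⟨l, hl, hl'⟩ := exists_primitive p
  have h8 : p ≠ 8 ∧ p ≠ 9 ∧ p ≠ 10 ∧ p ≠ 12 ∧ p ≠ 14 ∧ p ≠ 15 ∧ p ≠ 16 := by
    refine ⟨?_, ?_, ?_, ?_, ?_, ?_, ?_⟩ <;> rintro rfl <;> norm_num at hpr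
  rcases eq_or_ne p 13 with h13 | h13
  · have key := card_le hp P F a hind hne hy hl (m := 4) le_rfl (fun k hk hk4 h => by
      have h1 := hl' _ h
      obtain ⟨q, hq⟩ := h1
      have : p - 1 = 12 := by omega
      rw [this] at hq
      omega)
    have := key.1
    simp [Fintype.card_option, ZMod.card] at this
    omega
  · have key := card_le hp P F a hind hne hy hl (m := 6) (by norm_num) (fun k hk hk6 h => by
      rcases eq_or_ne p 11 with h11 | h11
      · obtain ⟨q, hq⟩ := hl' _ h
        have : p - 1 = 10 := by omega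
        rw [this] at hq
        omega
      · have := Nat.le_of_dvd (by omega) (hl' _ h)
        omega)
    have := key.2 le_rfl
    simp [Fintype.card_option, ZMod.card] at this
    omega

end Cfsg.Agent.S3055
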