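import Cfsg.Statements.S3058
import Cfsg.Agent.H79.StronglyEmbedded
import Cfsg.Agent.H79.CoprimeGen

set_option autoImplicit false
open Cfsg

namespace Cfsg.Agent.S3058

/-- Let p be a prime and G a finite group whose Sylow p-subgroups are not chain-connected through nontrivial intersections (so G has a strongly p-embedded subgroup). If N and M are normal subgroups of G whose orders are both divisible by p, then the order of N ∩ M is divisible by p. Consequently, among the normal subgroups of G whose order is divisible by p there is a smallest one (the intersection of all of them). -/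
theorem result {G : Type*} [Group G] [Finite G]
    (p : ℕ) [Fact p.Prime] (hG : ¬ Cfsg.IsSylowChainConnected p G)
    (N M : Subgroup G) [N.Normal] [M.Normal] (hN : p ∣ Nat.card N) (hM : p ∣ Nat.card M) :
    p ∣ Nat.card ↥(N ⊓ M) := by
  by_contra hd
  obtain ⟨H, hH0⟩ := H79.exists_spe_of_not_connected hG
  have hH : Cfsg.IsStronglyPEmbedded p H := H79.classicalSPE_iff.mp hH0
  obtain ⟨S, hS, -, -⟩ := H76.spe_exists_sylow_le hH
  obtain ⟨a, haS, haN, hap⟩ := H79.exists_orderOf_mem_inf_normal S N hN
  obtain ⟨b, hbS, hbM, hbp⟩ := H79.exists_orderOf_mem_inf_normal S M hM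
  have hcomK : ∀ y ∈ M, a * y * a⁻¹ * y⁻¹ ∈ N ⊓ M := by
    intro y hy
    refine ⟨?_, M.mul_mem (Subgroup.Normal.conj_mem inferInstance y hy a) (M.inv_mem hy)⟩
    rw [mul_assoc a y a⁻¹, mul_assoc]
    exact N.mul_mem haN (Subgroup.Normal.conj_mem inferInstance _ (N.inv_mem haN) y)
  have hab : a * b = b * a := by
    have h1 := hcomK b hbM
    have h2 : a * b * a⁻¹ * b⁻¹ ∈ (S : Subgroup G) :=
      mul_mem (mul_mem (mul_mem haS hbS) (inv_mem haS)) (inv_mem hbS)
    obtain ⟨k, hk⟩ := IsPGroup.iff_orderOf.mp S.isPGroup' ⟨_, h2⟩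
    rw [Subgroup.orderOf_mk] at hk
    have h3 : a * b * a⁻¹ * b⁻¹ = 1 := by
      rw [← orderOf_eq_one_iff, hk]
      rcases k with _ | k
      · rfl
      · exfalso
        apply hd
        have := orderOf_dvd_natCard (⟨_, h1⟩ : ↥(N ⊓ M))
        rw [Subgroup.orderOf_mk, hk] at this
        exact (dvd_pow_self p (Nat.succ_ne_zero k)).trans this
    calc a * b = (a * b * a⁻¹ * b⁻¹) * (b * a) := by group
      _ = b * a := by rw [h3, one_mul]
  set A : Subgroup G := Subgroup.closure {a, b} with hA
  haveI hAc : IsMulCommutative A := by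
    refine Subgroup.isMulCommutative_closure ?_
    rintro x (rfl | rfl) y (rfl | rfl) <;> first | rfl | exact hab | exact hab.symm
  have hexp : ∀ x ∈ A, x ^ p = 1 := by
    intro x hx
    induction hx using Subgroup.closure_induction with
    | mem z hz =>
      rcases hz with rfl | rfl
      · rw [← hap]; exact pow_orderOf_eq_one z
      · rw [← hbp]; exact pow_orderOf_eq_one z
    | one => exact one_pow p
    | mul u v hu hv ihu ihv =>
      rw [(show Commute u v from congrArg Subtype.val (H79.mul_comm' (⟨u, hu⟩ : A) ⟨v, hv⟩)).mul_pow, ihu, ihv, one_mul]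
    | inv u _ ihu => rw [inv_pow, ihu, inv_one]
  have haA : a ∈ A := Subgroup.subset_closure (Set.mem_insert a {b})
  have hbA : b ∈ A := Subgroup.subset_closure (Set.mem_insert_of_mem a rfl)
  have hnc : ¬ IsCyclic A := by
    intro hc
    obtain ⟨⟨g, hg⟩, hgen⟩ := hc.exists_generator
    have hle : A ≤ Subgroup.zpowers g := by
      intro y hy
      obtain ⟨i, hi⟩ := hgen ⟨y, hy⟩
      exact ⟨i, by simpa using congrArg Subtype.val hi⟩
    have hAa : A = Subgroup.zpowers a := by
      refine (Subgroup.eq_of_le_of_card_ge (Subgroup.zpowers_le.mpr haA) ?_).symm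
      rw [Nat.card_zpowers, hap]
      refine (Nat.le_of_dvd Nat.card_pos (Subgroup.card_dvd_of_le hle)).trans ?_
      rw [Nat.card_zpowers]
      exact Nat.le_of_dvd (Fact.out : p.Prime).pos (orderOf_dvd_of_pow_eq_one (hexp g hg))
    apply hd
    have hbN : b ∈ N := by
      have : b ∈ Subgroup.zpowers a := hAa ▸ hbA
      exact Subgroup.zpowers_le.mpr haN this
    exact H79.dvd_card_of_orderOf_eq (H := N ⊓ M) ⟨hbN, hbM⟩ hbp
  have hAS : A ≤ (S : Subgroup G) := by
    rw [hA, Subgroup.closure_le]
    rintro x (rfl | rfl)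
    · exact haS
    · exact hbS
  have hKH : N ⊓ M ≤ H := by
    refine H79.le_of_centralizers_le (A := A) hexp hnc ?_ ?_ ?_
    · exact H79.le_normalizer_of_conj_mem fun g _ x hx => Subgroup.Normal.conj_mem inferInstance x hx g
    · exact ((Fact.out : p.Prime).coprime_iff_not_dvd.mpr hd).symm
    · intro x hx hx1
      refine inf_le_right.trans (H76.spe_centralizer_le hH (hS (hAS hx)) ?_)
      exact ((Fact.out : p.Prime).eq_one_or_self_of_dvd _
        (orderOf_dvd_of_pow_eq_one (hexp x hx))).resolve_left (fun h => hx1 (orderOf_eq_one_iff.mp h))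
  apply H76.spe_ne_top hH
  rw [eq_top_iff]
  intro g _
  have hb' : g * b * g⁻¹ ∈ M := Subgroup.Normal.conj_mem inferInstance b hbM g
  have hba : g * b * g⁻¹ ∈ H := by
    refine H76.spe_conj_mem hH (hS haS) hap ?_
    have h1 := hKH (hcomK _ hb')
    have h2 := H.mul_mem (H.inv_mem h1) (hS haS)
    rwa [show (a * (g * b * g⁻¹) * a⁻¹ * (g * b * g⁻¹)⁻¹)⁻¹ * a =
      (g * b * g⁻¹) * a * (g * b * g⁻¹)⁻¹ by group] at h2
  exact H76.spe_conj_mem hH (hS hbS) hbp hba

end Cfsg.Agent.S3058
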