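import Cfsg.Statements.S3059
import Cfsg.Agent.H79.StronglyEmbedded
import Cfsg.Agent.H5.PResidual

set_option autoImplicit false
open Cfsg

namespace Cfsg.Agent.S3059

/-- Let p be a prime and H a strongly p-embedded subgroup of the finite group G in the classical sense: H is proper, p divides the order of H, and H ∩ gHg⁻¹ has order prime to p for every g outside H. Then for every normal subgroup N of G of order divisible by p, G = H · O^p(N), where O^p(N) is the subgroup generated by the elements of N of order prime to p. -/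
theorem result {G : Type*} [Group G] [Finite G]
    (p : ℕ) [Fact p.Prime] (H : Subgroup G) (hH : H ≠ ⊤) (hpH : p ∣ Nat.card H)
    (hse : ∀ g : G, g ∉ H → ¬ p ∣ Nat.card ↥(H ⊓ H.map (MulAut.conj g).toMonoidHom))
    (N : Subgroup G) [N.Normal] (hN : p ∣ Nat.card N) :
    H ⊔ Subgroup.closure {g : G | g ∈ N ∧ (orderOf g).Coprime p} = ⊤ := by
  have hH' : Cfsg.IsStronglyPEmbedded p H := H79.classicalSPE_iff.mp ⟨hH, hpH, hse⟩
  obtain ⟨S, hS, hS1, -⟩ := H76.spe_exists_sylow_le hH'
  set Q : Subgroup G := (S : Subgroup G) ⊓ N with hQ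
  obtain ⟨a, haS, haN, hap⟩ := H79.exists_orderOf_mem_inf_normal S N hN
  have hQ1 : Q ≠ ⊥ := by
    intro h
    have : a ∈ Q := ⟨haS, haN⟩
    rw [h, Subgroup.mem_bot] at this
    rw [this, orderOf_one] at hap
    exact (Fact.out : p.Prime).ne_one hap.symm
  have hnor : Subgroup.normalizer (Q : Set G) ≤ H :=
    H76.spe_normalizer_le hH' (inf_le_left.trans hS) (S.isPGroup'.to_le inf_le_left) hQ1
  have hQp : IsPGroup p (Q.subgroupOf N) :=
    ((S.isPGroup'.to_le inf_le_left : IsPGroup p Q)).of_equiv (Subgroup.subgroupOfEquivOfLe inf_le_right).symm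
  have hQn : ¬ p ∣ (Q.subgroupOf N).index := by
    change ¬ p ∣ Q.relIndex N
    rw [hQ, Subgroup.inf_relIndex_right]
    exact H79.not_dvd_relIndex_normal N S
  have hfr := Sylow.normalizer_sup_eq_top (hQp.toSylow hQn)
  rw [IsPGroup.toSylow_coe, Subgroup.subgroupOf_map_subtype, inf_of_le_left (inf_le_right : Q ≤ N)] at hfr
  have hsup := H5.pResidual_sup_sylow (hQp.toSylow hQn)
  rw [IsPGroup.toSylow_coe] at hsup
  have hsub : N ≤ Subgroup.closure {g : G | g ∈ N ∧ (orderOf g).Coprime p} ⊔ H := by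
    intro n hn
    have h1 : (⟨n, hn⟩ : N) ∈ Cfsg.pResidual p N ⊔ Q.subgroupOf N := hsup ▸ Subgroup.mem_top _
    have h2 : n ∈ (Cfsg.pResidual p N ⊔ Q.subgroupOf N).map N.subtype := ⟨_, h1, rfl⟩
    rw [Subgroup.map_sup, Subgroup.subgroupOf_map_subtype] at h2
    refine SetLike.le_def.mp (sup_le_sup ?_ ?_) h2
    · rw [Cfsg.pResidual, MonoidHom.map_closure]
      refine Subgroup.closure_mono ?_
      rintro _ ⟨g, hg, rfl⟩
      exact ⟨g.2, by rw [Subgroup.subtype_apply, Subgroup.orderOf_coe]; exact hg⟩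
    · exact inf_le_left.trans (inf_le_left.trans hS)
  rw [eq_top_iff, ← hfr]
  exact sup_le (hnor.trans le_sup_left) (hsub.trans (sup_comm _ _).le)

end Cfsg.Agent.S3059
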