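import Cfsg.Statements.S3060
import Cfsg.Agent.H79.DStar
import Cfsg.Agent.H79.Sylow

set_option autoImplicit false
open Cfsg
open scoped commutatorElement

namespace Cfsg.Agent.S3060

/-- The D*-Theorem. For a finite p-group S let D*(S) be the subgroup generated by the abelian subgroups A of S such that every x ∈ S with ⟨A, x⟩ of nilpotency class at most two centralizes A. Let p be an odd prime and H a finite p-stable group with Sylow p-subgroup S. Here H is p-stable in the following sense: the largest normal p-subgroup O_p(H) contains its centralizer in H, and for every normal p-subgroup P of H, every element acting quadratically on P has image in O_p(H/C_H(P)). Then D*(S) is a normal subgroup of H. -/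
theorem result {G : Type*} [Group G] [Finite G] {p : ℕ} [Fact p.Prime] (hp : p ≠ 2)
    (hc : Subgroup.centralizer (Cfsg.pCore p G : Set G) ≤ Cfsg.pCore p G)
    (hst : ∀ (P : Subgroup G) [P.Normal], IsPGroup p P → Cfsg.IsPStableOn p P) (S : Sylow p G) :
    (Cfsg.dStarOf (S : Subgroup G)).Normal := by
  classical
  have _hodd := hp
  haveI : (Cfsg.pCore p G).Normal := H79.pCore_normal' p
  set D := Cfsg.dStarOf (S : Subgroup G) with hDdef
  have hD : H79.DMem (S : Subgroup G) D := H79.dStarOf_mem S.isPGroup'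
  haveI := hD.2.1
  set Q := Cfsg.pCore p G with hQ
  have hQS : Q ≤ (S : Subgroup G) := H79.pCore_le_sylow p S
  have hQp : IsPGroup p Q := S.isPGroup'.to_le hQS
  have hDn : (S : Subgroup G) ≤ Subgroup.normalizer (D : Set G) := by
    rw [hDdef, H79.dStarOf_eq]
    exact Subgroup.le_normalizer.trans H79.DJoin_conj
  have hDQ : D ≤ Q := by
    intro d hd
    have hquad : ⁅⁅Q, Subgroup.zpowers d⁆, Subgroup.zpowers d⁆ = ⊥ := by
      have hz : Subgroup.zpowers d ≤ D := Subgroup.zpowers_le.mpr hd
      have h1 : ⁅Q, Subgroup.zpowers d⁆ ≤ D := by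
        rw [Subgroup.commutator_le]
        intro x hx y hy
        rw [commutatorElement_def]
        exact D.mul_mem (H79.conj_mem_of_le_normalizer hDn (hQS hx) (hz hy)) (D.inv_mem (hz hy))
      rw [eq_bot_iff]
      calc ⁅⁅Q, Subgroup.zpowers d⁆, Subgroup.zpowers d⁆ ≤ ⁅D, D⁆ := Subgroup.commutator_mono h1 hz
        _ = ⊥ := Subgroup.commutator_eq_bot_iff_le_centralizer.mpr (Subgroup.le_centralizer D)
        _ ≤ ⊥ := le_rfl
    have h := hst Q hQp d hquad
    set C := Subgroup.centralizer (Q : Set G) with hC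
    let π := QuotientGroup.mk' C
    have hsurj : Function.Surjective π := QuotientGroup.mk'_surjective C
    haveI : ((Cfsg.pCore p (G ⧸ C)).comap π).Normal :=
      @Subgroup.normal_comap _ _ _ _ (Cfsg.pCore p (G ⧸ C)) (H79.pCore_normal' p) π
    have hP : IsPGroup p ((Cfsg.pCore p (G ⧸ C)).comap π) := by
      apply IsPGroup.comap_of_ker_isPGroup (H79.isPGroup_pCore p)
      rw [QuotientGroup.ker_mk']
      exact hQp.to_le hc
    exact le_sSup (show _ ∈ {N : Subgroup G | N.Normal ∧ IsPGroup p N} from ⟨inferInstance, hP⟩) h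
  set P := Subgroup.normalClosure (D : Set G) with hP
  set D1 := Cfsg.dStarOf Q with hD1
  haveI hD1n : D1.Normal := by
    rw [hD1, H79.dStarOf_eq, ← Subgroup.normalizer_eq_top_iff, eq_top_iff]
    refine le_trans ?_ H79.DJoin_conj
    exact H79.le_normalizer_of_conj_mem fun k _ x hx =>
      Subgroup.Normal.conj_mem inferInstance x hx k
  have hDD1 : D ≤ D1 := by
    rw [hD1, H79.dStarOf_eq]
    exact le_sSup (hD.mono hDQ hQS)
  have hPD1 : P ≤ D1 := Subgroup.normalClosure_le_normal hDD1
  have hPQ : P ≤ Q := hPD1.trans (H79.dStarOf_mem hQp).1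
  have hPc : IsMulCommutative P := by
    haveI := (H79.dStarOf_mem (H := Q) hQp).2.1
    rw [← Subgroup.le_centralizer_iff_isMulCommutative]
    exact hPD1.trans ((Subgroup.le_centralizer D1).trans (Subgroup.centralizer_le hPD1))
  have hmem : H79.DMem (S : Subgroup G) P := by
    refine ⟨hPQ.trans hQS, hPc, ?_⟩
    intro x hx hcls
    haveI : P.Normal := Subgroup.normalClosure_normal
    set C := Subgroup.centralizer (P : Set G) with hC
    let π := QuotientGroup.mk' C
    have hsurj : Function.Surjective π := QuotientGroup.mk'_surjective C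
    set L := (Cfsg.pCore p (G ⧸ C)).comap π with hL
    haveI hLn : L.Normal :=
      @Subgroup.normal_comap _ _ _ _ (Cfsg.pCore p (G ⧸ C)) (H79.pCore_normal' p) π
    have hDP : D ≤ P := Subgroup.le_normalClosure
    have hquad : ∀ y ∈ (S : Subgroup G), ⁅⁅P, Subgroup.zpowers y⁆, Subgroup.zpowers y⁆ = ⊥ →
        y ∈ L := fun y _ hy => hst P (hQp.to_le hPQ) y hy
    have hLS : L ≤ C ⊔ (S : Subgroup G) := by
      intro l hl
      have h1 : π l ∈ ((S.mapSurjective hsurj : Sylow p (G ⧸ C)) : Subgroup (G ⧸ C)) :=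
        H79.pCore_le_sylow p _ hl
      rw [Sylow.coe_mapSurjective] at h1
      obtain ⟨s, hs, hls⟩ := h1
      have h2 : s⁻¹ * l ∈ C := QuotientGroup.eq.mp hls
      have : l = s * (s⁻¹ * l) := by rw [mul_inv_cancel_left]
      rw [this]
      exact Subgroup.mul_mem _ (Subgroup.mem_sup_right hs) (Subgroup.mem_sup_left h2)
    set T := L ⊓ (S : Subgroup G) with hT
    have hCL : C ≤ L := by
      intro c hc
      refine Subgroup.mem_comap.mpr ?_
      rw [show π c = 1 from (QuotientGroup.eq_one_iff c).mpr hc]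
      exact Subgroup.one_mem _
    have hLT : L ≤ C ⊔ T := by
      intro l hl
      have h0 := hLS hl
      rw [Subgroup.mem_sup_of_normal_left] at h0
      obtain ⟨c, hc, s, hs, rfl⟩ := h0
      have hsL : s ∈ L := by simpa using L.mul_mem (L.inv_mem (hCL hc)) hl
      exact Subgroup.mul_mem _ (Subgroup.mem_sup_left hc) (Subgroup.mem_sup_right ⟨hsL, hs⟩)
    have hTsyl : ¬ p ∣ (T.subgroupOf L).index := by
      have : T.relIndex L = (S : Subgroup G).relIndex L := by
        rw [hT, Subgroup.inf_relIndex_left]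
      change ¬ p ∣ T.relIndex L
      rw [this]
      exact H79.not_dvd_relIndex_normal L S
    have hTp : IsPGroup p (T.subgroupOf L) :=
      (S.isPGroup'.to_le inf_le_right).of_equiv (Subgroup.subgroupOfEquivOfLe inf_le_left).symm
    have hfrat := Sylow.normalizer_sup_eq_top (hTp.toSylow hTsyl)
    rw [IsPGroup.toSylow_coe, Subgroup.subgroupOf_map_subtype, inf_of_le_left (inf_le_left : T ≤ L)] at hfrat
    have hCN : C ⊔ Subgroup.normalizer (T : Set G) = ⊤ := by
      rw [eq_top_iff, ← hfrat]
      exact sup_le le_sup_right (hLT.trans (sup_le_sup_left Subgroup.le_normalizer C))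
    intro a ha
    have hxP : ⁅⁅P, Subgroup.zpowers x⁆, Subgroup.zpowers x⁆ = ⊥ := by
      refine eq_bot_iff.mpr (le_trans ?_ hcls.le)
      exact Subgroup.commutator_mono (Subgroup.commutator_mono le_sup_left le_sup_right) le_sup_right
    have hPle : P ≤ Subgroup.centralizer ((Subgroup.zpowers x : Subgroup G) : Set G) := by
      rw [hP, Subgroup.normalClosure, Subgroup.closure_le]
      intro b hb
      obtain ⟨d, hd, hconj⟩ := Group.mem_conjugatesOfSet_iff.mp hb
      obtain ⟨g, rfl⟩ := isConj_iff.mp hconj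
      have hg : g⁻¹ ∈ C ⊔ Subgroup.normalizer (T : Set G) := hCN ▸ Subgroup.mem_top _
      rw [Subgroup.mem_sup_of_normal_left] at hg
      obtain ⟨c, hc, n, hn, hcn⟩ := hg
      have hgd : g * d * g⁻¹ = n⁻¹ * d * n := by
        have hd' : d * c = c * d := Subgroup.mem_centralizer_iff.mp hc d (hDP hd)
        have e : g = n⁻¹ * c⁻¹ := by rw [← mul_inv_rev, hcn, inv_inv]
        rw [e]
        calc n⁻¹ * c⁻¹ * d * (n⁻¹ * c⁻¹)⁻¹ = n⁻¹ * (c⁻¹ * (d * c)) * n := by simp [mul_assoc]
          _ = n⁻¹ * d * n := by rw [hd', inv_mul_cancel_left]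
      have hxT : x ∈ T := ⟨hquad x hx hxP, hx⟩
      have hy : n * x * n⁻¹ ∈ T := (Subgroup.mem_normalizer_iff.mp hn x).mp hxT
      have hcomm : d * (n * x * n⁻¹) = n * x * n⁻¹ * d := by
        refine hD.2.2 _ hy.2 ?_ d hd
        have hinj : (⁅⁅P ⊔ Subgroup.zpowers x, P ⊔ Subgroup.zpowers x⁆,
            P ⊔ Subgroup.zpowers x⁆ : Subgroup G).map (MulAut.conj n).toMonoidHom = ⊥ := by
          rw [hcls, Subgroup.map_bot]
        rw [Subgroup.map_commutator, Subgroup.map_commutator, Subgroup.map_sup,
          MonoidHom.map_zpowers] at hinj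
        refine eq_bot_iff.mpr (le_trans ?_ hinj.le)
        have hPn : P ≤ P.map (MulAut.conj n).toMonoidHom := by
          intro y hy
          exact ⟨n⁻¹ * y * n, by simpa using Subgroup.Normal.conj_mem inferInstance y hy n⁻¹,
            by simp [mul_assoc]⟩
        have hle : D ⊔ Subgroup.zpowers (n * x * n⁻¹) ≤ P.map (MulAut.conj n).toMonoidHom ⊔
            Subgroup.zpowers ((MulAut.conj n).toMonoidHom x) :=
          sup_le ((hDP.trans hPn).trans le_sup_left) (le_of_eq_of_le (by simp) le_sup_right)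
        exact Subgroup.commutator_mono (Subgroup.commutator_mono hle hle) hle
      rw [hgd]
      refine Subgroup.mem_centralizer_iff.mpr ?_
      rintro z ⟨k, rfl⟩
      refine (Commute.zpow_left ?_ k).eq
      change x * (n⁻¹ * d * n) = n⁻¹ * d * n * x
      calc x * (n⁻¹ * d * n) = n⁻¹ * (n * x * n⁻¹ * d) * n := by simp [mul_assoc]
        _ = n⁻¹ * (d * (n * x * n⁻¹)) * n := by rw [hcomm]
        _ = n⁻¹ * d * n * x := by simp [mul_assoc]
    exact (Subgroup.mem_centralizer_iff.mp (hPle ha) x (Subgroup.mem_zpowers x)).symm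
  have hPD : P ≤ D := by
    rw [hDdef, H79.dStarOf_eq]
    exact le_sSup hmem
  have : P = D := le_antisymm hPD Subgroup.le_normalClosure
  rw [← this]
  exact Subgroup.normalClosure_normal

end Cfsg.Agent.S3060
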