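import Cfsg.Statements.S3062
import Cfsg.Agent.H79.DStar
import Cfsg.Agent.H79.Replacement

set_option autoImplicit false
open Cfsg

namespace Cfsg.Agent.S3062

/-- Let S be a finite p-group, J(S) the subgroup generated by the abelian subgroups of S of largest order and Z(J(S)) its centre. Then Z(S) ≤ D*(S) ≤ Z(J(S)), and every maximal normal abelian subgroup of S contains D*(S). -/
theorem result {S : Type*} [Group S] [Finite S] {p : ℕ} [Fact p.Prime]
    (hS : IsPGroup p S) :
    Subgroup.center S ≤ Cfsg.dStar S ∧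
    Cfsg.dStar S ≤ Cfsg.thompsonSubgroupA S ⊓ Subgroup.centralizer (Cfsg.thompsonSubgroupA S : Set S) ∧
    ∀ A : Subgroup S, A.Normal → IsMulCommutative A →
      (∀ B : Subgroup S, B.Normal → IsMulCommutative B → A ≤ B → B = A) → Cfsg.dStar S ≤ A := by
  classical
  have hD := H79.dStar_mem_family hS
  have hn : (Cfsg.dStar S).Normal := H79.dStar_normal
  haveI := hD.1
  have hnorm : ∀ A : Subgroup S, A ≤ Subgroup.normalizer ((Cfsg.dStar S : Subgroup S) : Set S) :=
    fun A => H79.le_normalizer_of_conj_mem fun k _ x hx => hn.conj_mem x hx k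
  have hcent : ∀ A : Subgroup S, IsMulCommutative A →
      Cfsg.dStar S ≤ Subgroup.normalizer (A : Set S) →
      IsMulCommutative (A ⊔ Cfsg.dStar S : Subgroup S) := by
    intro A hA hDA
    haveI := hA
    have hcls := H79.triple_commutator_eq_bot (X := A) (Y := Cfsg.dStar S) hDA (hnorm A)
    have hc : A ≤ Subgroup.centralizer ((Cfsg.dStar S : Subgroup S) : Set S) := by
      intro a ha
      refine Subgroup.mem_centralizer_iff.mpr fun d hd => ?_
      refine hD.2 a ?_ d hd
      refine eq_bot_iff.mpr (le_trans ?_ hcls.le)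
      have hle : Cfsg.dStar S ⊔ Subgroup.zpowers a ≤ A ⊔ Cfsg.dStar S :=
        sup_le le_sup_right ((Subgroup.zpowers_le.mpr ha).trans le_sup_left)
      exact Subgroup.commutator_mono (Subgroup.commutator_mono hle hle) hle
    rw [← Subgroup.le_centralizer_iff_isMulCommutative]
    refine sup_le ?_ ?_
    · rw [Subgroup.le_centralizer_iff]
      exact sup_le (Subgroup.le_centralizer A) (Subgroup.le_centralizer_iff.mp hc)
    · rw [Subgroup.le_centralizer_iff]
      exact sup_le hc (Subgroup.le_centralizer _)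
  have hmax : ∀ A ∈ Cfsg.maxAbelianSubgroups S, Cfsg.dStar S ≤ A := by
    by_contra hcon
    push_neg at hcon
    obtain ⟨A₀, hA₀⟩ := hcon
    haveI : Nonempty {A : Subgroup S // A ∈ Cfsg.maxAbelianSubgroups S ∧ ¬ Cfsg.dStar S ≤ A} :=
      ⟨⟨A₀, hA₀⟩⟩
    obtain ⟨⟨A, ⟨hAc, hAm⟩, hAD⟩, hbig⟩ := Finite.exists_max
      (fun A : {A : Subgroup S // A ∈ Cfsg.maxAbelianSubgroups S ∧ ¬ Cfsg.dStar S ≤ A} =>
        Nat.card (A.1 ⊓ Cfsg.dStar S : Subgroup S))
    haveI := hAc
    by_cases hDA : Cfsg.dStar S ≤ Subgroup.normalizer (A : Set S)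
    · apply hAD
      have hle := hAm _ (hcent A hAc hDA)
      have e : A = A ⊔ Cfsg.dStar S := Subgroup.eq_of_le_of_card_ge le_sup_left hle
      exact le_sup_right.trans e.ge
    · obtain ⟨A', hc', hcard, hlt, hnA, -, -⟩ := H79.replacement hS (hnorm A) hDA
      by_cases h' : Cfsg.dStar S ≤ A'
      · exact hDA (h'.trans hnA)
      · have := hbig ⟨A', ⟨hc', fun B hB => (hAm B hB).trans hcard⟩, h'⟩
        have hlt' := Set.Finite.card_lt_card (Set.toFinite _) (SetLike.coe_ssubset_coe.mpr hlt)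
        exact absurd this (not_le.mpr hlt')
  refine ⟨le_sSup H79.center_mem_family, le_inf ?_ ?_, ?_⟩
  · haveI : Nonempty {A : Subgroup S // IsMulCommutative A} := ⟨⟨Subgroup.center S, inferInstance⟩⟩
    obtain ⟨⟨A, hA⟩, hbig⟩ := Finite.exists_max
      (fun A : {A : Subgroup S // IsMulCommutative A} => Nat.card A.1)
    have hmem : A ∈ Cfsg.maxAbelianSubgroups S := ⟨hA, fun B hB => hbig ⟨B, hB⟩⟩
    exact (hmax A hmem).trans (le_sSup hmem)
  · rw [Subgroup.le_centralizer_iff]
    refine sSup_le fun A hA => ?_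
    haveI := hA.1
    exact (Subgroup.le_centralizer A).trans (Subgroup.centralizer_le (hmax A hA))
  · intro A hAn hAc hAm
    have e := hAm (A ⊔ Cfsg.dStar S)
      (@Subgroup.sup_normal _ _ _ _ hAn hn)
      (hcent A hAc (H79.le_normalizer_of_conj_mem fun k _ x hx => hAn.conj_mem x hx k)) le_sup_left
    exact le_sup_right.trans e.le

end Cfsg.Agent.S3062
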