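import Cfsg.Statements.S3063
import Cfsg.Agent.H11.Replacement
import Cfsg.Agent.H10.Offender
-- import your own Cfsg.Agent.* helpers here

set_option autoImplicit false
open Cfsg

namespace Cfsg.Agent.S3063

/-- A weak replacement Theorem for metabelian p-groups: let S be a finite p-group whose derived subgroup is abelian and A an abelian subgroup of S of largest possible order. Then the normal closure of A in S contains an abelian subgroup B of the same order as A that is normal in S. -/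
theorem result {S : Type*} [Group S] [Finite S] {p : ℕ} [Fact p.Prime]
    (hS : IsPGroup p S) (hmeta : IsMulCommutative ↥(commutator S))
    (A : Subgroup S) (hA : A ∈ Cfsg.maxAbelianSubgroups S) :
    ∃ B ∈ Cfsg.maxAbelianSubgroups S, B.Normal ∧ B ≤ Subgroup.normalClosure (A : Set S) := by
  set M := Subgroup.normalClosure (A : Set S) with hM
  obtain ⟨B, ⟨hB, hBM⟩, hmax⟩ := Set.exists_max_image
    {B : Subgroup S | B ∈ Cfsg.maxAbelianSubgroups S ∧ B ≤ M}
    (fun B => Nat.card ↥(B ⊓ commutator S)) (Set.toFinite _) ⟨A, hA, Subgroup.le_normalClosure⟩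
  refine ⟨B, hB, ?_, hBM⟩
  by_contra hn
  obtain ⟨x, -, hxN, hxB⟩ := H11.exists_mem_normalizer_not_mem hS (⊤ : Subgroup S)
    (Subgroup.normalizer (B : Set S)) (fun h => hn (Subgroup.normalizer_eq_top_iff.mp (top_le_iff.mp h)))
  set B' := B.map (MulAut.conj x).toMonoidHom with hB'
  have hB'N : B' ≤ Subgroup.normalizer (B : Set S) := by
    rintro _ ⟨b, hb, rfl⟩
    exact H11.conj_mem_of_mem_normalizer hxN (Subgroup.le_normalizer hb)
  have hBN' : B ≤ Subgroup.normalizer (B' : Set S) := fun b hb => H11.mem_normalizer_of_forall (by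
    rintro _ ⟨c, hc, rfl⟩
    have h1 : x⁻¹ * b * x ∈ Subgroup.normalizer (B : Set S) :=
      H11.conj_mem_of_mem_normalizer' hxN (Subgroup.le_normalizer hb)
    exact ⟨_, H11.conj_mem_of_mem_normalizer h1 hc, by simp [mul_assoc]⟩)
  set H := B ⊔ B' with hH
  set D := H ⊓ commutator S with hD
  set Z := B ⊓ B' with hZ
  have hBab : ∀ u ∈ B, ∀ v ∈ B, u * v = v * u := fun u hu v hv =>
    congrArg Subtype.val (hB.1.is_comm.comm (⟨u, hu⟩ : B) ⟨v, hv⟩)
  have hZH : ∀ z ∈ Z, ∀ h ∈ H, z * h = h * z := by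
    intro z hz h hh
    have hle : H ≤ Subgroup.centralizer ({z} : Set S) := by
      refine sup_le (fun u hu => Subgroup.mem_centralizer_singleton_iff.mpr (hBab z hz.1 u hu).symm) ?_
      rintro _ ⟨u, hu, rfl⟩
      obtain ⟨w, hw, hwe⟩ := hz.2
      refine Subgroup.mem_centralizer_singleton_iff.mpr ?_
      rw [← hwe, ← map_mul, ← map_mul, hBab u hu w hw]
    exact (Subgroup.mem_centralizer_singleton_iff.mp (hle hh)).symm
  have hDab : IsMulCommutative ↥(Z ⊔ D) := by
    have hDc : ∀ d ∈ D, ∀ e ∈ D, d * e = e * d := fun d hd e he =>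
      congrArg Subtype.val (hmeta.is_comm.comm (⟨d, hd.2⟩ : commutator S) ⟨e, he.2⟩)
    have hle : Z ⊔ D ≤ Subgroup.centralizer ((Z : Set S) ∪ (D : Set S)) := by
      refine sup_le (fun z hz => Subgroup.mem_centralizer_iff.mpr ?_)
        (fun d hd => Subgroup.mem_centralizer_iff.mpr ?_) <;> rintro w (hw | hw)
      · exact hBab w hw.1 z hz.1
      · exact (hZH z hz w hw.1).symm
      · exact hZH w hw d hd.1
      · exact hDc w hw d hd
    refine ⟨⟨fun u v => Subtype.ext ?_⟩⟩
    have h1 : Z ⊔ D ≤ Subgroup.centralizer ({(v : S)} : Set S) :=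
      sup_le (fun z hz => Subgroup.mem_centralizer_singleton_iff.mpr
          (Subgroup.mem_centralizer_iff.mp (hle v.2) z (Or.inl hz)))
        (fun d hd => Subgroup.mem_centralizer_singleton_iff.mpr
          (Subgroup.mem_centralizer_iff.mp (hle v.2) d (Or.inr hd)))
    exact Subgroup.mem_centralizer_singleton_iff.mp (h1 u.2)
  have hHle : H ≤ B ⊔ D := by
    refine sup_le le_sup_left ?_
    rintro _ ⟨b, hb, rfl⟩
    have h1 : x * b * x⁻¹ * b⁻¹ ∈ D := ⟨H.mul_mem (Subgroup.mem_sup_right ⟨b, hb, rfl⟩)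
      (H.inv_mem (Subgroup.mem_sup_left hb)),
      Subgroup.commutator_mem_commutator (Subgroup.mem_top x) (Subgroup.mem_top b)⟩
    show x * b * x⁻¹ ∈ B ⊔ D
    rw [← inv_mul_cancel_right (x * b * x⁻¹) b]
    exact mul_mem (Subgroup.mem_sup_right h1) (Subgroup.mem_sup_left hb)
  have hHeq : B ⊔ D = H := le_antisymm (sup_le le_sup_left inf_le_left) hHle
  have hDN : B ≤ Subgroup.normalizer (D : Set S) := fun b hb => H11.mem_normalizer_of_forall fun d hd =>
    ⟨H.mul_mem (H.mul_mem (Subgroup.mem_sup_left hb) hd.1) (H.inv_mem (Subgroup.mem_sup_left hb)),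
      Subgroup.Normal.conj_mem inferInstance d hd.2 b⟩
  have hZD : Z ≤ Subgroup.normalizer (D : Set S) := inf_le_left.trans hDN
  have c1 := H10.card_mul_card_inf hBN'
  have c2 := H10.card_mul_card_inf hDN
  have c3 := H10.card_mul_card_inf hZD
  rw [← hH, ← hZ] at c1
  rw [hHeq] at c2
  have hBB' : Nat.card B' = Nat.card B := Subgroup.card_map_of_injective (MulAut.conj x).injective
  rw [hBB'] at c1
  have hBD : B ⊓ D = B ⊓ commutator S := by
    rw [hD, ← inf_assoc, inf_of_le_left (le_sup_left : B ≤ H)]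
  rw [hBD] at c2
  have hle3 : Z ⊓ D ≤ B ⊓ commutator S := inf_le_inf inf_le_left inf_le_right
  have hcard3 : Nat.card ↥(Z ⊓ D) ≤ Nat.card ↥(B ⊓ commutator S) :=
    Subgroup.card_le_of_le hle3
  have hbound := hB.2 (Z ⊔ D) hDab
  have key : Nat.card B * Nat.card ↥(Z ⊓ D) * (Nat.card ↥(Z ⊔ D)) =
      Nat.card B * Nat.card B * Nat.card ↥(B ⊓ commutator S) := by
    calc Nat.card B * Nat.card ↥(Z ⊓ D) * Nat.card ↥(Z ⊔ D)
        = Nat.card B * (Nat.card ↥(Z ⊔ D) * Nat.card ↥(Z ⊓ D)) := by ring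
      _ = Nat.card ↥Z * (Nat.card B * Nat.card D) := by rw [c3]; ring
      _ = Nat.card ↥Z * (Nat.card H * Nat.card ↥(B ⊓ commutator S)) := by rw [← c2]
      _ = (Nat.card H * Nat.card ↥Z) * Nat.card ↥(B ⊓ commutator S) := by ring
      _ = _ := by rw [c1]
  have hpos : 0 < Nat.card B := Nat.card_pos
  have hge : Nat.card B ≤ Nat.card ↥(Z ⊔ D) := by
    by_contra hlt
    have h1 : Nat.card B * Nat.card ↥(Z ⊓ D) * Nat.card ↥(Z ⊔ D) <
        Nat.card B * Nat.card ↥(B ⊓ commutator S) * Nat.card B :=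
      Nat.mul_lt_mul_of_le_of_lt (Nat.mul_le_mul_left _ hcard3) (not_le.mp hlt)
        (Nat.mul_pos hpos Nat.card_pos)
    rw [key] at h1
    exact absurd h1 (not_lt.mpr (by rw [mul_right_comm]))
  have heq : Nat.card ↥(Z ⊔ D) = Nat.card B := le_antisymm hbound hge
  have hmem : (Z ⊔ D) ∈ Cfsg.maxAbelianSubgroups S := ⟨hDab, fun C hC => heq ▸ hB.2 C hC⟩
  have hM' : M.Normal := Subgroup.normalClosure_normal
  have hHM : H ≤ M := sup_le hBM (by
    rintro _ ⟨b, hb, rfl⟩
    exact hM'.conj_mem b (hBM hb) x)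
  have hle4 : D ≤ (Z ⊔ D) ⊓ commutator S := le_inf le_sup_right inf_le_right
  have hlt4 : B ⊓ commutator S < D := by
    refine lt_of_le_of_ne (inf_le_inf_right _ le_sup_left) fun he => hxB ?_
    refine H11.mem_normalizer_of_forall fun b hb => ?_
    have : B ⊔ D ≤ B := sup_le le_rfl (he ▸ inf_le_left)
    exact this (hHle (Subgroup.mem_sup_right ⟨b, hb, rfl⟩))
  have h5 := hmax (Z ⊔ D) ⟨hmem, sup_le (inf_le_left.trans hBM) (inf_le_left.trans hHM)⟩
  have h6 : Nat.card ↥(B ⊓ commutator S) < Nat.card D :=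
    Set.Finite.card_lt_card (Set.toFinite _) (SetLike.coe_ssubset_coe.mpr hlt4)
  exact absurd (h6.trans_le (Subgroup.card_le_of_le hle4)) (not_lt.mpr h5)

end Cfsg.Agent.S3063
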