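import Cfsg.Statements.S3064
import Cfsg.Agent.H2.FrobeniusKernel
import Cfsg.Agent.H5.PResidual
import Cfsg.Agent.H79.Basic
import Mathlib.GroupTheory.Transfer

set_option autoImplicit false
open Cfsg

namespace Cfsg.Agent.S3064

universe u

theorem aux (p : ℕ) [Fact p.Prime] : ∀ (n : ℕ) (G : Type u) [Group G] [Finite G], Nat.card G = n →
    ∀ x : G, IsPGroup p (Subgroup.zpowers x) →
    (∀ P : Subgroup G, IsPGroup p P → ∀ g : G, x ∈ P → g⁻¹ * x * g ∈ P → g⁻¹ * x * g = x) →
    (∀ H : Subgroup G, (Nat.card H).Coprime p → (∀ h ∈ H, x * h * x⁻¹ ∈ H) → ∀ h ∈ H, x * h = h * x) →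
    x ∈ Subgroup.center G := by
  intro n
  induction n using Nat.strong_induction_on with
  | _ n ih =>
    intro G _ _ hn x hxp huniq hb
    subst hn
    set C := Subgroup.centralizer ({x} : Set G) with hC
    by_cases hCtop : C = ⊤
    · rw [Subgroup.mem_center_iff]
      intro g
      exact Subgroup.mem_centralizer_singleton_iff.mp (hCtop ▸ Subgroup.mem_top g : g ∈ C)
    have hxC : x ∈ C := Subgroup.mem_centralizer_singleton_iff.mpr rfl
    have hM : ∀ M : Subgroup G, M ≠ ⊤ → x ∈ M → M ≤ C := by
      intro M hM hxM m hm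
      have hlt : Nat.card M < Nat.card G :=
        lt_of_le_of_ne (Subgroup.card_le_card_group M) fun e => hM (Subgroup.eq_top_of_card_eq _ e)
      have := ih _ hlt M rfl ⟨x, hxM⟩ ?_ ?_ ?_
      · have := congrArg (fun z : M => (z : G)) (Subgroup.mem_center_iff.mp this ⟨m, hm⟩)
        exact Subgroup.mem_centralizer_singleton_iff.mpr this
      · intro y
        obtain ⟨k, hk⟩ := hxp ⟨((y : M) : G), by
          obtain ⟨i, hi⟩ := y.2
          exact ⟨i, by simpa using congrArg (fun z : M => (z : G)) hi⟩⟩
        exact ⟨k, Subtype.ext (Subtype.ext (by simpa using congrArg Subtype.val hk))⟩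
      · intro P hP g h1 h2
        apply Subtype.ext
        exact huniq (P.map M.subtype) (hP.map _) (g : G) ⟨_, h1, rfl⟩ ⟨_, h2, rfl⟩
      · intro H hH hnorm h hh
        apply Subtype.ext
        refine hb (H.map M.subtype) ?_ ?_ h ⟨h, hh, rfl⟩
        · rwa [Subgroup.card_map_of_injective M.subtype_injective]
        · rintro _ ⟨k, hk, rfl⟩
          exact ⟨_, hnorm k hk, rfl⟩
    have hcomm : ∀ g : G, Commute x (g⁻¹ * x * g) → g⁻¹ * x * g = x := by
      intro g hg
      set y := g⁻¹ * x * g with hy
      have hyp : IsPGroup p (Subgroup.zpowers y) := by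
        have : Subgroup.zpowers y = (Subgroup.zpowers x).map (MulAut.conj g⁻¹).toMonoidHom := by
          rw [MonoidHom.map_zpowers]
          simp [hy]
        rw [this]
        exact hxp.map _
      have hn : Subgroup.zpowers x ≤ Subgroup.normalizer (Subgroup.zpowers y : Set G) := by
        refine H79.le_normalizer_of_conj_mem fun k hk z hz => ?_
        obtain ⟨i, rfl⟩ := hk
        obtain ⟨j, rfl⟩ := hz
        show x ^ i * y ^ j * (x ^ i)⁻¹ ∈ _
        rw [(hg.zpow_zpow i j).eq, mul_inv_cancel_right]
        exact ⟨j, rfl⟩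
      exact huniq _ (hxp.to_sup_of_normal_right' hyp hn) g
        (Subgroup.mem_sup_left (Subgroup.mem_zpowers x)) (Subgroup.mem_sup_right (Subgroup.mem_zpowers y))
    set Z := Subgroup.center G with hZ
    have hgen : ∀ g : G, g ∉ C → C ⊓ C.map (MulAut.conj g).toMonoidHom ≤ Z := by
      intro g hg c hc
      set y := g * x * g⁻¹ with hy
      have hne : y ≠ x := by
        intro e
        apply hg
        rw [hC, Subgroup.mem_centralizer_singleton_iff]
        calc g * x = g * x * g⁻¹ * g := by group
          _ = x * g := by rw [← hy, e]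
      have htop : Subgroup.closure ({x, y} : Set G) = ⊤ := by
        by_contra hcl
        have h1 := hM _ hcl (Subgroup.subset_closure (Set.mem_insert _ _))
          (Subgroup.subset_closure (Set.mem_insert_of_mem _ rfl))
        have h2 : g⁻¹⁻¹ * x * g⁻¹ = y := by rw [inv_inv]
        have := hcomm g⁻¹ (by
          rw [h2]
          exact (Subgroup.mem_centralizer_singleton_iff.mp h1).symm)
        rw [h2] at this
        exact hne this
      have hcy : c * y = y * c := by
        obtain ⟨d, hd, hdc⟩ := hc.2
        replace hd : d * x = x * d := Subgroup.mem_centralizer_singleton_iff.mp hd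
        rw [← hdc]
        show g * d * g⁻¹ * (g * x * g⁻¹) = g * x * g⁻¹ * (g * d * g⁻¹)
        calc g * d * g⁻¹ * (g * x * g⁻¹) = g * (d * x) * g⁻¹ := by group
          _ = g * (x * d) * g⁻¹ := by rw [hd]
          _ = g * x * g⁻¹ * (g * d * g⁻¹) := by group
      rw [hZ, Subgroup.mem_center_iff]
      intro z
      have hz : z ∈ Subgroup.closure ({x, y} : Set G) := htop ▸ Subgroup.mem_top z
      have hle : Subgroup.closure ({x, y} : Set G) ≤ Subgroup.centralizer {c} := by
        rw [Subgroup.closure_le]
        rintro w (rfl | rfl)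
        · exact Subgroup.mem_centralizer_singleton_iff.mpr (Subgroup.mem_centralizer_singleton_iff.mp hc.1).symm
        · exact Subgroup.mem_centralizer_singleton_iff.mpr hcy.symm
      exact Subgroup.mem_centralizer_singleton_iff.mp (hle hz)
    by_contra hxZ
    let π := QuotientGroup.mk' Z
    have hsurj : Function.Surjective π := QuotientGroup.mk'_surjective Z
    set C' := C.map π with hC'
    have hZC : Z ≤ C := Subgroup.center_le_centralizer _
    have hcomap : C'.comap π = C := by
      rw [hC', Subgroup.comap_map_eq, QuotientGroup.ker_mk', sup_eq_left]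
      exact hZC
    have hfrob : Cfsg.IsFrobeniusComplement C' := by
      refine ⟨?_, ?_, ?_⟩
      · intro h
        apply hxZ
        have : π x ∈ C' := ⟨x, hxC, rfl⟩
        rw [h, Subgroup.mem_bot] at this
        exact (QuotientGroup.eq_one_iff x).mp this
      · intro h
        exact hCtop (by rw [← hcomap, h, Subgroup.comap_top])
      · intro g hg
        obtain ⟨g, rfl⟩ := hsurj g
        rw [eq_bot_iff]
        rintro w ⟨hw1, hw2⟩
        obtain ⟨c, hc, rfl⟩ := hw1
        refine Subgroup.mem_bot.mpr ((QuotientGroup.eq_one_iff c).mpr (hgen g ?_ ⟨hc, ?_⟩))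
        · exact fun h => hg ⟨g, h, rfl⟩
        · refine ⟨g⁻¹ * c * g, ?_, by simp [mul_assoc]⟩
          rw [← hcomap]
          have := (H2.mem_conj_smul.mp hw2)
          simpa [Subgroup.mem_comap] using this
    obtain ⟨N, -, hNn, hNc⟩ := H2.exists_kernel hfrob
    haveI := hNn
    have hCp : ¬ p ∣ C.index := by
      intro hd
      obtain ⟨S, hS⟩ := hxp.exists_le_sylow
      have hxS : x ∈ (S : Subgroup G) := hS (Subgroup.mem_zpowers x)
      refine S.not_dvd_index (hd.trans (Subgroup.index_dvd_of_le ?_))
      intro s hs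
      have h := huniq (S : Subgroup G) S.isPGroup' s hxS (mul_mem (mul_mem (inv_mem hs) hxS) hs)
      rw [hC, Subgroup.mem_centralizer_singleton_iff]
      calc s * x = s * (s⁻¹ * x * s) := by rw [h]
        _ = x * s := by group
    set K := N.comap π with hK
    haveI : K.Normal := inferInstance
    have hZK : Z ≤ K := by
      intro z hz
      rw [hK, Subgroup.mem_comap, show π z = 1 from (QuotientGroup.eq_one_iff z).mpr hz]
      exact one_mem _
    have hNp : ¬ p ∣ Nat.card N := by
      intro hd
      apply hCp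
      rwa [← hNc.index_eq_card, ← Subgroup.index_comap_of_surjective C' hsurj, hcomap] at hd
    let P : Sylow p K := default
    have hPZ : (P : Subgroup K).map K.subtype ≤ Z := by
      rintro _ ⟨k, hk, rfl⟩
      apply (QuotientGroup.eq_one_iff _).mp
      let f : K →* N := (π.comp K.subtype).codRestrict N (fun k => k.2)
      have hf : f k = 1 := by
        obtain ⟨i, hi⟩ := IsPGroup.iff_orderOf.mp P.isPGroup' ⟨k, hk⟩
        rw [Subgroup.orderOf_mk] at hi
        rw [← orderOf_eq_one_iff]
        refine Nat.eq_one_of_dvd_coprimes ?_ ((orderOf_map_dvd f k).trans hi.dvd) (orderOf_dvd_natCard _)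
        exact ((Fact.out : p.Prime).coprime_iff_not_dvd.mpr hNp).pow_left i
      exact congrArg Subtype.val hf
    have hP : Subgroup.normalizer ((P : Subgroup K) : Set K) ≤ Subgroup.centralizer ((P : Subgroup K) : Set K) := by
      intro k _
      refine Subgroup.mem_centralizer_iff.mpr fun z hz => Subtype.ext ?_
      exact (Subgroup.mem_center_iff.mp (hPZ ⟨z, hz, rfl⟩) (k : G)).symm
    have hW := MonoidHom.ker_transferSylow_isComplement' P hP
    have hres := H5.eq_pResidual_of_isComplement' hW
    set W := (Cfsg.pResidual p K).map K.subtype with hWdef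
    have hWn : W.Normal := inferInstance
    have hWC : W ≤ C := by
      intro w hw
      rw [hC, Subgroup.mem_centralizer_singleton_iff]
      refine (hb W ?_ (fun h hh => hWn.conj_mem h hh x) w hw).symm
      rw [hWdef, Subgroup.card_map_of_injective K.subtype_injective, ← hres]
      exact ((Fact.out : p.Prime).coprime_iff_not_dvd.mpr (H5.not_dvd_card_of_isComplement' hW)).symm
    have hKC : K ≤ C := by
      intro k hk
      have h1 : (⟨k, hk⟩ : K) ∈ Cfsg.pResidual p K ⊔ (P : Subgroup K) := by
        rw [H5.pResidual_sup_sylow]; trivial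
      have h2 : k ∈ (Cfsg.pResidual p K ⊔ (P : Subgroup K)).map K.subtype := ⟨_, h1, rfl⟩
      rw [Subgroup.map_sup] at h2
      exact SetLike.le_def.mp (sup_le hWC (hPZ.trans hZC)) h2
    have hNle : N ≤ C' := by
      intro w hw
      obtain ⟨g, rfl⟩ := hsurj w
      exact ⟨g, hKC hw, rfl⟩
    have h3 := hNc.sup_eq_top
    rw [sup_eq_right.mpr hNle] at h3
    exact hfrob.2.1 h3


/-- Let S be a Sylow p-subgroup of the finite group G and x an element of S such that (i) x is the only G-conjugate of x lying in S, and (ii) x centralizes every subgroup of order prime to p that it normalizes. Then x lies in the centre of G. -/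
theorem result {G : Type*} [Group G] [Finite G] {p : ℕ} [Fact p.Prime]
    (S : Sylow p G) (x : G) (hx : x ∈ S)
    (hU : ∀ g : G, g⁻¹ * x * g ∈ S → g⁻¹ * x * g = x)
    (hb : ∀ H : Subgroup G, (Nat.card H).Coprime p → (∀ h ∈ H, x * h * x⁻¹ ∈ H) → ∀ h ∈ H, x * h = h * x) :
    x ∈ Subgroup.center G := by
  refine aux p _ G rfl x (S.isPGroup'.to_le (Subgroup.zpowers_le.mpr hx)) ?_ hb
  intro P hP g h1 h2
  obtain ⟨T, hT⟩ := hP.exists_le_sylow
  obtain ⟨k, rfl⟩ := MulAction.exists_smul_eq G S T
  have key : ∀ y : G, y ∈ P → k⁻¹ * y * k ∈ S := by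
    intro y hy
    have := hT hy
    rw [Sylow.coe_subgroup_smul] at this
    exact H2.mem_conj_smul.mp this
  have e1 := hU k (key x h1)
  have e2 := hU (g * k) (by
    have := key _ h2
    rwa [show k⁻¹ * (g⁻¹ * x * g) * k = (g * k)⁻¹ * x * (g * k) by group] at this)
  calc g⁻¹ * x * g = k * ((g * k)⁻¹ * x * (g * k)) * k⁻¹ := by group
    _ = k * (k⁻¹ * x * k) * k⁻¹ := by rw [e2, e1]
    _ = x := by group

end Cfsg.Agent.S3064
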