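import Cfsg.Statements.S3067
import Cfsg.Agent.H30.InvolutionFixer
import Cfsg.Agent.H85.BrauerSuzuki

set_option autoImplicit false
open Cfsg

namespace Cfsg.Agent.S3067

/-- Let G be a finite non-abelian simple group, τ an involution of G, and α a nontrivial automorphism of G whose order is coprime to the order of G. Then α moves some element of the centralizer of τ: α does not fix C_G(τ) elementwise. -/
theorem result {G : Type*} [Group G] [Finite G] [IsSimpleGroup G]
    (hG : ¬ IsMulCommutative G) (τ : G) (hτ : orderOf τ = 2) (α : MulAut G) (hα : α ≠ 1)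
    (hcop : (orderOf α).Coprime (Nat.card G)) :
    ∃ c ∈ Subgroup.centralizer ({τ} : Set G), α c ≠ c := by
  classical
  by_contra hcon
  push Not at hcon
  set n := orderOf α with hn
  have hn1 : n ≠ 1 := fun h => hα (orderOf_eq_one_iff.1 h)
  obtain ⟨r, hr, hrn⟩ := Nat.exists_prime_and_dvd hn1
  haveI : Fact r.Prime := ⟨hr⟩
  have hn0 : n ≠ 0 := (orderOf_pos α).ne'
  set β := α ^ (n / r) with hβ
  have hβo : orderOf β = r := orderOf_pow_orderOf_div hn0 hrn
  have hβr : β ^ r = 1 := hβo ▸ pow_orderOf_eq_one β
  have hrG : ¬ r ∣ Nat.card G := fun h =>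
    hr.ne_one (Nat.dvd_one.1 (hcop ▸ Nat.dvd_gcd hrn h))
  have hfix : Subgroup.centralizer ({τ} : Set G) ≤ H30.InvFixer.fixSub β := by
    intro c hc
    have hk : ∀ k : ℕ, (α ^ k) c = c := by
      intro k
      induction k with
      | zero => simp
      | succ m ih => rw [pow_succ', MulAut.mul_apply, ih, hcon c hc]
    exact hk _
  have hτmem : τ ∈ Subgroup.centralizer ({τ} : Set G) :=
    Subgroup.mem_centralizer_singleton_iff.2 rfl
  have hcore : ∀ j ∈ H30.InvFixer.fixSub β, (∀ g : G, g * j * g⁻¹ ∈ H30.InvFixer.fixSub β) →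
      j = 1 := by
    intro j _ hj
    have hle : Subgroup.normalClosure ({j} : Set G) ≤ H30.InvFixer.fixSub β := by
      unfold Subgroup.normalClosure
      rw [Subgroup.closure_le]
      intro x hx
      obtain ⟨a, ha, hax⟩ := Group.mem_conjugatesOfSet_iff.1 hx
      obtain ⟨g, rfl⟩ := isConj_iff.1 hax
      rw [Set.mem_singleton_iff.1 ha]
      exact hj g
    rcases (Subgroup.normalClosure_normal : (Subgroup.normalClosure ({j} : Set G)).Normal).eq_bot_or_eq_top
      with h | h
    · have : j ∈ Subgroup.normalClosure ({j} : Set G) :=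
        Subgroup.subset_normalClosure (Set.mem_singleton j)
      rw [h] at this
      exact Subgroup.mem_bot.1 this
    · exfalso
      have h1 : β = 1 := MulEquiv.ext fun g => by
        have : g ∈ H30.InvFixer.fixSub β := hle (h ▸ Subgroup.mem_top g)
        exact this
      rw [h1, orderOf_one] at hβo
      exact hr.ne_one hβo.symm
  have hsub := H30.InvFixer.class_subsingleton (τ := τ) hβr hrG hτ (hfix hτmem) hfix hcore
  have hiso : Cfsg.IsIsolatedInvolution τ := by
    refine ⟨hτ, fun g hg => hsub _ (hfix ?_) (isConj_iff.2 ⟨g, rfl⟩)⟩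
    exact Subgroup.mem_centralizer_singleton_iff.2 hg.symm
  have hz := H85.zStar hiso
  haveI := H1.pPrimeCore_normal' 2 G
  rcases (inferInstance : (Cfsg.pPrimeCore 2 G).Normal).eq_bot_or_eq_top with h | h
  · have hcen : τ ∈ Subgroup.center G := by
      rw [Subgroup.mem_center_iff]
      intro g
      have h2 := hz g
      rw [h, Subgroup.mem_bot] at h2
      exact (mul_inv_eq_iff_eq_mul.1 (mul_inv_eq_one.1 h2)).symm
    rcases (Subgroup.center G).normal_of_characteristic.eq_bot_or_eq_top with hc | hc
    · rw [hc, Subgroup.mem_bot] at hcen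
      rw [hcen, orderOf_one] at hτ
      omega
    · exact hG (.of_comm fun a b => Subgroup.mem_center_iff.1 (hc ▸ Subgroup.mem_top b) a)
  · have hodd := H1.card_pPrimeCore_coprime 2 G
    rw [h, Subgroup.card_top] at hodd
    have h2 : 2 ∣ Nat.card G := hτ ▸ orderOf_dvd_natCard τ
    have := Nat.dvd_gcd h2 (dvd_refl 2)
    rw [hodd] at this
    omega

end Cfsg.Agent.S3067
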