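import Cfsg.Statements.S3068
import Cfsg.Agent.H32.JThompsonEngel
import Cfsg.Agent.H29.JThompsonCrit
import Cfsg.Agent.H73.TransferCriteria
import Cfsg.Agent.H73.KFunctor
import Cfsg.Agent.H5.Tate

set_option autoImplicit false
set_option linter.style.haveILetI false
open Cfsg

namespace Cfsg.Agent.S3068

/-- Let p ≥ 7 be a prime, S a Sylow p-subgroup of the finite group G, J(S) the subgroup generated by the abelian subgroups of S of largest order and M = N_G(J(S)). Then G/O^p(G) ≅ M/O^p(M): the largest p-factor group of G is that of M (here O^p(X) is the subgroup generated by the elements of X of order prime to p). -/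
theorem result {G : Type*} [Group G] [Finite G] {p : ℕ} [Fact p.Prime]
    (hp : 7 ≤ p) (S : Sylow p G)
    [hn : (Cfsg.pResidual p G).Normal]
    [hm : (Cfsg.pResidual p ↥(Subgroup.normalizer (Cfsg.thompsonSubgroupAOf (S : Subgroup G) : Set G))).Normal] :
    Nonempty (G ⧸ Cfsg.pResidual p G ≃*
      ↥(Subgroup.normalizer (Cfsg.thompsonSubgroupAOf (S : Subgroup G) : Set G)) ⧸
        Cfsg.pResidual p ↥(Subgroup.normalizer (Cfsg.thompsonSubgroupAOf (S : Subgroup G) : Set G))) := by
  set J := Cfsg.thompsonSubgroupAOf (S : Subgroup G) with hJ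
  set N := Subgroup.normalizer (J : Set G) with hN
  have hSN : (S : Subgroup G) ≤ N :=
    Subgroup.le_normalizer.trans (H74.JA.normalizer_le_normalizer_JA _)
  have hW := H29.JCrit.thompsonA_isCharPFunctor (p := p)
  have hctl := H73.ctl_of_engel (G := G) hW (fun X _ _ _ _ T hn => by
    obtain ⟨g, hg, hgQ, h6⟩ := H32.JEngel.exists_engel (p := p) (by omega) T hn
    exact ⟨g, hg, hgQ, fun U V hUV hU => by
      haveI := hUV.2.1
      exact (H73.iterCommutator_antitone (by rw [Subgroup.normalizer_eq_top]; exact le_top)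
        (show 6 ≤ p - 1 by omega)).trans (h6 U V hUV hU)⟩) G (H73.IsSectionOf.refl G)
  have h := H73.controlsTransferIn_any (H73.isConjugacyFunctor_inducedFunctor hW G)
    (H73.controlsTransferIn_of_ctl hctl) (H73.sylIn_top S)
  simp only [top_inf_eq] at h
  change (S : Subgroup G) ⊓ commutator G = (S : Subgroup G) ⊓ ⁅N, N⁆ at h
  have htate : (S : Subgroup G) ⊓ Cfsg.pResidual p G ≤ (Cfsg.pResidual p N).map N.subtype :=
    H5.tate S hSN (by rw [inf_comm]; exact h.le.trans inf_le_right)
  set f : N →* G ⧸ Cfsg.pResidual p G := (QuotientGroup.mk' _).comp N.subtype with hf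
  have hsurj : Function.Surjective f := by
    intro x
    obtain ⟨g, rfl⟩ := QuotientGroup.mk'_surjective _ x
    have hg : g ∈ Cfsg.pResidual p G ⊔ (S : Subgroup G) := by
      rw [H5.pResidual_sup_sylow S]; trivial
    obtain ⟨k, hk, s, hs, rfl⟩ := Subgroup.mem_sup_of_normal_left.mp hg
    refine ⟨⟨s, hSN hs⟩, ?_⟩
    have hk1 : QuotientGroup.mk' (Cfsg.pResidual p G) k = 1 := (QuotientGroup.eq_one_iff k).mpr hk
    rw [map_mul, hk1, one_mul]
    rfl
  have hker : Cfsg.pResidual p N = f.ker := by
    refine le_antisymm ?_ fun x hx => ?_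
    · intro x hx
      exact (QuotientGroup.eq_one_iff _).mpr (H5.pResidual_subtype_map_le N ⟨x, hx, rfl⟩)
    · have hx' : (x : G) ∈ Cfsg.pResidual p G := (QuotientGroup.eq_one_iff _).mp hx
      have hxs : x ∈ Cfsg.pResidual p N ⊔ (S.subtype hSN : Subgroup N) := by
        rw [H5.pResidual_sup_sylow (S.subtype hSN)]; trivial
      obtain ⟨k, hk, s, hs, rfl⟩ := Subgroup.mem_sup_of_normal_left.mp hxs
      rw [Sylow.coe_subtype, Subgroup.mem_subgroupOf] at hs
      have hsR : (s : G) ∈ Cfsg.pResidual p G :=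
        ((Cfsg.pResidual p G).mul_mem_cancel_left (H5.pResidual_subtype_map_le N ⟨k, hk, rfl⟩)).mp hx'
      obtain ⟨y, hy, hys⟩ := htate ⟨hs, hsR⟩
      exact mul_mem hk ((Subtype.ext hys : y = s) ▸ hy)
  exact ⟨((QuotientGroup.quotientMulEquivOfEq hker).trans
    (QuotientGroup.quotientKerEquivOfSurjective f hsurj)).symm⟩

end Cfsg.Agent.S3068
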