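import Cfsg.Statements.S3070
import Cfsg.Agent.H29.JThompsonCrit

set_option autoImplicit false
open Cfsg

namespace Cfsg.Agent.S3070

/-- Let p ≥ 5 be a prime, S a Sylow p-subgroup of the finite group G and J(S) the subgroup generated by the abelian subgroups of S of largest order. Then G has a normal p-complement if and only if N_G(J(S))/C_G(J(S)) is a p-group (every element of N_G(J(S)) of order prime to p centralizes J(S)). -/
theorem result {G : Type*} [Group G] [Finite G] {p : ℕ} [Fact p.Prime]
    (hp : 5 ≤ p) (S : Sylow p G) :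
    Cfsg.HasNormalPComplement p G ↔
      ∀ g ∈ Subgroup.normalizer (Cfsg.thompsonSubgroupAOf (S : Subgroup G) : Set G), (orderOf g).Coprime p →
        g ∈ Subgroup.centralizer (Cfsg.thompsonSubgroupAOf (S : Subgroup G) : Set G) := by
  refine ⟨fun hG g hg hgo => ?_, fun h => ?_⟩
  · exact H79.centralizes_of_pnil ((H5.hasNormalPComplement_congr Subgroup.topEquiv).mpr hG)
      (S.2.to_le (H74.JA.JA_le _)) le_top (Subgroup.mem_top g) hg hgo
  refine Cfsg.Agent.H29.JCrit.pnil_of_thompsonA hp S ?_
  set J := Cfsg.thompsonSubgroupAOf (S : Subgroup G) with hJ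
  set N := Subgroup.normalizer (J : Set G) with hN
  have hSN : (S : Subgroup G) ≤ N := fun s hs =>
    H74.JA.normalizer_le_normalizer_JA (S : Subgroup G) (Subgroup.le_normalizer hs)
  set C := (Subgroup.centralizer (J : Set G)).subgroupOf N with hC
  haveI : C.Normal := ⟨fun a ha k =>
    (Subgroup.mem_normalizer_iff.mp (H75.normalizer_le_normalizer_centralizer J k.2) _).mp ha⟩
  refine H73.hasNormalPComplement_of_central (S.subtype hSN) C (fun x hx c hc => ?_) (fun x hx => ?_)
  · have hxJ : (x : G) ∈ J := H34.mem_JA_of_commute hx.1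
      fun y hy => Subgroup.mem_centralizer_iff.mp hx.2 y hy
    exact Subtype.ext (Subgroup.mem_centralizer_iff.mp hc _ hxJ)
  · exact h x x.2 (by rwa [Subgroup.orderOf_coe])

end Cfsg.Agent.S3070
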