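import Cfsg.Statements.S3071
import Cfsg.Agent.H79.FusionClass
import Cfsg.Agent.H6.QdFunctor

set_option autoImplicit false
open Cfsg

namespace Cfsg.Agent.S3071

open Subgroup

/-- A surjection from a subgroup gives a section. -/
private theorem section_of_surj {G L : Type*} [Group G] [Group L] (H : Subgroup G) (f : H →* L)
    (hf : Function.Surjective f) :
    ∃ (K : Subgroup G) (_ : (K.subgroupOf H).Normal), Nonempty ((H ⧸ K.subgroupOf H) ≃* L) := by
  have e : (f.ker.map H.subtype).subgroupOf H = f.ker :=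
    comap_map_eq_self_of_injective H.subtype_injective _
  haveI hn : ((f.ker.map H.subtype).subgroupOf H).Normal := by rw [e]; exact f.normal_ker
  exact ⟨f.ker.map H.subtype, hn, ⟨(QuotientGroup.quotientMulEquivOfEq e).trans
    (QuotientGroup.quotientKerEquivOfSurjective f hf)⟩⟩

/-- Let p be an odd prime and S a Sylow p-subgroup of the finite group G such that, for every subgroup P with Z(S) ≤ P ≤ S, the normalizer N_G(P) has no section isomorphic to SL₂(p). Let J(S) be the subgroup generated by the abelian subgroups of S of largest order. Then two elements of S are conjugate in G if and only if they are conjugate in N_G(Z(J(S))). -/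
theorem result {G : Type*} [Group G] [Finite G] {p : ℕ} [Fact p.Prime]
    (hp : p ≠ 2) (S : Sylow p G)
    (hfree : ∀ P : Subgroup G, (S : Subgroup G) ⊓ Subgroup.centralizer ((S : Subgroup G) : Set G) ≤ P → P ≤ S →
      ¬ ∃ (H K : Subgroup G) (hK : (K.subgroupOf H).Normal), H ≤ Subgroup.normalizer (P : Set G) ∧
        Nonempty ((H ⧸ K.subgroupOf H) ≃* Matrix.SpecialLinearGroup (Fin 2) (ZMod p))) :
    ∀ x ∈ S, ∀ y ∈ S, (∃ g : G, g * x * g⁻¹ = y) ↔
      ∃ n ∈ Subgroup.normalizer (Cfsg.centerThompsonAOf (S : Subgroup G) : Set G), n * x * n⁻¹ = y := by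
  let C : Subgroup G → Prop := fun T => ¬ ∃ (H K : Subgroup G) (hK : (K.subgroupOf H).Normal),
    H ≤ Subgroup.normalizer (T : Set G) ∧
      Nonempty ((H ⧸ K.subgroupOf H) ≃* Matrix.SpecialLinearGroup (Fin 2) (ZMod p))
  have hfree' : ∀ T : Subgroup G, C T →
      ¬ Cfsg.Involves ↥(Cfsg.qd p) ↥(normalizer (T : Set G)) := by
    rintro T hT ⟨K, R, hR, ⟨e⟩⟩
    let f : K →* Matrix.SpecialLinearGroup (Fin 2) (ZMod p) :=
      (H72.qdProj p).comp (e.toMonoidHom.comp (QuotientGroup.mk' (R.subgroupOf K)))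
    let j := (K.equivMapOfInjective (normalizer (T : Set G)).subtype
      (normalizer (T : Set G)).subtype_injective)
    obtain ⟨K', hK', he⟩ := section_of_surj _ (f.comp j.symm.toMonoidHom)
      ((((H72.qdProj_surjective p).comp e.surjective).comp
        (QuotientGroup.mk'_surjective _)).comp j.symm.surjective)
    exact hT ⟨_, K', hK', map_subtype_le K, he⟩
  have hCc : ∀ (T : Subgroup G) (g : G), C T → C (T.map (MulAut.conj g).toMonoidHom) := by
    rintro T g hT ⟨H, K, hK, hH, ⟨e⟩⟩
    let j := (H.equivMapOfInjective (MulAut.conj g⁻¹).toMonoidHom (MulAut.conj g⁻¹).injective)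
    obtain ⟨K', hK', he⟩ := section_of_surj _
      ((e.toMonoidHom.comp (QuotientGroup.mk' (K.subgroupOf H))).comp j.symm.toMonoidHom)
      ((e.surjective.comp (QuotientGroup.mk'_surjective _)).comp j.symm.surjective)
    refine hT ⟨_, K', hK', ?_, he⟩
    have h1 := H79.conj_map_le_normalizer g⁻¹ hH
    rwa [Subgroup.map_map (T) , show ((MulAut.conj g⁻¹).toMonoidHom.comp (MulAut.conj g).toMonoidHom) =
      MonoidHom.id G from MonoidHom.ext fun x => by simp [mul_assoc], Subgroup.map_id] at h1
  let F : Subgroup G → Subgroup G := fun T => H79.ZJ p true T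
  have hind := H79.induced_of_local_class S C hCc (fun T hTS hle => hfree T hle hTS) F
    (fun T _ => H79.ZJ_le T) (fun T _ => H79.ZJ_normalizer_le T) ?_ ?_
  · intro x hx y hy
    refine ⟨fun ⟨g, hg⟩ => ?_, fun ⟨n, _, hn⟩ => ⟨n, hn⟩⟩
    obtain ⟨n, hn, hn'⟩ := hind (Subgroup.zpowers x) (Subgroup.zpowers_le.mpr hx) g (by
      rintro u ⟨k, rfl⟩
      show g * x ^ k * g⁻¹ ∈ (S : Subgroup G)
      rw [← conj_zpow, hg]
      exact Subgroup.zpow_mem _ hy k)
    refine ⟨n, ?_, by rw [← hn' x (Subgroup.mem_zpowers x), hg]⟩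
    have : F (S : Subgroup G) = Cfsg.centerThompsonAOf (S : Subgroup G) := H79.ZJ_true _
    rwa [this] at hn
  · -- the value of the functor contains the centre of the Sylow subgroup
    intro T hTS hT hfull
    by_cases hZ : (S : Subgroup G) ⊓ centralizer ((S : Subgroup G) : Set G) ≤
        H79.ZJ p true ((S : Subgroup G) ⊓ normalizer (T : Set G))
    · exact hfree _ hZ ((H79.ZJ_le _).trans inf_le_left)
    · exfalso
      refine hZ ?_
      intro z hz
      have hzS : z ∈ (S : Subgroup G) ⊓ normalizer (T : Set G) :=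
        ⟨hz.1, centralizer_le_normalizer _ (centralizer_le hTS hz.2)⟩
      refine mem_sInf.mpr fun A hA => H11.mem_of_commute_maxFam_comm hA hzS fun a ha => ?_
      first
        | exact mem_centralizer_iff.mp hz.2 a (hA.1 ha).1
        | exact (mem_centralizer_iff.mp hz.2 a (hA.1 ha).1).symm
  · intro T hTS hT hfull n₀ hn₀ U hU hnU
    set N := normalizer (T : Set G) with hN
    have hSp : IsPGroup p (((S : Subgroup G) ⊓ N).subgroupOf N) :=
      (S.isPGroup'.to_inf_left).comap_of_injective N.subtype N.subtype_injective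
    obtain ⟨R, hR⟩ := hSp.exists_le_sylow
    have hReq : (R : Subgroup N) = ((S : Subgroup G) ⊓ N).subgroupOf N := by
      refine (eq_of_le_of_card_ge hR ?_).symm
      rw [Nat.card_congr (subgroupOfEquivOfLe (inf_le_right : (S : Subgroup G) ⊓ N ≤ N)).toEquiv,
        ← card_map_of_injective N.subtype_injective]
      exact hfull _ (R.isPGroup'.map _) (map_subtype_le _)
    have hadm : H6.AdmPair True (R : Subgroup N) (R : Subgroup N) :=
      ⟨⟨le_rfl, fun x _ y hy => hy⟩, Or.inl trivial⟩
    obtain ⟨m, hm, hm'⟩ := (H6.zjFunctor hp true).fusionIn H6.qdFree_hered (Nat.card N) N le_rfl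
      (hfree' T hT) R _ hadm (U.subgroupOf N) (hReq ▸ comap_mono hU) ⟨n₀, hn₀⟩
      (fun u hu => by rw [hReq, mem_subgroupOf]; exact hnU u hu)
    refine ⟨(m : G), ⟨m.2, ?_⟩, fun u hu => congrArg Subtype.val (hm' ⟨u, (hU hu).2⟩ hu)⟩
    show (m : G) ∈ normalizer (F ((S : Subgroup G) ⊓ N) : Set G)
    have e : (H79.ZJ p true (R : Subgroup N)).map N.subtype = H79.ZJ p true ((R : Subgroup N).map N.subtype) :=
      H79.ZJ_map (fun y _ hy => N.subtype_injective (hy.trans (map_one _).symm))
    rw [hReq, map_subgroupOf_eq_of_le inf_le_right] at e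
    show (m : G) ∈ normalizer (H79.ZJ p true ((S : Subgroup G) ⊓ N) : Set G)
    rw [← e]
    exact le_normalizer_map _ ⟨m, by rw [← hReq]; exact hm, rfl⟩

end Cfsg.Agent.S3071
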