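import Cfsg.Statements.S3075
import Cfsg.Agent.H79.Basic
import Mathlib.FieldTheory.Finite.Basic
import Mathlib.Tactic.Group

set_option autoImplicit false
open Cfsg

namespace Cfsg.Agent.S3075

/-- A normal subgroup of order `p` is centralized by an element whose `p`-th power centralizes it. -/
theorem centralizes_order_p {N : Type*} [Group N] {p : ℕ} [Fact p.Prime] {X : Subgroup N} (hX : X.Normal)
    (hcard : Nat.card X = p) {τ : N} (hτ : ∀ x ∈ X, τ ^ p * x * (τ ^ p)⁻¹ = x) :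
    ∀ x ∈ X, τ * x * τ⁻¹ = x := by
  intro x hx
  by_cases hx1 : x = 1
  · simp [hx1]
  have hord : orderOf (⟨x, hx⟩ : X) = p := by
    refine ((Fact.out : p.Prime).eq_one_or_self_of_dvd _ (hcard ▸ orderOf_dvd_natCard _)).resolve_left ?_
    rw [orderOf_eq_one_iff]
    exact fun h => hx1 (congrArg Subtype.val h)
  haveI : Finite X := Nat.finite_of_card_ne_zero (hcard ▸ (Fact.out : p.Prime).ne_zero)
  have htop : Subgroup.zpowers (⟨x, hx⟩ : X) = ⊤ := by
    apply Subgroup.eq_top_of_card_eq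
    rw [Nat.card_zpowers, hord, hcard]
  have hmem : (⟨τ * x * τ⁻¹, hX.conj_mem x hx τ⟩ : X) ∈ Subgroup.zpowers (⟨x, hx⟩ : X) := htop ▸ Subgroup.mem_top _
  obtain ⟨k, hk : (⟨x, hx⟩ : X) ^ k = _⟩ := mem_powers_iff_mem_zpowers.mpr hmem
  have hk' : x ^ k = τ * x * τ⁻¹ := by simpa using congrArg Subtype.val hk
  have hn : ∀ n : ℕ, τ ^ n * x * (τ ^ n)⁻¹ = x ^ (k ^ n) := by
    intro n
    induction n with
    | zero => simp
    | succ n ih =>
      calc τ ^ (n + 1) * x * (τ ^ (n + 1))⁻¹ = τ * (τ ^ n * x * (τ ^ n)⁻¹) * τ⁻¹ := by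
            rw [pow_succ']; group
        _ = (τ * x * τ⁻¹) ^ (k ^ n) := by rw [ih, conj_pow]
        _ = x ^ (k ^ (n + 1)) := by rw [← hk', ← pow_mul, ← pow_succ']
  have h1 : (⟨x, hx⟩ : X) ^ (k ^ p) = (⟨x, hx⟩ : X) ^ 1 := by
    apply Subtype.ext
    simpa using (hn p).symm.trans (hτ x hx)
  rw [pow_eq_pow_iff_modEq, hord, ← ZMod.natCast_eq_natCast_iff, Nat.cast_pow, ZMod.pow_card, Nat.cast_one] at h1
  have h2 : (⟨x, hx⟩ : X) ^ k = (⟨x, hx⟩ : X) ^ 1 := by
    rw [pow_eq_pow_iff_modEq, hord, ← ZMod.natCast_eq_natCast_iff, h1, Nat.cast_one]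
  rw [← hk']
  simpa using congrArg Subtype.val h2


/-- Let p be an odd prime and N a finite group with a normal elementary abelian subgroup A of order p² that is its own centralizer in N, such that N/A is isomorphic to SL₂(p) (over any field F with p elements). Then N splits over A: some subgroup U of N satisfies A ∩ U = 1 and AU = N. -/
theorem result {N : Type*} [Group N] [Finite N] {p : ℕ} [Fact p.Prime] (hp : p ≠ 2)
    (A : Subgroup N) [A.Normal] (hAcomm : IsMulCommutative A) (hAcard : Nat.card A = p ^ 2) (hAexp : Monoid.exponent ↥A = p)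
    (hAself : Subgroup.centralizer (A : Set N) = A)
    {F : Type*} [Field F] [Fintype F] (hF : Fintype.card F = p) (e : N ⧸ A ≃* Matrix.SpecialLinearGroup (Fin 2) F) :
    ∃ U : Subgroup N, A ⊓ U = ⊥ ∧ A ⊔ U = ⊤ := by
  classical
  have hpp : p.Prime := Fact.out
  obtain ⟨j, hj⟩ := hpp.odd_of_ne_two hp
  have hp0 : (p : F) = 0 := hF ▸ FiniteField.cast_card_eq_zero F
  have h20 : (2 : F) ≠ 0 := by
    intro h
    rw [hj, Nat.cast_add, Nat.cast_mul, Nat.cast_ofNat, h, zero_mul, zero_add, Nat.cast_one] at hp0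
    exact one_ne_zero hp0
  have hA : ∀ a ∈ A, ∀ b ∈ A, a * b = b * a := fun a ha b hb =>
    Subgroup.mem_centralizer_iff.mp (hAself.ge hb) a ha
  have hpow : ∀ a ∈ A, a ^ p = 1 := by
    intro a ha
    have := Monoid.pow_exponent_eq_one (⟨a, ha⟩ : A)
    rw [hAexp] at this
    simpa using congrArg Subtype.val this
  have hpow' : ∀ a ∈ A, a ^ (j + 1) * a ^ (j + 1) = a := by
    intro a ha
    rw [← pow_add, show j + 1 + (j + 1) = p + 1 by omega, pow_succ, hpow a ha, one_mul]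
  have hsq : ∀ a ∈ A, a * a = 1 → a = 1 := by
    intro a ha h
    have := hpow a ha
    rw [hj, pow_succ, pow_mul, sq, h, one_pow, one_mul] at this
    exact this
  set m : Matrix.SpecialLinearGroup (Fin 2) F := ⟨!![-1, 0; 0, -1], by simp [Matrix.det_fin_two]⟩ with hm
  have hmc : ∀ y, m * y = y * m := by
    intro y
    ext i k
    simp only [Matrix.SpecialLinearGroup.coe_mul]
    rw [show (m : Matrix (Fin 2) (Fin 2) F) = !![-1, 0; 0, -1] from rfl]
    fin_cases i <;> fin_cases k <;> simp [Matrix.mul_apply, Fin.sum_univ_two]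
  obtain ⟨z, hz⟩ := QuotientGroup.mk_surjective (s := A) (e.symm m)
  have hez : e (QuotientGroup.mk z) = m := by rw [hz, e.apply_symm_apply]
  have hzA : z ∉ A := by
    intro h
    rw [(QuotientGroup.eq_one_iff z).mpr h, map_one] at hez
    have h2 := congrArg (fun M : Matrix.SpecialLinearGroup (Fin 2) F => (M : Matrix (Fin 2) (Fin 2) F) 0 0) hez
    simp [hm] at h2
    apply h20
    rw [show (2 : F) = 1 + 1 by norm_num]
    nth_rw 2 [h2]
    simp
  have hz2 : z * z ∈ A := by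
    rw [← QuotientGroup.eq_one_iff, QuotientGroup.mk_mul]
    apply e.injective
    rw [map_mul, hez, map_one]
    ext i k
    simp only [Matrix.SpecialLinearGroup.coe_mul]
    rw [show (m : Matrix (Fin 2) (Fin 2) F) = !![-1, 0; 0, -1] from rfl]
    fin_cases i <;> fin_cases k <;> simp [Matrix.mul_apply, Fin.sum_univ_two]
  have hcen : ∀ n : N, n * z * n⁻¹ * z⁻¹ ∈ A := by
    intro n
    rw [← QuotientGroup.eq_one_iff]
    apply e.injective
    simp only [QuotientGroup.mk_mul, QuotientGroup.mk_inv, map_mul, map_inv, map_one, hez, ← hmc]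
    group
  have hinvol : ∀ a ∈ A, z * (z * a * z⁻¹) * z⁻¹ = a := by
    intro a ha
    calc z * (z * a * z⁻¹) * z⁻¹ = (z * z) * a * (z * z)⁻¹ := by group
      _ = a := by rw [hA _ hz2 a ha, mul_inv_cancel_right]
  have hσmem : ∀ a ∈ A, z * a * z⁻¹ ∈ A := fun a ha => Subgroup.Normal.conj_mem inferInstance a ha z
  let Pp : Subgroup N :=
    { carrier := {a | a ∈ A ∧ z * a * z⁻¹ = a}
      one_mem' := ⟨A.one_mem, by simp⟩
      mul_mem' := by
        rintro a b ⟨ha, ha'⟩ ⟨hb, hb'⟩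
        refine ⟨A.mul_mem ha hb, ?_⟩
        calc z * (a * b) * z⁻¹ = (z * a * z⁻¹) * (z * b * z⁻¹) := by group
          _ = a * b := by rw [ha', hb']
      inv_mem' := by
        rintro a ⟨ha, ha'⟩
        refine ⟨A.inv_mem ha, ?_⟩
        calc z * a⁻¹ * z⁻¹ = (z * a * z⁻¹)⁻¹ := by group
          _ = a⁻¹ := by rw [ha'] }
  let Mm : Subgroup N :=
    { carrier := {a | a ∈ A ∧ z * a * z⁻¹ = a⁻¹}
      one_mem' := ⟨A.one_mem, by simp⟩
      mul_mem' := by
        rintro a b ⟨ha, ha'⟩ ⟨hb, hb'⟩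
        refine ⟨A.mul_mem ha hb, ?_⟩
        calc z * (a * b) * z⁻¹ = (z * a * z⁻¹) * (z * b * z⁻¹) := by group
          _ = (a * b)⁻¹ := by rw [ha', hb', mul_inv_rev, hA _ (A.inv_mem ha) _ (A.inv_mem hb)]
      inv_mem' := by
        rintro a ⟨ha, ha'⟩
        refine ⟨A.inv_mem ha, ?_⟩
        calc z * a⁻¹ * z⁻¹ = (z * a * z⁻¹)⁻¹ := by group
          _ = a⁻¹⁻¹ := by rw [ha'] }
  have hdec : ∀ a ∈ A, ∃ u ∈ Pp, ∃ v ∈ Mm, a = u * v := by
    intro a ha
    set b := z * a * z⁻¹ with hb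
    have hbA : b ∈ A := hσmem a ha
    have hab : Commute a b := hA a ha b hbA
    have hzz : ∀ x y : N, z * (x * y) * z⁻¹ = (z * x * z⁻¹) * (z * y * z⁻¹) := fun x y => by group
    have hb2 : z * b * z⁻¹ = a := hinvol a ha
    have hbi : z * b⁻¹ * z⁻¹ = a⁻¹ := by
      rw [show z * b⁻¹ * z⁻¹ = (z * b * z⁻¹)⁻¹ by group, hb2]
    refine ⟨(a * b) ^ (j + 1), ⟨A.pow_mem (A.mul_mem ha hbA) _, ?_⟩, (a * b⁻¹) ^ (j + 1),
      ⟨A.pow_mem (A.mul_mem ha (A.inv_mem hbA)) _, ?_⟩, ?_⟩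
    · rw [← conj_pow, hzz, hb2, ← hb, hab.eq]
    · rw [← conj_pow, hzz, hbi, ← hb, ← inv_pow, mul_inv_rev, inv_inv]
    · rw [← Commute.mul_pow (hA _ (A.mul_mem ha hbA) _ (A.mul_mem ha (A.inv_mem hbA))),
        show a * b * (a * b⁻¹) = a * a by rw [hab.eq]; rw [mul_assoc, ← mul_assoc a a, ← mul_assoc b,
          ← (Commute.mul_left hab hab).eq, mul_inv_cancel_right],
        ← sq, ← pow_mul, show 2 * (j + 1) = p + 1 by omega, pow_succ, hpow a ha, one_mul]
  have hnormal : ∀ X : Subgroup N, X ≤ A → (∀ a ∈ X, z * a * z⁻¹ ∈ X) →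
      (∀ (n : N), ∀ a ∈ X, z * a * z⁻¹ = n⁻¹ * (z * (n * a * n⁻¹) * z⁻¹) * n) := by
    intro X hXA _ n a ha
    obtain ⟨b, hb, hnz⟩ : ∃ b ∈ A, n * z * n⁻¹ = b * z := ⟨_, hcen n, by group⟩
    have h1 : n * (z * a * z⁻¹) * n⁻¹ = b * (z * (n * a * n⁻¹) * z⁻¹) * b⁻¹ := by
      calc n * (z * a * z⁻¹) * n⁻¹ = (n * z * n⁻¹) * (n * a * n⁻¹) * (n * z * n⁻¹)⁻¹ := by group
        _ = b * (z * (n * a * n⁻¹) * z⁻¹) * b⁻¹ := by rw [hnz]; group
    rw [hA b hb _ (hσmem _ (Subgroup.Normal.conj_mem inferInstance a (hXA ha) n)),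
      mul_inv_cancel_right] at h1
    rw [← h1]; group
  have hPn : Pp.Normal := ⟨fun a ha n => by
    refine ⟨Subgroup.Normal.conj_mem inferInstance a ha.1 n, ?_⟩
    have h := hnormal Pp (fun x hx => hx.1) (fun x hx => by rw [hx.2]; exact hx) n a ha
    rw [ha.2] at h
    calc z * (n * a * n⁻¹) * z⁻¹ = n * (n⁻¹ * (z * (n * a * n⁻¹) * z⁻¹) * n) * n⁻¹ := by group
      _ = n * a * n⁻¹ := by rw [← h]⟩
  have hMn : Mm.Normal := ⟨fun a ha n => by
    refine ⟨Subgroup.Normal.conj_mem inferInstance a ha.1 n, ?_⟩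
    have h := hnormal Mm (fun x hx => hx.1) (fun x hx => by rw [hx.2]; exact Mm.inv_mem hx) n a ha
    rw [ha.2] at h
    calc z * (n * a * n⁻¹) * z⁻¹ = n * (n⁻¹ * (z * (n * a * n⁻¹) * z⁻¹) * n) * n⁻¹ := by group
      _ = n * a⁻¹ * n⁻¹ := by rw [← h]
      _ = (n * a * n⁻¹)⁻¹ := by group⟩
  have hdisj : ∀ a, a ∈ Pp → a ∈ Mm → a = 1 := fun a h1 h2 => hsq a h1.1 (by
    have h3 : a = a⁻¹ := h1.2.symm.trans h2.2
    nth_rw 2 [h3]
    simp)
  have hinv : ∀ a ∈ A, z * a * z⁻¹ = a⁻¹ := by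
    by_contra hcon
    push_neg at hcon
    obtain ⟨a₀, ha₀, hne⟩ := hcon
    have hPne : Pp ≠ ⊥ := by
      intro h
      obtain ⟨u, hu, v, hv, e'⟩ := hdec a₀ ha₀
      rw [h, Subgroup.mem_bot] at hu
      rw [hu, one_mul] at e'
      exact hne (e' ▸ hv.2)
    have hMne : Mm ≠ ⊥ := by
      intro h
      apply hzA
      apply hAself.le
      refine Subgroup.mem_centralizer_iff.mpr fun a ha => ?_
      obtain ⟨u, hu, v, hv, e'⟩ := hdec a ha
      rw [h, Subgroup.mem_bot] at hv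
      rw [hv, mul_one] at e'
      have := (e' ▸ hu.2 : z * a * z⁻¹ = a)
      conv_lhs => rw [← this]
      group
    have hcard : ∀ X Y : Subgroup N, X ≤ A → Y ≤ A → Y ≠ ⊥ → (∀ a, a ∈ X → a ∈ Y → a = 1) →
        X ≠ ⊥ → Nat.card X = p := by
      intro X Y hX hY hY1 hXY hX1
      have hd : Nat.card X ∣ p ^ 2 := hAcard ▸ Subgroup.card_dvd_of_le hX
      obtain ⟨i, hi, e'⟩ := (Nat.dvd_prime_pow hpp).mp hd
      interval_cases i
      · exact absurd (Subgroup.card_eq_one.mp (by simpa using e')) hX1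
      · simpa using e'
      · exfalso
        have hXA : X = A := Subgroup.eq_of_le_of_card_ge hX (by rw [e', hAcard])
        subst hXA
        obtain ⟨y, hy, hy1⟩ := Y.bot_or_exists_ne_one.resolve_left hY1
        exact hy1 (hXY y (hY hy) hy)
    have hP' := hcard Pp Mm (fun x hx => hx.1) (fun x hx => hx.1) hMne hdisj hPne
    have hM' := hcard Mm Pp (fun x hx => hx.1) (fun x hx => hx.1) hPne (fun a h1 h2 => hdisj a h2 h1) hMne
    set t : Matrix.SpecialLinearGroup (Fin 2) F := ⟨!![1, 1; 0, 1], by simp [Matrix.det_fin_two]⟩ with ht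
    obtain ⟨τ, hτ⟩ := QuotientGroup.mk_surjective (s := A) (e.symm t)
    have htn : ∀ n : ℕ, ((t ^ n : Matrix.SpecialLinearGroup (Fin 2) F) : Matrix (Fin 2) (Fin 2) F) =
        !![1, (n : F); 0, 1] := by
      intro n
      induction n with
      | zero => simp [Matrix.one_fin_two]
      | succ n ih =>
        rw [pow_succ, Matrix.SpecialLinearGroup.coe_mul, ih]
        ext i k
        fin_cases i <;> fin_cases k <;> simp [ht, Matrix.mul_apply, Fin.sum_univ_two, add_comm]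
    have hτp : τ ^ p ∈ A := by
      rw [← QuotientGroup.eq_one_iff, QuotientGroup.mk_pow, hτ, ← map_pow, ← map_one e.symm]
      congr 1
      ext i k
      rw [htn, hp0]
      fin_cases i <;> fin_cases k <;> simp
    have hfix : ∀ X : Subgroup N, X.Normal → X ≤ A → Nat.card X = p → ∀ x ∈ X, τ * x * τ⁻¹ = x :=
      fun X hX hXA hc => centralizes_order_p hX hc (fun x hx => by
        rw [hA _ hτp x (hXA hx), mul_inv_cancel_right])
    have hτA : τ ∈ A := by
      apply hAself.le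
      refine Subgroup.mem_centralizer_iff.mpr fun a ha => ?_
      obtain ⟨u, hu, v, hv, rfl⟩ := hdec a ha
      have h1 := hfix Pp hPn (fun x hx => hx.1) hP' u hu
      have h2 := hfix Mm hMn (fun x hx => hx.1) hM' v hv
      calc u * v * τ = (τ * u * τ⁻¹) * (τ * v * τ⁻¹) * τ := by rw [h1, h2]
        _ = τ * (u * v) := by group
    rw [(QuotientGroup.eq_one_iff τ).mpr hτA] at hτ
    have h3 := congrArg (fun M : Matrix.SpecialLinearGroup (Fin 2) F => (M : Matrix (Fin 2) (Fin 2) F) 0 1)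
      ((map_one e).symm.trans ((congrArg e hτ).trans (e.apply_symm_apply t)))
    simp [ht] at h3
  have hz21 : z * z = 1 := by
    apply hsq _ hz2
    have h := hinv _ hz2
    have h' : z * z = (z * z)⁻¹ := by
      rw [← h]; group
    nth_rw 2 [h']
    exact mul_inv_cancel _
  refine ⟨Subgroup.centralizer {z}, ?_, ?_⟩
  · rw [eq_bot_iff]
    rintro a ⟨ha, hac⟩
    replace hac : a * z = z * a :=
      Subgroup.mem_centralizer_singleton_iff.mp (show a ∈ Subgroup.centralizer {z} from hac)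
    refine Subgroup.mem_bot.mpr (hsq a ha ?_)
    have h := hinv a ha
    rw [← hac, mul_inv_cancel_right] at h
    nth_rw 2 [h]
    exact mul_inv_cancel _
  · rw [eq_top_iff]
    intro n _
    set b := n * z * n⁻¹ * z⁻¹ with hb
    have hbA : b ∈ A := hcen n
    set c := b ^ (j + 1) with hc
    have hcA : c ∈ A := A.pow_mem hbA _
    have hcz : z * c * z⁻¹ = c⁻¹ := hinv c hcA
    have hcc : c * c = b := hpow' b hbA
    have hmem : c⁻¹ * n ∈ Subgroup.centralizer {z} := by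
      rw [Subgroup.mem_centralizer_singleton_iff]
      have hnz : n * z = b * z * n := by rw [hb]; group
      calc c⁻¹ * n * z = c⁻¹ * (n * z) := by group
        _ = c⁻¹ * (b * z * n) := by rw [hnz]
        _ = c⁻¹ * ((c * c) * z * n) := by rw [hcc]
        _ = (c⁻¹)⁻¹ * z * n := by group
        _ = (z * c * z⁻¹)⁻¹ * z * n := by rw [hcz]
        _ = z * (c⁻¹ * n) := by group
    rw [← mul_inv_cancel_left c n]
    exact Subgroup.mul_mem _ (Subgroup.mem_sup_left hcA) (Subgroup.mem_sup_right hmem)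

end Cfsg.Agent.S3075
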