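import Cfsg.Statements.S3076
import Cfsg.Agent.H79.CentricSylow
-- import your own Cfsg.Agent.* helpers here

set_option autoImplicit false
open Cfsg

namespace Cfsg.Agent.S3076

/-- Let P be a Sylow p-subgroup of the finite group G and H ≤ P a subgroup with N_P(H) a Sylow p-subgroup of N_G(H). Let N be the preimage in N_G(H) of O_p(N_G(H)/C_G(H)). Then H is a Sylow p-subgroup of N if and only if C_P(H) ≤ H and O_{p',p}(N_G(H)) = H·C_G(H). -/
theorem result {G : Type*} [Group G] [Finite G] {p : ℕ} [Fact p.Prime]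
    (P : Sylow p G) (H : Subgroup G) (hHP : H ≤ (P : Subgroup G))
    (hSyl : ¬ p ∣ ((P : Subgroup G) ⊓ Subgroup.normalizer (H : Set G)).relIndex (Subgroup.normalizer (H : Set G)))
    [hC : ((Subgroup.centralizer (H : Set G)).subgroupOf (Subgroup.normalizer (H : Set G))).Normal] :
    (H ≤ ((Cfsg.pCore p (↥(Subgroup.normalizer (H : Set G)) ⧸
              (Subgroup.centralizer (H : Set G)).subgroupOf (Subgroup.normalizer (H : Set G)))).comap
            (QuotientGroup.mk' _)).map (Subgroup.normalizer (H : Set G)).subtype ∧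
      ¬ p ∣ H.relIndex (((Cfsg.pCore p (↥(Subgroup.normalizer (H : Set G)) ⧸
              (Subgroup.centralizer (H : Set G)).subgroupOf (Subgroup.normalizer (H : Set G)))).comap
            (QuotientGroup.mk' _)).map (Subgroup.normalizer (H : Set G)).subtype)) ↔
    ((P : Subgroup G) ⊓ Subgroup.centralizer (H : Set G) ≤ H ∧
      (Cfsg.pPrimePCore p ↥(Subgroup.normalizer (H : Set G))).map (Subgroup.normalizer (H : Set G)).subtype =
        H ⊔ Subgroup.centralizer (H : Set G)) := by
  have hHX : H ≤ Subgroup.normalizer (H : Set G) := Subgroup.le_normalizer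
  have hCX : Subgroup.centralizer (H : Set G) ≤ Subgroup.normalizer (H : Set G) :=
    Subgroup.centralizer_le_normalizer _
  set X := Subgroup.normalizer (H : Set G) with hX
  set Hn := H.subgroupOf X with hHn
  haveI : Hn.Normal := Subgroup.normal_subgroupOf_of_le_normalizer le_rfl
  have hHp : IsPGroup p Hn :=
    (P.isPGroup'.to_le hHP).comap_of_injective X.subtype X.subtype_injective
  set C := (Subgroup.centralizer (H : Set G)).subgroupOf X with hCdef
  have hCeq : C = Subgroup.centralizer (Hn : Set X) := by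
    ext x
    simp only [hCdef, Subgroup.mem_subgroupOf, Subgroup.mem_centralizer_iff]
    exact ⟨fun h y hy => Subtype.ext (h y hy),
      fun h y hy => congrArg Subtype.val (h ⟨y, hHX hy⟩ hy)⟩
  have hRp : IsPGroup p (((P : Subgroup G) ⊓ X).subgroupOf X) :=
    (P.isPGroup'.to_le inf_le_left).comap_of_injective X.subtype X.subtype_injective
  set R := hRp.toSylow hSyl with hR
  have key := H79.centric_sylow_iff (p := p) Hn hHp C hCeq R
  have hmapH : Hn.map X.subtype = H := Subgroup.map_subgroupOf_eq_of_le hHX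
  have hmapC : C.map X.subtype = Subgroup.centralizer (H : Set G) :=
    Subgroup.map_subgroupOf_eq_of_le hCX
  have hinj := X.subtype_injective
  refine Iff.trans ?_ (key.trans ?_)
  · have e1 : ∀ T : Subgroup X, (H ≤ T.map X.subtype ↔ Hn ≤ T) := fun T => by
      rw [← Subgroup.map_le_map_iff_of_injective hinj, hmapH]
    have e2 : ∀ T : Subgroup X, H.relIndex (T.map X.subtype) = Hn.relIndex T := fun T => by
      rw [← Subgroup.relIndex_map_map_of_injective Hn T hinj, hmapH]
    exact and_congr (e1 _) (by rw [e2])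
  · refine and_congr ⟨fun h x hx => ?_, fun h x hx => ?_⟩ ?_
    · exact h (show (⟨x, hCX hx.2⟩ : X) ∈ (R : Subgroup X) ⊓ C from ⟨⟨hx.1, hCX hx.2⟩, hx.2⟩)
    · exact h ⟨hx.1.1, hx.2⟩
    · have e3 : H ⊔ Subgroup.centralizer (H : Set G) = (Hn ⊔ C).map X.subtype := by
        rw [Subgroup.map_sup, hmapH, hmapC]
      exact ⟨fun h => (congrArg (Subgroup.map X.subtype) h).trans e3.symm,
        fun h => Subgroup.map_injective hinj (h.trans e3)⟩

end Cfsg.Agent.S3076
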