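import Cfsg.Statements.S3078
import Cfsg.Agent.H79.ReplacementRank
-- import your own Cfsg.Agent.* helpers here

set_option autoImplicit false
open Cfsg

namespace Cfsg.Agent.S3078

/-- A replacement Theorem for abelian subgroups of p-groups, p odd. Let G be a finite p-group with p odd, A an abelian subgroup of G, and B a subgroup of nilpotency class at most 2 with [B, B] ≤ A, such that A normalizes B but B does not normalize A. Then there is an abelian subgroup A* of G of the same order as A with A ∩ B strictly contained in A* ∩ B, A* contained in N_G(A) and in the normal closure of A, the exponent of A* dividing the exponent of A, and with the subgroup generated by the elements of order dividing p in A of order at most that of the corresponding subgroup of A* (the rank of A is at most the rank of A*). -/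
theorem result {G : Type*} [Group G] [Finite G] {p : ℕ} [Fact p.Prime] (hp : p ≠ 2) (hG : IsPGroup p G) (A B : Subgroup G) (hA : IsMulCommutative A) (hB2 : ⁅⁅B, B⁆, B⁆ = ⊥) (hBA : ⁅B, B⁆ ≤ A) (hAB : A ≤ Subgroup.normalizer (B : Set G)) (hBnA : ¬ B ≤ Subgroup.normalizer (A : Set G)) : ∃ Astar : Subgroup G, IsMulCommutative Astar ∧ Nat.card Astar = Nat.card A ∧ A ⊓ B < Astar ⊓ B ∧ Astar ≤ Subgroup.normalizer (A : Set G) ∧ Astar ≤ Subgroup.normalClosure (A : Set G) ∧ Monoid.exponent Astar ∣ Monoid.exponent A ∧ Nat.card (Cfsg.omegaOne p A) ≤ Nat.card (Cfsg.omegaOne p Astar) := by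
  set X : Subgroup G := B ⊔ A with hX
  have hBX : B ≤ X := le_sup_left
  have hAX : A ≤ X := le_sup_right
  set A₀ := A.subgroupOf X with hA₀
  set B₀ := B.subgroupOf X with hB₀
  haveI : B₀.Normal := Subgroup.normal_subgroupOf_of_le_normalizer (sup_le Subgroup.le_normalizer hAB)
  have hS : IsPGroup p X := hG.to_subgroup X
  have hAc : ∀ x ∈ A, ∀ y ∈ A, x * y = y * x := fun x hx y hy =>
    congrArg Subtype.val (hA.is_comm.comm (⟨x, hx⟩ : A) ⟨y, hy⟩)
  have hA₀c : IsMulCommutative A₀ := ⟨⟨fun u v => Subtype.ext (Subtype.ext (hAc _ u.2 _ v.2))⟩⟩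
  have hmapA : A₀.map X.subtype = A := Subgroup.map_subgroupOf_eq_of_le hAX
  have hmapB : B₀.map X.subtype = B := Subgroup.map_subgroupOf_eq_of_le hBX
  have hBA₀ : ⁅B₀, B₀⁆ ≤ A₀ := by
    rw [hA₀, Subgroup.subgroupOf, ← Subgroup.map_le_iff_le_comap, Subgroup.map_commutator, hmapB]
    exact hBA
  have hnot : ¬ B₀ ≤ Subgroup.normalizer (A₀ : Set X) := by
    intro hle
    refine hBnA fun b hb => H11.mem_normalizer_of_forall fun x hx => ?_
    have h : (⟨b, hBX hb⟩ : X) * ⟨x, hAX hx⟩ * (⟨b, hBX hb⟩ : X)⁻¹ ∈ A₀ :=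
      H11.conj_mem_of_mem_normalizer (hle (show (⟨b, hBX hb⟩ : X) ∈ B₀ from hb))
        (show (⟨x, hAX hx⟩ : X) ∈ A₀ from hx)
    exact h
  obtain ⟨b, hb, hbN, hbA⟩ := H11.exists_mem_normalizer_not_mem hS B₀ _ hnot
  obtain ⟨h1, h2, -, h4, -, -, h7, -, -, h10, h11⟩ :=
    H11.replacement hS B₀ (fun h => absurd h hp) A₀ hA₀c hBA₀ b hb hbN hbA
  set E := H11.repA b A₀ with hEdef
  have hcA : Nat.card A₀ = Nat.card A := Nat.card_congr (Subgroup.subgroupOfEquivOfLe hAX).toEquiv
  have hexpA : Monoid.exponent A₀ = Monoid.exponent A :=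
    Monoid.exponent_eq_of_mulEquiv (Subgroup.subgroupOfEquivOfLe hAX)
  let e := E.equivMapOfInjective X.subtype X.subtype_injective
  have hEc : IsMulCommutative ↥(E.map X.subtype) := by
    refine ⟨⟨fun u v => e.symm.injective ?_⟩⟩
    rw [map_mul, map_mul]
    exact h2.is_comm.comm _ _
  refine ⟨E.map X.subtype, hEc, ?_, ?_, ?_, ?_, ?_, ?_⟩
  · rw [← Nat.card_congr e.toEquiv, h1, hcA]
  · have h := (Subgroup.map_lt_map_iff_of_injective (f := X.subtype) X.subtype_injective).mpr h4
    rwa [Subgroup.map_inf _ _ _ X.subtype_injective, Subgroup.map_inf _ _ _ X.subtype_injective,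
      hmapA, hmapB] at h
  · rw [← hmapA]
    exact (Subgroup.map_mono h7).trans (Subgroup.le_normalizer_map _)
  · refine (Subgroup.map_mono h10).trans ?_
    rw [Subgroup.map_sup, hmapA]
    refine sup_le Subgroup.le_normalClosure ?_
    rintro _ ⟨_, ⟨x, hx, rfl⟩, rfl⟩
    exact (Subgroup.normalClosure_normal (s := (A : Set G))).conj_mem ((x : X) : G)
      (Subgroup.subset_normalClosure hx) ((b⁻¹ : X) : G)
  · rw [← Monoid.exponent_eq_of_mulEquiv e, ← hexpA]
    exact h11 hp
  · rw [H79.omegaOne_eq_pTorsion p A hA, H79.omegaOne_eq_pTorsion p _ hEc]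
    refine le_trans ?_ (le_trans (H79.card_pTorsion_le_repA hp hA₀c hbN h2) ?_)
    · exact Nat.card_le_card_of_injective
        (fun t : H79.pTorsion p A hA => (⟨⟨(t : G), hAX t.2.1⟩, t.2.1, Subtype.ext t.2.2⟩ :
          H79.pTorsion p A₀ hA₀c))
        (fun u v h => Subtype.ext (congrArg (fun t : H79.pTorsion p A₀ hA₀c => ((t : X) : G)) h))
    · exact Nat.card_le_card_of_injective
        (fun t : H79.pTorsion p E h2 => (⟨((t : X) : G), ⟨t, t.2.1, rfl⟩,
          congrArg Subtype.val t.2.2⟩ : H79.pTorsion p (E.map X.subtype) hEc))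
        (fun u v h => Subtype.ext (Subtype.ext
          (congrArg (fun t : H79.pTorsion p (E.map X.subtype) hEc => (t : G)) h)))

end Cfsg.Agent.S3078
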