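import Cfsg.Statements.S3084
import Cfsg.Agent.H79.CliffordLift

set_option autoImplicit false
open Cfsg

namespace Cfsg.Agent.S3084

/-- Let K be a group acting faithfully and linearly on a finite-dimensional vector space U of dimension 2n ≥ 2 over the field with two elements, preserving a quadratic form q whose polar bilinear form is non-degenerate and which vanishes on some n-dimensional subspace (a non-singular form of plus type). Then there is a finite group R with a normal extraspecial 2-subgroup Q of order 2^(2n+1), an isomorphism of R/Q with K, and a surjective homomorphism χ from Q onto (the additive group of) U with kernel the centre of Q, such that χ carries conjugation by any r in R to the action of the image of r in K, and an element a of Q squares to the identity exactly when q vanishes at χ(a). -/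
theorem result {K : Type*} [Group K] {U : Type*} [AddCommGroup U] [Module (ZMod 2) U] [Module.Finite (ZMod 2) U] (n : ℕ) (hn1 : 1 ≤ n) (hn : Module.finrank (ZMod 2) U = 2 * n) (ρ : Representation (ZMod 2) K U) (hρ : Function.Injective ρ) (q : QuadraticForm (ZMod 2) U) (hq : ∀ (k : K) (u : U), q (ρ k u) = q u) (hnd : (QuadraticMap.polarBilin q).Nondegenerate) (hplus : ∃ W : Submodule (ZMod 2) U, Module.finrank (ZMod 2) ↥W = n ∧ ∀ w ∈ W, q w = 0) : ∃ (R : Type) (_ : Group R) (_ : Finite R) (Q : Subgroup R) (hN : Q.Normal) (e : R ⧸ Q ≃* K) (χ : ↥Q →* Multiplicative U), Cfsg.IsExtraspecial 2 ↥Q ∧ Nat.card ↥Q = 2 ^ (2 * n + 1) ∧ Function.Surjective χ ∧ χ.ker = Subgroup.center ↥Q ∧ (∀ (r : R) (a : ↥Q), χ ⟨r * a * r⁻¹, hN.conj_mem (a : R) a.2 r⟩ = Multiplicative.ofAdd (ρ (e (r : R ⧸ Q)) (Multiplicative.toAdd (χ a)))) ∧ ∀ a : ↥Q, a * a = 1 ↔ q (Multiplicative.toAdd (χ a)) = 0 := by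
  classical
  obtain ⟨W, hW, hqW⟩ := hplus
  obtain ⟨ψ, hψ⟩ := H79.CliffordLift.exists_hyperbolic hn q hnd W hW hqW
  haveI : Fintype U := Fintype.ofEquiv _ ψ.toEquiv.symm
  haveI : Nontrivial U := Module.nontrivial_of_finrank_pos (R := ZMod 2) (by omega)
  let β : LinearMap.BilinForm (ZMod 2) U := LinearMap.mk₂ (ZMod 2)
    (fun u v => H79.CliffordLift.beta (ψ u) (ψ v))
    (fun u u' v => by simp [H79.CliffordLift.beta, add_dotProduct])
    (fun c u v => by simp [H79.CliffordLift.beta, smul_dotProduct])
    (fun u v v' => by simp [H79.CliffordLift.beta, dotProduct_add])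
    (fun c u v => by simp [H79.CliffordLift.beta, dotProduct_smul])
  obtain ⟨R, iG, iF, Q, hN, e, χ, hE, hc, hs, hk, hconj, hsq⟩ :=
    H79.CliffordLift.exists_lift ρ hρ q hq hnd β hψ (fun u => H79.CliffordLift.pauli (ψ u))
      (H79.CliffordLift.pauli_linearIndependent.comp ψ ψ.injective)
      (by
        rw [show (fun u => H79.CliffordLift.pauli (ψ u)) = H79.CliffordLift.pauli ∘ ψ from rfl,
          ψ.surjective.range_comp]
        exact H79.CliffordLift.span_pauli)
      (fun u v => by rw [H79.CliffordLift.pauli_mul, map_add]; rfl)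
      (by rw [map_zero, H79.CliffordLift.pauli_zero])
  refine ⟨R, iG, iF, Q, hN, e, χ, hE, ?_, hs, hk, hconj, hsq⟩
  rw [hc, Module.natCard_eq_pow_finrank (K := ZMod 2), hn, Nat.card_zmod, pow_succ']

end Cfsg.Agent.S3084
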