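import Cfsg.Statements.S3087
import Mathlib.GroupTheory.Index
import Mathlib.GroupTheory.QuotientGroup.Basic
import Mathlib.Tactic.Ring
-- import your own Cfsg.Agent.* helpers here

set_option autoImplicit false
open Cfsg

namespace Cfsg.Agent.S3087

/-- Let p be a prime, G a finite group acting linearly on a finite vector space V over the field with p elements, W a G-invariant subspace, and A a subgroup of G with |A|·|C_V(A)| ≥ |B|·|C_V(B)| for every subgroup B of A. Then |A|·|C_W(A)| ≥ |B|·|C_W(B)| for every subgroup B of A that contains C_A(W); that is, the image of A in the group induced on W satisfies the same maximality condition. -/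
theorem result {G V : Type*} [Group G] [Finite G] [AddCommGroup V] [Finite V] (p : ℕ) [Fact p.Prime] [Module (ZMod p) V]
    (ρ : Representation (ZMod p) G V) (W : Submodule (ZMod p) V) (hW : ∀ g : G, ∀ w ∈ W, ρ g w ∈ W)
    (A : Subgroup G)
    (hP : ∀ B : Subgroup G, B ≤ A →
      Nat.card ↥B * Nat.card {v : V // ∀ b ∈ B, ρ b v = v} ≤ Nat.card ↥A * Nat.card {v : V // ∀ a ∈ A, ρ a v = v})
    (B : Subgroup G) (hBA : B ≤ A) (hCB : ∀ a ∈ A, (∀ w ∈ W, ρ a w = w) → a ∈ B) :
    Nat.card ↥B * Nat.card {w : W // ∀ b ∈ B, ρ b w = w} ≤ Nat.card ↥A * Nat.card {w : W // ∀ a ∈ A, ρ a w = w} := by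
  let FV : Subgroup G → AddSubgroup V := fun C =>
    { carrier := {v | ∀ c ∈ C, ρ c v = v}
      add_mem' := by intro a b ha hb c hc; simp [map_add, ha c hc, hb c hc]
      zero_mem' := by intro c hc; simp
      neg_mem' := by intro a ha c hc; simp [map_neg, ha c hc] }
  let FW : Subgroup G → AddSubgroup V := fun C => FV C ⊓ W.toAddSubgroup
  have hFW : ∀ C, Nat.card {w : W // ∀ c ∈ C, ρ c w = w} = Nat.card (FW C) := fun C =>
    Nat.card_congr
      { toFun := fun w => ⟨(w.1 : V), w.2, w.1.2⟩
        invFun := fun v => ⟨⟨v.1, v.2.2⟩, v.2.1⟩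
        left_inv := fun w => rfl
        right_inv := fun v => rfl }
  have hFV : ∀ C, Nat.card {v : V // ∀ c ∈ C, ρ c v = v} = Nat.card (FV C) := fun C => rfl
  have hmono : ∀ v ∈ FV A, v ∈ FV B := fun v hv c hc => hv c (hBA hc)
  let f : (FV A) × (FW B) →+ (FV B) :=
    { toFun := fun x => ⟨(x.1 : V) + (x.2 : V), (FV B).add_mem (hmono _ x.1.2) x.2.2.1⟩
      map_zero' := by ext; simp
      map_add' := by intro x y; ext; simp [add_add_add_comm] }
  have hker : Nat.card f.ker ≤ Nat.card (FW A) := by
    refine Nat.card_le_card_of_injective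
      (fun k => ⟨(k.1.1 : V), k.1.1.2, ?_⟩) ?_
    · have h : (k.1.1 : V) + (k.1.2 : V) = 0 := congrArg Subtype.val k.2
      have : (k.1.1 : V) = -(k.1.2 : V) := eq_neg_of_add_eq_zero_left h
      rw [this]
      exact W.neg_mem k.1.2.2.2
    · intro k l hkl
      have h1 : (k.1.1 : V) = (l.1.1 : V) := congrArg (fun t : FW A => (t : V)) hkl
      have hk : (k.1.1 : V) + (k.1.2 : V) = 0 := congrArg Subtype.val k.2
      have hl : (l.1.1 : V) + (l.1.2 : V) = 0 := congrArg Subtype.val l.2
      apply Subtype.ext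
      apply Prod.ext
      · exact Subtype.ext h1
      · apply Subtype.ext
        rw [h1] at hk
        exact add_left_cancel (hk.trans hl.symm)
  have hcard : Nat.card (FV A) * Nat.card (FW B) = Nat.card f.range * Nat.card f.ker := by
    rw [← Nat.card_prod, AddSubgroup.card_eq_card_quotient_mul_card_addSubgroup f.ker]
    rw [Nat.card_congr (QuotientAddGroup.quotientKerEquivRange f).toEquiv]
  have hrange : Nat.card f.range ≤ Nat.card (FV B) :=
    Nat.card_le_card_of_injective _ Subtype.val_injective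
  have hkey : Nat.card (FV A) * Nat.card (FW B) ≤ Nat.card (FV B) * Nat.card (FW A) :=
    hcard.le.trans (Nat.mul_le_mul hrange hker)
  have h1 := hP B hBA
  rw [hFV, hFV] at h1
  rw [hFW, hFW]
  have hpos : 0 < Nat.card (FV A) := Nat.card_pos
  refine Nat.le_of_mul_le_mul_left ?_ hpos
  calc Nat.card (FV A) * (Nat.card B * Nat.card (FW B))
      = Nat.card B * (Nat.card (FV A) * Nat.card (FW B)) := by ring
    _ ≤ Nat.card B * (Nat.card (FV B) * Nat.card (FW A)) := Nat.mul_le_mul le_rfl hkey
    _ = (Nat.card B * Nat.card (FV B)) * Nat.card (FW A) := by ring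
    _ ≤ (Nat.card A * Nat.card (FV A)) * Nat.card (FW A) := Nat.mul_le_mul h1 le_rfl
    _ = Nat.card (FV A) * (Nat.card A * Nat.card (FW A)) := by ring

end Cfsg.Agent.S3087
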