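import Cfsg.Statements.S3103
import Cfsg.Agent.H37.SmallIsoBig
import Cfsg.Agent.H11.PConstrained
import Cfsg.Agent.H31.InvariantMax
import Cfsg.Agent.H1.CoprimeAction2
import Cfsg.Agent.CompPComp
import Mathlib

set_option autoImplicit false
open Cfsg

namespace Cfsg.Agent.S3103

theorem H69_zmod2 : ∀ a b : ZMod 2, a * b = 1 → a = 1 := by decide

/-- Automorphisms of an elementary abelian group of order at most `16` inside `A₈`. -/
theorem H69_embed_A8 {V : Type*} [Group V] [Finite V] (hV : ∀ v : V, v * v = 1)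
    (hcard : Nat.card V ≤ 16) :
    ∃ f : MulAut V →* ↥(alternatingGroup (Fin 8)), Function.Injective f := by
  have : Fact (Nat.Prime 2) := ⟨Nat.prime_two⟩
  have hi : ∀ v : V, v⁻¹ = v := fun v => inv_eq_of_mul_eq_one_right (hV v)
  letI : CommGroup V :=
    { (inferInstance : Group V) with
      mul_comm := fun u v => by
        calc u * v = (u * v)⁻¹ := (hi _).symm
          _ = v * u := by rw [mul_inv_rev, hi, hi] }
  letI : Module (ZMod 2) (Additive V) := AddCommGroup.zmodModule (fun x => by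
    rw [two_nsmul]; exact hV x.toMul)
  have : Module.Finite (ZMod 2) (Additive V) := Module.Finite.of_finite
  set d := Module.finrank (ZMod 2) (Additive V) with hd
  have hd4 : d ≤ 4 := by
    have h := Module.natCard_eq_pow_finrank (K := ZMod 2) (V := Additive V)
    rw [Nat.card_zmod, Nat.card_congr (Additive.toMul (α := V))] at h
    exact (Nat.pow_le_pow_iff_right (by norm_num : 1 < 2)).1 (h ▸ hcard : 2 ^ d ≤ 2 ^ 4)
  have e : (Additive V × (Fin (4 - d) → ZMod 2)) ≃ₗ[ZMod 2] (Fin 4 → ZMod 2) :=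
    LinearEquiv.ofFinrankEq _ _ (by simp [Module.finrank_prod, ← hd]; omega)
  let lin : MulAut V → ((Additive V) →ₗ[ZMod 2] (Additive V)) := fun φ =>
    (MonoidHom.toAdditive φ.toMonoidHom).toZModLinearMap 2
  let m : MulAut V →* Matrix (Fin 4) (Fin 4) (ZMod 2) :=
    { toFun := fun φ => LinearMap.toMatrix' ((e.toLinearMap ∘ₗ (lin φ).prodMap LinearMap.id) ∘ₗ e.symm.toLinearMap)
      map_one' := by
        rw [show (e.toLinearMap ∘ₗ (lin 1).prodMap LinearMap.id) ∘ₗ e.symm.toLinearMap = LinearMap.id from ?_,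
          LinearMap.toMatrix'_id]
        refine LinearMap.ext fun x => ?_
        show e ((lin 1) (e.symm x).1, (e.symm x).2) = x
        exact e.apply_symm_apply x
      map_mul' := fun φ ψ => by
        rw [← LinearMap.toMatrix'_comp]
        congr 1
        refine LinearMap.ext fun x => ?_
        show e ((lin (φ * ψ)) (e.symm x).1, (e.symm x).2) =
          e ((lin φ) (e.symm (e ((lin ψ) (e.symm x).1, (e.symm x).2))).1,
            (e.symm (e ((lin ψ) (e.symm x).1, (e.symm x).2))).2)
        rw [e.symm_apply_apply]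
        rfl }
  have hdet : ∀ φ, (m φ).det = 1 := fun φ => by
    have h : (m φ).det * (m φ⁻¹).det = 1 := by
      rw [← Matrix.det_mul, ← map_mul, mul_inv_cancel, map_one, Matrix.det_one]
    exact H69_zmod2 _ _ h
  let s : MulAut V →* Matrix.SpecialLinearGroup (Fin 4) (ZMod 2) :=
    { toFun := fun φ => ⟨m φ, hdet φ⟩
      map_one' := Subtype.ext (map_one m)
      map_mul' := fun φ ψ => Subtype.ext (map_mul m φ ψ) }
  have hs : Function.Injective s := by
    intro φ ψ h
    have hm : m φ = m ψ := congrArg Subtype.val h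
    have hl := LinearMap.toMatrix'.injective hm
    refine MulEquiv.ext fun v => ?_
    have h2 := LinearMap.congr_fun hl (e (Additive.ofMul v, 0))
    change e ((lin φ) (e.symm (e (Additive.ofMul v, 0))).1, (e.symm (e (Additive.ofMul v, 0))).2) =
      e ((lin ψ) (e.symm (e (Additive.ofMul v, 0))).1, (e.symm (e (Additive.ofMul v, 0))).2) at h2
    rw [e.symm_apply_apply] at h2
    exact (Prod.mk.inj (e.injective h2)).1
  obtain ⟨ψ⟩ := H37.PSL4_two_mulEquiv_alternating (F := ZMod 2) (ZMod.card 2)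
  have hc : Subgroup.center (Matrix.SpecialLinearGroup (Fin 4) (ZMod 2)) = ⊥ := by
    rw [← Subgroup.card_eq_one, H37.card_center_SL]; simp
  have hmk : Function.Injective
      (QuotientGroup.mk' (Subgroup.center (Matrix.SpecialLinearGroup (Fin 4) (ZMod 2)))) :=
    (MonoidHom.ker_eq_bot_iff _).1 (by rw [QuotientGroup.ker_mk', hc])
  exact ⟨ψ.toMonoidHom.comp ((QuotientGroup.mk' _).comp s), fun a b h => hs (hmk (ψ.injective h))⟩


/-- Let X be a finite 2-constrained group with no nontrivial normal subgroup of odd order such that O₂(X) has sectional 2-rank at most 4. Then X/O₂(X) is isomorphic to a subgroup of the alternating group of degree 8. -/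
theorem result {X : Type*} [Group X] [Finite X] (hc : Cfsg.IsPConstrained 2 X) (hO : Cfsg.oddCore X = ⊥)
    (h4 : Cfsg.SectionalPRankLE 2 4 ↥(Cfsg.pCore 2 X)) :
    ∃ f : X ⧸ Cfsg.pCore 2 X →* ↥(alternatingGroup (Fin 8)), Function.Injective f := by
  have := Fact.mk Nat.prime_two
  set Q := Cfsg.pCore 2 X with hQ
  have hQ2 : IsPGroup 2 Q := Cfsg.Comp.pCore_isPGroup 2
  have hCQ : Subgroup.centralizer (Q : Set X) ≤ Q :=
    (H11.isPConstrained_iff_of_hom (MonoidHom.id X) (fun x => ⟨x, rfl⟩)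
      (by rw [MonoidHom.ker_id]; exact hO.symm)).1 hc
  set Φ := frattini Q
  have hsq : ∀ v : Q ⧸ Φ, v * v = 1 := by
    intro v
    obtain ⟨x, rfl⟩ := QuotientGroup.mk'_surjective Φ v
    rw [← map_mul, QuotientGroup.mk'_apply, QuotientGroup.eq_one_iff, ← sq]
    exact H31.pow_mem_frattini hQ2 x
  have hcard : Nat.card (Q ⧸ Φ) ≤ 16 := by
    have hsur : Function.Surjective ((QuotientGroup.mk' Φ).comp (⊤ : Subgroup Q).subtype) := by
      intro v
      obtain ⟨x, rfl⟩ := QuotientGroup.mk'_surjective Φ v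
      exact ⟨⟨x, Subgroup.mem_top x⟩, rfl⟩
    set N := ((QuotientGroup.mk' Φ).comp (⊤ : Subgroup Q).subtype).ker
    set e := QuotientGroup.quotientKerEquivOfSurjective _ hsur
    have hsq' : ∀ v : ↥(⊤ : Subgroup Q) ⧸ N, v * v = 1 := fun v =>
      e.injective (by rw [map_mul, hsq, map_one])
    have h := h4 ⊤ N ⊤ ⟨⟨fun u v => Subtype.ext (by
        have hi : ∀ a : ↥(⊤ : Subgroup Q) ⧸ N, a⁻¹ = a := fun a =>
          inv_eq_of_mul_eq_one_right (hsq' a)
        calc (u : ↥(⊤ : Subgroup Q) ⧸ N) * v = ((u : ↥(⊤ : Subgroup Q) ⧸ N) * v)⁻¹ := (hi _).symm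
          _ = v * u := by rw [mul_inv_rev, hi, hi])⟩⟩ (fun v _ => by rw [sq]; exact hsq' v)
    rw [Subgroup.card_top, Nat.card_congr e.toEquiv] at h
    exact h
  obtain ⟨f, hf⟩ := H69_embed_A8 hsq hcard
  let act : X →* MulAut (Q ⧸ Φ) :=
    { toFun := fun x => QuotientGroup.congr Φ Φ (MulAut.conjNormal x)
        (Subgroup.characteristic_iff_map_eq.1 (inferInstance : Φ.Characteristic) _)
      map_one' := by
        refine MulEquiv.ext fun v => ?_
        obtain ⟨q, rfl⟩ := QuotientGroup.mk'_surjective Φ v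
        simp
      map_mul' := fun x y => by
        refine MulEquiv.ext fun v => ?_
        obtain ⟨q, rfl⟩ := QuotientGroup.mk'_surjective Φ v
        show (QuotientGroup.mk (MulAut.conjNormal (x * y) q) : Q ⧸ Φ) =
          QuotientGroup.mk (MulAut.conjNormal x (MulAut.conjNormal y q))
        rw [map_mul]; rfl }
  have hker : act.ker = Q := by
    refine le_antisymm ?_ fun x hx => ?_
    · refine Cfsg.Comp.le_pCore inferInstance ?_
      intro ⟨x, hx⟩
      obtain ⟨k, r, hr, hord⟩ := Nat.exists_eq_pow_mul_and_not_dvd (orderOf_pos x).ne' 2 (by norm_num)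
      have hy : x ^ 2 ^ k ∈ act.ker := pow_mem hx _
      have hyo : orderOf (x ^ 2 ^ k) = r := by
        rw [orderOf_pow' _ (by positivity), hord, Nat.gcd_eq_right (dvd_mul_right _ _),
          Nat.mul_div_cancel_left _ (by positivity)]
      have hyC : Subgroup.zpowers (x ^ 2 ^ k) ≤ Subgroup.centralizer (Q : Set X) := by
        refine H1.le_centralizer_of_frattini (Cfsg.Comp.le_normalizer_of_normal) ?_ ?_
        · rw [Nat.card_zpowers, hyo]
          obtain ⟨j, hj⟩ := IsPGroup.iff_card.1 (hQ2.to_subgroup (frattini Q))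
          rw [hj]
          exact ((Nat.prime_two.coprime_iff_not_dvd.2 hr).symm).pow_right j
        · intro a ha q hq
          have hak : a ∈ act.ker := (Subgroup.zpowers_le.2 hy) ha
          have h := congrArg (fun φ : MulAut (Q ⧸ Φ) => φ (QuotientGroup.mk ⟨q, hq⟩))
            (MonoidHom.mem_ker.1 hak)
          have h' : (QuotientGroup.mk (MulAut.conjNormal a ⟨q, hq⟩) : Q ⧸ Φ) =
              QuotientGroup.mk ⟨q, hq⟩ := h
          have h'' := QuotientGroup.eq.1 h'.symm
          refine ⟨⟨q, hq⟩ * ((⟨q, hq⟩ : Q)⁻¹ * MulAut.conjNormal a ⟨q, hq⟩) * (⟨q, hq⟩ : Q)⁻¹,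
            (inferInstance : Φ.Normal).conj_mem _ h'' _, ?_⟩
          simp [mul_assoc]
      obtain ⟨j, hj⟩ := hQ2 ⟨x ^ 2 ^ k, hCQ (hyC (Subgroup.mem_zpowers _))⟩
      have hj' : (x ^ 2 ^ k) ^ 2 ^ j = 1 := congrArg Subtype.val hj
      exact ⟨k + j, Subtype.ext (by rw [pow_add, pow_mul]; exact hj')⟩
    · refine MonoidHom.mem_ker.2 (MulEquiv.ext fun v => ?_)
      obtain ⟨q, rfl⟩ := QuotientGroup.mk'_surjective Φ v
      show (QuotientGroup.mk (MulAut.conjNormal x q) : Q ⧸ Φ) = QuotientGroup.mk q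
      refine QuotientGroup.eq.2 ?_
      have h := H31.commutator_le_frattini hQ2
        (Subgroup.commutator_mem_commutator (Subgroup.mem_top (⟨x, hx⟩ : Q)) (Subgroup.mem_top q⁻¹))
      have e : (MulAut.conjNormal x q)⁻¹ * q =
          (⟨x, hx⟩ : Q) * q⁻¹ * (⟨x, hx⟩ : Q)⁻¹ * (q⁻¹)⁻¹ := by
        apply Subtype.ext
        simp [MulAut.conjNormal_apply, mul_assoc]
      rw [e]
      exact h
  refine ⟨f.comp (QuotientGroup.lift Q act hker.ge), hf.comp ?_⟩
  rw [← MonoidHom.ker_eq_bot_iff, QuotientGroup.ker_lift, hker, QuotientGroup.map_mk'_self]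

end Cfsg.Agent.S3103
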