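import Cfsg.Statements.S3104
import Cfsg.Agent.H69.RadicalRep
import Cfsg.Agent.H41.A8Sub
import Cfsg.Agent.H26.PermEight
import Cfsg.Agent.S0495
import Cfsg.Agent.S0496
import Cfsg.Agent.H59.A5Char
import Cfsg.Agent.H1.Cores
import Cfsg.Agent.H37.SmallIsoBig

set_option autoImplicit false
open Cfsg

namespace Cfsg.Agent.S3104

open H69.RadicalRep Equiv
open scoped Matrix

theorem H69_odd_solvable : ∀ (m : ℕ) (G : Type) [Group G] [Finite G], Nat.card G = m → m ≤ 1092 → ¬ 2 ∣ m →
    Group.IsSolvable G := by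
  intro m
  induction m using Nat.strong_induction_on with
  | _ m ih =>
    intro G _ _ hm hle hodd
    rcases subsingleton_or_nontrivial G with hs | hn
    · exact Group.isSolvable_of_comm fun a b => Subsingleton.elim _ _
    by_cases hN : ∃ N : Subgroup G, N.Normal ∧ N ≠ ⊥ ∧ N ≠ ⊤
    · obtain ⟨N, hN, h1, h2⟩ := hN
      have hmul := Subgroup.card_eq_card_quotient_mul_card_subgroup N
      have hN1 : 1 < Nat.card N := (Subgroup.one_lt_card_iff_ne_bot N).2 h1
      have hq1 : 1 < Nat.card (G ⧸ N) := Nat.one_lt_iff_ne_zero_and_ne_one.2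
        ⟨Nat.card_pos.ne', fun e => h2 (Subgroup.index_eq_one.1 e)⟩
      haveI := ih (Nat.card N) (by rw [← hm, hmul]; nlinarith) N rfl
        (le_trans (by rw [← hm]; exact N.card_le_card_group) hle)
        (fun hd => hodd (hm ▸ hd.trans N.card_subgroup_dvd_card))
      haveI := ih (Nat.card (G ⧸ N)) (by rw [← hm, hmul]; nlinarith) (G ⧸ N) rfl
        (le_trans (by rw [← hm, hmul]; exact Nat.le_mul_of_pos_right _ Nat.card_pos) hle)
        (fun hd => hodd (hm ▸ hd.trans N.card_quotient_dvd_card))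
      exact Group.isSolvable_of_ker_le_range N.subtype (QuotientGroup.mk' N)
        (by rw [QuotientGroup.ker_mk', Subgroup.range_subtype])
    · push Not at hN
      haveI : IsSimpleGroup G := ⟨fun N hN' => by
        by_cases h : N = ⊥
        · exact Or.inl h
        · exact Or.inr (hN N hN' h)⟩
      refine Group.isSolvable_of_comm ?_
      by_contra hab
      rcases Cfsg.Agent.S0496.result (G := G) (fun hc => hab fun a b => hc.is_comm.comm a b) (hm ▸ hle) with
        e | e | e | e | e | e <;> exact hodd (by rw [← hm, e]; norm_num)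

theorem H69_cent_card {g : Perm (Fin 8)} {l : List ℕ} (h : g.cycleType = (l : Multiset ℕ)) :
    Nat.card (Subgroup.centralizer ({g} : Set (Perm (Fin 8)))) =
      (8 - (l : Multiset ℕ).sum).factorial * (l : Multiset ℕ).prod *
        (∏ n ∈ (l : Multiset ℕ).toFinset, ((l : Multiset ℕ).count n).factorial) := by
  rw [Equiv.Perm.nat_card_centralizer, h, Fintype.card_fin]

theorem H69_cent_five {g : Perm (Fin 8)} (h : orderOf g = 5) :
    Nat.card (Subgroup.centralizer ({g} : Set (Perm (Fin 8)))) = 30 := by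
  obtain ⟨l, hl, hlg⟩ := H26.J2S.cycleType_cases g
  have hlcm := Equiv.Perm.lcm_cycleType g
  rw [hlg, h] at hlcm
  rw [H69_cent_card hlg]
  revert hlcm
  revert hl l
  rw [show (∀ l : List ℕ, l ∈ H63.allTypes 8 8 → g.cycleType = (l : Multiset ℕ) → (l : Multiset ℕ).lcm = 5 →
    (8 - (l : Multiset ℕ).sum).factorial * (l : Multiset ℕ).prod *
        (∏ n ∈ (l : Multiset ℕ).toFinset, ((l : Multiset ℕ).count n).factorial) = 30) ↔ True from
    iff_true_intro fun l hl _ => (show ∀ l ∈ H63.allTypes 8 8, (l : Multiset ℕ).lcm = 5 →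
      (8 - (l : Multiset ℕ).sum).factorial * (l : Multiset ℕ).prod *
        (∏ n ∈ (l : Multiset ℕ).toFinset, ((l : Multiset ℕ).count n).factorial) = 30 by decide +kernel) l hl]
  trivial

theorem H69_cent_seven {g : Perm (Fin 8)} (h : orderOf g = 7) :
    Nat.card (Subgroup.centralizer ({g} : Set (Perm (Fin 8)))) = 7 := by
  obtain ⟨l, hl, hlg⟩ := H26.J2S.cycleType_cases g
  have hlcm := Equiv.Perm.lcm_cycleType g
  rw [hlg, h] at hlcm
  rw [H69_cent_card hlg]
  exact (show ∀ l ∈ H63.allTypes 8 8, (l : Multiset ℕ).lcm = 7 →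
      (8 - (l : Multiset ℕ).sum).factorial * (l : Multiset ℕ).prod *
        (∏ n ∈ (l : Multiset ℕ).toFinset, ((l : Multiset ℕ).count n).factorial) = 7 by decide +kernel) l hl hlcm

theorem H69_three_cases {g : Perm (Fin 8)} (h : orderOf g = 3) :
    g.support.card = 3 ∨ ¬ 5 ∣ Nat.card (Subgroup.centralizer ({g} : Set (Perm (Fin 8)))) := by
  obtain ⟨l, hl, hlg⟩ := H26.J2S.cycleType_cases g
  have hlcm := Equiv.Perm.lcm_cycleType g
  rw [hlg, h] at hlcm
  rw [H69_cent_card hlg, ← Equiv.Perm.sum_cycleType, hlg]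
  exact (show ∀ l ∈ H63.allTypes 8 8, (l : Multiset ℕ).lcm = 3 → (l : Multiset ℕ).sum = 3 ∨
      ¬ 5 ∣ (8 - (l : Multiset ℕ).sum).factorial * (l : Multiset ℕ).prod *
        (∏ n ∈ (l : Multiset ℕ).toFinset, ((l : Multiset ℕ).count n).factorial) by decide +kernel) l hl hlcm

/-- Restriction of even permutations to an invariant set. -/
theorem H69_restrict {R : Subgroup (Perm (Fin 8))} (hA : R ≤ alternatingGroup (Fin 8)) (S : Finset (Fin 8))
    (hinv : ∀ g ∈ R, ∀ v, g v ∈ S ↔ v ∈ S) (hS : S.card ≤ 6) :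
    ∃ r : R →* Perm S, (∀ g : R, g ∈ r.ker ↔ ∀ v ∈ S, (g : Perm (Fin 8)) v = v) ∧
      Nat.card r.ker * 2 ∣ (8 - S.card).factorial := by
  classical
  let r : R →* Perm S :=
    { toFun := fun g => (g : Perm (Fin 8)).subtypePerm (hinv g g.2)
      map_one' := by ext; rfl
      map_mul' := fun a b => by ext; rfl }
  refine ⟨r, fun g => ?_, ?_⟩
  · rw [MonoidHom.mem_ker]
    exact ⟨fun h v hv => congrArg Subtype.val (Equiv.Perm.congr_fun h ⟨v, hv⟩),
      fun h => Equiv.ext fun v => Subtype.ext (h v v.2)⟩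
  let k : r.ker →* Perm {v // v ∉ S} :=
    { toFun := fun g => ((g : R) : Perm (Fin 8)).subtypePerm fun v => not_congr (hinv _ (g : R).2 v)
      map_one' := by ext; rfl
      map_mul' := fun a b => by ext; rfl }
  have hk : Function.Injective k := by
    intro a b hab
    refine Subtype.ext (Subtype.ext (Equiv.ext fun v => ?_))
    by_cases hv : v ∈ S
    · have h1 := congrArg Subtype.val (Equiv.Perm.congr_fun (MonoidHom.mem_ker.1 a.2) ⟨v, hv⟩)
      have h2 := congrArg Subtype.val (Equiv.Perm.congr_fun (MonoidHom.mem_ker.1 b.2) ⟨v, hv⟩)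
      exact h1.trans h2.symm
    · exact congrArg Subtype.val (Equiv.Perm.congr_fun hab ⟨v, hv⟩)
  have hle : k.range ≤ alternatingGroup {v // v ∉ S} := by
    rintro _ ⟨g, rfl⟩
    rw [Equiv.Perm.mem_alternatingGroup]
    show Equiv.Perm.sign (((g : R) : Perm (Fin 8)).subtypePerm (fun v => not_congr (hinv _ (g : R).2 v))) = 1
    refine (Equiv.Perm.sign_subtypePerm (p := fun x => x ∉ S) _ (fun v => not_congr (hinv _ (g : R).2 v)) fun x hx hxS => hx (congrArg Subtype.val
      (Equiv.Perm.congr_fun (MonoidHom.mem_ker.1 g.2) ⟨x, hxS⟩))).trans ?_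
    exact Equiv.Perm.mem_alternatingGroup.1 (hA (g : R).2)
  have hd := Subgroup.card_dvd_of_le hle
  rw [← Nat.card_congr (MonoidHom.ofInjective hk).toEquiv] at hd
  haveI : Nontrivial {v // v ∉ S} := Fintype.one_lt_card_iff_nontrivial.1 (by
    rw [Fintype.card_subtype_compl, Fintype.card_fin, Fintype.card_coe]; omega)
  have h2 := two_mul_nat_card_alternatingGroup (α := {v // v ∉ S})
  rw [Nat.card_perm, Nat.card_eq_fintype_card (α := {v // v ∉ S}), Fintype.card_subtype_compl, Fintype.card_fin,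
    Fintype.card_coe] at h2
  rw [← h2, mul_comm]
  exact mul_dvd_mul_left 2 hd

/-- The quotient is one of the listed groups. -/
theorem H69_list {G : Type*} [Group G] [Finite G] (φ : G →* Perm (Fin 8)) (hφ : Function.Injective φ)
    (hA : φ.range ≤ alternatingGroup (Fin 8)) (hns : ¬ Group.IsSolvable G) (h2 : Cfsg.pCore 2 G = ⊥) :
    (∃ (F : Type) (_ : Field F) (_ : Fintype F), Fintype.card F = 2 ∧
          Nonempty (G ≃* Matrix.ProjectiveSpecialLinearGroup (Fin 3) F)) ∨
        (∃ n : ℕ, 5 ≤ n ∧ n ≤ 8 ∧ Nonempty (G ≃* ↥(alternatingGroup (Fin n)))) ∨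
        (∃ n : ℕ, 5 ≤ n ∧ n ≤ 7 ∧ Nonempty (G ≃* Equiv.Perm (Fin n))) ∨
        (Nat.card ↥(Cfsg.pCore 3 G) = 3 ∧
          (Nonempty (G ⧸ Cfsg.pCore 3 G ≃* ↥(alternatingGroup (Fin 5))) ∨
            Nonempty (G ⧸ Cfsg.pCore 3 G ≃* Equiv.Perm (Fin 5)))) := by
  classical
  haveI : Fact (Nat.Prime 2) := ⟨Nat.prime_two⟩
  haveI : Fact (Nat.Prime 3) := ⟨Nat.prime_three⟩
  let e : G ≃* φ.range := MonoidHom.ofInjective hφ
  have hR2 : Cfsg.pCore 2 φ.range = ⊥ := by
    rw [← H1.map_pCore_equiv 2 e, h2, Subgroup.map_bot]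
  haveI hne : Nontrivial G := not_subsingleton_iff_nontrivial.1 fun hs =>
    hns (Group.isSolvable_of_comm fun a b => Subsingleton.elim _ _)
  haveI : Nontrivial φ.range := e.symm.toEquiv.nontrivial
  set R := φ.range with hRdef
  have hnsR : ¬ Group.IsSolvable R := fun h => hns (Group.isSolvable_of_isSolvable_injective (f := e.toMonoidHom) e.injective)
  by_cases hK : Cfsg.pPrimeCore 2 R = ⊥
  · have hR := H41.radFree_of_cores hK hR2
    by_cases h5 : 5 ∣ Nat.card R <;> by_cases h7 : 7 ∣ Nat.card R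
    · rcases H41.A8.five_seven hA h5 h7 with ⟨⟨χ⟩⟩ | ⟨⟨χ⟩⟩
      · exact Or.inr (Or.inl ⟨8, by norm_num, le_rfl, ⟨e.trans χ⟩⟩)
      · exact Or.inr (Or.inl ⟨7, by norm_num, by norm_num, ⟨e.trans χ⟩⟩)
    · rcases H41.A8.five_only hA hR h5 h7 with ⟨⟨χ⟩⟩ | ⟨⟨χ⟩⟩ | ⟨⟨χ⟩⟩ | ⟨⟨χ⟩⟩
      · exact Or.inr (Or.inl ⟨5, le_rfl, by norm_num, ⟨e.trans χ⟩⟩)
      · exact Or.inr (Or.inr (Or.inl ⟨5, le_rfl, by norm_num, ⟨e.trans χ⟩⟩))
      · exact Or.inr (Or.inl ⟨6, by norm_num, by norm_num, ⟨e.trans χ⟩⟩)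
      · exact Or.inr (Or.inr (Or.inl ⟨6, by norm_num, by norm_num, ⟨e.trans χ⟩⟩))
    · obtain ⟨h168, hs⟩ := H41.A8.seven_only hA hR h5 h7
      haveI := hs
      haveI : Fact (Nat.Prime 7) := ⟨by norm_num⟩
      obtain ⟨χ⟩ := Cfsg.Agent.S0495.result (G := R) h168 (F := ZMod 7) (ZMod.card 7)
      obtain ⟨χ'⟩ := H37.PSL2_seven_mulEquiv_PSL3_two (F := ZMod 7) (K := ZMod 2) (ZMod.card 7) (ZMod.card 2)
      exact Or.inl ⟨ZMod 2, inferInstance, inferInstance, ZMod.card 2, ⟨(e.trans χ).trans χ'⟩⟩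
    · exact (hnsR (H41.A8.solvable_of_dvd (H41.A8.card_dvd hA) h5 h7)).elim
  -- a normal subgroup of odd order
  right; right; right
  set K := Cfsg.pPrimeCore 2 R with hKdef
  haveI : K.Normal := H1.pPrimeCore_normal' 2 R
  have hKodd : ¬ 2 ∣ Nat.card K := Cfsg.Comp.not_dvd_card_pPrimeCore 2
  have hKd : Nat.card K ∣ 315 := by
    have h1 : Nat.card K ∣ 64 * 315 := K.card_subgroup_dvd_card.trans (H41.A8.card_dvd hA)
    exact ((Nat.Coprime.pow_left 6 (Nat.prime_two.coprime_iff_not_dvd.2 hKodd)).symm :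
      Nat.Coprime (Nat.card K) 64).dvd_of_dvd_mul_left h1
  have hKs : Group.IsSolvable K := H69_odd_solvable _ _ rfl (le_trans (Nat.le_of_dvd (by norm_num) hKd) (by norm_num)) hKodd
  haveI := hKs
  have hquot : ∀ N : Subgroup R, K ⊔ N = ⊤ → Group.IsSolvable N → False := by
    intro N hKN hN
    refine hnsR (Group.isSolvable_of_ker_le_range K.subtype (QuotientGroup.mk' K)
      (by rw [QuotientGroup.ker_mk', Subgroup.range_subtype]) (hG'' := ?_))
    have hs : Function.Surjective ((QuotientGroup.mk' K).comp N.subtype) := by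
      rw [← MonoidHom.range_eq_top, MonoidHom.range_comp, Subgroup.range_subtype]
      have := congrArg (Subgroup.map (QuotientGroup.mk' K)) hKN
      rw [Subgroup.map_sup, QuotientGroup.map_mk'_self, bot_sup_eq,
        Subgroup.map_top_of_surjective _ (QuotientGroup.mk'_surjective K)] at this
      exact this
    haveI := hN
    exact Group.isSolvable_of_surjective hs
  have hcentR : ∀ g : R, Nat.card (Subgroup.centralizer ({g} : Set R)) ∣
      Nat.card (Subgroup.centralizer ({(g : Perm (Fin 8))} : Set (Perm (Fin 8)))) := by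
    intro g
    have hle : (Subgroup.centralizer ({g} : Set R)).map R.subtype ≤
        Subgroup.centralizer ({(g : Perm (Fin 8))} : Set (Perm (Fin 8))) := by
      rintro _ ⟨x, hx, rfl⟩
      rw [Subgroup.mem_centralizer_singleton_iff]
      exact congrArg Subtype.val (Subgroup.mem_centralizer_singleton_iff.1 hx)
    have := Subgroup.card_dvd_of_le hle
    rwa [Subgroup.card_map_of_injective R.subtype_injective] at this
  -- the prime five and seven do not divide it
  have hK57 : ∀ p : ℕ, p.Prime → (p = 5 ∨ p = 7) → ¬ p ∣ Nat.card K := by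
    intro p hp hp57 hdvd
    haveI := Fact.mk hp
    obtain ⟨P⟩ : Nonempty (Sylow p K) := inferInstance
    have hfr := Sylow.normalizer_sup_eq_top P
    set P' : Subgroup R := (P : Subgroup K).map K.subtype with hP'
    have hcardP : Nat.card P' = p := by
      rw [hP', Subgroup.card_map_of_injective K.subtype_injective, P.card_eq_multiplicity]
      have h1 : (Nat.card K).factorization p ≤ (315 : ℕ).factorization p :=
        (Nat.factorization_le_iff_dvd Nat.card_pos.ne' (by norm_num)).2 hKd p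
      have h2 : (315 : ℕ).factorization p = 1 := by
        rw [show (315 : ℕ) = p * (315 / p) by rcases hp57 with rfl | rfl <;> norm_num,
          Nat.factorization_mul hp.ne_zero (by rcases hp57 with rfl | rfl <;> norm_num), Finsupp.add_apply,
          hp.factorization_self, Nat.factorization_eq_zero_of_not_dvd
            (by rcases hp57 with rfl | rfl <;> norm_num), add_zero]
      have h3 : 0 < (Nat.card K).factorization p := hp.factorization_pos_of_dvd Nat.card_pos.ne' hdvd
      rw [show (Nat.card K).factorization p = 1 by omega, pow_one]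
    haveI : IsCyclic P' := isCyclic_of_prime_card hcardP
    obtain ⟨g, hg, hgo⟩ : ∃ g ∈ P', orderOf g = p := by
      obtain ⟨g, hg⟩ := exists_prime_orderOf_dvd_card' p (G := P') (by rw [hcardP])
      exact ⟨g, g.2, (Subgroup.orderOf_coe g).trans hg⟩
    have hC : Group.IsSolvable (Subgroup.centralizer (P' : Set R)) := by
      have hd : Nat.card (Subgroup.centralizer (P' : Set R)) ∣ (if p = 5 then 30 else 7) := by
        refine (Subgroup.card_dvd_of_le (Subgroup.centralizer_le (Set.singleton_subset_iff.2 hg))).trans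
          ((hcentR g).trans ?_)
        rcases hp57 with rfl | rfl
        · rw [if_pos rfl, H69_cent_five (by rw [Subgroup.orderOf_coe, hgo])]
        · rw [if_neg (by norm_num), H69_cent_seven (by rw [Subgroup.orderOf_coe, hgo])]
      rcases hp57 with rfl | rfl
      · rw [if_pos rfl] at hd
        exact H59.solvable_of_card (lt_of_le_of_lt (Nat.le_of_dvd (by norm_num) hd) (by norm_num))
          (hd.trans (by norm_num))
      · rw [if_neg (by norm_num)] at hd
        rcases (Nat.dvd_prime hp).1 hd with e1 | e1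
        · haveI := (Nat.card_eq_one_iff_unique.1 e1).1
          exact Group.isSolvable_of_comm fun a b => Subsingleton.elim _ _
        · haveI : IsCyclic (Subgroup.centralizer (P' : Set R)) := isCyclic_of_prime_card e1
          exact Group.isSolvable_of_comm mul_comm'
    refine hquot (Subgroup.normalizer (P' : Set R)) (by rw [sup_comm]; exact hfr) ?_
    haveI := hC
    let ν : Subgroup.normalizer (P' : Set R) →* MulAut P' := P'.normalizerMonoidHom
    have hker : ν.ker ≤ (Subgroup.inclusion (Subgroup.centralizer_le_normalizer (P' : Set R))).range := by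
      intro x hx
      rw [show ν.ker = (Subgroup.centralizer (P' : Set R)).subgroupOf _ from Subgroup.normalizerMonoidHom_ker P'] at hx
      exact ⟨⟨x, hx⟩, rfl⟩
    haveI : Group.IsSolvable (MulAut P') := by
      refine Group.isSolvable_of_comm fun a b => MulEquiv.ext fun x => ?_
      obtain ⟨ka, hka⟩ := MonoidHom.map_cyclic a.toMonoidHom
      obtain ⟨kb, hkb⟩ := MonoidHom.map_cyclic b.toMonoidHom
      show a (b x) = b (a x)
      have ha : ∀ y, a y = y ^ ka := hka
      have hb : ∀ y, b y = y ^ kb := hkb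
      rw [ha, hb, hb, ha, ← zpow_mul, ← zpow_mul, mul_comm]
    exact Group.isSolvable_of_ker_le_range _ ν hker
  have hKdvd9 : Nat.card K ∣ 9 := by
    have h1 : Nat.card K ∣ 9 * 35 := hKd
    refine Nat.Coprime.dvd_of_dvd_mul_right ?_ h1
    rw [show (35 : ℕ) = 5 * 7 from rfl]
    exact Nat.Coprime.mul_right (((by norm_num : Nat.Prime 5).coprime_iff_not_dvd.2 (hK57 5 (by norm_num) (Or.inl rfl))).symm)
      (((by norm_num : Nat.Prime 7).coprime_iff_not_dvd.2 (hK57 7 (by norm_num) (Or.inr rfl))).symm)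
  have hKne : Nat.card K ≠ 1 := fun h => hK ((Subgroup.card_eq_one).1 h)
  have hK3p : IsPGroup 3 K := IsPGroup.of_card (n := (Nat.card K).factorization 3) (by
    obtain ⟨i, hi, he⟩ := (Nat.dvd_prime_pow Nat.prime_three).1 (show Nat.card K ∣ 3 ^ 2 from hKdvd9)
    rw [he, Nat.prime_three.factorization_pow, Finsupp.single_eq_same])
  -- an element of order five or seven centralizing it
  have hcen : ∀ (p : ℕ) (y : R), p.Prime → (p = 5 ∨ p = 7) → orderOf y = p → ∀ k ∈ K, y * k = k * y := by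
    intro p y hp hp57 hy k hk
    haveI := Fact.mk hp
    let F : Subgroup K :=
      { carrier := {x | y * (x : R) = (x : R) * y}
        one_mem' := by simp
        mul_mem' := fun {a b} ha hb => (Commute.mul_right ha hb : Commute y ((a : R) * b))
        inv_mem' := fun {a} ha => (Commute.inv_right ha : Commute y (a : R)⁻¹) }
    have hmod : Nat.card F ≡ Nat.card K [MOD p] := by
      letI : MulAction (Subgroup.zpowers y) K :=
        MulAction.compHom K ((MulAut.conjNormal : R →* MulAut K).comp (Subgroup.zpowers y).subtype)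
      have hpg : IsPGroup p (Subgroup.zpowers y) :=
        IsPGroup.of_card (n := 1) (by rw [Nat.card_zpowers, hy, pow_one])
      refine Nat.ModEq.symm ((hpg.card_modEq_card_fixedPoints K).trans (show _ ≡ _ [MOD p] from congrArg (· % p) ?_))
      refine Nat.card_congr (Equiv.subtypeEquivRight fun x => ?_)
      rw [MulAction.mem_fixedPoints]
      constructor
      · intro h
        have h1 : (y * (x : R) * y⁻¹) = x := congrArg Subtype.val (h ⟨y, Subgroup.mem_zpowers y⟩)
        exact mul_inv_eq_iff_eq_mul.1 h1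
      · rintro h ⟨g, i, rfl⟩
        refine Subtype.ext ?_
        show y ^ i * (x : R) * (y ^ i)⁻¹ = x
        rw [((show Commute y (x : R) from h).zpow_left i).eq, mul_inv_cancel_right]
    have hFK : Nat.card F = Nat.card K := by
      have hFd := F.card_subgroup_dvd_card
      obtain ⟨i, hi, he⟩ := (Nat.dvd_prime_pow Nat.prime_three).1 (show Nat.card K ∣ 3 ^ 2 from hKdvd9)
      obtain ⟨j, hj, hej⟩ := (Nat.dvd_prime_pow Nat.prime_three).1 (he ▸ hFd)
      rw [he, hej] at hmod ⊢
      unfold Nat.ModEq at hmod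
      interval_cases i <;> interval_cases j <;> rcases hp57 with rfl | rfl <;> simp at hmod ⊢
    have hF : F = ⊤ := Subgroup.eq_top_of_card_eq F hFK
    exact (hF ▸ Subgroup.mem_top (⟨k, hk⟩ : K) : (⟨k, hk⟩ : K) ∈ F)
  obtain ⟨k, hk, hko⟩ : ∃ k ∈ K, orderOf k = 3 := by
    have h3 : 3 ∣ Nat.card K := by
      obtain ⟨i, hi, he⟩ := (Nat.dvd_prime_pow Nat.prime_three).1 (show Nat.card K ∣ 3 ^ 2 from hKdvd9)
      rcases Nat.eq_zero_or_pos i with rfl | hi0
      · exact absurd he hKne
      · rw [he]; exact dvd_pow_self 3 hi0.ne'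
    obtain ⟨k, hk⟩ := exists_prime_orderOf_dvd_card' 3 h3
    exact ⟨k, k.2, (Subgroup.orderOf_coe k).trans hk⟩
  have hkC : ∀ y : R, (∀ k ∈ K, y * k = k * y) → y ∈ Subgroup.centralizer ({k} : Set R) := fun y hy =>
    Subgroup.mem_centralizer_singleton_iff.2 (hy k hk)
  have hKC : ∀ y : R, (∀ k ∈ K, y * k = k * y) → K ≤ Subgroup.centralizer ({y} : Set R) := fun y hy x hx =>
    Subgroup.mem_centralizer_singleton_iff.2 (hy x hx).symm
  have h7 : ¬ 7 ∣ Nat.card R := fun h7 => by
    haveI : Fact (Nat.Prime 7) := ⟨by norm_num⟩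
    obtain ⟨y, hy⟩ := exists_prime_orderOf_dvd_card' 7 h7
    have h1 := ((Subgroup.card_dvd_of_le (hKC y (hcen 7 y (by norm_num) (Or.inr rfl) hy))).trans (hcentR y))
    rw [H69_cent_seven (by rw [Subgroup.orderOf_coe, hy])] at h1
    exact hKne (Nat.dvd_one.1 ((show Nat.gcd 7 9 = 1 by norm_num) ▸ Nat.dvd_gcd h1 hKdvd9))
  have h5 : 5 ∣ Nat.card R := by
    by_contra h5
    exact hnsR (H41.A8.solvable_of_dvd (H41.A8.card_dvd hA) h5 h7)
  haveI : Fact (Nat.Prime 5) := ⟨by norm_num⟩
  obtain ⟨y, hy⟩ := exists_prime_orderOf_dvd_card' 5 h5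
  have hyc := hcen 5 y (by norm_num) (Or.inl rfl) hy
  have hK3 : Nat.card K = 3 := by
    have h1 := (Subgroup.card_dvd_of_le (hKC y hyc)).trans (hcentR y)
    rw [H69_cent_five (by rw [Subgroup.orderOf_coe, hy])] at h1
    have h2 : Nat.card K ∣ 3 := (show Nat.gcd 30 9 = 3 by norm_num) ▸ Nat.dvd_gcd h1 hKdvd9
    exact ((Nat.dvd_prime Nat.prime_three).1 h2).resolve_left hKne
  have hKz : K = Subgroup.zpowers k := (Subgroup.eq_of_le_of_card_ge (Subgroup.zpowers_le.2 hk)
    (by rw [Nat.card_zpowers, hko, hK3])).symm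
  have hT : (k : Perm (Fin 8)).support.card = 3 := by
    refine (H69_three_cases (by rw [Subgroup.orderOf_coe, hko])).resolve_right fun h => h ?_
    refine (?_ : 5 ∣ Nat.card (Subgroup.centralizer ({k} : Set R))).trans (hcentR k)
    rw [← hy, ← Subgroup.orderOf_mk y (hkC y hyc)]
    exact orderOf_dvd_natCard _
  set S : Finset (Fin 8) := (k : Perm (Fin 8)).supportᶜ with hS
  have hScard : S.card = 5 := by rw [hS, Finset.card_compl, hT, Fintype.card_fin]
  have hinv : ∀ g ∈ R, ∀ v, g v ∈ S ↔ v ∈ S := by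
    intro g hg v
    simp only [hS, Finset.mem_compl]
    refine not_congr ?_
    have hmem : (⟨g, hg⟩ : R) * k * (⟨g, hg⟩ : R)⁻¹ ∈ Subgroup.zpowers k :=
      hKz ▸ (inferInstance : K.Normal).conj_mem k hk _
    obtain ⟨i, hi⟩ := hmem
    have hi' : (k : Perm (Fin 8)) ^ i = g * (k : Perm (Fin 8)) * g⁻¹ := congrArg Subtype.val hi
    have hsup : ((k : Perm (Fin 8)) ^ i).support = (k : Perm (Fin 8)).support := by
      refine Finset.eq_of_subset_of_card_le (Equiv.Perm.support_zpow_le _ i) ?_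
      rw [hi', Equiv.Perm.support_conj, Finset.card_map]
    have hsup' : (k : Perm (Fin 8)).support = (k : Perm (Fin 8)).support.map g.toEmbedding := by
      rw [← Equiv.Perm.support_conj, ← hi', hsup]
    constructor
    · intro h
      rw [hsup'] at h
      simpa using h
    · intro h
      rw [hsup']
      exact Finset.mem_map_of_mem _ h
  obtain ⟨r, hrk, hrd⟩ := H69_restrict hA S hinv (by omega)
  have hKker : K = r.ker := by
    refine Subgroup.eq_of_le_of_card_ge ?_ ?_
    · rw [hKz, Subgroup.zpowers_le, hrk]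
      intro v hv
      simpa [hS] using hv
    · rw [hK3]
      have := Nat.le_of_dvd (Nat.factorial_pos _) hrd
      rw [hScard, show ((8 : ℕ) - 5).factorial = 6 from rfl] at this
      omega
  have hcore : Cfsg.pCore 3 R = K := by
    refine le_antisymm ?_ (Cfsg.Comp.le_pCore inferInstance hK3p)
    refine Cfsg.Comp.le_pPrimeCore (H1.pCore_normal' 3 R) ?_
    obtain ⟨m, hm⟩ := IsPGroup.iff_card.1 (Cfsg.Comp.pCore_isPGroup (G := R) 3)
    rw [hm]; exact Nat.Coprime.pow_left m (by norm_num)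
  have hcard : Nat.card r.range ∣ 120 := by
    have := r.range.card_subgroup_dvd_card
    rwa [Nat.card_perm, Nat.card_eq_fintype_card (α := S), Fintype.card_coe, hScard, show (5 : ℕ).factorial = 120 from rfl] at this
  have hns' : ¬ Group.IsSolvable r.range := fun h => hnsR (by
    haveI := h
    exact Group.isSolvable_of_ker_le_range K.subtype r.rangeRestrict
      (by rw [MonoidHom.ker_rangeRestrict, Subgroup.range_subtype, ← hKker]))
  have h60 : 60 ≤ Nat.card r.range := by
    by_contra h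
    push Not at h
    exact hns' (H59.solvable_of_card h hcard)
  have hidx : r.range.index ≤ 2 := by
    have h1 := r.range.card_mul_index
    rw [Nat.card_perm, Nat.card_eq_fintype_card (α := S), Fintype.card_coe, hScard, show (5 : ℕ).factorial = 120 from rfl] at h1
    nlinarith
  have hle := Equiv.Perm.alternatingGroup_le_of_index_le_two hidx
  let eS : S ≃ Fin 5 := Fintype.equivFinOfCardEq (by rw [Fintype.card_coe, hScard])
  let eq : G ⧸ Cfsg.pCore 3 G ≃* r.range :=
    ((QuotientGroup.congr (Cfsg.pCore 3 G) (Cfsg.pCore 3 R) e (H1.map_pCore_equiv 3 e)).trans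
      (QuotientGroup.quotientMulEquivOfEq (hcore.trans hKker))).trans (QuotientGroup.quotientKerEquivRange r)
  refine ⟨?_, ?_⟩
  · have h := congrArg (fun H : Subgroup R => Nat.card H) (H1.map_pCore_equiv 3 e)
    simp only [Subgroup.card_map_of_injective (f := (e : G →* R)) e.injective] at h
    rw [h, hcore, hK3]
  · rcases lt_or_eq_of_le hidx with hlt | heq
    · right
      have h1 : r.range = ⊤ := Subgroup.index_eq_one.1 (by
        have := Subgroup.index_ne_zero_of_finite (H := r.range); omega)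
      exact ⟨(eq.trans ((MulEquiv.subgroupCongr h1).trans Subgroup.topEquiv)).trans eS.permCongrHom⟩
    · left
      exact ⟨(eq.trans (MulEquiv.subgroupCongr (Equiv.Perm.eq_alternatingGroup_of_index_eq_two heq))).trans
        (Equiv.altCongrHom eS)⟩

/-- The six-set stabiliser contains the symplectic generators. -/
theorem H69_gens_stab : ∀ g ∈ gens, ∀ v : Fin 8, (v = 4 ∨ v = 6) → (H37.rho8 g v = 4 ∨ H37.rho8 g v = 6) := by
  have key : ∀ (i j : Fin 4) (hij : i ≠ j) (a b : Fin 8),
      (∀ x ∈ H37.T4 a, H37.code4 (H37.bAct i j (H37.bits4 x)) ∈ H37.T4 b) → H37.rho8 (tv i j hij) a = b :=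
    fun i j hij a b h => H37.rho8_transvection hij h
  intro g hg v hv
  simp only [gens, List.mem_cons, List.not_mem_nil, or_false] at hg
  rcases hg with rfl | rfl | rfl | rfl | rfl <;> rcases hv with rfl | rfl
  · exact Or.inr (key 0 2 (by decide) 4 6 (by decide +kernel))
  · exact Or.inl (key 0 2 (by decide) 6 4 (by decide +kernel))
  · exact Or.inr (key 1 3 (by decide) 4 6 (by decide +kernel))
  · exact Or.inl (key 1 3 (by decide) 6 4 (by decide +kernel))
  · rw [map_mul, Equiv.Perm.mul_apply, key 1 2 (by decide) 4 5 (by decide +kernel)]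
    exact Or.inr (key 0 3 (by decide) 5 6 (by decide +kernel))
  · rw [map_mul, Equiv.Perm.mul_apply, key 1 2 (by decide) 6 3 (by decide +kernel)]
    exact Or.inl (key 0 3 (by decide) 3 4 (by decide +kernel))
  · exact Or.inr (key 2 0 (by decide) 4 6 (by decide +kernel))
  · exact Or.inl (key 2 0 (by decide) 6 4 (by decide +kernel))
  · exact Or.inr (key 3 1 (by decide) 4 6 (by decide +kernel))
  · exact Or.inl (key 3 1 (by decide) 6 4 (by decide +kernel))

/-- A subgroup of order `720` contains a conjugate of the symplectic generators. -/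
theorem H69_conj_gens {R : Subgroup (Perm (Fin 8))} (hA : R ≤ alternatingGroup (Fin 8))
    (hR : Nat.card R = 720 ∨ Nat.card R = 20160) :
    ∃ h : Matrix.SpecialLinearGroup (Fin 4) (ZMod 2), ∀ g ∈ gens, H37.rho8 (h⁻¹ * g * h) ∈ R := by
  classical
  rcases hR with h720 | h20160
  swap
  · have : R = alternatingGroup (Fin 8) := Subgroup.eq_of_le_of_card_ge hA (by rw [h20160, H41.A8.card_altEight])
    exact ⟨1, fun g _ => by rw [this]; exact Equiv.Perm.mem_alternatingGroup.2 (H37.rho8_sign _)⟩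
  obtain ⟨S, hS5, hS6, hS⟩ := H41.A8.exists_invariant_set (R := R) (by rw [h720]; norm_num) (by rw [h720]; norm_num)
  have hinv : ∀ g ∈ R, ∀ v, g v ∈ S ↔ v ∈ S := by
    intro g hg v
    constructor
    · intro h
      rw [← hS g hg, Finset.mem_map_equiv, Equiv.symm_apply_apply] at h
      exact h
    · intro h
      rw [← hS g hg]
      exact Finset.mem_map_of_mem _ h
  obtain ⟨r, hrk, hrd⟩ := H69_restrict hA S hinv hS6
  have hle : Nat.card R ≤ S.card.factorial * Nat.card r.ker := by
    rw [Subgroup.card_eq_card_quotient_mul_card_subgroup r.ker]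
    refine Nat.mul_le_mul_right _ ?_
    have h1 := r.range.card_le_card_group
    rw [Nat.card_perm, Nat.card_eq_fintype_card (α := S), Fintype.card_coe] at h1
    rwa [Nat.card_congr (QuotientGroup.quotientKerEquivRange r).toEquiv]
  have hS6' : S.card = 6 := by
    by_contra hne
    have h5 : S.card = 5 := by omega
    have := Nat.le_of_dvd (Nat.factorial_pos _) hrd
    rw [h5, show ((8 : ℕ) - 5).factorial = 6 from rfl] at this
    rw [h5, h720, show (5 : ℕ).factorial = 120 from rfl] at hle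
    omega
  -- every even permutation stabilising `S` lies in `R`
  let H : Subgroup (Perm (Fin 8)) :=
    { carrier := {g | g ∈ alternatingGroup (Fin 8) ∧ ∀ v, g v ∈ S ↔ v ∈ S}
      one_mem' := ⟨one_mem _, fun v => by simp⟩
      mul_mem' := fun {a b} ⟨ha, ha'⟩ ⟨hb, hb'⟩ => ⟨mul_mem ha hb, fun v => by
        rw [Equiv.Perm.mul_apply, ha', hb']⟩
      inv_mem' := fun {a} ⟨ha, ha'⟩ => ⟨inv_mem ha, fun v => by
        rw [← ha' (a⁻¹ v)]; simp⟩ }
  have hRH : R = H := by
    refine Subgroup.eq_of_le_of_card_ge (fun g hg => ⟨hA hg, hinv g hg⟩) ?_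
    obtain ⟨r', -, hrd'⟩ := H69_restrict (R := H) (fun g hg => hg.1) S (fun g hg => hg.2) hS6
    have h1 := r'.range.card_le_card_group
    rw [Nat.card_perm, Nat.card_eq_fintype_card (α := S), Fintype.card_coe, hS6'] at h1
    rw [h720, Subgroup.card_eq_card_quotient_mul_card_subgroup r'.ker,
      Nat.card_congr (QuotientGroup.quotientKerEquivRange r').toEquiv]
    have h2 := Nat.le_of_dvd (Nat.factorial_pos _) hrd'
    rw [hS6', show ((8 : ℕ) - 6).factorial = 2 from rfl] at h2
    rw [show (6 : ℕ).factorial = 720 from rfl] at h1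
    have h3 : Nat.card r'.ker = 1 := by have := Nat.card_pos (α := r'.ker); omega
    rw [h3, mul_one]; exact h1
  -- a conjugating element
  obtain ⟨c, hc, hcs⟩ : ∃ c : Perm (Fin 8), Equiv.Perm.sign c = 1 ∧ ∀ v, v ∈ S → c v ≠ 4 ∧ c v ≠ 6 := by
    have e : {v // v ∈ S} ≃ {v : Fin 8 // v ≠ 4 ∧ v ≠ 6} := Fintype.equivOfCardEq (by
      rw [Fintype.card_coe, hS6']; decide +kernel)
    have h1 : ∀ v, v ∈ S → e.extendSubtype v ≠ 4 ∧ e.extendSubtype v ≠ 6 := fun v hv => Equiv.extendSubtype_mem e v hv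
    rcases Int.units_eq_one_or (Equiv.Perm.sign e.extendSubtype) with hs | hs
    · exact ⟨_, hs, h1⟩
    · refine ⟨Equiv.swap 4 6 * e.extendSubtype, ?_, fun v hv => ?_⟩
      · rw [Equiv.Perm.sign_mul, hs, Equiv.Perm.sign_swap (by decide)]; rfl
      · obtain ⟨a, b⟩ := h1 v hv
        rw [Equiv.Perm.mul_apply, Equiv.swap_apply_of_ne_of_ne a b]
        exact ⟨a, b⟩
  have hcs' : ∀ v, v ∈ S ↔ (c v ≠ 4 ∧ c v ≠ 6) := by
    intro v
    refine ⟨hcs v, fun h => ?_⟩
    have hsub : S.map c.toEmbedding = ({0, 1, 2, 3, 5, 7} : Finset (Fin 8)) := by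
      refine Finset.eq_of_subset_of_card_le (fun w hw => ?_) (by rw [Finset.card_map, hS6']; decide +kernel)
      obtain ⟨u, hu, rfl⟩ := Finset.mem_map.1 hw
      obtain ⟨a, b⟩ := hcs u hu
      have : ∀ w : Fin 8, w ≠ 4 → w ≠ 6 → w ∈ ({0, 1, 2, 3, 5, 7} : Finset (Fin 8)) := by decide +kernel
      exact this _ a b
    have : ∀ w : Fin 8, w ≠ 4 → w ≠ 6 → w ∈ ({0, 1, 2, 3, 5, 7} : Finset (Fin 8)) := by decide +kernel
    have h' := this _ h.1 h.2
    rw [← hsub] at h'
    simpa using h'
  obtain ⟨h, hh⟩ : ∃ h, H37.rho8 h = c := ⟨H37.rho8A.symm ⟨c, Equiv.Perm.mem_alternatingGroup.2 hc⟩, by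
    rw [← H37.rho8A_coe, MulEquiv.apply_symm_apply]⟩
  refine ⟨h, fun g hg => ?_⟩
  rw [hRH]
  refine ⟨Equiv.Perm.mem_alternatingGroup.2 (H37.rho8_sign _), fun v => ?_⟩
  rw [hcs', hcs', map_mul, map_mul, map_inv, hh]
  simp only [Equiv.Perm.mul_apply, Equiv.Perm.coe_inv, Equiv.apply_symm_apply]
  have hg' := H69_gens_stab g hg
  have h4 := hg' 4 (Or.inl rfl)
  have h6 := hg' 6 (Or.inr rfl)
  have hinjg := (H37.rho8 g).injective
  constructor
  · intro hne
    refine ⟨fun e => ?_, fun e => ?_⟩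
    · rw [e] at hne; rcases h4 with h | h
      exacts [hne.1 h, hne.2 h]
    · rw [e] at hne; rcases h6 with h | h
      exacts [hne.1 h, hne.2 h]
  · intro hne
    have key : ∀ w, (w = 4 ∨ w = 6) → H37.rho8 g (c v) ≠ w := by
      intro w hw e
      rcases h4 with a | a <;> rcases h6 with b | b <;> rcases hw with rfl | rfl
      all_goals first
        | exact hne.1 (hinjg (e.trans a.symm))
        | exact hne.2 (hinjg (e.trans b.symm))
        | exact absurd (hinjg (a.trans b.symm)) (by decide)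
    exact ⟨key 4 (Or.inl rfl), key 6 (Or.inr rfl)⟩

/-- Let X be a finite nonsolvable 2-constrained group with no nontrivial normal subgroup of odd order such that O₂(X) has sectional 2-rank at most 4, and write Q for X/O₂(X). Then Q is isomorphic to the projective special linear group of dimension 3 over the field with 2 elements, to an alternating group of degree n with 5 ≤ n ≤ 8, to a symmetric group of degree n with 5 ≤ n ≤ 7, or else O₃(Q) has order 3 and Q/O₃(Q) is isomorphic to the alternating or the symmetric group of degree 5 (so Q is the direct product of a group of order 3 with the alternating group of degree 5, or an extension of that direct product by a group of order 2). If moreover X itself has sectional 2-rank at most 4, then Q is not isomorphic to the symmetric group of degree 6 or 7 nor to the alternating group of degree 8. -/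
theorem result {X : Type*} [Group X] [Finite X] (hns : ¬ Group.IsSolvable X) (hc : Cfsg.IsPConstrained 2 X) (hO : Cfsg.oddCore X = ⊥)
    (h4 : Cfsg.SectionalPRankLE 2 4 ↥(Cfsg.pCore 2 X)) :
    ((∃ (F : Type) (_ : Field F) (_ : Fintype F), Fintype.card F = 2 ∧
          Nonempty (X ⧸ Cfsg.pCore 2 X ≃* Matrix.ProjectiveSpecialLinearGroup (Fin 3) F)) ∨
        (∃ n : ℕ, 5 ≤ n ∧ n ≤ 8 ∧ Nonempty (X ⧸ Cfsg.pCore 2 X ≃* ↥(alternatingGroup (Fin n)))) ∨
        (∃ n : ℕ, 5 ≤ n ∧ n ≤ 7 ∧ Nonempty (X ⧸ Cfsg.pCore 2 X ≃* Equiv.Perm (Fin n))) ∨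
        (Nat.card ↥(Cfsg.pCore 3 (X ⧸ Cfsg.pCore 2 X)) = 3 ∧
          (Nonempty ((X ⧸ Cfsg.pCore 2 X) ⧸ Cfsg.pCore 3 (X ⧸ Cfsg.pCore 2 X) ≃* ↥(alternatingGroup (Fin 5))) ∨
            Nonempty ((X ⧸ Cfsg.pCore 2 X) ⧸ Cfsg.pCore 3 (X ⧸ Cfsg.pCore 2 X) ≃* Equiv.Perm (Fin 5))))) ∧
      (Cfsg.SectionalPRankLE 2 4 X →
        ¬ (Nonempty (X ⧸ Cfsg.pCore 2 X ≃* Equiv.Perm (Fin 6)) ∨ Nonempty (X ⧸ Cfsg.pCore 2 X ≃* Equiv.Perm (Fin 7)) ∨
            Nonempty (X ⧸ Cfsg.pCore 2 X ≃* ↥(alternatingGroup (Fin 8))))) := by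
  classical
  haveI : Fact (Nat.Prime 2) := ⟨Nat.prime_two⟩
  obtain ⟨f, e, hker, hadd, hconj, hdiff⟩ := exists_rep hc hO h4
  haveI := H1.pCore_normal' 2 X
  let φ₀ : X →* Equiv.Perm (Fin 8) := H37.rho8.comp f
  have hk0 : φ₀.ker = Cfsg.pCore 2 X := by
    rw [← hker]; ext x
    exact ⟨fun h => MonoidHom.mem_ker.2 (H37.rho8_injective (h.trans (map_one _).symm)), fun h => by
      rw [MonoidHom.mem_ker, MonoidHom.comp_apply, MonoidHom.mem_ker.1 h, map_one]⟩
  let φ : X ⧸ Cfsg.pCore 2 X →* Equiv.Perm (Fin 8) := QuotientGroup.lift _ φ₀ hk0.ge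
  have hφ : Function.Injective φ := by
    rw [← MonoidHom.ker_eq_bot_iff, QuotientGroup.ker_lift, hk0, QuotientGroup.map_mk'_self]
  have hA : φ.range ≤ alternatingGroup (Fin 8) := by
    rintro _ ⟨x, rfl⟩
    obtain ⟨x, rfl⟩ := QuotientGroup.mk_surjective x
    exact Equiv.Perm.mem_alternatingGroup.2 (H37.rho8_sign (f x))
  have hns' : ¬ Group.IsSolvable (X ⧸ Cfsg.pCore 2 X) := fun h => hns (by
    haveI := h
    haveI : Group.IsSolvable (Cfsg.pCore 2 X) := by
      haveI := (Cfsg.Comp.pCore_isPGroup (G := X) 2).isNilpotent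
      infer_instance
    exact Group.isSolvable_of_ker_le_range (Cfsg.pCore 2 X).subtype (QuotientGroup.mk' (Cfsg.pCore 2 X))
      (by rw [QuotientGroup.ker_mk', Subgroup.range_subtype]))
  refine ⟨H69_list φ hφ hA hns' (H1.pCore_quotient_pCore 2 X), fun hsec hbad => ?_⟩
  have hcardR : Nat.card φ.range = Nat.card (X ⧸ Cfsg.pCore 2 X) :=
    (Nat.card_congr (MonoidHom.ofInjective hφ).toEquiv).symm
  have hR : Nat.card φ.range = 720 ∨ Nat.card φ.range = 20160 := by
    rcases hbad with ⟨⟨χ⟩⟩ | ⟨⟨χ⟩⟩ | ⟨⟨χ⟩⟩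
    · left
      rw [hcardR, Nat.card_congr χ.toEquiv, Nat.card_perm, Nat.card_fin]; rfl
    · exfalso
      have h1 : Nat.card φ.range = 5040 := by
        rw [hcardR, Nat.card_congr χ.toEquiv, Nat.card_perm, Nat.card_fin]; rfl
      rcases H41.A8.five_seven hA (by rw [h1]; norm_num) (by rw [h1]; norm_num) with ⟨⟨ψ⟩⟩ | ⟨⟨ψ⟩⟩
      · rw [Nat.card_congr ψ.toEquiv, H41.A8.card_altEight] at h1
        norm_num at h1
      · rw [Nat.card_congr ψ.toEquiv, nat_card_alternatingGroup, Nat.card_fin] at h1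
        norm_num [Nat.factorial] at h1
    · right
      rw [hcardR, Nat.card_congr χ.toEquiv, H41.A8.card_altEight]
  obtain ⟨h, hh⟩ := H69_conj_gens hA hR
  let f' : X →* Matrix.SpecialLinearGroup (Fin 4) (ZMod 2) := (MulAut.conj h).toMonoidHom.comp f
  have hf' : ∀ x, f' x = h * f x * h⁻¹ := fun x => rfl
  refine not_sectional_four f' (Cfsg.pCore 2 X) ?_
    (fun a => (h : Matrix (Fin 4) (Fin 4) (ZMod 2)) *ᵥ e a) (fun a b => by rw [hadd, Matrix.mulVec_add]) ?_ ?_ ?_ hsec
  · rw [← hker]; ext x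
    exact ⟨fun hx => MonoidHom.mem_ker.2 ((MulAut.conj h).injective (hx.trans (map_one _).symm)), fun hx => by
      rw [MonoidHom.mem_ker, hf', MonoidHom.mem_ker.1 hx, mul_one, mul_inv_cancel]⟩
  · intro x a b hab
    show (h : Matrix (Fin 4) (Fin 4) (ZMod 2)) *ᵥ e b = _
    rw [hconj x a b hab, hf', Matrix.mulVec_mulVec, Matrix.mulVec_mulVec, ← Matrix.SpecialLinearGroup.coe_mul,
      ← Matrix.SpecialLinearGroup.coe_mul, inv_mul_cancel_right]
  · intro x v
    obtain ⟨a, ha⟩ := hdiff x (((h⁻¹ : Matrix.SpecialLinearGroup (Fin 4) (ZMod 2)) : Matrix (Fin 4) (Fin 4) (ZMod 2)) *ᵥ v)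
    refine ⟨a, ?_⟩
    show _ = (h : Matrix (Fin 4) (Fin 4) (ZMod 2)) *ᵥ e a
    rw [← ha, Matrix.mulVec_add, Matrix.mulVec_mulVec, Matrix.mulVec_mulVec, Matrix.mulVec_mulVec,
      ← Matrix.SpecialLinearGroup.coe_mul, ← Matrix.SpecialLinearGroup.coe_mul, ← Matrix.SpecialLinearGroup.coe_mul,
      ← hf', mul_inv_cancel]
    simp
  · intro g hg
    obtain ⟨xb, hxb⟩ := hh g hg
    obtain ⟨x, rfl⟩ := QuotientGroup.mk_surjective xb
    refine ⟨x, ?_⟩
    have h1 : f x = h⁻¹ * g * h := H37.rho8_injective hxb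
    rw [hf', h1]; group

end Cfsg.Agent.S3104
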