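import Cfsg.Statements.S3106
import Cfsg.Agent.H69.AltFiveRadical

set_option autoImplicit false
open Cfsg

namespace Cfsg.Agent.S3106

open H69.AltFive
open scoped commutatorElement

theorem H69_transport {X : Type*} [Group X] {Q : Subgroup X} {X₀ : Subgroup X} {Q₀ : Subgroup X₀} (e : Q₀ ≃* Q)
    (h : (Cfsg.IsElementaryAbelian 2 Q₀ ∧ Nat.card ↥Q₀ = 16) ∨
      (Nat.card ↥Q₀ = 32 ∧ ∃ A B : Subgroup ↥Q₀,
        Nonempty (↥A ≃* QuaternionGroup 2) ∧ Nonempty (↥B ≃* DihedralGroup 4) ∧ (∀ a ∈ A, ∀ b ∈ B, a * b = b * a) ∧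
          A ⊔ B = ⊤ ∧ A ⊓ B = Subgroup.center ↥Q₀)) :
    (Cfsg.IsElementaryAbelian 2 Q ∧ Nat.card ↥Q = 16) ∨
      (Nat.card ↥Q = 32 ∧ ∃ A B : Subgroup ↥Q,
        Nonempty (↥A ≃* QuaternionGroup 2) ∧ Nonempty (↥B ≃* DihedralGroup 4) ∧ (∀ a ∈ A, ∀ b ∈ B, a * b = b * a) ∧
          A ⊔ B = ⊤ ∧ A ⊓ B = Subgroup.center ↥Q) := by
  rcases h with ⟨⟨hc, he⟩, h16⟩ | ⟨h32, A, B, ⟨eA⟩, ⟨eB⟩, hcm, hsup, hinf⟩
  · left
    refine ⟨⟨⟨⟨fun u v => ?_⟩⟩, fun a ha => ?_⟩, (Nat.card_congr e.toEquiv).symm.trans h16⟩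
    · apply e.symm.injective
      rw [map_mul, map_mul]
      exact hc.is_comm.comm _ _
    · have h1 : (e.symm ⟨a, ha⟩) ^ 2 = 1 := Subtype.ext (he _ (e.symm ⟨a, ha⟩).2)
      rw [← map_pow] at h1
      exact congrArg Subtype.val ((MulEquiv.map_eq_one_iff _).1 h1)
  · right
    refine ⟨(Nat.card_congr e.toEquiv).symm.trans h32, A.map e.toMonoidHom, B.map e.toMonoidHom,
      ⟨((A.equivMapOfInjective _ e.injective).symm).trans eA⟩, ⟨((B.equivMapOfInjective _ e.injective).symm).trans eB⟩,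
      ?_, ?_, ?_⟩
    · rintro _ ⟨a, ha, rfl⟩ _ ⟨b, hb, rfl⟩
      rw [← map_mul, ← map_mul, hcm a ha b hb]
    · rw [← Subgroup.map_sup, hsup, Subgroup.map_top_of_surjective _ e.surjective]
    · rw [← Subgroup.map_inf _ _ _ e.injective, hinf]
      ext x
      constructor
      · rintro ⟨u, hu, rfl⟩
        rw [Subgroup.mem_center_iff]
        intro g
        obtain ⟨v, rfl⟩ := e.surjective g
        show e v * e u = e u * e v
        rw [← map_mul, ← map_mul, Subgroup.mem_center_iff.1 hu v]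
      · intro hx
        refine ⟨e.symm x, ?_, e.apply_symm_apply x⟩
        rw [SetLike.mem_coe, Subgroup.mem_center_iff]
        intro g
        apply e.injective
        rw [map_mul, map_mul, e.apply_symm_apply, Subgroup.mem_center_iff.1 hx (e g)]

/-- Let X be a finite nonsolvable 2-constrained group with no nontrivial normal subgroup of odd order and of sectional 2-rank at most 4, and suppose X/O₂(X) contains a subgroup isomorphic to the alternating group of degree 5. Then O₂(X) is elementary abelian of order 16, or O₂(X) is a central product of a quaternion group of order 8 and a dihedral group of order 8 (it has order 32 and is generated by two elementwise-commuting subgroups, one quaternion of order 8 and one dihedral of order 8, meeting in the centre). -/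
theorem result {X : Type*} [Group X] [Finite X] (hns : ¬ Group.IsSolvable X) (hc : Cfsg.IsPConstrained 2 X) (hO : Cfsg.oddCore X = ⊥)
    (h4 : Cfsg.SectionalPRankLE 2 4 X)
    (hQ : ∃ A : Subgroup (X ⧸ Cfsg.pCore 2 X), Nonempty (↥A ≃* ↥(alternatingGroup (Fin 5)))) :
    (Cfsg.IsElementaryAbelian 2 (Cfsg.pCore 2 X) ∧ Nat.card ↥(Cfsg.pCore 2 X) = 16) ∨
      (Nat.card ↥(Cfsg.pCore 2 X) = 32 ∧ ∃ A B : Subgroup ↥(Cfsg.pCore 2 X),
        Nonempty (↥A ≃* QuaternionGroup 2) ∧ Nonempty (↥B ≃* DihedralGroup 4) ∧ (∀ a ∈ A, ∀ b ∈ B, a * b = b * a) ∧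
          A ⊔ B = ⊤ ∧ A ⊓ B = Subgroup.center ↥(Cfsg.pCore 2 X)) := by
  classical
  haveI : Fact (Nat.Prime 2) := ⟨Nat.prime_two⟩
  haveI := H1.pCore_normal' 2 X
  obtain ⟨A, ⟨e⟩⟩ := hQ
  set Q := Cfsg.pCore 2 X with hQdef
  let X₀ : Subgroup X := A.comap (QuotientGroup.mk' Q)
  let π : X₀ →* alternatingGroup (Fin 5) :=
    e.toMonoidHom.comp ((QuotientGroup.mk' Q).subgroupComap A)
  have hπ : Function.Surjective π :=
    e.surjective.comp (MonoidHom.subgroupComap_surjective_of_surjective _ A (QuotientGroup.mk'_surjective Q))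
  have hker : π.ker = Q.subgroupOf X₀ := by
    ext x
    constructor
    · intro hx
      have h1 := e.injective ((MonoidHom.mem_ker.1 hx).trans (map_one e).symm)
      exact Subgroup.mem_subgroupOf.2 ((QuotientGroup.eq_one_iff _).1 (congrArg Subtype.val h1))
    · intro hx
      rw [MonoidHom.mem_ker]
      have h1 : (QuotientGroup.mk' Q).subgroupComap A x = 1 :=
        Subtype.ext ((QuotientGroup.eq_one_iff _).2 (Subgroup.mem_subgroupOf.1 hx))
      show e _ = 1
      rw [h1, map_one]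
  have hQ2 : IsPGroup 2 Q := Cfsg.Comp.pCore_isPGroup 2
  have hQX : Q ≤ X₀ := fun q hq => by
    show QuotientGroup.mk' Q q ∈ A
    rw [QuotientGroup.mk'_apply, (QuotientGroup.eq_one_iff q).2 hq]; exact A.one_mem
  have hk2 : IsPGroup 2 π.ker := hker ▸ hQ2.of_equiv (Subgroup.subgroupOfEquivOfLe hQX).symm
  have hcore : π.ker = Cfsg.pCore 2 X₀ := by
    refine le_antisymm (Cfsg.Comp.le_pCore inferInstance hk2) fun x hx => ?_
    have hP : IsPGroup 2 ((Cfsg.pCore 2 X₀).map π) := (Cfsg.Comp.pCore_isPGroup 2).map π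
    haveI : ((Cfsg.pCore 2 X₀).map π).Normal := (H1.pCore_normal' 2 X₀).map π hπ
    rcases (inferInstance : IsSimpleGroup (alternatingGroup (Fin 5))).eq_bot_or_eq_top_of_normal _
      (inferInstance : ((Cfsg.pCore 2 X₀).map π).Normal) with h | h
    · exact MonoidHom.mem_ker.2 (Subgroup.mem_bot.1 (h ▸ Subgroup.mem_map_of_mem π hx))
    · exfalso
      rw [h] at hP
      obtain ⟨k, hk⟩ := IsPGroup.iff_card.1 hP
      rw [Subgroup.card_top] at hk
      have h2 := two_mul_nat_card_alternatingGroup (α := Fin 5)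
      rw [Nat.card_perm, Nat.card_fin, hk] at h2
      have : 2 ^ k = 60 := by simp [Nat.factorial] at h2; omega
      have h3 : (3 : ℕ) ∣ 2 ^ k := by rw [this]; norm_num
      exact absurd (Nat.prime_three.dvd_of_dvd_pow h3) (by norm_num)
  have hCQ : Subgroup.centralizer (Q : Set X) ≤ Q :=
    (H11.isPConstrained_iff_of_hom (MonoidHom.id X) (fun x => ⟨x, rfl⟩)
      (by rw [MonoidHom.ker_id]; exact hO.symm)).1 hc
  have hC0 : Subgroup.centralizer (Cfsg.pCore 2 X₀ : Set X₀) ≤ Cfsg.pCore 2 X₀ := by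
    rw [← hcore, hker]
    intro x hx
    rw [Subgroup.mem_subgroupOf]
    refine hCQ fun q hq => ?_
    exact congrArg Subtype.val (hx ⟨q, hQX hq⟩ (Subgroup.mem_subgroupOf.2 hq))
  have hO0 : Cfsg.oddCore X₀ = ⊥ := H11.coreSelfCentralizing_pPrimeCore hC0
  have hc0 : Cfsg.IsPConstrained 2 X₀ :=
    (H11.isPConstrained_iff_of_hom (MonoidHom.id X₀) (fun x => ⟨x, rfl⟩)
      (by rw [MonoidHom.ker_id]; exact hO0.symm)).2 hC0
  have h40 : Cfsg.SectionalPRankLE 2 4 X₀ := by
    intro H M _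
    exact H31.TwoCentres.pRankLE_of_section h4 (X₀.subtype.comp H.subtype)
      (X₀.subtype_injective.comp H.subtype_injective) (QuotientGroup.mk' M) (QuotientGroup.mk'_surjective M)
  have hres := radical hc0 hO0 h40 π hπ hcore
  have hsub : Cfsg.pCore 2 X₀ = Q.subgroupOf X₀ := hcore.symm.trans hker
  exact H69_transport (e := (MulEquiv.subgroupCongr hsub).trans (Subgroup.subgroupOfEquivOfLe hQX)) hres

end Cfsg.Agent.S3106
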