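import Cfsg.Statements.S3117
import Cfsg.Agent.S0093
import Cfsg.Agent.H33.TwoPrime
import Cfsg.Agent.H31.InvariantMax
import Cfsg.Agent.H6.AutPGroup
import Cfsg.Agent.H65.Dihedral
import Mathlib

set_option autoImplicit false
open Cfsg

namespace Cfsg.Agent.S3117

open scoped commutatorElement

theorem H69_perfect_le_ker {A T : Type*} [Group A] [Group T] [Group.IsSolvable T] {D : Subgroup A}
    (hD : ⁅D, D⁆ = D) (φ : A →* T) : D ≤ φ.ker := by
  obtain ⟨n, hn⟩ := (inferInstance : Group.IsSolvable T).solvable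
  have h : ∀ m, D.map φ ≤ derivedSeries T m := by
    intro m
    induction m with
    | zero => simp
    | succ m ih =>
      rw [derivedSeries_succ, ← hD, Subgroup.map_commutator]
      exact Subgroup.commutator_mono ih ih
  exact (Subgroup.map_eq_bot_iff D).1 (le_bot_iff.1 ((h n).trans hn.le))

/-- A perfect group of automorphisms moving `x` inside a coset of a fixed solvable subgroup
fixes `x`. -/
theorem H69_fix_step {X : Type*} [Group X] {D : Subgroup (MulAut X)} (hD : ⁅D, D⁆ = D)
    (S : Subgroup X) [Group.IsSolvable S] (hfix : ∀ d ∈ D, ∀ s ∈ S, d s = s) {x : X}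
    (hx : ∀ d ∈ D, x⁻¹ * d x ∈ S) : ∀ d ∈ D, d x = x := by
  let φ : D →* S := MonoidHom.mk' (fun d => ⟨x⁻¹ * (d : MulAut X) x, hx d d.2⟩) fun a b =>
    Subtype.ext (by
      show x⁻¹ * ((a : MulAut X) * (b : MulAut X)) x = (x⁻¹ * (a : MulAut X) x) * (x⁻¹ * (b : MulAut X) x)
      have h1 := hfix a a.2 _ (hx b b.2)
      rw [map_mul, map_inv] at h1
      rw [MulAut.mul_apply, ← h1]
      group)
  have hDp : ⁅(⊤ : Subgroup D), (⊤ : Subgroup D)⁆ = ⊤ := by
    apply Subgroup.map_injective (f := D.subtype) D.subtype_injective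
    rw [Subgroup.map_commutator, ← MonoidHom.range_eq_map, Subgroup.range_subtype, hD]
  intro d hd
  have h : φ ⟨d, hd⟩ = 1 := H69_perfect_le_ker hDp φ (Subgroup.mem_top _)
  have h' : x⁻¹ * d x = 1 := congrArg Subtype.val h
  exact (inv_mul_eq_one.1 h').symm

theorem H69_solvable_perm {P : Type*} [Finite P] (h : Nat.card P ≤ 4) :
    Group.IsSolvable (Equiv.Perm P) := by
  refine H33.isSolvable_of_two_primes Nat.prime_two Nat.prime_three fun r hr hd => ?_
  rw [Nat.card_perm] at hd
  have h4 : r ≤ 4 := ((Nat.Prime.dvd_factorial hr).1 hd).trans h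
  have := hr.two_le
  interval_cases r
  · exact .inl rfl
  · exact .inr rfl
  · norm_num at hr

/-- Squared character sums. -/
theorem H69_sum_sq {V : Type*} [Group V] [Fintype V] (hV : ∀ v : V, v * v = 1) (f : V → ℤ)
    (B : V → V → ℤ) (hf : ∀ u, f u * f u = 1) (hB : ∀ u v, f (u * v) = f u * f v * B u v)
    (hB2 : ∀ u v w, B (u * v) w = B u w * B v w) :
    (Fintype.card V : ℤ) ∣ (∑ v, f v) * (∑ v, f v) := by
  classical
  have hcomm : ∀ u v : V, u * v = v * u := fun u v => by
    have hi : ∀ a : V, a⁻¹ = a := fun a => inv_eq_of_mul_eq_one_right (hV a)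
    calc u * v = (u * v)⁻¹ := (hi _).symm
      _ = v * u := by rw [mul_inv_rev, hi, hi]
  have hs : ∀ u, ∑ v, f v = ∑ w, f (u * w) := fun u =>
    (Fintype.sum_equiv (Equiv.mulLeft u) (fun w => f (u * w)) f (fun w => rfl)).symm
  rw [Finset.sum_mul]
  have : ∑ u, f u * ∑ v, f v = ∑ w, f w * ∑ u, B u w := by
    calc ∑ u, f u * ∑ v, f v = ∑ u, ∑ w, f w * B u w := by
          refine Finset.sum_congr rfl fun u _ => ?_
          rw [hs u, Finset.mul_sum]
          refine Finset.sum_congr rfl fun w _ => ?_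
          rw [hB, ← mul_assoc, ← mul_assoc, hf, one_mul]
      _ = ∑ w, ∑ u, f w * B u w := Finset.sum_comm
      _ = ∑ w, f w * ∑ u, B u w := Finset.sum_congr rfl fun w _ => (Finset.mul_sum ..).symm
  rw [this]
  refine Finset.dvd_sum fun w _ => Dvd.dvd.mul_left ?_ _
  by_cases h : ∀ u, B u w = 1
  · rw [Finset.sum_congr rfl fun u _ => h u, Finset.sum_const, nsmul_eq_mul, mul_one,
      Finset.card_univ]
  · push Not at h
    obtain ⟨u0, hu0⟩ := h
    have hsum : ∑ u, B u w = B u0 w * ∑ u, B u w := by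
      rw [Finset.mul_sum]
      exact (Fintype.sum_equiv (Equiv.mulLeft u0) (fun u => B u0 w * B u w) (fun u => B u w)
        (fun u => (hB2 u0 u w).symm)).symm
    have hz : (B u0 w - 1) * ∑ u, B u w = 0 := by rw [sub_mul, one_mul, ← hsum, sub_self]
    rcases mul_eq_zero.1 hz with h0 | h0
    · exact absurd (sub_eq_zero.1 h0) hu0
    · rw [h0]; exact dvd_zero _

/-- A quadratic map from an elementary abelian group into a four group. -/
structure H69_Quad {V : Type*} [Group V] {T : Type*} [Group T] (q : V → T) : Prop where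
  sq : ∀ v : V, v * v = 1
  four : Nat.card T = 4
  tsq : ∀ t : T, t * t = 1
  bil : ∃ b : V → V → T, (∀ u v, q (u * v) = q u * q v * b u v) ∧
    ∀ u v w, b (u * v) w = b u w * b v w
  aniso : ∀ v, q v = 1 ↔ v = 1

/-- The value of `q` distribution against a character of the four group. -/
theorem H69_quad_dvd {V : Type*} [Group V] [Finite V] {T : Type*} [Group T] [Finite T] {q : V → T}
    (hq : H69_Quad q) (W : Subgroup V) (e : T) (he : e ≠ 1) :
    (Nat.card W : ℤ) ∣
      (2 * Nat.card {v : W // q v = 1 ∨ q v = e} - Nat.card W : ℤ) *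
      (2 * Nat.card {v : W // q v = 1 ∨ q v = e} - Nat.card W : ℤ) := by
  classical
  have := Fintype.ofFinite W
  set H : Subgroup T := Subgroup.zpowers e
  have he2 : orderOf e = 2 := orderOf_eq_prime (by rw [sq]; exact hq.tsq e) he
  have hH : H.index = 2 := by
    have h := H.card_mul_index
    rw [Nat.card_zpowers, he2, hq.four] at h
    omega
  have hmem : ∀ t, t ∈ H ↔ t = 1 ∨ t = e := by
    intro t
    constructor
    · intro ht
      obtain ⟨k, rfl⟩ := Subgroup.mem_zpowers_iff.1 ht
      rcases Int.even_or_odd k with ⟨m, rfl⟩ | ⟨m, rfl⟩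
      · left; rw [zpow_add, ← (Commute.refl e).mul_zpow, hq.tsq, one_zpow]
      · right; rw [zpow_add, two_mul, zpow_add, ← (Commute.refl e).mul_zpow, hq.tsq, one_zpow, one_mul, zpow_one]
    · rintro (rfl | rfl)
      · exact one_mem _
      · exact Subgroup.mem_zpowers _
  let χ : T → ℤ := fun t => if t ∈ H then 1 else -1
  have hχ : ∀ a b, χ (a * b) = χ a * χ b := by
    intro a b
    have h := Subgroup.mul_mem_iff_of_index_two hH (a := a) (b := b)
    by_cases ha : a ∈ H <;> by_cases hb : b ∈ H <;> simp [χ, ha, hb] <;> simp_all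
  obtain ⟨b, hb1, hb2⟩ := hq.bil
  have key := H69_sum_sq (V := W) (fun v => Subtype.ext (hq.sq v))
    (fun v => χ (q v)) (fun u v => χ (b u v))
    (fun u => by by_cases h : q (u : V) ∈ H <;> simp [χ, h])
    (fun u v => by simp only [Subgroup.coe_mul, hb1, hχ])
    (fun u v w => by simp only [Subgroup.coe_mul, hb2, hχ])
  have hsum : ∑ v : W, χ (q v) =
      2 * (Nat.card {v : W // q v = 1 ∨ q v = e} : ℤ) - Nat.card W := by
    have h1 : ∀ v : W, χ (q v) = 2 * (if q v = 1 ∨ q v = e then 1 else 0) - 1 := by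
      intro v
      by_cases h : q v = 1 ∨ q v = e
      · simp [χ, (hmem _).2 h, h]
      · simp [χ, mt (hmem _).1 h, h]
    rw [Finset.sum_congr rfl fun v _ => h1 v, Finset.sum_sub_distrib, ← Finset.mul_sum,
      Finset.sum_boole, Finset.sum_const, Finset.card_univ, Nat.card_eq_fintype_card,
      Nat.card_eq_fintype_card, ← Fintype.card_subtype, nsmul_eq_mul, mul_one]
  rw [hsum, ← Nat.card_eq_fintype_card] at key
  exact key

theorem H69_nontriv_count {V : Type*} [Group V] [Finite V] {T : Type*} [Group T] [Finite T]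
    {q : V → T} (hq : H69_Quad q) (W : Subgroup V) (e : T) (he : e ≠ 1) :
    Nat.card {v : W // q v = 1 ∨ q v = e} = Nat.card {v : W // q v = e} + 1 := by
  classical
  have := Fintype.ofFinite W
  rw [Nat.card_eq_fintype_card, Nat.card_eq_fintype_card, Fintype.card_subtype_or_disjoint,
    add_comm, Fintype.card_subtype_eq' (1 : W) |>.symm]
  · congr 1
    exact Fintype.card_congr (Equiv.subtypeEquivRight fun v => by
      rw [hq.aniso, OneMemClass.coe_eq_one, eq_comm])
  · intro p hp1 hp2 v hv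
    exact he ((hp2 v hv).symm.trans (hp1 v hv))

/-- Three nontrivial values. -/
theorem H69_split {V : Type*} [Group V] [Finite V] {T : Type*} [Group T] [Finite T]
    {q : V → T} (hq : H69_Quad q) (W : Subgroup V) :
    ∃ a b c : T, a ≠ 1 ∧ b ≠ 1 ∧ c ≠ 1 ∧ (a ≠ b ∧ a ≠ c ∧ b ≠ c) ∧ Nat.card {v : W // q v = a} +
      Nat.card {v : W // q v = b} + Nat.card {v : W // q v = c} + 1 = Nat.card W := by
  classical
  have := Fintype.ofFinite W
  have := Fintype.ofFinite T
  have hc : ((Finset.univ : Finset T).erase 1).card = 3 := by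
    rw [Finset.card_erase_of_mem (Finset.mem_univ _), Finset.card_univ, ← Nat.card_eq_fintype_card,
      hq.four]
  obtain ⟨a, b, c, hab, hac, hbc, habc⟩ := Finset.card_eq_three.1 hc
  have hne : ∀ x, x ∈ ({a, b, c} : Finset T) → x ≠ 1 := fun x hx =>
    (Finset.mem_erase.1 (habc ▸ hx : x ∈ (Finset.univ : Finset T).erase 1)).1
  refine ⟨a, b, c, hne a (by simp), hne b (by simp), hne c (by simp), ⟨hab, hac, hbc⟩, ?_⟩
  have h := Finset.card_eq_sum_card_fiberwise (f := fun v : W => q v) (s := Finset.univ)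
    (t := (Finset.univ : Finset T)) (fun _ _ => Finset.mem_univ _)
  rw [← Finset.insert_erase (Finset.mem_univ (1 : T)), habc,
    Finset.sum_insert (habc ▸ Finset.notMem_erase _ _),
    Finset.sum_insert (by simp [hab, hac]), Finset.sum_insert (by simp [hbc]),
    Finset.sum_singleton] at h
  have h1 : (Finset.univ.filter fun v : W => q v = 1).card = 1 := by
    rw [Finset.card_eq_one]
    exact ⟨1, by ext v; simp [hq.aniso]⟩
  simp only [Nat.card_eq_fintype_card, Fintype.card_subtype]
  rw [h1, Finset.card_univ] at h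
  omega

/-- The dimension bound. -/
theorem H69_dim {V : Type*} [Group V] [Finite V] {T : Type*} [Group T] [Finite T]
    {q : V → T} (hq : H69_Quad q) {n : ℕ} (hn : Nat.card V = 2 ^ n) : n ≤ 4 := by
  by_contra h
  push Not at h
  obtain ⟨a, b, c, ha, hb, hc, hne3, hsum⟩ := H69_split hq (⊤ : Subgroup V)
  have hcard : Nat.card (⊤ : Subgroup V) = 2 ^ n := by rw [Subgroup.card_top, hn]
  have h32 : (32 : ℤ) ∣ ((2 : ℤ) ^ n) :=
    ⟨2 ^ (n - 5), by rw [show (32 : ℤ) = 2 ^ 5 by norm_num, ← pow_add]; congr 1; omega⟩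
  have key : ∀ e : T, e ≠ 1 →
      (8 : ℤ) ∣ 2 * ((Nat.card {v : (⊤ : Subgroup V) // q v = e} : ℤ) + 1) - 2 ^ n := by
    intro e he
    have h1 := H69_quad_dvd hq (⊤ : Subgroup V) e he
    rw [H69_nontriv_count hq _ e he, hcard] at h1
    push_cast at h1
    set S := 2 * ((Nat.card {v : (⊤ : Subgroup V) // q v = e} : ℤ) + 1) - 2 ^ n
    have h2 : (32 : ℤ) ∣ S * S := h32.trans h1
    have h4 : (2 : ℤ) ∣ S := by
      rcases Int.prime_two.dvd_mul.1 ((show (2 : ℤ) ∣ 32 by norm_num).trans h2) with h | h <;> exact h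
    obtain ⟨S', hS'⟩ := h4
    have h8 : (8 : ℤ) ∣ S' * S' := by
      obtain ⟨k, hk⟩ := h2
      exact ⟨k, by rw [hS'] at hk; linarith⟩
    have h5 : (2 : ℤ) ∣ S' := by
      rcases Int.prime_two.dvd_mul.1 ((show (2 : ℤ) ∣ 8 by norm_num).trans h8) with h | h <;> exact h
    obtain ⟨S'', hS''⟩ := h5
    have h2' : (2 : ℤ) ∣ S'' * S'' := by
      obtain ⟨k, hk⟩ := h8
      exact ⟨k, by rw [hS''] at hk; linarith⟩
    have h6 : (2 : ℤ) ∣ S'' := by
      rcases Int.prime_two.dvd_mul.1 h2' with h | h <;> exact h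
    obtain ⟨k, hk⟩ := h6
    exact ⟨k, by rw [hS', hS'', hk]; ring⟩
  obtain ⟨i, hi⟩ := key a ha
  obtain ⟨j, hj⟩ := key b hb
  obtain ⟨k, hk⟩ := key c hc
  obtain ⟨l, hl⟩ := h32
  rw [hcard] at hsum
  zify at hsum
  omega

theorem H69_fixed_mod {P : Type*} [Finite P] {r : ℕ} [Fact r.Prime] (f : P → P)
    (hf : f^[r] = id) : Nat.card P ≡ Nat.card {x // f x = x} [MOD r] := by
  classical
  have := Fintype.ofFinite P
  have h : (show Function.End P from f) ^ r ^ 1 = 1 := by
    rw [pow_one]
    have : ∀ k : ℕ, (show Function.End P from f) ^ k = f^[k] := by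
      intro k
      induction k with
      | zero => rfl
      | succ k ih => rw [pow_succ', ih, Function.iterate_succ']; rfl
    rw [this, hf]; rfl
  have := Equiv.Perm.card_fixedPoints_modEq (α := P) (f := (show Function.End P from f)) h
  rw [Nat.card_eq_fintype_card, Nat.card_eq_fintype_card]
  exact this.trans (congrArg (· % r) (Fintype.card_congr (Equiv.refl _)))

theorem H69_mod_fiber {V : Type*} [Group V] [Finite V] {T : Type*} {q : V → T} (g : MulAut V)
    {r : ℕ} [Fact r.Prime] (hg : g ^ r = 1) (hgq : ∀ v, q (g v) = q v) (W : Subgroup V)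
    (hW : ∀ v ∈ W, g v ∈ W) (e : T) :
    Nat.card {v : W // q v = e} ≡ Nat.card {v : W // q v = e ∧ g v = v} [MOD r] := by
  let f : {v : W // q v = e} → {v : W // q v = e} := fun v =>
    ⟨⟨g v.1, hW _ v.1.2⟩, by show q (g v.1) = e; rw [hgq]; exact v.2⟩
  have hit : ∀ (k : ℕ) (v : {v : W // q v = e}), ((f^[k] v).1 : V) = (g ^ k) (v.1 : V) := by
    intro k
    induction k with
    | zero => intro v; rfl
    | succ k ih =>
      intro v
      rw [Function.iterate_succ_apply', pow_succ', MulAut.mul_apply, ← ih v]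
  refine (H69_fixed_mod f (funext fun v => Subtype.ext (Subtype.ext ?_))).trans ?_
  · rw [hit, hg]; rfl
  · rw [Nat.card_congr ((Equiv.subtypeEquivRight fun v => (?_ : f v = v ↔ g (v.1 : V) = v.1)).trans
      (Equiv.subtypeSubtypeEquivSubtypeInter (fun v : W => q v = e) fun v => g (v : V) = v))]
    exact ⟨fun h => congrArg (fun z => ((z.1 : W) : V)) h, fun h => Subtype.ext (Subtype.ext h)⟩

theorem H69_no_fpf_seven {V : Type*} [Group V] [Finite V] {T : Type*} [Group T] [Finite T]
    {q : V → T} (hq : H69_Quad q) (g : MulAut V) (hg : g ^ 7 = 1) (hgq : ∀ v, q (g v) = q v)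
    (W : Subgroup V) (hW : ∀ v ∈ W, g v ∈ W) (hW8 : Nat.card W = 8)
    (hfix : ∀ v ∈ W, g v = v → v = 1) : False := by
  have := Fact.mk (show Nat.Prime 7 by norm_num)
  obtain ⟨a, b, c, ha, hb, hc, hne3, hsum⟩ := H69_split hq W
  have hmod : ∀ e : T, e ≠ 1 → 7 ∣ Nat.card {v : W // q v = e} := by
    intro e he
    have h := H69_mod_fiber g hg hgq W hW e
    have hE : IsEmpty {v : W // q v = e ∧ g v = v} := ⟨fun v => he (by
      rw [← v.2.1, hq.aniso]; exact hfix _ v.1.2 v.2.2)⟩
    rw [Nat.card_eq_zero.2 (Or.inl hE)] at h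
    exact Nat.modEq_zero_iff_dvd.1 h
  have hbad : ∀ e : T, e ≠ 1 → Nat.card {v : W // q v = e} ≠ 0 := by
    intro e he h0
    have h := H69_quad_dvd hq W e he
    rw [H69_nontriv_count hq W e he, h0, hW8] at h
    norm_num at h
  have := hmod a ha; have := hmod b hb; have := hmod c hc
  have := hbad a ha; have := hbad b hb; have := hbad c hc
  omega

theorem H69_no_five {V : Type*} [Group V] [Finite V] {T : Type*} [Group T] [Finite T]
    {q : V → T} (hq : H69_Quad q) (g h : MulAut V) (hg : g ^ 5 = 1) (hgq : ∀ v, q (g v) = q v)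
    (hfix : ∀ v, g v = v → v = 1) (hh : h ^ 3 = 1) (hh1 : h ≠ 1) (hhq : ∀ v, q (h v) = q v)
    (h16 : Nat.card V = 16) : False := by
  have := Fact.mk (show Nat.Prime 5 by norm_num)
  have := Fact.mk (show Nat.Prime 3 by norm_num)
  obtain ⟨a, b, c, ha, hb, hc, hne3, hsum⟩ := H69_split hq (⊤ : Subgroup V)
  rw [Subgroup.card_top, h16] at hsum
  have hmod : ∀ e : T, e ≠ 1 → 5 ∣ Nat.card {v : (⊤ : Subgroup V) // q v = e} := by
    intro e he
    have h := H69_mod_fiber g hg hgq ⊤ (fun _ _ => Subgroup.mem_top _) e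
    have hE : IsEmpty {v : (⊤ : Subgroup V) // q v = e ∧ g v = v} := ⟨fun v => he (by
      rw [← v.2.1, hq.aniso]; exact hfix _ v.2.2)⟩
    rw [Nat.card_eq_zero.2 (Or.inl hE)] at h
    exact Nat.modEq_zero_iff_dvd.1 h
  have hbad : ∀ e : T, e ≠ 1 → Nat.card {v : (⊤ : Subgroup V) // q v = e} ≠ 0 := by
    intro e he h0
    have h := H69_quad_dvd hq (⊤ : Subgroup V) e he
    rw [H69_nontriv_count hq _ e he, h0, Subgroup.card_top, h16] at h
    norm_num at h
  have := hmod a ha; have := hmod b hb; have := hmod c hc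
  have := hbad a ha; have := hbad b hb; have := hbad c hc
  -- fixed points of `h`
  have h3 : ∀ e : T, e ≠ 1 → Nat.card {v : (⊤ : Subgroup V) // q v = e} = 5 →
      2 ≤ Nat.card {v : (⊤ : Subgroup V) // q v = e ∧ h v = v} := by
    intro e he h5
    have hh := H69_mod_fiber h hh hhq ⊤ (fun _ _ => Subgroup.mem_top _) e
    rw [h5] at hh
    have := hh
    unfold Nat.ModEq at this
    omega
  have hA := h3 a ha (by omega); have hB := h3 b hb (by omega); have hC := h3 c hc (by omega)
  let F : Subgroup V :=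
    { carrier := {v | h v = v}
      one_mem' := map_one h
      mul_mem' := fun {u v} hu hv => by
        show h (u * v) = u * v; rw [map_mul, show h u = u from hu, show h v = v from hv]
      inv_mem' := fun {u} hu => by show h u⁻¹ = u⁻¹; rw [map_inv, show h u = u from hu] }
  have hF6 : 6 < Nat.card F := by
    have hab : a ≠ b ∧ a ≠ c ∧ b ≠ c := hne3
    classical
    have := Fintype.ofFinite V
    have e1 : ∀ e : T, Nat.card {v : (⊤ : Subgroup V) // q v = e ∧ h v = v} =
        (Finset.univ.filter fun v : V => q v = e ∧ h v = v).card := by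
      intro e
      rw [← Fintype.card_subtype, ← Nat.card_eq_fintype_card]
      exact Nat.card_congr (Subgroup.topEquiv.toEquiv.subtypeEquiv fun v => Iff.rfl)
    rw [e1] at hA hB hC
    have hF : Nat.card F = (Finset.univ.filter fun v : V => h v = v).card := by
      rw [← Fintype.card_subtype, ← Nat.card_eq_fintype_card]; rfl
    have hsub : ({1} ∪ ((Finset.univ.filter fun v : V => q v = a ∧ h v = v) ∪
        ((Finset.univ.filter fun v : V => q v = b ∧ h v = v) ∪
         (Finset.univ.filter fun v : V => q v = c ∧ h v = v)))) ⊆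
        Finset.univ.filter fun v : V => h v = v := by
      intro v hv
      simp only [Finset.mem_union, Finset.mem_singleton, Finset.mem_filter] at hv
      simp only [Finset.mem_filter, Finset.mem_univ, true_and]
      rcases hv with rfl | ⟨-, -, h⟩ | ⟨-, -, h⟩ | ⟨-, -, h⟩
      exacts [map_one h, h, h, h]
    have := Finset.card_le_card hsub
    rw [Finset.card_union_of_disjoint, Finset.card_union_of_disjoint,
      Finset.card_union_of_disjoint, Finset.card_singleton] at this
    · omega
    · rw [Finset.disjoint_left]; rintro v hv1 hv2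
      exact hab.2.2 ((Finset.mem_filter.1 hv1).2.1.symm.trans (Finset.mem_filter.1 hv2).2.1)
    · rw [Finset.disjoint_left]; rintro v hv1 hv2
      rcases Finset.mem_union.1 hv2 with hv2 | hv2
      · exact hab.1 ((Finset.mem_filter.1 hv1).2.1.symm.trans (Finset.mem_filter.1 hv2).2.1)
      · exact hab.2.1 ((Finset.mem_filter.1 hv1).2.1.symm.trans (Finset.mem_filter.1 hv2).2.1)
    · rw [Finset.disjoint_left]; rintro v hv1 hv2
      obtain rfl := Finset.mem_singleton.1 hv1
      have hq1 : q (1 : V) = 1 := (hq.aniso 1).2 rfl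
      simp only [Finset.mem_union, Finset.mem_filter] at hv2
      rcases hv2 with ⟨-, h, -⟩ | ⟨-, h, -⟩ | ⟨-, h, -⟩
      exacts [ha (h.symm.trans hq1), hb (h.symm.trans hq1), hc (h.symm.trans hq1)]
  apply hh1
  have hd : Nat.card F ∣ 16 := h16 ▸ Subgroup.card_subgroup_dvd_card F
  have hF16 : Nat.card F = 8 ∨ Nat.card F = 16 := by
    have := Nat.le_of_dvd (by norm_num) hd
    obtain ⟨k, hk⟩ := hd
    interval_cases hc' : Nat.card F <;> omega
  ext v
  show h v = v
  rcases hF16 with hF | hF
  · by_contra hv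
    have hidx : F.index = 2 := by
      have h := F.card_mul_index
      rw [hF, h16] at h; omega
    have hvF : v ∉ F := hv
    have hhv : h v ∉ F := fun hm => hv (h.injective (show h (h v) = h v from hm))
    have hd : v * h v ∈ F :=
      (Subgroup.mul_mem_iff_of_index_two hidx).2 ⟨fun x => absurd x hvF, fun x => absurd x hhv⟩
    set δ := v * h v with hδ
    have hδv : h v = v * δ := by rw [hδ, ← mul_assoc, hq.sq, one_mul]
    have e3 : (h ^ 3) v = v * δ := by
      rw [pow_succ', pow_succ', pow_one, MulAut.mul_apply, MulAut.mul_apply, hδv, map_mul,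
        show h δ = δ from hd, hδv, mul_assoc, hq.sq, mul_one, hδv]
    rw [hh, MulAut.one_apply] at e3
    exact hv (by rw [hδv]; exact e3.symm)
  · have : F = ⊤ := Subgroup.eq_top_of_card_eq F (by rw [hF, h16])
    exact show v ∈ F from this ▸ Subgroup.mem_top v

theorem H69_quad_trivial {V : Type*} [Group V] [Finite V] (h2 : IsPGroup 2 V) {T : Type*} [Group T]
    [Finite T] {q : V → T} (hq : H69_Quad q) (I : Subgroup (MulAut V)) (hI : ⁅I, I⁆ = I)
    (hIq : ∀ g ∈ I, ∀ v, q (g v) = q v) : I = ⊥ := by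
  have := Fact.mk Nat.prime_two
  obtain ⟨n, hn⟩ := IsPGroup.iff_card.1 h2
  have hn4 := H69_dim hq hn
  -- orders of elements
  have hord : ∀ (g : MulAut V) (r : ℕ), g ∈ I → r.Prime → orderOf g = r → 5 ≤ r →
      r = 5 ∧ Nat.card V = 16 ∧ ∀ v, g v = v → v = 1 := by
    intro g r hgI hr hgr hr5
    have := Fact.mk hr
    have hgp : g ^ r = 1 := by rw [← hgr, pow_orderOf_eq_one]
    let F : Subgroup V :=
      { carrier := {v | g v = v}
        one_mem' := map_one g
        mul_mem' := fun {u v} hu hv => by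
          show g (u * v) = u * v; rw [map_mul, show g u = u from hu, show g v = v from hv]
        inv_mem' := fun {u} hu => by show g u⁻¹ = u⁻¹; rw [map_inv, show g u = u from hu] }
    obtain ⟨j, hj⟩ := IsPGroup.iff_card.1 (h2.to_subgroup F)
    have hmod : Nat.card V ≡ Nat.card F [MOD r] := by
      refine H69_fixed_mod (fun v => g v) (funext fun v => ?_)
      have : ∀ k : ℕ, (fun v => g v)^[k] v = (g ^ k) v := by
        intro k
        induction k with
        | zero => rfl
        | succ k ih => rw [Function.iterate_succ_apply', ih, pow_succ', MulAut.mul_apply]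
      rw [this, hgp]; rfl
    rw [hn, hj] at hmod
    have hjn : j < n := by
      have hle := Nat.le_of_dvd Nat.card_pos (Subgroup.card_subgroup_dvd_card F)
      rw [hn, hj] at hle
      rcases lt_or_eq_of_le ((Nat.pow_le_pow_iff_right (by norm_num)).1 hle) with h | h
      · exact h
      · exfalso
        have : F = ⊤ := Subgroup.eq_top_of_card_eq F (by rw [hj, hn, h])
        have : g = 1 := by ext v; exact show v ∈ F from this ▸ Subgroup.mem_top v
        rw [this, orderOf_one] at hgr
        exact hr.ne_one hgr.symm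
    have hdvd : r ∣ 2 ^ n - 2 ^ j := (Nat.modEq_iff_dvd' (Nat.pow_le_pow_right (by norm_num) hjn.le)).1 hmod.symm
    have hcases : (r = 5 ∧ n = 4 ∧ j = 0) ∨ (r = 7 ∧ n = j + 3) := by
      have hfac : 2 ^ n - 2 ^ j = 2 ^ j * (2 ^ (n - j) - 1) := by
        rw [Nat.mul_sub, mul_one, ← pow_add, Nat.add_sub_cancel' hjn.le]
      rw [hfac] at hdvd
      have hd : r ∣ 2 ^ (n - j) - 1 := ((Nat.Prime.dvd_mul hr).1 hdvd).resolve_left fun h => by
        have := Nat.le_of_dvd (by norm_num) (hr.dvd_of_dvd_pow h)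
        omega
      have hd4 : n - j ≤ 4 := by omega
      have hd1 : 1 ≤ n - j := by omega
      obtain ⟨d, hd'⟩ : ∃ d, d = n - j := ⟨_, rfl⟩
      rw [← hd'] at hd hd4 hd1
      interval_cases d
      · norm_num at hd
        exact absurd hd hr.ne_one
      · have := Nat.le_of_dvd (by norm_num) hd; omega
      · have h7 := (Nat.prime_dvd_prime_iff_eq hr (show Nat.Prime 7 by norm_num)).1 (by norm_num at hd ⊢; exact hd)
        exact .inr ⟨h7, by omega⟩
      · norm_num at hd
        rcases (Nat.Prime.dvd_mul hr).1 (show r ∣ 3 * 5 by norm_num; exact hd) with h | h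
        · have := Nat.le_of_dvd (by norm_num) h; omega
        · exact .inl ⟨(Nat.prime_dvd_prime_iff_eq hr (show Nat.Prime 5 by norm_num)).1 h, by omega, by omega⟩
    rcases hcases with ⟨rfl, rfl, rfl⟩ | ⟨rfl, hnj⟩
    · refine ⟨rfl, by rw [hn]; norm_num, fun v hv => ?_⟩
      have : F = ⊥ := Subgroup.eq_bot_of_card_eq F (by rw [hj]; norm_num)
      exact Subgroup.mem_bot.1 (this ▸ (show v ∈ F from hv))
    · exfalso
      -- `W` is the image of `v ↦ v⁻¹ * g v`
      have hcomm : ∀ u v : V, u * v = v * u := fun u v => by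
        have hi : ∀ a : V, a⁻¹ = a := fun a => inv_eq_of_mul_eq_one_right (hq.sq a)
        calc u * v = (u * v)⁻¹ := (hi _).symm
          _ = v * u := by rw [mul_inv_rev, hi, hi]
      let φ : V →* V := MonoidHom.mk' (fun v => v * g v) fun u v => by
        show u * v * g (u * v) = u * g u * (v * g v)
        rw [map_mul, mul_assoc, ← mul_assoc v, hcomm v, mul_assoc, mul_assoc]
      have hker : φ.ker = F := by
        ext v
        show v * g v = 1 ↔ g v = v
        constructor
        · intro h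
          calc g v = v * (v * g v) := by rw [← mul_assoc, hq.sq, one_mul]
            _ = v := by rw [h, mul_one]
        · intro h; rw [h, hq.sq]
      have hW8 : Nat.card φ.range = 8 := by
        have h1 := Subgroup.card_eq_card_quotient_mul_card_subgroup φ.ker
        rw [Nat.card_congr (QuotientGroup.quotientKerEquivRange φ).toEquiv, hker, hn, hj, hnj,
          pow_add, mul_comm (2 ^ j)] at h1
        exact (Nat.eq_of_mul_eq_mul_right (pow_pos (by norm_num) j) h1).symm.trans (by norm_num)
      refine H69_no_fpf_seven hq g hgp (hIq g hgI) φ.range ?_ hW8 ?_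
      · rintro _ ⟨v, rfl⟩
        exact ⟨g v, by show g v * g (g v) = g (v * g v); rw [map_mul]⟩
      · rintro _ ⟨v, rfl⟩ hfix
        change g (v * g v) = v * g v at hfix
        show v * g v = 1
        set δ := v * g v with hδ
        have hgv : g v = v * δ := by rw [hδ, ← mul_assoc, hq.sq, one_mul]
        have hk : ∀ k : ℕ, (g ^ k) v = v * δ ^ k := by
          intro k
          induction k with
          | zero => simp
          | succ k ih =>
            rw [pow_succ' g, MulAut.mul_apply, ih, map_mul, map_pow, hfix, hgv, mul_assoc,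
              ← pow_succ']
        have h7 := hk 7
        rw [hgp, MulAut.one_apply, left_eq_mul] at h7
        rwa [pow_succ, pow_mul δ 2 3, sq, hq.sq, one_pow, one_mul] at h7
  by_contra hne
  have hns : ∀ {p : ℕ}, p.Prime →
      (∀ r : ℕ, r.Prime → r ∣ Nat.card I → r = 2 ∨ r = p) → False := by
    intro p hp h
    have := H33.isSolvable_of_two_primes Nat.prime_two hp h
    have hIp : ⁅(⊤ : Subgroup I), (⊤ : Subgroup I)⁆ = ⊤ := by
      apply Subgroup.map_injective (f := I.subtype) I.subtype_injective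
      rw [Subgroup.map_commutator, ← MonoidHom.range_eq_map, Subgroup.range_subtype, hI]
    have h1 := H69_perfect_le_ker hIp (MonoidHom.id I)
    refine hne (eq_bot_iff.2 fun x hx => ?_)
    exact Subgroup.mem_bot.2 (congrArg Subtype.val
      (show (⟨x, hx⟩ : I) = 1 from h1 (Subgroup.mem_top _)))
  have hel : ∀ r : ℕ, r.Prime → r ∣ Nat.card I → ∃ g ∈ I, orderOf g = r := by
    intro r hr hd
    have := Fact.mk hr
    obtain ⟨g, hg⟩ := exists_prime_orderOf_dvd_card' r hd
    exact ⟨g, g.2, by rw [Subgroup.orderOf_coe]; exact hg⟩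
  have h5 : ∀ r : ℕ, r.Prime → r ∣ Nat.card I → r = 2 ∨ r = 3 ∨ r = 5 := by
    intro r hr hd
    by_cases h : 5 ≤ r
    · obtain ⟨g, hgI, hg⟩ := hel r hr hd
      exact .inr (.inr (hord g r hgI hr hg h).1)
    · have := hr.two_le
      interval_cases r <;> first
        | exact .inl rfl
        | exact .inr (.inl rfl)
        | norm_num at hr
  have h5I : 5 ∣ Nat.card I := by
    by_contra h
    exact hns Nat.prime_three fun r hr hd =>
      (h5 r hr hd).imp_right (fun h' => h'.resolve_right fun e => h (e ▸ hd))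
  have h3I : 3 ∣ Nat.card I := by
    by_contra h
    exact hns (show Nat.Prime 5 by norm_num) fun r hr hd =>
      (h5 r hr hd).imp_right (fun h' => h'.resolve_left fun e => h (e ▸ hd))
  obtain ⟨g, hgI, hg⟩ := hel 5 (by norm_num) h5I
  obtain ⟨k, hkI, hk⟩ := hel 3 (by norm_num) h3I
  obtain ⟨-, h16, hfix⟩ := hord g 5 hgI (by norm_num) hg le_rfl
  exact H69_no_five hq g k (by rw [← hg, pow_orderOf_eq_one]) (hIq g hgI) hfix
    (by rw [← hk, pow_orderOf_eq_one]) (fun e => by rw [e, orderOf_one] at hk; omega) (hIq k hkI) h16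

theorem H69_four {X : Type*} [Group X] [Finite X] (h2 : IsPGroup 2 X)
    (h3 : Nat.card {x : X // orderOf x = 2} = 3) :
    Nat.card {x : X // x * x = 1} = 4 ∧ ∀ a b : X, a * a = 1 → b * b = 1 → a * b = b * a := by
  have := Fact.mk Nat.prime_two
  classical
  have := Fintype.ofFinite X
  have hiff : ∀ x : X, orderOf x = 2 ↔ x ≠ 1 ∧ x * x = 1 := by
    intro x
    constructor
    · intro h; exact ⟨H65.ne_one_of_two h, H65.mul_self_of_two h⟩
    · rintro ⟨h1, h⟩; exact orderOf_eq_prime (by rw [sq]; exact h) h1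
  have hset : (Finset.univ.filter fun x : X => x * x = 1) =
      insert 1 (Finset.univ.filter fun x : X => orderOf x = 2) := by
    ext x
    by_cases h : x = 1 <;> simp [h, hiff]
  have h4 : (Finset.univ.filter fun x : X => x * x = 1).card = 4 := by
    rw [hset, Finset.card_insert_of_notMem (by simp [hiff]), ← Fintype.card_subtype,
      ← Nat.card_eq_fintype_card, h3]
  refine ⟨by rw [Nat.card_eq_fintype_card, Fintype.card_subtype, h4], fun a b ha hb => ?_⟩
  -- a central involution
  have : Nontrivial X := by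
    obtain ⟨⟨x, hx⟩⟩ : Nonempty {x : X // orderOf x = 2} := (Nat.card_pos_iff.1 (by omega)).1
    exact ⟨⟨1, x, fun h => H65.ne_one_of_two hx h.symm⟩⟩
  have hZnt := h2.center_nontrivial
  obtain ⟨⟨z, hzc⟩, hz⟩ := exists_prime_orderOf_dvd_card' (G := Subgroup.center X) 2
    ((h2.to_subgroup _).card_eq_or_dvd.resolve_left fun h =>
      (Finite.one_lt_card_iff_nontrivial.2 hZnt).ne' h)
  rw [Subgroup.orderOf_mk] at hz
  obtain ⟨hz1, hzz⟩ := (hiff z).1 hz
  have hc : ∀ x, x * z = z * x := Subgroup.mem_center_iff.1 hzc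
  -- every square root of one is `1`, `z`, `u` or `z * u` for a fixed `u`
  obtain ⟨u, hu, hu1, huz⟩ : ∃ u : X, u * u = 1 ∧ u ≠ 1 ∧ u ≠ z := by
    by_contra h
    push Not at h
    have hsub : (Finset.univ.filter fun x : X => x * x = 1) ⊆ {1, z} := by
      intro x hx
      simp only [Finset.mem_filter, Finset.mem_univ, true_and] at hx
      by_cases h1 : x = 1
      · simp [h1]
      · simp [h x hx h1]
    have := (Finset.card_le_card hsub).trans Finset.card_le_two
    omega
  have hzu : (z * u) * (z * u) = 1 := by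
    calc (z * u) * (z * u) = z * (u * z) * u := by group
      _ = (z * z) * (u * u) := by rw [hc]; group
      _ = 1 := by rw [hzz, hu, one_mul]
  have hsub : ({1, z, u, z * u} : Finset X) ⊆ Finset.univ.filter fun x : X => x * x = 1 := by
    intro x hx
    simp only [Finset.mem_insert, Finset.mem_singleton] at hx
    rcases hx with rfl | rfl | rfl | rfl <;> simp [hzz, hu, hzu]
  have hc4 : ({1, z, u, z * u} : Finset X).card = 4 := by
    rw [Finset.card_insert_of_notMem, Finset.card_insert_of_notMem, Finset.card_insert_of_notMem,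
      Finset.card_singleton]
    · simp [hz1]
    · simp only [Finset.mem_insert, Finset.mem_singleton, not_or]
      exact ⟨huz.symm, fun h => hu1 (mul_eq_left.1 h.symm)⟩
    · simp only [Finset.mem_insert, Finset.mem_singleton, not_or]
      refine ⟨hz1.symm, hu1.symm, fun h => huz ?_⟩
      calc u = (z * z) * u := by rw [hzz, one_mul]
        _ = z * (z * u) := by group
        _ = z := by rw [← h, mul_one]
  have heq := Finset.eq_of_subset_of_card_le hsub (by omega)
  have hmem : ∀ x : X, x * x = 1 → x = 1 ∨ x = z ∨ x = u ∨ x = z * u := by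
    intro x hx
    have : x ∈ ({1, z, u, z * u} : Finset X) := heq ▸ Finset.mem_filter.2 ⟨Finset.mem_univ _, hx⟩
    simpa using this
  have hzuu : Commute (z * u) u := (show Commute z u from (hc u).symm).mul_left (Commute.refl u)
  have hz' : ∀ x, Commute z x := fun x => (hc x).symm
  rcases hmem a ha with rfl | rfl | rfl | rfl <;> rcases hmem b hb with rfl | rfl | rfl | rfl <;>
    first
      | exact (Commute.one_left _).eq
      | exact (Commute.one_right _).eq
      | exact (hz' _).eq
      | exact (hz' _).symm.eq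
      | exact (Commute.refl _).eq
      | exact hzuu.eq
      | exact hzuu.symm.eq


/-- If X is a finite 2-group containing exactly three involutions, then the automorphism group of X is solvable. -/
theorem result {X : Type*} [Group X] [Finite X] (h2 : IsPGroup 2 X) (h3 : Nat.card {x : X // orderOf x = 2} = 3) : Group.IsSolvable (MulAut X) := by
  have := Fact.mk Nat.prime_two
  obtain ⟨hE4, hEc⟩ := H69_four h2 h3
  by_contra hns
  -- a nontrivial perfect subgroup of `MulAut X`
  obtain ⟨D, ⟨m, hm⟩, hmin⟩ := exists_minimalFor_of_wellFoundedLT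
    (P := fun D : Subgroup (MulAut X) => ∃ m, D = derivedSeries (MulAut X) m) (f := id)
    ⟨⊤, 0, rfl⟩
  have hDne : D ≠ ⊥ := fun h => hns ⟨⟨m, by rw [← hm, h]⟩⟩
  have hD : ⁅D, D⁆ = D := le_antisymm (Subgroup.commutator_le_self _) (hmin (j := ⁅D, D⁆)
    ⟨m + 1, by rw [derivedSeries_succ, ← hm]⟩ (Subgroup.commutator_le_self _))
  refine hDne (eq_bot_iff.2 fun d0 hd0 => Subgroup.mem_bot.2 (MulEquiv.ext fun x0 => ?_))
  -- the square roots of one
  let E : Subgroup X :=
    { carrier := {x | x * x = 1}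
      one_mem' := one_mul 1
      mul_mem' := fun {a b} ha hb => by
        show a * b * (a * b) = 1
        rw [mul_assoc, ← mul_assoc b, ← hEc a b ha hb, mul_assoc a b b, show b * b = 1 from hb,
          mul_one, ha]
      inv_mem' := fun {a} ha => by
        show a⁻¹ * a⁻¹ = 1
        rw [← mul_inv_rev, show a * a = 1 from ha, inv_one] }
  have hEmem : ∀ x, x ∈ E ↔ x * x = 1 := fun x => Iff.rfl
  have hEcard : Nat.card E = 4 := hE4
  have hDE : ∀ (d : MulAut X), ∀ x ∈ E, d x ∈ E := fun d x hx => by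
    show d x * d x = 1
    rw [← map_mul, show x * x = 1 from hx, map_one]
  have hsolv : ∀ S : Subgroup X, Group.IsSolvable S := fun S => by
    have := (h2.to_subgroup S).isNilpotent
    infer_instance
  have hfixE : ∀ d ∈ D, ∀ x ∈ E, d x = x := by
    let φ : MulAut X →* Equiv.Perm E :=
      { toFun := fun d => ⟨fun x => ⟨d x, hDE d x x.2⟩, fun x => ⟨d.symm x, hDE d.symm x x.2⟩,
          fun x => Subtype.ext (d.symm_apply_apply x), fun x => Subtype.ext (d.apply_symm_apply x)⟩
        map_one' := rfl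
        map_mul' := fun _ _ => rfl }
    have := H69_solvable_perm (P := E) hEcard.le
    intro d hd x hx
    have h : φ d = 1 := H69_perfect_le_ker hD φ hd
    exact congrArg (fun σ : Equiv.Perm E => ((σ ⟨x, hx⟩ : E) : X)) h
  -- a critical subgroup
  obtain ⟨C, hCc, hCF, hCc2, hCC⟩ := Cfsg.Agent.S0093.result (p := 2) h2
  set C1 := C ⊓ Subgroup.centralizer (E : Set X) with hC1
  have hDC : ∀ (d : MulAut X), ∀ x ∈ C, d x ∈ C := fun d x hx =>
    H6.apply_mem_of_characteristic hCc d hx
  have hDC1 : ∀ (d : MulAut X), ∀ x ∈ C1, d x ∈ C1 := by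
    refine fun d x hx => ⟨hDC d x hx.1, Subgroup.mem_centralizer_iff.2 fun e he => ?_⟩
    have h := congrArg d (Subgroup.mem_centralizer_iff.1 hx.2 (d.symm e) (hDE d.symm e he))
    simpa using h
  -- squares and commutators in `C1` are central there
  have hsq : ∀ x ∈ C1, ∀ y ∈ C1, (x * x) * y = y * (x * x) := by
    intro x hx y hy
    have hm : (⟨x, hx.1⟩ : C) ^ 2 ∈ frattini C := H31.pow_mem_frattini (h2.to_subgroup C) _
    have := Subgroup.mem_centralizer_iff.1 (hCF ⟨_, hm, rfl⟩) y hy.1
    simpa [sq] using this.symm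
  have hcom : ∀ x ∈ C1, ∀ y ∈ C1, ∀ w ∈ C1, ⁅x, y⁆ * w = w * ⁅x, y⁆ := fun x hx y _ w hw =>
    (Subgroup.mem_centralizer_iff.1
      (hCc2 (Subgroup.commutator_mem_commutator hx.1 (Subgroup.mem_top y))).2 w hw.1).symm
  have hcomE : ∀ x ∈ C1, ∀ y ∈ C1, ⁅x, y⁆ ∈ E := by
    intro x hx y hy
    show ⁅x, y⁆ * ⁅x, y⁆ = 1
    calc ⁅x, y⁆ * ⁅x, y⁆ = x * (y * x⁻¹ * y⁻¹ * ⁅x, y⁆) := by rw [commutatorElement_def]; group
      _ = x * (⁅x, y⁆ * (y * x⁻¹ * y⁻¹)) := by
          rw [hcom x hx y hy _ (mul_mem (mul_mem hy (inv_mem hx)) (inv_mem hy))]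
      _ = (x * x) * y * (x * x)⁻¹ * y⁻¹ := by rw [commutatorElement_def]; group
      _ = 1 := by rw [hsq x hx y hy]; group
  have hmulsq : ∀ x ∈ C1, ∀ y ∈ C1, (x * y) * (x * y) = (x * x) * (y * y) * ⁅y⁻¹, x⁻¹⁆ := by
    intro x hx y hy
    calc (x * y) * (x * y) = x * (x * y) * ⁅y⁻¹, x⁻¹⁆ * y := by rw [commutatorElement_def]; group
      _ = x * (x * y) * (y * ⁅y⁻¹, x⁻¹⁆) := by
          rw [mul_assoc (x * (x * y)), hcom _ (inv_mem hy) _ (inv_mem hx) y hy]
      _ = (x * x) * (y * y) * ⁅y⁻¹, x⁻¹⁆ := by group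
  -- central elements of `C1` are fixed
  have hfixA : ∀ d ∈ D, ∀ x ∈ C1, (∀ y ∈ C1, x * y = y * x) → d x = x := by
    have key : ∀ k : ℕ, ∀ x ∈ C1, x ^ 2 ^ k = 1 → (∀ y ∈ C1, x * y = y * x) →
        ∀ d ∈ D, d x = x := by
      intro k
      induction k with
      | zero => intro x _ hx _ d _; rw [pow_zero, pow_one] at hx; rw [hx, map_one]
      | succ k ih =>
        intro x hx hxk hxc
        have hx2 := ih (x * x) (mul_mem hx hx)
          (by rw [← sq, ← pow_mul, ← pow_succ']; exact hxk)
          (fun y hy => by rw [mul_assoc, hxc y hy, ← mul_assoc, hxc y hy, mul_assoc])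
        have := hsolv E
        refine H69_fix_step hD E hfixE fun d hd => ?_
        show x⁻¹ * d x * (x⁻¹ * d x) = 1
        have hc : x * d x = d x * x := hxc _ (hDC1 d x hx)
        calc x⁻¹ * d x * (x⁻¹ * d x) = x⁻¹ * (d x * x⁻¹) * d x := by group
          _ = x⁻¹ * (x⁻¹ * d x) * d x := by
              rw [(show Commute (d x) x⁻¹ from (show Commute (d x) x from hc.symm).inv_right).eq]
          _ = (x * x)⁻¹ * (d x * d x) := by group
          _ = 1 := by rw [← map_mul, hx2 d hd, inv_mul_cancel]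
    intro d hd x hx hxc
    obtain ⟨k, hk⟩ := h2 x
    exact key k x hx hk hxc d hd
  have hfixsq : ∀ d ∈ D, ∀ x ∈ C1, d (x * x) = x * x := fun d hd x hx =>
    hfixA d hd _ (mul_mem hx hx) (fun y hy => hsq x hx y hy)
  -- the elements with square in `E`
  let K : Subgroup X :=
    { carrier := {x | x ∈ C1 ∧ x * x ∈ E}
      one_mem' := ⟨one_mem _, by rw [one_mul]; exact one_mem _⟩
      mul_mem' := fun {a b} ha hb => ⟨mul_mem ha.1 hb.1, by
        rw [hmulsq a ha.1 b hb.1]
        exact mul_mem (mul_mem ha.2 hb.2) (hcomE _ (inv_mem hb.1) _ (inv_mem ha.1))⟩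
      inv_mem' := fun {a} ha => ⟨inv_mem ha.1, by rw [← mul_inv_rev]; exact inv_mem ha.2⟩ }
  have hKmem : ∀ x, x ∈ K ↔ x ∈ C1 ∧ x * x ∈ E := fun x => Iff.rfl
  have hδ : ∀ d ∈ D, ∀ x ∈ C1, x⁻¹ * d x ∈ K := by
    intro d hd x hx
    refine ⟨mul_mem (inv_mem hx) (hDC1 d x hx), ?_⟩
    rw [hmulsq _ (inv_mem hx) _ (hDC1 d x hx), ← map_mul, hfixsq d hd x hx, ← mul_inv_rev,
      inv_mul_cancel, one_mul]
    exact hcomE _ (inv_mem (hDC1 d x hx)) _ (inv_mem (inv_mem hx))
  have hfixK : ∀ d ∈ D, ∀ x ∈ K, d x = x := by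
    have hKc : ∀ k ∈ K, ∀ e ∈ E, e * k = k * e := fun k hk e he =>
      Subgroup.mem_centralizer_iff.1 hk.1.2 e he
    let N : Subgroup K := E.subgroupOf K
    have hNn : N.Normal := ⟨fun n hn g => by
      show (g : X) * n * (g : X)⁻¹ ∈ E
      rw [← hKc g g.2 n hn, mul_inv_cancel_right]
      exact hn⟩
    let q : K ⧸ N → E := Quotient.lift (fun x : K => (⟨(x : X) * x, x.2.2⟩ : E)) fun a b hab => by
      have hN : a⁻¹ * b ∈ N := QuotientGroup.leftRel_apply.1 hab
      have h : (a : X)⁻¹ * b ∈ E := hN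
      refine Subtype.ext ?_
      show (a : X) * a = b * b
      have hc : ((a : X)⁻¹ * b) * a = a * ((a : X)⁻¹ * b) := hKc a a.2 _ h
      calc (a : X) * a = a * (a * (((a : X)⁻¹ * b) * ((a : X)⁻¹ * b))) := by
            rw [show ((a : X)⁻¹ * b) * ((a : X)⁻¹ * b) = 1 from h, mul_one]
        _ = a * ((a * ((a : X)⁻¹ * b)) * ((a : X)⁻¹ * b)) := by group
        _ = a * ((((a : X)⁻¹ * b) * a) * ((a : X)⁻¹ * b)) := by rw [hc]
        _ = b * b := by group
    have hqv : ∀ x : K, ((q x : E) : X) = (x : X) * x := fun x => rfl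
    have hEE : ∀ t : E, t * t = 1 := fun t => Subtype.ext t.2
    have hquad : H69_Quad q := by
      refine ⟨?_, hEcard, hEE, ?_, ?_⟩
      · intro v
        obtain ⟨x, rfl⟩ := QuotientGroup.mk'_surjective N v
        rw [← map_mul, QuotientGroup.mk'_apply, QuotientGroup.eq_one_iff]
        exact x.2.2
      · refine ⟨fun u v => q u * q v * q (u * v), fun u v => ?_, ?_⟩
        · show q (u * v) = q u * q v * (q u * q v * q (u * v))
          rw [← mul_assoc, hEE, one_mul]
        · intro u v w
          obtain ⟨x, rfl⟩ := QuotientGroup.mk'_surjective N u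
          obtain ⟨y, rfl⟩ := QuotientGroup.mk'_surjective N v
          obtain ⟨z, rfl⟩ := QuotientGroup.mk'_surjective N w
          refine Subtype.ext ?_
          have hb : ∀ a b : K,
              (((q (QuotientGroup.mk' N a) * q (QuotientGroup.mk' N b) *
                q (QuotientGroup.mk' N a * QuotientGroup.mk' N b) : E)) : X) =
              ⁅(b : X)⁻¹, (a : X)⁻¹⁆ := by
            intro a b
            rw [← map_mul]
            show (a : X) * a * ((b : X) * b) * (((a : X) * b) * ((a : X) * b)) = _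
            rw [hmulsq _ a.2.1 _ b.2.1, ← mul_assoc,
              show (a : X) * a * ((b : X) * b) * ((a : X) * a * ((b : X) * b)) = 1 from
                mul_mem (show (a : X) * a ∈ E from a.2.2) b.2.2, one_mul]
          have h1 := hb (x * y) z
          rw [map_mul] at h1
          show _ = (_ : E).1 * (_ : E).1
          rw [h1, hb, hb, Subgroup.coe_mul, mul_inv_rev]
          set a := (z : X)⁻¹
          set b := (y : X)⁻¹
          set c := (x : X)⁻¹
          have ha : a ∈ C1 := inv_mem z.2.1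
          have hb' : b ∈ C1 := inv_mem y.2.1
          have hc' : c ∈ C1 := inv_mem x.2.1
          calc ⁅a, b * c⁆ = ⁅a, b⁆ * (b * ⁅a, c⁆) * b⁻¹ := by simp only [commutatorElement_def]; group
            _ = ⁅a, b⁆ * (⁅a, c⁆ * b) * b⁻¹ := by rw [hcom a ha c hc' b hb']
            _ = ⁅a, b⁆ * ⁅a, c⁆ := by group
            _ = ⁅a, c⁆ * ⁅a, b⁆ :=
              hcom a ha b hb' _ (mul_mem (mul_mem (mul_mem ha hc') (inv_mem ha)) (inv_mem hc'))
      · intro v
        obtain ⟨x, rfl⟩ := QuotientGroup.mk'_surjective N v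
        rw [QuotientGroup.mk'_apply, QuotientGroup.eq_one_iff, Subtype.ext_iff, hqv]
        exact Iff.rfl
    have hDK : ∀ d ∈ D, ∀ x ∈ K, d x ∈ K := fun d _ x hx =>
      ⟨hDC1 d x hx.1, by rw [← map_mul]; exact hDE d _ hx.2⟩
    let σ : D →* MulAut K :=
      { toFun := fun d =>
          { toFun := fun x => ⟨(d : MulAut X) x, hDK d d.2 x x.2⟩
            invFun := fun x => ⟨(d : MulAut X).symm x, hDK (d⁻¹ : D) (d⁻¹ : D).2 x x.2⟩
            left_inv := fun x => Subtype.ext ((d : MulAut X).symm_apply_apply x)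
            right_inv := fun x => Subtype.ext ((d : MulAut X).apply_symm_apply x)
            map_mul' := fun x y => Subtype.ext (map_mul (d : MulAut X) (x : X) (y : X)) }
        map_one' := rfl
        map_mul' := fun _ _ => rfl }
    have hσN : ∀ d : D, N.map (σ d).toMonoidHom = N := by
      intro d
      refine le_antisymm ?_ fun n hn => ?_
      · rintro _ ⟨n, hn, rfl⟩
        exact hDE _ _ hn
      · exact ⟨(σ d).symm n, hDE (d : MulAut X).symm _ hn, (σ d).apply_symm_apply n⟩
    let ρ : D →* MulAut (K ⧸ N) :=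
      { toFun := fun d => QuotientGroup.congr N N (σ d) (hσN d)
        map_one' := by
          ext v; obtain ⟨x, rfl⟩ := QuotientGroup.mk'_surjective N v; rfl
        map_mul' := fun a b => by
          ext v; obtain ⟨x, rfl⟩ := QuotientGroup.mk'_surjective N v; rfl }
    have hDp : ⁅(⊤ : Subgroup D), (⊤ : Subgroup D)⁆ = ⊤ := by
      apply Subgroup.map_injective (f := D.subtype) D.subtype_injective
      rw [Subgroup.map_commutator, ← MonoidHom.range_eq_map, Subgroup.range_subtype, hD]
    have hI : ρ.range = ⊥ := by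
      refine H69_quad_trivial ((h2.to_subgroup K).to_quotient N) hquad _ ?_ ?_
      · rw [MonoidHom.range_eq_map, ← Subgroup.map_commutator, hDp]
      · rintro _ ⟨d, rfl⟩ v
        obtain ⟨x, rfl⟩ := QuotientGroup.mk'_surjective N v
        refine Subtype.ext ?_
        show (d : MulAut X) x * (d : MulAut X) x = (x : X) * x
        rw [← map_mul]
        exact hfixsq d d.2 x x.2.1
    intro d hd x hx
    have := hsolv E
    refine H69_fix_step hD E hfixE (fun d' hd' => ?_) d hd
    have h : ρ ⟨d', hd'⟩ = 1 := Subgroup.mem_bot.1 (hI ▸ ⟨_, rfl⟩)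
    have h' : QuotientGroup.mk (σ ⟨d', hd'⟩ ⟨x, hx⟩) = (QuotientGroup.mk ⟨x, hx⟩ : K ⧸ N) :=
      congrArg (fun f : MulAut (K ⧸ N) => f (QuotientGroup.mk ⟨x, hx⟩)) h
    have hh : (⟨x, hx⟩ : K)⁻¹ * σ ⟨d', hd'⟩ ⟨x, hx⟩ ∈ N := QuotientGroup.eq.1 h'.symm
    exact hh
  have hfixC1 : ∀ d ∈ D, ∀ x ∈ C1, d x = x := fun d hd x hx => by
    have := hsolv K
    exact H69_fix_step hD K hfixK (fun d' hd' => hδ d' hd' x hx) d hd
  have hfixC : ∀ d ∈ D, ∀ x ∈ C, d x = x := fun d hd x hx => by
    have := hsolv C1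
    refine H69_fix_step hD C1 hfixC1 (fun d' hd' => ⟨C.mul_mem (C.inv_mem hx) (hDC d' x hx), ?_⟩) d hd
    refine Subgroup.mem_centralizer_iff.2 fun e he => ?_
    have hxe : x * e * x⁻¹ ∈ E := by
      show x * e * x⁻¹ * (x * e * x⁻¹) = 1
      calc x * e * x⁻¹ * (x * e * x⁻¹) = x * (e * e) * x⁻¹ := by group
        _ = 1 := by rw [show e * e = 1 from he]; group
    have h := hfixE d' hd' _ hxe
    rw [map_mul, map_mul, map_inv, hfixE d' hd' e he] at h
    calc e * (x⁻¹ * d' x) = x⁻¹ * (x * e * x⁻¹) * d' x := by group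
      _ = x⁻¹ * (d' x * e * (d' x)⁻¹) * d' x := by rw [h]
      _ = x⁻¹ * d' x * e := by group
  have := hsolv C
  have := hCc
  exact H69_fix_step hD C hfixC
    (fun d' hd' => hCC (H6.displacement_mem_centralizer d' (N := C) (hfixC d' hd') x0)) d0 hd0

end Cfsg.Agent.S3117
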