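import Cfsg.Statements.S3149
import Cfsg.Agent.H76.RuTwo.Transfer
import Cfsg.Agent.H76.RuTwo.Cover
import Cfsg.Agent.H91.Ru.Out

set_option autoImplicit false
open Cfsg

namespace Cfsg.Agent.S3149

open H76.RuTwo

theorem factor_aux {G : Type*} [Group G] {A : Subgroup G} (hperf : commutator ↥A = ⊤)
    {Q : Type} [Group Q] (hout : Nat.card (Cfsg.Out Q) = 1) (e₀ : (↥A ⧸ Subgroup.center ↥A) ≃* Q) {n : G} (hn : n ∈ Subgroup.normalizer (A : Set G)) :
    ∃ a ∈ A, ∃ c ∈ Subgroup.centralizer (A : Set G), n = a * c := by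
  have hn' : ∀ x : G, x ∈ A ↔ n * x * n⁻¹ ∈ A := Subgroup.mem_normalizer_iff.1 hn
  have hn'' : ∀ x : ↥A, n⁻¹ * (x : G) * n ∈ A := fun x => (hn' _).2 (by simpa [mul_assoc] using x.2)
  let φ : MulAut ↥A :=
    { toFun := fun x => ⟨n * x * n⁻¹, (hn' x).1 x.2⟩
      invFun := fun x => ⟨n⁻¹ * x * n, hn'' x⟩
      left_inv := fun x => Subtype.ext (by simp [mul_assoc])
      right_inv := fun x => Subtype.ext (by simp [mul_assoc])
      map_mul' := fun x y => Subtype.ext (by simp [mul_assoc]) }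
  have hmap : (Subgroup.center ↥A).map φ.toMonoidHom = Subgroup.center ↥A :=
    Subgroup.characteristic_iff_map_eq.1 inferInstance φ
  let q : MulAut (↥A ⧸ Subgroup.center ↥A) := QuotientGroup.congr _ _ φ hmap
  let ψ : MulAut Q := (e₀.symm.trans q).trans e₀
  have hψ : ψ ∈ Cfsg.Inn Q := by
    haveI := (Nat.card_eq_one_iff_unique.1 hout).1
    exact (QuotientGroup.eq_one_iff ψ).1 (Subsingleton.elim _ _)
  obtain ⟨g, hg⟩ := hψ
  obtain ⟨r, rfl⟩ := e₀.surjective g
  obtain ⟨a, rfl⟩ := QuotientGroup.mk'_surjective _ r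
  let ι := QuotientGroup.mk' (Subgroup.center ↥A)
  have hq : ∀ x, ι (φ x) = ι (a * x * a⁻¹) := fun x => by
    apply e₀.injective
    have h1 := DFunLike.congr_fun hg (e₀ (ι x))
    have h2 : ψ (e₀ (ι x)) = e₀ (ι (φ x)) := by
      show e₀ (q (e₀.symm (e₀ (ι x)))) = _
      rw [e₀.symm_apply_apply]
      rfl
    rw [← h2, ← h1, MulAut.conj_apply]
    simp [ι]
  let δ : ↥A →* ↥(Subgroup.center ↥A) := MonoidHom.mk'
    (fun x => ⟨(a * x * a⁻¹)⁻¹ * φ x, QuotientGroup.eq.1 (hq x).symm⟩) fun x y => by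
      apply Subtype.ext
      show (a * (x * y) * a⁻¹)⁻¹ * φ (x * y) =
        ((a * x * a⁻¹)⁻¹ * φ x) * ((a * y * a⁻¹)⁻¹ * φ y)
      have hc := Subgroup.mem_center_iff.1 (QuotientGroup.eq.1 (hq x).symm)
      calc (a * (x * y) * a⁻¹)⁻¹ * φ (x * y)
          = (a * y * a⁻¹)⁻¹ * ((a * x * a⁻¹)⁻¹ * φ x) * φ y := by rw [map_mul]; group
        _ = ((a * x * a⁻¹)⁻¹ * φ x) * (a * y * a⁻¹)⁻¹ * φ y := by rw [hc]
        _ = _ := by rw [mul_assoc]
  have htriv : ∀ x, φ x = a * x * a⁻¹ := fun x => by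
    have hk : commutator ↥A ≤ δ.ker := by
      rw [commutator_def, Subgroup.commutator_le]
      intro u _ v _
      rw [MonoidHom.mem_ker, map_commutatorElement, commutatorElement_eq_one_iff_mul_comm]
      exact Subtype.ext (Subgroup.mem_center_iff.1 (δ v).2 (δ u : ↥A))
    have : δ x = 1 := hk (by rw [hperf]; exact Subgroup.mem_top x)
    exact (inv_mul_eq_one.1 (congrArg Subtype.val this)).symm
  refine ⟨a, a.2, (a : G)⁻¹ * n, Subgroup.mem_centralizer_iff.2 fun x hx => ?_, (mul_inv_cancel_left _ _).symm⟩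
  have h := congrArg Subtype.val (htriv ⟨x, hx⟩)
  have h' : n * x * n⁻¹ = a * x * (a : G)⁻¹ := h
  calc x * ((a : G)⁻¹ * n) = (a : G)⁻¹ * (a * x * (a : G)⁻¹) * n := by group
    _ = (a : G)⁻¹ * (n * x * n⁻¹) * n := by rw [h']
    _ = (a : G)⁻¹ * n * x := by group

/-- Let G be a finite group with no nontrivial normal subgroup of odd order and A a standard subgroup of G which is a double cover of the Rudvalis group (the centre of A has order 2 and A modulo its centre is isomorphic to the Rudvalis group). If the centralizer of A in G has cyclic Sylow 2-subgroups, then A is normal in G. -/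
theorem result {G : Type*} [Group G] [Finite G] (hO : Cfsg.oddCore G = ⊥) (A : Subgroup G) (hA : Cfsg.IsStandardSubgroup A)
    (hZ : Nat.card ↥(Subgroup.center ↥A) = 2) (hAX : Cfsg.Spor.IsoRu (↥A ⧸ Subgroup.center ↥A))
    (hR : ∀ R : Sylow 2 ↥(Subgroup.centralizer (A : Set G)), IsCyclic ↥(R : Subgroup ↥(Subgroup.centralizer (A : Set G)))) : A.Normal := by
  obtain ⟨e₀⟩ := hAX
  have hperf : commutator ↥A = ⊤ := hA.1.1.commutator_eq_top
  let π : ↥A →* Cfsg.Spor.Ru := e₀.toMonoidHom.comp (QuotientGroup.mk' _)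
  have hker : π.ker = Subgroup.center ↥A := by
    ext x
    show e₀ (QuotientGroup.mk' _ x) = 1 ↔ _
    rw [MulEquiv.map_eq_one_iff]
    exact QuotientGroup.eq_one_iff x
  obtain ⟨e, he⟩ := cover_iso hperf π (e₀.surjective.comp (QuotientGroup.mk'_surjective _)) hker.le
    (by rw [hker, hZ])
  set z := e negC with hz
  have hzc : z ∈ Subgroup.center ↥A := by
    rw [← hker, MonoidHom.mem_ker, hz, he]
    exact (QuotientGroup.eq_one_iff _).2 (Subgroup.mem_center_iff.2 negE_central)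
  have hz2 : orderOf z = 2 := by
    rw [hz, MulEquiv.orderOf_eq]
    refine orderOf_eq_prime (Subtype.ext ?_) fun h => negE_ne_one (congrArg Subtype.val h)
    show negE ^ 2 = 1
    rw [pow_two]
    exact zE_sq (by norm_num)
  have hcen : ∀ a ∈ A, (∀ b ∈ A, b * a = a * b) → a = 1 ∨ a = (z : G) := fun a ha hb => by
    have hm : (⟨a, ha⟩ : ↥A) ∈ π.ker :=
      hker ▸ Subgroup.mem_center_iff.2 fun b => Subtype.ext (hb b b.2)
    obtain ⟨d, hd⟩ := e.surjective ⟨a, ha⟩
    rcases cov_ker (a := d) (by rw [← he, hd]; exact hm) with rfl | rfl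
    · rw [map_one] at hd
      exact Or.inl (congrArg Subtype.val hd).symm
    · exact Or.inr (congrArg Subtype.val hd).symm
  have hzc' : ∀ b ∈ A, b * (z : G) = z * b := fun b hb =>
    congrArg Subtype.val (Subgroup.mem_center_iff.1 hzc ⟨b, hb⟩)
  have hz2' : orderOf (z : G) = 2 := by rw [Subgroup.orderOf_coe]; exact hz2
  have hnorm := centralizer_eq_normalizer hA z.2 hz2' hcen hzc'
  have hS : Setup A (z : G) := ⟨z.2, hz2', hcen, hzc', hnorm,
    fun n hn => factor_aux hperf H91.Ru.out_Ru e₀ (hnorm ▸ hn), hR⟩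
  exact hS.normal (CoverFacts.of_iso e rfl coverFacts_cov) hO

end Cfsg.Agent.S3149
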