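import Cfsg.Statements.S3154
import Cfsg.Agent.H69.L34Covers

set_option autoImplicit false
open Cfsg

namespace Cfsg.Agent.S3154

open Subgroup H76.L34 in
theorem H69_pair {X : Type*} [Group X] [Finite X] {F : Type*} [Field F] [Fintype F] (hF : Fintype.card F = 4)
    (π : X →* Matrix.ProjectiveSpecialLinearGroup (Fin 3) F) (hs : Function.Surjective π)
    (hc : π.ker = center X) (hZ : Cfsg.IsElementaryAbelian 2 (center X))
    (T : Sylow 2 X) (hT : (T : Subgroup X) = (H69.L34.pB F).comap π)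
    (H K : Subgroup X) (hH : H = (H69.L34.pA F).comap π)
    (hK : K = ((H69.L34.pA F).map (H69.L34.dual hF).toMonoidHom).comap π) :
    Cfsg.IsElementaryAbelian 2 H ∧ Cfsg.IsElementaryAbelian 2 K ∧
      H ⊓ K = (center ↥(H ⊔ K)).map (H ⊔ K).subtype ∧
      (∃ C : Subgroup X, C ≤ normalizer (H : Set X) ∧ C ⊓ H = ⊥ ∧ H ⊔ C = normalizer (H : Set X) ∧
        Nonempty (↥C ≃* Matrix.ProjectiveSpecialLinearGroup (Fin 2) F)) ∧
      (∃ C : Subgroup X, C ≤ normalizer (K : Set X) ∧ C ⊓ K = ⊥ ∧ K ⊔ C = normalizer (K : Set X) ∧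
        Nonempty (↥C ≃* Matrix.ProjectiveSpecialLinearGroup (Fin 2) F)) := by
  have h2 : ∀ z ∈ π.ker, z * z = 1 := fun z hz => by
    rw [← sq]; exact hZ.2 z (hc ▸ hz)
  set d := (H69.L34.dual hF).toMonoidHom with hd
  have hdd : ∀ s, d (d s) = s := H69.L34.dual_dual hF
  have hdA : ∀ s, d s ∈ H69.L34.pA F ↔ s ∈ (H69.L34.pA F).map d := fun s =>
    ⟨fun h => ⟨d s, h, hdd s⟩, fun ⟨u, hu, hus⟩ => by rw [← hus, hdd]; exact hu⟩
  set π' := d.comp π with hπ'
  have hc' : π'.ker = center X := by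
    rw [← hc]; ext x
    rw [MonoidHom.mem_ker, MonoidHom.mem_ker, hπ', MonoidHom.comp_apply]
    exact map_eq_one_iff d (H69.L34.dual hF).injective
  have hs' : Function.Surjective π' := (H69.L34.dual hF).surjective.comp hs
  have hT' : (T : Subgroup X) = (H69.L34.pB F).comap π' := by
    rw [hT]; ext x
    exact ⟨H69.L34.dual_map_pB hF, fun h => by
      have := H69.L34.dual_map_pB hF (s := d (π x)) h
      rwa [show (H69.L34.dual hF) (d (π x)) = π x from hdd _] at this⟩
  have hK' : K = (H69.L34.pA F).comap π' := by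
    rw [hK]; ext x; exact (hdA (π x)).symm
  have hH' : H = ((H69.L34.pA F).map d).comap π' := by
    rw [hH]; ext x
    rw [mem_comap, mem_comap, ← hdA, hπ', MonoidHom.comp_apply, hdd]
  obtain ⟨e1, c1⟩ := H69.L34.row_case hF π hs hc.le h2 T hT
  obtain ⟨e2, c2⟩ := H69.L34.row_case hF π' hs' hc'.le
    (fun z hz => h2 z (by rw [hc, ← hc']; exact hz)) T hT'
  rw [← hH] at e1 c1
  rw [← hK'] at e2 c2
  obtain ⟨C1, a1, b1, d1, ⟨f1⟩⟩ := c1 K hK e2
  obtain ⟨C2, a2, b2, d2, ⟨f2⟩⟩ := c2 H hH' e1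
  have hcen : center (Matrix.SpecialLinearGroup (Fin 2) F) = ⊥ := by
    rw [← Subgroup.card_eq_one, H37.card_center_SL, Fintype.card_fin, Nat.card_eq_fintype_card, hF]
    rfl
  let q : Matrix.SpecialLinearGroup (Fin 2) F ≃* Matrix.ProjectiveSpecialLinearGroup (Fin 2) F :=
    (QuotientGroup.quotientBot.symm).trans (QuotientGroup.quotientMulEquivOfEq hcen.symm)
  have el : ∀ L : Subgroup X, (∀ x ∈ L, ∀ y ∈ L, x * y = y * x ∧ x * x = 1) →
      Cfsg.IsElementaryAbelian 2 L := fun L h =>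
    ⟨⟨⟨fun a b => Subtype.ext (h a a.2 b b.2).1⟩⟩, fun a ha => by rw [sq]; exact (h a ha a ha).2⟩
  refine ⟨el H e1, el K e2, ?_, ⟨C1, a1, b1, d1, ⟨f1.trans q⟩⟩, ⟨C2, a2, b2, d2, ⟨f2.trans q⟩⟩⟩
  apply le_antisymm
  · intro x hx
    refine ⟨⟨x, mem_sup_left hx.1⟩, ?_, rfl⟩
    refine mem_center_iff.2 fun g => Subtype.ext ?_
    have hle : H ⊔ K ≤ centralizer ({x} : Set X) := sup_le
      (fun y hy => mem_centralizer_singleton_iff.2 (e1 y hy x hx.1).1)
      (fun y hy => mem_centralizer_singleton_iff.2 (e2 y hy x hx.2).1)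
    exact mem_centralizer_singleton_iff.1 (hle g.2)
  · rintro _ ⟨x, hx, rfl⟩
    have hxT : (x : X) ∈ (T : Subgroup X) := (sup_le (α := Subgroup X)
      (show H ≤ (T : Subgroup X) by
        rw [hH, hT]; exact comap_mono fun s ⟨a, b, h⟩ => H69.L34.mem_pB.2 ⟨a, b, 0, h⟩)
      (show K ≤ (T : Subgroup X) by
        rw [hK', hT']; exact comap_mono fun s ⟨a, b, h⟩ => H69.L34.mem_pB.2 ⟨a, b, 0, h⟩)) x.2
    rw [hT, mem_comap, H69.L34.mem_pB] at hxT
    obtain ⟨a, b, c, habc⟩ := hxT
    obtain ⟨u, hu⟩ := hs (puni 1 0 0)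
    obtain ⟨v, hv⟩ := hs (puni 0 0 1)
    have huH : u ∈ H := by rw [hH, mem_comap, hu]; exact ⟨1, 0, rfl⟩
    have hvK : v ∈ K := by
      rw [hK, mem_comap, hv]
      exact ⟨puni 1 0 0, ⟨1, 0, rfl⟩, by
        show H69.L34.dual hF (puni 1 0 0) = _
        rw [H69.L34.dual_puni, mul_zero, zero_add]⟩
    have cu := congrArg π (congrArg Subtype.val (mem_center_iff.1 hx ⟨u, mem_sup_left huH⟩))
    have cv := congrArg π (congrArg Subtype.val (mem_center_iff.1 hx ⟨v, mem_sup_right hvK⟩))
    simp only [Subgroup.coe_mul, map_mul, hu, hv, habc, puni_mul] at cu cv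
    obtain ⟨-, hb1, -⟩ := H69.L34.puni_inj cu
    obtain ⟨-, hb2, -⟩ := H69.L34.puni_inj cv
    have hc0 : c = 0 := by simpa using hb1
    have ha0 : a = 0 := by simpa using hb2.symm
    constructor
    · exact hH.symm.le ⟨a, b, by rw [← hc0]; exact habc⟩
    · refine hK'.symm.le ⟨c, a * c + b, ?_⟩
      show H69.L34.dual hF (π (x : X)) = _
      rw [habc, H69.L34.dual_puni, ha0]

open Subgroup in
theorem H69_elem_eq {X : Type*} [Group X] [Finite X] {F : Type*} [Field F] [Fintype F] (hF : Fintype.card F = 4)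
    {S : Type*} [Group S] (p : X →* S) (e : S ≃* Matrix.ProjectiveSpecialLinearGroup (Fin 3) F)
    (H : Subgroup X) (hH : Cfsg.IsElementaryAbelian 2 (H.map p) ∧ Nat.card ↥(H.map p) = 16)
    (hker : p.ker ≤ H) (hHB : H.map (e.toMonoidHom.comp p) ≤ H69.L34.pB F) :
    H = (H69.L34.pA F).comap (e.toMonoidHom.comp p) ∨
    H = ((H69.L34.pA F).map (H69.L34.dual hF).toMonoidHom).comap (e.toMonoidHom.comp p) := by
  have hmap : H.map (e.toMonoidHom.comp p) = (H.map p).map e.toMonoidHom := (Subgroup.map_map _ _ _).symm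
  have h := H69.L34.eq_pA_or hF hHB (fun s hs => by
    rw [hmap] at hs
    obtain ⟨u, hu, rfl⟩ := hs
    rw [← map_mul, ← sq, hH.1.2 u hu, map_one]) (by
    rw [hmap, card_map_of_injective e.injective, hH.2])
  have he : (H.map (e.toMonoidHom.comp p)).comap (e.toMonoidHom.comp p) = H := by
    refine comap_map_eq_self ?_
    intro x hx
    exact hker (MonoidHom.mem_ker.2 (e.injective (hx.trans (map_one e).symm)))
  rcases h with h | h <;> rw [h] at he
  · exact Or.inl he.symm
  · exact Or.inr he.symm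


/-- Let X be a finite quasisimple group whose centre is an elementary abelian 2-group and whose central quotient is isomorphic to the projective special linear group of dimension 3 over the field with 4 elements. Let T be a Sylow 2-subgroup of X and H ≠ K subgroups of T containing the centre Z(X) whose images in X/Z(X) are elementary abelian of order 16 (the two such subgroups of a Sylow 2-subgroup of the quotient). Then H and K are elementary abelian, H ∩ K is the centre of the subgroup they generate, and each of N_X(H), N_X(K) is a split extension of H, respectively K, by the projective special linear group of dimension 2 over the field with 4 elements (there is a complement isomorphic to that group). -/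
theorem result {X : Type*} [Group X] [Finite X] (hq : Cfsg.IsQuasisimple X) (hZ : Cfsg.IsElementaryAbelian 2 (Subgroup.center X))
    {F : Type*} [Field F] [Fintype F] (hF : Fintype.card F = 4) (hXL : Nonempty ((X ⧸ Subgroup.center X) ≃* Matrix.ProjectiveSpecialLinearGroup (Fin 3) F))
    (T : Sylow 2 X) (H K : Subgroup X) (hHK : H ≠ K) (hHT : H ≤ T) (hKT : K ≤ T) (hZH : Subgroup.center X ≤ H) (hZK : Subgroup.center X ≤ K)
    (hH : Cfsg.IsElementaryAbelian 2 (H.map (QuotientGroup.mk' (Subgroup.center X))) ∧ Nat.card ↥(H.map (QuotientGroup.mk' (Subgroup.center X))) = 16)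
    (hK : Cfsg.IsElementaryAbelian 2 (K.map (QuotientGroup.mk' (Subgroup.center X))) ∧ Nat.card ↥(K.map (QuotientGroup.mk' (Subgroup.center X))) = 16) :
    Cfsg.IsElementaryAbelian 2 H ∧ Cfsg.IsElementaryAbelian 2 K ∧
      H ⊓ K = (Subgroup.center ↥(H ⊔ K)).map (H ⊔ K).subtype ∧
      (∃ C : Subgroup X, C ≤ Subgroup.normalizer (H : Set X) ∧ C ⊓ H = ⊥ ∧ H ⊔ C = Subgroup.normalizer (H : Set X) ∧
        Nonempty (↥C ≃* Matrix.ProjectiveSpecialLinearGroup (Fin 2) F)) ∧
      (∃ C : Subgroup X, C ≤ Subgroup.normalizer (K : Set X) ∧ C ⊓ K = ⊥ ∧ K ⊔ C = Subgroup.normalizer (K : Set X) ∧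
        Nonempty (↥C ≃* Matrix.ProjectiveSpecialLinearGroup (Fin 2) F)) := by
  classical
  obtain ⟨e0⟩ := hXL
  have := Fact.mk Nat.prime_two
  set p := QuotientGroup.mk' (Subgroup.center X) with hp
  have hps : Function.Surjective p := QuotientGroup.mk'_surjective _
  -- the unitriangular group is a Sylow subgroup
  have hcardB : Nat.card (H69.L34.pB F) = 2 ^ 6 := by
    have hinj : Function.Injective fun v : F × F × F => H76.L34.puni v.1 v.2.1 v.2.2 := fun v v' h =>
      Prod.ext (H69.L34.puni_inj h).1 (Prod.ext (H69.L34.puni_inj h).2.1 (H69.L34.puni_inj h).2.2)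
    have he : (H69.L34.pB F : Set (Matrix.ProjectiveSpecialLinearGroup (Fin 3) F)) =
        Set.range fun v : F × F × F => H76.L34.puni v.1 v.2.1 v.2.2 := by
      ext s
      rw [SetLike.mem_coe, H69.L34.mem_pB]
      exact ⟨fun ⟨a, b, c, h⟩ => ⟨(a, b, c), h.symm⟩, fun ⟨⟨a, b, c⟩, h⟩ => ⟨a, b, c, h.symm⟩⟩
    rw [show Nat.card (H69.L34.pB F) = Nat.card (Set.range fun v : F × F × F => H76.L34.puni v.1 v.2.1 v.2.2) from
      congrArg (fun S : Set _ => Nat.card S) he, Nat.card_range_of_injective hinj, Nat.card_prod,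
      Nat.card_prod, Nat.card_eq_fintype_card, hF]
    norm_num
  have hcardS : Nat.card (Matrix.ProjectiveSpecialLinearGroup (Fin 3) F) = 2 ^ 6 * 315 := by
    have h := H37.card_PSL_fin (F := F) 3 (by norm_num)
    rw [Fin.prod_univ_three, Nat.card_eq_fintype_card (α := F), hF] at h
    norm_num [-Nat.card_eq_fintype_card] at h ⊢
    omega
  let P : Sylow 2 (Matrix.ProjectiveSpecialLinearGroup (Fin 3) F) :=
    Sylow.ofCard (H69.L34.pB F) (by
      rw [hcardB, hcardS, Nat.factorization_mul (by norm_num) (by norm_num), Finsupp.add_apply,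
        Nat.factorization_eq_zero_of_not_dvd (by norm_num : ¬ 2 ∣ 315),
        Nat.Prime.factorization_pow Nat.prime_two, Finsupp.single_eq_same])
  let T0 : Sylow 2 (Matrix.ProjectiveSpecialLinearGroup (Fin 3) F) :=
    T.mapSurjective (f := e0.toMonoidHom.comp p) (e0.surjective.comp hps)
  obtain ⟨g, hg⟩ := MulAction.exists_smul_eq (Matrix.ProjectiveSpecialLinearGroup (Fin 3) F) T0 P
  set e := e0.trans (MulAut.conj g) with he
  set π := e.toMonoidHom.comp p with hπ
  have hkerπ : π.ker = Subgroup.center X := by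
    ext x
    rw [MonoidHom.mem_ker, hπ, MonoidHom.comp_apply,
      show e.toMonoidHom (p x) = 1 ↔ p x = 1 from map_eq_one_iff e e.injective, hp,
      QuotientGroup.mk'_apply, QuotientGroup.eq_one_iff]
  have hTmap : (T : Subgroup X).map π = H69.L34.pB F := by
    have hP : ((g • T0 : Sylow 2 (Matrix.ProjectiveSpecialLinearGroup (Fin 3) F)) : Subgroup (Matrix.ProjectiveSpecialLinearGroup (Fin 3) F)) = H69.L34.pB F := by
      rw [hg]; rfl
    rw [← hP, Sylow.coe_subgroup_smul]
    ext s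
    constructor
    · rintro ⟨x, hx, rfl⟩
      exact ⟨e0 (p x), ⟨x, hx, rfl⟩, rfl⟩
    · rintro ⟨_, ⟨x, hx, rfl⟩, rfl⟩
      exact ⟨x, hx, rfl⟩
  have hT : (T : Subgroup X) = (H69.L34.pB F).comap π := by
    rw [← hTmap, Subgroup.comap_map_eq_self]
    rw [hkerπ]
    exact hZH.trans hHT
  have hH' := H69_elem_eq hF p e H hH (by rw [hp, QuotientGroup.ker_mk']; exact hZH)
    (hTmap ▸ Subgroup.map_mono hHT)
  have hK' := H69_elem_eq hF p e K hK (by rw [hp, QuotientGroup.ker_mk']; exact hZK)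
    (hTmap ▸ Subgroup.map_mono hKT)
  have hs : Function.Surjective π := e.surjective.comp hps
  rcases hH' with h1 | h1 <;> rcases hK' with h2 | h2
  · exact absurd (h1.trans h2.symm) hHK
  · exact H69_pair hF π hs hkerπ hZ T hT H K h1 h2
  · obtain ⟨a, b, c, d, f⟩ := H69_pair hF π hs hkerπ hZ T hT K H h2 h1
    rw [inf_comm, sup_comm] at c
    exact ⟨b, a, c, f, d⟩
  · exact absurd (h1.trans h2.symm) hHK

end Cfsg.Agent.S3154
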