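import Cfsg.Statements.S3155
import Mathlib

set_option autoImplicit false
open Cfsg

namespace Cfsg.Agent.S3155

/-- inversion has no square root modulo four, by determinants -/
theorem H69_det (A : Matrix (Fin 3) (Fin 3) (ZMod 4)) : A * A ≠ -1 := by
  intro h
  have := congrArg Matrix.det h
  rw [Matrix.det_mul, Matrix.det_neg, Matrix.det_one] at this
  revert this
  generalize A.det = d
  revert d
  decide


/-- Let B be the direct product of three cyclic groups of order 4. Then the automorphism of B inverting every element is not the square of any automorphism of B. -/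
theorem result {B : Type*} [CommGroup B] [Finite B] (hB : Nonempty (B ≃* Multiplicative (ZMod 4 × ZMod 4 × ZMod 4)))
    (τ : B ≃* B) : τ.trans τ ≠ MulEquiv.inv B := by
  obtain ⟨e⟩ := hB
  intro hτ
  let l : (ZMod 4 × ZMod 4 × ZMod 4) ≃+ (Fin 3 → ZMod 4) :=
    { toFun := fun v => ![v.1, v.2.1, v.2.2]
      invFun := fun f => (f 0, f 1, f 2)
      left_inv := fun v => rfl
      right_inv := fun f => by funext i; fin_cases i <;> rfl
      map_add' := fun v w => by funext i; fin_cases i <;> rfl }
  let c : Additive B ≃+ (Fin 3 → ZMod 4) := (MulEquiv.toAdditiveLeft e).trans l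
  let σ : (Fin 3 → ZMod 4) →+ (Fin 3 → ZMod 4) :=
    (c.toAddMonoidHom.comp (MonoidHom.toAdditive τ.toMonoidHom)).comp c.symm.toAddMonoidHom
  let f : (Fin 3 → ZMod 4) →ₗ[ZMod 4] (Fin 3 → ZMod 4) := σ.toZModLinearMap 4
  have hf : ∀ v, f (f v) = -v := by
    intro v
    obtain ⟨b, rfl⟩ := c.surjective v
    have h1 : ∀ b : Additive B, f (c b) = c (Additive.ofMul (τ (Additive.toMul b))) := by
      intro b; simp [f, σ]
    rw [h1, h1, ← map_neg]
    congr 1
    exact congrArg Additive.ofMul (DFunLike.congr_fun hτ (Additive.toMul b))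
  refine H69_det (LinearMap.toMatrix' f) ?_
  rw [← LinearMap.toMatrix'_comp]
  have : f.comp f = -LinearMap.id := by
    exact LinearMap.ext fun v => by simpa using hf v
  rw [this, map_neg, LinearMap.toMatrix'_id]

end Cfsg.Agent.S3155
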