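import Cfsg.Statements.S3156
import Cfsg.Agent.H68.PSU34
import Cfsg.Agent.H69.NormFormPerm

set_option autoImplicit false
open Cfsg

namespace Cfsg.Agent.S3156

theorem H69_s3_rel : (finRotate 3) ^ 3 = (1 : Equiv.Perm (Fin 3)) ∧
    (Equiv.swap (0 : Fin 3) 1) * Equiv.swap (0 : Fin 3) 1 = 1 ∧
    (Equiv.swap (0 : Fin 3) 1) * finRotate 3 = finRotate 3 * finRotate 3 * Equiv.swap (0 : Fin 3) 1 ∧
    finRotate 3 ≠ (1 : Equiv.Perm (Fin 3)) := by decide

theorem H69_aut {F : Type*} [Field F] [Fintype F] (hF : Fintype.card F = 16) {T : Type*} [Group T]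
    (c : T ≃ H68.PSU34.Pts F)
    (hc : ∀ x y, (c (x * y)).1 = ((c x).1.1 + (c y).1.1,
        (c x).1.2 + (c y).1.2 + (c x).1.1 ^ 4 * (c y).1.1))
    (σ τ : MulAut T) (h3 : σ ^ 3 = 1) (h2 : τ * τ = 1) (hts : τ * σ = σ * σ * τ) : σ = 1 := by
  classical
  have h2F := H69.sixteen_two hF
  have : CharP F 2 := CharTwo.of_one_ne_zero_of_two_eq_zero one_ne_zero h2F
  set p : T → F := fun x => (c x).1.1
  have hp : ∀ x y, p (x * y) = p x + p y := fun x y => congrArg Prod.fst (hc x y)
  have h1 : (c 1).1 = (0, 0) := by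
    have h := hc 1 1
    rw [one_mul] at h
    have ha := congrArg Prod.fst h
    have hb := congrArg Prod.snd h
    simp only [CharTwo.add_self_eq_zero] at ha
    simp only [ha, mul_zero, add_zero, CharTwo.add_self_eq_zero] at hb
    exact Prod.ext ha hb
  have hinj : ∀ x y : T, (c x).1 = (c y).1 → x = y := fun x y h => c.injective (Subtype.ext h)
  have hsq : ∀ x : T, (c (x * x)).1 = (0, p x ^ 5) := fun x => by
    rw [hc]
    refine Prod.ext (CharTwo.add_self_eq_zero _) ?_
    show (c x).1.2 + (c x).1.2 + p x ^ 4 * p x = p x ^ 5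
    rw [CharTwo.add_self_eq_zero, zero_add, ← pow_succ]
  have hz : ∀ x : T, p x = 0 ↔ x * x = 1 := fun x =>
    ⟨fun h => hinj _ _ (by rw [hsq, h, h1]; simp), fun h => by
      have := hsq x
      rw [h, h1] at this
      exact eq_zero_of_pow_eq_zero (congrArg Prod.snd this).symm⟩
  have hsec : ∀ a : F, ∃ x : T, p x = a := fun a => by
    have hF2 : Fintype.card F = 4 ^ 2 := by rw [hF]; norm_num
    have h16 : ∀ a : F, a ^ 16 = a := fun a => by rw [← hF]; exact FiniteField.pow_card a
    obtain ⟨b, hb⟩ := H50.exists_trace_eq hF2 (c := a ^ 5) (by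
      rw [← pow_mul, show 5 * 4 = 16 + 4 by norm_num, pow_add, h16, ← pow_succ'])
    exact ⟨c.symm ⟨(a, b), by rw [add_comm]; exact hb⟩, by simp [p]⟩
  choose L hL using hsec
  let Z : F → T := fun z => if h : z ^ 4 + z = (0 : F) ^ 5 then c.symm ⟨(0, z), h⟩ else 1
  have hZ : ∀ z : F, z ^ 4 = z → (c (Z z)).1 = (0, z) := fun z h => by
    simp [Z, h, CharTwo.add_self_eq_zero]
  have hA : ∀ (φ : MulAut T) (x : T), p (φ x) = p (φ (L (p x))) := by
    intro φ x
    set w := (L (p x))⁻¹ * x with hw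
    have hx : x = L (p x) * w := by rw [hw, mul_inv_cancel_left]
    have hw0 : p w = 0 := by
      have := congrArg p hx
      rw [hp, hL] at this
      exact add_eq_left.1 this.symm
    have hw1 : p (φ w) = 0 := (hz _).2 (by rw [← map_mul, (hz w).1 hw0, map_one])
    calc p (φ x) = p (φ (L (p x)) * φ w) := by rw [← map_mul, ← hx]
      _ = _ := by rw [hp, hw1, add_zero]
  let A : MulAut T → F → F := fun φ a => p (φ (L a))
  let B : MulAut T → F → F := fun φ z => (c (φ (Z z))).1.2
  have hAadd : ∀ φ a b, A φ (a + b) = A φ a + A φ b := fun φ a b => by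
    show p (φ (L (a + b))) = p (φ (L a)) + p (φ (L b))
    rw [← hp, ← map_mul, hA φ (L a * L b), hp, hL, hL]
  have hAB : ∀ φ a, B φ (a ^ 5) = A φ a ^ 5 := fun φ a => by
    have h16 : a ^ 16 = a := by rw [← hF]; exact FiniteField.pow_card a
    have e : Z (a ^ 5) = L a * L a := hinj _ _ (by
      rw [hZ _ (by rw [← pow_mul, show 5 * 4 = 16 + 4 by norm_num, pow_add, h16, ← pow_succ']),
        hsq, hL])
    show (c (φ (Z (a ^ 5)))).1.2 = _
    rw [e, map_mul, hsq]
  have hBadd : ∀ φ u v, u ^ 4 = u → v ^ 4 = v → B φ (u + v) = B φ u + B φ v := fun φ u v hu hv => by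
    have e : Z (u + v) = Z u * Z v := hinj _ _ (by
      rw [hc, hZ u hu, hZ v hv, hZ (u + v) (by
        rw [H50.add_pow_q (by rw [hF]; norm_num : Fintype.card F = 4 ^ 2), hu, hv])]
      simp)
    show (c (φ (Z (u + v)))).1.2 = _
    rw [e, map_mul, hc]
    have hw : p (φ (Z u)) = 0 := (hz _).2 (by
      rw [← map_mul, (hz _).1 (show p (Z u) = 0 from congrArg Prod.fst (hZ u hu)), map_one])
    show (c (φ (Z u))).1.2 + (c (φ (Z v))).1.2 + p (φ (Z u)) ^ 4 * _ = _
    rw [hw, zero_pow (by norm_num), zero_mul, add_zero]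
  have hcomp : ∀ φ ψ a, A (φ * ψ) a = A φ (A ψ a) := fun φ ψ a => by
    show p (φ (ψ (L a))) = p (φ (L (p (ψ (L a)))))
    exact hA φ _
  have hA1 : ∀ a, A 1 a = a := fun a => hL a
  have hs := H69.normForm_order_three_eq hF (A σ) (A τ) (B σ) (B τ) (hAadd σ) (hAadd τ)
    (hAB σ) (hAB τ) (hBadd σ) (hBadd τ)
    (fun a => by
      rw [← hcomp, ← hcomp, show σ * σ * σ = 1 by rw [← h3]; simp [pow_succ, mul_assoc], hA1])
    (fun a => by rw [← hcomp, h2, hA1])
    (fun a => by rw [← hcomp, hts, hcomp, hcomp])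
  have hpσ : ∀ x, p (σ x) = p x := fun x => (hA σ x).trans (hs (p x))
  have hZσ : ∀ w, p w = 0 → σ w = w := by
    intro w hw
    set b := (c w).1.2
    have hb4 : b ^ 4 = b := by
      have h := (c w).2
      rw [show (c w).1.1 = 0 from hw, zero_pow (by norm_num)] at h
      exact CharTwo.add_eq_zero.1 h
    have e : w = L (b * b) * L (b * b) := hinj _ _ (by
      rw [hsq, hL]
      refine Prod.ext hw ?_
      show b = (b * b) ^ 5
      calc b = b ^ 4 := hb4.symm
        _ = b ^ 4 * 1 := (mul_one _).symm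
        _ = (b * b) ^ 5 := by
          by_cases h0 : b = 0
          · simp [h0]
          have h3 : b ^ 3 = 1 := mul_right_cancel₀ h0 (by rw [← pow_succ, one_mul]; exact hb4)
          calc b ^ 4 * 1 = b ^ 4 * (b ^ 3) ^ 2 := by rw [h3, one_pow]
            _ = (b * b) ^ 5 := by ring)
    rw [e, map_mul]
    exact hinj _ _ (by rw [hsq, hsq, hpσ])
  ext x
  set w := x⁻¹ * σ x with hw
  have hw0 : p w = 0 := by
    have := hp x w
    rw [hw, mul_inv_cancel_left, hpσ] at this
    exact add_eq_left.1 this.symm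
  have hx : σ x = x * w := by rw [hw, mul_inv_cancel_left]
  have hw2 : w * w = 1 := (hz w).1 hw0
  have h := DFunLike.congr_fun h3 x
  simp only [pow_succ, pow_zero, one_mul, MulAut.mul_apply, MulAut.one_apply, hx, map_mul,
    hZσ w hw0] at h
  rw [mul_assoc (x * w) w w, hw2, mul_one] at h
  rw [MulAut.one_apply, hx, h]

/-- If a finite group T is isomorphic to a Sylow 2-subgroup of the projective special unitary group of dimension 3 with parameter 4 (realised over the field with 16 elements), then no subgroup of the automorphism group of T is isomorphic to the symmetric group of degree 3. -/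
theorem result {T : Type*} [Group T] [Finite T] (hT : (∃ (F : Type) (_ : Field F) (_ : Fintype F), Fintype.card F = 16 ∧ ∃ S : Sylow 2 (Cfsg.PSU 3 F 4), Nonempty (T ≃* ↥(S : Subgroup (Cfsg.PSU 3 F 4))))) (H : Subgroup (MulAut T)) : ¬ Nonempty (↥H ≃* Equiv.Perm (Fin 3)) := by
  rintro ⟨e⟩
  obtain ⟨F, _, _, hF, S, ⟨eT⟩⟩ := hT
  obtain ⟨-, c, hc⟩ := H68.PSU34.exists_coords hF S
  obtain ⟨r3, r2, rr, rne⟩ := H69_s3_rel
  set f : Equiv.Perm (Fin 3) →* MulAut T := H.subtype.comp e.symm.toMonoidHom with hf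
  have hfinj : Function.Injective f := H.subtype_injective.comp e.symm.injective
  have h := H69_aut hF (eT.toEquiv.trans c)
    (fun x y => by
      show (c (eT (x * y))).1 = _
      rw [map_mul]; exact hc _ _)
    (f (finRotate 3)) (f (Equiv.swap 0 1))
    (by rw [← map_pow, r3, map_one]) (by rw [← map_mul, r2, map_one])
    (by rw [← map_mul, rr, map_mul, map_mul])
  exact rne (hfinj (h.trans (map_one f).symm))

end Cfsg.Agent.S3156
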