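import Cfsg.Statements.S3161
import Cfsg.Agent.H69.InvolModel

set_option autoImplicit false
open Cfsg

namespace Cfsg.Agent.S3161

open H69.InvolFixed


/-- Let Q be a non-abelian finite 2-group admitting commuting automorphisms α of order 2 and ρ of order 2^n − 1, where n ≥ 2, such that the fixed points of α form an elementary abelian subgroup of order 2^n on whose nonidentity elements the group generated by ρ acts transitively. Then Q is isomorphic to a Sylow 2-subgroup of the projective special unitary group of dimension 3 with parameter 2^n (realised over the field with 4^n elements) or of the projective special linear group of dimension 3 over the field with 2^n elements. -/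
theorem result {Q : Type*} [Group Q] [Finite Q] (hQ : IsPGroup 2 Q) (hna : ¬ IsMulCommutative Q) (n : ℕ) (hn : 2 ≤ n)
    (α ρ : MulAut Q) (hα : orderOf α = 2) (hρ : orderOf ρ = 2 ^ n - 1) (hc : Commute α ρ)
    (C : Subgroup Q) (hC : ∀ x : Q, x ∈ C ↔ α x = x) (hCE : Cfsg.IsElementaryAbelian 2 C ∧ Nat.card ↥C = 2 ^ n)
    (htr : ∀ x y : Q, x ∈ C → y ∈ C → x ≠ 1 → y ≠ 1 → ∃ k : ℕ, (ρ ^ k) x = y) :
    (∃ (F : Type) (_ : Field F) (_ : Fintype F), Fintype.card F = 4 ^ n ∧
        ∃ S : Sylow 2 (Cfsg.PSU 3 F (2 ^ n)), Nonempty (Q ≃* ↥(S : Subgroup (Cfsg.PSU 3 F (2 ^ n))))) ∨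
      (∃ (F : Type) (_ : Field F) (_ : Fintype F), Fintype.card F = 2 ^ n ∧
        ∃ S : Sylow 2 (Matrix.ProjectiveSpecialLinearGroup (Fin 3) F), Nonempty (Q ≃* ↥(S : Subgroup (Matrix.ProjectiveSpecialLinearGroup (Fin 3) F)))) := by
  classical
  haveI : Fact (Nat.Prime 2) := ⟨Nat.prime_two⟩
  have hinv : ∀ x, α (α x) = x := fun x => by
    have e : α ^ 2 = 1 := by rw [← hα]; exact pow_orderOf_eq_one α
    rw [pow_two] at e
    exact DFunLike.congr_fun e x
  have h : Hyp α ρ C n :=
    { two := hQ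
      hn := hn
      invol := hinv
      rpow := by rw [← hρ]; exact pow_orderOf_eq_one ρ
      comm := fun x => DFunLike.congr_fun hc x
      fix := hC
      sq := fun x hx => by rw [← pow_two]; exact hCE.1.2 x hx
      card := hCE.2
      trans := htr }
  haveI := h.C_normal
  rcases commutative_or (Nat.card Q) h rfl with hab | ⟨hcard, hsq⟩
  · exact absurd ⟨⟨hab⟩⟩ hna
  obtain ⟨D⟩ := h.exists_three_coord hcard hsq
  obtain ⟨k, hk⟩ := (bijective_frobenius (GaloisField 2 n) 2).2 D.κ
  rw [frobenius_def] at hk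
  by_cases hiso : ∃ r : GaloisField 2 n, r ^ 2 + r = k
  · obtain ⟨r, rfl⟩ := hiso
    obtain ⟨F, iF, iFF, hF, S, ⟨E⟩⟩ := exists_linear_ext (n := n) (by omega) r
    rw [hk] at E
    exact Or.inr ⟨F, iF, iFF, hF, S, (D.toExt h).equiv E⟩
  · push Not at hiso
    obtain ⟨F, iF, iFF, hF, S, ⟨E⟩⟩ := exists_unitary_ext hn k hiso
    rw [hk] at E
    exact Or.inl ⟨F, iF, iFF, hF, S, (D.toExt h).equiv E⟩

end Cfsg.Agent.S3161
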