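import Cfsg.Statements.S3162
import Cfsg.Agent.H69.SuzU3Aut
import Cfsg.Agent.H1.Cores

set_option autoImplicit false
open Cfsg

namespace Cfsg.Agent.S3162


/-- Let S be a Sylow 2-subgroup of the special unitary group of dimension 3 with parameter q = 2^n (n ≥ 2; realised over the field with q² elements). Then the largest normal 2-subgroup of the automorphism group of S is elementary abelian of order 2^(2n²), and the automorphism group has order 2^(2n²) · 2n(q² − 1). -/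
theorem result {S : Type*} [Group S] [Finite S] (n : ℕ) (hn : 2 ≤ n) {F : Type*} [Field F] [Fintype F] (hF : Fintype.card F = 4 ^ n)
    (P : Sylow 2 ↥(Cfsg.SU 3 F (2 ^ n))) (hS : Nonempty (S ≃* ↥(P : Subgroup ↥(Cfsg.SU 3 F (2 ^ n))))) :
    Cfsg.IsElementaryAbelian 2 (Cfsg.pCore 2 (MulAut S)) ∧ Nat.card ↥(Cfsg.pCore 2 (MulAut S)) = 2 ^ (2 * n ^ 2) ∧
      Nat.card (MulAut S) = 2 ^ (2 * n ^ 2) * (2 * n * ((2 ^ n) ^ 2 - 1)) := by
  obtain ⟨e⟩ := hS
  have hF' : Fintype.card F = (2 ^ n) ^ 2 := by rw [hF, ← pow_mul, mul_comm, pow_mul]; norm_num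
  have h2 : (2 : F) = 0 := by
    have h : ((Fintype.card F : ℕ) : F) = 0 := Nat.cast_card_eq_zero F
    rw [hF, show (4 : ℕ) = 2 ^ 2 from rfl, ← pow_mul, Nat.cast_pow, Nat.cast_ofNat] at h
    exact eq_zero_of_pow_eq_zero h
  obtain ⟨eU⟩ := H69.SuzU3Aut.sylow_equiv hF' hn rfl h2 P
  let Φ : MulAut (H50.SuzU3.UPt hF') ≃* MulAut S := MulAut.congr (eU.trans e.symm)
  have hcore : Cfsg.pCore 2 (MulAut S) = (H69.SuzU3Aut.coordHom hF' h2).ker.map Φ.toMonoidHom := by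
    rw [← H69.SuzU3Aut.pCore_eq hF' h2 rfl]
    exact (H1.map_pCore_equiv 2 Φ).symm
  have hE := H69.SuzU3Aut.ker_elementary hF' h2
  refine ⟨⟨?_, ?_⟩, ?_, ?_⟩
  · rw [hcore]
    haveI := hE.1
    exact ⟨⟨fun x y => by
      obtain ⟨_, a, ha, rfl⟩ := x
      obtain ⟨_, b, hb, rfl⟩ := y
      refine Subtype.ext ?_
      show Φ a * Φ b = Φ b * Φ a
      rw [← map_mul, ← map_mul, show a * b = b * a from
        congrArg Subtype.val (hE.1.is_comm.comm ⟨a, ha⟩ ⟨b, hb⟩)]⟩⟩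
  · intro x hx
    rw [hcore] at hx
    obtain ⟨a, ha, rfl⟩ := hx
    show Φ a ^ 2 = 1
    rw [← map_pow, hE.2 a ha, map_one]
  · rw [hcore, ← H69.SuzU3Aut.card_ker hF' h2 rfl]
    exact (Nat.card_congr (Subgroup.equivMapOfInjective _ _ Φ.injective).toEquiv).symm
  · rw [← Nat.card_congr Φ.toEquiv, H69.SuzU3Aut.card_aut hF' h2 rfl (by omega)]

end Cfsg.Agent.S3162
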