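import Cfsg.Statements.S3175
import Cfsg.Agent.H69.FourthCentreAut
import Cfsg.Agent.H5.Frobenius
import Cfsg.Agent.CompBasic

set_option autoImplicit false
open Cfsg

namespace Cfsg.Agent.S3175

theorem H69_wc {G : Type*} [Group G] [Finite G] (S : Subgroup G) (W : Subgroup ↥S) [W.Normal]
    (h : H69.Z4Data W) : Cfsg.IsWeaklyClosed (W.map S.subtype) S := by
  have F := h.facts
  have hW := h.hW
  refine ⟨Subgroup.map_subtype_le W, fun g hg => ?_⟩
  obtain ⟨c, hc'⟩ : ∃ c : G →* G, c = (MulAut.conj g).toMonoidHom := ⟨_, rfl⟩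
  rw [← hc'] at hg ⊢
  have hcinj : Function.Injective c := hc' ▸ (MulAut.conj g).injective
  have hcard : Nat.card ((W.map S.subtype).map c) = Nat.card (W.map S.subtype) := Subgroup.card_map_of_injective hcinj
  have hS : (W.map S.subtype).relIndex S = 8 := by
    have := Subgroup.relIndex_map_map_of_injective W ⊤ S.subtype_injective
    rw [← MonoidHom.range_eq_map, Subgroup.range_subtype, Subgroup.relIndex_top_right, F.index] at this
    exact this
  have hS2 : ((W.map S.subtype).map c).relIndex S = 8 := by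
    have h1 := Subgroup.card_mul_index (((W.map S.subtype).map c).subgroupOf S)
    have h2 := Subgroup.card_mul_index ((W.map S.subtype).subgroupOf S)
    rw [Cfsg.Comp.card_subgroupOf hg] at h1
    rw [Cfsg.Comp.card_subgroupOf (Subgroup.map_subtype_le W), ← hcard] at h2
    rw [Subgroup.relIndex, ← hS, Subgroup.relIndex]
    exact Nat.eq_of_mul_eq_mul_left Nat.card_pos (h1.trans h2.symm)
  set j : ↥W →* G := S.subtype.comp W.subtype with hj
  have hr : j.range = (W.map S.subtype) := by
    rw [hj, MonoidHom.range_comp, Subgroup.range_subtype]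
  set Z := (Subgroup.upperCentralSeries (↥S) 3).map S.subtype with hZ
  have hjZ : (frattini ↥W).map j = Z := by
    rw [hj, ← Subgroup.map_map, F.phi]
  have hrel : ((W.map S.subtype) ⊓ ((W.map S.subtype).map c)).relIndex j.range ≤ 8 := by
    rw [hr, Subgroup.inf_relIndex_left, ← hS2]
    exact Subgroup.relIndex_le_of_le_right (Subgroup.map_subtype_le W) (by omega)
  have hsq : ∀ u ∈ (W.map S.subtype) ⊓ ((W.map S.subtype).map c), u * u ∈ Z.map c := by
    rintro u ⟨-, hu⟩
    obtain ⟨x, ⟨y, hy, rfl⟩, rfl⟩ := hu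
    rw [← map_mul c]
    refine Subgroup.mem_map_of_mem _ ?_
    rw [← map_mul S.subtype, hZ, ← F.phi]
    exact Subgroup.mem_map_of_mem _ (Subgroup.mem_map_of_mem W.subtype (h.sq_mem ⟨y, hy⟩))
  have hZc : Z.map c = Z := by
    refine (Subgroup.eq_of_le_of_card_ge (hjZ.symm.le.trans (h.zs3_le_of_sq j hrel hsq)) ?_).symm
    rw [Subgroup.card_map_of_injective hcinj]
  refine Subgroup.eq_of_le_of_card_ge ?_ hcard.ge
  intro x hx
  refine ⟨⟨x, hg hx⟩, ?_, rfl⟩
  show (⟨x, hg hx⟩ : ↥S) ∈ W
  rw [hW]
  refine Subgroup.mem_centralizer_iff.2 fun z hz => Subtype.ext ?_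
  have hzZ : (z : G) ∈ Z.map c := hZc.symm ▸ Subgroup.mem_map_of_mem _ hz
  obtain ⟨z0, ⟨z1, hz1, rfl⟩, hze⟩ := hzZ
  obtain ⟨x0, ⟨x1, hx1, rfl⟩, rfl⟩ := hx
  rw [hW] at hx1
  have := congrArg Subtype.val (Subgroup.mem_centralizer_iff.1 hx1 z1 hz1)
  show (z : G) * c (S.subtype x1) = c (S.subtype x1) * z
  rw [← hze, ← map_mul, ← map_mul]
  rw [← map_mul c]
  exact congrArg c this


/-- Let G be a finite group whose Sylow 2-subgroup T has order at least 2^14 and whose upper central series has fourth term of order 16; let W be the centralizer in T of the third term, and suppose the Frattini subgroup of W has order at most 8 and lies in every subgroup of W of index at most 16. Then the normalizer of T in G has a normal 2-complement, and W is weakly closed in T with respect to G. -/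
theorem result {G : Type*} [Group G] [Finite G]
    (T : Sylow 2 G) (ha : 2 ^ 14 ≤ Nat.card ↥(T : Subgroup G))
    (hb : Nat.card ↥(Subgroup.upperCentralSeries ↥(T : Subgroup G) 4) = 16)
    (W : Subgroup ↥(T : Subgroup G))
    (hW : W = Subgroup.centralizer ((Subgroup.upperCentralSeries ↥(T : Subgroup G) 3 : Subgroup ↥(T : Subgroup G)) : Set ↥(T : Subgroup G)))
    (hc : Nat.card ↥(frattini ↥W) ≤ 8)
    (hd : ∀ U : Subgroup ↥W, U.index ≤ 16 → frattini ↥W ≤ U) :
    Cfsg.HasNormalPComplement 2 ↥(Subgroup.normalizer ((T : Subgroup G) : Set G)) ∧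
      Cfsg.IsWeaklyClosed (W.map (T : Subgroup G).subtype) (T : Subgroup G) := by
  have := Fact.mk Nat.prime_two
  have h : H69.Z4Data W := ⟨T.isPGroup', ha, hb, hW, hc, hd⟩
  have := h.normal
  have F := h.facts
  constructor
  · set M := Subgroup.normalizer ((T : Subgroup G) : Set G)
    refine H5.hasNormalPComplement_of_fusion (p := 2) (T.subtype Subgroup.le_normalizer)
      fun x hx g _ => ?_
    obtain ⟨u, v, rfl, ⟨k, hk⟩, hv, -, -⟩ := H5.exists_p_decomposition (p := 2) g
    have hxT : (x : G) ∈ (T : Subgroup G) := hx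
    have huT : (u : G) ∈ (T : Subgroup G) := by
      have hz : IsPGroup 2 (Subgroup.zpowers (u : G)) := by
        refine IsPGroup.iff_card.2 ?_
        rw [Nat.card_zpowers, Subgroup.orderOf_coe]
        obtain ⟨i, -, hi⟩ := (Nat.dvd_prime_pow Nat.prime_two).1 (orderOf_dvd_of_pow_eq_one hk)
        exact ⟨i, hi⟩
      have hsup := hz.to_sup_of_normal_right' T.isPGroup' (Subgroup.zpowers_le.2 u.2)
      have he := T.is_maximal' hsup le_sup_right
      rw [← he]
      exact Subgroup.mem_sup_left (Subgroup.mem_zpowers _)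
    have hvx : (v : G) * x * (v : G)⁻¹ = x := by
      have h1 : (T : Subgroup G).normalizerMonoidHom v = 1 :=
        h.aut_eq_one _ (hv.coprime_dvd_left (orderOf_map_dvd _ v))
      exact congrArg Subtype.val (DFunLike.congr_fun h1 ⟨(x : G), hxT⟩)
    refine ⟨u, huT, Subtype.ext ?_⟩
    simp only [Subgroup.coe_mul, Subgroup.coe_inv]
    calc (u : G) * x * (u : G)⁻¹ = u * (v * x * (v : G)⁻¹) * (u : G)⁻¹ := by rw [hvx]
      _ = u * v * x * ((u : G) * v)⁻¹ := by group
  · exact H69_wc _ W h

end Cfsg.Agent.S3175
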