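import Cfsg.Statements.S3178
import Mathlib
import Cfsg.Agent.H5.Frobenius

set_option autoImplicit false
open Cfsg

namespace Cfsg.Agent.S3178

variable {G : Type*} [Group G] [Finite G]

theorem H69_pow_step {f : MulAut G} (hf : Odd (orderOf f)) {c t : G} (h2 : ∃ k, t ^ 2 ^ k = 1)
    (hc : f c = c * t) (ht : f t = t) : t = 1 := by
  have hm : ∀ m : ℕ, (f ^ m) c = c * t ^ m := by
    intro m
    induction m with
    | zero => simp
    | succ m ih => rw [pow_succ', MulAut.mul_apply, ih, map_mul, map_pow, hc, ht, mul_assoc, pow_succ']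
  have h1 : t ^ orderOf f = 1 := by
    have := hm (orderOf f)
    rwa [pow_orderOf_eq_one, MulAut.one_apply, left_eq_mul] at this
  obtain ⟨k, hk⟩ := h2
  have := pow_gcd_eq_one.mpr ⟨h1, hk⟩
  rwa [Nat.Coprime.gcd_eq_one ((Nat.coprime_two_right.mpr hf).pow_right k), pow_one] at this

theorem H69_cyclic {f : MulAut G} (hf : Odd (orderOf f)) :
    ∀ (k : ℕ) (c : G), c ^ 2 ^ k = 1 → f c ∈ Subgroup.zpowers c → f c = c := by
  intro k
  induction k with
  | zero => intro c h _; simp only [pow_zero, pow_one] at h; simp [h]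
  | succ k ih =>
    intro c h hc
    obtain ⟨i, hi⟩ := Subgroup.mem_zpowers_iff.mp hc
    have h2 : f (c ^ 2) = c ^ 2 := by
      refine ih _ (by rw [← pow_mul, ← pow_succ']; exact h) ?_
      rw [map_pow, ← hi]
      exact Subgroup.mem_zpowers_iff.mpr ⟨i, by group⟩
    rcases Int.even_or_odd i with ⟨j, hj⟩ | ⟨j, hj⟩
    · have e : f c = (c ^ 2) ^ j := by
        rw [← hi, hj, ← zpow_natCast, ← zpow_mul]; congr 1; push_cast; ring
      have e2 : f (f c) = f c := by rw [e, map_zpow, h2]
      exact f.injective e2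
    · have e : f c = c * (c ^ 2) ^ j := by
        rw [← hi, hj, ← zpow_natCast, ← zpow_mul, ← zpow_one_add]; congr 1; push_cast; ring
      have ht : (c ^ 2) ^ j = 1 := H69_pow_step hf ⟨k, by
        rw [← zpow_natCast, ← zpow_mul, mul_comm, zpow_mul, zpow_natCast, ← pow_mul, ← pow_succ', h,
          one_zpow]⟩ e (by rw [map_zpow, h2])
      rw [e, ht, mul_one]

theorem H69_chain (a : G) (ha : ∃ k, orderOf a = 2 ^ k) {u v : G} (hu : u ∈ Subgroup.zpowers a)
    (hv : v ∈ Subgroup.zpowers a) : u ∈ Subgroup.zpowers v ∨ v ∈ Subgroup.zpowers (u ^ 2) := by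
  classical
  obtain ⟨k, hk⟩ := ha
  haveI : Fintype G := Fintype.ofFinite G
  have hsub : ∀ x ∈ Subgroup.zpowers a, ∀ y ∈ Subgroup.zpowers a, orderOf x ∣ orderOf y →
      x ∈ Subgroup.zpowers y := by
    intro x hx y hy hd
    obtain ⟨i, rfl⟩ := mem_powers_iff_mem_zpowers.mpr hx
    obtain ⟨j, rfl⟩ := mem_powers_iff_mem_zpowers.mpr hy
    simp only at hd ⊢
    rw [orderOf_pow, orderOf_pow] at hd
    have hgd : Nat.gcd (orderOf a) j ∣ Nat.gcd (orderOf a) i := by
      obtain ⟨m, hm⟩ := hd
      refine ⟨m, ?_⟩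
      have h1 := Nat.div_mul_cancel (Nat.gcd_dvd_left (orderOf a) i)
      have h2 := Nat.div_mul_cancel (Nat.gcd_dvd_left (orderOf a) j)
      have hpos : 0 < orderOf a / Nat.gcd (orderOf a) i :=
        Nat.div_pos (Nat.le_of_dvd (orderOf_pos a) (Nat.gcd_dvd_left _ _))
          (Nat.gcd_pos_of_pos_left _ (orderOf_pos a))
      rw [hm] at h2
      apply Nat.eq_of_mul_eq_mul_left hpos
      calc _ = orderOf a := h1
        _ = orderOf a / Nat.gcd (orderOf a) i * m * Nat.gcd (orderOf a) j := h2.symm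
        _ = _ := by ring
    obtain ⟨m, hm⟩ := hgd.trans (Nat.gcd_dvd_right (orderOf a) i)
    refine Subgroup.mem_zpowers_iff.mpr ?_
    have hg : a ^ Nat.gcd (orderOf a) j ∈ Subgroup.zpowers (a ^ j) := by
      refine Subgroup.mem_zpowers_iff.mpr ⟨Nat.gcdB (orderOf a) j, ?_⟩
      rw [← zpow_natCast a (Nat.gcd (orderOf a) j), Nat.gcd_eq_gcd_ab, zpow_add, zpow_mul, zpow_mul,
        zpow_natCast, pow_orderOf_eq_one, one_zpow, one_mul, zpow_natCast]
    refine Subgroup.mem_zpowers_iff.mp ?_
    rw [hm, pow_mul]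
    exact Subgroup.pow_mem _ hg m
  have hpow : ∀ x ∈ Subgroup.zpowers a, ∃ i, orderOf x = 2 ^ i := fun x hx => by
    obtain ⟨i, -, hi⟩ := (Nat.dvd_prime_pow Nat.prime_two).mp
      (hk ▸ orderOf_dvd_of_mem_zpowers hx)
    exact ⟨i, hi⟩
  obtain ⟨i, hi⟩ := hpow u hu
  obtain ⟨j, hj⟩ := hpow v hv
  rcases le_or_gt i j with h | h
  · exact Or.inl (hsub u hu v hv (by rw [hi, hj]; exact pow_dvd_pow 2 h))
  · refine Or.inr (hsub v hv _ (Subgroup.pow_mem _ hu 2) ?_)
    rw [orderOf_pow, hi, hj, Nat.gcd_eq_right (dvd_pow_self 2 (by omega)),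
      show i = i - 1 + 1 by omega, pow_succ, Nat.mul_div_cancel _ (by norm_num)]
    exact pow_dvd_pow 2 (by omega)


/-- Groups with a modular Sylow 2-subgroup have a normal 2-complement. Let S, of order 2^(n+1) with n ≥ 3, be a Sylow 2-subgroup of a finite group G, and suppose S contains an element a of order 2^n and an involution b with b a b⁻¹ = a^(2^(n-1) + 1); so S is the non-abelian 2-group with a cyclic subgroup of index 2 that is neither dihedral, semidihedral nor generalized quaternion. Then G has a normal 2-complement. -/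
theorem result {G : Type*} [Group G] [Finite G]
    (S : Sylow 2 G) (n : ℕ) (hn : 3 ≤ n) (hS : Nat.card ↥(S : Subgroup G) = 2 ^ (n + 1))
    (a b : G) (ha : a ∈ (S : Subgroup G)) (hb : b ∈ (S : Subgroup G))
    (hao : orderOf a = 2 ^ n) (hbo : orderOf b = 2) (hrel : b * a * b⁻¹ = a ^ (2 ^ (n - 1) + 1)) :
    Cfsg.HasNormalPComplement 2 G := by
  classical
  haveI : Fact (Nat.Prime 2) := ⟨Nat.prime_two⟩
  set A := Subgroup.zpowers a with hA
  set s : ℕ := 2 ^ (n - 1) + 1 with hs
  have hpn : 2 ^ n = 2 ^ (n - 1) * 2 := by rw [← pow_succ]; congr 1; omega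
  have hpn4 : (4:ℕ) ≤ 2 ^ (n - 1) := by
    calc (4:ℕ) = 2 ^ 2 := rfl
      _ ≤ _ := Nat.pow_le_pow_right (by norm_num) (by omega)
  have hbb : b * b = 1 := by rw [← pow_two, ← hbo]; exact pow_orderOf_eq_one b
  have hbinv : b⁻¹ = b := inv_eq_of_mul_eq_one_right hbb
  have hcb : ∀ c ∈ A, b * c * b⁻¹ = c ^ s := by
    intro c hc
    obtain ⟨i, rfl⟩ := Subgroup.mem_zpowers_iff.mp hc
    rw [← conj_zpow, hrel, ← zpow_natCast, ← zpow_mul, mul_comm, zpow_mul, zpow_natCast]
  have hbA : b ∉ A := by
    intro h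
    obtain ⟨i, hi⟩ := Subgroup.mem_zpowers_iff.mp h
    have : b * a * b⁻¹ = a := by rw [← hi]; group
    rw [hrel] at this
    have := pow_injOn_Iio_orderOf (x := a) (show 2 ^ (n - 1) + 1 ∈ Set.Iio (orderOf a) by
      rw [Set.mem_Iio, hao]; omega) (show 1 ∈ Set.Iio (orderOf a) by rw [Set.mem_Iio, hao]; omega)
      (by simpa using this)
    omega
  have hAS : A ≤ (S : Subgroup G) := by rwa [hA, Subgroup.zpowers_le]
  have hidx : (A.subgroupOf (S : Subgroup G)).index = 2 := by
    have h := (A.subgroupOf (S : Subgroup G)).card_mul_index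
    rw [Nat.card_congr (Subgroup.subgroupOfEquivOfLe hAS).toEquiv, hA, Nat.card_zpowers, hao, hS,
      pow_succ] at h
    exact Nat.eq_of_mul_eq_mul_left (by positivity) h
  -- normal form
  have hform : ∀ x ∈ (S : Subgroup G), x ∉ A → x * b ∈ A := by
    intro x hx hxA
    have := (Subgroup.mul_mem_iff_of_index_two hidx (a := ⟨x, hx⟩) (b := ⟨b, hb⟩)).mpr
      ⟨fun h => absurd (Subgroup.mem_subgroupOf.mp h) hxA, fun h => absurd (Subgroup.mem_subgroupOf.mp h) hbA⟩
    exact this
  have hA2 : ∀ c ∈ A, ∀ k : ℕ, (c * b) * (c * b) = c ^ (s + 1) := by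
    intro c hc _
    calc (c * b) * (c * b) = c * (b * c * b⁻¹) := by rw [hbinv]; group
      _ = c ^ (s + 1) := by rw [hcb c hc, pow_succ' c s]
  -- involutions of the cyclic part
  set z := a ^ 2 ^ (n - 1) with hz
  have hz1 : z ≠ 1 := by
    intro h
    have := orderOf_dvd_of_pow_eq_one h
    rw [hao] at this
    have := Nat.le_of_dvd (by positivity) this
    omega
  have hzz : z * z = 1 := by
    rw [hz, ← pow_add, ← two_mul, mul_comm, ← hpn, ← hao, pow_orderOf_eq_one]
  have hzA : z ∈ A := Subgroup.pow_mem _ (Subgroup.mem_zpowers a) _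
  have hA_inv : ∀ c ∈ A, c ^ 2 = 1 → c = 1 ∨ c = z := by
    intro c hc h
    obtain ⟨i, rfl⟩ := Subgroup.mem_zpowers_iff.mp hc
    rw [← zpow_natCast, ← zpow_mul, ← orderOf_dvd_iff_zpow_eq_one, hao, hpn] at h
    push_cast at h
    obtain ⟨j, hj⟩ := Int.dvd_of_mul_dvd_mul_right (by norm_num) h
    rw [hj, zpow_mul, show (2:ℤ) ^ (n - 1) = ((2 ^ (n - 1) : ℕ) : ℤ) by push_cast; rfl, zpow_natCast, ← hz]
    rcases Int.even_or_odd j with ⟨l, rfl⟩ | ⟨l, rfl⟩
    · left; rw [zpow_add, ← (Commute.refl z).mul_zpow, hzz, one_zpow]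
    · right
      rw [zpow_add, zpow_one, two_mul, zpow_add, ← (Commute.refl z).mul_zpow, hzz, one_zpow, one_mul]
  have htwo : ∀ x ∈ (S : Subgroup G), ∃ k, x ^ 2 ^ k = 1 := by
    intro x hx
    obtain ⟨k, hk⟩ := S.2 ⟨x, hx⟩
    exact ⟨k, by simpa using congrArg Subtype.val hk⟩
  apply H5.hasNormalPComplement_of_frobenius S
  intro Q hQS g hg hgo
  have hQmem : ∀ x ∈ Q, g * x * g⁻¹ ∈ Q := fun x hx => (Subgroup.mem_normalizer_iff.mp hg x).mp hx
  set f : MulAut G := MulAut.conj g with hf
  have hfo : Odd (orderOf f) :=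
    (Nat.coprime_two_right.mp hgo).of_dvd_nat (orderOf_map_dvd MulAut.conj g)
  -- the cyclic part of Q
  obtain ⟨c, hc⟩ : ∃ c, Subgroup.zpowers c = Q ⊓ A := by
    obtain ⟨c, hc⟩ := (Subgroup.isCyclic_iff_exists_zpowers_eq_top (Q ⊓ A)).mp
      (Subgroup.isCyclic_of_le (inf_le_right : Q ⊓ A ≤ A))
    exact ⟨c, hc⟩
  have hcQ : c ∈ Q := (hc ▸ Subgroup.mem_zpowers c : c ∈ Q ⊓ A).1
  have hcA : c ∈ A := (hc ▸ Subgroup.mem_zpowers c : c ∈ Q ⊓ A).2
  have hcyc : ∀ d, (∀ x ∈ Q, x ∈ Subgroup.zpowers d) → d ∈ Q → g ∈ Subgroup.centralizer (Q : Set G) := by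
    intro d hd hdQ
    obtain ⟨k, hk⟩ := htwo d (hQS hdQ)
    have hfd : f d = d := H69_cyclic hfo k d hk (hd _ (hQmem d hdQ))
    rw [Subgroup.mem_centralizer_iff]
    intro x hx
    obtain ⟨i, rfl⟩ := Subgroup.mem_zpowers_iff.mp (hd x hx)
    have : f (d ^ i) = d ^ i := by rw [map_zpow, hfd]
    rw [hf, MulAut.conj_apply, mul_inv_eq_iff_eq_mul] at this
    exact this.symm
  by_cases hQA : Q ≤ A
  · exact hcyc c (fun x hx => by rw [hc]; exact ⟨hx, hQA hx⟩) hcQ
  obtain ⟨x, hxQ, hxA⟩ := SetLike.not_le_iff_exists.mp hQA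
  set d := x * b with hd
  have hdA : d ∈ A := hform x (hQS hxQ) hxA
  have hxd : x = d * b := by rw [hd, mul_assoc, hbb, mul_one]
  by_cases hdQ : d ∈ Q
  swap
  · -- Q is cyclic, generated by x
    refine hcyc x (fun y hy => ?_) hxQ
    have hx2 : x * x = d ^ (s + 1) := by rw [hxd]; exact hA2 d hdA 0
    have hAQ : Q ⊓ A ≤ Subgroup.zpowers x := by
      obtain ⟨i, hi⟩ := Subgroup.mem_zpowers_iff.mp hdA
      -- d * d lies in the group generated by x
      have hd2 : d ^ 2 ∈ Subgroup.zpowers x := by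
        have e : d ^ (s + 1) = (d ^ 2) ^ (2 ^ (n - 2) + 1) := by
          rw [← pow_mul]; congr 1
          have : 2 ^ (n - 1) = 2 ^ (n - 2) * 2 := by rw [← pow_succ]; congr 1; omega
          omega
        obtain ⟨k, hk⟩ := htwo _ ((S : Subgroup G).pow_mem (hAS hdA) 2)
        have hco : Nat.Coprime (2 ^ (n - 2) + 1) (orderOf (d ^ 2)) := by
          refine Nat.Coprime.coprime_dvd_right (orderOf_dvd_of_pow_eq_one hk) (Nat.Coprime.pow_right _ ?_)
          exact Nat.coprime_two_right.mpr ((Nat.even_pow.mpr ⟨even_two, by omega⟩).add_one)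
        obtain ⟨m, hm⟩ := exists_pow_eq_self_of_coprime hco
        rw [← hm, ← e, ← hx2]
        exact Subgroup.pow_mem _ (Subgroup.mul_mem _ (Subgroup.mem_zpowers x) (Subgroup.mem_zpowers x)) _
      intro y hy
      obtain ⟨j, hj⟩ := Subgroup.mem_zpowers_iff.mp hy.2
      -- compare the exponents of y and d
      by_contra hyx
      apply hdQ
      have hyd : d ∈ Subgroup.zpowers y ∨ y ∈ Subgroup.zpowers (d ^ 2) := by
        rcases H69_chain a ⟨n, hao⟩ hdA hy.2 with h | h
        exacts [Or.inl h, Or.inr h]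
      rcases hyd with h | h
      · exact Subgroup.zpowers_le.mpr hy.1 h
      · exact absurd ((Subgroup.zpowers_le.mpr hd2) h) hyx
    by_cases hyA : y ∈ A
    · exact hAQ ⟨hy, hyA⟩
    · have hmem : y * x ∈ Q ⊓ A := by
        refine ⟨Q.mul_mem hy hxQ, ?_⟩
        exact (Subgroup.mul_mem_iff_of_index_two hidx (a := ⟨y, hQS hy⟩) (b := ⟨x, hQS hxQ⟩)).mpr
          ⟨fun h => absurd (Subgroup.mem_subgroupOf.mp h) hyA, fun h => absurd (Subgroup.mem_subgroupOf.mp h) hxA⟩
      simpa using Subgroup.mul_mem _ (hAQ hmem) (Subgroup.inv_mem _ (Subgroup.mem_zpowers x))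
  -- now b lies in Q
  have hbQ : b ∈ Q := by
    have := Q.mul_mem (Q.inv_mem hdQ) hxQ
    rwa [hxd, inv_mul_cancel_left] at this
  have hQform : ∀ y ∈ Q, (∃ k : ℤ, y = c ^ k) ∨ ∃ k : ℤ, y = c ^ k * b := by
    intro y hy
    by_cases hyA : y ∈ A
    · obtain ⟨k, hk⟩ := Subgroup.mem_zpowers_iff.mp (hc ▸ (⟨hy, hyA⟩ : y ∈ Q ⊓ A) : y ∈ Subgroup.zpowers c)
      exact Or.inl ⟨k, hk.symm⟩
    · obtain ⟨k, hk⟩ := Subgroup.mem_zpowers_iff.mp
        (hc ▸ (⟨Q.mul_mem hy hbQ, hform y (hQS hy) hyA⟩ : y * b ∈ Q ⊓ A) : y * b ∈ Subgroup.zpowers c)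
      exact Or.inr ⟨k, by rw [hk, mul_assoc, hbb, mul_one]⟩
  -- squares of c are fixed
  have hc2 : f (c ^ 2) = c ^ 2 := by
    obtain ⟨k, hk⟩ := htwo _ ((S : Subgroup G).pow_mem (hAS hcA) 2)
    refine H69_cyclic hfo k _ hk ?_
    rw [map_pow]
    rcases hQform _ (hQmem c hcQ) with ⟨i, hi⟩ | ⟨i, hi⟩ <;> rw [show f c = _ from hi]
    · exact Subgroup.mem_zpowers_iff.mpr ⟨i, by group⟩
    · rw [pow_two (_ * b), hA2 _ (A.zpow_mem hcA i) 0]
      refine Subgroup.mem_zpowers_iff.mpr ⟨i * (2 ^ (n - 2) + 1 : ℕ), ?_⟩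
      rw [← zpow_natCast (c ^ i) (s + 1), ← zpow_natCast c 2, ← zpow_mul, ← zpow_mul]
      congr 1
      have : 2 ^ (n - 1) = 2 ^ (n - 2) * 2 := by rw [← pow_succ]; congr 1; omega
      rw [hs, this]; push_cast; ring
  have hzfix : z ∈ Q → f z = z := by
    intro hzQ
    by_cases hc4 : c ^ 2 = 1
    · -- the four group case
      set C := Subgroup.centralizer ({b, z} : Set G) with hC
      set D := (S : Subgroup G) ⊓ C with hD
      have hzs : ∀ i : ℕ, z ^ (2 * i + 1) = z := fun i => by
        rw [pow_succ, pow_mul, pow_two, hzz, one_pow, one_mul]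
      have hbz : b * z = z * b := by
        have h := hcb z hzA
        rw [hs, show 2 ^ (n - 1) + 1 = 2 * 2 ^ (n - 2) + 1 by
          rw [← pow_succ']; congr 2; omega, hzs] at h
        rwa [mul_inv_eq_iff_eq_mul] at h
      have hbC : b ∈ C := Subgroup.mem_centralizer_iff.mpr (by
        rintro u (rfl | rfl); exacts [rfl, hbz.symm])
      have ha2C : a ^ 2 ∈ C := Subgroup.mem_centralizer_iff.mpr (by
        rintro u (rfl | rfl)
        · have h := hcb (a ^ 2) (A.pow_mem (Subgroup.mem_zpowers a) 2)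
          have e : (a ^ 2) ^ s = a ^ 2 := by
            rw [← pow_mul, hs, mul_add, mul_comm, ← hpn, mul_one, pow_add, ← hao, pow_orderOf_eq_one, one_mul]
          rw [e, mul_inv_eq_iff_eq_mul] at h
          exact h
        · rw [hz, ← pow_add, ← pow_add, add_comm])
      have haC : a ∉ C := fun h => by
        have h1 := Subgroup.mem_centralizer_iff.mp h b (Or.inl rfl)
        have h2 : b * a * b⁻¹ = a := mul_inv_eq_iff_eq_mul.mpr h1
        rw [hrel] at h2
        have := pow_injOn_Iio_orderOf (x := a) (show 2 ^ (n - 1) + 1 ∈ Set.Iio (orderOf a) by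
          rw [Set.mem_Iio, hao]; omega) (show 1 ∈ Set.Iio (orderOf a) by rw [Set.mem_Iio, hao]; omega)
          (by simpa using h2)
        omega
      -- elements of S commuting with both generators
      have hcentre : ∀ u ∈ (S : Subgroup G), u ^ 2 = 1 → (∀ t ∈ (S : Subgroup G), t * u = u * t) →
          u = 1 ∨ u = z := by
        intro u hu hu2 hcen
        by_cases huA : u ∈ A
        · exact hA_inv u huA hu2
        · exfalso
          obtain ⟨e, heA, rfl⟩ : ∃ e ∈ A, u = e * b :=
            ⟨u * b, hform u hu huA, by rw [mul_assoc, hbb, mul_one]⟩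
          have h1 := hcen a ha
          obtain ⟨i, rfl⟩ := Subgroup.mem_zpowers_iff.mp heA
          rw [← mul_assoc, ((Commute.refl a).zpow_right i).eq, mul_assoc, mul_assoc] at h1
          apply haC
          refine Subgroup.mem_centralizer_iff.mpr ?_
          rintro v (rfl | rfl)
          · exact (mul_left_cancel h1).symm
          · rw [hz, ← pow_succ, ← pow_succ']
      have hDS : (D.subgroupOf (S : Subgroup G)).index = 2 := by
        rw [Subgroup.index_eq_two_iff]
        refine ⟨⟨a, ha⟩, fun y => ?_⟩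
        have hmemA : ∀ u ∈ A, u ∈ C ∨ u * a ∈ C := by
          intro u hu
          obtain ⟨i, rfl⟩ := Subgroup.mem_zpowers_iff.mp hu
          rcases Int.even_or_odd i with ⟨j, rfl⟩ | ⟨j, rfl⟩
          · left; rw [← two_mul, zpow_mul]; exact C.zpow_mem (by simpa using ha2C) j
          · right; rw [← zpow_add_one, add_assoc, show (1:ℤ) + 1 = 2 * 1 from rfl, ← mul_add, zpow_mul]
            exact C.zpow_mem (by simpa using ha2C) _
        have hor : (y : G) * a ∈ C ∨ (y : G) ∈ C := by
          by_cases hyA : (y : G) ∈ A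
          · exact (hmemA _ hyA).symm
          · have e : (y : G) = ((y : G) * b) * b := by rw [mul_assoc, hbb, mul_one]
            rcases hmemA _ (hform _ y.2 hyA) with h | h
            · right; rw [e]; exact C.mul_mem h hbC
            · left
              have e2 : b * a * b⁻¹ = a * z := by rw [hrel, pow_succ', hz]
              have e3 : (y : G) * a = ((y : G) * b * a) * (z * b) := by
                calc (y : G) * a = (y : G) * (b * b) * a * (b⁻¹ * b) := by
                      rw [hbb, inv_mul_cancel]; group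
                  _ = ((y : G) * b) * (b * a * b⁻¹) * b := by group
                  _ = _ := by rw [e2]; group
              rw [e3]
              exact C.mul_mem h (C.mul_mem (by
                rw [hz, show 2 ^ (n - 1) = 2 * 2 ^ (n - 2) by rw [← pow_succ']; congr 1; omega, pow_mul]
                exact C.pow_mem ha2C _) hbC)
        simp only [Subgroup.mem_subgroupOf, D, Subgroup.mem_inf, SetLike.coe_mem, true_and, Subgroup.coe_mul]
        rcases hor with h | h
        · exact Or.inl ⟨⟨(S : Subgroup G).mul_mem y.2 ha, h⟩, fun h' => haC ((Subgroup.mul_mem_cancel_left C h').mp h)⟩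
        · exact Or.inr ⟨h, fun h' => haC ((Subgroup.mul_mem_cancel_left C h).mp h'.2)⟩
      have hDcard : Nat.card D * 2 = 2 ^ (n + 1) := by
        rw [← hS, ← (D.subgroupOf (S : Subgroup G)).card_mul_index, hDS,
          Nat.card_congr (Subgroup.subgroupOfEquivOfLe (inf_le_left : D ≤ (S : Subgroup G))).toEquiv]
      have hDsyl : ∀ R : Sylow 2 C, Nat.card (R : Subgroup C) ≤ Nat.card D := by
        intro R
        obtain ⟨T, hT⟩ := (R.2.map C.subtype).exists_le_sylow
        obtain ⟨t, ht⟩ := MulAction.exists_smul_eq G T S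
        have hcT : Nat.card (T : Subgroup G) = 2 ^ (n + 1) := by
          rw [← hS, T.card_eq_multiplicity, S.card_eq_multiplicity]
        by_contra hlt
        have hRT : (R : Subgroup C).map C.subtype = (T : Subgroup G) := by
          refine Subgroup.eq_of_le_of_card_ge hT ?_
          obtain ⟨k, hk, hk'⟩ := (Nat.dvd_prime_pow Nat.prime_two).mp (hcT ▸ Subgroup.card_dvd_of_le hT)
          rw [hk', hcT]
          refine Nat.pow_le_pow_right (by norm_num) ?_
          rw [Subgroup.card_subtype] at hk'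
          by_contra hk''
          have : 2 ^ k ≤ 2 ^ n := Nat.pow_le_pow_right (by norm_num) (by omega)
          rw [pow_succ] at hDcard
          omega
        have key : ∀ u ∈ ({b, z} : Set G), u ∈ (S : Subgroup G) → u ^ 2 = 1 →
            t * u * t⁻¹ ∈ (S : Subgroup G) → (∀ w ∈ (S : Subgroup G), w * (t * u * t⁻¹) = (t * u * t⁻¹) * w) := by
          intro u hu _ _ _ w hw
          rw [← ht, Sylow.coe_subgroup_smul] at hw
          obtain ⟨w', hw', rfl⟩ := hw
          rw [← hRT] at hw'
          have := Subgroup.mem_centralizer_iff.mp (Subgroup.map_subtype_le _ hw') u hu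
          simp only [MulDistribMulAction.toMonoidEnd_apply, MulDistribMulAction.toMonoidHom_apply, MulAut.smul_def, MulAut.conj_apply]
          calc t * w' * t⁻¹ * (t * u * t⁻¹) = t * (w' * u) * t⁻¹ := by group
            _ = t * (u * w') * t⁻¹ := by rw [this]
            _ = _ := by group
        have key2 : ∀ u ∈ ({b, z} : Set G), u ∈ (S : Subgroup G) → u ^ 2 = 1 → u ≠ 1 → t * u * t⁻¹ = z := by
          intro u hu huS hu2 hu1
          have hcc : t * u * t⁻¹ ∈ (S : Subgroup G) := by
            rw [← ht, Sylow.coe_subgroup_smul]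
            refine ⟨u, ?_, rfl⟩
            by_contra huT
            -- u centralizes T, so with T it generates a larger two-group
            have hcomm : ∀ w ∈ (T : Subgroup G), u * w = w * u := by
              intro w hw
              rw [← hRT] at hw
              exact Subgroup.mem_centralizer_iff.mp (Subgroup.map_subtype_le _ hw) u hu
            have hpu : IsPGroup 2 (Subgroup.zpowers u) := IsPGroup.of_card (n := 1)
              (by rw [Nat.card_zpowers, pow_one]; exact orderOf_eq_prime hu2 hu1)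
            have hp2 : IsPGroup 2 ↥((T : Subgroup G) ⊔ Subgroup.zpowers u) := by
              refine T.2.to_sup_of_normal_left' hpu ?_
              rw [Subgroup.zpowers_le, Subgroup.mem_normalizer_iff]
              intro w
              constructor
              · intro hw; rwa [hcomm w hw, mul_inv_cancel_right]
              · intro hw
                have h3 := hcomm _ hw
                have h4 : u * w * u⁻¹ = w := mul_left_cancel (h3.trans (by group))
                rwa [h4] at hw
            exact huT ((T.3 hp2 le_sup_left).le (Subgroup.mem_sup_right (Subgroup.mem_zpowers u)))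
          refine (hcentre _ hcc (by rw [conj_pow, hu2]; simp) (key u hu huS hu2 hcc)).resolve_left ?_
          intro h; exact hu1 (by simpa using h)
        have e1 := key2 b (Or.inl rfl) hb (by rw [pow_two, hbb]) (fun h => hbA (h ▸ A.one_mem))
        have e2 := key2 z (Or.inr rfl) (hAS hzA) (by rw [pow_two, hzz]) hz1
        exact hbA ((mul_left_cancel (mul_right_cancel (e1.trans e2.symm))) ▸ hzA)
      -- the conjugate of D by g
      have hgC : ∀ v ∈ C, g * v * g⁻¹ ∈ C := by
        intro v hv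
        have hbz' : ∀ u ∈ Q, u * v = v * u := by
          intro u hu
          rcases hQform u hu with ⟨k, rfl⟩ | ⟨k, rfl⟩
          all_goals
            have hck : c ^ k = 1 ∨ c ^ k = z := hA_inv _ (A.zpow_mem hcA k)
              (by rw [← zpow_natCast, ← zpow_mul, mul_comm, zpow_mul, zpow_natCast, hc4, one_zpow])
            have h1 := Subgroup.mem_centralizer_iff.mp hv b (Or.inl rfl)
            have h2 := Subgroup.mem_centralizer_iff.mp hv z (Or.inr rfl)
            rcases hck with h | h <;> rw [h]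
          · simp
          · exact h2
          · simpa using h1
          · exact ((show Commute z v from h2).mul_left h1).eq
        refine Subgroup.mem_centralizer_iff.mpr fun u hu => ?_
        have huQ : u ∈ Q := by rcases hu with rfl | rfl <;> assumption
        have h1 : g⁻¹ * u * g ∈ Q := by
          have := (Subgroup.mem_normalizer_iff.mp hg (g⁻¹ * u * g)).mpr (by simpa [mul_assoc] using huQ)
          exact this
        calc u * (g * v * g⁻¹) = g * ((g⁻¹ * u * g) * v) * g⁻¹ := by group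
          _ = g * (v * (g⁻¹ * u * g)) * g⁻¹ := by rw [hbz' _ h1]
          _ = g * v * g⁻¹ * u := by group
      obtain ⟨R₁, hR₁⟩ := ((S.2.to_le inf_le_left : IsPGroup 2 D).comap_of_injective
        C.subtype C.subtype_injective).exists_le_sylow
      set D' := D.map (MulAut.conj g).toMonoidHom with hD'
      have hD'C : D' ≤ C := by
        rintro _ ⟨v, hv, rfl⟩; exact hgC v hv.2
      obtain ⟨R₂, hR₂⟩ := (((S.2.to_le inf_le_left : IsPGroup 2 D).map _ : IsPGroup 2 D').comap_of_injective
        C.subtype C.subtype_injective).exists_le_sylow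
      obtain ⟨w, hw⟩ := MulAction.exists_smul_eq C R₂ R₁
      have hR₁D : ∀ v ∈ (R₁ : Subgroup C), (v : G) ∈ D := by
        intro v hv
        have : D.subgroupOf C = (R₁ : Subgroup C) := Subgroup.eq_of_le_of_card_ge hR₁ (by
          rw [Nat.card_congr (Subgroup.subgroupOfEquivOfLe (inf_le_right : D ≤ C)).toEquiv]; exact hDsyl R₁)
        rw [← this] at hv; exact hv
      set r := a ^ 2 ^ (n - 2)
      have hr : r * r = z := by
        rw [hz, ← pow_add]; congr 1; rw [← two_mul, ← pow_succ']; congr 1; omega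
      have hrD : r ∈ D := by
        refine ⟨(S : Subgroup G).pow_mem ha _, ?_⟩
        show a ^ 2 ^ (n - 2) ∈ C
        rw [show 2 ^ (n - 2) = 2 * 2 ^ (n - 3) by rw [← pow_succ']; congr 1; omega, pow_mul]
        exact C.pow_mem ha2C _
      have hr' : (⟨g * r * g⁻¹, hgC r hrD.2⟩ : C) ∈ (R₂ : Subgroup C) := hR₂ ⟨r, hrD, by simp⟩
      have hwr : w * ⟨g * r * g⁻¹, hgC r hrD.2⟩ * w⁻¹ ∈ (R₁ : Subgroup C) := by
        rw [← hw, Sylow.coe_subgroup_smul]; exact ⟨_, hr', by simp [MulAut.smul_def]⟩
      have hwrS := (hR₁D _ hwr).1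
      set v := (w : G) * (g * r * g⁻¹) * (w : G)⁻¹
      have hvS : v ∈ (S : Subgroup G) := hwrS
      have hvv : v * v = g * z * g⁻¹ := by
        have hgz : g * z * g⁻¹ ∈ Q := hQmem z hzQ
        have hcomm : (w : G) * (g * z * g⁻¹) = (g * z * g⁻¹) * (w : G) := by
          rcases hQform _ hgz with ⟨k, hk⟩ | ⟨k, hk⟩
          all_goals
            have hck : c ^ k = 1 ∨ c ^ k = z := hA_inv _ (A.zpow_mem hcA k)
              (by rw [← zpow_natCast, ← zpow_mul, mul_comm, zpow_mul, zpow_natCast, hc4, one_zpow])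
            have h1 := Subgroup.mem_centralizer_iff.mp w.2 b (Or.inl rfl)
            have h2 := Subgroup.mem_centralizer_iff.mp w.2 z (Or.inr rfl)
            rw [hk]
            rcases hck with h | h <;> rw [h]
          · simp
          · exact h2.symm
          · simpa using h1.symm
          · exact ((show Commute z (w : G) from h2).mul_left h1).eq.symm
        calc v * v = (w : G) * (g * (r * r) * g⁻¹) * (w : G)⁻¹ := by simp only [v]; group
          _ = g * z * g⁻¹ := by rw [hr, hcomm, mul_inv_cancel_right]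
      have hvA : v * v ∈ A := by
        by_cases h : v ∈ A
        · exact A.mul_mem h h
        · have := hA2 _ (hform v hvS h) 0
          rw [show v * b * b = v by rw [mul_assoc, hbb, mul_one]] at this
          rw [this]; exact A.pow_mem (hform v hvS h) _
      rw [hvv] at hvA
      refine ((hA_inv _ hvA (by rw [conj_pow, pow_two, hzz]; simp)).resolve_left ?_)
      intro h; exact hz1 (by simpa using h)
    · -- z is a power of the square of c
      obtain ⟨k, hk⟩ := htwo c (hAS hcA)
      obtain ⟨j, -, hj⟩ := (Nat.dvd_prime_pow Nat.prime_two).mp (orderOf_dvd_of_pow_eq_one hk)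
      have hj2 : 2 ≤ j := by
        by_contra h
        apply hc4
        rw [← orderOf_dvd_iff_pow_eq_one, hj]
        exact (pow_dvd_pow 2 (by omega : j ≤ 1))
      have h0 : (c ^ 2) ^ 2 ^ (j - 2) = z := by
        refine (hA_inv _ (A.pow_mem (A.pow_mem hcA 2) _) ?_).resolve_left ?_
        · rw [← pow_mul, ← pow_mul, ← orderOf_dvd_iff_pow_eq_one, hj]
          refine ⟨1, ?_⟩
          rw [mul_one, ← pow_succ, ← pow_succ', ]; congr 1; omega
        · intro h
          rw [← pow_mul, ← orderOf_dvd_iff_pow_eq_one, hj, ← pow_succ',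
            Nat.pow_dvd_pow_iff_le_right (by norm_num)] at h
          omega
      rw [← h0, map_pow, hc2]
  -- b is fixed
  have hbfix : f b = b := by
    have hfb2 : (f b) ^ 2 = 1 := by rw [← map_pow, pow_two, hbb, map_one]
    have hfb1 : f b ≠ 1 := by
      intro h; rw [← map_one f] at h; exact hbA (f.injective h ▸ A.one_mem)
    rcases hQform _ (hQmem b hbQ) with ⟨k, hk⟩ | ⟨k, hk⟩
    · exfalso
      have hz' : f b = z := by
        refine ((hA_inv _ ?_ hfb2).resolve_left hfb1)
        rw [show f b = _ from hk]; exact A.zpow_mem hcA k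
      have hzQ : z ∈ Q := hz' ▸ hQmem b hbQ
      exact hbA (f.injective (hz'.trans (hzfix hzQ).symm) ▸ hzA)
    · have hk' : f b = c ^ k * b := hk
      have hsq : (c ^ k) ^ 2 = 1 := by
        have h1 := hA2 _ (A.zpow_mem hcA k) 0
        rw [← hk', ← pow_two, hfb2] at h1
        have e : (c ^ k) ^ (s + 1) = ((c ^ k) ^ 2) ^ (2 ^ (n - 2) + 1) := by
          rw [← pow_mul]; congr 1
          have : 2 ^ (n - 1) = 2 ^ (n - 2) * 2 := by rw [← pow_succ]; congr 1; omega
          omega
        obtain ⟨m, hm⟩ := htwo _ ((S : Subgroup G).pow_mem (hAS (A.zpow_mem hcA k)) 2)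
        have hco : Nat.Coprime (2 ^ (n - 2) + 1) (2 ^ m) :=
          Nat.Coprime.pow_right _ (Nat.coprime_two_right.mpr ((Nat.even_pow.mpr ⟨even_two, by omega⟩).add_one))
        have := pow_gcd_eq_one.mpr ⟨(e ▸ h1.symm : ((c ^ k) ^ 2) ^ (2 ^ (n - 2) + 1) = 1), hm⟩
        rwa [hco.gcd_eq_one, pow_one] at this
      rcases hA_inv _ (A.zpow_mem hcA k) hsq with h | h
      · rw [hk', h, one_mul]
      · exfalso
        rw [h] at hk'
        have hzQ : z ∈ Q := h ▸ Q.zpow_mem hcQ k
        have hbz : b * z * b⁻¹ = z := by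
          rw [hcb z hzA, hs, show 2 ^ (n - 1) + 1 = 2 * 2 ^ (n - 2) + 1 by rw [← pow_succ']; congr 2; omega,
            pow_succ, pow_mul, pow_two, hzz, one_pow, one_mul]
        rw [mul_inv_eq_iff_eq_mul] at hbz
        rw [← hbz] at hk'
        exact hz1 (H69_pow_step hfo ⟨1, by rw [pow_one, pow_two, hzz]⟩ hk' (hzfix hzQ))
  -- c is fixed
  have hcfix : f c = c := by
    obtain ⟨k, e, hfc, hefix⟩ : ∃ k : ℤ, ∃ e : G, f c = c ^ k * e ∧ (f e = e) := by
      rcases hQform _ (hQmem c hcQ) with ⟨k, hk⟩ | ⟨k, hk⟩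
      · exact ⟨k, 1, by rw [mul_one]; exact hk, map_one f⟩
      · exact ⟨k, b, hk, hbfix⟩
    rcases Int.even_or_odd k with ⟨j, hj⟩ | ⟨j, hj⟩
    · have e2 : f (f c) = f c := by
        rw [hfc, map_mul, hefix, hj, ← two_mul, zpow_mul, zpow_ofNat, map_zpow, hc2]
      exact f.injective e2
    · have e1 : f c = c * ((c ^ 2) ^ j * e) := by
        rw [hfc, hj, zpow_add, zpow_mul, zpow_ofNat, zpow_one, ← mul_assoc]
        rw [(((Commute.refl c).pow_right 2).zpow_right j).eq]
      have ht : (c ^ 2) ^ j * e = 1 := by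
        refine H69_pow_step hfo (htwo _ ?_) e1 (by rw [map_mul, map_zpow, hc2, hefix])
        have : (c ^ 2) ^ j * e = c⁻¹ * f c := by rw [e1, inv_mul_cancel_left]
        rw [this]
        exact (S : Subgroup G).mul_mem ((S : Subgroup G).inv_mem (hQS hcQ)) (hQS (hQmem c hcQ))
      rw [e1, ht, mul_one]
  rw [Subgroup.mem_centralizer_iff]
  intro y hy
  have hy' : f y = y := by
    rcases hQform y hy with ⟨k, rfl⟩ | ⟨k, rfl⟩
    · rw [map_zpow, hcfix]
    · rw [map_mul, map_zpow, hcfix, hbfix]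
  rw [hf, MulAut.conj_apply, mul_inv_eq_iff_eq_mul] at hy'
  exact hy'.symm

end Cfsg.Agent.S3178
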