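import Cfsg.Statements.S3179
import Cfsg.Agent.H37.SmallIso
import Cfsg.Agent.H57.SzForm
import Cfsg.Agent.H57.SzStab
import Cfsg.Agent.S0280

set_option autoImplicit false
open Cfsg

namespace Cfsg.Agent.S3179

open Matrix

theorem gl_five_no_order_nine (g : GL (Fin 5) (ZMod 2)) : orderOf g ≠ 9 := by
  intro hg
  haveI : Fact (Nat.Prime 3) := ⟨by norm_num⟩
  let A : GL (Fin 5) (ZMod 2) :=
    ⟨!![0, 1, 0, 0, 0; 1, 1, 0, 0, 0; 0, 0, 1, 0, 0; 0, 0, 0, 1, 0; 0, 0, 0, 0, 1],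
      !![1, 1, 0, 0, 0; 1, 0, 0, 0, 0; 0, 0, 1, 0, 0; 0, 0, 0, 1, 0; 0, 0, 0, 0, 1],
      by decide, by decide⟩
  let B : GL (Fin 5) (ZMod 2) :=
    ⟨!![1, 0, 0, 0, 0; 0, 1, 0, 0, 0; 0, 0, 0, 1, 0; 0, 0, 1, 1, 0; 0, 0, 0, 0, 1],
      !![1, 0, 0, 0, 0; 0, 1, 0, 0, 0; 0, 0, 1, 1, 0; 0, 0, 1, 0, 0; 0, 0, 0, 0, 1],
      by decide, by decide⟩
  have hA : A ^ 3 = 1 := by apply Units.ext; rw [Units.val_pow_eq_pow_val]; decide
  have hB : B ^ 3 = 1 := by apply Units.ext; rw [Units.val_pow_eq_pow_val]; decide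
  have hAB : Commute A B := by apply Units.ext; decide
  let f : Fin 3 × Fin 3 → GL (Fin 5) (ZMod 2) := fun x => A ^ (x.1 : ℕ) * B ^ (x.2 : ℕ)
  have hf : Function.Injective f := by
    intro x y h
    have h' : (A : Matrix (Fin 5) (Fin 5) (ZMod 2)) ^ (x.1 : ℕ) * (B : Matrix _ _ (ZMod 2)) ^ (x.2 : ℕ) =
        (A : Matrix (Fin 5) (Fin 5) (ZMod 2)) ^ (y.1 : ℕ) * (B : Matrix _ _ (ZMod 2)) ^ (y.2 : ℕ) := by
      simpa [f] using congrArg Units.val h
    revert h'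
    revert x y
    decide
  let P : Subgroup (GL (Fin 5) (ZMod 2)) :=
    { carrier := Set.range f
      one_mem' := ⟨(0, 0), by simp [f]⟩
      mul_mem' := by
        rintro _ _ ⟨x, rfl⟩ ⟨y, rfl⟩
        refine ⟨(x.1 + y.1, x.2 + y.2), ?_⟩
        simp only [f, Fin.val_add]
        rw [← pow_eq_pow_mod _ hA, ← pow_eq_pow_mod _ hB, pow_add, pow_add,
          (hAB.pow_pow (y.1 : ℕ) (x.2 : ℕ)).mul_mul_mul_comm]
      inv_mem' := by
        rintro _ ⟨x, rfl⟩
        refine ⟨(-x.1, -x.2), eq_inv_of_mul_eq_one_left ?_⟩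
        simp only [f]
        rw [(hAB.pow_pow (x.1 : ℕ) ((-x.2 : Fin 3) : ℕ)).symm.mul_mul_mul_comm, ← pow_add, ← pow_add,
          pow_eq_pow_mod _ hA, pow_eq_pow_mod _ hB, ← Fin.val_add, ← Fin.val_add]
        simp }
  have hP3 : ∀ x ∈ P, x ^ 3 = 1 := by
    rintro _ ⟨x, rfl⟩
    simp only [f]
    rw [(hAB.pow_pow _ _).mul_pow, ← pow_mul, ← pow_mul, mul_comm _ 3, mul_comm _ 3, pow_mul,
      pow_mul, hA, hB, one_pow, one_pow, mul_one]
  have hcardP : Nat.card P = 3 ^ 2 := by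
    have h := Nat.card_range_of_injective hf
    rw [Nat.card_prod, Nat.card_fin] at h
    exact h
  have hGL : Nat.card (GL (Fin 5) (ZMod 2)) = 9999360 := by
    rw [Matrix.card_GL_field, ZMod.card]
    simp [Fin.prod_univ_succ]
  have hindex : ¬ 3 ∣ P.index := by
    have h := P.card_mul_index
    rw [hcardP, hGL] at h
    omega
  let Q : Sylow 3 (GL (Fin 5) (ZMod 2)) := (IsPGroup.of_card hcardP).toSylow hindex
  have hz : IsPGroup 3 (Subgroup.zpowers g) :=
    IsPGroup.of_card (n := 2) (by rw [Nat.card_zpowers, hg]; norm_num)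
  obtain ⟨R, hR⟩ := hz.exists_le_sylow
  obtain ⟨c, hc⟩ := MulAction.exists_smul_eq (GL (Fin 5) (ZMod 2)) R Q
  have hmem : c * g * c⁻¹ ∈ P := by
    have h : c * g * c⁻¹ ∈ ((c • R : Sylow 3 _) : Subgroup (GL (Fin 5) (ZMod 2))) := by
      rw [Sylow.coe_subgroup_smul]
      exact Subgroup.smul_mem_pointwise_smul g _ _ (hR (Subgroup.mem_zpowers g))
    rw [hc] at h
    exact h
  have h3 := hP3 _ hmem
  rw [conj_pow, conj_eq_one_iff] at h3
  have := orderOf_dvd_of_pow_eq_one h3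
  rw [hg] at this
  omega

theorem psl_eight_order_nine (F : Type*) [Field F] [Fintype F] (hF : Fintype.card F = 8) :
    ∃ x : Matrix.ProjectiveSpecialLinearGroup (Fin 2) F, orderOf x = 9 := by
  classical
  haveI : Fact (Nat.Prime 2) := ⟨Nat.prime_two⟩
  haveI : CharP F 2 := charP_of_card_eq_prime_pow (f := 3) (by rw [hF]; norm_num)
  have h2 : (2 : F) = 0 := CharTwo.two_eq_zero
  obtain ⟨t, ht⟩ : ∃ t : F, t ^ 3 + t + 1 = 0 := by
    obtain ⟨a, ha0, ha1⟩ : ∃ a : F, a ≠ 0 ∧ a ≠ 1 := by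
      have hlt : ({0, 1} : Finset F).card < Fintype.card F := by
        have := Finset.card_le_two (a := (0 : F)) (b := 1)
        omega
      obtain ⟨a, -, ha⟩ := Finset.exists_mem_notMem_of_card_lt_card
        (hlt.trans_eq Finset.card_univ.symm)
      simp at ha
      exact ⟨a, ha.1, ha.2⟩
    have h7 : a ^ 7 = 1 := by
      have := FiniteField.pow_card_sub_one_eq_one a ha0
      rwa [hF] at this
    have hprod : (a ^ 3 + a + 1) * (a ^ 3 + a ^ 2 + 1) = 0 := by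
      have e : (a + 1) * ((a ^ 3 + a + 1) * (a ^ 3 + a ^ 2 + 1)) = 0 := by
        linear_combination h7 + (1 + a + a ^ 2 + 2 * a ^ 3 + 2 * a ^ 4 + a ^ 5 + a ^ 6) * h2
      exact (mul_eq_zero.mp e).resolve_left fun h => ha1 (CharTwo.add_eq_zero.mp h)
    rcases mul_eq_zero.mp hprod with h | h
    · exact ⟨a, h⟩
    · refine ⟨a⁻¹, ?_⟩
      field_simp
      linear_combination h
  let M : Matrix.SpecialLinearGroup (Fin 2) F :=
    ⟨!![0, 1; 1, t], by
      rw [Matrix.det_fin_two_of]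
      linear_combination (-1 : F) * h2⟩
  have h3 : ((M ^ 3 : Matrix.SpecialLinearGroup (Fin 2) F) : Matrix (Fin 2) (Fin 2) F) =
      !![t, t ^ 2 + 1; t ^ 2 + 1, t ^ 3 + 2 * t] := by
    rw [Matrix.SpecialLinearGroup.coe_pow, pow_succ, pow_two]
    ext i j
    fin_cases i <;> fin_cases j <;> simp [M, Matrix.mul_apply, Fin.sum_univ_two] <;> ring
  have h9 : M ^ 9 = 1 := by
    apply Matrix.SpecialLinearGroup.ext
    intro i j
    rw [show 9 = 3 * 3 from rfl, pow_mul, Matrix.SpecialLinearGroup.coe_pow, h3, pow_succ, pow_two]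
    have e : t ^ 3 = t + 1 := by linear_combination ht - (t + 1) * h2
    fin_cases i <;> fin_cases j <;> simp [Matrix.mul_apply, Fin.sum_univ_two] <;> grind
  have hsing : t ≠ 0 ∧ t ^ 2 + 1 ≠ 0 := by
    refine ⟨fun h => ?_, fun h => ?_⟩
    · rw [h] at ht
      simp at ht
    · exact one_ne_zero (show (1 : F) = 0 by linear_combination ht - t * h)
  refine ⟨QuotientGroup.mk M, orderOf_eq_prime_pow (p := 3) (n := 1) ?_ ?_⟩
  · intro hcon
    rw [pow_one, ← QuotientGroup.mk_pow, QuotientGroup.eq_one_iff,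
      Matrix.SpecialLinearGroup.mem_center_iff] at hcon
    obtain ⟨r, -, hr⟩ := hcon
    have := congrFun (congrFun hr 0) 1
    rw [h3] at this
    simp at this
    exact hsing.2 this.symm
  · rw [← QuotientGroup.mk_pow, show 3 ^ (1 + 1) = 9 from rfl, h9, QuotientGroup.mk_one]

/-- Let X be a section of the general linear group GL(5, 2), that is, a quotient of a subgroup of it. If X is isomorphic to PSL(2, 2^n) for some n ≥ 2, to a Suzuki group over the field with 2^(2m+1) elements for some m ≥ 1, or to PSU(3, 2^n) for some n ≥ 2, then X is isomorphic to PSL(2, 4). -/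
theorem result {H : Subgroup (GL (Fin 5) (ZMod 2))}
    {K : Subgroup ↥H} [K.Normal]
    (hX : (∃ (n : ℕ) (F : Type) (_ : Field F) (_ : Fintype F), 2 ≤ n ∧ Fintype.card F = 2 ^ n ∧
        Nonempty (↥H ⧸ K ≃* Matrix.ProjectiveSpecialLinearGroup (Fin 2) F)) ∨
      (∃ (m : ℕ) (F : Type) (_ : Field F) (_ : Fintype F), 1 ≤ m ∧ Fintype.card F = 2 ^ (2 * m + 1) ∧
        Nonempty (↥H ⧸ K ≃* ↥(Cfsg.Lie.Sz F (2 ^ (m + 1))))) ∨
      (∃ (n : ℕ) (F : Type) (_ : Field F) (_ : Fintype F), 2 ≤ n ∧ Fintype.card F = 4 ^ n ∧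
        Nonempty (↥H ⧸ K ≃* Cfsg.PSU 3 F (2 ^ n)))) :
    ∃ (F : Type) (_ : Field F) (_ : Fintype F), Fintype.card F = 4 ∧
      Nonempty (↥H ⧸ K ≃* Matrix.ProjectiveSpecialLinearGroup (Fin 2) F) := by
  classical
  have hGL : Nat.card (GL (Fin 5) (ZMod 2)) = 9999360 := by
    rw [Matrix.card_GL_field, ZMod.card]
    simp [Fin.prod_univ_succ]
  have hdvd : Nat.card (↥H ⧸ K) ∣ 9999360 :=
    hGL ▸ (Subgroup.card_quotient_dvd_card K).trans (Subgroup.card_subgroup_dvd_card H)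
  rcases hX with ⟨n, F, iF, iF', hn, hcard, ⟨e⟩⟩ | ⟨m, F, iF, iF', hm, hcard, ⟨e⟩⟩ |
    ⟨n, F, iF, iF', hn, hcard, ⟨e⟩⟩
  · have h := H37.card_PSL_two (F := F)
    rw [Nat.card_eq_fintype_card (α := F), hcard] at h
    have hcop : Nat.gcd 2 (2 ^ n - 1) = 1 := by
      refine (Nat.prime_two.coprime_iff_not_dvd.mpr ?_)
      have : 2 ∣ 2 ^ n := dvd_pow_self 2 (by omega)
      have := Nat.one_le_two_pow (n := n)
      omega
    rw [hcop, one_mul] at h
    rw [Nat.card_congr e.toEquiv, h] at hdvd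
    have hn10 : n ≤ 10 := by
      by_contra hlt
      have : 2 ^ 11 ∣ 9999360 := ((pow_dvd_pow 2 (by omega)).trans (Dvd.intro _ rfl)).trans hdvd
      norm_num at this
    interval_cases n <;> norm_num at hdvd
    · exact ⟨F, iF, iF', by simpa using hcard, ⟨e⟩⟩
    · exfalso
      obtain ⟨x, hx⟩ := psl_eight_order_nine F (by simpa using hcard)
      obtain ⟨y, hy⟩ := QuotientGroup.mk'_surjective K (e.symm x)
      have h9 : 9 ∣ orderOf (y : GL (Fin 5) (ZMod 2)) := by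
        rw [Subgroup.orderOf_coe]
        have := orderOf_map_dvd (QuotientGroup.mk' K) y
        rwa [hy, MulEquiv.orderOf_eq, hx] at this
      refine gl_five_no_order_nine ((y : GL (Fin 5) (ZMod 2)) ^ (orderOf (y : GL (Fin 5) (ZMod 2)) / 9))
        (orderOf_pow_orderOf_div (orderOf_pos _).ne' h9)
  · exfalso
    rw [Nat.card_congr e.toEquiv, ← Nat.card_congr (H57.lieSzEquiv hm hcard).toEquiv,
      H57.card_sz hm hcard] at hdvd
    have hm2 : m ≤ 2 := by
      by_contra hlt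
      have : 2 ^ 11 ∣ 9999360 := ((pow_dvd_pow 2 (show 11 ≤ (2 * m + 1) * 2 by omega)).trans
        ((pow_mul 2 (2 * m + 1) 2) ▸ dvd_mul_of_dvd_left (dvd_mul_right _ _) _)).trans hdvd
      norm_num at this
    interval_cases m <;> norm_num at hdvd
  · exfalso
    have hc : Fintype.card F = (2 ^ n) ^ 2 := by
      rw [hcard, show (4 : ℕ) = 2 ^ 2 from rfl, ← pow_mul, ← pow_mul, mul_comm]
    have h := S0280.result hc 3 (by norm_num)
    simp only [Finset.prod_range_succ, Finset.prod_range_zero] at h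
    simp [Nat.even_iff, -Nat.card_eq_fintype_card] at h
    rw [Nat.card_congr e.toEquiv] at hdvd
    set X := Nat.card (Cfsg.PSU 3 F (2 ^ n))
    have hg := Nat.gcd_dvd_left 3 (2 ^ n + 1)
    have h3 : (2 ^ n + 1) * ((2 ^ n) ^ 3 * ((2 ^ n) ^ 2 - 1) * ((2 ^ n) ^ 3 + 1)) ∣
        (2 ^ n + 1) * (3 * 9999360) := by
      have e1 : (2 ^ n + 1) * ((2 ^ n) ^ 3 * ((2 ^ n) ^ 2 - 1) * ((2 ^ n) ^ 3 + 1)) =
          Nat.gcd 3 (2 ^ n + 1) * ((2 ^ n + 1) * X) := by rw [h]; ring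
      rw [e1, mul_left_comm]
      exact Nat.mul_dvd_mul_left _ (Nat.mul_dvd_mul hg hdvd)
    replace h3 := Nat.dvd_of_mul_dvd_mul_left (by positivity) h3
    have hn3 : n ≤ 3 := by
      by_contra hlt
      have : 2 ^ 11 ∣ 3 * 9999360 := ((pow_dvd_pow 2 (show 11 ≤ n * 3 by omega)).trans
        ((pow_mul 2 n 3) ▸ dvd_mul_of_dvd_left (dvd_mul_right _ _) _)).trans h3
      norm_num at this
    interval_cases n <;> norm_num at h3

end Cfsg.Agent.S3179
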