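import Cfsg.Statements.S3180
import Mathlib

set_option autoImplicit false
open Cfsg

namespace Cfsg.Agent.S3180

/-- an element conjugating into a Sylow conjugate fixes a weakly closed subgroup -/
theorem H69_wc {J : Type*} [Group J] (P P₁ : Subgroup J) (hW : Cfsg.IsWeaklyClosed P₁ P)
    (u : J) (h : ∀ a ∈ P₁, u * a * u⁻¹ ∈ P) : u ∈ Subgroup.normalizer (P₁ : Set J) := by
  have hle : P₁.map (MulAut.conj u).toMonoidHom ≤ P := by
    rintro _ ⟨a, ha, rfl⟩
    simpa using h a ha
  have he := hW.2 u hle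
  rw [Subgroup.mem_normalizer_iff]
  intro a
  constructor
  · intro ha
    have : (MulAut.conj u).toMonoidHom a ∈ P₁.map (MulAut.conj u).toMonoidHom :=
      Subgroup.mem_map_of_mem _ ha
    rw [he] at this
    simpa using this
  · intro ha
    have : u * a * u⁻¹ ∈ P₁.map (MulAut.conj u).toMonoidHom := by rw [he]; exact ha
    obtain ⟨b, hb, hb'⟩ := this
    have : b = a := by simpa using hb'
    exact this ▸ hb


/-- Let P be a Sylow p-subgroup of a finite group J and P₁ a subgroup of P that is weakly closed in P with respect to J. If J acts on a set and two points, each fixed by every element of P₁, lie in one J-orbit, then they lie in one orbit of the normalizer of P₁ in J. -/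
theorem result {J : Type*} [Group J] [Finite J]
    {p : ℕ} [Fact p.Prime] (P : Sylow p J) (P₁ : Subgroup J) (hW : Cfsg.IsWeaklyClosed P₁ (P : Subgroup J))
    {Ω : Type*} [MulAction J Ω] (x y : Ω) (hx : ∀ g ∈ P₁, g • x = x) (hy : ∀ g ∈ P₁, g • y = y)
    (hc : ∃ g : J, g • x = y) :
    ∃ g ∈ Subgroup.normalizer (P₁ : Set J), g • x = y := by
  obtain ⟨g, hg⟩ := hc
  let H := MulAction.stabilizer J y
  let A : Subgroup H := P₁.subgroupOf H
  let B : Subgroup H := (P₁.map (MulAut.conj g).toMonoidHom).subgroupOf H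
  have hP1p : IsPGroup p P₁ := P.2.to_le hW.1
  have hA : IsPGroup p A := hP1p.of_injective
    (Subgroup.subgroupOfEquivOfLe (show P₁ ≤ H from fun a ha => hy a ha)).toMonoidHom
    (MulEquiv.injective _)
  have hgH : P₁.map (MulAut.conj g).toMonoidHom ≤ H := by
    rintro _ ⟨a, ha, rfl⟩
    show ((MulAut.conj g).toMonoidHom a) • y = y
    simp [← hg, mul_smul, hx a ha]
  have hB : IsPGroup p B := (hP1p.map (MulAut.conj g).toMonoidHom).of_injective
    (Subgroup.subgroupOfEquivOfLe hgH).toMonoidHom (MulEquiv.injective _)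
  obtain ⟨SA, hSA⟩ := hA.exists_le_sylow
  obtain ⟨SB, hSB⟩ := hB.exists_le_sylow
  obtain ⟨h, hh⟩ := MulAction.exists_smul_eq H SB SA
  obtain ⟨R, hR⟩ := ((SA.2.map H.subtype)).exists_le_sylow
  obtain ⟨j, hj⟩ := MulAction.exists_smul_eq J R P
  have hmemR : ∀ r ∈ (R : Subgroup J), j * r * j⁻¹ ∈ (P : Subgroup J) := by
    intro r hr
    rw [← hj, Sylow.coe_subgroup_smul]
    exact ⟨r, hr, by simp [MulAut.smul_def]⟩
  have h1 : j ∈ Subgroup.normalizer (P₁ : Set J) := by
    refine H69_wc _ _ hW j (fun a ha => hmemR a (hR ?_))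
    exact ⟨⟨a, hy a ha⟩, hSA (Subgroup.mem_subgroupOf.mpr ha), rfl⟩
  have h2 : j * (h : J) * g ∈ Subgroup.normalizer (P₁ : Set J) := by
    refine H69_wc _ _ hW _ (fun a ha => ?_)
    have hb : g * a * g⁻¹ ∈ H := hgH ⟨a, ha, by simp⟩
    have hbm : (⟨g * a * g⁻¹, hb⟩ : H) ∈ (SB : Subgroup H) :=
      hSB (Subgroup.mem_subgroupOf.mpr ⟨a, ha, by simp⟩)
    have : h * ⟨g * a * g⁻¹, hb⟩ * h⁻¹ ∈ (SA : Subgroup H) := by
      rw [← hh, Sylow.coe_subgroup_smul]
      exact ⟨_, hbm, by simp [MulAut.smul_def]⟩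
    have := hmemR _ (hR ⟨_, this, rfl⟩)
    simpa [mul_assoc] using this
  refine ⟨(h : J) * g, ?_, ?_⟩
  · have := Subgroup.mul_mem _ (Subgroup.inv_mem _ h1) h2
    simpa [mul_assoc] using this
  · rw [mul_smul, hg]; exact h.2

end Cfsg.Agent.S3180
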