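import Cfsg.Statements.S3183
import Mathlib

set_option autoImplicit false
open Cfsg

namespace Cfsg.Agent.S3183

/-- the intersection of two Sylow two-subgroups is centralized by the first of them -/
theorem H69_ti {G : Type*} [Group G] [Finite G]
    (hCI : ∀ S T : Sylow 2 G, S ≠ T → ∃ U : Sylow 2 G,
      (S : Subgroup G) ⊓ (T : Subgroup G) ≤ (Subgroup.center ↥(U : Subgroup G)).map (U : Subgroup G).subtype) :
    ∀ (k : ℕ) (S T : Sylow 2 G), T ≠ S →
      Nat.card (S : Subgroup G) - Nat.card ↥((S : Subgroup G) ⊓ (T : Subgroup G)) = k →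
      ∀ d ∈ (S : Subgroup G) ⊓ (T : Subgroup G), ∀ s ∈ (S : Subgroup G), s * d = d * s := by
  intro k
  induction k using Nat.strong_induction_on with
  | _ k ih =>
  intro S T hne hk
  set D := (S : Subgroup G) ⊓ (T : Subgroup G) with hD
  obtain ⟨U, hU⟩ := hCI S T (Ne.symm hne)
  -- all members of U commute with members of D
  have hUD : (U : Subgroup G) ≤ Subgroup.centralizer (D : Set G) := by
    intro u hu d hd
    obtain ⟨d', hd', rfl⟩ := hU hd
    exact (congrArg Subtype.val (Subgroup.mem_center_iff.mp hd' ⟨u, hu⟩)).symm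
  have hUp : (Subgroup.centralizer (D : Set G)) ≤ Subgroup.normalizer (D : Set G) :=
    Subgroup.centralizer_le_normalizer _
  set N := Subgroup.normalizer (D : Set G)
  set C := Subgroup.centralizer (D : Set G)
  have hDlt : D < S := lt_of_le_of_ne inf_le_left fun h => hne (Sylow.ext
    (S.3 T.2 (inf_eq_left.mp h)))
  -- the two-subgroup N_S(D) is larger than D and lies in the centralizer
  have hND : D < (S : Subgroup G) ⊓ N := by
    haveI : Group.IsNilpotent (S : Subgroup G) := S.2.isNilpotent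
    have h2 := Group.normalizerCondition_of_isNilpotent (D.subgroupOf (S : Subgroup G))
      (lt_top_iff_ne_top.mpr fun h => hDlt.ne (le_antisymm hDlt.le (Subgroup.subgroupOf_eq_top.mp h)))
    refine lt_of_le_of_ne (le_inf hDlt.le Subgroup.le_normalizer) fun h => ?_
    refine (not_le_of_gt h2) fun x hx => ?_
    rw [Subgroup.mem_subgroupOf, h]
    refine ⟨x.2, ?_⟩
    rw [← Subgroup.subgroupOf_normalizer_eq hDlt.le] at hx
    exact hx
  have hle : (S : Subgroup G) ⊓ N ≤ C := by
    obtain ⟨R, hR⟩ := ((S.2.to_le inf_le_left : IsPGroup 2 ↥((S : Subgroup G) ⊓ N)).comap_of_injective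
      N.subtype N.subtype_injective).exists_le_sylow
    let U' : Sylow 2 N := U.subtype (hUD.trans hUp)
    obtain ⟨g, hg⟩ := MulAction.exists_smul_eq N U' R
    intro x hx
    have hxR : (⟨x, hx.2⟩ : N) ∈ (R : Subgroup N) := hR hx
    rw [← hg, Sylow.coe_subgroup_smul] at hxR
    obtain ⟨u, hu, hux⟩ := hxR
    have huC : u ∈ C.subgroupOf N := hUD hu
    have := (inferInstance : (C.subgroupOf N).Normal).conj_mem u huC g
    rw [show g * u * g⁻¹ = ⟨x, hx.2⟩ by simpa [MulAut.smul_def] using hux] at this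
    exact this
  -- a Sylow subgroup through C_S(D) which centralizes D
  obtain ⟨R, hR⟩ := ((S.2.to_le inf_le_left : IsPGroup 2 ↥((S : Subgroup G) ⊓ C)).comap_of_injective
    C.subtype C.subtype_injective).exists_le_sylow
  let U'' : Sylow 2 C := U.subtype hUD
  obtain ⟨g, hg⟩ := MulAction.exists_smul_eq C U'' R
  let U' : Sylow 2 G := (g : G) • U
  have hUC : (U' : Subgroup G) ≤ C := by
    rintro _ ⟨u, hu, rfl⟩
    exact C.mul_mem (C.mul_mem g.2 (hUD hu)) (C.inv_mem g.2)
  have hSC : (S : Subgroup G) ⊓ C ≤ U' := by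
    intro x hx
    have hxR : (⟨x, hx.2⟩ : C) ∈ (R : Subgroup C) := hR hx
    rw [← hg, Sylow.coe_subgroup_smul] at hxR
    obtain ⟨u, hu, hux⟩ := hxR
    exact ⟨u, hu, by simpa [MulAut.smul_def] using congrArg Subtype.val hux⟩
  intro d hd s hs
  by_cases hUS : U' = S
  · exact (Subgroup.mem_centralizer_iff.mp (hUC (hUS ▸ hs)) d hd).symm
  · have hlt : D < (S : Subgroup G) ⊓ (U' : Subgroup G) :=
      hND.trans_le (le_inf inf_le_left ((le_inf inf_le_left hle).trans hSC))
    refine ih _ ?_ S U' hUS rfl d (hlt.le hd) s hs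
    have h1 : Nat.card D < Nat.card ↥((S : Subgroup G) ⊓ (U' : Subgroup G)) :=
      Set.Finite.card_lt_card (Set.toFinite _) (SetLike.coe_ssubset_coe.mpr hlt)
    have h2 : Nat.card ↥((S : Subgroup G) ⊓ (U' : Subgroup G)) ≤ Nat.card (S : Subgroup G) :=
      Subgroup.card_le_of_le inf_le_left
    omega


/-- Let G be a finite group in which the intersection of any two distinct Sylow 2-subgroups is contained in the centre of some Sylow 2-subgroup, and let S be a Sylow 2-subgroup. Then for every x in S the centralizer of x in S is a Sylow 2-subgroup of the centralizer of x in G (no 2-subgroup centralizing x is larger), and for every other Sylow 2-subgroup T the intersection S ∩ T lies in both the centre of S and the centre of T. -/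
theorem result {G : Type*} [Group G] [Finite G]
    (hCI : ∀ S T : Sylow 2 G, S ≠ T → ∃ U : Sylow 2 G,
      (S : Subgroup G) ⊓ (T : Subgroup G) ≤ (Subgroup.center ↥(U : Subgroup G)).map (U : Subgroup G).subtype)
    (S : Sylow 2 G) :
    (∀ x ∈ (S : Subgroup G), ∀ P : Subgroup G, IsPGroup 2 ↥P → P ≤ Subgroup.centralizer ({x} : Set G) →
        Nat.card ↥P ≤ Nat.card ↥((S : Subgroup G) ⊓ Subgroup.centralizer ({x} : Set G))) ∧
    (∀ T : Sylow 2 G, T ≠ S →
        (S : Subgroup G) ⊓ (T : Subgroup G) ≤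
          (Subgroup.center ↥(S : Subgroup G)).map (S : Subgroup G).subtype ⊓
            (Subgroup.center ↥(T : Subgroup G)).map (T : Subgroup G).subtype) := by
  have key : ∀ S T : Sylow 2 G, T ≠ S → (S : Subgroup G) ⊓ (T : Subgroup G) ≤
      (Subgroup.center ↥(S : Subgroup G)).map (S : Subgroup G).subtype := by
    intro S T h d hd
    exact ⟨⟨d, hd.1⟩, Subgroup.mem_center_iff.mpr fun s =>
      Subtype.ext (H69_ti hCI _ S T h rfl d hd s s.2), rfl⟩
  refine ⟨fun x hx P hP hPC => ?_, fun T hT => le_inf (key S T hT) ?_⟩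
  swap
  · rw [inf_comm]; exact key T S hT.symm
  set C := Subgroup.centralizer ({x} : Set G)
  let Q : Subgroup G := (S : Subgroup G) ⊓ C
  have hQ : IsPGroup 2 Q := S.2.to_le inf_le_left
  obtain ⟨R, hR⟩ := (hQ.comap_of_injective C.subtype C.subtype_injective).exists_le_sylow
  have hPR : Nat.card P ≤ Nat.card (R : Subgroup C) := by
    obtain ⟨R', hR'⟩ := (hP.comap_of_injective C.subtype C.subtype_injective).exists_le_sylow
    calc Nat.card P = Nat.card (P.subgroupOf C) :=
          (Nat.card_congr (Subgroup.subgroupOfEquivOfLe hPC).toEquiv).symm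
      _ ≤ Nat.card (R' : Subgroup C) := Subgroup.card_le_of_le hR'
      _ = Nat.card (R : Subgroup C) := by rw [R'.card_eq_multiplicity, R.card_eq_multiplicity]
  refine hPR.trans ?_
  refine (Subgroup.card_subtype C (R : Subgroup C)).symm.trans_le ?_
  apply Subgroup.card_le_of_le
  obtain ⟨T, hT⟩ := (R.2.map C.subtype).exists_le_sylow
  by_cases hTS : T = S
  · exact le_inf (hTS ▸ hT) (Subgroup.map_subtype_le _)
  · have hxC : x ∈ C := Subgroup.mem_centralizer_singleton_iff.mpr rfl
    have hxT : x ∈ (T : Subgroup G) := hT ⟨⟨x, hxC⟩, hR (show x ∈ Q from ⟨hx, hxC⟩), rfl⟩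
    have hxc : ∀ s ∈ (S : Subgroup G), s * x = x * s := fun s hs =>
      H69_ti hCI _ S T hTS rfl x ⟨hx, hxT⟩ s hs
    have hSQ : (S : Subgroup G) ≤ Q := le_inf le_rfl fun s hs =>
      Subgroup.mem_centralizer_singleton_iff.mpr (hxc s hs)
    have hSR : (S : Subgroup G) ≤ T := fun s hs =>
      hT ⟨⟨s, (hSQ hs).2⟩, hR (hSQ hs), rfl⟩
    exact absurd (Sylow.ext (S.3 T.2 hSR)) hTS

end Cfsg.Agent.S3183
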