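import Cfsg.Statements.S3190
import Mathlib

set_option autoImplicit false
open Cfsg

namespace Cfsg.Agent.S3190

/-- a nontrivial normal subgroup of a finite p-group meets the centre -/
theorem H69_meet {P : Type*} [Group P] [Finite P] {p : ℕ} [Fact p.Prime] (hP : IsPGroup p P)
    (W : Subgroup P) [W.Normal] [Nontrivial W] : ∃ a, a ∈ Subgroup.center P ∧ a ∈ W ∧ a ≠ 1 := by
  letI : MulAction P W := MulAction.compHom W (MulAut.conjNormal (H := W))
  have hdvd : p ∣ Nat.card W := by
    obtain ⟨n, hn0, hn⟩ := (hP.to_subgroup W).nontrivial_iff_card.mp inferInstance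
    rw [hn]; exact dvd_pow_self p hn0.ne'
  have h1 : (1 : W) ∈ MulAction.fixedPoints P W := fun g => map_one (MulAut.conjNormal g)
  obtain ⟨b, hb, hne⟩ := hP.exists_fixed_point_of_prime_dvd_card_of_fixed_point W hdvd h1
  refine ⟨b, Subgroup.mem_center_iff.mpr fun g => ?_, b.2, fun h => hne (Subtype.ext h).symm⟩
  have := congrArg Subtype.val (hb g)
  change ((MulAut.conjNormal g b : W) : P) = b at this
  rw [MulAut.conjNormal_apply] at this
  exact mul_inv_eq_iff_eq_mul.mp this



/-- Let p be an odd prime and, inside a finite group, let P be a p-subgroup normalized by a Klein four-group T. Let R be a subgroup of P, normal in P and normalized by T, such that P is the product of R with the centralizer of T in P. If T centralizes the centre of P, then T centralizes the centre of R. -/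
theorem result {X : Type*} [Group X] [Finite X]
    {p : ℕ} (hp : p.Prime) (hodd : Odd p) (P T R : Subgroup X) (hP : IsPGroup p ↥P) (hT : IsKleinFour ↥T)
    (hTP : T ≤ Subgroup.normalizer (P : Set X)) (hRP : R ≤ P) (hRn : (R.subgroupOf P).Normal)
    (hTR : T ≤ Subgroup.normalizer (R : Set X)) (hfac : R ⊔ (P ⊓ Subgroup.centralizer (T : Set X)) = P)
    (hZ : T ≤ Subgroup.centralizer (((Subgroup.center ↥P).map P.subtype : Subgroup X) : Set X)) :
    T ≤ Subgroup.centralizer (((Subgroup.center ↥R).map R.subtype : Subgroup X) : Set X) := by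
  haveI : Fact p.Prime := ⟨hp⟩
  intro t ht
  rw [Subgroup.mem_centralizer_iff]
  rintro z ⟨⟨z', hz'R⟩, hz'c, rfl⟩
  change z' * t = t * z'
  have htt : t * t = 1 := by
    have h2 := Monoid.pow_exponent_eq_one (⟨t, ht⟩ : T)
    rw [hT.exponent_two, pow_two] at h2
    exact congrArg Subtype.val h2
  have htinv : t⁻¹ = t := inv_eq_of_mul_eq_one_right htt
  have hcR : ∀ {a : X}, a ∈ (Subgroup.center R).map R.subtype → ∀ r ∈ R, r * a = a * r := by
    rintro _ ⟨a, ha, rfl⟩ r hr
    exact congrArg Subtype.val (Subgroup.mem_center_iff.mp ha ⟨r, hr⟩)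
  have hzRc : z' ∈ (Subgroup.center R).map R.subtype := ⟨⟨z', hz'R⟩, hz'c, rfl⟩
  -- members of the centre of R
  set Z : Set X := {a | a ∈ R ∧ ∀ r ∈ R, r * a = a * r} with hZdef
  have htR : ∀ a ∈ R, t * a * t⁻¹ ∈ R := fun a ha =>
    (Subgroup.mem_normalizer_iff.mp (hTR ht) a).mp ha
  have htR' : ∀ a ∈ R, t⁻¹ * a * t ∈ R := fun a ha => by
    have := htR a ha; rwa [htinv] at this ⊢
  have hZt : ∀ a ∈ Z, t * a * t⁻¹ ∈ Z := by
    rintro a ⟨ha, hac⟩
    refine ⟨htR a ha, fun r hr => ?_⟩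
    have := hac _ (htR' r hr)
    calc r * (t * a * t⁻¹) = t * ((t⁻¹ * r * t) * a) * t⁻¹ := by group
      _ = t * (a * (t⁻¹ * r * t)) * t⁻¹ := by rw [this]
      _ = (t * a * t⁻¹) * r := by group
  let W : Subgroup X :=
    { carrier := {a | a ∈ Z ∧ t * a * t⁻¹ = a⁻¹}
      one_mem' := ⟨⟨R.one_mem, by simp⟩, by simp⟩
      mul_mem' := by
        rintro a b ⟨⟨ha, hac⟩, hat⟩ ⟨⟨hb, hbc⟩, hbt⟩
        refine ⟨⟨R.mul_mem ha hb, fun r hr => ?_⟩, ?_⟩
        · rw [← mul_assoc, hac r hr, mul_assoc, hbc r hr, mul_assoc]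
        · rw [mul_inv_rev, ← hat, ← hbt]
          have h1 : b * a = a * b := hac b hb
          calc t * (a * b) * t⁻¹ = t * (b * a) * t⁻¹ := by rw [h1]
            _ = t * b * t⁻¹ * (t * a * t⁻¹) := by group
      inv_mem' := by
        rintro a ⟨⟨ha, hac⟩, hat⟩
        refine ⟨⟨R.inv_mem ha, fun r hr => ?_⟩, ?_⟩
        · exact ((Commute.inv_right (hac r hr : Commute r a))).eq
        · rw [inv_inv, show t * a⁻¹ * t⁻¹ = (t * a * t⁻¹)⁻¹ by group, hat, inv_inv] }
  -- the element to be killed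
  set w := z'⁻¹ * (t * z' * t⁻¹) with hw
  have hz'Z : z' ∈ Z := ⟨hz'R, hcR hzRc⟩
  have hwW : w ∈ W := by
    obtain ⟨h1, h2⟩ := hZt z' hz'Z
    refine ⟨⟨R.mul_mem (R.inv_mem hz'R) h1, fun r hr => ?_⟩, ?_⟩
    · exact ((Commute.inv_right (show Commute r z' from hz'Z.2 r hr)).mul_right (show Commute r _ from h2 r hr)).eq
    · rw [hw, mul_inv_rev, inv_inv, htinv]
      calc t * (z'⁻¹ * (t * z' * t)) * t = t * z'⁻¹ * (t * z') * (t * t) := by group
        _ = (t * z'⁻¹ * t) * z' := by rw [htt]; group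
        _ = (t * z' * t⁻¹)⁻¹ * z' := by rw [mul_inv_rev, mul_inv_rev, inv_inv, htinv]; group
        _ = (t * z' * t)⁻¹ * z' := by rw [htinv]
  suffices hW1 : W = ⊥ by
    have : w = 1 := by rw [hW1] at hwW; exact hwW
    rw [hw, inv_mul_eq_one] at this
    calc z' * t = t * z' * t⁻¹ * t := by rw [← this]
      _ = t * z' := by group
  have hWP : W ≤ P := fun a ha => hRP ha.1.1
  let N : Subgroup X := Subgroup.normalizer (W : Set X)
  have hPN : P ≤ N := by
    rw [← hfac]
    refine sup_le ?_ ?_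
    · intro r hr
      rw [Subgroup.mem_normalizer_iff]
      intro a
      constructor
      · intro ha
        rw [ha.1.2 r hr, mul_inv_cancel_right]; exact ha
      · intro ha
        have := ha.1.2 r hr
        have e : a = r * a * r⁻¹ := by
          have h' : r * (r * a * r⁻¹) * r⁻¹ = r * a * r⁻¹ := by rw [this]; group
          have := mul_right_cancel h'
          exact (mul_left_cancel this).symm
        rw [e]; exact ha
    · rintro c ⟨hcP, hcT⟩
      have hct : t * c = c * t := Subgroup.mem_centralizer_iff.mp hcT t ht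
      have key : ∀ c ∈ P, t * c = c * t → ∀ a ∈ W, c * a * c⁻¹ ∈ W := by
        intro c hcP hct a ha
        obtain ⟨⟨haR, hac⟩, hat⟩ := ha
        have hRn' : ∀ r ∈ R, ∀ d ∈ P, d * r * d⁻¹ ∈ R := fun r hr d hd =>
          hRn.conj_mem ⟨r, hRP hr⟩ hr ⟨d, hd⟩
        refine ⟨⟨hRn' a haR c hcP, fun r hr => ?_⟩, ?_⟩
        · have := hac _ (hRn' r hr c⁻¹ (P.inv_mem hcP))
          rw [inv_inv] at this
          calc r * (c * a * c⁻¹) = c * ((c⁻¹ * r * c) * a) * c⁻¹ := by group
            _ = c * (a * (c⁻¹ * r * c)) * c⁻¹ := by rw [this]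
            _ = c * a * c⁻¹ * r := by group
        · have e : t * c * t⁻¹ = c := by rw [hct]; group
          calc t * (c * a * c⁻¹) * t⁻¹ = (t * c * t⁻¹) * (t * a * t⁻¹) * (t * c * t⁻¹)⁻¹ := by group
            _ = (c * a * c⁻¹)⁻¹ := by rw [e, hat]; group
      have hci : t * c⁻¹ = c⁻¹ * t := (Commute.inv_right (hct : Commute t c)).eq
      rw [Subgroup.mem_normalizer_iff]
      intro a
      refine ⟨fun ha => key c hcP hct a ha, fun ha => ?_⟩
      have := key c⁻¹ (P.inv_mem hcP) hci _ ha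
      simpa [mul_assoc] using this
  by_contra hne
  haveI hWn : (W.subgroupOf P).Normal := Subgroup.normal_subgroupOf_iff_le_normalizer hWP |>.mpr hPN
  haveI : Nontrivial (W.subgroupOf P) := by
    rw [Subgroup.nontrivial_iff_ne_bot]
    intro hb
    rw [Subgroup.subgroupOf_eq_bot, disjoint_iff, inf_eq_left.mpr hWP] at hb
    exact hne hb
  obtain ⟨a, ha1, ha2, hane⟩ := H69_meet hP (W.subgroupOf P)
  refine hane ?_
  have hat : (a : X) * t = t * a := Subgroup.mem_centralizer_iff.mp (hZ ht) a ⟨a, ha1, rfl⟩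
  have h2 : t * (a : X) * t⁻¹ = (a : X)⁻¹ := (Subgroup.mem_subgroupOf.mp ha2).2
  rw [← hat, mul_inv_cancel_right] at h2
  have hsq : (a : X) ^ 2 = 1 := by rw [pow_two]; exact mul_eq_one_iff_eq_inv.mpr h2
  have hsq' : a ^ 2 = 1 := Subtype.ext (by simpa using hsq)
  obtain ⟨k, hk⟩ := hP a
  have hco : Nat.Coprime 2 (p ^ k) := Nat.coprime_two_left.mpr hodd.pow
  have := pow_gcd_eq_one.mpr ⟨hsq', hk⟩
  rwa [Nat.Coprime.gcd_eq_one hco, pow_one] at this

end Cfsg.Agent.S3190
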