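import Cfsg.Statements.S3195
import Mathlib
import Cfsg.Agent.H65.BaerSuzuki

set_option autoImplicit false
open Cfsg

namespace Cfsg.Agent.S3195

theorem H69_eq_one {G : Type*} [Group G] {x : G} (hodd : Odd (orderOf x)) (h : x ^ 4 = 1) : x = 1 := by
  have h1 : Nat.Coprime 4 (orderOf x) := by
    rw [show (4:ℕ) = 2 ^ 2 from rfl]
    exact Nat.Coprime.pow_left _ (Nat.coprime_two_left.mpr hodd)
  have := pow_gcd_eq_one.mpr ⟨h, pow_orderOf_eq_one x⟩
  rwa [h1.gcd_eq_one, pow_one] at this


/-- Let A be a Klein four-subgroup of a finite group G. If every G-conjugate of every involution of A commutes with some involution of A (its centralizer meets A nontrivially), then A meets the largest normal 2-subgroup O₂(G) nontrivially. -/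
theorem result {G : Type*} [Group G] [Finite G]
    (A : Subgroup G) (hA : IsKleinFour ↥A)
    (h : ∀ a ∈ A, a ≠ 1 → ∀ g : G, A ⊓ Subgroup.centralizer ({g * a * g⁻¹} : Set G) ≠ ⊥) :
    A ⊓ Cfsg.pCore 2 G ≠ ⊥ := by
  by_contra hne
  have hsq : ∀ a ∈ A, a * a = 1 := by
    intro a ha
    have h2 := Monoid.pow_exponent_eq_one (⟨a, ha⟩ : A)
    rw [hA.exponent_two, pow_two] at h2
    exact congrArg Subtype.val h2
  have hinv : ∀ a ∈ A, a⁻¹ = a := fun a ha => inv_eq_of_mul_eq_one_right (hsq a ha)
  have hcA : ∀ a ∈ A, ∀ b ∈ A, a * b = b * a := by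
    intro a ha b hb
    calc a * b = (a * b)⁻¹ := (hinv _ (A.mul_mem ha hb)).symm
      _ = b * a := by rw [mul_inv_rev, hinv a ha, hinv b hb]
  -- each involution inverts an element of odd order that another one centralizes
  have step : ∀ a ∈ A, a ≠ 1 → ∃ c x, c ∈ A ∧ c ≠ 1 ∧ c ≠ a ∧ x ≠ 1 ∧ Odd (orderOf x) ∧
      c * x = x * c ∧ a * x * a = x⁻¹ := by
    intro a ha ha1
    have ha2 : orderOf a = 2 := orderOf_eq_prime (by rw [pow_two, hsq a ha]) ha1
    obtain ⟨x, hx1, hxo, hxa⟩ := H65.exists_odd_inverted ha2 (fun h' => ha1 (by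
      have : a ∈ A ⊓ Cfsg.pCore 2 G := ⟨ha, h'⟩
      rwa [hne] at this))
    rw [hinv a ha] at hxa
    have hb : x⁻¹ * a * (x⁻¹)⁻¹ = a * x ^ 2 := by
      calc x⁻¹ * a * (x⁻¹)⁻¹ = (a * x * a) * a * x := by rw [hxa, inv_inv]
        _ = a * x * (a * a) * x := by group
        _ = a * x ^ 2 := by rw [hsq a ha, pow_two]; group
    obtain ⟨⟨c, hcA', hcb⟩, hc1⟩ := Subgroup.ne_bot_iff_exists_ne_one.mp (h a ha ha1 x⁻¹)
    rw [hb] at hcb
    have hcb' : c * (a * x ^ 2) = (a * x ^ 2) * c :=
      (Subgroup.mem_centralizer_iff.mp hcb _ rfl).symm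
    have hc1' : c ≠ 1 := fun h' => hc1 (Subtype.ext h')
    have hcx : c * x ^ 2 = x ^ 2 * c := by
      have : a * (c * x ^ 2) = a * (x ^ 2 * c) := by
        rw [← mul_assoc, hcA a ha c hcA', mul_assoc, hcb', mul_assoc]
      exact mul_left_cancel this
    refine ⟨c, x, hcA', hc1', fun hca => hx1 (H69_eq_one hxo ?_), hx1, hxo, ?_, hxa⟩
    · subst hca
      have e : c * x ^ 2 * c = (x⁻¹) ^ 2 := by
        rw [← hxa, pow_two, pow_two]
        calc c * (x * x) * c = c * x * 1 * x * c := by group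
          _ = c * x * c * (c * x * c) := by rw [← hsq c ha]; group
      rw [hcx, mul_assoc, hsq c ha, mul_one, inv_pow] at e
      rw [show (4:ℕ) = 2 + 2 from rfl, pow_add]
      exact mul_eq_one_iff_eq_inv.mpr e
    · obtain ⟨k, hk⟩ := hxo
      have e : (x ^ 2) ^ (k + 1) = x := by
        rw [← pow_mul, show 2 * (k + 1) = orderOf x + 1 by omega, pow_succ, pow_orderOf_eq_one, one_mul]
      rw [← e]; exact ((show Commute c (x ^ 2) from hcx).pow_right (k + 1)).eq
  -- two such elements with crossed patterns cannot exist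
  have clash : ∀ a c x y : G, a ∈ A → c ∈ A → a ≠ 1 → c ≠ 1 → a ≠ c → x ≠ 1 → y ≠ 1 →
      Odd (orderOf x) → Odd (orderOf y) → c * x = x * c → a * x * a = x⁻¹ →
      a * y = y * a → c * y * c = y⁻¹ → False := by
    intro a c x y ha hc ha1 hc1 hac hx hy hxo hyo hcx hax hay hcy
    have hac' : a * c = c * a := hcA a ha c hc
    set d := a * c with hd
    have hd1 : d ≠ 1 := fun h' => hac (by rw [← hinv c hc]; exact eq_inv_of_mul_eq_one_left h')
    have hdA : d ∈ A := A.mul_mem ha hc
    have hne' : ∀ e ∈ A, e ≠ 1 → e = a ∨ e = c ∨ e = d := fun e he he1 => by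
      classical
      haveI : Fintype A := Fintype.ofFinite A
      by_contra h'
      push Not at h'
      have hda : d ≠ a := fun h'' => hc1 (by simpa [hd] using h'')
      have hdc : d ≠ c := fun h'' => ha1 (by simpa [hd] using h'')
      have h5 : ({⟨1, A.one_mem⟩, ⟨a, ha⟩, ⟨c, hc⟩, ⟨d, hdA⟩, ⟨e, he⟩} : Finset A).card ≤ 4 := by
        refine (Finset.card_le_univ _).trans_eq ?_
        rw [← Nat.card_eq_fintype_card, hA.card_four]
      rw [Finset.card_insert_of_notMem (by simp [Ne.symm ha1, Ne.symm hc1, Ne.symm hd1, Ne.symm he1]),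
        Finset.card_insert_of_notMem (by simp [hac, hda.symm, h'.1.symm]),
        Finset.card_insert_of_notMem (by simp [hdc.symm, h'.2.1.symm]),
        Finset.card_insert_of_notMem (by simp [h'.2.2.symm]), Finset.card_singleton] at h5
      omega
    -- the conjugation maps by members of A
    have hf : ∀ e ∈ A, ∀ u w : G, e * (u * w) * e = (e * u * e) * (e * w * e) := fun e he u w => by
      calc e * (u * w) * e = e * u * 1 * w * e := by group
        _ = _ := by rw [← hsq e he]; group
    have hfi : ∀ e ∈ A, ∀ u : G, e * u⁻¹ * e = (e * u * e)⁻¹ := fun e he u => by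
      rw [mul_inv_rev, mul_inv_rev, hinv e he]; group
    have hfix : ∀ e ∈ A, ∀ u : G, e * u = u * e → e * u * e = u := fun e he u hu => by
      rw [hu, mul_assoc, hsq e he, mul_one]
    have hd_x : d * x * d = x⁻¹ := by
      calc d * x * d = a * c * x * (c * a) := by rw [← hac', ← hd]
        _ = a * (c * x) * (c * a) := by group
        _ = a * (c * x * c) * a := by group
        _ = x⁻¹ := by rw [hfix c hc x hcx, hax]
    have hd_y : d * y * d = y⁻¹ := by
      calc d * y * d = a * c * y * (c * a) := by rw [← hac', ← hd]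
        _ = a * (c * y) * (c * a) := by group
        _ = a * (c * y * c) * a := by group
        _ = y⁻¹ := by rw [hcy, hfi a ha, hfix a ha y hay]
    have hyi : ∀ z : G, Odd (orderOf z) → ∀ w : G, Commute (z ^ 2) w → Commute z w := by
      rintro z ⟨k, hk⟩ w hw
      have e : (z ^ 2) ^ (k + 1) = z := by
        rw [← pow_mul, show 2 * (k + 1) = orderOf z + 1 by omega, pow_succ, pow_orderOf_eq_one, one_mul]
      rw [← e]; exact hw.pow_left _
    -- every conjugate of an involution of A is centralized by one of a, c, d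
    have hcent : ∀ t ∈ A, t ≠ 1 → ∀ g m : G, g⁻¹ * t * g = t * m →
        a * m * a = m ∨ c * m * c = m ∨ d * m * d = m := by
      intro t ht ht1 g m hm
      obtain ⟨⟨e, heA, heb⟩, he1⟩ := Subgroup.ne_bot_iff_exists_ne_one.mp (h t ht ht1 g⁻¹)
      rw [inv_inv, hm] at heb
      have heb' : e * (t * m) = (t * m) * e := (Subgroup.mem_centralizer_iff.mp heb _ rfl).symm
      have : e * m = m * e := by
        have : t * (e * m) = t * (m * e) := by
          rw [← mul_assoc, hcA t ht e heA, mul_assoc, heb', mul_assoc]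
        exact mul_left_cancel this
      rcases hne' e heA (fun h' => he1 (Subtype.ext h')) with rfl | rfl | rfl
      · exact Or.inl (hfix _ heA m this)
      · exact Or.inr (Or.inl (hfix _ heA m this))
      · exact Or.inr (Or.inr (hfix _ heA m this))
    -- first, x and y commute
    have hxy : Commute x y := by
      have hm : (x * y)⁻¹ * a * (x * y) = a * (y⁻¹ * (x * x) * y) := by
        calc (x * y)⁻¹ * a * (x * y) = y⁻¹ * x⁻¹ * a * x * y := by group
          _ = y⁻¹ * (a * x * a) * a * x * y := by rw [hax]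
          _ = y⁻¹ * a * x * (a * a) * x * y := by group
          _ = (y⁻¹ * a) * (x * x) * y := by rw [hsq a ha]; group
          _ = a * (y⁻¹ * (x * x) * y) := by
            rw [← ((show Commute a y from hay).inv_right).eq]; group
      rcases hcent a ha ha1 _ _ hm with h' | h' | h'
      · rw [hf a ha, hf a ha, hf a ha, hfi a ha, hfix a ha y hay, hax] at h'
        refine absurd (H69_eq_one hxo ?_) hx
        have h2 : x⁻¹ * x⁻¹ = x * x := mul_left_cancel (mul_right_cancel h')
        calc x ^ 4 = x * x * (x * x) := by simp [pow_succ, mul_assoc]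
          _ = x⁻¹ * x⁻¹ * (x * x) := by rw [h2]
          _ = 1 := by group
      · rw [hf c hc, hf c hc, hf c hc, hfi c hc, hfix c hc x hcx, hcy, inv_inv] at h'
        have h2 : (y ^ 2) * (x ^ 2) = (x ^ 2) * (y ^ 2) := by
          calc y ^ 2 * x ^ 2 = y * (y * (x * x) * y⁻¹) * y := by simp [pow_succ, mul_assoc]
            _ = y * (y⁻¹ * (x * x) * y) * y := by rw [h']
            _ = x ^ 2 * y ^ 2 := by simp [pow_succ, mul_assoc]
        exact (hyi x hxo _ (hyi y hyo _ h2).symm)
      · rw [hf d hdA, hf d hdA, hf d hdA, hfi d hdA, hd_x, hd_y, inv_inv] at h'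
        refine absurd (H69_eq_one hxo ?_) hx
        -- y * y inverts x * x
        have h2 : y ^ 2 * (x ^ 2)⁻¹ = x ^ 2 * y ^ 2 := by
          calc y ^ 2 * (x ^ 2)⁻¹ = y * (y * (x⁻¹ * x⁻¹) * y⁻¹) * y := by simp [pow_succ, mul_assoc]
            _ = y * (y⁻¹ * (x * x) * y) * y := by rw [h']
            _ = x ^ 2 * y ^ 2 := by simp [pow_succ, mul_assoc]
        have h3 : Commute (y ^ 2 * y ^ 2) (x ^ 2) := by
          show y ^ 2 * y ^ 2 * x ^ 2 = x ^ 2 * (y ^ 2 * y ^ 2)
          have h4 : y ^ 2 * x ^ 2 = (x ^ 2)⁻¹ * y ^ 2 := by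
            calc y ^ 2 * x ^ 2 = (x ^ 2)⁻¹ * (x ^ 2 * y ^ 2) * x ^ 2 := by group
              _ = (x ^ 2)⁻¹ * y ^ 2 := by rw [← h2]; group
          calc y ^ 2 * y ^ 2 * x ^ 2 = y ^ 2 * (x ^ 2)⁻¹ * y ^ 2 := by rw [mul_assoc, h4]; group
            _ = _ := by rw [h2]; group
        have h5 : Commute (y ^ 2) (x ^ 2) := by
          obtain ⟨k, hk⟩ := hyo
          have e : (y ^ 2 * y ^ 2) ^ (k + 1) = y ^ 2 := by
            rw [← pow_two, ← pow_mul, ← pow_mul, show 2 * (2 * (k + 1)) = orderOf y * 2 + 2 by omega, pow_add,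
              pow_mul, pow_orderOf_eq_one, one_pow, one_mul]
          rw [← e]; exact h3.pow_left _
        rw [← h5.eq] at h2
        have h6 := mul_left_cancel h2
        calc x ^ 4 = x ^ 2 * x ^ 2 := by group
          _ = 1 := by nth_rewrite 1 [← h6]; group
    -- second, a conjugate of d
    have hm : (x * y)⁻¹ * d * (x * y) = d * (y * y * (x * x)) := by
      calc (x * y)⁻¹ * d * (x * y) = y⁻¹ * x⁻¹ * d * (x * y) := by group
        _ = (d * y * d) * (d * x * d) * d * (x * y) := by rw [hd_x, hd_y]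
        _ = d * y * (d * d) * x * (d * d) * (x * y) := by group
        _ = d * (y * (x * x) * y) := by rw [hsq d hdA]; group
        _ = d * (y * y * (x * x)) := by
          rw [mul_assoc y (x * x) y, (hxy.mul_left hxy).eq]; group
    rcases hcent d hdA hd1 _ _ hm with h' | h' | h'
    · rw [hf a ha, hf a ha, hf a ha, hfix a ha y hay, hax] at h'
      refine hx (H69_eq_one hxo ?_)
      have h2 := mul_left_cancel h'
      calc x ^ 4 = x * x * (x * x) := by simp [pow_succ, mul_assoc]
        _ = x⁻¹ * x⁻¹ * (x * x) := by rw [h2]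
        _ = 1 := by group
    · rw [hf c hc, hf c hc, hf c hc, hfix c hc x hcx, hcy] at h'
      refine hy (H69_eq_one hyo ?_)
      have h2 := mul_right_cancel h'
      calc y ^ 4 = y * y * (y * y) := by simp [pow_succ, mul_assoc]
        _ = y⁻¹ * y⁻¹ * (y * y) := by rw [h2]
        _ = 1 := by group
    · rw [hf d hdA, hf d hdA, hf d hdA, hd_x, hd_y] at h'
      -- y ^ 4 is inverse to x ^ 4
      have h2 : y ^ 4 * x ^ 4 = 1 := by
        have e1 : y ^ 4 * x ^ 4 = (y * y * (x * x)) * (y * y * (x * x)) := by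
          calc y ^ 4 * x ^ 4 = y * y * ((y * y) * (x * x)) * (x * x) := by simp [pow_succ, mul_assoc]
            _ = y * y * ((x * x) * (y * y)) * (x * x) := by
              rw [((hxy.mul_left hxy).mul_right (hxy.mul_left hxy)).eq]
            _ = _ := by group
        rw [e1]
        nth_rewrite 1 [← h']
        rw [mul_assoc (y⁻¹ * y⁻¹)]
        calc _ = y⁻¹ * y⁻¹ * (x⁻¹ * x⁻¹ * ((y * y) * (x * x))) := by group
          _ = y⁻¹ * y⁻¹ * (x⁻¹ * x⁻¹ * ((x * x) * (y * y))) := by
            rw [((hxy.mul_left hxy).mul_right (hxy.mul_left hxy)).eq]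
          _ = 1 := by group
      have h3 : y ^ 4 = (x ^ 4)⁻¹ := eq_inv_of_mul_eq_one_left h2
      have h4 : c * y ^ 4 * c = y ^ 4 := by
        rw [h3, hfi c hc, hfix c hc (x ^ 4) ((show Commute c x from hcx).pow_right 4).eq]
      have h5 : c * y ^ 4 * c = (y ^ 4)⁻¹ := by
        rw [show y ^ 4 = y * y * (y * y) by simp [pow_succ, mul_assoc], hf c hc, hf c hc, hcy]; group
      refine hy (H69_eq_one hyo ?_)
      refine H69_eq_one ?_ ?_
      · exact hyo.of_dvd_nat (orderOf_pow_dvd 4)
      · have h8 : y ^ 4 * y ^ 4 = 1 := by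
          nth_rewrite 1 [← h4]; rw [h5, inv_mul_cancel]
        calc (y ^ 4) ^ 4 = (y ^ 4 * y ^ 4) * (y ^ 4 * y ^ 4) := by simp [pow_succ, mul_assoc]
          _ = 1 := by rw [h8, mul_one]
  -- pick two different centralizing involutions
  obtain ⟨a, ha, ha1⟩ : ∃ a ∈ A, a ≠ 1 := by
    have : A ≠ ⊥ := fun h' => by
      have := hA.card_four
      rw [h', Subgroup.card_bot] at this; omega
    obtain ⟨⟨a, ha⟩, ha1⟩ := Subgroup.ne_bot_iff_exists_ne_one.mp this
    exact ⟨a, ha, fun h' => ha1 (Subtype.ext h')⟩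
  obtain ⟨c, x, hc, hc1, hca, hx, hxo, hcx, hax⟩ := step a ha ha1
  obtain ⟨e, y, he, he1, hec, hy, hyo, hey, hcy⟩ := step c hc hc1
  -- x is inverted by every involution other than c, y by every one other than e
  have hex : e * x * e = x⁻¹ := by
    classical
    haveI : Fintype A := Fintype.ofFinite A
    by_cases hea : e = a
    · rw [hea, hax]
    have hd1 : a * c ≠ 1 := fun h' => hca (by rw [← hinv a ha]; exact eq_inv_of_mul_eq_one_right h')
    have : e = a * c := by
      by_contra h'
      have h5 : ({⟨1, A.one_mem⟩, ⟨a, ha⟩, ⟨c, hc⟩, ⟨a * c, A.mul_mem ha hc⟩, ⟨e, he⟩} : Finset A).card ≤ 4 := by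
        refine (Finset.card_le_univ _).trans_eq ?_
        rw [← Nat.card_eq_fintype_card, hA.card_four]
      rw [Finset.card_insert_of_notMem (by simp [Ne.symm ha1, Ne.symm hc1, Ne.symm hd1, Ne.symm he1]),
        Finset.card_insert_of_notMem (by simp [Ne.symm hca, hc1, Ne.symm hea]),
        Finset.card_insert_of_notMem (by simp [ha1, Ne.symm hec]),
        Finset.card_insert_of_notMem (by simp [Ne.symm h']), Finset.card_singleton] at h5
      omega
    rw [this]
    calc a * c * x * (a * c) = a * (c * x) * (c * a) := by nth_rewrite 2 [hcA a ha c hc]; group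
      _ = a * x * (c * c) * a := by rw [hcx]; group
      _ = x⁻¹ := by rw [hsq c hc, mul_one, hax]
  exact clash e c x y he hc he1 hc1 hec hx hy hxo hyo hcx hex hey hcy

end Cfsg.Agent.S3195
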