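import Cfsg.Statements.S3196
import Mathlib

set_option autoImplicit false
open Cfsg

namespace Cfsg.Agent.S3196

variable {G : Type*} [Group G]

/-- generators of members of the family -/
def H69_gen (K : Set (Subgroup G)) (x : G) : Prop := x ≠ 1 ∧ Subgroup.zpowers x ∈ K

theorem H69_comm_zpowers {x y : G} (h : Commute x y) :
    ∀ a ∈ Subgroup.zpowers x, ∀ b ∈ Subgroup.zpowers y, a * b = b * a := by
  rintro _ ⟨i, rfl⟩ _ ⟨j, rfl⟩
  exact (h.zpow_zpow i j).eq


/-- Let p be a prime and K a set of subgroups of order p of a finite group G, closed under conjugation, such that at least two distinct members of K commute elementwise, and whenever two distinct members X, Y of K commute: every subgroup of order p of the group XY they generate belongs to K, and every member W of K has centralizer meeting XY nontrivially. Then some member V of K commutes elementwise with every member of K and lies in O_p(G); in particular G is not simple. -/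
theorem result {G : Type*} [Group G] [Finite G]
    {p : ℕ} (hp : p.Prime) (K : Set (Subgroup G)) (hK : ∀ X ∈ K, Nat.card ↥X = p)
    (hKc : ∀ X ∈ K, ∀ g : G, X.map (MulAut.conj g).toMonoidHom ∈ K)
    (hex : ∃ X ∈ K, ∃ Y ∈ K, X ≠ Y ∧ ∀ x ∈ X, ∀ y ∈ Y, x * y = y * x)
    (ha : ∀ X ∈ K, ∀ Y ∈ K, X ≠ Y → (∀ x ∈ X, ∀ y ∈ Y, x * y = y * x) →
      ∀ Z : Subgroup G, Z ≤ X ⊔ Y → Nat.card ↥Z = p → Z ∈ K)
    (hb : ∀ X ∈ K, ∀ Y ∈ K, X ≠ Y → (∀ x ∈ X, ∀ y ∈ Y, x * y = y * x) →
      ∀ W ∈ K, (X ⊔ Y) ⊓ Subgroup.centralizer (W : Set G) ≠ ⊥) :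
    (∃ V ∈ K, (∀ W ∈ K, ∀ v ∈ V, ∀ w ∈ W, v * w = w * v) ∧ V ≤ Cfsg.pCore p G) ∧ ¬ IsSimpleGroup G := by
  classical
  haveI hpf : Fact p.Prime := ⟨hp⟩
  -- basic facts
  have hsub : ∀ {X : Subgroup G}, X ∈ K → ∀ {x : G}, x ∈ X → x ≠ 1 → Subgroup.zpowers x = X := by
    intro X hX x hx hne
    refine Subgroup.eq_of_le_of_card_ge (by rwa [Subgroup.zpowers_le]) ?_
    rw [hK X hX, Nat.card_zpowers]
    have h1 : orderOf x ∣ p := by rw [← hK X hX]; exact Subgroup.orderOf_dvd_natCard X hx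
    rcases (Nat.dvd_prime hp).mp h1 with h | h
    · exact absurd (orderOf_eq_one_iff.mp h) hne
    · omega
  have hord : ∀ {x : G}, H69_gen K x → orderOf x = p := by
    intro x hx
    rw [← Nat.card_zpowers]; exact hK _ hx.2
  have hpowK : ∀ {x : G}, H69_gen K x → x ^ p = 1 := fun hx => by
    rw [← hord hx]; exact pow_orderOf_eq_one _
  have hgz : ∀ {x : G} (i : ℤ), H69_gen K x → x ^ i ≠ 1 →
      H69_gen K (x ^ i) ∧ ∃ m : ℤ, (x ^ i) ^ m = x := by
    intro x i hx hne
    have := hsub hx.2 (Subgroup.zpow_mem _ (Subgroup.mem_zpowers x) i) hne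
    refine ⟨⟨hne, by rw [this]; exact hx.2⟩, Subgroup.mem_zpowers_iff.mp ?_⟩
    rw [this]; exact Subgroup.mem_zpowers x
  have hroot : ∀ {x w : G} {i : ℤ}, H69_gen K x → x ^ i ≠ 1 → Commute (x ^ i) w → Commute x w := by
    intro x w i hx hne hc
    obtain ⟨m, hm⟩ := (hgz i hx hne).2
    rw [← hm]; exact hc.zpow_left m
  have hconj : ∀ {x : G} (g : G), H69_gen K x → H69_gen K (g * x * g⁻¹) := by
    intro x g hx
    refine ⟨by simpa using hx.1, ?_⟩
    have := hKc _ hx.2 g
    rwa [MonoidHom.map_zpowers] at this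
  have hline : ∀ {x y : G}, H69_gen K x → H69_gen K y → Commute x y →
      Subgroup.zpowers x ≠ Subgroup.zpowers y →
      (∀ i j : ℤ, x ^ i * y ^ j ≠ 1 → H69_gen K (x ^ i * y ^ j)) ∧
      ∀ w, H69_gen K w → ∃ i j : ℤ, x ^ i * y ^ j ≠ 1 ∧ Commute (x ^ i * y ^ j) w := by
    intro x y hx hy hc hne
    have hcz := H69_comm_zpowers hc
    refine ⟨fun i j hij => ⟨hij, ha _ hx.2 _ hy.2 hne hcz _ ?_ ?_⟩, fun w hw => ?_⟩
    · rw [Subgroup.zpowers_le]
      exact Subgroup.mul_mem _ (Subgroup.mem_sup_left (Subgroup.zpow_mem _ (Subgroup.mem_zpowers x) i))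
        (Subgroup.mem_sup_right (Subgroup.zpow_mem _ (Subgroup.mem_zpowers y) j))
    · rw [Nat.card_zpowers]
      refine orderOf_eq_prime ?_ hij
      rw [(hc.zpow_zpow i j).mul_pow]
      have e1 : (x ^ i) ^ p = 1 := by
        rw [← zpow_natCast, ← zpow_mul, mul_comm, zpow_mul, zpow_natCast, hpowK hx, one_zpow]
      have e2 : (y ^ j) ^ p = 1 := by
        rw [← zpow_natCast, ← zpow_mul, mul_comm, zpow_mul, zpow_natCast, hpowK hy, one_zpow]
      rw [e1, e2, one_mul]
    · obtain ⟨⟨z, hz1, hz2⟩, hz3⟩ := Subgroup.ne_bot_iff_exists_ne_one.mp (hb _ hx.2 _ hy.2 hne hcz _ hw.2)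
      have hnorm : Subgroup.zpowers x ≤ Subgroup.normalizer (Subgroup.zpowers y : Set G) := by
        intro a hax
        rw [Subgroup.mem_normalizer_iff]
        intro b
        refine ⟨fun hby => ?_, fun hby => ?_⟩
        · rwa [hcz a hax b hby, mul_inv_cancel_right]
        · have := hcz a hax _ hby
          have e : a * b * a⁻¹ = b := by
            have := mul_left_cancel (this.trans (by group : a * b * a⁻¹ * a = a * b))
            exact this
          rwa [e] at hby
      replace hz1 : z ∈ Subgroup.zpowers x ⊔ Subgroup.zpowers y := hz1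
      rw [← SetLike.mem_coe, Subgroup.coe_mul_of_left_le_normalizer_right _ _ hnorm] at hz1
      obtain ⟨_, ⟨i, rfl⟩, _, ⟨j, rfl⟩, rfl⟩ := hz1
      refine ⟨i, j, fun h => hz3 (Subtype.ext h), ?_⟩
      exact (Subgroup.mem_centralizer_iff.mp hz2 w (Subgroup.mem_zpowers w)).symm
  -- some member commutes with all members
  suffices huniv : ∃ v, H69_gen K v ∧ ∀ w, H69_gen K w → Commute v w by
    obtain ⟨v, hv, hvc⟩ := huniv
    have hS : ∀ s ∈ Group.conjugatesOfSet ({v} : Set G), H69_gen K s ∧ ∀ w, H69_gen K w → Commute s w := by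
      intro s hs
      obtain ⟨a, ha', hca⟩ := Group.mem_conjugatesOfSet_iff.mp hs
      obtain rfl : a = v := ha'
      obtain ⟨g, rfl⟩ := isConj_iff.mp hca
      refine ⟨hconj g hv, fun w hw => ?_⟩
      have := hvc _ (hconj g⁻¹ hw)
      have := this.map (MulAut.conj g).toMonoidHom
      simpa [mul_assoc] using this
    set M := Subgroup.normalClosure ({v} : Set G)
    haveI hM : IsMulCommutative M := Subgroup.isMulCommutative_closure
      fun s hs t ht => ((hS s hs).2 t (hS t ht).1).eq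
    have hMp : ∀ m ∈ M, m ^ p = 1 := by
      intro m hm
      induction hm using Subgroup.closure_induction with
      | mem s hs => exact hpowK (hS s hs).1
      | one => exact one_pow _
      | mul s t hs ht h1 h2 =>
        have hc : Commute s t := congrArg Subtype.val (hM.is_comm.comm (⟨s, hs⟩ : M) ⟨t, ht⟩)
        rw [hc.mul_pow, h1, h2, one_mul]
      | inv s hs h1 => rw [inv_pow, h1, inv_one]
    have hvM : v ∈ M := Subgroup.subset_normalClosure rfl
    have hMcore : M ≤ Cfsg.pCore p G := le_sSup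
      ⟨Subgroup.normalClosure_normal, fun g => ⟨1, Subtype.ext (by simpa using hMp g g.2)⟩⟩
    refine ⟨⟨Subgroup.zpowers v, hv.2, fun W hW a ha' w hw => ?_, ?_⟩, fun hsimp => ?_⟩
    · by_cases hw1 : w = 1
      · simp [hw1]
      · exact H69_comm_zpowers (hvc w ⟨hw1, by rw [hsub hW hw hw1]; exact hW⟩) a ha' w
          (Subgroup.mem_zpowers w)
    · rw [Subgroup.zpowers_le]; exact hMcore hvM
    · rcases hsimp.eq_bot_or_eq_top_of_normal M Subgroup.normalClosure_normal with h | h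
      · rw [h] at hvM; exact hv.1 hvM
      · obtain ⟨X, hX, Y, hY, hne, -⟩ := hex
        have htop : ∀ X ∈ K, X = ⊤ := by
          intro X hX
          have hn : X.Normal := ⟨fun a ha' g => by
            have hc : g * a = a * g := congrArg Subtype.val
              (hM.is_comm.comm (⟨g, h ▸ Subgroup.mem_top g⟩ : M) ⟨a, h ▸ Subgroup.mem_top a⟩)
            rwa [hc, mul_inv_cancel_right]⟩
          refine (hsimp.eq_bot_or_eq_top_of_normal X hn).resolve_left fun hb' => ?_
          have := hK X hX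
          rw [hb', Subgroup.card_bot] at this
          exact hp.ne_one this.symm
        exact hne ((htop X hX).trans (htop Y hY).symm)
  by_contra hno
  push Not at hno
  -- a largest abelian subgroup all of whose points lie in the family
  let Q : Set (Subgroup G) := {A | ∃ x ∈ A, ∃ y ∈ A, H69_gen K x ∧ H69_gen K y ∧ Commute x y ∧
    Subgroup.zpowers x ≠ Subgroup.zpowers y ∧ (∀ a ∈ A, ∀ b ∈ A, Commute a b) ∧
    ∀ a ∈ A, a ≠ 1 → H69_gen K a}
  have hgenof : ∀ X ∈ K, ∃ x, x ∈ X ∧ H69_gen K x ∧ Subgroup.zpowers x = X := by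
    intro X hX
    have : X ≠ ⊥ := fun h => by
      have := hK X hX; rw [h, Subgroup.card_bot] at this; exact hp.ne_one this.symm
    obtain ⟨⟨x, hx⟩, hx1⟩ := Subgroup.ne_bot_iff_exists_ne_one.mp this
    have hx1' : x ≠ 1 := fun h => hx1 (Subtype.ext h)
    exact ⟨x, hx, ⟨hx1', by rw [hsub hX hx hx1']; exact hX⟩, hsub hX hx hx1'⟩
  have hQne : Q.Nonempty := by
    obtain ⟨X, hX, Y, hY, hne, hc⟩ := hex
    obtain ⟨x, hx, hxK, hxX⟩ := hgenof X hX
    obtain ⟨y, hy, hyK, hyY⟩ := hgenof Y hY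
    subst hxX; subst hyY
    have hcxy : Commute x y := hc x hx y hy
    have hmem : ∀ a ∈ Subgroup.closure {x, y}, ∃ i j : ℤ, x ^ i * y ^ j = a := by
      intro a ha'
      induction ha' using Subgroup.closure_induction with
      | mem s hs =>
        rcases hs with rfl | rfl
        · exact ⟨1, 0, by simp⟩
        · exact ⟨0, 1, by simp⟩
      | one => exact ⟨0, 0, by simp⟩
      | mul s t _ _ h1 h2 =>
        obtain ⟨i, j, rfl⟩ := h1; obtain ⟨k, l, rfl⟩ := h2
        refine ⟨i + k, j + l, ?_⟩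
        rw [zpow_add, zpow_add, mul_assoc, ← mul_assoc (x ^ k), (hcxy.zpow_zpow k j).eq]; group
      | inv s _ h1 =>
        obtain ⟨i, j, rfl⟩ := h1
        exact ⟨-i, -j, by rw [mul_inv_rev, ← zpow_neg, ← zpow_neg, (hcxy.zpow_zpow (-i) (-j)).eq]⟩
    refine ⟨Subgroup.closure {x, y}, x, Subgroup.subset_closure (by simp), y,
      Subgroup.subset_closure (by simp), hxK, hyK, hcxy, hne, ?_, ?_⟩
    · intro a ha' b hb'
      obtain ⟨i, j, rfl⟩ := hmem a ha'
      obtain ⟨k, l, rfl⟩ := hmem b hb'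
      exact (((Commute.refl x).zpow_zpow i k).mul_right (hcxy.zpow_zpow i l)).mul_left
        ((hcxy.symm.zpow_zpow j k).mul_right ((Commute.refl y).zpow_zpow j l))
    · intro a ha' h1
      obtain ⟨i, j, rfl⟩ := hmem a ha'
      exact (hline hxK hyK hcxy hne).1 i j h1
  obtain ⟨E, hEQ, hEmax⟩ := Set.Finite.exists_maximal (Set.toFinite Q) hQne
  obtain ⟨x₀, hx₀, y₀, hy₀, hx₀K, hy₀K, hxy₀, hne₀, hEc, hEK⟩ := hEQ
  have hmax : ∀ w, H69_gen K w → (∀ e ∈ E, Commute e w) → w ∈ E := by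
    intro w hw hc
    by_contra hwE
    have hcl : ∀ z ∈ E ⊔ Subgroup.zpowers w, ∃ e ∈ E, ∃ k : ℤ, z = e * w ^ k := by
      intro z hz
      rw [← SetLike.mem_coe, Subgroup.coe_mul_of_right_le_normalizer_left] at hz
      · obtain ⟨e, he, _, ⟨k, rfl⟩, rfl⟩ := hz
        exact ⟨e, he, k, rfl⟩
      · rw [Subgroup.zpowers_le, Subgroup.mem_normalizer_iff]
        intro e
        refine ⟨fun he => ?_, fun he => ?_⟩
        · rwa [← (hc e he).eq, mul_inv_cancel_right]
        · have h1 := (hc _ he).eq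
          have e' : w * e * w⁻¹ = e := by
            rw [show w * e * w⁻¹ * w = w * e by group] at h1
            exact (mul_left_cancel h1).symm
          rwa [e'] at he
    have hbig : E ⊔ Subgroup.zpowers w ∈ Q := by
      refine ⟨x₀, Subgroup.mem_sup_left hx₀, y₀, Subgroup.mem_sup_left hy₀, hx₀K, hy₀K, hxy₀, hne₀, ?_, ?_⟩
      · intro a ha' b hb'
        obtain ⟨e, he, k, rfl⟩ := hcl a ha'
        obtain ⟨f, hf, l, rfl⟩ := hcl b hb'
        exact ((hEc e he f hf).mul_right ((hc e he).zpow_right l)).mul_left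
          (((hc f hf).symm.zpow_left k).mul_right ((Commute.refl w).zpow_zpow k l))
      · intro a ha' h1
        obtain ⟨e, he, k, rfl⟩ := hcl a ha'
        by_cases he1 : e = 1
        · subst he1
          rw [one_mul] at h1 ⊢
          exact (hgz k hw h1).1
        · by_cases hwk : w ^ k = 1
          · rw [hwk, mul_one]; exact hEK e he he1
          · have hne : Subgroup.zpowers e ≠ Subgroup.zpowers w := fun h => hwE (by
              have : w ∈ Subgroup.zpowers e := h ▸ Subgroup.mem_zpowers w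
              exact Subgroup.zpowers_le.mpr he this)
            have := (hline (hEK e he he1) hw (hc e he) hne).1 1 k (by simpa using h1)
            simpa using this
    exact hwE (hEmax hbig le_sup_left (Subgroup.mem_sup_right (Subgroup.mem_zpowers w)))
  -- the centralizer in E of a point is a hyperplane
  have hhyp : ∀ w, H69_gen K w → ∀ f ∈ E, ¬ Commute f w → ∀ e ∈ E, ∃ k : ℤ, Commute (e * f ^ k) w := by
    intro w hw f hf hfw e he
    have hf1 : f ≠ 1 := fun h => hfw (h ▸ Commute.one_left w)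
    by_cases hef : e ∈ Subgroup.zpowers f
    · obtain ⟨m, rfl⟩ := Subgroup.mem_zpowers_iff.mp hef
      exact ⟨-m, by rw [← zpow_add]; simp⟩
    have he1 : e ≠ 1 := fun h => hef (h ▸ Subgroup.one_mem _)
    have hne : Subgroup.zpowers e ≠ Subgroup.zpowers f := fun h => hef (h ▸ Subgroup.mem_zpowers e)
    obtain ⟨i, j, hij, hc⟩ := (hline (hEK e he he1) (hEK f hf hf1) (hEc e he f hf) hne).2 w hw
    by_cases hei : e ^ i = 1
    · rw [hei, one_mul] at hij hc
      exact absurd (hroot (hEK f hf hf1) hij hc) hfw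
    · obtain ⟨m, hm⟩ := (hgz i (hEK e he he1) hei).2
      refine ⟨j * m, ?_⟩
      have := hc.zpow_left m
      rw [((hEc e he f hf).zpow_zpow i j).mul_zpow, hm, ← zpow_mul] at this
      exact this
  obtain ⟨w₁, hw₁, hxw₁⟩ := hno x₀ hx₀K
  -- an element of E centralizing w₁
  obtain ⟨a, haE, ha1, haw₁⟩ : ∃ a ∈ E, a ≠ 1 ∧ Commute a w₁ := by
    obtain ⟨k, hk⟩ := hhyp w₁ hw₁ x₀ hx₀ hxw₁ y₀ hy₀
    refine ⟨y₀ * x₀ ^ k, E.mul_mem hy₀ (E.zpow_mem hx₀ k), fun h => hne₀ ?_, hk⟩
    refine (hsub hx₀K.2 ?_ hy₀K.1).symm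
    rw [eq_inv_of_mul_eq_one_left h]
    exact Subgroup.inv_mem _ (Subgroup.zpow_mem _ (Subgroup.mem_zpowers x₀) k)
  obtain ⟨v, hv, hav⟩ := hno a (hEK a haE ha1)
  obtain ⟨b, hbE, hbw₁, hbv⟩ : ∃ b ∈ E, ¬ Commute b w₁ ∧ Commute b v := by
    obtain ⟨k, hk⟩ := hhyp v hv a haE hav x₀ hx₀
    refine ⟨x₀ * a ^ k, E.mul_mem hx₀ (E.zpow_mem haE k), fun h => hxw₁ ?_, hk⟩
    have := h.mul_left (haw₁.zpow_left (-k))
    simpa [mul_assoc] using this
  have haK := hEK a haE ha1
  have hb1 : b ≠ 1 := fun h => hbw₁ (h ▸ Commute.one_left w₁)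
  have hbK := hEK b hbE hb1
  -- move w₁ along its line with a so as to centralize v
  obtain ⟨u, hu, hauc, huv, hbu, huE⟩ : ∃ u, H69_gen K u ∧ Commute a u ∧ Commute u v ∧
      ¬ Commute b u ∧ (∀ e ∈ E, Commute e w₁ → Commute e u) := by
    have hne : Subgroup.zpowers a ≠ Subgroup.zpowers w₁ := fun h => by
      obtain ⟨k, hk⟩ := Subgroup.mem_zpowers_iff.mp (h ▸ Subgroup.mem_zpowers w₁)
      exact hxw₁ (hk ▸ (hEc x₀ hx₀ a haE).zpow_right k)
    obtain ⟨i, j, hij, hc⟩ := (hline haK hw₁ haw₁ hne).2 v hv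
    have hwj : w₁ ^ j ≠ 1 := fun h => by
      rw [h, mul_one] at hij hc
      exact hav (hroot haK hij hc)
    refine ⟨_, (hline haK hw₁ haw₁ hne).1 i j hij,
      ((Commute.refl a).zpow_right i).mul_right (haw₁.zpow_right j), hc, fun h => hbw₁ ?_,
      fun e he hew => ((hEc e he a haE).zpow_right i).mul_right (hew.zpow_right j)⟩
    have h2 := ((hEc b hbE a haE).zpow_right (-i)).mul_right h
    rw [← mul_assoc, ← zpow_add, neg_add_cancel, zpow_zero, one_mul] at h2
    exact (hroot hw₁ hwj h2.symm).symm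
  -- normalise so that a * b centralizes u * v
  obtain ⟨u', v', hu', hv', hau', huv', hbv', hbu', hav', hEu', hEv', habz⟩ :
      ∃ u' v', H69_gen K u' ∧ H69_gen K v' ∧ Commute a u' ∧ Commute u' v' ∧ Commute b v' ∧
        ¬ Commute b u' ∧ ¬ Commute a v' ∧ (∀ e ∈ E, Commute e w₁ → Commute e u') ∧
        (∀ e ∈ E, Commute e v → Commute e v') ∧ Commute (a * b) (u' * v') := by
    have hne : Subgroup.zpowers u ≠ Subgroup.zpowers v := fun h => by
      obtain ⟨k, hk⟩ := Subgroup.mem_zpowers_iff.mp (h ▸ Subgroup.mem_zpowers v)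
      exact hav (hk ▸ hauc.zpow_right k)
    have hab1 : a * b ≠ 1 := fun h => hbw₁ ((eq_inv_of_mul_eq_one_right h) ▸ haw₁.inv_left)
    obtain ⟨i, j, hij, hc⟩ := (hline hu hv huv hne).2 (a * b) (hEK _ (E.mul_mem haE hbE) hab1)
    have hui : u ^ i ≠ 1 := fun h => by
      rw [h, one_mul] at hij hc
      have h2 := hc.mul_right ((hbv.symm.zpow_left j).inv_right)
      rw [mul_inv_cancel_right] at h2
      exact hav (hroot hv hij h2).symm
    have hvj : v ^ j ≠ 1 := fun h => by
      rw [h, mul_one] at hij hc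
      have h2 := ((hauc.symm.zpow_left i).inv_right).mul_right hc
      rw [inv_mul_cancel_left] at h2
      exact hbu (hroot hu hij h2).symm
    exact ⟨u ^ i, v ^ j, (hgz i hu hui).1, (hgz j hv hvj).1, hauc.zpow_right i, huv.zpow_zpow i j,
      hbv.zpow_right j, fun h => hbu (hroot hu hui h.symm).symm,
      fun h => hav (hroot hv hvj h.symm).symm,
      fun e he h => (huE e he h).zpow_right i, fun e he h => h.zpow_right j, hc.symm⟩
  set c := a * v' * a⁻¹ * v'⁻¹ with hcdef
  have hc2 : c = u'⁻¹ * (b⁻¹ * u' * b) := by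
    have hba : b * a = a * b := (hEc b hbE a haE).eq
    have h2 : a * (u' * v') * a⁻¹ = b⁻¹ * (u' * v') * b := by
      calc a * (u' * v') * a⁻¹ = b⁻¹ * ((b * a) * (u' * v')) * a⁻¹ := by group
        _ = b⁻¹ * ((u' * v') * (a * b)) * a⁻¹ := by rw [hba, habz.eq]
        _ = b⁻¹ * (u' * v') * (b * a) * a⁻¹ := by rw [hba]; group
        _ = b⁻¹ * (u' * v') * b := by group
    have h3 : u' * (a * v' * a⁻¹) = (b⁻¹ * u' * b) * v' := by
      calc u' * (a * v' * a⁻¹) = (u' * a) * v' * a⁻¹ := by group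
        _ = a * (u' * v') * a⁻¹ := by rw [← hau'.eq]; group
        _ = b⁻¹ * (u' * v') * b := h2
        _ = b⁻¹ * u' * (v' * b) := by group
        _ = (b⁻¹ * u' * b) * v' := by rw [← hbv'.eq]; group
    calc c = u'⁻¹ * (u' * (a * v' * a⁻¹)) * v'⁻¹ := by rw [hcdef]; group
      _ = u'⁻¹ * (b⁻¹ * u' * b) := by rw [h3]; group
  have hca : Commute c a := by
    rw [hc2]
    exact hau'.symm.inv_left.mul_left
      (((hEc b hbE a haE).inv_left.mul_left hau'.symm).mul_left (hEc b hbE a haE))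
  have hcv : Commute c v' := by
    rw [hc2]
    exact huv'.inv_left.mul_left ((hbv'.inv_left.mul_left huv').mul_left hbv')
  have hc1 : c ≠ 1 := fun h => hav' (by
    rw [hcdef, mul_inv_eq_one, mul_inv_eq_iff_eq_mul] at h; exact h)
  have hvv : Commute (a * v' * a⁻¹) v' := by
    have := hcv.mul_left (Commute.refl v')
    simpa [hcdef] using this
  have hv2ne : Subgroup.zpowers (a * v' * a⁻¹) ≠ Subgroup.zpowers v' := fun h => by
    have hcm : c ∈ Subgroup.zpowers v' := by
      rw [hcdef]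
      exact Subgroup.mul_mem _ (h ▸ Subgroup.mem_zpowers _) (Subgroup.inv_mem _ (Subgroup.mem_zpowers _))
    obtain ⟨m, hm⟩ := Subgroup.mem_zpowers_iff.mp hcm
    rw [← hm] at hca hc1
    exact hav' (hroot hv' hc1 hca).symm
  have hcK : H69_gen K c := by
    have := (hline (hconj a hv') hv' hvv hv2ne).1 1 (-1) (by simpa [hcdef] using hc1)
    simpa [hcdef] using this
  have hcE : c ∈ E := by
    refine hmax c hcK fun e he => ?_
    obtain ⟨k, hk⟩ := hhyp v hv a haE hav e he
    obtain ⟨l, hl⟩ := hhyp w₁ hw₁ b hbE hbw₁ (e * a ^ k) (E.mul_mem he (E.zpow_mem haE k))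
    have hdE : e * a ^ k * b ^ l ∈ E := E.mul_mem (E.mul_mem he (E.zpow_mem haE k)) (E.zpow_mem hbE l)
    have hdv : Commute (e * a ^ k * b ^ l) v' := hEv' _ hdE (hk.mul_left (hbv.zpow_left l))
    have hda : Commute (e * a ^ k * b ^ l) a := hEc _ hdE a haE
    have hdc : Commute (e * a ^ k * b ^ l) c :=
      ((hda.mul_right hdv).mul_right hda.inv_right).mul_right hdv.inv_right
    have hbc : Commute b c :=
      (((hEc b hbE a haE).mul_right hbv').mul_right (hEc b hbE a haE).inv_right).mul_right hbv'.inv_right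
    have := (hdc.mul_left (hbc.zpow_left (-l))).mul_left (hca.symm.zpow_left (-k))
    simpa [mul_assoc] using this
  -- final contradiction
  obtain ⟨w₃, hw₃, hcw₃⟩ := hno c hcK
  obtain ⟨k, hk⟩ := hhyp w₃ hw₃ c hcE hcw₃ a haE
  have hne : Subgroup.zpowers c ≠ Subgroup.zpowers v' := fun h => by
    obtain ⟨m, hm⟩ := Subgroup.mem_zpowers_iff.mp (h ▸ Subgroup.mem_zpowers v')
    exact hav' (hm ▸ hca.symm.zpow_right m)
  obtain ⟨i, j, hij, hz⟩ := (hline hcK hv' hcv hne).2 w₃ hw₃
  have hvj : v' ^ j ≠ 1 := fun h => by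
    rw [h, mul_one] at hij hz
    exact hcw₃ (hroot hcK hij hz)
  have hcj : c ^ j ≠ 1 := by
    intro h
    rw [← orderOf_dvd_iff_zpow_eq_one, hord hcK, ← hord hv', orderOf_dvd_iff_zpow_eq_one] at h
    exact hvj h
  have hkey : (a * c ^ k) * (c ^ i * v' ^ j) * (a * c ^ k)⁻¹ * (c ^ i * v' ^ j)⁻¹ = c ^ j := by
    have h1 : a * c ^ k * c ^ i * (a * c ^ k)⁻¹ = c ^ i := by
      have : Commute (a * c ^ k) (c ^ i) :=
        (hca.symm.zpow_right i).mul_left ((Commute.refl c).zpow_zpow k i)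
      rw [this.eq, mul_inv_cancel_right]
    have h2 : a * c ^ k * v' ^ j * (a * c ^ k)⁻¹ = c ^ j * v' ^ j := by
      calc a * c ^ k * v' ^ j * (a * c ^ k)⁻¹ = a * (c ^ k * v' ^ j * (c ^ k)⁻¹) * a⁻¹ := by group
        _ = (a * v' * a⁻¹) ^ j := by rw [(hcv.zpow_zpow k j).eq, mul_inv_cancel_right, conj_zpow]
        _ = (c * v') ^ j := by rw [show a * v' * a⁻¹ = c * v' by rw [hcdef]; group]
        _ = c ^ j * v' ^ j := hcv.mul_zpow j
    calc _ = (a * c ^ k * c ^ i * (a * c ^ k)⁻¹) * (a * c ^ k * v' ^ j * (a * c ^ k)⁻¹)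
          * (v' ^ j)⁻¹ * (c ^ i)⁻¹ := by group
      _ = c ^ i * (c ^ j * v' ^ j) * (v' ^ j)⁻¹ * (c ^ i)⁻¹ := by rw [h1, h2]
      _ = c ^ j := by group
  have : Commute (c ^ j) w₃ := hkey ▸ ((hk.mul_left hz).mul_left hk.inv_left).mul_left hz.inv_left
  exact hcw₃ (hroot hcK hcj this)

end Cfsg.Agent.S3196
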