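import Cfsg.Statements.S3200
import Cfsg.Agent.H70.AbelianComplement

set_option autoImplicit false
open Cfsg

namespace Cfsg.Agent.S3200

/-- Let H be a finite group in which a Sylow 2-subgroup has an abelian complement (an abelian subgroup meeting it trivially whose product with it is all of H). Then H is solvable, and every subgroup and every quotient group of H again has a Sylow 2-subgroup with an abelian complement. -/
theorem result {H : Type*} [Group H] [Finite H]
    (S : Sylow 2 H) (C : Subgroup H) (hC : IsMulCommutative ↥C) (hSC : Subgroup.IsComplement' (S : Subgroup H) C) :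
    Group.IsSolvable H ∧
    (∀ L : Subgroup H, ∃ (P : Sylow 2 ↥L) (D : Subgroup ↥L), IsMulCommutative ↥D ∧ Subgroup.IsComplement' (P : Subgroup ↥L) D) ∧
    (∀ (N : Subgroup H) [N.Normal], ∃ (P : Sylow 2 (H ⧸ N)) (D : Subgroup (H ⧸ N)),
      IsMulCommutative ↥D ∧ Subgroup.IsComplement' (P : Subgroup (H ⧸ N)) D) := by
  haveI : Fact (Nat.Prime 2) := ⟨Nat.prime_two⟩
  obtain ⟨k, hk⟩ := IsPGroup.iff_card.mp S.2
  have hidx : C.index = 2 ^ k := hSC.index_eq_card.trans hk
  have hodd : Odd (Nat.card ↥C) := by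
    rw [Nat.odd_iff, ← Nat.two_dvd_ne_zero, ← hSC.symm.index_eq_card]
    exact S.not_dvd_index
  have hsol : Group.IsSolvable H := H70.isSolvable_of_abelian_twoComplement C hC hidx
  haveI := hsol
  refine ⟨hsol, fun L => ?_, fun N hN => ?_⟩
  · obtain ⟨P⟩ : Nonempty (Sylow 2 ↥L) := inferInstance
    haveI : Group.IsSolvable ↥L :=
      Group.isSolvable_of_isSolvable_injective L.subtype_injective
    obtain ⟨m, hm⟩ := IsPGroup.iff_card.mp P.2
    have hcard : Nat.card ↥L = (P : Subgroup ↥L).index * 2 ^ m := by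
      rw [← hm, mul_comm, Subgroup.card_mul_index]
    have hnd : ¬ 2 ∣ (P : Subgroup ↥L).index := P.not_dvd_index
    obtain ⟨D, hD⟩ := H1.hall_exists _ _ hcard
      (Nat.Coprime.pow_right m (Nat.prime_two.coprime_iff_not_dvd.mpr hnd).symm)
    have hDodd : Odd (Nat.card ↥D) := by rw [hD, Nat.odd_iff, ← Nat.two_dvd_ne_zero]; exact hnd
    refine ⟨P, D, ?_, ?_⟩
    · have hHG : Nat.card H = Nat.card ↥C * 2 ^ k := by rw [← hidx, Subgroup.card_mul_index]
      have hcop : (Nat.card ↥C).Coprime (2 ^ k) :=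
        Nat.Coprime.pow_right k (Nat.coprime_two_right.mpr hodd)
      obtain ⟨C', hC', hDC⟩ := H1.hall_exists_ge _ _ hHG hcop (D.map L.subtype) (by
        rw [Subgroup.card_map_of_injective L.subtype_injective]
        exact Nat.Coprime.pow_right k (Nat.coprime_two_right.mpr hDodd))
      obtain ⟨g, hg⟩ := H1.hall_conj _ _ hHG hcop C C' rfl hC'
      refine ⟨⟨fun a b => ?_⟩⟩
      have hmem : ∀ d : ↥D, ∃ c ∈ C, g * c * g⁻¹ = ((d : ↥L) : H) := fun d => by
        have h1 : ((d : ↥L) : H) ∈ C' := hDC ⟨_, d.2, rfl⟩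
        rw [← hg] at h1
        obtain ⟨c, hc, hc'⟩ := h1
        exact ⟨c, hc, hc'⟩
      obtain ⟨x, hx, hxa⟩ := hmem a
      obtain ⟨y, hy, hyb⟩ := hmem b
      refine Subtype.ext (Subtype.ext ?_)
      show ((a : ↥L) : H) * ((b : ↥L) : H) = ((b : ↥L) : H) * ((a : ↥L) : H)
      have hxy : x * y = y * x := congrArg Subtype.val (hC.is_comm.comm ⟨x, hx⟩ ⟨y, hy⟩)
      rw [← hxa, ← hyb]
      calc g * x * g⁻¹ * (g * y * g⁻¹) = g * (x * y) * g⁻¹ := by group
        _ = g * y * g⁻¹ * (g * x * g⁻¹) := by rw [hxy]; group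
    · refine H70.isComplement'_sylow_two P D hDodd (k := m) ?_
      have h := Subgroup.card_mul_index D
      rw [hD, hcard] at h
      exact Nat.eq_of_mul_eq_mul_left (Nat.pos_of_ne_zero Subgroup.index_ne_zero_of_finite) h
  · obtain ⟨P⟩ : Nonempty (Sylow 2 (H ⧸ N)) := inferInstance
    set f := QuotientGroup.mk' N with hf
    refine ⟨P, C.map f, ⟨⟨?_⟩⟩, ?_⟩
    · rintro ⟨_, a, ha, rfl⟩ ⟨_, b, hb, rfl⟩
      refine Subtype.ext ?_
      show f a * f b = f b * f a
      rw [← map_mul, ← map_mul, show a * b = b * a from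
        congrArg Subtype.val (hC.is_comm.comm ⟨a, ha⟩ ⟨b, hb⟩)]
    · obtain ⟨j, -, hj⟩ := (Nat.dvd_prime_pow Nat.prime_two).mp
        (hidx ▸ Subgroup.index_map_dvd C (QuotientGroup.mk'_surjective N))
      exact H70.isComplement'_sylow_two P (C.map f) (hodd.of_dvd_nat (Subgroup.card_map_dvd C f)) hj

end Cfsg.Agent.S3200
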