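import Cfsg.Statements.S3201
import Cfsg.Agent.H70.QuaternionQuot

set_option autoImplicit false
open Cfsg QuaternionGroup

namespace Cfsg.Agent.S3201

/-- Let S be a finite 2-group whose centre Z(S) has n ≥ 2 distinct maximal subgroups C₁, …, Cₙ with trivial intersection such that each quotient S/Cᵢ is a non-abelian group with exactly one involution (a generalized quaternion group). Then S is the internal direct product of an elementary abelian subgroup and a non-abelian subgroup with exactly one involution. -/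
theorem result {S : Type*} [Group S] [Finite S]
    (hS : IsPGroup 2 S) (n : ℕ) (hn : 2 ≤ n) (C : Fin n → Subgroup ↥(Subgroup.center S))
    (hCmax : ∀ i, IsCoatom (C i)) (hCinj : Function.Injective C) (hCint : ⨅ i, C i = ⊥)
    (hCq : ∀ i, ∃ (_ : ((C i).map (Subgroup.center S).subtype).Normal),
      ¬ IsMulCommutative (S ⧸ (C i).map (Subgroup.center S).subtype) ∧
      ∃! x : S ⧸ (C i).map (Subgroup.center S).subtype, orderOf x = 2) :
    ∃ E Q : Subgroup S, Cfsg.IsInternalDirectProduct E Q ⊤ ∧ Cfsg.IsElementaryAbelian 2 E ∧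
      ¬ IsMulCommutative ↥Q ∧ ∃! x : ↥Q, orderOf x = 2 := by
  classical
  set N : Fin n → Subgroup S := fun i => (C i).map (Subgroup.center S).subtype with hNdef
  have hNZ : ∀ i, N i ≤ (Subgroup.center S) := fun i => Subgroup.map_subtype_le _
  haveI hNn : ∀ i, (N i).Normal := fun i => (hCq i).1
  have hmemN : ∀ i, ∀ z (hz : z ∈ (Subgroup.center S)), z ∈ N i ↔ (⟨z, hz⟩ : ↥(Subgroup.center S)) ∈ C i := by
    intro i z hz
    constructor
    · rintro ⟨y, hy, hyz⟩
      have : y = ⟨z, hz⟩ := Subtype.ext hyz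
      rwa [this] at hy
    · exact fun h => ⟨_, h, rfl⟩
  have hint : ∀ z ∈ (Subgroup.center S), (∀ i, z ∈ N i) → z = 1 := by
    intro z hz h
    have : (⟨z, hz⟩ : ↥(Subgroup.center S)) ∈ ⨅ i, C i := Subgroup.mem_iInf.mpr fun i => (hmemN i z hz).mp (h i)
    rw [hCint, Subgroup.mem_bot] at this
    exact congrArg Subtype.val this
  -- each quotient is generalized quaternion
  have hq : ∀ i, ∃ k : ℕ, 1 ≤ k ∧ Nonempty (S ⧸ N i ≃* QuaternionGroup (2 ^ k)) := fun i =>
    H70.quaternion_of_unique_involution (hS.to_quotient (N i)) (hCq i).2.1 (hCq i).2.2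
  have hsq : ∀ i, ∀ z ∈ (Subgroup.center S), z ^ 2 ∈ N i := by
    intro i z hz
    obtain ⟨k, hk, ⟨e⟩⟩ := hq i
    rw [← QuotientGroup.eq_one_iff (N := N i), QuotientGroup.mk_pow]
    apply e.injective
    rw [map_pow, map_one]
    refine H70.quaternion_center_sq (by
      calc 2 = 2 ^ 1 := by norm_num
        _ ≤ 2 ^ k := Nat.pow_le_pow_right (by norm_num) hk) fun g => ?_
    obtain ⟨s, rfl⟩ := e.surjective g
    induction s using QuotientGroup.induction_on with | H s => ?_
    rw [← map_mul, ← map_mul, ← QuotientGroup.mk_mul, ← QuotientGroup.mk_mul,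
      Subgroup.mem_center_iff.mp hz s]
  have hz2 : ∀ z ∈ (Subgroup.center S), z ^ 2 = 1 := fun z hz => hint _ (pow_mem hz 2) fun i => hsq i z hz
  -- the involution of each quotient comes from the centre
  have hlift : ∀ i, ∀ w : S, w ^ 2 ∈ N i → w ∈ (Subgroup.center S) := by
    intro i w hw
    obtain ⟨ι, hι, huni⟩ := (hCq i).2.2
    by_cases hw1 : w ∈ N i
    · exact hNZ i hw1
    have h1 : orderOf (w : S ⧸ N i) = 2 := orderOf_eq_prime
      (by rw [← QuotientGroup.mk_pow, QuotientGroup.eq_one_iff]; exact hw)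
      (fun h => hw1 ((QuotientGroup.eq_one_iff w).mp h))
    obtain ⟨z, hz, hzC⟩ : ∃ z : S, z ∈ (Subgroup.center S) ∧ z ∉ N i := by
      have hne := (hCmax i).1
      obtain ⟨z, hzC⟩ : ∃ z : ↥(Subgroup.center S), z ∉ C i := by
        by_contra h
        push_neg at h
        exact hne (eq_top_iff.mpr fun z _ => h z)
      exact ⟨z, z.2, fun h => hzC ((hmemN i z z.2).mp h)⟩
    have h2 : orderOf (z : S ⧸ N i) = 2 := orderOf_eq_prime
      (by rw [← QuotientGroup.mk_pow, QuotientGroup.eq_one_iff]; exact hsq i z hz)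
      (fun h => hzC ((QuotientGroup.eq_one_iff z).mp h))
    have h3 := QuotientGroup.eq.mp ((huni _ h2).trans (huni _ h1).symm)
    have h4 := mul_mem hz (hNZ i h3)
    rwa [mul_inv_cancel_left] at h4
  have hsep : ∀ w ∈ (Subgroup.center S), ∀ w' ∈ (Subgroup.center S), (∀ i, w ∉ N i) → (∀ i, w' ∉ N i) → w = w' := by
    intro w hw w' hw' h h'
    refine inv_mul_eq_one.mp (hint _ (mul_mem (inv_mem hw) hw') fun i => ?_)
    obtain ⟨ι, hι, huni⟩ := (hCq i).2.2
    have h1 : ∀ u ∈ (Subgroup.center S), u ∉ N i → (u : S ⧸ N i) = ι := fun u hu hun => huni _ (orderOf_eq_prime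
      (by rw [← QuotientGroup.mk_pow, QuotientGroup.eq_one_iff]; exact hsq i u hu)
      (fun h => hun ((QuotientGroup.eq_one_iff u).mp h)))
    exact QuotientGroup.eq.mp ((h1 w hw (h i)).trans (h1 w' hw' (h' i)).symm)
  -- generators coming from the first quotient
  have i0 : Fin n := ⟨0, by omega⟩
  obtain ⟨k, hk, ⟨e⟩⟩ := hq i0
  set m := 2 ^ k with hm
  haveI : NeZero m := ⟨by positivity⟩
  set f : S →* QuaternionGroup m := e.toMonoidHom.comp (QuotientGroup.mk' (N i0)) with hf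
  have hfs : Function.Surjective f := e.surjective.comp (QuotientGroup.mk'_surjective _)
  have hfk : ∀ s, f s = 1 ↔ s ∈ N i0 := fun s => by
    rw [hf]
    simp
  obtain ⟨α, hα⟩ := hfs (a 1)
  obtain ⟨x, hx⟩ := hfs (xa 0)
  obtain ⟨y, hy⟩ : ∃ y, y = x⁻¹ * α := ⟨_, rfl⟩
  have hfα : ∀ j : ℕ, f (α ^ j) = a (j : ZMod (2 * m)) := fun j => by
    rw [map_pow, hα, a_one_pow]
  have hcen : ∀ w ∈ (Subgroup.center S), ∀ g, f w * g = g * f w := by
    intro w hw g
    obtain ⟨s, rfl⟩ := hfs g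
    rw [← map_mul, ← map_mul, Subgroup.mem_center_iff.mp hw s]
  have h2m : 2 ≤ m := by
    calc 2 = 2 ^ 1 := by norm_num
      _ ≤ 2 ^ k := Nat.pow_le_pow_right (by norm_num) hk
  have hxaZ : ∀ s, (∃ j, f s = xa j) → s ∉ (Subgroup.center S) := by
    rintro s ⟨j, hj⟩ hs
    have h1 := (hfk _).mpr (hsq i0 s hs)
    rw [map_pow, hj, xa_sq, H70.quaternion_a_natCast_eq_one_iff] at h1
    have := Nat.le_of_dvd (by omega) h1
    omega
  have ham : (a (m : ZMod (2 * m)) : QuaternionGroup m) ≠ 1 := by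
    rw [Ne, H70.quaternion_a_natCast_eq_one_iff]
    intro h
    have := Nat.le_of_dvd (by omega) h
    omega
  -- squares of non-central elements with central square
  have hkey : ∀ w, w ∉ (Subgroup.center S) → w ^ 2 ∈ (Subgroup.center S) → ∀ i, w ^ 2 ∉ N i := fun w hw _ i h => hw (hlift i w h)
  -- an element whose square agrees with `f x ^ 2` has central square
  have hcsq : ∀ w, f (w ^ 2) = a (m : ZMod (2 * m)) → w ^ 2 ∈ (Subgroup.center S) := by
    intro w hw
    refine hlift i0 _ ?_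
    rw [← hfk, map_pow, hw, sq, a_mul_a, one_def]
    congr 1
    rw [← Nat.cast_add, ← two_mul, ZMod.natCast_self]
  have hx2 : x ^ 2 ∈ (Subgroup.center S) := hcsq x (by rw [map_pow, hx, xa_sq])
  have hxZ : x ∉ (Subgroup.center S) := hxaZ x ⟨0, hx⟩
  set z0 := x ^ 2 with hz0
  have hfy : ∃ j, f y = xa j := by
    rw [hy, map_mul, map_inv, hα, hx]
    cases h : (xa (0 : ZMod (2 * m)))⁻¹ * a 1 with
    | xa j => exact ⟨j, rfl⟩
    | a j =>
      exfalso
      rw [inv_mul_eq_iff_eq_mul, xa_mul_a] at h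
      exact absurd h (by simp)
  have hy2 : y ^ 2 = z0 := by
    obtain ⟨j, hj⟩ := hfy
    have h1 : y ^ 2 ∈ (Subgroup.center S) := hcsq y (by rw [map_pow, hj, xa_sq])
    exact hsep _ h1 _ hx2 (hkey y (hxaZ y ⟨j, hj⟩) h1) (hkey x hxZ hx2)
  have hαm : α ^ m = z0 := by
    have hfm := hfα m
    have h1 : α ^ m ∈ (Subgroup.center S) := hlift i0 _ (by
      rw [← hfk, map_pow, hfm, sq, a_mul_a, one_def]
      congr 1
      rw [← Nat.cast_add, ← two_mul, ZMod.natCast_self])
    obtain ⟨k', rfl⟩ : ∃ k', k = k' + 1 := ⟨k - 1, by omega⟩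
    have hsplit : α ^ m = (α ^ 2 ^ k') ^ 2 := by rw [← pow_mul, hm, pow_succ]
    refine hsep _ h1 _ hx2 (fun i => ?_) (hkey x hxZ hx2)
    rw [hsplit]
    refine hkey _ (fun hmem => ?_) (hsplit ▸ h1) i
    have h2 := (hfk _).mpr (hsq i0 _ hmem)
    rw [← hsplit, hfm] at h2
    exact ham h2
  have hxinv : x⁻¹ = x * z0⁻¹ := by rw [hz0, sq]; group
  have hzc : ∀ g : S, g * z0⁻¹ = z0⁻¹ * g :=
    fun g => Subgroup.mem_center_iff.mp (inv_mem hx2) g
  have hrel : x * α * x⁻¹ = α⁻¹ := by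
    have h1 : x⁻¹ * α * (x⁻¹ * α) = z0 := by rw [← hy, ← sq, hy2]
    have h2 : x⁻¹ * α * x⁻¹ = z0 * α⁻¹ := eq_mul_inv_of_mul_eq (by rwa [mul_assoc])
    calc x * α * x⁻¹ = x * x * (x⁻¹ * α * x⁻¹) := by group
      _ = z0 * (z0 * α⁻¹) := by rw [h2, ← sq]
      _ = α⁻¹ := by rw [← mul_assoc, ← sq, hz2 _ hx2, one_mul]
  have hrelz : ∀ j : ℤ, x * α ^ j = α ^ (-j) * x := fun j => by
    rw [← mul_inv_eq_iff_eq_mul, ← conj_zpow, hrel, inv_zpow']
  have hz0A : z0 ∈ Subgroup.zpowers α := hαm ▸ Subgroup.pow_mem _ (Subgroup.mem_zpowers α) m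
  -- the complement
  set Q : Subgroup S :=
    { carrier := {g | g ∈ Subgroup.zpowers α ∨ g * x⁻¹ ∈ Subgroup.zpowers α}
      one_mem' := Or.inl (one_mem _)
      mul_mem' := by
        intro g h hg hh
        rcases hg with hg | hg
        · rcases hh with hh | hh
          · exact Or.inl (mul_mem hg hh)
          · exact Or.inr (by rw [mul_assoc]; exact mul_mem hg hh)
        · obtain ⟨i, hi⟩ := Subgroup.mem_zpowers_iff.mp hg
          have hge : g = α ^ i * x := by rw [hi, inv_mul_cancel_right]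
          rcases hh with hh | hh
          · obtain ⟨j, rfl⟩ := Subgroup.mem_zpowers_iff.mp hh
            refine Or.inr ?_
            rw [hge, mul_assoc (α ^ i), hrelz, ← mul_assoc, mul_inv_cancel_right, ← zpow_add]
            exact Subgroup.zpow_mem _ (Subgroup.mem_zpowers α) _
          · obtain ⟨j, hj⟩ := Subgroup.mem_zpowers_iff.mp hh
            have hhe : h = α ^ j * x := by rw [hj, inv_mul_cancel_right]
            refine Or.inl ?_
            have h1 : g * h = α ^ i * α ^ (-j) * z0 := by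
              rw [hge, hhe, hz0, sq]
              calc α ^ i * x * (α ^ j * x) = α ^ i * (x * α ^ j) * x := by group
                _ = α ^ i * α ^ (-j) * (x * x) := by rw [hrelz]; group
            rw [h1]
            exact mul_mem (mul_mem (Subgroup.zpow_mem _ (Subgroup.mem_zpowers α) _)
              (Subgroup.zpow_mem _ (Subgroup.mem_zpowers α) _)) hz0A
      inv_mem' := by
        intro g hg
        rcases hg with hg | hg
        · exact Or.inl (inv_mem hg)
        · obtain ⟨i, hi⟩ := Subgroup.mem_zpowers_iff.mp hg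
          have hge : g = α ^ i * x := by rw [hi, inv_mul_cancel_right]
          refine Or.inr ?_
          have h1 : g⁻¹ * x⁻¹ = α ^ i * z0⁻¹ := by
            have h2 : x⁻¹ * (α ^ i)⁻¹ = α ^ i * x⁻¹ := by
              have h3 := hrelz i
              rw [zpow_neg, eq_inv_mul_iff_mul_eq] at h3
              conv_rhs => rw [← h3]
              group
            rw [hge, mul_inv_rev, h2, hz0, sq]
            group
          rw [h1]
          exact mul_mem (Subgroup.zpow_mem _ (Subgroup.mem_zpowers α) _) (inv_mem hz0A) } with hQ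
  have hQN : N i0 ⊓ Q = ⊥ := by
    rw [eq_bot_iff]
    rintro s ⟨hsN, hsQ⟩
    rw [Subgroup.mem_bot]
    rcases hsQ with hs | hs
    · have hs' := (mem_powers_iff_mem_zpowers).mpr hs
      obtain ⟨j, rfl⟩ := Submonoid.mem_powers_iff _ _ |>.mp hs'
      have h1 := (hfk _).mpr hsN
      rw [hfα, H70.quaternion_a_natCast_eq_one_iff] at h1
      obtain ⟨l, rfl⟩ := h1
      rw [mul_comm 2 m, mul_assoc, pow_mul, hαm, pow_mul, hz2 _ hx2, one_pow]
    · exfalso
      obtain ⟨j, hj⟩ := Submonoid.mem_powers_iff _ _ |>.mp (mem_powers_iff_mem_zpowers.mpr hs)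
      have h1 : f (α ^ j * x) = 1 := by rw [hj, inv_mul_cancel_right]; exact (hfk s).mpr hsN
      rw [map_mul, hfα, hx, a_mul_xa, one_def] at h1
      cases h1
  have hsup : N i0 ⊔ Q = ⊤ := by
    rw [eq_top_iff]
    intro s _
    have hαQ : ∀ j : ℕ, α ^ j ∈ Q := fun j => Or.inl (pow_mem (Subgroup.mem_zpowers α) j)
    have hxQ : x ∈ Q := Or.inr (by rw [mul_inv_cancel]; exact one_mem _)
    have h : ∀ q ∈ Q, f q = f s → s ∈ N i0 ⊔ Q := fun q hq hqs => by
      have h1 : s * q⁻¹ ∈ N i0 := by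
        rw [← hfk, map_mul, map_inv, hqs, mul_inv_cancel]
      have h2 := Subgroup.mul_mem_sup h1 hq
      rwa [inv_mul_cancel_right] at h2
    cases hs : f s with
    | a i => exact h (α ^ i.val) (hαQ _) (by rw [hfα, ZMod.natCast_zmod_val, hs])
    | xa i =>
      exact h (x * α ^ i.val) (mul_mem hxQ (hαQ _))
        (by rw [map_mul, hfα, hx, ZMod.natCast_zmod_val, xa_mul_a, zero_add, hs])
  have hcomm : ∀ c ∈ N i0, ∀ q ∈ Q, c * q = q * c := fun c hc q _ =>
    (Subgroup.mem_center_iff.mp (hNZ i0 hc) q).symm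
  -- `Q` maps isomorphically on the quotient
  set g : ↥Q →* S ⧸ N i0 := (QuotientGroup.mk' (N i0)).comp Q.subtype with hg
  have hgbij : Function.Bijective g := by
    refine ⟨(MonoidHom.ker_eq_bot_iff g).mp ?_, fun s => ?_⟩
    · rw [eq_bot_iff]
      intro q hq
      have h1 : (q : S) ∈ N i0 ⊓ Q := ⟨(QuotientGroup.eq_one_iff _).mp hq, q.2⟩
      rw [hQN, Subgroup.mem_bot] at h1
      exact Subgroup.mem_bot.mpr (Subtype.ext h1)
    · induction s using QuotientGroup.induction_on with | H s => ?_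
      have hs : s ∈ N i0 ⊔ Q := hsup ▸ Subgroup.mem_top s
      obtain ⟨c, hc, q, hq, rfl⟩ := Subgroup.mem_sup_of_normal_left.mp hs
      refine ⟨⟨q, hq⟩, ?_⟩
      show ((q : S) : S ⧸ N i0) = ((c * q : S) : S ⧸ N i0)
      rw [QuotientGroup.mk_mul, (QuotientGroup.eq_one_iff c).mpr hc, one_mul]
  set eQ := MulEquiv.ofBijective g hgbij
  refine ⟨N i0, Q, ⟨le_top, le_top, hcomm, hQN, hsup⟩, ⟨⟨⟨fun p q => Subtype.ext
    (Subgroup.mem_center_iff.mp (hNZ i0 q.2) p)⟩⟩, fun c hc => hz2 c (hNZ i0 hc)⟩, fun h => ?_, ?_⟩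
  · refine (hCq i0).2.1 ⟨⟨fun p q => ?_⟩⟩
    obtain ⟨p, rfl⟩ := eQ.surjective p
    obtain ⟨q, rfl⟩ := eQ.surjective q
    rw [← map_mul, ← map_mul, h.is_comm.comm]
  · obtain ⟨ι, hι, huni⟩ := (hCq i0).2.2
    refine ⟨eQ.symm ι, (orderOf_injective eQ.symm.toMonoidHom eQ.symm.injective ι).trans hι,
      fun q hq => ?_⟩
    rw [← huni (eQ q) ((orderOf_injective eQ.toMonoidHom eQ.injective q).trans hq),
      MulEquiv.symm_apply_apply]

end Cfsg.Agent.S3201
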