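import Cfsg.Statements.S3202
import Cfsg.Agent.H70.QuaternionQuot

set_option autoImplicit false
open Cfsg

namespace Cfsg.Agent.S3202

/-- Let S be a finite 2-group of 2-rank exactly 2 and D a maximal subgroup of the centre of S such that S/D is a non-abelian group with exactly one involution (a generalized quaternion group). Then S has a nontrivial cyclic characteristic subgroup. -/
theorem result {S : Type*} [Group S]
    [Finite S] (hS : IsPGroup 2 S) (hr2 : Cfsg.PRankLE 2 2 S) (hr1 : ¬ Cfsg.PRankLE 2 1 S)
    (D : Subgroup ↥(Subgroup.center S)) (hD : IsCoatom D)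
    (hq : ∃ (_ : (D.map (Subgroup.center S).subtype).Normal),
      ¬ IsMulCommutative (S ⧸ D.map (Subgroup.center S).subtype) ∧
      ∃! x : S ⧸ D.map (Subgroup.center S).subtype, orderOf x = 2) :
    ∃ C : Subgroup S, C ≠ ⊥ ∧ IsCyclic ↥C ∧ C.Characteristic := by
  obtain ⟨hn, hnc, huniq⟩ := hq
  set N := D.map (Subgroup.center S).subtype with hN
  obtain ⟨k, -, ⟨e⟩⟩ := H70.quaternion_of_unique_involution (hS.to_quotient N) hnc huniq
  refine ⟨commutator S, fun h => hnc ⟨⟨?_⟩⟩,
    H70.isCyclic_commutator_of_quotient_quaternion (e.toMonoidHom.comp (QuotientGroup.mk' N))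
      (e.surjective.comp (QuotientGroup.mk'_surjective N)) ?_, inferInstance⟩
  · intro a b
    induction a using QuotientGroup.induction_on with | H a => ?_
    induction b using QuotientGroup.induction_on with | H b => ?_
    have hab : a * b = b * a := by
      rw [← commutatorElement_eq_one_iff_mul_comm, ← Subgroup.mem_bot, ← h, commutator_def]
      exact Subgroup.commutator_mem_commutator (Subgroup.mem_top a) (Subgroup.mem_top b)
    rw [← QuotientGroup.mk_mul, ← QuotientGroup.mk_mul, hab]
  · rw [← MonoidHom.comap_ker, (MonoidHom.ker_eq_bot_iff _).mpr e.injective, MonoidHom.comap_bot,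
      QuotientGroup.ker_mk']
    exact Subgroup.map_subtype_le D

end Cfsg.Agent.S3202
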