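import Cfsg.Statements.S3206
import Cfsg.Agent.H70.AutPSLTwoKlein
import Cfsg.Agent.H70.AbelianSylowTwo
import Cfsg.Agent.H70.AbelianComplement

set_option autoImplicit false
open Cfsg

namespace Cfsg.Agent.S3206

open scoped commutatorElement

section

variable {G : Type*} [Group G]

/-- Everything used in the two arguments. -/
structure Setup (t : G) (S : Sylow 2 G) (E N' : Subgroup G) : Prop where
  t_two : orderOf t = 2
  t_mem : t ∈ (S : Subgroup G)
  S_le : (S : Subgroup G) ≤ Subgroup.centralizer ({t} : Set G)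
  E_le : E ≤ Subgroup.centralizer ({t} : Set G)
  decomp : ∀ c ∈ Subgroup.centralizer ({t} : Set G), c ∈ E ∨ t * c ∈ E
  N_le : N' ≤ E
  split : ∀ s ∈ (S : Subgroup G), (s ∈ N') ∨ (t * s ∈ N')
  sq : ∀ s ∈ (S : Subgroup G), s * s = 1
  klein : Nat.card ↥((S : Subgroup G) ⊓ N') = 4
  moved : ∀ v ∈ (S : Subgroup G) ⊓ N', v ≠ 1 →
    ∃ m ∈ N', m ∈ Subgroup.normalizer ((S : Subgroup G) : Set G) ∧ m * v * m⁻¹ ≠ v
  t_moved : ∃ n ∈ Subgroup.normalizer ((S : Subgroup G) : Set G), n * t * n⁻¹ ≠ t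

variable [Finite G] {t : G} {S : Sylow 2 G} {E N' : Subgroup G}

theorem Setup.conj_mem (h : Setup t S E N') {m v : G}
    (hm : m ∈ N') (hmn : m ∈ Subgroup.normalizer ((S : Subgroup G) : Set G))
    (hv : v ∈ (S : Subgroup G) ⊓ N') : m * v * m⁻¹ ∈ (S : Subgroup G) ⊓ N' :=
  Subgroup.mem_inf.mpr ⟨(Subgroup.mem_normalizer_iff.mp hmn v).mp hv.1,
    mul_mem (mul_mem hm hv.2) (inv_mem hm)⟩

theorem Setup.klein_le (h : Setup t S E N') (K : Subgroup G) {a b : G}
    (ha : a ∈ (S : Subgroup G) ⊓ N') (hb : b ∈ (S : Subgroup G) ⊓ N') (haK : a ∈ K) (hbK : b ∈ K)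
    (ha1 : a ≠ 1) (hb1 : b ≠ 1) (hab : a ≠ b) : (S : Subgroup G) ⊓ N' ≤ K := by
  haveI : IsKleinFour ↥((S : Subgroup G) ⊓ N') := by
    haveI : Nontrivial ↥((S : Subgroup G) ⊓ N') :=
      Finite.one_lt_card_iff_nontrivial.mp (by rw [h.klein]; norm_num)
    refine IsKleinFour.mk h.klein ((Monoid.exponent_eq_prime_iff Nat.prime_two).mpr fun g hg => ?_)
    exact orderOf_eq_prime (by rw [pow_two]; exact Subtype.ext (h.sq g g.2.1)) hg
  intro x hx
  by_cases hx1 : x = 1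
  · rw [hx1]; exact one_mem K
  by_cases hxa : x = a
  · rw [hxa]; exact haK
  by_cases hxb : x = b
  · rw [hxb]; exact hbK
  have h1 := IsKleinFour.eq_mul_of_ne_all (x := (⟨a, ha⟩ : ↥((S : Subgroup G) ⊓ N'))) (y := ⟨b, hb⟩)
    (z := ⟨x, hx⟩) (fun e => ha1 (congrArg Subtype.val e)) (fun e => hb1 (congrArg Subtype.val e))
    (fun e => hab (congrArg Subtype.val e)) (fun e => hx1 (congrArg Subtype.val e))
    (fun e => hxa (congrArg Subtype.val e)) (fun e => hxb (congrArg Subtype.val e))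
  rw [show x = a * b from congrArg Subtype.val h1]
  exact mul_mem haK hbK

/-- A subgroup containing `t` and stable in the required sense contains the whole Sylow subgroup. -/
theorem Setup.le_of_klein (h : Setup t S E N') (K : Subgroup G) (ht : t ∈ K)
    (hV : (S : Subgroup G) ⊓ N' ≤ K) : (S : Subgroup G) ≤ K := by
  intro s hs
  rcases h.split s hs with h1 | h1
  · exact hV ⟨hs, h1⟩
  · have h2 := mul_mem ht (hV ⟨mul_mem h.t_mem hs, h1⟩)
    rwa [← mul_assoc, h.sq t h.t_mem, one_mul] at h2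

theorem Setup.disjoint_t (h : Setup t S E N') (htN : t ∉ N') {x : G}
    (hx : x ∈ (S : Subgroup G))
    (hfix : ∀ m ∈ N', m ∈ Subgroup.normalizer ((S : Subgroup G) : Set G) → m * x * m⁻¹ = x) :
    x = 1 ∨ x = t := by
  rcases h.split x hx with h1 | h1
  · left
    by_contra hne
    obtain ⟨m, hm, hmn, hmx⟩ := h.moved x ⟨hx, h1⟩ hne
    exact hmx (hfix m hm hmn)
  · right
    by_contra hne
    have hne1 : t * x ≠ 1 := fun e => hne (by
      rw [← one_mul x, ← h.sq t h.t_mem, mul_assoc, e, mul_one])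
    obtain ⟨m, hm, hmn, hmx⟩ := h.moved (t * x) ⟨mul_mem h.t_mem hx, h1⟩ hne1
    apply hmx
    have hmt : m * t = t * m :=
      Subgroup.mem_centralizer_singleton_iff.mp (h.E_le (h.N_le hm))
    calc m * (t * x) * m⁻¹ = m * t * (x * m⁻¹) := by group
      _ = t * (m * x * m⁻¹) := by rw [hmt]; group
      _ = t * x := by rw [hfix m hm hmn]

/-- The multiplier argument. -/
theorem Setup.multiplier (h : Setup t S E N') [IsSimpleGroup G] {L : Type} [Group L] [Finite L]
    (Z : Subgroup L) [Z.Normal] (hperf : commutator L = ⊤) (hZ : Z ≤ Subgroup.center L)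
    (hZ2 : IsPGroup 2 ↥Z) (e : L ⧸ Z ≃* G) : Z = ⊥ := by
  haveI : Fact (Nat.Prime 2) := ⟨Nat.prime_two⟩
  set f : L →* G := e.toMonoidHom.comp (QuotientGroup.mk' Z) with hf
  have hfs : Function.Surjective f := e.surjective.comp (QuotientGroup.mk'_surjective Z)
  have hfk : f.ker = Z := by
    rw [hf, ← MonoidHom.comap_ker, (MonoidHom.ker_eq_bot_iff _).mpr e.injective,
      MonoidHom.comap_bot, QuotientGroup.ker_mk']
  have hfZ : ∀ z : L, f z = 1 → z ∈ Z := fun z hz => by rw [← hfk]; exact hz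
  let P : Sylow 2 L := S.comapOfKerIsPGroup f (by rw [hfk]; exact hZ2)
    (by rw [MonoidHom.range_eq_top.mpr hfs]; exact le_top)
  have hP : ∀ x, x ∈ (P : Subgroup L) ↔ f x ∈ (S : Subgroup G) := fun x => Iff.rfl
  have hZc : ∀ z ∈ Z, ∀ g : L, g * z = z * g := fun z hz g =>
    Subgroup.mem_center_iff.mp (hZ hz) g
  -- commutators inside `P` are central
  have hc : ∀ a ∈ (P : Subgroup L), ∀ b ∈ (P : Subgroup L), ⁅a, b⁆ ∈ Z := fun a ha b hb => hfZ _ (by
    rw [map_commutatorElement, commutatorElement_eq_one_iff_mul_comm]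
    have h1 := h.sq _ ((hP a).mp ha)
    have h2 := h.sq _ ((hP b).mp hb)
    have h3 := h.sq _ (mul_mem ((hP a).mp ha) ((hP b).mp hb))
    calc f a * f b = (f a * f b) * (f b * f b) * (f a * f a) := by rw [h1, h2, mul_one, mul_one]
      _ = f a * f b * f b * (f b * f a) * f a := by group
      _ = f a * (f b * f b) * (f b * f a) * f a := by group
      _ = (f a * f b) * (f a * f b) * (f b * f a) := by
        rw [h2, mul_one, h3, one_mul]
        calc f a * (f b * f a) * f a = f a * f b * (f a * f a) := by group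
          _ = f a * f b := by rw [h1, mul_one]
          _ = f a * f b * (f a * f b) * (f a * f b) := by rw [h3, one_mul]
          _ = f b * f a := by
            rw [h3, one_mul]
            calc f a * f b = f a * f b * ((f a * f b) * (f a * f b))⁻¹ := by rw [h3, inv_one, mul_one]
              _ = (f b)⁻¹ * (f a)⁻¹ := by group
              _ = f b * f a := by rw [inv_eq_of_mul_eq_one_right h1, inv_eq_of_mul_eq_one_right h2]
      _ = f b * f a := by rw [h3, one_mul])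
  obtain ⟨τ, hτ⟩ := hfs t
  have hτP : τ ∈ (P : Subgroup L) := (hP τ).mpr (by rw [hτ]; exact h.t_mem)
  -- `τ` commutes with `P`
  set K : Subgroup G := ((P : Subgroup L) ⊓ Subgroup.centralizer ({τ} : Set L)).map f with hK
  have htK : t ∈ K := ⟨τ, ⟨hτP, Subgroup.mem_centralizer_singleton_iff.mpr rfl⟩, hτ⟩
  have hdisp : ∀ v ∈ (S : Subgroup G) ⊓ N', ∀ m ∈ N',
      m ∈ Subgroup.normalizer ((S : Subgroup G) : Set G) → v⁻¹ * (m * v * m⁻¹) ∈ K := by
    intro v hv m hm hmn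
    obtain ⟨v', hv'⟩ := hfs v
    obtain ⟨m', hm'⟩ := hfs m
    have hv'P : v' ∈ (P : Subgroup L) := (hP v').mpr (by rw [hv']; exact hv.1)
    have hmv : m' * v' * m'⁻¹ ∈ (P : Subgroup L) := (hP _).mpr (by
      rw [map_mul, map_mul, map_inv, hv', hm']; exact (h.conj_mem hm hmn hv).1)
    refine ⟨v'⁻¹ * (m' * v' * m'⁻¹), Subgroup.mem_inf.mpr ⟨mul_mem (inv_mem hv'P) hmv, ?_⟩, ?_⟩
    · -- the commutator with `τ` is unchanged by `m'`
      have hmt : m * t = t * m := Subgroup.mem_centralizer_singleton_iff.mp (h.E_le (h.N_le hm))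
      obtain ⟨z, hz, hzτ⟩ : ∃ z ∈ Z, m' * τ * m'⁻¹ = τ * z := by
        refine ⟨τ⁻¹ * (m' * τ * m'⁻¹), hfZ _ ?_, by group⟩
        rw [map_mul, map_inv, map_mul, map_mul, map_inv, hτ, hm', hmt]
        group
      set c := ⁅τ, v'⁆ with hcdef
      have hcZ : c ∈ Z := hc τ hτP v' hv'P
      have h1 : τ * (m' * v' * m'⁻¹) = c * ((m' * v' * m'⁻¹) * τ) := by
        have h2 : m' * c * m'⁻¹ = c := by rw [hZc c hcZ m', mul_inv_cancel_right]
        have h3 : ⁅m' * τ * m'⁻¹, m' * v' * m'⁻¹⁆ = m' * c * m'⁻¹ := by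
          simp only [hcdef, commutatorElement_def]; group
        have h4 : ⁅τ * z, m' * v' * m'⁻¹⁆ = ⁅τ, m' * v' * m'⁻¹⁆ := by
          rw [commutatorElement_def, commutatorElement_def, mul_inv_rev τ z]
          calc τ * z * (m' * v' * m'⁻¹) * (z⁻¹ * τ⁻¹) * (m' * v' * m'⁻¹)⁻¹
              = τ * (z * (m' * v' * m'⁻¹)) * z⁻¹ * τ⁻¹ * (m' * v' * m'⁻¹)⁻¹ := by group
            _ = τ * ((m' * v' * m'⁻¹) * z) * z⁻¹ * τ⁻¹ * (m' * v' * m'⁻¹)⁻¹ := by rw [← hZc z hz]
            _ = _ := by group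
        rw [← h2, ← h3, hzτ, h4, commutatorElement_def]
        group
      have h5 : τ * v' = c * (v' * τ) := by rw [hcdef, commutatorElement_def]; group
      rw [Subgroup.mem_centralizer_singleton_iff]
      have h6 : τ * v'⁻¹ = v'⁻¹ * τ * c⁻¹ := by
        calc τ * v'⁻¹ = v'⁻¹ * (v' * τ) * v'⁻¹ := by group
          _ = v'⁻¹ * (c⁻¹ * (τ * v')) * v'⁻¹ := by rw [h5]; group
          _ = v'⁻¹ * (c⁻¹ * τ) := by group
          _ = v'⁻¹ * τ * c⁻¹ := by rw [← hZc c⁻¹ (inv_mem hcZ) τ]; group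
      symm
      calc τ * (v'⁻¹ * (m' * v' * m'⁻¹)) = (τ * v'⁻¹) * (m' * v' * m'⁻¹) := by group
        _ = v'⁻¹ * (τ * (c⁻¹ * (m' * v' * m'⁻¹))) := by rw [h6]; group
        _ = v'⁻¹ * (τ * ((m' * v' * m'⁻¹) * c⁻¹)) := by rw [hZc c⁻¹ (inv_mem hcZ)]
        _ = v'⁻¹ * ((τ * (m' * v' * m'⁻¹)) * c⁻¹) := by group
        _ = v'⁻¹ * (c * ((m' * v' * m'⁻¹) * τ) * c⁻¹) := by rw [h1]
        _ = v'⁻¹ * ((m' * v' * m'⁻¹) * τ * c * c⁻¹) := by rw [hZc c hcZ]
        _ = v'⁻¹ * (m' * v' * m'⁻¹) * τ := by group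
    · rw [map_mul, map_inv, map_mul, map_mul, map_inv, hv', hm']
  haveI : Nontrivial ↥((S : Subgroup G) ⊓ N') :=
    Finite.one_lt_card_iff_nontrivial.mp (by rw [h.klein]; norm_num)
  obtain ⟨⟨v, hv⟩, hv1⟩ := exists_ne (1 : ↥((S : Subgroup G) ⊓ N'))
  have hv1' : v ≠ 1 := fun e => hv1 (Subtype.ext e)
  obtain ⟨m, hm, hmn, hmv⟩ := h.moved v hv hv1'
  set d := v⁻¹ * (m * v * m⁻¹) with hd
  have hdV : d ∈ (S : Subgroup G) ⊓ N' := mul_mem (inv_mem hv) (h.conj_mem hm hmn hv)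
  have hd1 : d ≠ 1 := fun e => hmv (inv_mul_eq_one.mp e).symm
  obtain ⟨m2, hm2, hm2n, hm2d⟩ := h.moved d hdV hd1
  set d2 := d⁻¹ * (m2 * d * m2⁻¹) with hd2
  have hd2V : d2 ∈ (S : Subgroup G) ⊓ N' := mul_mem (inv_mem hdV) (h.conj_mem hm2 hm2n hdV)
  have hd21 : d2 ≠ 1 := fun e => hm2d (inv_mul_eq_one.mp e).symm
  have hdd2 : d ≠ d2 := fun e => by
    have h1 : d * d = m2 * d * m2⁻¹ := by
      nth_rewrite 2 [e]
      rw [hd2]; group
    rw [h.sq d hdV.1, eq_comm, conj_eq_one_iff] at h1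
    exact hd1 h1
  have hKS : (S : Subgroup G) ≤ K := h.le_of_klein K htK (h.klein_le K hdV hd2V
    (hdisp v hv m hm hmn) (hdisp d hdV m2 hm2 hm2n) hd1 hd21 hdd2)
  have hτc : ∀ b ∈ (P : Subgroup L), b * τ = τ * b := by
    intro b hb
    obtain ⟨b', ⟨-, hb'c⟩, hbb⟩ := hKS ((hP b).mp hb)
    have hz : b'⁻¹ * b ∈ Z := hfZ _ (by rw [map_mul, map_inv, hbb, inv_mul_cancel])
    have hb'τ : b' * τ = τ * b' := Subgroup.mem_centralizer_singleton_iff.mp hb'c
    calc b * τ = b' * ((b'⁻¹ * b) * τ) := by group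
      _ = b' * (τ * (b'⁻¹ * b)) := by rw [← hZc _ hz τ]
      _ = τ * b := by rw [← mul_assoc b', hb'τ]; group
  -- the centre of `P` covers `S`
  set K0 : Subgroup G :=
    ((P : Subgroup L) ⊓ Subgroup.centralizer ((P : Subgroup L) : Set L)).map f with hK0
  have htK0 : t ∈ K0 := ⟨τ, ⟨hτP, Subgroup.mem_centralizer_iff.mpr hτc⟩, hτ⟩
  have hK0inv : ∀ n ∈ Subgroup.normalizer ((S : Subgroup G) : Set G), ∀ x ∈ K0,
      n * x * n⁻¹ ∈ K0 := by
    rintro n hn _ ⟨x', ⟨hx'P, hx'c⟩, rfl⟩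
    obtain ⟨n', rfl⟩ := hfs n
    have hn' : n' ∈ Subgroup.normalizer ((P : Subgroup L) : Set L) := by
      rw [Subgroup.mem_normalizer_iff]
      intro y
      rw [hP, hP, map_mul, map_mul, map_inv]
      exact Subgroup.mem_normalizer_iff.mp hn (f y)
    refine ⟨n' * x' * n'⁻¹,
      Subgroup.mem_inf.mpr ⟨(Subgroup.mem_normalizer_iff.mp hn' x').mp hx'P, ?_⟩, by simp⟩
    rw [Subgroup.mem_centralizer_iff]
    intro y hy
    have hy' : n'⁻¹ * y * n' ∈ (P : Subgroup L) := by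
      have := (Subgroup.mem_normalizer_iff.mp (inv_mem hn') y).mp hy
      simpa using this
    have h1 := Subgroup.mem_centralizer_iff.mp hx'c _ hy'
    calc y * (n' * x' * n'⁻¹) = n' * (n'⁻¹ * y * n' * x') * n'⁻¹ := by group
      _ = n' * (x' * (n'⁻¹ * y * n')) * n'⁻¹ := by rw [h1]
      _ = n' * x' * n'⁻¹ * y := by group
  obtain ⟨n, hn, hnt⟩ := h.t_moved
  obtain ⟨w, hwV, hwK, hw1⟩ : ∃ w ∈ (S : Subgroup G) ⊓ N', w ∈ K0 ∧ w ≠ 1 := by
    have h1 := hK0inv n hn t htK0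
    have h2 : n * t * n⁻¹ ∈ (S : Subgroup G) := (Subgroup.mem_normalizer_iff.mp hn t).mp h.t_mem
    rcases h.split _ h2 with h3 | h3
    · exact ⟨_, ⟨h2, h3⟩, h1, fun e => by
        rw [conj_eq_one_iff] at e
        have h4 := h.t_two
        rw [e, orderOf_one] at h4
        omega⟩
    · refine ⟨_, ⟨mul_mem h.t_mem h2, h3⟩, mul_mem htK0 h1, fun e => hnt ?_⟩
      rw [← inv_eq_of_mul_eq_one_right e, inv_eq_of_mul_eq_one_right (h.sq t h.t_mem)]
  obtain ⟨m3, hm3, hm3n, hm3w⟩ := h.moved w hwV hw1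
  have hK0S : (S : Subgroup G) ≤ K0 := h.le_of_klein K0 htK0 (h.klein_le K0 hwV
    (h.conj_mem hm3 hm3n hwV) hwK (hK0inv m3 hm3n w hwK) hw1
    (fun e => hw1 (conj_eq_one_iff.mp e)) (Ne.symm hm3w))
  have hPab : IsMulCommutative ↥(P : Subgroup L) := by
    refine ⟨⟨fun a b => Subtype.ext ?_⟩⟩
    obtain ⟨a', ⟨-, ha'c⟩, haa⟩ := hK0S ((hP a).mp a.2)
    have hz : (a : L) * a'⁻¹ ∈ Z := hfZ _ (by rw [map_mul, map_inv, haa, mul_inv_cancel])
    have h1 : (b : L) * a' = a' * b := Subgroup.mem_centralizer_iff.mp ha'c b b.2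
    show (a : L) * b = b * a
    calc (a : L) * b = ((a : L) * a'⁻¹) * (a' * b) := by group
      _ = ((a : L) * a'⁻¹) * b * a' := by rw [← h1]; group
      _ = b * ((a : L) * a'⁻¹) * a' := by rw [← hZc _ hz]
      _ = b * a := by group
  rw [eq_bot_iff]
  intro z hz
  refine Subgroup.mem_bot.mpr (H70.eq_one_of_mem_commutator_of_fixed P hPab ?_ ?_ fun n _ => ?_)
  · rw [hP, show f z = 1 from MonoidHom.mem_ker.mp (by rw [hfk]; exact hz)]; exact one_mem _
  · rw [hperf]; exact Subgroup.mem_top z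
  · rw [hZc z hz n, mul_inv_cancel_right]

/-- Cocycles on the normalizer with values in `S` are principal. -/
theorem Setup.principal (h : Setup t S E N') (ψ : MulAut G)
    (hS : ∀ c ∈ Subgroup.centralizer ((S : Subgroup G) : Set G), ψ c = c)
    (hδ : ∀ m ∈ Subgroup.normalizer ((S : Subgroup G) : Set G), m⁻¹ * ψ m ∈ (S : Subgroup G)) :
    ∃ X ∈ (S : Subgroup G), ∀ m ∈ Subgroup.normalizer ((S : Subgroup G) : Set G),
      ψ m = X * m * X := by
  classical
  haveI : Fact (Nat.Prime 2) := ⟨Nat.prime_two⟩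
  set M := Subgroup.normalizer ((S : Subgroup G) : Set G) with hM
  have hab : IsMulCommutative ↥(S : Subgroup G) := ⟨⟨fun a b => Subtype.ext (by
    show (a : G) * b = b * a
    have h3 := h.sq _ (mul_mem a.2 b.2)
    have h4 : ((a : G) * b)⁻¹ = a * b := inv_eq_of_mul_eq_one_right h3
    rw [← h4, mul_inv_rev, inv_eq_of_mul_eq_one_right (h.sq _ a.2),
      inv_eq_of_mul_eq_one_right (h.sq _ b.2)])⟩⟩
  letI : CommGroup ↥(S : Subgroup G) :=
    { (inferInstance : Group ↥(S : Subgroup G)) with mul_comm := hab.is_comm.comm }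
  let act : ↥M →* MulAut ↥(S : Subgroup G) := Subgroup.normalizerMonoidHom (S : Subgroup G)
  haveI := Fintype.ofFinite ↥act.range
  let δ : ↥M → ↥(S : Subgroup G) := fun m => ⟨(m : G)⁻¹ * ψ m, hδ m m.2⟩
  have hmul : ∀ m m' : ↥M, δ (m * m') = act m'⁻¹ (δ m) * δ m' := fun m m' => Subtype.ext (by
    show ((m : G) * m')⁻¹ * ψ ((m : G) * m') =
      (m' : G)⁻¹ * ((m : G)⁻¹ * ψ m) * (m' : G)⁻¹⁻¹ * ((m' : G)⁻¹ * ψ m')
    rw [map_mul]; group)
  have hker : ∀ k : ↥M, act k = 1 → δ k = 1 := fun k hk => Subtype.ext (by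
    show (k : G)⁻¹ * ψ k = 1
    rw [inv_mul_eq_one, eq_comm]
    refine hS _ (Subgroup.mem_centralizer_iff.mpr fun s hs => ?_)
    have h0 := congrArg Subtype.val (DFunLike.congr_fun hk (⟨s, hs⟩ : ↥(S : Subgroup G)))
    have h1 : (k : G) * s * (k : G)⁻¹ = s := h0
    exact (mul_inv_eq_iff_eq_mul.mp h1).symm)
  have hcongr : ∀ m m' : ↥M, act m = act m' → δ m = δ m' := fun m m' e => by
    have h1 : act (m * m'⁻¹) = 1 := by rw [map_mul, map_inv, e, mul_inv_cancel]
    have h2 := hmul (m * m'⁻¹) m'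
    rw [inv_mul_cancel_right, hker _ h1, map_one, one_mul] at h2
    exact h2
  set X : ↥(S : Subgroup G) := ∏ a : ↥act.range, δ (Classical.choose a.2) with hX
  have hodd : Odd (Fintype.card ↥act.range) := by
    rw [← Nat.card_eq_fintype_card, Nat.odd_iff, ← Nat.two_dvd_ne_zero, ← Subgroup.index_ker act]
    intro h2
    have hle : ((S : Subgroup G).subgroupOf M) ≤ act.ker := by
      intro x hx
      rw [MonoidHom.mem_ker]
      refine MulEquiv.ext fun v => Subtype.ext ?_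
      show (x : G) * v * (x : G)⁻¹ = v
      have := congrArg Subtype.val (hab.is_comm.comm ⟨(x : G), hx⟩ v)
      rw [show (x : G) * v = v * x from this, mul_inv_cancel_right]
    have h3 : (S : Subgroup G).relIndex M ∣ (S : Subgroup G).index :=
      ⟨M.index, (Subgroup.relIndex_mul_index (Subgroup.le_normalizer)).symm⟩
    exact S.not_dvd_index ((h2.trans (Subgroup.index_dvd_of_le hle)).trans h3)
  refine ⟨X, X.2, fun m hm => ?_⟩
  set m' : ↥M := ⟨m, hm⟩
  have key : X = act m'⁻¹ X * δ m' ^ Fintype.card ↥act.range := by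
    have h1 : X = ∏ a : ↥act.range, δ (Classical.choose (a * act.rangeRestrict m').2) :=
      (Fintype.prod_equiv (Equiv.mulRight (act.rangeRestrict m')) _ _ fun a => rfl).symm
    conv_lhs => rw [h1]
    have h2 : ∀ a : ↥act.range, δ (Classical.choose (a * act.rangeRestrict m').2) =
        act m'⁻¹ (δ (Classical.choose a.2)) * δ m' := fun a => by
      rw [← hmul]
      apply hcongr
      rw [Classical.choose_spec (a * act.rangeRestrict m').2, map_mul, Classical.choose_spec a.2]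
      rfl
    rw [Finset.prod_congr rfl (fun a _ => h2 a), Finset.prod_mul_distrib, ← map_prod,
      Finset.prod_const, Finset.card_univ, ← hX]
  have hd2 : δ m' ^ Fintype.card ↥act.range = δ m' := by
    obtain ⟨j, hj⟩ := hodd
    rw [hj, pow_succ, pow_mul, show δ m' ^ 2 = 1 from Subtype.ext (by
      rw [Subgroup.coe_pow, pow_two]; exact h.sq _ (δ m').2), one_pow, one_mul]
  rw [hd2] at key
  have h3 : δ m' = (act m'⁻¹ X)⁻¹ * X := eq_inv_mul_of_mul_eq key.symm
  have h4 : m⁻¹ * ψ m = (m⁻¹ * (X : G) * m⁻¹⁻¹)⁻¹ * X := congrArg Subtype.val h3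
  have hXinv : (X : G)⁻¹ = X := inv_eq_of_mul_eq_one_right (h.sq _ X.2)
  calc ψ m = m * (m⁻¹ * ψ m) := by group
    _ = (X : G)⁻¹ * m * X := by rw [h4]; group
    _ = X * m * X := by rw [hXinv]

/-- The automorphism argument, after normalisation. -/
theorem Setup.inner (h : Setup t S E N') (htN : t ∉ N')
    (hmax : IsCoatom (Subgroup.centralizer ({t} : Set G))) (ψ : MulAut G) {k : ℕ}
    (hk : ψ ^ 2 ^ k = 1) (hC : ∀ c ∈ Subgroup.centralizer ({t} : Set G), ψ c = c) :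
    ∃ g : G, ψ = MulAut.conj g := by
  haveI : Fact (Nat.Prime 2) := ⟨Nat.prime_two⟩
  have hCS : Subgroup.centralizer ((S : Subgroup G) : Set G) ≤
      Subgroup.centralizer ({t} : Set G) :=
    Subgroup.centralizer_le (Set.singleton_subset_iff.mpr h.t_mem)
  have hS : ∀ c ∈ Subgroup.centralizer ((S : Subgroup G) : Set G), ψ c = c :=
    fun c hc => hC c (hCS hc)
  have hδ : ∀ m ∈ Subgroup.normalizer ((S : Subgroup G) : Set G),
      m⁻¹ * ψ m ∈ (S : Subgroup G) := by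
    intro m hm
    set d := m⁻¹ * ψ m with hd
    have hdc : d ∈ Subgroup.centralizer ((S : Subgroup G) : Set G) := by
      rw [Subgroup.mem_centralizer_iff]
      intro s hs
      have h1 : ψ (m * s * m⁻¹) = m * s * m⁻¹ :=
        hC _ (h.S_le ((Subgroup.mem_normalizer_iff.mp hm s).mp hs))
      rw [map_mul, map_mul, map_inv, hC s (h.S_le hs)] at h1
      calc s * d = m⁻¹ * (m * s * m⁻¹) * ψ m := by rw [hd]; group
        _ = m⁻¹ * (ψ m * s * (ψ m)⁻¹) * ψ m := by rw [h1]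
        _ = d * s := by rw [hd]; group
    have hpow : ∀ j : ℕ, (ψ ^ j) m = m * d ^ j := by
      intro j
      induction j with
      | zero => simp
      | succ j ih =>
        rw [pow_succ', MulAut.mul_apply, ih, map_mul, map_pow, hS d hdc, pow_succ', ← mul_assoc]
        rw [hd]; group
    have hd2 : d ^ 2 ^ k = 1 := by
      have := hpow (2 ^ k)
      rw [hk] at this
      simpa using this
    have hle : (S : Subgroup G) ≤ (S : Subgroup G) ⊔ Subgroup.zpowers d := le_sup_left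
    have hp : IsPGroup 2 ↥((S : Subgroup G) ⊔ Subgroup.zpowers d) := by
      refine S.2.to_sup_of_normal_right' ?_ ?_
      · exact fun x => ⟨k, Subtype.ext (by
          obtain ⟨i, hi⟩ := Subgroup.mem_zpowers_iff.mp x.2
          rw [Subgroup.coe_pow, ← hi, ← zpow_natCast, ← zpow_mul, mul_comm, zpow_mul, zpow_natCast,
            hd2, one_zpow]; rfl)⟩
      · intro s hs
        rw [Subgroup.mem_normalizer_iff]
        intro x
        have hsd : s * d = d * s := Subgroup.mem_centralizer_iff.mp hdc s hs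
        have hfix : ∀ y ∈ Subgroup.zpowers d, s * y = y * s := fun y hy => by
          obtain ⟨i, rfl⟩ := Subgroup.mem_zpowers_iff.mp hy
          exact (Commute.zpow_right hsd i).eq
        constructor
        · intro hx; rw [hfix x hx, mul_inv_cancel_right]; exact hx
        · intro hx
          have h2 := hfix _ hx
          have h3 : x = s * x * s⁻¹ := mul_left_cancel (a := s) (by rw [h2]; group)
          rwa [h3]
    rw [← S.is_maximal' hp hle]
    exact Subgroup.mem_sup_right (Subgroup.mem_zpowers d)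
  obtain ⟨X, hX, hXm⟩ := h.principal ψ hS hδ
  have hXX : X⁻¹ = X := inv_eq_of_mul_eq_one_right (h.sq X hX)
  have hXt : X = 1 ∨ X = t := by
    refine h.disjoint_t htN hX fun m hm hmn => ?_
    have h1 := hXm m hmn
    rw [hC m (h.E_le (h.N_le hm))] at h1
    calc m * X * m⁻¹ = (X * m * X) * X * m⁻¹ := by rw [← h1]
      _ = X * m * (X * X) * m⁻¹ := by group
      _ = X := by rw [h.sq X hX]; group
  have hXC : ∀ c ∈ Subgroup.centralizer ({t} : Set G), X * c * X = c := by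
    intro c hc
    have h1 : X * c = c * X := by
      rcases hXt with rfl | rfl
      · rw [one_mul, mul_one]
      · exact (Subgroup.mem_centralizer_singleton_iff.mp hc).symm
    rw [h1, mul_assoc, h.sq X hX, mul_one]
  refine ⟨X, ?_⟩
  set Fx := MonoidHom.eqLocus (ψ.toMonoidHom) (MulAut.conj X).toMonoidHom with hFx
  have hle : Subgroup.centralizer ({t} : Set G) ≤ Fx := fun c hc => by
    show ψ c = X * c * X⁻¹
    rw [hC c hc, hXX, hXC c hc]
  obtain ⟨n, hn, hnt⟩ := h.t_moved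
  have hlt : Subgroup.centralizer ({t} : Set G) < Fx := by
    refine lt_of_le_of_ne hle fun e => hnt ?_
    have hnF : n ∈ Fx := by
      show ψ n = X * n * X⁻¹
      rw [hXm n hn, hXX]
    rw [← e, Subgroup.mem_centralizer_singleton_iff] at hnF
    rw [hnF, mul_inv_cancel_right]
  have htop := hmax.2 Fx hlt
  exact MulEquiv.ext fun x => (show x ∈ Fx from htop ▸ Subgroup.mem_top x)

end

/-- Let G be a non-abelian finite simple group with abelian Sylow 2-subgroups, and let t be an involution of G whose centralizer is a maximal subgroup of G and is the direct product of the subgroup generated by t with a subgroup E having a normal subgroup isomorphic to PSL(2, q), q odd and greater than 3, with trivial centralizer in E. Then every finite perfect group having a central 2-subgroup with quotient isomorphic to G has that central subgroup trivial (G has no nontrivial perfect central extension by a 2-group), and every automorphism of G of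 2-power order that fixes every element of some Sylow 2-subgroup of G is inner. -/
theorem result {G : Type*} [Group G] [Finite G] [IsSimpleGroup G]
    (hG : ¬ IsMulCommutative G) (hab : ∀ S : Sylow 2 G, IsMulCommutative ↥(S : Subgroup G))
    (t : G) (ht : orderOf t = 2) (hmax : IsCoatom (Subgroup.centralizer ({t} : Set G)))
    (E : Subgroup G) (hE : Cfsg.IsInternalDirectProduct (Subgroup.zpowers t) E (Subgroup.centralizer ({t} : Set G)))
    {F : Type*} [Field F] [Fintype F] (hFo : Odd (Fintype.card F)) (hF3 : 3 < Fintype.card F)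
    (N : Subgroup ↥E) [N.Normal] (hN : Nonempty (↥N ≃* Matrix.ProjectiveSpecialLinearGroup (Fin 2) F))
    (hNc : Subgroup.centralizer (N : Set ↥E) = ⊥) :
    (∀ (L : Type) (_ : Group L) (_ : Finite L) (Z : Subgroup L) (_ : Z.Normal), commutator L = ⊤ → Z ≤ Subgroup.center L →
        IsPGroup 2 ↥Z → Nonempty (L ⧸ Z ≃* G) → Z = ⊥) ∧
    (∀ (φ : G ≃* G) (k : ℕ), φ ^ (2 ^ k) = 1 → (∃ S : Sylow 2 G, ∀ s ∈ (S : Subgroup G), φ s = s) →
        ∃ g : G, ∀ x : G, φ x = g * x * g⁻¹) := by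
  classical
  haveI : Fact (Nat.Prime 2) := ⟨Nat.prime_two⟩
  obtain ⟨eN⟩ := hN
  have hsimpleN : IsSimpleGroup ↥N := by
    haveI := Matrix.ProjectiveSpecialLinearGroup.rank_two_simple (F := F)
      (by rw [Nat.card_eq_fintype_card]; omega)
    exact eN.isSimpleGroup
  obtain ⟨hEt, hEC, hEcomm, hEdisj, hEsup⟩ := hE
  set C := Subgroup.centralizer ({t} : Set G) with hC
  have htt : t * t = 1 := by rw [← sq, ← ht, pow_orderOf_eq_one]
  have htinv : t⁻¹ = t := inv_eq_of_mul_eq_one_right htt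
  have htC : t ∈ C := Subgroup.mem_centralizer_singleton_iff.mpr rfl
  have htE : t ∉ E := fun h => by
    have : t ∈ Subgroup.zpowers t ⊓ E := ⟨Subgroup.mem_zpowers t, h⟩
    rw [hEdisj, Subgroup.mem_bot] at this
    rw [this, orderOf_one] at ht
    omega
  have hCnormE : C ≤ Subgroup.normalizer (E : Set G) := by
    rw [← hEsup, sup_le_iff, Subgroup.zpowers_le]
    refine ⟨?_, Subgroup.le_normalizer⟩
    refine Subgroup.mem_normalizer_fintype fun e he => ?_
    rw [hEcomm t (Subgroup.mem_zpowers t) e he, mul_inv_cancel_right]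
    exact he
  have hdecomp : ∀ c ∈ C, c ∈ E ∨ t * c ∈ E := by
    intro c hc
    rw [← hEsup, ← SetLike.mem_coe,
      Subgroup.coe_mul_of_left_le_normalizer_right _ _ (hEt.trans hCnormE)] at hc
    obtain ⟨a, ha, e, he, rfl⟩ := hc
    obtain ⟨i, rfl⟩ := Subgroup.mem_zpowers_iff.mp ha
    simp only at *
    rcases Int.even_or_odd' i with ⟨j, rfl | rfl⟩
    · left
      rw [zpow_mul, zpow_two, htt, one_zpow, one_mul]
      exact he
    · right
      rw [zpow_add_one, zpow_mul, zpow_two, htt, one_zpow, one_mul, ← mul_assoc, htt, one_mul]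
      exact he
  set N' : Subgroup G := N.map E.subtype with hN'
  have hN'E : N' ≤ E := Subgroup.map_subtype_le _
  have htN' : t ∉ N' := fun h => htE (hN'E h)
  have hN'n : ∀ c ∈ C, ∀ x ∈ N', c * x * c⁻¹ ∈ N' := by
    have hEn : ∀ e ∈ E, ∀ x ∈ N', e * x * e⁻¹ ∈ N' := by
      rintro e he _ ⟨x, hx, rfl⟩
      exact ⟨⟨e, he⟩ * x * ⟨e, he⟩⁻¹, Subgroup.Normal.conj_mem inferInstance x hx _, by simp⟩
    intro c hc x hx
    rcases hdecomp c hc with h | h
    · exact hEn c h x hx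
    · have h1 := hEn _ h x hx
      have h2 : t * (c * x * c⁻¹) * t⁻¹ ∈ N' := by
        have h3 : t * (c * x * c⁻¹) * t⁻¹ = t * c * x * (t * c)⁻¹ := by group
        rw [h3]; exact h1
      have h4 : (c * x * c⁻¹) * t = t * (c * x * c⁻¹) :=
        Subgroup.mem_centralizer_singleton_iff.mp
          (mul_mem (mul_mem hc (hEC (hN'E hx))) (inv_mem hc))
      rwa [← h4, mul_inv_cancel_right] at h2
  have hcN : ∀ e ∈ E, (∀ x ∈ N', e * x * e⁻¹ = x) → e = 1 := by
    intro e he hfix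
    have h1 : (⟨e, he⟩ : ↥E) ∈ Subgroup.centralizer (N : Set ↥E) := by
      rw [Subgroup.mem_centralizer_iff]
      intro x hx
      exact Subtype.ext (mul_inv_eq_iff_eq_mul.mp (hfix _ ⟨x, hx, rfl⟩)).symm
    rw [hNc, Subgroup.mem_bot] at h1
    exact congrArg Subtype.val h1
  obtain ⟨S, hS⟩ := (IsPGroup.of_card (n := 1) (G := ↥(Subgroup.zpowers t))
    (by rw [Nat.card_zpowers, ht, pow_one]) : IsPGroup 2 ↥(Subgroup.zpowers t)).exists_le_sylow
  have htS : t ∈ (S : Subgroup G) := hS (Subgroup.mem_zpowers t)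
  have hScomm : ∀ a ∈ (S : Subgroup G), ∀ b ∈ (S : Subgroup G), a * b = b * a :=
    fun a ha b hb => congrArg Subtype.val ((hab S).is_comm.comm ⟨a, ha⟩ ⟨b, hb⟩)
  have hSC : (S : Subgroup G) ≤ C := fun s hs =>
    Subgroup.mem_centralizer_singleton_iff.mpr (hScomm s hs t htS)
  -- `S ∩ N` is a Sylow subgroup of `N`
  set Nc : Subgroup ↥C := N'.subgroupOf C with hNc'
  haveI hNcn : Nc.Normal := ⟨fun x hx c => hN'n c c.2 x hx⟩
  set Sc : Sylow 2 ↥C := S.subtype hSC with hSc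
  have hidx : ¬ 2 ∣ (((Sc : Subgroup ↥C)).subgroupOf Nc).index := fun h =>
    Sc.not_dvd_index (h.trans (H70.relIndex_dvd_index_of_normal' _ Nc))
  let VN : Sylow 2 ↥Nc := (IsPGroup.comap_subtype Sc.2).toSylow hidx
  have hVN : ∀ x : ↥Nc, x ∈ (VN : Subgroup ↥Nc) ↔ ((x : ↥C) : G) ∈ (S : Subgroup G) :=
    fun x => Iff.rfl
  let eC : ↥Nc ≃* ↥N :=
    (Subgroup.subgroupOfEquivOfLe (hN'E.trans hEC)).trans
      (N.equivMapOfInjective E.subtype E.subtype_injective).symm
  let eP : ↥Nc ≃* Matrix.ProjectiveSpecialLinearGroup (Fin 2) F := eC.trans eN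
  have hePs : Function.Surjective eP.toMonoidHom := eP.surjective
  set PV := VN.mapSurjective hePs with hPV
  have hPVmem : ∀ x : ↥Nc, eP x ∈ (PV : Subgroup _) ↔ x ∈ (VN : Subgroup ↥Nc) := fun x => by
    rw [hPV, Sylow.coe_mapSurjective]
    exact ⟨fun ⟨y, hy, hyx⟩ => eP.injective hyx ▸ hy, fun hx => ⟨x, hx, rfl⟩⟩
  have hq : Fintype.card F % 8 = 3 ∨ Fintype.card F % 8 = 5 := by
    refine H70.card_mod_eight_of_abelian_sylow hFo fun P => ?_
    obtain ⟨g, hg⟩ := MulAction.exists_smul_eq (Matrix.ProjectiveSpecialLinearGroup (Fin 2) F) PV P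
    have hPVab : ∀ a ∈ (PV : Subgroup (Matrix.ProjectiveSpecialLinearGroup (Fin 2) F)),
        ∀ b ∈ (PV : Subgroup (Matrix.ProjectiveSpecialLinearGroup (Fin 2) F)), a * b = b * a := by
      intro a ha b hb
      obtain ⟨a, rfl⟩ := eP.surjective a
      obtain ⟨b, rfl⟩ := eP.surjective b
      rw [← map_mul, ← map_mul]
      exact congrArg eP (Subtype.ext (Subtype.ext
        (hScomm _ ((hVN a).mp ((hPVmem a).mp ha)) _ ((hVN b).mp ((hPVmem b).mp hb)))))
    refine ⟨⟨?_⟩⟩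
    rw [← hg]
    rintro ⟨a, ha⟩ ⟨b, hb⟩
    rw [Sylow.coe_subgroup_smul] at ha hb
    obtain ⟨a', ha', rfl⟩ := ha
    obtain ⟨b', hb', rfl⟩ := hb
    refine Subtype.ext ?_
    show (MulAut.conj g) a' * (MulAut.conj g) b' = (MulAut.conj g) b' * (MulAut.conj g) a'
    rw [← map_mul, ← map_mul, hPVab a' ha' b' hb']
  haveI hKlein := H37.sylow_two_PSL_isKleinFour (by rw [Nat.card_eq_fintype_card]; exact hq) PV
  have hklein : Nat.card ↥((S : Subgroup G) ⊓ N') = 4 := by
    rw [← hKlein.card_four, eq_comm, hPV, Sylow.coe_mapSurjective,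
      Subgroup.card_map_of_injective eP.injective,
      ← Subgroup.card_map_of_injective Nc.subtype_injective,
      ← Subgroup.card_map_of_injective C.subtype_injective]
    congr 2
    ext x
    constructor
    · rintro ⟨_, ⟨y, hy, rfl⟩, rfl⟩
      exact ⟨(hVN y).mp hy, y.2⟩
    · rintro ⟨hxS, hxN⟩
      exact ⟨⟨x, hSC hxS⟩, ⟨⟨⟨x, hSC hxS⟩, hxN⟩, (hVN _).mpr hxS, rfl⟩, rfl⟩
  have hVsq : ∀ v ∈ (S : Subgroup G) ⊓ N', v * v = 1 := by
    rintro v ⟨hvS, hvN⟩
    set w : ↥Nc := ⟨⟨v, hSC hvS⟩, hvN⟩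
    have h1 := IsKleinFour.mul_self (⟨eP w, (hPVmem w).mpr ((hVN w).mpr hvS)⟩ :
      ↥(PV : Subgroup (Matrix.ProjectiveSpecialLinearGroup (Fin 2) F)))
    have h2 : eP (w * w) = 1 := by rw [map_mul]; exact congrArg Subtype.val h1
    rw [eP.map_eq_one_iff] at h2
    exact congrArg (fun u : ↥Nc => ((u : ↥C) : G)) h2
  -- automorphisms of `N` of 2-power order fixing `S ∩ N`
  have hautN : ∀ (β : MulAut ↥Nc) (j : ℕ), β ^ 2 ^ j = 1 →
      (∀ x : ↥Nc, ((x : ↥C) : G) ∈ (S : Subgroup G) → β x = x) →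
      ∃ v : ↥Nc, ((v : ↥C) : G) ∈ (S : Subgroup G) ∧ β = MulAut.conj v := by
    intro β j hβ hfix
    obtain ⟨w, hw, hwe⟩ := H70.mulAut_fixing_sylow hq PV (MulAut.congr eP β) (k := j)
      (by rw [← map_pow, hβ, map_one]) (fun v hv => by
        obtain ⟨v, rfl⟩ := eP.surjective v
        show eP (β (eP.symm (eP v))) = eP v
        rw [MulEquiv.symm_apply_apply, hfix v ((hVN v).mp ((hPVmem v).mp hv))])
    obtain ⟨v, rfl⟩ := eP.surjective w
    refine ⟨v, (hVN v).mp ((hPVmem v).mp hw), MulEquiv.ext fun x => eP.injective ?_⟩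
    have h1 := DFunLike.congr_fun hwe (eP x)
    change eP (β (eP.symm (eP x))) = eP v * eP x * (eP v)⁻¹ at h1
    rw [MulEquiv.symm_apply_apply] at h1
    rw [h1, MulAut.conj_apply, map_mul, map_mul, map_inv]
  -- `S = ⟨t⟩ × (S ∩ N)`
  have hsplitE : ∀ e ∈ (S : Subgroup G), e ∈ E → e ∈ N' := by
    intro e heS heE
    obtain ⟨j, hj⟩ := S.2 ⟨e, heS⟩
    have hej : e ^ 2 ^ j = 1 := congrArg Subtype.val hj
    obtain ⟨v, hvS, hv⟩ := hautN (MulAut.conjNormal (⟨e, hSC heS⟩ : ↥C)) j (by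
      rw [← map_pow, show (⟨e, hSC heS⟩ : ↥C) ^ 2 ^ j = 1 from Subtype.ext hej, map_one]) (by
      intro x hx
      refine Subtype.ext (Subtype.ext ?_)
      show e * ((x : ↥C) : G) * e⁻¹ = ((x : ↥C) : G)
      rw [hScomm e heS _ hx, mul_inv_cancel_right])
    have hvN : ((v : ↥C) : G) ∈ N' := v.2
    have h1 : ((v : ↥C) : G)⁻¹ * e = 1 := by
      refine hcN _ (mul_mem (inv_mem (hN'E hvN)) heE) fun x hx => ?_
      have h2' := congrArg (fun u : ↥Nc => ((u : ↥C) : G))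
        (DFunLike.congr_fun hv (⟨⟨x, hEC (hN'E hx)⟩, hx⟩ : ↥Nc))
      have h2 : e * x * e⁻¹ = ((v : ↥C) : G) * x * ((v : ↥C) : G)⁻¹ := h2'
      calc ((v : ↥C) : G)⁻¹ * e * x * (((v : ↥C) : G)⁻¹ * e)⁻¹
          = ((v : ↥C) : G)⁻¹ * (e * x * e⁻¹) * ((v : ↥C) : G) := by group
        _ = x := by rw [h2]; group
    rw [← inv_mul_eq_one.mp h1]
    exact hvN
  have hsplit : ∀ s ∈ (S : Subgroup G), s ∈ N' ∨ t * s ∈ N' := fun s hs =>
    (hdecomp s (hSC hs)).imp (hsplitE s hs) (hsplitE _ (mul_mem htS hs))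
  have hsq : ∀ s ∈ (S : Subgroup G), s * s = 1 := by
    intro s hs
    rcases hsplit s hs with h | h
    · exact hVsq s ⟨hs, h⟩
    · have h1 := hVsq _ ⟨mul_mem htS hs, h⟩
      calc s * s = (t * t) * (s * s) := by rw [htt, one_mul]
        _ = t * (t * s) * s := by group
        _ = t * (s * t) * s := by rw [hScomm t htS s hs]
        _ = (t * s) * (t * s) := by group
        _ = 1 := h1
  have hperfG : commutator G = ⊤ := by
    refine (Subgroup.Normal.eq_bot_or_eq_top inferInstance).resolve_left fun h => hG ⟨⟨fun a b => ?_⟩⟩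
    rw [← commutatorElement_eq_one_iff_mul_comm, ← Subgroup.mem_bot, ← h, commutator_def]
    exact Subgroup.commutator_mem_commutator (Subgroup.mem_top a) (Subgroup.mem_top b)
  have hmoved : ∀ v ∈ (S : Subgroup G) ⊓ N', v ≠ 1 →
      ∃ m ∈ N', m ∈ Subgroup.normalizer ((S : Subgroup G) : Set G) ∧ m * v * m⁻¹ ≠ v := by
    rintro v ⟨hvS, hvN⟩ hv1
    by_contra hno
    push Not at hno
    set w : ↥Nc := ⟨⟨v, hSC hvS⟩, hvN⟩
    haveI : IsSimpleGroup ↥Nc := eC.isSimpleGroup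
    have hVab : IsMulCommutative ↥(VN : Subgroup ↥Nc) := ⟨⟨fun a b => Subtype.ext (Subtype.ext
      (Subtype.ext (hScomm _ ((hVN a).mp a.2) _ ((hVN b).mp b.2))))⟩⟩
    have hperfN : commutator ↥Nc = ⊤ := by
      refine (Subgroup.Normal.eq_bot_or_eq_top inferInstance).resolve_left fun h => hv1 ?_
      have hcomm : ∀ a b : ↥Nc, a * b = b * a := fun a b => by
        rw [← commutatorElement_eq_one_iff_mul_comm, ← Subgroup.mem_bot, ← h, commutator_def]
        exact Subgroup.commutator_mem_commutator (Subgroup.mem_top a) (Subgroup.mem_top b)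
      have hall : ∀ m ∈ N', ∀ x ∈ N', m * x * m⁻¹ = x := fun m hm x hx => by
        have h1 := congrArg (fun u : ↥Nc => ((u : ↥C) : G))
          (hcomm ⟨⟨m, hEC (hN'E hm)⟩, hm⟩ ⟨⟨x, hEC (hN'E hx)⟩, hx⟩)
        exact mul_inv_eq_iff_eq_mul.mpr h1
      exact hcN v (hN'E hvN) (hall v hvN)
    have h1 := H70.eq_one_of_mem_commutator_of_fixed VN hVab (z := w) ((hVN w).mpr hvS)
      (hperfN ▸ Subgroup.mem_top w) fun n hn => by
        refine Subtype.ext (Subtype.ext ?_)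
        show ((n : ↥C) : G) * v * ((n : ↥C) : G)⁻¹ = v
        refine hno _ n.2 (Subgroup.mem_normalizer_fintype fun s hs => ?_)
        have hnt : ((n : ↥C) : G) * t = t * ((n : ↥C) : G) :=
          Subgroup.mem_centralizer_singleton_iff.mp (n : ↥C).2
        rcases hsplit s hs with h | h
        · exact (hVN _).mp ((Subgroup.mem_normalizer_iff.mp hn ⟨⟨s, hSC hs⟩, h⟩).mp ((hVN _).mpr hs))
        · have h2 : ((n : ↥C) : G) * (t * s) * ((n : ↥C) : G)⁻¹ ∈ (S : Subgroup G) :=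
            (hVN _).mp ((Subgroup.mem_normalizer_iff.mp hn ⟨⟨t * s, hSC (mul_mem htS hs)⟩, h⟩).mp
              ((hVN _).mpr (mul_mem htS hs)))
          have h3 := mul_mem htS h2
          have h4 : t * (((n : ↥C) : G) * (t * s) * ((n : ↥C) : G)⁻¹) =
              ((n : ↥C) : G) * s * ((n : ↥C) : G)⁻¹ := by
            calc t * (((n : ↥C) : G) * (t * s) * ((n : ↥C) : G)⁻¹)
                = t * (((n : ↥C) : G) * t) * s * ((n : ↥C) : G)⁻¹ := by group
              _ = (t * t) * ((n : ↥C) : G) * s * ((n : ↥C) : G)⁻¹ := by rw [hnt]; group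
              _ = _ := by rw [htt]; group
          rwa [h4] at h3
    exact hv1 (congrArg (fun u : ↥Nc => ((u : ↥C) : G)) h1)
  have htmoved : ∃ n ∈ Subgroup.normalizer ((S : Subgroup G) : Set G), n * t * n⁻¹ ≠ t := by
    by_contra hno
    push Not at hno
    have := H70.eq_one_of_mem_commutator_of_fixed S (hab S) htS (hperfG ▸ Subgroup.mem_top t) hno
    rw [this, orderOf_one] at ht
    omega
  have hset : Setup t S E N' :=
    ⟨ht, htS, hSC, hEC, hdecomp, hN'E, hsplit, hsq, hklein, hmoved, htmoved⟩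
  refine ⟨?_, ?_⟩
  · intro L _ _ Z _ hperf hZ hZ2 ⟨e⟩
    exact hset.multiplier Z hperf hZ hZ2 e
  intro φ k hk ⟨S', hS'⟩
  obtain ⟨g, hg⟩ := MulAction.exists_smul_eq G S S'
  set φ' : MulAut G := (MulAut.conj g)⁻¹ * φ * MulAut.conj g with hφ'
  have hφ'app : ∀ x, φ' x = g⁻¹ * φ (g * x * g⁻¹) * g := fun x => by
    rw [hφ', MulAut.mul_apply, MulAut.mul_apply, ← map_inv, MulAut.conj_apply, MulAut.conj_apply,
      inv_inv]
  have hφ'k : φ' ^ 2 ^ k = 1 := by
    have h1 : φ' = MulAut.conj g⁻¹ * φ * (MulAut.conj g⁻¹)⁻¹ := by rw [hφ', map_inv, inv_inv]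
    rw [h1, conj_pow, show (φ : MulAut G) ^ 2 ^ k = 1 from hk, mul_one, mul_inv_cancel]
  have hφ'S : ∀ s ∈ (S : Subgroup G), φ' s = s := fun s hs => by
    have h1 : g * s * g⁻¹ ∈ (S' : Subgroup G) := by
      rw [← hg, Sylow.coe_subgroup_smul]
      exact ⟨s, hs, rfl⟩
    rw [hφ'app, hS' _ h1]; group
  suffices hin : ∃ y, φ' = MulAut.conj y by
    obtain ⟨y, hy⟩ := hin
    refine ⟨g * y * g⁻¹, fun x => ?_⟩
    have h1 : φ' (g⁻¹ * x * g) = y * (g⁻¹ * x * g) * y⁻¹ := by rw [hy, MulAut.conj_apply]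
    rw [hφ'app, show g * (g⁻¹ * x * g) * g⁻¹ = x by group] at h1
    calc φ x = g * (g⁻¹ * φ x * g) * g⁻¹ := by group
      _ = g * y * g⁻¹ * x * (g * y * g⁻¹)⁻¹ := by rw [h1]; group
  have hφC : ∀ c ∈ C, φ' c ∈ C := fun c hc => by
    rw [hC, Subgroup.mem_centralizer_singleton_iff] at hc ⊢
    have := congrArg φ' hc
    rwa [map_mul, map_mul, hφ'S t htS] at this
  -- `φ'` normalizes `N`
  haveI : IsSimpleGroup ↥Nc := eC.isSimpleGroup
  have hV1 : ∃ v ∈ (S : Subgroup G) ⊓ N', v ≠ 1 := by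
    haveI : Nontrivial ↥((S : Subgroup G) ⊓ N') :=
      Finite.one_lt_card_iff_nontrivial.mp (by rw [hklein]; norm_num)
    obtain ⟨v, hv⟩ := exists_ne (1 : ↥((S : Subgroup G) ⊓ N'))
    exact ⟨v, v.2, fun h => hv (Subtype.ext h)⟩
  have hφN : ∀ x ∈ N', φ' x ∈ N' := by
    set I := N' ⊓ N'.comap φ'.toMonoidHom with hI
    haveI : ((I.subgroupOf C).subgroupOf Nc).Normal := ⟨fun x hx y => by
      have hx1 : ((x : ↥C) : G) ∈ I := hx
      have hy : ((y : ↥C) : G) ∈ N' := y.2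
      refine Subgroup.mem_inf.mpr ⟨mul_mem (mul_mem hy hx1.1) (inv_mem hy), ?_⟩
      show φ' (((y : ↥C) : G) * ((x : ↥C) : G) * ((y : ↥C) : G)⁻¹) ∈ N'
      rw [map_mul, map_mul, map_inv]
      exact hN'n _ (hφC _ (y : ↥C).2) _ hx1.2⟩
    obtain ⟨v, hv, hv1⟩ := hV1
    rcases Subgroup.Normal.eq_bot_or_eq_top
      (inferInstance : ((I.subgroupOf C).subgroupOf Nc).Normal) with h | h
    · exfalso
      have hmem : (⟨⟨v, hSC hv.1⟩, hv.2⟩ : ↥Nc) ∈ (I.subgroupOf C).subgroupOf Nc := by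
        refine ⟨hv.2, ?_⟩
        show φ' v ∈ N'
        rw [hφ'S v hv.1]; exact hv.2
      rw [h, Subgroup.mem_bot] at hmem
      exact hv1 (congrArg (fun u : ↥Nc => ((u : ↥C) : G)) hmem)
    · intro x hx
      have hmem : (⟨⟨x, hEC (hN'E hx)⟩, hx⟩ : ↥Nc) ∈ (I.subgroupOf C).subgroupOf Nc :=
        h ▸ Subgroup.mem_top _
      exact hmem.2
  -- restriction to `N`
  let res : ↥Nc →* ↥Nc :=
    { toFun := fun x => ⟨⟨φ' ((x : ↥C) : G), hφC _ (x : ↥C).2⟩, hφN _ x.2⟩
      map_one' := Subtype.ext (Subtype.ext (map_one φ'))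
      map_mul' := fun a b => Subtype.ext (Subtype.ext (map_mul φ' _ _)) }
  have hres : Function.Bijective res := Finite.injective_iff_bijective.mp fun a b h =>
    Subtype.ext (Subtype.ext (φ'.injective (congrArg (fun u : ↥Nc => ((u : ↥C) : G)) h)))
  let β : MulAut ↥Nc := MulEquiv.ofBijective res hres
  have hβapp : ∀ x : ↥Nc, ((β x : ↥C) : G) = φ' ((x : ↥C) : G) := fun x => rfl
  have hβpow : ∀ (j : ℕ) (x : ↥Nc), (((β ^ j) x : ↥C) : G) = (φ' ^ j) ((x : ↥C) : G) := by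
    intro j
    induction j with
    | zero => intro x; rfl
    | succ j ih => intro x; rw [pow_succ', pow_succ', MulAut.mul_apply, MulAut.mul_apply, hβapp, ih]
  obtain ⟨v, hvS, hv⟩ := hautN β k (MulEquiv.ext fun x => Subtype.ext (Subtype.ext (by
    rw [hβpow, hφ'k]; rfl))) (fun x hx => Subtype.ext (Subtype.ext (by
      rw [hβapp, hφ'S _ hx])))
  set v' : G := ((v : ↥C) : G) with hv'
  have hvv : v' * v' = 1 := hsq v' hvS
  have hvinv : v'⁻¹ = v' := inv_eq_of_mul_eq_one_right hvv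
  set ψ : MulAut G := MulAut.conj v' * φ' with hψ
  have hcommψ : Commute (MulAut.conj v') φ' := MulEquiv.ext fun x => by
    show v' * φ' x * v'⁻¹ = φ' (v' * x * v'⁻¹)
    rw [map_mul φ', map_mul φ', map_inv φ', hφ'S v' hvS]
  have hψk : ψ ^ 2 ^ (k + 1) = 1 := by
    have h1 : (MulAut.conj v' : MulAut G) ^ 2 ^ (k + 1) = 1 := by
      rw [← map_pow, pow_succ', pow_mul, sq, hvv, one_pow, map_one]
    have h2 : φ' ^ 2 ^ (k + 1) = 1 := by rw [pow_succ, pow_mul, hφ'k, one_pow]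
    rw [hψ, hcommψ.mul_pow, h1, h2, mul_one]
  have hψN : ∀ x ∈ N', ψ x = x := by
    intro x hx
    have h1' := congrArg (fun u : ↥Nc => ((u : ↥C) : G))
      (DFunLike.congr_fun hv (⟨⟨x, hEC (hN'E hx)⟩, hx⟩ : ↥Nc))
    have h1 : φ' x = v' * x * v'⁻¹ := h1'
    rw [hψ, MulAut.mul_apply, h1, MulAut.conj_apply, hvinv]
    calc v' * (v' * x * v') * v' = (v' * v') * x * (v' * v') := by group
      _ = x := by rw [hvv, one_mul, mul_one]
  have hψS : ∀ s ∈ (S : Subgroup G), ψ s = s := by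
    intro s hs
    rw [hψ, MulAut.mul_apply, hφ'S s hs, MulAut.conj_apply, hScomm v' hvS s hs, mul_inv_cancel_right]
  have hψC : ∀ c ∈ C, ψ c ∈ C := fun c hc => by
    rw [hψ, MulAut.mul_apply, MulAut.conj_apply]
    exact mul_mem (mul_mem (hSC hvS) (hφC c hc)) (inv_mem (hSC hvS))
  have hval : ∀ c ∈ C, c⁻¹ * ψ c = 1 ∨ c⁻¹ * ψ c = t := by
    intro c hc
    have hd : c⁻¹ * ψ c ∈ C := mul_mem (inv_mem hc) (hψC c hc)
    have hfix : ∀ x ∈ N', c⁻¹ * ψ c * x * (c⁻¹ * ψ c)⁻¹ = x := by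
      intro x hx
      have h1 := hψN (c * x * c⁻¹) (hN'n c hc x hx)
      rw [map_mul, map_mul, map_inv, hψN x hx] at h1
      calc c⁻¹ * ψ c * x * (c⁻¹ * ψ c)⁻¹ = c⁻¹ * (ψ c * x * (ψ c)⁻¹) * c := by group
        _ = x := by rw [h1]; group
    rcases hdecomp _ hd with h | h
    · exact Or.inl (hcN _ h hfix)
    · refine Or.inr ?_
      have h2 := hcN _ h fun x hx => by
        have hxt : x * t = t * x := Subgroup.mem_centralizer_singleton_iff.mp (hEC (hN'E hx))
        calc t * (c⁻¹ * ψ c) * x * (t * (c⁻¹ * ψ c))⁻¹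
            = t * (c⁻¹ * ψ c * x * (c⁻¹ * ψ c)⁻¹) * t⁻¹ := by group
          _ = x := by rw [hfix x hx, ← hxt, mul_inv_cancel_right]
      rw [← inv_eq_of_mul_eq_one_right h2, htinv]
  let χ : ↥C →* ↥(Subgroup.zpowers t) :=
    { toFun := fun c => ⟨(c : G)⁻¹ * ψ c, by
        rcases hval c c.2 with h | h <;> rw [h]
        · exact one_mem _
        · exact Subgroup.mem_zpowers t⟩
      map_one' := Subtype.ext (by simp)
      map_mul' := fun a b => Subtype.ext (by
        show ((a : G) * b)⁻¹ * ψ ((a : G) * b) = ((a : G)⁻¹ * ψ a) * ((b : G)⁻¹ * ψ b)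
        have hcz : (b : G)⁻¹ * ((a : G)⁻¹ * ψ a) = ((a : G)⁻¹ * ψ a) * (b : G)⁻¹ := by
          rcases hval a a.2 with h | h <;> rw [h]
          · rw [one_mul, mul_one]
          · exact Subgroup.mem_centralizer_singleton_iff.mp (inv_mem b.2)
        rw [map_mul, mul_inv_rev]
        calc (b : G)⁻¹ * (a : G)⁻¹ * (ψ a * ψ b) = (b : G)⁻¹ * ((a : G)⁻¹ * ψ a) * ψ b := by group
          _ = (a : G)⁻¹ * ψ a * (b : G)⁻¹ * ψ b := by rw [hcz]
          _ = _ := by group) }
  have hχ : ∀ c : ↥C, χ c = 1 := by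
    have hle : (Sc : Subgroup ↥C) ≤ χ.ker := fun c hc => Subtype.ext (by
      show (c : G)⁻¹ * ψ c = 1
      rw [show ψ (c : G) = (c : G) from hψS _ hc, inv_mul_cancel])
    have h1 : χ.ker.index ∣ 2 := by
      rw [Subgroup.index_ker]
      exact (Subgroup.card_subgroup_dvd_card χ.range).trans (by rw [Nat.card_zpowers, ht])
    have h2 : χ.ker.index = 1 :=
      ((Nat.dvd_prime Nat.prime_two).mp h1).resolve_right fun h =>
        Sc.not_dvd_index (by have h3 := Subgroup.index_dvd_of_le hle; rwa [h] at h3)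
    intro c
    have : c ∈ χ.ker := by rw [Subgroup.index_eq_one.mp h2]; exact Subgroup.mem_top c
    exact this
  have hψfix : ∀ c ∈ C, ψ c = c := fun c hc => by
    have h1 : c⁻¹ * ψ c = 1 := congrArg Subtype.val (hχ ⟨c, hc⟩)
    exact (inv_mul_eq_one.mp h1).symm
  obtain ⟨y, hy⟩ := hset.inner htN' hmax ψ hψk hψfix
  exact ⟨v'⁻¹ * y, by rw [map_mul, map_inv, ← hy, hψ, inv_mul_cancel_left]⟩

end Cfsg.Agent.S3206
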