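import Cfsg.Statements.S3208
import Mathlib.GroupTheory.Sylow

set_option autoImplicit false
open Cfsg

namespace Cfsg.Agent.S3208

/-- Let j be an involution of a finite group G, H a subgroup of G, and T a Sylow 2-subgroup of H ∩ C_G(j) containing j such that ⟨j⟩ is a characteristic subgroup of T. Then T is a Sylow 2-subgroup of H. -/
theorem result {G : Type*} [Group G] [Finite G]
    (j : G) (hj : orderOf j = 2) (H T : Subgroup G) (hT : T ≤ H ⊓ Subgroup.centralizer ({j} : Set G)) (h2 : IsPGroup 2 ↥T)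
    (hSyl : ¬ 2 ∣ T.relIndex (H ⊓ Subgroup.centralizer ({j} : Set G))) (hjT : j ∈ T)
    (hchar : ((Subgroup.zpowers j).subgroupOf T).Characteristic) :
    ¬ 2 ∣ T.relIndex H := by
  intro hdvd
  obtain ⟨n, hn⟩ := (IsPGroup.iff_card (p := 2)).mp h2
  have hTH : T ≤ H := le_trans hT inf_le_left
  set T' := T.subgroupOf H with hT'
  have hcard : Nat.card T' = 2 ^ n := by
    rw [← hn]; exact Nat.card_congr (Subgroup.subgroupOfEquivOfLe hTH).toEquiv
  have hpow : 2 ^ (n + 1) ∣ Nat.card H := by
    have := T'.card_mul_index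
    rw [hcard] at this
    rw [← this, pow_succ]
    exact Nat.mul_dvd_mul_left _ hdvd
  have : Fact (Nat.Prime 2) := ⟨Nat.prime_two⟩
  have h2N := Sylow.prime_pow_dvd_card_normalizer hpow hcard
  set N := (Subgroup.normalizer (T' : Set H)).map H.subtype with hN
  have hTN : T ≤ N := by
    intro t ht
    exact ⟨⟨t, hTH ht⟩, Subgroup.le_normalizer (by simpa [hT', Subgroup.mem_subgroupOf] using ht), rfl⟩
  have hNle : N ≤ H ⊓ Subgroup.centralizer ({j} : Set G) := by
    rintro g ⟨⟨g, hgH⟩, hg, rfl⟩
    refine ⟨hgH, ?_⟩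
    show g ∈ Subgroup.centralizer ({j} : Set G)
    rw [Subgroup.mem_centralizer_singleton_iff]
    have hmem : ∀ x : G, x ∈ T → g * x * g⁻¹ ∈ T := by
      intro x hx
      have := (Subgroup.mem_normalizer_iff.mp hg ⟨x, hTH hx⟩).mp (by simpa [hT', Subgroup.mem_subgroupOf] using hx)
      simpa [hT', Subgroup.mem_subgroupOf] using this
    have hgn : g ∈ Subgroup.normalizer (T : Set G) := by
      exact Subgroup.mem_normalizer_fintype hmem
    let φ : T ≃* T := Subgroup.normalizerMonoidHom T ⟨g, hgn⟩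
    have hfix := (Subgroup.characteristic_iff_comap_eq.mp hchar φ)
    have hmem2 : (⟨j, hjT⟩ : T) ∈ (Subgroup.zpowers j).subgroupOf T := by
      simp [Subgroup.mem_subgroupOf]
    rw [← hfix] at hmem2
    simp only [Subgroup.mem_comap, Subgroup.mem_subgroupOf] at hmem2
    have hval : g * j * g⁻¹ ∈ Subgroup.zpowers j := hmem2
    have hord : orderOf (g * j * g⁻¹) = 2 := by
      rw [← hj]; exact MulEquiv.orderOf_eq (MulAut.conj g) j
    obtain ⟨k, hk⟩ := hval
    simp only at hk
    rw [← zpow_mod_orderOf, hj] at hk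
    rcases Int.emod_two_eq_zero_or_one k with h | h <;> rw [Nat.cast_two, h] at hk
    · rw [zpow_zero] at hk; rw [← hk, orderOf_one] at hord; simp at hord
    · rw [zpow_one] at hk
      exact (mul_inv_eq_iff_eq_mul.mp hk.symm)
  have h2rel : 2 ∣ T.relIndex N := by
    have hNc : Nat.card N = Nat.card (Subgroup.normalizer (T' : Set H)) :=
      Subgroup.card_map_of_injective H.subtype_injective
    have h1 : T.relIndex N * Nat.card T = Nat.card N := by
      rw [← Subgroup.relIndex_bot_left, ← Subgroup.relIndex_bot_left, mul_comm]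
      exact Subgroup.relIndex_mul_relIndex _ _ _ bot_le hTN
    rw [← hNc, ← h1, hn, pow_succ, mul_comm] at h2N
    exact Nat.dvd_of_mul_dvd_mul_right (by positivity) h2N
  exact hSyl (h2rel.trans ⟨_, (Subgroup.relIndex_mul_relIndex T N _ hTN hNle).symm⟩)

end Cfsg.Agent.S3208
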