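import Cfsg.Statements.S3209
import Cfsg.Agent.H70.SL2Facts

set_option autoImplicit false
open Cfsg

namespace Cfsg.Agent.S3209

lemma side {G : Type*} [Group G] {F : Type*} [Field F] [Fintype F] (hF : Odd (Fintype.card F)) (L : Subgroup G)
    (e : ↥L ≃* Matrix.SpecialLinearGroup (Fin 2) F) (j : G) (hj : orderOf j = 2) (hjL : j ∈ L) :
    (∀ a ∈ L, a * a = 1 → a = 1 ∨ a = j) ∧ (∃ a ∈ L, a * a = j) ∧
      (∀ a ∈ L, ∀ b ∈ L, a * a = j → b * b = j → ∃ g ∈ L, g * a * g⁻¹ = b) := by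
  have h2 := H70.two_ne_zero_of_odd_card hF
  have hej : e ⟨j, hjL⟩ = -1 := H70.sl2_eq_neg_one h2 (by rw [MulEquiv.orderOf_eq, Subgroup.orderOf_mk, hj])
  refine ⟨?_, ?_, ?_⟩
  · intro a ha h
    by_cases h1 : a = 1
    · exact Or.inl h1
    · refine Or.inr ?_
      have ho : orderOf a = 2 := orderOf_eq_prime (by rw [pow_two, h]) h1
      have hea : e ⟨a, ha⟩ = -1 := H70.sl2_eq_neg_one h2 (by rw [MulEquiv.orderOf_eq, Subgroup.orderOf_mk, ho])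
      exact congrArg Subtype.val (e.injective (hea.trans hej.symm))
  · obtain ⟨g, hg⟩ := H70.sl2_exists_sqrt (F := F)
    refine ⟨(e.symm g : G), (e.symm g).2, ?_⟩
    have : e.symm g * e.symm g = ⟨j, hjL⟩ := e.injective (by rw [map_mul, e.apply_symm_apply, hg, hej])
    exact congrArg Subtype.val this
  · intro a ha b hb haa hbb
    have hea : e ⟨a, ha⟩ * e ⟨a, ha⟩ = -1 := by rw [← map_mul, ← hej]; congr 1; exact Subtype.ext haa
    have heb : e ⟨b, hb⟩ * e ⟨b, hb⟩ = -1 := by rw [← map_mul, ← hej]; congr 1; exact Subtype.ext hbb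
    obtain ⟨c, hc⟩ := isConj_iff.1 (H70.sl2_isConj_sqrt hF hea heb)
    refine ⟨(e.symm c : G), (e.symm c).2, ?_⟩
    have : e.symm c * ⟨a, ha⟩ * (e.symm c)⁻¹ = ⟨b, hb⟩ := e.injective (by rw [map_mul, map_mul, map_inv, e.apply_symm_apply, hc])
    exact congrArg Subtype.val this

/-- Let L₁ ≅ SL₂(q₁) and L₂ ≅ SL₂(q₂), q₁ and q₂ odd, be elementwise-commuting subgroups of a finite group meeting in ⟨j⟩ for an involution j. Then L₁L₂ has exactly two conjugacy classes of involutions: the central involution j, and one further class (there is an involution x ≠ j in L₁L₂, and every involution of L₁L₂ other than j is conjugate to x by an element of L₁L₂). -/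
theorem result {G : Type*} [Group G] [Finite G]
    {F₁ : Type*} [Field F₁] [Fintype F₁] {F₂ : Type*} [Field F₂] [Fintype F₂]
    (hF₁ : Odd (Fintype.card F₁)) (hF₂ : Odd (Fintype.card F₂)) (L₁ L₂ : Subgroup G)
    (e₁ : ↥L₁ ≃* Matrix.SpecialLinearGroup (Fin 2) F₁) (e₂ : ↥L₂ ≃* Matrix.SpecialLinearGroup (Fin 2) F₂)
    (hc : ∀ x ∈ L₁, ∀ y ∈ L₂, x * y = y * x) (j : G) (hj : orderOf j = 2) (hm : L₁ ⊓ L₂ = Subgroup.zpowers j) :
    ∃ x ∈ L₁ ⊔ L₂, orderOf x = 2 ∧ x ≠ j ∧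
      ∀ y ∈ L₁ ⊔ L₂, orderOf y = 2 → y = j ∨ ∃ g ∈ L₁ ⊔ L₂, g * x * g⁻¹ = y := by
  have hjm : j ∈ L₁ ⊓ L₂ := hm ▸ Subgroup.mem_zpowers j
  obtain ⟨hu₁, ⟨a₀, ha₀, ha₀j⟩, hc₁⟩ := side hF₁ L₁ e₁ j hj hjm.1
  obtain ⟨hu₂, ⟨b₀, hb₀, hb₀j⟩, hc₂⟩ := side hF₂ L₂ e₂ j hj hjm.2
  have hjj : j * j = 1 := by rw [← pow_two, ← hj, pow_orderOf_eq_one]
  have hj1 : j ≠ 1 := fun h => by rw [h, orderOf_one] at hj; omega
  have hsq : ∀ a ∈ L₁, ∀ b ∈ L₂, (a * b) * (a * b) = (a * a) * (b * b) := fun a ha b hb =>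
    (show Commute b a from (hc a ha b hb).symm).mul_mul_mul_comm a b
  have hne : ∀ a ∈ L₁, ∀ b ∈ L₂, a * a = j → a * b ∉ Subgroup.zpowers j := by
    intro a ha b hb haa hmem
    rw [← hm] at hmem
    have hb1 : b ∈ L₁ := by simpa using mul_mem (show a⁻¹ ∈ L₁ from inv_mem ha) hmem.1
    have ha2 : a ∈ L₂ := by simpa using mul_mem hmem.2 (show b⁻¹ ∈ L₂ from inv_mem hb)
    obtain ⟨i, rfl⟩ : a ∈ Subgroup.zpowers j := hm ▸ ⟨ha, ha2⟩
    apply hj1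
    change j ^ i * j ^ i = j at haa
    rw [← (Commute.refl j).mul_zpow, hjj, one_zpow] at haa
    exact haa.symm
  refine ⟨a₀ * b₀, mul_mem (Subgroup.mem_sup_left ha₀) (Subgroup.mem_sup_right hb₀), ?_, ?_, ?_⟩
  · refine orderOf_eq_prime (by rw [pow_two, hsq a₀ ha₀ b₀ hb₀, ha₀j, hb₀j, hjj]) fun h => ?_
    exact hne a₀ ha₀ b₀ hb₀ ha₀j (h ▸ one_mem _)
  · intro h
    exact hne a₀ ha₀ b₀ hb₀ ha₀j (h ▸ Subgroup.mem_zpowers j)
  intro y hy hy2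
  have hmem : ∃ a ∈ L₁, ∃ b ∈ L₂, a * b = y := by
    clear hy2
    rw [Subgroup.sup_eq_closure] at hy
    induction hy using Subgroup.closure_induction'' with
    | one => exact ⟨1, one_mem _, 1, one_mem _, one_mul _⟩
    | mem x hx => exact hx.elim (fun h => ⟨x, h, 1, one_mem _, mul_one _⟩) (fun h => ⟨1, one_mem _, x, h, one_mul _⟩)
    | inv_mem x hx => exact hx.elim (fun h => ⟨x⁻¹, inv_mem h, 1, one_mem _, mul_one _⟩) (fun h => ⟨1, one_mem _, x⁻¹, inv_mem h, one_mul _⟩)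
    | mul x z _ _ hx hz =>
      obtain ⟨a, ha, b, hb, rfl⟩ := hx
      obtain ⟨a', ha', b', hb', rfl⟩ := hz
      exact ⟨a * a', mul_mem ha ha', b * b', mul_mem hb hb',
        ((show Commute b a' from (hc a' ha' b hb).symm).mul_mul_mul_comm a b').symm⟩
  obtain ⟨a, ha, b, hb, rfl⟩ := hmem
  have h1 : a * a * (b * b) = 1 := by
    rw [← hsq a ha b hb, ← pow_two, ← hy2, pow_orderOf_eq_one]
  have hab : a * a = (b * b)⁻¹ := mul_eq_one_iff_eq_inv.mp h1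
  have haj : a * a ∈ Subgroup.zpowers j := hm ▸ ⟨mul_mem ha ha, hab ▸ (show (b * b)⁻¹ ∈ L₂ from inv_mem (mul_mem hb hb))⟩
  obtain ⟨i, hi⟩ := haj
  change j ^ i = a * a at hi
  rw [← zpow_mod_orderOf, hj] at hi
  rcases Int.emod_two_eq_zero_or_one i with e | e <;> rw [Nat.cast_two, e] at hi
  · left
    rw [zpow_zero] at hi
    rw [← hi, one_mul] at h1
    rcases hu₁ a ha hi.symm with rfl | rfl <;> rcases hu₂ b hb h1 with rfl | rfl
    · simp at hy2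
    · rw [one_mul]
    · rw [mul_one]
    · rw [hjj, orderOf_one] at hy2; simp at hy2
  · right
    rw [zpow_one] at hi
    have hbj : b * b = j := by
      rw [← hi] at h1
      exact mul_left_cancel (h1.trans hjj.symm)
    obtain ⟨g₁, hg₁, hga⟩ := hc₁ a₀ ha₀ a ha ha₀j hi.symm
    obtain ⟨g₂, hg₂, hgb⟩ := hc₂ b₀ hb₀ b hb hb₀j hbj
    refine ⟨g₁ * g₂, mul_mem (Subgroup.mem_sup_left hg₁) (Subgroup.mem_sup_right hg₂), ?_⟩
    have h3 : g₂ * a₀ * g₂⁻¹ = a₀ := by rw [← hc a₀ ha₀ g₂ hg₂]; group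
    have h4 : g₁ * b * g₁⁻¹ = b := by rw [hc g₁ hg₁ b hb]; group
    calc g₁ * g₂ * (a₀ * b₀) * (g₁ * g₂)⁻¹ = g₁ * ((g₂ * a₀ * g₂⁻¹) * (g₂ * b₀ * g₂⁻¹)) * g₁⁻¹ := by group
      _ = (g₁ * a₀ * g₁⁻¹) * (g₁ * b * g₁⁻¹) := by rw [h3, hgb]; group
      _ = a * b := by rw [hga, h4]

end Cfsg.Agent.S3209
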