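import Cfsg.Statements.S3210
import Cfsg.Agent.H70.SL2Normal

set_option autoImplicit false
open Cfsg

namespace Cfsg.Agent.S3210

open H70

lemma card_sl {F : Type*} [Field F] [Fintype F] :
    Nat.card (Matrix.SpecialLinearGroup (Fin 2) F) = Fintype.card F * (Fintype.card F ^ 2 - 1) := by
  have h := H37.card_SL_fin (F := F) 2 (by omega)
  rw [Nat.card_eq_fintype_card (α := F)] at h
  have h1 := Fintype.one_lt_card (α := F)
  set q := Fintype.card F
  simp [Fin.prod_univ_two] at h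
  obtain ⟨r, hr⟩ : ∃ r, q = r + 2 := ⟨q - 2, by omega⟩
  rw [hr] at h ⊢
  have e1 : (r + 2) ^ 2 - (r + 2) = (r + 1) * (r + 2) := by
    rw [Nat.sub_eq_iff_eq_add (by nlinarith)]; ring
  rw [e1, show r + 2 - 1 = r + 1 by omega] at h
  exact Nat.eq_of_mul_eq_mul_left (by omega : 0 < r + 1) (by rw [h]; ring)

lemma card_sl_ge {F : Type*} [Field F] [Fintype F] (hF : Odd (Fintype.card F)) :
    24 ≤ Nat.card (Matrix.SpecialLinearGroup (Fin 2) F) := by
  rw [card_sl]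
  have h1 := Fintype.one_lt_card (α := F)
  have h3 : 3 ≤ Fintype.card F := by obtain ⟨k, hk⟩ := hF; omega
  have h9 : 3 ^ 2 ≤ Fintype.card F ^ 2 := Nat.pow_le_pow_left h3 2
  calc 24 = 3 * (3 ^ 2 - 1) := by norm_num
    _ ≤ _ := Nat.mul_le_mul h3 (by omega)

lemma card_sl_inj {F F' : Type*} [Field F] [Fintype F] [Field F'] [Fintype F']
    (h : Nat.card (Matrix.SpecialLinearGroup (Fin 2) F) = Nat.card (Matrix.SpecialLinearGroup (Fin 2) F')) :
    Fintype.card F = Fintype.card F' := by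
  rw [card_sl, card_sl] at h
  have h1 := Fintype.one_lt_card (α := F)
  have h2 := Fintype.one_lt_card (α := F')
  rcases Nat.lt_trichotomy (Fintype.card F) (Fintype.card F') with hlt | heq | hlt
  · have hp : Fintype.card F ^ 2 < Fintype.card F' ^ 2 := Nat.pow_lt_pow_left hlt (by omega)
    have := Nat.mul_lt_mul_of_lt_of_le hlt (show Fintype.card F ^ 2 - 1 ≤ Fintype.card F' ^ 2 - 1 by omega) (by have : 1 < Fintype.card F' ^ 2 := Nat.one_lt_pow (by omega) h2; omega)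
    omega
  · exact heq
  · have hp : Fintype.card F' ^ 2 < Fintype.card F ^ 2 := Nat.pow_lt_pow_left hlt (by omega)
    have := Nat.mul_lt_mul_of_lt_of_le hlt (show Fintype.card F' ^ 2 - 1 ≤ Fintype.card F ^ 2 - 1 by omega) (by have : 1 < Fintype.card F ^ 2 := Nat.one_lt_pow (by omega) h1; omega)
    omega

/-- If a subgroup normalised by `L₁` contains `a * b` with `a` non-central in `L₁`, it meets `L₁` in a large subgroup. -/
lemma side {G : Type*} [Group G] [Finite G] {F : Type*} [Field F] [Fintype F] (hF : Odd (Fintype.card F))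
    (L M : Subgroup G) (e : ↥L ≃* Matrix.SpecialLinearGroup (Fin 2) F) (j : G) (hj : orderOf j = 2) (hjL : j ∈ L)
    (hM : ∀ l ∈ L, ∀ m ∈ M, l * m * l⁻¹ ∈ M)
    (a b : G) (ha : a ∈ L) (hb : ∀ l ∈ L, l * b = b * l) (hab : a * b ∈ M) (hanc : a ∉ Subgroup.zpowers j) :
    Nat.card L ≤ 3 * Nat.card ↥(M ⊓ L) := by
  classical
  have h2 := two_ne_zero_of_odd_card hF
  have hej : e ⟨j, hjL⟩ = -1 := sl2_eq_neg_one h2 (by rw [MulEquiv.orderOf_eq, Subgroup.orderOf_mk, hj])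
  set g := e ⟨a, ha⟩ with hg
  have hg1 : g ≠ 1 := fun h => hanc (by
    have h' : (⟨a, ha⟩ : L) = 1 := e.injective (h.trans (map_one e).symm)
    rw [show a = 1 from congrArg Subtype.val h']; exact one_mem _)
  have hg2 : g ≠ -1 := fun h => hanc (by
    have h' : (⟨a, ha⟩ : L) = ⟨j, hjL⟩ := e.injective (h.trans hej.symm)
    rw [show a = j from congrArg Subtype.val h']; exact Subgroup.mem_zpowers j)
  -- some commutator of `g` is not central
  obtain ⟨h, hh⟩ : ∃ h, g * h * g⁻¹ * h⁻¹ ≠ 1 ∧ g * h * g⁻¹ * h⁻¹ ≠ -1 := by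
    by_contra hne
    simp only [not_exists, not_and_or, not_not] at hne
    set C := Subgroup.centralizer ({g} : Set (Matrix.SpecialLinearGroup (Fin 2) F))
    have hle : C.index ≤ 2 := by
      let f : Matrix.SpecialLinearGroup (Fin 2) F ⧸ C → Bool :=
        Quotient.lift (fun h => decide (g * h * g⁻¹ * h⁻¹ = 1)) (fun u v huv => by
          have huv' := Subgroup.mem_centralizer_singleton_iff.mp (QuotientGroup.leftRel_apply.mp huv)
          have e1 : (u⁻¹ * v) * g⁻¹ * (u⁻¹ * v)⁻¹ = g⁻¹ := by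
            have hc' : Commute (u⁻¹ * v) g⁻¹ := (show Commute (u⁻¹ * v) g from huv').inv_right
            rw [hc'.eq, mul_inv_cancel_right]
          have : g * u * g⁻¹ * u⁻¹ = g * v * g⁻¹ * v⁻¹ := by
            calc g * u * g⁻¹ * u⁻¹ = g * u * ((u⁻¹ * v) * g⁻¹ * (u⁻¹ * v)⁻¹) * u⁻¹ := by rw [e1]
              _ = _ := by group
          rw [this])
      have hinj : Function.Injective f := by
        intro p q hpq
        obtain ⟨u, rfl⟩ := QuotientGroup.mk_surjective p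
        obtain ⟨v, rfl⟩ := QuotientGroup.mk_surjective q
        have hpq' : (g * u * g⁻¹ * u⁻¹ = 1) ↔ (g * v * g⁻¹ * v⁻¹ = 1) := decide_eq_decide.mp hpq
        have heq : g * u * g⁻¹ * u⁻¹ = g * v * g⁻¹ * v⁻¹ := by
          rcases hne u with hu | hu <;> rcases hne v with hv | hv
          · rw [hu, hv]
          · rw [hu, hpq'.mp hu]
          · rw [hpq'.mpr hv, hv]
          · rw [hu, hv]
        rw [QuotientGroup.eq, Subgroup.mem_centralizer_singleton_iff]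
        have e2 : u * g⁻¹ * u⁻¹ = v * g⁻¹ * v⁻¹ := mul_left_cancel (a := g) (by simpa [mul_assoc] using heq)
        have e3 : Commute (u⁻¹ * v) g⁻¹ := by
          have : u⁻¹ * (u * g⁻¹ * u⁻¹) * v = u⁻¹ * (v * g⁻¹ * v⁻¹) * v := by rw [e2]
          simpa [mul_assoc, Commute, SemiconjBy] using this.symm
        simpa using e3.inv_right.eq
      simpa [Subgroup.index] using Nat.card_le_card_of_injective f hinj
    have h0 : C.index ≠ 0 := Subgroup.FiniteIndex.index_ne_zero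
    have := sl2_index_ne_two h2 C
    have hC : C = ⊤ := Subgroup.index_eq_one.mp (by omega)
    rcases sl2_center g (fun q => (Subgroup.mem_centralizer_singleton_iff.mp (show q ∈ C by rw [hC]; trivial)).symm) with h | h
    exacts [hg1 h, hg2 h]
  set K := (M.subgroupOf L).map e.toMonoidHom with hK
  have hn : (M.subgroupOf L).Normal := ⟨fun m hm l => hM l l.2 m hm⟩
  have hKn : K.Normal := hn.map _ e.surjective
  have hwK : g * h * g⁻¹ * h⁻¹ ∈ K := by
    set l := e.symm h with hl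
    refine ⟨⟨a, ha⟩ * l * ⟨a, ha⟩⁻¹ * l⁻¹, ?_, by simp [hg, hl]⟩
    show a * l.1 * a⁻¹ * l.1⁻¹ ∈ M
    have h1 : l.1 * (a * b)⁻¹ * l.1⁻¹ ∈ M := hM l l.2 _ (inv_mem hab)
    have h2 : (a * b) * (l.1 * (a * b)⁻¹ * l.1⁻¹) ∈ M := mul_mem hab h1
    have e' : (a * b) * (l.1 * (a * b)⁻¹ * l.1⁻¹) = a * l.1 * a⁻¹ * l.1⁻¹ := by
      have hbl : b * l.1 * b⁻¹ = l.1 := by rw [← hb l l.2, mul_inv_cancel_right]
      calc (a * b) * (l.1 * (a * b)⁻¹ * l.1⁻¹) = a * (b * l.1 * b⁻¹) * a⁻¹ * l.1⁻¹ := by group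
        _ = _ := by rw [hbl]
    rwa [e'] at h2
  have hle := sl2_normal_card hF K hwK hh.1 hh.2
  rw [← Nat.card_congr e.toEquiv, hK, Subgroup.card_map_of_injective e.injective] at hle
  refine hle.trans (Nat.mul_le_mul_left 3 (le_of_eq ?_))
  exact Nat.card_congr
    { toFun := fun m => ⟨m.1.1, m.2, m.1.2⟩
      invFun := fun m => ⟨⟨m.1, m.2.2⟩, m.2.1⟩
      left_inv := fun m => rfl
      right_inv := fun m => rfl }

/-- Let G be a finite group with subgroups L₁ ≅ SL₂(q₁) and L₂ ≅ SL₂(q₂), q₁ and q₂ odd prime powers, which commute elementwise and meet in ⟨j⟩ for an involution j, and suppose L₁L₂ has index 2 in C_G(j). Then every element n of C_G(j) outside L₁L₂ either normalizes both L₁ and L₂, or conjugates L₁ onto L₂; in the second case q₁ = q₂ and there is an element n′ of C_G(j) outside L₁L₂ conjugating L₁ onto L₂ with n′² ∈ ⟨j⟩. -/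
theorem result {G : Type*} [Group G] [Finite G]
    {F₁ : Type*} [Field F₁] [Fintype F₁] {F₂ : Type*} [Field F₂] [Fintype F₂]
    (hF₁ : Odd (Fintype.card F₁)) (hF₂ : Odd (Fintype.card F₂)) (L₁ L₂ : Subgroup G)
    (e₁ : ↥L₁ ≃* Matrix.SpecialLinearGroup (Fin 2) F₁) (e₂ : ↥L₂ ≃* Matrix.SpecialLinearGroup (Fin 2) F₂)
    (hc : ∀ x ∈ L₁, ∀ y ∈ L₂, x * y = y * x) (j : G) (hj : orderOf j = 2) (hm : L₁ ⊓ L₂ = Subgroup.zpowers j)
    (hle : L₁ ⊔ L₂ ≤ Subgroup.centralizer ({j} : Set G)) (hi : (L₁ ⊔ L₂).relIndex (Subgroup.centralizer ({j} : Set G)) = 2) (n : G) (hn : n ∈ Subgroup.centralizer ({j} : Set G)) (hn' : n ∉ L₁ ⊔ L₂) :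
    (L₁.map (MulAut.conj n).toMonoidHom = L₁ ∧ L₂.map (MulAut.conj n).toMonoidHom = L₂) ∨
      (L₁.map (MulAut.conj n).toMonoidHom = L₂ ∧ Fintype.card F₁ = Fintype.card F₂ ∧
        ∃ n' ∈ Subgroup.centralizer ({j} : Set G), n' ∉ L₁ ⊔ L₂ ∧ L₁.map (MulAut.conj n').toMonoidHom = L₂ ∧ n' ^ 2 ∈ Subgroup.zpowers j) := by
  set C := Subgroup.centralizer ({j} : Set G) with hC
  set L := L₁ ⊔ L₂ with hL
  have hjm : j ∈ L₁ ⊓ L₂ := hm ▸ Subgroup.mem_zpowers j
  have hprod : ∀ y ∈ L, ∃ a ∈ L₁, ∃ b ∈ L₂, a * b = y := by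
    intro y hy
    rw [hL, Subgroup.sup_eq_closure] at hy
    induction hy using Subgroup.closure_induction'' with
    | one => exact ⟨1, one_mem _, 1, one_mem _, one_mul _⟩
    | mem x hx => exact hx.elim (fun h => ⟨x, h, 1, one_mem _, mul_one _⟩) (fun h => ⟨1, one_mem _, x, h, one_mul _⟩)
    | inv_mem x hx => exact hx.elim (fun h => ⟨x⁻¹, inv_mem h, 1, one_mem _, mul_one _⟩) (fun h => ⟨1, one_mem _, x⁻¹, inv_mem h, one_mul _⟩)
    | mul x z _ _ hx hz =>
      obtain ⟨a, ha, b, hb, rfl⟩ := hx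
      obtain ⟨a', ha', b', hb', rfl⟩ := hz
      exact ⟨a * a', mul_mem ha ha', b * b', mul_mem hb hb',
        ((show Commute b a' from (hc a' ha' b hb).symm).mul_mul_mul_comm a b').symm⟩
  have hL1n : ∀ l ∈ L, ∀ m ∈ L₁, l * m * l⁻¹ ∈ L₁ := by
    intro l hl m hmm
    obtain ⟨a, ha, b, hb, rfl⟩ := hprod l hl
    have e : b * m * b⁻¹ = m := by rw [← hc m hmm b hb, mul_inv_cancel_right]
    have : a * b * m * (a * b)⁻¹ = a * m * a⁻¹ := by
      calc a * b * m * (a * b)⁻¹ = a * (b * m * b⁻¹) * a⁻¹ := by group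
        _ = _ := by rw [e]
    rw [this]; exact mul_mem (mul_mem ha hmm) (inv_mem ha)
  have hL2n : ∀ l ∈ L, ∀ m ∈ L₂, l * m * l⁻¹ ∈ L₂ := by
    intro l hl m hmm
    obtain ⟨a, ha, b, hb, rfl⟩ := hprod l hl
    have e : a * (b * m * b⁻¹) * a⁻¹ = b * m * b⁻¹ := by
      rw [hc a ha _ (mul_mem (mul_mem hb hmm) (inv_mem hb)), mul_inv_cancel_right]
    have : a * b * m * (a * b)⁻¹ = b * m * b⁻¹ := by rw [← e]; group
    rw [this]; exact mul_mem (mul_mem hb hmm) (inv_mem hb)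
  have hLn : ∀ g ∈ C, ∀ l ∈ L, g * l * g⁻¹ ∈ L := by
    have hn2 : (L.subgroupOf C).Normal := Subgroup.normal_of_index_eq_two hi
    intro g hg l hl
    exact hn2.conj_mem ⟨l, hle hl⟩ hl ⟨g, hg⟩
  have hc1 : Nat.card L₁ = Nat.card (Matrix.SpecialLinearGroup (Fin 2) F₁) := Nat.card_congr e₁.toEquiv
  have hc2 : Nat.card L₂ = Nat.card (Matrix.SpecialLinearGroup (Fin 2) F₂) := Nat.card_congr e₂.toEquiv
  have hg1 := hc1 ▸ card_sl_ge hF₁
  have hg2 := hc2 ▸ card_sl_ge hF₂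
  have hz : Nat.card (Subgroup.zpowers j) = 2 := by rw [Nat.card_zpowers, hj]
  -- images of the factors under conjugation by `n`
  have hni : n⁻¹ ∈ C := inv_mem hn
  have key : ∀ M : Subgroup G, M ≤ L → (∀ l ∈ L, ∀ m ∈ M, l * m * l⁻¹ ∈ M) →
      (Nat.card M = Nat.card L₁ ∨ Nat.card M = Nat.card L₂) → M ≤ L₁ ∨ M ≤ L₂ := by
    intro M hML hMn hMc
    by_contra hcon
    rw [not_or, SetLike.not_le_iff_exists, SetLike.not_le_iff_exists] at hcon
    obtain ⟨⟨m₁, hm₁, hm₁'⟩, m₂, hm₂, hm₂'⟩ := hcon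
    have h1 : Nat.card L₁ ≤ 3 * Nat.card ↥(M ⊓ L₁) := by
      obtain ⟨a, ha, b, hb, hab⟩ := hprod m₂ (hML hm₂)
      refine side hF₁ L₁ M e₁ j hj hjm.1 (fun l hl m hm' => hMn l (Subgroup.mem_sup_left hl) m hm') a b ha
        (fun l hl => hc l hl b hb) (hab.symm ▸ hm₂) (fun haj => hm₂' (hab ▸ mul_mem ?_ hb))
      exact (hm.symm ▸ haj : a ∈ L₁ ⊓ L₂).2
    have h2 : Nat.card L₂ ≤ 3 * Nat.card ↥(M ⊓ L₂) := by
      obtain ⟨a, ha, b, hb, hab⟩ := hprod m₁ (hML hm₁)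
      refine side hF₂ L₂ M e₂ j hj hjm.2 (fun l hl m hm' => hMn l (Subgroup.mem_sup_right hl) m hm') b a hb
        (fun l hl => (hc a ha l hl).symm) (hc a ha b hb ▸ hab.symm ▸ hm₁) (fun hbj => hm₁' (hab ▸ mul_mem ha ?_))
      exact (hm.symm ▸ hbj : b ∈ L₁ ⊓ L₂).1
    let f : ↥(M ⊓ L₁) × ↥(M ⊓ L₂) →* G :=
      MonoidHom.noncommCoprod (M ⊓ L₁).subtype (M ⊓ L₂).subtype (fun a b => hc a.1 a.2.2 b.1 b.2.2)
    have hker : Nat.card f.ker ≤ 2 := by
      rw [← hz]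
      refine Nat.card_le_card_of_injective (fun p => ⟨(p.1.1 : G), ?_⟩) ?_
      · rw [← hm]
        refine ⟨p.1.1.2.2, ?_⟩
        have h0 : (p.1.1 : G) * (p.1.2 : G) = 1 := p.2
        show (p.1.1 : G) ∈ L₂
        rw [eq_inv_of_mul_eq_one_left h0]
        exact inv_mem p.1.2.2.2
      · intro p q h
        have h' : (p.1.1 : G) = q.1.1 := congrArg (fun z : Subgroup.zpowers j => (z : G)) h
        have hp0 : (p.1.1 : G) * (p.1.2 : G) = 1 := p.2
        have hq0 : (q.1.1 : G) * (q.1.2 : G) = 1 := q.2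
        rw [← hq0, h'] at hp0
        exact Subtype.ext (Prod.ext (Subtype.ext h') (Subtype.ext (mul_left_cancel hp0)))
    have hran : Nat.card f.range ≤ Nat.card M := by
      apply Subgroup.card_le_of_le
      rintro _ ⟨p, rfl⟩
      exact mul_mem p.1.2.1 p.2.2.1
    have hcard := f.ker.card_mul_index
    rw [Subgroup.index_ker, Nat.card_prod] at hcard
    have h3 : Nat.card L₁ * Nat.card L₂ ≤ 18 * Nat.card M := by
      calc Nat.card L₁ * Nat.card L₂ ≤ (3 * Nat.card ↥(M ⊓ L₁)) * (3 * Nat.card ↥(M ⊓ L₂)) := Nat.mul_le_mul h1 h2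
        _ = 9 * (Nat.card f.ker * Nat.card f.range) := by rw [hcard]; ring
        _ ≤ 9 * (2 * Nat.card M) := Nat.mul_le_mul_left 9 (Nat.mul_le_mul hker hran)
        _ = _ := by ring
    rcases hMc with h | h <;> rw [h] at h3
    · have := Nat.mul_le_mul_left (Nat.card L₁) hg2
      have := Nat.card_pos (α := L₁)
      nlinarith
    · have := Nat.mul_le_mul_right (Nat.card L₂) hg1
      have := Nat.card_pos (α := L₂)
      nlinarith
  have himg : ∀ A : Subgroup G, A ≤ L → (∀ l ∈ L, ∀ m ∈ A, l * m * l⁻¹ ∈ A) →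
      A.map (MulAut.conj n).toMonoidHom ≤ L ∧ ∀ l ∈ L, ∀ m ∈ A.map (MulAut.conj n).toMonoidHom,
        l * m * l⁻¹ ∈ A.map (MulAut.conj n).toMonoidHom := by
    intro A hA hAn
    refine ⟨?_, ?_⟩
    · rintro _ ⟨a, ha, rfl⟩; exact hLn n hn a (hA ha)
    · rintro l hl _ ⟨a, ha, rfl⟩
      refine ⟨(n⁻¹ * l * n) * a * (n⁻¹ * l * n)⁻¹, hAn _ ?_ a ha, by simp [mul_assoc]⟩
      have := hLn n⁻¹ hni l hl
      rwa [inv_inv] at this
  obtain ⟨hi1, hi1n⟩ := himg L₁ le_sup_left hL1n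
  obtain ⟨hi2, hi2n⟩ := himg L₂ le_sup_right hL2n
  have hcard : ∀ A : Subgroup G, Nat.card (A.map (MulAut.conj n).toMonoidHom) = Nat.card A :=
    fun A => Subgroup.card_map_of_injective (MulAut.conj n).injective
  set φ₁ := L₁.map (MulAut.conj n).toMonoidHom with hφ₁
  set φ₂ := L₂.map (MulAut.conj n).toMonoidHom with hφ₂
  have hsup : φ₁ ⊔ φ₂ = L := by
    rw [hφ₁, hφ₂, ← Subgroup.map_sup]
    exact cj_eq_self_iff.mpr (Subgroup.mem_normalizer_fintype (fun l hl => hLn n hn l hl))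
  have hne1 : ¬ L ≤ L₁ := fun h => by
    have := Subgroup.card_le_of_le (le_inf (le_sup_right.trans h) le_rfl : L₂ ≤ L₁ ⊓ L₂)
    rw [hm, hz] at this
    omega
  have hne2 : ¬ L ≤ L₂ := fun h => by
    have := Subgroup.card_le_of_le (le_inf le_rfl (le_sup_left.trans h) : L₁ ≤ L₁ ⊓ L₂)
    rw [hm, hz] at this
    omega
  rcases key φ₁ hi1 hi1n (Or.inl (hcard L₁)) with h1 | h1 <;>
    rcases key φ₂ hi2 hi2n (Or.inr (hcard L₂)) with h2 | h2
  · exact absurd (hsup ▸ sup_le h1 h2) hne1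
  · exact Or.inl ⟨Subgroup.eq_of_le_of_card_ge h1 (hcard L₁).ge, Subgroup.eq_of_le_of_card_ge h2 (hcard L₂).ge⟩
  · refine Or.inr ?_
    have hle1 := Subgroup.card_le_of_le h1
    have hle2 := Subgroup.card_le_of_le h2
    rw [hcard L₁] at hle1
    rw [hcard L₂] at hle2
    have hcc : Nat.card L₁ = Nat.card L₂ := le_antisymm hle1 hle2
    have he1 : φ₁ = L₂ := Subgroup.eq_of_le_of_card_ge h1 (by rw [hcard L₁, hcc])
    refine ⟨he1, card_sl_inj (hc1.symm.trans (hcc.trans hc2)), ?_⟩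
    have hn2 : n ^ 2 ∈ L := by
      have hC2 : (L.subgroupOf C).index = 2 := hi
      exact Subgroup.sq_mem_of_index_two hC2 (⟨n, hn⟩ : C)
    obtain ⟨a, ha, b, hb, hab⟩ := hprod _ hn2
    refine ⟨n * a⁻¹, mul_mem hn (hle (Subgroup.mem_sup_left (inv_mem ha))), ?_, ?_, ?_⟩
    · intro hmem
      exact hn' (by simpa using mul_mem hmem (show a ∈ L from Subgroup.mem_sup_left ha))
    · calc L₁.map (MulAut.conj (n * a⁻¹)).toMonoidHom = cj n (cj a⁻¹ L₁) := (cj_cj n a⁻¹ L₁).symm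
        _ = L₂ := by rw [cj_of_mem (inv_mem ha)]; exact he1
    · have hb' : n * a * n⁻¹ ∈ L₂ := h1 ⟨a, ha, rfl⟩
      have ha' : n * b * n⁻¹ ∈ L₁ := h2 ⟨b, hb, rfl⟩
      set b' := n * a * n⁻¹ with hb'def
      set a' := n * b * n⁻¹ with ha'def
      have hprod' : a' * b' = a * b := by
        rw [hc a' ha' b' hb', hb'def, ha'def, conj_mul, hab]; group
      have hsq : (n * a⁻¹) ^ 2 = b'⁻¹ * b := by
        have : b'⁻¹ * (a * b) * a⁻¹ = (n * a⁻¹) ^ 2 := by rw [hab, hb'def, pow_two, pow_two]; group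
        rw [← this, hc a ha b hb]; group
      have h3 : b'⁻¹ * b = a⁻¹ * a' := by
        have e0 : b' = a'⁻¹ * (a * b) := by rw [← hprod']; group
        have e1 : b⁻¹ * (a⁻¹ * a') * b = a⁻¹ * a' := by
          rw [mul_assoc, hc _ (mul_mem (inv_mem ha) ha') b hb, inv_mul_cancel_left]
        rw [← e1, e0]; group
      rw [hsq, ← hm]
      exact ⟨h3.symm ▸ (show a⁻¹ * a' ∈ L₁ from mul_mem (inv_mem ha) ha'), show b'⁻¹ * b ∈ L₂ from mul_mem (inv_mem hb') hb⟩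
  · exact absurd (hsup ▸ sup_le h1 h2) hne2

end Cfsg.Agent.S3210
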