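import Cfsg.Statements.S3211
import Cfsg.Agent.H70.SwapPair
import Cfsg.Agent.H70.RootCountIsolated
import Cfsg.Agent.H70.QLikeSylow

set_option autoImplicit false
open Cfsg

namespace Cfsg.Agent.S3211

/-- Let G be a finite group with subgroups L₁ ≅ SL₂(q₁) and L₂ ≅ SL₂(q₂), q₁ and q₂ odd prime powers, which commute elementwise and meet in ⟨j⟩ for an involution j, and suppose L₁L₂ has index 2 in C_G(j). If some n ∈ C_G(j) with n² = j interchanges L₁ and L₂ under conjugation (so that C_G(j) = L₁L₂⟨n⟩), then G = C_G(j)O(G). -/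
theorem result {G : Type*} [Group G] [Finite G]
    {F₁ : Type*} [Field F₁] [Fintype F₁] {F₂ : Type*} [Field F₂] [Fintype F₂]
    (hF₁ : Odd (Fintype.card F₁)) (hF₂ : Odd (Fintype.card F₂)) (L₁ L₂ : Subgroup G)
    (e₁ : ↥L₁ ≃* Matrix.SpecialLinearGroup (Fin 2) F₁) (e₂ : ↥L₂ ≃* Matrix.SpecialLinearGroup (Fin 2) F₂)
    (hc : ∀ x ∈ L₁, ∀ y ∈ L₂, x * y = y * x) (j : G) (hj : orderOf j = 2) (hm : L₁ ⊓ L₂ = Subgroup.zpowers j)
    (hle : L₁ ⊔ L₂ ≤ Subgroup.centralizer ({j} : Set G)) (hi : (L₁ ⊔ L₂).relIndex (Subgroup.centralizer ({j} : Set G)) = 2) (n : G) (hn : n ∈ Subgroup.centralizer ({j} : Set G))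
    (hn2 : n ^ 2 = j) (hswap : L₁.map (MulAut.conj n).toMonoidHom = L₂) :
    Subgroup.centralizer ({j} : Set G) ⊔ Cfsg.oddCore G = ⊤ := by
  haveI : Fact (Nat.Prime 2) := ⟨Nat.prime_two⟩
  set C := Subgroup.centralizer ({j} : Set G) with hC
  have hjC : ∀ x ∈ C, x * j = j * x := fun x hx => Subgroup.mem_centralizer_singleton_iff.mp hx
  have hjj : j * j = 1 := by rw [← pow_two, ← hj, pow_orderOf_eq_one]
  have hj1 : j ≠ 1 := fun e => by rw [e, orderOf_one] at hj; omega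
  have hjL : j ∈ L₁ ∧ j ∈ L₂ := Subgroup.mem_inf.mp (hm ▸ Subgroup.mem_zpowers j)
  have hinter : ∀ x ∈ L₁, x ∈ L₂ → x = 1 ∨ x = j := by
    intro x h1 h2
    have h : x ∈ Subgroup.zpowers j := hm ▸ Subgroup.mem_inf.mpr ⟨h1, h2⟩
    obtain ⟨i, rfl⟩ := Subgroup.mem_zpowers_iff.mp h
    rcases Int.even_or_odd' i with ⟨l, rfl | rfl⟩
    · left; rw [zpow_mul, zpow_two, hjj, one_zpow]
    · right; rw [zpow_add_one, zpow_mul, zpow_two, hjj, one_zpow, one_mul]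
  have hnn : n * n = j := by rw [← pow_two, hn2]
  have hL1C : L₁ ≤ C := le_sup_left.trans hle
  have hL2C : L₂ ≤ C := le_sup_right.trans hle
  have hsw1 : ∀ x ∈ L₁, n * x * n⁻¹ ∈ L₂ := fun x hx => hswap ▸ ⟨x, hx, rfl⟩
  have hnn2 : ∀ x ∈ C, n * (n * x * n⁻¹) * n⁻¹ = x := fun x hx => by
    calc n * (n * x * n⁻¹) * n⁻¹ = (n * n) * x * (n * n)⁻¹ := by group
      _ = x := by rw [hnn, ← hjC x hx, mul_inv_cancel_right]
  have hsw2 : ∀ x ∈ L₂, n * x * n⁻¹ ∈ L₁ := by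
    intro x hx
    rw [← hswap] at hx
    obtain ⟨y, hy, rfl⟩ := hx
    show n * (n * y * n⁻¹) * n⁻¹ ∈ L₁
    rw [hnn2 y (hL1C hy)]; exact hy
  obtain ⟨P₁, hP1L, hP1p, hq1, hP1max⟩ :=
    H70.exists_qLike_of_sl2 hF₁ L₁ e₁ hj hjL.1 (fun x hx => hjC x (hL1C hx))
  set P₂ := P₁.map (MulAut.conj n).toMonoidHom with hP₂
  have hP2L : P₂ ≤ L₂ := by
    rintro _ ⟨x, hx, rfl⟩
    exact hsw1 x (hP1L hx)
  have hmap1 : ∀ x ∈ P₁, n * x * n⁻¹ ∈ P₂ := fun x hx => ⟨x, hx, rfl⟩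
  have hmap2 : ∀ x ∈ P₂, n * x * n⁻¹ ∈ P₁ := by
    rintro _ ⟨x, hx, rfl⟩
    show n * (n * x * n⁻¹) * n⁻¹ ∈ P₁
    rw [hnn2 x (hL1C (hP1L hx))]; exact hx
  have hq2 : H70.QLike P₂ j := hq1.map (MulAut.conj n) (by
    show n * j * n⁻¹ = j
    rw [hjC n hn, mul_inv_cancel_right])
  -- a Sylow 2-subgroup of `C` containing `P₁`, `P₂` and `n`
  have hS0p : IsPGroup 2 ↥(P₁ ⊔ P₂) := by
    refine hP1p.to_sup_of_normal_right' (hP1p.map _) fun x hx => ?_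
    refine Subgroup.mem_normalizer_fintype fun y hy => ?_
    rw [hc x (hP1L hx) y (hP2L hy), mul_inv_cancel_right]
    exact hy
  have hnp : IsPGroup 2 ↥(Subgroup.zpowers n) := by
    intro x
    obtain ⟨i, hi⟩ := Subgroup.mem_zpowers_iff.mp x.2
    refine ⟨2, Subtype.ext ?_⟩
    rw [Subgroup.coe_pow, ← hi, ← zpow_natCast, ← zpow_mul, mul_comm i, zpow_mul, zpow_natCast,
      show 2 ^ 2 = 2 * 2 from rfl, pow_mul, hn2, pow_two, hjj, one_zpow]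
    rfl
  have hT0p : IsPGroup 2 ↥(Subgroup.zpowers n ⊔ (P₁ ⊔ P₂)) := by
    refine hnp.to_sup_of_normal_right' hS0p ?_
    rw [Subgroup.zpowers_le]
    refine Subgroup.mem_normalizer_fintype fun x hx => ?_
    have hle' : P₁ ⊔ P₂ ≤ (P₁ ⊔ P₂).comap (MulAut.conj n).toMonoidHom :=
      sup_le (fun x hx => Subgroup.mem_sup_right (hmap1 x hx))
        (fun x hx => Subgroup.mem_sup_left (hmap2 x hx))
    exact hle' hx
  have hT0C : Subgroup.zpowers n ⊔ (P₁ ⊔ P₂) ≤ C :=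
    sup_le (Subgroup.zpowers_le.mpr hn) (sup_le (hP1L.trans hL1C) (hP2L.trans hL2C))
  obtain ⟨Q, hQ⟩ := (IsPGroup.comap_subtype (H := Subgroup.zpowers n ⊔ (P₁ ⊔ P₂)) (K := C)
    hT0p).exists_le_sylow
  set T := (Q : Subgroup ↥C).map C.subtype with hT
  have hTC : T ≤ C := Subgroup.map_subtype_le _
  have hT2 : IsPGroup 2 ↥T := Q.2.map _
  have hT0T : Subgroup.zpowers n ⊔ (P₁ ⊔ P₂) ≤ T := fun x hx =>
    ⟨⟨x, hT0C hx⟩, hQ hx, rfl⟩
  have hTmax : ∀ R : Subgroup G, IsPGroup 2 ↥R → T ≤ R → R ≤ C → R = T := by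
    intro R hR hTR hRC
    refine le_antisymm (fun r hr => ?_) hTR
    have h1 : R.subgroupOf C = (Q : Subgroup ↥C) :=
      Q.is_maximal' (IsPGroup.comap_subtype (H := R) hR) fun x hx => hTR ⟨x, hx, rfl⟩
    refine ⟨⟨r, hRC hr⟩, ?_, rfl⟩
    rw [SetLike.mem_coe, ← h1]
    exact hr
  have hnT : n ∈ T := hT0T (Subgroup.mem_sup_left (Subgroup.mem_zpowers n))
  have hP1T : P₁ ≤ T := le_sup_left.trans (le_sup_right.trans hT0T)
  have hP2T : P₂ ≤ T := le_sup_right.trans (le_sup_right.trans hT0T)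
  -- decomposition of `L₁ L₂`
  have hdec : ∀ x ∈ L₁ ⊔ L₂, ∃ l ∈ L₁, ∃ m ∈ L₂, x = l * m := by
    intro x hx
    have hN : L₁ ≤ Subgroup.normalizer (L₂ : Set G) := fun a ha => by
      refine Subgroup.mem_normalizer_fintype fun y hy => ?_
      rw [hc a ha y hy, mul_inv_cancel_right]
      exact hy
    rw [← SetLike.mem_coe, Subgroup.coe_mul_of_left_le_normalizer_right _ _ hN] at hx
    obtain ⟨l, hl, m, hm', rfl⟩ := hx
    exact ⟨l, hl, m, hm', rfl⟩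
  have hnnot : n ∉ L₁ ⊔ L₂ := by
    intro h
    obtain ⟨l, hl, m, hm', hlm⟩ := hdec n h
    obtain ⟨i, hi, hii⟩ := hq1.root
    have h1 := hsw1 i (hP1L hi)
    have h2 : n * i * n⁻¹ = l * i * l⁻¹ := by
      rw [hlm]
      calc l * m * i * (l * m)⁻¹ = l * (m * i) * m⁻¹ * l⁻¹ := by group
        _ = l * (i * m) * m⁻¹ * l⁻¹ := by rw [← hc i (hP1L hi) m hm']
        _ = _ := by group
    rw [h2] at h1
    have h3 : (l * i * l⁻¹) * (l * i * l⁻¹) = 1 := by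
      rcases hinter _ (mul_mem (mul_mem hl (hP1L hi)) (inv_mem hl)) h1 with e | e <;> rw [e]
      · exact mul_one 1
      · exact hjj
    rw [show l * i * l⁻¹ * (l * i * l⁻¹) = l * (i * i) * l⁻¹ by group, hii, conj_eq_one_iff] at h3
    exact hj1 h3
  -- the part of `T` inside `L₁ L₂`
  let R₁ : Subgroup G :=
    { carrier := {l | l ∈ L₁ ∧ ∃ m ∈ L₂, l * m ∈ T}
      one_mem' := ⟨one_mem _, 1, one_mem _, by rw [mul_one]; exact one_mem _⟩
      mul_mem' := fun {a b} ⟨ha, ma, hma, hat⟩ ⟨hb, mb, hmb, hbt⟩ => ⟨mul_mem ha hb, ma * mb,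
        mul_mem hma hmb, by
          rw [show a * b * (ma * mb) = a * (b * ma) * mb by group, hc b hb ma hma,
            show a * (ma * b) * mb = (a * ma) * (b * mb) by group]
          exact mul_mem hat hbt⟩
      inv_mem' := fun {a} ⟨ha, ma, hma, hat⟩ => ⟨inv_mem ha, ma⁻¹, inv_mem hma, by
          rw [hc a⁻¹ (inv_mem ha) ma⁻¹ (inv_mem hma), ← mul_inv_rev]
          exact inv_mem hat⟩ }
  have hR1 : R₁ = P₁ := by
    refine hP1max R₁ ?_ (fun x hx => ⟨hP1L hx, 1, one_mem _, by rw [mul_one]; exact hP1T hx⟩)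
      fun x hx => hx.1
    rintro ⟨l, hl, m, hm', hlm⟩
    obtain ⟨e, he⟩ := hT2 ⟨_, hlm⟩
    have h1 : l ^ 2 ^ e * m ^ 2 ^ e = 1 := by
      rw [← (show Commute l m from hc l hl m hm').mul_pow]
      exact congrArg Subtype.val he
    have h2 : l ^ 2 ^ e ∈ L₂ := by
      rw [eq_inv_of_mul_eq_one_left h1]; exact inv_mem (pow_mem hm' _)
    refine ⟨e + 1, Subtype.ext ?_⟩
    show l ^ 2 ^ (e + 1) = 1
    rw [pow_succ, pow_mul]
    rcases hinter _ (pow_mem hl _) h2 with h | h <;> rw [h, pow_two]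
    · exact mul_one 1
    · exact hjj
  have hinside : ∀ x ∈ T, x ∈ L₁ ⊔ L₂ → ∃ a ∈ P₁, ∃ b ∈ P₂, x = a * b := by
    intro x hxT hx
    obtain ⟨l, hl, m, hm', rfl⟩ := hdec x hx
    have hlP : l ∈ P₁ := hR1 ▸ (show l ∈ R₁ from ⟨hl, m, hm', hxT⟩)
    have hmP : n * m * n⁻¹ ∈ P₁ := hR1 ▸ (show n * m * n⁻¹ ∈ R₁ from
      ⟨hsw2 m hm', n * l * n⁻¹, hsw1 l hl, by
        rw [show n * m * n⁻¹ * (n * l * n⁻¹) = n * (m * l) * n⁻¹ by group, ← hc l hl m hm']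
        exact mul_mem (mul_mem hnT hxT) (inv_mem hnT)⟩)
    exact ⟨l, hlP, m, hnn2 m (hL2C hm') ▸ hmap1 _ hmP, rfl⟩
  have houtside : ∀ x ∈ T, x ∉ L₁ ⊔ L₂ → ∃ a ∈ P₁, ∃ b ∈ P₂, x = a * b * n := by
    intro x hxT hx
    have h1 : x * n⁻¹ ∈ L₁ ⊔ L₂ := by
      have key := Subgroup.mul_mem_iff_of_index_two (H := (L₁ ⊔ L₂).subgroupOf C) hi
        (a := ⟨x, hTC hxT⟩) (b := (⟨n, hn⟩ : ↥C)⁻¹)
      simp only [Subgroup.mem_subgroupOf, Subgroup.coe_mul, Subgroup.coe_inv] at key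
      exact key.mpr (iff_of_false hx fun e => hnnot (inv_mem_iff.mp e))
    obtain ⟨a, ha, b, hb, hab⟩ := hinside _ (mul_mem hxT (inv_mem hnT)) h1
    exact ⟨a, ha, b, hb, by rw [← hab, inv_mul_cancel_right]⟩
  have hsp : H70.SwapPair j n L₁ L₂ P₁ P₂ T :=
    { j_ne := hj1, j_sq := hjj, n_mem := hnT, n_sq := hnn
      j_comm := fun x hx => hjC x (hle hx)
      comm := hc, inter := hinter, le₁ := hP1L, le₂ := hP2L, q₁ := hq1, q₂ := hq2
      leT₁ := hP1T, leT₂ := hP2T, map₁ := hmap1, map₂ := hmap2, n_not := hnnot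
      inside := hinside, outside := houtside }
  exact H70.centralizer_sup_oddCore_of_root_count hj hTC hT2 hTmax hsp.j_mem
    fun k hk h2 h1 hkj => hsp.root_lt hk h2 h1 hkj

end Cfsg.Agent.S3211
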