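import Cfsg.Statements.S3213
import Cfsg.Agent.H70.SL2Facts

set_option autoImplicit false
open Cfsg

namespace Cfsg.Agent.S3213

open Matrix Module

section
variable {F : Type*} [Field F] [Fintype F] (hF : Fintype.card F = 3)
  {V : Type*} [AddCommGroup V] [Module F V] [FiniteDimensional F V]

include hF

omit [FiniteDimensional F V] in
lemma finrank_even (G : Module.End F V) (U : Submodule F V) (hG : ∀ u ∈ U, G u ∈ U)
    (h : ∀ u ∈ U, G (G u) = -u) : Even (finrank F U) := by
  by_contra hodd
  rw [Nat.not_even_iff_odd] at hodd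
  let R : Module.End F U := G.restrict hG
  have hR : R * R = (-1 : F) • (1 : Module.End F U) := by
    ext u
    simp only [Module.End.mul_apply, R, LinearMap.coe_restrict_apply, LinearMap.smul_apply,
      Module.End.one_apply, Submodule.coe_smul, neg_smul, one_smul]
    exact h u u.2
  have hd : LinearMap.det R * LinearMap.det R = -1 := by
    rw [← map_mul, hR, LinearMap.det_smul, map_one, mul_one, hodd.neg_one_pow]
  have hs : IsSquare (-1 : F) := ⟨LinearMap.det R, hd.symm⟩
  rw [FiniteField.isSquare_neg_one_iff, hF] at hs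
  norm_num at hs

lemma card_units_end (U : Submodule F V) (hU : finrank F U = 2) :
    Nat.card (Module.End F U)ˣ = 48 := by
  let b := Module.finBasisOfFinrankEq F U hU
  rw [Nat.card_congr (Units.mapEquiv (algEquivMatrix b).toMulEquiv).toEquiv, Matrix.card_GL_field, hF]
  simp [Fin.prod_univ_two]

end

lemma no_hom_48 {K : Type*} [Field K] [Fintype K] (hK : Fintype.card K = 5) {H : Type*} [Group H] [Finite H]
    (hH : Nat.card H = 48) (f : Matrix.SpecialLinearGroup (Fin 2) K →* H) : f (-1) = 1 := by
  by_contra hne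
  have h2 : (2 : K) ≠ 0 := H70.two_ne_zero_of_odd_card (by rw [hK]; decide)
  have h5 : (5 : K) = 0 := by
    have := FiniteField.cast_card_eq_zero K
    rwa [hK] at this
  have hker : ¬ 2 ∣ Nat.card f.ker := by
    intro h
    have : Fact (Nat.Prime 2) := ⟨Nat.prime_two⟩
    obtain ⟨v, hv⟩ := exists_prime_orderOf_dvd_card' (G := f.ker) 2 h
    have := H70.sl2_eq_neg_one h2 ((Subgroup.orderOf_coe v).trans hv)
    exact hne (this ▸ v.2)
  have hfive : ∀ u : Matrix.SpecialLinearGroup (Fin 2) K, u ^ 5 = 1 → f u = 1 := by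
    intro u hu
    have h1 : orderOf (f u) ∣ 5 := orderOf_dvd_of_pow_eq_one (by rw [← map_pow, hu, map_one])
    have h2 : orderOf (f u) ∣ 48 := hH ▸ orderOf_dvd_natCard _
    exact orderOf_eq_one_iff.mp (Nat.dvd_one.mp (Nat.dvd_gcd h1 h2))
  have hupow : ∀ (a : K) (n : ℕ), H37.upper2 a ^ n = H37.upper2 (n * a) := by
    intro a n
    induction n with
    | zero => apply Subtype.ext; simp [Matrix.one_fin_two]
    | succ n ih =>
      rw [pow_succ, ih]
      apply Subtype.ext
      simp [add_mul, add_comm]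
  have hlpow : ∀ (a : K) (n : ℕ), H37.lower2 a ^ n = H37.lower2 (n * a) := by
    intro a n
    induction n with
    | zero => apply Subtype.ext; simp [Matrix.one_fin_two]
    | succ n ih =>
      rw [pow_succ, ih]
      apply Subtype.ext
      simp [add_mul, add_comm]
  have hu : ∀ a : K, H37.upper2 a ∈ f.ker := fun a => hfive _ (by
    rw [hupow]; apply Subtype.ext; simp [h5, Matrix.one_fin_two])
  have hl : ∀ a : K, H37.lower2 a ∈ f.ker := fun a => hfive _ (by
    rw [hlpow]; apply Subtype.ext; simp [h5, Matrix.one_fin_two])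
  have hinj : Function.Injective (fun p : K × K => (⟨H37.upper2 p.1 * H37.lower2 p.2, mul_mem (hu p.1) (hl p.2)⟩ : f.ker)) := by
    rintro ⟨a, b⟩ ⟨a', b'⟩ h
    have h' := congrArg (fun z : f.ker => ((z : Matrix.SpecialLinearGroup (Fin 2) K) : Matrix (Fin 2) (Fin 2) K)) h
    have e1 := congrFun₂ h' 0 1
    have e2 := congrFun₂ h' 1 0
    simp at e1 e2
    rw [e1, e2]
  have h25 := Nat.card_le_card_of_injective _ hinj
  rw [Nat.card_prod, Nat.card_eq_fintype_card, hK] at h25
  have hc := H37.card_SL_fin (F := K) 2 (by omega)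
  rw [Nat.card_eq_fintype_card (α := K), hK] at hc
  simp [Fin.prod_univ_two] at hc
  have hd : Nat.card f.ker ∣ 120 := by
    have := f.ker.card_subgroup_dvd_card
    rwa [show Nat.card (Matrix.SpecialLinearGroup (Fin 2) K) = 120 by omega] at this
  have := Nat.le_of_dvd (by norm_num) hd
  have hd15 : Nat.card f.ker ∣ 15 := by
    have hco : Nat.Coprime (Nat.card f.ker) 8 :=
      (((Nat.prime_two.coprime_iff_not_dvd).mpr hker).symm).pow_right 3
    exact hco.dvd_of_dvd_mul_left (show Nat.card f.ker ∣ 8 * 15 from hd)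
  have := Nat.le_of_dvd (by norm_num) hd15
  omega

lemma exists_inverter {K : Type*} [Field K] [Fintype K] (hK : Fintype.card K = 5)
    (x : Matrix.SpecialLinearGroup (Fin 2) K) (hx : orderOf x = 3) :
    ∃ g : Matrix.SpecialLinearGroup (Fin 2) K, g * g = -1 ∧ x * g = g * x⁻¹ := by
  have h5 : (5 : K) = 0 := by
    have := FiniteField.cast_card_eq_zero K
    rwa [hK] at this
  have hx3 : (x : Matrix (Fin 2) (Fin 2) K) * (x : Matrix (Fin 2) (Fin 2) K) * (x : Matrix (Fin 2) (Fin 2) K) = 1 := by
    have h := congrArg (fun z : Matrix.SpecialLinearGroup (Fin 2) K => (z : Matrix (Fin 2) (Fin 2) K)) (pow_orderOf_eq_one x)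
    rw [hx] at h
    simpa [pow_succ, pow_zero] using h
  set a := (x : Matrix (Fin 2) (Fin 2) K) 0 0 with ha
  set b := (x : Matrix (Fin 2) (Fin 2) K) 0 1 with hb
  set c := (x : Matrix (Fin 2) (Fin 2) K) 1 0 with hc
  set d := (x : Matrix (Fin 2) (Fin 2) K) 1 1 with hd
  have hdet : a * d - b * c = 1 := by
    have := x.det_coe
    rw [det_fin_two] at this
    exact this
  have e00 : (a * a + b * c) * a + (a * b + b * d) * c = 1 := by
    have := congrFun₂ hx3 0 0
    simpa [Matrix.mul_apply, Fin.sum_univ_two] using this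
  have e01 : (a * a + b * c) * b + (a * b + b * d) * d = 0 := by
    have := congrFun₂ hx3 0 1
    simpa [Matrix.mul_apply, Fin.sum_univ_two] using this
  have e10 : (c * a + d * c) * a + (c * b + d * d) * c = 0 := by
    have := congrFun₂ hx3 1 0
    simpa [Matrix.mul_apply, Fin.sum_univ_two] using this
  have e11 : (c * a + d * c) * b + (c * b + d * d) * d = 1 := by
    have := congrFun₂ hx3 1 1
    simpa [Matrix.mul_apply, Fin.sum_univ_two] using this
  have hns : ¬ H40.IsScalar2 (x : Matrix (Fin 2) (Fin 2) K) := by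
    rintro ⟨hb0, hc0, had⟩
    change b = 0 at hb0
    change c = 0 at hc0
    change a = d at had
    have ha3 : a * a * a = 1 := by rw [hb0] at e00; linear_combination e00
    have ha2 : a * a = 1 := by rw [← had, hb0] at hdet; linear_combination hdet
    have ha1 : a = 1 := by rw [ha2, one_mul] at ha3; exact ha3
    have : x = 1 := by
      apply Subtype.ext
      ext i j
      fin_cases i <;> fin_cases j <;> simp [← ha, ← hb, ← hc, ← hd, hb0, hc0, ← had, ha1]
    rw [this, orderOf_one] at hx
    omega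
  have htr : a + d = -1 := by
    have k01 : b * ((a + d) * (a + d) - 1) = 0 := by linear_combination e01 + b * hdet
    have k10 : c * ((a + d) * (a + d) - 1) = 0 := by linear_combination e10 + c * hdet
    have kd : (a - d) * ((a + d) * (a + d) - 1) = 0 := by linear_combination e00 - e11 + (a - d) * hdet
    have ksq : (a + d) * (a + d) - 1 = 0 := by
      by_contra h0
      exact hns ⟨(mul_eq_zero.mp k01).resolve_right h0, (mul_eq_zero.mp k10).resolve_right h0,
        sub_eq_zero.mp ((mul_eq_zero.mp kd).resolve_right h0)⟩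
    linear_combination a * ksq - e00 - (2 * a + d) * hdet
  let C : Matrix.SpecialLinearGroup (Fin 2) K := ⟨!![0, -1; 1, -1], by simp [Matrix.det_fin_two_of]⟩
  let g₀ : Matrix.SpecialLinearGroup (Fin 2) K := ⟨!![2, 0; 2, -2], by
    rw [Matrix.det_fin_two_of]; linear_combination -h5⟩
  have hcC : IsConj C x := by
    refine H40.isConj_SL2_of_trace ?_ hns ?_ (Or.inl ?_)
    · intro h
      have := h.2.1
      simp [C] at this
    · rw [Matrix.trace_fin_two, Matrix.trace_fin_two]
      simp only [C, ← ha, ← hd, htr]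
      simp
    · rw [Matrix.trace_fin_two]
      simp only [C]
      intro h
      simp at h
      have h3 : (3 : K) = 0 := by linear_combination -h
      have : (1 : K) = 0 := by linear_combination (2 : K) * h3 - h5
      exact one_ne_zero this
  have hg0 : g₀ * g₀ = -1 := by
    apply Subtype.ext
    show (!![2, 0; 2, -2] : Matrix (Fin 2) (Fin 2) K) * !![2, 0; 2, -2] = _
    ext i j
    fin_cases i <;> fin_cases j <;> simp [Matrix.mul_apply, Fin.sum_univ_two] <;> linear_combination h5
  have hC : C * g₀ = g₀ * C⁻¹ := by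
    apply Subtype.ext
    rw [Matrix.SpecialLinearGroup.coe_mul, Matrix.SpecialLinearGroup.coe_mul, Matrix.SpecialLinearGroup.coe_inv]
    simp only [C, g₀]
    rw [Matrix.adjugate_fin_two_of]
    ext i j
    fin_cases i <;> fin_cases j <;> simp [Matrix.mul_apply, Fin.sum_univ_two]
  obtain ⟨u, hu⟩ := isConj_iff.1 hcC
  refine ⟨u * g₀ * u⁻¹, ?_, ?_⟩
  · rw [conj_mul, hg0, mul_neg, neg_mul, mul_one, mul_inv_cancel]
  · rw [← hu, conj_mul, hC, conj_inv, conj_mul]

/-- Let F be the field with 3 elements and K the field with 5 elements. For every injective homomorphism φ from SL₂(K) into the symplectic group Sp₄(F) (4 × 4 matrices g with g J gᵀ = J for the standard alternating matrix J) and every element x of order 3 of SL₂(K), the vectors of F⁴ fixed by φ(x) form a 2-dimensional subspace that is totally isotropic for the alternating form defined by J. -/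
theorem result {F : Type*} [Field F] [Fintype F] (hF : Fintype.card F = 3)
    {K : Type*} [Field K] [Fintype K] (hK : Fintype.card K = 5)
    (φ : Matrix.SpecialLinearGroup (Fin 2) K →* ↥(Matrix.symplecticGroup (Fin 2) F)) (hφ : Function.Injective φ)
    (x : Matrix.SpecialLinearGroup (Fin 2) K) (hx : orderOf x = 3) :
    Module.finrank F ↥(LinearMap.ker (Matrix.toLin' ((φ x : Matrix (Fin 2 ⊕ Fin 2) (Fin 2 ⊕ Fin 2) F)) - LinearMap.id)) = 2 ∧
      ∀ v w : Fin 2 ⊕ Fin 2 → F, (φ x : Matrix (Fin 2 ⊕ Fin 2) (Fin 2 ⊕ Fin 2) F).mulVec v = v →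
        (φ x : Matrix (Fin 2 ⊕ Fin 2) (Fin 2 ⊕ Fin 2) F).mulVec w = w →
          dotProduct v ((Matrix.J (Fin 2) F).mulVec w) = 0 := by
  let V := Fin 2 ⊕ Fin 2 → F
  let T : Matrix.SpecialLinearGroup (Fin 2) K →* Module.End F V :=
    ((Matrix.toLinAlgEquiv' (R := F) (n := Fin 2 ⊕ Fin 2)).toMulEquiv.toMonoidHom).comp
      ((Submonoid.subtype (Matrix.symplecticGroup (Fin 2) F)).comp φ)
  have hTinj : Function.Injective T := by
    intro a b h
    exact hφ (Subtype.ext ((Matrix.toLinAlgEquiv' (R := F) (n := Fin 2 ⊕ Fin 2)).injective h))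
  have hT : ∀ g v, T g v = (φ g : Matrix (Fin 2 ⊕ Fin 2) (Fin 2 ⊕ Fin 2) F).mulVec v := fun g v => rfl
  have hTx : Matrix.toLin' ((φ x : Matrix (Fin 2 ⊕ Fin 2) (Fin 2 ⊕ Fin 2) F)) = T x :=
    LinearMap.ext fun v => rfl
  rw [hTx]
  change finrank F (LinearMap.ker (T x - 1)) = 2 ∧ _
  have hV : finrank F V = 4 := by simp [V]
  have h2K : (2 : K) ≠ 0 := H70.two_ne_zero_of_odd_card (by rw [hK]; decide)
  have h2F : (2 : F) ≠ 0 := H70.two_ne_zero_of_odd_card (by rw [hF]; decide)
  have h3F : (3 : F) = 0 := by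
    have := FiniteField.cast_card_eq_zero F
    rwa [hF] at this
  obtain ⟨g, hg, hxg⟩ := exists_inverter hK x hx
  have hgZ : ∀ v, T g (T g v) = T (-1) v := fun v => by rw [← Module.End.mul_apply, ← map_mul, hg]
  -- `T (-1) = -1`
  have hZ : ∀ v, T (-1) v = -v := by
    have hZZ : ∀ v, T (-1) (T (-1) v) = v := fun v => by
      rw [← Module.End.mul_apply, ← map_mul, neg_mul_neg, one_mul, map_one]; rfl
    let W : Submodule F V := LinearMap.ker (T (-1) + 1)
    have hW : ∀ v, v ∈ W ↔ T (-1) v = -v := fun v => by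
      simp [W, add_eq_zero_iff_eq_neg]
    have hWinv : ∀ a, ∀ u ∈ W, T a u ∈ W := fun a u hu => by
      rw [hW] at hu ⊢
      rw [← Module.End.mul_apply, ← map_mul, neg_one_mul, ← mul_neg_one, map_mul, Module.End.mul_apply, hu, map_neg]
    have heven := finrank_even hF (T g) W (hWinv g) (fun u hu => by rw [hgZ, (hW u).mp hu])
    have hle : finrank F W ≤ 4 := hV ▸ W.finrank_le
    have hne0 : finrank F W ≠ 0 := by
      intro h0
      rw [Submodule.finrank_eq_zero] at h0
      have hone : T (-1) = T 1 := by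
        refine LinearMap.ext fun v => ?_
        have : v - T (-1) v ∈ W := by rw [hW, map_sub, hZZ]; abel
        rw [h0, Submodule.mem_bot, sub_eq_zero] at this
        rw [map_one]; exact this.symm
      have := congrArg (fun z : Matrix.SpecialLinearGroup (Fin 2) K => orderOf z) (hTinj hone)
      simp only [H70.sl2_orderOf_neg_one h2K, orderOf_one] at this
      omega
    rcases (show finrank F W = 2 ∨ finrank F W = 4 by
      obtain ⟨k, hk⟩ := heven; omega) with h | h
    · exfalso
      let ρ : Matrix.SpecialLinearGroup (Fin 2) K →* Module.End F W :=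
        { toFun := fun a => (T a).restrict (hWinv a)
          map_one' := by ext u; simp
          map_mul' := fun a b => by ext u; simp }
      have : Finite (Module.End F W) := Finite.of_injective _ (algEquivMatrix (Module.finBasis F W)).injective
      have h1 := congrArg Units.val (no_hom_48 hK (card_units_end hF W h) ρ.toHomUnits)
      change ρ (-1) = 1 at h1
      apply hne0
      rw [Submodule.finrank_eq_zero, eq_bot_iff]
      intro u hu
      have h3 := congrArg (fun f : Module.End F W => ((f ⟨u, hu⟩ : W) : V)) h1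
      simp [ρ, (hW u).mp hu] at h3
      have h4 : (2 : F) • u = 0 := by
        rw [two_smul]; nth_rewrite 1 [← h3]; exact neg_add_cancel u
      exact (smul_eq_zero.mp h4).resolve_left h2F
    · have : W = ⊤ := Submodule.eq_top_of_finrank_eq (h.trans hV.symm)
      exact fun v => (hW v).mp (this ▸ Submodule.mem_top)
  have hgg : ∀ v, T g (T g v) = -v := fun v => (hgZ v).trans (hZ v)
  have hx3' : ∀ v, T x (T x (T x v)) = v := fun v => by
    rw [← Module.End.mul_apply, ← Module.End.mul_apply, ← map_mul, ← map_mul, ← pow_two, ← pow_succ]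
    have : x ^ (2 + 1) = 1 := by rw [show 2 + 1 = orderOf x by rw [hx], pow_orderOf_eq_one]
    rw [this, map_one]; rfl
  have hxi : ∀ v, T x⁻¹ v = T x (T x v) := fun v => by
    have : x⁻¹ = x * x := by
      apply inv_eq_of_mul_eq_one_right
      rw [← mul_assoc, ← pow_two, ← pow_succ, show 2 + 1 = orderOf x by rw [hx], pow_orderOf_eq_one]
    rw [this, map_mul]; rfl
  have hcomm : ∀ v, T x (T g v) = T g (T x (T x v)) := fun v => by
    rw [← hxi, ← Module.End.mul_apply, ← Module.End.mul_apply, ← map_mul, ← map_mul, hxg]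
  set N : Module.End F V := T x - 1 with hN
  have hNv : ∀ v, N v = T x v - v := fun v => rfl
  have hN3 : ∀ v, N (N (N v)) = 0 := fun v => by
    have e : N (N (N v)) = T x (T x (T x v)) - v - (3 : F) • (T x (T x v) - T x v) := by
      simp only [hNv, map_sub]
      rw [show (3 : F) = 2 + 1 by norm_num, add_smul, one_smul, two_smul]
      abel
    rw [e, hx3', sub_self, h3F, zero_smul, sub_zero]
  have hker_inv : ∀ u ∈ LinearMap.ker N, T g u ∈ LinearMap.ker N := fun u hu => by
    rw [LinearMap.mem_ker, hNv, sub_eq_zero] at hu ⊢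
    rw [hcomm, hu, hu]
  have hran_inv : ∀ u ∈ LinearMap.range N, T g u ∈ LinearMap.range N := by
    rintro _ ⟨v, rfl⟩
    have key : T g v = T x (T g (T x v)) := by rw [hcomm, hx3']
    refine ⟨-(T g (T x v)), ?_⟩
    rw [map_neg, hNv, hNv, ← key, map_sub]
    abel
  have hxne : T x ≠ 1 := fun h => by
    rw [← map_one T] at h
    rw [hTinj h, orderOf_one] at hx
    omega
  have hker_ne : finrank F (LinearMap.ker N) ≠ 0 := by
    intro h0
    rw [Submodule.finrank_eq_zero] at h0
    apply hxne
    refine LinearMap.ext fun v => ?_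
    have h1 : N (N v) = 0 := by
      have : N (N v) ∈ LinearMap.ker N := hN3 v
      rwa [h0, Submodule.mem_bot] at this
    have h2 : N v = 0 := by
      have : N v ∈ LinearMap.ker N := h1
      rwa [h0, Submodule.mem_bot] at this
    rwa [hNv, sub_eq_zero] at h2
  have hker_lt : finrank F (LinearMap.ker N) ≠ 4 := by
    intro h4
    apply hxne
    refine LinearMap.ext fun v => ?_
    have : v ∈ LinearMap.ker N := Submodule.eq_top_of_finrank_eq (h4.trans hV.symm) ▸ Submodule.mem_top
    rwa [LinearMap.mem_ker, hNv, sub_eq_zero] at this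
  have hk2 : finrank F (LinearMap.ker N) = 2 := by
    obtain ⟨k, hk⟩ := finrank_even hF (T g) _ hker_inv (fun u _ => hgg u)
    have : finrank F (LinearMap.ker N) ≤ 4 := hV ▸ Submodule.finrank_le _
    omega
  have hr2 : finrank F (LinearMap.range N) = 2 := by
    have := LinearMap.finrank_range_add_finrank_ker N
    omega
  refine ⟨hk2, ?_⟩
  -- the range equals the kernel
  have hI : LinearMap.range N ⊓ LinearMap.ker N = LinearMap.range N := by
    refine Submodule.eq_of_le_of_finrank_le inf_le_left ?_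
    rw [hr2]
    obtain ⟨k, hk⟩ := finrank_even hF (T g) (LinearMap.range N ⊓ LinearMap.ker N)
      (fun u hu => ⟨hran_inv u hu.1, hker_inv u hu.2⟩) (fun u _ => hgg u)
    rcases Nat.eq_zero_or_pos k with rfl | hpos
    · exfalso
      rw [add_zero, Submodule.finrank_eq_zero] at hk
      have hz : ∀ u, u ∈ LinearMap.range N → N u = 0 → u = 0 := fun u h1 h2 => by
        have : u ∈ LinearMap.range N ⊓ LinearMap.ker N := ⟨h1, h2⟩
        rwa [hk, Submodule.mem_bot] at this
      apply hxne
      refine LinearMap.ext fun v => ?_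
      have h1 : N (N v) = 0 := hz _ ⟨N v, rfl⟩ (hN3 v)
      have h2 : N v = 0 := hz _ ⟨v, rfl⟩ h1
      rwa [hNv, sub_eq_zero] at h2
    · omega
  have hrk : LinearMap.range N = LinearMap.ker N :=
    Submodule.eq_of_le_of_finrank_le (inf_eq_left.mp hI) (by rw [hr2, hk2])
  intro v w hv hw
  set A := (φ x : Matrix (Fin 2 ⊕ Fin 2) (Fin 2 ⊕ Fin 2) F) with hA
  obtain ⟨a, ha⟩ : v ∈ LinearMap.range N := by
    rw [hrk, LinearMap.mem_ker, hNv, hT, hv, sub_self]
  have hJ : Aᵀ * Matrix.J (Fin 2) F * A = Matrix.J (Fin 2) F := SymplecticGroup.mem_iff'.mp (φ x).2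
  rw [← ha, hNv, sub_dotProduct, hT]
  have : (A *ᵥ a) ⬝ᵥ (Matrix.J (Fin 2) F *ᵥ w) = a ⬝ᵥ (Matrix.J (Fin 2) F *ᵥ w) := by
    conv_lhs => rw [← hw]
    rw [dotProduct_comm, Matrix.dotProduct_mulVec, ← Matrix.mulVec_transpose, dotProduct_comm]
    simp only [Matrix.mulVec_mulVec, ← Matrix.mul_assoc, hJ]
  rw [this, sub_self]

end Cfsg.Agent.S3213
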