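import Cfsg.Statements.S3215
import Cfsg.Agent.H1.Cores
import Cfsg.Agent.H1.CoprimeAction2
import Cfsg.Agent.H1.Fitting
import Cfsg.Agent.H1.Hall
import Cfsg.Agent.H2.UniqueSubgroup
import Cfsg.Agent.H2.FPFSubgroup
import Cfsg.Agent.H8.Coprime
import Cfsg.Agent.H10.PSolvable
import Cfsg.Agent.H13.QuaternionSylow

set_option autoImplicit false
open Cfsg
open scoped commutatorElement

namespace Cfsg.Agent.S3215

section

variable {H : Type*} [Group H] [Finite H]

/-- An odd element commuting with an involution `t` commutes with `C_{O_2}(t)`, hence with `O_2`. -/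
theorem odd_centralizes_pCore (t x : H) (ht : orderOf t = 2) (hx : Odd (orderOf x))
    (htx : x * t = t * x)
    (hI : Cfsg.HasNormalPComplement 2 ↥(Subgroup.centralizer ({t} : Set H))) :
    x ∈ Subgroup.centralizer (Cfsg.pCore 2 H : Set H) := by
  haveI : Fact (Nat.Prime 2) := ⟨Nat.prime_two⟩
  haveI := H1.pCore_normal' 2 H
  set Y := Cfsg.pCore 2 H with hY
  set C := Subgroup.centralizer ({t} : Set H) with hC
  obtain ⟨P, N, hN, hNP⟩ := hI
  have hNodd : ¬ 2 ∣ Nat.card ↥N := by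
    rw [← hNP.index_eq_card]
    exact P.not_dvd_index
  have hNidx : N.index = Nat.card ↥(P : Subgroup ↥C) := hNP.symm.index_eq_card
  have hxC : x ∈ C := Subgroup.mem_centralizer_singleton_iff.mpr htx
  have hxN : (⟨x, hxC⟩ : ↥C) ∈ N := by
    rw [← QuotientGroup.eq_one_iff (N := N), ← orderOf_eq_one_iff]
    obtain ⟨k, hk⟩ := IsPGroup.iff_card.mp P.2
    refine Nat.eq_one_of_dvd_coprimes
      (Nat.Coprime.pow_left k (Nat.coprime_two_left.mpr hx)) ?_ ?_
    · rw [← hk, ← hNidx, Subgroup.index]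
      exact orderOf_dvd_natCard _
    · have h1 := orderOf_map_dvd (QuotientGroup.mk' N) (⟨x, hxC⟩ : ↥C)
      rwa [← Subgroup.orderOf_coe (⟨x, hxC⟩ : ↥C)] at h1
  have hR : (Y.subgroupOf C).Normal := inferInstance
  have hdisj : Disjoint N (Y.subgroupOf C) := by
    refine Subgroup.disjoint_of_coprime_natCard ?_
    have hp : IsPGroup 2 ↥(Y.subgroupOf C) := IsPGroup.comap_subtype (H1.isPGroup_pCore 2 H)
    obtain ⟨k, hk⟩ := IsPGroup.iff_card.mp hp
    rw [hk]
    exact Nat.Coprime.pow_right k (Nat.prime_two.coprime_iff_not_dvd.mpr hNodd).symm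
  have hcop : (Nat.card ↥(Subgroup.zpowers x)).Coprime 2 := by
    rw [Nat.card_zpowers]
    exact Nat.coprime_two_right.mpr hx
  have h := H1.thompson_P_times_Q (P := Subgroup.zpowers t) (Q := Subgroup.zpowers x) (U := Y)
    (IsPGroup.of_card (n := 1) (by rw [Nat.card_zpowers, ht, pow_one])) hcop
    (H1.isPGroup_pCore 2 H) (by
      rw [Subgroup.zpowers_le, Subgroup.mem_centralizer_iff]
      intro z hz
      obtain ⟨j, rfl⟩ := Subgroup.mem_zpowers_iff.mp hz
      exact (Commute.zpow_left htx j).eq)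
    (le_top.trans_eq (Subgroup.normalizer_eq_top_iff.mpr inferInstance).symm)
    (le_top.trans_eq (Subgroup.normalizer_eq_top_iff.mpr inferInstance).symm) (by
      intro y hy
      obtain ⟨hyY, hyt⟩ := Subgroup.mem_inf.mp hy
      have hyC : y ∈ C := Subgroup.mem_centralizer_singleton_iff.mpr
        (Subgroup.mem_centralizer_iff.mp hyt t (Subgroup.mem_zpowers t)).symm
      have h1 := Subgroup.commute_of_normal_of_disjoint _ _ hN hR hdisj ⟨x, hxC⟩ ⟨y, hyC⟩ hxN hyY
      rw [Subgroup.mem_centralizer_iff]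
      intro z hz
      obtain ⟨j, rfl⟩ := Subgroup.mem_zpowers_iff.mp hz
      exact (Commute.zpow_left (congrArg Subtype.val h1.eq : x * y = y * x) j).eq)
  exact h (Subgroup.mem_zpowers x)

end

/-- Let H be a finite solvable group with no nontrivial normal subgroup of odd order in which the centralizer of every involution has a normal 2-complement. Let X be a Hall 2'-subgroup of H (odd order, index a power of 2) and Y = O₂(H). Then no non-identity element of X commutes with a non-identity element of Y (so for X ≠ 1 the group XY is a Frobenius group with kernel Y), every Sylow subgroup of X is cyclic, XY is normal in H, and H/XY is a cyclic 2-group. -/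
theorem result {H : Type*} [Group H] [Finite H] (hsol : Group.IsSolvable H)
    (hO : Cfsg.oddCore H = ⊥)
    (hI : ∀ t : H, orderOf t = 2 → Cfsg.HasNormalPComplement 2 ↥(Subgroup.centralizer ({t} : Set H)))
    (X : Subgroup H) (hXodd : Odd (Nat.card X)) (hXidx : ∃ k : ℕ, X.index = 2 ^ k) :
    (∀ x ∈ X, x ≠ 1 → ∀ y ∈ Cfsg.pCore 2 H, y ≠ 1 → x * y ≠ y * x) ∧
      (∀ (p : ℕ) [Fact p.Prime] (P : Sylow p ↥X), IsCyclic ↥(P : Subgroup ↥X)) ∧
      (X ⊔ Cfsg.pCore 2 H).Normal ∧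
      ∀ hN : (X ⊔ Cfsg.pCore 2 H).Normal, IsCyclic (H ⧸ (X ⊔ Cfsg.pCore 2 H)) ∧ IsPGroup 2 (H ⧸ (X ⊔ Cfsg.pCore 2 H)) := by
  classical
  haveI : Fact (Nat.Prime 2) := ⟨Nat.prime_two⟩
  haveI := hsol
  haveI := H1.pCore_normal' 2 H
  set Y := Cfsg.pCore 2 H with hY
  have hYp : IsPGroup 2 ↥Y := H1.isPGroup_pCore 2 H
  have hcY : Subgroup.centralizer (Y : Set H) ≤ Y :=
    H10.centralizer_pCore_le (H10.isPSolvable_of_isSolvable (G := H) (p := 2)) hO
  have hXo : ∀ x ∈ X, Odd (orderOf x) := fun x hx => by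
    refine hXodd.of_dvd_nat ?_
    have := orderOf_dvd_natCard (⟨x, hx⟩ : ↥X)
    rwa [← Subgroup.orderOf_coe] at this
  have hXY : ∀ x ∈ X, x ∈ Y → x = 1 := fun x hx hxY => by
    obtain ⟨m, hm⟩ := hYp ⟨x, hxY⟩
    exact orderOf_eq_one_iff.mp (Nat.eq_one_of_dvd_coprimes
      ((Nat.coprime_two_right.mpr (hXo x hx)).pow_right m) dvd_rfl
      (orderOf_dvd_of_pow_eq_one (congrArg Subtype.val hm)))
  -- fixed-point-freeness
  have hfpf : ∀ x ∈ X, x ≠ 1 → ∀ y ∈ Y, y ≠ 1 → x * y ≠ y * x := by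
    intro x hx hx1 y hy hy1 hxy
    have h2 : 2 ∣ orderOf y := by
      obtain ⟨m, hm⟩ := IsPGroup.iff_orderOf.mp hYp ⟨y, hy⟩
      rw [← Subgroup.orderOf_coe] at hm
      rw [hm]
      refine dvd_pow_self 2 fun h0 => hy1 ?_
      subst h0
      exact orderOf_eq_one_iff.mp (by simpa using hm)
    have ht : orderOf (y ^ (orderOf y / 2)) = 2 :=
      orderOf_pow_orderOf_div (orderOf_pos y).ne' h2
    have h := odd_centralizes_pCore _ x ht (hXo x hx) (Commute.pow_right hxy _).eq (hI _ ht)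
    exact hx1 (hXY x hx (hcY h))
  have hfpf' : ∀ x ∈ X, x ≠ 1 → ∀ y ∈ Y, x * y = y * x → y = 1 := fun x hx hx1 y hy h => by
    by_contra hy1
    exact hfpf x hx hx1 y hy hy1 h
  refine ⟨hfpf, ?_⟩
  -- abelian subgroups of `X` are cyclic
  have hYne : ∀ x ∈ X, x ≠ 1 → Y ≠ ⊥ := fun x hx hx1 h => hx1 <| by
    have h1 : x ∈ Subgroup.centralizer (Y : Set H) := by
      rw [h, Subgroup.mem_centralizer_iff]
      intro z hz
      rw [SetLike.mem_coe, Subgroup.mem_bot] at hz
      rw [hz, one_mul, mul_one]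
    exact hXY x hx (hcY h1)
  have habel : ∀ A : Subgroup H, A ≤ X → IsMulCommutative ↥A → IsCyclic ↥A := by
    intro A hAX hA
    by_cases hA1 : A = ⊥
    · subst hA1; infer_instance
    obtain ⟨a, ha, ha1⟩ := (Subgroup.bot_or_exists_ne_one A).resolve_left hA1
    haveI : Nontrivial ↥Y := (Subgroup.nontrivial_iff_ne_bot Y).mpr (hYne a (hAX ha) ha1)
    set V := (Subgroup.center ↥Y).map Y.subtype with hV
    haveI : V.Normal := inferInstance
    haveI hVc : IsMulCommutative ↥V := ⟨⟨by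
      rintro ⟨_, u, hu, rfl⟩ ⟨_, v, hv, rfl⟩
      refine Subtype.ext ?_
      show (u : H) * (v : H) = (v : H) * (u : H)
      exact congrArg Subtype.val (Subgroup.mem_center_iff.mp hv u)⟩⟩
    have hVne : V ≠ ⊥ := by
      intro h
      rw [hV, Subgroup.map_eq_bot_iff_of_injective _ Y.subtype_injective] at h
      haveI := hYp.center_nontrivial
      exact (Subgroup.nontrivial_iff_ne_bot _).mp this h
    refine H2.isCyclic_of_fpf_subgroup A V
      (le_top.trans_eq (Subgroup.normalizer_eq_top_iff.mpr inferInstance).symm) hVne ?_ (Or.inl hA)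
    intro b hb hb1
    rw [eq_bot_iff]
    intro v hv
    obtain ⟨hvV, hvb⟩ := Subgroup.mem_inf.mp hv
    exact Subgroup.mem_bot.mpr (hfpf' b (hAX hb) hb1 v (Subgroup.map_subtype_le _ hvV)
      (Subgroup.mem_centralizer_singleton_iff.mp hvb).symm)
  have hcyc : ∀ (p : ℕ) [Fact p.Prime] (P : Sylow p ↥X), IsCyclic ↥(P : Subgroup ↥X) := by
    intro p _ P
    have hp : p.Prime := Fact.out
    by_cases hP1 : (P : Subgroup ↥X) = ⊥
    · rw [hP1]; infer_instance
    haveI : Nontrivial ↥(P : Subgroup ↥X) := (Subgroup.nontrivial_iff_ne_bot _).mpr hP1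
    haveI := P.2.center_nontrivial
    obtain ⟨n, hn0, hn⟩ :=
      (P.2.to_subgroup (Subgroup.center ↥(P : Subgroup ↥X))).nontrivial_iff_card.mp this
    obtain ⟨z, hz⟩ := exists_prime_orderOf_dvd_card' p (show p ∣ _ from hn ▸ dvd_pow_self p hn0.ne')
    have hz' : orderOf (z : ↥(P : Subgroup ↥X)) = p := by rw [Subgroup.orderOf_coe, hz]
    set ι : ↥(P : Subgroup ↥X) →* H := X.subtype.comp (P : Subgroup ↥X).subtype with hι
    have hιinj : Function.Injective ι :=
      X.subtype_injective.comp (Subgroup.subtype_injective _)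
    have key : ∀ K : Subgroup ↥(P : Subgroup ↥X), Nat.card ↥K = p →
        K = Subgroup.zpowers (z : ↥(P : Subgroup ↥X)) := by
      intro K hK
      set A := Subgroup.center ↥(P : Subgroup ↥X) ⊔ K with hA
      have hAc : IsMulCommutative ↥A := by
        haveI : Fact (Nat.card ↥K).Prime := ⟨by rw [hK]; exact hp⟩
        haveI : IsCyclic ↥K := isCyclic_of_prime_card (p := Nat.card ↥K) rfl
        refine ⟨⟨fun a b => Subtype.ext ?_⟩⟩
        obtain ⟨c, hc, k, hk, hck⟩ := Subgroup.mem_sup_of_normal_left.mp a.2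
        obtain ⟨d, hd, l, hl, hdl⟩ := Subgroup.mem_sup_of_normal_left.mp b.2
        have hkl : Commute k l := congrArg Subtype.val
          (IsCyclic.commGroup.mul_comm (⟨k, hk⟩ : ↥K) ⟨l, hl⟩)
        show (a : ↥(P : Subgroup ↥X)) * b = b * a
        rw [← hck, ← hdl]
        have hcd : Commute c d := Subgroup.mem_center_iff.mp hd c
        have hkd : Commute k d := Subgroup.mem_center_iff.mp hd k
        exact ((hcd.mul_right
          (Subgroup.mem_center_iff.mp hc l).symm).mul_left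
          (hkd.mul_right hkl)).eq
      have hAcyc : IsCyclic ↥A := by
        have hc := habel (A.map ι) (fun h hh => by
          obtain ⟨a, -, rfl⟩ := hh
          exact ((a : ↥(P : Subgroup ↥X)) : ↥X).2) ⟨⟨by
            rintro ⟨_, a, ha, rfl⟩ ⟨_, b, hb, rfl⟩
            refine Subtype.ext ?_
            show ι a * ι b = ι b * ι a
            rw [← map_mul, ← map_mul, show a * b = b * a from
              congrArg Subtype.val (hAc.is_comm.comm ⟨a, ha⟩ ⟨b, hb⟩)]⟩⟩
        exact (A.equivMapOfInjective ι hιinj).isCyclic.mpr hc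
      exact H13.eq_of_le_cyclic hAcyc le_sup_right
        (Subgroup.zpowers_le.mpr (Subgroup.mem_sup_left z.2)) (by rw [hK, Nat.card_zpowers, hz'])
    rcases H2.cyclic_or_quaternion_of_unique P.2
      (fun K L hK hL => (key K hK).trans (key L hL).symm) with h | ⟨hp2, -⟩
    · exact h
    · exfalso
      obtain ⟨m, hm⟩ := IsPGroup.iff_card.mp P.2
      have hm0 : m ≠ 0 := fun h => hP1 (Subgroup.card_eq_one.mp (by rw [hm, h, pow_zero]))
      have hd : p ∣ Nat.card ↥X := (hm ▸ dvd_pow_self p hm0 : p ∣ Nat.card ↥(P : Subgroup ↥X)).trans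
        (Subgroup.card_subgroup_dvd_card _)
      rw [hp2] at hd
      exact Nat.not_even_iff_odd.mpr hXodd (even_iff_two_dvd.mpr hd)
  refine ⟨hcyc, ?_⟩
  -- the quotient by `Y`
  set f := QuotientGroup.mk' Y with hf
  have hfs : Function.Surjective f := QuotientGroup.mk'_surjective Y
  set Xb := X.map f with hXb
  have hXbodd : Odd (Nat.card ↥Xb) := hXodd.of_dvd_nat (Subgroup.card_map_dvd X f)
  obtain ⟨k, hk⟩ := hXidx
  obtain ⟨j, -, hj⟩ := (Nat.dvd_prime_pow Nat.prime_two).mp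
    (hk ▸ Subgroup.index_map_dvd X hfs)
  haveI : IsZGroup ↥X := ⟨fun p hp P => by
    haveI : Fact p.Prime := ⟨hp⟩
    exact hcyc p P⟩
  haveI hXbZ : IsZGroup ↥Xb := IsZGroup.of_surjective (f.subgroupMap_surjective X)
  set F := Cfsg.fittingSubgroup (H ⧸ Y) with hFdef
  haveI := H1.fittingSubgroup_normal (H ⧸ Y)
  haveI hFnil := H1.isNilpotent_fittingSubgroup (H ⧸ Y)
  have hFodd : ¬ 2 ∣ Nat.card ↥F := by
    intro h2
    obtain ⟨S⟩ : Nonempty (Sylow 2 ↥F) := inferInstance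
    haveI hSn : (S : Subgroup ↥F).Normal := inferInstance
    haveI := S.characteristic_of_normal hSn
    have hle : (S : Subgroup ↥F).map F.subtype ≤ Cfsg.pCore 2 (H ⧸ Y) := H1.le_pCore (S.2.map _)
    rw [H10.pCore_quotient_pCore, le_bot_iff,
      Subgroup.map_eq_bot_iff_of_injective _ F.subtype_injective] at hle
    have := S.dvd_card_of_dvd_card h2
    rw [hle, Subgroup.card_bot] at this
    omega
  have hFX : F ≤ Xb := by
    refine H1.le_of_card_coprime (n := Xb.index) (Subgroup.card_mul_index Xb).symm ?_ ?_ rfl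
    · rw [hj]; exact Nat.Coprime.pow_right j (Nat.coprime_two_right.mpr hXbodd)
    · rw [hj]; exact Nat.Coprime.pow_right j (Nat.prime_two.coprime_iff_not_dvd.mpr hFodd).symm
  haveI : IsZGroup ↥F := IsZGroup.of_injective (Subgroup.inclusion_injective hFX)
  haveI : IsCyclic ↥F := inferInstance
  have hCF : Subgroup.centralizer (F : Set (H ⧸ Y)) ≤ F :=
    H1.centralizer_fitting_le_of_isSolvable inferInstance
  have hcomm : ∀ a b : H ⧸ Y, ⁅a, b⁆ ∈ F := by
    intro a b
    apply hCF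
    rw [Subgroup.mem_centralizer_iff]
    intro z hz
    have h1 : (MulAut.conjNormal (H := F) ⁅a, b⁆) = 1 := by
      rw [map_commutatorElement, commutatorElement_eq_one_iff_mul_comm]
      apply (IsCyclic.mulAutMulEquiv ↥F).injective
      rw [map_mul, map_mul, mul_comm]
    have h2 : (((MulAut.conjNormal (H := F) ⁅a, b⁆) ⟨z, hz⟩ : ↥F) : H ⧸ Y) = z := by rw [h1]; rfl
    rw [MulAut.conjNormal_apply] at h2
    exact (mul_inv_eq_iff_eq_mul.mp h2).symm
  haveI hXbn : Xb.Normal := ⟨fun a ha g => by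
    have h := mul_mem (hFX (hcomm g a)) ha
    rwa [commutatorElement_def, inv_mul_cancel_right] at h⟩
  have hsup : X ⊔ Y = Xb.comap f := by
    rw [hXb, Subgroup.comap_map_eq, QuotientGroup.ker_mk']
  have hXYn : (X ⊔ Y).Normal := hsup ▸ hXbn.comap f
  refine ⟨hXYn, fun hN => ?_⟩
  haveI := hN
  have hidx : (X ⊔ Y).index = Xb.index := by rw [hsup, Subgroup.index_comap_of_surjective _ hfs]
  have hQp : IsPGroup 2 (H ⧸ (X ⊔ Y)) :=
    IsPGroup.of_card (n := j) (hidx.trans hj)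
  refine ⟨?_, hQp⟩
  set π := QuotientGroup.mk' (X ⊔ Y) with hπ
  have hπf : ∀ h : H, π h = 1 ↔ f h ∈ Xb := fun h => by
    rw [hπ, QuotientGroup.mk'_apply, QuotientGroup.eq_one_iff, hsup, Subgroup.mem_comap]
  have hQcomm : ∀ a b : H ⧸ (X ⊔ Y), a * b = b * a := by
    intro a b
    obtain ⟨a, rfl⟩ := QuotientGroup.mk'_surjective _ a
    obtain ⟨b, rfl⟩ := QuotientGroup.mk'_surjective _ b
    rw [← commutatorElement_eq_one_iff_mul_comm, ← map_commutatorElement, ← hπ, hπf,
      map_commutatorElement]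
    exact hFX (hcomm _ _)
  -- involutions outside `Y` centralize nothing in `X` modulo `Y`
  have hclaim : ∀ s : H, f s ≠ 1 → f s ^ 2 = 1 → ∀ x ∈ X, x ≠ 1 → f s * f x ≠ f x * f s := by
    intro s hs1 hs2 x hx hx1 hsx
    have hsx' : s * x * s⁻¹ * x⁻¹ ∈ Y := by
      rw [← QuotientGroup.eq_one_iff]
      show f (s * x * s⁻¹ * x⁻¹) = 1
      rw [map_mul, map_mul, map_mul, map_inv, map_inv, hsx]
      group
    set g : ↥Y → ↥Y := fun y => ⟨(y : H) * (x * (y : H)⁻¹ * x⁻¹),
      mul_mem y.2 (Subgroup.Normal.conj_mem inferInstance _ (inv_mem y.2) x)⟩ with hg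
    have hginj : Function.Injective g := by
      intro y z h
      have h1 : (y : H) * (x * (y : H)⁻¹ * x⁻¹) = (z : H) * (x * (z : H)⁻¹ * x⁻¹) :=
        congrArg Subtype.val h
      refine Subtype.ext (inv_mul_eq_one.mp
        (hfpf' x hx hx1 ((z : H)⁻¹ * (y : H)) (mul_mem (inv_mem z.2) y.2) ?_)).symm
      calc x * ((z : H)⁻¹ * (y : H)) = x * (z : H)⁻¹ * x⁻¹ * (x * (y : H)) := by group
        _ = (z : H)⁻¹ * ((z : H) * (x * (z : H)⁻¹ * x⁻¹)) * (x * (y : H)) := by group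
        _ = (z : H)⁻¹ * ((y : H) * (x * (y : H)⁻¹ * x⁻¹)) * (x * (y : H)) := by rw [h1]
        _ = (z : H)⁻¹ * (y : H) * x := by group
    obtain ⟨y, hy⟩ := (Finite.surjective_of_injective hginj) ⟨_, hsx'⟩
    have hy' : (y : H) * (x * (y : H)⁻¹ * x⁻¹) = s * x * s⁻¹ * x⁻¹ := congrArg Subtype.val hy
    set t := (y : H)⁻¹ * s with ht
    have htx : t * x * t⁻¹ = x := by
      calc t * x * t⁻¹ = (y : H)⁻¹ * (s * x * s⁻¹ * x⁻¹) * (x * (y : H)) := by rw [ht]; group
        _ = (y : H)⁻¹ * ((y : H) * (x * (y : H)⁻¹ * x⁻¹)) * (x * (y : H)) := by rw [hy']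
        _ = x := by group
    have htx' : t * x = x * t := mul_inv_eq_iff_eq_mul.mp htx
    have hft : f t = f s := by
      rw [ht, map_mul, show f (y : H)⁻¹ = 1 from
        (QuotientGroup.eq_one_iff _).mpr (inv_mem y.2), one_mul]
    have ht2Y : t ^ 2 ∈ Y := by
      rw [← QuotientGroup.eq_one_iff]
      show f (t ^ 2) = 1
      rw [map_pow, hft, hs2]
    have ht2 : t ^ 2 = 1 :=
      hfpf' x hx hx1 _ ht2Y (Commute.pow_right (htx'.symm : x * t = t * x) 2).eq
    have ht1 : t ≠ 1 := fun h => hs1 (by rw [← hft, h, map_one])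
    have hord : orderOf t = 2 := orderOf_eq_prime ht2 ht1
    have hxc := odd_centralizes_pCore t x hord (hXo x hx) htx'.symm (hI t hord)
    exact hx1 (hXY x hx (hcY hxc))
  have hFne : ∀ q : H ⧸ Y, q ≠ 1 → F ≠ ⊥ := fun q hq h => hq <| by
    have h1 : q ∈ Subgroup.centralizer (F : Set (H ⧸ Y)) := by
      rw [h, Subgroup.mem_centralizer_iff]
      intro z hz
      rw [SetLike.mem_coe, Subgroup.mem_bot] at hz
      rw [hz, one_mul, mul_one]
    have h2 := hCF h1
    rwa [h, Subgroup.mem_bot] at h2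
  -- lift an involution of `H/XY`
  have hlift : ∀ g : H, π g ^ 2 = 1 → ∃ m : ℕ, π (g ^ (2 * m + 1)) = π g ∧
      f (g ^ (2 * m + 1)) ^ 2 = 1 := by
    intro g hg2
    have hodd : Odd (orderOf (f g ^ 2)) := by
      refine hXbodd.of_dvd_nat ?_
      have h1 : f g ^ 2 ∈ Xb := by
        rw [← map_pow, ← hπf, map_pow, hg2]
      have h2 := orderOf_dvd_natCard (⟨_, h1⟩ : ↥Xb)
      rwa [← Subgroup.orderOf_coe] at h2
    obtain ⟨m, hm⟩ := hodd
    refine ⟨m, ?_, ?_⟩
    · rw [map_pow, pow_add, pow_mul, hg2, one_pow, one_mul, pow_one]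
    · rw [map_pow, ← pow_mul, mul_comm, pow_mul, ← hm, pow_orderOf_eq_one]
  by_cases htriv : ∀ q : H ⧸ (X ⊔ Y), q = 1
  · haveI : Subsingleton (H ⧸ (X ⊔ Y)) := ⟨fun a b => (htriv a).trans (htriv b).symm⟩
    infer_instance
  push Not at htriv
  obtain ⟨q0, hq0⟩ := htriv
  obtain ⟨g0, rfl⟩ := QuotientGroup.mk'_surjective _ q0
  obtain ⟨e, he, he1⟩ := (Subgroup.bot_or_exists_ne_one F).resolve_left
    (hFne (f g0) fun h => hq0 ((hπf g0).mpr (by rw [h]; exact one_mem _)))
  -- every involution of `H/Y` outside inverts `e`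
  have hinv : ∀ s : H, f s ≠ 1 → f s ^ 2 = 1 → f s * e * (f s)⁻¹ = e⁻¹ := by
    intro s hs1 hs2
    set e' := f s * e * (f s)⁻¹ with he'
    have heF : e' ∈ F := Subgroup.Normal.conj_mem inferInstance e he _
    by_contra hne
    have hprod : e * e' ≠ 1 := fun h => hne (eq_inv_of_mul_eq_one_right h)
    obtain ⟨x, hx, hxe⟩ := hFX (mul_mem he heF)
    refine hclaim s hs1 hs2 x hx (fun h => hprod (by rw [← hxe, h, map_one])) ?_
    have h2 : f s * e' * (f s)⁻¹ = e := by
      calc f s * e' * (f s)⁻¹ = f s ^ 2 * e * (f s ^ 2)⁻¹ := by rw [he', sq]; group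
        _ = e := by rw [hs2]; group
    have hcomm' : e * e' = e' * e := congrArg Subtype.val
      (IsCyclic.commGroup.mul_comm (⟨e, he⟩ : ↥F) ⟨e', heF⟩)
    rw [hxe]
    calc f s * (e * e') = f s * e * (f s)⁻¹ * (f s * e' * (f s)⁻¹) * f s := by group
      _ = e' * e * f s := by rw [← he', h2]
      _ = e * e' * f s := by rw [hcomm']
  letI : CommGroup (H ⧸ (X ⊔ Y)) :=
    { (inferInstance : Group (H ⧸ (X ⊔ Y))) with mul_comm := hQcomm }
  refine H2.isCyclic_of_pow_ker_le hQp ?_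
  by_contra hgt
  set K := (powMonoidHom 2 : H ⧸ (X ⊔ Y) →* H ⧸ (X ⊔ Y)).ker with hK
  haveI : Nontrivial ↥K := Finite.one_lt_card_iff_nontrivial.mp (by omega)
  obtain ⟨u, hu⟩ := exists_ne (1 : ↥K)
  obtain ⟨v, hv1, hvu⟩ : ∃ v : ↥K, v ≠ 1 ∧ v ≠ u := by
    by_contra h
    push Not at h
    apply hgt
    have hsurj : Function.Surjective (fun i : Fin 2 => if i = 0 then (1 : ↥K) else u) := by
      intro w
      by_cases hw : w = 1
      · exact ⟨0, by simp [hw]⟩
      · exact ⟨1, by simp [h w hw]⟩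
    exact (Nat.card_le_card_of_surjective _ hsurj).trans (by simp)
  have huu : (u : H ⧸ (X ⊔ Y)) ^ 2 = 1 := u.2
  have hvv : (v : H ⧸ (X ⊔ Y)) ^ 2 = 1 := v.2
  obtain ⟨a, ha⟩ := QuotientGroup.mk'_surjective _ (u : H ⧸ (X ⊔ Y))
  obtain ⟨b, hb⟩ := QuotientGroup.mk'_surjective _ (v : H ⧸ (X ⊔ Y))
  obtain ⟨ma, hma, hma2⟩ := hlift a (by rw [hπ, ha, huu])
  obtain ⟨mb, hmb, hmb2⟩ := hlift b (by rw [hπ, hb, hvv])
  set sa := a ^ (2 * ma + 1)
  set sb := b ^ (2 * mb + 1)
  have hne : ∀ s : H, π s ≠ 1 → f s ≠ 1 := fun s hs h => hs ((hπf s).mpr (by rw [h]; exact one_mem _))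
  have hua : π sa = u := hma.trans ha
  have hvb : π sb = v := hmb.trans hb
  have ia := hinv sa (hne _ (by rw [hua]; exact fun h => hu (Subtype.ext h))) hma2
  have ib := hinv sb (hne _ (by rw [hvb]; exact fun h => hv1 (Subtype.ext h))) hmb2
  have hπab : π (sa * sb) = (u : H ⧸ (X ⊔ Y)) * v := by rw [map_mul, hua, hvb]
  have hab1 : π (sa * sb) ≠ 1 := by
    rw [hπab]
    intro h
    have h3 : (u : H ⧸ (X ⊔ Y)) * u = 1 := by rw [← sq, huu]
    exact hvu (Subtype.ext (mul_left_cancel (h.trans h3.symm)))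
  obtain ⟨mc, hmc, hmc2⟩ := hlift (sa * sb) (by rw [hπab, mul_pow, huu, hvv, one_mul])
  obtain ⟨x, hx, hxe⟩ := hFX he
  refine hclaim _ (hne _ (hmc.symm ▸ hab1)) hmc2 x hx (fun h => he1 (by rw [← hxe, h, map_one])) ?_
  rw [map_pow, hxe]
  refine (Commute.pow_left ?_ _).eq
  show f (sa * sb) * e = e * f (sa * sb)
  rw [← mul_inv_eq_iff_eq_mul, map_mul]
  calc f sa * f sb * e * (f sa * f sb)⁻¹ = f sa * (f sb * e * (f sb)⁻¹) * (f sa)⁻¹ := by group
    _ = (f sa * e * (f sa)⁻¹)⁻¹ := by rw [ib]; group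
    _ = e := by rw [ia, inv_inv]
end Cfsg.Agent.S3215
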