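import Cfsg.Statements.S3222
import Cfsg.Agent.H70.S6Classify
-- import your own Cfsg.Agent.* helpers here

set_option autoImplicit false
open Cfsg

namespace Cfsg.Agent.S3222

/-- Let G be a finite group of even order such that (1) some involution t lying in the centre of a Sylow 2-subgroup of G has C_G(t) ≅ Z₂ × S₄, and (2) every Sylow 2-subgroup S of G satisfies C_G(S′) = S, where S′ is the derived subgroup of S. Then G = C_G(t) if G is solvable, and G ≅ S₆ otherwise. -/
theorem result {G : Type*} [Group G] [Finite G] (hev : Even (Nat.card G))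
    (t : G) (ht : orderOf t = 2) (T : Sylow 2 G) (htT : t ∈ (T : Subgroup G)) (htc : ∀ s ∈ (T : Subgroup G), s * t = t * s)
    (e : ↥(Subgroup.centralizer ({t} : Set G)) ≃* (Multiplicative (ZMod 2) × Equiv.Perm (Fin 4)))
    (h2 : ∀ S : Sylow 2 G, Subgroup.centralizer ((⁅(S : Subgroup G), (S : Subgroup G)⁆ : Subgroup G) : Set G) = (S : Subgroup G)) :
    (Group.IsSolvable G → Subgroup.centralizer ({t} : Set G) = ⊤) ∧
      (¬ Group.IsSolvable G → Nonempty (G ≃* Equiv.Perm (Fin 6))) := by
  classical
  haveI : Fact (Nat.Prime 2) := ⟨Nat.prime_two⟩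
  set C := Subgroup.centralizer ({t} : Set G) with hC
  let ι : H70.S6.M →* G := C.subtype.comp e.symm.toMonoidHom
  have hι : Function.Injective ι := C.subtype_injective.comp e.symm.injective
  have hrange : ι.range = C := by
    ext x
    constructor
    · rintro ⟨m, rfl⟩; exact (e.symm m).2
    · exact fun hx => ⟨e ⟨x, hx⟩, congrArg Subtype.val (e.symm_apply_apply ⟨x, hx⟩)⟩
  have htC : t ∈ C := Subgroup.mem_centralizer_singleton_iff.mpr rfl
  have ht0 : ι H70.S6.T0 = t := by
    rcases H70.S6.center_T0 (e ⟨t, htC⟩) (fun n => by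
      obtain ⟨c, rfl⟩ := e.surjective n
      rw [← map_mul, ← map_mul]
      exact congrArg e (Subtype.ext (Subgroup.mem_centralizer_singleton_iff.mp c.2))) with h | h
    · rw [e.map_eq_one_iff] at h
      have h' : t = 1 := congrArg Subtype.val h
      rw [h', orderOf_one] at ht
      omega
    · rw [← h]
      exact congrArg Subtype.val (e.symm_apply_apply ⟨t, htC⟩)
  have hC48 : Nat.card C = 48 := by
    rw [Nat.card_congr e.toEquiv, Nat.card_eq_fintype_card, H70.S6.card_M]
  have hTC : (T : Subgroup G) ≤ C := fun s hs =>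
    Subgroup.mem_centralizer_singleton_iff.mpr (htc s hs)
  have hT16 : Nat.card (T : Subgroup G) = 16 := by
    obtain ⟨k, hk⟩ := T.2.exists_card_eq
    have h1 := ((T : Subgroup G).subgroupOf C).card_mul_index
    rw [Nat.card_congr (Subgroup.subgroupOfEquivOfLe hTC).toEquiv, hC48, hk] at h1
    have h2' : Odd ((T : Subgroup G).subgroupOf C).index := by
      have h : Odd (T : Subgroup G).index := by
        rw [← Nat.not_even_iff_odd, even_iff_two_dvd]
        exact T.not_dvd_index
      refine h.of_dvd_nat ?_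
      rw [← Subgroup.relIndex_mul_index hTC]
      exact dvd_mul_right _ _
    have h3 : 2 ^ k ≤ 48 := Nat.le_of_dvd (by norm_num) (h1 ▸ dvd_mul_right _ _)
    have hk5 : k ≤ 5 := by
      by_contra h
      push Not at h
      have : 2 ^ 6 ≤ 2 ^ k := Nat.pow_le_pow_right (by norm_num) h
      omega
    obtain ⟨d, hd⟩ := h2'
    rw [hk]
    interval_cases k <;> omega
  set S0 := (Subgroup.centralizer ({H70.S6.Z0} : Set H70.S6.M)).map ι with hS0
  have hS16 : Nat.card S0 = 16 := by
    rw [hS0, H70.S6.card_map_eq ι hι, H70.S6.card_subgroup_eq _ (fun m => m * H70.S6.Z0 = H70.S6.Z0 * m)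
      (fun m => Subgroup.mem_centralizer_singleton_iff), H70.S6.card_centralizer_Z0]
  obtain ⟨S, hS⟩ := (IsPGroup.of_card (n := 4) (hS16.trans (by norm_num)) : IsPGroup 2 S0).exists_le_sylow
  have hSeq : (S : Subgroup G) = S0 := by
    refine (Subgroup.eq_of_le_of_card_ge hS ?_).symm
    rw [hS16, ← hT16, S.card_eq_multiplicity, ← T.card_eq_multiplicity]
  have hcz : Subgroup.centralizer ({ι H70.S6.Z0} : Set G) = S0 := by
    refine le_antisymm ?_ ?_
    · rw [← hSeq, ← h2 S, hSeq]
      intro x hx
      rw [Subgroup.mem_centralizer_iff]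
      intro y hy
      have hle : ⁅S0, S0⁆ ≤ Subgroup.centralizer ({x} : Set G) := by
        rw [Subgroup.commutator_le]
        rintro _ ⟨m, hm, rfl⟩ _ ⟨n, hn, rfl⟩
        rw [commutatorElement_def, ← map_inv, ← map_inv, ← map_mul, ← map_mul, ← map_mul]
        rcases H70.S6.commutator_Z0 m n (Subgroup.mem_centralizer_singleton_iff.mp hm)
            (Subgroup.mem_centralizer_singleton_iff.mp hn) with h | h
        · rw [h, map_one]; exact one_mem _
        · rw [h]
          exact Subgroup.mem_centralizer_singleton_iff.mpr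
            (Subgroup.mem_centralizer_singleton_iff.mp hx).symm
      exact Subgroup.mem_centralizer_singleton_iff.mp (hle hy)
    · rintro _ ⟨m, hm, rfl⟩
      rw [Subgroup.mem_centralizer_singleton_iff, ← map_mul, ← map_mul,
        Subgroup.mem_centralizer_singleton_iff.mp hm]
  have hodd : Odd S0.index := by
    rw [← hSeq, ← Nat.not_even_iff_odd, even_iff_two_dvd]
    exact S.not_dvd_index
  have hc : H70.S6.Config ι := ⟨hι, by rw [hrange, ht0], hcz, hodd⟩
  rcases H70.S6.classify hc with ⟨h, hs⟩ | ⟨hns, he⟩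
  · exact ⟨fun _ => by rw [hC, ← ht0]; exact h, fun h' => absurd hs h'⟩
  · exact ⟨fun h' => absurd h' hns, fun _ => he⟩

end Cfsg.Agent.S3222
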