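import Cfsg.Statements.S3225
import Mathlib.GroupTheory.Transfer
import Mathlib.GroupTheory.Index
import Mathlib.GroupTheory.Sylow
import Mathlib.Algebra.Ring.Parity

set_option autoImplicit false
open Cfsg

namespace Cfsg.Agent.S3225

/-- Let G be a finite group of even order with no subgroup of index 2, S a Sylow 2-subgroup of G and M a subgroup of index 2 in S such that, for some n ≥ 1, every element of S outside M has order greater than 2^(n−1). Then every element of S of order 2ⁿ is conjugate in G to an element of M. -/
theorem result {G : Type*} [Group G] [Finite G] (hev : Even (Nat.card G))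
    (hG : ∀ H : Subgroup G, H.index ≠ 2) (S : Sylow 2 G) (M : Subgroup G) (hMS : M ≤ (S : Subgroup G)) (hM : M.relIndex (S : Subgroup G) = 2)
    (n : ℕ) (hn : 1 ≤ n) (hord : ∀ y ∈ (S : Subgroup G), y ∉ M → 2 ^ (n - 1) < orderOf y)
    (x : G) (hx : x ∈ (S : Subgroup G)) (hxn : orderOf x = 2 ^ n) :
    ∃ g : G, g * x * g⁻¹ ∈ M := by
  by_contra hne
  push Not at hne
  classical
  have : Fact (Nat.Prime 2) := ⟨Nat.prime_two⟩
  let M' := M.subgroupOf (S : Subgroup G)
  have hM' : M'.index = 2 := hM
  let φ : ↥(S : Subgroup G) →* ℤˣ :=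
    { toFun := fun s => if s ∈ M' then 1 else -1
      map_one' := by simp
      map_mul' := fun a b => by
        by_cases ha : a ∈ M' <;> by_cases hb : b ∈ M' <;> simp [Subgroup.mul_mem_iff_of_index_two hM', ha, hb] }
  have hV : MonoidHom.transfer φ x = -1 := by
    let Ω := Quotient (MulAction.orbitRel (Subgroup.zpowers x) (G ⧸ (S : Subgroup G)))
    have : Fintype Ω := Fintype.ofFinite _
    rw [MonoidHom.transfer_eq_prod_quotient_orbitRel_zpowers_quot]
    set per : Ω → ℕ := fun q => Function.minimalPeriod (x • ·) q.out with hper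
    have hdvd : ∀ q : Ω, per q ∣ 2 ^ n := by
      intro q
      rw [← hxn]
      apply Function.IsPeriodicPt.minimalPeriod_dvd
      show (x • ·)^[orderOf x] q.out = q.out
      rw [smul_iterate, pow_orderOf_eq_one]
      exact one_smul G _
    have hterm : ∀ q : Ω, φ ⟨q.out.out⁻¹ * x ^ Function.minimalPeriod (x • ·) q.out * q.out.out,
        QuotientGroup.out_conj_pow_minimalPeriod_mem (S : Subgroup G) x q.out⟩ = (-1 : ℤˣ) ^ per q := by
      intro q
      obtain ⟨i, hi, hi2⟩ := (Nat.dvd_prime_pow Nat.prime_two).mp (hdvd q)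
      simp only [φ, MonoidHom.coe_mk, OneHom.coe_mk, M', Subgroup.mem_subgroupOf]
      rcases i with - | i
      · have h1 : per q = 1 := by simpa using hi2
        have hp : Function.minimalPeriod (x • ·) q.out = 1 := h1
        rw [h1, pow_one, if_neg]
        intro hm
        rw [hp, pow_one] at hm
        exact hne q.out.out⁻¹ (by simpa using hm)
      · have heven : Even (per q) := ⟨2 ^ i, by rw [hi2, pow_succ, mul_two]⟩
        rw [heven.neg_one_pow, if_pos]
        by_contra hy
        have hlt := hord _ (QuotientGroup.out_conj_pow_minimalPeriod_mem (S : Subgroup G) x q.out) hy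
        have hord' : orderOf (q.out.out⁻¹ * x ^ per q * q.out.out) = orderOf (x ^ per q) := by
          have := MulEquiv.orderOf_eq (MulAut.conj (q.out.out⁻¹)) (x ^ per q)
          simpa using this
        change 2 ^ (n - 1) < orderOf (q.out.out⁻¹ * x ^ per q * q.out.out) at hlt
        rw [hord', orderOf_pow_of_dvd (by rw [hi2]; positivity) (hxn ▸ hdvd q), hxn, hi2] at hlt
        have : 2 ^ n / 2 ^ (i + 1) ≤ 2 ^ (n - 1) := by
          rw [Nat.pow_div hi (by omega)]
          exact Nat.pow_le_pow_right (by omega) (by omega)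
        omega
    rw [Finset.prod_congr rfl (fun q _ => hterm q), Finset.prod_pow_eq_pow_sum]
    have hsum : (∑ q : Ω, per q) = (S : Subgroup G).index := by
      rw [Subgroup.index_eq_sum_minimalPeriod (S : Subgroup G) x]
    rw [hsum]
    have hodd : Odd (S : Subgroup G).index := by
      rw [← Nat.not_even_iff_odd, even_iff_two_dvd]; exact S.not_dvd_index
    exact hodd.neg_one_pow
  have hsurj : Function.Surjective (MonoidHom.transfer φ) := by
    intro u
    rcases Int.units_eq_one_or u with rfl | rfl
    · exact ⟨1, map_one _⟩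
    · exact ⟨x, hV⟩
  apply hG (MonoidHom.transfer φ).ker
  rw [Subgroup.index_ker, MonoidHom.range_eq_top.mpr hsurj, Subgroup.card_top, Nat.card_eq_fintype_card]
  rfl

end Cfsg.Agent.S3225
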