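import Cfsg.Statements.S3244
import Cfsg.Agent.H70.CharTwoEarly
-- import your own Cfsg.Agent.* helpers here

set_option autoImplicit false
open Cfsg

namespace Cfsg.Agent.S3244

/-- A central 2-element of a core-free constrained group lies in the centre of the 2-core. -/
theorem mem_pCore_of_central {G : Type*} [Group G] [Finite G] {M : Subgroup G}
    (hc : Cfsg.IsPConstrained 2 ↥M) (hO : Cfsg.pPrimeCore 2 ↥M = ⊥) (T : Sylow 2 ↥M) {y : ↥M}
    (hyc : ∀ t ∈ (T : Subgroup ↥M), t * y = y * t) :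
    y ∈ Cfsg.pCore 2 ↥M ∧ ∀ t ∈ Cfsg.pCore 2 ↥M, t * y = y * t := by
  haveI : Fact (Nat.Prime 2) := ⟨Nat.prime_two⟩
  have hcs : H11.CoreSelfCentralizing 2 ↥M :=
    (H11.isPConstrained_iff_of_hom (MonoidHom.id ↥M) Function.surjective_id
      (by rw [hO]; exact (MonoidHom.ker_eq_bot_iff _).mpr Function.injective_id)).mp hc
  have hcomm : ∀ t ∈ Cfsg.pCore 2 ↥M, t * y = y * t := fun t ht => hyc t (H1.pCore_le_sylow T ht)
  exact ⟨hcs (Subgroup.mem_centralizer_iff.mpr hcomm), hcomm⟩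

/-- In a group whose 2-core has cyclic centre there is at most one involution in it. -/
theorem unique_central {M : Type*} [Group M] [Finite M]
    (hcyc : IsCyclic ↥(Subgroup.center ↥(Cfsg.pCore 2 M))) {a b : M}
    (ha : orderOf a = 2) (hb : orderOf b = 2)
    (haP : a ∈ Cfsg.pCore 2 M ∧ ∀ t ∈ Cfsg.pCore 2 M, t * a = a * t)
    (hbP : b ∈ Cfsg.pCore 2 M ∧ ∀ t ∈ Cfsg.pCore 2 M, t * b = b * t) : a = b := by
  classical
  haveI := hcyc
  haveI : Fintype ↥(Subgroup.center ↥(Cfsg.pCore 2 M)) := Fintype.ofFinite _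
  by_contra hab
  set a' : ↥(Subgroup.center ↥(Cfsg.pCore 2 M)) :=
    ⟨⟨a, haP.1⟩, Subgroup.mem_center_iff.mpr fun t => Subtype.ext (haP.2 t t.2)⟩
  set b' : ↥(Subgroup.center ↥(Cfsg.pCore 2 M)) :=
    ⟨⟨b, hbP.1⟩, Subgroup.mem_center_iff.mpr fun t => Subtype.ext (hbP.2 t t.2)⟩
  have h1 := IsCyclic.card_pow_eq_one_le (α := ↥(Subgroup.center ↥(Cfsg.pCore 2 M))) (n := 2)
    two_pos
  have hne : a ≠ 1 ∧ b ≠ 1 := by
    constructor <;> rintro rfl
    · rw [orderOf_one] at ha; omega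
    · rw [orderOf_one] at hb; omega
  have h2 : ({1, a', b'} : Finset _) ⊆ Finset.univ.filter fun x => x ^ 2 = 1 := by
    intro x hx
    simp only [Finset.mem_insert, Finset.mem_singleton] at hx
    refine Finset.mem_filter.mpr ⟨Finset.mem_univ _, ?_⟩
    rcases hx with rfl | rfl | rfl
    · exact one_pow 2
    · exact Subtype.ext (Subtype.ext (by
        show a ^ 2 = 1
        rw [← ha, pow_orderOf_eq_one]))
    · exact Subtype.ext (Subtype.ext (by
        show b ^ 2 = 1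
        rw [← hb, pow_orderOf_eq_one]))
  have h3 : ({1, a', b'} : Finset _).card = 3 := Finset.card_eq_three.mpr
    ⟨1, a', b', fun h => hne.1 (congrArg (fun x => ((x.1 : ↥(Cfsg.pCore 2 M)) : M)) h).symm,
      fun h => hne.2 (congrArg (fun x => ((x.1 : ↥(Cfsg.pCore 2 M)) : M)) h).symm,
      fun h => hab (congrArg (fun x => ((x.1 : ↥(Cfsg.pCore 2 M)) : M)) h), rfl⟩
  have h4 := Finset.card_le_card h2
  omega


/-- Say that a finite group G is of characteristic 2 type in the early sense when a Sylow 2-subgroup S of G has a self-centralizing normal subgroup of rank at least 3, S normalizes no nontrivial subgroup of odd order, and every 2-local subgroup of G is 2-constrained. If G is a non-abelian simple group of characteristic 2 type in this sense, then for some maximal 2-local subgroup M of G the centre of O₂(M) is not cyclic. -/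
theorem result {G : Type*} [Group G] [Finite G] [IsSimpleGroup G]
    (hG : ¬ IsMulCommutative G) (S : Sylow 2 G) (A : Subgroup G) (hA : Cfsg.IsSCN (S : Subgroup G) A) (hA3 : ¬ Cfsg.PRankLE 2 2 ↥A)
    (hinv : ∀ X : Subgroup G, Odd (Nat.card ↥X) → (S : Subgroup G) ≤ Subgroup.normalizer (X : Set G) → X = ⊥)
    (hcon : ∀ T : Subgroup G, IsPGroup 2 ↥T → T ≠ ⊥ → Cfsg.IsPConstrained 2 ↥(Subgroup.normalizer (T : Set G))) :
    ∃ M : Subgroup G, Cfsg.IsMaximalTwoLocal M ∧ ¬ IsCyclic ↥(Subgroup.center ↥(Cfsg.pCore 2 ↥M)) := by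
  classical
  haveI : Fact (Nat.Prime 2) := ⟨Nat.prime_two⟩
  obtain ⟨E, hES, hE8, hEc, hE2, hEn⟩ := H70.CharTwoEarly.exists_normal_eight S A hA hA3
  by_contra hcon'
  push Not at hcon'
  have hmax : ∀ T : Subgroup G, IsPGroup 2 T → T ≠ ⊥ →
      ∃ M, Subgroup.normalizer (T : Set G) ≤ M ∧ Cfsg.IsMaximalTwoLocal M := by
    intro T hT hT1
    obtain ⟨M, hle, hM⟩ := (Set.toFinite {M : Subgroup G | Cfsg.IsTwoLocal M}).exists_le_maximal
      (show Subgroup.normalizer (T : Set G) ∈ {M : Subgroup G | Cfsg.IsTwoLocal M} from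
        ⟨T, hT, hT1, rfl⟩)
    exact ⟨M, hle, hM.prop, fun N hN hMN => (hM.eq_of_le hN hMN).symm⟩
  have hlocc : ∀ M : Subgroup G, Cfsg.IsTwoLocal M → Cfsg.IsPConstrained 2 ↥M := by
    rintro _ ⟨T, hT, hT1, rfl⟩
    exact hcon T hT hT1
  have hSne : (S : Subgroup G) ≠ ⊥ := fun h => by
    have := Subgroup.card_le_of_le hES
    rw [hE8, h, Subgroup.card_bot] at this
    omega
  -- uniqueness of the involution of `Z(S)`
  obtain ⟨M₀, hNM₀, hM₀⟩ := hmax _ S.2 hSne
  have hSM₀ : (S : Subgroup G) ≤ M₀ := Subgroup.le_normalizer.trans hNM₀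
  have hO₀ : Cfsg.pPrimeCore 2 ↥M₀ = ⊥ := by
    have h := hinv ((Cfsg.pPrimeCore 2 ↥M₀).map M₀.subtype) ?_ ?_
    · exact (Subgroup.map_eq_bot_iff_of_injective _ M₀.subtype_injective).mp h
    · rw [Subgroup.card_map_of_injective M₀.subtype_injective]
      exact Nat.coprime_two_right.mp (H1.card_pPrimeCore_coprime 2 ↥M₀)
    · refine hSM₀.trans ?_
      have h1 := Subgroup.le_normalizer_map M₀.subtype (H := Cfsg.pPrimeCore 2 ↥M₀)
      rw [Subgroup.normalizer_eq_top_iff.mpr (H1.pPrimeCore_normal' 2 _), ← MonoidHom.range_eq_map,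
        Subgroup.range_subtype] at h1
      exact h1
  have huniq : ∀ a b : G, orderOf a = 2 → orderOf b = 2 →
      (a ∈ (S : Subgroup G) ∧ ∀ s ∈ (S : Subgroup G), s * a = a * s) →
      (b ∈ (S : Subgroup G) ∧ ∀ s ∈ (S : Subgroup G), s * b = b * s) → a = b := by
    intro a b ha hb haS hbS
    have hlift : ∀ c : G, (hc : c ∈ (S : Subgroup G)) → (∀ s ∈ (S : Subgroup G), s * c = c * s) →
        ((⟨c, hSM₀ hc⟩ : ↥M₀) ∈ Cfsg.pCore 2 ↥M₀ ∧
          ∀ t ∈ Cfsg.pCore 2 ↥M₀, t * ⟨c, hSM₀ hc⟩ = ⟨c, hSM₀ hc⟩ * t) := fun c hc hcS =>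
      mem_pCore_of_central (hlocc _ hM₀.1) hO₀ (S.subtype hSM₀) fun t ht =>
        Subtype.ext (hcS t ht)
    exact congrArg Subtype.val (unique_central (hcon' M₀ hM₀)
      ((Subgroup.orderOf_mk _ _).trans ha) ((Subgroup.orderOf_mk _ _).trans hb)
      (hlift a haS.1 haS.2) (hlift b hbS.1 hbS.2))
  -- the involution `z`
  obtain ⟨z, hz2, hzS, hzc⟩ : ∃ z, orderOf z = 2 ∧ z ∈ (S : Subgroup G) ∧
      ∀ s ∈ (S : Subgroup G), s * z = z * s := by
    haveI : Nontrivial ↥(S : Subgroup G) := (Subgroup.nontrivial_iff_ne_bot _).mpr hSne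
    haveI : Nontrivial ↥(Subgroup.center ↥(S : Subgroup G)) := S.2.center_nontrivial
    obtain ⟨k, hk⟩ := (S.2.to_subgroup (Subgroup.center ↥(S : Subgroup G))).exists_card_eq
    have hk0 : k ≠ 0 := by
      rintro rfl
      rw [pow_zero] at hk
      exact absurd hk Finite.one_lt_card.ne'
    obtain ⟨c, hc⟩ := exists_prime_orderOf_dvd_card' 2 (hk ▸ dvd_pow_self 2 hk0)
    exact ⟨((c : ↥(S : Subgroup G)) : G), by rw [Subgroup.orderOf_coe, Subgroup.orderOf_coe, hc],
      (c : ↥(S : Subgroup G)).2,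
      fun s hs => congrArg Subtype.val (Subgroup.mem_center_iff.mp c.2 ⟨s, hs⟩)⟩
  set Cz := Subgroup.centralizer ({z} : Set G) with hCz
  have hSC : (S : Subgroup G) ≤ Cz := fun s hs =>
    Subgroup.mem_centralizer_singleton_iff.mpr (hzc s hs)
  have hconjord : ∀ g x : G, orderOf x = 2 → orderOf (g * x * g⁻¹) = 2 := fun g x hx => by
    rw [show g * x * g⁻¹ = MulAut.conj g x from rfl, MulEquiv.orderOf_eq, hx]
  have hcconj : ∀ c ∈ Cz, c * z * c⁻¹ = z := fun c hc => by
    rw [Subgroup.mem_centralizer_singleton_iff.mp hc, mul_inv_cancel_right]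
  -- a 2-subgroup of `C(z)` through `z` with normaliser outside `C(z)` gives one inside `S`
  have hpush : ∀ R : Subgroup G, IsPGroup 2 R → R ≤ Cz → z ∈ R →
      ∀ y ∈ Subgroup.normalizer (R : Set G), y ∉ Cz →
      ∃ D : Subgroup G, Nat.card D = Nat.card R ∧ D ≤ (S : Subgroup G) ∧ z ∈ D ∧
        ¬ Subgroup.normalizer (D : Set G) ≤ Cz := by
    intro R hR hRC hzR y hy hyC
    obtain ⟨c, hc, hcR⟩ := H70.exists_cj_le_sylow S hSC hR hRC
    refine ⟨H70.cj c R, H70.card_cj c R, hcR, H70.mem_cj.mpr ?_, fun hle => hyC ?_⟩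
    · have h := hcconj c⁻¹ (inv_mem hc)
      rw [inv_inv] at h
      rwa [h]
    · have h := hle (Subgroup.le_normalizer_map (MulAut.conj c).toMonoidHom ⟨y, hy, rfl⟩)
      have h' := mul_mem (mul_mem (inv_mem hc) h) hc
      simpa [mul_assoc] using h'
  -- there is one such subgroup
  obtain ⟨D₀, hD₀S, hzD₀, hD₀N⟩ : ∃ D : Subgroup G, D ≤ (S : Subgroup G) ∧ z ∈ D ∧
      ¬ Subgroup.normalizer (D : Set G) ≤ Cz := by
    obtain ⟨g, hgS, hgz⟩ : ∃ g : G, g * z * g⁻¹ ∈ (S : Subgroup G) ∧ g * z * g⁻¹ ≠ z := by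
      by_contra h
      push Not at h
      have hZ := H85.zStar (H85.isolated_of_sylow S hz2 hzS h)
      haveI := H1.pPrimeCore_normal' 2 G
      have hObot : Cfsg.pPrimeCore 2 G = ⊥ := by
        rcases (H1.pPrimeCore_normal' 2 G).eq_bot_or_eq_top with hb | ht
        · exact hb
        · exfalso
          have h1 := H1.card_pPrimeCore_coprime 2 G
          rw [ht, Subgroup.card_top] at h1
          have h2 : 2 ∣ Nat.card G := hz2 ▸ orderOf_dvd_natCard z
          exact absurd ((Nat.Prime.coprime_iff_not_dvd Nat.prime_two).mp h1.symm h2) (by simp)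
      have hzcen : z ∈ Subgroup.center G := Subgroup.mem_center_iff.mpr fun g => by
        have h1 := hZ g
        rw [hObot, Subgroup.mem_bot, mul_inv_eq_one, mul_inv_eq_iff_eq_mul] at h1
        exact h1.symm
      rcases (inferInstance : (Subgroup.center G).Normal).eq_bot_or_eq_top with hb | ht
      · rw [hb, Subgroup.mem_bot] at hzcen
        rw [hzcen, orderOf_one] at hz2
        omega
      · exact hG ⟨⟨fun a b => (Subgroup.mem_center_iff.mp (ht ▸ Subgroup.mem_top b) a)⟩⟩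
    set z' := g * z * g⁻¹ with hz'
    set Cz' := Subgroup.centralizer ({z'} : Set G) with hCz'
    have hz'z : z * z' = z' * z := (hzc z' hgS).symm
    have hT₀ : ((g • S : Sylow 2 G) : Subgroup G) ≤ Cz' := by
      rw [Sylow.coe_subgroup_smul]
      rintro _ ⟨s, hs, rfl⟩
      exact Subgroup.mem_centralizer_singleton_iff.mpr
        (Commute.map (show Commute s z from hzc s hs) (MulAut.conj g).toMonoidHom).eq
    obtain ⟨h, hh, hhz⟩ := H70.exists_cj_le_sylow (g • S) hT₀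
      (H70.CharTwoEarly.isPGroup_zpowers_two hz2)
      (Subgroup.zpowers_le.mpr (Subgroup.mem_centralizer_singleton_iff.mpr hz'z))
    set T' : Sylow 2 G := h⁻¹ • g • S with hT'
    have hmemT' : ∀ x, x ∈ (T' : Subgroup G) ↔
        g⁻¹ * (h * x * h⁻¹) * g ∈ (S : Subgroup G) := by
      intro x
      rw [hT', Sylow.coe_subgroup_smul, Sylow.coe_subgroup_smul]
      constructor
      · rintro ⟨_, ⟨s, hs, rfl⟩, rfl⟩
        have hs' : s ∈ (S : Subgroup G) := hs
        simpa [mul_assoc] using hs'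
      · intro hx
        exact ⟨_, ⟨_, hx, rfl⟩, by simp [mul_assoc]⟩
    have hzT' : z ∈ (T' : Subgroup G) := by
      rw [hmemT']
      have h1 : h * z * h⁻¹ ∈ ((g • S : Sylow 2 G) : Subgroup G) :=
        hhz ⟨z, Subgroup.mem_zpowers z, rfl⟩
      rw [Sylow.coe_subgroup_smul] at h1
      obtain ⟨s, hs, hse⟩ := h1
      have : g⁻¹ * (h * z * h⁻¹) * g = s := by rw [← hse]; simp [mul_assoc]
      rw [this]; exact hs
    have hhz' : h * z' * h⁻¹ = z' := by
      rw [Subgroup.mem_centralizer_singleton_iff.mp hh, mul_inv_cancel_right]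
    have hgz' : g⁻¹ * (h * z' * h⁻¹) * g = z := by rw [hhz', hz']; group
    set R := (T' : Subgroup G) ⊓ Cz with hR
    have hRne : R < (T' : Subgroup G) := by
      refine lt_of_le_of_ne inf_le_left fun heq => hgz ?_
      have hall : ∀ x ∈ (T' : Subgroup G), x * z = z * x := fun x hx => by
        rw [← heq] at hx
        exact Subgroup.mem_centralizer_singleton_iff.mp hx.2
      have h1 := huniq (g⁻¹ * (h * z * h⁻¹) * g) z ?_ hz2 ⟨(hmemT' z).mp hzT', ?_⟩ ⟨hzS, hzc⟩
      · have h1' := h1.trans hgz'.symm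
        have h2 : z = z' := mul_left_cancel (mul_right_cancel (mul_left_cancel (mul_right_cancel h1')))
        exact h2.symm
      · have := hconjord g⁻¹ _ (hconjord h z hz2)
        simpa [mul_assoc] using this
      · intro s hs
        have hx : h⁻¹ * (g * s * g⁻¹) * h ∈ (T' : Subgroup G) := by
          rw [hmemT']; simpa [mul_assoc] using hs
        have h1 := congrArg (fun t => g⁻¹ * (h * t * h⁻¹) * g) (hall _ hx)
        simpa [mul_assoc] using h1
    have h1 := H7.lt_normalizer_inf T'.2 hRne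
    obtain ⟨y, hyNT, hyR⟩ := SetLike.not_le_iff_exists.mp h1
    obtain ⟨D, -, hDS, hzD, hDN⟩ := hpush R (T'.2.to_le inf_le_left) inf_le_right
      ⟨hzT', Subgroup.mem_centralizer_singleton_iff.mpr rfl⟩ y hyNT.1 (fun hy => hyR ⟨hyNT.2, hy⟩)
    exact ⟨D, hDS, hzD, hDN⟩
  obtain ⟨D, ⟨hDS, hzD, hDN⟩, hDmax⟩ := (Set.toFinite {D : Subgroup G | D ≤ (S : Subgroup G) ∧
    z ∈ D ∧ ¬ Subgroup.normalizer (D : Set G) ≤ Cz}).exists_maximalFor (fun D : Subgroup G => Nat.card ↥D) _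
      ⟨D₀, hD₀S, hzD₀, hD₀N⟩
  -- `D` is proper in `S`
  have hDlt : D < (S : Subgroup G) := by
    refine lt_of_le_of_ne hDS fun h => hDN ?_
    intro n hn
    rw [h] at hn
    have hn' := Subgroup.mem_normalizer_iff.mp hn
    have h1 : n * z * n⁻¹ = z := huniq _ _ (hconjord n z hz2) hz2
      ⟨(hn' z).mp hzS, fun s hs => by
        have h2 := hzc (n⁻¹ * s * n) ((hn' _).mpr (by simpa [mul_assoc] using hs))
        have h3 := congrArg (fun t => n * t * n⁻¹) h2
        simpa [mul_assoc] using h3⟩ ⟨hzS, hzc⟩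
    exact Subgroup.mem_centralizer_singleton_iff.mpr (mul_inv_eq_iff_eq_mul.mp h1)
  have hDne : D ≠ ⊥ := fun h => by
    rw [h, Subgroup.mem_bot] at hzD
    rw [hzD, orderOf_one] at hz2
    omega
  obtain ⟨M, hNM, hM⟩ := hmax D (S.2.to_le hDS) hDne
  -- `M` is the centraliser of an involution `x`
  have hPne : Cfsg.pCore 2 ↥M ≠ ⊥ := by
    obtain ⟨T, hT, hT1, hMT⟩ := hM.1
    have hTM : T ≤ M := hMT ▸ Subgroup.le_normalizer
    haveI : (T.subgroupOf M).Normal :=
      ⟨fun a ha m => Subgroup.mem_subgroupOf.mpr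
        ((Subgroup.mem_normalizer_iff.mp (show (m : G) ∈ Subgroup.normalizer (T : Set G) from
          hMT.le m.2) a).mp (Subgroup.mem_subgroupOf.mp ha))⟩
    intro h
    have h1 : T.subgroupOf M ≤ Cfsg.pCore 2 ↥M := H1.le_pCore (hT.comap_subtype (K := M))
    rw [h, le_bot_iff, Subgroup.subgroupOf_eq_bot, disjoint_iff, inf_eq_left.mpr hTM] at h1
    exact hT1 h1
  obtain ⟨x, hx2, hxP⟩ : ∃ x : ↥M, orderOf x = 2 ∧
      (x ∈ Cfsg.pCore 2 ↥M ∧ ∀ t ∈ Cfsg.pCore 2 ↥M, t * x = x * t) := by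
    have hP := H1.isPGroup_pCore 2 ↥M
    haveI : Nontrivial ↥(Cfsg.pCore 2 ↥M) := (Subgroup.nontrivial_iff_ne_bot _).mpr hPne
    haveI : Nontrivial ↥(Subgroup.center ↥(Cfsg.pCore 2 ↥M)) := hP.center_nontrivial
    obtain ⟨k, hk⟩ := (hP.to_subgroup (Subgroup.center ↥(Cfsg.pCore 2 ↥M))).exists_card_eq
    have hk0 : k ≠ 0 := by
      rintro rfl
      rw [pow_zero] at hk
      exact absurd hk Finite.one_lt_card.ne'
    obtain ⟨c, hc⟩ := exists_prime_orderOf_dvd_card' 2 (hk ▸ dvd_pow_self 2 hk0)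
    exact ⟨((c : ↥(Cfsg.pCore 2 ↥M)) : ↥M), by rw [Subgroup.orderOf_coe, Subgroup.orderOf_coe, hc],
      (c : ↥(Cfsg.pCore 2 ↥M)).2,
      fun t ht => congrArg Subtype.val (Subgroup.mem_center_iff.mp c.2 ⟨t, ht⟩)⟩
  have hPn := H1.pCore_normal' 2 ↥M
  have hxcen : ∀ m : ↥M, m * x = x * m := by
    intro m
    have hord : orderOf (m * x * m⁻¹) = 2 := by
      rw [show m * x * m⁻¹ = MulAut.conj m x from rfl, MulEquiv.orderOf_eq, hx2]
    have h1 := unique_central (hcon' M hM) hord hx2 ⟨hPn.conj_mem x hxP.1 m, fun t ht => by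
      have h2 := hxP.2 (m⁻¹ * t * m) (by simpa using hPn.conj_mem t ht m⁻¹)
      have h3 := congrArg (fun u => m * u * m⁻¹) h2
      simpa [mul_assoc] using h3⟩ hxP
    exact mul_inv_eq_iff_eq_mul.mp h1
  have hxG : orderOf (x : G) = 2 := by rw [Subgroup.orderOf_coe, hx2]
  have hMC : M = Subgroup.centralizer ({(x : G)} : Set G) := by
    refine (hM.2 _ (H70.CharTwoEarly.isTwoLocal_centralizer hxG) fun m hm => ?_).symm
    exact Subgroup.mem_centralizer_singleton_iff.mpr (congrArg Subtype.val (hxcen ⟨m, hm⟩))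
  have hxz : (x : G) ≠ z := fun h => hDN (hNM.trans (by rw [hMC, h]))
  have hO : Cfsg.pPrimeCore 2 ↥M = ⊥ := by
    have h := H70.CharTwoEarly.theta_eq_bot hcon S hinv hES hE8 hEc hE2 hEn hz2 hzS hzc hxG
    rw [Cfsg.centralizerPPrimeCore, Subgroup.map_eq_bot_iff_of_injective _
      (Subgroup.subtype_injective _), ← hMC] at h
    exact h
  -- a Sylow subgroup of `M`
  set N := Subgroup.normalizer (D : Set G) ⊓ (S : Subgroup G) with hN
  have hNle : N ≤ M := inf_le_left.trans hNM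
  obtain ⟨T, hT⟩ := (IsPGroup.of_equiv (S.2.to_le (inf_le_right : N ≤ (S : Subgroup G)))
    (Subgroup.subgroupOfEquivOfLe hNle).symm).exists_le_sylow
  set TG := (T : Subgroup ↥M).map M.subtype with hTG
  have hNT : N ≤ TG := fun a ha =>
    ⟨⟨a, hNle ha⟩, hT (Subgroup.mem_subgroupOf.mpr ha), rfl⟩
  have hTp : IsPGroup 2 TG := T.2.map _
  have hDN' : D ≤ N := le_inf Subgroup.le_normalizer hDS
  have hzT : z ∈ TG := hNT (hDN' hzD)
  have hTC : TG ≤ Cz := by
    by_contra hnot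
    set R := TG ⊓ Cz with hR
    have hRlt : R < TG := lt_of_le_of_ne inf_le_left fun h => hnot (inf_eq_left.mp h)
    obtain ⟨y, hyNT, hyR⟩ := SetLike.not_le_iff_exists.mp (H7.lt_normalizer_inf hTp hRlt)
    obtain ⟨D', hD'c, hD'S, hzD', hD'N⟩ := hpush R (hTp.to_le inf_le_left) inf_le_right
      ⟨hzT, Subgroup.mem_centralizer_singleton_iff.mpr rfl⟩ y hyNT.1 (fun hy => hyR ⟨hyNT.2, hy⟩)
    have h1 : D < N := lt_of_le_of_ne hDN' fun h => H7.lt_normalizer_inf S.2 hDlt h.ge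
    have h2 : N ≤ R := le_inf hNT (inf_le_right.trans hSC)
    have h3 : Nat.card D < Nat.card N :=
      lt_of_not_ge fun h => h1.ne (Subgroup.eq_of_le_of_card_ge h1.le h)
    have h4 := Subgroup.card_le_of_le h2
    have h5 := hDmax (show D' ∈ {D : Subgroup G | D ≤ (S : Subgroup G) ∧ z ∈ D ∧
      ¬ Subgroup.normalizer (D : Set G) ≤ Cz} from ⟨hD'S, hzD', hD'N⟩)
    simp only at h5
    omega
  have hzM : z ∈ M := hNle (hDN' hzD)
  have hzP := mem_pCore_of_central (hlocc M hM.1) hO T (y := ⟨z, hzM⟩) fun t ht =>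
    Subtype.ext (Subgroup.mem_centralizer_singleton_iff.mp (hTC ⟨t, ht, rfl⟩))
  exact hxz (congrArg Subtype.val
    (unique_central (hcon' M hM) hx2 ((Subgroup.orderOf_mk _ _).trans hz2) hxP hzP))

end Cfsg.Agent.S3244
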