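import Cfsg.Statements.S3246
import Cfsg.Agent.H70.PConstrained
import Cfsg.Agent.H65.RankThree
import Cfsg.Agent.H66.Inverted

set_option autoImplicit false
open Cfsg

namespace Cfsg.Agent.S3246

section
variable {G : Type*} [Group G] [Finite G]

/-- A four-group of a Sylow subgroup which is normal in it. -/
theorem exists_four (S : Sylow 2 G) (A : Subgroup G) (hA : A ≤ (S : Subgroup G))
    (hA3 : ¬ Cfsg.PRankLE 2 2 ↥A) :
    ∃ u v : G, u ∈ (S : Subgroup G) ∧ v ∈ (S : Subgroup G) ∧ orderOf u = 2 ∧ orderOf v = 2 ∧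
      u ≠ v ∧ u * v = v * u ∧
      ∀ s ∈ (S : Subgroup G), ∀ w : G, (w = u ∨ w = v ∨ w = u * v) →
        (s * w * s⁻¹ = u ∨ s * w * s⁻¹ = v ∨ s * w * s⁻¹ = u * v) := by
  classical
  unfold Cfsg.PRankLE at hA3
  simp only [not_forall, not_le] at hA3
  obtain ⟨B, -, hB2, hBc⟩ := hA3
  have hBp : IsPGroup 2 ↥B := fun b => ⟨1, Subtype.ext (by simpa using hB2 b b.2)⟩
  obtain ⟨n, hn⟩ := IsPGroup.iff_card.mp hBp
  have h8 : 2 ^ 3 ∣ Nat.card ↥B := by
    rw [hn] at hBc ⊢
    exact pow_dvd_pow 2 (by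
      by_contra hlt
      have : (2:ℕ) ^ n ≤ 2 ^ 2 := Nat.pow_le_pow_right (by norm_num) (by omega)
      omega)
  obtain ⟨K, hK⟩ := Sylow.exists_subgroup_card_pow_prime 2 h8
  set f : ↥B →* ↥(S : Subgroup G) := (Subgroup.inclusion hA).comp B.subtype with hf
  have hfinj : Function.Injective f :=
    (Subgroup.inclusion_injective hA).comp B.subtype_injective
  obtain ⟨V, hVn, hV4, hV2⟩ := H65.exists_normal_four S.2 (K.map f)
    (by rw [Subgroup.card_map_of_injective hfinj, hK]; norm_num)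
    (by
      rintro _ ⟨k, -, rfl⟩
      rw [← map_pow, show k ^ 2 = 1 from Subtype.ext (by simpa using hB2 k k.2), map_one])
  haveI := hVn
  haveI : Nontrivial ↥V := Finite.one_lt_card_iff_nontrivial.mp (by rw [hV4]; norm_num)
  haveI : IsKleinFour ↥V := by
    refine IsKleinFour.mk hV4 ?_
    refine (Monoid.exponent_eq_prime_iff Nat.prime_two).mpr ?_
    intro g hg
    exact orderOf_eq_prime (Subtype.ext (by simpa using hV2 g g.2)) hg
  obtain ⟨a, ha⟩ := exists_ne (1 : ↥V)
  have hcard : 1 < Nat.card ↥(Subgroup.zpowers a) ∧ Nat.card ↥(Subgroup.zpowers a) < 4 := by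
    rw [Nat.card_zpowers, orderOf_eq_prime (Subtype.ext (by simpa using hV2 a a.2)) ha]
    norm_num
  obtain ⟨b, -, hb⟩ := SetLike.exists_of_lt (show Subgroup.zpowers a < ⊤ from lt_top_iff_ne_top.mpr
    (fun h => by rw [h, Subgroup.card_top, hV4] at hcard; omega))
  have hb1 : b ≠ 1 := fun h => hb (h ▸ one_mem _)
  have hab : a ≠ b := fun h => hb (h ▸ Subgroup.mem_zpowers a)
  have hord : ∀ w : ↥V, w ≠ 1 → orderOf ((w : ↥(S : Subgroup G)) : G) = 2 := fun w hw => by
    rw [Subgroup.orderOf_coe, Subgroup.orderOf_coe]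
    exact orderOf_eq_prime (Subtype.ext (by simpa using hV2 w w.2)) hw
  have hall : ∀ w : ↥V, w ≠ 1 → w = a ∨ w = b ∨ w = a * b := by
    intro w hw
    by_contra hne
    push_neg at hne
    exact hne.2.2 (IsKleinFour.eq_mul_of_ne_all ha hb1 hab hw hne.1 hne.2.1)
  refine ⟨(a : ↥(S : Subgroup G)), (b : ↥(S : Subgroup G)), (a : ↥(S : Subgroup G)).2,
    (b : ↥(S : Subgroup G)).2, hord a ha, hord b hb1,
    fun h => hab (Subtype.ext (Subtype.ext h)), ?_, ?_⟩
  · exact congrArg (fun w : ↥V => ((w : ↥(S : Subgroup G)) : G))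
      ((IsKleinFour.isMulCommutative (G := ↥V)).is_comm.comm a b)
  intro s hs w hw
  obtain ⟨w', hw1, rfl⟩ : ∃ w' : ↥V, w' ≠ 1 ∧ ((w' : ↥(S : Subgroup G)) : G) = w := by
    rcases hw with h | h | h
    · exact ⟨a, ha, h.symm⟩
    · exact ⟨b, hb1, h.symm⟩
    · refine ⟨a * b, fun h1 => hab ?_, by simp [h]⟩
      have ha2 : a * a = 1 := IsKleinFour.mul_self a
      exact mul_left_cancel (ha2.trans h1.symm)
  have hmem := hVn.conj_mem w' w'.2 ⟨s, hs⟩
  have hne : (⟨_, hmem⟩ : ↥V) ≠ 1 := by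
    intro h1
    apply hw1
    have h2 : (⟨s, hs⟩ : ↥(S : Subgroup G)) * w' * (⟨s, hs⟩)⁻¹ = 1 := congrArg Subtype.val h1
    exact Subtype.ext (by simpa using conj_eq_one_iff.mp h2)
  rcases hall _ hne with h | h | h
  · left
    simpa using congrArg (fun x : ↥V => ((x : ↥(S : Subgroup G)) : G)) h
  · right; left
    simpa using congrArg (fun x : ↥V => ((x : ↥(S : Subgroup G)) : G)) h
  · right; right
    simpa using congrArg (fun x : ↥V => ((x : ↥(S : Subgroup G)) : G)) h

/-- An odd-order subgroup normalized by a large part of a Sylow 2-subgroup meets `C(u)` trivially. -/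
theorem centralizer_inf_eq_bot (S : Sylow 2 G) (X : Subgroup G) (hX : Odd (Nat.card ↥X))
    (hSX : (S : Subgroup G) ≤ Subgroup.normalizer (X : Set G))
    (u : G) (hu : orderOf u = 2)
    (hidx : ((Subgroup.centralizer ({u} : Set G)).subgroupOf (S : Subgroup G)).index ≤ 2)
    (M : Subgroup G) (hM : Subgroup.centralizer ({u} : Set G) ≤ M)
    (hc : Cfsg.IsPConstrained 2 ↥M) (hodd : Cfsg.oddCore ↥M = ⊥) :
    X ⊓ Subgroup.centralizer ({u} : Set G) = ⊥ := by
  classical
  set C := Subgroup.centralizer ({u} : Set G) with hC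
  set Y := X ⊓ C with hY
  haveI := H1.pPrimeCore_normal' 2 ↥M
  haveI := H1.pCore_normal' 2 ↥M
  -- the self-centralizing core of `M`
  have hcore : H11.CoreSelfCentralizing 2 ↥M :=
    (H11.isPConstrained_iff_of_hom (MonoidHom.id ↥M) Function.surjective_id
      (by rw [MonoidHom.ker_id]; exact hodd.symm)).mp hc
  set R := (Cfsg.pCore 2 ↥M).map M.subtype with hR
  have hRp : IsPGroup 2 ↥R := (H1.isPGroup_pCore 2 ↥M).map _
  have hRn : M ≤ Subgroup.normalizer (R : Set G) := by
    intro m hm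
    refine Subgroup.mem_normalizer_fintype ?_
    rintro _ ⟨r, hr, rfl⟩
    exact ⟨⟨m, hm⟩ * r * ⟨m, hm⟩⁻¹, (H1.pCore_normal' 2 ↥M).conj_mem r hr _, by simp⟩
  have hYodd : (Nat.card ↥Y).Coprime 2 :=
    (Nat.coprime_two_right.mpr hX).coprime_dvd_left (Subgroup.card_dvd_of_le inf_le_left)
  set R' := R ⊓ C with hR'
  have hR'p : IsPGroup 2 ↥R' := hRp.to_le inf_le_left
  set S1 := (S : Subgroup G) ⊓ C with hS1
  set R0 := R' ⊓ S1 with hR0
  have hR'n : ∀ c ∈ C, ∀ r ∈ R', c * r * c⁻¹ ∈ R' := fun c hc' r hr =>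
    Subgroup.mem_inf.mpr
      ⟨(Subgroup.mem_normalizer_iff.mp (hRn (hM hc')) r).mp hr.1,
        mul_mem (mul_mem hc' hr.2) (inv_mem hc')⟩
  -- `Y` centralizes `R0`
  have hfix0 : ∀ y ∈ Y, ∀ r ∈ R0, y * r * y⁻¹ = r := by
    intro y hy r hr
    have h1 : y * r * y⁻¹ * r⁻¹ ∈ X ⊓ R' := by
      refine Subgroup.mem_inf.mpr ⟨?_, mul_mem (hR'n y hy.2 r hr.1) (inv_mem hr.1)⟩
      have h2 : r * y⁻¹ * r⁻¹ ∈ X :=
        (Subgroup.mem_normalizer_iff.mp (hSX hr.2.1) _).mp (inv_mem hy.1)
      have h3 := mul_mem hy.1 h2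
      simpa [mul_assoc] using h3
    have h4 : X ⊓ R' = ⊥ := by
      apply Subgroup.inf_eq_bot_of_coprime
      obtain ⟨n, hn⟩ := IsPGroup.iff_card.mp hR'p
      rw [hn]
      exact Nat.Coprime.pow_right n (Nat.coprime_two_right.mpr hX)
    rw [h4, Subgroup.mem_bot, mul_inv_eq_one] at h1
    exact h1
  -- the index of `R0` in `R'`
  have hidx0 : R0.relIndex R' ≤ 2 := by
    have hS1p : IsPGroup 2 ↥S1 := S.2.to_le inf_le_left
    obtain ⟨Q, hQ⟩ := (hS1p.comap_subtype (K := C)).exists_le_sylow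
    set Q' := (Q : Subgroup ↥C).map C.subtype with hQ'
    have hR'Q : R' ≤ Q' := by
      intro r hr
      haveI : (R'.subgroupOf C).Normal := ⟨fun n hn g => by
        simpa [Subgroup.mem_subgroupOf] using hR'n g g.2 n hn⟩
      have h1 : R'.subgroupOf C ≤ (Q : Subgroup ↥C) :=
        (H1.le_pCore (N := R'.subgroupOf C) (IsPGroup.comap_subtype hR'p)).trans (H1.pCore_le_sylow Q)
      exact ⟨⟨r, hr.2⟩, h1 hr, rfl⟩
    have hS1Q : S1 ≤ Q' := fun s hs => ⟨⟨s, hs.2⟩, hQ hs, rfl⟩
    have hQle : Nat.card ↥Q' ≤ Nat.card ↥(S : Subgroup G) := by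
      obtain ⟨S', hS'⟩ := (Q.2.map C.subtype : IsPGroup 2 ↥Q').exists_le_sylow
      exact (Nat.le_of_dvd Nat.card_pos (Subgroup.card_dvd_of_le hS')).trans_eq
        (Nat.card_congr (Sylow.equiv S' S).toEquiv)
    have hS1card : Nat.card ↥(S : Subgroup G) ≤ 2 * Nat.card ↥S1 := by
      rw [← Subgroup.card_mul_index (C.subgroupOf (S : Subgroup G)), mul_comm]
      refine Nat.mul_le_mul hidx (le_of_eq ?_)
      rw [hS1, inf_comm, ← Subgroup.subgroupOf_map_subtype,
        Subgroup.card_map_of_injective (Subgroup.subtype_injective _)]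
    have h2 : S1.relIndex Q' ≤ 2 := by
      have h3 := Subgroup.card_mul_index (S1.subgroupOf Q')
      rw [Nat.card_congr (Subgroup.subgroupOfEquivOfLe hS1Q).toEquiv] at h3
      change Nat.card ↥S1 * S1.relIndex Q' = _ at h3
      refine Nat.le_of_mul_le_mul_left (c := Nat.card ↥S1) ?_ Nat.card_pos
      rw [h3]
      omega
    rw [hR0, inf_comm, Subgroup.inf_relIndex_right]
    refine (Subgroup.relIndex_le_of_le_right hR'Q ?_).trans h2
    exact Subgroup.index_ne_zero_of_finite
  have hR0conj : ∀ y ∈ Y, ∀ r ∈ R', r⁻¹ * (y * r * y⁻¹) ∈ R0 := by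
    intro y hy r hr
    by_cases hr0 : r ∈ R0
    · rw [hfix0 y hy r hr0, inv_mul_cancel]; exact one_mem _
    have hne : R0.subgroupOf R' ≠ ⊤ := fun h => hr0 (by
      have := (h ▸ Subgroup.mem_top (⟨r, hr⟩ : ↥R') : (⟨r, hr⟩ : ↥R') ∈ R0.subgroupOf R')
      exact this)
    have hidx2 : (R0.subgroupOf R').index = 2 := by
      have h1 : (R0.subgroupOf R').index ≠ 1 := fun h => hne (Subgroup.index_eq_one.mp h)
      have h2 : (R0.subgroupOf R').index ≠ 0 := Subgroup.index_ne_zero_of_finite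
      have h3 : (R0.subgroupOf R').index ≤ 2 := hidx0
      omega
    have hr' : y * r * y⁻¹ ∈ R' := hR'n y hy.2 r hr
    have hr'0 : y * r * y⁻¹ ∉ R0 := fun h => by
      have h2 := hfix0 y⁻¹ (inv_mem hy) _ h
      simp [mul_assoc] at h2
      apply hr0
      rw [show r = y * r * y⁻¹ by simpa [mul_assoc] using h2]
      exact h
    have h5 := Subgroup.mul_mem_iff_of_index_two hidx2
      (a := (⟨r, hr⟩ : ↥R')⁻¹) (b := ⟨_, hr'⟩)
    have h6 : (⟨r, hr⟩ : ↥R')⁻¹ * ⟨_, hr'⟩ ∈ R0.subgroupOf R' :=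
      h5.mpr (iff_of_false (fun h => hr0 (by
        have h7 := inv_mem h
        rw [inv_inv] at h7
        exact h7)) hr'0)
    exact h6
  have hfix : ∀ y ∈ Y, ∀ r ∈ R', y * r * y⁻¹ = r := by
    intro y hy r hr
    have hmem := hR0conj y hy r hr
    refine H11.conj_eq_self_of_displacement_fixed (p := 2) ?_ ?_ ?_
    · refine hYodd.coprime_dvd_left ?_
      have h1 := orderOf_dvd_natCard (⟨y, hy⟩ : ↥Y)
      rwa [← Subgroup.orderOf_coe] at h1
    · obtain ⟨m, hm⟩ := hR'p ⟨_, (Subgroup.mem_inf.mp hmem).1⟩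
      exact ⟨m, congrArg Subtype.val hm⟩
    · exact hfix0 y hy _ hmem
  have hYR : Y ≤ Subgroup.centralizer (R : Set G) := by
    refine H1.thompson_P_times_Q (P := Subgroup.zpowers u) (p := 2) ?_ hYodd hRp ?_ ?_ ?_ ?_
    · exact IsPGroup.of_card (n := 1) (by rw [Nat.card_zpowers, hu, pow_one])
    · rw [Subgroup.zpowers_le, Subgroup.mem_centralizer_iff]
      intro y hy
      exact Subgroup.mem_centralizer_singleton_iff.mp hy.2
    · rw [Subgroup.zpowers_le]
      exact hRn (hM (Subgroup.mem_centralizer_singleton_iff.mpr rfl))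
    · exact inf_le_right.trans (hM.trans hRn)
    · intro r hr
      rw [Subgroup.mem_centralizer_iff]
      intro y hy
      have hrC : r ∈ C := by
        rw [hC, Subgroup.mem_centralizer_singleton_iff]
        exact (Subgroup.mem_centralizer_iff.mp hr.2 u (Subgroup.mem_zpowers u)).symm
      have h1 := hfix y hy r ⟨hr.1, hrC⟩
      exact mul_inv_eq_iff_eq_mul.mp h1
  rw [eq_bot_iff]
  intro y hy
  have hyR : y ∈ R := by
    have h1 : (⟨y, hM hy.2⟩ : ↥M) ∈ Cfsg.pCore 2 ↥M := by
      apply hcore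
      rw [Subgroup.mem_centralizer_iff]
      intro r hr
      exact Subtype.ext (Subgroup.mem_centralizer_iff.mp (hYR hy) _
        (Subgroup.mem_map_of_mem M.subtype hr))
    exact ⟨_, h1, rfl⟩
  rw [Subgroup.mem_bot]
  refine H11.eq_one_of_mem_pGroup_coprime hRp hyR (hYodd.coprime_dvd_left ?_)
  have h1 := orderOf_dvd_natCard (⟨y, hy⟩ : ↥Y)
  rwa [← Subgroup.orderOf_coe] at h1

end

/-- Let G be a finite group whose Sylow 2-subgroup S has a self-centralizing normal subgroup of rank at least 3. Suppose that either every maximal 2-local subgroup of G is 2-constrained with no nontrivial normal subgroup of odd order, or the centralizer of every involution of G is 2-constrained with no nontrivial normal subgroup of odd order. Then S normalizes no nontrivial subgroup of G of odd order and every 2-local subgroup of G is 2-constrained. -/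
theorem result {G : Type*} [Group G] [Finite G]
    (S : Sylow 2 G) (A : Subgroup G) (hA : Cfsg.IsSCN (S : Subgroup G) A) (hA3 : ¬ Cfsg.PRankLE 2 2 ↥A)
    (h : (∀ M : Subgroup G, Cfsg.IsMaximalTwoLocal M → Cfsg.IsPConstrained 2 ↥M ∧ Cfsg.oddCore ↥M = ⊥) ∨
      (∀ t : G, orderOf t = 2 → Cfsg.IsPConstrained 2 ↥(Subgroup.centralizer ({t} : Set G)) ∧
        Cfsg.oddCore ↥(Subgroup.centralizer ({t} : Set G)) = ⊥)) :
    (∀ X : Subgroup G, Odd (Nat.card ↥X) → (S : Subgroup G) ≤ Subgroup.normalizer (X : Set G) → X = ⊥) ∧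
      (∀ T : Subgroup G, IsPGroup 2 ↥T → T ≠ ⊥ → Cfsg.IsPConstrained 2 ↥(Subgroup.normalizer (T : Set G))) := by
  classical
  have hMu : ∀ u : G, orderOf u = 2 → ∃ M : Subgroup G,
      Subgroup.centralizer ({u} : Set G) ≤ M ∧ Cfsg.IsPConstrained 2 ↥M ∧
        Cfsg.oddCore ↥M = ⊥ := by
    intro u hu
    rcases h with h | h
    · have hN : Cfsg.IsTwoLocal (Subgroup.normalizer (Subgroup.zpowers u : Set G)) :=
        ⟨Subgroup.zpowers u, IsPGroup.of_card (n := 1) (by rw [Nat.card_zpowers, hu, pow_one]),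
          fun h0 => by
            rw [Subgroup.zpowers_eq_bot] at h0
            rw [h0, orderOf_one] at hu
            omega, rfl⟩
      obtain ⟨M, hle, hM⟩ :=
        (Set.toFinite {M : Subgroup G | Cfsg.IsTwoLocal M}).exists_le_maximal hN
      refine ⟨M, le_trans ?_ hle,
        h M ⟨hM.prop, fun N hN' hMN => (hM.eq_of_le hN' hMN).symm⟩⟩
      rw [← Subgroup.centralizer_closure, ← Subgroup.zpowers_eq_closure]
      exact Subgroup.centralizer_le_normalizer _
    · exact ⟨_, le_rfl, h u hu⟩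
  refine ⟨fun X hX hSX => ?_, fun T hT hT1 => ?_⟩
  · obtain ⟨u, v, hu, hv, hu2, hv2, huv, hcomm, horb⟩ := exists_four S A hA.1 hA3
    have huu : u * u = 1 := by rw [← sq, ← hu2, pow_orderOf_eq_one]
    have hvv : v * v = 1 := by rw [← sq, ← hv2, pow_orderOf_eq_one]
    have huv2 : orderOf (u * v) = 2 := by
      refine orderOf_eq_prime ?_ fun h1 => huv ?_
      · rw [sq]
        calc u * v * (u * v) = u * (v * u) * v := by group
          _ = u * u * (v * v) := by rw [← hcomm]; group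
          _ = 1 := by rw [huu, hvv, one_mul]
      · exact mul_left_cancel (huu.trans h1.symm)
    have hcent : ∀ w : G, orderOf w = 2 → (w = u ∨ w = v ∨ w = u * v) →
        ∀ x ∈ X, Commute x w → x ∈ (⊥ : Subgroup G) := by
      intro w hw hw3 x hx hxw
      obtain ⟨M, hle, hc, hodd⟩ := hMu w hw
      rw [← centralizer_inf_eq_bot S X hX hSX w hw ?_ M hle hc hodd]
      · exact ⟨hx, Subgroup.mem_centralizer_singleton_iff.mpr hxw.eq⟩
      -- `S` permutes the three involutions and fixes none or one of the pair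
      by_contra hlt
      push_neg at hlt
      haveI : Finite (↥(S : Subgroup G) ⧸
        (Subgroup.centralizer ({w} : Set G)).subgroupOf (S : Subgroup G)) := inferInstance
      set g : ↥(S : Subgroup G) ⧸ (Subgroup.centralizer ({w} : Set G)).subgroupOf (S : Subgroup G) →
          ({u, v, u * v} : Finset G) :=
        Quotient.lift (fun s : ↥(S : Subgroup G) => (⟨(s : G) * w * (s : G)⁻¹, by
          simpa using horb s s.2 w hw3⟩ : ({u, v, u * v} : Finset G))) (by
          intro s t hst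
          have h1 : (s⁻¹ * t : ↥(S : Subgroup G)) ∈
              (Subgroup.centralizer ({w} : Set G)).subgroupOf (S : Subgroup G) :=
            QuotientGroup.leftRel_apply.mp hst
          rw [Subgroup.mem_subgroupOf, Subgroup.mem_centralizer_singleton_iff] at h1
          simp only [Subgroup.coe_mul, Subgroup.coe_inv] at h1
          refine Subtype.ext ?_
          show (s : G) * w * (s : G)⁻¹ = (t : G) * w * (t : G)⁻¹
          calc (s : G) * w * (s : G)⁻¹
              = (s : G) * (w * ((s : G)⁻¹ * t)) * (t : G)⁻¹ := by group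
            _ = (s : G) * ((s : G)⁻¹ * t * w) * (t : G)⁻¹ := by rw [h1]
            _ = (t : G) * w * (t : G)⁻¹ := by group) with hg
      have hginj : Function.Injective g := by
        intro a b hab
        induction a using QuotientGroup.induction_on with | H s => ?_
        induction b using QuotientGroup.induction_on with | H t => ?_
        have h1 : (s : G) * w * (s : G)⁻¹ = (t : G) * w * (t : G)⁻¹ := congrArg Subtype.val hab
        rw [QuotientGroup.eq, Subgroup.mem_subgroupOf, Subgroup.mem_centralizer_singleton_iff]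
        simp only [Subgroup.coe_mul, Subgroup.coe_inv]
        calc (s : G)⁻¹ * t * w = (s : G)⁻¹ * ((t : G) * w * (t : G)⁻¹) * t := by group
          _ = (s : G)⁻¹ * ((s : G) * w * (s : G)⁻¹) * t := by rw [h1]
          _ = w * ((s : G)⁻¹ * t) := by group
      have h3 : ((Subgroup.centralizer ({w} : Set G)).subgroupOf (S : Subgroup G)).index ≤ 3 := by
        refine (Nat.card_le_card_of_injective g hginj).trans ?_
        rw [Nat.card_eq_fintype_card, Fintype.card_coe]
        exact Finset.card_le_three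
      have h2 : ((Subgroup.centralizer ({w} : Set G)).subgroupOf (S : Subgroup G)).index = 3 := by
        omega
      obtain ⟨n, hn⟩ := IsPGroup.index S.2
        ((Subgroup.centralizer ({w} : Set G)).subgroupOf (S : Subgroup G))
      rw [h2] at hn
      have h4 : 3 ∣ 2 ^ n := hn ▸ dvd_refl 3
      exact absurd (Nat.prime_three.dvd_of_dvd_pow h4) (by decide)
    rw [eq_bot_iff]
    refine H66.le_of_centralizers_fourGroup (u := u) (v := v) (fun x hx => ?_) huu hvv hcomm
      (fun x hx => (Subgroup.mem_normalizer_iff.mp (hSX hu) x).mp hx)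
      (fun x hx => (Subgroup.mem_normalizer_iff.mp (hSX hv) x).mp hx)
      (hcent u hu2 (Or.inl rfl)) (hcent v hv2 (Or.inr (Or.inl rfl)))
      (hcent _ huv2 (Or.inr (Or.inr rfl)))
    have h1 := orderOf_dvd_natCard (⟨x, hx⟩ : ↥X)
    rw [← Subgroup.orderOf_coe] at h1
    exact Odd.of_dvd_nat hX h1
  · rcases h with h | h
    · obtain ⟨M, hle, hM⟩ := (Set.toFinite {M : Subgroup G | Cfsg.IsTwoLocal M}).exists_le_maximal
        (show Subgroup.normalizer (T : Set G) ∈ {M : Subgroup G | Cfsg.IsTwoLocal M} from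
          ⟨T, hT, hT1, rfl⟩)
      exact H70.isPConstrained_normalizer_of_le T M hT hle
        (h M ⟨hM.prop, fun N hN' hMN => (hM.eq_of_le hN' hMN).symm⟩).1
    · exact H70.isPConstrained_normalizer_of_all_centralizers (fun x hx => (h x hx).1) T hT hT1

end Cfsg.Agent.S3246
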