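import Cfsg.Statements.S3252
import Cfsg.Agent.H71.CycReg.Core
import Cfsg.Agent.S0730
import Cfsg.Agent.H33.TwoPrime

set_option autoImplicit false
open Cfsg

namespace Cfsg.Agent.S3252

/-- Let G be a finite non-solvable group that is the product G = AB of a cyclic subgroup A and a subgroup B all of whose Sylow subgroups are cyclic. Then the quotient of G by its largest solvable normal subgroup is isomorphic to PGL₂(p) for some prime p > 3. -/
theorem result {G : Type*} [Group G] [Finite G] (hG : ¬ Group.IsSolvable G)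
    (A B : Subgroup G) (hA : IsCyclic ↥A) (hB : ∀ (q : ℕ) [Fact q.Prime] (Q : Sylow q ↥B), IsCyclic ↥(Q : Subgroup ↥B))
    (hAB : ∀ g : G, ∃ a ∈ A, ∃ b ∈ B, g = a * b)
    (R : Subgroup G) [hR : R.Normal] (hRs : Group.IsSolvable ↥R) (hRmax : ∀ N : Subgroup G, N.Normal → Group.IsSolvable ↥N → N ≤ R) :
    ∃ (F : Type) (_ : Field F) (_ : Fintype F) (p : ℕ), p.Prime ∧ 3 < p ∧ Fintype.card F = p ∧
      Nonempty ((G ⧸ R) ≃* (GL (Fin 2) F ⧸ Subgroup.center (GL (Fin 2) F))) := by
  classical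
  haveI := hRs
  let π := QuotientGroup.mk' R
  haveI := hA
  haveI hBz : IsZGroup ↥B := ⟨fun q hq Q => haveI := Fact.mk hq; hB q Q⟩
  have hA' : IsCyclic (A.map π) := isCyclic_of_surjective _ (π.subgroupMap_surjective A)
  have hB' : IsZGroup (B.map π) := IsZGroup.of_surjective (π.subgroupMap_surjective B)
  have hAB' : ∀ g : G ⧸ R, ∃ a ∈ A.map π, ∃ b ∈ B.map π, g = a * b := by
    intro g
    obtain ⟨g, rfl⟩ := QuotientGroup.mk'_surjective R g
    obtain ⟨a, ha, b, hb, rfl⟩ := hAB g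
    exact ⟨π a, ⟨a, ha, rfl⟩, π b, ⟨b, hb, rfl⟩, map_mul π a b⟩
  have hns : ¬ Group.IsSolvable (G ⧸ R) := fun h =>
    hG ((Group.isSolvable_iff_subgroup_quotient R).2 ⟨hRs, h⟩)
  have hrad : ∀ N : Subgroup (G ⧸ R), N.Normal → Group.IsSolvable N → N = ⊥ := by
    intro N hN hNs
    have hle : R ≤ N.comap π := fun x hx => by
      rw [Subgroup.mem_comap, show π x = 1 from (QuotientGroup.eq_one_iff x).2 hx]
      exact one_mem N
    have hs : Group.IsSolvable (N.comap π) := by
      haveI := hNs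
      let f : N.comap π →* N := (π.comp (N.comap π).subtype).codRestrict N fun x => x.2
      refine Group.isSolvable_of_ker_le_range (Subgroup.inclusion hle) f fun x hx => ?_
      exact ⟨⟨x, (QuotientGroup.eq_one_iff (x : G)).1 (congrArg Subtype.val (MonoidHom.mem_ker.1 hx))⟩,
        Subtype.ext rfl⟩
    have h1 := hRmax _ (hN.comap π) hs
    rw [eq_bot_iff]
    intro y hy
    obtain ⟨x, rfl⟩ := QuotientGroup.mk'_surjective R y
    exact Subgroup.mem_bot.2 ((QuotientGroup.eq_one_iff x).2 (h1 hy))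
  obtain ⟨M, hM, hBM⟩ : ∃ M : Subgroup (G ⧸ R), IsCoatom M ∧ B.map π ≤ M := by
    rcases eq_top_or_exists_le_coatom (B.map π) with htop | h
    · exfalso
      apply hns
      haveI := hB'
      haveI : Group.IsSolvable (B.map π) := inferInstance
      rw [htop] at this
      exact Group.isSolvable_of_surjective (f := (Subgroup.topEquiv (G := G ⧸ R)).toMonoidHom)
        Subgroup.topEquiv.surjective
    · exact h
  have hcore := H71.CycReg.core_eq_bot _ (G ⧸ R) rfl _ _ hA' hB' hAB' hns hrad M hM hBM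
  letI : Fintype ((G ⧸ R) ⧸ M) := Fintype.ofFinite _
  set ρ := H71.CycReg.cosetHom M with hρ
  have hinj : Function.Injective ρ := by
    rw [injective_iff_map_eq_one]
    intro k hk
    rwa [H71.CycReg.cosetHom_eq_one, hcore, Subgroup.mem_bot] at hk
  have hns1 : ¬ Group.IsSolvable ρ.range := by
    intro h
    exact hns (Group.isSolvable_of_isSolvable_injective (f := ρ.rangeRestrict)
      (fun x y e => hinj (congrArg Subtype.val e)))
  obtain ⟨hH, hC⟩ := H71.CycReg.coset_classify _ _ M hA' hB' hAB' hM hBM hns1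
  set n := Fintype.card ((G ⧸ R) ⧸ M) with hn
  have h4 := hH.four
  have h3 : MulAction.IsMultiplyPretransitive ρ.range ((G ⧸ R) ⧸ M) 3 := by
    rw [MulAction.isMultiplyPretransitive_iff]
    intro x y
    obtain ⟨g, hg, h0, h1, h2⟩ := hC.three hH (x.injective.ne (by decide : (0 : Fin 3) ≠ 1))
      (x.injective.ne (by decide : (0 : Fin 3) ≠ 2)) (x.injective.ne (by decide : (1 : Fin 3) ≠ 2))
      (y.injective.ne (by decide : (0 : Fin 3) ≠ 1)) (y.injective.ne (by decide : (0 : Fin 3) ≠ 2))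
      (y.injective.ne (by decide : (1 : Fin 3) ≠ 2))
    refine ⟨⟨g, hg⟩, ?_⟩
    ext i
    fin_cases i <;> [exact h0; exact h1; exact h2]
  have hsharp : ∀ x : Fin 3 ↪ ((G ⧸ R) ⧸ M), MulAction.stabilizer ρ.range x = ⊥ := by
    intro x
    rw [Subgroup.eq_bot_iff_forall]
    intro g hg
    have h := MulAction.mem_stabilizer_iff.1 hg
    refine Subtype.ext (hC.fix3 g g.2 (x 0) (x 1) (x 2) (x.injective.ne (by decide))
      (x.injective.ne (by decide)) (x.injective.ne (by decide)) ?_ ?_ ?_) <;>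
      exact congrArg (fun e : Fin 3 ↪ _ => e _) h
  have hp2 : n - 1 ≠ 2 := fun e => by
    obtain ⟨k, hk⟩ := hH.even
    omega
  obtain ⟨F, hF, hFt, hcardF, ⟨e⟩⟩ := Cfsg.Agent.S0730.result (p := n - 1) (f := 1) hC.prime hp2 odd_one
    (by rw [pow_one]; omega) ρ.range h3 hsharp
  refine ⟨F, hF, hFt, n - 1, hC.prime, ?_, by rw [hcardF, pow_one], ⟨(MonoidHom.ofInjective hinj).trans e⟩⟩
  by_contra hle
  have hn4 : n = 4 := by
    obtain ⟨k, hk⟩ := hH.even
    have := hC.prime.two_le
    omega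
  apply hns1
  obtain ⟨a⟩ : Nonempty ((G ⧸ R) ⧸ M) := Fintype.card_pos_iff.1 (by omega)
  obtain ⟨b, hba, -⟩ := hH.exists_third a a
  have hcard : Nat.card ρ.range = 24 := by
    rw [hH.card_G a, hH.card_St (Ne.symm hba), hC.card_two a b (Ne.symm hba), ← hn, hn4]
  refine H33.isSolvable_of_two_primes Nat.prime_two Nat.prime_three fun r hr hd => ?_
  rw [hcard, show 24 = 2 ^ 3 * 3 from rfl] at hd
  rcases hr.dvd_mul.1 hd with h | h
  · exact Or.inl ((Nat.prime_dvd_prime_iff_eq hr Nat.prime_two).1 (hr.dvd_of_dvd_pow h))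
  · exact Or.inr ((Nat.prime_dvd_prime_iff_eq hr Nat.prime_three).1 h)

end Cfsg.Agent.S3252
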