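import Cfsg.Statements.S3261
import Cfsg.Agent.H70.DihedralEightSimple
import Cfsg.Agent.H70.AltSixCentralizer
import Cfsg.Agent.H14.PerfectD8
import Cfsg.Agent.H65.Order360
import Cfsg.Agent.S0495

set_option autoImplicit false
open Cfsg

namespace Cfsg.Agent.S3261

/-- Let α̃ be an involution of the alternating group A₆ that is a product of two disjoint transpositions (it lies in the centre of a Sylow 2-subgroup of A₆; its centralizer is dihedral of order 8). Let G be a finite group that has no subgroup of index 2 and contains an involution α, central in some Sylow 2-subgroup of G, with C_G(α) ≅ C_{A₆}(α̃). Then G is isomorphic to A₆ or to PSL₂(7). -/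
theorem result {G : Type*} [Group G] [Finite G]
    (hG : ∀ H : Subgroup G, H.index ≠ 2)
    (αt : ↥(alternatingGroup (Fin 6))) (hαt : orderOf αt = 2) (hsupp : (αt : Equiv.Perm (Fin 6)).support.card = 4)
    (α : G) (hα : orderOf α = 2) (S : Sylow 2 G) (hαS : α ∈ (S : Subgroup G)) (hαc : ∀ s ∈ (S : Subgroup G), s * α = α * s)
    (e : ↥(Subgroup.centralizer ({α} : Set G)) ≃* ↥(Subgroup.centralizer ({αt} : Set ↥(alternatingGroup (Fin 6))))) :
    Nonempty (G ≃* ↥(alternatingGroup (Fin 6))) ∨
      (∃ (F : Type) (_ : Field F) (_ : Fintype F), Fintype.card F = 7 ∧ Nonempty (G ≃* Matrix.ProjectiveSpecialLinearGroup (Fin 2) F)) := by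
  classical
  haveI : Fact (Nat.Prime 2) := ⟨Nat.prime_two⟩
  letI := Fintype.ofFinite G
  set C := Subgroup.centralizer ({α} : Set G) with hC
  obtain ⟨eD⟩ := H70.alt_six_centralizer_dihedral αt hαt hsupp
  let e8 : ↥C ≃* DihedralGroup 4 := e.trans eD
  have hcard : Nat.card ↥C = 8 := by
    rw [Nat.card_congr e8.toEquiv, Nat.card_eq_fintype_card, DihedralGroup.card]
  have hSC : (S : Subgroup G) = C :=
    (S.is_maximal' (IsPGroup.of_card (n := 3) (by rw [hcard]; norm_num))
      (fun s hs => Subgroup.mem_centralizer_singleton_iff.mpr (hαc s hs))).symm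
  haveI := H70.isSimple_of_centralizer_d8 hG hα S hSC e8
  have hnc : ¬ IsMulCommutative G := fun h => by
    have hc : ∀ a b : DihedralGroup 4, a * b = b * a := fun a b => by
      obtain ⟨a, rfl⟩ := e8.surjective a
      obtain ⟨b, rfl⟩ := e8.surjective b
      rw [← map_mul, ← map_mul]
      exact congrArg e8 (Subtype.ext (h.is_comm.comm (a : G) b))
    exact absurd (hc (DihedralGroup.r 1) (DihedralGroup.sr 0)) (by decide)
  have hperf : commutator G = ⊤ := by
    refine (Subgroup.Normal.eq_bot_or_eq_top inferInstance).resolve_left fun h => hnc ⟨⟨fun a b => ?_⟩⟩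
    rw [← commutatorElement_eq_one_iff_mul_comm, ← Subgroup.mem_bot, ← h, commutator_def]
    exact Subgroup.commutator_mem_commutator (Subgroup.mem_top a) (Subgroup.mem_top b)
  rcases H14.perfect_d8 hperf α hα e8 with h168 | h360
  · haveI : Fact (Nat.Prime 7) := ⟨by norm_num⟩
    exact Or.inr ⟨ZMod 7, inferInstance, inferInstance, ZMod.card 7,
      Cfsg.Agent.S0495.result h168 (ZMod.card 7)⟩
  · exact Or.inl (H65.alternating_six_of_card h360)

end Cfsg.Agent.S3261
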