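import Cfsg.Statements.S3265
import Cfsg.Agent.H29.OddProductMain
-- import your own Cfsg.Agent.* helpers here

set_option autoImplicit false
open Cfsg

namespace Cfsg.Agent.S3265

open Equiv Equiv.Perm in
theorem isConj_of_card {n : ℕ} {t z : Equiv.Perm (Fin n)} (ht : orderOf t = 2) (hz : z * z = 1)
    (hc : z.support.card = t.support.card) : IsConj t z := by
  have hz1 : z ≠ 1 := by
    intro h
    rw [h, Equiv.Perm.support_one, Finset.card_empty, eq_comm, Finset.card_eq_zero,
      Equiv.Perm.support_eq_empty_iff] at hc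
    rw [hc, orderOf_one] at ht
    omega
  have hzo : orderOf z = 2 := orderOf_eq_prime (by rw [sq, hz]) hz1
  obtain ⟨i, hi⟩ := cycleType_prime_order (σ := t) (by rw [ht]; exact Nat.prime_two)
  obtain ⟨j, hj⟩ := cycleType_prime_order (σ := z) (by rw [hzo]; exact Nat.prime_two)
  rw [ht] at hi
  rw [hzo] at hj
  rw [isConj_iff_cycleType_eq, hi, hj]
  have h1 := sum_cycleType t
  have h2 := sum_cycleType z
  rw [hi, Multiset.sum_replicate, smul_eq_mul] at h1
  rw [hj, Multiset.sum_replicate, smul_eq_mul] at h2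
  rw [show i = j by omega]

open Equiv Equiv.Perm in
theorem common_neighbour {n : ℕ} (hn : 5 ≤ n) {t x y : Equiv.Perm (Fin n)} (ht : orderOf t = 2)
    (hx : IsConj t x) (hy : IsConj t y) :
    ∃ z, IsConj t z ∧ Odd (orderOf (x * z)) ∧ Odd (orderOf (y * z)) := by
  have hconj : ∀ u, IsConj t u → u * u = 1 ∧ u.support.card = t.support.card := by
    intro u hu
    have ht2 : t * t = 1 := by rw [← sq, ← ht, pow_orderOf_eq_one]
    obtain ⟨g, rfl⟩ := isConj_iff.1 hu
    exact ⟨by rw [conj_mul, ht2, mul_one, mul_inv_cancel],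
      by rw [support_conj, Finset.card_map]⟩
  obtain ⟨hx2, hxc⟩ := hconj x hx
  obtain ⟨hy2, hyc⟩ := hconj y hy
  rcases H29.link_or_exc x y hx2 hy2 (hxc.trans hyc.symm) with ⟨z, hz⟩ | hexc
  · exact ⟨z, isConj_of_card ht hz.sq (hz.card.trans hxc), hz.oddx, hz.oddy⟩
  · obtain ⟨p, hp⟩ : (x.support ∪ y.support).Nonempty :=
      Finset.card_pos.1 (by rw [hexc.card]; omega)
    obtain ⟨q, r, s, hpq, hpr, hps, hqr, hqs, hrs, -, hxe, hye, hset⟩ := hexc.points hx2 hy2 hp
    obtain ⟨e, he⟩ : ∃ e, e ∉ x.support ∪ y.support := by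
      by_contra h
      push_neg at h
      have := hexc.card
      rw [Finset.eq_univ_iff_forall.2 h, Finset.card_univ, Fintype.card_fin] at this
      omega
    rw [hset] at he
    simp only [Finset.mem_insert, Finset.mem_singleton, not_or] at he
    have hinj : Function.Injective ![p, q, r, s, e] := by
      apply H29.injective_of_nodup
      simp [hpq, hpr, hps, hqr, hqs, hrs, Ne.symm he.1, Ne.symm he.2.1, Ne.symm he.2.2.1,
        Ne.symm he.2.2.2]
    let Φ := viaEmbeddingHom (⟨_, hinj⟩ : Fin 5 ↪ Fin n)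
    have hX : x = Φ (swap 0 1 * swap 2 3) := by
      rw [hxe]
      simp [Φ, map_mul, H29.viaEmbeddingHom_swap]
    have hY : y = Φ (swap 1 2 * swap 0 3) := by
      rw [hye]
      simp [Φ, map_mul, H29.viaEmbeddingHom_swap]
    have hm : (swap (0 : Fin 5) 1 * swap 2 4) * (swap 0 1 * swap 2 4) = 1 ∧
        (swap (0 : Fin 5) 1 * swap 2 4).support.card = (swap (0 : Fin 5) 1 * swap 2 3).support.card ∧
        (swap (0 : Fin 5) 1 * swap 2 3 * (swap 0 1 * swap 2 4)) ^ 3 = 1 ∧
        (swap (1 : Fin 5) 2 * swap 0 3 * (swap 0 1 * swap 2 4)) ^ 5 = 1 := by decide +kernel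
    obtain ⟨h1, h2, h3, h4⟩ := hm
    refine ⟨Φ (swap 0 1 * swap 2 4), isConj_of_card ht ?_ ?_, ?_, ?_⟩
    · rw [← map_mul, h1, map_one]
    · rw [← hxc, hX]
      simp only [Φ, H29.support_viaEmbeddingHom, Finset.card_map, h2]
    · rw [hX, ← map_mul]
      exact H29.odd_orderOf_of_pow (by decide : Odd 3) (by rw [← map_pow, h3, map_one])
    · rw [hY, ← map_mul]
      exact H29.odd_orderOf_of_pow (by decide : Odd 5) (by rw [← map_pow, h4, map_one])

open Equiv Equiv.Perm in
theorem exists_far {n : ℕ} (hn : 5 ≤ n) {t : Equiv.Perm (Fin n)} (ht : orderOf t = 2) :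
    ∃ x y, IsConj t x ∧ IsConj t y ∧ orderOf (x * y) = 2 := by
  have ht2 : t * t = 1 := by rw [← sq, ← ht, pow_orderOf_eq_one]
  have ht1 : t ≠ 1 := fun h => by rw [h, orderOf_one] at ht; omega
  obtain ⟨a, ha⟩ : ∃ a, t a ≠ a := by
    by_contra h
    push_neg at h
    exact ht1 (Equiv.ext h)
  obtain ⟨b, hab⟩ : ∃ b, t a = b := ⟨_, rfl⟩
  have nab : a ≠ b := fun h => ha (hab.trans h.symm)
  obtain ⟨t1, hte, ht12, ht1a, ht1b, ht1o, -, htd, htc⟩ := H29.exists_peel ht2 hab nab
  by_cases h : t1 = 1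
  · obtain ⟨c, hc⟩ : ∃ c, c ∉ ({a, b} : Finset (Fin n)) := by
      by_contra h'
      push_neg at h'
      have := Finset.card_le_two (a := a) (b := b)
      rw [Finset.eq_univ_iff_forall.2 h', Finset.card_univ, Fintype.card_fin] at this
      omega
    obtain ⟨d, hd⟩ : ∃ d, d ∉ ({a, b, c} : Finset (Fin n)) := by
      by_contra h'
      push_neg at h'
      have := Finset.card_le_three (a := a) (b := b) (c := c)
      rw [Finset.eq_univ_iff_forall.2 h', Finset.card_univ, Fintype.card_fin] at this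
      omega
    simp only [Finset.mem_insert, Finset.mem_singleton, not_or] at hc hd
    have hinj : Function.Injective ![a, b, c, d] := by
      apply H29.injective_of_nodup
      simp [nab, Ne.symm hc.1, Ne.symm hc.2, Ne.symm hd.1, Ne.symm hd.2.1, Ne.symm hd.2.2]
    refine ⟨t, swap c d, IsConj.refl t, isConj_of_card ht (swap_mul_self c d) ?_, ?_⟩
    · rw [h, mul_one] at hte
      rw [hte, card_support_swap nab, card_support_swap (Ne.symm hd.2.2)]
    · rw [hte, h, mul_one]
      have h2 : orderOf (swap (0 : Fin 4) 1 * swap 2 3) = 2 :=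
        orderOf_eq_prime (by decide +kernel) (by decide)
      rw [← orderOf_injective (viaEmbeddingHom ⟨_, hinj⟩) (viaEmbeddingHom_injective _)] at h2
      simpa [map_mul, H29.viaEmbeddingHom_swap] using h2
  · obtain ⟨c, hc⟩ : ∃ c, t1 c ≠ c := by
      by_contra h'
      push_neg at h'
      exact h (Equiv.ext h')
    obtain ⟨d, hcd⟩ : ∃ d, t1 c = d := ⟨_, rfl⟩
    have ncd : c ≠ d := fun k => hc (hcd.trans k.symm)
    have nca : c ≠ a := fun k => hc (by rw [k, ht1a])
    have ncb : c ≠ b := fun k => hc (by rw [k, ht1b])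
    have nda : d ≠ a := fun k => nca (t1.injective (by rw [hcd, ht1a, k]))
    have ndb : d ≠ b := fun k => ncb (t1.injective (by rw [hcd, ht1b, k]))
    obtain ⟨t2, hte2, ht22, ht2c, ht2d, ht2o, -, -, htc2⟩ := H29.exists_peel ht12 hcd ncd
    have ht2a : t2 a = a := by rw [ht2o a nca.symm nda.symm, ht1a]
    have ht2b : t2 b = b := by rw [ht2o b ncb.symm ndb.symm, ht1b]
    have hinj : Function.Injective ![a, b, c, d] := by
      apply H29.injective_of_nodup
      simp [nab, ncd, nca.symm, ncb.symm, nda.symm, ndb.symm]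
    let f : Fin 4 ↪ Fin n := ⟨_, hinj⟩
    let Φ := viaEmbeddingHom f
    have dP : ∀ P, Perm.Disjoint (Φ P) t2 := by
      intro P
      refine H29.perm_disjoint_of ?_
      rw [H29.support_viaEmbeddingHom, Finset.disjoint_left]
      intro u hu
      obtain ⟨i, -, rfl⟩ := Finset.mem_map.1 hu
      rw [notMem_support]
      fin_cases i <;> assumption
    have htΦ : t = Φ (swap 0 1 * swap 2 3) * t2 := by
      rw [hte, hte2]
      simp [Φ, f, map_mul, H29.viaEmbeddingHom_swap, mul_assoc]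
    have hA : (swap (0 : Fin 4) 2 * swap 1 3) * (swap 0 2 * swap 1 3) = 1 ∧
        (swap (0 : Fin 4) 2 * swap 1 3).support.card = (swap (0 : Fin 4) 1 * swap 2 3).support.card := by
      decide +kernel
    refine ⟨t, Φ (swap 0 2 * swap 1 3) * t2, IsConj.refl t, isConj_of_card ht ?_ ?_, ?_⟩
    · rw [(dP _).commute.symm.mul_mul_mul_comm, ← map_mul, hA.1, map_one, ht22, one_mul]
    · conv_rhs => rw [htΦ]
      rw [(dP _).card_support_mul, (dP _).card_support_mul]
      simp only [Φ, H29.support_viaEmbeddingHom, Finset.card_map, hA.2]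
    · rw [htΦ, (dP _).commute.symm.mul_mul_mul_comm, ← map_mul, ht22, mul_one,
        orderOf_injective Φ (viaEmbeddingHom_injective _)]
      exact orderOf_eq_prime (by decide +kernel) (by decide)

/-- Let n ≥ 5 and let X be a conjugacy class of involutions of the symmetric group of degree n. The graph on X joining two distinct involutions whose product has odd order is connected and has diameter exactly 2. -/
theorem result (n : ℕ) (hn : 5 ≤ n) (t : Equiv.Perm (Fin n)) (ht : orderOf t = 2) :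
    (SimpleGraph.fromRel fun x y : {x : Equiv.Perm (Fin n) // IsConj t x} =>
        Odd (orderOf (x.1 * y.1))).Connected ∧
      (SimpleGraph.fromRel fun x y : {x : Equiv.Perm (Fin n) // IsConj t x} =>
        Odd (orderOf (x.1 * y.1))).diam = 2 := by
  set G := SimpleGraph.fromRel fun x y : {x : Equiv.Perm (Fin n) // IsConj t x} =>
    Odd (orderOf (x.1 * y.1)) with hG
  have ht2 : t * t = 1 := by rw [← sq, ← ht, pow_orderOf_eq_one]
  have hsq : ∀ x : {x : Equiv.Perm (Fin n) // IsConj t x}, x.1 * x.1 = 1 := by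
    rintro ⟨u, hu⟩
    obtain ⟨g, rfl⟩ := isConj_iff.1 hu
    rw [conj_mul, ht2, mul_one, mul_inv_cancel]
  have hodd : ∀ x y : {x : Equiv.Perm (Fin n) // IsConj t x},
      Odd (orderOf (x.1 * y.1)) → Odd (orderOf (y.1 * x.1)) := by
    intro x y h
    have h1 : y.1 * x.1 = (x.1 * y.1)⁻¹ := by
      rw [mul_inv_rev, inv_eq_of_mul_eq_one_right (hsq x), inv_eq_of_mul_eq_one_right (hsq y)]
    rwa [h1, orderOf_inv]
  haveI : Nonempty {x : Equiv.Perm (Fin n) // IsConj t x} := ⟨⟨t, IsConj.refl t⟩⟩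
  have h2 : ∀ u v, G.edist u v ≤ 2 := by
    intro u v
    by_cases huv : u = v
    · rw [huv, SimpleGraph.edist_self]; exact zero_le
    obtain ⟨z, hz, hzu, hzv⟩ := common_neighbour hn ht u.2 v.2
    by_cases h1 : (⟨z, hz⟩ : {x : Equiv.Perm (Fin n) // IsConj t x}) = u
    · have hadj : G.Adj u v := by
        rw [hG, SimpleGraph.fromRel_adj]
        exact ⟨huv, Or.inr (h1 ▸ hzv)⟩
      rw [SimpleGraph.edist_eq_one_iff_adj.2 hadj]
      exact one_le_two
    by_cases h3 : (⟨z, hz⟩ : {x : Equiv.Perm (Fin n) // IsConj t x}) = v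
    · have hadj : G.Adj u v := by
        rw [hG, SimpleGraph.fromRel_adj]
        exact ⟨huv, Or.inl (h3 ▸ hzu)⟩
      rw [SimpleGraph.edist_eq_one_iff_adj.2 hadj]
      exact one_le_two
    have a1 : G.Adj u ⟨z, hz⟩ := by
      rw [hG, SimpleGraph.fromRel_adj]
      exact ⟨Ne.symm h1, Or.inl hzu⟩
    have a2 : G.Adj ⟨z, hz⟩ v := by
      rw [hG, SimpleGraph.fromRel_adj]
      exact ⟨h3, Or.inr hzv⟩
    exact SimpleGraph.edist_le (SimpleGraph.Walk.cons a1 (SimpleGraph.Walk.cons a2 .nil))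
  have hle : G.ediam ≤ 2 := SimpleGraph.ediam_le_of_edist_le h2
  refine ⟨SimpleGraph.connected_of_ediam_ne_top (ne_top_of_le_ne_top (by decide) hle), ?_⟩
  obtain ⟨x, y, hx, hy, hxy⟩ := exists_far hn ht
  have hd : G.edist ⟨x, hx⟩ ⟨y, hy⟩ = 2 := by
    refine le_antisymm (h2 _ _) ?_
    rw [show (2 : ℕ∞) = 1 + 1 from rfl, ENat.add_one_le_iff (by decide)]
    have hne : (⟨x, hx⟩ : {x : Equiv.Perm (Fin n) // IsConj t x}) ≠ ⟨y, hy⟩ := by
      intro h
      have h' : x = y := congrArg Subtype.val h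
      rw [h', hsq ⟨y, hy⟩, orderOf_one] at hxy
      omega
    refine lt_of_le_of_ne (Order.one_le_iff_pos.2 (SimpleGraph.edist_pos_of_ne hne)) ?_
    intro h
    have hadj := SimpleGraph.edist_eq_one_iff_adj.1 h.symm
    rw [hG, SimpleGraph.fromRel_adj] at hadj
    have hbad : ¬ Odd (orderOf (x * y)) := by rw [hxy]; decide
    rcases hadj.2 with h' | h'
    · exact hbad h'
    · exact hbad (hodd ⟨y, hy⟩ ⟨x, hx⟩ h')
  have heq : G.ediam = 2 := le_antisymm hle (hd ▸ SimpleGraph.edist_le_ediam)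
  rw [SimpleGraph.diam, heq]
  rfl

end Cfsg.Agent.S3265
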