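import Cfsg.Statements.S3266
import Cfsg.Agent.H70.OddGraph
import Cfsg.Agent.H70.PSL2OddGraph
import Cfsg.Agent.H66.Isolated

set_option autoImplicit false
open Cfsg

namespace Cfsg.Agent.S3266

/-- Let F be a finite field with at least 4 elements and let X be a conjugacy class of involutions of PSL(2, F). The graph on X joining two distinct involutions whose product has odd order is connected and has diameter exactly 2. -/
theorem result {F : Type*} [Field F] [Fintype F] (hF : 4 ≤ Fintype.card F)
    (t : Matrix.ProjectiveSpecialLinearGroup (Fin 2) F) (ht : orderOf t = 2) :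
    (SimpleGraph.fromRel fun x y : {x : Matrix.ProjectiveSpecialLinearGroup (Fin 2) F // IsConj t x} =>
        Odd (orderOf (x.1 * y.1))).Connected ∧
      (SimpleGraph.fromRel fun x y : {x : Matrix.ProjectiveSpecialLinearGroup (Fin 2) F // IsConj t x} =>
        Odd (orderOf (x.1 * y.1))).diam = 2 := by
  classical
  obtain ⟨p, hp⟩ := CharP.exists F
  haveI : Fact p.Prime := ⟨CharP.char_is_prime F p⟩
  have hpath := H70.exists_odd_path (F := F) p hF
  have hconj : ∀ x z : Matrix.ProjectiveSpecialLinearGroup (Fin 2) F, IsConj t x → orderOf z = 2 →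
      Odd (orderOf (x * z)) → IsConj t z := by
    intro x z htx hz hodd
    have hx : orderOf x = 2 := by
      obtain ⟨g, rfl⟩ := isConj_iff.mp htx
      exact (orderOf_injective (MulAut.conj g).toMonoidHom (MulEquiv.injective _) t).trans ht
    obtain ⟨k, -, -, -, hk⟩ := H66.exists_conj_of_odd_mul (u := x) (v := z)
      (by rw [← sq]; exact orderOf_dvd_iff_pow_eq_one.mp hx.dvd)
      (by rw [← sq]; exact orderOf_dvd_iff_pow_eq_one.mp hz.dvd) hodd
    exact htx.trans (isConj_iff.mpr ⟨k, hk⟩)
  have hall : ∀ z : Matrix.ProjectiveSpecialLinearGroup (Fin 2) F, orderOf z = 2 → IsConj t z := by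
    intro z hz
    obtain ⟨w, hw, h1, h2⟩ := hpath t z ht hz
    exact hconj w z (hconj t w (IsConj.refl t) hw h1) hz h2
  refine H70.oddGraph_diam_two t ht (fun x y hx hy _ => Or.inr (hpath x y hx hy)) hconj ?_
  -- two commuting involutions
  obtain ⟨W, U, hWt, hUt, hW1, hU1, hne, hcomm⟩ :
      ∃ W U : Matrix.SpecialLinearGroup (Fin 2) F, (W : Matrix (Fin 2) (Fin 2) F).trace = 0 ∧
        (U : Matrix (Fin 2) (Fin 2) F).trace = 0 ∧ H70.pmk W ≠ 1 ∧ H70.pmk U ≠ 1 ∧
        H70.pmk W ≠ H70.pmk U ∧ H70.pmk W * H70.pmk U = H70.pmk U * H70.pmk W := by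
    have hne' : ∀ W U : Matrix.SpecialLinearGroup (Fin 2) F,
        (U : Matrix (Fin 2) (Fin 2) F) ≠ W → (U : Matrix (Fin 2) (Fin 2) F) ≠ -W →
        H70.pmk W ≠ H70.pmk U := by
      intro W U h1 h2 h
      rw [← inv_mul_eq_one, ← map_inv, ← map_mul, H70.pmk_eq_one_iff,
        Matrix.SpecialLinearGroup.coe_mul] at h
      have hWW : (W : Matrix (Fin 2) (Fin 2) F) * ((W⁻¹ : Matrix.SpecialLinearGroup (Fin 2) F) :
          Matrix (Fin 2) (Fin 2) F) = 1 := by
        rw [← Matrix.SpecialLinearGroup.coe_mul, mul_inv_cancel, Matrix.SpecialLinearGroup.coe_one]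
      rcases h with h | h
      · apply h1
        have := congrArg ((W : Matrix (Fin 2) (Fin 2) F) * ·) h
        simpa only [← Matrix.mul_assoc, hWW, Matrix.one_mul, Matrix.mul_one] using this
      · apply h2
        have := congrArg ((W : Matrix (Fin 2) (Fin 2) F) * ·) h
        simpa only [← Matrix.mul_assoc, hWW, Matrix.one_mul, Matrix.mul_neg, Matrix.mul_one] using this
    by_cases hp2 : p = 2
    · subst hp2
      obtain ⟨s, hs0, hs1⟩ : ∃ s : F, s ≠ 0 ∧ s ≠ 1 := by
        by_contra h
        push Not at h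
        have : Fintype.card F ≤ ({0, 1} : Finset F).card := by
          rw [← Finset.card_univ]
          refine Finset.card_le_card fun s _ => ?_
          by_cases hs : s = 0
          · simp [hs]
          · simp [h s hs]
        have := this.trans Finset.card_le_two
        omega
      have h2 : (2 : F) = 0 := CharTwo.two_eq_zero
      obtain ⟨W, hW⟩ : ∃ W : Matrix.SpecialLinearGroup (Fin 2) F,
          (W : Matrix (Fin 2) (Fin 2) F) = !![0, 1; 1, 0] :=
        ⟨⟨_, by simp [Matrix.det_fin_two_of, CharTwo.neg_eq]⟩, rfl⟩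
      obtain ⟨U, hU⟩ : ∃ U : Matrix.SpecialLinearGroup (Fin 2) F,
          (U : Matrix (Fin 2) (Fin 2) F) = !![1 + s, s; s, 1 + s] :=
        ⟨⟨_, by rw [Matrix.det_fin_two_of]; linear_combination s * h2⟩, rfl⟩
      refine ⟨W, U, ?_, ?_, ?_, ?_, hne' W U ?_ ?_, ?_⟩
      · simp [hW, Matrix.trace_fin_two]
      · simp [hU, Matrix.trace_fin_two, CharTwo.add_self_eq_zero]
      · rw [Ne, H70.pmk_eq_one_iff, hW]
        rintro (h | h) <;> simpa using congrFun (congrFun h 0) 1
      · rw [Ne, H70.pmk_eq_one_iff, hU]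
        rintro (h | h) <;> exact hs0 (by simpa using congrFun (congrFun h 0) 1)
      · rw [hU, hW]
        intro h
        exact hs1 (by simpa using congrFun (congrFun h 0) 1)
      · rw [hU, hW]
        intro h
        exact hs1 (by simpa [CharTwo.neg_eq] using congrFun (congrFun h 0) 1)
      · rw [← map_mul, ← map_mul]
        congr 1
        refine Subtype.ext ?_
        rw [Matrix.SpecialLinearGroup.coe_mul, Matrix.SpecialLinearGroup.coe_mul, hU, hW]
        simp [Matrix.mul_fin_two, add_comm]
    · have hF2 : ringChar F ≠ 2 := by rw [ringChar.eq F p]; exact hp2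
      have h2 : (2 : F) ≠ 0 := Ring.two_ne_zero hF2
      obtain ⟨a, b, hab⟩ := FiniteField.exists_root_sum_quadratic
        (f := (Polynomial.X ^ 2 : Polynomial F)) (g := Polynomial.X ^ 2 + Polynomial.C 1)
        (Polynomial.degree_X_pow 2) (Polynomial.degree_X_pow_add_C two_pos 1)
        (FiniteField.odd_card_of_char_ne_two hF2)
      simp at hab
      obtain ⟨W, hW⟩ : ∃ W : Matrix.SpecialLinearGroup (Fin 2) F,
          (W : Matrix (Fin 2) (Fin 2) F) = !![0, 1; -1, 0] :=
        ⟨⟨_, by simp [Matrix.det_fin_two_of]⟩, rfl⟩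
      obtain ⟨U, hU⟩ : ∃ U : Matrix.SpecialLinearGroup (Fin 2) F,
          (U : Matrix (Fin 2) (Fin 2) F) = !![a, b; b, -a] :=
        ⟨⟨_, by rw [Matrix.det_fin_two_of]; linear_combination -hab⟩, rfl⟩
      refine ⟨W, U, ?_, ?_, ?_, ?_, hne' W U ?_ ?_, ?_⟩
      · simp [hW, Matrix.trace_fin_two]
      · simp [hU, Matrix.trace_fin_two]
      · rw [Ne, H70.pmk_eq_one_iff, hW]
        rintro (h | h) <;> simpa using congrFun (congrFun h 0) 1
      · rw [Ne, H70.pmk_eq_one_iff, hU]
        rintro (h | h) <;>
        · have h0 := congrFun (congrFun h 0) 0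
          have h1 := congrFun (congrFun h 1) 1
          simp at h0 h1
          first
            | exact h2 (by linear_combination -h0 - h1)
            | exact h2 (by linear_combination h0 + h1)
            | exact h2 (by linear_combination h0 - h1)
            | exact h2 (by linear_combination h1 - h0)
      · rw [hU, hW]
        intro h
        have h1 := congrFun (congrFun h 0) 1
        have h0 := congrFun (congrFun h 1) 0
        simp at h0 h1
        exact h2 (by linear_combination h0 - h1)
      · rw [hU, hW]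
        intro h
        have h1 := congrFun (congrFun h 0) 1
        have h0 := congrFun (congrFun h 1) 0
        simp at h0 h1
        exact h2 (by linear_combination h1 - h0)
      · have h1 : H70.pmk (W * U) = H70.pmk (U * W) := by
          rw [← inv_mul_eq_one, ← map_inv, ← map_mul, H70.pmk_eq_one_iff]
          refine Or.inr ?_
          simp only [Matrix.SpecialLinearGroup.coe_mul, Matrix.SpecialLinearGroup.coe_inv, hU, hW,
            Matrix.mul_fin_two, Matrix.adjugate_fin_two_of]
          ext i j
          fin_cases i <;> fin_cases j <;> simp <;> first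
            | linear_combination hab
            | linear_combination -hab
            | ring
        rw [← map_mul, ← map_mul, h1]
  obtain ⟨g, hg⟩ := isConj_iff.mp (hall _ (H70.orderOf_pmk hWt hW1))
  refine ⟨g⁻¹ * H70.pmk U * g, hall _ ?_, fun h => ?_, ?_⟩
  · have h1 := orderOf_injective (MulAut.conj g⁻¹).toMonoidHom (MulEquiv.injective _) (H70.pmk U)
    simp only [MulEquiv.toMonoidHom_eq_coe, MonoidHom.coe_coe, MulAut.conj_apply, inv_inv] at h1
    exact h1.trans (H70.orderOf_pmk hUt hU1)
  · apply hne
    rw [← hg, ← h]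
    group
  · calc t * (g⁻¹ * H70.pmk U * g) = g⁻¹ * (g * t * g⁻¹ * H70.pmk U) * g := by group
      _ = g⁻¹ * (H70.pmk U * (g * t * g⁻¹)) * g := by rw [hg, hcomm]
      _ = g⁻¹ * H70.pmk U * g * t := by group

end Cfsg.Agent.S3266
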