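import Cfsg.Statements.S3269
import Cfsg.Agent.H70.QuatFactorInvolution
import Cfsg.Agent.H85.BrauerSuzuki
import Cfsg.Agent.H1.Cores

set_option autoImplicit false
open Cfsg

namespace Cfsg.Agent.S3269

/-- Let G be a finite group whose Sylow 2-subgroup S is an internal direct product Q × R with Q generalized quaternion (of order at least 8) and R a subgroup all of whose involutions are central in R. Then G is not simple. In particular no finite simple group has a Sylow 2-subgroup that is a direct product of one or more generalized quaternion groups. -/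
theorem result {G : Type*} [Group G] [Finite G]
    (S : Sylow 2 G) (Q R : Subgroup G) (hQR : Cfsg.IsInternalDirectProduct Q R (S : Subgroup G))
    (n : ℕ) (hn : 1 ≤ n) (eQ : ↥Q ≃* QuaternionGroup (2 ^ n))
    (hR : ∀ r ∈ R, orderOf r = 2 → ∀ s ∈ R, r * s = s * r) :
    ¬ IsSimpleGroup G := by
  classical
  intro hsimple
  haveI := hsimple
  haveI : Fact (Nat.Prime 2) := ⟨Nat.prime_two⟩
  obtain ⟨z, hz⟩ := H70.qFactor_of_quaternion hn hQR eQ
  -- all involutions of `S` are central in `S`
  have hcen : ∀ x ∈ (S : Subgroup G), x * x = 1 → ∀ s ∈ (S : Subgroup G), s * x = x * s := by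
    intro x hx hxx s hs
    obtain ⟨q, hq, r, hr, rfl⟩ := hz.exists_decomp hx
    obtain ⟨hQS, hRS, hc, -, -⟩ := hz.prod
    have h1 : (q * q) * (r * r) = 1 * 1 := by
      rw [one_mul, ← hxx]
      calc (q * q) * (r * r) = q * (q * r) * r := by group
        _ = q * (r * q) * r := by rw [hc q hq r hr]
        _ = _ := by group
    obtain ⟨hqq, hrr⟩ := hz.unique (mul_mem hq hq) (one_mem Q) (mul_mem hr hr) (one_mem R) h1
    have hqc : ∀ s ∈ (S : Subgroup G), s * q = q * s := by
      intro s hs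
      rcases hz.inv_two q hq hqq with e | e <;> rw [e]
      · group
      · exact hz.z_central s hs
    have hrc : s * r = r * s := by
      obtain ⟨q', hq', r', hr', rfl⟩ := hz.exists_decomp hs
      have h2 : r' * r = r * r' := by
        by_cases hr1 : r = 1
        · rw [hr1, mul_one, one_mul]
        · exact (hR r hr (orderOf_eq_prime (by rw [pow_two]; exact hrr) hr1) r' hr').symm
      rw [mul_assoc, h2, ← mul_assoc, hc q' hq' r hr, mul_assoc]
    rw [← mul_assoc, hqc s hs, mul_assoc, hrc, ← mul_assoc]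
  -- the product of the involutions of all quaternion factors
  let Zs := Subgroup.center ↥(S : Subgroup G)
  letI : CommGroup ↥Zs :=
    { (inferInstance : Group ↥Zs) with
      mul_comm := fun a b => Subtype.ext (Subgroup.mem_center_iff.mp b.2 a.1) }
  haveI := Fintype.ofFinite ↥Zs
  set F : Finset ↥Zs := Finset.univ.filter fun c : ↥Zs =>
    ∃ Q' R', H70.QFactor (S : Subgroup G) Q' R' ((c : ↥(S : Subgroup G)) : G) with hF
  have hzS : z ∈ (S : Subgroup G) := hz.prod.1 hz.mem
  let z0 : ↥Zs := ⟨⟨z, hzS⟩, Subgroup.mem_center_iff.mpr fun s => Subtype.ext (hz.z_central s s.2)⟩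
  have hz0 : z0 ∈ F := by
    rw [hF, Finset.mem_filter]
    exact ⟨Finset.mem_univ _, Q, R, hz⟩
  set w0 : ↥Zs := ∏ c ∈ F, c with hw0
  set w : G := ((w0 : ↥(S : Subgroup G)) : G) with hw
  have hwS : w ∈ (S : Subgroup G) := (w0 : ↥(S : Subgroup G)).2
  have hw2 : w * w = 1 := by
    have h1 : w0 * w0 = 1 := by
      rw [hw0, ← Finset.prod_mul_distrib]
      refine Finset.prod_eq_one fun c hc => ?_
      obtain ⟨-, Q', R', h'⟩ := Finset.mem_filter.mp hc
      exact Subtype.ext (Subtype.ext h'.sq)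
    exact congrArg (fun c : ↥Zs => ((c : ↥(S : Subgroup G)) : G)) h1
  have hw1 : w ≠ 1 := by
    intro e
    have h1 : w = z * (((∏ c ∈ F.erase z0, c : ↥Zs) : ↥(S : Subgroup G)) : G) := by
      rw [hw, hw0, ← Finset.mul_prod_erase _ _ hz0]
      rfl
    have h2 : (((∏ c ∈ F.erase z0, c : ↥Zs) : ↥(S : Subgroup G)) : G) ∈ R := by
      let K : Subgroup ↥Zs := (R.subgroupOf (S : Subgroup G)).subgroupOf Zs
      show (∏ c ∈ F.erase z0, c : ↥Zs) ∈ K
      refine prod_mem fun c hc => ?_
      obtain ⟨hne, hcF⟩ := Finset.mem_erase.mp hc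
      obtain ⟨-, Q', R', h'⟩ := Finset.mem_filter.mp hcF
      rcases hz.dichotomy h' with e' | e'
      · exact absurd (Subtype.ext (Subtype.ext e')) hne
      · exact e'
    rw [e] at h1
    exact hz.ne (hz.unique hz.mem (one_mem Q) h2 (one_mem R) (by rw [← h1, mul_one])).1
  have hwo : orderOf w = 2 := orderOf_eq_prime (by rw [pow_two]; exact hw2) hw1
  -- `w` is fixed by the normalizer of `S`
  have hfix : ∀ n ∈ Subgroup.normalizer ((S : Subgroup G) : Set G), n * w * n⁻¹ = w := by
    intro n hn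
    have hmem : ∀ x, x ∈ (S : Subgroup G) → n * x * n⁻¹ ∈ (S : Subgroup G) := fun x hx =>
      (Subgroup.mem_normalizer_iff.mp hn x).mp hx
    have hmap : (S : Subgroup G).map (MulAut.conj n).toMonoidHom = (S : Subgroup G) := by
      refine Subgroup.eq_of_le_of_card_ge (fun _ ⟨x, hx, hxe⟩ => hxe ▸ hmem x hx) ?_
      rw [Subgroup.card_map_of_injective (MulAut.conj n).injective]
    have hcm : ∀ c : ↥Zs, (⟨n * ((c : ↥(S : Subgroup G)) : G) * n⁻¹, hmem _ (c : ↥(S : Subgroup G)).2⟩ :
        ↥(S : Subgroup G)) ∈ Zs := by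
      intro c
      show _ ∈ Subgroup.center ↥(S : Subgroup G)
      rw [Subgroup.mem_center_iff]
      rintro ⟨s, hs⟩
      have hs' : s ∈ (S : Subgroup G).map (MulAut.conj n).toMonoidHom := by rw [hmap]; exact hs
      obtain ⟨x, hx, rfl⟩ := hs'
      have h1 : x * ((c : ↥(S : Subgroup G)) : G) = ((c : ↥(S : Subgroup G)) : G) * x :=
        congrArg Subtype.val (Subgroup.mem_center_iff.mp c.2 ⟨x, hx⟩)
      refine Subtype.ext ?_
      show (n * x * n⁻¹) * (n * ((c : ↥(S : Subgroup G)) : G) * n⁻¹) =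
        n * ((c : ↥(S : Subgroup G)) : G) * n⁻¹ * (n * x * n⁻¹)
      calc (n * x * n⁻¹) * (n * ((c : ↥(S : Subgroup G)) : G) * n⁻¹)
          = n * (x * ((c : ↥(S : Subgroup G)) : G)) * n⁻¹ := by group
        _ = _ := by rw [h1]; group
    let χ : ↥Zs →* ↥Zs := MonoidHom.mk' (fun c => ⟨_, hcm c⟩) fun c d => Subtype.ext (Subtype.ext (by
      show n * (((c : ↥(S : Subgroup G)) : G) * ((d : ↥(S : Subgroup G)) : G)) * n⁻¹ = _ * _
      group))
    have hχinj : Function.Injective χ := fun c d h => Subtype.ext (Subtype.ext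
      (mul_left_cancel (mul_right_cancel (congrArg (fun c : ↥Zs => ((c : ↥(S : Subgroup G)) : G)) h))))
    have himg : F.image χ = F := by
      refine Finset.eq_of_subset_of_card_le (fun d hd => ?_) ?_
      · obtain ⟨c, hc, rfl⟩ := Finset.mem_image.mp hd
        obtain ⟨-, Q', R', h'⟩ := Finset.mem_filter.mp hc
        rw [hF, Finset.mem_filter]
        exact ⟨Finset.mem_univ _, _, _, h'.map (MulAut.conj n) hmap⟩
      · rw [Finset.card_image_of_injective _ hχinj]
    have h1 : χ w0 = w0 := by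
      rw [hw0, map_prod]
      conv_rhs => rw [← himg, Finset.prod_image fun a _ b _ h => hχinj h]
    exact congrArg (fun c : ↥Zs => ((c : ↥(S : Subgroup G)) : G)) h1
  -- `w` is isolated
  have hiso : ∀ g : G, g * w * g⁻¹ ∈ (S : Subgroup G) → g * w * g⁻¹ = w := by
    intro g hg
    have hg2 : g * w * g⁻¹ * (g * w * g⁻¹) = 1 := by
      rw [show g * w * g⁻¹ * (g * w * g⁻¹) = g * (w * w) * g⁻¹ by group, hw2, mul_one, mul_inv_cancel]
    obtain ⟨m, hm, hme⟩ := S.conj_eq_normalizer_conj_of_mem_centralizer w g⁻¹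
      (Subgroup.mem_centralizer_iff.mpr (hcen w hwS hw2))
      (by rw [inv_inv]; exact Subgroup.mem_centralizer_iff.mpr (hcen _ hg hg2))
    rw [inv_inv] at hme
    have h1 := hfix m⁻¹ (inv_mem hm)
    rw [inv_inv] at h1
    exact hme.trans h1
  have hZ := H85.zStar (H85.isolated_of_sylow S hwo hwS hiso)
  haveI := H1.pPrimeCore_normal' 2 G
  have hcore : Cfsg.pPrimeCore 2 G = ⊥ := by
    refine (Subgroup.Normal.eq_bot_or_eq_top inferInstance).resolve_right fun h => ?_
    exact H85.notMem_core_of_orderOf_two hwo (h ▸ Subgroup.mem_top w)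
  have hNn : (Subgroup.zpowers w).Normal := ⟨fun y hy g => by
    obtain ⟨i, rfl⟩ := Subgroup.mem_zpowers_iff.mp hy
    have h1 := hZ g
    rw [hcore, Subgroup.mem_bot, mul_inv_eq_one, mul_inv_eq_iff_eq_mul] at h1
    have h2 : Commute g w := h1.symm
    rw [(h2.zpow_right i).eq, mul_inv_cancel_right]
    exact Subgroup.zpow_mem _ (Subgroup.mem_zpowers w) i⟩
  rcases hNn.eq_bot_or_eq_top with h | h
  · exact hw1 (Subgroup.zpowers_eq_bot.mp h)
  · have hQle : Nat.card ↥Q ≤ Nat.card ↥(Subgroup.zpowers w) := by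
      rw [h, Subgroup.card_top]; exact Subgroup.card_le_card_group Q
    rw [Nat.card_zpowers, hwo, Nat.card_congr eQ.toEquiv, Nat.card_eq_fintype_card,
      QuaternionGroup.card] at hQle
    have := Nat.two_pow_pos n
    omega

end Cfsg.Agent.S3269
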