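import Cfsg.Statements.S3276
import Cfsg.Agent.H70.TwoInvol
import Mathlib.Algebra.Group.Subgroup.Ker
import Mathlib.GroupTheory.Index
import Mathlib.Algebra.Group.Subgroup.Lattice

set_option autoImplicit false
open Cfsg

namespace Cfsg.Agent.S3276

/-- Let x and y be commuting, non-conjugate involutions of a finite group G, and suppose that for every involution u commuting with x, each conjugate of y that commutes with u also commutes with y. Then the normal closure of y is a proper, normal, elementary abelian 2-subgroup of G; and if y is the only involution of that normal closure commuting with x, it has order at most 4. -/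
theorem result {G : Type*} [Group G] [Finite G] (x y : G) (hx : orderOf x = 2) (hy : orderOf y = 2)
    (hxy : Commute x y) (hnc : ¬ IsConj x y)
    (hstar : ∀ u : G, orderOf u = 2 → Commute u x → ∀ g : G, Commute (g * y * g⁻¹) u → Commute (g * y * g⁻¹) y) :
    Subgroup.normalClosure ({y} : Set G) ≠ ⊤ ∧ Cfsg.IsElementaryAbelian 2 (Subgroup.normalClosure ({y} : Set G)) ∧
      ((∀ u ∈ Subgroup.normalClosure ({y} : Set G), orderOf u = 2 → Commute u x → u = y) →
        Nat.card ↥(Subgroup.normalClosure ({y} : Set G)) ≤ 4) := by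
  have hconj : ∀ g : G, Commute (g * y * g⁻¹) y := by
    intro g
    have hy' : orderOf (g * y * g⁻¹) = 2 := by rw [← hy]; exact MulEquiv.orderOf_eq (MulAut.conj g) y
    have hn : ¬ IsConj x (g * y * g⁻¹) := fun h => hnc (h.trans (isConj_iff.mpr ⟨g, rfl⟩).symm)
    obtain ⟨u, -, hu, hux, huy⟩ := H70.exists_commute_of_not_isConj hx hy' hn
    exact hstar u hu hux g huy.symm
  set E := Subgroup.normalClosure ({y} : Set G) with hE
  have hpair : ∀ a ∈ Group.conjugatesOfSet ({y} : Set G), ∀ b ∈ Group.conjugatesOfSet ({y} : Set G), Commute a b := by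
    intro a ha b hb
    simp only [Group.mem_conjugatesOfSet_iff, Set.mem_singleton_iff, exists_eq_left] at ha hb
    obtain ⟨g, rfl⟩ := isConj_iff.mp ha
    obtain ⟨h, rfl⟩ := isConj_iff.mp hb
    have := (hconj (h⁻¹ * g)).map (MulAut.conj h).toMonoidHom
    simpa [mul_assoc] using this
  have hcomm : ∀ a ∈ E, ∀ b ∈ E, Commute a b := by
    intro a ha b hb
    have hc : IsMulCommutative (Subgroup.closure (Group.conjugatesOfSet ({y} : Set G))) :=
      Subgroup.isMulCommutative_closure fun a ha b hb => hpair a ha b hb
    exact congrArg Subtype.val (hc.is_comm.comm ⟨a, ha⟩ ⟨b, hb⟩)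
  have hsq : ∀ a ∈ E, a ^ 2 = 1 := by
    intro a ha
    induction ha using Subgroup.closure_induction with
    | mem a ha =>
      simp only [Group.mem_conjugatesOfSet_iff, Set.mem_singleton_iff, exists_eq_left] at ha
      obtain ⟨g, rfl⟩ := isConj_iff.mp ha
      rw [conj_pow, ← hy, pow_orderOf_eq_one, mul_one, mul_inv_cancel]
    | one => exact one_pow _
    | mul a b ha hb iha ihb => rw [(hcomm a ha b hb).mul_pow, iha, ihb, one_mul]
    | inv a _ iha => rw [inv_pow, iha, inv_one]
  have hyE : y ∈ E := Subgroup.subset_normalClosure rfl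
  refine ⟨?_, ⟨⟨⟨fun a b => Subtype.ext (hcomm a a.2 b b.2)⟩⟩, hsq⟩, fun hfix => ?_⟩
  · intro htop
    have hN : (Subgroup.zpowers y).Normal := ⟨fun a ha g => by
      have : Commute g a := hcomm g (by rw [htop]; trivial) a (by rw [htop]; trivial)
      rw [this.eq, mul_assoc, mul_inv_cancel, mul_one]; exact ha⟩
    have hxy' : x ∈ Subgroup.zpowers y :=
      Subgroup.normalClosure_le_normal (Set.singleton_subset_iff.mpr (Subgroup.mem_zpowers y)) (show x ∈ E by rw [htop]; trivial)
    obtain ⟨k, hk⟩ := hxy'
    simp only at hk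
    rw [← zpow_mod_orderOf, hy] at hk
    rcases Int.emod_two_eq_zero_or_one k with h | h <;> rw [Nat.cast_two, h] at hk
    · rw [zpow_zero] at hk; rw [← hk, orderOf_one] at hx; simp at hx
    · rw [zpow_one] at hk; exact hnc (hk ▸ IsConj.refl _)
  · have hxE : ∀ a ∈ E, x * a * x⁻¹ ∈ E := fun a ha => Subgroup.normalClosure_normal.conj_mem a ha x
    let f : E →* E :=
      { toFun := fun a => ⟨(a : G) * (x * a * x⁻¹), mul_mem a.2 (hxE a a.2)⟩
        map_one' := by simp
        map_mul' := fun a b => Subtype.ext (by
          simp only [Subgroup.coe_mul]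
          rw [← conj_mul]
          exact (hcomm b b.2 _ (hxE a a.2)).mul_mul_mul_comm _ _) }
    have hset : ∀ a ∈ E, Commute a x → a = 1 ∨ a = y := by
      intro a ha hax
      by_cases h1 : a = 1
      · exact Or.inl h1
      · exact Or.inr (hfix a ha (orderOf_eq_prime (hsq a ha) h1) hax)
    have hsmall : ∀ K : Subgroup E, (∀ a ∈ K, Commute (a : G) x) → Nat.card K ≤ 2 := by
      intro K hK
      classical
      let g : K → Bool := fun a => decide (((a : E) : G) = 1)
      have : Function.Injective g := by
        intro a b hab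
        replace hab := decide_eq_decide.mp hab
        rcases hset _ (a : E).2 (hK _ a.2) with h | h <;> rcases hset _ (b : E).2 (hK _ b.2) with h' | h'
        · exact Subtype.ext (Subtype.ext (h.trans h'.symm))
        · exact Subtype.ext (Subtype.ext (h.trans (hab.mp h).symm))
        · exact Subtype.ext (Subtype.ext ((hab.mpr h').trans h'.symm))
        · exact Subtype.ext (Subtype.ext (h.trans h'.symm))
      simpa using Nat.card_le_card_of_injective g this
    have hker : Nat.card f.ker ≤ 2 := hsmall _ fun a ha => by
      have h1 : (a : G) * (x * a * x⁻¹) = 1 := congrArg Subtype.val ha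
      have h2 : x * (a : G) * x⁻¹ = a := by
        rw [eq_inv_of_mul_eq_one_right h1, inv_eq_iff_mul_eq_one, ← pow_two, hsq a a.2]
      rw [Commute, SemiconjBy]
      exact (mul_inv_eq_iff_eq_mul.mp h2).symm
    have hran : Nat.card f.range ≤ 2 := hsmall _ fun a ha => by
      obtain ⟨b, rfl⟩ := ha
      have hxb : x * (x * (b : G) * x⁻¹) * x⁻¹ = b := by
        have := H70.mul_self_of_two hx
        rw [H70.inv_eq_self_of_two hx]
        rw [← mul_assoc, ← mul_assoc, this, one_mul, mul_assoc, this, mul_one]
      change Commute ((b : G) * (x * b * x⁻¹)) x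
      have h3 : x * ((b : G) * (x * b * x⁻¹)) * x⁻¹ = (b : G) * (x * b * x⁻¹) := by
        rw [← conj_mul, hxb]
        exact hcomm _ (hxE b b.2) b b.2
      exact (mul_inv_eq_iff_eq_mul.mp h3).symm
    have := f.ker.card_mul_index
    rw [Subgroup.index_ker] at this
    rw [← this]
    exact le_trans (Nat.mul_le_mul hker hran) le_rfl

end Cfsg.Agent.S3276
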