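import Cfsg.Statements.S3277
import Cfsg.Agent.H70.SelfCentKlein
import Cfsg.Agent.H70.ThreeInvol
import Mathlib.GroupTheory.Transfer
import Mathlib.GroupTheory.PGroup

set_option autoImplicit false
open Cfsg

namespace Cfsg.Agent.S3277

open H70

/-- a normal closure of an involution whose conjugates commute is a normal elementary abelian group -/
lemma closure_small {G : Type*} [Group G] [Finite G] {x z : G} (hx : orderOf x = 2) (hz : orderOf z = 2)
    (hcomm : ∀ g h : G, Commute (g * z * g⁻¹) (h * z * h⁻¹))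
    (hfix : ∀ u ∈ Subgroup.normalClosure ({z} : Set G), orderOf u = 2 → Commute u x → u = z) :
    ∃ E : Subgroup G, E.Normal ∧ Cfsg.IsElementaryAbelian 2 E ∧ (Nat.card E = 2 ∨ Nat.card E = 4) := by
  set E := Subgroup.normalClosure ({z} : Set G) with hE
  have hc : ∀ a ∈ E, ∀ b ∈ E, Commute a b := by
    intro a ha b hb
    have : IsMulCommutative (Subgroup.closure (Group.conjugatesOfSet ({z} : Set G))) := by
      refine Subgroup.isMulCommutative_closure fun a ha b hb => ?_
      simp only [Group.mem_conjugatesOfSet_iff, Set.mem_singleton_iff, exists_eq_left] at ha hb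
      obtain ⟨g, rfl⟩ := isConj_iff.mp ha
      obtain ⟨h, rfl⟩ := isConj_iff.mp hb
      exact hcomm g h
    exact congrArg Subtype.val (this.is_comm.comm ⟨a, ha⟩ ⟨b, hb⟩)
  have hsq : ∀ a ∈ E, a ^ 2 = 1 := by
    intro a ha
    induction ha using Subgroup.closure_induction with
    | mem a ha =>
      simp only [Group.mem_conjugatesOfSet_iff, Set.mem_singleton_iff, exists_eq_left] at ha
      obtain ⟨g, rfl⟩ := isConj_iff.mp ha
      rw [conj_pow, ← hz, pow_orderOf_eq_one, mul_one, mul_inv_cancel]
    | one => exact one_pow _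
    | mul a b ha hb iha ihb => rw [(hc a ha b hb).mul_pow, iha, ihb, one_mul]
    | inv a _ iha => rw [inv_pow, iha, inv_one]
  refine ⟨E, Subgroup.normalClosure_normal, ⟨⟨⟨fun a b => Subtype.ext (hc a a.2 b b.2)⟩⟩, hsq⟩, ?_⟩
  have hxE : ∀ a ∈ E, x * a * x⁻¹ ∈ E := fun a ha => Subgroup.normalClosure_normal.conj_mem a ha x
  let f : E → E := fun a => ⟨(a : G) * (x * a * x⁻¹), mul_mem a.2 (hxE a a.2)⟩
  classical
  have hxx := mul_self_of_two hx
  have hxi := inv_eq_self_of_two hx
  have hfixed : ∀ a ∈ E, Commute a x → a = 1 ∨ a = z := fun a ha hax => by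
    by_cases h1 : a = 1
    · exact Or.inl h1
    · exact Or.inr (hfix a ha (orderOf_eq_prime (hsq a ha) h1) hax)
  let φ : E →* E :=
    { toFun := f
      map_one' := by simp [f]
      map_mul' := fun a b => Subtype.ext (by
        simp only [f, Subgroup.coe_mul]
        rw [← conj_mul]
        exact (hc b b.2 _ (hxE a a.2)).mul_mul_mul_comm _ _) }
  have hsmall : ∀ K : Subgroup E, (∀ a ∈ K, Commute (a : G) x) → Nat.card K ≤ 2 := by
    intro K hK
    let g : K → Bool := fun a => decide (((a : E) : G) = 1)
    have : Function.Injective g := by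
      intro a b hab
      replace hab := decide_eq_decide.mp hab
      rcases hfixed _ (a : E).2 (hK _ a.2) with h | h <;> rcases hfixed _ (b : E).2 (hK _ b.2) with h' | h'
      · exact Subtype.ext (Subtype.ext (h.trans h'.symm))
      · exact Subtype.ext (Subtype.ext (h.trans (hab.mp h).symm))
      · exact Subtype.ext (Subtype.ext ((hab.mpr h').trans h'.symm))
      · exact Subtype.ext (Subtype.ext (h.trans h'.symm))
    simpa using Nat.card_le_card_of_injective g this
  have hker : Nat.card φ.ker ≤ 2 := hsmall _ fun a ha => by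
    have h1 : (a : G) * (x * a * x⁻¹) = 1 := congrArg Subtype.val ha
    have h2 : x * (a : G) * x⁻¹ = a := by
      rw [eq_inv_of_mul_eq_one_right h1, inv_eq_iff_mul_eq_one, ← pow_two, hsq a a.2]
    exact (mul_inv_eq_iff_eq_mul.mp h2).symm
  have hran : Nat.card φ.range ≤ 2 := hsmall _ fun a ha => by
    obtain ⟨b, rfl⟩ := ha
    have hxb : x * (x * (b : G) * x⁻¹) * x⁻¹ = b := by
      rw [hxi, ← mul_assoc, ← mul_assoc, hxx, one_mul, mul_assoc, hxx, mul_one]
    have h3 : x * ((b : G) * (x * b * x⁻¹)) * x⁻¹ = (b : G) * (x * b * x⁻¹) := by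
      rw [← conj_mul, hxb]
      exact hc _ (hxE b b.2) b b.2
    exact (mul_inv_eq_iff_eq_mul.mp h3).symm
  have hle : Nat.card E ≤ 4 := by
    rw [← φ.ker.card_mul_index, Subgroup.index_ker]
    exact Nat.mul_le_mul hker hran
  have hzE : z ∈ E := Subgroup.subset_normalClosure rfl
  have h2 : 2 ∣ Nat.card E := hz ▸ Subgroup.orderOf_mk z hzE ▸ orderOf_dvd_natCard _
  have := Nat.card_pos (α := E)
  omega

/-- Let G be a finite group containing an involution whose centralizer is elementary abelian of order 4. If G has no normal 2-complement and no normal elementary abelian 2-subgroup of order 2 or 4, then G is isomorphic to the alternating group of degree 5 (that is, to PSL(2, 5)). -/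
theorem result {G : Type*} [Group G] [Finite G] (x : G) (hx : orderOf x = 2)
    (hC4 : Nat.card ↥(Subgroup.centralizer ({x} : Set G)) = 4) (hCe : ∀ c ∈ Subgroup.centralizer ({x} : Set G), c ^ 2 = 1)
    (hnc : ¬ Cfsg.HasNormalPComplement 2 G)
    (hne : ∀ E : Subgroup G, E.Normal → Cfsg.IsElementaryAbelian 2 E → Nat.card ↥E ≠ 2 ∧ Nat.card ↥E ≠ 4) :
    Nonempty (G ≃* ↥(alternatingGroup (Fin 5))) := by
  have hfact : Fact (Nat.Prime 2) := ⟨Nat.prime_two⟩
  set V := Subgroup.centralizer ({x} : Set G) with hV
  have hxV : x ∈ V := Subgroup.mem_centralizer_singleton_iff.mpr rfl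
  have hV2 : IsPGroup 2 V := IsPGroup.of_card (n := 2) (by rw [hC4]; rfl)
  have hVab : ∀ a ∈ V, ∀ b ∈ V, Commute a b := by
    intro a ha b hb
    have h1 : ∀ c ∈ V, c⁻¹ = c := fun c hc =>
      (eq_inv_of_mul_eq_one_left (by rw [← pow_two]; exact hCe c hc)).symm
    calc a * b = (a * b)⁻¹ := (h1 _ (mul_mem ha hb)).symm
      _ = b⁻¹ * a⁻¹ := mul_inv_rev _ _
      _ = b * a := by rw [h1 a ha, h1 b hb]
  obtain ⟨S, hVS⟩ := hV2.exists_le_sylow
  by_cases hSV : (S : Subgroup G) = V
  swap
  · exfalso
    -- a central involution `z` of `S`, all of whose conjugates commute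
    have hxS : x ∈ (S : Subgroup G) := hVS hxV
    have hnt : Nontrivial (S : Subgroup G) :=
      ⟨⟨⟨x, hxS⟩, 1, fun h => ne_one_of_two hx (congrArg Subtype.val h)⟩⟩
    have hntc : Nontrivial (Subgroup.center (S : Subgroup G)) := S.isPGroup'.center_nontrivial
    obtain ⟨z', hz'⟩ := exists_prime_orderOf_dvd_card' (G := Subgroup.center (S : Subgroup G)) 2 (by
      obtain ⟨k, hk⟩ := (IsPGroup.iff_card (p := 2)).mp (S.isPGroup'.to_subgroup (Subgroup.center (S : Subgroup G)))
      have : 1 < Nat.card (Subgroup.center (S : Subgroup G)) := Finite.one_lt_card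
      rcases k with - | k
      · simp [hk] at this
      · exact ⟨2 ^ k, by rw [hk, pow_succ']⟩)
    set z : G := ((z' : (S : Subgroup G)) : G) with hzdef
    have hz : orderOf z = 2 := by rw [hzdef, Subgroup.orderOf_coe, Subgroup.orderOf_coe, hz']
    have hzc : ∀ s ∈ (S : Subgroup G), Commute s z := fun s hs =>
      congrArg Subtype.val (Subgroup.mem_center_iff.mp z'.2 ⟨s, hs⟩)
    have hzV : z ∈ V := Subgroup.mem_centralizer_singleton_iff.mpr (hzc x hxS).eq.symm
    have hzx : z ≠ x := by
      intro h
      exact hSV (le_antisymm (fun s hs => Subgroup.mem_centralizer_singleton_iff.mpr (h ▸ hzc s hs).eq) hVS)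
    have hxz1 : x * z ≠ 1 := fun h => hzx
      (((eq_inv_of_mul_eq_one_right h)).trans (inv_eq_self_of_two hx))
    have hall : ∀ a ∈ V, a = 1 ∨ a = x ∨ a = z ∨ a = x * z := by
      classical
      intro a ha
      let s : Finset G := {1, x, z, x * z}
      have h1 : x ≠ x * z := by simpa using ne_one_of_two hz
      have h2 : z ≠ x * z := by simpa using ne_one_of_two hx
      have hcard : s.card = 4 := by
        simp [s, (ne_one_of_two hz).symm, (ne_one_of_two hx).symm, hxz1.symm, hzx.symm, h1, h2]
      have hsub : (s : Set G) ⊆ (V : Set G) := by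
        intro b hb
        simp only [s, Finset.coe_insert, Finset.coe_singleton, Set.mem_insert_iff, Set.mem_singleton_iff] at hb
        rcases hb with rfl | rfl | rfl | rfl
        exacts [one_mem _, hxV, hzV, mul_mem hxV hzV]
      have heq := Set.eq_of_subset_of_ncard_le hsub
        (by rw [Set.ncard_coe_finset, hcard, ← Nat.card_coe_set_eq, ← hC4]; exact le_rfl)
      have : a ∈ (s : Set G) := heq ▸ ha
      simpa [s] using this
    -- `x` and `x * z` are conjugate
    obtain ⟨g, hgS, hgV, hgN⟩ : ∃ g ∈ (S : Subgroup G), g ∉ V ∧ ∀ a ∈ V, g * a * g⁻¹ ∈ V := by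
      let W := V.subgroupOf (S : Subgroup G)
      have hWlt : W < ⊤ := lt_of_le_of_ne le_top (fun h => hSV (le_antisymm (Subgroup.subgroupOf_eq_top.mp h) hVS))
      have hnil : Group.IsNilpotent (S : Subgroup G) := S.isPGroup'.isNilpotent
      obtain ⟨⟨g, hg⟩, hgn, hgW⟩ := SetLike.exists_of_lt (Group.normalizerCondition_of_isNilpotent W hWlt)
      refine ⟨g, hg, hgW, fun a ha => ?_⟩
      exact (Subgroup.mem_normalizer_iff.mp hgn ⟨a, hVS ha⟩).mp ha
    have hgz : g * z * g⁻¹ = z := by rw [(hzc g hgS).eq, mul_inv_cancel_right]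
    have hgx : g * x * g⁻¹ = x * z := by
      rcases hall _ (hgN x hxV) with h | h | h | h
      · exact absurd (conj_eq_one_iff.mp h) (ne_one_of_two hx)
      · exact absurd (Subgroup.mem_centralizer_singleton_iff.mpr (mul_inv_eq_iff_eq_mul.mp h)) hgV
      · exact absurd (mul_left_cancel (mul_right_cancel (h.trans hgz.symm))).symm hzx
      · exact h
    have hnc' : ¬ IsConj x z := by
      intro h
      obtain ⟨c, hc⟩ := isConj_iff.mp h
      -- the centralizer of `z` contains `S`, that of `x` is `V`
      have hle : cj c⁻¹ (S : Subgroup G) ≤ V := by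
        rintro _ ⟨s, hs, rfl⟩
        refine Subgroup.mem_centralizer_singleton_iff.mpr ?_
        have h1 := (hzc s hs).map (MulAut.conj c⁻¹).toMonoidHom
        simpa [← hc, mul_assoc] using h1.eq
      have h2 := Subgroup.card_le_of_le hle
      rw [card_cj] at h2
      exact hSV (Subgroup.eq_of_le_of_card_ge hVS h2).symm
    have key : ∀ c : G, Commute (c * z * c⁻¹) z := by
      intro c
      have hv : orderOf (c * z * c⁻¹) = 2 := (orderOf_conj' c z).trans hz
      set v := c * z * c⁻¹ with hv_def
      have hxv : ¬ IsConj x v := fun h => hnc' (h.trans (isConj_iff.mpr ⟨c, rfl⟩).symm)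
      obtain ⟨w, hw, hwx, hwv, -⟩ := exists_middle hx hv hxv
      have hcent : ∀ a, Commute a x → a ∈ V := fun a ha => Subgroup.mem_centralizer_singleton_iff.mpr ha.eq
      have hxzv : ¬ IsConj (x * z) v := fun h => hxv ((isConj_iff.mpr ⟨g, hgx⟩).trans h)
      have hVv : ∀ a, Commute a x → IsConj z a → a = z := by
        intro a ha hza
        rcases hall a (hcent a ha) with h | h | h | h
        · obtain ⟨q, hq⟩ := isConj_iff.mp hza
          rw [h] at hq
          exact absurd (conj_eq_one_iff.mp hq) (ne_one_of_two hz)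
        · exact absurd (h ▸ hza).symm hnc'
        · exact h
        · exact absurd ((isConj_iff.mpr ⟨g, hgx⟩).trans (h ▸ hza).symm) hnc'
      rcases hall w (hcent w hwx) with h | h | h | h
      · exact absurd h (ne_one_of_two hw)
      · rw [h] at hwv; rw [hVv v hwv.symm (isConj_iff.mpr ⟨c, rfl⟩)]
      · rw [h] at hwv; exact hwv.symm
      · rw [h] at hwv
        have h1 : Commute (g⁻¹ * v * g) x := by
          have := hwv.symm.map (MulAut.conj g⁻¹).toMonoidHom
          simpa [← hgx, mul_assoc] using this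
        have h2 := hVv _ h1 ((isConj_iff.mpr ⟨c, rfl⟩).trans (isConj_iff.mpr ⟨g⁻¹, by rw [inv_inv]⟩))
        have : v = z := by rw [← hgz, ← h2]; group
        rw [this]
    have hcomm : ∀ a b : G, Commute (a * z * a⁻¹) (b * z * b⁻¹) := by
      intro a b
      have := (key (b⁻¹ * a)).map (MulAut.conj b).toMonoidHom
      simpa [mul_assoc] using this
    have hfix : ∀ u ∈ Subgroup.normalClosure ({z} : Set G), orderOf u = 2 → Commute u x → u = z := by
      intro u hu hu2 hux
      have hzu : ∀ a ∈ Subgroup.normalClosure ({z} : Set G), Commute a z := by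
        intro a ha
        have hle : Subgroup.normalClosure ({z} : Set G) ≤ Subgroup.centralizer ({z} : Set G) := by
          apply (Subgroup.closure_le _).mpr
          intro b hb
          simp only [Group.mem_conjugatesOfSet_iff, Set.mem_singleton_iff, exists_eq_left] at hb
          obtain ⟨q, rfl⟩ := isConj_iff.mp hb
          exact Subgroup.mem_centralizer_singleton_iff.mpr (key q).eq
        exact Subgroup.mem_centralizer_singleton_iff.mp (hle ha)
      -- the normal closure is abelian, so it cannot contain `x` or `x * z`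
      have hnotx : x ∉ Subgroup.normalClosure ({z} : Set G) := by
        intro hxN
        have hle2 : Subgroup.normalClosure ({z} : Set G) ≤ V := by
          intro a ha
          refine Subgroup.mem_centralizer_singleton_iff.mpr ?_
          have : IsMulCommutative (Subgroup.closure (Group.conjugatesOfSet ({z} : Set G))) := by
            refine Subgroup.isMulCommutative_closure fun a ha b hb => ?_
            simp only [Group.mem_conjugatesOfSet_iff, Set.mem_singleton_iff, exists_eq_left] at ha hb
            obtain ⟨q, rfl⟩ := isConj_iff.mp ha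
            obtain ⟨q', rfl⟩ := isConj_iff.mp hb
            exact hcomm q q'
          exact congrArg Subtype.val (this.is_comm.comm ⟨a, ha⟩ ⟨x, hxN⟩)
        have heq : Subgroup.normalClosure ({z} : Set G) = V := by
          refine le_antisymm hle2 fun a ha => ?_
          rcases hall a ha with rfl | rfl | rfl | rfl
          exacts [one_mem _, hxN, Subgroup.subset_normalClosure rfl,
            mul_mem hxN (Subgroup.subset_normalClosure rfl)]
        exact (hne V (heq ▸ Subgroup.normalClosure_normal)
          ⟨⟨⟨fun a b => Subtype.ext (hVab a a.2 b b.2)⟩⟩, hCe⟩).2 hC4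
      rcases hall u (Subgroup.mem_centralizer_singleton_iff.mpr hux.eq) with h | h | h | h
      · exact absurd h (ne_one_of_two hu2)
      · exact absurd (h ▸ hu) hnotx
      · exact h
      · exfalso
        apply hnotx
        have := mul_mem (show x * z ∈ Subgroup.normalClosure ({z} : Set G) from h ▸ hu) (Subgroup.subset_normalClosure (rfl : z ∈ ({z} : Set G)))
        rwa [mul_assoc, mul_self_of_two hz, mul_one] at this
    obtain ⟨E, hEn, hEa, hE⟩ := closure_small hx hz hcomm hfix
    exact hE.elim (hne E hEn hEa).1 (hne E hEn hEa).2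
  -- `V` is a Sylow 2-subgroup
  obtain ⟨g, hgN, hgC⟩ : ∃ g ∈ Subgroup.normalizer (V : Set G), g ∉ Subgroup.centralizer (V : Set G) := by
    by_contra h
    push Not at h
    have hP : Subgroup.normalizer ((S : Subgroup G) : Set G) ≤ Subgroup.centralizer ((S : Subgroup G) : Set G) := by
      rw [hSV]; exact h
    exact hnc ⟨S, _, inferInstance, MonoidHom.ker_transferSylow_isComplement' S hP⟩
  have hodd : ¬ 2 ∣ V.relIndex (Subgroup.normalizer (V : Set G)) := fun h => by
    have := S.not_dvd_index
    rw [hSV] at this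
    exact this (h.trans (Dvd.intro _ (Subgroup.relIndex_mul_index Subgroup.le_normalizer)))
  have hgx : g * x * g⁻¹ ≠ x := by
    intro h
    have hgV : g ∈ V := Subgroup.mem_centralizer_singleton_iff.mpr (mul_inv_eq_iff_eq_mul.mp h)
    exact hgC (fun a ha => hVab a ha g hgV)
  set y := g * x * g⁻¹ with hy_def
  have hyV : y ∈ V := (Subgroup.mem_normalizer_iff.mp hgN x).mp hxV
  have hy : orderOf y = 2 := (orderOf_conj' g x).trans hx
  have hgy : g * y * g⁻¹ ≠ x ∧ g * y * g⁻¹ ≠ y := by
    constructor
    · intro h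
      -- otherwise `g ^ 2` centralizes `x`
      have h2 : g ^ 2 ∈ V := Subgroup.mem_centralizer_singleton_iff.mpr (mul_inv_eq_iff_eq_mul.mp (by
        calc g ^ 2 * x * (g ^ 2)⁻¹ = g * (g * x * g⁻¹) * g⁻¹ := by rw [pow_two, mul_inv_rev]; simp only [mul_assoc]
          _ = x := h))
      set W := V.subgroupOf (Subgroup.normalizer (V : Set G)) with hW
      have hgV' : g ∈ V := by
        have h3 := Subgroup.pow_index_mem W (⟨g, hgN⟩ : Subgroup.normalizer (V : Set G))
        have h4 : g ^ W.index ∈ V := h3
        obtain ⟨k, hk⟩ : Odd W.index := by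
          rw [← Nat.not_even_iff_odd, even_iff_two_dvd]; exact hodd
        rw [hk, pow_succ, pow_mul] at h4
        exact (mul_mem_cancel_left (pow_mem h2 k)).mp h4
      exact hgC (fun a ha => hVab a ha g hgV')
    · intro h
      apply hgx
      exact mul_left_cancel (mul_right_cancel h)
  have hconjV : ∀ a ∈ V, a ≠ 1 → IsConj x a := by
    classical
    intro a ha ha1
    let s : Finset G := {1, x, y, g * y * g⁻¹}
    have hwV : g * y * g⁻¹ ∈ V := (Subgroup.mem_normalizer_iff.mp hgN y).mp hyV
    have hw1 : g * y * g⁻¹ ≠ 1 := fun h => ne_one_of_two hy (conj_eq_one_iff.mp h)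
    have hcard : s.card = 4 := by
      simp [s, (ne_one_of_two hx).symm, (ne_one_of_two hy).symm, hw1.symm, Ne.symm hgx, Ne.symm hgy.1, Ne.symm hgy.2]
    have hsub : (s : Set G) ⊆ (V : Set G) := by
      intro b hb
      simp only [s, Finset.coe_insert, Finset.coe_singleton, Set.mem_insert_iff, Set.mem_singleton_iff] at hb
      rcases hb with rfl | rfl | rfl | rfl
      exacts [one_mem _, hxV, hyV, hwV]
    have heq := Set.eq_of_subset_of_ncard_le hsub
      (by rw [Set.ncard_coe_finset, hcard, ← Nat.card_coe_set_eq, ← hC4]; exact le_rfl)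
    have : a ∈ (s : Set G) := heq ▸ ha
    simp only [s, Finset.coe_insert, Finset.coe_singleton, Set.mem_insert_iff, Set.mem_singleton_iff] at this
    rcases this with h | h | h | h
    · exact absurd h ha1
    · rw [h]
    · rw [h]; exact isConj_iff.mpr ⟨g, rfl⟩
    · rw [h]; exact isConj_iff.mpr ⟨g * g, by rw [hy_def]; group⟩
  have hcent : ∀ a ∈ V, a ≠ 1 → Subgroup.centralizer ({a} : Set G) = V := by
    intro a ha ha1
    obtain ⟨c, hc⟩ := isConj_iff.mp (hconjV a ha ha1)
    refine (Subgroup.eq_of_le_of_card_ge (fun b hb => Subgroup.mem_centralizer_singleton_iff.mpr (hVab b hb a ha).eq) ?_).symm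
    rw [hC4, ← hC4, ← card_cj c V]
    refine Subgroup.card_le_of_le fun b hb => ?_
    rw [mem_cj]
    refine Subgroup.mem_centralizer_singleton_iff.mpr ?_
    have := (show Commute b a from Subgroup.mem_centralizer_singleton_iff.mp hb).map (MulAut.conj c⁻¹).toMonoidHom
    simpa [← hc, mul_assoc] using this.eq
  have hconj_to : ∀ t : G, orderOf t = 2 → ∀ a ∈ V, a ≠ 1 → IsConj a t := by
    intro t ht a ha ha1
    have hp : IsPGroup 2 (Subgroup.zpowers t) :=
      IsPGroup.of_card (n := 1) (by rw [Nat.card_zpowers, ht, pow_one])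
    obtain ⟨c, -, hc⟩ := exists_cj_le_sylow S (K := ⊤) le_top hp le_top
    have hmem : c * t * c⁻¹ ∈ V := hSV ▸ hc ⟨t, Subgroup.mem_zpowers t, rfl⟩
    exact (hconjV a ha ha1).symm.trans ((hconjV _ hmem (fun h => ne_one_of_two ht (conj_eq_one_iff.mp h))).trans
      (isConj_iff.mpr ⟨c, rfl⟩).symm)
  have hN12 : Nat.card ↥(Subgroup.normalizer (V : Set G)) = 12 := by
    set N := Subgroup.normalizer (V : Set G) with hN
    set W := V.subgroupOf N
    have hWc : Nat.card W = 4 := (Nat.card_congr (Subgroup.subgroupOfEquivOfLe Subgroup.le_normalizer).toEquiv).trans hC4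
    have hle3 : W.index ≤ 3 := by
      -- `N / V` embeds into the involutions of `V`
      classical
      let f : N ⧸ W → {a : V // a ≠ 1} := Quotient.lift
        (fun n => ⟨⟨n.1 * x * n.1⁻¹, (Subgroup.mem_normalizer_iff.mp n.2 x).mp hxV⟩,
          fun h => ne_one_of_two hx (conj_eq_one_iff.mp (congrArg Subtype.val h))⟩)
        (fun a b hab => by
          have h0 : a⁻¹ * b ∈ W := QuotientGroup.leftRel_apply.mp hab
          have h : (a⁻¹ * b : N).1 ∈ V := h0
          have h' := Subgroup.mem_centralizer_singleton_iff.mp h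
          apply Subtype.ext; apply Subtype.ext
          show a.1 * x * a.1⁻¹ = b.1 * x * b.1⁻¹
          calc a.1 * x * a.1⁻¹ = a.1 * (((a⁻¹ * b : N).1 * x) * (a⁻¹ * b : N).1⁻¹) * a.1⁻¹ := by rw [h']; group
            _ = _ := by simp only [Subgroup.coe_mul, Subgroup.coe_inv]; group)
      have hf : Function.Injective f := by
        intro a b hab
        obtain ⟨a, rfl⟩ := QuotientGroup.mk_surjective a
        obtain ⟨b, rfl⟩ := QuotientGroup.mk_surjective b
        have h : a.1 * x * a.1⁻¹ = b.1 * x * b.1⁻¹ := congrArg (fun q => q.1.1) hab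
        rw [QuotientGroup.eq]
        show (a⁻¹ * b : N).1 ∈ V
        rw [hV, Subgroup.mem_centralizer_singleton_iff, Subgroup.coe_mul, Subgroup.coe_inv]
        calc a.1⁻¹ * b.1 * x = a.1⁻¹ * (b.1 * x * b.1⁻¹) * b.1 := by group
          _ = a.1⁻¹ * (a.1 * x * a.1⁻¹) * b.1 := by rw [h]
          _ = _ := by group
      refine le_trans (Nat.card_le_card_of_injective f hf) (le_of_eq ?_)
      have := Fintype.ofFinite V
      rw [Nat.card_eq_fintype_card, Fintype.card_subtype_compl, Fintype.card_subtype_eq,
        ← Nat.card_eq_fintype_card, hC4]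
    have hne1 : W.index ≠ 1 := by
      intro h
      have hgV : g ∈ V := Subgroup.relIndex_eq_one.mp h hgN
      exact hgC (fun a ha => hVab a ha g hgV)
    have h2 : ¬ 2 ∣ W.index := hodd
    have := W.card_mul_index
    rw [hWc] at this
    interval_cases (W.index) <;> omega
  have cfg : SCK.Config V := ⟨hC4, hCe, hcent, hconj_to, hN12⟩
  rcases SCK.card_eq cfg with h12 | h60
  · exfalso
    have htop : Subgroup.normalizer (V : Set G) = ⊤ := Subgroup.eq_top_of_card_eq _ (by rw [hN12, h12])
    exact (hne V (Subgroup.normalizer_eq_top_iff.mp htop) ⟨⟨⟨fun a b => Subtype.ext (hVab a a.2 b b.2)⟩⟩, hCe⟩).2 hC4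
  set N := Subgroup.normalizer (V : Set G) with hN
  have hidx : N.index = 5 := by
    have := N.card_mul_index
    rw [hN12, h60] at this
    omega
  have hVN : V ≤ N := Subgroup.le_normalizer
  have hK2 : N.normalCore ⊓ V = ⊥ := by
    set E := N.normalCore ⊓ V with hE
    have hEn : E.Normal := ⟨fun a ha c => by
      refine ⟨(inferInstance : N.normalCore.Normal).conj_mem a ha.1 c, ?_⟩
      by_cases h1 : a = 1
      · simp [h1]
      · have ho := SCK.invol_of_mem cfg ha.2 h1
        exact SCK.mem_of_invol cfg ((orderOf_conj' c a).trans ho)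
          (N.normalCore_le ((inferInstance : N.normalCore.Normal).conj_mem a ha.1 c))⟩
    have hEe : Cfsg.IsElementaryAbelian 2 E :=
      ⟨⟨⟨fun a b => Subtype.ext (hVab a a.2.2 b b.2.2)⟩⟩, fun a ha => hCe a ha.2⟩
    have hd : Nat.card E ∣ 4 := hC4 ▸ Subgroup.card_dvd_of_le inf_le_right
    have hb : E = ⊥ ∨ 2 ≤ Nat.card E := by
      rcases Nat.lt_or_ge (Nat.card E) 2 with h | h
      · exact Or.inl (Subgroup.card_eq_one.mp (by have := Nat.card_pos (α := E); omega))
      · exact Or.inr h
    refine hb.resolve_right fun h2 => ?_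
    have := hne E hEn hEe
    have := Nat.le_of_dvd (by norm_num) hd
    interval_cases (Nat.card E) <;> omega
  have hK : N.normalCore = ⊥ := by
    rw [Subgroup.eq_bot_iff_forall]
    intro k hk
    have hkV : k ∈ V := by
      refine Subgroup.mem_centralizer_singleton_iff.mpr ?_
      have h1 : k * x * k⁻¹ * x⁻¹ ∈ V :=
        mul_mem ((Subgroup.mem_normalizer_iff.mp (N.normalCore_le hk) x).mp hxV) (inv_mem hxV)
      have h2 : k * (x * k⁻¹ * x⁻¹) ∈ N.normalCore :=
        mul_mem hk ((inferInstance : N.normalCore.Normal).conj_mem _ (inv_mem hk) x)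
      have h3 : k * x * k⁻¹ * x⁻¹ ∈ N.normalCore ⊓ V := ⟨by simpa [mul_assoc] using h2, h1⟩
      rw [hK2, Subgroup.mem_bot] at h3
      exact mul_inv_eq_iff_eq_mul.mp (mul_inv_eq_one.mp h3)
    have : k ∈ N.normalCore ⊓ V := ⟨hk, hkV⟩
    rwa [hK2, Subgroup.mem_bot] at this
  let e : (G ⧸ N) ≃ Fin 5 := Finite.equivFinOfCardEq hidx
  let f : G →* Equiv.Perm (Fin 5) := e.permCongrHom.toMonoidHom.comp (MulAction.toPermHom G (G ⧸ N))
  have hf : Function.Injective f := by
    refine e.permCongrHom.injective.comp ?_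
    rw [← MonoidHom.ker_eq_bot_iff, ← Subgroup.normalCore_eq_ker, hK]
  have hr : f.range = alternatingGroup (Fin 5) := by
    apply Equiv.Perm.eq_alternatingGroup_of_index_eq_two
    have h1 := f.range.card_mul_index
    rw [← Nat.card_congr (MonoidHom.ofInjective hf).toEquiv, h60, Nat.card_perm, Nat.card_fin] at h1
    norm_num [Nat.factorial] at h1
    omega
  exact ⟨(MonoidHom.ofInjective hf).trans (MulEquiv.subgroupCongr hr)⟩

end Cfsg.Agent.S3277
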