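import Cfsg.Statements.S3279
import Cfsg.Agent.H70.ThreeInvol
import Mathlib.GroupTheory.PGroup

set_option autoImplicit false
open Cfsg

namespace Cfsg.Agent.S3279

/-- Let G be a finite simple group and x an involution of G whose centralizer contains at most three involutions. Then C_G(x) contains a Sylow 2-subgroup of G, and all involutions of G are conjugate. -/
theorem result {G : Type*} [Group G] [Finite G] [IsSimpleGroup G] (x : G) (hx : orderOf x = 2)
    (h3 : Nat.card {u : ↥(Subgroup.centralizer ({x} : Set G)) // orderOf u = 2} ≤ 3) :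
    (∃ S : Sylow 2 G, (S : Subgroup G) ≤ Subgroup.centralizer ({x} : Set G)) ∧
      ∀ u v : G, orderOf u = 2 → orderOf v = 2 → IsConj u v := by
  have hfact : Fact (Nat.Prime 2) := ⟨Nat.prime_two⟩
  by_cases hna : IsMulCommutative G
  · have hC : Subgroup.centralizer ({x} : Set G) = ⊤ := by
      rw [eq_top_iff]; intro g _
      exact Subgroup.mem_centralizer_singleton_iff.mpr (hna.is_comm.comm g x)
    refine ⟨⟨default, by rw [hC]; exact le_top⟩, fun u v hu hv => ?_⟩
    have huv : ∀ w : G, orderOf w = 2 → w = x := by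
      intro w hw
      have hn : (Subgroup.zpowers x).Normal := ⟨fun a ha g => by
        rw [hna.is_comm.comm g a, mul_assoc, mul_inv_cancel, mul_one]; exact ha⟩
      rcases hn.eq_bot_or_eq_top with h | h
      · exact absurd (Subgroup.zpowers_eq_bot.mp h) (H70.ne_one_of_two hx)
      · obtain ⟨i, hi⟩ : w ∈ Subgroup.zpowers x := h ▸ Subgroup.mem_top w
        change x ^ i = w at hi
        rw [← zpow_mod_orderOf, hx] at hi
        rcases Int.emod_two_eq_zero_or_one i with e | e <;> rw [Nat.cast_two, e] at hi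
        · exact absurd (by simpa using hi.symm) (H70.ne_one_of_two hw)
        · simpa using hi.symm
    rw [huv u hu, huv v hv]
  have hall : ∀ u : G, orderOf u = 2 → IsConj x u := by
    refine H70.isConj_of_three hna hx fun a b ha hax hane hb hbx hbne => ?_
    by_contra hne
    push Not at hne
    have mem : ∀ w : G, Commute w x → w ∈ Subgroup.centralizer ({x} : Set G) :=
      fun w hw => Subgroup.mem_centralizer_singleton_iff.mpr hw.eq
    have hxa : orderOf (x * a) = 2 := H70.two_mul_of_commute hx ha hax.symm (Ne.symm hane)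
    let f : Fin 4 → {u : ↥(Subgroup.centralizer ({x} : Set G)) // orderOf u = 2} :=
      ![⟨⟨x, mem x (Commute.refl x)⟩, by rw [Subgroup.orderOf_mk]; exact hx⟩,
        ⟨⟨a, mem a hax⟩, by rw [Subgroup.orderOf_mk]; exact ha⟩,
        ⟨⟨x * a, mem _ ((Commute.refl x).mul_left hax)⟩, by rw [Subgroup.orderOf_mk]; exact hxa⟩,
        ⟨⟨b, mem b hbx⟩, by rw [Subgroup.orderOf_mk]; exact hb⟩]
    have hf : Function.Injective f := by
      have n1 : x ≠ x * a := fun h => H70.ne_one_of_two ha (mul_eq_left.mp h.symm)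
      have n2 : a ≠ x * a := fun h => H70.ne_one_of_two hx (mul_eq_right.mp h.symm)
      intro i j hij
      have h' := congrArg (fun u : {u : ↥(Subgroup.centralizer ({x} : Set G)) // orderOf u = 2} => ((u.1 : G))) hij
      fin_cases i <;> fin_cases j <;> first
        | rfl
        | (exfalso
           simp [f, hane, Ne.symm hane, n1, n1.symm, n2, n2.symm, hbne, Ne.symm hbne, hne.1, Ne.symm hne.1, hne.2, Ne.symm hne.2] at h')
    have := Nat.card_le_card_of_injective f hf
    rw [Nat.card_eq_fintype_card, Fintype.card_fin] at this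
    omega
  refine ⟨?_, fun u v hu hv => (hall u hu).symm.trans (hall v hv)⟩
  obtain ⟨S⟩ : Nonempty (Sylow 2 G) := inferInstance
  have h2S : 2 ∣ Nat.card (S : Subgroup G) :=
    S.dvd_card_of_dvd_card (hx ▸ orderOf_dvd_natCard x)
  have hnt : Nontrivial (S : Subgroup G) := Finite.one_lt_card_iff_nontrivial.mp (Nat.le_of_dvd Nat.card_pos h2S)
  have hntc : Nontrivial (Subgroup.center (S : Subgroup G)) := S.isPGroup'.center_nontrivial
  obtain ⟨z, hz⟩ := exists_prime_orderOf_dvd_card' (G := Subgroup.center (S : Subgroup G)) 2 (by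
    obtain ⟨k, hk⟩ := (IsPGroup.iff_card (p := 2)).mp (S.isPGroup'.to_subgroup (Subgroup.center (S : Subgroup G)))
    have : 1 < Nat.card (Subgroup.center (S : Subgroup G)) := Finite.one_lt_card
    rcases k with - | k
    · simp [hk] at this
    · exact ⟨2 ^ k, by rw [hk, pow_succ']⟩)
  obtain ⟨g, hg⟩ := isConj_iff.mp (hall ((z : (S : Subgroup G)) : G) (by rw [Subgroup.orderOf_coe, Subgroup.orderOf_coe, hz])).symm
  refine ⟨g • S, ?_⟩
  rw [Sylow.coe_subgroup_smul]
  rintro _ ⟨s, hs, rfl⟩
  rw [Subgroup.mem_centralizer_singleton_iff, ← hg]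
  have := congrArg Subtype.val (Subgroup.mem_center_iff.mp z.2 ⟨s, hs⟩)
  simp only [Subgroup.coe_mul] at this
  change g * s * g⁻¹ * (g * _ * g⁻¹) = g * _ * g⁻¹ * (g * s * g⁻¹)
  rw [conj_mul, conj_mul, this]

end Cfsg.Agent.S3279
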