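import Cfsg.Statements.S3305
import Cfsg.Agent.H70.Conj

set_option autoImplicit false
open Cfsg

namespace Cfsg.Agent.S3305

/-- If any two distinct Sylow 2-subgroups of the finite group G intersect in a cyclic group, then the same holds in every quotient group G/H, H a normal subgroup of G. -/
theorem result {G : Type*} [Group G] [Finite G]
    (hC : ∀ S T : Sylow 2 G, S ≠ T → IsCyclic ↥((S : Subgroup G) ⊓ (T : Subgroup G))) (H : Subgroup G) [H.Normal] :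
    ∀ S T : Sylow 2 (G ⧸ H), S ≠ T → IsCyclic ↥((S : Subgroup (G ⧸ H)) ⊓ (T : Subgroup (G ⧸ H))) := by
  intro S T hST
  have hfact : Fact (Nat.Prime 2) := ⟨Nat.prime_two⟩
  set π := QuotientGroup.mk' H with hπ
  have hsurj : Function.Surjective π := QuotientGroup.mk'_surjective H
  set D := ((S : Subgroup (G ⧸ H)) ⊓ (T : Subgroup (G ⧸ H))).comap π with hD
  obtain ⟨D₀⟩ : Nonempty (Sylow 2 ↥D) := inferInstance
  let f : ↥D →* ↥((S : Subgroup (G ⧸ H)) ⊓ (T : Subgroup (G ⧸ H))) := π.subgroupComap _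
  have hf : Function.Surjective f := by
    rintro ⟨q, hq⟩
    obtain ⟨g, rfl⟩ := hsurj q
    exact ⟨⟨g, hq⟩, rfl⟩
  have htop : (D₀ : Subgroup ↥D).map f = ⊤ := by
    rw [← Sylow.coe_mapSurjective hf D₀]
    have h2 : IsPGroup 2 ↥((S : Subgroup (G ⧸ H)) ⊓ (T : Subgroup (G ⧸ H))) :=
      S.isPGroup'.to_le inf_le_left
    exact ((D₀.mapSurjective hf).is_maximal' (h2.of_equiv Subgroup.topEquiv.symm) le_top).symm
  set D₁ := (D₀ : Subgroup ↥D).map D.subtype with hD₁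
  have hD₁p : IsPGroup 2 D₁ := D₀.isPGroup'.map _
  have hD₁D : D₁ ≤ D := Subgroup.map_subtype_le _
  have hlift : ∀ U : Sylow 2 (G ⧸ H), (S : Subgroup (G ⧸ H)) ⊓ (T : Subgroup (G ⧸ H)) ≤ (U : Subgroup (G ⧸ H)) →
      ∃ P : Sylow 2 G, D₁ ≤ (P : Subgroup G) ∧ (P : Subgroup G).map π = (U : Subgroup (G ⧸ H)) := by
    intro U hU
    obtain ⟨P, hP⟩ := Sylow.mapSurjective_surjective hsurj 2 U
    have hPU : (P : Subgroup G).map π = (U : Subgroup (G ⧸ H)) := by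
      rw [← hP]; exact (Sylow.coe_mapSurjective hsurj P).symm
    obtain ⟨h, hh, hle⟩ := H70.exists_cj_le_sylow P (Subgroup.map_le_iff_le_comap.mp hPU.le) hD₁p
      (hD₁D.trans (Subgroup.comap_mono hU))
    refine ⟨h⁻¹ • P, ?_, ?_⟩
    · rw [H70.cj_le_iff] at hle
      rw [Sylow.coe_subgroup_smul]
      exact hle
    · rw [Sylow.coe_subgroup_smul]
      change (H70.cj h⁻¹ (P : Subgroup G)).map π = _
      rw [← hPU]
      have hm : π h⁻¹ ∈ (P : Subgroup G).map π := hPU.symm ▸ (inv_mem hh : h⁻¹ ∈ (U : Subgroup (G ⧸ H)).comap π)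
      conv_rhs => rw [← H70.cj_of_mem hm]
      simp only [H70.cj, Subgroup.map_map]
      congr 1
  obtain ⟨P₁, hP₁, hP₁m⟩ := hlift S inf_le_left
  obtain ⟨P₂, hP₂, hP₂m⟩ := hlift T inf_le_right
  have hne : P₁ ≠ P₂ := by
    rintro rfl
    exact hST (Sylow.ext (hP₁m.symm.trans hP₂m))
  have hc := hC P₁ P₂ hne
  let φ : ↥((P₁ : Subgroup G) ⊓ (P₂ : Subgroup G)) →* ↥((S : Subgroup (G ⧸ H)) ⊓ (T : Subgroup (G ⧸ H))) :=
    { toFun := fun x => ⟨π x.1, hP₁m ▸ Subgroup.mem_map_of_mem π x.2.1, hP₂m ▸ Subgroup.mem_map_of_mem π x.2.2⟩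
      map_one' := Subtype.ext (map_one π)
      map_mul' := fun a b => Subtype.ext (map_mul π a.1 b.1) }
  refine isCyclic_of_surjective φ ?_
  intro q
  obtain ⟨d, hd, rfl⟩ : q ∈ (D₀ : Subgroup ↥D).map f := htop ▸ Subgroup.mem_top q
  exact ⟨⟨d.1, hP₁ ⟨d, hd, rfl⟩, hP₂ ⟨d, hd, rfl⟩⟩, rfl⟩

end Cfsg.Agent.S3305
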