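import Cfsg.Statements.S3303
import Cfsg.Agent.H70.SolvableQuotTwo
import Cfsg.Agent.S3305

set_option autoImplicit false
open Cfsg

namespace Cfsg.Agent.S3303

/-- Let G be a finite solvable group in which the intersection of any two distinct Sylow 2-subgroups is cyclic. Then G/O(G) has a normal Sylow 2-subgroup, where O(G) is the largest normal subgroup of odd order. -/
theorem result {G : Type*} [Group G] [Finite G] (hs : Group.IsSolvable G)
    (hC : ∀ S T : Sylow 2 G, S ≠ T → IsCyclic ↥((S : Subgroup G) ⊓ (T : Subgroup G))) :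
    ∃ P : Sylow 2 (G ⧸ Cfsg.oddCore G), (P : Subgroup (G ⧸ Cfsg.oddCore G)).Normal := by
  haveI : Fact (Nat.Prime 2) := ⟨Nat.prime_two⟩
  haveI := hs
  haveI := H1.pPrimeCore_normal' 2 G
  set Q := G ⧸ Cfsg.oddCore G
  obtain ⟨P⟩ : Nonempty (Sylow 2 Q) := inferInstance
  refine ⟨P, ?_⟩
  by_cases huniq : ∀ R : Sylow 2 Q, R = P
  · haveI : Subsingleton (Sylow 2 Q) := ⟨fun a b => (huniq a).trans (huniq b).symm⟩
    exact Sylow.normal_of_subsingleton P
  push Not at huniq
  obtain ⟨R, hR⟩ := huniq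
  have hc := Cfsg.Agent.S3305.result hC (Cfsg.oddCore G) R P hR
  haveI : IsCyclic ↥(Cfsg.pCore 2 Q) :=
    Subgroup.isCyclic_of_le (le_inf (H1.pCore_le_sylow R) (H1.pCore_le_sylow P))
  have hQ : IsPGroup 2 Q :=
    H70.isPGroup_of_mulAut_pCore (H10.pPrimeCore_quotient_pPrimeCore (p := 2))
      (H70.isPGroup_two_mulAut_cyclic (H1.isPGroup_pCore 2 Q))
  have htop : (P : Subgroup Q) = ⊤ :=
    (P.is_maximal' (hQ.of_equiv Subgroup.topEquiv.symm) le_top).symm
  rw [htop]
  infer_instance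

end Cfsg.Agent.S3303
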