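import Cfsg.Statements.S3304
import Cfsg.Agent.H70.OctahedralCover

set_option autoImplicit false
open Cfsg

namespace Cfsg.Agent.S3304

/-- Let G be a finite solvable group in which the intersection of any two distinct Sylow 2-subgroups has 2-rank at most 1 (contains no Klein four-group). Write Q = G/O(G), O(G) the largest normal subgroup of odd order. Then Q has a normal Sylow 2-subgroup; or Q is isomorphic to GL(2,3); or Q has order 48, centre of order 2 with central quotient isomorphic to the symmetric group of degree 4, and generalized quaternion Sylow 2-subgroups of order 16 (the binary octahedral group). The last two are the two representation groups of the symmetric group of degree 4. -/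
theorem result {G : Type*} [Group G] [Finite G] (hs : Group.IsSolvable G)
    (hI : ∀ S T : Sylow 2 G, S ≠ T → Cfsg.PRankLE 2 1 ↥((S : Subgroup G) ⊓ (T : Subgroup G))) :
    (∃ P : Sylow 2 (G ⧸ Cfsg.oddCore G), (P : Subgroup (G ⧸ Cfsg.oddCore G)).Normal) ∨
    Nonempty ((G ⧸ Cfsg.oddCore G) ≃* GL (Fin 2) (ZMod 3)) ∨
    (Nat.card (G ⧸ Cfsg.oddCore G) = 48 ∧ Nat.card ↥(Subgroup.center (G ⧸ Cfsg.oddCore G)) = 2 ∧
      Nonempty ((G ⧸ Cfsg.oddCore G) ⧸ Subgroup.center (G ⧸ Cfsg.oddCore G) ≃* Equiv.Perm (Fin 4)) ∧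
      ∀ P : Sylow 2 (G ⧸ Cfsg.oddCore G), Nonempty (↥(P : Subgroup (G ⧸ Cfsg.oddCore G)) ≃* QuaternionGroup 4)) := by
  classical
  haveI : Fact (Nat.Prime 2) := ⟨Nat.prime_two⟩
  haveI := hs
  haveI hOn := H1.pPrimeCore_normal' 2 G
  set O := Cfsg.oddCore G with hOdef
  set π := QuotientGroup.mk' O with hπ
  have hπs : Function.Surjective π := QuotientGroup.mk'_surjective O
  haveI : Group.IsSolvable (G ⧸ O) := solvable_of_surjective hπs
  have hQO : Cfsg.oddCore (G ⧸ O) = ⊥ := H1.pPrimeCore_quotient_pPrimeCore 2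
  by_cases h2 : ∃ P : Sylow 2 (G ⧸ O), (P : Subgroup (G ⧸ O)).Normal
  · exact Or.inl h2
  refine (H70.Octa.classify hQO ?_).imp_right id
  set P0 := Cfsg.pCore 2 (G ⧸ O) with hP0
  haveI hP0n : P0.Normal := H1.pCore_normal' 2 (G ⧸ O)
  set M := P0.comap π with hM
  haveI hMn : M.Normal := hP0n.comap π
  obtain ⟨R⟩ : Nonempty (Sylow 2 ↥M) := inferInstance
  set R₀ : Subgroup G := (R : Subgroup ↥M).map M.subtype with hR₀
  have hR₀p : IsPGroup 2 ↥R₀ := R.isPGroup'.map M.subtype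
  obtain ⟨S, hRS⟩ := hR₀p.exists_le_sylow
  -- the image of `S` is a Sylow subgroup containing `P0`
  let Sb : Sylow 2 (G ⧸ O) := S.mapSurjective hπs
  have hSb : (Sb : Subgroup (G ⧸ O)) = (S : Subgroup G).map π := S.coe_mapSurjective hπs
  have hP0S : P0 ≤ (Sb : Subgroup (G ⧸ O)) := H1.pCore_le_sylow Sb
  -- some element normalising `R₀` moves the image
  have hmove : ∃ n : G, n ∈ Subgroup.normalizer (R₀ : Set G) ∧
      ∃ s ∈ (S : Subgroup G), π (n * s * n⁻¹) ∉ (Sb : Subgroup (G ⧸ O)) := by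
    by_contra hcon
    push Not at hcon
    apply h2
    refine ⟨Sb, ⟨fun x hx g => ?_⟩⟩
    obtain ⟨g, rfl⟩ := hπs g
    rw [hSb] at hx
    obtain ⟨s, hsS, rfl⟩ := hx
    have htop := Sylow.normalizer_sup_eq_top R
    have hg : g ∈ Subgroup.normalizer (R₀ : Set G) ⊔ M := by rw [hR₀, htop]; trivial
    rw [Subgroup.mem_sup_of_normal_right] at hg
    obtain ⟨n, hn, m, hm, rfl⟩ := hg
    have hm' : π m ∈ (Sb : Subgroup (G ⧸ O)) := hP0S hm
    have hx' : π (m * s * m⁻¹) ∈ (Sb : Subgroup (G ⧸ O)) := by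
      rw [map_mul, map_mul, map_inv]
      exact mul_mem (mul_mem hm' (by rw [hSb]; exact ⟨s, hsS, rfl⟩)) (inv_mem hm')
    rw [hSb] at hx'
    obtain ⟨s', hs', he⟩ := hx'
    have := hcon n hn s' hs'
    rw [map_mul, map_mul, map_inv, he, ← map_inv, ← map_mul, ← map_mul] at this
    rwa [← map_inv, ← map_mul, ← map_mul,
      show n * m * s * (n * m)⁻¹ = n * (m * s * m⁻¹) * n⁻¹ by group]
  obtain ⟨n, hn, s, hsS, hns⟩ := hmove
  let T : Sylow 2 G := n • S
  have hT : (T : Subgroup G) = (S : Subgroup G).map (MulAut.conj n).toMonoidHom := rfl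
  have hST : S ≠ T := by
    intro h
    apply hns
    rw [hSb]
    refine ⟨n * s * n⁻¹, ?_, rfl⟩
    show n * s * n⁻¹ ∈ (S : Subgroup G)
    rw [h, hT]
    exact ⟨s, hsS, rfl⟩
  have hRT : R₀ ≤ (S : Subgroup G) ⊓ (T : Subgroup G) := by
    refine le_inf hRS fun r hr => ?_
    rw [hT]
    have hr' : n⁻¹ * r * n ∈ R₀ := by
      have := (Subgroup.mem_normalizer_iff.1 (inv_mem hn) r).1 hr
      rwa [inv_inv] at this
    exact ⟨n⁻¹ * r * n, hRS hr', by show n * (n⁻¹ * r * n) * n⁻¹ = r; group⟩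
  -- `R₀` is isomorphic to `P0`
  let f : ↥R₀ →* ↥P0 := (π.comp R₀.subtype).codRestrict P0 (fun r => by
    obtain ⟨m, -, hm⟩ := r.2
    show π (r : G) ∈ P0
    rw [← hm]
    exact m.2)
  have hf : Function.Surjective f := by
    let πM : ↥M →* ↥P0 := (π.comp M.subtype).codRestrict P0 (fun m => m.2)
    have hs' : Function.Surjective πM := fun p => by
      obtain ⟨g, hg⟩ := hπs p.1
      exact ⟨⟨g, show π g ∈ P0 from hg ▸ p.2⟩, Subtype.ext hg⟩
    have hp : IsPGroup 2 ↥P0 := H1.isPGroup_pCore 2 _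
    have htop : ((R.mapSurjective hs' : Sylow 2 ↥P0) : Subgroup ↥P0) = ⊤ :=
      ((R.mapSurjective hs').is_maximal' (Q := ⊤) (hp.of_equiv Subgroup.topEquiv.symm) le_top).symm
    intro p
    have : p ∈ ((R.mapSurjective hs' : Sylow 2 ↥P0) : Subgroup ↥P0) := htop ▸ trivial
    rw [Sylow.coe_mapSurjective] at this
    obtain ⟨m, hm, rfl⟩ := this
    exact ⟨⟨m, m, hm, rfl⟩, rfl⟩
  have hinj : Function.Injective f := by
    rw [← MonoidHom.ker_eq_bot_iff, eq_bot_iff]
    intro r hr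
    have h1 : (r : G) ∈ O := (QuotientGroup.eq_one_iff _).1 (congrArg Subtype.val hr)
    have h3 : orderOf (r : G) ∣ Nat.card ↥O := Subgroup.orderOf_dvd_natCard O h1
    obtain ⟨k, hk⟩ := hR₀p r
    have h4 : orderOf (r : G) ∣ 2 ^ k := by
      apply orderOf_dvd_of_pow_eq_one
      simpa using congrArg Subtype.val hk
    have hc : (Nat.card ↥O).Coprime (2 ^ k) := (H1.card_pPrimeCore_coprime 2 G).pow_right k
    exact Subgroup.mem_bot.2 (Subtype.ext (orderOf_eq_one_iff.1 (Nat.eq_one_of_dvd_coprimes hc h3 h4)))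
  intro A hA hA2
  let ι : ↥P0 →* ↥((S : Subgroup G) ⊓ (T : Subgroup G)) :=
    (Subgroup.inclusion hRT).comp (MulEquiv.ofBijective f ⟨hinj, hf⟩).symm.toMonoidHom
  have hι : Function.Injective ι :=
    (Subgroup.inclusion_injective hRT).comp (MulEquiv.ofBijective f ⟨hinj, hf⟩).symm.injective
  rw [← Subgroup.card_map_of_injective (K := A) hι]
  haveI := hA
  refine hI S T hST _ inferInstance ?_
  rintro _ ⟨a, ha, rfl⟩
  rw [← map_pow, hA2 a ha, map_one]

end Cfsg.Agent.S3304
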