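import Cfsg.Statements.S3306
import Cfsg.Agent.H80.CISylow

set_option autoImplicit false
open Cfsg

namespace Cfsg.Agent.S3306

/-- Let G be a finite nonsolvable group in which any two distinct Sylow 2-subgroups intersect in a cyclic group, and let N be a solvable normal subgroup of G. Then the image of N in G/O(G) is a cyclic 2-group contained in the centre of G/O(G) (O(G) the largest normal subgroup of odd order). In other words the solvable radical of G is V·O(G) with V a cyclic 2-group central modulo O(G). -/
theorem result {G : Type*} [Group G] [Finite G] (hns : ¬ Group.IsSolvable G)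
    (hC : ∀ S T : Sylow 2 G, S ≠ T → IsCyclic ↥((S : Subgroup G) ⊓ (T : Subgroup G)))
    (N : Subgroup G) [N.Normal] (hN : Group.IsSolvable ↥N) :
    IsCyclic ↥(N.map (QuotientGroup.mk' (Cfsg.oddCore G))) ∧ IsPGroup 2 ↥(N.map (QuotientGroup.mk' (Cfsg.oddCore G))) ∧
      N.map (QuotientGroup.mk' (Cfsg.oddCore G)) ≤ Subgroup.center (G ⧸ Cfsg.oddCore G) := by
  set π := QuotientGroup.mk' (Cfsg.oddCore G)
  have hsurj : Function.Surjective π := QuotientGroup.mk'_surjective _
  haveI : (N.map π).Normal := Subgroup.Normal.map inferInstance π hsurj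
  refine H80.CI.solvable_normal_le (H80.CI.isCI_map π hsurj hC) ?_ H10.pPrimeCore_quotient_pPrimeCore
    (Group.isSolvable_of_surjective (f := π.subgroupMap N) (π.subgroupMap_surjective N))
  intro hq
  haveI := H16.FT.oddOrder (Nat.coprime_two_right.1 (H10.pPrimeCore_coprime (p := 2) (G := G)))
  exact hns ((Group.isSolvable_iff_subgroup_quotient (Cfsg.oddCore G)).mpr ⟨inferInstance, hq⟩)

end Cfsg.Agent.S3306
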