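import Cfsg.Statements.S3309
import Cfsg.Agent.H70.Conj
import Cfsg.Agent.H70.ThreeInvol
import Cfsg.Agent.H6.Transfer
import Mathlib.GroupTheory.SpecificGroups.Dihedral
import Mathlib.Data.ZMod.Basic
import Mathlib.Algebra.Ring.Parity

set_option autoImplicit false
open Cfsg

namespace Cfsg.Agent.S3309

open H70

abbrev P := Multiplicative (ZMod 2) × DihedralGroup 4

abbrev zz : P := (1, DihedralGroup.r 2)
abbrev bb : P := (Multiplicative.ofAdd 1, DihedralGroup.r 0)
abbrev bz : P := (Multiplicative.ofAdd 1, DihedralGroup.r 2)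
/-- reflection -/
abbrev rf (a : ZMod 2) (i : ZMod 4) : P := (Multiplicative.ofAdd a, DihedralGroup.sr i)

def par (i : ZMod 4) : ZMod 2 := (i.val : ZMod 2)

def inM : P → Bool
  | (_, .r _) => true
  | (_, .sr _) => false

def inD : P → Bool
  | (a, _) => decide (a = 1)

def inD' (i : ZMod 4) : P → Bool
  | (a, .r j) => decide (a = Multiplicative.ofAdd (par j))
  | (a, .sr j) => decide (a = Multiplicative.ofAdd (par j + par i))

def inD'' : P → Bool
  | (a, .r _) => decide (a = 1)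
  | (a, .sr _) => decide (a = Multiplicative.ofAdd 1)

def inE (i : ZMod 4) : P → Bool
  | (a, .r j) => decide (a = 1 ∧ par j = 0)
  | (a, .sr j) => decide (a = 1 ∧ par j = par i)

def IsSubgrp (f : P → Bool) : Prop := f 1 = true ∧ ∀ p q, f p = true → f q = true → f (p * q⁻¹) = true

def mkSub (f : P → Bool) (h : IsSubgrp f) : Subgroup P where
  carrier := {p | f p = true}
  one_mem' := h.1
  inv_mem' := fun {p} hp => by simpa using h.2 1 p h.1 hp
  mul_mem' := fun {p q} hp hq => by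
    have h1 : f q⁻¹ = true := by simpa using h.2 1 q h.1 hq
    simpa using h.2 p q⁻¹ hp h1

lemma subM : IsSubgrp inM := by unfold IsSubgrp; decide
lemma subD : IsSubgrp inD := by unfold IsSubgrp; decide
lemma subD' : ∀ i, IsSubgrp (inD' i) := by unfold IsSubgrp; decide
lemma subD'' : IsSubgrp inD'' := by unfold IsSubgrp; decide
lemma subE : ∀ i, IsSubgrp (inE i) := by unfold IsSubgrp; decide

lemma cardM : Fintype.card {p : P // inM p = true} = 8 := by decide
lemma cardD : Fintype.card {p : P // inD p = true} = 8 := by decide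
lemma cardD' : ∀ i, Fintype.card {p : P // inD' i p = true} = 8 := by decide
lemma cardD'' : Fintype.card {p : P // inD'' p = true} = 8 := by decide

lemma invM : ∀ q : P, q ≠ 1 → q * q = 1 → inM q = true → q = zz ∨ q = bb ∨ q = bz := by decide
lemma conj_rf : ∀ a i j, par i = par j → ∃ h : P, h * rf a i * h⁻¹ = rf a j := by decide
lemma invD : ∀ q : P, q ≠ 1 → q * q = 1 → inD q = true → q = zz ∨ ∃ i, q = rf 0 i := by decide
lemma invD' : ∀ i : ZMod 4, ∀ q : P, q ≠ 1 → q * q = 1 → inD' i q = true →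
    q = zz ∨ (q = rf 0 i ∨ q = rf 0 (i + 2)) ∨ (q = rf 1 (i + 1) ∨ q = rf 1 (i + 3)) := by decide
lemma par_add : ∀ i : ZMod 4, par (i + 2) = par i ∧ par (i + 1) ≠ par i ∧ par (i + 3) ≠ par i := by decide
lemma invD'' : ∀ q : P, q ≠ 1 → q * q = 1 → inD'' q = true → q = zz ∨ ∃ j, q = rf 1 j := by decide
lemma invAll : ∀ q : P, q ≠ 1 → q * q = 1 → q = zz ∨ q = bb ∨ q = bz ∨ ∃ a j, q = rf a j := by decide
lemma flip_rf : ∀ a j, ∃ a', bb * rf a j = rf a' j ∧ (a' = 0 ∨ a' = 1) ∧ (a = 0 ∨ a = 1) := by decide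





open H70

lemma par_two : ∀ i j k : ZMod 4, par j ≠ par i → par k ≠ par i → par j = par k := by decide

/-- A finite group whose Sylow 2-subgroups are isomorphic to the direct product of a group of order 2 and the dihedral group of order 8 is not a non-abelian simple group. -/
theorem result {G : Type*} [Group G] [Finite G] (S : Sylow 2 G) (hS : Nonempty (↥(S : Subgroup G) ≃* Multiplicative (ZMod 2) × DihedralGroup 4))
    [IsSimpleGroup G] (hG : ¬ IsMulCommutative G) : False := by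
  obtain ⟨e⟩ := hS
  let ψ : P →* G := (S : Subgroup G).subtype.comp e.symm.toMonoidHom
  have hψ : Function.Injective ψ := Subtype.val_injective.comp e.symm.injective
  have hψS : ∀ p, ψ p ∈ (S : Subgroup G) := fun p => (e.symm p).2
  have hψsurj : ∀ s ∈ (S : Subgroup G), ∃ p, ψ p = s := fun s hs => ⟨e ⟨s, hs⟩, by simp [ψ]⟩
  have hinv : ∀ p : P, p ≠ 1 → p * p = 1 → orderOf (ψ p) = 2 := by
    intro p h1 h2
    refine orderOf_eq_prime (by rw [pow_two, ← map_mul, h2, map_one]) fun h => h1 (hψ (h.trans (map_one ψ).symm))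
  have hind : ∀ M : Subgroup G, M.index ≠ 2 := index_ne_two_of_simple hG
  have hconjm : ∀ p q : P, (∃ h, h * p * h⁻¹ = q) → IsConj (ψ p) (ψ q) := by
    rintro p q ⟨h, rfl⟩
    exact isConj_iff.mpr ⟨ψ h, by simp⟩
  -- transfer
  have htrans : ∀ (f : P → Bool) (hf : IsSubgrp f), Fintype.card {p : P // f p = true} = 8 →
      ∀ u : G, orderOf u = 2 → ∃ q : P, q ≠ 1 ∧ q * q = 1 ∧ f q = true ∧ IsConj u (ψ q) := by
    intro f hf hcard u hu
    set Q := (mkSub f hf).map ψ
    have hQS : Q ≤ (S : Subgroup G) := by rintro _ ⟨p, -, rfl⟩; exact hψS p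
    have hQc : Nat.card Q = 8 := by
      rw [Subgroup.card_map_of_injective hψ]
      show Nat.card {p : P // f p = true} = 8
      rw [Nat.card_eq_fintype_card, hcard]
    have hSc : Nat.card (S : Subgroup G) = 16 := by
      rw [Nat.card_congr e.toEquiv, Nat.card_prod, DihedralGroup.nat_card]
      simp
    have hQi : Q.relIndex (S : Subgroup G) = 2 := by
      have h := Subgroup.relIndex_mul_relIndex ⊥ Q (S : Subgroup G) bot_le hQS
      rw [Subgroup.relIndex_bot_left, Subgroup.relIndex_bot_left, hQc, hSc] at h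
      omega
    rcases H6.thompson_transfer S Q hQS hQi u hu with ⟨M, -, hM, -⟩ | ⟨g, p, hp, hpg⟩
    · exact absurd hM (hind M)
    · have ho : orderOf (ψ p) = 2 := by rw [hpg]; exact (orderOf_conj' g u).trans hu
      refine ⟨p, fun h => ne_one_of_two ho (by rw [h, map_one]), hψ ?_, hp, isConj_iff.mpr ⟨g, hpg.symm⟩⟩
      rw [map_mul, map_one]; exact mul_self_of_two ho
  -- the three central involutions are not conjugate
  have hcen : ∀ p q : P, (∀ r, r * p = p * r) → (∀ r, r * q = q * r) → IsConj (ψ p) (ψ q) →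
      ∃ n ∈ Subgroup.normalizer ((S : Subgroup G) : Set G), n * ψ p * n⁻¹ = ψ q := by
    intro p q hp hq hpq
    obtain ⟨g, hg⟩ := isConj_iff.mp hpq
    have hc : ∀ r : P, (∀ a, a * r = r * a) → ψ r ∈ Subgroup.centralizer ((S : Subgroup G) : Set G) := by
      intro r hr
      refine Subgroup.mem_centralizer_iff.mpr fun s hs => ?_
      obtain ⟨a, rfl⟩ := hψsurj s hs
      rw [← map_mul, ← map_mul, hr]
    obtain ⟨n, hn, hnn⟩ := S.conj_eq_normalizer_conj_of_mem_centralizer (ψ p) g⁻¹ (hc p hp) (by rw [inv_inv, hg]; exact hc q hq)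
    rw [inv_inv, hg] at hnn
    exact ⟨n⁻¹, inv_mem hn, by rw [inv_inv]; exact hnn.symm⟩
  have hnz : ∀ n ∈ Subgroup.normalizer ((S : Subgroup G) : Set G), n * ψ zz * n⁻¹ = ψ zz := by
    intro n hn
    obtain ⟨a, ha⟩ := hψsurj _ ((Subgroup.mem_normalizer_iff.mp hn _).mp (hψS zz))
    obtain ⟨c, hc⟩ := hψsurj _ ((Subgroup.mem_normalizer_iff.mp hn _).mp (hψS (1, DihedralGroup.r 1)))
    have h2 : a = c * c := hψ (by
      rw [map_mul, hc, ha, conj_mul, ← map_mul]
      rfl)
    have h1 : a ≠ 1 := fun h => by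
      rw [h, map_one] at ha
      exact absurd (hψ ((conj_eq_one_iff.mp ha.symm).trans (map_one ψ).symm)) (by decide)
    have := (show ∀ d : P, d * d ≠ 1 → d * d = zz by decide) c (h2 ▸ h1)
    rw [← ha, h2, this]
  have hzb : ¬ IsConj (ψ zz) (ψ bb) ∧ ¬ IsConj (ψ zz) (ψ bz) := by
    constructor <;> intro h <;> obtain ⟨n, hn, hnn⟩ := hcen _ _ (by decide) (by decide) h <;>
      rw [hnz n hn] at hnn <;> exact absurd (hψ hnn) (by decide)
  have hbbz : ¬ IsConj (ψ bb) (ψ bz) := by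
    intro h
    obtain ⟨n, hn, hnn⟩ := hcen _ _ (by decide) (by decide) h
    have hswap : n * ψ bz * n⁻¹ = ψ bb := by
      rw [show bz = bb * zz by decide, map_mul, ← conj_mul, hnn, hnz n hn, ← map_mul]
      rfl
    have hk : ∀ k : ℕ, n ^ (2 * k + 1) * ψ bb * (n ^ (2 * k + 1))⁻¹ = ψ bz := by
      intro k
      induction k with
      | zero => simpa using hnn
      | succ k ih =>
        calc n ^ (2 * (k + 1) + 1) * ψ bb * (n ^ (2 * (k + 1) + 1))⁻¹
            = n * (n * (n ^ (2 * k + 1) * ψ bb * (n ^ (2 * k + 1))⁻¹) * n⁻¹) * n⁻¹ := by group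
          _ = ψ bz := by rw [ih, hswap, hnn]
    set W := (S : Subgroup G).subgroupOf (Subgroup.normalizer ((S : Subgroup G) : Set G))
    have hpow : n ^ W.index ∈ (S : Subgroup G) :=
      Subgroup.pow_index_mem W (⟨n, hn⟩ : Subgroup.normalizer ((S : Subgroup G) : Set G))
    obtain ⟨k, hk'⟩ : Odd W.index := by
      rw [← Nat.not_even_iff_odd, even_iff_two_dvd]
      exact (S.subtype Subgroup.le_normalizer).not_dvd_index
    rw [hk'] at hpow
    obtain ⟨s, hs⟩ := hψsurj _ hpow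
    have := hk k
    rw [← hs, ← map_inv, ← map_mul, ← map_mul] at this
    have h3 := hψ this
    rw [(show ∀ r : P, r * bb = bb * r by decide) s, mul_inv_cancel_right] at h3
    exact absurd h3 (by decide)
  have htri : ∀ p : P, p ≠ 1 → p * p = 1 →
      IsConj (ψ p) (ψ zz) ∨ IsConj (ψ p) (ψ bb) ∨ IsConj (ψ p) (ψ bz) := by
    intro p h1 h2
    obtain ⟨q, q1, q2, q3, hq⟩ := htrans inM subM cardM _ (hinv p h1 h2)
    rcases invM q q1 q2 q3 with rfl | rfl | rfl
    · exact Or.inl hq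
    · exact Or.inr (Or.inl hq)
    · exact Or.inr (Or.inr hq)
  have hpar : ∀ a i j, par i = par j → IsConj (ψ (rf a i)) (ψ (rf a j)) := fun a i j h => hconjm _ _ (conj_rf a i j h)
  have hbo : orderOf (ψ bb) = 2 := hinv bb (by decide) (by decide)
  have hbzo : orderOf (ψ bz) = 2 := hinv bz (by decide) (by decide)
  -- `b` is conjugate to a reflection in `D`
  obtain ⟨q, q1, q2, q3, hq⟩ := htrans inD subD cardD _ hbo
  rcases invD q q1 q2 q3 with rfl | ⟨i, rfl⟩
  · exact hzb.1 hq.symm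
  have hbzi : ∃ j, par j ≠ par i ∧ IsConj (ψ bz) (ψ (rf 0 j)) := by
    obtain ⟨q, q1, q2, q3, hq'⟩ := htrans inD subD cardD _ hbzo
    rcases invD q q1 q2 q3 with rfl | ⟨j, rfl⟩
    · exact absurd hq'.symm hzb.2
    · exact ⟨j, fun h => hbbz (hq.trans ((hpar 0 j i h).symm.trans hq'.symm)), hq'⟩
  obtain ⟨j, hji, hbzj⟩ := hbzi
  have h1j : ∀ k, par k ≠ par i → IsConj (ψ bz) (ψ (rf 1 k)) := by
    intro k hk
    obtain ⟨q, q1, q2, q3, hq'⟩ := htrans (inD' i) (subD' i) (cardD' i) _ hbzo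
    rcases invD' i q q1 q2 q3 with rfl | (rfl | rfl) | (rfl | rfl)
    · exact absurd hq'.symm hzb.2
    · exact absurd (hq.trans hq'.symm) hbbz
    · exact absurd (hq.trans ((hpar 0 _ i (par_add i).1).symm.trans hq'.symm)) hbbz
    · exact hq'.trans (hpar 1 _ k (par_two i _ k (par_add i).2.1 hk))
    · exact hq'.trans (hpar 1 _ k (par_two i _ k (par_add i).2.2 hk))
  have h1i : ∀ k, par k = par i → IsConj (ψ bb) (ψ (rf 1 k)) := by
    intro k hk
    obtain ⟨q, q1, q2, q3, hq'⟩ := htrans inD'' subD'' cardD'' _ hbo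
    rcases invD'' q q1 q2 q3 with rfl | ⟨l, rfl⟩
    · exact absurd hq'.symm hzb.1
    · by_cases hl : par l = par i
      · exact hq'.trans (hpar 1 l k (hl.trans hk.symm))
      · exact absurd (hq'.trans (h1j l hl).symm) hbbz
  have h0i : ∀ k, par k = par i → IsConj (ψ bb) (ψ (rf 0 k)) := fun k hk => hq.trans (hpar 0 i k hk.symm)
  have h0j : ∀ k, par k ≠ par i → IsConj (ψ bz) (ψ (rf 0 k)) := fun k hk => hbzj.trans (hpar 0 j k (par_two i j k hji hk))
  -- move `{rf 0 i, zz}` into `S`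
  obtain ⟨g, hg⟩ := isConj_iff.mp hq.symm
  set Q := cj g ((mkSub (inE i) (subE i)).map ψ) with hQdef
  have hQp : IsPGroup 2 Q := by
    refine (S.isPGroup'.to_le ?_).map _
    rintro _ ⟨p, -, rfl⟩; exact hψS p
  have hQK : Q ≤ Subgroup.centralizer ({ψ bb} : Set G) := by
    rintro _ ⟨_, ⟨p, hp, rfl⟩, rfl⟩
    rw [Subgroup.mem_centralizer_singleton_iff, ← hg]
    show g * ψ p * g⁻¹ * (g * ψ (rf 0 i) * g⁻¹) = g * ψ (rf 0 i) * g⁻¹ * (g * ψ p * g⁻¹)
    rw [conj_mul, conj_mul, ← map_mul, ← map_mul,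
      (show ∀ i, ∀ p : P, inE i p = true → p * rf 0 i = rf 0 i * p by decide) i p hp]
  have hSK : (S : Subgroup G) ≤ Subgroup.centralizer ({ψ bb} : Set G) := by
    intro s hs
    obtain ⟨p, rfl⟩ := hψsurj s hs
    rw [Subgroup.mem_centralizer_singleton_iff, ← map_mul, ← map_mul,
      (show ∀ r : P, r * bb = bb * r by decide) p]
  obtain ⟨h, hh, hle⟩ := exists_cj_le_sylow S hSK hQp hQK
  set n := h * g with hn
  have hnb : n * ψ (rf 0 i) * n⁻¹ = ψ bb := by
    have hh' := Subgroup.mem_centralizer_singleton_iff.mp hh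
    calc n * ψ (rf 0 i) * n⁻¹ = h * (g * ψ (rf 0 i) * g⁻¹) * h⁻¹ := by rw [hn]; group
      _ = ψ bb := by rw [hg, hh', mul_inv_cancel_right]
  have hmem : ∀ p, inE i p = true → ∃ q, ψ q = n * ψ p * n⁻¹ := fun p hp => hψsurj _ (by
    have : h * (g * ψ p * g⁻¹) * h⁻¹ ∈ (S : Subgroup G) := hle ⟨_, ⟨_, ⟨p, hp, rfl⟩, rfl⟩, rfl⟩
    simpa [hn, mul_assoc] using this)
  obtain ⟨w, hw⟩ := hmem (rf 0 (i + 2)) ((show ∀ i, inE i (rf 0 (i + 2)) = true by decide) i)
  have hwb : IsConj (ψ bb) (ψ w) := (h0i (i + 2) ((show ∀ i, par (i + 2) = par i by decide) i)).trans (isConj_iff.mpr ⟨n, hw.symm⟩)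
  have hw1 : w ≠ 1 ∧ w * w = 1 := by
    refine ⟨fun h1 => ?_, hψ ?_⟩
    · rw [h1, map_one] at hw
      exact ne_one_of_two (hinv (rf 0 (i + 2)) ((show ∀ k : ZMod 4, rf 0 k ≠ 1 by decide) _) ((show ∀ k : ZMod 4, rf 0 k * rf 0 k = 1 by decide) _))
        (conj_eq_one_iff.mp hw.symm)
    · rw [map_mul, hw, conj_mul, ← map_mul, (show ∀ k : ZMod 4, rf 0 k * rf 0 k = 1 by decide), map_one, mul_one, mul_inv_cancel]
  have hbw : IsConj (ψ zz) (ψ (bb * w)) := by
    refine isConj_iff.mpr ⟨n, ?_⟩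
    rw [map_mul, hw, ← hnb, conj_mul, ← map_mul, (show ∀ i : ZMod 4, rf 0 i * rf 0 (i + 2) = zz by decide)]
  rcases invAll w hw1.1 hw1.2 with rfl | rfl | rfl | ⟨a, k, rfl⟩
  · exact hzb.1 hwb.symm
  · rw [show bb * bb = (1 : P) by decide, map_one] at hbw
    exact ne_one_of_two (hinv zz (by decide) (by decide)) (isConj_one_left.mp hbw)
  · exact hbbz hwb
  · obtain ⟨a', ha', ha'2, ha2⟩ := flip_rf a k
    rw [ha'] at hbw
    by_cases hk : par k = par i
    · rcases ha'2 with rfl | rfl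
      · exact hzb.1 (hbw.trans (h0i k hk).symm)
      · exact hzb.1 (hbw.trans (h1i k hk).symm)
    · rcases ha2 with rfl | rfl
      · exact hbbz (hwb.trans (h0j k hk).symm)
      · exact hbbz (hwb.trans (h1j k hk).symm)

end Cfsg.Agent.S3309
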