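import Cfsg.Statements.S3313
import Cfsg.Agent.H70.JankoTwoMain
import Cfsg.Agent.H10.Basic

set_option autoImplicit false
open Cfsg

namespace Cfsg.Agent.S3313

/-- The order of a simple group with the involution pattern of the Hall–Janko group. Let G be a non-abelian finite simple group with exactly two conjugacy classes of involutions, represented by z and t, such that: F*(C_G(z)) is an extraspecial 2-group; Q = O₂(C_G(z)) has order 32 and C_G(z) is the semidirect product of Q by a subgroup isomorphic to A₅; every involution of Q is conjugate to z and every other involution of C_G(z) is conjugate to t; C_G(t) is an internal direct product V × B with V a four-group containing t and B ≅ A₅; every involution of B is conjugate to z and every other involution of C_G(t) is conjugate to t. Then |G| = 604800. -/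
theorem result {G : Type*} [Group G] [Finite G]
    [IsSimpleGroup G] (hna : ¬ IsMulCommutative G) (z t : G) (hz : orderOf z = 2) (ht : orderOf t = 2)
    (hzt : ¬ IsConj z t) (hcl : ∀ x : G, orderOf x = 2 → IsConj x z ∨ IsConj x t)
    (hex : Cfsg.IsExtraspecial 2 ↥(Cfsg.generalizedFittingSubgroup ↥(Subgroup.centralizer ({z} : Set G))))
    (hQ : Nat.card ↥(Cfsg.pCore 2 ↥(Subgroup.centralizer ({z} : Set G))) = 32)
    (K : Subgroup G) (hK : Nonempty (↥K ≃* alternatingGroup (Fin 5)))
    (hKC : K ⊔ (Cfsg.pCore 2 ↥(Subgroup.centralizer ({z} : Set G))).map (Subgroup.centralizer ({z} : Set G)).subtype = Subgroup.centralizer ({z} : Set G))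
    (hKQ : K ⊓ (Cfsg.pCore 2 ↥(Subgroup.centralizer ({z} : Set G))).map (Subgroup.centralizer ({z} : Set G)).subtype = ⊥)
    (hQz : ∀ x ∈ (Cfsg.pCore 2 ↥(Subgroup.centralizer ({z} : Set G))).map (Subgroup.centralizer ({z} : Set G)).subtype, orderOf x = 2 → IsConj x z)
    (hCz : ∀ x ∈ Subgroup.centralizer ({z} : Set G), orderOf x = 2 →
      x ∉ (Cfsg.pCore 2 ↥(Subgroup.centralizer ({z} : Set G))).map (Subgroup.centralizer ({z} : Set G)).subtype → IsConj x t)
    (V B : Subgroup G) (hVB : Cfsg.IsInternalDirectProduct V B (Subgroup.centralizer ({t} : Set G)))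
    (hV : Nat.card ↥V = 4) (hV2 : ∀ v ∈ V, v ^ 2 = 1) (htV : t ∈ V) (hB : Nonempty (↥B ≃* alternatingGroup (Fin 5)))
    (hBz : ∀ x ∈ B, orderOf x = 2 → IsConj x z)
    (hCt : ∀ x ∈ Subgroup.centralizer ({t} : Set G), orderOf x = 2 → x ∉ B → IsConj x t) :
    Nat.card G = 604800 := by
  classical
  haveI : Fact (Nat.Prime 2) := ⟨Nat.prime_two⟩
  set H := Subgroup.centralizer ({z} : Set G) with hHdef
  set P := Cfsg.pCore 2 ↥H with hPdef
  have hPn : P.Normal := H10.pCore_normal
  have hFp : IsPGroup 2 ↥(Cfsg.generalizedFittingSubgroup ↥H) := hex.1.1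
  have hcP := H68.gfs_isPGroup_iff.1 hFp
  rw [H68.gfs_eq_pCore_of_centralizer hcP] at hex
  have hQe : Cfsg.IsExtraspecial 2 ↥(P.map H.subtype) :=
    H68.isExtraspecial_of_equiv (P.equivMapOfInjective H.subtype H.subtype_injective) hex
  have hzH : z ∈ H := Subgroup.mem_centralizer_singleton_iff.2 rfl
  have hzP : (⟨z, hzH⟩ : ↥H) ∈ P := by
    have hc : ∀ h : ↥H, h * ⟨z, hzH⟩ * h⁻¹ = ⟨z, hzH⟩ := fun h => Subtype.ext (by
      show (h : G) * z * (h : G)⁻¹ = z
      rw [Subgroup.mem_centralizer_singleton_iff.1 h.2, mul_inv_cancel_right])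
    have hn : (Subgroup.zpowers (⟨z, hzH⟩ : ↥H)).Normal := ⟨fun x hx g => by
      obtain ⟨k, rfl⟩ := Subgroup.mem_zpowers_iff.1 hx
      rw [← conj_zpow, hc g]; exact Subgroup.zpow_mem _ (Subgroup.mem_zpowers _) k⟩
    have hp : IsPGroup 2 ↥(Subgroup.zpowers (⟨z, hzH⟩ : ↥H)) :=
      IsPGroup.of_card (n := 1) (by rw [Nat.card_zpowers, Subgroup.orderOf_mk, hz, pow_one])
    exact (le_sSup (show Subgroup.zpowers (⟨z, hzH⟩ : ↥H) ∈
      {N : Subgroup ↥H | N.Normal ∧ IsPGroup 2 N} from ⟨hn, hp⟩)) (Subgroup.mem_zpowers _)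
  have hQ32 : Nat.card ↥(P.map H.subtype) = 32 := by
    rw [← Nat.card_congr (P.equivMapOfInjective H.subtype H.subtype_injective).toEquiv, hQ]
  have hQH : P.map H.subtype ≤ H := Subgroup.map_subtype_le P
  have hKH : K ≤ H := hKC ▸ le_sup_left
  have hH : Nat.card ↥H = 1920 := by
    have hc : Subgroup.IsComplement' (K.subgroupOf H) P := by
      refine Subgroup.isComplement'_of_disjoint_and_mul_eq_univ ?_ ?_
      · rw [disjoint_iff, ← (Subgroup.map_injective H.subtype_injective).eq_iff, Subgroup.map_bot,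
          Subgroup.map_inf _ _ _ H.subtype_injective, Subgroup.map_subgroupOf_eq_of_le hKH, hKQ]
      · rw [← Subgroup.mul_normal]
        have : K.subgroupOf H ⊔ P = ⊤ := by
          rw [← (Subgroup.map_injective H.subtype_injective).eq_iff, Subgroup.map_sup,
            Subgroup.map_subgroupOf_eq_of_le hKH, ← MonoidHom.range_eq_map, Subgroup.range_subtype, hKC]
        rw [this, Subgroup.coe_top]
    have h := hc.card_mul
    rw [Nat.card_congr ((Subgroup.subgroupOfEquivOfLe hKH).toEquiv.trans hK.some.toEquiv),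
      hQ] at h
    rw [← h, Nat.card_eq_fintype_card]
    rfl
  obtain ⟨eB⟩ := hB
  refine H70.J2Ord.order_eq z t hz ht hzt (fun x hx => (hcl x hx).imp (fun h => h.symm) (fun h => h.symm))
    _ hQH ⟨⟨z, hzH⟩, hzP, rfl⟩ hQe hQ32 ?_ ?_ hH (fun x hx ho => (hQz x hx ho).symm)
    (fun x hx ho hn => (hCz x hx ho hn).symm) V B hVB hV hV2 htV eB
    (fun x hx ho => (hBz x hx ho).symm) (fun x hx ho hn => (hCt x hx ho hn).symm)
  · rintro h hh _ ⟨q, hq, rfl⟩
    exact ⟨⟨h, hh⟩ * q * ⟨h, hh⟩⁻¹, hPn.conj_mem q hq _, rfl⟩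
  · intro h hh hcomm
    refine ⟨⟨h, hh⟩, hcP (Subgroup.mem_centralizer_iff.2 fun q hq => ?_), rfl⟩
    exact Subtype.ext (hcomm _ ⟨q, hq, rfl⟩).symm

end Cfsg.Agent.S3313
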