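import Cfsg.Statements.S3315
import Cfsg.Agent.H70.UnitaryIndexTwo

set_option autoImplicit false
open Cfsg

namespace Cfsg.Agent.S3315

/-- Let S be a Sylow 2-subgroup of SU₃(2ⁿ), n ≥ 2 (realised over the field with 4ⁿ elements). If a finite 2-group R contains a subgroup S' of index 2 isomorphic to S, then the centre of S' is contained in the centre of R. -/
theorem result {R : Type*} [Group R] [Finite R]
    (hR : IsPGroup 2 R) (n : ℕ) (hn : 2 ≤ n) {F : Type*} [Field F] [Fintype F] (hF : Fintype.card F = 4 ^ n)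
    (P : Sylow 2 ↥(Cfsg.SU 3 F (2 ^ n))) (S' : Subgroup R) (hS : Nonempty (↥S' ≃* ↥(P : Subgroup ↥(Cfsg.SU 3 F (2 ^ n)))))
    (hidx : S'.index = 2) :
    (Subgroup.center ↥S').map S'.subtype ≤ Subgroup.center R := by
  classical
  obtain ⟨e₀⟩ := hS
  obtain ⟨q, hq⟩ : ∃ q, q = 2 ^ n := ⟨_, rfl⟩
  revert P
  rw [← hq]
  intro P e₀
  have hF2 : Fintype.card F = q ^ 2 := by rw [hF, hq, ← pow_mul, mul_comm n 2, pow_mul]; norm_num
  have h2 : (2 : F) = 0 := by
    have h : ((Fintype.card F : ℕ) : F) = 0 := Nat.cast_card_eq_zero F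
    rw [hF2, hq, ← pow_mul, Nat.cast_pow, Nat.cast_ofNat] at h
    exact eq_zero_of_pow_eq_zero h
  obtain ⟨f, hf⟩ := H50.SuzU3.exists_hom hF2 h2
  have hU : Nat.card f.range = q ^ 3 := by
    rw [← Nat.card_congr (MonoidHom.ofInjective hf).toEquiv, H50.SuzU3.UPt.card]
  have hindex : ¬ 2 ∣ f.range.index := by
    intro hd
    have h := H50.card_SU_mul hF2 (n := 3) (by norm_num)
    rw [← Subgroup.card_mul_index f.range, hU, H50.card_GU hF2] at h
    norm_num [Finset.prod_range_succ] at h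
    obtain ⟨k, hk⟩ := hd
    rw [hk] at h
    have hqe : 2 ∣ q := hq ▸ dvd_pow_self 2 (by omega)
    have hq0 : 0 < q := hq ▸ Nat.two_pow_pos n
    have e1 : 1 ≤ q ^ 2 := Nat.one_le_pow _ _ hq0
    have h' : (q + 1) * (2 * k) = (q + 1) * (q ^ 2 - 1) * (q ^ 3 + 1) :=
      Nat.eq_of_mul_eq_mul_left (pow_pos hq0 3) (by linarith)
    have h'' : 2 * k = (q ^ 2 - 1) * (q ^ 3 + 1) :=
      Nat.eq_of_mul_eq_mul_left (by omega) (h'.trans (mul_assoc _ _ _))
    have o1 : ¬ 2 ∣ q ^ 2 - 1 := by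
      have : 2 ∣ q ^ 2 := dvd_pow hqe (by norm_num)
      omega
    have o2 : ¬ 2 ∣ q ^ 3 + 1 := by
      have : 2 ∣ q ^ 3 := dvd_pow hqe (by norm_num)
      omega
    exact (Nat.prime_two.not_dvd_mul o1 o2) ⟨k, h''.symm⟩
  have hp : IsPGroup 2 f.range :=
    (H50.SuzU3.UPt.isPGroup hF2 h2).of_equiv (MonoidHom.ofInjective hf)
  let e : H50.SuzU3.UPt hF2 ≃* ↥S' :=
    (MonoidHom.ofInjective hf).trans (((hp.toSylow hindex).equiv P).trans e₀.symm)
  haveI hN : S'.Normal := Subgroup.normal_of_index_eq_two hidx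
  rintro _ ⟨z, hz, rfl⟩
  rw [Subgroup.mem_center_iff]
  intro r
  have hrr : r * r ∈ S' := Subgroup.mul_self_mem_of_index_two hidx r
  let α : ↥S' ≃* ↥S' := MulAut.conjNormal r
  let θ := e.trans (α.trans e.symm)
  have hθ : ∀ x, θ (θ x) = e.symm ⟨r * r, hrr⟩ * x * (e.symm ⟨r * r, hrr⟩)⁻¹ := by
    intro x
    apply e.injective
    simp only [θ, α, MulEquiv.trans_apply, MulEquiv.apply_symm_apply, map_mul, map_inv]
    apply Subtype.ext
    simp [MulAut.conjNormal_apply]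
    group
  have hzc : e.symm z ∈ Subgroup.center (H50.SuzU3.UPt hF2) :=
    MulEquivClass.apply_mem_center e.symm hz
  have h := H70.U3Two.aut_fixes_center hF2 h2 (by rw [hq]; exact le_trans (show 2 ≤ 2 ^ 2 by norm_num) (Nat.pow_le_pow_right (by norm_num) hn)) θ _ hθ hzc
  have h' : α z = z := e.symm.injective (by simpa [θ] using h)
  have h'' := congrArg Subtype.val h'
  simp only [α, MulAut.conjNormal_apply] at h''
  exact mul_inv_eq_iff_eq_mul.1 h''

end Cfsg.Agent.S3315
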