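import Cfsg.Statements.S3333
import Cfsg.Agent.H6.Three.SymSix
-- import your own Cfsg.Agent.* helpers here

set_option autoImplicit false
open Cfsg

namespace Cfsg.Agent.S3333

/-- Let G be a finite group with a Sylow 3-subgroup S of order 9 that is its own centralizer, with N_G(S)/S dihedral of order 8, and such that C_G(x) ≤ N_G(S) for every non-identity x in S. Then S is normal in G or G is isomorphic to the symmetric group of degree 6. -/
theorem result {G : Type*} [Group G] [Finite G]
    (P : Sylow 3 G) (S : Subgroup G) (hSP : S = P) (hcard : Nat.card S = 9)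
    (hC : Subgroup.centralizer (S : Set G) = S)
    (eN : Subgroup.normalizer (S : Set G) ⧸ S.subgroupOf (Subgroup.normalizer (S : Set G)) ≃* DihedralGroup 4)
    (hcent : ∀ x ∈ S, x ≠ 1 → Subgroup.centralizer ({x} : Set G) ≤ Subgroup.normalizer (S : Set G)) :
    S.Normal ∨ Nonempty (G ≃* Equiv.Perm (Fin 6)) := by

  classical
  haveI : Fact (Nat.Prime 3) := ⟨Nat.prime_three⟩
  haveI := Fintype.ofFinite G
  set N := Subgroup.normalizer (S : Set G) with hN
  have hSN : S ≤ N := Subgroup.le_normalizer
  have hS' : Nat.card (S.subgroupOf N) = 9 := by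
    rw [Nat.card_congr (Subgroup.subgroupOfEquivOfLe hSN).toEquiv, hcard]
  have hidx : (S.subgroupOf N).index = 8 := by
    rw [Subgroup.index_eq_card, Nat.card_congr eN.toEquiv, DihedralGroup.nat_card]
  have h72 : Nat.card N = 72 := by rw [← (S.subgroupOf N).card_mul_index, hS', hidx]
  obtain ⟨H, hH⟩ := Subgroup.exists_right_complement'_of_coprime (N := S.subgroupOf N)
    (by rw [hS', hidx]; norm_num)
  let φ : DihedralGroup 4 →* G :=
    N.subtype.comp (H.subtype.comp (eN.symm.trans hH.symm.QuotientMulEquiv).toMonoidHom)
  have φinj : Function.Injective φ := Subtype.val_injective.comp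
    (Subtype.val_injective.comp (eN.symm.trans hH.symm.QuotientMulEquiv).injective)
  have φN : ∀ d, φ d ∈ N := fun d => SetLike.coe_mem _
  have exp3 : ∀ m ∈ S, m ^ 3 = 1 := by
    have hnc : ¬ IsCyclic S := by
      intro hc
      let A : N →* MulAut S := Subgroup.normalizerMonoidHom S
      let θ : DihedralGroup 4 →* MulAut S := A.comp (φ.codRestrict N φN)
      have hθ : Function.Injective θ := by
        refine (injective_iff_map_eq_one θ).2 fun d hd => ?_
        have hcd : φ d ∈ Subgroup.centralizer (S : Set G) := Subgroup.mem_centralizer_iff.2 fun m hm => by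
          have e := congrArg Subtype.val (DFunLike.congr_fun hd ⟨m, hm⟩)
          have e' : φ d * m * (φ d)⁻¹ = m := e
          calc m * φ d = φ d * m * (φ d)⁻¹ * φ d := by rw [e']
            _ = φ d * m := by group
        rw [hC] at hcd
        have h9 : d ^ 9 = 1 := φinj (by
          rw [map_pow, map_one, ← hcard]
          exact orderOf_dvd_iff_pow_eq_one.1 (S.orderOf_dvd_natCard hcd))
        exact (by decide : ∀ d : DihedralGroup 4, d ^ 9 = 1 → d = 1) d h9
      have hcomm : ∀ a b : MulAut S, a * b = b * a := fun a b =>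
        (IsCyclic.mulAutMulEquiv S).injective (by rw [map_mul, map_mul, mul_comm])
      exact absurd (hθ (by rw [map_mul, map_mul]; exact hcomm _ _) :
        (DihedralGroup.sr 0 * .r 1 : DihedralGroup 4) = .r 1 * .sr 0) (by decide)
    intro m hm
    obtain ⟨k, hk, hk'⟩ := (Nat.dvd_prime_pow Nat.prime_three).1
      (show orderOf m ∣ 3 ^ 2 by rw [show 3 ^ 2 = Nat.card S by rw [hcard]; norm_num]; exact S.orderOf_dvd_natCard hm)
    interval_cases k
    · rw [pow_zero, orderOf_eq_one_iff] at hk'; rw [hk', one_pow]
    · rw [pow_one] at hk'; rw [← hk', pow_orderOf_eq_one]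
    · exact absurd (isCyclic_of_orderOf_eq_card (⟨m, hm⟩ : S)
        (by rw [Subgroup.orderOf_mk, hk', hcard]; norm_num)) hnc
  let h : H6.Three.DihedralHyp G S :=
    { card9 := hcard
      exp3 := exp3
      selfCent := hC.le
      φ := φ
      φ_inj := φinj
      φ_norm := φN
      card72 := h72
      cent := hcent }
  obtain ⟨f, fu, fw⟩ := h.exists_linear
  obtain ⟨C, hr, hu, hw⟩ := h.exists_config
  exact H6.Three.Six.classify
    { C := C
      range_eq := hr
      f := f
      fu := by rw [hu]; exact fu
      fw := by rw [hw]; exact fw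
      three := fun x hx hx3 => by
        have hq : eN (QuotientGroup.mk (⟨x, hx⟩ : N)) = 1 :=
          (by decide : ∀ d : DihedralGroup 4, d ^ 3 = 1 → d = 1) _ (by
            rw [← map_pow, ← QuotientGroup.mk_pow,
              show (⟨x, hx⟩ : N) ^ 3 = 1 from Subtype.ext hx3, QuotientGroup.mk_one, map_one])
        rw [MulEquiv.map_eq_one_iff, QuotientGroup.eq_one_iff] at hq
        exact hq
      card9 := hcard
      exp3 := exp3
      comm := fun a ha b hb => h.comm ha hb
      self := hC.le
      cent := hcent
      P := P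
      hP := hSP.symm }

end Cfsg.Agent.S3333
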