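import Cfsg.Statements.S3338
import Cfsg.Agent.H61.U6M.Build
import Cfsg.Agent.H28.S3338.Engine
import Cfsg.Agent.H28.S3338.Closure
import Cfsg.Agent.H28.S3338.SmallBig
import Cfsg.Agent.H18.S3338.Invol

set_option autoImplicit false
open Cfsg

namespace H61.U6M

open scoped Cfsg

/-- The configuration forces `H = ⊤` when `H` is strongly 3-embedded. -/
theorem Sit.eq_top {X : Type*} [Group X] [Finite X] {A H : Subgroup X} [IsMulCommutative A]
    (St : Sit A H) (hemb : ∀ e ∈ H, orderOf e = 3 → ∀ x : X, x * e * x⁻¹ ∈ H → x ∈ H) :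
    H = ⊤ := by
  obtain ⟨base, hcases⟩ := H18.U6M.invol_cases St
  have hclosed := H28.U6M.strong_closure A H St.elem St.eqH hemb (fun a ha => St.exists_three ha)
    (fun h => ∃ z ∈ H, z * base * z⁻¹ = h)
    (by
      intro h hh hA h2
      rcases hcases h hh hA h2 with h3 | ⟨hb, a0, ha0, a1, ha1, c0, c1, u0, u1, c, b0, b1, e0, e1,
        i0, i1⟩
      · exact Or.inl h3
      · refine Or.inr ⟨hb, a0, ha0, a1, ha1, c0, c1, u0, u1, fun z hz e => ?_⟩
        exact (St.twist c).not_conj i0 i1 z hz (by rw [e0, e1]; exact e))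
    (by
      rintro h h' ⟨z, -, rfl⟩ ⟨z', -, rfl⟩
      exact ⟨z' * z⁻¹, by group⟩)
  obtain ⟨E, hEH, hE, hE9⟩ := St.exists_E
  obtain ⟨hsmall, hbig⟩ := H28.U6M.small_big St (fun k hk h2 h1 => H18.U6M.invol_bound St hk h2 h1)
  refine H28.U6M.engine A H St.elem St.eqH hclosed St.faith E hEH hE hE9 ?_ hsmall hbig
  intro e he hne x hx
  haveI : Fact (Nat.Prime 3) := ⟨Nat.prime_three⟩
  refine hemb e (hEH he) (orderOf_eq_prime (hE.2 e he) hne) x ?_
  have hxe : x * e * x⁻¹ = e := by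
    rw [Subgroup.mem_centralizer_singleton_iff.1 hx, mul_inv_cancel_right]
  rw [hxe]; exact hEH he

end H61.U6M

namespace Cfsg.Agent.S3338

open H61.U6M

/-- Let X be a finite group with O_{2'}(X) = 1, and let A ≤ X be a subgroup of order 2^20 whose normalizer H = N_X(A) is a product H = AK with A ∩ K = 1, where K is isomorphic either to the unitary group U₆(2) or to a group having a normal subgroup of index 2 isomorphic to U₆(2) with trivial centralizer; suppose A is a minimal normal subgroup of H. Then H is not strongly 3-embedded in X: either H = X, or some conjugate of H by an element outside H meets H in a subgroup of order divisible by 3. -/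
theorem result {X : Type*} [Group X] [Finite X]
    (hO : Cfsg.oddCore X = ⊥) (A : Subgroup X) (hA : Nat.card A = 2 ^ 20)
    (H : Subgroup X) (hH : H = Subgroup.normalizer (A : Set X))
    (K : Subgroup X) (hKH : K ≤ H) (hAK : A ⊓ K = ⊥) (hHAK : A ⊔ K = H)
    (F : Type*) [Field F] [Fintype F] (hF : Fintype.card F = 4)
    (hK : Nonempty (K ≃* Cfsg.PSU 6 F 2) ∨
      ∃ K₀ : Subgroup K, K₀.Normal ∧ K₀.index = 2 ∧ Nonempty (K₀ ≃* Cfsg.PSU 6 F 2) ∧
        Subgroup.centralizer (K₀ : Set K) = ⊥)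
    (hmin : ∀ B : Subgroup X, B ≤ A → (∀ h ∈ H, ∀ b ∈ B, h * b * h⁻¹ ∈ B) → B = ⊥ ∨ B = A) :
    H = ⊤ ∨ ∃ g : X, g ∉ H ∧ 3 ∣ Nat.card ↥(H ⊓ H.map (MulAut.conj g).toMonoidHom) := by
  refine or_iff_not_imp_right.2 fun hno => ?_
  push Not at hno
  have hemb : ∀ e ∈ H, orderOf e = 3 → ∀ x : X, x * e * x⁻¹ ∈ H → x ∈ H := by
    intro e he h3 x hx
    by_contra hxH
    have hmem : x * e * x⁻¹ ∈ H ⊓ H.map (MulAut.conj x).toMonoidHom := ⟨hx, ⟨e, he, rfl⟩⟩
    refine hno x hxH ?_
    have := Subgroup.orderOf_dvd_natCard _ hmem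
    rwa [show orderOf (x * e * x⁻¹) = 3 by
      rw [← h3]; exact orderOf_injective (MulAut.conj x).toMonoidHom (MulAut.conj x).injective e] at this
  have hAH : A ≤ H := hH ▸ Subgroup.le_normalizer
  have hn : ∀ h ∈ H, ∀ a ∈ A, h * a * h⁻¹ ∈ A := fun h hh a ha => by
    rw [hH, Subgroup.mem_normalizer_iff] at hh
    exact (hh a).1 ha
  have hel := elementary_of_minimal hAH hn hA hmin
  obtain ⟨ι⟩ := exists_psu_equiv F hF
  have hsplit : ∀ h ∈ H, ∃ a ∈ A, ∃ k ∈ K, a * k = h := by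
    intro h hh
    have hnn : K ≤ Subgroup.normalizer (A : Set X) := hH ▸ hKH
    have hh' : h ∈ ((A ⊔ K : Subgroup X) : Set X) := by rw [hHAK]; exact hh
    rw [Subgroup.coe_mul_of_right_le_normalizer_left A K hnn] at hh'
    obtain ⟨a, ha, k, hk, e⟩ := hh'
    exact ⟨a, ha, k, hk, e⟩
  obtain ⟨η, hinj, hmem, hnorm, hsmall, k1, hk1, hc, hsq⟩ :
      ∃ η : Cfsg.PSU 6 H61.U6M.K 2 →* X, Function.Injective η ∧ (∀ p, η p ∈ K) ∧
        (∀ k ∈ K, ∀ p, k * η p * k⁻¹ ∈ η.range) ∧
        (∀ k ∈ K, (∀ p, k * η p = η p * k) → k = 1) ∧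
        ∃ k1 ∈ K, (∀ k ∈ K, k ∈ η.range ∨ k1⁻¹ * k ∈ η.range) ∧
          ∀ k ∈ K, k * k ∈ η.range := by
    rcases hK with ⟨⟨e⟩⟩ | ⟨K₀, hK₀, hidx, ⟨e⟩, hcen⟩
    · refine ⟨K.subtype.comp (ι.trans e.symm).toMonoidHom,
        K.subtype_injective.comp (ι.trans e.symm).injective, fun p => (e.symm (ι p)).2, ?_, ?_, 1,
        one_mem _, ?_, ?_⟩
      · intro k hk p
        exact ⟨ι.symm (e (⟨k, hk⟩ * e.symm (ι p) * ⟨k, hk⟩⁻¹)), by simp⟩
      · intro k hk h
        have hz : (ι.trans e.symm).symm ⟨k, hk⟩ ∈ Subgroup.center (Cfsg.PSU 6 H61.U6M.K 2) := by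
          refine Subgroup.mem_center_iff.2 fun p => (ι.trans e.symm).injective ?_
          rw [map_mul, map_mul, MulEquiv.apply_symm_apply]
          exact Subtype.ext (h p).symm
        rw [psu_center, Subgroup.mem_bot] at hz
        have := congrArg (ι.trans e.symm) hz
        rw [MulEquiv.apply_symm_apply, map_one] at this
        exact congrArg Subtype.val this
      · intro k hk
        exact Or.inl ⟨ι.symm (e ⟨k, hk⟩), by simp⟩
      · intro k hk
        exact ⟨ι.symm (e (⟨k, hk⟩ * ⟨k, hk⟩)), by simp⟩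
    · haveI := hK₀
      set f := (K.subtype.comp K₀.subtype).comp (ι.trans e.symm).toMonoidHom with hf
      have hr : ∀ x : K, x ∈ K₀ → (x : X) ∈ f.range := fun x hx =>
        ⟨ι.symm (e ⟨x, hx⟩), by simp [hf]⟩
      obtain ⟨k1, hk1⟩ : ∃ k1 : K, k1 ∉ K₀ := by
        by_contra hall
        push Not at hall
        rw [(Subgroup.eq_top_iff' K₀).2 hall, Subgroup.index_top] at hidx
        norm_num at hidx
      refine ⟨f, (K.subtype_injective.comp K₀.subtype_injective).comp (ι.trans e.symm).injective,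
        fun p => ((e.symm (ι p) : K₀) : K).2, ?_, ?_, k1, k1.2, ?_, ?_⟩
      · intro k hk p
        exact hr (⟨k, hk⟩ * ((e.symm (ι p) : K₀) : K) * ⟨k, hk⟩⁻¹) (hK₀.conj_mem _ (e.symm (ι p)).2 _)
      · intro k hk h
        have hz : (⟨k, hk⟩ : K) ∈ Subgroup.centralizer (K₀ : Set K) := by
          refine Subgroup.mem_centralizer_iff.2 fun x hx => Subtype.ext ?_
          obtain ⟨p, hp⟩ := hr x hx
          show (x : X) * k = k * (x : X)
          rw [← hp]; exact (h p).symm
        rw [hcen, Subgroup.mem_bot] at hz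
        exact congrArg Subtype.val hz
      · intro k hk
        by_cases hk0 : (⟨k, hk⟩ : K) ∈ K₀
        · exact Or.inl (hr _ hk0)
        · refine Or.inr (hr (k1⁻¹ * ⟨k, hk⟩) ?_)
          rw [Subgroup.mul_mem_iff_of_index_two hidx, inv_mem_iff]
          exact ⟨fun h => absurd h hk1, fun h => absurd h hk0⟩
      · intro k hk
        exact hr (⟨k, hk⟩ * ⟨k, hk⟩) (Subgroup.mul_self_mem_of_index_two hidx _)
  haveI := hel.1
  refine Sit.eq_top (A := A)
    { L := K, η := η, elem := hel, eqH := hH, cardA := hA, le_H := hKH, meet := hAK, join := hHAK,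
      inj := hinj, mem := hmem, norm := hnorm, sq := hsq, small := hsmall,
      faith := faith_of_min η hmem hKH hn hel hsplit k1 hk1 hc (hsq k1 hk1) hnorm hinj hsmall hA hmin }
    hemb

end Cfsg.Agent.S3338
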