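import Cfsg.Statements.S3349
import Mathlib

set_option autoImplicit false
open Cfsg
open scoped commutatorElement
open scoped Pointwise

namespace Cfsg.Agent.S3349

/-- Let Q be a finite extraspecial p-group and α an automorphism of Q fixing every element of some maximal abelian subgroup of Q. Then the order of α is a power of p. -/
theorem result {Q : Type*} [Group Q] [Finite Q]
    (p : ℕ) [Fact p.Prime] (hQ : Cfsg.IsExtraspecial p Q) (α : MulAut Q)
    (A : Subgroup Q) (hA : IsMulCommutative A) (hmax : ∀ B : Subgroup Q, A ≤ B → IsMulCommutative B → B = A)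
    (hfix : ∀ a ∈ A, α a = a) :
    ∃ k : ℕ, orderOf α = p ^ k := by
  classical
  obtain ⟨⟨hp, -, hcomm⟩, -⟩ := hQ
  have hcent : ∀ x : Q, (∀ a ∈ A, a * x = x * a) → x ∈ A := by
    intro x hx
    have hB := hmax (Subgroup.closure (insert x (A : Set Q))) (fun a ha => Subgroup.subset_closure (Set.mem_insert_of_mem _ ha))
      (Subgroup.isMulCommutative_closure (by
        intro u hu v hv
        rcases hu with rfl | hu <;> rcases hv with rfl | hv
        · rfl
        · exact (hx v hv).symm
        · exact hx u hu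
        · exact setLike_mul_comm hu hv))
    rw [← hB]
    exact Subgroup.subset_closure (Set.mem_insert _ _)
  have hzA : Subgroup.center Q ≤ A := fun z hz => hcent z fun a _ => Subgroup.mem_center_iff.1 hz a
  have hnorm : ∀ g : Q, ∀ a ∈ A, g * a * g⁻¹ ∈ A := by
    intro g a ha
    have h1 : ⁅g, a⁆ ∈ A := hzA (hcomm ▸ Subgroup.commutator_mem_commutator (Subgroup.mem_top g) (Subgroup.mem_top a))
    have h2 := A.mul_mem h1 ha
    rwa [commutatorElement_def, inv_mul_cancel_right] at h2
  have hx : ∀ g : Q, g⁻¹ * α g ∈ A := by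
    intro g
    refine hcent _ fun a ha => ?_
    have h := hfix _ (hnorm g a ha)
    rw [map_mul, map_mul, hfix a ha, map_inv] at h
    rw [mul_inv_eq_iff_eq_mul] at h
    rw [mul_assoc, h]
    group
  have hiter : ∀ (k : ℕ) (g : Q), (α ^ k) g = g * (g⁻¹ * α g) ^ k := by
    intro k
    induction k with
    | zero => intro g; simp
    | succ k ih =>
      intro g
      have hc : (α ^ k) (g⁻¹ * α g) = g⁻¹ * α g := by
        clear ih
        induction k with
        | zero => simp
        | succ k ih2 => rw [pow_succ', MulAut.mul_apply, ih2, hfix _ (hx g)]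
      calc (α ^ (k + 1)) g = (α ^ k) (g * (g⁻¹ * α g)) := by rw [pow_succ, MulAut.mul_apply, mul_inv_cancel_left]
        _ = g * (g⁻¹ * α g) ^ (k + 1) := by rw [map_mul, ih, hc, mul_assoc, ← pow_succ]
  obtain ⟨N, hN⟩ := IsPGroup.iff_card.1 hp
  have hone : α ^ (p ^ N) = 1 := by
    ext g
    rw [hiter, MulAut.one_apply, ← hN, pow_card_eq_one', mul_one]
  obtain ⟨k, -, hk⟩ := (Nat.dvd_prime_pow Fact.out).1 (orderOf_dvd_of_pow_eq_one hone)
  exact ⟨k, hk⟩

end Cfsg.Agent.S3349
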