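import Cfsg.Statements.S3356
import Mathlib

set_option autoImplicit false
open Cfsg
open scoped Pointwise

namespace Cfsg.Agent.S3356

/-- In a half-transitive action a block whose size is coprime to the orbit length is fixed pointwise. -/
theorem fix_block {H X : Type*} [Group H] [Finite H] [MulAction H X] [Finite X] (S : Set X) {c k : ℕ}
    (hk : c * k = Nat.card H) (hc : ∀ x ∈ S, Nat.card (MulAction.stabilizer H x) = c)
    (hco : k.Coprime S.ncard) (hblk : ∀ (h : H), ∀ x ∈ S, h • x = x → ∀ y ∈ S, h • y ∈ S) :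
    ∀ x ∈ S, ∀ y ∈ S, MulAction.stabilizer H x ≤ MulAction.stabilizer H y := by
  classical
  intro x hx y hy h hh
  haveI := Fintype.ofFinite X
  set H1 := MulAction.stabilizer H S with hH1
  have hle : ∀ z ∈ S, MulAction.stabilizer H z ≤ H1 := by
    intro z hz g hg
    rw [hH1, MulAction.mem_stabilizer_iff]
    refine Set.eq_of_subset_of_ncard_le (fun w hw => ?_) (by rw [Set.ncard_smul_set]) (Set.toFinite _)
    obtain ⟨v, hv, rfl⟩ := hw
    exact hblk g z hz hg v hv
  have horb : ∀ z ∈ S, Nat.card (MulAction.orbit H1 z) * c = Nat.card H1 := by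
    intro z hz
    have e : MulAction.stabilizer H1 z = (MulAction.stabilizer H z).subgroupOf H1 := by
      ext g; simp [Subgroup.mem_subgroupOf, Subgroup.smul_def]
    have h1 := Subgroup.index_mul_card (MulAction.stabilizer H1 z)
    rw [MulAction.index_stabilizer, ← Nat.card_coe_set_eq, e,
      Nat.card_congr (Subgroup.subgroupOfEquivOfLe (hle z hz)).toEquiv, hc z hz] at h1
    exact h1
  have hcpos : 0 < c := hc x hx ▸ Nat.card_pos
  set j := Nat.card (MulAction.orbit H1 x) with hj
  have hjk : j ∣ k := by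
    have := Subgroup.card_subgroup_dvd_card H1
    rw [← horb x hx, ← hk, mul_comm c] at this
    exact Nat.dvd_of_mul_dvd_mul_right hcpos this
  have hdvd : j ∣ S.ncard := by
    rw [Set.ncard_eq_toFinset_card' S, Finset.card_eq_sum_card_image (fun z => MulAction.orbit H1 z) S.toFinset]
    refine Finset.dvd_sum fun o ho => ?_
    obtain ⟨z, hz, rfl⟩ := Finset.mem_image.1 ho
    rw [Set.mem_toFinset] at hz
    have : j = Nat.card (MulAction.orbit H1 z) :=
      Nat.eq_of_mul_eq_mul_right hcpos ((horb x hx).trans (horb z hz).symm)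
    rw [this, Nat.card_eq_card_toFinset]
    refine dvd_of_eq (congrArg Finset.card ?_)
    ext w
    simp only [Set.mem_toFinset, Finset.mem_filter]
    constructor
    · intro hw
      refine ⟨?_, MulAction.orbit_eq_iff.2 hw⟩
      obtain ⟨g, rfl⟩ := hw
      have hg : (g : H) • S = S := g.2
      rw [← hg]
      exact Set.smul_mem_smul_set hz
    · exact fun e => MulAction.orbit_eq_iff.1 e.2
  have hj1 : j = 1 := Nat.eq_one_of_dvd_coprimes hco hjk hdvd
  have hy' : Nat.card (MulAction.orbit H1 y) = 1 :=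
    Nat.eq_of_mul_eq_mul_right hcpos (((horb y hy).trans (horb x hx).symm).trans (by rw [← hj, hj1]))
  have hsub := (Nat.card_eq_one_iff_unique.1 hy').1
  exact congrArg Subtype.val (hsub.elim ⟨h • y, ⟨⟨h, hle x hx hh⟩, rfl⟩⟩ ⟨y, MulAction.mem_orbit_self y⟩)

theorem result {G Ω : Type*} [Group G] [Finite G]
    [MulAction G Ω] [FaithfulSMul G Ω] [Finite Ω] (htrans : MulAction.IsPretransitive G Ω)
    (hne : ∀ a : Ω, MulAction.stabilizer G a ≠ ⊥)
    (hhalf : ∀ a b c : Ω, b ≠ a → c ≠ a →
      Nat.card (MulAction.orbit (MulAction.stabilizer G a) b) = Nat.card (MulAction.orbit (MulAction.stabilizer G a) c))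
    (N : Subgroup G) [hN : N.Normal] (hNt : MulAction.IsPretransitive N Ω) (hNr : ∀ a : Ω, MulAction.stabilizer N a = ⊥)
    (hnotF : ∃ a b : Ω, a ≠ b ∧ MulAction.stabilizer G a ⊓ MulAction.stabilizer G b ≠ ⊥) :
    (∃ p : ℕ, p.Prime ∧ IsMulCommutative N ∧ ∀ x ∈ N, x ^ p = 1) ∧
    (∀ M : Subgroup G, M.Normal → M ≠ ⊥ → N ≤ M) := by
  classical
  haveI := hNt
  haveI := Fintype.ofFinite N
  obtain ⟨a, b, hab, hab'⟩ := hnotF
  set H := MulAction.stabilizer G a with hH
  letI act : MulAction H N := MulAction.compHom N ((MulAut.conjNormal (H := N)).comp H.subtype)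
  have hcoe : ∀ (h : H) (x : N), ((h • x : N) : G) = (h : G) * x * (h : G)⁻¹ := fun h x =>
    MulAut.conjNormal_apply (h : G) x
  have hinj : ∀ x y : N, (x : G) • a = (y : G) • a → x = y := by
    intro x y e
    have : y⁻¹ * x ∈ MulAction.stabilizer N a := by
      rw [MulAction.mem_stabilizer_iff, mul_smul]
      exact inv_smul_eq_iff.2 e
    rw [hNr a, Subgroup.mem_bot, inv_mul_eq_one] at this
    exact this.symm
  have hequiv : ∀ (h : H) (x : N), ((h • x : N) : G) • a = (h : G) • (x : G) • a := by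
    intro h x
    rw [hcoe, mul_smul, mul_smul, inv_smul_eq_iff.2 h.2.symm]
  have hne_a : ∀ x : N, x ≠ 1 → (x : G) • a ≠ a := fun x hx e => hx (hinj x 1 (by rw [e]; simp))
  have hstab : ∀ x : N, MulAction.stabilizer H x = MulAction.stabilizer H ((x : G) • a) := by
    intro x
    ext h
    simp only [MulAction.mem_stabilizer_iff]
    constructor
    · intro e
      rw [Subgroup.smul_def, ← hequiv, e]
    · intro e
      exact hinj _ _ (by rw [hequiv]; exact e)
  -- all stabilisers have the same order `c`, the orbits length `k`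
  obtain ⟨nb, hnb⟩ := hNt.exists_smul_eq a b
  have hnb1 : nb ≠ 1 := fun e => hab (by rw [← hnb, e, one_smul])
  set k := Nat.card (MulAction.orbit H b) with hk
  set c := Nat.card (MulAction.stabilizer H nb) with hc0
  have hos : ∀ x : N, x ≠ 1 → k * Nat.card (MulAction.stabilizer H x) = Nat.card H := by
    intro x hx
    rw [hstab, hk, hhalf a b ((x : G) • a) (Ne.symm hab) (hne_a x hx), Nat.card_coe_set_eq,
      ← MulAction.index_stabilizer, Subgroup.index_mul_card]
  have hkpos : 0 < k := by
    haveI : Nonempty (MulAction.orbit H b) := ⟨⟨b, MulAction.mem_orbit_self b⟩⟩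
    exact Nat.card_pos
  have hc : ∀ x : N, x ≠ 1 → Nat.card (MulAction.stabilizer H x) = c := fun x hx =>
    Nat.eq_of_mul_eq_mul_left hkpos ((hos x hx).trans (hos nb hnb1).symm)
  have hck : c * k = Nat.card H := by rw [mul_comm]; exact hos nb hnb1
  have hcpos : 0 < c := Nat.card_pos
  -- k divides |N| - 1
  have hkN : k ∣ Nat.card N - 1 := by
    rw [Nat.card_eq_fintype_card, ← Finset.card_univ, ← Finset.card_erase_of_mem (Finset.mem_univ (1 : N)),
      Finset.card_eq_sum_card_image (fun z => MulAction.orbit H z) ((Finset.univ : Finset N).erase 1)]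
    refine Finset.dvd_sum fun o ho => ?_
    obtain ⟨z, hz, rfl⟩ := Finset.mem_image.1 ho
    rw [Finset.mem_erase] at hz
    have : k = Nat.card (MulAction.orbit H z) := by
      have h1 := Subgroup.index_mul_card (MulAction.stabilizer H z)
      rw [MulAction.index_stabilizer, ← Nat.card_coe_set_eq, hc z hz.1] at h1
      exact Nat.eq_of_mul_eq_mul_right hcpos ((by rw [mul_comm]; exact hck : k * c = Nat.card H).trans h1.symm)
    rw [this, Nat.card_eq_card_toFinset]
    refine dvd_of_eq (congrArg Finset.card ?_)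
    ext w
    simp only [Set.mem_toFinset, Finset.mem_filter, Finset.mem_erase, Finset.mem_univ, and_true]
    constructor
    · intro hw
      refine ⟨?_, MulAction.orbit_eq_iff.2 hw⟩
      obtain ⟨g, rfl⟩ := hw
      intro e
      apply hz.1
      have e2 := congrArg (g⁻¹ • ·) e
      simp only [inv_smul_smul] at e2
      rw [e2]
      exact Subtype.ext (by rw [hcoe]; simp)
    · exact fun e => MulAction.orbit_eq_iff.1 e.2
  have hcop : k.Coprime (Nat.card N) := by
    have hd : Nat.gcd k (Nat.card N) ∣ 1 := by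
      have h1 : Nat.gcd k (Nat.card N) ∣ Nat.card N - 1 := (Nat.gcd_dvd_left _ _).trans hkN
      have h2 := Nat.dvd_sub (Nat.gcd_dvd_right k (Nat.card N)) h1
      rwa [show Nat.card N - (Nat.card N - 1) = 1 by have := Nat.card_pos (α := N); omega] at h2
    exact Nat.dvd_one.1 hd
  have hmul : ∀ (h : H) (x y : N), h • (x * y) = (h • x) * (h • y) := fun h x y =>
    map_mul (MulAut.conjNormal (h : G)) x y
  have hone : ∀ h : H, h • (1 : N) = 1 := fun h => map_one (MulAut.conjNormal (h : G))
  have hfaith : ∀ h : H, (∀ x : N, h • x = x) → h = 1 := by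
    intro h hh
    apply Subtype.ext
    apply FaithfulSMul.eq_of_smul_eq_smul (α := Ω)
    intro z
    obtain ⟨x, hx⟩ := hNt.exists_smul_eq a z
    rw [← hx, Subgroup.coe_one, one_smul]
    show (h : G) • (x : G) • a = (x : G) • a
    rw [← hequiv, hh x]
  have hnotsr : ∀ x : N, x ≠ 1 → MulAction.stabilizer H x ≠ ⊥ := by
    intro x hx e
    apply hab'
    have h1 := hc x hx
    rw [e, Subgroup.card_bot] at h1
    have h2 : MulAction.stabilizer H nb = ⊥ := Subgroup.eq_bot_of_card_eq _ h1.symm
    rw [Subgroup.eq_bot_iff_forall]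
    intro g hg
    have : (⟨g, hg.1⟩ : H) ∈ MulAction.stabilizer H nb := by
      rw [hstab nb, MulAction.mem_stabilizer_iff, show (nb : G) • a = b from hnb]
      exact hg.2
    rw [h2, Subgroup.mem_bot] at this
    exact congrArg Subtype.val this
  -- invariant subgroups are trivial
  have hirr : ∀ M : Subgroup N, (∀ h : H, ∀ x ∈ M, h • x ∈ M) → M = ⊥ ∨ M = ⊤ := by
    intro M hM
    by_contra! hcon
    obtain ⟨hMb, hMt⟩ := hcon
    obtain ⟨y, hy⟩ : ∃ y : N, y ∉ M := by
      by_contra! hall; exact hMt ((Subgroup.eq_top_iff' M).2 hall)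
    obtain ⟨⟨z, hz⟩, hz1⟩ := (Subgroup.ne_bot_iff_exists_ne_one).1 hMb
    have hz1' : z ≠ 1 := fun e => hz1 (Subtype.ext e)
    have hkey : ∀ y : N, y ∉ M → ∀ w ∈ M, MulAction.stabilizer H y ≤ MulAction.stabilizer H w := by
      intro y hy w hw h hh
      have hS1 : ∀ u ∈ y • (M : Set N), u ≠ 1 := by
        rintro _ ⟨m, hm, rfl⟩ e
        change y * m = 1 at e
        rw [mul_eq_one_iff_eq_inv] at e
        exact hy (e ▸ M.inv_mem hm)
      have hn : (y • (M : Set N)).ncard ∣ Nat.card N := by
        rw [Set.ncard_smul_set, ← Nat.card_coe_set_eq]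
        exact Subgroup.card_subgroup_dvd_card M
      have hy' : y ∈ y • (M : Set N) := ⟨1, M.one_mem, mul_one y⟩
      have hyw : y * w ∈ y • (M : Set N) := ⟨w, hw, rfl⟩
      have := fix_block (y • (M : Set N)) hck (fun u hu => hc u (hS1 u hu)) (hcop.coprime_dvd_right hn) (by
        rintro g _ ⟨m, hm, rfl⟩ hfix _ ⟨m', hm', rfl⟩
        simp only [smul_eq_mul] at hfix ⊢
        rw [hmul] at hfix ⊢
        refine ⟨m * (g • m)⁻¹ * (g • m'), M.mul_mem (M.mul_mem hm (M.inv_mem (hM g m hm))) (hM g m' hm'), ?_⟩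
        show y * (m * (g • m)⁻¹ * (g • m')) = _
        rw [← mul_assoc, ← mul_assoc, ← hfix, mul_inv_cancel_right]) y hy' (y * w) hyw hh
      rw [MulAction.mem_stabilizer_iff, hmul, hh] at this
      exact mul_left_cancel this
    have heq : MulAction.stabilizer H y = MulAction.stabilizer H z :=
      Subgroup.eq_of_le_of_card_ge (hkey y hy z hz) (le_of_eq (by rw [hc z hz1', hc y (fun e => hy (e ▸ M.one_mem))]))
    obtain ⟨⟨g, hg⟩, hg1⟩ := (Subgroup.ne_bot_iff_exists_ne_one).1 (hnotsr y (fun e => hy (e ▸ M.one_mem)))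
    apply hg1
    refine Subtype.ext (hfaith g fun u => ?_)
    by_cases hu : u ∈ M
    · exact hkey y hy u hu hg
    · have hu2 : MulAction.stabilizer H u = MulAction.stabilizer H z :=
        Subgroup.eq_of_le_of_card_ge (hkey u hu z hz) (le_of_eq (by rw [hc z hz1', hc u (fun e => hu (e ▸ M.one_mem))]))
      have : g ∈ MulAction.stabilizer H u := hu2 ▸ heq ▸ hg
      exact this
  -- conjugate elements have the same stabiliser
  have hclass : ∀ g x : N, x ≠ 1 → MulAction.stabilizer H x ≤ MulAction.stabilizer H (g * x * g⁻¹) := by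
    intro g x hx
    set S : Set N := Set.range (fun g : N => g * x * g⁻¹) with hS
    have hS' : S = MulAction.orbit (ConjAct N) x := by
      ext u
      simp only [hS, Set.mem_range, MulAction.mem_orbit_iff]
      exact ⟨fun ⟨g, hg⟩ => ⟨ConjAct.toConjAct g, by rw [ConjAct.toConjAct_smul]; exact hg⟩,
        fun ⟨g, hg⟩ => ⟨ConjAct.ofConjAct g, by rw [← hg, ConjAct.smul_def]⟩⟩
    have hn : S.ncard ∣ Nat.card N := by
      rw [hS', ← MulAction.index_stabilizer]
      exact (Subgroup.index_dvd_card _).trans (dvd_of_eq (Nat.card_congr ConjAct.ofConjAct.toEquiv))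
    refine fix_block S hck ?_ (hcop.coprime_dvd_right hn) ?_ x ⟨1, by simp⟩ _ ⟨g, rfl⟩
    · rintro _ ⟨g', rfl⟩
      exact hc _ fun e => hx (conj_eq_one_iff.1 e)
    · rintro h _ ⟨g₁, rfl⟩ hfix _ ⟨g₂, rfl⟩
      have hinv : ∀ u : N, h • u⁻¹ = (h • u)⁻¹ := fun u => map_inv (MulAut.conjNormal (h : G)) u
      simp only at hfix ⊢
      rw [hmul, hmul, hinv] at hfix
      have hx2 : h • x = (h • g₁)⁻¹ * (g₁ * x * g₁⁻¹) * (h • g₁) := by rw [← hfix]; group
      refine ⟨(h • g₂) * (h • g₁)⁻¹ * g₁, ?_⟩
      simp only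
      rw [hmul, hmul, hinv, hx2]
      group
  -- components
  have hcomm : ∀ x y : N, x * y = y * x := by
    let NK : N → Subgroup N := fun x =>
      { carrier := {u | MulAction.stabilizer H x ≤ MulAction.stabilizer H u}
        one_mem' := fun h _ => hone h
        mul_mem' := fun {u v} hu hv h hh => by
          show h • (u * v) = u * v
          rw [hmul, show h • u = u from hu hh, show h • v = v from hv hh]
        inv_mem' := fun {u} hu h hh => by
          show h • u⁻¹ = u⁻¹
          have := map_inv (MulAut.conjNormal (h : G)) u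
          change h • u⁻¹ = (h • u)⁻¹ at this
          rw [this, show h • u = u from hu hh] }
    have hmemNK : ∀ x u : N, u ∈ NK x ↔ MulAction.stabilizer H x ≤ MulAction.stabilizer H u := fun x u => Iff.rfl
    have hnorm : ∀ x : N, x ≠ 1 → (NK x).Normal := by
      intro x hx
      refine ⟨fun u hu g => ?_⟩
      rw [hmemNK] at hu ⊢
      by_cases hu1 : u = 1
      · rw [hu1, mul_one, mul_inv_cancel]
        intro h _
        exact hone h
      exact hu.trans (hclass g u hu1)
    have hsame : ∀ x u : N, x ≠ 1 → u ≠ 1 → u ∈ NK x → MulAction.stabilizer H u = MulAction.stabilizer H x := fun x u hx hu hm =>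
      (Subgroup.eq_of_le_of_card_ge ((hmemNK x u).1 hm) (le_of_eq (by rw [hc u hu, hc x hx]))).symm
    have hdiff : ∀ x u : N, x ≠ 1 → u ≠ 1 → MulAction.stabilizer H u ≠ MulAction.stabilizer H x → x * u = u * x := by
      intro x u hx hu hne'
      have hdis : Disjoint (NK x) (NK u) := by
        rw [Subgroup.disjoint_def]
        intro v h1 h2
        by_contra hv
        exact hne' ((hsame u v hu hv h2).symm.trans (hsame x v hx hv h1))
      exact Subgroup.commute_of_normal_of_disjoint _ _ (hnorm x hx) (hnorm u hu) hdis x u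
        ((hmemNK x x).2 le_rfl) ((hmemNK u u).2 le_rfl)
    intro x y
    by_cases hx : x = 1
    · rw [hx]; simp
    by_cases hy : y = 1
    · rw [hy]; simp
    by_cases hxy : MulAction.stabilizer H y = MulAction.stabilizer H x
    swap
    · exact hdiff x y hx hy hxy
    obtain ⟨w, hw⟩ : ∃ w : N, w ∉ NK x := by
      by_contra! hall
      obtain ⟨⟨g, hg⟩, hg1⟩ := (Subgroup.ne_bot_iff_exists_ne_one).1 (hnotsr x hx)
      exact hg1 (Subtype.ext (hfaith g fun u => (hmemNK x u).1 (hall u) hg))
    have hw1 : w ≠ 1 := fun e => hw (e ▸ (NK x).one_mem)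
    have hwne : ∀ v : N, v ∉ NK x → v * x = x * v ∧ v * y = y * v := by
      intro v hv
      have hv1 : v ≠ 1 := fun e => hv (e ▸ (NK x).one_mem)
      have hne2 : MulAction.stabilizer H v ≠ MulAction.stabilizer H x := fun e => hv ((hmemNK x v).2 e.ge)
      exact ⟨(hdiff x v hx hv1 hne2).symm, (hdiff y v hy hv1 (hxy ▸ hne2)).symm⟩
    have hwx : w * x ∉ NK x := fun hm => hw (by
      have := (NK x).mul_mem hm ((NK x).inv_mem ((hmemNK x x).2 le_rfl))
      rwa [mul_inv_cancel_right] at this)
    have h1 := (hwne w hw).2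
    have h2 := (hwne _ hwx).2
    rw [← mul_assoc y w x, ← h1, mul_assoc, mul_assoc] at h2
    exact mul_left_cancel h2
  haveI hNc : IsMulCommutative N := ⟨⟨hcomm⟩⟩
  haveI : Nontrivial N := ⟨⟨nb, 1, hnb1⟩⟩
  obtain ⟨p, hp, hpd⟩ := Nat.exists_prime_and_dvd (Finite.one_lt_card (α := N)).ne'
  haveI := Fact.mk hp
  let Ωp : Subgroup N :=
    { carrier := {u | u ^ p = 1}
      one_mem' := one_pow p
      mul_mem' := fun {u v} hu hv => by
        show (u * v) ^ p = 1
        have hC : Commute u v := hcomm u v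
        rw [hC.mul_pow, show u ^ p = 1 from hu, show v ^ p = 1 from hv, one_mul]
      inv_mem' := fun {u} hu => by
        show u⁻¹ ^ p = 1
        rw [inv_pow, show u ^ p = 1 from hu, inv_one] }
  have hpow : ∀ x : N, x ^ p = 1 := by
    rcases hirr Ωp (fun h x hx => by
      show (h • x) ^ p = 1
      have := map_pow (MulAut.conjNormal (h : G)) x p
      change h • x ^ p = (h • x) ^ p at this
      rw [← this, show x ^ p = 1 from hx, hone]) with h | h
    · exfalso
      obtain ⟨u, hu⟩ := exists_prime_orderOf_dvd_card' p hpd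
      have hm : u ∈ Ωp := show u ^ p = 1 from hu ▸ pow_orderOf_eq_one u
      rw [h, Subgroup.mem_bot] at hm
      rw [hm, orderOf_one] at hu
      exact hp.one_lt.ne hu
    · intro x
      exact (h ▸ Subgroup.mem_top x : x ∈ Ωp)
  refine ⟨⟨p, hp, hNc, fun x hx => congrArg Subtype.val (hpow ⟨x, hx⟩)⟩, ?_⟩
  intro M hMn hMb
  rcases hirr (M.subgroupOf N) (fun h x hx => by
    rw [Subgroup.mem_subgroupOf, hcoe]
    exact hMn.conj_mem _ hx _) with h | h
  · exfalso
    apply hMb
    have hd : Disjoint M N := Subgroup.subgroupOf_eq_bot.1 h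
    rw [Subgroup.eq_bot_iff_forall]
    intro m hm
    have hc' : ∀ x : N, m * x = x * m := fun x => Subgroup.commute_of_normal_of_disjoint M N hMn hN hd m x hm x.2
    obtain ⟨u, hu⟩ := hNt.exists_smul_eq a (m • a)
    have hmu : m = (u : G) := by
      apply FaithfulSMul.eq_of_smul_eq_smul (α := Ω)
      intro z
      obtain ⟨x, rfl⟩ := hNt.exists_smul_eq a z
      show m • (x : G) • a = (u : G) • (x : G) • a
      rw [← mul_smul, hc', mul_smul, ← show (u : G) • a = m • a from hu, ← mul_smul, ← mul_smul]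
      exact congrArg (· • a) (congrArg Subtype.val (hcomm x u))
    exact Subgroup.disjoint_def.1 hd hm (hmu ▸ u.2)
  · exact Subgroup.subgroupOf_eq_top.1 h

end Cfsg.Agent.S3356
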