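import Cfsg.Statements.S3357
import Cfsg.Agent.H28.FCBasic

set_option autoImplicit false
open Cfsg

namespace Cfsg.Agent.S3357

/-- Let G be a finite group that occurs as a Frobenius complement. Then G has a faithful irreducible representation over an algebraic closure of the rationals in which no non-identity element of G has 1 as an eigenvalue: there are n ≥ 1 and an injective homomorphism ρ from G to GL(n) over that field, with no invariant subspace other than 0 and the whole space, such that for g ≠ 1 the only vector fixed by ρ(g) is 0. -/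
theorem result {G : Type*} [Group G] [Finite G]
    (hFC : ∃ (L : Type) (_ : Group L) (_ : Finite L) (H : Subgroup L), Cfsg.IsFrobeniusComplement H ∧ Nonempty (G ≃* H)) :
    ∃ (n : ℕ) (ρ : G →* GL (Fin n) (AlgebraicClosure ℚ)), 0 < n ∧ Function.Injective ρ ∧
      (∀ W : Submodule (AlgebraicClosure ℚ) (Fin n → AlgebraicClosure ℚ),
        (∀ g : G, ∀ w ∈ W, ((ρ g : GL (Fin n) (AlgebraicClosure ℚ)) : Matrix (Fin n) (Fin n) (AlgebraicClosure ℚ)).mulVec w ∈ W) → W = ⊥ ∨ W = ⊤) ∧
      ∀ g : G, g ≠ 1 → ∀ v : Fin n → AlgebraicClosure ℚ,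
        ((ρ g : GL (Fin n) (AlgebraicClosure ℚ)) : Matrix (Fin n) (Fin n) (AlgebraicClosure ℚ)).mulVec v = v → v = 0 := by
  classical
  obtain ⟨L, _, _, H, hH, ⟨e⟩⟩ := hFC
  obtain ⟨f, hf, hs⟩ := H28.fcInt_congr e.symm (H28.fcInt_of_isFC hH)
  haveI := Fintype.ofFinite G
  -- the space of solutions over the algebraic closure
  let W : Submodule (AlgebraicClosure ℚ) (G → AlgebraicClosure ℚ) :=
    { carrier := {v | H28.FCSol v}
      zero_mem' := fun h x _ => by simp
      add_mem' := fun {a b} ha hb h x hp => by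
        simp only [Pi.add_apply, Finset.sum_add_distrib, ha h x hp, hb h x hp, add_zero]
      smul_mem' := fun c a ha h x hp => by
        simp only [Pi.smul_apply, smul_eq_mul, ← Finset.mul_sum, ha h x hp, mul_zero] }
  let τ : G →* Module.End (AlgebraicClosure ℚ) (G → AlgebraicClosure ℚ) :=
    { toFun := fun g => LinearMap.funLeft (AlgebraicClosure ℚ) (AlgebraicClosure ℚ) (fun x => g⁻¹ * x)
      map_one' := by
        refine LinearMap.ext fun v => funext fun x => ?_
        simp [LinearMap.funLeft_apply]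
      map_mul' := fun a b => by
        refine LinearMap.ext fun v => funext fun x => ?_
        simp [LinearMap.funLeft_apply, mul_assoc] }
  have hτ : ∀ g v x, τ g v x = v (g⁻¹ * x) := fun g v x => rfl
  have hτW : ∀ g, ∀ v ∈ W, τ g v ∈ W := fun g v hv h x hp => by
    simp only [hτ, ← mul_assoc]
    exact hv h (g⁻¹ * x) hp
  have hWne : W ≠ ⊥ := by
    intro h
    apply hf
    funext x
    have hmem : (fun y => (f y : AlgebraicClosure ℚ)) ∈ W := fun h y hp => by
      rw [← Int.cast_sum, hs h y hp, Int.cast_zero]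
    rw [h, Submodule.mem_bot] at hmem
    simpa using congrFun hmem x
  -- fixed-point-freeness
  have hfpf : ∀ g : G, g ≠ 1 → ∀ v ∈ W, τ g v = v → v = 0 := by
    intro g hg v hv hgv
    have hconst : ∀ y, v (g * y) = v y := fun y => by
      conv_lhs => rw [← hgv]
      rw [hτ, inv_mul_cancel_left]
    have hconst' : ∀ (n : ℕ) y, v (g ^ n * y) = v y := by
      intro n
      induction n with
      | zero => simp
      | succ n ih => intro y; rw [pow_succ', mul_assoc, hconst, ih]
    obtain ⟨q, hq, hqd⟩ := Nat.exists_prime_and_dvd (mt orderOf_eq_one_iff.mp hg)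
    set k := g ^ (orderOf g / q) with hk
    have hko : orderOf k = q := orderOf_pow_orderOf_div (orderOf_pos g).ne' hqd
    funext x
    have hconj : x⁻¹ * k * x = MulAut.conj x⁻¹ k := by simp
    have hord : orderOf (x⁻¹ * k * x) = q := by rw [hconj, MulEquiv.orderOf_eq, hko]
    have h1 := hv (x⁻¹ * k * x) x (by rw [hord]; exact hq)
    have h2 : ∀ i, v (x * (x⁻¹ * k * x) ^ i) = v x := fun i => by
      have h3 : x * (x⁻¹ * k * x) ^ i = k ^ i * x := by
        rw [hconj, ← map_pow]; simp [← mul_assoc]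
      rw [h3, hk, ← pow_mul, hconst']
    rw [hord, Finset.sum_congr rfl fun i _ => h2 i, Finset.sum_const, Finset.card_range,
      nsmul_eq_mul, mul_eq_zero] at h1
    exact h1.resolve_left (by exact_mod_cast hq.ne_zero)
  -- a minimal invariant subspace
  obtain ⟨U, ⟨hUne, hUW, hUinv⟩, hUmin⟩ :=
    (wellFounded_lt (α := Submodule (AlgebraicClosure ℚ) (G → AlgebraicClosure ℚ))).has_min
      {U | U ≠ ⊥ ∧ U ≤ W ∧ ∀ g, ∀ v ∈ U, τ g v ∈ U} ⟨W, hWne, le_rfl, hτW⟩
  let σ : G →* Module.End (AlgebraicClosure ℚ) U :=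
    { toFun := fun g => (τ g).restrict (hUinv g)
      map_one' := by
        refine LinearMap.ext fun v => Subtype.ext ?_
        simp [LinearMap.restrict_coe_apply, map_one]
      map_mul' := fun a b => by
        refine LinearMap.ext fun v => Subtype.ext ?_
        simp [LinearMap.restrict_coe_apply, map_mul] }
  let b := Module.finBasis (AlgebraicClosure ℚ) U
  let ρ : G →* GL (Fin (Module.finrank (AlgebraicClosure ℚ) U)) (AlgebraicClosure ℚ) :=
    (((LinearMap.toMatrixAlgEquiv b).toAlgHom.toRingHom.toMonoidHom).comp σ).toHomUnits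
  have hρ : ∀ g, ((ρ g : GL (Fin (Module.finrank (AlgebraicClosure ℚ) U)) (AlgebraicClosure ℚ)) :
      Matrix (Fin (Module.finrank (AlgebraicClosure ℚ) U)) (Fin (Module.finrank (AlgebraicClosure ℚ) U))
        (AlgebraicClosure ℚ)) = LinearMap.toMatrix b b (σ g) := fun g => rfl
  have hmv : ∀ g (v : Fin (Module.finrank (AlgebraicClosure ℚ) U) → AlgebraicClosure ℚ),
      Matrix.mulVec (ρ g : Matrix (Fin (Module.finrank (AlgebraicClosure ℚ) U))
        (Fin (Module.finrank (AlgebraicClosure ℚ) U)) (AlgebraicClosure ℚ)) v =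
        b.equivFun (σ g (b.equivFun.symm v)) := by
    intro g v
    rw [hρ]
    conv_lhs => rw [← b.equivFun.apply_symm_apply v]
    rw [Module.Basis.equivFun_apply, LinearMap.toMatrix_mulVec_repr]
    rfl
  have hn : 0 < Module.finrank (AlgebraicClosure ℚ) U := by
    rw [Module.finrank_pos_iff]
    exact Submodule.nontrivial_iff_ne_bot.mpr hUne
  have hfix : ∀ g : G, g ≠ 1 → ∀ v : Fin (Module.finrank (AlgebraicClosure ℚ) U) → AlgebraicClosure ℚ,
      Matrix.mulVec (ρ g : Matrix (Fin (Module.finrank (AlgebraicClosure ℚ) U))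
        (Fin (Module.finrank (AlgebraicClosure ℚ) U)) (AlgebraicClosure ℚ)) v = v → v = 0 := by
    intro g hg v hv
    rw [hmv] at hv
    have h1 : σ g (b.equivFun.symm v) = b.equivFun.symm v := by
      apply b.equivFun.injective
      rw [hv, b.equivFun.apply_symm_apply]
    have h2 : ((b.equivFun.symm v : U) : G → AlgebraicClosure ℚ) = 0 :=
      hfpf g hg _ (hUW (b.equivFun.symm v).2) (congrArg Subtype.val h1)
    have h3 : b.equivFun.symm v = 0 := Subtype.ext h2
    exact b.equivFun.symm.map_eq_zero_iff.mp h3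
  refine ⟨_, ρ, hn, ?_, ?_, hfix⟩
  · rw [injective_iff_map_eq_one]
    intro g hg
    by_contra hne
    have h1 := hfix g hne (fun _ => 1) (by simp [hg])
    simpa using congrFun h1 ⟨0, hn⟩
  · intro X hX
    let X' : Submodule (AlgebraicClosure ℚ) (G → AlgebraicClosure ℚ) :=
      (X.map b.equivFun.symm.toLinearMap).map U.subtype
    by_cases hX0 : X' = ⊥
    · left
      rw [eq_bot_iff]
      intro w hw
      have h1 : ((b.equivFun.symm w : U) : G → AlgebraicClosure ℚ) ∈ X' :=
        ⟨_, ⟨w, hw, rfl⟩, rfl⟩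
      rw [hX0, Submodule.mem_bot] at h1
      have h2 : b.equivFun.symm w = 0 := Subtype.ext h1
      exact b.equivFun.symm.map_eq_zero_iff.mp h2
    · right
      have hle : X' ≤ U := by
        rintro _ ⟨u, -, rfl⟩
        exact u.2
      have hinv : ∀ g, ∀ v ∈ X', τ g v ∈ X' := by
        rintro g _ ⟨_, ⟨w, hw, rfl⟩, rfl⟩
        refine ⟨σ g (b.equivFun.symm w), ⟨_, hX g w hw, ?_⟩, rfl⟩
        simp only [LinearEquiv.coe_coe]
        rw [hmv, b.equivFun.symm_apply_apply]
      have heq : X' = U := by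
        by_contra hne
        exact hUmin X' ⟨hX0, hle.trans hUW, hinv⟩ (lt_of_le_of_ne hle hne)
      rw [eq_top_iff]
      intro w _
      have h1 : ((b.equivFun.symm w : U) : G → AlgebraicClosure ℚ) ∈ X' := by
        rw [heq]; exact (b.equivFun.symm w).2
      obtain ⟨_, ⟨w', hw', rfl⟩, h2⟩ := h1
      have h3 : w' = w := b.equivFun.symm.injective (Subtype.ext h2)
      rwa [← h3]


end Cfsg.Agent.S3357
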