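import Cfsg.Statements.S3365
import Cfsg.Agent.H85.Fix4.Four
import Cfsg.Agent.H70.Fix4.Zero

set_option autoImplicit false
open Cfsg
open scoped commutatorElement

namespace Cfsg.Agent.S3365

/-- Finite simple groups acting with fixity 4. Let G be a finite non-abelian simple group acting faithfully and transitively on a finite set so that every non-identity element fixes at most 4 points and some non-identity element fixes exactly 4 (fixity 4). Let P be a Sylow 3-subgroup, S a Sylow 2-subgroup, f the largest number of fixed points of an involution of G, and a a point. Then one of the following holds: (1) f ≥ 1 and G has a strongly embedded subgroup; (2) 1 ≤ f ≤ 3 and S is dihedral or semidihedral; (3) f = 4 and G has sectional 2-rank at most 4; (4) the point stabilizer G_a has odd order divisible by 3 and either G has a strongly 3-embedded subgroup (a proper subgroup H of order divisible by 3 such that H ∩ gHg⁻¹ has order prime to 3 for every element g outside H), or |P| =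 3 and a Sylow 2-subgroup of N_G(P) has order at most 4, or P is elementary abelian of order 9, or P is extraspecial of order 27 and exponent 3, or P is isomorphic to a Sylow 3-subgroup of Sym(9) (the wreath product C₃ ≀ C₃); (5) G_a has order prime to 6. -/
theorem result {G Ω : Type*} [Group G] [Finite G] [IsSimpleGroup G] (hna : ¬ IsMulCommutative G)
    [MulAction G Ω] [FaithfulSMul G Ω] [Finite Ω] (htrans : MulAction.IsPretransitive G Ω)
    (hfix : ∀ g : G, g ≠ 1 → Nat.card (MulAction.fixedBy Ω g) ≤ 4)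
    (hfix4 : ∃ g : G, g ≠ 1 ∧ Nat.card (MulAction.fixedBy Ω g) = 4)
    (P : Sylow 3 G) (S : Sylow 2 G) (f : ℕ)
    (hf : ∀ g : G, orderOf g = 2 → Nat.card (MulAction.fixedBy Ω g) ≤ f)
    (hf' : ∃ g : G, orderOf g = 2 ∧ Nat.card (MulAction.fixedBy Ω g) = f) (a : Ω) :
    (1 ≤ f ∧ ∃ H : Subgroup G, Cfsg.IsStronglyEmbedded H) ∨
    (1 ≤ f ∧ f ≤ 3 ∧ ((∃ n : ℕ, Nonempty ((S : Subgroup G) ≃* DihedralGroup n)) ∨ Cfsg.IsQuasiDihedral (S : Subgroup G))) ∨
    (f = 4 ∧ Cfsg.SectionalPRankLE 2 4 G) ∨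
    (Odd (Nat.card (MulAction.stabilizer G a)) ∧ 3 ∣ Nat.card (MulAction.stabilizer G a) ∧
      ((∃ H : Subgroup G, H ≠ ⊤ ∧ 3 ∣ Nat.card H ∧ ∀ g : G, g ∉ H → ¬ 3 ∣ Nat.card ↥(H ⊓ H.map (MulAut.conj g).toMonoidHom)) ∨
       (Nat.card P = 3 ∧ ∀ T : Sylow 2 (Subgroup.normalizer ((P : Subgroup G) : Set G)), Nat.card T ≤ 4) ∨
       (Nat.card P = 9 ∧ ∀ x ∈ (P : Subgroup G), x ^ 3 = 1) ∨
       (Nat.card P = 27 ∧ Cfsg.IsExtraspecial 3 (P : Subgroup G) ∧ ∀ x ∈ (P : Subgroup G), x ^ 3 = 1) ∨
       (∃ T : Sylow 3 (Equiv.Perm (Fin 9)), Nonempty ((P : Subgroup G) ≃* (T : Subgroup (Equiv.Perm (Fin 9))))))) ∨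
    (Nat.card (MulAction.stabilizer G a)).Coprime 6 := by
  classical
  have hfix' : ∀ g : G, g ≠ 1 → (MulAction.fixedBy Ω g).ncard ≤ 4 := fun g hg => by
    rw [← Nat.card_coe_set_eq]; exact hfix g hg
  have hperf : commutator G = ⊤ := by
    rcases IsSimpleGroup.eq_bot_or_eq_top_of_normal (commutator G) inferInstance with h | h
    · refine absurd ⟨⟨fun x y => ?_⟩⟩ hna
      have hm : ⁅x, y⁆ ∈ commutator G :=
        _root_.commutator_def (G := G) ▸ Subgroup.commutator_mem_commutator (Subgroup.mem_top x) (Subgroup.mem_top y)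
      rw [h, Subgroup.mem_bot, commutatorElement_eq_one_iff_mul_comm] at hm
      exact hm
    · exact h
  have h5 : 5 ≤ Nat.card Ω := H70.Fix4.five_le_card hperf
  obtain ⟨z, hzo, hzf⟩ := hf'
  have hf4 : f ≤ 4 := hzf ▸ hfix z (fun e => by rw [e, orderOf_one] at hzo; omega)
  rcases Nat.eq_zero_or_pos f with rfl | hpos
  · have hfree : H70.Fix4.InvFree G Ω := fun g b hg hb => by
      have h := hf g hg
      rw [Nat.card_coe_set_eq, Nat.le_zero, Set.ncard_eq_zero (Set.toFinite _)] at h
      exact (h ▸ (show b ∈ MulAction.fixedBy Ω g from hb) : b ∈ (∅ : Set Ω))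
    have hodd := H70.Fix4.odd_card_stabilizer hfree a
    by_cases h3 : 3 ∣ Nat.card (MulAction.stabilizer G a)
    · refine Or.inr (Or.inr (Or.inr (Or.inl ⟨hodd, h3, ?_⟩)))
      rcases H70.Fix4.zero_case hperf htrans h5 hfix' hfree P a h3 with h | h
      · exact Or.inl h
      · exact Or.inr (Or.inr (Or.inl h))
    · refine Or.inr (Or.inr (Or.inr (Or.inr ?_)))
      rw [show (6 : ℕ) = 2 * 3 by norm_num]
      exact Nat.Coprime.mul_right (Nat.coprime_two_right.2 hodd)
        ((Nat.prime_three.coprime_iff_not_dvd.2 h3).symm)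
  have hs : H85.Fix4.Setup G Ω 2 f := ⟨hfix', fun g hg => by rw [← Nat.card_coe_set_eq]; exact hf g hg,
    hpos, by omega, z, hzo, by rw [← Nat.card_coe_set_eq]; exact hzf⟩
  rcases Nat.lt_or_eq_of_le hf4 with hlt | rfl
  · rcases H85.Fix4.case_le_three hna hs (by omega) htrans S with h | h
    · exact Or.inl ⟨hpos, h⟩
    · exact Or.inr (Or.inl ⟨hpos, by omega, h⟩)
  · rcases H85.Fix4.case_four hna hs htrans with h | h
    · exact Or.inl ⟨hpos, h⟩
    · exact Or.inr (Or.inr (Or.inl ⟨rfl, h⟩))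

end Cfsg.Agent.S3365
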