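import Cfsg.Statements.S3370
import Cfsg.Agent.H59.PTransitive

set_option autoImplicit false
open Cfsg

namespace Cfsg.Agent.S3370

open H59.PTrans

variable {G : Type*} [Group G] [Finite G]

/-- A transitive group of order 16 on the eight non-zero vectors of a plane over three elements. -/
theorem quasiDihedral_sixteen {V : Type*} [AddCommGroup V] [Module (ZMod 3) V] [Finite V]
    (hV : Nat.card V = 9) (f : G →* Module.End (ZMod 3) V) (hf : Function.Injective f)
    (htr : ∀ v w : V, v ≠ 0 → w ≠ 0 → ∃ g : G, f g v = w) (hG : Nat.card G = 16) :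
    Cfsg.IsQuasiDihedral G := by
  classical
  have hinj : ∀ g : G, Function.Injective (f g) := fun g a b h => by
    have := congrArg (f g⁻¹) h
    rwa [← Module.End.mul_apply, ← Module.End.mul_apply, ← map_mul, inv_mul_cancel, map_one] at this
  have : Nontrivial V := by
    rw [← Finite.one_lt_card_iff_nontrivial, hV]; norm_num
  obtain ⟨v₀, hv₀⟩ := exists_ne (0 : V)
  -- an involution with a non-zero fixed vector
  obtain ⟨y, hy, hyv⟩ : ∃ y : G, y ≠ 1 ∧ f y v₀ = v₀ := by
    by_contra hcon
    push Not at hcon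
    have hi : Function.Injective (fun g : G => (⟨f g v₀, fun h => hv₀ (hinj g (h.trans (map_zero _).symm))⟩ : {x : V // x ≠ 0})) := by
      intro g g' h
      have h' : f g v₀ = f g' v₀ := congrArg Subtype.val h
      have h2 : f (g⁻¹ * g') v₀ = v₀ := by
        rw [map_mul, Module.End.mul_apply, ← h', ← Module.End.mul_apply, ← map_mul, inv_mul_cancel,
          map_one, Module.End.one_apply]
      by_contra hne
      exact hcon _ (fun h3 => hne (inv_mul_eq_one.1 h3)) h2
    have h1 := Nat.card_le_card_of_injective _ hi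
    have h2 : Nat.card {x : V // x ≠ 0} + 1 ≤ Nat.card V := by
      rw [← Finite.card_option]
      refine Nat.card_le_card_of_injective (fun o => o.elim (0 : V) Subtype.val) ?_
      rintro (_ | ⟨a, ha⟩) (_ | ⟨b, hb⟩) h
      · rfl
      · exact absurd h.symm hb
      · exact absurd h ha
      · exact congrArg some (Subtype.ext h)
    omega
  have hord : ∀ g : G, ∃ i ≤ 4, orderOf g = 2 ^ i := by
    intro g
    exact (Nat.dvd_prime_pow Nat.prime_two).1 (by
      rw [show (2 : ℕ) ^ 4 = 16 by norm_num, ← hG]; exact orderOf_dvd_natCard g)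
  -- eigen lines
  have hneg : (-1 : Module.End (ZMod 3) V) ≠ 1 := fun h => hv₀ (by
    have h1 := LinearMap.congr_fun h v₀
    simp only [LinearMap.neg_apply, Module.End.one_apply] at h1
    rw [← three_eq v₀] at h1
    exact add_eq_left.1 h1)
  have hy2 : y * y = 1 := by
    obtain ⟨v, hv⟩ : ∃ v, v = v₀ := ⟨_, rfl⟩
    by_contra hne
    obtain ⟨i, hi, ho⟩ := hord y
    have hi2 : 2 ≤ i := by
      by_contra hlt
      apply hne
      rw [← sq, ← orderOf_dvd_iff_pow_eq_one, ho]
      exact (pow_dvd_pow 2 (show i ≤ 1 by omega))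
    obtain ⟨z, hz⟩ : ∃ z, z = y ^ (2 ^ (i - 1)) := ⟨_, rfl⟩
    have hzz : z * z = 1 := by
      rw [hz, ← pow_add, ← two_mul, ← pow_succ', Nat.sub_add_cancel (by omega), ← ho,
        pow_orderOf_eq_one]
    have hz1 : z ≠ 1 := by
      rw [hz, Ne, ← orderOf_dvd_iff_pow_eq_one, ho, Nat.pow_dvd_pow_iff_le_right (by norm_num)]
      omega
    have hzv : f z v₀ = v₀ := by
      rw [hz, map_pow]
      generalize 2 ^ (i - 1) = k
      induction k with
      | zero => rw [pow_zero, Module.End.one_apply]
      | succ k ih => rw [pow_succ, Module.End.mul_apply, hyv, ih]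
    have hzne : f z ≠ -1 := fun h => hv₀ (by
      rw [h, LinearMap.neg_apply, Module.End.one_apply, ← three_eq v₀] at hzv
      exact add_eq_left.1 hzv)
    refine hne (hf ?_)
    rw [map_mul, map_one]
    exact sq_of_commute hV (z := f z) (by rw [← map_mul, hzz, map_one])
      (fun h => hz1 (hf (h.trans (map_one f).symm))) hzne (hinj y)
      (by rw [← map_mul, ← map_mul, hz, ← pow_succ, ← pow_succ'])
  have hy1 : f y ≠ 1 := fun h => hy (hf (h.trans (map_one f).symm))
  have hyn : f y ≠ -1 := fun h => hv₀ (by
    rw [h, LinearMap.neg_apply, Module.End.one_apply, ← three_eq v₀] at hyv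
    exact add_eq_left.1 hyv)
  have hfy : f y * f y = 1 := by rw [← map_mul, hy2, map_one]
  have hsqy : ∀ g : G, g * y = y * g → g * g = 1 := fun g h => hf (by
    rw [map_mul, map_one]
    exact sq_of_commute hV hfy hy1 hyn (hinj g) (by rw [← map_mul, ← map_mul, h]))
  -- squares that are not scalars
  obtain ⟨x, hx1, hx2⟩ : ∃ x : G, f (x * x) ≠ 1 ∧ f (x * x) ≠ -1 := by
    by_contra hcon
    push Not at hcon
    have hcon' : ∀ g : G, f (g * g) = 1 ∨ f (g * g) = -1 := fun g => by
      by_cases h : f (g * g) = 1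
      · exact Or.inl h
      · exact Or.inr (hcon g h)
    obtain ⟨v, w, hv, hw, hyv', hyw, hrep, hfix, hanti⟩ := eigen_basis hV hfy hy1 hyn
    have hvw : v + w ≠ 0 := by
      intro h
      have h2 := congrArg (f y) h
      rw [map_add, hyv', hyw, map_zero] at h2
      have h3 : v + v = 0 := by
        calc v + v = (v + w) + (v + -w) := by abel
          _ = 0 := by rw [h, h2, add_zero]
      rw [three_eq, neg_eq_zero] at h3
      exact hv h3
    obtain ⟨g, hg⟩ := htr v (v + w) hv hvw
    have hc : f (g * y) = f (y * g) ∨ f (g * y) = -f (y * g) := by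
      have e : f (g * y) = f (g * g) * f (g⁻¹ * y) := by
        rw [← map_mul]; group
      have e2 : f (g⁻¹ * y) * f (g⁻¹ * y) * f (y * g) = f (g⁻¹ * y) := by
        rw [← map_mul, ← map_mul, show g⁻¹ * y * (g⁻¹ * y) * (y * g) = g⁻¹ * y * (g⁻¹ * (y * y) * g) by group,
          hy2, mul_one, inv_mul_cancel, mul_one]
      have e3 : f (g⁻¹ * y) * f (g⁻¹ * y) = f ((g⁻¹ * y) * (g⁻¹ * y)) := (map_mul f _ _).symm
      rcases hcon' g with h | h <;> rcases hcon' (g⁻¹ * y) with h' | h' <;>
        rw [e, ← e2, e3, h, h'] <;> simp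
    have hgv : f g (f y v) = f y (f g v) ∨ f g (f y v) = -(f y (f g v)) := by
      rcases hc with h | h
      · left
        rw [← Module.End.mul_apply, ← map_mul, h, map_mul, Module.End.mul_apply]
      · right
        rw [← Module.End.mul_apply, ← map_mul, h, LinearMap.neg_apply, map_mul, Module.End.mul_apply]
    rw [hyv', hg, map_add, hyv', hyw] at hgv
    rcases hgv with h | h
    · refine hw ?_
      have h2 : w + w = 0 := by
        calc w + w = (v + w) - (v + -w) := by abel
          _ = 0 := by rw [← h, sub_self]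
      rwa [three_eq, neg_eq_zero] at h2
    · refine hv ?_
      have h2 : v + v = 0 := by
        calc v + v = (v + w) + (v + -w) := by abel
          _ = 0 := by rw [eq_neg_iff_add_eq_zero] at h; exact h
      rwa [three_eq, neg_eq_zero] at h2
  have hinv4 : ∀ z g : G, g * z = z * g → z * z = 1 → g * g ≠ 1 → f z ≠ 1 → f z = -1 := by
    intro z g hc hz hg hz1
    by_contra hzn
    refine hg (hf ?_)
    rw [map_mul, map_one]
    exact sq_of_commute hV (by rw [← map_mul, hz, map_one]) hz1 hzn (hinj g)
      (by rw [← map_mul, ← map_mul, hc])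
  have hx8 : orderOf x = 8 := by
    obtain ⟨i, hi, ho⟩ := hord x
    have hxx : x * x ≠ 1 := fun h => hx1 (by rw [h, map_one])
    have hp : ∀ j, i ≤ j → x ^ (2 ^ j) = 1 := fun j hj => by
      rw [← orderOf_dvd_iff_pow_eq_one, ho]; exact pow_dvd_pow 2 hj
    have hi3 : 3 ≤ i := by
      by_contra hlt
      have h4 := hp 2 (by omega)
      exact hx2 (hinv4 (x * x) x (by group) (by simpa [pow_succ, mul_assoc] using h4) hxx hx1)
    rcases (show i = 3 ∨ i = 4 by omega) with rfl | rfl
    · rw [ho]; norm_num
    · exfalso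
      obtain ⟨n, hn⟩ : ∃ n : ℕ, x ^ n = y := by
        have htop : Subgroup.zpowers x = ⊤ := Subgroup.eq_top_of_card_eq _ (by
          rw [Nat.card_zpowers, ho, hG]; norm_num)
        exact Submonoid.mem_powers_iff _ _ |>.1 (mem_powers_iff_mem_zpowers.2 (htop ▸ Subgroup.mem_top y))
      exact hxx (hsqy x (by rw [← hn, ← pow_succ', ← pow_succ]))
  have hx4 : f (x ^ 4) = -1 := by
    have h8 : x ^ 8 = 1 := hx8 ▸ pow_orderOf_eq_one x
    refine hinv4 (x ^ 4) x (by group) (by rw [← h8]; group) (fun h => hx1 (by rw [h, map_one])) fun h => ?_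
    have h4 : x ^ 4 = 1 := hf (h.trans (map_one f).symm)
    have := orderOf_dvd_of_pow_eq_one h4
    rw [hx8] at this
    norm_num at this
  have hZcard : Nat.card (Subgroup.zpowers x) = 8 := by rw [Nat.card_zpowers, hx8]
  have hnorm : (Subgroup.zpowers x).Normal := by
    refine Subgroup.normal_of_index_eq_two ?_
    have := (Subgroup.zpowers x).card_mul_index
    rw [hZcard, hG] at this
    omega
  obtain ⟨r, hr⟩ : ∃ r : Fin 8, y * x * y⁻¹ = x ^ (r : ℕ) := by
    obtain ⟨n, hn⟩ := Submonoid.mem_powers_iff _ _ |>.1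
      (mem_powers_iff_mem_zpowers.2 (hnorm.conj_mem x (Subgroup.mem_zpowers x) y))
    refine ⟨⟨n % 8, Nat.mod_lt _ (by norm_num)⟩, ?_⟩
    rw [← hn, show x ^ n = x ^ (n % orderOf x) from (pow_mod_orderOf x n).symm, hx8]
  refine ⟨3, le_rfl, by rw [hG]; norm_num, x, y, by rw [hx8]; norm_num,
    orderOf_eq_prime (by rw [sq, hy2]) hy, ?_⟩
  have hxx : x * x ≠ 1 := fun h => hx1 (by rw [h, map_one])
  have hpow4 : ∀ j : ℕ, y * x * y⁻¹ = x ^ (2 * j) → False := by
    intro j hj
    have h1 : y * x ^ 4 * y⁻¹ = 1 := by
      rw [← conj_pow, hj, ← pow_mul, show 2 * j * 4 = 8 * j by ring, pow_mul, ← hx8,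
        pow_orderOf_eq_one, one_pow]
    have h2 : x ^ 4 = 1 := by simpa using h1
    rw [h2, map_one] at hx4
    exact hneg hx4.symm
  fin_cases r <;> simp only [pow_zero] at hr
  · exact (hpow4 0 (by simpa using hr)).elim
  · exact absurd (hsqy x (by simp only [pow_one, mul_inv_eq_iff_eq_mul] at hr; exact hr.symm)) hxx
  · exact (hpow4 1 hr).elim
  · exact hr
  · exact (hpow4 2 hr).elim
  · exfalso
    have h1 : y * (x * x) * y⁻¹ = x * x := by
      rw [show y * (x * x) * y⁻¹ = (y * x * y⁻¹) * (y * x * y⁻¹) by group, hr, ← pow_add]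
      show x ^ (5 + 5) = x * x
      rw [show (5 + 5 : ℕ) = 2 + orderOf x by rw [hx8], pow_add, pow_orderOf_eq_one, mul_one, sq]
    have h2 := hsqy (x * x) (mul_inv_eq_iff_eq_mul.1 h1).symm
    have h4 : x ^ 4 = 1 := by simpa [pow_succ, mul_assoc] using h2
    rw [h4, map_one] at hx4
    exact hneg hx4.symm
  · exact (hpow4 3 hr).elim
  · exfalso
    have hxi : y * x * y⁻¹ = x⁻¹ := by
      rw [hr]
      refine eq_inv_of_mul_eq_one_left ?_
      show x ^ 7 * x = 1
      rw [← pow_succ, show (7 + 1 : ℕ) = orderOf x by rw [hx8], pow_orderOf_eq_one]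
    have hxi' : y * x⁻¹ * y⁻¹ = x := by rw [← conj_inv, hxi, inv_inv]
    obtain ⟨c, hc⟩ : ∃ c, c = f x + f x⁻¹ := ⟨_, rfl⟩
    have hcy : f y * c = c * f y := by
      simp only [hc, mul_add, add_mul, ← map_mul,
        mul_inv_eq_iff_eq_mul.1 hxi, mul_inv_eq_iff_eq_mul.1 hxi']
      abel
    have hcx : f x * c = c * f x := by
      simp only [hc, mul_add, add_mul, ← map_mul, mul_inv_cancel, inv_mul_cancel]
    obtain ⟨v, w, hv, hw, hyv', hyw, hrep, hfix, hanti⟩ := eigen_basis hV hfy hy1 hyn
    obtain ⟨a, ha⟩ := hfix (c v) (by rw [← Module.End.mul_apply, hcy, Module.End.mul_apply, hyv'])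
    obtain ⟨b, hb⟩ := hanti (c w) (by
      rw [← Module.End.mul_apply, hcy, Module.End.mul_apply, hyw, map_neg])
    by_cases hab : a = b
    · subst hab
      have hquad : ∀ u, f x (f x u) = a • f x u - u := by
        intro u
        obtain ⟨p, q, hu⟩ := hrep (f x u)
        have h1 : c (f x u) = a • f x u := by
          rw [hu]; simp only [map_add, map_smul, ha, hb, smul_add, smul_comm a]
        rw [hc, LinearMap.add_apply, ← Module.End.mul_apply (f x⁻¹), ← map_mul, inv_mul_cancel,
          map_one, Module.End.one_apply] at h1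
        rw [← h1, add_sub_cancel_right]
      by_cases ha0 : a = 0
      · refine hx2 (LinearMap.ext fun u => ?_)
        rw [map_mul, Module.End.mul_apply, hquad, ha0, zero_smul, zero_sub]
        rfl
      · have hcube : ∀ u, f x (f x (f x u)) = -(a • u) := by
          intro u
          rw [hquad (f x u), hquad u, smul_sub, smul_smul, zmod3_sq a ha0, one_smul]
          abel
        have h6 : x ^ 6 = 1 := by
          refine hf (LinearMap.ext fun u => ?_)
          rw [show x ^ 6 = x * x * x * (x * x * x) by simp [pow_succ, mul_assoc], map_mul, map_mul, map_mul, map_one]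
          simp only [Module.End.mul_apply, Module.End.one_apply, hcube, map_neg, map_smul,
            smul_neg, neg_neg, smul_smul, zmod3_sq a ha0, one_smul]
        have := orderOf_dvd_of_pow_eq_one h6
        rw [hx8] at this
        norm_num at this
    · have hline : ∀ u : V, (c u = a • u → ∃ p : ZMod 3, u = p • v) ∧ (c u = b • u → ∃ q : ZMod 3, u = q • w) := by
        intro u
        obtain ⟨p, q, rfl⟩ := hrep u
        simp only [map_add, map_smul, ha, hb, smul_add]
        constructor <;> intro h
        · refine ⟨p, ?_⟩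
          rw [smul_comm p a v, add_right_inj, smul_comm, ← sub_eq_zero, ← sub_smul, smul_eq_zero,
            sub_eq_zero] at h
          rw [h.resolve_left (Ne.symm hab), add_zero]
        · refine ⟨q, ?_⟩
          rw [smul_comm q b w, add_left_inj, smul_comm, ← sub_eq_zero, ← sub_smul, smul_eq_zero,
            sub_eq_zero] at h
          rw [h.resolve_left hab, zero_add]
      obtain ⟨p, hp⟩ := (hline (f x v)).1 (by
        rw [← Module.End.mul_apply, ← hcx, Module.End.mul_apply, ha, map_smul])
      obtain ⟨q, hq⟩ := (hline (f x w)).2 (by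
        rw [← Module.End.mul_apply, ← hcx, Module.End.mul_apply, hb, map_smul])
      have hp0 : p ≠ 0 := fun h => hv (hinj x (by rw [hp, h, zero_smul, map_zero]))
      have hq0 : q ≠ 0 := fun h => hw (hinj x (by rw [hq, h, zero_smul, map_zero]))
      refine hx1 (LinearMap.ext fun u => ?_)
      obtain ⟨c', d', rfl⟩ := hrep u
      simp only [map_mul, Module.End.mul_apply, Module.End.one_apply, map_add, map_smul, hp, hq,
        smul_smul, mul_assoc, zmod3_sq p hp0, zmod3_sq q hq0, mul_one]

/-- Let q be a prime, V a non-trivial finite vector space over the field with q elements, and G a non-trivial finite p-group (p prime) acting faithfully and linearly on V and transitively on the non-zero vectors. Then either q = 2 and G has prime order p = |V| − 1; or p = 2, V has q elements with q = 2^m + 1 and G is cyclic of order 2^m; or p = 2, q = 3, V has 9 elements and G is cyclic of order 8, quaternion of order 8, or semidihedral of order 16. -/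
theorem result (q : ℕ) [Fact q.Prime] {V : Type*} [AddCommGroup V] [Module (ZMod q) V] [Finite V] [Nontrivial V]
    {G : Type*} [Group G] [Finite G] [Nontrivial G] (p : ℕ) [Fact p.Prime] (hG : IsPGroup p G)
    (ρ : G →* (V ≃ₗ[ZMod q] V)) (hρ : Function.Injective ρ)
    (htrans : ∀ v w : V, v ≠ 0 → w ≠ 0 → ∃ g : G, ρ g v = w) :
    (q = 2 ∧ p = Nat.card V - 1 ∧ Nat.card G = p) ∨
    (p = 2 ∧ Nat.card V = q ∧ (∃ m : ℕ, q = 2 ^ m + 1 ∧ Nat.card G = 2 ^ m) ∧ IsCyclic G) ∨
    (p = 2 ∧ q = 3 ∧ Nat.card V = 9 ∧
      ((IsCyclic G ∧ Nat.card G = 8) ∨ Nonempty (G ≃* QuaternionGroup 2) ∨ (Cfsg.IsQuasiDihedral G ∧ Nat.card G = 16))) := by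
  classical
  have hp : p.Prime := Fact.out
  have hq : q.Prime := Fact.out
  letI : MulAction G V := MulAction.compHom V ρ
  have hsm : ∀ (g : G) (v : V), g • v = ρ g v := fun _ _ => rfl
  have hfaith : ∀ g : G, (∀ v : V, g • v = v) → g = 1 := fun g h =>
    hρ (((LinearEquiv.ext h : ρ g = 1)).trans (map_one ρ).symm)
  obtain ⟨v₀, hv₀⟩ := exists_ne (0 : V)
  have horb : ∀ v : V, v ≠ 0 → MulAction.orbit G v = {w : V | w ≠ 0} := by
    intro v hv
    ext w
    constructor
    · rintro ⟨g, rfl⟩ h
      exact hv ((ρ g).map_eq_zero_iff.1 h)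
    · intro hw
      exact htrans v w hv hw
  have hidx : ∀ v : V, v ≠ 0 → (MulAction.stabilizer G v).index + 1 = Nat.card V := by
    intro v hv
    rw [MulAction.index_stabilizer, horb v hv, show ({w : V | w ≠ 0} : Set V) = {(0 : V)}ᶜ from rfl,
      Set.ncard_compl, Set.ncard_singleton]
    have := Nat.card_pos (α := V)
    omega
  obtain ⟨k, hk⟩ : ∃ k, (MulAction.stabilizer G v₀).index = p ^ k := hG.index _
  obtain ⟨n, hn⟩ : ∃ n, n = Module.finrank (ZMod q) V := ⟨_, rfl⟩
  have hV : Nat.card V = q ^ n := by rw [hn, Module.natCard_eq_pow_finrank (K := ZMod q), Nat.card_zmod]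
  have hn1 : 1 ≤ n := by rw [hn]; exact Module.finrank_pos
  have hmain := hidx v₀ hv₀
  rw [hk, hV] at hmain
  rcases pow_eq_pow_succ hp hq hn1 hmain.symm with ⟨rfl, rfl, rfl⟩ | ⟨rfl, rfl, hpn⟩ |
    ⟨rfl, rfl, hqk, -⟩ | ⟨rfl, rfl, rfl, rfl⟩
  · exfalso
    obtain ⟨g, hg⟩ := exists_ne (1 : G)
    refine hg (hfaith g fun v => ?_)
    by_cases hv : v = 0
    · rw [hv, hsm, map_zero]
    have h1 := hidx v hv
    rw [hV] at h1
    have : MulAction.stabilizer G v = ⊤ := Subgroup.index_eq_one.1 (by omega)
    exact (this.ge (Subgroup.mem_top g) : g ∈ MulAction.stabilizer G v)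
  · left
    refine ⟨rfl, by rw [hV]; exact hpn, ?_⟩
    have hbot : MulAction.stabilizer G v₀ = ⊥ := by
      rw [Subgroup.eq_bot_iff_forall]
      intro g hg
      refine hfaith g fun u => ?_
      by_cases hu : u = 0
      · rw [hu, hsm, map_zero]
      obtain ⟨S, hS⟩ : ∃ S : Subgroup G, S = MulAction.stabilizer G v₀ := ⟨_, rfl⟩
      obtain ⟨i, hi⟩ := (hG.to_subgroup S).card_orbit (α := V) u
      rcases Nat.eq_zero_or_pos i with rfl | hi0
      · rw [pow_zero, Nat.card_coe_set_eq, Set.ncard_eq_one] at hi
        obtain ⟨c, hc⟩ := hi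
        have h1 : u ∈ MulAction.orbit S u := MulAction.mem_orbit_self u
        have h2 : g • u ∈ MulAction.orbit S u := ⟨⟨g, hS ▸ hg⟩, rfl⟩
        rw [hc, Set.mem_singleton_iff] at h1 h2
        rw [h2, h1]
      · exfalso
        have hsub : MulAction.orbit S u ⊆ ({w : V | w ≠ 0} \ {v₀}) ∪ {u} := by
          rintro _ ⟨⟨s, hs⟩, rfl⟩
          by_cases hcase : s • u = v₀
          · right
            have h3 : s • v₀ = v₀ := (show s ∈ MulAction.stabilizer G v₀ from hS ▸ hs)
            show s • u = u
            rw [hcase, MulAction.injective s (hcase.trans h3.symm)]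
          · left
            refine ⟨fun h => hu ((ρ s).map_eq_zero_iff.1 h), hcase⟩
        have h4 := Set.ncard_le_ncard hsub (Set.toFinite _)
        by_cases huv : u = v₀
        · subst huv
          have h5 : MulAction.orbit S u ⊆ {u} := by
            rintro _ ⟨⟨s, hs⟩, rfl⟩
            exact (hS ▸ hs : s ∈ MulAction.stabilizer G u)
          have h6 := Set.ncard_le_ncard h5 (Set.toFinite _)
          rw [Set.ncard_singleton, ← Nat.card_coe_set_eq, hi] at h6
          have := Nat.one_lt_pow hi0.ne' hp.one_lt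
          omega
        · rw [Set.union_singleton, Set.insert_eq_of_mem (show u ∈ {w : V | w ≠ 0} \ {v₀} from ⟨hu, huv⟩),
            Set.ncard_sdiff (by simpa using hv₀), Set.ncard_singleton,
            show ({w : V | w ≠ 0} : Set V) = {(0 : V)}ᶜ from rfl, Set.ncard_compl, Set.ncard_singleton,
            ← Nat.card_coe_set_eq, hi, hV] at h4
          have := Nat.le_self_pow hi0.ne' p
          have := hp.two_le
          omega
    have := (MulAction.stabilizer G v₀).card_mul_index
    rw [hk, hbot, Subgroup.card_bot, one_mul, pow_one] at this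
    exact this.symm
  · right; left
    refine ⟨rfl, by rw [hV, pow_one], ?_⟩
    have hsc : ∀ v : V, ∃ c : ZMod q, c • v₀ = v := fun v =>
      (finrank_eq_one_iff_of_nonzero' v₀ hv₀).1 hn.symm v
    choose c hc using fun g : G => hsc (ρ g v₀)
    have hc_inj : ∀ g g' : G, c g = c g' → g = g' := by
      intro g g' h
      refine hρ (LinearEquiv.ext fun u => ?_)
      obtain ⟨d, rfl⟩ := hsc u
      rw [map_smul, map_smul, ← hc g, ← hc g', h]
    let φ : G →* ZMod q :=
      { toFun := c
        map_one' := smul_left_injective (ZMod q) hv₀ (by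
          show c 1 • v₀ = (1 : ZMod q) • v₀
          rw [hc, map_one, one_smul]; rfl)
        map_mul' := fun g g' => smul_left_injective (ZMod q) hv₀ (by
          show c (g * g') • v₀ = (c g * c g') • v₀
          rw [hc, map_mul, mul_comm, mul_smul, hc g, ← map_smul, hc g']; rfl) }
    have hcyc : IsCyclic G := isCyclic_of_injective_ringHom φ fun g g' h => hc_inj g g' h
    refine ⟨⟨k, hqk, ?_⟩, hcyc⟩
    have hbot : MulAction.stabilizer G v₀ = ⊥ := by
      rw [Subgroup.eq_bot_iff_forall]
      intro g hg
      refine hfaith g fun u => ?_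
      obtain ⟨d, rfl⟩ := hsc u
      rw [hsm, map_smul]
      exact congrArg (d • ·) hg
    have := (MulAction.stabilizer G v₀).card_mul_index
    rw [hk, hbot, Subgroup.card_bot, one_mul] at this
    exact this.symm
  · right; right
    have hV9 : Nat.card V = 9 := by rw [hV]; norm_num
    refine ⟨rfl, rfl, hV9, ?_⟩
    let f : G →* Module.End (ZMod 3) V :=
      { toFun := fun g => (ρ g).toLinearMap
        map_one' := by rw [map_one]; rfl
        map_mul' := fun g g' => by rw [map_mul]; rfl }
    have hf : Function.Injective f := fun g g' h => hρ (LinearEquiv.toLinearMap_injective h)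
    have hGcard : Nat.card G = Nat.card (MulAction.stabilizer G v₀) * 8 := by
      rw [← (MulAction.stabilizer G v₀).card_mul_index, hk]; norm_num
    by_cases hbot : MulAction.stabilizer G v₀ = ⊥
    · rw [hbot, Subgroup.card_bot, one_mul] at hGcard
      have hfree : ∀ v : V, v ≠ 0 → ∀ g : G, ρ g v = v → g = 1 := by
        intro v hv g hg
        have h1 := (MulAction.stabilizer G v).card_mul_index
        have h2 := hidx v hv
        rw [hGcard] at h1
        have h3 : (MulAction.stabilizer G v).index = 8 := by omega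
        rw [h3] at h1
        have h4 : MulAction.stabilizer G v = ⊥ := Subgroup.eq_bot_of_card_eq _ (by omega)
        exact Subgroup.mem_bot.1 (h4.le (show g ∈ MulAction.stabilizer G v from hg))
      have huniq : ∀ g : G, g * g = 1 → g ≠ 1 → ∀ v : V, ρ g v = -v := by
        intro g hg hg1 v
        have hgg : ρ g (ρ g v) = v := by
          show (ρ g * ρ g) v = v
          rw [← map_mul, hg, map_one]; rfl
        have h : ρ g (v + ρ g v) = v + ρ g v := by rw [map_add, hgg, add_comm]
        by_contra hne
        exact hg1 (hfree _ (fun h0 => hne (eq_neg_of_add_eq_zero_right h0)) g h)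
      rcases H2.cyclic_or_quaternion hG (fun H K hH hK => by
          obtain ⟨⟨a, haH⟩, ha⟩ := exists_prime_orderOf_dvd_card' (G := H) 2 (dvd_of_eq hH.symm)
          obtain ⟨⟨b, hbK⟩, hb⟩ := exists_prime_orderOf_dvd_card' (G := K) 2 (dvd_of_eq hK.symm)
          rw [← Subgroup.orderOf_coe] at ha hb
          have key : ∀ z : G, orderOf z = 2 → z * z = 1 ∧ z ≠ 1 := fun z hz =>
            ⟨by rw [← sq, ← hz, pow_orderOf_eq_one], fun h => by rw [h, orderOf_one] at hz; omega⟩
          have hab : a = b := hρ (LinearEquiv.ext fun v => by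
            rw [huniq a (key a ha).1 (key a ha).2, huniq b (key b hb).1 (key b hb).2])
          have hHa : Subgroup.zpowers a = H := Subgroup.eq_of_le_of_card_ge
            (Subgroup.zpowers_le.2 haH) (by rw [hH, Nat.card_zpowers, ha])
          have hKb : Subgroup.zpowers b = K := Subgroup.eq_of_le_of_card_ge
            (Subgroup.zpowers_le.2 hbK) (by rw [hK, Nat.card_zpowers, hb])
          rw [← hHa, ← hKb, hab]) with h | ⟨i, ⟨e⟩⟩
      · exact Or.inl ⟨h, hGcard⟩
      · right; left
        have h1 := Nat.card_congr e.toEquiv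
        rw [hGcard, Nat.card_eq_fintype_card, QuaternionGroup.card] at h1
        have h2 : (2 : ℕ) ^ i = 2 := by omega
        exact ⟨h2 ▸ e⟩
    · right; right
      have h2 : Nat.card (MulAction.stabilizer G v₀) = 2 := by
        obtain ⟨S, hS⟩ : ∃ S : Subgroup G, S = MulAction.stabilizer G v₀ := ⟨_, rfl⟩
        rw [← hS] at hbot ⊢
        obtain ⟨j, hj⟩ := (hG.to_subgroup S).exists_card_eq
        have hj0 : j ≠ 0 := by
          rintro rfl
          exact hbot (Subgroup.eq_bot_of_card_eq _ (by simpa using hj))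
        -- `S` is free on the six vectors outside the line through `v₀`
        obtain ⟨L, hL⟩ : ∃ L : Set V, L = Set.range (fun a : ZMod 3 => a • v₀) := ⟨_, rfl⟩
        have hSfix : ∀ s ∈ S, ∀ u ∈ L, s • u = u := by
          intro s hs u hu
          rw [hL] at hu
          obtain ⟨a, rfl⟩ := hu
          show ρ s (a • v₀) = a • v₀
          rw [map_smul]
          exact congrArg (a • ·) (hS ▸ hs : s ∈ MulAction.stabilizer G v₀)
        have hfree : ∀ u ∉ L, ∀ s ∈ S, s • u = u → s = 1 := by
          intro u hu s hs hsu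
          let b : ZMod 3 × ZMod 3 → V := fun c => c.1 • v₀ + c.2 • u
          have hb : Function.Injective b := by
            rintro ⟨a₁, b₁⟩ ⟨a₂, b₂⟩ h
            have h' : (b₁ - b₂) • u = (a₂ - a₁) • v₀ := by
              change a₁ • v₀ + b₁ • u = a₂ • v₀ + b₂ • u at h
              rw [sub_smul, sub_smul, sub_eq_sub_iff_add_eq_add, add_comm, h, add_comm]
            by_cases hbb : b₁ = b₂
            · subst hbb
              change a₁ • v₀ + b₁ • u = a₂ • v₀ + b₁ • u at h
              rw [add_left_inj] at h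
              exact Prod.ext (smul_left_injective (ZMod 3) hv₀ h) rfl
            · refine absurd ?_ hu
              rw [hL]
              refine ⟨(b₁ - b₂) * (a₂ - a₁), ?_⟩
              show ((b₁ - b₂) * (a₂ - a₁)) • v₀ = u
              rw [mul_smul, ← h', smul_smul, zmod3_sq _ (sub_ne_zero.2 hbb), one_smul]
          have hbs := (hb.bijective_of_nat_card_le (by rw [hV9, Nat.card_prod, Nat.card_zmod])).2
          refine hfaith s fun x => ?_
          obtain ⟨⟨a, c⟩, rfl⟩ := hbs x
          show ρ s (a • v₀ + c • u) = _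
          rw [map_add, map_smul, map_smul, show ρ s u = u from hsu,
            show ρ s v₀ = v₀ from (hS ▸ hs : s ∈ MulAction.stabilizer G v₀)]
        let T := {u : V // u ∉ L}
        letI : MulAction S T :=
          { smul := fun s u => ⟨(s : G) • (u : V), fun h => u.2 (by
              have h1 := hSfix _ (S.inv_mem s.2) _ h
              rw [inv_smul_smul] at h1
              exact h1 ▸ h)⟩
            one_smul := fun u => Subtype.ext (one_smul G (u : V))
            mul_smul := fun s t u => Subtype.ext (mul_smul (s : G) t (u : V)) }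
        have hstab : ∀ u : T, MulAction.stabilizer S u = ⊥ := fun u => by
          rw [Subgroup.eq_bot_iff_forall]
          intro s hs
          exact Subtype.ext (hfree _ u.2 _ s.2 (congrArg Subtype.val hs))
        have hdvd : Nat.card S ∣ Nat.card T := by
          rw [Nat.card_congr (MulAction.selfEquivOrbitsQuotientProd hstab), Nat.card_prod]
          exact dvd_mul_left _ _
        have hT : Nat.card T = 6 := by
          show Nat.card ↥(Lᶜ) = 6
          rw [Nat.card_coe_set_eq, Set.ncard_compl, hV9, hL, Set.ncard_range_of_injective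
            (smul_left_injective (ZMod 3) hv₀), Nat.card_zmod]
        rw [hT, hj] at hdvd
        rw [hj]
        rcases j with _ | _ | j
        · exact absurd rfl hj0
        · norm_num
        · exfalso
          have : (4 : ℕ) ∣ 6 := (Dvd.intro (2 ^ j) (by ring)).trans hdvd
          norm_num at this
      rw [h2] at hGcard
      exact ⟨quasiDihedral_sixteen hV9 f hf htrans hGcard, hGcard⟩

end Cfsg.Agent.S3370
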