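import Cfsg.Agent.H33.HalfTransitive
import Cfsg.Statements.S3371
-- import your own Cfsg.Agent.* helpers here

set_option autoImplicit false
set_option linter.style.haveILetI false
open Cfsg

namespace Cfsg.Agent.S3371

/-- Let q be a prime, V a non-trivial finite vector space over the field with q elements, and G a finite p-group (p prime) acting faithfully and linearly on V such that all G-orbits on the non-zero vectors have the same size. Then one of the following holds: G is cyclic or generalized quaternion and acts semiregularly on the non-zero vectors; or V has q² elements with q = 2^m − 1 and G is dihedral of order 2^(m+1) or semidihedral of order 2^(m+2); or V has q² elements with q = 2^m + 1 and, in suitable coordinates V = F_q², G is exactly the group of maps (x, y) ↦ (a x, ± a⁻¹ y) and (x, y) ↦ (± a⁻¹ y, a x) with a ≠ 0; or V has 81 elements (q = 3) and G is a 2-group. -/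
theorem result (q : ℕ) [Fact q.Prime] {V : Type*} [AddCommGroup V] [Module (ZMod q) V] [Finite V] [Nontrivial V]
    {G : Type*} [Group G] [Finite G] (p : ℕ) [Fact p.Prime] (hG : IsPGroup p G)
    (ρ : G →* (V ≃ₗ[ZMod q] V)) (hρ : Function.Injective ρ)
    (hhalf : ∀ v w : V, v ≠ 0 → w ≠ 0 → Nat.card {u : V | ∃ g : G, ρ g v = u} = Nat.card {u : V | ∃ g : G, ρ g w = u}) :
    ((IsCyclic G ∨ ∃ n : ℕ, Nonempty (G ≃* QuaternionGroup n)) ∧ ∀ v : V, v ≠ 0 → ∀ g : G, ρ g v = v → g = 1) ∨
    (Nat.card V = q ^ 2 ∧ ∃ m : ℕ, q = 2 ^ m - 1 ∧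
      (Nonempty (G ≃* DihedralGroup (2 ^ m)) ∨ (Cfsg.IsQuasiDihedral G ∧ Nat.card G = 2 ^ (m + 2)))) ∨
    (Nat.card V = q ^ 2 ∧ (∃ m : ℕ, q = 2 ^ m + 1) ∧
      ∃ e : V ≃ₗ[ZMod q] (Fin 2 → ZMod q), ∀ f : (Fin 2 → ZMod q) ≃ₗ[ZMod q] (Fin 2 → ZMod q),
        (∃ g : G, f = e.symm.trans ((ρ g).trans e)) ↔
        ∃ a s : ZMod q, a ≠ 0 ∧ (s = 1 ∨ s = -1) ∧
          ((∀ v, f v = ![a * v 0, s * a⁻¹ * v 1]) ∨ (∀ v, f v = ![s * a⁻¹ * v 1, a * v 0]))) ∨
    (Nat.card V = 81 ∧ q = 3 ∧ p = 2) := by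
  classical
  have hV : ∀ v : V, q • v = 0 := fun v => by
    rw [← Nat.cast_smul_eq_nsmul (ZMod q), ZMod.natCast_self, zero_smul]
  let r : G →* AddMonoid.End V :=
    { toFun := fun g => (ρ g).toLinearMap.toAddMonoidHom
      map_one' := by rw [map_one]; rfl
      map_mul' := fun a b => by rw [map_mul]; rfl }
  have hr : ∀ g v, r g v = ρ g v := fun g v => rfl
  have hrinj : Function.Injective r := fun a b hab => hρ (LinearEquiv.ext fun v => by
    rw [← hr, ← hr, hab])
  have horb : ∀ v w : V, v ≠ 0 → w ≠ 0 → Nat.card (H33.HalfTrans.St r v) = Nat.card (H33.HalfTrans.St r w) := by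
    intro v w hv hw
    have h1 := H33.HalfTrans.orbit_card_mul r v
    have h2 := H33.HalfTrans.orbit_card_mul r w
    rw [← h2] at h1
    have h3 : Nat.card {u : V | ∃ g : G, r g v = u} = Nat.card {u : V | ∃ g : G, r g w = u} := hhalf v w hv hw
    rw [h3] at h1
    have : 0 < Nat.card {u : V | ∃ g : G, r g w = u} := by
      haveI : Nonempty {u : V | ∃ g : G, r g w = u} := ⟨⟨w, 1, by rw [map_one]; rfl⟩⟩
      exact Nat.card_pos
    exact Nat.eq_of_mul_eq_mul_left this h1
  have hp := (Fact.out : p.Prime)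
  have hq := (Fact.out : q.Prime)
  -- trivial group
  have htriv : (∀ g : G, g = 1) → (IsCyclic G ∨ ∃ n : ℕ, Nonempty (G ≃* QuaternionGroup n)) ∧
      ∀ v : V, v ≠ 0 → ∀ g : G, ρ g v = v → g = 1 := by
    intro h
    haveI : Subsingleton G := ⟨fun a b => by rw [h a, h b]⟩
    exact ⟨Or.inl isCyclic_of_subsingleton, fun v _ g _ => h g⟩
  rcases eq_or_ne q p with hqp | hne
  · subst hqp
    refine Or.inl (htriv fun g => ?_)
    -- a fixed vector forces all orbits trivial
    letI : MulAction G V :=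
      { smul := fun g v => r g v
        one_smul := fun v => H33.HalfTrans.act_one r v
        mul_smul := fun a b v => H33.HalfTrans.act_mul r a b v }
    have hdvd : q ∣ Nat.card V := by
      obtain ⟨x, hx⟩ := exists_ne (0 : V)
      have h1 : addOrderOf x ∣ q := addOrderOf_dvd_of_nsmul_eq_zero (hV x)
      rcases (Nat.dvd_prime hq).1 h1 with h2 | h2
      · exact absurd (AddMonoid.addOrderOf_eq_one_iff.1 h2) hx
      · exact h2 ▸ addOrderOf_dvd_natCard x
    obtain ⟨v, hv, hv0⟩ := hG.exists_fixed_point_of_prime_dvd_card_of_fixed_point V hdvd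
      (a := (0 : V)) (fun g => map_zero (r g))
    apply hrinj
    refine AddMonoidHom.ext fun w => ?_
    rw [map_one]
    show r g w = w
    by_cases hw : w = 0
    · rw [hw, map_zero]
    have h1 := horb v w hv0.symm hw
    have h2 : H33.HalfTrans.St r v = ⊤ := eq_top_iff.2 fun a _ => hv a
    have h3 : H33.HalfTrans.St r w = ⊤ := Subgroup.eq_top_of_card_eq _ (by rw [← h1, h2, Subgroup.card_top])
    have h4 : g ∈ H33.HalfTrans.St r w := h3 ▸ Subgroup.mem_top g
    exact h4
  have h : H33.HalfTrans.Hyp r q p := ⟨hp, hq, hne, hV, hG, hrinj, horb⟩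
  rcases H30.cyclic_or_normal_square_or_invCyclic hG with hcyc | ⟨E, hEn, hEc, hEp, hEcard⟩ | ⟨hp2, hic⟩
  · left
    refine ⟨Or.inl hcyc, h.semiregular fun x _ => ?_⟩
    letI := hcyc.commGroup
    exact Subgroup.mem_center_iff.2 fun g => mul_comm g x
  · haveI := hEn
    rcases eq_or_ne p 2 with hp2 | hp2
    swap
    · exact (h.odd_no_square hp2 E hEc hEp hEcard).elim
    subst hp2
    obtain ⟨b, k, Q, hbb, hQf, hQa, hVQ, hQk, hswap, hfa, hst⟩ := h.two_square E hEc hEp hEcard
    obtain ⟨d, hd⟩ := h.exists_card_pow (H33.HalfTrans.fixA r b)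
    rw [hQf] at hd
    have hqodd : q % 2 = 1 := Nat.odd_iff.1 (hq.odd_of_ne_two hne)
    have hq3 : 3 ≤ q := by have := hq.two_le; omega
    rcases H33.HalfTrans.pow_sub_one_two_pow hqodd hq3 hq (hd.symm.trans hQk) with rfl | h9
    swap
    · right; right; right
      refine ⟨by rw [hVQ, hd, h9], ?_, rfl⟩
      have hdq : q ∣ 3 ^ 2 := by
        rw [show (3 : ℕ) ^ 2 = q ^ d from h9.symm]
        exact dvd_pow_self q (by rintro rfl; simp at h9)
      exact (Nat.prime_dvd_prime_iff_eq hq Nat.prime_three).1 (hq.dvd_of_dvd_pow hdq)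
    right; right; left
    rw [pow_one] at hd
    rw [hd] at hQf hQa hVQ hQk
    refine ⟨by rw [hVQ, pow_two], ⟨k, hQk⟩, ?_⟩
    have hnt : Nontrivial (H33.HalfTrans.fixA r b) :=
      Finite.one_lt_card_iff_nontrivial.1 (by omega)
    obtain ⟨⟨v₀, hv₀⟩, hv₀0'⟩ := exists_ne (0 : H33.HalfTrans.fixA r b)
    have hnt' : Nontrivial (H33.HalfTrans.antiA r b) :=
      Finite.one_lt_card_iff_nontrivial.1 (by omega)
    obtain ⟨⟨w₀, hw₀⟩, hw₀0'⟩ := exists_ne (0 : H33.HalfTrans.antiA r b)
    have hv₀0 : v₀ ≠ 0 := fun e => hv₀0' (Subtype.ext e)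
    have hw₀0 : w₀ ≠ 0 := fun e => hw₀0' (Subtype.ext e)
    have hspanf : ∀ v ∈ H33.HalfTrans.fixA r b, ∃ c : ZMod q, v = c • v₀ := by
      intro v hv
      obtain ⟨n, hn⟩ := mem_zmultiples_of_prime_card (G := H33.HalfTrans.fixA r b) (p := q) hQf
        hv₀0' (g' := ⟨v, hv⟩)
      refine ⟨(n : ZMod q), ?_⟩
      rw [Int.cast_smul_eq_zsmul]
      exact (congrArg Subtype.val hn).symm
    have hspana : ∀ v ∈ H33.HalfTrans.antiA r b, ∃ c : ZMod q, v = c • w₀ := by
      intro v hv
      obtain ⟨n, hn⟩ := mem_zmultiples_of_prime_card (G := H33.HalfTrans.antiA r b) (p := q) hQa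
        hw₀0' (g' := ⟨v, hv⟩)
      refine ⟨(n : ZMod q), ?_⟩
      rw [Int.cast_smul_eq_zsmul]
      exact (congrArg Subtype.val hn).symm
    have hsmf : ∀ c : ZMod q, c • v₀ ∈ H33.HalfTrans.fixA r b := fun c => by
      rw [H33.HalfTrans.mem_fixA, hr, map_smul, ← hr, H33.HalfTrans.mem_fixA.1 hv₀]
    have hsma : ∀ c : ZMod q, c • w₀ ∈ H33.HalfTrans.antiA r b := fun c => by
      rw [H33.HalfTrans.mem_antiA, hr, map_smul, ← hr, H33.HalfTrans.mem_antiA.1 hw₀, smul_neg]
    -- coordinates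
    have h2 : ∀ x y : V, x + x = y + y → x = y := fun x y e => h.two_inj e
    let L : (Fin 2 → ZMod q) →ₗ[ZMod q] V :=
      (LinearMap.proj 0).smulRight v₀ + (LinearMap.proj 1).smulRight w₀
    have hL : ∀ x, L x = x 0 • v₀ + x 1 • w₀ := fun x => rfl
    have hLinj : Function.Injective L := by
      rw [injective_iff_map_eq_zero]
      intro x hx
      rw [hL] at hx
      obtain ⟨e0, e1⟩ := h.add_unique (hsmf _) (zero_mem _) (hsma _) (zero_mem _)
        (hx.trans (add_zero 0).symm)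
      ext i
      fin_cases i
      · exact (smul_eq_zero.1 e0).resolve_right hv₀0
      · exact (smul_eq_zero.1 e1).resolve_right hw₀0
    have hLbij : Function.Bijective L := by
      rw [Nat.bijective_iff_injective_and_card]
      exact ⟨hLinj, by rw [hVQ, Nat.card_fun, Nat.card_zmod, Nat.card_fin, pow_two]⟩
    let e : V ≃ₗ[ZMod q] (Fin 2 → ZMod q) := (LinearEquiv.ofBijective L hLbij).symm
    have hesymm : ∀ x, e.symm x = x 0 • v₀ + x 1 • w₀ := fun x => hL x
    have hev : e v₀ = ![1, 0] := by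
      rw [← e.apply_symm_apply ![1, 0], hesymm]; simp
    have hew : e w₀ = ![0, 1] := by
      rw [← e.apply_symm_apply ![0, 1], hesymm]; simp
    -- value of a map in coordinates
    have hval : ∀ g : G, ∀ a c : ZMod q, ∀ x : Fin 2 → ZMod q,
        (ρ g v₀ = a • v₀ → ρ g w₀ = c • w₀ → (e.symm.trans ((ρ g).trans e)) x = ![a * x 0, c * x 1]) ∧
        (ρ g v₀ = a • w₀ → ρ g w₀ = c • v₀ → (e.symm.trans ((ρ g).trans e)) x = ![c * x 1, a * x 0]) := by
      intro g a c x
      constructor <;> intro e1 e2 <;>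
        · simp only [LinearEquiv.trans_apply, hesymm, map_add, map_smul, e1, e2, hev, hew]
          ext i
          fin_cases i <;> simp [mul_comm]
    -- elements of the two shapes
    have hswap' : ∀ a : ZMod q, a ≠ 0 → ∃ g : G, ρ g v₀ = a • w₀ ∧ ρ g w₀ = a⁻¹ • v₀ := by
      intro a ha
      obtain ⟨g, e1, e2⟩ := hswap v₀ hv₀ (a • w₀) (hsma a) hv₀0 (smul_ne_zero ha hw₀0)
      rw [hr] at e1 e2
      refine ⟨g, e1, ?_⟩
      rw [map_smul] at e2
      rw [← e2, smul_smul, inv_mul_cancel₀ ha, one_smul]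
    have hb₁ : ρ b v₀ = v₀ := hv₀
    have hb₂ : ρ b w₀ = -w₀ := hw₀
    have hmul : ∀ x y v, ρ (x * y) v = ρ x (ρ y v) := fun x y v => H33.HalfTrans.act_mul r x y v
    have hform : ∀ a s : ZMod q, a ≠ 0 → (s = 1 ∨ s = -1) →
        (∃ g : G, ρ g v₀ = a • v₀ ∧ ρ g w₀ = (s * a⁻¹) • w₀) ∧
        (∃ g : G, ρ g v₀ = a • w₀ ∧ ρ g w₀ = (s * a⁻¹) • v₀) := by
      intro a s ha hs
      obtain ⟨g₁, f1, f2⟩ := hswap' 1 one_ne_zero
      rw [one_smul] at f1
      rw [inv_one, one_smul] at f2
      obtain ⟨g, e1, e2⟩ := hswap' a ha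
      rcases hs with rfl | rfl
      · refine ⟨⟨g₁ * g, ?_, ?_⟩, ⟨g, e1, by rw [e2, one_mul]⟩⟩
        · rw [hmul, e1, map_smul, f2]
        · rw [hmul, e2, map_smul, f1, one_mul]
      · refine ⟨⟨b * (g₁ * g), ?_, ?_⟩, ?_⟩
        · rw [hmul, hmul, e1, map_smul, f2, map_smul, hb₁]
        · rw [hmul, hmul, e2, map_smul, f1, map_smul, hb₂, smul_neg, neg_one_mul, neg_smul]
        · obtain ⟨g', e1', e2'⟩ := hswap' (-a) (neg_ne_zero.2 ha)
          refine ⟨b * g', ?_, ?_⟩
          · rw [hmul, e1', map_smul, hb₂, smul_neg, neg_smul, neg_neg]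
          · rw [hmul, e2', map_smul, hb₁, neg_one_mul, inv_neg]
    -- the stabiliser of `v₀`
    have hstab : ∀ g : G, ρ g v₀ = v₀ → g = 1 ∨ g = b := by
      intro g hg
      have h1 := hst v₀ hv₀ w₀ hw₀ hv₀0 hw₀0
      have hK : Nat.card (H33.HalfTrans.St r v₀ ⊓ H33.HalfTrans.St r w₀ : Subgroup G) = 1 := by
        rw [Subgroup.card_eq_one, eq_bot_iff]
        rintro x ⟨hx1, hx2⟩
        refine hρ (LinearEquiv.ext fun u => ?_)
        rw [map_one, LinearEquiv.coe_one, id]
        have hx1' : ρ x v₀ = v₀ := hx1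
        have hx2' : ρ x w₀ = w₀ := hx2
        rw [← e.symm_apply_apply u, hesymm, map_add, map_smul, map_smul, hx1', hx2']
      rw [hK, mul_one] at h1
      have hb1 : b ≠ 1 := fun e1 => hw₀0 (h2 _ _ (by
        have := hb₂
        rw [e1, map_one, LinearEquiv.coe_one, id] at this
        nth_rw 2 [this]
        rw [add_neg_cancel, add_zero]))
      by_contra hc
      push Not at hc
      have hsub : ({1, b, g} : Set G) ⊆ (H33.HalfTrans.St r v₀ : Set G) := by
        rintro x (rfl | rfl | rfl)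
        · exact one_mem _
        · exact hv₀
        · exact hg
      have h3 := Set.ncard_le_ncard hsub (Set.toFinite _)
      rw [Set.ncard_eq_three.2 ⟨1, b, g, hb1.symm, hc.1.symm, hc.2.symm, rfl⟩, ← Nat.card_coe_set_eq] at h3
      exact absurd (h3.trans h1) (by norm_num)
    refine ⟨e, fun f => ⟨?_, ?_⟩⟩
    · rintro ⟨g, rfl⟩
      have hgv0 : ρ g v₀ ≠ 0 := fun e1 => hv₀0 ((ρ g).map_eq_zero_iff.1 e1)
      rcases hfa g v₀ hv₀ with hm | hm
      · obtain ⟨a, ha⟩ := hspanf _ hm
        rw [hr] at ha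
        have ha0 : a ≠ 0 := fun e1 => hgv0 (by rw [ha, e1, zero_smul])
        obtain ⟨g', e1, e2⟩ := (hform a 1 ha0 (Or.inl rfl)).1
        rw [one_mul] at e2
        have hfix : ρ (g'⁻¹ * g) v₀ = v₀ := by
          rw [hmul, ha, ← e1, ← hmul, inv_mul_cancel, map_one, LinearEquiv.coe_one, id]
        obtain ⟨s, hs, hsw⟩ : ∃ s : ZMod q, (s = 1 ∨ s = -1) ∧ ρ g w₀ = (s * a⁻¹) • w₀ := by
          rcases hstab _ hfix with h3 | h3
          · refine ⟨1, Or.inl rfl, ?_⟩
            rw [← mul_inv_cancel_left g' g, h3, mul_one, e2, one_mul]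
          · refine ⟨-1, Or.inr rfl, ?_⟩
            rw [← mul_inv_cancel_left g' g, h3, hmul, hb₂, map_neg, e2, neg_one_mul, neg_smul]
        exact ⟨a, s, ha0, hs, Or.inl fun x => (hval g a _ x).1 ha hsw⟩
      · obtain ⟨a, ha⟩ := hspana _ hm
        rw [hr] at ha
        have ha0 : a ≠ 0 := fun e1 => hgv0 (by rw [ha, e1, zero_smul])
        obtain ⟨g', e1, e2⟩ := (hform a 1 ha0 (Or.inl rfl)).2
        rw [one_mul] at e2
        have hfix : ρ (g'⁻¹ * g) v₀ = v₀ := by
          rw [hmul, ha, ← e1, ← hmul, inv_mul_cancel, map_one, LinearEquiv.coe_one, id]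
        obtain ⟨s, hs, hsw⟩ : ∃ s : ZMod q, (s = 1 ∨ s = -1) ∧ ρ g w₀ = (s * a⁻¹) • v₀ := by
          rcases hstab _ hfix with h3 | h3
          · refine ⟨1, Or.inl rfl, ?_⟩
            rw [← mul_inv_cancel_left g' g, h3, mul_one, e2, one_mul]
          · refine ⟨-1, Or.inr rfl, ?_⟩
            rw [← mul_inv_cancel_left g' g, h3, hmul, hb₂, map_neg, e2, neg_one_mul, neg_smul]
        exact ⟨a, s, ha0, hs, Or.inr fun x => (hval g a _ x).2 ha hsw⟩
    · rintro ⟨a, s, ha, hs, hf | hf⟩
      · obtain ⟨g, e1, e2⟩ := (hform a s ha hs).1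
        exact ⟨g, LinearEquiv.ext fun x => by rw [hf, (hval g a _ x).1 e1 e2]⟩
      · obtain ⟨g, e1, e2⟩ := (hform a s ha hs).2
        exact ⟨g, LinearEquiv.ext fun x => by rw [hf, (hval g a _ x).2 e1 e2]⟩
  · subst hp2
    obtain ⟨u, x, r₀, m, hu, hm, hidx, hx, hxu, hr4⟩ := id hic
    have hGcard : Nat.card G = 2 ^ (m + 1) := by
      rw [← (Subgroup.zpowers u).card_mul_index, hidx, Nat.card_zpowers, hu, pow_succ]
    rcases hic.classify with ⟨k, ⟨φ⟩⟩ | ⟨k, ⟨φ⟩⟩ | hqd
    · -- dihedral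
      have hk : k = 2 ^ m := by
        have h1 := Nat.card_congr φ.toEquiv
        rw [hGcard, DihedralGroup.nat_card, pow_succ] at h1
        omega
      subst hk
      haveI : NeZero (2 ^ m) := ⟨pow_ne_zero _ two_ne_zero⟩
      have hr1 : orderOf (φ.symm (DihedralGroup.r 1)) = 2 ^ m := by
        rw [MulEquiv.orderOf_eq, DihedralGroup.orderOf_r_one]
      obtain ⟨hV2, hq2⟩ := h.inv_cyclic (m := m) (e := 0) (r := 2 ^ m - 1) (φ.symm (DihedralGroup.r 1))
        (φ.symm (DihedralGroup.sr 0)) hm (by norm_num) hr1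
        (by
          have h1 := (Subgroup.zpowers (φ.symm (DihedralGroup.r 1))).card_mul_index
          rw [Nat.card_zpowers, hr1, hGcard, pow_succ] at h1
          exact Nat.eq_of_mul_eq_mul_left (pow_pos two_pos m) h1)
        (by
          intro hc
          obtain ⟨n, hn⟩ := Subgroup.mem_zpowers_iff.1 hc
          have h1 := congrArg φ hn
          rw [map_zpow, φ.apply_symm_apply, φ.apply_symm_apply, DihedralGroup.r_one_zpow] at h1
          exact DihedralGroup.noConfusion rfl (heq_of_eq h1))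
        (by rw [← map_mul, DihedralGroup.sr_mul_self, map_one])
        (by
          rw [← map_inv, ← map_mul, ← map_mul, ← map_pow, DihedralGroup.r_one_pow]
          congr 1
          rw [DihedralGroup.inv_sr, DihedralGroup.sr_mul_r, DihedralGroup.sr_mul_sr]
          congr 1
          rw [Nat.cast_sub Nat.one_le_two_pow, ZMod.natCast_self]
          simp)
        (by rw [Nat.sub_zero, Nat.sub_add_cancel Nat.one_le_two_pow])
      rw [Nat.sub_zero] at hq2
      right; left
      exact ⟨hV2, m, by omega, Or.inl ⟨φ⟩⟩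
    · -- quaternion
      left
      haveI : NeZero k := ⟨fun hk => by
        have h1 := Nat.card_congr φ.toEquiv
        subst hk
        haveI : Infinite (ZMod (2 * 0)) := (inferInstance : Infinite ℤ)
        haveI : Infinite (QuaternionGroup 0) := Infinite.of_injective QuaternionGroup.a
          (fun a b e1 => QuaternionGroup.a.inj e1)
        rw [Nat.card_eq_zero_of_infinite (α := QuaternionGroup 0)] at h1
        exact Nat.card_pos.ne' h1⟩
      refine ⟨Or.inr ⟨k, ⟨φ⟩⟩, h.semiregular fun y hy => Subgroup.mem_center_iff.2 fun g => ?_⟩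
      have h1 := H70.quaternion_involution_eq (g := φ (g * y * g⁻¹)) (by
        rw [MulEquiv.orderOf_eq, show g * y * g⁻¹ = MulAut.conj g y from rfl, MulEquiv.orderOf_eq, hy])
      have h2 := H70.quaternion_involution_eq (g := φ y) (by rw [MulEquiv.orderOf_eq, hy])
      have h3 := φ.injective (h1.trans h2.symm)
      exact (mul_inv_eq_iff_eq_mul.1 h3)
    · -- semidihedral
      obtain ⟨n, hn, hcard, a, y, ha, hy, hya⟩ := id hqd
      have hnm : n = m := by
        have h1 := hGcard.symm.trans hcard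
        have := Nat.pow_right_injective (le_refl 2) h1
        omega
      subst hnm
      obtain ⟨hV2, hq2⟩ := h.inv_cyclic (m := n) (e := 1) (r := 2 ^ (n - 1) - 1) a y hn le_rfl ha
        (by
          have h1 := (Subgroup.zpowers a).card_mul_index
          rw [Nat.card_zpowers, ha, hGcard, pow_succ] at h1
          exact Nat.eq_of_mul_eq_mul_left (pow_pos two_pos n) h1)
        (by
          intro hc
          obtain ⟨i, hi⟩ := Subgroup.mem_zpowers_iff.1 hc
          have h1 : y * a * y⁻¹ = a := by rw [← hi]; group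
          rw [hya] at h1
          nth_rw 2 [← pow_one a] at h1
          rw [pow_inj_mod, ha, Nat.mod_eq_of_lt, Nat.mod_eq_of_lt (Nat.one_lt_two_pow (by omega))] at h1
          · have : 4 ≤ 2 ^ (n - 1) := by
              calc 4 = 2 ^ 2 := by norm_num
                _ ≤ 2 ^ (n - 1) := Nat.pow_le_pow_right two_pos (by omega)
            omega
          · have : 2 ^ (n - 1) < 2 ^ n := Nat.pow_lt_pow_right one_lt_two (by omega)
            omega)
        (by rw [← pow_two, ← hy, pow_orderOf_eq_one]) hya (Nat.sub_add_cancel Nat.one_le_two_pow)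
      right; left
      refine ⟨hV2, n - 1, by omega, Or.inr ⟨hqd, ?_⟩⟩
      rw [hcard, show n - 1 + 2 = n + 1 by omega]

end Cfsg.Agent.S3371
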