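import Cfsg.Statements.S3374
import Cfsg.Agent.H59.SL25

set_option autoImplicit false
open Cfsg
open scoped Pointwise

namespace Cfsg.Agent.S3374

abbrev Vgrp := Multiplicative (Fin 2 → ZMod 11)

/-- matrix action as automorphisms of the translation group -/
noncomputable def act : H59.SL25 →* MulAut Vgrp where
  toFun g := AddEquiv.toMultiplicative (Matrix.SpecialLinearGroup.toLin' (H59.sl25To11 g)).toAddEquiv
  map_one' := by
    ext v i
    simp [map_one]
  map_mul' g h := by
    ext v i
    simp [map_mul]

lemma act_apply (g : H59.SL25) (v : Vgrp) :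
    Multiplicative.toAdd (act g v) = Matrix.mulVec ((H59.sl25To11 g : H59.SL211) : Matrix (Fin 2) (Fin 2) (ZMod 11)) (Multiplicative.toAdd v) := rfl

theorem result :
    ∃ (L : Type) (_ : Group L) (_ : Finite L) (H : Subgroup L),
      Cfsg.IsFrobeniusComplement H ∧ Nonempty (H ≃* Matrix.SpecialLinearGroup (Fin 2) (ZMod 5)) := by
  haveI : Finite (Vgrp ⋊[act] H59.SL25) := Finite.of_equiv _ SemidirectProduct.equivProd.symm
  refine ⟨Vgrp ⋊[act] H59.SL25, inferInstance, inferInstance, (SemidirectProduct.inr).range, ?_,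
    ⟨(MonoidHom.ofInjective SemidirectProduct.inr_injective).symm⟩⟩
  refine ⟨?_, ?_, ?_⟩
  · intro h
    have hm : (SemidirectProduct.inr H59.gS5 : Vgrp ⋊[act] H59.SL25) ∈ (SemidirectProduct.inr : _ →* Vgrp ⋊[act] H59.SL25).range := ⟨_, rfl⟩
    rw [h, Subgroup.mem_bot] at hm
    have : H59.gS5 = 1 := by simpa using congrArg SemidirectProduct.right hm
    have h01 := congrArg (fun x : H59.SL25 => x 0 1) this
    revert h01
    decide
  · intro h
    have hm : (SemidirectProduct.inl (Multiplicative.ofAdd (fun _ => 1)) : Vgrp ⋊[act] H59.SL25) ∈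
        (SemidirectProduct.inr : _ →* Vgrp ⋊[act] H59.SL25).range := by rw [h]; exact Subgroup.mem_top _
    obtain ⟨s, hs⟩ := hm
    have h0 := congrArg (fun x : Vgrp ⋊[act] H59.SL25 => Multiplicative.toAdd x.left 0) hs
    simp at h0
    revert h0
    decide
  · intro g hg
    rw [eq_bot_iff]
    intro x hx
    obtain ⟨⟨s, rfl⟩, hx2⟩ := Subgroup.mem_inf.1 hx
    rw [Subgroup.mem_pointwise_smul_iff_inv_smul_mem, ← map_inv, MulAut.smul_def, MulAut.conj_apply, inv_inv] at hx2
    obtain ⟨u, hu⟩ := hx2
    have hl : Multiplicative.toAdd (g⁻¹ * SemidirectProduct.inr s * g).left = 0 := by rw [← hu]; rfl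
    rw [Subgroup.mem_bot]
    by_contra hne
    have hs1 : s ≠ 1 := fun e => hne (by rw [e, map_one])
    have hv : Multiplicative.toAdd g.left = 0 := by
      apply H59.sl25To11_fpf hs1
      simp only [SemidirectProduct.mul_left, SemidirectProduct.inv_left, SemidirectProduct.inv_right,
        SemidirectProduct.mul_right, SemidirectProduct.left_inr, SemidirectProduct.right_inr, map_one, mul_one, map_mul,
        MulAut.mul_apply, toAdd_mul, toAdd_one] at hl
      have h2 : act g.right⁻¹ (g.left⁻¹ * act s g.left) = 1 := by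
        apply Multiplicative.toAdd.injective
        rw [map_mul, toAdd_mul, toAdd_one]
        exact hl
      rw [MulEquiv.map_eq_one_iff, inv_mul_eq_one] at h2
      rw [← act_apply]; exact (congrArg Multiplicative.toAdd h2).symm
    apply hg
    refine ⟨g.right, SemidirectProduct.ext ?_ ?_⟩
    · exact (Multiplicative.toAdd.injective (hv.trans toAdd_one.symm)).symm
    · simp

end Cfsg.Agent.S3374
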