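import Cfsg.Statements.S3376
import Cfsg.Agent.H59.Wreath162

set_option autoImplicit false
open Cfsg

namespace Cfsg.Agent.S3376

theorem cube_shift_add {A : Type*} [AddCommGroup A] (u : A →+ A) (h3 : ∀ z : A, 3 • z = 0) (z : A) :
    u (u (u z - z) - (u z - z)) - (u (u z - z) - (u z - z)) = u (u (u z)) - z := by
  simp only [map_sub]
  have e : u (u (u z)) - u (u z) - (u (u z) - u z) - (u (u z) - u z - (u z - z))
      = u (u (u z)) - z - 3 • u (u z) + 3 • u z := by abel
  rw [e, h3, h3, sub_zero, add_zero]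

/-- in a group of exponent `3` the third power of `z ↦ u z / z` is `z ↦ u³ z / z` -/
theorem cube_shift {A : Type*} [CommGroup A] (u : A →* A) (h3 : ∀ z : A, z ^ 3 = 1) (z : A) :
    u (u (u z / z) / (u z / z)) / (u (u z / z) / (u z / z)) = u (u (u z)) / z :=
  cube_shift_add (A := Additive A) (MonoidHom.toAdditive u) (fun z => h3 z) z

theorem sq_shift_add {A : Type*} [AddCommGroup A] (u : A →+ A) (h3 : ∀ z : A, 3 • z = 0) (z : A) :
    u (u z - z) - (u z - z) = z + u z + u (u z) := by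
  simp only [map_sub]
  have e : u (u z) - u z - (u z - z) = z + u z + u (u z) - 3 • u z := by abel
  rw [e, h3, sub_zero]

/-- in a group of exponent `3` the square of `z ↦ u z / z` is the norm -/
theorem sq_shift {A : Type*} [CommGroup A] (u : A →* A) (h3 : ∀ z : A, z ^ 3 = 1) (z : A) :
    u (u z / z) / (u z / z) = z * u z * u (u z) :=
  sq_shift_add (A := Additive A) (MonoidHom.toAdditive u) (fun z => h3 z) z

abbrev c0 : Equiv.Perm (Fin 9) :=
  Equiv.swap 0 1 * Equiv.swap 1 2 * Equiv.swap 3 4 * Equiv.swap 4 5 * Equiv.swap 6 7 * Equiv.swap 7 8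

abbrev C := Subgroup.centralizer ({c0} : Set (Equiv.Perm (Fin 9)))

def mkC (x : Equiv.Perm (Fin 9)) (hx : x * c0 = c0 * x) : C :=
  ⟨x, Subgroup.mem_centralizer_singleton_iff.2 hx⟩

def a' : C := mkC (Equiv.swap 0 1 * Equiv.swap 1 2) (by decide +kernel)
def b' : C := mkC (Equiv.swap 3 4 * Equiv.swap 4 5) (by decide +kernel)
def c' : C := mkC (Equiv.swap 6 7 * Equiv.swap 7 8) (by decide +kernel)
def s' : C := mkC (Equiv.swap 0 3 * Equiv.swap 3 6 * (Equiv.swap 1 4 * Equiv.swap 4 7) * (Equiv.swap 2 5 * Equiv.swap 5 8)) (by decide +kernel)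
def t' : C := mkC (Equiv.swap 3 6 * Equiv.swap 4 7 * Equiv.swap 5 8) (by decide +kernel)

theorem model : H59.W162 a' b' c' s' t' := by
  constructor <;> first
    | (apply Subtype.ext; decide +kernel)
    | (show _ * _ = _ * _; apply Subtype.ext; decide +kernel)

theorem f_coe (q : H59.I162) : ((H59.f162 a' b' c' s' t' q : C) : Equiv.Perm (Fin 9))
    = H59.f162 (a' : Equiv.Perm (Fin 9)) b' c' s' t' q := by
  simp [H59.f162]

theorem model_evals : ((List.finRange 3).flatMap fun i => (List.finRange 3).flatMap fun j => (List.finRange 3).flatMap fun k =>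
    (List.finRange 3).flatMap fun m => (List.finRange 2).map fun e =>
      ((H59.f162 (a' : Equiv.Perm (Fin 9)) b' c' s' t' (i, j, k, m, e)) 0,
       (H59.f162 (a' : Equiv.Perm (Fin 9)) b' c' s' t' (i, j, k, m, e)) 3,
       (H59.f162 (a' : Equiv.Perm (Fin 9)) b' c' s' t' (i, j, k, m, e)) 6)).Nodup := by
  decide +kernel

theorem model_inj : Function.Injective (H59.f162 a' b' c' s' t') := by
  intro p q hpq
  have h := congrArg (fun x : C => ((x : Equiv.Perm (Fin 9)) 0, (x : Equiv.Perm (Fin 9)) 3, (x : Equiv.Perm (Fin 9)) 6)) hpq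
  simp only [f_coe] at h
  have hn : (((List.finRange 3).flatMap fun i => (List.finRange 3).flatMap fun j => (List.finRange 3).flatMap fun k =>
      (List.finRange 3).flatMap fun m => (List.finRange 2).map fun e => ((i, j, k, m, e) : H59.I162)).map
      (fun q => ((H59.f162 (a' : Equiv.Perm (Fin 9)) b' c' s' t' q) 0,
       (H59.f162 (a' : Equiv.Perm (Fin 9)) b' c' s' t' q) 3,
       (H59.f162 (a' : Equiv.Perm (Fin 9)) b' c' s' t' q) 6))).Nodup := by
    simpa only [List.map_flatMap, List.map_map, Function.comp_def] using model_evals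
  refine List.inj_on_of_nodup_map hn ?_ ?_ h
  all_goals
    simp only [List.mem_flatMap, List.mem_map, List.mem_finRange, true_and]
  · exact ⟨p.1, p.2.1, p.2.2.1, p.2.2.2.1, p.2.2.2.2, rfl⟩
  · exact ⟨q.1, q.2.1, q.2.2.1, q.2.2.2.1, q.2.2.2.2, rfl⟩

theorem card_C : Nat.card C = 162 := by
  rw [Equiv.Perm.nat_card_centralizer]
  have h : c0.cycleType = {3, 3, 3} := by decide +kernel
  rw [h]
  decide +kernel

theorem result {G : Type*} [Group G] [Finite G] (hG : Nat.card G = 162)
    (S : Sylow 3 G) (T : Sylow 2 G) (J : Subgroup G) [hJn : J.Normal] (hJcomm : IsMulCommutative J)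
    (hJexp : ∀ a ∈ J, a ^ 3 = 1) (hJcard : Nat.card J = 27)
    (Z : Subgroup G) (hZ : Z = (S : Subgroup G) ⊓ Subgroup.centralizer ((S : Subgroup G) : Set G)) (hZcard : Nat.card Z = 3)
    (hZT : Z ≤ Subgroup.centralizer ((T : Subgroup G) : Set G))
    (hST : (S : Subgroup G) ⊓ Subgroup.centralizer ((T : Subgroup G) : Set G) ≠ S) :
    Nonempty (G ≃* Subgroup.centralizer ({Equiv.swap (0 : Fin 9) 1 * Equiv.swap 1 2 * Equiv.swap 3 4 * Equiv.swap 4 5 * Equiv.swap 6 7 * Equiv.swap 7 8} : Set (Equiv.Perm (Fin 9)))) := by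
  classical
  haveI : Fact (Nat.Prime 3) := ⟨Nat.prime_three⟩
  haveI : Fact (Nat.Prime 2) := ⟨Nat.prime_two⟩
  have hScard : Nat.card (S : Subgroup G) = 81 := by
    rw [S.card_eq_multiplicity, hG]
    have : (162 : ℕ).factorization 3 = 4 := by
      rw [show (162 : ℕ) = 2 * 3 ^ 4 by norm_num, Nat.factorization_mul (by norm_num) (by norm_num),
        Finsupp.add_apply, Nat.prime_three.factorization_pow, Finsupp.single_eq_same,
        Nat.factorization_eq_zero_of_not_dvd (by norm_num)]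
    rw [this]; norm_num
  have hTcard : Nat.card (T : Subgroup G) = 2 := by
    rw [T.card_eq_multiplicity, hG]
    have : (162 : ℕ).factorization 2 = 1 := by
      rw [show (162 : ℕ) = 2 ^ 1 * 81 by norm_num, Nat.factorization_mul (by norm_num) (by norm_num),
        Finsupp.add_apply, Nat.prime_two.factorization_pow, Finsupp.single_eq_same,
        Nat.factorization_eq_zero_of_not_dvd (by norm_num)]
    rw [this]; norm_num
  have hSidx : (S : Subgroup G).index = 2 := by
    have := Subgroup.card_mul_index (S : Subgroup G)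
    rw [hScard, hG] at this; omega
  haveI hSn : (S : Subgroup G).Normal := Subgroup.normal_of_index_eq_two hSidx
  -- J ≤ S
  have hJS : J ≤ (S : Subgroup G) := by
    obtain ⟨S', hS'⟩ := (IsPGroup.of_card (n := 3) (by rw [hJcard]; norm_num) : IsPGroup 3 J).exists_le_sylow
    haveI := Sylow.unique_of_normal S hSn
    rwa [Subsingleton.elim S' S] at hS'
  have hJab : ∀ x ∈ J, ∀ y ∈ J, x * y = y * x := fun x hx y hy =>
    congrArg Subtype.val (mul_comm' (⟨x, hx⟩ : J) ⟨y, hy⟩)
  -- the involution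
  obtain ⟨t, htT, ht1⟩ : ∃ t ∈ (T : Subgroup G), t ≠ 1 := by
    by_contra! h
    have : (T : Subgroup G) = ⊥ := (Subgroup.eq_bot_iff_forall _).2 h
    rw [this, Subgroup.card_bot] at hTcard; omega
  have hTeq : ∀ x ∈ (T : Subgroup G), x = 1 ∨ x = t := by
    intro x hx
    by_cases h : x = 1
    · exact Or.inl h
    right
    have := (Nat.card_eq_two_iff' (1 : (T : Subgroup G))).1 hTcard
    exact congrArg Subtype.val (this.unique (y₁ := ⟨x, hx⟩) (y₂ := ⟨t, htT⟩)
      (fun e => h (congrArg Subtype.val e)) (fun e => ht1 (congrArg Subtype.val e)))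
  have ht2 : t ^ 2 = 1 := by
    have : (⟨t, htT⟩ : (T : Subgroup G)) ^ 2 = 1 := by
      have h := pow_card_eq_one' (x := (⟨t, htT⟩ : (T : Subgroup G)))
      rwa [hTcard] at h
    exact congrArg Subtype.val this
  have ht2' : t⁻¹ = t := by rw [inv_eq_iff_mul_eq_one, ← pow_two, ht2]
  have hnS : ∀ g : G, ∀ x ∈ (S : Subgroup G), g * x * g⁻¹ ∈ (S : Subgroup G) := fun g x hx => hSn.conj_mem x hx g
  have hnJ : ∀ g : G, ∀ x ∈ J, g * x * g⁻¹ ∈ J := fun g x hx => hJn.conj_mem x hx g
  -- powers of three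
  have hSpow : ∀ x ∈ (S : Subgroup G), x ^ 81 = 1 := by
    intro x hx
    have : (⟨x, hx⟩ : (S : Subgroup G)) ^ 81 = 1 := by
      have h := pow_card_eq_one' (x := (⟨x, hx⟩ : (S : Subgroup G)))
      rwa [hScard] at h
    exact congrArg Subtype.val this
  have hJidx : (J.subgroupOf (S : Subgroup G)).index = 3 := by
    have h := Subgroup.card_mul_index (J.subgroupOf (S : Subgroup G))
    rw [Nat.card_congr (Subgroup.subgroupOfEquivOfLe hJS).toEquiv, hJcard, hScard] at h; omega
  have hcube : ∀ x ∈ (S : Subgroup G), x ^ 3 ∈ J := by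
    intro x hx
    haveI : (J.subgroupOf (S : Subgroup G)).Normal := hJn.subgroupOf _
    have := Subgroup.pow_index_mem (J.subgroupOf (S : Subgroup G)) (⟨x, hx⟩ : (S : Subgroup G))
    rw [hJidx] at this
    exact this
  -- every element of S outside J generates S with J
  have hgenS : ∀ s ∈ (S : Subgroup G), s ∉ J → ∀ x ∈ (S : Subgroup G), ∃ j ∈ J, ∃ k : ℕ, x = j * s ^ k := by
    intro s hs hsJ x hx
    have hle : J ⊔ Subgroup.zpowers s ≤ (S : Subgroup G) := sup_le hJS (Subgroup.zpowers_le.2 hs)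
    have hlt : J < J ⊔ Subgroup.zpowers s :=
      lt_of_le_of_ne le_sup_left fun e => hsJ (by rw [e]; exact Subgroup.mem_sup_right (Subgroup.mem_zpowers s))
    have hd := Subgroup.card_dvd_of_le hle
    have hd2 := Subgroup.card_dvd_of_le hlt.le
    rw [hScard] at hd
    rw [hJcard] at hd2
    have hne : Nat.card (J ⊔ Subgroup.zpowers s : Subgroup G) ≠ 27 := fun e =>
      hlt.ne (Subgroup.eq_of_le_of_card_ge hlt.le (by rw [e, hJcard]))
    obtain ⟨k, hk⟩ := hd2
    rw [hk] at hd hne
    have hk3 : k ∣ 3 := Nat.dvd_of_mul_dvd_mul_left (by norm_num : 0 < 27) (by simpa using hd)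
    have heq : J ⊔ Subgroup.zpowers s = (S : Subgroup G) := by
      refine Subgroup.eq_of_le_of_card_ge hle ?_
      rcases (Nat.dvd_prime Nat.prime_three).1 hk3 with rfl | rfl
      · exact absurd rfl hne
      · rw [hk, hScard]
    rw [← heq, ← SetLike.mem_coe, Subgroup.normal_mul, Set.mem_mul] at hx
    obtain ⟨j, hj, z, hz, rfl⟩ := hx
    obtain ⟨k', hk'⟩ := (mem_powers_iff_mem_zpowers (x := s)).2 hz
    exact ⟨j, hj, k', by simp only at hk'; rw [hk']⟩
  -- an element inverted by t outside J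
  obtain ⟨s, hsS, hsJ, hts⟩ : ∃ s, s ∈ (S : Subgroup G) ∧ s ∉ J ∧ t * s * t⁻¹ = s⁻¹ := by
    -- x⁻¹ t x t⁻¹ is inverted by t
    by_contra! hcon
    apply hST
    refine le_antisymm inf_le_left fun x hx => ⟨hx, ?_⟩
    have hin : ∀ x ∈ (S : Subgroup G), x⁻¹ * (t * x * t⁻¹) ∈ J := by
      intro x hx
      by_contra hn
      exact hcon _ (mul_mem (inv_mem hx) (hnS t x hx)) hn (by
        rw [show t * (x⁻¹ * (t * x * t⁻¹)) * t⁻¹ = (t * x⁻¹ * t⁻¹) * ((t * t) * x * (t⁻¹ * t⁻¹)) by group, ← pow_two, ← mul_inv_rev, ← pow_two, ht2]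
        group)
    -- some element of S outside J
    obtain ⟨w, hw, hwJ⟩ : ∃ w ∈ (S : Subgroup G), w ∉ J := by
      by_contra! h
      have := Subgroup.card_le_of_le (show (S : Subgroup G) ≤ J from h)
      omega
    -- Z ≤ J
    have hZJ : ∀ z ∈ Z, z ∈ J := by
      intro z hz
      rw [hZ] at hz
      by_contra hn
      have hsub : (S : Subgroup G) ≤ Subgroup.centralizer ((S : Subgroup G) : Set G) := by
        intro u hu
        obtain ⟨j, hj, k, rfl⟩ := hgenS z hz.1 hn u hu
        refine mul_mem ?_ (pow_mem hz.2 k)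
        rw [Subgroup.mem_centralizer_iff]
        intro v hv
        obtain ⟨j', hj', k', rfl⟩ := hgenS z hz.1 hn v hv
        have hc : Commute z j := (Subgroup.mem_centralizer_iff.1 hz.2 j (hJS hj)).symm
        show j' * z ^ k' * j = j * (j' * z ^ k')
        rw [mul_assoc, (hc.pow_left k').eq, ← mul_assoc, hJab j' hj' j hj, mul_assoc]
      have hle : (S : Subgroup G) ≤ Z := by rw [hZ]; exact fun u hu => ⟨hu, hsub hu⟩
      have := Subgroup.card_le_of_le hle
      omega
    -- t fixes the layers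
    have hfixZ : ∀ z ∈ Z, t * z * t⁻¹ = z := by
      intro z hz
      rw [Subgroup.mem_centralizer_iff.1 (hZT hz) t htT, mul_inv_cancel_right]
    -- commutation with w
    let κ : G → G := fun x => w * x * w⁻¹ * x⁻¹
    have hκJ : ∀ x ∈ J, κ x ∈ J := fun x hx => mul_mem (hnJ w x hx) (inv_mem hx)
    have hκmul : ∀ x ∈ J, ∀ y ∈ J, κ (x * y) = κ x * κ y := by
      intro x hx y hy
      have h1 := hJab (w * y * w⁻¹ * y⁻¹) (hκJ y hy) x⁻¹ (inv_mem hx)
      show w * (x * y) * w⁻¹ * (x * y)⁻¹ = w * x * w⁻¹ * x⁻¹ * (w * y * w⁻¹ * y⁻¹)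
      rw [show w * (x * y) * w⁻¹ * (x * y)⁻¹ = w * x * w⁻¹ * ((w * y * w⁻¹ * y⁻¹) * x⁻¹) by group, h1]
      group
    have hκt : ∀ x ∈ J, κ (t * x * t⁻¹) = t * κ x * t⁻¹ := by
      intro x hx
      obtain ⟨j, hj, hjeq⟩ : ∃ j ∈ J, t * w * t⁻¹ = w * j :=
        ⟨w⁻¹ * (t * w * t⁻¹), hin w hw, by group⟩
      have hc := hJab j hj (t * x * t⁻¹) (hnJ t x hx)
      show w * (t * x * t⁻¹) * w⁻¹ * (t * x * t⁻¹)⁻¹ = t * (w * x * w⁻¹ * x⁻¹) * t⁻¹
      rw [show t * (w * x * w⁻¹ * x⁻¹) * t⁻¹ = (t * w * t⁻¹) * (t * x * t⁻¹) * (t * w * t⁻¹)⁻¹ * (t * x * t⁻¹)⁻¹ by group, hjeq,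
        mul_assoc w j, hc]
      group
    -- centraliser of w in J is Z
    have hker : ∀ x ∈ J, κ x = 1 → x ∈ Z := by
      intro x hx hk
      have hwx : Commute w x := by
        have : w * x * w⁻¹ * x⁻¹ = 1 := hk
        rw [mul_inv_eq_one, mul_inv_eq_iff_eq_mul] at this
        exact this
      rw [hZ]
      refine ⟨hJS hx, ?_⟩
      refine Subgroup.mem_centralizer_iff.2 ?_
      intro v hv
      obtain ⟨j, hj, k, rfl⟩ := hgenS w hw hwJ v hv
      rw [mul_assoc, (hwx.pow_left k).eq, ← mul_assoc, hJab j hj x hx, mul_assoc]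
    have hhalf : ∀ x ∈ J, t * x * t⁻¹ = x⁻¹ → t * x * t⁻¹ = x → x = 1 := by
      intro x hx h1 h2
      have h3 := hJexp x hx
      rw [h1] at h2
      have : x * x = 1 := by rw [← inv_mul_cancel x, h2]
      rw [pow_succ, pow_two, this, one_mul] at h3
      exact h3
    -- antifixed elements of J are trivial, by induction on the layers
    have hlay : ∀ x ∈ J, t * x * t⁻¹ = x⁻¹ → κ x ∈ Z → x = 1 := by
      intro x hx hinv hk
      have h1 : t * κ x * t⁻¹ = (κ x)⁻¹ := by
        rw [← hκt x hx, hinv]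
        have := hκmul x hx x⁻¹ (inv_mem hx)
        rw [mul_inv_cancel, show κ 1 = 1 by simp [κ]] at this
        exact eq_inv_of_mul_eq_one_right this.symm
      have h2 : κ x = 1 := hhalf _ (hκJ x hx) h1 (hfixZ _ hk)
      exact hhalf x hx hinv (hfixZ x (hker x hx h2))
    have hlay2 : ∀ x ∈ J, t * x * t⁻¹ = x⁻¹ → x = 1 := by
      intro x hx hinv
      have hk3 : κ (κ (κ x)) = 1 := by
        haveI := hJcomm
        letI : CommGroup J := { (inferInstance : Group J) with mul_comm := mul_comm' }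
        let u : J →* J :=
          { toFun := fun z => ⟨w * z * w⁻¹, hnJ w z z.2⟩
            map_one' := Subtype.ext (by simp)
            map_mul' := fun z z' => Subtype.ext (by
              show w * ((z : G) * z') * w⁻¹ = (w * z * w⁻¹) * (w * z' * w⁻¹); group) }
        have hd : ∀ z z' : J, ((z / z' : J) : G) = z * (z' : G)⁻¹ := fun z z' => by
          rw [div_eq_mul_inv]; rfl
        have hκu : ∀ z : J, κ (z : G) = ((u z / z : J) : G) := fun z => (hd (u z) z).symm
        rw [show x = ((⟨x, hx⟩ : J) : G) from rfl, hκu, hκu, hκu,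
          cube_shift u (fun z => Subtype.ext (hJexp z z.2)), hd]
        show w * (w * (w * x * w⁻¹) * w⁻¹) * w⁻¹ * x⁻¹ = 1
        rw [show w * (w * (w * x * w⁻¹) * w⁻¹) * w⁻¹ = w ^ 3 * x * (w ^ 3)⁻¹ by simp [pow_succ, mul_assoc],
          hJab _ (hcube w hw) x hx, mul_inv_cancel_right, mul_inv_cancel]
      have hkZ : κ (κ x) ∈ Z := hker _ (hκJ _ (hκJ x hx)) hk3
      have hneg : t * κ x * t⁻¹ = (κ x)⁻¹ := by
        rw [← hκt x hx, hinv]
        have := hκmul x hx x⁻¹ (inv_mem hx)
        rw [mul_inv_cancel, show κ 1 = 1 by simp [κ]] at this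
        exact eq_inv_of_mul_eq_one_right this.symm
      have : κ x = 1 := hlay _ (hκJ x hx) hneg hkZ
      exact hlay x hx hinv (by rw [this]; exact one_mem Z)
    refine Subgroup.mem_centralizer_iff.2 ?_
    intro y hy
    rcases hTeq y hy with h | h <;> rw [h]
    · simp
    have := hlay2 _ (hin x hx) (by
      rw [show t * (x⁻¹ * (t * x * t⁻¹)) * t⁻¹ = (t * x⁻¹ * t⁻¹) * ((t * t) * x * (t⁻¹ * t⁻¹)) by group, ← pow_two, ← mul_inv_rev, ← pow_two, ht2]
      group)
    rw [inv_mul_eq_one] at this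
    calc t * x = (t * x * t⁻¹) * t := by group
      _ = x * t := by rw [← this]
  have hs3 : s ^ 3 = 1 := by
    have hJ3 := hcube s hsS
    have hZ3 : s ^ 3 ∈ Z := by
      rw [hZ]
      refine ⟨hJS hJ3, ?_⟩
      refine Subgroup.mem_centralizer_iff.2 ?_
      intro v hv
      obtain ⟨j, hj, k, rfl⟩ := hgenS s hsS hsJ v hv
      rw [mul_assoc, ← pow_add, Nat.add_comm, pow_add, ← mul_assoc, hJab j hj _ hJ3, mul_assoc]
    have hfix : t * s ^ 3 * t⁻¹ = s ^ 3 := by
      rw [Subgroup.mem_centralizer_iff.1 (hZT hZ3) t htT, mul_inv_cancel_right]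
    have hflip : t * s ^ 3 * t⁻¹ = (s ^ 3)⁻¹ := by rw [← conj_pow, hts, inv_pow]
    rw [hflip] at hfix
    have h2 : (s ^ 3) * (s ^ 3) = 1 := by rw [← inv_mul_cancel (s ^ 3), hfix]
    have h81 := hSpow s hsS
    rw [show (81 : ℕ) = (3 + 3) * 13 + 3 by norm_num, pow_add, pow_mul, pow_add s 3 3, h2, one_pow, one_mul] at h81
    exact h81
  have hs_inv : s⁻¹ = s ^ 2 := by rw [inv_eq_iff_mul_eq_one, ← pow_succ', hs3]
  -- a generator of J fixed by t
  set N : G → G := fun x => x * (s * x * s⁻¹) * (s ^ 2 * x * (s ^ 2)⁻¹) with hN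
  obtain ⟨a, haJ, hta, hNa⟩ : ∃ a, a ∈ J ∧ t * a * t⁻¹ = a ∧ N a ≠ 1 := by
    haveI := hJcomm
    letI : CommGroup J := { (inferInstance : Group J) with mul_comm := mul_comm' }
    let u : J →* J :=
      { toFun := fun z => ⟨s * z * s⁻¹, hnJ s z z.2⟩
        map_one' := Subtype.ext (by simp)
        map_mul' := fun z z' => Subtype.ext (by
          show s * ((z : G) * z') * s⁻¹ = (s * z * s⁻¹) * (s * z' * s⁻¹); group) }
    let τ : J →* J :=
      { toFun := fun z => ⟨t * z * t⁻¹, hnJ t z z.2⟩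
        map_one' := Subtype.ext (by simp)
        map_mul' := fun z z' => Subtype.ext (by
          show t * ((z : G) * z') * t⁻¹ = (t * z * t⁻¹) * (t * z' * t⁻¹); group) }
    let f : J →* J := u / MonoidHom.id J
    have hu3 : ∀ z, u (u (u z)) = z := fun z => Subtype.ext (by
      show s * (s * (s * (z : G) * s⁻¹) * s⁻¹) * s⁻¹ = z
      rw [show s * (s * (s * (z : G) * s⁻¹) * s⁻¹) * s⁻¹ = s ^ 3 * z * (s ^ 3)⁻¹ by simp [pow_succ, mul_assoc], hs3]
      simp)
    have hexp : ∀ z : J, z * z * z = 1 := fun z => Subtype.ext (by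
      have := hJexp z z.2; rwa [pow_succ, pow_two] at this)
    have hf : ∀ z, f z = u z * z⁻¹ := fun z => div_eq_mul_inv _ _
    have hkerle : Nat.card f.ker ≤ 3 := by
      have hle : f.ker.map J.subtype ≤ Z := by
        rintro _ ⟨z, hz, rfl⟩
        rw [SetLike.mem_coe, MonoidHom.mem_ker, hf, mul_inv_eq_one] at hz
        rw [hZ]
        refine ⟨hJS z.2, ?_⟩
        refine Subgroup.mem_centralizer_iff.2 ?_
        intro v hv
        obtain ⟨j, hj, k, rfl⟩ := hgenS s hsS hsJ v hv
        have hc : Commute s (z : G) := mul_inv_eq_iff_eq_mul.1 (congrArg Subtype.val hz)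
        show j * s ^ k * (z : G) = (z : G) * (j * s ^ k)
        rw [mul_assoc, (hc.pow_left k).eq, ← mul_assoc, hJab j hj z z.2, mul_assoc]
      have := Subgroup.card_le_of_le hle
      rwa [Subgroup.card_map_of_injective J.subtype_injective, hZcard] at this
    obtain ⟨z₀, hz₀⟩ : ∃ z₀, f (f z₀) ≠ 1 := by
      by_contra! h
      have hle : f.range ≤ f.ker := by rintro _ ⟨z, rfl⟩; exact h z
      have h1 := Subgroup.card_le_of_le hle
      have h2 := Subgroup.card_mul_index f.ker
      rw [Subgroup.index_ker, hJcard] at h2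
      nlinarith
    have hff : ∀ z, f (f z) = z * u z * u (u z) := fun z =>
      sq_shift u (fun w => Subtype.ext (hJexp w w.2)) z
    have hτu : ∀ z, τ (u z) = u (u (τ z)) := fun z => Subtype.ext (by
      show t * (s * (z : G) * s⁻¹) * t⁻¹ = s * (s * (t * z * t⁻¹) * s⁻¹) * s⁻¹
      rw [show t * (s * (z : G) * s⁻¹) * t⁻¹ = (t * s * t⁻¹) * (t * z * t⁻¹) * (t * s * t⁻¹)⁻¹ by group, hts,
        show s * (s * (t * (z : G) * t⁻¹) * s⁻¹) * s⁻¹ = s ^ 2 * (t * z * t⁻¹) * (s ^ 2)⁻¹ by simp [pow_two, mul_assoc],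
        ← hs_inv])
    have hcomm : ∀ z, τ (f (f z)) = f (f (τ z)) := by
      intro z
      rw [hff, hff, map_mul, map_mul, hτu, hτu, hτu, hu3, mul_assoc, mul_assoc]
      congr 1
      exact mul_comm _ _
    have hfix : τ (f (f z₀)) = f (f z₀) := by
      refine Subtype.ext ?_
      show t * _ * t⁻¹ = _
      have hm : ((f (f z₀) : J) : G) ∈ Z := by
        rw [hZ]
        refine ⟨hJS (f (f z₀)).2, ?_⟩
        refine Subgroup.mem_centralizer_iff.2 ?_
        intro v hv
        obtain ⟨j, hj, k, rfl⟩ := hgenS s hsS hsJ v hv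
        have hk : u (f (f z₀)) = f (f z₀) := by
          rw [hff, map_mul, map_mul, hu3, mul_comm, ← mul_assoc]
        have hc : Commute s ((f (f z₀) : J) : G) := mul_inv_eq_iff_eq_mul.1 (congrArg Subtype.val hk)
        rw [mul_assoc, (hc.pow_left k).eq, ← mul_assoc, hJab j hj _ (f (f z₀)).2, mul_assoc]
      rw [Subgroup.mem_centralizer_iff.1 (hZT hm) t htT, mul_inv_cancel_right]
    refine ⟨((z₀ * τ z₀ : J) : G), (z₀ * τ z₀).2, ?_, ?_⟩
    · have : τ (z₀ * τ z₀) = z₀ * τ z₀ := by
        rw [map_mul, mul_comm]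
        congr 1
        exact Subtype.ext (by
          show t * (t * (z₀ : G) * t⁻¹) * t⁻¹ = z₀
          rw [show t * (t * (z₀ : G) * t⁻¹) * t⁻¹ = t ^ 2 * z₀ * (t ^ 2)⁻¹ by simp [pow_two, mul_assoc], ht2]
          simp)
      exact congrArg Subtype.val this
    · intro h
      apply hz₀
      have h' : f (f (z₀ * τ z₀)) = 1 := by
        rw [hff]
        apply Subtype.ext
        show _ = (1 : G)
        rw [← h]
        show _ * (s * _ * s⁻¹) * (s * (s * _ * s⁻¹) * s⁻¹) = _ * (s * _ * s⁻¹) * (s ^ 2 * _ * (s ^ 2)⁻¹)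
        simp [pow_two, mul_assoc]
      rw [map_mul, map_mul, ← hcomm, hfix] at h'
      have := hexp (f (f z₀))
      rwa [h', one_mul] at this
  set b := s * a * s⁻¹ with hb
  set c := s * b * s⁻¹ with hc
  have hbJ : b ∈ J := hnJ s a haJ
  have hcJ : c ∈ J := hnJ s b hbJ
  have hW : H59.W162 a b c s t := by
    refine ⟨hJexp a haJ, hJexp b hbJ, hJexp c hcJ, hs3, ht2, hJab a haJ b hbJ, hJab a haJ c hcJ, hJab b hbJ c hcJ,
      ?_, ?_, ?_, ?_, ?_, ?_, ?_⟩
    · rw [hb]; group
    · rw [hc]; group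
    · rw [hc, hb, show s * (s * (s * a * s⁻¹) * s⁻¹) = s ^ 3 * a * (s ^ 2)⁻¹ by simp [pow_succ, mul_assoc], hs3, one_mul, ← hs_inv, inv_inv]
    · exact mul_inv_eq_iff_eq_mul.1 hta
    · apply mul_inv_eq_iff_eq_mul.1
      rw [hb, show t * (s * a * s⁻¹) * t⁻¹ = (t * s * t⁻¹) * (t * a * t⁻¹) * (t * s * t⁻¹)⁻¹ by group, hts, hta, hc, hb,
        show s * (s * a * s⁻¹) * s⁻¹ = s ^ 2 * a * (s ^ 2)⁻¹ by simp [pow_two, mul_assoc], ← hs_inv]
    · apply mul_inv_eq_iff_eq_mul.1
      rw [hc, hb, show t * (s * (s * a * s⁻¹) * s⁻¹) * t⁻¹ = (t * s * t⁻¹) * (t * s * t⁻¹) * (t * a * t⁻¹) * (t * s * t⁻¹)⁻¹ * (t * s * t⁻¹)⁻¹ by group, hts, hta, inv_inv]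
      have h4 : s⁻¹ * s⁻¹ = s := by rw [← mul_inv_rev, ← pow_two, ← hs_inv, inv_inv]
      rw [h4, mul_assoc (s * a), ← pow_two, ← hs_inv]
    · exact mul_inv_eq_iff_eq_mul.1 hts
  -- generation
  have hgen : Subgroup.closure {a, s, t} = ⊤ := by
    set K := Subgroup.closure ({a, s, t} : Set G)
    have haK : a ∈ K := Subgroup.subset_closure (by simp)
    have hsK : s ∈ K := Subgroup.subset_closure (by simp)
    have htK : t ∈ K := Subgroup.subset_closure (by simp)
    set A := Subgroup.closure ({a, b, c} : Set G)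
    have hAK : A ≤ K := by
      rw [Subgroup.closure_le]
      rintro x (rfl | rfl | rfl)
      · exact haK
      · exact mul_mem (mul_mem hsK haK) (inv_mem hsK)
      · exact mul_mem (mul_mem hsK (mul_mem (mul_mem hsK haK) (inv_mem hsK))) (inv_mem hsK)
    have hAJ : A ≤ J := by
      rw [Subgroup.closure_le]
      rintro x (rfl | rfl | rfl)
      · exact haJ
      · exact hbJ
      · exact hcJ
    have hA : A = J := by
      refine Subgroup.eq_of_le_of_card_ge hAJ ?_
      haveI := hJcomm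
      letI : CommGroup J := { (inferInstance : Group J) with mul_comm := mul_comm' }
      let u : J →* J :=
        { toFun := fun z => ⟨s * z * s⁻¹, hnJ s z z.2⟩
          map_one' := Subtype.ext (by simp)
          map_mul' := fun z z' => Subtype.ext (by
            show s * ((z : G) * z') * s⁻¹ = (s * z * s⁻¹) * (s * z' * s⁻¹); group) }
      let f : J →* J := u / MonoidHom.id J
      have hf : ∀ z, f z = u z * z⁻¹ := fun z => div_eq_mul_inv _ _
      let A' := A.subgroupOf J
      have hu : ∀ z ∈ A', u z ∈ A' := by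
        intro z hz
        have hle : A ≤ A.comap (MulAut.conj s).toMonoidHom := by
          rw [Subgroup.closure_le]
          rintro x (rfl | rfl | rfl)
          · exact Subgroup.subset_closure (Or.inr (Or.inl hb.symm))
          · exact Subgroup.subset_closure (Or.inr (Or.inr hc.symm))
          · show s * c * s⁻¹ ∈ A
            rw [hW.sc, mul_inv_cancel_right]
            exact Subgroup.subset_closure (Or.inl rfl)
        exact hle hz
      let af : J := ⟨a, haJ⟩
      have haA : af ∈ A' := Subgroup.subset_closure (Or.inl rfl)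
      have hfA : ∀ z ∈ A', f z ∈ A' := fun z hz => (hf z).symm ▸ mul_mem (hu z hz) (inv_mem hz)
      have hexp : ∀ z : J, z * z * z = 1 := fun z => Subtype.ext (by
        have := hJexp z z.2; rwa [pow_succ, pow_two] at this)
      have hffa : f (f af) ≠ 1 := by
        intro h
        apply hNa
        have hff : f (f af) = af * u af * u (u af) :=
          sq_shift u (fun w => Subtype.ext (hJexp w w.2)) af
        rw [hff] at h
        have h' := congrArg Subtype.val h
        show a * (s * a * s⁻¹) * (s ^ 2 * a * (s ^ 2)⁻¹) = 1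
        rw [← show a * (s * a * s⁻¹) * (s * (s * a * s⁻¹) * s⁻¹) = 1 from h']
        simp [pow_two, mul_assoc]
      have hu3 : ∀ z, u (u (u z)) = z := fun z => Subtype.ext (by
        show s * (s * (s * (z : G) * s⁻¹) * s⁻¹) * s⁻¹ = z
        rw [show s * (s * (s * (z : G) * s⁻¹) * s⁻¹) * s⁻¹ = s ^ 3 * z * (s ^ 3)⁻¹ by simp [pow_succ, mul_assoc], hs3]
        simp)
      have hf3 : f (f (f af)) = 1 := by
        show u (u (u af / af) / (u af / af)) / (u (u af / af) / (u af / af)) = 1
        rw [cube_shift u (fun w => Subtype.ext (hJexp w w.2)), hu3, div_self']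
      -- three strict steps
      let A1 := Subgroup.zpowers (f (f af))
      let A2 := A1 ⊔ Subgroup.zpowers (f af)
      let A3 := A2 ⊔ Subgroup.zpowers af
      have h2f : ∀ z ∈ A1, f z = 1 := by
        intro z hz
        obtain ⟨k, rfl⟩ := hz
        show f (f (f af) ^ k) = 1
        rw [map_zpow, hf3, one_zpow]
      have h3f : ∀ z ∈ A2, f (f z) = 1 := by
        intro z hz
        have hle : A2 ≤ (f.comp f).ker := sup_le (fun y hy => by rw [MonoidHom.mem_ker, MonoidHom.comp_apply, h2f y hy, map_one])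
          (Subgroup.zpowers_le.2 (by rw [MonoidHom.mem_ker, MonoidHom.comp_apply]; exact hf3))
        exact MonoidHom.mem_ker.1 (hle hz)
      have h1 : (⊥ : Subgroup J) < A1 := bot_lt_iff_ne_bot.2 fun e => hffa (by
        have := Subgroup.mem_zpowers (f (f af)); rw [show Subgroup.zpowers (f (f af)) = ⊥ from e] at this; simpa using this)
      have h2 : A1 < A2 := lt_of_le_of_ne le_sup_left fun e => hffa (h2f (f af) (by
        rw [e]; exact Subgroup.mem_sup_right (Subgroup.mem_zpowers _)))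
      have h3 : A2 < A3 := lt_of_le_of_ne le_sup_left fun e => hffa (h3f af (by
        rw [e]; exact Subgroup.mem_sup_right (Subgroup.mem_zpowers _)))
      have hA3 : A3 ≤ A' := sup_le (sup_le (Subgroup.zpowers_le.2 (hfA _ (hfA _ haA))) (Subgroup.zpowers_le.2 (hfA _ haA))) (Subgroup.zpowers_le.2 haA)
      have hstep : ∀ P Q : Subgroup J, P < Q → 3 * Nat.card P ≤ Nat.card Q := by
        intro P Q hPQ
        obtain ⟨k, hk⟩ := Subgroup.card_dvd_of_le hPQ.le
        have hk1 : k ≠ 1 := fun e => hPQ.ne (Subgroup.eq_of_le_of_card_ge hPQ.le (by rw [hk, e, mul_one]))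
        have hk27 : k ∣ 3 ^ 3 := by
          have : Nat.card Q ∣ 3 ^ 3 := by
            have h27 := Subgroup.card_subgroup_dvd_card Q
            rw [hJcard] at h27
            exact h27
          rw [hk] at this
          exact (dvd_mul_left k _).trans this
        obtain ⟨i, -, rfl⟩ := (Nat.dvd_prime_pow Nat.prime_three).1 hk27
        have : 3 ≤ 3 ^ i := Nat.le_self_pow (fun e => hk1 (by rw [e, pow_zero])) 3
        rw [hk, mul_comm 3]
        exact Nat.mul_le_mul_left _ this
      have e1 := hstep _ _ h1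
      have e2 := hstep _ _ h2
      have e3 := hstep _ _ h3
      have e4 := Subgroup.card_le_of_le hA3
      rw [Subgroup.card_bot] at e1
      rw [Nat.card_congr (Subgroup.subgroupOfEquivOfLe hAJ).toEquiv] at e4
      omega
    have hSK : (S : Subgroup G) ≤ K := by
      intro x hx
      obtain ⟨j, hj, k, rfl⟩ := hgenS s hsS hsJ x hx
      exact mul_mem (hAK (hA.symm ▸ hj)) (pow_mem hsK k)
    have hlt : (S : Subgroup G) < K := lt_of_le_of_ne hSK fun e => by
      have hts2 : t ∈ (S : Subgroup G) := e.symm ▸ htK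
      have h81 := hSpow t hts2
      rw [show (81 : ℕ) = 2 * 40 + 1 by norm_num, pow_succ, pow_mul, ht2, one_pow, one_mul] at h81
      exact ht1 h81
    have hd := Subgroup.index_dvd_of_le hlt.le
    rw [hSidx] at hd
    rcases (Nat.dvd_prime Nat.prime_two).1 hd with h | h
    · exact Subgroup.index_eq_one.1 h
    · exfalso
      have h1 := Subgroup.card_mul_index K
      rw [h, hG] at h1
      exact hlt.ne (Subgroup.eq_of_le_of_card_ge hlt.le (by rw [hScard]; omega))
  exact hW.iso hgen hG model model_inj card_C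

end Cfsg.Agent.S3376
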