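import Cfsg.Statements.S3377
import Cfsg.Agent.H59.A5Char

set_option autoImplicit false
open Cfsg

namespace Cfsg.Agent.S3377

theorem result :
    Nonempty (PresentedGroup ({FreeGroup.of (0 : Fin 2) ^ 3, FreeGroup.of (1 : Fin 2) ^ 5,
        (FreeGroup.of (0 : Fin 2) * FreeGroup.of 1) ^ 2} : Set (FreeGroup (Fin 2))) ≃* alternatingGroup (Fin 5)) := by
  classical
  set rels : Set (FreeGroup (Fin 2)) := {FreeGroup.of (0 : Fin 2) ^ 3, FreeGroup.of (1 : Fin 2) ^ 5,
        (FreeGroup.of (0 : Fin 2) * FreeGroup.of 1) ^ 2} with hr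
  obtain ⟨h3, h5, h2, -, -, -⟩ := H59.xa_rel
  let φ : PresentedGroup rels →* alternatingGroup (Fin 5) := PresentedGroup.toGroup (f := ![H59.xa, H59.ya]) (by
    intro r hr'
    simp only [hr, Set.mem_insert_iff, Set.mem_singleton_iff] at hr'
    rcases hr' with rfl | rfl | rfl <;> simp [h3, h5, h2])
  set x : PresentedGroup rels := PresentedGroup.of 0
  set y : PresentedGroup rels := PresentedGroup.of 1
  have hgen : Subgroup.closure {x, y} = ⊤ := by
    rw [← PresentedGroup.closure_range_of]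
    congr 1
    ext w
    simp only [Set.mem_range, Fin.exists_fin_two, Set.mem_insert_iff, Set.mem_singleton_iff, x, y, eq_comm]
  have hrel : ∀ r ∈ rels, PresentedGroup.mk rels r = 1 := fun r hr' =>
    (PresentedGroup.mk_eq_one_iff).2 (Subgroup.subset_normalClosure hr')
  obtain ⟨hfin, hle, -⟩ := H59.card_le_binary x y 1 hgen
    (by have h := hrel (FreeGroup.of 0 ^ 3) (by simp [hr]); rwa [map_pow] at h)
    (by have h := hrel (FreeGroup.of 1 ^ 5) (by simp [hr]); rwa [map_pow] at h) (one_mul 1) (by simp)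
    (by have h := hrel ((FreeGroup.of 0 * FreeGroup.of 1) ^ 2) (by simp [hr]); rwa [map_pow, map_mul] at h)
  have hφ : Function.Surjective φ := by
    rw [← MonoidHom.range_eq_top, eq_top_iff, ← H59.closure_xa_ya, Subgroup.closure_le]
    intro g hg
    rcases hg with rfl | rfl
    · exact ⟨x, by simp [φ, x]⟩
    · exact ⟨y, by simp [φ, y]⟩
  refine ⟨MulEquiv.ofBijective φ (hφ.bijective_of_nat_card_le ?_)⟩
  rw [nat_card_alternatingGroup, Nat.card_fin]
  exact (hle rfl).trans (by decide)

end Cfsg.Agent.S3377
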