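import Cfsg.Statements.S3379
import Mathlib

set_option autoImplicit false
open Cfsg
open scoped Pointwise

namespace Cfsg.Agent.S3379

/-- Let G be a finite group all of whose Sylow subgroups are cyclic. Then G is generated by two elements x and y of coprime orders n and m with x⁻¹yx = y^r, where gcd(r − 1, m) = 1 and r^n ≡ 1 (mod m). -/
theorem result {G : Type*} [Group G] [Finite G]
    (hZ : ∀ (p : ℕ) [Fact p.Prime] (P : Sylow p G), IsCyclic (P : Subgroup G)) :
    ∃ (x y : G) (n m r : ℕ), Subgroup.closure {x, y} = ⊤ ∧ orderOf x = n ∧ orderOf y = m ∧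
      x⁻¹ * y * x = y ^ r ∧ Nat.Coprime (r - 1) m ∧ Nat.Coprime n m ∧ 1 ≤ r ∧ r ^ n % m = 1 % m := by
  classical
  haveI : IsZGroup G := ⟨fun p hp P => haveI := Fact.mk hp; hZ p P⟩
  obtain ⟨K, hK⟩ := Subgroup.exists_right_complement'_of_coprime (IsZGroup.coprime_commutator_index G)
  haveI : IsCyclic (commutator G) := IsZGroup.isCyclic_commutator G
  have e : Abelianization G ≃* K := hK.symm.QuotientMulEquiv
  haveI : IsCyclic K := isCyclic_of_surjective _ e.surjective
  obtain ⟨x, hx⟩ := IsCyclic.exists_generator (α := K)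
  obtain ⟨y, hy⟩ := IsCyclic.exists_generator (α := commutator G)
  have hxo : orderOf (x : G) = Nat.card K := by rw [Subgroup.orderOf_coe]; exact orderOf_eq_card_of_forall_mem_zpowers hx
  have hyo : orderOf (y : G) = Nat.card (commutator G) := by rw [Subgroup.orderOf_coe]; exact orderOf_eq_card_of_forall_mem_zpowers hy
  have hKle : ∀ k ∈ K, k ∈ Subgroup.zpowers (x : G) := by
    intro k hk
    obtain ⟨z, hz⟩ := hx ⟨k, hk⟩
    exact ⟨z, by simpa using congrArg Subtype.val hz⟩
  have hNle : ∀ k ∈ commutator G, k ∈ Subgroup.zpowers (y : G) := by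
    intro k hk
    obtain ⟨z, hz⟩ := hy ⟨k, hk⟩
    exact ⟨z, by simpa using congrArg Subtype.val hz⟩
  have hgen : Subgroup.closure {(x : G), (y : G)} = ⊤ := by
    rw [eq_top_iff]
    intro g _
    obtain ⟨⟨u, v⟩, huv⟩ := hK.2 g
    change (u : G) * (v : G) = g at huv
    rw [← huv]
    refine mul_mem ?_ ?_
    · obtain ⟨z, hz⟩ := hNle _ u.2
      rw [← hz]
      exact zpow_mem (Subgroup.subset_closure (by simp)) z
    · obtain ⟨z, hz⟩ := hKle _ v.2
      rw [← hz]
      exact zpow_mem (Subgroup.subset_closure (by simp)) z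
  have hyn : (x : G)⁻¹ * y * x ∈ commutator G := by
    have := (inferInstance : (commutator G).Normal).conj_mem (y : G) y.2 (x : G)⁻¹
    simpa using this
  obtain ⟨r₀, hr₀⟩ : ∃ r₀ : ℕ, (x : G)⁻¹ * y * x = (y : G) ^ r₀ := by
    obtain ⟨k, hk⟩ := (mem_powers_iff_mem_zpowers.2 (hNle _ hyn))
    exact ⟨k, hk.symm⟩
  obtain ⟨r, hr1, hr⟩ : ∃ r : ℕ, 1 ≤ r ∧ (x : G)⁻¹ * y * x = (y : G) ^ r :=
    ⟨r₀ + orderOf (y : G), by have := orderOf_pos (y : G); omega, by rw [pow_add, pow_orderOf_eq_one, mul_one, hr₀]⟩
  have hpow : ∀ k : ℕ, (x : G)⁻¹ ^ k * y * (x : G) ^ k = (y : G) ^ (r ^ k) := by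
    intro k
    induction k with
    | zero => simp
    | succ k ih =>
      calc (x : G)⁻¹ ^ (k + 1) * y * (x : G) ^ (k + 1)
          = (x : G)⁻¹ * ((x : G)⁻¹ ^ k * y * (x : G) ^ k) * x := by rw [pow_succ' (x : G)⁻¹ k, pow_succ (x : G) k]; group
        _ = ((x : G)⁻¹ * y * x) ^ (r ^ k) := by
            rw [ih]
            have := conj_pow (i := r ^ k) (a := (x : G)⁻¹) (b := (y : G))
            simpa using this.symm
        _ = (y : G) ^ (r ^ (k + 1)) := by rw [hr, ← pow_mul, pow_succ', Nat.mul_comm]
  refine ⟨x, y, orderOf (x : G), orderOf (y : G), r, hgen, rfl, rfl, hr, ?_, ?_, hr1, ?_⟩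
  · set w : G := (y : G) ^ (r - 1) with hw
    have hcxy : (x : G)⁻¹ * y * x * (y : G)⁻¹ = w := by
      rw [hr, hw, pow_sub _ hr1, pow_one]
    set M := Subgroup.zpowers w with hM
    have hMn : M.Normal := by
      rw [← Subgroup.normalizer_eq_top_iff, eq_top_iff, ← hgen, Subgroup.closure_le]
      intro g hg
      simp only [Set.mem_insert_iff, Set.mem_singleton_iff] at hg
      have hx' : (x : G)⁻¹ ∈ Subgroup.normalizer (M : Set G) := by
        rw [Subgroup.mem_normalizer_iff_map_conj_eq]
        apply Subgroup.eq_of_le_of_card_ge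
        · rw [hM, MonoidHom.map_zpowers, Subgroup.zpowers_le]
          refine ⟨r, ?_⟩
          show w ^ (r : ℤ) = (x : G)⁻¹ * w * (x : G)⁻¹⁻¹
          rw [zpow_natCast, hw, ← conj_pow, inv_inv, hr, ← pow_mul, ← pow_mul, Nat.mul_comm]
        · exact (Subgroup.card_map_of_injective (MulAut.conj (x : G)⁻¹).injective).ge
      rcases hg with rfl | rfl
      · simpa using inv_mem hx'
      · apply Subgroup.centralizer_le_normalizer
        rw [Subgroup.mem_centralizer_iff]
        rintro _ ⟨z, rfl⟩
        exact ((Commute.refl (y : G)).pow_left (r - 1)).zpow_left z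
    have hcomm : commutator G ≤ M := by
      have : (Subgroup.closure {(x : G), (y : G)}).map (QuotientGroup.mk' M) = ⊤ := by
        rw [hgen]; exact Subgroup.map_top_of_surjective _ (QuotientGroup.mk'_surjective M)
      rw [MonoidHom.map_closure, Set.image_pair] at this
      have hclo := this
      have hc : ∀ a b : G ⧸ M, a * b = b * a := by
        have hxy : Commute (QuotientGroup.mk' M (x : G)) (QuotientGroup.mk' M (y : G)) := by
          have h1 : QuotientGroup.mk' M ((x : G)⁻¹ * y * x * (y : G)⁻¹) = 1 := by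
            rw [hcxy]; exact (QuotientGroup.eq_one_iff w).2 (Subgroup.mem_zpowers w)
          simp only [map_mul, map_inv] at h1
          rw [mul_inv_eq_one, mul_assoc, inv_mul_eq_iff_eq_mul] at h1
          exact h1.symm
        haveI := Subgroup.isMulCommutative_closure (k := {QuotientGroup.mk' M (x : G), QuotientGroup.mk' M (y : G)}) (by
          intro a ha b hb
          simp only [Set.mem_insert_iff, Set.mem_singleton_iff] at ha hb
          rcases ha with rfl | rfl <;> rcases hb with rfl | rfl
          · rfl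
          · exact hxy
          · exact hxy.symm
          · rfl)
        intro a b
        exact setLike_mul_comm (s := Subgroup.closure {QuotientGroup.mk' M (x : G), QuotientGroup.mk' M (y : G)})
          (by rw [hclo]; exact Subgroup.mem_top a) (by rw [hclo]; exact Subgroup.mem_top b)
      rw [commutator_def, Subgroup.commutator_le]
      intro a _ b _
      rw [← QuotientGroup.eq_one_iff, ← QuotientGroup.mk'_apply, map_commutatorElement, commutatorElement_eq_one_iff_mul_comm]
      exact hc _ _
    obtain ⟨z, hz⟩ := hcomm y.2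
    have : orderOf (y : G) ∣ orderOf w := orderOf_dvd_of_mem_zpowers ⟨z, hz⟩
    rcases Nat.eq_zero_or_pos (r - 1) with h0 | h0
    · rw [hw, h0, pow_zero, orderOf_one, Nat.dvd_one] at this
      rw [this]; exact Nat.coprime_one_right _
    · have h2 : orderOf w = orderOf (y : G) / (orderOf (y : G)).gcd (r - 1) := orderOf_pow' _ (by omega)
      have hg := Nat.gcd_pos_of_pos_right (orderOf (y : G)) h0
      have hpos := orderOf_pos (y : G)
      have h3 := Nat.le_of_dvd (orderOf_pos w) this
      rw [h2] at h3
      have : (orderOf (y : G)).gcd (r - 1) = 1 := by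
        by_contra hne
        have := Nat.div_lt_self hpos (show 1 < (orderOf (y : G)).gcd (r - 1) by omega)
        omega
      rwa [Nat.coprime_comm]
  · rw [hxo, hyo]
    have : (commutator G).index = Nat.card K := (Subgroup.IsComplement'.index_eq_card hK.symm)
    rw [← this]
    exact (IsZGroup.coprime_commutator_index G).symm
  · have := hpow (orderOf (x : G))
    rw [inv_pow, pow_orderOf_eq_one, inv_one, one_mul, mul_one] at this
    have h := (pow_eq_pow_iff_modEq (x := (y : G)) (m := 1) (n := r ^ orderOf (x : G))).1 (by rw [pow_one]; exact this.symm)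
    exact h

end Cfsg.Agent.S3379
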