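import Cfsg.Statements.S3380
import Cfsg.Agent.H30.CyclicNormal
import Cfsg.Agent.H83.PGroupBasic

set_option autoImplicit false
open Cfsg

namespace Cfsg.Agent.S3380

/-- Let a finite p-group G act faithfully and irreducibly on a non-trivial finite vector space V over the field with q elements (q prime), and suppose G is not cyclic, generalized quaternion, dihedral or semidihedral. Then G has a subgroup H of index p and V is the direct sum of p subspaces, each invariant under H, on none of which H acts faithfully, and which every element of G outside H permutes in a single p-cycle. -/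
theorem result
    (q : ℕ) [Fact q.Prime] {V : Type*} [AddCommGroup V] [Module (ZMod q) V] [Finite V] [Nontrivial V]
    {G : Type*} [Group G] [Finite G] (p : ℕ) [Fact p.Prime] (hG : IsPGroup p G)
    (ρ : G →* (V ≃ₗ[ZMod q] V)) (hρ : Function.Injective ρ)
    (hirr : ∀ W : Submodule (ZMod q) V, (∀ g : G, ∀ w ∈ W, ρ g w ∈ W) → W = ⊥ ∨ W = ⊤)
    (hnc : ¬ IsCyclic G) (hnq : ∀ n : ℕ, ¬ Nonempty (G ≃* QuaternionGroup n))
    (hnd : ∀ n : ℕ, ¬ Nonempty (G ≃* DihedralGroup n)) (hnsd : ¬ Cfsg.IsQuasiDihedral G) :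
    ∃ (H : Subgroup G) (W : Fin p → Submodule (ZMod q) V), H.index = p ∧
      iSup W = ⊤ ∧ iSupIndep W ∧
      (∀ h ∈ H, ∀ i, ∀ w ∈ W i, ρ h w ∈ W i) ∧
      (∀ i, ∃ h ∈ H, h ≠ 1 ∧ ∀ w ∈ W i, ρ h w = w) ∧
      ∀ g : G, g ∉ H → ∃ σ : Equiv.Perm (Fin p), orderOf σ = p ∧ ∀ i, (W i).map (ρ g : V →ₗ[ZMod q] V) = W (σ i) := by
  classical
  have hp : p.Prime := Fact.out
  have hq : q.Prime := Fact.out
  haveI : NeZero p := ⟨hp.ne_zero⟩
  obtain ⟨E, hEn, hEc, hEe, hEcard⟩ : ∃ E : Subgroup G, E.Normal ∧ IsMulCommutative E ∧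
      (∀ e ∈ E, e ^ p = 1) ∧ Nat.card E = p ^ 2 := by
    rcases H30.cyclic_or_normal_square_or_invCyclic hG with h | h | ⟨-, h⟩
    · exact absurd h hnc
    · exact h
    · rcases h.classify with ⟨m, hm⟩ | ⟨m, hm⟩ | hm
      · exact absurd hm (hnd m)
      · exact absurd hm (hnq m)
      · exact absurd hm hnsd
  let f : G →* Module.End (ZMod q) V :=
    { toFun := fun g => (ρ g).toLinearMap
      map_one' := by rw [map_one]; rfl
      map_mul' := fun g g' => by rw [map_mul]; rfl }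
  have hf : Function.Injective f := fun g g' h => hρ (LinearEquiv.toLinearMap_injective h)
  have hfρ : ∀ g v, f g v = ρ g v := fun _ _ => rfl
  have hmul : ∀ (g g' : G) (v : V), ρ (g * g') v = ρ g (ρ g' v) := fun g g' v => by rw [map_mul]; rfl
  have hone : ∀ v : V, ρ 1 v = v := fun v => by rw [map_one]; rfl
  -- the field has characteristic prime to `p`
  have hpq : (p : ZMod q) ≠ 0 := by
    rw [Ne, ZMod.natCast_eq_zero_iff]
    intro hdvd
    have hqp : q = p := (Nat.prime_dvd_prime_iff_eq hq hp).1 hdvd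
    letI : MulAction G V := MulAction.compHom V ρ
    have hdvdV : p ∣ Nat.card V := by
      rw [Module.natCard_eq_pow_finrank (K := ZMod q), Nat.card_zmod]
      exact (dvd_of_eq hqp.symm).trans (dvd_pow_self q Module.finrank_pos.ne')
    have h0 : (0 : V) ∈ MulAction.fixedPoints G V := fun g => (ρ g).map_zero
    obtain ⟨b, hb, hb0⟩ := hG.exists_fixed_point_of_prime_dvd_card_of_fixed_point V hdvdV h0
    have hspan := (hirr (Submodule.span (ZMod q) {b}) (fun g w hw => by
      obtain ⟨c, rfl⟩ := Submodule.mem_span_singleton.1 hw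
      rw [map_smul, show ρ g b = b from hb g]
      exact Submodule.smul_mem _ c (Submodule.mem_span_singleton_self b))).resolve_left
      (fun h => hb0 (Submodule.span_singleton_eq_bot.1 h).symm)
    have : Subsingleton G := ⟨fun g g' => hρ (LinearEquiv.ext fun v => by
      obtain ⟨c, rfl⟩ := Submodule.mem_span_singleton.1 (hspan ▸ Submodule.mem_top : v ∈ Submodule.span (ZMod q) {b})
      rw [map_smul, map_smul, show ρ g b = b from hb g, show ρ g' b = b from hb g'])⟩
    exact hnc inferInstance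
  -- fixed spaces
  let Fx : G → Submodule (ZMod q) V := fun g => LinearMap.eqLocus (f g) 1
  have hFx : ∀ g v, v ∈ Fx g ↔ ρ g v = v := fun g v => Iff.rfl
  have hconjFx : ∀ g x : G, (Fx x).map (ρ g : V →ₗ[ZMod q] V) = Fx (g * x * g⁻¹) := by
    intro g x
    ext v
    rw [Submodule.mem_map, hFx, hmul, hmul]
    constructor
    · rintro ⟨w, hw, rfl⟩
      rw [LinearEquiv.coe_coe, ← hmul g⁻¹ g, inv_mul_cancel, hone, (hFx x w).1 hw]
    · intro hv
      refine ⟨ρ g⁻¹ v, (hFx x _).2 ?_, ?_⟩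
      · have := congrArg (ρ g⁻¹) hv
        rwa [← hmul g⁻¹ g, inv_mul_cancel, hone] at this
      · rw [LinearEquiv.coe_coe, ← hmul g g⁻¹, mul_inv_cancel, hone]
  -- the centre meets `E` in a subgroup of order `p`
  have hzfree : ∀ z : G, z ∈ Subgroup.center G → z ≠ 1 → Fx z = ⊥ := by
    intro z hz hz1
    refine (hirr (Fx z) fun g w hw => ?_).resolve_right fun h => hz1 (hρ ?_)
    · rw [hFx] at hw ⊢
      rw [← hmul, ← Subgroup.mem_center_iff.1 hz g, hmul, hw]
    · refine LinearEquiv.ext fun v => ?_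
      rw [(hFx z v).1 (h ▸ Submodule.mem_top), map_one]; rfl
  have : Nontrivial E := by
    rw [← Finite.one_lt_card_iff_nontrivial, hEcard]; exact Nat.one_lt_pow two_ne_zero hp.one_lt
  obtain ⟨z, hzE, hzc, hz1⟩ : ∃ z, z ∈ E ∧ z ∈ Subgroup.center G ∧ z ≠ 1 := by
    letI : MulAction G E :=
      { smul := fun g e => ⟨g * e * g⁻¹, hEn.conj_mem _ e.2 g⟩
        one_smul := fun e => Subtype.ext (show 1 * (e : G) * (1 : G)⁻¹ = e by group)
        mul_smul := fun g g' e => Subtype.ext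
          (show g * g' * (e : G) * (g * g')⁻¹ = g * (g' * (e : G) * g'⁻¹) * g⁻¹ by group) }
    obtain ⟨b, hb, hb1⟩ := hG.exists_fixed_point_of_prime_dvd_card_of_fixed_point E
      (hEcard ▸ dvd_pow_self p two_ne_zero) (a := (1 : E))
      (fun g => Subtype.ext (show g * ((1 : E) : G) * g⁻¹ = ((1 : E) : G) by simp))
    refine ⟨b, b.2, Subgroup.mem_center_iff.2 fun g => ?_, fun h => hb1 (Subtype.ext h.symm)⟩
    have : g * (b : G) * g⁻¹ = b := congrArg Subtype.val (hb g)
    exact mul_inv_eq_iff_eq_mul.1 this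
  have hzord : orderOf z = p := orderOf_eq_prime (hEe z hzE) hz1
  obtain ⟨Z, hZ⟩ : ∃ Z : Subgroup G, Z = Subgroup.zpowers z := ⟨_, rfl⟩
  have hZcard : Nat.card Z = p := by rw [hZ, Nat.card_zpowers, hzord]
  have hZE : Z ≤ E := hZ ▸ Subgroup.zpowers_le.2 hzE
  have hZc : Z ≤ Subgroup.center G := hZ ▸ Subgroup.zpowers_le.2 hzc
  obtain ⟨e, heE, heZ⟩ : ∃ e ∈ E, e ∉ Z := by
    by_contra hcon
    push Not at hcon
    have := Subgroup.card_le_of_le hcon
    rw [hEcard, hZcard] at this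
    nlinarith [hp.one_lt]
  have hcommE : ∀ a ∈ E, ∀ b ∈ E, a * b = b * a := fun a ha b hb =>
    congrArg Subtype.val (hEc.is_comm.comm (⟨a, ha⟩ : E) ⟨b, hb⟩)
  have hzpow : ∀ w ∈ Z, ∃ c : Fin p, z ^ (c : ℕ) = w := by
    intro w hw
    rw [hZ, ← mem_powers_iff_mem_zpowers] at hw
    obtain ⟨n, rfl⟩ := hw
    exact ⟨⟨n % p, Nat.mod_lt _ hp.pos⟩, by
      have := pow_mod_orderOf z n
      rwa [hzord] at this⟩
  have hzadd : ∀ i c : Fin p, z ^ ((i + c : Fin p) : ℕ) = z ^ (i : ℕ) * z ^ (c : ℕ) := by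
    intro i c
    rw [← pow_add, Fin.val_add]
    have := pow_mod_orderOf z ((i : ℕ) + c)
    rwa [hzord] at this
  -- commutators with `e` lie in `Z`
  have hmap : ∀ g : G, g * e * g⁻¹ * e⁻¹ ∈ Z := by
    haveI : Z.Normal := ⟨fun a ha g => by
      rw [Subgroup.mem_center_iff.1 (hZc ha) g, mul_inv_cancel_right]; exact ha⟩
    intro g
    let π := QuotientGroup.mk' Z
    have he' : π e ^ p = 1 := by rw [← map_pow, hEe e heE, map_one]
    have hEeq : E = Z ⊔ Subgroup.zpowers e := by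
      symm
      refine Subgroup.eq_of_le_of_card_ge (sup_le hZE (Subgroup.zpowers_le.2 heE)) ?_
      have hd : Nat.card (Z ⊔ Subgroup.zpowers e : Subgroup G) ∣ p ^ 2 :=
        hEcard ▸ Subgroup.card_dvd_of_le (sup_le hZE (Subgroup.zpowers_le.2 heE))
      obtain ⟨i, hi, hi'⟩ := (Nat.dvd_prime_pow hp).1 hd
      rcases i with _ | _ | i
      · exfalso
        have h1 := Subgroup.card_le_of_le (le_sup_left : Z ≤ Z ⊔ Subgroup.zpowers e)
        rw [hi', hZcard, pow_zero] at h1
        have := hp.one_lt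
        omega
      · exfalso
        have h1 := Subgroup.eq_of_le_of_card_ge (le_sup_left : Z ≤ Z ⊔ Subgroup.zpowers e)
          (by rw [hi', hZcard, pow_one])
        exact heZ (h1.symm ▸ (le_sup_right : Subgroup.zpowers e ≤ Z ⊔ _) (Subgroup.mem_zpowers e))
      · rw [hi', hEcard]
        exact Nat.pow_le_pow_right hp.pos (by omega)
    have hrange : E.map π = Subgroup.zpowers (π e) := by
      rw [hEeq, Subgroup.map_sup, MonoidHom.map_zpowers,
        (Subgroup.map_eq_bot_iff Z).2 (QuotientGroup.ker_mk' Z).ge, bot_sup_eq]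
    have hconj : π g * π e * (π g)⁻¹ ∈ Subgroup.zpowers (π e) := by
      rw [← hrange, ← map_inv, ← map_mul, ← map_mul]
      exact Subgroup.mem_map_of_mem π (hEn.conj_mem e heE g)
    have hc := H83.commute_of_zpowers_invariant (G := G ⧸ Z) (R := ⊤) (hG.to_quotient Z |>.to_subgroup ⊤)
      he' (fun r _ => by
        obtain ⟨g', rfl⟩ := QuotientGroup.mk'_surjective Z r
        rw [← hrange, ← map_inv, ← map_mul, ← map_mul]
        exact Subgroup.mem_map_of_mem π (hEn.conj_mem e heE g')) (π g) trivial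
    rw [← QuotientGroup.eq_one_iff]
    show π (g * e * g⁻¹ * e⁻¹) = 1
    rw [map_mul, map_mul, map_mul, map_inv, map_inv, hc, mul_inv_cancel_right, mul_inv_cancel]
  let φ : G →* Z :=
    { toFun := fun g => ⟨g * e * g⁻¹ * e⁻¹, hmap g⟩
      map_one' := Subtype.ext (by simp)
      map_mul' := fun g g' => Subtype.ext (by
        have h2 := Subgroup.mem_center_iff.1 (hZc (hmap g'))
        calc g * g' * e * (g * g')⁻¹ * e⁻¹ = g * (g' * e * g'⁻¹ * e⁻¹) * g⁻¹ * (g * e * g⁻¹ * e⁻¹) := by group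
          _ = (g' * e * g'⁻¹ * e⁻¹) * (g * e * g⁻¹ * e⁻¹) := by rw [h2 g, mul_inv_cancel_right]
          _ = _ := (h2 _).symm) }
  have hker : ∀ g : G, g ∈ φ.ker ↔ g * e = e * g := by
    intro g
    rw [MonoidHom.mem_ker]
    show (⟨g * e * g⁻¹ * e⁻¹, hmap g⟩ : Z) = 1 ↔ _
    rw [← Subtype.coe_inj]
    show g * e * g⁻¹ * e⁻¹ = 1 ↔ _
    rw [mul_inv_eq_one, mul_inv_eq_iff_eq_mul]
  -- not all members of the lines act freely
  have hsum : ∀ g : G, g ^ p = 1 → ∀ v : V, (∀ u : V, ρ g u = u → u = 0) →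
      ∑ j ∈ Finset.range p, ρ (g ^ j) v = 0 := by
    intro g hg v hfree
    refine hfree _ ?_
    rw [map_sum]
    have h1 := Finset.sum_range_succ (fun j => ρ (g ^ j) v) p
    have h2 := Finset.sum_range_succ' (fun j => ρ (g ^ j) v) p
    rw [h1, hg, pow_zero] at h2
    rw [show (∑ j ∈ Finset.range p, ρ g (ρ (g ^ j) v)) = ∑ j ∈ Finset.range p, ρ (g ^ (j + 1)) v from
      Finset.sum_congr rfl fun j _ => by rw [pow_succ', hmul]]
    exact (add_right_cancel h2).symm
  have hzfree' : ∀ j : ℕ, ¬ p ∣ j → ∀ u : V, ρ (z ^ j) u = u → u = 0 := fun j hj u hu => by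
    have h1 : z ^ j ≠ 1 := fun h => hj (hzord ▸ orderOf_dvd_of_pow_eq_one h)
    have := hzfree (z ^ j) (pow_mem hzc j) h1
    rw [← Submodule.mem_bot (ZMod q), ← this]
    exact (hFx _ _).2 hu
  obtain ⟨W, hW⟩ : ∃ W : Fin p → Submodule (ZMod q) V, ∀ i, W i = Fx (e * z ^ (i : ℕ)) :=
    ⟨fun i => Fx (e * z ^ (i : ℕ)), fun _ => rfl⟩
  have hWne : ∃ i, W i ≠ ⊥ := by
    by_contra hcon
    push Not at hcon
    obtain ⟨v, hv⟩ := exists_ne (0 : V)
    have hexp : ∀ (k : ℕ) (j : ℕ), ρ ((e * z ^ k) ^ j) v = ρ (e ^ j) (ρ ((z ^ j) ^ k) v) := by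
      intro k j
      have hc : Commute e (z ^ k) := Subgroup.mem_center_iff.1 (pow_mem hzc k) e
      rw [← hmul, hc.mul_pow, ← pow_mul, ← pow_mul, mul_comm k j]
    have h1 : ∑ k : Fin p, ∑ j ∈ Finset.range p, ρ ((e * z ^ (k : ℕ)) ^ j) v = 0 := by
      refine Finset.sum_eq_zero fun k _ => hsum _ (hEe _ (E.mul_mem heE (E.pow_mem hzE _))) v fun u hu => ?_
      rw [← Submodule.mem_bot (ZMod q), ← hcon k, hW]
      exact (hFx _ _).2 hu
    rw [Finset.sum_comm, Finset.sum_eq_single_of_mem 0 (Finset.mem_range.2 hp.pos)] at h1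
    · simp only [pow_zero, hone, Finset.sum_const, Finset.card_univ, Fintype.card_fin] at h1
      rw [← Nat.cast_smul_eq_nsmul (ZMod q), smul_eq_zero] at h1
      exact hv (h1.resolve_left hpq)
    · intro j hj hj0
      have hnd : ¬ p ∣ j := fun h => hj0 (Nat.eq_zero_of_dvd_of_lt h (Finset.mem_range.1 hj))
      simp only [hexp]
      rw [← map_sum, Fin.sum_univ_eq_sum_range (fun k => ρ ((z ^ j) ^ k) v)]
      rw [hsum (z ^ j) (by rw [← pow_mul, mul_comm, pow_mul, hEe z hzE, one_pow]) v (hzfree' j hnd),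
        map_zero]
  have hperm : ∀ g : G, ∀ c : Fin p, z ^ (c : ℕ) = (φ g : G) → ∀ i,
      (W i).map (ρ g : V →ₗ[ZMod q] V) = W (i + c) := by
    intro g c hc i
    rw [hW, hW, hconjFx]
    congr 1
    have hgc : z ^ (c : ℕ) = g * e * g⁻¹ * e⁻¹ := hc
    have h2 : g * z ^ (i : ℕ) = z ^ (i : ℕ) * g := Subgroup.mem_center_iff.1 (pow_mem hzc _) g
    have h3 : e * z ^ (c : ℕ) = g * e * g⁻¹ := by
      rw [Subgroup.mem_center_iff.1 (pow_mem hzc _) e, hgc, inv_mul_cancel_right]
    rw [hzadd, Subgroup.mem_center_iff.1 (pow_mem hzc _) (z ^ (i : ℕ)), ← mul_assoc e, h3,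
      show g * (e * z ^ (i : ℕ)) * g⁻¹ = g * e * (z ^ (i : ℕ) * g⁻¹) by group,
      show z ^ (i : ℕ) * g⁻¹ = g⁻¹ * z ^ (i : ℕ) from
        (Subgroup.mem_center_iff.1 (pow_mem hzc _) g⁻¹).symm, ← mul_assoc]
  have hidx : φ.ker.index = p := by
    rw [Subgroup.index_ker]
    rcases (Nat.dvd_prime hp).1 (hZcard ▸ φ.range.card_subgroup_dvd_card) with h | h
    · exfalso
      have hec : e ∈ Subgroup.center G := by
        refine Subgroup.mem_center_iff.2 fun g => (hker g).1 ?_
        have := Subgroup.eq_bot_of_card_eq _ h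
        rw [MonoidHom.mem_ker, ← Subgroup.mem_bot, ← this]
        exact ⟨g, rfl⟩
      obtain ⟨i, hi⟩ := hWne
      refine hi ?_
      rw [hW]
      refine hzfree _ (mul_mem hec (pow_mem hzc _)) fun h1 => heZ ?_
      rw [eq_inv_of_mul_eq_one_left h1]
      exact Z.inv_mem (hZ ▸ pow_mem (Subgroup.mem_zpowers z) _)
    · exact h
  refine ⟨φ.ker, W, hidx, ?_, ?_, ?_, ?_, ?_⟩
  · refine (hirr (iSup W) fun g w hw => ?_).resolve_left fun h => ?_
    · obtain ⟨c, hc⟩ := hzpow _ (φ g).2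
      have h1 : (iSup W).map (ρ g : V →ₗ[ZMod q] V) ≤ iSup W := by
        rw [Submodule.map_iSup, iSup_le_iff]
        intro i
        rw [hperm g c hc i]
        exact le_iSup W _
      exact h1 (Submodule.mem_map_of_mem (f := (ρ g : V →ₗ[ZMod q] V)) hw)
    · obtain ⟨i, hi⟩ := hWne
      exact hi (le_bot_iff.1 (h ▸ le_iSup W i))
  · -- independence
    intro i
    rw [disjoint_iff, eq_bot_iff]
    intro v hv
    obtain ⟨hv1, hv2⟩ := Submodule.mem_inf.1 hv
    let P : V →ₗ[ZMod q] V := ∑ j ∈ Finset.range p, f ((e * z ^ (i : ℕ)) ^ j)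
    have hP1 : P v = (p : ZMod q) • v := by
      rw [hW, hFx] at hv1
      simp only [P, LinearMap.sum_apply, hfρ]
      have hfix : ∀ j : ℕ, ρ ((e * z ^ (i : ℕ)) ^ j) v = v := fun j => by
        induction j with
        | zero => rw [pow_zero, hone]
        | succ j ih => rw [pow_succ, hmul, hv1, ih]
      simp only [hfix, Finset.sum_const, Finset.card_range, Nat.cast_smul_eq_nsmul]
    have hP2 : (⨆ (j : Fin p) (_ : j ≠ i), W j) ≤ LinearMap.ker P := by
      refine iSup₂_le fun j hj u hu => ?_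
      rw [hW, hFx] at hu
      rw [LinearMap.mem_ker]
      simp only [P, LinearMap.sum_apply, hfρ]
      -- on `W j` the map `e * z ^ i` acts as a non-trivial power of `z`
      obtain ⟨d, hd⟩ : ∃ d : Fin p, j + d = i := ⟨i - j, by abel⟩
      have hd0 : ¬ p ∣ (d : ℕ) := fun h => hj (by
        have h0 : d = 0 := Fin.ext (Nat.eq_zero_of_dvd_of_lt h d.2)
        rw [← hd, h0, add_zero])
      have hval : ∀ m : ℕ, ρ ((e * z ^ (i : ℕ)) ^ m) u = ρ ((z ^ (d : ℕ)) ^ m) u := by
        intro m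
        have hc : Commute (e * z ^ (j : ℕ)) (z ^ (d : ℕ)) := Subgroup.mem_center_iff.1 (pow_mem hzc _) _
        rw [← hd, hzadd, ← mul_assoc, hc.mul_pow,
          Subgroup.mem_center_iff.1 (pow_mem (pow_mem hzc _) _) _, hmul]
        congr 1
        induction m with
        | zero => rw [pow_zero, hone]
        | succ m ih => rw [pow_succ, hmul, hu, ih]
      simp only [hval]
      exact hsum _ (by rw [← pow_mul, mul_comm, pow_mul, hEe z hzE, one_pow]) u (hzfree' _ hd0)
    have h3 : P v = 0 := hP2 hv2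
    rw [hP1, smul_eq_zero] at h3
    exact h3.resolve_left hpq
  · intro h hh i w hw
    have h1 := hperm h 0 (by rw [MonoidHom.mem_ker.1 hh]; simp) i
    rw [add_zero] at h1
    rw [← h1]
    exact Submodule.mem_map_of_mem (f := (ρ h : V →ₗ[ZMod q] V)) hw
  · intro i
    refine ⟨e * z ^ (i : ℕ), (hker _).2 ?_, fun h => heZ ?_, fun w hw => ?_⟩
    · rw [hcommE _ (E.mul_mem heE (E.pow_mem hzE _)) e heE]
    · rw [eq_inv_of_mul_eq_one_left h]
      exact Z.inv_mem (hZ ▸ pow_mem (Subgroup.mem_zpowers z) _)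
    · rw [hW] at hw; exact (hFx _ _).1 hw
  · intro g hg
    obtain ⟨c, hc⟩ := hzpow _ (φ g).2
    refine ⟨Equiv.addRight c, ?_, fun i => hperm g c hc i⟩
    have hpow : ∀ (m : ℕ) (i : Fin p), ((Equiv.addRight c : Equiv.Perm (Fin p)) ^ m) i = i + m • c := by
      intro m
      induction m with
      | zero => intro i; simp
      | succ m ih =>
        intro i
        rw [pow_succ', Equiv.Perm.mul_apply, ih]
        show i + m • c + c = _
        rw [succ_nsmul, add_assoc]
    refine orderOf_eq_prime (Equiv.ext fun i => ?_) fun h => hg ?_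
    · rw [hpow, Equiv.Perm.one_apply]
      have : p • c = 0 := by
        have := card_nsmul_eq_zero' (G := Fin p) (x := c)
        rwa [Nat.card_fin] at this
      rw [this, add_zero]
    · have h1 := DFunLike.congr_fun h (0 : Fin p)
      simp at h1
      rw [MonoidHom.mem_ker]
      refine Subtype.ext ?_
      rw [← hc, h1]; simp

end Cfsg.Agent.S3380
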