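import Cfsg.Statements.S3381

set_option autoImplicit false
open Cfsg

namespace Cfsg.Agent.S3381

/-- Let G be a finite group acting faithfully and linearly on a non-trivial finite vector space V over the field with q elements (q prime) so that every non-zero vector has a stabilizer of order 2, and suppose G has a central involution. Then V has q^(2r) elements for some r and G contains exactly q^r + 1 non-central involutions. -/
theorem result
    (q : ℕ) [Fact q.Prime] {V : Type*} [AddCommGroup V] [Module (ZMod q) V] [Finite V] [Nontrivial V]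
    {G : Type*} [Group G] [Finite G] (ρ : G →* (V ≃ₗ[ZMod q] V)) (hρ : Function.Injective ρ)
    (hstab : ∀ v : V, v ≠ 0 → Nat.card {g : G // ρ g v = v} = 2)
    (z : G) (hz : orderOf z = 2) (hzc : z ∈ Subgroup.center G) :
    ∃ r : ℕ, Nat.card V = q ^ (2 * r) ∧
      Nat.card {g : G // orderOf g = 2 ∧ g ∉ Subgroup.center G} = q ^ r + 1 := by
  classical
  haveI := Fintype.ofFinite G
  let ap : G → V → V := fun g v => ρ g v
  have hmul : ∀ g h v, ρ (g * h) v = ρ g (ρ h v) := fun g h v => by rw [map_mul]; rfl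
  have hone : ∀ v, ρ 1 v = v := fun v => by rw [map_one]; rfl
  have hz1 : z ≠ 1 := fun h => by rw [h, orderOf_one] at hz; exact absurd hz (by norm_num)
  have hzz : z * z = 1 := by rw [← sq, ← hz]; exact pow_orderOf_eq_one z
  -- a stabiliser has exactly one nontrivial element
  have huniq : ∀ v : V, v ≠ 0 → ∃ t, t ≠ 1 ∧ ρ t v = v ∧ ∀ s, s ≠ 1 → ρ s v = v → s = t := by
    intro v hv
    obtain ⟨a, b, hab, huniv⟩ := Nat.card_eq_two_iff.mp (hstab v hv)
    have hmem : ∀ x : {g : G // ρ g v = v}, x = a ∨ x = b := fun x => by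
      simpa using (huniv ▸ Set.mem_univ x : x ∈ ({a, b} : Set _))
    rcases hmem ⟨1, hone v⟩ with h | h
    · refine ⟨b, fun e => hab (Subtype.ext ((congrArg Subtype.val h).symm.trans e.symm)), b.2, fun s hs hsv => ?_⟩
      rcases hmem ⟨s, hsv⟩ with h' | h'
      · exact absurd (congrArg Subtype.val (h'.trans h.symm)) hs
      · exact congrArg Subtype.val h'
    · refine ⟨a, fun e => hab (Subtype.ext (e.trans (congrArg Subtype.val h))), a.2, fun s hs hsv => ?_⟩
      rcases hmem ⟨s, hsv⟩ with h' | h'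
      · exact congrArg Subtype.val h'
      · exact absurd (congrArg Subtype.val (h'.trans h.symm)) hs
  -- central involutions act as `-1`
  have hcentral : ∀ c : G, c ≠ 1 → c * c = 1 → (∀ g, g * c = c * g) →
      ∀ x : V, ρ c x = -x := by
    intro c hc1 hcc hcomm
    have hW : ∀ x, ρ c x ≠ x → ρ c x = -x := by
      intro x hx
      by_contra hne
      have hu : x + ρ c x ≠ 0 := fun h => hne (eq_neg_of_add_eq_zero_right h)
      have hx0 : x ≠ 0 := fun h => hx (by rw [h, map_zero])
      obtain ⟨t, ht, htx, -⟩ := huniq x hx0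
      obtain ⟨t', -, -, huq⟩ := huniq _ hu
      have h1 : ρ t (x + ρ c x) = x + ρ c x := by
        rw [map_add, htx, ← hmul, hcomm, hmul, htx]
      have h2 : ρ c (x + ρ c x) = x + ρ c x := by
        rw [map_add, ← hmul, hcc, hone, add_comm]
      have := (huq t ht h1).trans (huq c hc1 h2).symm
      exact hx (this ▸ htx)
    obtain ⟨x0, hx0⟩ : ∃ x, ρ c x ≠ x := by
      by_contra h
      push Not at h
      exact hc1 (hρ (LinearEquiv.ext fun v => (h v).trans (hone v).symm))
    intro x
    by_cases hx : ρ c x = x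
    · by_cases hcx : ρ c (x + x0) = x + x0
      · rw [map_add, hx, add_right_inj] at hcx
        exact absurd hcx hx0
      · have h := hW _ hcx
        rw [map_add, hx, hW x0 hx0, neg_add, add_left_inj] at h
        rw [hx]; exact h
    · exact hW x hx
  have hzneg := hcentral z hz1 hzz fun g => (Subgroup.mem_center_iff.mp hzc g)
  have hq2 : q ≠ 2 := by
    intro h2
    subst h2
    exact hz1 (hρ (LinearEquiv.ext fun v => by rw [hzneg, ZModModule.neg_eq_self, hone]))
  have htwo : (2 : ZMod q) ≠ 0 := by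
    intro h
    have h' : ((2 : ℕ) : ZMod q) = 0 := by exact_mod_cast h
    rw [CharP.cast_eq_zero_iff (ZMod q) q] at h'
    exact hq2 ((Nat.prime_dvd_prime_iff_eq Fact.out Nat.prime_two).mp h')
  let I := {g : G // orderOf g = 2 ∧ g ∉ Subgroup.center G}
  let Wt : G → Submodule (ZMod q) V := fun t => LinearMap.ker ((ρ t : V →ₗ[ZMod q] V) - LinearMap.id)
  have hWt : ∀ t v, v ∈ Wt t ↔ ρ t v = v := fun t v => by
    simp [Wt, sub_eq_zero]
  have hinv : ∀ t : G, t ≠ 1 → t * t = 1 → orderOf t = 2 := fun t h1 h2 => by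
    refine orderOf_eq_prime (by rw [sq, h2]) h1
  have hne : ∀ t : G, orderOf t = 2 → (t ∉ Subgroup.center G ↔ t ≠ z) := by
    intro t ht
    refine ⟨fun h e => h (e ▸ hzc), fun h hc => h ?_⟩
    have h1 : t ≠ 1 := fun e => by rw [e, orderOf_one] at ht; exact absurd ht (by norm_num)
    have := hcentral t h1 (by rw [← sq, ← ht]; exact pow_orderOf_eq_one t) (Subgroup.mem_center_iff.mp hc)
    exact hρ (LinearEquiv.ext fun v => by rw [this, hzneg])
  have huniqI : ∀ v : V, v ≠ 0 → ∃! t : I, v ∈ Wt t.1 := by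
    intro v hv
    obtain ⟨t, ht, htv, huq⟩ := huniq v hv
    have hsq : t * t = 1 := by
      by_contra h
      have := huq _ h (by rw [hmul, htv, htv])
      exact ht (mul_eq_left.mp this)
    have ho := hinv t ht hsq
    have hnc : t ∉ Subgroup.center G := by
      rw [hne t ho]
      rintro rfl
      rw [hzneg] at htv
      have : (2 : ZMod q) • v = 0 := by rw [two_smul]; exact neg_eq_iff_add_eq_zero.mp htv
      exact hv ((smul_eq_zero.mp this).resolve_left htwo)
    refine ⟨⟨t, ho, hnc⟩, (hWt _ _).mpr htv, fun s hs => ?_⟩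
    exact Subtype.ext (huq s.1 (fun e => by have := s.2.1; rw [e, orderOf_one] at this; omega) ((hWt _ _).mp hs))
  have hsq : ∀ t : I, t.1 * t.1 = 1 := fun t => by
    have := pow_orderOf_eq_one t.1
    rwa [t.2.1, sq] at this
  have hbar : ∀ t : I, ∃ t' : I, t'.1 = t.1 * z := by
    intro t
    have hnz : t.1 ≠ z := (hne _ t.2.1).mp t.2.2
    have hc : t.1 * z = z * t.1 := Subgroup.mem_center_iff.mp hzc t.1
    have h1 : t.1 * z ≠ 1 := fun e => hnz ((mul_eq_one_iff_eq_inv.mp e).trans (inv_eq_of_mul_eq_one_left hzz))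
    have h2 : t.1 * z * (t.1 * z) = 1 := by
      calc _ = t.1 * (z * t.1) * z := by group
        _ = t.1 * t.1 * (z * z) := by rw [← hc]; group
        _ = 1 := by rw [hsq, hzz, one_mul]
    have ho := hinv _ h1 h2
    refine ⟨⟨_, ho, (hne _ ho).mpr fun e => ?_⟩, rfl⟩
    have ht1 : t.1 = 1 := mul_eq_right.mp e
    have := t.2.1
    rw [ht1, orderOf_one] at this
    omega
  choose bar hbarv using hbar
  let d : I → ℕ := fun t => Module.finrank (ZMod q) (Wt t.1)
  have hsum : ∀ t : I, d t + d (bar t) = Module.finrank (ZMod q) V := by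
    intro t
    apply Submodule.finrank_add_eq_of_isCompl
    have hneg : ∀ x, ρ (t.1 * z) x = - ρ t.1 x := fun x => by rw [hmul, hzneg, map_neg]
    constructor
    · rw [disjoint_iff, eq_bot_iff]
      intro x hx
      have h1 := (hWt _ _).mp hx.1
      have h2 := (hWt _ _).mp hx.2
      rw [hbarv, hneg, h1] at h2
      have : (2 : ZMod q) • x = 0 := by rw [two_smul]; exact neg_eq_iff_add_eq_zero.mp h2
      exact (Submodule.mem_bot _).mpr ((smul_eq_zero.mp this).resolve_left htwo)
    · rw [codisjoint_iff, eq_top_iff]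
      intro x _
      have e1 : (2 : ZMod q)⁻¹ • (x + ρ t.1 x) ∈ Wt t.1 := by
        refine Submodule.smul_mem _ _ ((hWt _ _).mpr ?_)
        rw [map_add, ← hmul, hsq, hone, add_comm]
      have e2 : (2 : ZMod q)⁻¹ • (x - ρ t.1 x) ∈ Wt (bar t).1 := by
        refine Submodule.smul_mem _ _ ((hWt _ _).mpr ?_)
        rw [hbarv, hneg, map_sub, ← hmul, hsq, hone, neg_sub]
      have : x = (2 : ZMod q)⁻¹ • (x + ρ t.1 x) + (2 : ZMod q)⁻¹ • (x - ρ t.1 x) := by
        rw [← smul_add, add_add_sub_cancel, ← two_smul (ZMod q) x, inv_smul_smul₀ htwo]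
      rw [this]
      exact Submodule.add_mem_sup e1 e2
  have hle : ∀ t s : I, t ≠ s → d t + d s ≤ Module.finrank (ZMod q) V := by
    intro t s hts
    have hinf : Wt t.1 ⊓ Wt s.1 = ⊥ := by
      rw [eq_bot_iff]
      intro x hx
      rw [Submodule.mem_bot]
      by_contra hx0
      exact hts ((huniqI x hx0).unique hx.1 hx.2)
    have := Submodule.finrank_sup_add_finrank_inf_eq (Wt t.1) (Wt s.1)
    rw [hinf, finrank_bot, add_zero] at this
    show Module.finrank (ZMod q) (Wt t.1) + Module.finrank (ZMod q) (Wt s.1) ≤ _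
    rw [← this]
    exact Submodule.finrank_le _
  have hdpos : ∀ t : I, 0 < d t := by
    intro t
    obtain ⟨x, hx⟩ : ∃ x, x + ρ t.1 x ≠ 0 := by
      by_contra h
      push Not at h
      exact (hne _ t.2.1).mp t.2.2 (hρ (LinearEquiv.ext fun v => by rw [hzneg]; exact eq_neg_of_add_eq_zero_right (h v)))
    have hmem : x + ρ t.1 x ∈ Wt t.1 := (hWt _ _).mpr (by rw [map_add, ← hmul, hsq, hone, add_comm])
    exact Module.finrank_pos_iff_exists_ne_zero.mpr ⟨⟨_, hmem⟩, fun h => hx (congrArg Subtype.val h)⟩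
  have hhalf : ∀ t : I, 2 * d t = Module.finrank (ZMod q) V := by
    intro t
    obtain ⟨w, hw0⟩ := Module.finrank_pos_iff_exists_ne_zero.mp (hdpos t)
    obtain ⟨w', hw'0⟩ := Module.finrank_pos_iff_exists_ne_zero.mp (hdpos (bar t))
    have hinf : ∀ x : V, x ∈ Wt t.1 → x ∈ Wt (bar t).1 → x = 0 := by
      intro x h1 h2
      have h1' := (hWt _ _).mp h1
      have h2' := (hWt _ _).mp h2
      rw [hbarv, hmul, hzneg, map_neg, h1'] at h2'
      have : (2 : ZMod q) • x = 0 := by rw [two_smul]; exact neg_eq_iff_add_eq_zero.mp h2'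
      exact (smul_eq_zero.mp this).resolve_left htwo
    have hv0 : (w : V) + w' ≠ 0 := by
      intro h
      apply hw0
      refine Subtype.ext (hinf w w.2 ?_)
      rw [eq_neg_of_add_eq_zero_left h]
      exact Submodule.neg_mem _ w'.2
    obtain ⟨s, hs, -⟩ := huniqI _ hv0
    have hst : s ≠ t := by
      rintro rfl
      exact hw'0 (Subtype.ext (hinf _ ((Submodule.add_mem_iff_right _ w.2).mp hs) w'.2))
    have hsb : s ≠ bar t := by
      rintro rfl
      exact hw0 (Subtype.ext (hinf _ w.2 ((Submodule.add_mem_iff_left _ w'.2).mp hs)))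
    have hbs : bar (bar t) = t := by
      apply Subtype.ext
      rw [hbarv, hbarv, mul_assoc, hzz, mul_one]
    have hbs1 : bar s ≠ t := fun e => by
      have := congrArg bar e
      have hbb : bar (bar s) = s := by
        apply Subtype.ext
        rw [hbarv, hbarv, mul_assoc, hzz, mul_one]
      rw [hbb] at this
      exact hsb this
    have h1 := hle t s (Ne.symm hst)
    have h2 := hle t (bar s) (Ne.symm hbs1)
    have h3 := hle (bar t) s (Ne.symm hsb)
    have h4 := hle (bar t) (bar s) (fun e => hst (by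
      have := congrArg bar e
      rw [hbs] at this
      rw [this]; apply Subtype.ext
      rw [hbarv, hbarv, mul_assoc, hzz, mul_one]))
    have := hsum t
    have := hsum s
    omega
  obtain ⟨v0, hv0⟩ := exists_ne (0 : V)
  obtain ⟨t0, -, -⟩ := huniqI v0 hv0
  refine ⟨d t0, ?_, ?_⟩
  · rw [hhalf t0, Module.natCard_eq_pow_finrank (K := ZMod q), Nat.card_zmod]
  have heq : ∀ t : I, d t = d t0 := fun t => by have := hhalf t; have := hhalf t0; omega
  -- count nonzero vectors
  have e : (Σ t : I, {x : Wt t.1 // x ≠ 0}) ≃ {v : V // v ≠ 0} :=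
    Equiv.ofBijective (fun p => ⟨(p.2.1 : V), fun h => p.2.2 (Subtype.ext h)⟩) ⟨by
      rintro ⟨t, ⟨⟨x, hx⟩, hx0⟩⟩ ⟨s, ⟨⟨y, hy⟩, hy0⟩⟩ h
      simp only [Subtype.mk.injEq] at h
      subst h
      obtain rfl : t = s := (huniqI x fun e => hx0 (Subtype.ext e)).unique hx hy
      rfl, by
      rintro ⟨v, hv⟩
      obtain ⟨t, ht, -⟩ := huniqI v hv
      exact ⟨⟨t, ⟨⟨v, ht⟩, fun h => hv (congrArg Subtype.val h)⟩⟩, rfl⟩⟩
  haveI := Fintype.ofFinite V
  have hc := Nat.card_congr e
  rw [Nat.card_sigma] at hc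
  have hsub : ∀ t : I, Nat.card {x : Wt t.1 // x ≠ 0} = q ^ d t0 - 1 := by
    intro t
    rw [Nat.card_eq_fintype_card, Fintype.card_subtype_compl, Fintype.card_subtype_eq, ← Nat.card_eq_fintype_card,
      Module.natCard_eq_pow_finrank (K := ZMod q), Nat.card_zmod]
    rw [← heq t]
  have hall : Nat.card {v : V // v ≠ 0} = q ^ (2 * d t0) - 1 := by
    rw [Nat.card_eq_fintype_card, Fintype.card_subtype_compl, Fintype.card_subtype_eq, ← Nat.card_eq_fintype_card,
      Module.natCard_eq_pow_finrank (K := ZMod q), Nat.card_zmod, hhalf]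
  simp only [hsub, Finset.sum_const, Finset.card_univ, smul_eq_mul, hall] at hc
  show Nat.card I = _
  rw [Nat.card_eq_fintype_card]
  have hgt : 1 < q ^ d t0 := Nat.one_lt_pow (hdpos t0).ne' (Fact.out : q.Prime).one_lt
  have hfac : q ^ (2 * d t0) - 1 = (q ^ d t0 + 1) * (q ^ d t0 - 1) := by
    rw [mul_comm 2, pow_mul, ← Nat.sq_sub_sq, one_pow]
  exact Nat.eq_of_mul_eq_mul_right (by omega) (hc.trans hfac)

end Cfsg.Agent.S3381
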