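import Cfsg.Statements.S3382

set_option autoImplicit false
open Cfsg

namespace Cfsg.Agent.S3382

/-- A 2-group whose automorphisms preserve a chain of sets with steps of index two has a
2-group of automorphisms. -/
theorem aut_isPGroup_of_chain {X : Type*} [Group X] [Finite X] (hX : IsPGroup 2 X) (S : ℕ → Set X)
    (N : ℕ) (h0 : ∀ x, x ∈ S 0) (hN : ∀ x ∈ S N, x = 1)
    (hinv : ∀ (φ : MulAut X) (k : ℕ), k ≤ N → ∀ x ∈ S k, φ x ∈ S k)
    (hstep : ∀ k < N, ∀ x ∈ S k, ∀ y ∈ S k, x ∉ S (k + 1) → y ∉ S (k + 1) → x⁻¹ * y ∈ S (k + 1)) :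
    IsPGroup 2 (MulAut X) := by
  intro φ
  have key : ∀ j, j ≤ N → ∃ M, ∀ x ∈ S (N - j), (φ ^ (2 ^ M)) x = x := by
    intro j
    induction j with
    | zero => exact fun _ => ⟨0, fun x hx => by rw [hN x (by simpa using hx), map_one]⟩
    | succ j ih =>
      intro hj
      obtain ⟨M, hM⟩ := ih (by omega)
      obtain ⟨L, hL⟩ := IsPGroup.iff_card.mp hX
      refine ⟨M + L, fun x hx => ?_⟩
      have hk : N - j = N - (j + 1) + 1 := by omega
      rw [hk] at hM
      by_cases hxs : x ∈ S (N - (j + 1) + 1)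
      · rw [pow_add, pow_mul]
        generalize 2 ^ L = n
        induction n with
        | zero => simp
        | succ n ih => rw [pow_succ, MulAut.mul_apply, hM x hxs, ih]
      set ψ := φ ^ (2 ^ M)
      have hψ : ψ x ∉ S (N - (j + 1) + 1) := fun h => by
        have := hinv ψ⁻¹ _ (by omega) _ h
        rw [MulAut.inv_apply_self] at this
        exact hxs this
      have hd := hstep _ (by omega) x hx (ψ x) (hinv ψ _ (by omega) x hx) hxs hψ
      set a := x⁻¹ * ψ x
      have ha : ψ a = a := hM a hd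
      have hn : ∀ n : ℕ, (ψ ^ n) x = x * a ^ n := by
        intro n
        induction n with
        | zero => simp
        | succ n ih =>
          rw [pow_succ', MulAut.mul_apply, ih, map_mul, map_pow, ha, pow_succ']
          simp [a, mul_assoc]
      rw [pow_add, pow_mul, hn, ← hL, pow_card_eq_one', mul_one]
  obtain ⟨M, hM⟩ := key N le_rfl
  exact ⟨M, MulEquiv.ext fun x => hM x (by rw [Nat.sub_self]; exact h0 x)⟩

section monomial

variable {q : ℕ} {T : Subgroup ((Fin 2 → ZMod q) ≃ₗ[ZMod q] (Fin 2 → ZMod q))}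

/-- Diagonal element. -/
def Dg (x : T) (α β : ZMod q) : Prop :=
  ∀ v : Fin 2 → ZMod q, (x : (Fin 2 → ZMod q) ≃ₗ[ZMod q] (Fin 2 → ZMod q)) v = ![α * v 0, β * v 1]

/-- Antidiagonal element. -/
def Sw (x : T) (α β : ZMod q) : Prop :=
  ∀ v : Fin 2 → ZMod q, (x : (Fin 2 → ZMod q) ≃ₗ[ZMod q] (Fin 2 → ZMod q)) v = ![β * v 1, α * v 0]

theorem dg_one : Dg (1 : T) 1 1 := fun v => by funext i; fin_cases i <;> simp

theorem dg_mul_dg {x y : T} {α β γ δ : ZMod q} (hx : Dg x α β) (hy : Dg y γ δ) :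
    Dg (x * y) (α * γ) (β * δ) := fun v => by
  rw [Subgroup.coe_mul, LinearEquiv.mul_apply, hy, hx]; simp [mul_assoc]

theorem sw_mul_sw {x y : T} {α β γ δ : ZMod q} (hx : Sw x α β) (hy : Sw y γ δ) :
    Dg (x * y) (β * γ) (α * δ) := fun v => by
  rw [Subgroup.coe_mul, LinearEquiv.mul_apply, hy, hx]; simp [mul_assoc]

theorem dg_mul_sw {x y : T} {α β γ δ : ZMod q} (hx : Dg x α β) (hy : Sw y γ δ) :
    Sw (x * y) (β * γ) (α * δ) := fun v => by
  rw [Subgroup.coe_mul, LinearEquiv.mul_apply, hy, hx]; simp [mul_assoc]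

theorem sw_mul_dg {x y : T} {α β γ δ : ZMod q} (hx : Sw x α β) (hy : Dg y γ δ) :
    Sw (x * y) (α * γ) (β * δ) := fun v => by
  rw [Subgroup.coe_mul, LinearEquiv.mul_apply, hy, hx]; simp [mul_assoc]

theorem dg_pow {x : T} {α β : ZMod q} (hx : Dg x α β) (n : ℕ) : Dg (x ^ n) (α ^ n) (β ^ n) := by
  induction n with
  | zero => simpa using dg_one
  | succ n ih => rw [pow_succ, pow_succ, pow_succ]; exact dg_mul_dg ih hx

theorem dg_unique {x y : T} {α β : ZMod q} (hx : Dg x α β) (hy : Dg y α β) : x = y :=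
  Subtype.ext (LinearEquiv.ext fun v => (hx v).trans (hy v).symm)

theorem dg_inj {x : T} {α β γ δ : ZMod q} (hx : Dg x α β) (hy : Dg x γ δ) : α = γ ∧ β = δ := by
  constructor
  · simpa using congrFun ((hx ![1, 0]).symm.trans (hy ![1, 0])) 0
  · simpa using congrFun ((hx ![0, 1]).symm.trans (hy ![0, 1])) 1

theorem sw_inj {x : T} {α β γ δ : ZMod q} (hx : Sw x α β) (hy : Sw x γ δ) : α = γ ∧ β = δ := by
  constructor
  · simpa using congrFun ((hx ![1, 0]).symm.trans (hy ![1, 0])) 1
  · simpa using congrFun ((hx ![0, 1]).symm.trans (hy ![0, 1])) 0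

theorem not_dg_sw {x : T} {α β γ δ : ZMod q} (hx : Dg x α β) (hy : Sw x γ δ) (hα : α ≠ 0) : False :=
  hα (by simpa using congrFun ((hx ![1, 0]).symm.trans (hy ![1, 0])) 0)

end monomial

theorem two_units : ∀ c : ZMod 2, c ≠ 0 → c = 1 := by decide

theorem two_ne : (1 : ZMod 2) ≠ 0 ∧ (-1 : ZMod 2) ≠ 0 := by decide

theorem three_units : ∀ c : ZMod 3, c ≠ 0 → c = 1 ∨ c = -1 := by decide

theorem three_sq : ∀ c : ZMod 3, c ≠ 0 → c * c = 1 := by decide

theorem three_opp : ∀ a b : ZMod 3, a ≠ 0 → b ≠ 0 → a ≠ b → b = -a := by decide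

theorem three_eq : ∀ a b : ZMod 3, a * b = 1 → b = a := by decide

theorem three_neg : ∀ a b : ZMod 3, a * b = -1 → b = -a := by decide

theorem three_contra : ∀ a b : ZMod 3, a * b = 1 → b = -a → False := by decide


/-- Let q = 2^m + 1 be a prime other than 5. Then the automorphism group of the group of linear maps of F_q² of the forms (x, y) ↦ (a x, ± a⁻¹ y) and (x, y) ↦ (± a⁻¹ y, a x) with a ≠ 0 is itself a 2-group. -/
theorem result (q m : ℕ) [Fact q.Prime] (hq : q = 2 ^ m + 1) (hq5 : q ≠ 5)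
    (T : Subgroup ((Fin 2 → ZMod q) ≃ₗ[ZMod q] (Fin 2 → ZMod q)))
    (hT : ∀ f, f ∈ T ↔ ∃ a s : ZMod q, a ≠ 0 ∧ (s = 1 ∨ s = -1) ∧
      ((∀ v, f v = ![a * v 0, s * a⁻¹ * v 1]) ∨ (∀ v, f v = ![s * a⁻¹ * v 1, a * v 0]))) :
    IsPGroup 2 (MulAut T) := by
  classical
  by_cases hm0 : m = 0
  · subst hm0
    have h2 : q = 2 := by simpa using hq
    subst h2
    -- here `T` is the group of order two
    refine fun φ => ⟨0, ?_⟩
    rw [pow_zero, pow_one]
    refine MulEquiv.ext fun x => ?_
    have hsub : ∀ y : T, y ≠ 1 → Sw y 1 1 := by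
      intro y hy
      obtain ⟨a, s, ha, hs, h⟩ := (hT _).mp y.2
      have h1 := two_units
      have hs1 : s = 1 := h1 s (by rcases hs with rfl | rfl <;> first | exact two_ne.1 | exact two_ne.2)
      have ha1 : a = 1 := h1 a ha
      subst hs1 ha1
      rcases h with h | h
      · refine absurd (dg_unique (x := y) (y := 1) (α := 1) (β := 1) (fun v => ?_) dg_one) hy
        rw [h]; simp
      · intro v; rw [h]; simp
    rcases eq_or_ne x 1 with h | h
    · rw [h, map_one, map_one]
    · rw [MulAut.one_apply]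
      refine Subtype.ext (LinearEquiv.ext fun v => ?_)
      rw [hsub x h v, hsub (φ x) (fun e => h (φ.injective (e.trans (map_one φ).symm))) v]
  haveI : Finite ((Fin 2 → ZMod q) ≃ₗ[ZMod q] (Fin 2 → ZMod q)) := Finite.of_injective _ DFunLike.coe_injective
  have hform : ∀ x : T, ∃ α β : ZMod q, α ≠ 0 ∧ β ≠ 0 ∧ (α * β = 1 ∨ α * β = -1) ∧ (Dg x α β ∨ Sw x α β) := by
    intro x
    obtain ⟨a, s, ha, hs, h⟩ := (hT _).mp x.2
    refine ⟨a, s * a⁻¹, ha, mul_ne_zero ?_ (inv_ne_zero ha), ?_, h⟩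
    · rcases hs with rfl | rfl <;> simp
    · rw [mul_left_comm, mul_inv_cancel₀ ha, mul_one]; exact hs
  have hmk : ∀ a : ZMod q, a ≠ 0 → ∃ x : T, Dg x a a⁻¹ := by
    intro a ha
    let f : (Fin 2 → ZMod q) ≃ₗ[ZMod q] (Fin 2 → ZMod q) :=
      LinearEquiv.piCongrRight fun i => LinearEquiv.smulOfUnit
        (if i = 0 then Units.mk0 a ha else (Units.mk0 a ha)⁻¹)
    have hf : ∀ v, f v = ![a * v 0, a⁻¹ * v 1] := fun v => by
      funext i; fin_cases i <;> simp [f, LinearEquiv.smulOfUnit, Units.smul_def]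
    exact ⟨⟨f, (hT f).mpr ⟨a, 1, ha, Or.inl rfl, Or.inl fun v => by rw [hf, one_mul]⟩⟩, hf⟩
  have hqm : q - 1 = 2 ^ m := (congrArg (· - 1) hq).trans (Nat.add_sub_cancel _ _)
  have hflt : ∀ a : ZMod q, a ≠ 0 → a ^ (2 ^ m) = 1 := fun a ha => hqm ▸ ZMod.pow_card_sub_one_eq_one ha
  have h2 : ((2 : ℕ) : ZMod q) ≠ 0 := by
    rw [Ne, CharP.cast_eq_zero_iff (ZMod q) q]
    intro h
    have h' := Nat.le_of_dvd two_pos h
    have h'' : 2 ≤ 2 ^ m := Nat.le_self_pow hm0 2
    omega
  have hneg : (-1 : ZMod q) ≠ 1 := by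
    intro h
    apply h2
    push_cast
    linear_combination -h
  have hnotA : ∀ y : T, ∀ α β, Sw y α β → (α * β = 1 ∨ α * β = -1) → y ^ 4 = 1 := by
    intro y α β hy hs
    have h4 := dg_pow (sw_mul_sw hy hy) 2
    rw [mul_comm β α, ← sq, ← pow_mul] at h4
    have hone : (α * β) ^ 2 = 1 := by rcases hs with h | h <;> rw [h] <;> ring
    rw [hone] at h4
    exact dg_unique h4 dg_one
  have hXp : IsPGroup 2 T := by
    intro x
    refine ⟨m + 2, ?_⟩
    obtain ⟨α, β, hα, hβ, hs, h | h⟩ := hform x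
    · have h4 := dg_pow h (2 ^ (m + 2))
      rw [pow_add, pow_mul α, pow_mul β, hflt α hα, hflt β hβ, one_pow, ← pow_add] at h4
      exact dg_unique h4 dg_one
    · rw [pow_add, mul_comm, pow_mul, show (2 : ℕ) ^ 2 = 4 from rfl, hnotA x α β h hs, one_pow]
  by_cases hm1 : m = 1
  · -- dihedral group of order 8
    subst hm1
    have hq3 : q = 3 := by simpa using hq
    subst hq3
    let S : ℕ → Set T := fun k => match k with
      | 0 => Set.univ
      | 1 => {x | x ^ 2 ≠ 1 ∨ ∃ y, y ^ 2 = x}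
      | 2 => {x | ∃ y, y ^ 2 = x}
      | _ => {1}
    refine aut_isPGroup_of_chain hXp S 3 (fun x => trivial) (fun x hx => hx) ?_ ?_
    · intro φ k hk x hx
      match k with
      | 0 => trivial
      | 1 =>
        rcases hx with h | ⟨y, hy⟩
        · left; rw [← map_pow]; exact fun e => h (φ.injective (e.trans (map_one φ).symm))
        · right; exact ⟨φ y, by rw [← map_pow, hy]⟩
      | 2 =>
        obtain ⟨y, hy⟩ := hx
        exact ⟨φ y, by rw [← map_pow, hy]⟩
      | 3 =>
        have hx' : x = 1 := hx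
        show φ x = 1
        rw [hx', map_one]
      | k + 4 => omega
    · have hunit := three_units
      have hmul := three_sq
      -- squares are the two scalars
      have hsc : ∀ x : T, ∀ α, Dg x α α → α ≠ 0 → ∃ y, y ^ 2 = x := by
        intro x α hx hα
        rcases hunit α hα with rfl | rfl
        · exact ⟨1, by rw [one_pow]; exact dg_unique dg_one hx⟩
        · let w : (Fin 2 → ZMod 3) ≃ₗ[ZMod 3] (Fin 2 → ZMod 3) :=
            (LinearEquiv.funCongrLeft (ZMod 3) (ZMod 3) (Equiv.swap 0 1)).trans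
              (LinearEquiv.piCongrRight fun i => LinearEquiv.smulOfUnit (if i = 0 then -1 else 1))
          have hw : ∀ v, w v = ![(-1) * v 1, 1 * v 0] := fun v => by
            funext i; fin_cases i <;> simp [w, LinearEquiv.smulOfUnit, Units.smul_def]
          let y : T := ⟨w, (hT w).mpr ⟨1, -1, one_ne_zero, Or.inr rfl, Or.inr fun v => by rw [hw]; simp⟩⟩
          refine ⟨y, ?_⟩
          have hy : Sw y 1 (-1) := hw
          have := sw_mul_sw hy hy
          rw [mul_one, one_mul] at this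
          rw [sq]
          exact dg_unique this hx
      intro k hk x hx y hy hxn hyn
      obtain ⟨α, β, hα, hβ, hs, hxf⟩ := hform x
      obtain ⟨γ, δ, hγ, hδ, ht, hyf⟩ := hform y
      match k with
      | 0 =>
        simp only [S, Set.mem_setOf_eq, not_or, not_exists, ne_eq, not_not] at hxn hyn
        rw [inv_eq_of_mul_eq_one_left (by rw [← sq]; exact hxn.1)]
        rcases hxf with hd | hw <;> rcases hyf with hd' | hw'
        · right
          refine hsc _ (α * γ) ?_ (mul_ne_zero hα hγ)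
          have hne : α ≠ β := fun e => by
            subst e
            obtain ⟨w, hw⟩ := hsc x α hd hα
            exact hxn.2 w hw
          have hne' : γ ≠ δ := fun e => by
            subst e
            obtain ⟨w, hw⟩ := hsc y γ hd' hγ
            exact hyn.2 w hw
          have := dg_mul_dg hd hd'
          have key : β * δ = α * γ := by
            rw [three_opp _ _ hα hβ hne, three_opp _ _ hγ hδ hne']; ring
          rwa [key] at this
        · left
          intro hsq
          have h := dg_mul_sw hd hw'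
          have h2' := sw_mul_sw h h
          rw [← sq, hsq] at h2'
          obtain ⟨e1, -⟩ := dg_inj dg_one h2'
          have hyy := sw_mul_sw hw' hw'
          rw [← sq, hyn.1] at hyy
          obtain ⟨e2, -⟩ := dg_inj dg_one hyy
          have hne : α ≠ β := fun e => by
            subst e
            obtain ⟨w, hw⟩ := hsc x α hd hα
            exact hxn.2 w hw
          exact three_contra α β (by linear_combination -e1 + (α * β) * e2) (three_opp _ _ hα hβ hne)
        · left
          intro hsq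
          have h := sw_mul_dg hw hd'
          have h2' := sw_mul_sw h h
          rw [← sq, hsq] at h2'
          obtain ⟨e1, -⟩ := dg_inj dg_one h2'
          have hxx := sw_mul_sw hw hw
          rw [← sq, hxn.1] at hxx
          obtain ⟨e2, -⟩ := dg_inj dg_one hxx
          have hne : γ ≠ δ := fun e => by
            subst e
            obtain ⟨w, hw⟩ := hsc y γ hd' hγ
            exact hyn.2 w hw
          exact three_contra γ δ (by linear_combination -e1 + (γ * δ) * e2) (three_opp _ _ hγ hδ hne)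
        · right
          refine hsc _ (β * γ) ?_ (mul_ne_zero hβ hγ)
          have hxx := sw_mul_sw hw hw
          rw [← sq, hxn.1] at hxx
          obtain ⟨e1, -⟩ := dg_inj dg_one hxx
          have hyy := sw_mul_sw hw' hw'
          rw [← sq, hyn.1] at hyy
          obtain ⟨e2, -⟩ := dg_inj dg_one hyy
          have := sw_mul_sw hw hw'
          have key : α * δ = β * γ := by
            rw [three_eq β α e1.symm, three_eq δ γ e2.symm]
          rwa [key] at this
      | 1 =>
        simp only [S, Set.mem_setOf_eq, not_exists] at hx hy hxn hyn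
        have hx2 : x ^ 2 ≠ 1 := hx.resolve_right (not_exists.mpr hxn)
        have hy2 : y ^ 2 ≠ 1 := hy.resolve_right (not_exists.mpr hyn)
        rcases hxf with hd | hw
        · refine absurd (dg_unique (dg_pow hd 2) ?_) hx2
          rw [sq, sq, hmul α hα, hmul β hβ]; exact dg_one
        rcases hyf with hd' | hw'
        · refine absurd (dg_unique (dg_pow hd' 2) ?_) hy2
          rw [sq, sq, hmul γ hγ, hmul δ hδ]; exact dg_one
        have hne1 : α * β ≠ 1 := fun e => hx2 (dg_unique (by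
          have := sw_mul_sw hw hw
          rw [← sq, mul_comm β α, e] at this
          exact this) dg_one)
        have hne2 : γ * δ ≠ 1 := fun e => hy2 (dg_unique (by
          have := sw_mul_sw hw' hw'
          rw [← sq, mul_comm δ γ, e] at this
          exact this) dg_one)
        -- `x⁻¹ = x³` and `x² = -1`
        have hx4 : x⁻¹ = x * x * x := by
          have h4 := hnotA x α β hw hs
          rw [inv_eq_iff_mul_eq_one, ← h4]
          simp only [pow_succ, pow_zero, one_mul, mul_assoc]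
        rw [hx4]
        show ∃ z, z ^ 2 = x * x * x * y
        have hprod := dg_mul_dg (sw_mul_sw hw hw) (sw_mul_sw hw hw')
        refine hsc _ ((β * α) * (β * γ)) ?_ (mul_ne_zero (mul_ne_zero hβ hα) (mul_ne_zero hβ hγ))
        rw [mul_assoc (x * x)]
        have key : α * β * (α * δ) = β * α * (β * γ) := by
          rw [three_neg α β (hs.resolve_left hne1), three_neg γ δ (ht.resolve_left hne2)]; ring
        rwa [key] at hprod
      | 2 =>
        obtain ⟨u, rfl⟩ := hx
        obtain ⟨v, rfl⟩ := hy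
        show (u ^ 2)⁻¹ * v ^ 2 = 1
        rw [inv_mul_eq_one]
        have hsq : ∀ u : T, u ^ 2 ≠ 1 → Dg (u ^ 2) (-1) (-1) := by
          intro u hu
          obtain ⟨a, b, ha, hb, hab, hf | hf⟩ := hform u
          · refine absurd (dg_unique (dg_pow hf 2) ?_) hu
            rw [sq, sq, hmul a ha, hmul b hb]; exact dg_one
          · have := sw_mul_sw hf hf
            rw [← sq, mul_comm b a] at this
            rcases hab with e | e
            · rw [e] at this; exact absurd (dg_unique this dg_one) hu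
            · rwa [e] at this
        exact dg_unique (hsq u hxn) (hsq v hyn)
      | k + 3 => omega
  -- the general case
  have hm2 : m ≠ 2 := fun e => hq5 (by rw [hq, e]; rfl)
  have hm3 : 3 ≤ m := by omega
  obtain ⟨g, hg⟩ := (inferInstance : IsCyclic (ZMod q)ˣ).exists_generator
  have hgo : orderOf g = 2 ^ m := by
    rw [orderOf_eq_card_of_forall_mem_zpowers hg, Nat.card_units, Nat.card_zmod, hqm]
  have hg4 : (g : ZMod q) ^ 4 ≠ 1 := by
    intro h
    have h1 : g ^ 4 = 1 := Units.ext (by simpa using h)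
    have h2 := Nat.le_of_dvd (by norm_num) (orderOf_dvd_of_pow_eq_one h1)
    have h3 : 2 ^ 3 ≤ 2 ^ m := Nat.pow_le_pow_right two_pos hm3
    omega
  have hneg_sq : ∃ i : ZMod q, i * i = -1 := by
    have hh := pow_mul (g : ZMod q) (2 ^ (m - 1)) 2
    rw [← pow_succ, show m - 1 + 1 = m by omega, hflt _ g.ne_zero] at hh
    rcases sq_eq_one_iff.mp hh.symm with h | h
    · exfalso
      have h1 : g ^ (2 ^ (m - 1)) = 1 := Units.ext (by simpa using h)
      have h2 := orderOf_dvd_of_pow_eq_one h1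
      rw [hgo, Nat.pow_dvd_pow_iff_le_right (by norm_num)] at h2
      omega
    · exact ⟨(g : ZMod q) ^ (2 ^ (m - 2)), by
        rw [← pow_add, ← two_mul, ← pow_succ', show m - 2 + 1 = m - 1 by omega, h]⟩
  -- membership in the diagonal subgroup is invariant
  let A : Set T := {x | ∃ α β, α ≠ 0 ∧ Dg x α β}
  have hnA : ∀ x : T, x ∉ A → ∃ α β, α ≠ 0 ∧ β ≠ 0 ∧ (α * β = 1 ∨ α * β = -1) ∧ Sw x α β := by
    intro x hx
    obtain ⟨α, β, hα, hβ, hs, h | h⟩ := hform x
    · exact absurd ⟨α, β, hα, h⟩ hx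
    · exact ⟨α, β, hα, hβ, hs, h⟩
  have hAinv : ∀ (φ : MulAut T) (x : T), x ∈ A → φ x ∈ A := by
    intro φ x hx
    obtain ⟨c, hc⟩ := hmk g g.ne_zero
    have hc4 : c ^ 4 ≠ 1 := fun e => by
      have := dg_pow hc 4
      rw [e] at this
      exact hg4 (dg_inj dg_one this).1.symm
    have hφc : φ c ∈ A := by
      by_contra h
      obtain ⟨α, β, -, -, hs, hw⟩ := hnA _ h
      have := hnotA _ α β hw hs
      rw [← map_pow] at this
      exact hc4 (φ.injective (this.trans (map_one φ).symm))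
    obtain ⟨γ, δ, hγ, hd⟩ := hφc
    have hγ4 : γ ^ 4 ≠ 1 ∨ δ ^ 4 ≠ 1 := by
      by_contra h
      push Not at h
      have := dg_pow hd 4
      rw [h.1, h.2] at this
      have h' := dg_unique this dg_one
      rw [← map_pow] at h'
      exact hc4 (φ.injective (h'.trans (map_one φ).symm))
    by_contra hout
    obtain ⟨α, β, hα, hβ, -, hw⟩ := hnA _ hout
    obtain ⟨a, b, -, hxd⟩ := hx
    have hcomm : φ c * φ x = φ x * φ c := by
      rw [← map_mul, ← map_mul]
      congr 1
      refine dg_unique (dg_mul_dg hc hxd) ?_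
      rw [mul_comm (g : ZMod q) a, mul_comm ((g : ZMod q)⁻¹) b]
      exact dg_mul_dg hxd hc
    have h1 := dg_mul_sw hd hw
    rw [hcomm] at h1
    obtain ⟨e1, -⟩ := sw_inj (sw_mul_dg hw hd) h1
    have hgd : γ = δ := mul_left_cancel₀ hα (e1.trans (mul_comm δ α))
    obtain ⟨γ', δ', -, -, hst, hdg | hsw⟩ := hform (φ c)
    · obtain ⟨h5, h6⟩ := dg_inj hd hdg
      rw [← h5, ← h6, ← hgd, ← sq] at hst
      have h44 : γ ^ 4 = 1 := by
        rw [show γ ^ 4 = (γ ^ 2) ^ 2 by ring]
        rcases hst with h | h <;> rw [h] <;> ring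
      rcases hγ4 with h | h
      · exact h h44
      · exact h (hgd ▸ h44)
    · exact not_dg_sw hd hsw hγ
  have hAmul : ∀ x ∈ A, ∀ y ∈ A, x⁻¹ * y ∈ A := by
    intro x hx y hy
    by_contra h
    obtain ⟨α, β, hα, -, -, hw⟩ := hnA _ h
    obtain ⟨a, b, ha, hd⟩ := hx
    obtain ⟨c, e, hc, hy⟩ := hy
    have := dg_mul_sw hd hw
    rw [mul_inv_cancel_left] at this
    exact not_dg_sw hy this hc
  let S : ℕ → Set T := fun k => if k = 0 then Set.univ else if k ≤ m then
    {x | x ∈ A ∧ x ^ (2 ^ (m + 1 - k)) = 1} else if k = m + 1 then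
    {x | x ∈ A ∧ x ^ 2 = 1 ∧ ∃ w ∈ A, w ^ 2 = x} else {1}
  refine aut_isPGroup_of_chain hXp S (m + 2) (fun x => by simp [S]) (fun x hx => ?_) ?_ ?_
  · simpa [S] using hx
  · intro φ k _ x hx
    simp only [S] at hx ⊢
    split_ifs at hx ⊢
    · trivial
    · exact ⟨hAinv φ x hx.1, by rw [← map_pow, hx.2, map_one]⟩
    · obtain ⟨h1, h2', w, hw, hwx⟩ := hx
      exact ⟨hAinv φ x h1, by rw [← map_pow, h2', map_one], φ w, hAinv φ w hw, by rw [← map_pow, hwx]⟩
    · simp only [Set.mem_singleton_iff] at hx ⊢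
      rw [hx, map_one]
  · intro k hk x hx y hy hxn hyn
    -- an involution which is a square in `A` is `-1`
    have hneg1 : ∀ z : T, z ≠ 1 → z ^ 2 = 1 → (∃ w ∈ A, w ^ 2 = z) → Dg z (-1) (-1) := by
      rintro z hz1 hz2 ⟨w, ⟨a, b, ha, hd⟩, rfl⟩
      obtain ⟨a', b', -, -, hs, hd' | hw'⟩ := hform w
      · obtain ⟨e1, e2⟩ := dg_inj hd hd'
        rw [← e1, ← e2] at hs
        have hw2 := dg_pow hd 2
        have h4 := dg_pow hw2 2
        rw [hz2] at h4
        obtain ⟨f1, -⟩ := dg_inj dg_one h4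
        have hab : a ^ 2 * b ^ 2 = 1 := by
          rw [← mul_pow]; rcases hs with h | h <;> rw [h] <;> ring
        rcases sq_eq_one_iff.mp f1.symm with h | h
        · rw [h, one_mul] at hab
          rw [h, hab] at hw2
          exact absurd (dg_unique hw2 dg_one) hz1
        · rw [h, neg_one_mul, neg_eq_iff_eq_neg] at hab
          rwa [h, hab] at hw2
      · exact (not_dg_sw hd hw' ha).elim
    by_cases hk0 : k = 0
    · subst hk0
      simp only [S, one_ne_zero, if_false, if_pos (show 1 ≤ m by omega)] at hxn hyn ⊢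
      have hA1 : ∀ z ∈ A, z ^ (2 ^ (m + 1 - 1)) = 1 := by
        rintro z ⟨a, b, ha, hd⟩
        obtain ⟨a', b', -, hb', -, hd' | hw'⟩ := hform z
        · obtain ⟨-, e2⟩ := dg_inj hd hd'
          have := dg_pow hd (2 ^ m)
          rw [hflt a ha, e2, hflt b' hb'] at this
          rw [Nat.add_sub_cancel]
          exact dg_unique this dg_one
        · exact (not_dg_sw hd hw' ha).elim
      have hout : ∀ z : T, ¬ (z ∈ A ∧ z ^ (2 ^ (m + 1 - 1)) = 1) → z ∉ A := fun z h hz => h ⟨hz, hA1 z hz⟩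
      obtain ⟨α, β, hα, hβ, hs, hw⟩ := hnA x (hout x hxn)
      obtain ⟨γ, δ, hγ, -, -, hw'⟩ := hnA y (hout y hyn)
      have hmemA : x⁻¹ * y ∈ A := by
        by_contra h
        obtain ⟨a, b, ha, -, -, hsw⟩ := hnA _ h
        have := sw_mul_sw hw hsw
        rw [mul_inv_cancel_left] at this
        exact not_dg_sw this hw' (mul_ne_zero hβ ha)
      exact ⟨hmemA, hA1 _ hmemA⟩
    by_cases hkm : k < m
    · simp only [S, hk0, if_false, Nat.succ_ne_zero, if_pos hkm.le, if_pos (show k + 1 ≤ m by omega),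
        Set.mem_setOf_eq] at hx hy hxn hyn ⊢
      rw [show m + 1 - (k + 1) = m - k by omega] at hxn hyn ⊢
      refine ⟨hAmul x hx.1 y hy.1, ?_⟩
      have hz : ∀ z : T, z ∈ A → z ^ (2 ^ (m + 1 - k)) = 1 → ¬(z ∈ A ∧ z ^ (2 ^ (m - k)) = 1) →
          Dg (z ^ (2 ^ (m - k))) (-1) (-1) := by
        intro z hzA h1 h2'
        refine hneg1 _ (fun e => h2' ⟨hzA, e⟩) ?_ ⟨z ^ (2 ^ (m - k - 1)), ?_, ?_⟩
        · rw [← pow_mul, ← pow_succ, show m - k + 1 = m + 1 - k by omega, h1]
        · obtain ⟨a, b, ha, hd⟩ := hzA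
          exact ⟨_, _, pow_ne_zero _ ha, dg_pow hd _⟩
        · rw [← pow_mul, ← pow_succ, show m - k - 1 + 1 = m - k by omega]
      have hcomm : Commute x⁻¹ y := by
        refine Commute.inv_left ?_
        obtain ⟨a, b, -, hd⟩ := hx.1
        obtain ⟨c, e, -, hd'⟩ := hy.1
        refine dg_unique (dg_mul_dg hd hd') ?_
        rw [mul_comm a c, mul_comm b e]
        exact dg_mul_dg hd' hd
      rw [hcomm.mul_pow, inv_pow, inv_mul_eq_one]
      exact dg_unique (hz x hx.1 hx.2 hxn) (hz y hy.1 hy.2 hyn)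
    by_cases hkm' : k = m
    · subst hkm'
      simp only [S, hk0, if_false, Nat.succ_ne_zero, le_refl, if_true,
        if_neg (show ¬ k + 1 ≤ k by omega), Set.mem_setOf_eq] at hx hy hxn hyn ⊢
      rw [show k + 1 - k = 1 by omega, pow_one] at hx hy
      -- an involution of `A` which is not a square
      have hns : ∀ z : T, z ∈ A → z ^ 2 = 1 → ¬(z ∈ A ∧ z ^ 2 = 1 ∧ ∃ w ∈ A, w ^ 2 = z) →
          ∃ e : ZMod q, (e = 1 ∨ e = -1) ∧ Dg z e (-e) := by
        rintro z ⟨a, b, ha, hd⟩ h1 h2'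
        have h3 := dg_pow hd 2
        rw [h1] at h3
        obtain ⟨f1, f2⟩ := dg_inj dg_one h3
        rcases sq_eq_one_iff.mp f1.symm with rfl | rfl <;> rcases sq_eq_one_iff.mp f2.symm with rfl | rfl
        · exact absurd ⟨⟨1, 1, one_ne_zero, hd⟩, h1, 1, ⟨1, 1, one_ne_zero, dg_one⟩,
            by rw [one_pow]; exact dg_unique dg_one hd⟩ h2'
        · exact ⟨1, Or.inl rfl, hd⟩
        · exact ⟨-1, Or.inr rfl, by rwa [neg_neg]⟩
        · obtain ⟨i, hi⟩ := hneg_sq
          have hi0 : i ≠ 0 := fun e => by simp [e] at hi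
          obtain ⟨w, hw⟩ := hmk i hi0
          refine absurd ⟨⟨-1, -1, ha, hd⟩, h1, w, ⟨i, i⁻¹, hi0, hw⟩, ?_⟩ h2'
          have := dg_pow hw 2
          rw [sq, inv_pow, sq, hi, inv_neg, inv_one] at this
          rw [sq]
          exact dg_unique this hd
      obtain ⟨e, he, hxd⟩ := hns x hx.1 hx.2 hxn
      obtain ⟨e', he', hyd⟩ := hns y hy.1 hy.2 hyn
      rw [inv_eq_of_mul_eq_one_left (by rw [← sq]; exact hx.2)]
      have hp' := dg_mul_dg hxd hyd
      rw [neg_mul_neg] at hp'
      have hA : x * y ∈ A := ⟨_, _, by rcases he with rfl | rfl <;> rcases he' with rfl | rfl <;> simp, hp'⟩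
      have hsq2 : (x * y) ^ 2 = 1 := by
        have h := dg_pow hp' 2
        have h1 : (e * e') ^ 2 = 1 := by
          rcases he with rfl | rfl <;> rcases he' with rfl | rfl <;> ring
        rw [h1] at h
        exact dg_unique h dg_one
      refine ⟨hA, hsq2, ?_⟩
      have hval : e * e' = 1 ∨ e * e' = -1 := by
        rcases he with rfl | rfl <;> rcases he' with rfl | rfl <;> simp
      rcases hval with h | h
      · rw [h] at hp'
        exact ⟨1, ⟨1, 1, one_ne_zero, dg_one⟩, by rw [one_pow]; exact dg_unique dg_one hp'⟩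
      · rw [h] at hp'
        obtain ⟨i, hi⟩ := hneg_sq
        have hi0 : i ≠ 0 := fun e => by simp [e] at hi
        obtain ⟨w, hw⟩ := hmk i hi0
        refine ⟨w, ⟨i, i⁻¹, hi0, hw⟩, dg_unique ?_ hp'⟩
        have := dg_pow hw 2
        rwa [sq, inv_pow, sq, hi, inv_neg, inv_one] at this
    · have hk1 : k = m + 1 := by omega
      subst hk1
      simp only [S, Nat.succ_ne_zero, if_false, if_neg (show ¬ m + 1 ≤ m by omega), if_true,
        if_neg (show ¬ m + 1 + 1 ≤ m by omega), if_neg (show ¬ m + 1 + 1 = m + 1 by omega),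
        Set.mem_setOf_eq, Set.mem_singleton_iff] at hx hy hxn hyn ⊢
      rw [inv_mul_eq_one]
      exact dg_unique (hneg1 x hxn hx.2.1 hx.2.2) (hneg1 y hyn hy.2.1 hy.2.2)

end Cfsg.Agent.S3382
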