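import Cfsg.Statements.S3383

set_option autoImplicit false
open Cfsg

namespace Cfsg.Agent.S3383

open scoped Pointwise in
theorem kernel_mem_iff {L : Type*} [Group L] (H : Subgroup L) (x : L) :
    x ∈ Cfsg.frobeniusKernel H ↔ x = 1 ∨ ∀ g : L, g⁻¹ * x * g ∉ H := by
  simp [Cfsg.frobeniusKernel, Subgroup.mem_pointwise_smul_iff_inv_smul_mem]

open scoped Pointwise

/-- Let H be a Frobenius complement in a finite group L and K the Frobenius kernel (as a subgroup). Then K is characteristic in L, and every normal subgroup of L either contains K or is contained in K. -/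
theorem result {L : Type*} [Group L] [Finite L]
    (H : Subgroup L) (hH : Cfsg.IsFrobeniusComplement H)
    (K : Subgroup L) (hK : (K : Set L) = Cfsg.frobeniusKernel H) :
    K.Characteristic ∧ ∀ N : Subgroup L, N.Normal → K ≤ N ∨ N ≤ K := by
  obtain ⟨-, -, hTI⟩ := hH
  classical
  have hmem : ∀ x : L, x ∈ K ↔ x = 1 ∨ ∀ g : L, g⁻¹ * x * g ∉ H := fun x => by
    rw [← SetLike.mem_coe, hK]; exact kernel_mem_iff H x
  have hKn : K.Normal := ⟨fun x hx c => by
    rw [hmem] at hx ⊢
    rcases hx with h | h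
    · left; rw [h]; group
    · right
      intro g hg
      refine h (c⁻¹ * g) ?_
      convert hg using 1
      group⟩
  have hcmp : ∀ N : Subgroup L, N.Normal → K ≤ N ∨ N ≤ K := by
    intro N hN
    by_cases hNK : N ≤ K
    · exact Or.inr hNK
    left
    obtain ⟨x, hxN, hxK⟩ := SetLike.not_le_iff_exists.mp hNK
    rw [hmem, not_or] at hxK
    obtain ⟨hx1, hxg⟩ := hxK
    push_neg at hxg
    obtain ⟨g, hhH⟩ := hxg
    set h := g⁻¹ * x * g with hh
    have hhN : h ∈ N := by simpa [hh] using hN.conj_mem x hxN g⁻¹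
    have hh1 : h ≠ 1 := fun e => hx1 (by simpa [hh, mul_assoc] using congrArg (fun y => g * y * g⁻¹) e)
    let φ : K → ↥(K ⊓ N) := fun k => ⟨(k : L) * h * (k : L)⁻¹ * h⁻¹,
      ⟨by
        have : h * (k : L)⁻¹ * h⁻¹ ∈ K := hKn.conj_mem _ (K.inv_mem k.2) h
        simpa [mul_assoc] using K.mul_mem k.2 this,
       N.mul_mem (hN.conj_mem h hhN _) (N.inv_mem hhN)⟩⟩
    have hinj : Function.Injective φ := by
      intro a b hab
      have hab' : (a : L) * h * (a : L)⁻¹ = (b : L) * h * (b : L)⁻¹ :=
        mul_right_cancel (congrArg Subtype.val hab)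
      have hc : (b : L)⁻¹ * a * h * ((b : L)⁻¹ * a)⁻¹ = h := by
        have := congrArg (fun y => (b : L)⁻¹ * y * b) hab'
        simpa [mul_assoc] using this
      have hbK : (b : L)⁻¹ * a ∈ K := K.mul_mem (K.inv_mem b.2) a.2
      have hbH : (b : L)⁻¹ * a ∈ H := by
        by_contra hout
        have := hTI _ hout
        refine hh1 (Subgroup.mem_bot.mp (this ▸ ⟨hhH, ?_⟩))
        show h ∈ MulAut.conj ((b : L)⁻¹ * a) • H
        rw [Subgroup.mem_pointwise_smul_iff_inv_smul_mem, ← map_inv, MulAut.smul_def, MulAut.conj_apply, inv_inv]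
        have : ((b : L)⁻¹ * a)⁻¹ * h * ((b : L)⁻¹ * a) = h := by
          have := congrArg (fun y => ((b : L)⁻¹ * a)⁻¹ * y * ((b : L)⁻¹ * a)) hc
          simpa [mul_assoc] using this.symm
        rw [this]; exact hhH
      rcases (hmem _).mp hbK with h1 | h1
      · exact Subtype.ext (inv_mul_eq_one.mp h1).symm
      · exact absurd (by simpa using hbH) (h1 1)
    have hle := Nat.card_le_card_of_injective φ hinj
    exact inf_eq_left.mp (Subgroup.eq_of_le_of_card_ge inf_le_left hle)
  refine ⟨?_, hcmp⟩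
  rw [Subgroup.characteristic_iff_map_eq]
  intro φ
  have hφn : (K.map φ.toMonoidHom).Normal := hKn.map _ φ.surjective
  have hcard : Nat.card (K.map φ.toMonoidHom) = Nat.card K :=
    Nat.card_congr (Subgroup.equivMapOfInjective K _ φ.injective).toEquiv.symm
  rcases hcmp _ hφn with h | h
  · exact (Subgroup.eq_of_le_of_card_ge h hcard.le).symm
  · exact Subgroup.eq_of_le_of_card_ge h hcard.ge

end Cfsg.Agent.S3383
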