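import Cfsg.Statements.S3389
import Cfsg.Agent.H60.Derangement

set_option autoImplicit false
open Cfsg

namespace Cfsg.Agent.S3389

theorem centre_dvd {G : Type*} [Group G] [Finite G] {Ω : Type*} [MulAction G Ω] [FaithfulSMul G Ω]
    [MulAction.IsPretransitive G Ω] (g : G) [Finite Ω] :
    Nat.card (Subgroup.center G) ∣ Nat.card (MulAction.fixedBy Ω g) := by
  letI : MulAction (Subgroup.center G) (MulAction.fixedBy Ω g) :=
    { smul := fun z x => ⟨(z : G) • (x : Ω), by
        rw [MulAction.mem_fixedBy, ← mul_smul, Subgroup.mem_center_iff.mp z.2 g, mul_smul, x.2]⟩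
      one_smul := fun x => Subtype.ext (one_smul G (x : Ω))
      mul_smul := fun a b x => Subtype.ext (mul_smul (a : G) (b : G) (x : Ω)) }
  have hfree : ∀ x : MulAction.fixedBy Ω g, MulAction.stabilizer (Subgroup.center G) x = ⊥ := by
    intro x
    rw [eq_bot_iff]
    intro z hz
    have hzx : (z : G) • (x : Ω) = x := congrArg Subtype.val (MulAction.mem_stabilizer_iff.mp hz)
    rw [Subgroup.mem_bot]
    refine Subtype.ext (H60.eq_one_of_forall_smul_eq (Ω := Ω) fun b => ?_)
    obtain ⟨c, rfl⟩ := MulAction.exists_smul_eq G (x : Ω) b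
    rw [← mul_smul, ← Subgroup.mem_center_iff.mp z.2 c, mul_smul, hzx]
  exact ⟨_, by rw [Nat.card_congr (MulAction.selfEquivOrbitsQuotientProd hfree), Nat.card_prod]; ring⟩

open scoped Classical in
theorem even_of_fixity_two {G : Type*} [Group G] [Finite G] {Ω : Type*} [Fintype Ω] [MulAction G Ω]
    [MulAction.IsPretransitive G Ω]
    (hfix : ∀ g : G, g ≠ 1 → Nat.card (MulAction.fixedBy Ω g) ≤ 2)
    (g : G) (hg1 : g ≠ 1) (hg2 : Nat.card (MulAction.fixedBy Ω g) = 2) :
    2 ∣ Nat.card G := by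
  by_contra hodd
  haveI := Fintype.ofFinite G
  obtain ⟨⟨a, ha⟩, ⟨b, hb⟩, hne, hall⟩ : ∃ x y : MulAction.fixedBy Ω g, x ≠ y ∧ ∀ z, z = x ∨ z = y := by
    obtain ⟨x, y, hxy, huniv⟩ := Nat.card_eq_two_iff.mp hg2
    exact ⟨x, y, hxy, fun z => by simpa using (huniv ▸ Set.mem_univ z : z ∈ ({x, y} : Set _))⟩
  have hab : a ≠ b := fun h => hne (Subtype.ext h)
  let K : Subgroup G := MulAction.stabilizer G a ⊓ MulAction.stabilizer G b
  have hgK : g ∈ K := ⟨ha, hb⟩
  -- fixed set of a nontrivial element of `K`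
  have hfixK : ∀ k ∈ K, k ≠ 1 → ∀ c : Ω, k • c = c → c = a ∨ c = b := by
    intro k hk hk1 c hc
    by_contra hcon
    push_neg at hcon
    have hsub : ({a, b, c} : Finset Ω) ⊆ (MulAction.fixedBy Ω k).toFinset := by
      intro x hx
      simp only [Finset.mem_insert, Finset.mem_singleton] at hx
      rw [Set.mem_toFinset]
      rcases hx with rfl | rfl | rfl
      · exact hk.1
      · exact hk.2
      · exact hc
    have h3 : ({a, b, c} : Finset Ω).card = 3 :=
      Finset.card_eq_three.mpr ⟨a, b, c, hab, fun h => hcon.1 h.symm, fun h => hcon.2 h.symm, rfl⟩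
    have := Finset.card_le_card hsub
    have h2 := hfix k hk1
    rw [Nat.card_eq_fintype_card, ← Set.toFinset_card] at h2
    omega
  -- conjugates of nontrivial elements of `K` are parametrised injectively by `G / K`
  have hnorm : ∀ x : G, ∀ k ∈ K, k ≠ 1 → x * k * x⁻¹ ∈ K → x ∈ K := by
    intro x k hk hk1 hxk
    have hk1' : x * k * x⁻¹ ≠ 1 := fun h => hk1 (conj_eq_one_iff.mp h)
    have hmove : ∀ c : Ω, k • c = c → x • c = a ∨ x • c = b := fun c hc =>
      hfixK _ hxk hk1' _ (by rw [mul_smul, mul_smul, inv_smul_smul, hc])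
    rcases hmove a hk.1 with h | h
    · rcases hmove b hk.2 with h' | h'
      · exact absurd (smul_left_cancel x (h.trans h'.symm)) hab
      · exact ⟨h, h'⟩
    · rcases hmove b hk.2 with h' | h'
      · exfalso
        have hne' : x • a ≠ a := fun he => hab (he.symm.trans h)
        have hsq : x ^ 2 • a = a := by rw [sq, mul_smul, h, h']
        -- an element of odd order is a power of its square
        obtain ⟨m, hm⟩ : Odd (orderOf x) := by
          rw [← Nat.not_even_iff_odd, even_iff_two_dvd]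
          exact fun h => hodd (h.trans (orderOf_dvd_natCard x))
        apply hne'
        have hx : x = (x ^ 2) ^ (m + 1) := by
          rw [← pow_mul, show 2 * (m + 1) = orderOf x + 1 by omega, pow_succ, pow_orderOf_eq_one, one_mul]
        rw [hx]
        exact MulAction.mem_stabilizer_iff.mp (pow_mem (MulAction.mem_stabilizer_iff.mpr hsq) _)
      · exact absurd (smul_left_cancel x (h.trans h'.symm)) hab
  let f : (G ⧸ K) × {k : K // k ≠ 1} → G := fun p => p.1.out * ((p.2.1 : K) : G) * p.1.out⁻¹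
  have hf : Function.Injective f := by
    rintro ⟨q, k⟩ ⟨q', k'⟩ he
    simp only [f] at he
    have hconj : q'.out⁻¹ * q.out * ((k.1 : K) : G) * (q'.out⁻¹ * q.out)⁻¹ = ((k'.1 : K) : G) := by
      calc _ = q'.out⁻¹ * (q.out * ((k.1 : K) : G) * q.out⁻¹) * q'.out := by group
        _ = _ := by rw [he]; group
    have hm := hnorm (q'.out⁻¹ * q.out) _ k.1.2 (fun h => k.2 (Subtype.ext h)) (by rw [hconj]; exact k'.1.2)
    have hq : q' = q := by
      rw [← QuotientGroup.out_eq' q', ← QuotientGroup.out_eq' q]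
      exact QuotientGroup.eq.mpr hm
    subst hq
    simp only [inv_mul_cancel, one_mul, inv_one, mul_one] at hconj
    exact Prod.ext rfl (Subtype.ext (Subtype.ext hconj))
  haveI : Nonempty Ω := ⟨a⟩
  have hsum := H60.sum_fix_eq_card (G := G) Ω
  let S : Finset G := Finset.univ.image f
  have h1S : (1 : G) ∉ S := by
    simp only [S, Finset.mem_image, Finset.mem_univ, true_and, not_exists]
    rintro ⟨q, k⟩ h
    exact k.2 (Subtype.ext (conj_eq_one_iff.mp h))
  have hsub : Fintype.card {k : K // k ≠ 1} = Nat.card K - 1 := by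
    rw [Nat.card_eq_fintype_card]
    simp [Fintype.card_subtype_compl, Finset.filter_ne']
  have hScard : S.card = K.index * (Nat.card K - 1) := by
    rw [Finset.card_image_of_injective _ hf, Finset.card_univ, Fintype.card_prod, hsub,
      Subgroup.index_eq_card, Nat.card_eq_fintype_card (α := G ⧸ K)]
  have hge : Nat.card Ω + 2 * S.card ≤ ∑ x : G, Nat.card (MulAction.fixedBy Ω x) := by
    have hle : ∑ x ∈ insert 1 S, Nat.card (MulAction.fixedBy Ω x) ≤
        ∑ x : G, Nat.card (MulAction.fixedBy Ω x) :=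
      Finset.sum_le_sum_of_subset (Finset.subset_univ _)
    rw [Finset.sum_insert h1S] at hle
    have h1 : Nat.card (MulAction.fixedBy Ω (1 : G)) = Nat.card Ω := by
      rw [MulAction.fixedBy_one_eq_univ]
      exact Nat.card_congr (Equiv.Set.univ Ω)
    have h2 : S.card * 2 ≤ ∑ x ∈ S, Nat.card (MulAction.fixedBy Ω x) := by
      rw [← smul_eq_mul, ← Finset.sum_const]
      refine Finset.sum_le_sum fun x hx => ?_
      obtain ⟨⟨q, k⟩, -, rfl⟩ := Finset.mem_image.mp hx
      have hk : ((k.1 : K) : G) • a = a ∧ ((k.1 : K) : G) • b = b := k.1.2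
      rw [Nat.card_eq_fintype_card]
      exact Fintype.one_lt_card_iff.mpr ⟨⟨q.out • a, by simp [f, MulAction.mem_fixedBy, mul_smul, hk.1]⟩,
        ⟨q.out • b, by simp [f, MulAction.mem_fixedBy, mul_smul, hk.2]⟩,
        fun h => hab (smul_left_cancel _ (congrArg Subtype.val h))⟩
    omega
  have hΩ : 2 ≤ Nat.card Ω := by
    rw [Nat.card_eq_fintype_card]; exact Fintype.one_lt_card_iff.mpr ⟨a, b, hab⟩
  have hK : 3 ≤ Nat.card K := by
    have h1 : 1 < Nat.card K := Finite.one_lt_card_iff_nontrivial.mpr ⟨⟨g, hgK⟩, 1, fun h => hg1 (congrArg Subtype.val h)⟩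
    by_contra hlt
    exact hodd ((show Nat.card K = 2 by omega) ▸ K.card_subgroup_dvd_card)
  have hG : Nat.card K * K.index = Nat.card G := K.card_mul_index
  have h3 : 3 * K.index ≤ Nat.card K * K.index := Nat.mul_le_mul_right _ hK
  obtain ⟨c, hc⟩ := Nat.exists_eq_add_of_le (show 1 ≤ Nat.card K by omega)
  rw [hc] at hG h3 hScard
  simp only [Nat.add_sub_cancel_left] at hScard
  rw [Nat.add_mul, one_mul, mul_comm c K.index] at hG h3
  omega

theorem sylow_alternative {G : Type*} [Group G] [Finite G] {Ω : Type*} [MulAction G Ω] [Finite Ω]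
    (k : ℕ) (hfix : ∀ g : G, g ≠ 1 → Nat.card (MulAction.fixedBy Ω g) ≤ k)
    (p : ℕ) (hp : p.Prime) (hkp : k < p) (α : Ω) :
    ¬ p ∣ Nat.card (MulAction.stabilizer G α) ∨ ¬ p ∣ (MulAction.stabilizer G α).index := by
  by_contra hcon
  push_neg at hcon
  obtain ⟨hS, hI⟩ := hcon
  haveI : Fact p.Prime := ⟨hp⟩
  set S := MulAction.stabilizer G α
  obtain ⟨P⟩ : Nonempty (Sylow p S) := inferInstance
  let P' : Subgroup G := (P : Subgroup S).map S.subtype
  have hP' : IsPGroup p P' := P.2.map _
  have hP'S : P' ≤ S := Subgroup.map_subtype_le _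
  obtain ⟨n, hn⟩ := IsPGroup.iff_card.mp hP'
  have hn0 : n ≠ 0 := by
    intro h0
    subst h0
    have hc : Nat.card P' = Nat.card (P : Subgroup S) :=
      Nat.card_congr (Subgroup.equivMapOfInjective _ _ S.subtype_injective).toEquiv.symm
    rw [pow_zero, hc] at hn
    exact absurd (hn ▸ P.dvd_card_of_dvd_card hS) hp.not_dvd_one
  have hdvd : p ^ (n + 1) ∣ Nat.card G := by
    rw [← S.card_mul_index, pow_succ, ← hn]
    exact Nat.mul_dvd_mul (Subgroup.card_dvd_of_le hP'S) hI
  obtain ⟨Q, hQ, hPQ⟩ := Sylow.exists_subgroup_card_pow_succ hdvd hn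
  have hQp : IsPGroup p Q := IsPGroup.of_card hQ
  have hnormQ : ∀ q ∈ Q, ∀ x ∈ P', q * x * q⁻¹ ∈ P' := by
    intro q hq x hx
    have hnorm : (P'.subgroupOf Q).Normal := by
      apply Subgroup.normal_of_index_eq_minFac_card
      have h1 := (P'.subgroupOf Q).index_mul_card
      rw [Nat.card_congr (Subgroup.subgroupOfEquivOfLe hPQ).toEquiv, hQ, hn, pow_succ, mul_comm _ p] at h1
      rw [hQ, Nat.pow_minFac (Nat.succ_ne_zero n), hp.minFac_eq]
      exact Nat.eq_of_mul_eq_mul_right (pow_pos hp.pos n) h1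
    exact hnorm.conj_mem ⟨x, hPQ hx⟩ hx ⟨q, hq⟩
  letI : MulAction Q (MulAction.fixedPoints P' Ω) :=
    { smul := fun q x => ⟨(q : G) • (x : Ω), fun y => by
        show (y : G) • (q : G) • (x : Ω) = (q : G) • (x : Ω)
        have hy := x.2 ⟨_, hnormQ _ (inv_mem q.2) y y.2⟩
        rw [Subgroup.smul_def] at hy
        simp only [inv_inv, mul_smul] at hy
        exact inv_smul_eq_iff.mp hy⟩
      one_smul := fun x => Subtype.ext (one_smul G (x : Ω))
      mul_smul := fun a b x => Subtype.ext (mul_smul (a : G) (b : G) (x : Ω)) }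
  have hFk : Nat.card (MulAction.fixedPoints P' Ω) ≤ k := by
    haveI : Nontrivial P' := Finite.one_lt_card_iff_nontrivial.mp (hn ▸ Nat.one_lt_pow hn0 hp.one_lt)
    obtain ⟨⟨x, hx⟩, hx1⟩ := exists_ne (1 : P')
    refine le_trans (Nat.card_mono (Set.toFinite _) ?_) (hfix x fun h => hx1 (Subtype.ext h))
    exact fun c hc => hc ⟨x, hx⟩
  let a : MulAction.fixedPoints P' Ω := ⟨α, fun y => hP'S y.2⟩
  have horb : Nat.card (MulAction.orbit Q a) = 1 := by
    obtain ⟨j, hj⟩ := hQp.card_orbit a
    rcases j with _ | j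
    · simpa using hj
    · have h1 : Nat.card (MulAction.orbit Q a) ≤ k :=
        le_trans (Nat.card_le_card_of_injective _ Subtype.val_injective) hFk
      have h2 : p ≤ p ^ (j + 1) := Nat.le_self_pow (Nat.succ_ne_zero j) p
      omega
  haveI : Subsingleton (MulAction.orbit Q a) := (Nat.card_eq_one_iff_unique.mp horb).1
  have hQS : Q ≤ S := by
    intro q hq
    have := congrArg Subtype.val (congrArg Subtype.val (Subsingleton.elim
      (⟨(⟨q, hq⟩ : Q) • a, MulAction.mem_orbit a _⟩ : MulAction.orbit Q a)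
      ⟨a, MulAction.mem_orbit_self a⟩))
    exact this
  have hcardP : Nat.card P' = p ^ (Nat.card S).factorization p := by
    rw [← P.card_eq_multiplicity]
    exact Nat.card_congr (Subgroup.equivMapOfInjective _ _ S.subtype_injective).toEquiv.symm
  have hne : n = (Nat.card S).factorization p :=
    Nat.pow_right_injective hp.two_le (hn.symm.trans hcardP)
  have h3 : p ^ (n + 1) ∣ Nat.card S := hQ ▸ Subgroup.card_dvd_of_le hQS
  rw [hp.pow_dvd_iff_le_factorization Nat.card_pos.ne'] at h3
  omega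

/-- Let G be a finite group acting faithfully and transitively on a finite set Ω with fixity k ≥ 1: every non-identity element fixes at most k points and some non-identity element fixes exactly k points. Then |Z(G)| divides k; if k = 2 then |G| is even; and for every prime p > k dividing |G| and every point α, either p does not divide |G_α| or G_α contains a Sylow p-subgroup of G. -/
theorem result {G : Type*} [Group G] [Finite G] {Ω : Type*} [Fintype Ω] [MulAction G Ω] [FaithfulSMul G Ω]
    (htr : MulAction.IsPretransitive G Ω) (k : ℕ) (hk : 1 ≤ k)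
    (hfix : ∀ g : G, g ≠ 1 → Nat.card (MulAction.fixedBy Ω g) ≤ k) (hex : ∃ g : G, g ≠ 1 ∧ Nat.card (MulAction.fixedBy Ω g) = k) :
    Nat.card (Subgroup.center G) ∣ k ∧ (k = 2 → 2 ∣ Nat.card G) ∧
      ∀ (p : ℕ), p.Prime → k < p → p ∣ Nat.card G → ∀ α : Ω,
        ¬ p ∣ Nat.card (MulAction.stabilizer G α) ∨ ¬ p ∣ (MulAction.stabilizer G α).index := by
  haveI := htr
  obtain ⟨g, hg1, hg⟩ := hex
  refine ⟨hg ▸ centre_dvd g, ?_, fun p hp hkp _ α => sylow_alternative k hfix p hp hkp α⟩
  rintro rfl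
  exact even_of_fixity_two hfix g hg1 hg

end Cfsg.Agent.S3389
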