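import Cfsg.Statements.S3390
import Cfsg.Agent.H56.BurnsideMinimal
import Cfsg.Agent.H61.CharSimple
import Cfsg.Agent.H61.DihedralIso
import Cfsg.Agent.H31.MaxClassCrit
import Cfsg.Agent.H31.Taussky
import Cfsg.Agent.S0218

set_option autoImplicit false
open Cfsg

namespace Cfsg.Agent.S3390

/-- A 2-group with an involution whose centraliser has order 4 is dihedral or quasi-dihedral. -/
theorem dihedral_or_quasi {S : Type} [Group S] [Finite S] (hS : IsPGroup 2 S) (t z : S) (ht : orderOf t = 2)
    (hz : orderOf z = 2) (hne : z ≠ t) (hc : z * t = t * z)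
    (hC : ∀ x : S, x * t = t * x → x = 1 ∨ x = t ∨ x = z ∨ x = t * z) :
    (∃ n : ℕ, Nonempty (S ≃* DihedralGroup n)) ∨ Cfsg.IsQuasiDihedral S := by
  classical
  haveI : Fact (Nat.Prime 2) := ⟨Nat.prime_two⟩
  have ht1 : t ≠ 1 := fun h => by rw [h, orderOf_one] at ht; omega
  have hz1 : z ≠ 1 := fun h => by rw [h, orderOf_one] at hz; omega
  have ht2 : t * t = 1 := by rw [← sq, ← ht, pow_orderOf_eq_one]
  have hz2 : z * z = 1 := by rw [← sq, ← hz, pow_orderOf_eq_one]
  have hzi : z⁻¹ = z := inv_eq_of_mul_eq_one_right hz2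
  have htz : t * z ≠ 1 := fun h => hne (by rw [← hzi]; exact inv_eq_of_mul_eq_one_left h)
  set A := Subgroup.centralizer ({t} : Set S) with hA
  have hmem : ∀ x, x ∈ A ↔ x * t = t * x := fun x => Subgroup.mem_centralizer_singleton_iff
  have hAset : (A : Set S) = ↑({1, t, z, t * z} : Finset S) := by
    ext x
    simp only [SetLike.mem_coe, hmem, Finset.coe_insert, Finset.coe_singleton, Set.mem_insert_iff,
      Set.mem_singleton_iff]
    refine ⟨hC x, ?_⟩
    rintro (rfl | rfl | rfl | rfl)
    · simp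
    · rfl
    · exact hc
    · rw [mul_assoc, hc]
  have hAcard : Nat.card A = 2 ^ 2 := by
    show Nat.card (A : Set S) = _
    rw [hAset, Nat.card_coe_set_eq, Set.ncard_coe_finset, Finset.card_insert_of_notMem,
      Finset.card_insert_of_notMem, Finset.card_insert_of_notMem, Finset.card_singleton]
    · norm_num
    · rw [Finset.mem_singleton]; exact fun h => ht1 (mul_eq_right.mp h.symm)
    · simp only [Finset.mem_insert, Finset.mem_singleton, not_or]
      exact ⟨Ne.symm hne, fun h => hz1 (mul_eq_left.mp h.symm)⟩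
    · simp only [Finset.mem_insert, Finset.mem_singleton, not_or]
      exact ⟨Ne.symm ht1, Ne.symm hz1, Ne.symm htz⟩
  have hCA : Subgroup.centralizer (A : Set S) ≤ A := fun x hx =>
    (hmem x).mpr (Subgroup.mem_centralizer_iff.mp hx t ((hmem t).mpr rfl)).symm
  obtain ⟨n, hn⟩ := IsPGroup.iff_card.mp hS
  obtain ⟨m, rfl⟩ : ∃ m, n = m + 2 := by
    refine ⟨n - 2, ?_⟩
    have h := Subgroup.card_subgroup_dvd_card A
    rw [hAcard, hn, Nat.pow_dvd_pow_iff_le_right (by norm_num)] at h
    omega
  rcases Nat.eq_zero_or_pos m with rfl | hm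
  · refine Or.inl ⟨2, H61.nonempty_mulEquiv_dihedralGroup z t 2 hz ht2 ?_ ?_ (by rw [hn]; norm_num)⟩
    · rw [hzi, mul_assoc, hc, ← mul_assoc, ht2, one_mul]
    · intro h
      have h2 : Subgroup.zpowers z = Subgroup.zpowers t := by
        refine (Subgroup.eq_of_le_of_card_ge (Subgroup.zpowers_le.mpr h) ?_).symm
        rw [Nat.card_zpowers, Nat.card_zpowers, hz, ht]
      obtain ⟨k, hk⟩ := mem_powers_iff_mem_zpowers.mpr (h2 ▸ Subgroup.mem_zpowers z)
      have hk' : t ^ k = z := hk
      rcases Nat.even_or_odd k with ⟨j, rfl⟩ | ⟨j, rfl⟩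
      · exact hz1 (by rw [← hk', pow_add, ← (Commute.refl t).mul_pow, ht2, one_pow])
      · exact hne (by rw [← hk', pow_succ, pow_mul, sq, ht2, one_pow, one_mul])
  have hcl := H31.nilpotencyClass_of_self_centralizing_sq m hn A hAcard hCA
  have hidx := H31.commutator_index_of_maxClass (n := m + 2) (by omega) hn (by rw [hcl]; omega)
  rcases H31.classify_of_abelianization hS (by rw [hidx]; norm_num) with h4 | h
  · rw [hn] at h4
    have := Nat.pow_right_injective (le_refl 2) (h4.trans (show 4 = 2 ^ 2 by norm_num))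
    omega
  rcases h with ⟨k, h⟩ | ⟨k, hk, a, b, ha, hb, hab⟩ | ⟨k, ⟨e⟩⟩
  · exact Or.inl ⟨_, h⟩
  · exact Or.inr ⟨k + 3, by omega, hk, a, b, ha, hb, hab⟩
  · exfalso
    have h1 := Cfsg.Agent.S0218.result k
    obtain ⟨hs, -⟩ := Nat.card_eq_one_iff_unique.mp h1
    have := congrArg Subtype.val (@Subsingleton.elim _ hs ⟨e t, by rw [MulEquiv.orderOf_eq, ht]⟩
      ⟨e z, by rw [MulEquiv.orderOf_eq, hz]⟩)
    exact hne (e.injective this.symm)

theorem pgroup_order {G : Type*} [Group G] {p : ℕ} [Fact p.Prime] (h : IsPGroup p G) (g : G) (hg : g ≠ 1) :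
    ∃ k, k ≠ 0 ∧ orderOf g = p ^ k := by
  obtain ⟨k, hk⟩ := IsPGroup.iff_orderOf.mp h g
  exact ⟨k, fun e => hg (orderOf_eq_one_iff.mp (by rw [hk, e, pow_zero])), hk⟩

open Equiv in
/-- The sign of a permutation whose moved points all lie in cycles of length `o`. -/
theorem sign_of_semiregular {X : Type*} [Fintype X] [DecidableEq X] (σ : Perm X) (o : ℕ) (ho : σ ^ o = 1)
    (hσ : ∀ (x : X) (b : ℕ), σ x ≠ x → (σ ^ b) x = x → o ∣ b) :
    ∃ k, σ.support.card = k * o ∧ Perm.sign σ = (-1 : ℤˣ) ^ (k * o + k) := by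
  have hct : σ.cycleType = Multiset.replicate (Multiset.card σ.cycleType) o := by
    refine Multiset.eq_replicate_card.mpr fun b hb => ?_
    refine Nat.dvd_antisymm ((Perm.dvd_of_mem_cycleType hb).trans (orderOf_dvd_of_pow_eq_one ho)) ?_
    rw [Perm.cycleType_def, Multiset.mem_map] at hb
    obtain ⟨c, hc, rfl⟩ := hb
    have hc' : c ∈ σ.cycleFactorsFinset := hc
    obtain ⟨x, hx⟩ := (Perm.mem_cycleFactorsFinset_iff.mp hc').1.nonempty_support
    show o ∣ c.support.card
    refine hσ x _ ?_ ?_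
    · exact Perm.mem_support.mp (Perm.mem_cycleFactorsFinset_support_le hc' hx)
    · rw [← Perm.cycleOf_pow_apply_self, ← Perm.cycle_is_cycleOf hx hc',
        ← (Perm.mem_cycleFactorsFinset_iff.mp hc').1.orderOf, pow_orderOf_eq_one]
      rfl
  refine ⟨Multiset.card σ.cycleType, ?_, ?_⟩
  · rw [← σ.sum_cycleType]
    conv_lhs => rw [hct]
    simp
  · rw [Perm.sign_of_cycleType]
    conv_lhs => rw [hct]
    simp

/-- Let G be a finite group acting faithfully and transitively on a finite set Ω with fixity 2 (every non-identity element fixes at most two points, and some fixes exactly two). Let α ∈ Ω and S a Sylow 2-subgroup of G. Then one of the following holds: the stabilizer S_α of α in S is trivial; S is dihedral or semidihedral and either |S_α| = 2 or |S : S_α| = 2; |S| ≥ 4, S has exactly one orbit of size 2 on Ω, every other S-orbit is regular, and G has a normal subgroup of index 2 or of index |S| which is a Frobenius group; or S ≤ G_α. -/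
theorem result {G : Type*} [Group G] [Finite G] {Ω : Type*} [Fintype Ω] [MulAction G Ω] [FaithfulSMul G Ω] (htr : MulAction.IsPretransitive G Ω)
    (hfix : ∀ g : G, g ≠ 1 → Nat.card (MulAction.fixedBy Ω g) ≤ 2) (hex : ∃ g : G, g ≠ 1 ∧ Nat.card (MulAction.fixedBy Ω g) = 2) (α : Ω) (S : Sylow 2 G) :
    (S : Subgroup G) ⊓ MulAction.stabilizer G α = ⊥ ∨
    (((∃ n : ℕ, Nonempty (↥(S : Subgroup G) ≃* DihedralGroup n)) ∨ Cfsg.IsQuasiDihedral ↥(S : Subgroup G)) ∧
       (Nat.card ↥((S : Subgroup G) ⊓ MulAction.stabilizer G α) = 2 ∨ ((S : Subgroup G) ⊓ MulAction.stabilizer G α).relIndex (S : Subgroup G) = 2)) ∨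
    (4 ≤ Nat.card (S : Subgroup G) ∧
       (∃ ω : Ω, Nat.card (MulAction.orbit ↥(S : Subgroup G) ω) = 2 ∧
          ∀ ω' : Ω, ω' ∉ MulAction.orbit ↥(S : Subgroup G) ω → Nat.card (MulAction.orbit ↥(S : Subgroup G) ω') = Nat.card (S : Subgroup G)) ∧
       ∃ N : Subgroup G, N.Normal ∧ (N.index = 2 ∨ N.index = Nat.card (S : Subgroup G)) ∧ (∃ H : Subgroup ↥N, Cfsg.IsFrobeniusComplement H)) ∨
    (S : Subgroup G) ≤ MulAction.stabilizer G α := by
  classical
  haveI := htr
  haveI : Fact (Nat.Prime 2) := ⟨Nat.prime_two⟩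
  haveI : Fintype G := Fintype.ofFinite G
  set Q := (S : Subgroup G) ⊓ MulAction.stabilizer G α with hQdef
  by_cases hQ : Q = ⊥
  · exact Or.inl hQ
  by_cases hSle : (S : Subgroup G) ≤ MulAction.stabilizer G α
  · exact Or.inr (Or.inr (Or.inr hSle))
  right
  -- only two fixed points
  have key3 : ∀ (g : G) (x y w : Ω), x ≠ y → x ≠ w → y ≠ w → g • x = x → g • y = y → g • w = w → g = 1 := by
    intro g x y w hxy hxw hyw hx hy hw
    by_contra hg
    have h := hfix g hg
    have h3 : ({x, y, w} : Finset Ω).card = 3 := by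
      rw [Finset.card_insert_of_notMem (by simp [hxy, hxw]), Finset.card_insert_of_notMem (by simpa using hyw),
        Finset.card_singleton]
    have hsub : (↑({x, y, w} : Finset Ω) : Set Ω) ⊆ MulAction.fixedBy Ω g := by
      intro v hv
      simp only [Finset.coe_insert, Finset.coe_singleton, Set.mem_insert_iff, Set.mem_singleton_iff] at hv
      rcases hv with rfl | rfl | rfl <;> assumption
    have := Set.ncard_le_ncard hsub
    rw [Set.ncard_coe_finset, h3, ← Nat.card_coe_set_eq] at this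
    omega
  have hQS : Q ≤ (S : Subgroup G) := inf_le_left
  have hQα : ∀ g ∈ Q, g • α = α := fun g hg => hg.2
  -- a second fixed point of `Q`
  obtain ⟨u, huS, huQ, huN⟩ : ∃ u ∈ (S : Subgroup G), u ∉ Q ∧ ∀ g ∈ Q, u⁻¹ * g * u ∈ Q := by
    haveI := S.2.isNilpotent
    have hlt : Q.subgroupOf (S : Subgroup G) < ⊤ := lt_top_iff_ne_top.mpr fun h =>
      hSle ((Subgroup.subgroupOf_eq_top.mp h).trans inf_le_right)
    obtain ⟨⟨u, hu⟩, hun, huq⟩ := SetLike.exists_of_lt
      (normalizerCondition_of_isNilpotent (G := (S : Subgroup G)) _ hlt)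
    refine ⟨u, hu, huq, fun g hg => ?_⟩
    have := (Subgroup.mem_normalizer_iff.mp (inv_mem hun) ⟨g, hQS hg⟩).mp hg
    simpa [Subgroup.mem_subgroupOf] using this
  set β := u • α with hβdef
  have hβ : β ≠ α := fun h => huQ ⟨huS, h⟩
  have hQβ : ∀ g ∈ Q, g • β = β := by
    intro g hg
    have := hQα _ (huN g hg)
    rw [mul_smul, mul_smul, inv_smul_eq_iff] at this
    exact this
  obtain ⟨z, hzQ, hz⟩ : ∃ z ∈ Q, orderOf z = 2 := by
    haveI : Nontrivial Q := (Subgroup.nontrivial_iff_ne_bot Q).mpr hQ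
    obtain ⟨k, hk0, hk⟩ := pgroup_order (S.2.to_le hQS)
      (exists_ne (1 : Q)).choose (exists_ne (1 : Q)).choose_spec
    obtain ⟨w, hw⟩ := exists_prime_orderOf_dvd_card' (G := Q) 2
      ((dvd_pow_self 2 hk0).trans (hk ▸ orderOf_dvd_natCard _))
    exact ⟨w, w.2, by rw [Subgroup.orderOf_coe, hw]⟩
  have hz1 : z ≠ 1 := fun h => by rw [h, orderOf_one] at hz; omega
  have hzfix : ∀ w : Ω, z • w = w → w = α ∨ w = β := by
    intro w hw
    by_contra h
    push Not at h
    exact hz1 (key3 z α β w hβ.symm (Ne.symm h.1) (Ne.symm h.2) (hQα z hzQ) (hQβ z hzQ) hw)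
  have hcase : ∀ x ∈ (S : Subgroup G), x • α = α ∨ x • α = β → x ∈ Q ∨ u⁻¹ * x ∈ Q := by
    intro x hx hxa
    rcases hxa with h | h
    · exact Or.inl ⟨hx, h⟩
    · refine Or.inr ⟨(S : Subgroup G).mul_mem ((S : Subgroup G).inv_mem huS) hx, ?_⟩
      show (u⁻¹ * x) • α = α
      rw [mul_smul, h, hβdef, inv_smul_smul]
  have hgroup : ∀ t z' : (S : Subgroup G), orderOf t = 2 → orderOf z' = 2 → z' ≠ t → z' * t = t * z' →
      (∀ x : (S : Subgroup G), x * t = t * x → x = 1 ∨ x = t ∨ x = z' ∨ x = t * z') →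
      (∃ n : ℕ, Nonempty (↥(S : Subgroup G) ≃* DihedralGroup n)) ∨ Cfsg.IsQuasiDihedral ↥(S : Subgroup G) := by
    intro t z' h1 h2 h3 h4 h5
    obtain ⟨T, _, ⟨e⟩⟩ := H61.exists_small_model (S : Subgroup G)
    haveI : Finite T := Finite.of_equiv _ e.toEquiv
    rcases dihedral_or_quasi (S.2.of_equiv e) (e t) (e z') (by rw [MulEquiv.orderOf_eq, h1])
      (by rw [MulEquiv.orderOf_eq, h2]) (fun h => h3 (e.injective h)) (by rw [← map_mul, h4, map_mul])
      (fun x hx => by
        obtain ⟨y, rfl⟩ := e.surjective x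
        rcases h5 y (e.injective (by rw [map_mul, map_mul, hx])) with rfl | rfl | rfl | rfl <;> simp)
      with ⟨n, ⟨f⟩⟩ | ⟨n, hn, hcard, x, y, hx, hy, hxy⟩
    · exact Or.inl ⟨n, ⟨e.trans f⟩⟩
    · exact Or.inr ⟨n, hn, by rw [← hcard]; exact Nat.card_congr e.toEquiv, e.symm x, e.symm y,
        by rw [MulEquiv.orderOf_eq, hx], by rw [MulEquiv.orderOf_eq, hy],
        by rw [← map_inv, ← map_mul, ← map_mul, hxy, map_pow]⟩
  by_cases hA : ∀ x ∈ (S : Subgroup G), x • α = α ∨ x • α = β
  swap
  · -- long orbit: `|Q| = 2` and the centraliser of `z` has order 4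
    left
    push Not at hA
    obtain ⟨x, hxS, hxα, hxβ⟩ := hA
    let M : Subgroup G := (S : Subgroup G) ⊓ Subgroup.normalizer (Q : Set G)
    have hMmem : ∀ y ∈ M, y ∈ Q ∨ u⁻¹ * y ∈ Q := by
      intro y hy
      refine hcase y hy.1 (hzfix _ ?_)
      have := hQα _ ((Subgroup.mem_normalizer_iff.mp (inv_mem hy.2) z).mp hzQ)
      rw [inv_inv, mul_smul, mul_smul, inv_smul_eq_iff] at this
      exact this
    have hQM : Q ≤ M := le_inf hQS Subgroup.le_normalizer
    have hMcard : Nat.card M ≤ 2 * Nat.card Q := by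
      let f : M → Q × Bool := fun y =>
        if h : (y : G) ∈ Q then (⟨y, h⟩, true) else (⟨u⁻¹ * y, (hMmem y y.2).resolve_left h⟩, false)
      have hf : Function.Injective f := by
        intro y y' h
        by_cases hy : (y : G) ∈ Q <;> by_cases hy' : (y' : G) ∈ Q <;>
          simp [f, hy, hy'] at h <;> first | exact h | exact Subtype.ext h
      have := Nat.card_le_card_of_injective f hf
      simpa [Nat.card_prod, mul_comm] using this
    obtain ⟨v, hvS, hvM, hvN⟩ : ∃ v ∈ (S : Subgroup G), v ∉ M ∧ ∀ g ∈ M, v * g * v⁻¹ ∈ M := by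
      haveI := S.2.isNilpotent
      have hlt : M.subgroupOf (S : Subgroup G) < ⊤ := lt_top_iff_ne_top.mpr fun h => by
        rcases hMmem x ((Subgroup.subgroupOf_eq_top.mp h) hxS) with hh | hh
        · exact hxα (hQα x hh)
        · have := hQα _ hh
          rw [mul_smul, inv_smul_eq_iff] at this
          exact hxβ this
      obtain ⟨⟨v, hv⟩, hvn, hvm⟩ := SetLike.exists_of_lt
        (normalizerCondition_of_isNilpotent (G := (S : Subgroup G)) _ hlt)
      refine ⟨v, hv, hvm, fun g hg => ?_⟩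
      have := (Subgroup.mem_normalizer_iff.mp hvn ⟨g, hg.1⟩).mp hg
      simpa [Subgroup.mem_subgroupOf] using this
    have hva : v • α ≠ α ∧ v • α ≠ β := by
      refine ⟨fun h => hvM (hQM ⟨hvS, h⟩), fun h => hvM ?_⟩
      rcases hcase v hvS (Or.inr h) with hh | hh
      · exact hQM hh
      · have huM : u ∈ M := by
          refine ⟨huS, ?_⟩
          show u ∈ Subgroup.normalizer (Q : Set G)
          rw [Subgroup.mem_normalizer_iff_map_conj_eq]
          refine Subgroup.eq_of_le_of_card_ge ?_ ?_ |>.trans rfl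
          · rintro _ ⟨g, hg, rfl⟩
            show u * g * u⁻¹ ∈ Q
            have hmap : Q.map (MulAut.conj u⁻¹).toMonoidHom = Q := by
              refine Subgroup.eq_of_le_of_card_ge ?_
                (Nat.card_congr (Subgroup.equivMapOfInjective _ _ (MulAut.conj u⁻¹).injective).toEquiv).le
              rintro _ ⟨k, hk, rfl⟩
              show u⁻¹ * k * u⁻¹⁻¹ ∈ Q
              rw [inv_inv]; exact huN k hk
            obtain ⟨k, hk, hkg⟩ : g ∈ Q.map (MulAut.conj u⁻¹).toMonoidHom := hmap.symm ▸ hg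
            rw [← hkg]
            show u * (u⁻¹ * k * u⁻¹⁻¹) * u⁻¹ ∈ Q
            simpa [mul_assoc] using hk
          · exact (Nat.card_congr (Subgroup.equivMapOfInjective _ _ (MulAut.conj u).injective).toEquiv).le
        have := M.mul_mem huM (hQM hh)
        rwa [mul_inv_cancel_left] at this
    have hQ2 : Nat.card Q = 2 := by
      let f : Q × Q → M := fun p => ⟨(p.1 : G) * (v * p.2 * v⁻¹), M.mul_mem (hQM p.1.2) (hvN _ (hQM p.2.2))⟩
      have hf : Function.Injective f := by
        intro p p' h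
        have h' : (p.1 : G) * (v * p.2 * v⁻¹) = p'.1 * (v * p'.2 * v⁻¹) := congrArg Subtype.val h
        have hg : (p'.1 : G)⁻¹ * p.1 = (v * p'.2 * v⁻¹) * (v * p.2 * v⁻¹)⁻¹ := by
          rw [eq_mul_inv_iff_mul_eq, mul_assoc, h', inv_mul_cancel_left]
        have hmem : (p'.1 : G)⁻¹ * p.1 ∈ Q := Q.mul_mem (Q.inv_mem p'.1.2) p.1.2
        have h1 : (p'.1 : G)⁻¹ * p.1 = 1 := by
          refine key3 _ α β (v • α) hβ.symm (Ne.symm hva.1) (Ne.symm hva.2) (hQα _ hmem) (hQβ _ hmem) ?_
          rw [hg]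
          simp only [mul_smul, mul_inv_rev, inv_inv, inv_smul_smul, inv_smul_eq_iff.mpr (hQα _ p.2.2).symm,
            hQα _ p'.2.2]
        rw [h1] at hg
        have h2 : (p'.2 : G) = p.2 := by
          have := eq_of_mul_inv_eq_one hg.symm
          exact mul_left_cancel (mul_right_cancel this)
        exact Prod.ext (Subtype.ext (inv_mul_eq_one.mp h1).symm) (Subtype.ext h2.symm)
      have h1 := Nat.card_le_card_of_injective f hf
      rw [Nat.card_prod] at h1
      haveI : Nontrivial Q := (Subgroup.nontrivial_iff_ne_bot Q).mpr hQ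
      have h2 := Finite.one_lt_card (α := Q)
      nlinarith
    refine ⟨?_, Or.inl hQ2⟩
    have hQeq : ∀ g ∈ Q, g = 1 ∨ g = z := by
      intro g hg
      by_contra h
      push Not at h
      have hsub : (↑({1, z, g} : Finset G) : Set G) ⊆ (Q : Set G) := by
        intro y hy
        simp only [Finset.coe_insert, Finset.coe_singleton, Set.mem_insert_iff, Set.mem_singleton_iff] at hy
        rcases hy with rfl | rfl | rfl
        exacts [Q.one_mem, hzQ, hg]
      have h3 : ({1, z, g} : Finset G).card = 3 := by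
        rw [Finset.card_insert_of_notMem (by simp [Ne.symm hz1, Ne.symm h.1]),
          Finset.card_insert_of_notMem (by simpa using Ne.symm h.2), Finset.card_singleton]
      have := Set.ncard_le_ncard hsub
      rw [Set.ncard_coe_finset, h3, ← Nat.card_coe_set_eq] at this
      change 3 ≤ Nat.card Q at this
      omega
    -- a central involution
    obtain ⟨c, hc, hcen⟩ : ∃ c : (S : Subgroup G), orderOf c = 2 ∧ ∀ y : (S : Subgroup G), y * c = c * y := by
      haveI : Nontrivial (S : Subgroup G) :=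
        ⟨⟨z, hQS hzQ⟩, 1, fun h => hz1 (congrArg Subtype.val h)⟩
      haveI : Nontrivial (Subgroup.center (S : Subgroup G)) := S.2.center_nontrivial
      obtain ⟨k, hk0, hk⟩ := pgroup_order (S.2.to_subgroup (Subgroup.center (S : Subgroup G)))
        (exists_ne (1 : Subgroup.center (S : Subgroup G))).choose (exists_ne (1 : Subgroup.center (S : Subgroup G))).choose_spec
      obtain ⟨w, hw⟩ := exists_prime_orderOf_dvd_card' (G := Subgroup.center (S : Subgroup G)) 2
        ((dvd_pow_self 2 hk0).trans (hk ▸ orderOf_dvd_natCard _))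
      exact ⟨w, by rw [Subgroup.orderOf_coe, hw], fun y => Subgroup.mem_center_iff.mp w.2 y⟩
    have hcz : c ≠ ⟨z, hQS hzQ⟩ := by
      intro h
      have h1 : x * z = z * x := by
        have := congrArg Subtype.val (hcen ⟨x, hxS⟩)
        rw [h] at this
        exact this
      refine hz1 (key3 z α β (x • α) hβ.symm (Ne.symm hxα) (Ne.symm hxβ) (hQα z hzQ) (hQβ z hzQ) ?_)
      rw [← mul_smul, ← h1, mul_smul, hQα z hzQ]
    refine hgroup ⟨z, hQS hzQ⟩ c (by rw [← Subgroup.orderOf_coe]; exact hz) hc hcz (hcen _).symm fun y hy => ?_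
    have hy' : (y : G) * z = z * y := congrArg Subtype.val hy
    have hyα : (y : G) • α = α ∨ (y : G) • α = β := hzfix _ (by rw [← mul_smul, ← hy', mul_smul, hQα z hzQ])
    have hcα : (c : G) • α = β := by
      rcases hzfix ((c : G) • α) (by
        rw [← mul_smul, show z * (c : G) = (c : G) * z from congrArg Subtype.val (hcen ⟨z, hQS hzQ⟩), mul_smul,
          hQα z hzQ]) with h | h
      · exfalso
        rcases hQeq c ⟨c.2, h⟩ with h1 | h1
        · rw [← Subgroup.orderOf_coe, h1, orderOf_one] at hc; omega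
        · exact hcz (Subtype.ext h1)
      · exact h
    rcases hyα with h | h
    · rcases hQeq y ⟨y.2, h⟩ with h1 | h1
      · exact Or.inl (Subtype.ext h1)
      · exact Or.inr (Or.inl (Subtype.ext h1))
    · have hmem : (c : G)⁻¹ * y ∈ Q := ⟨(S : Subgroup G).mul_mem ((S : Subgroup G).inv_mem c.2) y.2, by
        show ((c : G)⁻¹ * y) • α = α
        rw [mul_smul, h, ← hcα, inv_smul_smul]⟩
      rcases hQeq _ hmem with h1 | h1
      · exact Or.inr (Or.inr (Or.inl (Subtype.ext (inv_mul_eq_one.mp h1).symm)))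
      · refine Or.inr (Or.inr (Or.inr (Subtype.ext ?_)))
        rw [inv_mul_eq_iff_eq_mul] at h1
        rw [h1]
        exact congrArg Subtype.val (hcen ⟨z, hQS hzQ⟩).symm
  -- orbit of length 2
  have hnormQ : ∀ x ∈ (S : Subgroup G), ∀ g ∈ Q, x * g * x⁻¹ ∈ Q := by
    intro x hx g hg
    refine ⟨(S : Subgroup G).mul_mem ((S : Subgroup G).mul_mem hx (hQS hg)) ((S : Subgroup G).inv_mem hx), ?_⟩
    show (x * g * x⁻¹) • α = α
    rw [mul_smul, mul_smul]
    rcases hA x⁻¹ (inv_mem hx) with h | h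
    · rw [h, hQα g hg]; exact (inv_smul_eq_iff.mp h).symm
    · rw [h, hQβ g hg]; exact (inv_smul_eq_iff.mp h).symm
  have huinv : u • β = α := by
    rcases hA (u * u) (mul_mem huS huS) with h | h <;> rw [mul_smul, ← hβdef] at h
    · exact h
    · exact absurd (smul_left_cancel u h) hβ
  have hrel : Q.relIndex (S : Subgroup G) = 2 := by
    rw [Subgroup.relIndex, Subgroup.index_eq_two_iff']
    refine ⟨⟨u, huS⟩⁻¹, fun b => ?_⟩
    show Xor (u⁻¹ * (b : G) ∈ Q) ((b : G) ∈ Q)
    rcases hA b b.2 with h | h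
    · refine Or.inr ⟨⟨b.2, h⟩, fun hh => huQ ?_⟩
      simpa using Q.inv_mem (Q.mul_mem hh (Q.inv_mem ⟨b.2, h⟩))
    · refine Or.inl ⟨⟨(S : Subgroup G).mul_mem ((S : Subgroup G).inv_mem huS) b.2, ?_⟩, fun hh => hβ (h.symm.trans (hQα _ hh))⟩
      show (u⁻¹ * (b : G)) • α = α
      rw [mul_smul, h, hβdef, inv_smul_smul]
  by_cases hreg : ∀ ω : Ω, ω ≠ α → ω ≠ β → ∀ x ∈ (S : Subgroup G), x • ω = ω → x = 1
  swap
  · left
    refine ⟨?_, Or.inr hrel⟩
    push Not at hreg
    obtain ⟨ω, hωα, hωβ, x, hxS, hxω, hx1⟩ := hreg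
    obtain ⟨t, htS, ht, htω⟩ : ∃ t ∈ (S : Subgroup G), orderOf t = 2 ∧ t • ω = ω := by
      obtain ⟨k, hk0, hk⟩ := pgroup_order S.2 ⟨x, hxS⟩
        fun h => hx1 (congrArg Subtype.val h)
      rw [← Subgroup.orderOf_coe] at hk
      refine ⟨x ^ (2 ^ (k - 1)), pow_mem hxS _, ?_, ?_⟩
      · rw [orderOf_pow, hk, Nat.gcd_eq_right (Nat.pow_dvd_pow 2 (by omega)),
          Nat.pow_div (by omega) two_pos, show k - (k - 1) = 1 by omega, pow_one]
      · exact pow_mem (show x ∈ MulAction.stabilizer G ω from hxω) _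
    have ht1 : t ≠ 1 := fun h => by rw [h, orderOf_one] at ht; omega
    have htQ : t ∉ Q := fun h =>
      ht1 (key3 t α β ω hβ.symm (Ne.symm hωα) (Ne.symm hωβ) (hQα t h) (hQβ t h) htω)
    have htα : t • α = β := (hA t htS).resolve_left fun h => htQ ⟨htS, h⟩
    have ht2 : t * t = 1 := by rw [← sq, ← ht, pow_orderOf_eq_one]
    have hti : t⁻¹ = t := inv_eq_of_mul_eq_one_right ht2
    -- at most one involution of `Q` commutes with `t`
    have hC1 : ∀ c c' : G, c ∈ Q → c' ∈ Q → c ≠ 1 → c' ≠ 1 → c * t = t * c → c' * t = t * c' → c = c' := by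
      intro c c' hc hc' h1 h1' hct hct'
      have hne : ∀ d ∈ Q, d ≠ 1 → d • ω ≠ ω := fun d hd hd1 h =>
        hd1 (key3 d α β ω hβ.symm (Ne.symm hωα) (Ne.symm hωβ) (hQα d hd) (hQβ d hd) h)
      have hft : ∀ d : G, d * t = t * d → t • d • ω = d • ω := fun d hd => by
        rw [← mul_smul, ← hd, mul_smul, htω]
      by_contra hcc
      refine hne (c⁻¹ * c') (Q.mul_mem (Q.inv_mem hc) hc') (fun h => hcc (inv_mul_eq_one.mp h)) ?_
      rw [mul_smul, inv_smul_eq_iff]
      by_contra hdiff
      exact ht1 (key3 t ω (c • ω) (c' • ω) (Ne.symm (hne c hc h1)) (Ne.symm (hne c' hc' h1'))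
        (fun h => hdiff h.symm) htω (hft c hct) (hft c' hct'))
    obtain ⟨c, hcQ, hc1, hct⟩ : ∃ c ∈ Q, c ≠ 1 ∧ c * t = t * c := by
      letI : MulAction (Subgroup.zpowers t) Q :=
        { smul := fun s g => ⟨(s : G) * g * (s : G)⁻¹, hnormQ _ ((Subgroup.zpowers_le.mpr htS) s.2) g g.2⟩
          one_smul := fun g => Subtype.ext (show (1 : G) * g * (1 : G)⁻¹ = g by simp)
          mul_smul := fun s s' g => Subtype.ext (show ((s : G) * s') * g * ((s : G) * s')⁻¹ =
            (s : G) * ((s' : G) * g * (s' : G)⁻¹) * (s : G)⁻¹ by group) }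
      have hpt : IsPGroup 2 (Subgroup.zpowers t) := IsPGroup.of_card (n := 1) (by rw [Nat.card_zpowers, ht, pow_one])
      have hmod := hpt.card_modEq_card_fixedPoints Q
      have h2 : 2 ∣ Nat.card Q := hz ▸ (Subgroup.orderOf_coe (⟨z, hzQ⟩ : Q)).symm ▸ orderOf_dvd_natCard _
      have h3 : 2 ∣ Nat.card (MulAction.fixedPoints (Subgroup.zpowers t) Q) :=
        (Nat.ModEq.dvd_iff hmod dvd_rfl).mp h2
      haveI : Nonempty (MulAction.fixedPoints (Subgroup.zpowers t) Q) :=
        ⟨⟨1, fun s => Subtype.ext (show (s : G) * 1 * (s : G)⁻¹ = 1 by simp)⟩⟩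
      have h4 : 1 < Nat.card (MulAction.fixedPoints (Subgroup.zpowers t) Q) :=
        lt_of_lt_of_le one_lt_two (Nat.le_of_dvd Nat.card_pos h3)
      haveI : Nontrivial (MulAction.fixedPoints (Subgroup.zpowers t) Q) := Finite.one_lt_card_iff_nontrivial.mp h4
      obtain ⟨⟨d, hd⟩, hd1⟩ := exists_ne
        (⟨1, fun s => Subtype.ext (show (s : G) * 1 * (s : G)⁻¹ = 1 by simp)⟩ : MulAction.fixedPoints (Subgroup.zpowers t) Q)
      refine ⟨d, d.2, fun h => hd1 (Subtype.ext (Subtype.ext h)), ?_⟩
      have := congrArg Subtype.val (hd ⟨t, Subgroup.mem_zpowers t⟩)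
      change t * (d : G) * t⁻¹ = d at this
      rw [mul_inv_eq_iff_eq_mul] at this
      exact this.symm
    have hc2 : c * c = 1 := by
      by_contra h
      exact hc1 (mul_left_cancel (show c * c = c * 1 by
        rw [mul_one]
        exact hC1 (c * c) c (Q.mul_mem hcQ hcQ) hcQ h hc1 (by rw [mul_assoc, hct, ← mul_assoc, hct, mul_assoc]) hct))
    refine hgroup ⟨t, htS⟩ ⟨c, hQS hcQ⟩ (by rw [← Subgroup.orderOf_coe]; exact ht)
      (by rw [← Subgroup.orderOf_coe]; exact orderOf_eq_prime (by rw [sq, hc2]) hc1)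
      (fun h => htQ (by have h' : c = t := congrArg Subtype.val h; subst h'; exact hcQ)) (Subtype.ext hct) fun y hy => ?_
    have hy' : (y : G) * t = t * y := congrArg Subtype.val hy
    rcases hA y y.2 with h | h
    · rcases eq_or_ne (y : G) 1 with h1 | h1
      · exact Or.inl (Subtype.ext h1)
      · exact Or.inr (Or.inr (Or.inl (Subtype.ext (hC1 y c ⟨y.2, h⟩ hcQ h1 hc1 hy' hct))))
    · have hmem : t * (y : G) ∈ Q := ⟨mul_mem htS y.2, by
        show (t * (y : G)) • α = α
        rw [mul_smul, h, ← htα, ← mul_smul, ht2, one_smul]⟩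
      rcases eq_or_ne (t * (y : G)) 1 with h1 | h1
      · exact Or.inr (Or.inl (Subtype.ext ((inv_eq_of_mul_eq_one_right h1).symm.trans hti)))
      · refine Or.inr (Or.inr (Or.inr (Subtype.ext ?_)))
        have := hC1 (t * y) c hmem hcQ h1 hc1 (by rw [mul_assoc, hy']) hct
        show (y : G) = t * c
        rw [← this, ← mul_assoc, ht2, one_mul]
  right; left
  -- the Frobenius case
  have hQcard : Nat.card (S : Subgroup G) = 2 * Nat.card Q := by
    have := (Q.subgroupOf (S : Subgroup G)).card_mul_index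
    rw [Nat.card_congr (Subgroup.subgroupOfEquivOfLe hQS).toEquiv] at this
    rw [← this, show (Q.subgroupOf (S : Subgroup G)).index = 2 from hrel, mul_comm]
  have hQ2 : 2 ≤ Nat.card Q := by
    haveI : Nontrivial Q := (Subgroup.nontrivial_iff_ne_bot Q).mpr hQ
    exact Finite.one_lt_card
  obtain ⟨e, he⟩ := IsPGroup.iff_card.mp S.2
  have he2 : 2 ≤ e := by
    by_contra h
    have : 2 ^ e ≤ 2 ^ 1 := Nat.pow_le_pow_right two_pos (by omega)
    omega
  have h4S : 4 ∣ Nat.card (S : Subgroup G) := he ▸ (Nat.pow_dvd_pow 2 he2)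
  have horb2 : ∀ ω, ω ∈ MulAction.orbit (S : Subgroup G) α ↔ ω = α ∨ ω = β := by
    intro ω
    refine ⟨fun ⟨⟨x, hx⟩, hω⟩ => hω ▸ hA x hx, ?_⟩
    rintro (rfl | rfl)
    · exact MulAction.mem_orbit_self _
    · exact ⟨⟨u, huS⟩, rfl⟩
  have horbreg : ∀ ω, ω ≠ α → ω ≠ β → Nat.card (MulAction.orbit (S : Subgroup G) ω) = Nat.card (S : Subgroup G) := by
    intro ω h1 h2
    rw [Nat.card_congr (MulAction.orbitEquivQuotientStabilizer (S : Subgroup G) ω)]
    show (MulAction.stabilizer (S : Subgroup G) ω).index = _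
    rw [(eq_bot_iff.mpr fun x hx => Subgroup.mem_bot.mpr (Subtype.ext (hreg ω h1 h2 x x.2 hx)) :
      MulAction.stabilizer (S : Subgroup G) ω = ⊥), Subgroup.index_bot]
  -- the degree
  set Y : Set Ω := {ω | ω ≠ α ∧ ω ≠ β} with hY
  have hYinv : ∀ x : (S : Subgroup G), ∀ y ∈ Y, x • y ∈ Y := by
    rintro x y ⟨h1, h2⟩
    have key : ∀ w, (w = α ∨ w = β) → x • y ≠ w := by
      intro w hw he
      have hm : y ∈ MulAction.orbit (S : Subgroup G) α := by
        obtain ⟨g, hg⟩ := (horb2 w).mpr hw
        exact ⟨x⁻¹ * g, by show (x⁻¹ * g) • α = y; rw [mul_smul, show g • α = w from hg, ← he, inv_smul_smul]⟩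
      exact ((horb2 y).mp hm).elim h1 h2
    exact ⟨key α (Or.inl rfl), key β (Or.inr rfl)⟩
  have hYdvd : Nat.card (S : Subgroup G) ∣ Nat.card Y :=
    H56.dvd_card_of_invariant Y hYinv fun y hy => horbreg y hy.1 hy.2
  have hYcard : Nat.card Y + 2 = Fintype.card Ω := by
    have h1 : Y = ({α, β} : Set Ω)ᶜ := by ext ω; simp [hY]
    rw [h1, Nat.card_coe_set_eq, Set.ncard_compl, Set.ncard_pair hβ.symm, Nat.card_eq_fintype_card]
    have : ({α, β} : Set Ω).ncard ≤ Nat.card Ω := Set.ncard_le_card _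
    rw [Set.ncard_pair hβ.symm, Nat.card_eq_fintype_card] at this
    omega
  have hn4 : Fintype.card Ω % 4 = 2 := by
    have := h4S.trans hYdvd
    omega
  refine ⟨by omega, ⟨α, ?_, fun ω' hω' => ?_⟩, ?_⟩
  · have h1 : MulAction.orbit (S : Subgroup G) α = ({α, β} : Set Ω) := by ext ω; simp [horb2]
    rw [h1, Nat.card_coe_set_eq, Set.ncard_pair hβ.symm]
  · rw [horb2] at hω'
    push Not at hω'
    exact horbreg ω' hω'.1 hω'.2
  -- a homomorphism to a group of order two killing the stabiliser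
  obtain ⟨χ, hχu, hχQ⟩ : ∃ χ : G →* ℤˣ, χ u = -1 ∧ ∀ g ∈ Q, χ g = 1 := by
    by_cases hcyc : ∃ s ∈ (S : Subgroup G), orderOf s = Nat.card (S : Subgroup G)
    · obtain ⟨s, hsS, hs⟩ := hcyc
      refine ⟨Equiv.Perm.sign.comp (MulAction.toPermHom G G), ?_, ?_⟩
      all_goals
        have hval : ∀ g : G, g ∈ (S : Subgroup G) → g ≠ 1 →
            Equiv.Perm.sign (MulAction.toPermHom G G g) = (-1 : ℤˣ) ^ (Nat.card G / orderOf g) := by
          intro g hg hg1
          obtain ⟨k, hk, hsign⟩ := sign_of_semiregular (MulAction.toPermHom G G g) (orderOf g)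
            (by rw [← map_pow, pow_orderOf_eq_one, map_one]) (fun x b _ hb => by
              rw [← map_pow] at hb
              exact orderOf_dvd_of_pow_eq_one (mul_eq_right.mp (show g ^ b * x = x from hb)))
          have hsupp : (MulAction.toPermHom G G g).support = Finset.univ :=
            Finset.eq_univ_of_forall fun x => Equiv.Perm.mem_support.mpr fun h =>
              hg1 (mul_eq_right.mp (show g * x = x from h))
          rw [hsupp, Finset.card_univ, ← Nat.card_eq_fintype_card] at hk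
          obtain ⟨j, hj0, hj⟩ := pgroup_order S.2 ⟨g, hg⟩ fun h => hg1 (congrArg Subtype.val h)
          rw [← Subgroup.orderOf_coe] at hj
          have heven : Even (k * orderOf g) :=
            (even_iff_two_dvd.mpr (hj ▸ dvd_pow_self 2 hj0)).mul_left k
          rw [hsign, hk, Nat.mul_div_cancel _ (orderOf_pos g), pow_add, Even.neg_one_pow heven, one_mul]
      · have huo : orderOf u = Nat.card (S : Subgroup G) := by
          -- `u` generates, as `Q` is the unique maximal subgroup
          obtain ⟨k, rfl⟩ : ∃ k : ℕ, s ^ k = u := by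
            have htop : Subgroup.zpowers s = (S : Subgroup G) :=
              Subgroup.eq_of_le_of_card_ge (Subgroup.zpowers_le.mpr hsS) (by rw [Nat.card_zpowers, hs])
            exact mem_powers_iff_mem_zpowers.mpr (htop ▸ huS)
          rcases Nat.even_or_odd k with ⟨j, rfl⟩ | hodd
          · exfalso
            apply huQ
            have hss : s * s ∈ Q := Subgroup.mul_self_mem_of_index_two
              (H := Q.subgroupOf (S : Subgroup G)) hrel ⟨s, hsS⟩
            rw [pow_add, ← (Commute.refl s).mul_pow]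
            exact Q.pow_mem hss j
          · rw [Nat.Coprime.orderOf_pow, hs]
            rw [hs, he]
            exact Nat.Coprime.pow_left _ (Nat.coprime_two_left.mpr hodd)
        show Equiv.Perm.sign (MulAction.toPermHom G G u) = -1
        rw [hval u huS fun h => huQ (h ▸ Q.one_mem), huo]
        refine Odd.neg_one_pow (Nat.odd_iff.mpr ?_)
        rw [← Nat.two_dvd_ne_zero]
        intro h2
        apply S.not_dvd_index
        have h3 := (S : Subgroup G).card_mul_index
        have h4 : Nat.card G / Nat.card (S : Subgroup G) = (S : Subgroup G).index := by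
          rw [← h3, Nat.mul_div_cancel_left _ Nat.card_pos]
        exact h4 ▸ h2
      · intro g hg
        rcases eq_or_ne g 1 with rfl | hg1
        · exact map_one _
        show Equiv.Perm.sign (MulAction.toPermHom G G g) = 1
        rw [hval g (hQS hg) hg1]
        refine Even.neg_one_pow (even_iff_two_dvd.mpr ?_)
        have h1 : orderOf g ∣ Nat.card Q := by
          have := orderOf_dvd_natCard (⟨g, hg⟩ : Q)
          rwa [← Subgroup.orderOf_coe] at this
        apply Nat.dvd_div_of_mul_dvd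
        refine (mul_dvd_mul h1 (dvd_refl 2)).trans ?_
        rw [mul_comm, ← hQcard]
        exact Subgroup.card_subgroup_dvd_card _
    · push Not at hcyc
      refine ⟨Equiv.Perm.sign.comp (MulAction.toPermHom G Ω), ?_, ?_⟩
      all_goals
        have hval : ∀ g ∈ (S : Subgroup G), g ≠ 1 → ∀ σ : Equiv.Perm Ω, σ α = α → σ β = β →
            (∀ ω ∈ Y, σ ω = g • ω) → Equiv.Perm.sign σ = 1 := by
          intro g hg hg1 σ hσα hσβ hσ
          have hpowσ : ∀ (b : ℕ) (ω : Ω), (ω ∈ Y → (σ ^ b) ω = g ^ b • ω) ∧ (ω ∉ Y → (σ ^ b) ω = ω) := by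
            intro b
            induction b with
            | zero => intro ω; exact ⟨fun _ => by simp, fun _ => by simp⟩
            | succ b ih =>
              intro ω
              refine ⟨fun hω => ?_, fun hω => ?_⟩
              · rw [pow_succ', Equiv.Perm.mul_apply, (ih ω).1 hω,
                  hσ _ (show g ^ b • ω ∈ Y from hYinv ⟨g ^ b, pow_mem hg b⟩ ω hω), pow_succ', mul_smul]
              · rw [pow_succ', Equiv.Perm.mul_apply, (ih ω).2 hω]
                by_cases h1 : ω = α
                · rw [h1, hσα]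
                · have h2 : ω = β := by
                    by_contra h2
                    exact hω ⟨h1, h2⟩
                  rw [h2, hσβ]
          have hpow1 : σ ^ orderOf g = 1 := Equiv.ext fun ω => by
            by_cases hω : ω ∈ Y
            · rw [(hpowσ _ ω).1 hω, pow_orderOf_eq_one, one_smul]; rfl
            · rw [(hpowσ _ ω).2 hω]; rfl
          obtain ⟨k, hk, hsign⟩ := sign_of_semiregular σ (orderOf g) hpow1 (fun ω b hω hb => by
            have hωY : ω ∈ Y := by
              by_contra h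
              have := (hpowσ 1 ω).2 h
              rw [pow_one] at this
              exact hω this
            rw [(hpowσ b ω).1 hωY] at hb
            exact orderOf_dvd_of_pow_eq_one (hreg ω hωY.1 hωY.2 _ (pow_mem hg b) hb))
          have hsupp : σ.support = Y.toFinset := by
            ext ω
            rw [Equiv.Perm.mem_support, Set.mem_toFinset]
            refine ⟨fun h => ?_, fun h he => ?_⟩
            · by_contra hY'
              have := (hpowσ 1 ω).2 hY'
              rw [pow_one] at this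
              exact h this
            · rw [hσ ω h] at he
              exact hg1 (hreg ω h.1 h.2 g hg he)
          rw [hsupp, Set.toFinset_card, ← Nat.card_eq_fintype_card] at hk
          obtain ⟨j, hj0, hj⟩ := pgroup_order S.2 ⟨g, hg⟩ fun h => hg1 (congrArg Subtype.val h)
          rw [← Subgroup.orderOf_coe] at hj
          have heven : Even (k * orderOf g) :=
            (even_iff_two_dvd.mpr (hj ▸ dvd_pow_self 2 hj0)).mul_left k
          have hje : j < e := by
            have h1 : 2 ^ j ∣ 2 ^ e := by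
              rw [← he, ← hj]
              have := orderOf_dvd_natCard (⟨g, hg⟩ : (S : Subgroup G))
              rwa [← Subgroup.orderOf_coe] at this
            rcases lt_or_eq_of_le ((Nat.pow_dvd_pow_iff_le_right (by norm_num)).mp h1) with h | h
            · exact h
            · exact absurd (by rw [hj, he, h]) (hcyc g hg)
          have hk2 : Even k := by
            rw [even_iff_two_dvd]
            obtain ⟨w, hw⟩ := hYdvd
            rw [hw, he, hj] at hk
            refine ⟨w * 2 ^ (e - j - 1), Nat.eq_of_mul_eq_mul_right (pow_pos two_pos j) ?_⟩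
            rw [← hk, show (2 : ℕ) ^ e = 2 * 2 ^ (e - j - 1) * 2 ^ j by
              rw [← pow_succ', ← pow_add]; congr 1; omega]
            ring
          rw [hsign, pow_add, Even.neg_one_pow heven, Even.neg_one_pow hk2, one_mul]
      · set σu : Equiv.Perm Ω := MulAction.toPermHom G Ω u
        have h1 := hval u huS (fun h => huQ (h ▸ Q.one_mem)) (Equiv.swap α β * σu)
          (by show Equiv.swap α β (u • α) = α; rw [← hβdef]; exact Equiv.swap_apply_right α β)
          (by show Equiv.swap α β (u • β) = β; rw [huinv]; exact Equiv.swap_apply_left α β)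
          (fun ω hω => by
            have := hYinv ⟨u, huS⟩ ω hω
            exact Equiv.swap_apply_of_ne_of_ne this.1 this.2)
        rw [map_mul, Equiv.Perm.sign_swap hβ.symm] at h1
        show Equiv.Perm.sign σu = -1
        rcases Int.units_eq_one_or (Equiv.Perm.sign σu) with h | h
        · rw [h] at h1; exact absurd h1 (by decide)
        · exact h
      · intro g hg
        rcases eq_or_ne g 1 with rfl | hg1
        · exact map_one _
        exact hval g (hQS hg) hg1 (MulAction.toPermHom G Ω g) (hQα g hg) (hQβ g hg) fun ω _ => rfl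
  -- the stabiliser lies in the kernel
  have hker : ∀ g : G, g • α = α → χ g = 1 := by
    set Gα := MulAction.stabilizer G α
    have hidx : ¬ 2 ∣ Q.relIndex Gα := by
      intro h2
      have h1 : Nat.card Q * Q.relIndex Gα = Nat.card Gα := by
        have := (Q.subgroupOf Gα).card_mul_index
        rwa [Nat.card_congr (Subgroup.subgroupOfEquivOfLe (inf_le_right : Q ≤ Gα)).toEquiv] at this
      have h3 : Fintype.card Ω * Nat.card Gα = Nat.card G := by
        rw [← Nat.card_eq_fintype_card, ← MulAction.index_stabilizer_of_transitive G α, mul_comm,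
          Subgroup.card_mul_index]
      have h5 : 2 * Nat.card (S : Subgroup G) ∣ Nat.card G := by
        obtain ⟨w, hw⟩ := h2
        refine ⟨Fintype.card Ω / 2 * w, ?_⟩
        have h6 : 2 * (Fintype.card Ω / 2) = Fintype.card Ω := by omega
        rw [← h3, ← h1, hw, hQcard]
        conv_lhs => rw [← h6]
        ring
      rw [← (S : Subgroup G).card_mul_index, mul_comm 2, Nat.mul_dvd_mul_iff_left Nat.card_pos] at h5
      exact S.not_dvd_index h5
    intro g hg
    rcases Int.units_eq_one_or (χ g) with h | h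
    · exact h
    exfalso
    apply hidx
    have hle : Q ≤ χ.ker ⊓ Gα := le_inf (fun x hx => hχQ x hx) inf_le_right
    rw [← Subgroup.relIndex_mul_relIndex Q (χ.ker ⊓ Gα) Gα hle inf_le_right]
    refine dvd_mul_of_dvd_right ?_ _
    rw [Subgroup.inf_relIndex_right]
    have he2' : ((χ.ker).subgroupOf Gα) = (χ.comp Gα.subtype).ker := rfl
    show 2 ∣ ((χ.ker).subgroupOf Gα).index
    rw [he2', Subgroup.index_ker]
    have : orderOf (⟨χ g, ⟨⟨g, hg⟩, rfl⟩⟩ : (χ.comp Gα.subtype).range) = 2 := by
      rw [← Subgroup.orderOf_coe]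
      show orderOf (χ g) = 2
      rw [h]; exact orderOf_eq_prime (by decide) (by decide)
    exact this ▸ orderOf_dvd_natCard _
  refine ⟨χ.ker, inferInstance, Or.inl ?_, ⟨(MulAction.stabilizer G α).subgroupOf χ.ker, ?_, ?_, ?_⟩⟩
  · rw [Subgroup.index_ker]
    have hs : χ.range = ⊤ := eq_top_iff.mpr fun x _ => by
      rcases Int.units_eq_one_or x with rfl | rfl
      · exact one_mem _
      · exact ⟨u, hχu⟩
    rw [hs, Subgroup.card_top, Nat.card_eq_fintype_card]
    rfl
  · intro h
    have hm : (⟨z, hχQ z hzQ⟩ : χ.ker) ∈ (MulAction.stabilizer G α).subgroupOf χ.ker := hQα z hzQ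
    rw [h, Subgroup.mem_bot] at hm
    exact hz1 (congrArg Subtype.val hm)
  · intro h
    apply hz1
    refine FaithfulSMul.eq_of_smul_eq_smul fun ω : Ω => ?_
    obtain ⟨g, rfl⟩ := MulAction.exists_smul_eq G α ω
    have hm : g⁻¹ * z * g ∈ χ.ker := by
      rw [MonoidHom.mem_ker, map_mul, map_mul, hχQ z hzQ, mul_one, ← map_mul, inv_mul_cancel, map_one]
    have := (h ▸ Subgroup.mem_top (⟨_, hm⟩ : χ.ker) : (⟨_, hm⟩ : χ.ker) ∈ (MulAction.stabilizer G α).subgroupOf χ.ker)
    rw [Subgroup.mem_subgroupOf, MulAction.mem_stabilizer_iff, mul_smul, mul_smul, inv_smul_eq_iff] at this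
    rw [one_smul]; exact this
  · intro g hg
    rw [eq_bot_iff]
    rintro h ⟨hh1, hh2⟩
    rw [Subgroup.mem_bot]
    by_contra hne
    have hα' : (g : G) • α ≠ α := fun e => hg e
    have hfix' : (h : G) • (g : G) • α = (g : G) • α := by
      obtain ⟨k, hk, rfl⟩ := hh2
      show ((g : G) * (k : G) * (g : G)⁻¹) • (g : G) • α = (g : G) • α
      rw [mul_smul, mul_smul, inv_smul_smul, show (k : G) • α = α from hk]
    have hh1' : (h : G) • α = α := hh1
    -- a power of prime order
    obtain ⟨r, hr, hrd⟩ := Nat.exists_prime_and_dvd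
      (show orderOf (h : G) ≠ 1 from fun e => hne (Subtype.ext (orderOf_eq_one_iff.mp e)))
    haveI : Fact r.Prime := ⟨hr⟩
    obtain ⟨w, hwo, hwmem⟩ : ∃ w : G, orderOf w = r ∧ w ∈ Subgroup.zpowers (h : G) := by
      obtain ⟨w, hw⟩ := exists_prime_orderOf_dvd_card' (G := Subgroup.zpowers (h : G)) r
        (by rw [Nat.card_zpowers]; exact hrd)
      exact ⟨w, by rw [Subgroup.orderOf_coe]; exact hw, w.2⟩
    have hwα : w • α = α := (Subgroup.zpowers_le.mpr (show (h : G) ∈ MulAction.stabilizer G α from hh1')) hwmem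
    have hwα' : w • (g : G) • α = (g : G) • α :=
      (Subgroup.zpowers_le.mpr (show (h : G) ∈ MulAction.stabilizer G ((g : G) • α) from hfix')) hwmem
    have hwk : χ w = 1 := hker w hwα
    have hw1 : w ≠ 1 := fun e => by rw [e, orderOf_one] at hwo; exact hr.one_lt.ne hwo
    have hfree : ∀ ω : Ω, ω ≠ α → ω ≠ (g : G) • α →
        Nat.card (MulAction.orbit (Subgroup.zpowers w) ω) = r := by
      intro ω h1 h2
      have hd := (MulAction.stabilizer (Subgroup.zpowers w) ω).index_dvd_card
      rw [Nat.card_zpowers, hwo] at hd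
      rw [Nat.card_congr (MulAction.orbitEquivQuotientStabilizer (Subgroup.zpowers w) ω)]
      rcases (Nat.dvd_prime hr).mp hd with hi | hi
      · exfalso
        have := (Subgroup.index_eq_one.mp hi).ge (Subgroup.mem_top ⟨w, Subgroup.mem_zpowers w⟩)
        exact hw1 (key3 w α ((g : G) • α) ω hα'.symm (Ne.symm h1) (Ne.symm h2) hwα hwα' this)
      · exact hi
    -- the two orbits of the kernel
    let D1 : Set Ω := {ω | ∃ k : G, χ k = 1 ∧ k • α = ω}
    have hD1inv : ∀ x : G, χ x = 1 → ∀ ω, ω ∈ D1 → x • ω ∈ D1 := by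
      rintro x hx ω ⟨k, hk, rfl⟩
      exact ⟨x * k, by rw [map_mul, hx, hk, one_mul], mul_smul _ _ _⟩
    have hβD : ∀ ω, ω ∈ D1 ↔ u • ω ∉ D1 := by
      intro ω
      constructor
      · rintro ⟨k, hk, rfl⟩ ⟨k', hk', hkk⟩
        have := hker (k'⁻¹ * (u * k)) (by rw [mul_smul, mul_smul, ← hkk, inv_smul_smul])
        rw [map_mul, map_inv, hk', map_mul, hk, hχu] at this
        simp at this
      · intro h
        obtain ⟨k, rfl⟩ := MulAction.exists_smul_eq G α ω
        refine ⟨k, ?_, rfl⟩
        rcases Int.units_eq_one_or (χ k) with hk | hk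
        · exact hk
        · exact absurd ⟨u * k, by rw [map_mul, hχu, hk]; rfl, mul_smul _ _ _⟩ h
    have hsplit : Nat.card D1 * 2 = Fintype.card Ω := by
      have h1 : (fun ω => u • ω) ⁻¹' (D1ᶜ) = D1 := by ext ω; exact (hβD ω).symm
      have h2 : Nat.card D1 = Nat.card (D1ᶜ : Set Ω) := by
        rw [Nat.card_coe_set_eq, Nat.card_coe_set_eq]
        nth_rewrite 1 [← h1]
        exact Set.ncard_preimage_of_injective_subset_range (MulAction.injective u)
          (fun ω _ => ⟨u⁻¹ • ω, smul_inv_smul u ω⟩)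
      have h3 := Set.ncard_add_ncard_compl D1
      rw [← Nat.card_coe_set_eq, ← Nat.card_coe_set_eq, ← h2, Nat.card_eq_fintype_card (α := Ω)] at h3
      omega
    have hαD : α ∈ D1 := ⟨1, map_one _, one_smul _ _⟩
    have hgD : (g : G) • α ∈ D1 := ⟨g, g.2, rfl⟩
    have hd2 : r ∣ Nat.card (D1ᶜ : Set Ω) := by
      refine H56.dvd_card_of_invariant (H := Subgroup.zpowers w) (D1ᶜ) (fun x y hy hm => hy ?_)
        fun y hy => hfree y (fun e => hy (e ▸ hαD)) fun e => hy (e ▸ hgD)
      have hxk : χ (x : G)⁻¹ = 1 := by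
        obtain ⟨i, hi⟩ := Subgroup.mem_zpowers_iff.mp x.2
        rw [map_inv, ← hi, map_zpow, hwk, one_zpow, inv_one]
      have := hD1inv (x : G)⁻¹ hxk _ hm
      rwa [Subgroup.smul_def, inv_smul_smul] at this
    set D1' : Set Ω := D1 \ {α, (g : G) • α} with hD1'
    have hd1 : r ∣ Nat.card D1' := by
      refine H56.dvd_card_of_invariant (H := Subgroup.zpowers w) D1' ?_
        fun y hy => hfree y (fun e => hy.2 (Or.inl e)) fun e => hy.2 (Or.inr e)
      rintro x y ⟨hy1, hy2⟩
      have hxw : (x : G) • α = α ∧ (x : G) • (g : G) • α = (g : G) • α :=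
        ⟨(Subgroup.zpowers_le.mpr (show w ∈ MulAction.stabilizer G α from hwα)) x.2,
          (Subgroup.zpowers_le.mpr (show w ∈ MulAction.stabilizer G ((g : G) • α) from hwα')) x.2⟩
      refine ⟨hD1inv _ (hker _ hxw.1) _ hy1, ?_⟩
      rintro (e | e)
      · exact hy2 (Or.inl (smul_left_cancel (x : G) (e.trans hxw.1.symm)))
      · exact hy2 (Or.inr (smul_left_cancel (x : G) ((Set.mem_singleton_iff.mp e).trans hxw.2.symm)))
    have h3 : Nat.card D1' + 2 = Nat.card D1 := by
      rw [Nat.card_coe_set_eq, Nat.card_coe_set_eq, hD1',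
        ← Set.ncard_pair hα'.symm, Set.ncard_sdiff_add_ncard_of_subset]
      exact Set.insert_subset hαD (Set.singleton_subset_iff.mpr hgD)
    have h4 := Set.ncard_add_ncard_compl D1
    rw [← Nat.card_coe_set_eq, ← Nat.card_coe_set_eq, Nat.card_eq_fintype_card (α := Ω)] at h4
    have hr2 : r ∣ 2 := by
      have h5 : r ∣ Nat.card D1 := by
        rwa [show Nat.card (D1ᶜ : Set Ω) = Nat.card D1 by omega] at hd2
      rw [← h3] at h5
      exact (Nat.dvd_add_right hd1).mp h5
    obtain rfl := (Nat.prime_dvd_prime_iff_eq hr Nat.prime_two).mp hr2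
    omega

end Cfsg.Agent.S3390
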