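import Cfsg.Statements.S3396
import Cfsg.Agent.H11.CIT.Seven

set_option autoImplicit false
open Cfsg

namespace Cfsg.Agent.S3396

/-- Let G be a finite group whose order has at least three distinct prime divisors, and suppose every nonidentity element of G has order a power of 2 or a prime other than 5. Then G is isomorphic to PSL₂(7) (here F is any field with 7 elements). In particular a finite group whose set of element orders is {1, 2, 3, 4, 7} is PSL₂(7). -/
theorem result {G : Type*} [Group G] [Finite G]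
    {F : Type*} [Field F] [Fintype F] (hF : Fintype.card F = 7)
    (h3 : 3 ≤ (Nat.card G).primeFactors.card)
    (hord : ∀ g : G, g ≠ 1 → (∃ k : ℕ, orderOf g = 2 ^ k) ∨ ((orderOf g).Prime ∧ orderOf g ≠ 5)) :
    Nonempty (G ≃* Matrix.ProjectiveSpecialLinearGroup (Fin 2) F) := by
  classical
  have h : H11.CIT.Spec G := hord
  have hns : ¬ Group.IsSolvable G := by
    intro hs
    obtain ⟨a, b, c, ha, hb, hc, hab, hac, hbc⟩ := Finset.two_lt_card_iff.1 (show 2 < _ from h3)
    have key : ∀ p q : ℕ, p.Prime → q.Prime → p ≠ q → (∃ z : G, orderOf z = p * q) → False := by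
      rintro p q hp hq hpq ⟨z, hz⟩
      by_cases hp2 : p = 2
      · subst hp2
        exact h.no_mult hq (Ne.symm hpq) Nat.prime_two.one_lt (g := z) (by rw [hz, mul_comm])
      · exact h.no_mult hp hp2 hq.one_lt (g := z) (by rw [hz])
    have hmem : ∀ p ∈ (Nat.card G).primeFactors, p.Prime ∧ p ∣ Nat.card G := fun p hp =>
      ⟨Nat.prime_of_mem_primeFactors hp, Nat.dvd_of_mem_primeFactors hp⟩
    obtain ⟨ha', ha''⟩ := hmem a ha
    obtain ⟨hb', hb''⟩ := hmem b hb
    obtain ⟨hc', hc''⟩ := hmem c hc
    rcases H64.three_primes_adjacent hs ha' hb' hc' hab hac hbc ha'' hb'' hc'' with hz | hz | hz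
    exacts [key a b ha' hb' hab hz, key a c ha' hc' hac hz, key b c hb' hc' hbc hz]
  haveI : Fact (Nat.Prime 7) := ⟨by norm_num⟩
  obtain ⟨e⟩ := H11.CIT.iso_seven_aux _ G rfl h hns
  exact ⟨e.trans (H37.pslCongr (FiniteField.ringEquivOfCardEq (by rw [ZMod.card, hF])))⟩

end Cfsg.Agent.S3396
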