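import Cfsg.Statements.S3412
import Cfsg.Agent.H57.SL33.Plane

set_option autoImplicit false
open Cfsg

namespace Cfsg.Agent.S3412

/-- Let H be a finite group whose commuting graph (vertices the non-identity elements, two joined when they commute) is isomorphic to that of PSL_3(3): there is a bijection between the non-identity elements of H and of PSL_3(3) under which two elements commute exactly when their images do. Then H ≅ PSL_3(3). -/
theorem result {H : Type*} [Group H] [Finite H]
    (f : {h : H // h ≠ 1} ≃ {g : Matrix.ProjectiveSpecialLinearGroup (Fin 3) (ZMod 3) // g ≠ 1})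
    (hf : ∀ x y : {h : H // h ≠ 1}, (x : H) * y = y * x ↔ ((f x) : Matrix.ProjectiveSpecialLinearGroup (Fin 3) (ZMod 3)) * (f y) = (f y) * (f x)) :
    Nonempty (H ≃* Matrix.ProjectiveSpecialLinearGroup (Fin 3) (ZMod 3)) := by
  classical
  have hbot : Subgroup.center (Matrix.SpecialLinearGroup (Fin 3) (ZMod 3)) = ⊥ := by
    rw [← Subgroup.card_eq_one, H37.card_center_SL, Fintype.card_fin, Nat.card_zmod]
    rfl
  let e : Matrix.ProjectiveSpecialLinearGroup (Fin 3) (ZMod 3) ≃* H57.SL33.S :=
    (QuotientGroup.quotientMulEquivOfEq hbot).trans QuotientGroup.quotientBot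
  let F0 : H ≃ Matrix.ProjectiveSpecialLinearGroup (Fin 3) (ZMod 3) :=
    (Equiv.optionSubtypeNe (1 : H)).symm.trans
      ((Equiv.optionCongr f).trans (Equiv.optionSubtypeNe (1 : _)))
  have h1 : F0 1 = 1 := by simp [F0]
  have hne : ∀ x : {h : H // h ≠ 1}, F0 x = f x := fun x => by simp [F0, Equiv.optionSubtypeNe_symm_of_ne x.2]
  let G : H57.SL33.SameGraph H :=
    { F := F0.trans e.toEquiv
      F_one := by simp [h1]
      comm := fun a b => by
        simp only [Equiv.trans_apply, MulEquiv.toEquiv_eq_coe, EquivLike.coe_coe]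
        rw [← map_mul e, ← map_mul e, e.injective.eq_iff]
        by_cases ha : a = 1
        · subst ha; simp [h1]
        by_cases hb : b = 1
        · subst hb; simp [h1]
        rw [hne ⟨a, ha⟩, hne ⟨b, hb⟩]
        exact hf ⟨a, ha⟩ ⟨b, hb⟩ }
  obtain ⟨i⟩ := H57.SL33.nonempty_mulEquiv G
  exact ⟨i.trans e.symm⟩

end Cfsg.Agent.S3412
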