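import Cfsg.Statements.S3421
import Cfsg.Agent.S2475
import Cfsg.Agent.S1230
import Cfsg.Agent.H39.ProjField
import Cfsg.Agent.H39.Dickson
import Cfsg.Agent.H64.LikePSL2Zass

set_option autoImplicit false
open Cfsg

namespace Cfsg.Agent.S3421

/-- Let F be a finite field with more than 3 elements. A finite group G is isomorphic to PSL(2, F) if and only if G has the same set of element orders and the same order as PSL(2, F). -/
theorem result {G : Type*} [Group G] [Finite G] {F : Type*} [Field F] [Fintype F] (hF : 3 < Fintype.card F) :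
    Nonempty (G ≃* Matrix.ProjectiveSpecialLinearGroup (Fin 2) F) ↔
      (Set.range (orderOf : G → ℕ) = Set.range (orderOf : Matrix.ProjectiveSpecialLinearGroup (Fin 2) F → ℕ) ∧
        Nat.card G = Nat.card (Matrix.ProjectiveSpecialLinearGroup (Fin 2) F)) := by
  classical
  constructor
  · rintro ⟨e⟩
    refine ⟨Set.ext fun m => ?_, Nat.card_congr e.toEquiv⟩
    constructor
    · rintro ⟨g, rfl⟩; exact ⟨e g, e.orderOf_eq g⟩
    · rintro ⟨g, rfl⟩; exact ⟨e.symm g, e.symm.orderOf_eq g⟩
  rintro ⟨hspec, hcard⟩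
  set p := ringChar F with hp
  haveI : CharP F p := ringChar.charP F
  obtain ⟨n, hprime, hqn⟩ := FiniteField.card F p
  haveI : Fact p.Prime := ⟨hprime⟩
  set q := Fintype.card F with hq
  have hsp := Cfsg.Agent.S2475.result (F := F) p hF
  rw [← hspec] at hsp
  have hG := H39.card_PSL2_mul (F := F)
  rw [← hcard, ← hq, show q ^ 2 - 1 = (q + 1) * (q - 1) from Nat.sq_sub_sq q 1] at hG
  rw [← hq] at hsp
  rcases eq_or_ne p 2 with hp2 | hp2
  · -- even case
    rw [hp2] at hqn
    have hev : 2 ∣ q := hqn ▸ dvd_pow_self 2 n.pos.ne'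
    have hd : Nat.gcd 2 (q - 1) = 1 := Nat.coprime_two_left.2 (Nat.odd_iff.2 (by omega))
    rw [hd, one_mul] at hG
    rw [hd, Nat.div_one, Nat.div_one, hp2] at hsp
    have hord : ∀ g : G, orderOf g ∣ 2 ∨ orderOf g ∣ q - 1 ∨ orderOf g ∣ q + 1 := fun g => by
      have : orderOf g ∈ Set.range (orderOf : G → ℕ) := ⟨g, rfl⟩
      rw [hsp] at this
      exact this
    have hoddm : ∀ m : ℕ, m ∣ q - 1 ∨ m ∣ q + 1 → ¬ 2 ∣ m := by
      rintro m (hm | hm) h2 <;> have := h2.trans hm <;> omega
    have h2exp : ∀ g : G, 2 ∣ orderOf g → g ^ 2 = 1 := fun g hg => by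
      rcases hord g with h | h | h
      · exact orderOf_dvd_iff_pow_eq_one.1 h
      · exact absurd hg (hoddm _ (.inl h))
      · exact absurd hg (hoddm _ (.inr h))
    haveI : Fact (Nat.Prime 2) := ⟨Nat.prime_two⟩
    obtain ⟨T⟩ : Nonempty (Sylow 2 G) := inferInstance
    have hTc : Nat.card (T : Subgroup G) = q := by
      rw [T.card_eq_multiplicity, hG, Nat.factorization_mul (by omega) (Nat.mul_pos (by omega) (by omega)).ne',
        Finsupp.add_apply, hqn, Nat.factorization_pow_self Nat.prime_two, Nat.factorization_eq_zero_of_not_dvd,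
        add_zero]
      rw [← hqn, Nat.prime_two.dvd_mul]
      omega
    have hTexp : ∀ g : G, g ∈ (T : Subgroup G) → g ^ 2 = 1 := fun g hg => by
      obtain ⟨k, hk⟩ := T.2.exists_orderOf_eq_pow ⟨g, hg⟩
      rw [Subgroup.orderOf_mk] at hk
      rcases Nat.eq_zero_or_pos k with rfl | hk0
      · rw [show g = 1 from orderOf_eq_one_iff.1 (by simpa using hk), one_pow]
      · exact h2exp g (hk ▸ dvd_pow_self 2 hk0.ne')
    have hnc : ¬ IsCyclic (T : Subgroup G) := fun h => by
      obtain ⟨g, hg⟩ := IsCyclic.exists_ofOrder_eq_natCard (α := (T : Subgroup G))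
      have h2 : orderOf g ∣ 2 := orderOf_dvd_of_pow_eq_one (Subtype.ext (hTexp g g.2))
      have := Nat.le_of_dvd two_pos h2
      omega
    have hC : ∀ t : G, orderOf t = 2 → IsMulCommutative (Subgroup.centralizer ({t} : Set G)) ∧
        ∀ c ∈ Subgroup.centralizer ({t} : Set G), c ^ 2 = 1 := by
      intro t ht
      have hc2 : ∀ c ∈ Subgroup.centralizer ({t} : Set G), c ^ 2 = 1 := by
        intro c hc
        by_cases h2 : 2 ∣ orderOf c
        · exact h2exp c h2
        · have hct : Commute c t := (Subgroup.mem_centralizer_singleton_iff.1 hc)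
          have hcop : Nat.Coprime (orderOf c) (orderOf t) := by
            rw [ht]; exact (Nat.prime_two.coprime_iff_not_dvd.2 h2).symm
          have ho : orderOf (c * t) = orderOf c * 2 := by
            rw [hct.orderOf_mul_eq_mul_orderOf_of_coprime hcop, ht]
          have h1 : orderOf (c * t) ∣ 2 := orderOf_dvd_of_pow_eq_one (h2exp _ (ho ▸ dvd_mul_left 2 _))
          rw [ho] at h1
          exact orderOf_dvd_iff_pow_eq_one.1 ((dvd_mul_right _ 2).trans h1)
      refine ⟨⟨⟨fun a b => Subtype.ext ?_⟩⟩, hc2⟩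
      show (a : G) * b = b * a
      have ha := hc2 a a.2
      have hb := hc2 b b.2
      have hab := hc2 (a * b) (mul_mem a.2 b.2)
      rw [pow_two] at ha hb hab
      rw [eq_inv_of_mul_eq_one_left hab, mul_inv_rev, inv_eq_of_mul_eq_one_right ha,
        inv_eq_of_mul_eq_one_right hb]
    have hnn : ¬ (T : Subgroup G).Normal := fun hn => by
      haveI := hn
      have h1 := (T : Subgroup G).card_mul_index
      rw [hTc, hG] at h1
      have hidx : (T : Subgroup G).index = (q + 1) * (q - 1) := Nat.eq_of_mul_eq_mul_left (by omega) h1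
      obtain ⟨H, hH⟩ := Subgroup.exists_right_complement'_of_coprime (N := (T : Subgroup G))
        (by rw [hTc, hidx, hqn]; exact Nat.Coprime.pow_left _ (Nat.coprime_two_left.2 (Nat.odd_mul.2
          ⟨Nat.odd_iff.2 (by omega), Nat.odd_iff.2 (by omega)⟩)))
      have hHc : Nat.card H = (q + 1) * (q - 1) := by
        have := hH.card_mul
        rw [hTc, hG] at this
        exact Nat.eq_of_mul_eq_mul_left (by omega) this
      let _ : MulAction H {n : (T : Subgroup G) // n ≠ 1} :=
        { smul := fun x n => ⟨⟨(x : G) * (n.1 : G) * (x : G)⁻¹, hn.conj_mem _ n.1.2 _⟩, fun e =>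
            n.2 (Subtype.ext (conj_eq_one_iff.1 (congrArg Subtype.val e)))⟩
          one_smul := fun n => Subtype.ext (Subtype.ext (by
            show (1 : G) * (n.1 : G) * (1 : G)⁻¹ = n.1
            simp))
          mul_smul := fun x y n => Subtype.ext (Subtype.ext (by
            show ((x : G) * y) * (n.1 : G) * ((x : G) * y)⁻¹ =
              (x : G) * ((y : G) * (n.1 : G) * (y : G)⁻¹) * (x : G)⁻¹
            group)) }
      have hfree : ∀ a : {n : (T : Subgroup G) // n ≠ 1}, MulAction.stabilizer H a = ⊥ := fun a =>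
        (Subgroup.eq_bot_iff_forall _).2 fun x hx => by
          have ha2 : orderOf (a.1 : G) = 2 := orderOf_eq_prime (hTexp _ a.1.2) fun e => a.2 (Subtype.ext e)
          have e : (x : G) * (a.1 : G) * (x : G)⁻¹ = a.1 :=
            congrArg (fun t : {n : (T : Subgroup G) // n ≠ 1} => ((t.1 : (T : Subgroup G)) : G)) hx
          have hxc : (x : G) ∈ Subgroup.centralizer ({(a.1 : G)} : Set G) :=
            Subgroup.mem_centralizer_singleton_iff.2 (mul_inv_eq_iff_eq_mul.1 e)
          have h2 : orderOf x ∣ 2 := orderOf_dvd_of_pow_eq_one (Subtype.ext ((hC _ ha2).2 _ hxc))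
          have hodd : ¬ 2 ∣ orderOf x := fun h => by
            have h2 := h.trans (orderOf_dvd_natCard x)
            rw [hHc, Nat.prime_two.dvd_mul] at h2
            omega
          exact orderOf_eq_one_iff.1 (((Nat.dvd_prime Nat.prime_two).1 h2).resolve_right fun e2 => hodd e2.symm.dvd)
      have hd2 := H64.semireg_dvd hfree
      have hsub : Nat.card {n : (T : Subgroup G) // n ≠ 1} = q - 1 := by
        have := Nat.card_congr (Equiv.optionSubtypeNe (1 : (T : Subgroup G)))
        rw [Finite.card_option, hTc] at this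
        omega
      rw [hHc, hsub] at hd2
      have h3 : (q + 1) * (q - 1) ≤ 1 * (q - 1) := by rw [one_mul]; exact Nat.le_of_dvd (by omega) hd2
      have := Nat.le_of_mul_le_mul_right h3 (by omega)
      omega
    obtain ⟨K, _, _, hK, ⟨e⟩⟩ := Cfsg.Agent.S1230.result T hnc hnn hC
    rw [hTc] at hK
    exact ⟨e.trans (H39.pslCongr (FiniteField.ringEquivOfCardEq hK))⟩
  · -- odd case
    have hodd : q % 2 = 1 := Nat.odd_iff.1 (hqn ▸ (hprime.odd_of_ne_two hp2).pow)
    have hd : Nat.gcd 2 (q - 1) = 2 := Nat.gcd_eq_left (by omega)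
    rw [hd] at hG hsp
    have hlike : H64.LikePSL2 G p q := by
      refine ⟨hprime, hp2, by rw [hG, mul_comm (q + 1)], ⟨n, n.pos, hqn⟩, by omega, fun g => ?_, ?_, ?_⟩
      · have : orderOf g ∈ Set.range (orderOf : G → ℕ) := ⟨g, rfl⟩
        rw [hsp] at this
        exact this
      · have : (q - 1) / 2 ∈ Set.range (orderOf : G → ℕ) := by rw [hsp]; exact .inr (.inl dvd_rfl)
        exact this
      · have : (q + 1) / 2 ∈ Set.range (orderOf : G → ℕ) := by rw [hsp]; exact .inr (.inr dvd_rfl)
        exact this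
    obtain ⟨K, _, _, hK2, ⟨e⟩⟩ := hlike.exists_psl
    have hKG := H39.card_PSL2_mul (F := K)
    rw [← Nat.card_congr e.toEquiv, Nat.gcd_eq_left (by
      have := FiniteField.odd_card_of_char_ne_two hK2
      omega), hG, show Fintype.card K ^ 2 - 1 = (Fintype.card K + 1) * (Fintype.card K - 1) from Nat.sq_sub_sq _ 1] at hKG
    have hKq : Fintype.card K = q := by
      rcases lt_trichotomy (Fintype.card K) q with h | h | h
      · exfalso
        exact absurd hKG (Nat.mul_lt_mul_of_lt_of_le h (Nat.mul_le_mul (by omega) (by omega))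
          (Nat.mul_pos (by omega) (by omega))).ne'
      · exact h
      · exfalso
        exact absurd hKG (Nat.mul_lt_mul_of_lt_of_le h (Nat.mul_le_mul (by omega) (by omega))
          (Nat.mul_pos (by omega) (by omega))).ne
    exact ⟨e.trans (H39.pslCongr (FiniteField.ringEquivOfCardEq hKq))⟩

end Cfsg.Agent.S3421
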