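import Cfsg.Statements.S3427
import Cfsg.Agent.H4.G2OrderChev

set_option autoImplicit false
open Cfsg

namespace Cfsg.Agent.S3427

/-- Let F be the field with 2 elements and let M be the Chevalley group of type G₂ over F (a non-simple group of order 12096 whose derived subgroup, of index 2, is isomorphic to PSU(3, 3)). A finite group G is isomorphic to M if and only if G has the same set of element orders and the same order as M. -/
theorem result {G : Type*} [Group G] [Finite G] {F : Type*} [Field F] [Fintype F] (hF : Fintype.card F = 2) :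
    Nonempty (G ≃* ↥(Cfsg.Lie.chevG2.group F)) ↔
      (Set.range (orderOf : G → ℕ) = Set.range (orderOf : ↥(Cfsg.Lie.chevG2.group F) → ℕ) ∧ Nat.card G = Nat.card ↥(Cfsg.Lie.chevG2.group F)) := by
  classical
  have hM := H4.G2Order.hyp_chevG2 hF
  constructor
  · rintro ⟨e⟩
    refine ⟨Set.ext fun n => ⟨?_, ?_⟩, Nat.card_congr e.toEquiv⟩
    · rintro ⟨g, rfl⟩
      exact ⟨e g, e.orderOf_eq g⟩
    · rintro ⟨g, rfl⟩
      exact ⟨e.symm g, e.symm.orderOf_eq g⟩
  · rintro ⟨hspec, hcard⟩
    have hno : ∀ n, (∀ m : ↥(Cfsg.Lie.chevG2.group F), orderOf m ≠ n) → ∀ g : G, orderOf g ≠ n := by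
      intro n hn g hg
      obtain ⟨m, hm⟩ : n ∈ Set.range (orderOf : ↥(Cfsg.Lie.chevG2.group F) → ℕ) :=
        hspec ▸ ⟨g, hg⟩
      exact hn m hm
    obtain ⟨e⟩ := (H4.G2Order.Hyp.shape ⟨hcard.trans hM.card, hno 9 hM.no9, hno 14 hM.no14,
      hno 21 hM.no21⟩ : H4.G2Order.Shape G).nonempty_equiv
    obtain ⟨e'⟩ := hM.shape.nonempty_equiv
    exact ⟨e.trans e'.symm⟩

end Cfsg.Agent.S3427
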