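import Cfsg.Statements.S3430
import Cfsg.Agent.H60.LargePPD

set_option autoImplicit false
open Cfsg

namespace Cfsg.Agent.S3430

/-- Let q, n ≥ 2 be integers. Unless (n = 2 and q + 1 = 2^s·3^t for some s ≥ 0 and t ≤ 1), or (q = 2 and n ∈ {4, 6, 10, 12, 18}), or (q = 3 and n ∈ {4, 6}), or (q, n) = (5, 6), there is a prime p dividing q^n − 1 but no q^i − 1 with 1 ≤ i < n (a primitive prime divisor), such that p > n + 1 or p² divides q^n − 1. -/
theorem result (q n : ℕ) (hq : 2 ≤ q) (hn : 2 ≤ n)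
    (h1 : ¬ (n = 2 ∧ ∃ s t : ℕ, t ≤ 1 ∧ q + 1 = 2 ^ s * 3 ^ t))
    (h2 : ¬ (q = 2 ∧ (n = 4 ∨ n = 6 ∨ n = 10 ∨ n = 12 ∨ n = 18)))
    (h3 : ¬ (q = 3 ∧ (n = 4 ∨ n = 6))) (h4 : ¬ (q = 5 ∧ n = 6)) :
    ∃ p : ℕ, p.Prime ∧ p ∣ q ^ n - 1 ∧ (∀ i : ℕ, 1 ≤ i → i < n → ¬ p ∣ q ^ i - 1) ∧ (n + 1 < p ∨ p ^ 2 ∣ q ^ n - 1) := by
  rcases Nat.lt_or_ge n 3 with hn3 | hn3
  swap
  · exact H60.LargePPD.exists_large hq hn3 h2 h3 h4
  obtain rfl : n = 2 := by omega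
  have hfac : q ^ 2 - 1 = (q - 1) * (q + 1) := by
    obtain ⟨c, rfl⟩ : ∃ c, q = c + 2 := ⟨q - 2, by omega⟩
    rw [show c + 2 - 1 = c + 1 by omega]
    ring_nf
    omega
  have hlow : ∀ p : ℕ, p.Prime → p ≠ 2 → p ∣ q + 1 → ∀ i : ℕ, 1 ≤ i → i < 2 → ¬ p ∣ q ^ i - 1 := by
    intro p hp hp2 hpd i hi1 hi2 hdi
    obtain rfl : i = 1 := by omega
    rw [pow_one] at hdi
    have h : p ∣ 2 := by
      have := Nat.dvd_sub hpd hdi
      rwa [show q + 1 - (q - 1) = 2 by omega] at this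
    exact hp2 ((Nat.prime_dvd_prime_iff_eq hp Nat.prime_two).1 h)
  by_cases hbig : ∃ p : ℕ, p.Prime ∧ p ∣ q + 1 ∧ 3 < p
  · obtain ⟨p, hp, hpd, hp3⟩ := hbig
    exact ⟨p, hp, hfac ▸ dvd_mul_of_dvd_right hpd _, hlow p hp (by omega) hpd, Or.inl (by omega)⟩
  push Not at hbig
  by_cases h9 : 9 ∣ q + 1
  · exact ⟨3, Nat.prime_three, hfac ▸ dvd_mul_of_dvd_right ((by norm_num : 3 ∣ 9).trans h9) _,
      hlow 3 Nat.prime_three (by norm_num) ((by norm_num : 3 ∣ 9).trans h9),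
      Or.inr (hfac ▸ dvd_mul_of_dvd_right h9 _)⟩
  exfalso
  apply h1
  refine ⟨rfl, (q + 1).factorization 2, (q + 1).factorization 3, ?_, ?_⟩
  · by_contra hc
    apply h9
    exact (pow_dvd_pow 3 (show 2 ≤ (q + 1).factorization 3 by omega)).trans (Nat.ordProj_dvd _ _)
  · refine Nat.eq_of_factorization_eq (by omega) (by positivity) fun p => ?_
    rw [Nat.factorization_mul (by positivity) (by positivity), Nat.Prime.factorization_pow Nat.prime_two,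
      Nat.Prime.factorization_pow Nat.prime_three, Finsupp.add_apply]
    by_cases h2p : p = 2
    · subst h2p; simp
    by_cases h3p : p = 3
    · subst h3p; simp
    rw [Finsupp.single_eq_of_ne h2p, Finsupp.single_eq_of_ne h3p, zero_add, Nat.factorization_eq_zero_iff]
    by_cases hp : p.Prime
    · refine Or.inr (Or.inl fun hd => ?_)
      have h := hbig p hp hd
      have := hp.two_le
      omega
    · exact Or.inl hp

end Cfsg.Agent.S3430
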