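import Cfsg.Statements.S3433
import Cfsg.Agent.H63.SmallExp.Classify
import Cfsg.Agent.S1475

set_option autoImplicit false
open Cfsg

namespace Cfsg.Agent.S3433

/-- A finite group whose set of element orders is exactly {1, 2, 3, 4, 5} is isomorphic to the alternating group of degree 6, or has a normal elementary abelian 2-subgroup with quotient isomorphic to the alternating group of degree 5. -/
theorem result {G : Type*} [Group G] [Finite G] (h : Set.range (orderOf : G → ℕ) = {k : ℕ | 1 ≤ k ∧ k ≤ 5}) :
    Nonempty (G ≃* ↥(alternatingGroup (Fin 6))) ∨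
      ∃ (N : Subgroup G) (_ : N.Normal), Cfsg.IsElementaryAbelian 2 N ∧ Nonempty (G ⧸ N ≃* ↥(alternatingGroup (Fin 5))) := by
  classical
  have hyp : H63.SmallExp.Hyp G := fun g => by
    have hg : orderOf g ∈ Set.range (orderOf : G → ℕ) := ⟨g, rfl⟩
    rw [h] at hg
    exact hg.2
  refine H63.SmallExp.classify hyp fun hs => ?_
  haveI := hs
  have h1 := Cfsg.Agent.S1475.result (G := G) fun g => H63.SmallExp.eppo hyp g
  have hp : ∀ p : ℕ, 1 ≤ p ∧ p ≤ 5 → p.Prime → p ∈ (Nat.card G).primeFactors := fun p hp hpp => by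
    have hmem : p ∈ Set.range (orderOf : G → ℕ) := by rw [h]; exact hp
    obtain ⟨g, hg⟩ := hmem
    exact Nat.mem_primeFactors.2 ⟨hpp, hg ▸ orderOf_dvd_natCard g, Nat.card_pos.ne'⟩
  have hsub : ({2, 3, 5} : Finset ℕ) ⊆ (Nat.card G).primeFactors := by
    intro p hmem
    simp only [Finset.mem_insert, Finset.mem_singleton] at hmem
    rcases hmem with rfl | rfl | rfl <;> exact hp _ (by norm_num) (by norm_num)
  have h3 := Finset.card_le_card hsub
  rw [show ({2, 3, 5} : Finset ℕ).card = 3 from rfl] at h3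
  omega

end Cfsg.Agent.S3433
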