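import Cfsg.Statements.S3493
import Cfsg.Agent.H60.Socle
import Cfsg.Agent.H60.Extreme
import Cfsg.Agent.H60.MaxCent
import Cfsg.Agent.H61.PrimBasic

set_option autoImplicit false
open Cfsg

namespace Cfsg.Agent.S3493

/-- An automorphism of a power of a non-abelian simple group maps each factor into some factor. -/
theorem exists_factor {S : Type*} [Group S] [Finite S] [IsSimpleGroup S] (hS : ¬ ∀ a b : S, a * b = b * a)
    {m : ℕ} (φ : (Fin m → S) ≃* (Fin m → S)) (i : Fin m) :
    ∃ j, (∀ s, ∀ k, k ≠ j → φ (Pi.mulSingle i s) k = 1) ∧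
      (∀ r, ∃ s, φ (Pi.mulSingle i s) = Pi.mulSingle j r) := by
  classical
  obtain ⟨t, ht⟩ := exists_ne (1 : S)
  obtain ⟨j, hj⟩ : ∃ j, φ (Pi.mulSingle i t) j ≠ 1 := by
    by_contra h
    push Not at h
    have h1 : φ (Pi.mulSingle i t) = 1 := funext h
    rw [MulEquiv.map_eq_one_iff, Pi.mulSingle_eq_one_iff] at h1
    exact ht h1
  let A : Subgroup S :=
    { carrier := {s | ∀ k, k ≠ j → φ (Pi.mulSingle i s) k = 1}
      one_mem' := fun k _ => by simp
      mul_mem' := fun {a b} ha hb k hk => by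
        rw [Pi.mulSingle_mul, map_mul, Pi.mul_apply, ha k hk, hb k hk, one_mul]
      inv_mem' := fun {a} ha k hk => by rw [Pi.mulSingle_inv, map_inv, Pi.inv_apply, ha k hk, inv_one] }
  have hAn : A.Normal := ⟨fun s hs r k hk => by
    rw [Pi.mulSingle_mul, Pi.mulSingle_mul, map_mul, map_mul, Pi.mul_apply, Pi.mul_apply, hs k hk, mul_one,
      ← Pi.mul_apply, ← map_mul, ← Pi.mulSingle_mul, mul_inv_cancel, Pi.mulSingle_one, map_one, Pi.one_apply]⟩
  rcases hAn.eq_bot_or_eq_top with h | h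
  · exfalso
    rcases (inferInstance : (Subgroup.center S).Normal).eq_bot_or_eq_top with hc | hc
    · refine hj (Subgroup.mem_bot.mp (hc ▸ Subgroup.mem_center_iff.mpr fun r => ?_))
      obtain ⟨b, hb⟩ : ∃ b, φ.symm (Pi.mulSingle j r) i = b := ⟨_, rfl⟩
      have h1 : Pi.mulSingle i (t * b * t⁻¹ * b⁻¹) =
          Pi.mulSingle i t * φ.symm (Pi.mulSingle j r) * (Pi.mulSingle i t)⁻¹ * (φ.symm (Pi.mulSingle j r))⁻¹ := by
        funext k
        rcases eq_or_ne k i with rfl | hk
        · simp [hb]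
        · simp [hk]
      have h2 : t * b * t⁻¹ * b⁻¹ ∈ A := fun k hk => by
        rw [h1]; simp [hk]
      rw [h, Subgroup.mem_bot] at h2
      have h3 := congrArg (fun f => φ f j) h1
      rw [h2] at h3
      simp only [Pi.mulSingle_one, map_one, map_mul, map_inv, Pi.mul_apply, Pi.inv_apply, Pi.one_apply,
        φ.apply_symm_apply, Pi.mulSingle_eq_same] at h3
      rw [eq_comm, mul_inv_eq_one, mul_inv_eq_iff_eq_mul] at h3
      exact h3.symm
    · exact hS fun a b => (Subgroup.mem_center_iff.mp (hc ▸ Subgroup.mem_top a) b).symm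
  · have hsup : ∀ s, ∀ k, k ≠ j → φ (Pi.mulSingle i s) k = 1 := fun s => (h ▸ Subgroup.mem_top s : s ∈ A)
    have hval : ∀ s, φ (Pi.mulSingle i s) = Pi.mulSingle j (φ (Pi.mulSingle i s) j) := fun s => by
      funext k
      rcases eq_or_ne k j with rfl | hk
      · simp
      · rw [Pi.mulSingle_eq_of_ne hk, hsup s k hk]
    have hinj : Function.Injective fun s => φ (Pi.mulSingle i s) j := fun a b hab =>
      Pi.mulSingle_injective (M := fun _ : Fin m => S) i (φ.injective (by rw [hval a, hval b]; exact congrArg _ hab))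
    refine ⟨j, hsup, fun r => ?_⟩
    obtain ⟨s, hs⟩ := Finite.surjective_of_injective hinj r
    exact ⟨s, by rw [hval s]; exact congrArg _ hs⟩

open MulAction in
theorem nonaffine_false {G : Type*} [Group G] [Finite G] {Ω : Type*} [Fintype Ω] [MulAction G Ω]
    [FaithfulSMul G Ω] [IsPreprimitive G Ω] (a : Ω) (hH : ∀ a : Ω, stabilizer G a ≠ ⊥)
    (hep : ∀ (α : Ω) (ω : Ω), IsPreprimitive (stabilizer G α) (orbit (stabilizer G α) ω))
    (hnas : ¬ ∃ T : Subgroup G, T.Normal ∧ IsSimpleGroup T ∧ ¬ IsMulCommutative T ∧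
      Subgroup.centralizer (T : Set G) = ⊥)
    {N : Subgroup G} [hNn : N.Normal] (hNne : N ≠ ⊥)
    (hmin : ∀ M : Subgroup G, M.Normal → M ≤ N → M = ⊥ ∨ M = N)
    [IsPretransitive N Ω] {S : Type} [Group S] [Finite S] [IsSimpleGroup S] {m : ℕ} (hm : 1 ≤ m)
    (hS : ¬ ∀ a b : S, a * b = b * a) (e : N ≃* (Fin m → S))
    (hcase : (∀ n ∈ N, ∀ ω : Ω, n • ω = ω → n = 1) ∨ (Subgroup.centralizer (N : Set G) = ⊥ ∧ 2 ≤ m)) :
    False := by
  classical
  set H := stabilizer G a with hHdef
  -- action of `H` on coordinates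
  let φ : G → (Fin m → S) ≃* (Fin m → S) := fun g => (e.symm.trans (MulAut.conjNormal g : MulAut N)).trans e
  have hφ : ∀ g f, φ g f = e ((MulAut.conjNormal g : MulAut N) (e.symm f)) := fun g f => rfl
  have hφmul : ∀ g h f, φ (g * h) f = φ g (φ h f) := fun g h f => by simp [hφ]
  have hφone : ∀ f, φ 1 f = f := fun f => by simp [hφ]
  have hpt : ∀ (g : G) (f : Fin m → S) (x : Ω), g • e.symm f • x = e.symm (φ g f) • g • x := fun g f x => by
    rw [hφ, e.symm_apply_apply]
    show g • ((e.symm f : N) : G) • x = (((MulAut.conjNormal g : MulAut N) (e.symm f) : N) : G) • g • x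
    rw [MulAut.conjNormal_apply, ← mul_smul, ← mul_smul, inv_mul_cancel_right]
  have hHa : ∀ h : H, (h : G) • a = a := fun h => h.2
  have hcoatom : ∀ b : Ω, b ≠ a → IsCoatom (stabilizer H b) := by
    intro b hb
    haveI := hep a b
    haveI : Nontrivial (orbit H b) := by
      by_contra hn
      rw [not_nontrivial_iff_subsingleton] at hn
      refine hH a (H61.stabilizer_eq_bot_of_le inferInstance hb.symm fun g hg => ?_)
      exact congrArg Subtype.val
        (@Subsingleton.elim _ hn ⟨(⟨g, hg⟩ : H) • b, mem_orbit b _⟩ ⟨b, mem_orbit_self b⟩)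
    have h := IsPreprimitive.isCoatom_stabilizer_of_isPreprimitive H (⟨b, mem_orbit_self b⟩ : orbit H b)
    have he : stabilizer H (⟨b, mem_orbit_self b⟩ : orbit H b) = stabilizer H b := by
      ext g
      simp only [mem_stabilizer_iff, Subtype.ext_iff]
      rfl
    rwa [he] at h
  -- invariant normal parts of `N`
  have hinv : ∀ L : Subgroup (Fin m → S), L.Normal → (∀ h : H, ∀ f ∈ L, φ h f ∈ L) → L = ⊥ ∨ L = ⊤ := by
    intro L hL hLH
    let M : Subgroup G := (L.comap e.toMonoidHom).map N.subtype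
    have hMn : M.Normal := by
      refine ⟨?_⟩
      rintro _ ⟨n, hn, rfl⟩ g
      obtain ⟨k, hk⟩ := exists_smul_eq N a (g • a)
      change (k : G) • a = g • a at hk
      have hh : ((k : G)⁻¹ * g) ∈ H := by
        show ((k : G)⁻¹ * g) • a = a
        rw [mul_smul, ← hk, inv_smul_smul]
      refine ⟨k * (MulAut.conjNormal ((k : G)⁻¹ * g) : MulAut N) n * k⁻¹, ?_, ?_⟩
      · show e _ ∈ L
        rw [map_mul, map_mul, map_inv]
        refine hL.conj_mem _ ?_ _
        have := hLH ⟨_, hh⟩ (e n) hn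
        rwa [hφ, e.symm_apply_apply] at this
      · show ((k : N) : G) * ((MulAut.conjNormal ((k : G)⁻¹ * g) : MulAut N) n : G) * ((k : N) : G)⁻¹ = g * (n : G) * g⁻¹
        rw [MulAut.conjNormal_apply]
        group
    rcases hmin M hMn (Subgroup.map_subtype_le _) with h | h
    · left
      have h2 := (Subgroup.map_eq_bot_iff_of_injective _ N.subtype_injective).mp h
      rw [eq_bot_iff]
      intro f hf
      have : e.symm f ∈ L.comap e.toMonoidHom := by simpa using hf
      rw [h2, Subgroup.mem_bot, MulEquiv.map_eq_one_iff] at this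
      exact this
    · right
      rw [eq_top_iff]
      intro f _
      obtain ⟨n, hn, hne⟩ := (h.symm ▸ (e.symm f).2 : ((e.symm f : N) : G) ∈ M)
      rw [Subtype.ext hne] at hn
      simpa using hn
  let supp : Set (Fin m) → Subgroup (Fin m → S) := fun A =>
    { carrier := {f | ∀ k, k ∉ A → f k = 1}
      one_mem' := fun k _ => rfl
      mul_mem' := fun {f g} hf hg k hk => by rw [Pi.mul_apply, hf k hk, hg k hk, one_mul]
      inv_mem' := fun {f} hf k hk => by rw [Pi.inv_apply, hf k hk, inv_one] }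
  have hsuppn : ∀ A, (supp A).Normal := fun A => ⟨fun f hf g k hk => by simp [hf k hk]⟩
  have hsingle : ∀ (k : Fin m) f, f ∈ supp {k} → f = Pi.mulSingle k (f k) := fun k f hf => by
    funext l
    rcases eq_or_ne l k with rfl | hl
    · simp
    · rw [Pi.mulSingle_eq_of_ne hl, hf l (by simpa using hl)]
  obtain ⟨t0, ht0⟩ := exists_ne (1 : S)
  have hne1 : ∀ (k : Fin m) (s : S), s ≠ 1 → ((e.symm (Pi.mulSingle k s) : N) : G) ≠ 1 := by
    intro k s hs h
    have h1 : e.symm (Pi.mulSingle k s) = 1 := Subtype.ext h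
    rw [MulEquiv.map_eq_one_iff, Pi.mulSingle_eq_one_iff] at h1
    exact hs h1
  -- the final appeal to the lemma on maximal centralisers
  have finish : ∀ (i : Fin m), Function.Bijective (fun s : S => e.symm (Pi.mulSingle i s) • a) →
      (∀ h : H, ∃ ψ : S → S, (∀ s, (h : G) • e.symm (Pi.mulSingle i s) • a = e.symm (Pi.mulSingle i (ψ s)) • a) ∧
        ((∀ x y, ψ (x * y) = ψ x * ψ y) ∨ ∀ x y, ψ (x * y) = ψ y * ψ x)) →
      (∀ c : S, ∃ h : H, ∀ s, (h : G) • e.symm (Pi.mulSingle i s) • a =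
        e.symm (Pi.mulSingle i (c * s * c⁻¹)) • a) → False := by
    intro i hbij haut hinn
    let E : S ≃ Ω := Equiv.ofBijective _ hbij
    let ρ : H →* Equiv.Perm S := E.symm.permCongrHom.toMonoidHom.comp (toPermHom H Ω)
    have hρ : ∀ (h : H) x y, (h : G) • E x = E y → ρ h x = y := fun h x y hxy => by
      show E.symm ((h : G) • E.symm.symm x) = y
      rw [Equiv.symm_symm, hxy, Equiv.symm_apply_apply]
    refine H60.no_maximal_centralizers hS ρ (fun h => ?_) (fun c => ?_) fun x hx => ?_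
    · obtain ⟨ψ, hψ, hψ2⟩ := haut h
      have heq : ∀ s, ρ h s = ψ s := fun s => hρ h s (ψ s) (hψ s)
      simpa only [heq] using hψ2
    · obtain ⟨h, hh⟩ := hinn c
      exact ⟨h, fun s => hρ h s _ (hh s)⟩
    · have he : H60.fixer ρ x = stabilizer H (E x) := by
        ext h
        rw [H60.mem_fixer, mem_stabilizer_iff]
        constructor
        · intro hh
          have := congrArg E hh
          simpa [ρ] using this
        · intro hh
          exact hρ h x x hh
      rw [he]
      refine hcoatom _ fun h1 => hx (hbij.1 ?_)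
      show E x = e.symm (Pi.mulSingle i 1) • a
      rw [h1, Pi.mulSingle_one, map_one, one_smul]
  rcases Nat.lt_or_ge m 2 with hm1 | hm2
  · -- `N` simple and regular
    obtain rfl : m = 1 := by omega
    have hreg := hcase.resolve_right fun h => by omega
    have hall : ∀ f : Fin 1 → S, f = Pi.mulSingle 0 (f 0) := fun f => funext fun k => by
      obtain rfl := Subsingleton.elim k 0; simp
    refine finish 0 ⟨fun s s' hss => ?_, fun ω => ?_⟩ (fun h => ?_) fun c => ?_
    · have hfix : ((e.symm (Pi.mulSingle 0 s) : N)⁻¹ * e.symm (Pi.mulSingle 0 s')) • a = a := by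
        rw [mul_smul]; exact inv_smul_eq_iff.mpr hss.symm
      have h1 : (e.symm (Pi.mulSingle 0 s) : N)⁻¹ * e.symm (Pi.mulSingle 0 s') = 1 :=
        Subtype.ext (hreg _ (SetLike.coe_mem _) a hfix)
      rw [inv_mul_eq_one] at h1
      exact Pi.mulSingle_injective (M := fun _ : Fin 1 => S) 0 (e.symm.injective h1)
    · obtain ⟨n, hn⟩ := exists_smul_eq N a ω
      exact ⟨e n 0, by show e.symm (Pi.mulSingle 0 (e n 0)) • a = ω; rw [← hall, e.symm_apply_apply, hn]⟩
    · refine ⟨fun s => φ h (Pi.mulSingle 0 s) 0, fun s => ?_, Or.inl fun x y => ?_⟩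
      · rw [hpt, hHa, ← hall]
      · show φ h _ _ = φ h _ _ * φ h _ _
        rw [Pi.mulSingle_mul, map_mul, Pi.mul_apply]
    · haveI : Nontrivial N := (Subgroup.nontrivial_iff_ne_bot N).mpr hNne
      let e1 : N ≃* S := e.trans { toEquiv := Equiv.funUnique (Fin 1) S, map_mul' := fun _ _ => rfl }
      haveI := IsSimpleGroup.isSimpleGroup_of_surjective e1.symm.toMonoidHom e1.symm.surjective
      have hC : Subgroup.centralizer (N : Set G) ≠ ⊥ := fun hC => hnas ⟨N, hNn, inferInstance, fun hc =>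
        hS fun x y => e1.symm.injective (by rw [map_mul, map_mul]; exact hc.is_comm.comm _ _), hC⟩
      haveI : (Subgroup.centralizer (N : Set G)).Normal := Subgroup.normal_centralizer
      haveI := H60.normal_transitive (X := Ω) inferInstance hC
      set x : N := e.symm (Pi.mulSingle 0 c) with hxdef
      obtain ⟨⟨d, hd⟩, hda⟩ := exists_smul_eq (Subgroup.centralizer (N : Set G)) a (x • a)
      change d • a = (x : G) • a at hda
      refine ⟨⟨d⁻¹ * x, by show (d⁻¹ * (x : G)) • a = a; rw [mul_smul, ← hda, inv_smul_smul]⟩, fun s => ?_⟩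
      have hh : (d⁻¹ * (x : G)) • a = a := by rw [mul_smul, ← hda, inv_smul_smul]
      show (d⁻¹ * (x : G)) • e.symm (Pi.mulSingle 0 s) • a = _
      rw [Pi.mulSingle_mul, Pi.mulSingle_mul, Pi.mulSingle_inv, map_mul, map_mul, map_inv, ← hxdef]
      show (d⁻¹ * (x : G)) • ((e.symm (Pi.mulSingle 0 s) : N) : G) • a = _
      set y : N := e.symm (Pi.mulSingle 0 s)
      have hcomm := Subgroup.mem_centralizer_iff.mp (inv_mem hd) ((x * y * x⁻¹ : N) : G) (SetLike.coe_mem _)
      push_cast at hcomm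
      calc (d⁻¹ * (x : G)) • (y : G) • a = ((d⁻¹ * x) * y * (d⁻¹ * x)⁻¹) • (d⁻¹ * (x : G)) • a := by
            rw [← mul_smul, ← mul_smul]; congr 1; group
        _ = ((x : G) * y * (x : G)⁻¹) • a := by
            rw [hh]; congr 1
            calc d⁻¹ * (x : G) * y * (d⁻¹ * x)⁻¹ = d⁻¹ * ((x : G) * y * (x : G)⁻¹) * d := by group
              _ = (x : G) * y * (x : G)⁻¹ := by rw [← hcomm, inv_mul_cancel_right]
        _ = _ := rfl
  -- every factor is moved by `H`
  have hmove : ∀ i : Fin m, ∃ h : H, ∃ j, j ≠ i ∧ (∀ s k, k ≠ j → φ h (Pi.mulSingle i s) k = 1) := by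
    intro i
    by_contra hcon
    push Not at hcon
    have hall : ∀ h : H, ∀ s k, k ≠ i → φ h (Pi.mulSingle i s) k = 1 := fun h s k hk => by
      obtain ⟨j, hj, -⟩ := exists_factor hS (φ h) i
      rcases eq_or_ne j i with rfl | hji
      · exact hj s k hk
      · obtain ⟨s', k', hk', hne⟩ := hcon h j hji
        exact absurd (hj s' k' hk') hne
    rcases hinv (supp {i}) (hsuppn _) (fun h f hf k hk => by
      rw [hsingle i f hf]; exact hall h _ k (by simpa using hk)) with h | h
    · have : Pi.mulSingle i t0 ∈ supp {i} := fun k hk => Pi.mulSingle_eq_of_ne (by simpa using hk) _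
      rw [h, Subgroup.mem_bot, Pi.mulSingle_eq_one_iff] at this
      exact ht0 this
    · obtain ⟨j, hj⟩ : ∃ j : Fin m, j ≠ i := by
        haveI : Nontrivial (Fin m) := Fin.nontrivial_iff_two_le.mpr hm2
        exact exists_ne i
      have := (h.symm ▸ Subgroup.mem_top (Pi.mulSingle j t0 : Fin m → S) : (Pi.mulSingle j t0 : Fin m → S) ∈ supp {i}) j (by simpa using hj)
      rw [Pi.mulSingle_eq_same] at this
      exact ht0 this
  let i0 : Fin m := ⟨0, hm⟩
  by_cases hreg : ∀ n ∈ N, ∀ ω : Ω, n • ω = ω → n = 1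
  · -- regular: the conjugates of an element of one factor generate an abelian invariant subgroup
    let n0 : N := e.symm (Pi.mulSingle i0 t0)
    have hn0 : (n0 : G) • a ≠ a := fun h => hne1 i0 t0 ht0 (hreg _ n0.2 a h)
    let K : Subgroup H :=
      { carrier := {h | ∀ f ∈ supp {i0}, φ h f ∈ supp {i0} ∧ φ (h⁻¹ : H) f ∈ supp {i0}}
        one_mem' := fun f hf => by simp [hφone, hf]
        mul_mem' := fun {g h} hg hh f hf => by
          constructor
          · rw [Subgroup.coe_mul, hφmul]; exact (hg _ (hh f hf).1).1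
          · rw [mul_inv_rev, Subgroup.coe_mul, hφmul]; exact (hh _ (hg f hf).2).2
        inv_mem' := fun {h} hh f hf => ⟨(hh f hf).2, by rw [inv_inv]; exact (hh f hf).1⟩ }
    have hmemK : ∀ (h : H) (r : S), φ h (Pi.mulSingle i0 t0) = Pi.mulSingle i0 r → h ∈ K := by
      intro h r hr f hf
      obtain ⟨j, hj, hjs⟩ := exists_factor hS (φ h) i0
      obtain rfl : j = i0 := by
        by_contra hne
        have := hj t0 i0 (Ne.symm hne)
        rw [hr, Pi.mulSingle_eq_same] at this
        rw [this, Pi.mulSingle_one, MulEquiv.map_eq_one_iff, Pi.mulSingle_eq_one_iff] at hr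
        exact ht0 hr
      refine ⟨?_, ?_⟩
      · rw [hsingle _ f hf]; intro k hk; exact hj _ k (by simpa using hk)
      · obtain ⟨s, hs⟩ := hjs (f i0)
        rw [hsingle _ f hf, ← hs, ← hφmul, ← Subgroup.coe_mul, inv_mul_cancel, Subgroup.coe_one, hφone]
        intro k hk
        exact Pi.mulSingle_eq_of_ne (by simpa using hk) _
    have hstab : ∀ h : H, h ∈ stabilizer H ((n0 : G) • a) ↔ φ h (Pi.mulSingle i0 t0) = Pi.mulSingle i0 t0 := by
      intro h
      rw [mem_stabilizer_iff]
      show (h : G) • e.symm (Pi.mulSingle i0 t0) • a = e.symm (Pi.mulSingle i0 t0) • a ↔ _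
      rw [hpt, hHa]
      constructor
      · intro hh
        have h1 := hreg _ (N.mul_mem (N.inv_mem n0.2) (e.symm (φ h (Pi.mulSingle i0 t0))).2) a
          (by rw [mul_smul]; exact inv_smul_eq_iff.mpr hh)
        exact e.symm.injective (Subtype.ext (inv_mul_eq_one.mp h1).symm)
      · intro hh; rw [hh]
    have hKfix : ∀ h : H, h ∈ K → φ h (Pi.mulSingle i0 t0) = Pi.mulSingle i0 t0 := by
      have hle : stabilizer H ((n0 : G) • a) ≤ K := fun h hh => hmemK h t0 ((hstab h).mp hh)
      rcases eq_or_lt_of_le hle with heq | hlt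
      · exact fun h hh => (hstab h).mp (heq ▸ hh)
      · exfalso
        obtain ⟨h, j, hj, hjs⟩ := hmove i0
        have := ((hcoatom _ hn0).2 K hlt ▸ Subgroup.mem_top h : h ∈ K) (Pi.mulSingle i0 t0)
          (fun k hk => Pi.mulSingle_eq_of_ne (by simpa using hk) _)
        have h1 : φ h (Pi.mulSingle i0 t0) = 1 := funext fun k => by
          rcases eq_or_ne k j with rfl | hk
          · exact this.1 _ (by simpa using hj)
          · exact hjs t0 k hk
        rw [MulEquiv.map_eq_one_iff, Pi.mulSingle_eq_one_iff] at h1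
        exact ht0 h1
    let X : Set (Fin m → S) := Set.range fun h : H => φ h (Pi.mulSingle i0 t0)
    have hXc : ∀ x ∈ X, ∀ y ∈ X, x * y = y * x := by
      rintro _ ⟨g, rfl⟩ _ ⟨h, rfl⟩
      show φ g _ * φ h _ = φ h _ * φ g _
      obtain ⟨j, hj, hjs⟩ := exists_factor hS (φ g) i0
      obtain ⟨j', hj', -⟩ := exists_factor hS (φ h) i0
      rcases eq_or_ne j j' with rfl | hne
      · obtain ⟨s, hs⟩ := hjs (φ h (Pi.mulSingle i0 t0) j)
        have h1 : φ g (Pi.mulSingle i0 s) = φ h (Pi.mulSingle i0 t0) := by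
          rw [hs]
          exact (hsingle j _ fun k hk => hj' t0 k (by simpa using hk)).symm
        have h2 : φ (g⁻¹ * h : H) (Pi.mulSingle i0 t0) = Pi.mulSingle i0 s := by
          rw [Subgroup.coe_mul, hφmul, ← h1, ← hφmul, ← Subgroup.coe_mul, inv_mul_cancel, Subgroup.coe_one, hφone]
        have h3 := hKfix _ (hmemK _ s h2)
        rw [h2] at h3
        rw [h3] at h1
        rw [h1]
      · funext k
        rcases eq_or_ne k j with rfl | hk
        · rw [Pi.mul_apply, Pi.mul_apply, hj' t0 k hne, mul_one, one_mul]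
        · rw [Pi.mul_apply, Pi.mul_apply, hj t0 k hk, mul_one, one_mul]
    let A : Subgroup (Fin m → S) := Subgroup.closure X
    have hAinv : ∀ h : H, ∀ f ∈ A, φ h f ∈ A := by
      intro h f hf
      induction hf using Subgroup.closure_induction with
      | mem x hx =>
        obtain ⟨g, rfl⟩ := hx
        exact Subgroup.subset_closure ⟨h * g, by
          show φ (h * g : H) _ = φ h (φ g _)
          rw [Subgroup.coe_mul, hφmul]⟩
      | one => rw [map_one]; exact one_mem _
      | mul x y _ _ hx hy => rw [map_mul]; exact mul_mem hx hy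
      | inv x _ hx => rw [map_inv]; exact inv_mem hx
    let P : Set Ω := (fun f : Fin m → S => e.symm f • a) '' (A : Set (Fin m → S))
    let U : Subgroup G :=
      { carrier := {g | ∀ x, g • x ∈ P ↔ x ∈ P}
        one_mem' := fun x => by rw [one_smul]
        mul_mem' := fun {g h} hg hh x => by rw [mul_smul]; exact (hg _).trans (hh x)
        inv_mem' := fun {g} hg x => by
          have := hg (g⁻¹ • x)
          rw [smul_inv_smul] at this
          exact this.symm }
    have hHU : H ≤ U := by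
      have hfwd : ∀ h : H, ∀ x ∈ P, (h : G) • x ∈ P := by
        rintro h _ ⟨f, hf, rfl⟩
        exact ⟨φ h f, hAinv h f hf, by show _ = (h : G) • e.symm f • a; rw [hpt, hHa]⟩
      intro g hg x
      refine ⟨fun hx => ?_, hfwd ⟨g, hg⟩ x⟩
      have := hfwd ⟨g, hg⟩⁻¹ _ hx
      rwa [Subgroup.coe_inv, inv_smul_smul] at this
    have hn0A : Pi.mulSingle i0 t0 ∈ A := Subgroup.subset_closure ⟨1, hφone _⟩
    have hn0U : (n0 : G) ∈ U := by
      have hfwd : ∀ f ∈ A, ∀ x ∈ P, e.symm f • x ∈ P := by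
        rintro f hf _ ⟨f', hf', rfl⟩
        exact ⟨f * f', A.mul_mem hf hf', by show e.symm (f * f') • a = e.symm f • e.symm f' • a; rw [map_mul, mul_smul]⟩
      intro x
      refine ⟨fun hx => ?_, hfwd _ hn0A x⟩
      have := hfwd _ (A.inv_mem hn0A) _ hx
      rw [map_inv] at this
      change ((n0 : G))⁻¹ • (n0 : G) • x ∈ P at this
      rwa [inv_smul_smul] at this
    haveI : Nontrivial Ω := ⟨⟨_, _, hn0⟩⟩
    have hUtop : U = ⊤ := (IsPreprimitive.isCoatom_stabilizer_of_isPreprimitive G a).2 U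
      (lt_of_le_of_ne hHU fun h => hn0 (show (n0 : G) ∈ H from h.ge hn0U))
    have hAtop : ∀ f, f ∈ A := by
      intro f
      obtain ⟨f', hf', hfa⟩ := ((hUtop ▸ Subgroup.mem_top _ : ((e.symm f : N) : G) ∈ U) a).mpr
        ⟨1, A.one_mem, by show e.symm 1 • a = a; rw [map_one, one_smul]⟩
      have h1 := hreg _ (SetLike.coe_mem ((e.symm f')⁻¹ * e.symm f : N)) a (by
        show ((e.symm f')⁻¹ * e.symm f : N) • a = a
        rw [mul_smul]; exact inv_smul_eq_iff.mpr hfa.symm)
      have h2 : (e.symm f')⁻¹ * e.symm f = 1 := Subtype.ext h1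
      rw [inv_mul_eq_one] at h2
      exact e.symm.injective h2 ▸ hf'
    apply hS
    intro x y
    haveI hcomm := Subgroup.isMulCommutative_closure hXc
    have := congrArg Subtype.val (hcomm.is_comm.comm (⟨Pi.mulSingle i0 x, hAtop _⟩ : A) ⟨Pi.mulSingle i0 y, hAtop _⟩)
    simpa using congrFun this i0
  -- diagonal type
  push Not at hreg
  obtain ⟨u0, hu0, ω0, hω0, hu01⟩ := hreg
  have hmv : ∀ c : Ω, c ≠ a → ∃ k ∈ N ⊓ H, k • c ≠ c := by
    intro c hc
    by_contra hall
    push Not at hall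
    obtain ⟨⟨g, hg⟩, hga⟩ := exists_smul_eq N a ω0
    change g • a = ω0 at hga
    have hmem : g⁻¹ * u0 * g ∈ N ⊓ H := ⟨N.mul_mem (N.mul_mem (N.inv_mem hg) hu0) hg, by
      show (g⁻¹ * u0 * g) • a = a
      rw [mul_smul, mul_smul, hga, hω0, inv_smul_eq_iff, hga]⟩
    have h1 : g⁻¹ * u0 * g = 1 := by
      refine H60.extreme_faithful hH hep hc _ hmem.2 ?_
      rintro _ ⟨⟨h, hh⟩, rfl⟩
      show (g⁻¹ * u0 * g) • h • c = h • c
      have := hall (h⁻¹ * (g⁻¹ * u0 * g) * h) ⟨by simpa using hNn.conj_mem _ hmem.1 h⁻¹,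
        H.mul_mem (H.mul_mem (H.inv_mem hh) hmem.2) hh⟩
      rwa [mul_smul, mul_smul, inv_smul_eq_iff] at this
    apply hu01
    calc u0 = g * (g⁻¹ * u0 * g) * g⁻¹ := by group
      _ = 1 := by rw [h1]; group
  have hsubor : ∀ (h : H) (c : Ω), c ≠ a → ∃ u : N, u • a = a ∧ u • c = (h : G) • c := by
    intro h c hc
    obtain ⟨k, hk, hkc⟩ := H60.transitive_of_moves hep (K := N ⊓ H) inf_le_right
      (fun g hg k hk => ⟨hNn.conj_mem k hk.1 g, H.mul_mem (H.mul_mem hg hk.2) (H.inv_mem hg)⟩)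
      (hmv c hc) ((h : G) • c) ⟨h, rfl⟩
    exact ⟨⟨k, hk.1⟩, hk.2, hkc⟩
  -- the stabiliser projects onto each factor
  have hR : ∀ (i : Fin m) (r : S), ∃ u : N, u • a = a ∧ e u i = r := by
    intro i r
    by_cases hfx : e.symm (Pi.mulSingle i r) • a = a
    · exact ⟨_, hfx, by simp⟩
    obtain ⟨h, j, hji, hj⟩ := hmove i
    obtain ⟨u, hu, huc⟩ := hsubor h _ hfx
    rw [hpt, hHa] at huc
    have hw : ((e.symm (Pi.mulSingle i r))⁻¹ * u⁻¹ * e.symm (φ h (Pi.mulSingle i r))) • a = a := by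
      rw [mul_smul, mul_smul, ← huc, inv_smul_smul, inv_smul_smul]
    refine ⟨((e.symm (Pi.mulSingle i r))⁻¹ * u⁻¹ * e.symm (φ h (Pi.mulSingle i r)) * u)⁻¹,
      inv_smul_eq_iff.mpr ?_, ?_⟩
    · rw [mul_smul, hu, hw]
    · simp [hj r i (Ne.symm hji), mul_assoc]
  haveI : Nonempty Ω := ⟨a⟩
  have hT : ∀ (i : Fin m) (s : S), e.symm (Pi.mulSingle i s) • a = a → s = 1 := by
    intro i s hs
    by_contra h
    rcases H60.derangement_coord (Ω := Ω) e i with ⟨x, -, hx⟩ | ⟨hd, -⟩
    · obtain ⟨u, hu, hui⟩ := hR i x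
      exact hx u hui a hu
    · exact hd s h a hs
  -- elements of the stabiliser supported on two factors
  have hD : ∀ (h : H) (i j : Fin m), j ≠ i → (∀ s k, k ≠ j → φ h (Pi.mulSingle i s) k = 1) →
      ∀ s, ∃ w : N, w • a = a ∧ e w i = s ∧ e w ∈ supp {i, j} := by
    intro h i j hji hj
    let Dg : Subgroup S := ((stabilizer N a).map e.toMonoidHom ⊓ supp {i, j}).map (Pi.evalMonoidHom (fun _ => S) i)
    have hDn : Dg.Normal := by
      refine ⟨?_⟩
      rintro _ ⟨_, ⟨⟨w, hw, rfl⟩, hws⟩, rfl⟩ r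
      obtain ⟨u, hu, hui⟩ := hR i r
      refine ⟨e (u * w * u⁻¹), ⟨⟨u * w * u⁻¹, mem_stabilizer_iff.mpr ?_, rfl⟩, ?_⟩, ?_⟩
      · rw [mul_smul, mul_smul, inv_smul_eq_iff.mpr hu.symm, mem_stabilizer_iff.mp hw, hu]
      · rw [map_mul, map_mul, map_inv]
        exact (hsuppn _).conj_mem _ hws _
      · simp [hui]
    have hcne : e.symm (Pi.mulSingle i t0) • a ≠ a := fun h => ht0 (hT i t0 h)
    obtain ⟨u, hu, huc⟩ := hsubor h _ hcne
    rw [hpt, hHa] at huc
    let w : N := u * (e.symm (Pi.mulSingle i t0))⁻¹ * u⁻¹ * e.symm (φ h (Pi.mulSingle i t0))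
    have hw : w • a = a := by
      simp only [w, mul_smul, ← huc, inv_smul_smul, hu]
    have hwi : e w i = e u i * t0⁻¹ * (e u i)⁻¹ := by
      simp [w, hj t0 i (Ne.symm hji)]
    have hws : e w ∈ supp {i, j} := by
      intro k hk
      simp only [Set.mem_insert_iff, Set.mem_singleton_iff, not_or] at hk
      simp [w, hj t0 k hk.2, hk.1]
    rcases hDn.eq_bot_or_eq_top with hb | ht
    · exfalso
      have : e w i ∈ Dg := ⟨e w, ⟨⟨w, hw, rfl⟩, hws⟩, rfl⟩
      rw [hb, Subgroup.mem_bot, hwi] at this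
      exact ht0 (by simpa using this)
    · intro s
      obtain ⟨_, ⟨⟨w, hw, rfl⟩, hws⟩, hwi⟩ := (ht ▸ Subgroup.mem_top s : s ∈ Dg)
      exact ⟨w, hw, hwi, hws⟩
  obtain ⟨h0, j0, hj0, hh0⟩ := hmove i0
  have htwo : ∀ (h : H) (k : Fin m), (∀ s l, l ≠ k → φ h (Pi.mulSingle i0 s) l = 1) → k = i0 ∨ k = j0 := by
    intro h k hk
    by_contra hcon
    push Not at hcon
    apply hS
    intro x y
    obtain ⟨w, hw, hwi, hws⟩ := hD h0 i0 j0 hj0 hh0 x
    obtain ⟨w', hw', hwi', hws'⟩ := hD h i0 k hcon.1 hk y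
    have hc : e.symm (Pi.mulSingle i0 (x * y * x⁻¹ * y⁻¹)) = w * w' * w⁻¹ * w'⁻¹ := by
      apply e.injective
      rw [e.apply_symm_apply]
      funext l
      rcases eq_or_ne l i0 with rfl | hl
      · simp [hwi, hwi']
      · rcases eq_or_ne l j0 with rfl | hl'
        · simp [hl, hws' l (by simp [hl, Ne.symm hcon.2])]
        · simp [hl, hws l (by simp [hl, hl'])]
    have h1 := hT i0 (x * y * x⁻¹ * y⁻¹) (by
      rw [hc, mul_smul, mul_smul, mul_smul, inv_smul_eq_iff.mpr hw'.symm, inv_smul_eq_iff.mpr hw.symm, hw', hw])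
    rwa [mul_inv_eq_one, mul_inv_eq_iff_eq_mul] at h1
  have hsurj0 : ∀ r, ∃ s, φ h0 (Pi.mulSingle i0 s) = Pi.mulSingle j0 r := by
    obtain ⟨j, hj, hjs⟩ := exists_factor hS (φ h0) i0
    obtain rfl : j = j0 := by
      by_contra hne
      have h1 : φ h0 (Pi.mulSingle i0 t0) = 1 := funext fun k => by
        rcases eq_or_ne k j with rfl | hk
        · exact hh0 t0 k hne
        · exact hj t0 k hk
      rw [MulEquiv.map_eq_one_iff, Pi.mulSingle_eq_one_iff] at h1
      exact ht0 h1
    exact hjs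
  have hcov : ∀ k : Fin m, k = i0 ∨ k = j0 := by
    have hmap : ∀ (h : H) (s : S) (l : Fin m), l = i0 ∨ l = j0 → φ h (Pi.mulSingle l s) ∈ supp {i0, j0} := by
      have h0case : ∀ (h : H) (s : S), φ h (Pi.mulSingle i0 s) ∈ supp {i0, j0} := by
        intro h s k hk
        obtain ⟨j, hj, -⟩ := exists_factor hS (φ h) i0
        refine hj s k fun e => hk ?_
        rw [e]
        rcases htwo h j hj with hh | hh <;> simp [hh]
      intro h s l hl
      rcases hl with rfl | rfl
      · exact h0case h s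
      · obtain ⟨s', hs'⟩ := hsurj0 s
        rw [← hs', ← hφmul, ← Subgroup.coe_mul]
        exact h0case _ s'
    rcases hinv (supp {i0, j0}) (hsuppn _) (fun h f hf => by
      have : f = Pi.mulSingle i0 (f i0) * Pi.mulSingle j0 (f j0) := by
        funext k
        rcases eq_or_ne k i0 with rfl | hk
        · simp [Ne.symm hj0]
        · rcases eq_or_ne k j0 with rfl | hk'
          · simp [hj0]
          · simp [hk, hk', hf k (by simp [hk, hk'])]
      rw [this, map_mul]
      exact mul_mem (hmap h _ _ (Or.inl rfl)) (hmap h _ _ (Or.inr rfl))) with hb | ht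
    · exfalso
      have : Pi.mulSingle i0 t0 ∈ supp {i0, j0} := fun k hk => Pi.mulSingle_eq_of_ne (fun e => hk (by simp [e])) _
      rw [hb, Subgroup.mem_bot, Pi.mulSingle_eq_one_iff] at this
      exact ht0 this
    · intro k
      by_contra hk
      have := (ht ▸ Subgroup.mem_top (Pi.mulSingle k t0 : Fin m → S) : (Pi.mulSingle k t0 : Fin m → S) ∈ supp {i0, j0}) k (by simpa using hk)
      rw [Pi.mulSingle_eq_same] at this
      exact ht0 this
  choose θ hθa hθj using hR j0
  have hsplit : ∀ u : N, u = e.symm (Pi.mulSingle i0 (e u i0)) * e.symm (Pi.mulSingle j0 (e u j0)) := by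
    intro u
    apply e.injective
    rw [map_mul, e.apply_symm_apply, e.apply_symm_apply]
    funext k
    rcases hcov k with rfl | rfl
    · simp [Ne.symm hj0]
    · simp [hj0]
  have hanti : ∀ (u : N) (y : S), u • a = a → e u j0 = y →
      e.symm (Pi.mulSingle j0 y) • a = e.symm (Pi.mulSingle i0 (e u i0)⁻¹) • a := by
    intro u y hu huy
    have h1 : e.symm (Pi.mulSingle j0 y) = e.symm (Pi.mulSingle i0 (e u i0)⁻¹) * u := by
      conv_rhs => arg 2; rw [hsplit u, huy]
      rw [Pi.mulSingle_inv, map_inv, inv_mul_cancel_left]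
    rw [h1, mul_smul, hu]
  have hinj0 : Function.Injective fun s : S => e.symm (Pi.mulSingle i0 s) • a := by
    intro s s' hss
    have : e.symm (Pi.mulSingle i0 (s⁻¹ * s')) • a = a := by
      rw [Pi.mulSingle_mul, Pi.mulSingle_inv, map_mul, map_inv, mul_smul]
      exact inv_smul_eq_iff.mpr hss.symm
    exact inv_mul_eq_one.mp (hT i0 _ this)
  refine finish i0 ⟨hinj0, fun ω => ?_⟩ (fun h => ?_) fun c => ?_
  · obtain ⟨n, hn⟩ := exists_smul_eq N a ω
    refine ⟨e (n * θ (e n j0)⁻¹) i0, ?_⟩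
    have h1 : n * θ (e n j0)⁻¹ = e.symm (Pi.mulSingle i0 (e (n * θ (e n j0)⁻¹) i0)) := by
      conv_lhs => rw [hsplit (n * θ (e n j0)⁻¹)]
      rw [show e (n * θ (e n j0)⁻¹) j0 = 1 by simp [hθj], Pi.mulSingle_one, map_one, mul_one]
    show e.symm (Pi.mulSingle i0 (e (n * θ (e n j0)⁻¹) i0)) • a = ω
    rw [← h1, mul_smul, hθa, hn]
  · obtain ⟨j, hj, -⟩ := exists_factor hS (φ h) i0
    have hval : ∀ s, φ h (Pi.mulSingle i0 s) = Pi.mulSingle j (φ h (Pi.mulSingle i0 s) j) := fun s =>
      hsingle j _ fun k hk => hj s k (by simpa using hk)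
    rcases htwo h j hj with rfl | rfl
    · refine ⟨fun s => φ h (Pi.mulSingle i0 s) i0, fun s => ?_, Or.inl fun x y => ?_⟩
      · rw [hpt, hHa, ← hval]
      · show φ h _ _ = φ h _ _ * φ h _ _
        rw [Pi.mulSingle_mul, map_mul, Pi.mul_apply]
    · refine ⟨fun s => (e (θ (φ h (Pi.mulSingle i0 s) j)) i0)⁻¹, fun s => ?_, Or.inr fun x y => ?_⟩
      · rw [hpt, hHa, hval s]
        simp only [Pi.mulSingle_eq_same]
        exact hanti _ _ (hθa _) (hθj _)
      · apply hinj0
        show e.symm (Pi.mulSingle i0 _) • a = e.symm (Pi.mulSingle i0 _) • a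
        rw [← mul_inv_rev, ← Pi.mul_apply, ← map_mul,
          ← hanti _ _ (hθa _) (hθj _), ← hanti (θ _ * θ _) (φ h (Pi.mulSingle i0 (x * y)) j) ?_ ?_]
        · rw [mul_smul, hθa, hθa]
        · rw [map_mul, Pi.mul_apply, hθj, hθj, ← Pi.mul_apply, ← map_mul, ← Pi.mulSingle_mul]
  · obtain ⟨u, hu, hui⟩ := hR i0 c
    refine ⟨⟨u, hu⟩, fun s => ?_⟩
    show u • e.symm (Pi.mulSingle i0 s) • a = _
    have h1 : u * e.symm (Pi.mulSingle i0 s) = e.symm (Pi.mulSingle i0 (c * s * c⁻¹)) * u := by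
      apply e.injective
      rw [map_mul, map_mul, e.apply_symm_apply, e.apply_symm_apply]
      funext k
      rcases eq_or_ne k i0 with rfl | hk
      · simp [hui]
      · simp [hk]
    rw [← mul_smul, h1, mul_smul, hu]

/-- An extremely primitive permutation group is of affine type or almost simple. Let a finite group G act faithfully and primitively on a finite set Ω with at least two points, in such a way that every point stabilizer acts primitively on each of its own orbits in Ω (an orbit of size one counts as primitive). Then either G has a non-trivial abelian normal subgroup whose elements other than the identity fix no point (affine type), or G has a non-abelian simple normal subgroup with trivial centralizer (almost simple). -/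
theorem result {G : Type*} [Group G] [Finite G] {Ω : Type*} [Fintype Ω] [MulAction G Ω] [FaithfulSMul G Ω] (hΩ : 2 ≤ Fintype.card Ω) (hprim : MulAction.IsPreprimitive G Ω) (hep : ∀ (α : Ω) (ω : Ω), MulAction.IsPreprimitive (MulAction.stabilizer G α) (MulAction.orbit (MulAction.stabilizer G α) ω)) :
    (∃ N : Subgroup G, N.Normal ∧ N ≠ ⊥ ∧ IsMulCommutative N ∧ ∀ ω : Ω, MulAction.stabilizer N ω = ⊥) ∨ (∃ T : Subgroup G, T.Normal ∧ IsSimpleGroup T ∧ ¬ IsMulCommutative T ∧ Subgroup.centralizer (T : Set G) = ⊥) := by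
  classical
  haveI := hprim
  haveI : Nontrivial Ω := Fintype.one_lt_card_iff_nontrivial.mp hΩ
  obtain ⟨a, -⟩ := exists_pair_ne Ω
  by_cases hnas : ∃ T : Subgroup G, T.Normal ∧ IsSimpleGroup T ∧ ¬ IsMulCommutative T ∧
      Subgroup.centralizer (T : Set G) = ⊥
  · exact Or.inr hnas
  left
  by_cases hH : ∀ b : Ω, MulAction.stabilizer G b ≠ ⊥
  · rcases H60.socle_cases (Ω := Ω) hnas with ⟨N, hNn, hNne, -, hab, htr, hreg⟩ |
        ⟨N, hNn, hNne, hmin, htr, S, _, _, m, hm, hS, ⟨e⟩, hcase⟩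
    · exact ⟨N, hNn, hNne, ⟨⟨fun a b => Subtype.ext (hab a a.2 b b.2)⟩⟩,
        fun ω => eq_bot_iff.mpr fun n hn => Subgroup.mem_bot.mpr (Subtype.ext (hreg n n.2 ω hn))⟩
    · exfalso
      haveI := htr
      haveI := hNn
      haveI : Finite (Fin m → S) := Finite.of_equiv N e.toEquiv
      haveI : Finite S := Finite.of_injective _ (Pi.mulSingle_injective (M := fun _ : Fin m => S) ⟨0, hm⟩)
      exact nonaffine_false a hH hep hnas hNne hmin hm hS e hcase
  · push Not at hH
    obtain ⟨b, hb⟩ := hH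
    have hco : IsCoatom (⊥ : Subgroup G) := hb ▸ MulAction.IsPreprimitive.isCoatom_stabilizer_of_isPreprimitive G b
    haveI : Fact (Nat.card G).Prime := ⟨H61.card_prime_of_isCoatom_bot hco⟩
    haveI := isCyclic_of_prime_card (rfl : Nat.card G = Nat.card G)
    have hab : ∀ x y : G, x * y = y * x := fun x y => by
      obtain ⟨g, hg⟩ := IsCyclic.exists_generator (α := G)
      obtain ⟨i, rfl⟩ := Subgroup.mem_zpowers_iff.mp (hg x)
      obtain ⟨j, rfl⟩ := Subgroup.mem_zpowers_iff.mp (hg y)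
      exact zpow_mul_comm g i j
    refine ⟨⊤, inferInstance, fun h => hco.1 h.symm, ⟨⟨fun x y => Subtype.ext (hab x y)⟩⟩,
      fun ω => eq_bot_iff.mpr fun n hn => Subgroup.mem_bot.mpr (Subtype.ext ?_)⟩
    exact H60.regular_of_abelian_normal (X := Ω) inferInstance (fun h => hco.1 h.symm)
      (fun x _ y _ => hab x y) n.2 hn

end Cfsg.Agent.S3493
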