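import Cfsg.Statements.S3495
import Cfsg.Agent.H60.Basic

set_option autoImplicit false
open Cfsg

namespace Cfsg.Agent.S3495

/-- Let a finite group G act faithfully and primitively on a finite set Ω with non-trivial point stabilizers, each acting primitively on every one of its orbits (an extremely primitive group), and suppose G has an elementary abelian normal p-subgroup N acting regularly on Ω (affine type). Then every non-trivial subgroup M of a point stabilizer G_α that is normal in G_α has the same orbits on Ω as G_α, and normalizes no subgroup of N other than 1 and N. -/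
theorem result {G : Type*} [Group G] [Finite G] {Ω : Type*} [Fintype Ω] [MulAction G Ω] [FaithfulSMul G Ω] (hprim : MulAction.IsPreprimitive G Ω) (hH : ∀ α : Ω, MulAction.stabilizer G α ≠ ⊥) (hep : ∀ (α : Ω) (ω : Ω), MulAction.IsPreprimitive (MulAction.stabilizer G α) (MulAction.orbit (MulAction.stabilizer G α) ω))
    (N : Subgroup G) [N.Normal] (hNc : IsMulCommutative N) (p : ℕ) (hp : p.Prime) (hNp : ∀ n ∈ N, n ^ p = 1)
    (hNtr : MulAction.IsPretransitive N Ω) (hNreg : ∀ ω : Ω, MulAction.stabilizer N ω = ⊥) (α : Ω) (M : Subgroup G) (hM : M ≠ ⊥) (hMle : M ≤ MulAction.stabilizer G α)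
    (hMn : MulAction.stabilizer G α ≤ Subgroup.normalizer (M : Set G)) :
    (∀ ω : Ω, MulAction.orbit M ω = MulAction.orbit (MulAction.stabilizer G α) ω) ∧
    (∀ L : Subgroup G, L ≤ N → M ≤ Subgroup.normalizer (L : Set G) → L = ⊥ ∨ L = N) := by
  haveI := hprim
  haveI := hNtr
  haveI := hNc
  set H := MulAction.stabilizer G α with hHdef
  -- translations
  have hN : ∀ ω : Ω, ∀ n ∈ N, n • ω = ω → n = 1 := fun ω n hn h => by
    have : (⟨n, hn⟩ : N) ∈ MulAction.stabilizer N ω := h
    rw [hNreg ω, Subgroup.mem_bot] at this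
    exact congrArg Subtype.val this
  have hdec : ∀ g : G, ∃ n ∈ N, ∃ h ∈ H, g = n * h := by
    intro g
    obtain ⟨n, hn⟩ := MulAction.exists_smul_eq N α (g • α)
    refine ⟨n, n.2, (n : G)⁻¹ * g, ?_, by group⟩
    rw [hHdef, MulAction.mem_stabilizer_iff, mul_smul, ← hn]
    exact inv_smul_smul (n : G) α
  have hcomm : ∀ a ∈ N, ∀ b ∈ N, a * b = b * a := fun a ha b hb =>
    congrArg Subtype.val (mul_comm' (⟨a, ha⟩ : N) ⟨b, hb⟩)
  -- an `H`-invariant subgroup of `N` is normal, hence trivial or everything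
  have hirr : ∀ L : Subgroup G, L ≤ N → (∀ h ∈ H, ∀ l ∈ L, h * l * h⁻¹ ∈ L) → L = ⊥ ∨ L = N := by
    intro L hLN hL
    have hLn : L.Normal := ⟨fun l hl g => by
      obtain ⟨n, hn, h, hh, rfl⟩ := hdec g
      have : n * h * l * (n * h)⁻¹ = h * l * h⁻¹ := by
        calc _ = n * (h * l * h⁻¹) * n⁻¹ := by group
          _ = _ := by rw [hcomm n hn _ (hLN (hL h hh l hl))]; group
      rw [this]; exact hL h hh l hl⟩
    by_cases hb : MulAction.fixedPoints L Ω = Set.univ
    · left
      refine le_bot_iff.mp fun l hl => Subgroup.mem_bot.mpr (hN α l (hLN hl) ?_)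
      have : α ∈ MulAction.fixedPoints L Ω := hb ▸ Set.mem_univ α
      exact this ⟨l, hl⟩
    · right
      haveI : MulAction.IsPretransitive L Ω := MulAction.IsQuasiPreprimitive.isPretransitive_of_normal (G := G) hb
      refine le_antisymm hLN fun n hn => ?_
      obtain ⟨l, hl⟩ := MulAction.exists_smul_eq L α (n • α)
      have h2 : ((l : G)⁻¹ * n) • α = α := by
        rw [mul_smul, ← hl]; exact inv_smul_smul (l : G) α
      have := hN α _ (mul_mem (inv_mem (hLN l.2)) hn) h2
      rw [inv_mul_eq_one] at this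
      exact this ▸ l.2
  have hconjM : ∀ h ∈ H, ∀ m ∈ M, h⁻¹ * m * h ∈ M := fun h hh m hm => by
    have := (Subgroup.mem_normalizer_iff.mp (hMn (inv_mem hh)) m).mp hm
    simpa using this
  -- `M` fixes only `α`
  let C : Subgroup G := N ⊓ Subgroup.centralizer (M : Set G)
  have hC : C = ⊥ := by
    rcases hirr C inf_le_left (fun h hh c hc => ⟨(inferInstance : N.Normal).conj_mem c hc.1 h,
      Subgroup.mem_centralizer_iff.mpr fun m hm => by
        have hcm := Subgroup.mem_centralizer_iff.mp hc.2 _ (hconjM h hh m hm)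
        calc m * (h * c * h⁻¹) = h * (h⁻¹ * m * h * c) * h⁻¹ := by group
          _ = h * (c * (h⁻¹ * m * h)) * h⁻¹ := by rw [hcm]
          _ = h * c * h⁻¹ * m := by group⟩) with h | h
    · exact h
    · exfalso
      refine hM (le_bot_iff.mp fun m hm => Subgroup.mem_bot.mpr (H60.eq_one_of_forall_smul_eq (Ω := Ω) fun ω => ?_))
      obtain ⟨n, rfl⟩ := MulAction.exists_smul_eq N α ω
      have hn : (n : G) ∈ C := h.symm ▸ n.2
      show m • (n : G) • α = (n : G) • α
      rw [← mul_smul, Subgroup.mem_centralizer_iff.mp hn.2 m hm, mul_smul,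
        MulAction.mem_stabilizer_iff.mp (hMle hm)]
  have hfixM : ∀ ω : Ω, (∀ m ∈ M, m • ω = ω) → ω = α := by
    intro ω hω
    obtain ⟨n, rfl⟩ := MulAction.exists_smul_eq N α ω
    have hnC : (n : G) ∈ C := ⟨n.2, Subgroup.mem_centralizer_iff.mpr fun m hm => by
      have hmem : (n : G)⁻¹ * (m * n * m⁻¹) ∈ N :=
        mul_mem (inv_mem n.2) ((inferInstance : N.Normal).conj_mem _ n.2 m)
      have hfix : ((n : G)⁻¹ * (m * n * m⁻¹)) • α = α := by
        simp only [mul_smul]
        rw [MulAction.mem_stabilizer_iff.mp (inv_mem (hMle hm))]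
        have := hω m hm
        rw [Subgroup.smul_def] at this
        rw [this, inv_smul_smul]
      have := hN α _ hmem hfix
      rw [inv_mul_eq_one] at this
      calc m * n = m * n * m⁻¹ * m := by group
        _ = n * m := by rw [← this]⟩
    rw [hC, Subgroup.mem_bot] at hnC
    show (n : G) • α = α
    rw [hnC, one_smul]
  have horb : ∀ ω : Ω, MulAction.orbit M ω = MulAction.orbit H ω := by
    intro ω
    refine Set.Subset.antisymm (fun x ⟨m, hm⟩ => ⟨⟨m, hMle m.2⟩, hm⟩) ?_
    by_cases hω : ω = α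
    · rintro x ⟨h, rfl⟩
      refine ⟨1, ?_⟩
      show (1 : M) • ω = (h : G) • ω
      rw [one_smul, hω, MulAction.mem_stabilizer_iff.mp h.2]
    haveI := hep α ω
    let MH : Subgroup H := M.subgroupOf H
    haveI : MH.Normal := ⟨fun m hm h => by
      have := (Subgroup.mem_normalizer_iff.mp (hMn h.2) (m : G)).mp hm
      exact this⟩
    have hne : MulAction.fixedPoints MH (MulAction.orbit H ω) ≠ Set.univ := by
      intro hall
      refine hω (hfixM ω fun m hm => ?_)
      have : (⟨ω, MulAction.mem_orbit_self ω⟩ : MulAction.orbit H ω) ∈ MulAction.fixedPoints MH (MulAction.orbit H ω) :=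
        hall ▸ Set.mem_univ _
      exact congrArg Subtype.val (this ⟨⟨m, hMle hm⟩, hm⟩)
    haveI : MulAction.IsPretransitive MH (MulAction.orbit H ω) :=
      MulAction.IsQuasiPreprimitive.isPretransitive_of_normal (G := H) hne
    intro x hx
    obtain ⟨m, hm⟩ := MulAction.exists_smul_eq MH
      (⟨ω, MulAction.mem_orbit_self ω⟩ : MulAction.orbit H ω) ⟨x, hx⟩
    exact ⟨⟨((m : H) : G), m.2⟩, congrArg Subtype.val hm⟩
  refine ⟨horb, fun L hLN hML => hirr L hLN ?_⟩
  intro h hh l hl
  -- `L • α` is a union of `M`-orbits, hence `H`-invariant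
  have hmemO : h • l • α ∈ MulAction.orbit M (l • α) := (horb (l • α)).symm ▸ ⟨⟨h, hh⟩, rfl⟩
  obtain ⟨m, hm⟩ := hmemO
  have hm' : (m : G) • l • α = h • l • α := hm
  have e1 : ∀ g ∈ H, (g * l * g⁻¹) • α = g • l • α := fun g hg => by
    rw [mul_smul, mul_smul, MulAction.mem_stabilizer_iff.mp (inv_mem hg)]
  have hmL : (m : G) * l * (m : G)⁻¹ ∈ L := (Subgroup.mem_normalizer_iff.mp (hML m.2) l).mp hl
  have := hN α _ (mul_mem (inv_mem (hLN hmL)) ((inferInstance : N.Normal).conj_mem _ (hLN hl) h))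
    (by rw [mul_smul, e1 h hh, ← hm', ← e1 _ (hMle m.2), inv_smul_smul])
  rw [inv_mul_eq_one] at this
  exact this ▸ hmL

end Cfsg.Agent.S3495
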