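import Cfsg.Statements.S3496
import Cfsg.Agent.S3495
import Cfsg.Agent.H60.Extreme
import Cfsg.Agent.H60.PrimFit
import Cfsg.Agent.H60.Irred

set_option autoImplicit false
open Cfsg

namespace Cfsg.Agent.S3496

open scoped IsMulCommutative

/-- Conjugation on a normal abelian subgroup as endomorphisms over `ZMod p`. -/
def conjEnd {G : Type*} [Group G] (N : Subgroup G) [N.Normal] [IsMulCommutative N] (p : ℕ)
    [Module (ZMod p) (Additive N)] : G →* Module.End (ZMod p) (Additive N) where
  toFun h := AddMonoidHom.toZModLinearMap p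
    (MonoidHom.toAdditive (MulAut.conjNormal h : MulAut N).toMonoidHom)
  map_one' := by
    refine LinearMap.ext fun x => ?_
    show Additive.ofMul ((MulAut.conjNormal (1 : G) : MulAut N) x.toMul) = x
    rw [map_one]; rfl
  map_mul' g h := by
    refine LinearMap.ext fun x => ?_
    show Additive.ofMul ((MulAut.conjNormal (g * h) : MulAut N) x.toMul) =
      Additive.ofMul ((MulAut.conjNormal g : MulAut N) ((MulAut.conjNormal h : MulAut N) x.toMul))
    rw [map_mul]; rfl

theorem coe_conjEnd {G : Type*} [Group G] (N : Subgroup G) [N.Normal] [IsMulCommutative N] (p : ℕ)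
    [Module (ZMod p) (Additive N)] (h : G) (x : Additive N) :
    (((conjEnd N p h x : Additive N).toMul : N) : G) = h * ((x.toMul : N) : G) * h⁻¹ :=
  MulAut.conjNormal_apply h x.toMul

theorem fitting_ne_bot {K : Type*} [Group K] [Finite K] [Group.IsSolvable K] [Nontrivial K] :
    Cfsg.fittingSubgroup K ≠ ⊥ := by
  intro h
  have hc := H1.centralizer_fitting_le_of_isSolvable (G := K) inferInstance
  rw [h] at hc
  have : (⊤ : Subgroup K) ≤ ⊥ := fun x _ => hc (Subgroup.mem_centralizer_iff.mpr fun y hy => by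
    rw [Subgroup.mem_bot.mp hy, one_mul, mul_one])
  exact top_ne_bot (le_bot_iff.mp this)


/-- The soluble extremely primitive groups. Let a finite solvable group G act faithfully and primitively on a finite set Ω with p ^ d points (p prime), with non-trivial point stabilizers each acting primitively on every one of its orbits. Then there is a prime q such that every orbit of a point stabilizer G_α other than {α} has exactly q points, q divides p ^ d − 1 but no p ^ i − 1 with 0 < i < d, and G_α has a normal subgroup T of order q with G_α generated by T and one further element and the order of G_α dividing q·d (so G_α is cyclic of order q, or an extension of T by a cyclic group of order dividing d). -/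
theorem result {G : Type*} [Group G] [Finite G] {Ω : Type*} [Fintype Ω] [MulAction G Ω] [FaithfulSMul G Ω] [Group.IsSolvable G] (p d : ℕ) (hp : p.Prime) (hcard : Fintype.card Ω = p ^ d)
    (hprim : MulAction.IsPreprimitive G Ω) (hH : ∀ α : Ω, MulAction.stabilizer G α ≠ ⊥) (hep : ∀ (α : Ω) (ω : Ω), MulAction.IsPreprimitive (MulAction.stabilizer G α) (MulAction.orbit (MulAction.stabilizer G α) ω)) (α : Ω) :
    ∃ q : ℕ, q.Prime ∧ (∀ ω : Ω, ω ≠ α → Nat.card (MulAction.orbit (MulAction.stabilizer G α) ω) = q) ∧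
      q ∣ p ^ d - 1 ∧ (∀ i : ℕ, 0 < i → i < d → ¬ q ∣ p ^ i - 1) ∧
      ∃ T : Subgroup G, T ≤ MulAction.stabilizer G α ∧ MulAction.stabilizer G α ≤ Subgroup.normalizer (T : Set G) ∧ Nat.card T = q ∧
        (∃ h : G, MulAction.stabilizer G α = T ⊔ Subgroup.zpowers h) ∧ Nat.card (MulAction.stabilizer G α) ∣ q * d := by
  classical
  haveI := hprim
  haveI hpf : Fact p.Prime := ⟨hp⟩
  set H := MulAction.stabilizer G α with hHdef
  obtain ⟨w, hw⟩ : ∃ w : Ω, w ≠ α := by
    by_contra hcon
    push Not at hcon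
    exact hH α (eq_bot_iff.mpr fun g _ => Subgroup.mem_bot.mpr
      (H60.eq_one_of_forall_smul_eq fun a : Ω => (hcon _).trans (hcon a).symm))
  haveI : Nonempty Ω := ⟨α⟩
  haveI : Nontrivial G := by
    by_contra h
    rw [not_nontrivial_iff_subsingleton] at h
    exact hH α (Subsingleton.elim _ _)
  -- the regular normal subgroup
  set N := Cfsg.fittingSubgroup G with hNdef
  haveI hNn : N.Normal := H1.fittingSubgroup_normal G
  have hNne : N ≠ ⊥ := fitting_ne_bot
  obtain ⟨hNab, hNcent, p', d', hp', hcardN, hexp, hX⟩ := H60.fitting_of_primitive (X := Ω) hNne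
  rw [Nat.card_eq_fintype_card, hcard] at hX
  have hd0 : d ≠ 0 := by
    rintro rfl
    rw [pow_zero] at hcard
    exact hw (Fintype.card_le_one_iff.mp hcard.le w α)
  have hpp : p = p' := by
    have h1 : p ∣ p' ^ d' := hX ▸ dvd_pow_self p hd0
    exact (Nat.prime_dvd_prime_iff_eq hp hp').mp (hp.dvd_of_dvd_pow h1)
  subst hpp
  have hdd : d' = d := Nat.pow_right_injective hp.two_le hX.symm
  subst hdd
  haveI hNcomm : IsMulCommutative N := IsMulCommutative.of_comm fun a b => Subtype.ext (hNab a a.2 b b.2)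
  have hNtr : MulAction.IsPretransitive N Ω := H60.normal_transitive hNn hNne
  have hNreg : ∀ ω : Ω, MulAction.stabilizer N ω = ⊥ := fun ω => eq_bot_iff.mpr fun n hn =>
    Subgroup.mem_bot.mpr (Subtype.ext (H60.regular_of_abelian_normal (X := Ω) hNn hNne hNab n.2 hn))
  haveI : Module (ZMod p) (Additive N) := AddCommGroup.zmodModule fun x => Additive.toMul.injective
    (Subtype.ext (by simpa using hexp _ (Additive.toMul x).2))
  -- the point stabiliser on one suborbit
  have hfaith : ∀ x : Ω, x ≠ α → FaithfulSMul H (MulAction.orbit H x) := by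
    refine fun x hx => ⟨fun {g g'} h => ?_⟩
    have h1 : g'⁻¹ * g = 1 := Subtype.ext (H60.extreme_faithful hH hep hx (g'⁻¹ * g : H) (g'⁻¹ * g : H).2
      fun y hy => congrArg Subtype.val
        (show (g'⁻¹ * g) • (⟨y, hy⟩ : MulAction.orbit H x) = ⟨y, hy⟩ by rw [mul_smul, h, inv_smul_smul]))
    exact (inv_mul_eq_one.mp h1).symm
  haveI : Nontrivial H := (Subgroup.nontrivial_iff_ne_bot H).mpr (hH α)
  set Q := Cfsg.fittingSubgroup H with hQdef
  haveI hQn : Q.Normal := H1.fittingSubgroup_normal H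
  have hQne : Q ≠ ⊥ := fitting_ne_bot
  haveI := hfaith w hw
  haveI := hep α w
  haveI : Nonempty (MulAction.orbit H w) := ⟨⟨w, MulAction.mem_orbit_self w⟩⟩
  obtain ⟨hQab, hQcent, q, e, hq, hcardQ, hQexp, -⟩ :=
    H60.fitting_of_primitive (X := MulAction.orbit H w) hQne
  haveI : Fact q.Prime := ⟨hq⟩
  have horb : ∀ x : Ω, x ≠ α → Nat.card (MulAction.orbit H x) = q ^ e ∧
      ∀ a ∈ Q, (a : G) • x = x → a = 1 := by
    intro x hx
    haveI := hfaith x hx
    haveI := hep α x
    haveI : Nonempty (MulAction.orbit H x) := ⟨⟨x, MulAction.mem_orbit_self x⟩⟩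
    refine ⟨by rw [← hcardQ, H60.card_eq_of_abelian_normal (X := MulAction.orbit H x) hQn hQne hQab],
      fun a ha h => H60.regular_of_abelian_normal (X := MulAction.orbit H x) hQn hQne hQab ha
        (x := ⟨x, MulAction.mem_orbit_self x⟩) (Subtype.ext h)⟩
  -- representation of `Q` on `N`
  set M : Subgroup G := Q.map H.subtype with hMdef
  have hMle : M ≤ H := Subgroup.map_subtype_le Q
  have hMne : M ≠ ⊥ := fun h => hQne ((Subgroup.map_eq_bot_iff_of_injective _ H.subtype_injective).mp h)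
  have hMn : H ≤ Subgroup.normalizer (M : Set G) := by
    intro h hh
    rw [Subgroup.mem_normalizer_iff]
    intro y
    constructor
    · rintro ⟨y', hy', rfl⟩
      exact ⟨⟨h, hh⟩ * y' * ⟨h, hh⟩⁻¹, hQn.conj_mem y' hy' _, rfl⟩
    · rintro ⟨y', hy', he⟩
      refine ⟨⟨h, hh⟩⁻¹ * y' * ⟨h, hh⟩, hQn.conj_mem' y' hy' _, ?_⟩
      change h⁻¹ * (y' : G) * h = y
      rw [show (y' : G) = h * y * h⁻¹ from he]
      group
  have hM := Cfsg.Agent.S3495.result hprim hH hep N hNcomm p hp hexp hNtr hNreg α M hMne hMle hMn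
  let ρ : Q →* Module.End (ZMod p) (Additive N) := (conjEnd N p).comp (H.subtype.comp Q.subtype)
  have hρinj : Function.Injective ρ := by
    suffices hone : ∀ a : Q, ρ a = 1 → a = 1 by
      intro a b hab
      have h1 : ρ (a⁻¹ * b) = ρ (a⁻¹ * a) := by rw [map_mul, map_mul, hab]
      rw [inv_mul_cancel, map_one] at h1
      exact inv_mul_eq_one.mp (hone _ h1)
    intro a ha
    obtain ⟨x, hx⟩ := MulAction.exists_smul_eq N α w
    have hfix : ((a : H) : G) • w = w := by
      have h2 : ((a : H) : G) * x * ((a : H) : G)⁻¹ = x := by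
        have := congrArg (fun u => ((Additive.toMul (u : Additive N) : N) : G))
          (LinearMap.congr_fun ha (Additive.ofMul x))
        simpa [ρ, coe_conjEnd] using this
      rw [← hx, Subgroup.smul_def, ← mul_smul, mul_inv_eq_iff_eq_mul.mp h2, mul_smul,
        MulAction.mem_stabilizer_iff.mp (a : H).2]
    exact Subtype.ext ((horb w hw).2 (a : H) a.2 hfix)
  have hirr : ∀ W : Submodule (ZMod p) (Additive N), (∀ a, ∀ v ∈ W, ρ a v ∈ W) → W = ⊥ ∨ W = ⊤ := by
    intro W hW
    let L : Subgroup G :=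
      { carrier := {g | ∃ hg : g ∈ N, Additive.ofMul (⟨g, hg⟩ : N) ∈ W}
        one_mem' := ⟨N.one_mem, W.zero_mem⟩
        mul_mem' := fun {a b} ⟨ha, ha'⟩ ⟨hb, hb'⟩ => ⟨N.mul_mem ha hb, W.add_mem ha' hb'⟩
        inv_mem' := fun {a} ⟨ha, ha'⟩ => ⟨N.inv_mem ha, W.neg_mem ha'⟩ }
    have hconj : ∀ m ∈ M, ∀ l ∈ L, m * l * m⁻¹ ∈ L := by
      rintro m ⟨a, ha, rfl⟩ l ⟨hl, hlW⟩
      refine ⟨hNn.conj_mem l hl _, ?_⟩
      convert hW ⟨a, ha⟩ _ hlW using 1
      exact Additive.toMul.injective (Subtype.ext (coe_conjEnd N p (a : G) (Additive.ofMul ⟨l, hl⟩)).symm)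
    have hML : M ≤ Subgroup.normalizer (L : Set G) := fun m hm => by
      rw [Subgroup.mem_normalizer_iff]
      exact fun l => ⟨hconj m hm l, fun h => by
        have := hconj m⁻¹ (M.inv_mem hm) _ h
        simpa [mul_assoc] using this⟩
    rcases hM.2 L (fun g hg => hg.1) hML with h | h
    · left
      rw [eq_bot_iff]
      intro v hv
      have hmem : ((v.toMul : N) : G) ∈ L := ⟨v.toMul.2, by simpa using hv⟩
      rw [h, Subgroup.mem_bot] at hmem
      rw [Submodule.mem_bot]
      exact Additive.toMul.injective (Subtype.ext hmem)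
    · right
      rw [eq_top_iff]
      intro v _
      obtain ⟨_, hv⟩ : ((v.toMul : N) : G) ∈ L := h.symm ▸ v.toMul.2
      simpa using hv
  haveI : Finite (Additive N) := Finite.of_equiv N Additive.ofMul
  haveI : Nontrivial (Additive N) := by
    haveI := (Subgroup.nontrivial_iff_ne_bot N).mpr hNne
    exact Additive.ofMul.symm.injective.nontrivial
  obtain ⟨hcyc, hordB, hgal⟩ := H60.irred_abelian d' ((Nat.card_congr Additive.toMul).trans hcardN) ρ hρinj
    (fun a b => Subtype.ext (hQab a a.2 b b.2)) hirr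
  -- `Q` has prime order `q`
  haveI := hcyc
  obtain ⟨a, hagen⟩ := hcyc.exists_generator
  have haord : orderOf a = q := by
    have ha1 : a ^ q = 1 := Subtype.ext (by simpa using hQexp _ a.2)
    rcases hq.eq_one_or_self_of_dvd _ (orderOf_dvd_of_pow_eq_one ha1) with h | h
    · exfalso
      apply hQne
      rw [eq_bot_iff]
      intro b hb
      obtain ⟨k, hk⟩ := hagen ⟨b, hb⟩
      rw [orderOf_eq_one_iff] at h
      simp only [h, one_zpow] at hk
      exact Subgroup.mem_bot.mpr (congrArg Subtype.val hk).symm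
    · exact h
  have hQq : Nat.card Q = q := by rw [← haord, orderOf_eq_card_of_forall_mem_zpowers hagen]
  have he1 : q ^ e = q := hcardQ.symm.trans hQq
  have hqd : q ∣ p ^ d' - 1 := by
    rw [← hcard, ← Nat.card_eq_fintype_card]
    exact H60.dvd_card_sub_one (G := G) α q fun x hx => by rw [(horb x hx).1, he1]
  have hord : ∀ i : ℕ, 0 < i → i < d' → ¬ q ∣ p ^ i - 1 := by
    intro i hi hid hdvd
    refine absurd (hordB i hi fun b => ?_) (Nat.not_le.mpr hid)
    obtain ⟨c, hc⟩ := hdvd
    have h1 : 1 ≤ p ^ i := Nat.one_le_pow _ _ hp.pos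
    rw [show p ^ i = q * c + 1 by omega, pow_succ, pow_mul, ← hQq, pow_card_eq_one', one_pow, one_mul]
  have hcop : p.Coprime q := by
    rw [Nat.coprime_primes hp hq]
    rintro rfl
    have h1 : p ∣ p ^ d' := dvd_pow_self p hd0
    have h2 := Nat.dvd_sub h1 hqd
    rw [Nat.sub_sub_self (Nat.one_le_pow _ _ hp.pos)] at h2
    exact hp.not_dvd_one h2
  let u : (ZMod q)ˣ := ZMod.unitOfCoprime p hcop
  have hu : ∀ i, ((u ^ i : (ZMod q)ˣ) : ZMod q) = ((p ^ i : ℕ) : ZMod q) := fun i => by
    simp [u]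
  have hud : u ^ d' = 1 := Units.ext (by
    rw [hu, Units.val_one, ← Nat.cast_one, ZMod.natCast_eq_natCast_iff]
    exact ((Nat.modEq_iff_dvd' (Nat.one_le_pow _ _ hp.pos)).mpr hqd).symm)
  have huord : ∀ i k : ℕ, i < k → k < d' → a ^ (p ^ i) ≠ a ^ (p ^ k) := by
    intro i k hik hk h
    rw [pow_eq_pow_iff_modEq, haord, ← ZMod.natCast_eq_natCast_iff, ← hu, ← hu] at h
    have h2 := Units.ext h
    rw [show k = i + (k - i) by omega, pow_add, left_eq_mul] at h2
    apply hord (k - i) (by omega) (by omega)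
    have h3 : (((p ^ (k - i) : ℕ)) : ZMod q) = ((1 : ℕ) : ZMod q) := by
      rw [← hu, h2, Units.val_one, Nat.cast_one]
    rw [ZMod.natCast_eq_natCast_iff] at h3
    exact (Nat.modEq_iff_dvd' (Nat.one_le_pow _ _ hp.pos)).mp h3.symm
  -- the exponent by which `h` acts on `a`
  have hpowmem : ∀ h : H, ∃ i < d', (h * (a : H) * h⁻¹) = (a : H) ^ (p ^ i) := by
    intro h
    have hmem : h * (a : H) * h⁻¹ ∈ Q := hQn.conj_mem _ a.2 h
    obtain ⟨j, -, hj⟩ : ∃ j, j < orderOf a ∧ a ^ j = ⟨_, hmem⟩ := by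
      have := (mem_zpowers_iff_mem_range_orderOf (x := a)).mp (hagen ⟨_, hmem⟩)
      simpa using this
    have hinjh : Function.Injective (conjEnd N p (h : G)) := by
      intro x y hxy
      have := congrArg (conjEnd N p ((h : G)⁻¹)) hxy
      rwa [← Module.End.mul_apply, ← Module.End.mul_apply, ← map_mul, inv_mul_cancel, map_one] at this
    obtain ⟨i, hi, hji⟩ := hgal a huord j (conjEnd N p (h : G)) hinjh (by
      show conjEnd N p (h : G) * conjEnd N p ((a : H) : G) =
        conjEnd N p (((a ^ j : Q) : H) : G) * conjEnd N p (h : G)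
      rw [hj, ← map_mul, ← map_mul]
      congr 1
      show (h : G) * ((a : H) : G) = (h : G) * ((a : H) : G) * (h : G)⁻¹ * (h : G)
      group)
    refine ⟨i, hi, ?_⟩
    rw [← Subgroup.coe_pow, ← hji, hj]
  choose f hfd hf using hpowmem
  have hQord : orderOf (a : H) = q := by rw [Subgroup.orderOf_coe, haord]
  let φ : H →* Subgroup.zpowers u :=
    { toFun := fun h => ⟨u ^ f h, Subgroup.pow_mem _ (Subgroup.mem_zpowers u) _⟩
      map_one' := by
        refine Subtype.ext (Units.ext ?_)
        show ((u ^ f 1 : (ZMod q)ˣ) : ZMod q) = 1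
        rw [hu, ← Nat.cast_one, ZMod.natCast_eq_natCast_iff, ← hQord, ← pow_eq_pow_iff_modEq, pow_one,
          ← hf 1, one_mul, inv_one, mul_one]
      map_mul' := fun g h => by
        refine Subtype.ext (Units.ext ?_)
        show ((u ^ f (g * h) : (ZMod q)ˣ) : ZMod q) = ((u ^ f g * u ^ f h : (ZMod q)ˣ) : ZMod q)
        rw [Units.val_mul, hu, hu, hu, ← Nat.cast_mul, ZMod.natCast_eq_natCast_iff, ← hQord,
          ← pow_eq_pow_iff_modEq, ← hf, pow_mul, ← hf g, conj_pow, ← hf h]
        group }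
  have hker : φ.ker = Q := by
    ext h
    rw [MonoidHom.mem_ker, Subtype.ext_iff, Units.ext_iff]
    show ((u ^ f h : (ZMod q)ˣ) : ZMod q) = 1 ↔ _
    rw [hu, ← Nat.cast_one, ZMod.natCast_eq_natCast_iff, ← hQord, ← pow_eq_pow_iff_modEq, pow_one, ← hf,
      mul_inv_eq_iff_eq_mul]
    constructor
    · intro hh
      have hhc : h ∈ Subgroup.centralizer (Q : Set H) := by
        rw [Subgroup.mem_centralizer_iff]
        intro b hb
        obtain ⟨k, hk⟩ := hagen ⟨b, hb⟩
        have : b = (a : H) ^ k := by rw [← SubgroupClass.coe_zpow]; exact (congrArg Subtype.val hk).symm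
        rw [this]
        exact ((show Commute h (a : H) from hh).zpow_right k).symm
      exact SetLike.le_def.mp (le_of_eq hQcent) hhc
    · intro hh
      exact hQab _ hh _ a.2
  refine ⟨q, hq, fun x hx => by rw [(horb x hx).1, he1], hqd, hord, M, hMle, hMn, ?_, ?_, ?_⟩
  · rw [hMdef, ← hQq]
    exact Nat.card_congr (Subgroup.equivMapOfInjective _ _ H.subtype_injective).toEquiv.symm
  · obtain ⟨g0, hg0⟩ := (inferInstance : IsCyclic φ.range).exists_generator
    obtain ⟨h0, hh0⟩ := g0.2
    refine ⟨h0, le_antisymm (fun g hg => ?_) (sup_le hMle ((Subgroup.zpowers_le).mpr h0.2))⟩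
    obtain ⟨k, hk⟩ := hg0 ⟨φ ⟨g, hg⟩, ⟨g, hg⟩, rfl⟩
    have hk' : φ (h0 ^ k) = φ ⟨g, hg⟩ := by
      rw [map_zpow, hh0]
      exact congrArg Subtype.val hk
    have hmem : (⟨g, hg⟩ : H) * (h0 ^ k)⁻¹ ∈ Q := by
      rw [← hker, MonoidHom.mem_ker, map_mul, map_inv, hk', mul_inv_cancel]
    have : g = ((⟨g, hg⟩ : H) * (h0 ^ k)⁻¹ : H) * (h0 : G) ^ k := by
      simp
    rw [this]
    exact mul_mem (Subgroup.mem_sup_left (Subgroup.mem_map_of_mem _ hmem))
      (Subgroup.mem_sup_right (Subgroup.zpow_mem _ (Subgroup.mem_zpowers _) k))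
  · rw [← φ.ker.card_mul_index, hker, hQq, ← hker, Subgroup.index_ker]
    refine Nat.mul_dvd_mul_left q ((Subgroup.card_subgroup_dvd_card _).trans ?_)
    rw [Nat.card_zpowers]
    exact orderOf_dvd_of_pow_eq_one hud

end Cfsg.Agent.S3496
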