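import Cfsg.Statements.S3497
import Cfsg.Agent.H60.Extreme
import Cfsg.Agent.H60.PrimFit

set_option autoImplicit false
open Cfsg

namespace Cfsg.Agent.S3497

/-- Restrictions on the point stabilizer of an extremely primitive group. Let a finite group G act faithfully and primitively on a finite set Ω with point stabilizers H = G_α whose order is neither 1 nor a prime, each acting primitively on every one of its orbits. Then H has trivial center, the Fitting subgroup F(H) is an elementary abelian p-group for some prime p, and if F(H) ≠ 1 has order p ^ e then p ^ e divides the number of points minus one and H / F(H) embeds in GL_e(p) (there is a homomorphism from H to GL_e(p) with kernel exactly F(H)). -/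
theorem result {G : Type*} [Group G] [Finite G] {Ω : Type*} [Fintype Ω] [MulAction G Ω] [FaithfulSMul G Ω] (hprim : MulAction.IsPreprimitive G Ω) (hep : ∀ (α : Ω) (ω : Ω), MulAction.IsPreprimitive (MulAction.stabilizer G α) (MulAction.orbit (MulAction.stabilizer G α) ω)) (α : Ω)
    (hH1 : MulAction.stabilizer G α ≠ ⊥) (hHp : ¬ (Nat.card (MulAction.stabilizer G α)).Prime) :
    Subgroup.center (MulAction.stabilizer G α) = ⊥ ∧
    IsMulCommutative (Cfsg.fittingSubgroup (MulAction.stabilizer G α)) ∧
    ∃ p e : ℕ, p.Prime ∧ Nat.card (Cfsg.fittingSubgroup (MulAction.stabilizer G α)) = p ^ e ∧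
      (∀ x ∈ Cfsg.fittingSubgroup (MulAction.stabilizer G α), x ^ p = 1) ∧
      (Cfsg.fittingSubgroup (MulAction.stabilizer G α) ≠ ⊥ →
        p ^ e ∣ Fintype.card Ω - 1 ∧
        ∃ φ : MulAction.stabilizer G α →* GL (Fin e) (ZMod p), φ.ker = Cfsg.fittingSubgroup (MulAction.stabilizer G α)) := by
  classical
  haveI := hprim
  set H := MulAction.stabilizer G α
  have hH : ∀ a : Ω, MulAction.stabilizer G a ≠ ⊥ := fun a h => hH1 (Subgroup.card_eq_one.mp
    ((H60.card_stabilizer_eq α a).trans (by rw [h, Subgroup.card_bot])))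
  obtain ⟨w, hw⟩ : ∃ w : Ω, w ≠ α := by
    by_contra hcon
    push Not at hcon
    exact hH1 (eq_bot_iff.mpr fun g _ => Subgroup.mem_bot.mpr
      (H60.eq_one_of_forall_smul_eq fun a : Ω => (hcon _).trans (hcon a).symm))
  have hfaith : ∀ x : Ω, x ≠ α → FaithfulSMul H (MulAction.orbit H x) := by
    refine fun x hx => ⟨fun {g g'} h => ?_⟩
    have h1 : g'⁻¹ * g = 1 := Subtype.ext (H60.extreme_faithful hH hep hx (g'⁻¹ * g : H) (g'⁻¹ * g : H).2
      fun y hy => congrArg Subtype.val
        (show (g'⁻¹ * g) • (⟨y, hy⟩ : MulAction.orbit H x) = ⟨y, hy⟩ by rw [mul_smul, h, inv_smul_smul]))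
    exact (inv_mul_eq_one.mp h1).symm
  have hnt : ∀ x : Ω, x ≠ α → Nontrivial (MulAction.orbit H x) := by
    intro x hx
    by_contra hs
    rw [not_nontrivial_iff_subsingleton] at hs
    haveI := hfaith x hx
    exact hH1 (eq_bot_iff.mpr fun g hg => Subgroup.mem_bot.mpr (congrArg Subtype.val
      (H60.eq_one_of_forall_smul_eq (g := (⟨g, hg⟩ : H)) fun a : MulAction.orbit H x => Subsingleton.elim _ _)))
  haveI := hfaith w hw
  haveI := hnt w hw
  haveI := hep α w
  refine ⟨?_, ?_⟩
  · by_contra hZ
    exact hHp (H60.card_prime_of_center_ne_bot (X := MulAction.orbit H w) hZ)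
  by_cases hF : Cfsg.fittingSubgroup H = ⊥
  · refine ⟨IsMulCommutative.of_comm ?_, 2, 0, Nat.prime_two, by rw [hF, Subgroup.card_bot, pow_zero], ?_, fun h => absurd hF h⟩
    · intro a b
      have ha : (a : H) = 1 := Subgroup.mem_bot.mp (hF ▸ a.2)
      have hb : (b : H) = 1 := Subgroup.mem_bot.mp (hF ▸ b.2)
      exact Subtype.ext (by simp [ha, hb])
    · intro x hx
      rw [hF, Subgroup.mem_bot] at hx
      rw [hx, one_pow]
  obtain ⟨hab, hcent, p, e, hp, hcard, hexp, -⟩ :=
    H60.fitting_of_primitive (X := MulAction.orbit H w) hF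
  haveI : IsMulCommutative (Cfsg.fittingSubgroup H) :=
    IsMulCommutative.of_comm fun a b => Subtype.ext (hab a a.2 b b.2)
  refine ⟨inferInstance, p, e, hp, hcard, hexp, fun _ => ⟨?_, ?_⟩⟩
  · rw [← Nat.card_eq_fintype_card]
    refine H60.dvd_card_sub_one (G := G) α _ fun x hx => ?_
    haveI := hfaith x hx
    haveI := hep α x
    haveI : Nonempty (MulAction.orbit H x) := ⟨⟨x, MulAction.mem_orbit_self x⟩⟩
    rw [← hcard, H60.card_eq_of_abelian_normal (X := MulAction.orbit H x) (H1.fittingSubgroup_normal H) hF hab]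
  · haveI : Fact p.Prime := ⟨hp⟩
    haveI := H1.fittingSubgroup_normal H
    open scoped IsMulCommutative in
    obtain ⟨φ, hφ⟩ := @H60.exists_conj_hom H _ _ (Cfsg.fittingSubgroup H) _ _ p e _
      (AddCommGroup.zmodModule fun x => Additive.toMul.injective
        (Subtype.ext (by simpa using hexp _ (Additive.toMul x).2))) hcard
    exact ⟨φ, hφ.trans hcent⟩

end Cfsg.Agent.S3497
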