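import Cfsg.Statements.S3498

set_option autoImplicit false
open Cfsg

namespace Cfsg.Agent.S3498

/-- A maximal subgroup of a finite almost simple group does not have prime order. Here G is almost simple in the sense that it has a non-abelian simple normal subgroup T with trivial centralizer. -/
theorem result {G : Type*} [Group G] [Finite G] (T : Subgroup G) [T.Normal] (hT : IsSimpleGroup T) (hTc : ¬ IsMulCommutative T)
    (hC : Subgroup.centralizer (T : Set G) = ⊥) (H : Subgroup G) (hmax : IsCoatom H) : ¬ (Nat.card H).Prime := by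
  intro hr
  set r := Nat.card H with hrdef
  haveI : Fact r.Prime := ⟨hr⟩
  have hTne : T ≠ ⊥ := by
    intro h
    exact not_subsingleton_iff_nontrivial.mpr hT.toNontrivial (by subst h; infer_instance)
  -- a subgroup of prime-power order cannot be a nonabelian simple group
  have hno : ∀ (q : ℕ), q.Prime → ∀ Q : Subgroup T, IsPGroup q Q → Q = ⊤ → False := by
    intro q hq Q hQ hQt
    haveI : Fact q.Prime := ⟨hq⟩
    have hTq : IsPGroup q T := by
      subst hQt
      exact hQ.of_equiv Subgroup.topEquiv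
    haveI := hT.toNontrivial
    have hz := hTq.center_nontrivial
    rcases hT.eq_bot_or_eq_top_of_normal (Subgroup.center T) inferInstance with h | h
    · exact (Subgroup.nontrivial_iff_ne_bot _).mp hz h
    · exact hTc ⟨⟨fun a b => (Subgroup.mem_center_iff.mp (h ▸ Subgroup.mem_top b : b ∈ Subgroup.center T) a)⟩⟩
  haveI hcyc : IsCyclic H := isCyclic_of_prime_card (p := r) rfl
  have hTH : ¬ T ≤ H := by
    intro hle
    rcases hr.eq_one_or_self_of_dvd _ (Subgroup.card_dvd_of_le hle) with h1 | h1
    · exact hTne (Subgroup.card_eq_one.mp h1)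
    · haveI : IsCyclic T := isCyclic_of_prime_card (p := r) h1
      exact hTc inferInstance
  have hsup : T ⊔ H = ⊤ := hmax.2 _ (lt_of_le_of_ne le_sup_right fun h => hTH (h ▸ le_sup_left))
  have hnn : ¬ H.Normal := by
    intro hn
    rcases hr.eq_one_or_self_of_dvd _ (Subgroup.card_dvd_of_le (inf_le_right : T ⊓ H ≤ H)) with h1 | h1
    · have hd : Disjoint T H := disjoint_iff.mpr (Subgroup.card_eq_one.mp h1)
      have hle : H ≤ Subgroup.centralizer (T : Set G) := fun x hx => Subgroup.mem_centralizer_iff.mpr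
        fun t ht => Subgroup.commute_of_normal_of_disjoint T H inferInstance hn hd t x ht hx
      rw [hC] at hle
      exact hr.one_lt.ne' (Subgroup.card_eq_one.mpr (le_bot_iff.mp hle))
    · have hHT : H ≤ T := (inf_eq_right.mp (Subgroup.eq_of_le_of_card_ge inf_le_right (h1.ge)))
      have hN : (H.subgroupOf T).Normal := hn.subgroupOf T
      rcases hT.eq_bot_or_eq_top_of_normal _ hN with h | h
      · rw [Subgroup.subgroupOf_eq_bot] at h
        exact hr.one_lt.ne' (Subgroup.card_eq_one.mpr (h.eq_bot_of_le hHT))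
      · exact hTH (Subgroup.subgroupOf_eq_top.mp h)
  have hN : Subgroup.normalizer (H : Set G) = H := by
    by_contra h
    exact hnn (Subgroup.normalizer_eq_top_iff.mp
      (hmax.2 _ (lt_of_le_of_ne Subgroup.le_normalizer (Ne.symm h))))
  have hHp : IsPGroup r H := IsPGroup.of_card (n := 1) (by rw [pow_one])
  obtain ⟨P, hP⟩ := hHp.exists_le_sylow
  have hPH : (P : Subgroup G) = H := by
    haveI : Group.IsNilpotent (P : Subgroup G) := P.2.isNilpotent
    by_contra hne
    have hlt : H.subgroupOf (P : Subgroup G) < ⊤ :=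
      lt_top_iff_ne_top.mpr fun h => hne (le_antisymm (Subgroup.subgroupOf_eq_top.mp h) hP)
    have := normalizerCondition_of_isNilpotent _ hlt
    obtain ⟨⟨x, hxP⟩, hx, hx'⟩ := SetLike.exists_of_lt this
    apply hx'
    rw [Subgroup.mem_subgroupOf]
    show x ∈ H
    rw [← hN, Subgroup.mem_normalizer_iff]
    intro h
    rw [Subgroup.mem_normalizer_iff] at hx
    constructor
    · intro hh
      simpa [Subgroup.mem_subgroupOf] using (hx ⟨h, hP hh⟩).mp (by simpa [Subgroup.mem_subgroupOf] using hh)
    · intro hh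
      have hhP : h ∈ (P : Subgroup G) := by
        simpa [mul_assoc] using mul_mem (mul_mem (inv_mem hxP) (hP hh)) hxP
      simpa [Subgroup.mem_subgroupOf] using (hx ⟨h, hhP⟩).mpr (by simpa [Subgroup.mem_subgroupOf] using hh)
  by_cases hHT : H ≤ T
  · have hTtop : T = ⊤ := by rw [← hsup, sup_eq_left.mpr hHT]
    have hcomm : Subgroup.normalizer ((P : Subgroup G) : Set G) ≤ Subgroup.centralizer ((P : Subgroup G) : Set G) := by
      rw [hPH, hN]
      exact Subgroup.le_centralizer H
    obtain ⟨hdisj, hcompl⟩ : True ∧ Subgroup.IsComplement' (MonoidHom.transferSylow P hcomm).ker P :=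
      ⟨trivial, MonoidHom.ker_transferSylow_isComplement' P hcomm⟩
    set K := (MonoidHom.transferSylow P hcomm).ker
    have hKT : (K.subgroupOf T).Normal := Subgroup.Normal.subgroupOf inferInstance T
    rcases hT.eq_bot_or_eq_top_of_normal _ hKT with h | h
    · rw [Subgroup.subgroupOf_eq_bot, hTtop, disjoint_top] at h
      have := hcompl.card_mul
      rw [h, Subgroup.card_bot, one_mul, hPH] at this
      exact hTH ((Subgroup.card_eq_iff_eq_top H).mp this ▸ le_top)
    · rw [Subgroup.subgroupOf_eq_top, hTtop, top_le_iff] at h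
      have := hcompl.card_mul
      rw [h, Subgroup.card_top, hPH] at this
      exact hr.one_lt.ne (Nat.eq_of_mul_eq_mul_left Nat.card_pos (this.trans (mul_one _).symm)).symm
  · -- coprime action of `H` on `T`
    have hinf : T ⊓ H = ⊥ := by
      rcases hr.eq_one_or_self_of_dvd _ (Subgroup.card_dvd_of_le (inf_le_right : T ⊓ H ≤ H)) with h1 | h1
      · exact Subgroup.card_eq_one.mp h1
      · exact absurd (inf_eq_right.mp (Subgroup.eq_of_le_of_card_ge inf_le_right (h1.ge))) hHT
    have hrT : ¬ r ∣ Nat.card T := by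
      intro hdvd
      haveI : Fact r.Prime := ⟨hr⟩
      obtain ⟨x, hx⟩ := exists_prime_orderOf_dvd_card' r hdvd
      have hxp : IsPGroup r (Subgroup.zpowers (x : G)) :=
        IsPGroup.of_card (n := 1) (by rw [Nat.card_zpowers, Subgroup.orderOf_coe, hx, pow_one])
      obtain ⟨P', hP'⟩ := hxp.exists_le_sylow
      obtain ⟨g, hg⟩ := MulAction.exists_smul_eq G P' P
      have hxP : g * x * g⁻¹ ∈ (P : Subgroup G) := by
        rw [← hg]
        exact Subgroup.smul_mem_pointwise_smul _ (MulAut.conj g) _ (hP' (Subgroup.mem_zpowers _))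
      have hmem : g * x * g⁻¹ ∈ T ⊓ H :=
        ⟨(inferInstance : T.Normal).conj_mem _ x.2 g, hPH ▸ hxP⟩
      rw [hinf, Subgroup.mem_bot, conj_eq_one_iff] at hmem
      rw [← Subgroup.orderOf_coe, hmem, orderOf_one] at hx
      exact hr.one_lt.ne hx
    have hT1 : Nat.card T ≠ 1 := fun h => hTne (Subgroup.card_eq_one.mp h)
    obtain ⟨q, hq, hqT⟩ := Nat.exists_prime_and_dvd hT1
    haveI : Fact q.Prime := ⟨hq⟩
    -- `H` fixes a Sylow `q`-subgroup of `T`
    let act : H →* MulAut T := (MulAut.conjNormal (H := T)).comp H.subtype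
    letI : MulDistribMulAction H T := MulDistribMulAction.compHom T act
    have hns : ¬ r ∣ Nat.card (Sylow q T) := fun hd =>
      hrT (hd.trans ((Sylow.card_dvd_index (default : Sylow q T)).trans (Subgroup.index_dvd_card _)))
    obtain ⟨Q, hQ⟩ := hHp.nonempty_fixed_point_of_prime_not_dvd_card (Sylow q T) hns
    let Q' : Subgroup G := (Q : Subgroup T).map T.subtype
    have hstep : ∀ h ∈ H, ∀ y ∈ Q', h * y * h⁻¹ ∈ Q' := by
      rintro h hh y ⟨t, ht, rfl⟩
      refine ⟨act ⟨h, hh⟩ t, ?_, ?_⟩
      · have h2 := Subgroup.smul_mem_pointwise_smul t (⟨h, hh⟩ : H) (Q : Subgroup T) ht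
        have h3 : ((⟨h, hh⟩ : H) • Q : Sylow q T) = Q := hQ ⟨h, hh⟩
        rw [← h3]
        exact h2
      · rfl
    have hHQ : H ≤ Subgroup.normalizer (Q' : Set G) := by
      intro h hh
      rw [Subgroup.mem_normalizer_iff]
      intro y
      refine ⟨hstep h hh y, fun hy => ?_⟩
      have := hstep h⁻¹ (inv_mem hh) _ hy
      simpa [mul_assoc] using this
    have hQne : Q' ≠ ⊥ := by
      intro h
      have h2 : (Q : Subgroup T) = ⊥ := (Subgroup.map_eq_bot_iff_of_injective _ T.subtype_injective).mp h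
      have h3 := Q.card_eq_multiplicity
      rw [h2, Subgroup.card_bot] at h3
      exact absurd h3.symm (Nat.one_lt_pow ((Nat.Prime.factorization_pos_of_dvd hq Nat.card_pos.ne' hqT).ne') hq.one_lt).ne'
    have hQT : Q' ≤ T := Subgroup.map_subtype_le _
    have hlt : H < H ⊔ Q' := by
      refine lt_of_le_of_ne le_sup_left fun h => hQne (le_bot_iff.mp ?_)
      rw [← hinf]
      exact le_inf hQT (h ▸ le_sup_right)
    have htop : H ⊔ Q' = ⊤ := hmax.2 _ hlt
    refine hno q hq Q Q.2 (eq_top_iff.mpr fun t _ => ?_)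
    have ht : (t : G) ∈ H ⊔ Q' := htop ▸ Subgroup.mem_top _
    rw [← SetLike.mem_coe, Subgroup.coe_mul_of_left_le_normalizer_right _ _ hHQ] at ht
    obtain ⟨h, hh, y, hy, hmul⟩ := ht
    have : h ∈ T ⊓ H := ⟨by
      have : h = (t : G) * y⁻¹ := by rw [← hmul]; group
      rw [this]; exact T.mul_mem t.2 (T.inv_mem (hQT hy)), hh⟩
    rw [hinf, Subgroup.mem_bot] at this
    obtain ⟨y', hy', rfl⟩ := hy
    rw [this] at hmul
    simp only [one_mul] at hmul
    rwa [← Subtype.ext hmul]

end Cfsg.Agent.S3498
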