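import Cfsg.Statements.S3501
import Cfsg.Agent.H60.Socle

set_option autoImplicit false
open Cfsg

namespace Cfsg.Agent.S3501

/-- Let a finite group G act faithfully and primitively on a finite set Ω with at least two points, and suppose G is not almost simple (it has no non-abelian simple normal subgroup with trivial centralizer). Then the derangements of G form a single conjugacy class if and only if G is sharply 2-transitive (2-transitive, and no non-identity element fixes two points). -/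
theorem result {G : Type*} [Group G] [Finite G] {Ω : Type*} [Fintype Ω] [MulAction G Ω] [FaithfulSMul G Ω] (hΩ : 2 ≤ Fintype.card Ω) (hprim : MulAction.IsPreprimitive G Ω) (hnas : ¬ ∃ T : Subgroup G, T.Normal ∧ IsSimpleGroup T ∧ ¬ IsMulCommutative T ∧ Subgroup.centralizer (T : Set G) = ⊥) :
    Nat.card {c : ConjClasses G // ∃ g : G, ConjClasses.mk g = c ∧ ∀ ω : Ω, g • ω ≠ ω} = 1 ↔ (MulAction.IsMultiplyPretransitive G Ω 2 ∧ ∀ g : G, g ≠ 1 → ∀ a b : Ω, a ≠ b → g • a = a → g • b ≠ b) := by
  classical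
  haveI := hprim
  haveI : Nontrivial Ω := Fintype.one_lt_card_iff_nontrivial.mp hΩ
  constructor
  swap
  · rintro ⟨h2, hfix⟩
    refine H60.sharp_derangement_classes hΩ h2 fun g a b hab ha hb => ?_
    by_contra hg
    exact hfix g hg a b hab ha hb
  intro hone
  have hsub := (Nat.card_eq_one_iff_unique.mp hone).1
  have hconj : ∀ x y : G, (∀ ω : Ω, x • ω ≠ ω) → (∀ ω : Ω, y • ω ≠ ω) → IsConj x y := fun x y hx hy =>
    ConjClasses.mk_eq_mk_iff_isConj.mp (congrArg Subtype.val
      (@Subsingleton.elim _ hsub ⟨_, x, rfl, hx⟩ ⟨_, y, rfl, hy⟩))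
  rcases H60.socle_cases (Ω := Ω) hnas with ⟨N, hNn, hNne, hmin, hab, htr, hreg⟩ |
      ⟨N, hNn, hNne, hmin, htr, S, _, _, m, hm, hS, ⟨e⟩, hcase⟩
  · haveI := hNn
    haveI := htr
    have hder : ∀ n ∈ N, n ≠ 1 → ∀ ω : Ω, n • ω ≠ ω := fun n hn h ω hω => h (hreg n hn ω hω)
    obtain ⟨⟨x, hx⟩, hx1⟩ := (Subgroup.ne_bot_iff_exists_ne_one).mp hNne
    have hD : ∀ g, g ∉ N → ∃ ω : Ω, g • ω = ω := by
      intro g hg
      by_contra hcon
      push Not at hcon
      obtain ⟨c, rfl⟩ := isConj_iff.mp (hconj x g (hder x hx fun h => hx1 (Subtype.ext h)) hcon)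
      exact hg (hNn.conj_mem x hx c)
    refine ⟨H60.two_transitive_of_conj hab fun a ha b hb ha1 hb1 =>
      hconj a b (hder a ha ha1) (hder b hb hb1), fun g hg a b hne ha hb => ?_⟩
    have := H60.fix_le_one (Ω := Ω) hreg hD hg
    haveI := Finite.card_le_one_iff_subsingleton.mp this
    exact hne (congrArg Subtype.val
      (Subsingleton.elim (⟨a, ha⟩ : MulAction.fixedBy Ω g) ⟨b, hb⟩))
  exfalso
  haveI := htr
  haveI := hNn
  haveI : Finite (Fin m → S) := Finite.of_equiv N e.toEquiv
  let i : Fin m := ⟨0, hm⟩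
  haveI : Finite S := Finite.of_injective _ (Pi.mulSingle_injective (M := fun _ : Fin m => S) i)
  have hord : ∀ a b : N, IsConj (a : G) b → orderOf a = orderOf b := fun a b h => by
    obtain ⟨c, hc⟩ := isConj_iff.mp h
    rw [← Subgroup.orderOf_coe a, ← Subgroup.orderOf_coe b, ← hc]
    exact (MulEquiv.orderOf_eq (MulAut.conj c) (a : G)).symm
  obtain ⟨t0, ht0⟩ := exists_ne (1 : S)
  have hsingle : (∀ t : S, t ≠ 1 → ∀ ω : Ω, e.symm (Pi.mulSingle i t) • ω ≠ ω) → False := fun h =>
    hS (H60.comm_of_two_orders (orderOf t0) (orderOf t0) fun t ht => Or.inl (by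
      have h1 := hord _ _ (hconj _ _ (h t ht) (h t0 ht0))
      rw [MulEquiv.orderOf_eq, MulEquiv.orderOf_eq] at h1
      exact (orderOf_injective (MonoidHom.mulSingle (fun _ : Fin m => S) i) (Pi.mulSingle_injective (M := fun _ : Fin m => S) i) t).symm.trans (h1.trans (orderOf_injective (MonoidHom.mulSingle (fun _ : Fin m => S) i) (Pi.mulSingle_injective (M := fun _ : Fin m => S) i) t0))))
  rcases hcase with hreg | ⟨-, hm2⟩
  · refine hsingle fun t ht ω hω => ?_
    have h1 : e.symm (Pi.mulSingle i t) = 1 := Subtype.ext (hreg _ (e.symm _).2 ω hω)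
    rw [MulEquiv.map_eq_one_iff, Pi.mulSingle_eq_one_iff] at h1
    exact ht h1
  rcases H60.derangement_coord (Ω := Ω) e i with ⟨x, hx, hxd⟩ | ⟨hd, -⟩
  · let j : Fin m := ⟨1, hm2⟩
    have hji : i ≠ j := by simp [i, j]
    obtain ⟨c, hc⟩ := isConj_iff.mp (hconj _ _
      (hxd (e.symm (Function.update (Pi.mulSingle i x) j t0)) (by simp [hji]))
      (hxd (e.symm (Function.update (Pi.mulSingle i x) j 1)) (by simp [hji])))
    exact (H60.card_centralizer_lt hS ht0).ne
      (H60.card_centralizer_update e _ j _ _ (H60.card_centralizer_conj c _ _ hc))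
  · exact hsingle hd

end Cfsg.Agent.S3501
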