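import Cfsg.Statements.S3504
import Cfsg.Agent.H60.Perm

set_option autoImplicit false
open Cfsg

namespace Cfsg.Agent.S3504

/-- For n ≥ 5, the fixed-point-free permutations of prime order in the symmetric group of degree n form a single conjugacy class if and only if n is a prime power. -/
theorem result (n : ℕ) (hn : 5 ≤ n) :
    Nat.card {c : ConjClasses (Equiv.Perm (Fin n)) // ∃ g : Equiv.Perm (Fin n), ConjClasses.mk g = c ∧ (orderOf g).Prime ∧ ∀ i : Fin n, g i ≠ i} = 1 ↔ IsPrimePow n := by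
  classical
  let P : ConjClasses (Equiv.Perm (Fin n)) → Prop := fun c =>
    ∃ g : Equiv.Perm (Fin n), ConjClasses.mk g = c ∧ (orderOf g).Prime ∧ ∀ i : Fin n, g i ≠ i
  show Nat.card {c // P c} = 1 ↔ IsPrimePow n
  have hder : ∀ g : Equiv.Perm (Fin n), (∀ i, g i ≠ i) ↔ g.support.card = n := by
    intro g
    conv_rhs => rhs; rw [← Fintype.card_fin n]
    rw [Finset.card_eq_iff_eq_univ, Finset.eq_univ_iff_forall]
    simp
  have hmake : ∀ p : ℕ, p.Prime → p ∣ n → ∃ g : Equiv.Perm (Fin n),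
      orderOf g = p ∧ g.cycleType = Multiset.replicate (n / p) p ∧ P (ConjClasses.mk g) := by
    intro p hp hdvd
    obtain ⟨g, ho, hc, hs⟩ := H60.exists_perm_replicate (α := Fin n) hp
      (Nat.div_pos (Nat.le_of_dvd (by omega) hdvd) hp.pos) (by rw [Fintype.card_fin]; exact Nat.div_mul_le_self n p)
    exact ⟨g, ho, hc, g, rfl, ho ▸ hp, (hder g).mpr (by rw [hs, Nat.div_mul_cancel hdvd])⟩
  have hclass : ∀ g : Equiv.Perm (Fin n), (orderOf g).Prime → (∀ i, g i ≠ i) →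
      orderOf g ∣ n ∧ g.cycleType = Multiset.replicate (n / orderOf g) (orderOf g) := by
    intro g hp hd
    obtain ⟨j, -, -, hc, hs⟩ := H60.cycleType_of_orderOf_eq_prime hp rfl
    rw [(hder g).mp hd] at hs
    refine ⟨⟨j, hs.trans (mul_comm _ _)⟩, ?_⟩
    rw [Nat.div_eq_of_eq_mul_left hp.pos hs]
    exact hc
  rw [Nat.card_eq_one_iff_unique, isPrimePow_iff_unique_prime_dvd]
  constructor
  · rintro ⟨hsub, -⟩
    refine ⟨n.minFac, ⟨Nat.minFac_prime (by omega), Nat.minFac_dvd n⟩, fun p ⟨hp, hpn⟩ => ?_⟩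
    obtain ⟨g, ho, -, hPg⟩ := hmake p hp hpn
    obtain ⟨g', ho', -, hPg'⟩ := hmake _ (Nat.minFac_prime (by omega : n ≠ 1)) (Nat.minFac_dvd n)
    have := congrArg Subtype.val (Subsingleton.elim (⟨_, hPg⟩ : {c // P c}) ⟨_, hPg'⟩)
    obtain ⟨c, hc⟩ := isConj_iff.mp (ConjClasses.mk_eq_mk_iff_isConj.mp this)
    rw [← ho, ← ho', ← hc]
    exact (orderOf_injective (MulAut.conj c).toMonoidHom (MulEquiv.injective _) g).symm
  · rintro ⟨p, ⟨hp, hpn⟩, huniq⟩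
    obtain ⟨g0, -, -, hP0⟩ := hmake p hp hpn
    refine ⟨⟨?_⟩, ⟨⟨_, hP0⟩⟩⟩
    rintro ⟨c1, g, rfl, hg, hgd⟩ ⟨c2, g', rfl, hg', hgd'⟩
    obtain ⟨h1, h2⟩ := hclass g hg hgd
    obtain ⟨h1', h2'⟩ := hclass g' hg' hgd'
    refine Subtype.ext (ConjClasses.mk_eq_mk_iff_isConj.mpr (Equiv.Perm.isConj_iff_cycleType_eq.mpr ?_))
    rw [h2, h2', huniq _ ⟨hg, h1⟩, huniq _ ⟨hg', h1'⟩]

end Cfsg.Agent.S3504
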