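import Cfsg.Statements.S3508
import Cfsg.Agent.H60.Basic

set_option autoImplicit false
open Cfsg

namespace Cfsg.Agent.S3508

open Polynomial in
theorem poly_sum_eq (p : ℕ) [Fact p.Prime] (n : ℕ) :
    (∑ i ∈ Finset.range (p ^ n), (X : (ZMod p)[X]) ^ i) = (X - 1) ^ (p ^ n - 1) := by
  have h0 : (X : (ZMod p)[X]) - 1 ≠ 0 := by
    simpa using X_sub_C_ne_zero (1 : ZMod p)
  have h1 : 1 ≤ p ^ n := Nat.one_le_pow _ _ (Fact.out : p.Prime).pos
  apply mul_left_cancel₀ h0
  rw [mul_geom_sum, ← pow_succ', Nat.sub_add_cancel h1, sub_pow_char_pow, one_pow]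

open Polynomial in
theorem unipotent_facts (p : ℕ) [Fact p.Prime] {V : Type*} [AddCommGroup V] [Module (ZMod p) V]
    [Finite V] (m : ℕ) (hcard : Nat.card V = p ^ m) (T : Module.End (ZMod p) V) (s : ℕ)
    (hT : T ^ (p ^ s) = 1) (n : ℕ) (hn : m ≤ p ^ n - 1) :
    T ^ (p ^ n) = 1 ∧ ∑ i ∈ Finset.range (p ^ n), T ^ i = 0 := by
  have hfin : Module.finrank (ZMod p) V = m := by
    have := Module.natCard_eq_pow_finrank (K := ZMod p) (V := V)
    rw [hcard, Nat.card_zmod] at this
    exact (Nat.pow_right_injective (Fact.out : p.Prime).two_le this).symm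
  have hnil : (T - 1) ^ (p ^ s) = 0 := by
    have h := congrArg (aeval T) (sub_pow_char_pow (p := p) (n := s) (X : (ZMod p)[X]) 1)
    simpa [hT] using h
  have hm : (T - 1) ^ m = 0 := by
    rw [← hfin]
    ext v
    have h1 : v ∈ LinearMap.ker ((T - 1) ^ (p ^ s)) := by rw [hnil]; simp
    simpa using Module.End.ker_pow_le_ker_pow_finrank (T - 1) (p ^ s) h1
  constructor
  · have h := congrArg (aeval T) (sub_pow_char_pow (p := p) (n := n) (X : (ZMod p)[X]) 1)
    simp at h
    rw [pow_eq_zero_of_le (by omega) hm] at h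
    exact sub_eq_zero.mp h.symm
  · have h := congrArg (aeval T) (poly_sum_eq p n)
    simp at h
    rw [h]
    exact pow_eq_zero_of_le hn hm

theorem aut_facts_aux (p : ℕ) [Fact p.Prime] {A : Type*} [CommGroup A] [Finite A]
    [Module (ZMod p) (Additive A)] (m : ℕ) (hcard : Nat.card A = p ^ m) (φ : MulAut A) (s : ℕ)
    (hφ : φ ^ (p ^ s) = 1) (n : ℕ) (hn : m ≤ p ^ n - 1) :
    φ ^ (p ^ n) = 1 ∧ ∀ a : A, ∏ i ∈ Finset.range (p ^ n), (φ ^ i) a = 1 := by
  let T : Module.End (ZMod p) (Additive A) :=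
    AddMonoidHom.toZModLinearMap p (MonoidHom.toAdditive φ.toMonoidHom)
  have hpow : ∀ (i : ℕ) (x : Additive A), Additive.toMul ((T ^ i) x) = (φ ^ i) (Additive.toMul x) := by
    intro i
    induction i with
    | zero => intro x; simp
    | succ i ih =>
      intro x
      rw [pow_succ', pow_succ', Module.End.mul_apply, MulAut.mul_apply, ← ih]
      rfl
  haveI : Finite (Additive A) := Finite.of_equiv A Additive.ofMul
  obtain ⟨h1, h2⟩ := unipotent_facts p m ((Nat.card_congr Additive.toMul).trans hcard) T s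
    (LinearMap.ext fun x => Additive.toMul.injective (by rw [hpow, hφ]; rfl)) n hn
  refine ⟨MulEquiv.ext fun a => ?_, fun a => ?_⟩
  · have := hpow (p ^ n) (Additive.ofMul a)
    rw [h1] at this
    exact this.symm
  · have := congrArg (fun f => Additive.toMul (f (Additive.ofMul a))) h2
    simp only [LinearMap.sum_apply, toMul_sum, hpow, toMul_ofMul, LinearMap.zero_apply, toMul_zero] at this
    exact this

theorem aut_facts (p : ℕ) [Fact p.Prime] {A : Type*} [CommGroup A] [Finite A]
    (hexp : ∀ a : A, a ^ p = 1) (m : ℕ) (hcard : Nat.card A = p ^ m) (φ : MulAut A) (s : ℕ)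
    (hφ : φ ^ (p ^ s) = 1) (n : ℕ) (hn : m ≤ p ^ n - 1) :
    φ ^ (p ^ n) = 1 ∧ ∀ a : A, ∏ i ∈ Finset.range (p ^ n), (φ ^ i) a = 1 :=
  @aut_facts_aux p _ A _ _ (AddCommGroup.zmodModule (fun x => by
    apply Additive.toMul.injective
    simpa using hexp (Additive.toMul x))) m hcard φ s hφ n hn

open scoped IsMulCommutative


/-- Let a finite group G act faithfully on a set Ω with p ^ m points (p prime) and have an elementary abelian normal p-subgroup N acting regularly on Ω (so G is a group of affine transformations of an m-dimensional space over the field with p elements). If G contains an element of order p ^ r with r ≥ 1, then p ^ (r − 1) ≤ m. In particular an element of order p ^ m forces m ≤ 2, and m ≤ 1 when p is odd. -/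
theorem result {G : Type*} [Group G] [Finite G] {Ω : Type*} [Fintype Ω] [MulAction G Ω] [FaithfulSMul G Ω] (p m : ℕ) (hp : p.Prime) (hcard : Fintype.card Ω = p ^ m)
    (N : Subgroup G) [N.Normal] (hNc : IsMulCommutative N) (hNp : ∀ n ∈ N, n ^ p = 1)
    (hNtr : MulAction.IsPretransitive N Ω) (hNreg : ∀ ω : Ω, MulAction.stabilizer N ω = ⊥)
    (g : G) (r : ℕ) (hr : 1 ≤ r) (hg : orderOf g = p ^ r) :
    p ^ (r - 1) ≤ m ∧ (r = m → m ≤ 2 ∧ (2 < p → m ≤ 1)) := by
  haveI : Fact p.Prime := ⟨hp⟩
  haveI := hNtr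
  haveI := hNc
  have hpos : 0 < Fintype.card Ω := hcard ▸ Nat.one_le_pow _ _ hp.pos
  obtain ⟨α⟩ : Nonempty Ω := Fintype.card_pos_iff.mp hpos
  have hNreg' : ∀ x ∈ N, x • α = α → x = 1 := fun x hx h => by
    have h2 : (⟨x, hx⟩ : N) ∈ MulAction.stabilizer N α := h
    rw [hNreg α, Subgroup.mem_bot] at h2
    exact congrArg Subtype.val h2
  -- `g = n h` with `h` fixing `α`
  obtain ⟨n, hn⟩ := MulAction.exists_smul_eq N α (g • α)
  set h := (n : G)⁻¹ * g with hhdef
  have hgh : g = (n : G) * h := by rw [hhdef]; group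
  have hhα : h • α = α := by rw [hhdef, mul_smul, ← hn]; exact inv_smul_smul (n : G) α
  have hcardN : Nat.card N = p ^ m := by
    rw [← hcard, ← Nat.card_eq_fintype_card]
    refine (Nat.card_eq_of_bijective (fun x : N => x • α) ⟨fun x y hxy => ?_, fun ω => MulAction.exists_smul_eq N α ω⟩)
    refine Subtype.ext ?_
    have h' := hNreg' ((y : G)⁻¹ * x) (mul_mem (inv_mem y.2) x.2) (by
      change (x : G) • α = (y : G) • α at hxy
      rw [mul_smul, hxy, inv_smul_smul])
    exact (inv_mul_eq_one.mp h').symm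
  set φ : MulAut N := MulAut.conjNormal h with hφdef
  have hTi : ∀ (i : ℕ) (x : N), (((φ ^ i) x : N) : G) = h ^ i * (x : G) * (h ^ i)⁻¹ := by
    intro i x
    rw [hφdef, ← map_pow, MulAut.conjNormal_apply]
  have hT : φ ^ (p ^ r) = 1 := by
    refine MulEquiv.ext fun x => ?_
    apply Subtype.ext
    rw [hTi, MulAut.one_apply]
    -- conjugation by `h` and by `g` agree on `N`
    have hconj : ∀ (i : ℕ) (y : G), y ∈ N → h ^ i * y * (h ^ i)⁻¹ = g ^ i * y * (g ^ i)⁻¹ := by
      intro i
      induction i with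
      | zero => intro y _; simp
      | succ i ih =>
        intro y hy
        have hy' : g ^ i * y * (g ^ i)⁻¹ ∈ N := (inferInstance : N.Normal).conj_mem y hy _
        have hz : h * (g ^ i * y * (g ^ i)⁻¹) * h⁻¹ ∈ N := (inferInstance : N.Normal).conj_mem _ hy' _
        calc h ^ (i + 1) * y * (h ^ (i + 1))⁻¹ = h * (h ^ i * y * (h ^ i)⁻¹) * h⁻¹ := by rw [pow_succ']; group
          _ = h * (g ^ i * y * (g ^ i)⁻¹) * h⁻¹ := by rw [ih y hy]
          _ = (n : G) * (h * (g ^ i * y * (g ^ i)⁻¹) * h⁻¹) * (n : G)⁻¹ := by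
            rw [show (n : G) * (h * (g ^ i * y * (g ^ i)⁻¹) * h⁻¹) = (h * (g ^ i * y * (g ^ i)⁻¹) * h⁻¹) * n from
              congrArg Subtype.val (mul_comm' n (⟨_, hz⟩ : N))]
            group
          _ = g ^ (i + 1) * y * (g ^ (i + 1))⁻¹ := by
            rw [show g ^ (i + 1) = (n : G) * h * g ^ i by rw [pow_succ', ← hgh]]
            group
    rw [hconj _ _ x.2, ← hg, pow_orderOf_eq_one]
    group
  have hkey : p ^ (r - 1) ≤ m := by
    by_contra hlt
    obtain ⟨hq, hS⟩ := aut_facts p (A := N) (fun a => Subtype.ext (by simpa using hNp _ a.2)) m hcardN φ r hT (r - 1) (by omega)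
    have hprod : ∀ i : ℕ, g ^ i = ((∏ j ∈ Finset.range i, (φ ^ j) n : N) : G) * h ^ i := by
      intro i
      induction i with
      | zero => simp
      | succ i ih =>
        rw [Finset.prod_range_succ, Subgroup.coe_mul, hTi,
          pow_succ, ih, hgh, pow_succ]
        group
    have hh1 : h ^ (p ^ (r - 1)) = 1 := by
      refine H60.eq_one_of_forall_smul_eq (Ω := Ω) fun ω => ?_
      obtain ⟨y, rfl⟩ := MulAction.exists_smul_eq N α ω
      have := hTi (p ^ (r - 1)) y
      rw [hq, MulAut.one_apply, eq_mul_inv_iff_mul_eq] at this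
      rw [Subgroup.smul_def, ← mul_smul, ← this, mul_smul,
        show h ^ (p ^ (r - 1)) • α = α from MulAction.mem_stabilizer_iff.mp
          (pow_mem (MulAction.mem_stabilizer_iff.mpr hhα) _)]
    have := hprod (p ^ (r - 1))
    rw [hS, hh1, Subgroup.coe_one, one_mul] at this
    have h2 := orderOf_dvd_of_pow_eq_one this
    rw [hg, Nat.pow_dvd_pow_iff_le_right hp.one_lt] at h2
    omega
  refine ⟨hkey, ?_⟩
  rintro rfl
  have h1 : ∀ k : ℕ, 2 ≤ k → k + 1 < p ^ k ∨ p = 2 ∧ k = 1 := by
    intro k hk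
    left
    induction k, hk using Nat.le_induction with
    | base => have := Nat.pow_le_pow_left hp.two_le 2; omega
    | succ k hk ih =>
      rw [pow_succ]
      have := Nat.mul_le_mul_left (p ^ k) hp.two_le
      omega
  constructor
  · by_contra hc
    rcases h1 (r - 1) (by omega) with h | h <;> omega
  · intro hp2
    by_contra hc
    rcases Nat.lt_or_ge (r - 1) 2 with h | h
    · rw [show r - 1 = 1 by omega, pow_one] at hkey; omega
    · rcases h1 (r - 1) h with h | h <;> omega

end Cfsg.Agent.S3508
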