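import Cfsg.Statements.S3511
import Cfsg.Agent.H60.Basic

set_option autoImplicit false
open Cfsg

namespace Cfsg.Agent.S3511

/-- Let a finite group G act faithfully on a set Ω. If every element of G of square-free order has a regular cycle (an orbit of the cyclic group it generates with trivial stabilizer), then every element of G has a regular cycle. -/
theorem result {G : Type*} [Group G] [Finite G] {Ω : Type*} [MulAction G Ω] [FaithfulSMul G Ω]
    (h : ∀ g : G, Squarefree (orderOf g) → ∃ ω : Ω, MulAction.stabilizer (Subgroup.zpowers g) ω = ⊥) (g : G) :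
    ∃ ω : Ω, MulAction.stabilizer (Subgroup.zpowers g) ω = ⊥ := by
  classical
  set o := orderOf g with ho
  have ho0 : o ≠ 0 := (orderOf_pos g).ne'
  set R := ∏ q ∈ o.primeFactors, q with hR
  have hRd : R ∣ o := Nat.prod_primeFactors_dvd o
  have hord : orderOf (g ^ (o / R)) = R := orderOf_pow_orderOf_div ho0 hRd
  obtain ⟨ω, hω⟩ := h (g ^ (o / R)) (by
    rw [hord, hR]
    exact UniqueFactorizationMonoid.squarefree_radical (a := o) |> fun h => by
      simpa [Nat.radical_eq_prod_primeFactors] using h)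
  refine ⟨ω, ?_⟩
  by_contra hne
  obtain ⟨q, hq, hdvd⟩ := Nat.exists_prime_and_dvd (mt Subgroup.card_eq_one.mp hne)
  haveI : Fact q.Prime := ⟨hq⟩
  obtain ⟨x, hx⟩ := exists_prime_orderOf_dvd_card' q hdvd
  have hxz : orderOf ((x : Subgroup.zpowers g) : G) = q := by
    rw [Subgroup.orderOf_coe, Subgroup.orderOf_coe, hx]
  have hqo : q ∣ o := by
    rw [← hxz]
    exact orderOf_dvd_of_mem_zpowers (x : Subgroup.zpowers g).2
  have hqR : q ∣ R := Finset.dvd_prod_of_mem _ (Nat.mem_primeFactors.mpr ⟨hq, hqo, ho0⟩)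
  have hmem : ((x : Subgroup.zpowers g) : G) ∈ Subgroup.zpowers (g ^ (o / R)) := by
    have hpow : orderOf (g ^ (o / q)) = q := orderOf_pow_orderOf_div ho0 hqo
    let y : Subgroup.zpowers g := ⟨g ^ (o / q), Subgroup.pow_mem _ (Subgroup.mem_zpowers g) _⟩
    have hy : orderOf y = q := by rw [← Subgroup.orderOf_coe]; exact hpow
    have hx' := H60.mem_zpowers_of_pow_orderOf_eq_one inferInstance y (x : Subgroup.zpowers g)
      (by rw [hy, ← hx, ← Subgroup.orderOf_coe x]; exact pow_orderOf_eq_one _)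
    obtain ⟨j, hj⟩ := hx'
    obtain ⟨c, hc⟩ := hqR
    have hRdiv : o / q = o / R * c := by
      obtain ⟨e, he⟩ := hRd
      have hR0 : 0 < R := Finset.prod_pos fun a ha => (Nat.prime_of_mem_primeFactors ha).pos
      rw [he, Nat.mul_div_cancel_left _ hR0, hc, mul_assoc, Nat.mul_div_cancel_left _ hq.pos, mul_comm]
    refine ⟨(c : ℤ) * j, ?_⟩
    rw [← hj]
    simp only [y, SubgroupClass.coe_zpow]
    rw [hRdiv, pow_mul, zpow_mul, zpow_natCast]
  have hfix : ((x : Subgroup.zpowers g) : G) • ω = ω := MulAction.mem_stabilizer_iff.mp x.2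
  have : (⟨_, hmem⟩ : Subgroup.zpowers (g ^ (o / R))) ∈ MulAction.stabilizer (Subgroup.zpowers (g ^ (o / R))) ω := hfix
  rw [hω, Subgroup.mem_bot] at this
  have h1 : ((x : Subgroup.zpowers g) : G) = 1 := congrArg Subtype.val this
  rw [h1, orderOf_one] at hxz
  exact hq.one_lt.ne hxz

end Cfsg.Agent.S3511
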