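import Cfsg.Statements.S3514

set_option autoImplicit false
open Cfsg

namespace Cfsg.Agent.S3514

theorem orbit_card {p : ℕ} {V : Type*} [AddCommGroup V] [Module (ZMod p) V]
    (H : Subgroup (V ≃ₗ[ZMod p] V)) (v : V) :
    Nat.card {u : V | ∃ h ∈ H, h v = u} =
      (MulAction.stabilizer (V ≃ₗ[ZMod p] V) v).relIndex H := by
  have hset : {u : V | ∃ h ∈ H, h v = u} = MulAction.orbit H v := by
    ext u
    exact ⟨fun ⟨h, hh, he⟩ => ⟨⟨h, hh⟩, he⟩, fun ⟨⟨h, hh⟩, he⟩ => ⟨h, hh, he⟩⟩
  rw [hset, Nat.card_congr (MulAction.orbitEquivQuotientStabilizer H v)]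
  rfl


/-- Let p be a prime, V a finite vector space over the field with p elements, and H a group of linear transformations of V all of whose orbits on V have size coprime to p. (i) Every normal subgroup K of H has all its orbits on V of size coprime to p. (ii) If N is a group of linear transformations of V of order coprime to p that is normalized by H, then the group generated by N and H has all its orbits on V of size coprime to p. -/
theorem result (p : ℕ) [Fact p.Prime] {V : Type*} [AddCommGroup V] [Module (ZMod p) V] [Finite V]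
    (H : Subgroup (V ≃ₗ[ZMod p] V)) (hH : ∀ v : V, ¬ p ∣ Nat.card {u : V | ∃ h ∈ H, h v = u}) :
    (∀ K : Subgroup (V ≃ₗ[ZMod p] V), K ≤ H → H ≤ Subgroup.normalizer (K : Set (V ≃ₗ[ZMod p] V)) →
        ∀ v : V, ¬ p ∣ Nat.card {u : V | ∃ k ∈ K, k v = u}) ∧
    (∀ N : Subgroup (V ≃ₗ[ZMod p] V), ¬ p ∣ Nat.card N → H ≤ Subgroup.normalizer (N : Set (V ≃ₗ[ZMod p] V)) →
        ∀ v : V, ¬ p ∣ Nat.card {u : V | ∃ x ∈ N ⊔ H, x v = u}) := by
  set S : V → Subgroup (V ≃ₗ[ZMod p] V) := fun v => MulAction.stabilizer (V ≃ₗ[ZMod p] V) v with hS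
  constructor
  · intro K hK hnorm v hd
    rw [orbit_card] at hd
    apply hH v
    rw [orbit_card]
    refine hd.trans ?_
    haveI : (K.subgroupOf H).Normal := Subgroup.normal_subgroupOf_of_le_normalizer hnorm
    -- `[K : K_v]` divides `[H : H_v]`
    have h1 : (S v).relIndex K = ((S v).subgroupOf H).relIndex (K.subgroupOf H) :=
      (Subgroup.relIndex_subgroupOf hK).symm
    show (S v).relIndex K ∣ ((S v).subgroupOf H).index
    rw [h1]
    set A := (S v).subgroupOf H
    set B := K.subgroupOf H
    have e1 : B.relIndex A * A.index = A.relIndex B * B.index := by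
      rw [← Subgroup.inf_relIndex_left A B, ← Subgroup.inf_relIndex_right A B,
        Subgroup.relIndex_mul_index inf_le_left, Subgroup.relIndex_mul_index inf_le_right]
    obtain ⟨d, hd'⟩ := Subgroup.relIndex_dvd_index_of_normal B A
    have hne : B.relIndex A ≠ 0 := by
      haveI : Finite (V ≃ₗ[ZMod p] V) := Finite.of_injective _ DFunLike.coe_injective
      exact Subgroup.index_ne_zero_of_finite
    rw [hd', mul_left_comm] at e1
    exact ⟨d, Nat.eq_of_mul_eq_mul_left (Nat.pos_of_ne_zero hne) e1⟩
  · intro N hN hnorm v hd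
    rw [orbit_card] at hd
    have hdvd : (S v).relIndex (N ⊔ H) ∣ (S v).relIndex H * H.relIndex (N ⊔ H) := by
      rw [← Subgroup.inf_relIndex_right (S v) H, Subgroup.relIndex_mul_relIndex _ _ _ inf_le_right le_sup_right]
      exact Subgroup.relIndex_dvd_of_le_left (N ⊔ H) inf_le_left
    rcases (Fact.out : p.Prime).dvd_mul.mp (hd.trans hdvd) with h | h
    · exact hH v (by rw [orbit_card]; exact h)
    · refine hN (h.trans ?_)
      -- `[NH : H]` divides `|N|`
      haveI : Finite (V ≃ₗ[ZMod p] V) := Finite.of_injective _ DFunLike.coe_injective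
      haveI : (N.subgroupOf (N ⊔ H)).Normal := Subgroup.normal_subgroupOf_of_le_normalizer
        (sup_le Subgroup.le_normalizer hnorm)
      have hsup : H.subgroupOf (N ⊔ H) ⊔ N.subgroupOf (N ⊔ H) = ⊤ := by
        rw [← Subgroup.subgroupOf_sup le_sup_right le_sup_left, sup_comm H N, Subgroup.subgroupOf_self]
      rw [← Nat.card_congr (Subgroup.subgroupOfEquivOfLe (le_sup_left : N ≤ N ⊔ H)).toEquiv,
        Subgroup.relIndex]
      set A := H.subgroupOf (N ⊔ H)
      set B := N.subgroupOf (N ⊔ H)
      obtain ⟨e, he⟩ : B.index ∣ Nat.card A := by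
        rw [← Subgroup.relIndex_top_right B, ← hsup, Subgroup.relIndex_sup_right]
        exact Subgroup.relIndex_dvd_card _ _
      have e1 := A.card_mul_index.trans B.card_mul_index.symm
      rw [he, mul_assoc, mul_comm (Nat.card B)] at e1
      exact ⟨e, by rw [← Nat.eq_of_mul_eq_mul_left (Nat.pos_of_ne_zero Subgroup.index_ne_zero_of_finite) e1, mul_comm]⟩

end Cfsg.Agent.S3514
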