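import Cfsg.Statements.S3515

set_option autoImplicit false
open Cfsg

namespace Cfsg.Agent.S3515

theorem cases_fin2 (p : ℕ) (hp : p = 2) (x : Fin 2 → ZMod p) :
    x = 0 ∨ x = ![1, 0] ∨ x = ![0, 1] ∨ x = ![1, 1] := by
  subst hp; revert x; decide


/-- Every primitive affine permutation group of degree p² is 3-closed. Let p be a prime and G a group of permutations of the plane V = F_p² consisting of affine maps x ↦ Ax + b, containing all translations, and acting primitively on V. Then any permutation σ of V that agrees on every triple of points with some element of G (σ preserves every G-orbit on ordered triples) already lies in G. -/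
theorem result (p : ℕ) [Fact p.Prime] (G : Subgroup (Equiv.Perm (Fin 2 → ZMod p)))
    (haff : (G : Set (Equiv.Perm (Fin 2 → ZMod p))) ⊆ {τ : Equiv.Perm (Fin 2 → ZMod p) | ∃ (A : (Fin 2 → ZMod p) ≃ₗ[ZMod p] (Fin 2 → ZMod p)) (b : Fin 2 → ZMod p), ∀ x, τ x = A x + b})
    (htrans : ∀ b : Fin 2 → ZMod p, ∃ g ∈ G, ∀ x, g x = x + b) (hprim : MulAction.IsPreprimitive G (Fin 2 → ZMod p))
    (σ : Equiv.Perm (Fin 2 → ZMod p)) (hσ : (∀ t : Fin 3 → (Fin 2 → ZMod p), ∃ g ∈ G, ∀ i, σ (t i) = g (t i))) : σ ∈ G := by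
  obtain ⟨g, hg, hgt⟩ := hσ ![0, ![1, 0], ![0, 1]]
  set τ : Equiv.Perm (Fin 2 → ZMod p) := g⁻¹ * σ with hτdef
  have h0 : τ 0 = 0 := by
    have := hgt 0
    simp at this
    simp [hτdef, this]
  have he1 : τ ![1, 0] = ![1, 0] := by
    have := hgt 1
    simp at this
    simp [hτdef, this]
  have he2 : τ ![0, 1] = ![0, 1] := by
    have := hgt 2
    simp at this
    simp [hτdef, this]
  have haf : ∀ x y z : Fin 2 → ZMod p, ∃ (A : (Fin 2 → ZMod p) ≃ₗ[ZMod p] (Fin 2 → ZMod p)) (b : Fin 2 → ZMod p),
      τ x = A x + b ∧ τ y = A y + b ∧ τ z = A z + b := by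
    intro x y z
    obtain ⟨h, hh, hht⟩ := hσ ![x, y, z]
    obtain ⟨A, b, hAb⟩ := haff (G.mul_mem (G.inv_mem hg) hh)
    exact ⟨A, b, by simpa [hτdef, ← hAb] using hht 0, by simpa [hτdef, ← hAb] using hht 1,
      by simpa [hτdef, ← hAb] using hht 2⟩
  have hline : ∀ (e : Fin 2 → ZMod p), τ e = e → ∀ a : ZMod p, τ (a • e) = a • e := by
    intro e he a
    obtain ⟨A, b, h1, h2, h3⟩ := haf 0 e (a • e)
    rw [h0, map_zero, zero_add] at h1
    rw [he, ← h1, add_zero] at h2
    rw [h3, ← h1, add_zero, map_smul, ← h2]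
  have : τ = 1 := by
    ext1 x
    rw [Equiv.Perm.one_apply]
    by_cases hp : p = 2
    · rcases cases_fin2 p hp x with h | h | h | h <;> rw [h]
      · exact h0
      · exact he1
      · exact he2
      · rcases cases_fin2 p hp (τ ![1, 1]) with h' | h' | h' | h'
        · exact absurd (τ.injective (h'.trans h0.symm)) (by intro e; simpa using congrFun e 0)
        · exact absurd (τ.injective (h'.trans he1.symm)) (by intro e; simpa using congrFun e 1)
        · exact absurd (τ.injective (h'.trans he2.symm)) (by intro e; simpa using congrFun e 0)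
        · exact h'
    · have h2 : (2 : ZMod p) ≠ 0 := by
        intro h
        have h' : ((2 : ℕ) : ZMod p) = 0 := by exact_mod_cast h
        rw [CharP.cast_eq_zero_iff (ZMod p) p] at h'
        exact hp ((Nat.prime_dvd_prime_iff_eq Fact.out Nat.prime_two).mp h')
      set u : Fin 2 → ZMod p := (2 * x 0) • ![1, 0]
      set v : Fin 2 → ZMod p := (2 * x 1) • ![0, 1]
      obtain ⟨A, b, hu, hv, hx⟩ := haf u v x
      have hxuv : (2 : ZMod p) • x = u + v := by ext i; fin_cases i <;> simp [u, v]
      have hAx : (2 : ZMod p) • (A x + b) = (A u + b) + (A v + b) := by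
        rw [smul_add, ← map_smul, hxuv, map_add, two_smul]; abel
      rw [← hx, ← hu, ← hv, hline _ he1, hline _ he2, ← hxuv] at hAx
      exact smul_right_injective _ h2 hAx
  have : σ = g := by
    rw [hτdef, inv_mul_eq_one] at this; exact this.symm
  exact this ▸ hg

end Cfsg.Agent.S3515
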