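import Cfsg.Statements.S3516

set_option autoImplicit false
open Cfsg

namespace Cfsg.Agent.S3516

/-- Let p be an odd prime, d ≥ 3, and G a group of affine permutations x ↦ Ax + b of V = F_p^d containing all translations and all maps x ↦ Ax with A of determinant 1. Then the 3-closure of G is the full affine group: a permutation σ of V agrees on every triple of points with some element of G if and only if σ is an affine map. -/
theorem result (p : ℕ) [Fact p.Prime] (hp : p ≠ 2) (d : ℕ) (hd : 3 ≤ d) (G : Subgroup (Equiv.Perm (Fin d → ZMod p)))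
    (haff : (G : Set (Equiv.Perm (Fin d → ZMod p))) ⊆ {τ : Equiv.Perm (Fin d → ZMod p) | ∃ (A : (Fin d → ZMod p) ≃ₗ[ZMod p] (Fin d → ZMod p)) (b : Fin d → ZMod p), ∀ x, τ x = A x + b})
    (htrans : ∀ b : Fin d → ZMod p, ∃ g ∈ G, ∀ x, g x = x + b)
    (hsl : ∀ A : (Fin d → ZMod p) ≃ₗ[ZMod p] (Fin d → ZMod p), LinearMap.det (A : (Fin d → ZMod p) →ₗ[ZMod p] (Fin d → ZMod p)) = 1 → ∃ g ∈ G, ∀ x, g x = A x)
    (σ : Equiv.Perm (Fin d → ZMod p)) :
    (∀ t : Fin 3 → (Fin d → ZMod p), ∃ g ∈ G, ∀ i, σ (t i) = g (t i)) ↔ σ ∈ {τ : Equiv.Perm (Fin d → ZMod p) | ∃ (A : (Fin d → ZMod p) ≃ₗ[ZMod p] (Fin d → ZMod p)) (b : Fin d → ZMod p), ∀ x, τ x = A x + b} := by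
  constructor
  · intro h
    have haf : ∀ x y z : Fin d → ZMod p, ∃ (A : (Fin d → ZMod p) ≃ₗ[ZMod p] (Fin d → ZMod p)) (b : Fin d → ZMod p),
        σ x = A x + b ∧ σ y = A y + b ∧ σ z = A z + b := by
      intro x y z
      obtain ⟨g, hg, hgt⟩ := h ![x, y, z]
      obtain ⟨A, b, hAb⟩ := haff hg
      exact ⟨A, b, by simpa [← hAb] using hgt 0, by simpa [← hAb] using hgt 1, by simpa [← hAb] using hgt 2⟩
    have h2 : (2 : ZMod p) ≠ 0 := by
      intro h
      have h' : ((2 : ℕ) : ZMod p) = 0 := by exact_mod_cast h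
      rw [CharP.cast_eq_zero_iff (ZMod p) p] at h'
      exact hp ((Nat.prime_dvd_prime_iff_eq Fact.out Nat.prime_two).mp h')
    let τ : (Fin d → ZMod p) → (Fin d → ZMod p) := fun x => σ x - σ 0
    have hsmul : ∀ (a : ZMod p) x, τ (a • x) = a • τ x := by
      intro a x
      obtain ⟨A, b, h0, h1, h3⟩ := haf 0 x (a • x)
      simp [τ, h0, h1, h3]
    have hadd : ∀ x y, τ (x + y) = τ x + τ y := by
      intro x y
      obtain ⟨A, b, hx, hy, hm⟩ := haf x y ((2 : ZMod p)⁻¹ • (x + y))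
      have key : (2 : ZMod p) • σ ((2 : ZMod p)⁻¹ • (x + y)) = σ x + σ y := by
        rw [hx, hy, hm, smul_add, map_smul, smul_inv_smul₀ h2, map_add, two_smul]; abel
      have h4 : (2 : ZMod p) • τ ((2 : ZMod p)⁻¹ • (x + y)) = τ x + τ y := by
        simp only [τ, smul_sub, key, two_smul]; abel
      rwa [← hsmul, smul_inv_smul₀ h2] at h4
    have hbij : Function.Bijective τ := by
      have : τ = (fun y => y - σ 0) ∘ σ := rfl
      rw [this]
      exact (Equiv.subRight (σ 0)).bijective.comp σ.bijective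
    exact ⟨LinearEquiv.ofBijective ({ toFun := τ, map_add' := hadd, map_smul' := hsmul } : (Fin d → ZMod p) →ₗ[ZMod p] (Fin d → ZMod p)) hbij,
      σ 0, fun x => by simp [τ]⟩
  · rintro ⟨A, b, hAb⟩ t
    set W := Submodule.span (ZMod p) (Set.range ![t 1 - t 0, t 2 - t 0])
    have hW : W < ⊤ := by
      refine lt_top_iff_ne_top.mpr fun h => ?_
      have h1 := finrank_range_le_card (R := ZMod p) ![t 1 - t 0, t 2 - t 0]
      have h2 : Module.finrank (ZMod p) W = d := by rw [h, finrank_top, Module.finrank_fin_fun]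
      rw [Set.finrank, Fintype.card_fin] at h1
      change Module.finrank (ZMod p) W ≤ _ at h1
      omega
    obtain ⟨φ, hφ0, hφ⟩ := Submodule.exists_le_ker_of_lt_top W hW
    obtain ⟨w, hw⟩ : ∃ w, φ w ≠ 0 := by
      by_contra hc
      push Not at hc
      exact hφ0 (LinearMap.ext hc)
    set D := LinearMap.det (A : (Fin d → ZMod p) →ₗ[ZMod p] (Fin d → ZMod p))
    have hD : D ≠ 0 := (LinearEquiv.isUnit_det' A).ne_zero
    set M := (A : (Fin d → ZMod p) →ₗ[ZMod p] (Fin d → ZMod p)) ∘ₗ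
      LinearMap.transvection φ (((D⁻¹ - 1) / φ w) • w)
    have hM : LinearMap.det M = 1 := by
      rw [LinearMap.det_comp, LinearMap.transvection.det, map_smul, smul_eq_mul, div_mul_cancel₀ _ hw,
        add_sub_cancel, mul_inv_cancel₀ hD]
    obtain ⟨g, hg, hgB⟩ := hsl (LinearMap.equivOfDetNeZero M (by rw [hM]; exact one_ne_zero)) (by
      refine Eq.trans ?_ hM
      congr 1)
    obtain ⟨g', hg', hg'B⟩ := htrans (σ (t 0) - M (t 0))
    refine ⟨g' * g, G.mul_mem hg' hg, fun i => ?_⟩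
    have hB : ∀ x, g x = M x := fun x => hgB x
    rw [Equiv.Perm.mul_apply, hg'B, hB]
    have hMW : ∀ x ∈ W, M x = A x := by
      intro x hx
      have hx0 : φ x = 0 := hφ hx
      simp [M, LinearMap.transvection.apply, hx0]
    have key : ∀ x, x - t 0 ∈ W → σ x = M x + (σ (t 0) - M (t 0)) := by
      intro x hx
      have := hMW _ hx
      rw [map_sub, map_sub] at this
      rw [hAb, hAb]
      calc A x + b = (A x - A (t 0)) + (A (t 0) + b) := by abel
        _ = _ := by rw [← this]; abel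
    fin_cases i
    · exact key _ (by simp)
    · exact key _ (Submodule.subset_span ⟨0, rfl⟩)
    · exact key _ (Submodule.subset_span ⟨1, rfl⟩)

end Cfsg.Agent.S3516
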