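import Cfsg.Statements.S3517

set_option autoImplicit false
open Cfsg

namespace Cfsg.Agent.S3517

open Module in
theorem exists_equiv_of_li {K V ι : Type*} [Field K] [AddCommGroup V] [Module K V]
    [FiniteDimensional K V] {x y : ι → V} (hx : LinearIndependent K x) (hy : LinearIndependent K y) :
    ∃ A : V ≃ₗ[K] V, ∀ i, A (x i) = y i := by
  set W := Submodule.span K (Set.range x)
  set W' := Submodule.span K (Set.range y)
  let e1 : W ≃ₗ[K] W' := hx.linearCombinationEquiv.symm ≪≫ₗ hy.linearCombinationEquiv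
  obtain ⟨P, hP⟩ := Submodule.exists_isCompl W
  obtain ⟨Q, hQ⟩ := Submodule.exists_isCompl W'
  have h : finrank K P = finrank K Q := by
    have h1 := Submodule.finrank_add_eq_of_isCompl hP
    have h2 := Submodule.finrank_add_eq_of_isCompl hQ
    have h3 := e1.finrank_eq
    omega
  refine ⟨(Submodule.prodEquivOfIsCompl W P hP).symm ≪≫ₗ (e1.prodCongr (LinearEquiv.ofFinrankEq _ _ h))
    ≪≫ₗ Submodule.prodEquivOfIsCompl W' Q hQ, fun i => ?_⟩
  have hi : x i ∈ W := Submodule.subset_span ⟨i, rfl⟩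
  have h1 : hx.linearCombinationEquiv.symm ⟨x i, hi⟩ = Finsupp.single i 1 := by
    rw [LinearEquiv.symm_apply_eq]
    ext
    simp
  have h4 : (Submodule.prodEquivOfIsCompl W P hP).symm (x i) = (⟨x i, hi⟩, 0) :=
    Submodule.prodEquivOfIsCompl_symm_apply_left _ _ hP ⟨x i, hi⟩
  simp [h4, e1, h1]
  exact (LinearIndependent.linearCombinationEquiv_apply_coe hy _).trans (by simp)

theorem zmod_two_cases (c : ZMod 2) : c = 0 ∨ c = 1 := by revert c; decide


/-- For d ≥ 3, the 3-closure of the affine group AGL_d(2) acting on F_2^d is the full symmetric group: every permutation of F_2^d agrees on every ordered triple of points with some affine map (AGL_d(2) is 3-transitive). -/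
theorem result (d : ℕ) (hd : 3 ≤ d) (σ : Equiv.Perm (Fin d → ZMod 2)) (t : Fin 3 → (Fin d → ZMod 2)) :
    ∃ (A : (Fin d → ZMod 2) ≃ₗ[ZMod 2] (Fin d → ZMod 2)) (b : Fin d → ZMod 2), ∀ i, σ (t i) = A (t i) + b := by
  suffices h : ∀ u v u' v' : Fin d → ZMod 2, (u = 0 ↔ u' = 0) → (v = 0 ↔ v' = 0) → (u = v ↔ u' = v') →
      ∃ A : (Fin d → ZMod 2) ≃ₗ[ZMod 2] (Fin d → ZMod 2), A u = u' ∧ A v = v' by
    obtain ⟨A, h1, h2⟩ := h (t 1 - t 0) (t 2 - t 0) (σ (t 1) - σ (t 0)) (σ (t 2) - σ (t 0))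
      (by rw [sub_eq_zero, sub_eq_zero]; exact σ.injective.eq_iff.symm)
      (by rw [sub_eq_zero, sub_eq_zero]; exact σ.injective.eq_iff.symm)
      (by rw [sub_left_inj, sub_left_inj]; exact σ.injective.eq_iff.symm)
    refine ⟨A, σ (t 0) - A (t 0), fun i => ?_⟩
    fin_cases i
    · simp
    · show σ (t 1) = A (t 1) + (σ (t 0) - A (t 0))
      rw [map_sub] at h1
      rw [show σ (t 1) = σ (t 1) - σ (t 0) + σ (t 0) by simp, ← h1]
      abel
    · show σ (t 2) = A (t 2) + (σ (t 0) - A (t 0))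
      rw [map_sub] at h2
      rw [show σ (t 2) = σ (t 2) - σ (t 0) + σ (t 0) by simp, ← h2]
      abel
  intro u v u' v' hu hv huv
  have one : ∀ w : Fin d → ZMod 2, w ≠ 0 → LinearIndependent (ZMod 2) ![w] := fun w hw =>
    LinearIndependent.of_subsingleton (0 : Fin 1) hw
  have two : ∀ w z : Fin d → ZMod 2, w ≠ 0 → z ≠ 0 → w ≠ z → LinearIndependent (ZMod 2) ![w, z] := by
    intro w z hw hz hwz
    rw [LinearIndependent.pair_iff]
    intro a b hab
    rcases zmod_two_cases a with rfl | rfl <;> rcases zmod_two_cases b with rfl | rfl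
    · exact ⟨rfl, rfl⟩
    · simp at hab; exact absurd hab hz
    · simp at hab; exact absurd hab hw
    · simp at hab
      exact absurd (by rw [eq_neg_of_add_eq_zero_left hab, ZModModule.neg_eq_self]) hwz
  rcases eq_or_ne u 0 with h1 | h1
  · have h1' := hu.mp h1
    rcases eq_or_ne v 0 with h2 | h2
    · exact ⟨LinearEquiv.refl _ _, by simp [h1, h1'], by simp [h2, hv.mp h2]⟩
    · obtain ⟨A, hA⟩ := exists_equiv_of_li (one v h2) (one v' (mt hv.mpr h2))
      exact ⟨A, by simp [h1, h1'], hA 0⟩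
  · obtain h1' := mt hu.mpr h1
    rcases eq_or_ne v 0 with h2 | h2
    · obtain ⟨A, hA⟩ := exists_equiv_of_li (one u h1) (one u' h1')
      exact ⟨A, hA 0, by simp [h2, hv.mp h2]⟩
    · rcases eq_or_ne u v with h3 | h3
      · obtain ⟨A, hA⟩ := exists_equiv_of_li (one u h1) (one u' h1')
        exact ⟨A, hA 0, by rw [← h3, ← huv.mp h3]; exact hA 0⟩
      · obtain ⟨A, hA⟩ := exists_equiv_of_li (two u v h1 h2 h3) (two u' v' h1' (mt hv.mpr h2) (mt huv.mpr h3))
        exact ⟨A, hA 0, hA 1⟩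

end Cfsg.Agent.S3517
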