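import Cfsg.Statements.S3518

set_option autoImplicit false
open Cfsg

namespace Cfsg.Agent.S3518

open Polynomial in
theorem linear_of_pow_differences (p : ℕ) [Fact p.Prime] (e : ℕ) (he1 : 1 ≤ e) (he : 2 * e + 1 ≤ p)
    (f : ZMod p → ZMod p) (hf : ∀ x y, (f y - f x) ^ e = (y - x) ^ e) :
    ∃ a b : ZMod p, ∀ x, f x = a * x + b := by
  classical
  have hzero : ∀ g : (ZMod p)[X], g.natDegree < p → (∀ x, g.eval x = 0) → g = 0 := by
    intro g hg h
    refine eq_zero_of_natDegree_lt_card_of_eval_eq_zero' g Finset.univ (fun x _ => h x) ?_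
    rwa [Finset.card_univ, ZMod.card]
  let P : Submodule (ZMod p) (ZMod p → ZMod p) :=
    Submodule.span (ZMod p) (Set.range fun i : Fin (e + 1) => fun y => y ^ (i : ℕ))
  let W : Submodule (ZMod p) (ZMod p → ZMod p) :=
    Submodule.span (ZMod p) (Set.range fun i : Fin (e + 1) => fun y => f y ^ (i : ℕ))
  have hUW : ∀ x, (fun y => (y - x) ^ e) ∈ W := by
    intro x
    have : (fun y => (y - x) ^ e) = ∑ i : Fin (e + 1),
        ((-f x) ^ (e - (i : ℕ)) * (e.choose i : ZMod p)) • (fun y => f y ^ (i : ℕ)) := by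
      funext y
      rw [← hf x y, sub_eq_add_neg, add_pow, Finset.sum_range, Finset.sum_apply]
      refine Finset.sum_congr rfl fun i _ => ?_
      simp only [Pi.smul_apply, smul_eq_mul]
      ring
    rw [this]
    exact Submodule.sum_mem _ fun i _ => Submodule.smul_mem _ _ (Submodule.subset_span ⟨i, rfl⟩)
  have hPW : P ≤ W := by
    rw [Submodule.span_le]
    rintro _ ⟨j, rfl⟩
    by_contra hnot
    obtain ⟨φ, hφj, hφW⟩ := Submodule.exists_le_ker_of_notMem hnot
    let g : (ZMod p)[X] := ∑ i : Fin (e + 1),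
      C ((e.choose i : ZMod p) * φ (fun y => y ^ (i : ℕ))) * (-X) ^ (e - (i : ℕ))
    have hdeg : g.natDegree < p := by
      refine lt_of_le_of_lt (natDegree_sum_le_of_forall_le _ _ fun i _ => ?_) (show e < p by omega)
      refine (natDegree_C_mul_le _ _).trans ?_
      refine natDegree_pow_le.trans ?_
      rw [natDegree_neg, natDegree_X, mul_one]
      omega
    have hg0 : g = 0 := hzero g hdeg fun x => by
      have h0 : φ (fun y => (y - x) ^ e) = 0 := hφW (hUW x)
      have he' : (fun y => (y - x) ^ e) = ∑ i : Fin (e + 1),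
          ((-x) ^ (e - (i : ℕ)) * (e.choose i : ZMod p)) • (fun y => y ^ (i : ℕ)) := by
        funext y
        rw [sub_eq_add_neg, add_pow, Finset.sum_range, Finset.sum_apply]
        refine Finset.sum_congr rfl fun i _ => ?_
        simp only [Pi.smul_apply, smul_eq_mul]
        ring
      rw [he', map_sum] at h0
      simp only [map_smul, smul_eq_mul] at h0
      rw [← h0]
      simp only [g, eval_finset_sum, eval_mul, eval_C, eval_pow, eval_neg, eval_X]
      refine Finset.sum_congr rfl fun i _ => ?_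
      ring
    have hc := congrArg (fun q => q.coeff (e - (j : ℕ))) hg0
    simp only [g, finset_sum_coeff, coeff_zero] at hc
    rw [Finset.sum_eq_single j] at hc
    · rw [neg_pow, show ((-1 : (ZMod p)[X]) ^ (e - (j : ℕ))) = C ((-1) ^ (e - (j : ℕ))) by simp,
        ← mul_assoc, ← C_mul, coeff_C_mul_X_pow, if_pos rfl] at hc
      have hch : (e.choose j : ZMod p) ≠ 0 := by
        rw [Ne, CharP.cast_eq_zero_iff (ZMod p) p]
        intro hd
        have hj : (j : ℕ) ≤ e := Nat.lt_succ_iff.mp j.2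
        have h2 : p ∣ e.factorial := Nat.choose_mul_factorial_mul_factorial hj ▸ (hd.mul_right _).mul_right _
        exact absurd ((Fact.out : p.Prime).dvd_factorial.mp h2) (by omega)
      simp [hch] at hc
      exact hφj hc
    · intro i _ hij
      rw [neg_pow, show ((-1 : (ZMod p)[X]) ^ (e - (i : ℕ))) = C ((-1) ^ (e - (i : ℕ))) by simp,
        ← mul_assoc, ← C_mul, coeff_C_mul_X_pow, if_neg]
      intro h
      exact hij (Fin.ext (by have := i.2; have := j.2; omega))
    · simp
  have hP : e + 1 ≤ Module.finrank (ZMod p) P := by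
    have hli : LinearIndependent (ZMod p) (fun i : Fin (e + 1) => fun y : ZMod p => y ^ (i : ℕ)) := by
      rw [Fintype.linearIndependent_iff]
      intro c hc i
      let g : (ZMod p)[X] := ∑ i : Fin (e + 1), C (c i) * X ^ (i : ℕ)
      have hg0 : g = 0 := hzero g (lt_of_le_of_lt (natDegree_sum_le_of_forall_le _ _ fun i _ =>
          (natDegree_C_mul_X_pow_le _ _).trans (Nat.lt_succ_iff.mp i.2)) (by omega)) fun x => by
        simpa [g, eval_finset_sum] using congrFun hc x
      have h := congrArg (fun q => q.coeff (i : ℕ)) hg0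
      simp only [g, finset_sum_coeff, coeff_zero, coeff_C_mul_X_pow] at h
      rw [Finset.sum_eq_single i] at h
      · simpa using h
      · intro k _ hk
        rw [if_neg fun hh => hk (Fin.ext hh.symm)]
      · simp
    rw [finrank_span_eq_card hli, Fintype.card_fin]
  have hW : Module.finrank (ZMod p) W ≤ e + 1 :=
    (finrank_range_le_card (R := ZMod p) (fun i : Fin (e + 1) => fun y => f y ^ (i : ℕ))).trans
      (by rw [Fintype.card_fin])
  have hPeq : P = W := Submodule.eq_of_le_of_finrank_le hPW (hW.trans hP)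
  -- every element of `W` is a polynomial function of degree at most `e`
  have hpoly : ∀ i ≤ e, ∃ h : (ZMod p)[X], h.natDegree ≤ e ∧ ∀ y, f y ^ i = h.eval y := by
    intro i hi
    have hmem : (fun y => f y ^ i) ∈ P := hPeq ▸ Submodule.subset_span ⟨⟨i, by omega⟩, rfl⟩
    obtain ⟨c, hc⟩ := (Submodule.mem_span_range_iff_exists_fun (ZMod p)).mp hmem
    refine ⟨∑ k : Fin (e + 1), C (c k) * X ^ (k : ℕ),
      natDegree_sum_le_of_forall_le _ _ (fun k _ => (natDegree_C_mul_X_pow_le _ _).trans (Nat.lt_succ_iff.mp k.2)),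
      fun y => ?_⟩
    rw [show f y ^ i = _ from (congrFun hc y).symm]
    simp [eval_finset_sum]
  obtain ⟨g, hgd, hg⟩ := hpoly 1 he1
  simp only [pow_one] at hg
  by_cases hn : g.natDegree ≤ 1
  · refine ⟨g.coeff 1, g.coeff 0, fun x => ?_⟩
    rw [hg]
    conv_lhs => rw [eq_X_add_C_of_natDegree_le_one hn]
    simp
  exfalso
  set n := g.natDegree with hndef
  -- the least multiple of `n` exceeding `e`
  set i := e / n + 1 with hidef
  have hmod := Nat.div_add_mod e n
  have hlt := Nat.mod_lt e (show 0 < n by omega)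
  have hi1 : e < n * i ∧ n * i ≤ e + n := by rw [hidef, mul_add, mul_one]; omega
  have hie : i ≤ e := by
    have h2 : 2 * (e / n) ≤ n * (e / n) := Nat.mul_le_mul_right _ (by omega)
    omega
  obtain ⟨h, hhd, hh⟩ := hpoly i hie
  have hdeg : (g ^ i).natDegree = n * i := by rw [natDegree_pow, mul_comm]
  have h0 : g ^ i - h = 0 := hzero _
    (lt_of_le_of_lt (natDegree_sub_le _ _) (max_lt (by omega) (by omega)))
    fun x => by rw [eval_sub, eval_pow, ← hg, hh, sub_self]
  rw [sub_eq_zero] at h0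
  rw [h0] at hdeg
  omega


/-- Closures of subgroups of the one-dimensional affine group. Let p be a prime and G a group of permutations of F_p lying in the affine group AGL₁(p) = {x ↦ ax + b, a ≠ 0} and containing all translations. (1) If G is a proper subgroup of AGL₁(p), then G is 2-closed: a permutation of F_p agreeing on every ordered pair of points with some element of G lies in G. (2) Every permutation of F_p agrees on every ordered pair with some element of AGL₁(p) (the 2-closure of AGL₁(p) is the symmetric group). (3) AGL₁(p) is 3-closed: a permutation agreeing on every ordered triple with some affine map is affine. -/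
theorem result (p : ℕ) [Fact p.Prime] (G : Subgroup (Equiv.Perm (ZMod p))) (hG : G ≤ Cfsg.affineGroup (ZMod p))
    (htrans : ∀ b : ZMod p, ∃ g ∈ G, ∀ x, g x = x + b) :
    (G ≠ Cfsg.affineGroup (ZMod p) → ∀ σ : Equiv.Perm (ZMod p), (∀ t : Fin 2 → ZMod p, ∃ g ∈ G, ∀ i, σ (t i) = g (t i)) → σ ∈ G) ∧
    (∀ σ : Equiv.Perm (ZMod p), (∀ t : Fin 2 → ZMod p, ∃ g ∈ Cfsg.affineGroup (ZMod p), ∀ i, σ (t i) = g (t i))) ∧
    (∀ σ : Equiv.Perm (ZMod p), (∀ t : Fin 3 → ZMod p, ∃ g ∈ Cfsg.affineGroup (ZMod p), ∀ i, σ (t i) = g (t i)) → σ ∈ Cfsg.affineGroup (ZMod p)) := by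
  classical
  have haff : ∀ {g : Equiv.Perm (ZMod p)}, g ∈ Cfsg.affineGroup (ZMod p) →
      ∃ a : (ZMod p)ˣ, ∃ b : ZMod p, ∀ x, g x = (a : ZMod p) * x + b := fun h => h
  have hline : ∀ {g h : Equiv.Perm (ZMod p)}, g ∈ Cfsg.affineGroup (ZMod p) →
      h ∈ Cfsg.affineGroup (ZMod p) → ∀ x y, x ≠ y → g x = h x → g y = h y → g = h := by
    intro g h hg hh x y hxy e1 e2
    obtain ⟨a, b, hab⟩ := haff hg
    obtain ⟨c, d, hcd⟩ := haff hh
    rw [hab, hcd] at e1 e2
    have hac : ((a : ZMod p) - c) * (x - y) = 0 := by linear_combination e1 - e2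
    rcases mul_eq_zero.mp hac with h1 | h1
    · rw [sub_eq_zero] at h1
      rw [h1, add_left_cancel_iff] at e1
      exact Equiv.ext fun z => by rw [hab, hcd, h1, e1]
    · exact absurd (sub_eq_zero.mp h1) hxy
  have hmk : ∀ (a : (ZMod p)ˣ) (b : ZMod p), ∃ g ∈ Cfsg.affineGroup (ZMod p), ∀ x, g x = (a : ZMod p) * x + b :=
    fun a b => ⟨(Units.mulLeft a).trans (Equiv.addRight b), ⟨a, b, fun x => rfl⟩, fun x => rfl⟩
  refine ⟨?_, ?_, ?_⟩
  · intro hne σ hσ
    let M : Subgroup (ZMod p)ˣ :=
      { carrier := {a | ∃ g ∈ G, ∀ x, g x = (a : ZMod p) * x}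
        one_mem' := ⟨1, G.one_mem, fun x => by simp⟩
        mul_mem' := by
          rintro a b ⟨g, hg, hga⟩ ⟨h, hh, hhb⟩
          exact ⟨g * h, G.mul_mem hg hh, fun x => by rw [Equiv.Perm.mul_apply, hhb, hga, Units.val_mul, mul_assoc]⟩
        inv_mem' := by
          rintro a ⟨g, hg, hga⟩
          exact ⟨g⁻¹, G.inv_mem hg, fun x => by rw [Equiv.Perm.inv_eq_iff_eq, hga, Units.mul_inv_cancel_left]⟩ }
    have hlin : ∀ g ∈ G, ∀ (a : (ZMod p)ˣ) (b : ZMod p), (∀ x, g x = (a : ZMod p) * x + b) → a ∈ M := by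
      intro g hg a b hab
      obtain ⟨t, ht, htb⟩ := htrans (-b)
      exact ⟨t * g, G.mul_mem ht hg, fun x => by rw [Equiv.Perm.mul_apply, htb, hab, add_neg_cancel_right]⟩
    have hM : M ≠ ⊤ := by
      intro h
      apply hne
      refine le_antisymm hG fun g hg => ?_
      obtain ⟨a, b, hab⟩ := haff hg
      obtain ⟨l, hl, hla⟩ : a ∈ M := h ▸ Subgroup.mem_top a
      obtain ⟨t, ht, htb⟩ := htrans b
      have : g = t * l := Equiv.ext fun x => by rw [Equiv.Perm.mul_apply, htb, hla, hab]
      exact this ▸ G.mul_mem ht hl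
    have hcard : 2 * Nat.card M + 1 ≤ p := by
      have h1 := M.card_mul_index
      have h2 : 2 ≤ M.index := by
        have := Subgroup.index_ne_zero_of_finite (H := M)
        have : M.index ≠ 1 := fun h => hM (Subgroup.index_eq_one.mp h)
        omega
      rw [Nat.card_units, Nat.card_zmod] at h1
      have h3 : Nat.card M * 2 ≤ Nat.card M * M.index := Nat.mul_le_mul_left _ h2
      have := (Fact.out : p.Prime).pos
      omega
    obtain ⟨a, b, hab⟩ := linear_of_pow_differences p (Nat.card M) Nat.card_pos hcard σ fun x y => by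
      obtain ⟨g, hg, hgt⟩ := hσ ![x, y]
      obtain ⟨c, d, hcd⟩ := haff (hG hg)
      have hcM := hlin g hg c d hcd
      have hce : (c : ZMod p) ^ Nat.card M = 1 := by
        have := congrArg (fun u : M => ((u : (ZMod p)ˣ) : ZMod p)) (pow_card_eq_one' (x := (⟨c, hcM⟩ : M)))
        simpa only [SubmonoidClass.coe_pow, Units.val_pow_eq_pow_val, OneMemClass.coe_one, Units.val_one] using this
      have hx := hgt 0
      have hy := hgt 1
      simp at hx hy
      rw [hx, hy, hcd, hcd, show (c : ZMod p) * y + d - ((c : ZMod p) * x + d) = c * (y - x) by ring,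
        mul_pow, hce, one_mul]
    obtain ⟨g, hg, hgt⟩ := hσ ![0, 1]
    have ha : a ≠ 0 := by
      intro h
      have := σ.injective (show σ 0 = σ 1 by rw [hab, hab, h]; simp)
      exact zero_ne_one this
    have hσaff : σ ∈ Cfsg.affineGroup (ZMod p) := ⟨Units.mk0 a ha, b, fun x => hab x⟩
    have : σ = g := hline hσaff (hG hg) 0 1 zero_ne_one (hgt 0) (hgt 1)
    exact this ▸ hg
  · intro σ t
    by_cases h : t 0 = t 1
    · obtain ⟨g, hg, hgx⟩ := hmk 1 (σ (t 0) - t 0)
      refine ⟨g, hg, fun i => ?_⟩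
      fin_cases i
      · simp [hgx]
      · simp [hgx, ← h]
    · have hne : (σ (t 1) - σ (t 0)) / (t 1 - t 0) ≠ 0 :=
        div_ne_zero (sub_ne_zero.mpr fun e => h (σ.injective e).symm) (sub_ne_zero.mpr (Ne.symm h))
      obtain ⟨g, hg, hgx⟩ := hmk (Units.mk0 _ hne) (σ (t 0) - (σ (t 1) - σ (t 0)) / (t 1 - t 0) * t 0)
      refine ⟨g, hg, fun i => ?_⟩
      have h' : t 1 - t 0 ≠ 0 := sub_ne_zero.mpr (Ne.symm h)
      fin_cases i
      · simp [hgx]
      · simp [hgx]
        field_simp
        ring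
  · intro σ hσ
    obtain ⟨g, hg, hgt⟩ := hσ ![0, 1, 0]
    have : σ = g := by
      ext1 x
      obtain ⟨h, hh, hht⟩ := hσ ![0, 1, x]
      have h0 := hgt 0
      have h1 := hgt 1
      have k0 := hht 0
      have k1 := hht 1
      simp at h0 h1 k0 k1
      have hgh : g = h := hline hg hh 0 1 zero_ne_one (h0.symm.trans k0) (h1.symm.trans k1)
      have hx := hht 2
      simp at hx
      rw [hgh, hx]
    exact this ▸ hg

end Cfsg.Agent.S3518
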