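import Cfsg.Statements.S3520
import Cfsg.Agent.H60.Socle

set_option autoImplicit false
open Cfsg

namespace Cfsg.Agent.S3520

/-- Let a finite group G act faithfully and primitively on a finite set Ω with at least two points, suppose G is not almost simple (no non-abelian simple normal subgroup with trivial centralizer), and suppose the derangements of G form exactly two conjugacy classes. Then either Ω has 3 points and G has order 3; or G has a non-trivial abelian normal subgroup N acting regularly, every non-identity element of G fixes at most one point (so, when n > 3, G is a Frobenius group with kernel N), the number n of points is odd and a point stabilizer has order (n − 1)/2; or G is 2-transitive with a non-trivial abelian regular normal subgroup and some non-identity element fixes at least two points (a non-Frobenius 2-transitive affine group). -/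
theorem result {G : Type*} [Group G] [Finite G] {Ω : Type*} [Fintype Ω] [MulAction G Ω] [FaithfulSMul G Ω] (hΩ : 2 ≤ Fintype.card Ω) (hprim : MulAction.IsPreprimitive G Ω) (hnas : ¬ ∃ T : Subgroup G, T.Normal ∧ IsSimpleGroup T ∧ ¬ IsMulCommutative T ∧ Subgroup.centralizer (T : Set G) = ⊥)
    (hκ : Nat.card {c : ConjClasses G // ∃ g : G, ConjClasses.mk g = c ∧ ∀ ω : Ω, g • ω ≠ ω} = 2) (α : Ω) :
    (Fintype.card Ω = 3 ∧ Nat.card G = 3) ∨
    ((∃ N : Subgroup G, N.Normal ∧ N ≠ ⊥ ∧ IsMulCommutative N ∧ ∀ ω : Ω, MulAction.stabilizer N ω = ⊥) ∧ (∀ g : G, g ≠ 1 → Nat.card (MulAction.fixedBy Ω g) ≤ 1) ∧ ¬ 2 ∣ Fintype.card Ω ∧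
        2 * Nat.card (MulAction.stabilizer G α) = Fintype.card Ω - 1) ∨
    ((∃ N : Subgroup G, N.Normal ∧ N ≠ ⊥ ∧ IsMulCommutative N ∧ ∀ ω : Ω, MulAction.stabilizer N ω = ⊥) ∧ MulAction.IsMultiplyPretransitive G Ω 2 ∧ ∃ g : G, g ≠ 1 ∧ 2 ≤ Nat.card (MulAction.fixedBy Ω g)) := by
  classical
  haveI := hprim
  haveI : Nontrivial Ω := Fintype.one_lt_card_iff_nontrivial.mp hΩ
  obtain ⟨⟨c1, d1, hc1, hd1⟩, ⟨c2, d2, hc2, hd2⟩, hne12, huniv⟩ := Nat.card_eq_two_iff.mp hκ
  have hclass : ∀ g : G, (∀ ω : Ω, g • ω ≠ ω) → IsConj d1 g ∨ IsConj d2 g := by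
    intro g hg
    have := huniv.symm ▸ Set.mem_univ (⟨ConjClasses.mk g, g, rfl, hg⟩ :
      {c : ConjClasses G // ∃ g : G, ConjClasses.mk g = c ∧ ∀ ω : Ω, g • ω ≠ ω})
    simp only [Set.mem_insert_iff, Set.mem_singleton_iff, Subtype.mk.injEq] at this
    rw [← hc1, ← hc2, ConjClasses.mk_eq_mk_iff_isConj, ConjClasses.mk_eq_mk_iff_isConj] at this
    exact this.imp IsConj.symm IsConj.symm
  rcases H60.socle_cases (Ω := Ω) hnas with ⟨N, hNn, hNne, hmin, hab, htr, hreg⟩ |
      ⟨N, hNn, hNne, hmin, htr, S, _, _, m, hm, hS, ⟨e⟩, hcase⟩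
  · haveI := hNn
    haveI := htr
    have hder : ∀ n ∈ N, n ≠ 1 → ∀ ω : Ω, n • ω ≠ ω := fun n hn h ω hω => h (hreg n hn ω hω)
    have haff : ∃ N : Subgroup G, N.Normal ∧ N ≠ ⊥ ∧ IsMulCommutative N ∧
        ∀ ω : Ω, MulAction.stabilizer N ω = ⊥ := ⟨N, hNn, hNne, ⟨⟨fun a b => Subtype.ext (hab a a.2 b b.2)⟩⟩,
      fun a => eq_bot_iff.mpr fun n hn => Subgroup.mem_bot.mpr (Subtype.ext (hreg n n.2 a hn))⟩
    right
    by_cases h1 : ∀ x ∈ N, ∀ y ∈ N, x ≠ 1 → y ≠ 1 → IsConj x y
    · right
      have h2 := H60.two_transitive_of_conj (Ω := Ω) hab h1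
      refine ⟨haff, h2, ?_⟩
      by_contra hcon
      push Not at hcon
      have := H60.sharp_derangement_classes hΩ h2 fun g a b hne ha hb => by
        by_contra hg
        have hlt := hcon g hg
        haveI : Subsingleton (MulAction.fixedBy Ω g) := Finite.card_le_one_iff_subsingleton.mp (by omega)
        exact hne (congrArg Subtype.val (Subsingleton.elim (⟨a, ha⟩ : MulAction.fixedBy Ω g) ⟨b, hb⟩))
      omega
    · left
      push Not at h1
      obtain ⟨x, hx, y, hy, hx1, hy1, hxy⟩ := h1
      have hxy' : ∀ g : G, (∀ ω : Ω, g • ω ≠ ω) → IsConj x g ∨ IsConj y g := by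
        intro g hg
        rcases hclass x (hder x hx hx1) with hx' | hx' <;> rcases hclass y (hder y hy hy1) with hy' | hy'
        · exact absurd (hx'.symm.trans hy') hxy
        · exact (hclass g hg).imp (hx'.symm.trans) (hy'.symm.trans)
        · exact ((hclass g hg).imp (hy'.symm.trans) (hx'.symm.trans)).symm
        · exact absurd (hx'.symm.trans hy') hxy
      have hD : ∀ g, g ∉ N → ∃ ω : Ω, g • ω = ω := by
        intro g hg
        by_contra hcon
        push Not at hcon
        rcases hxy' g hcon with h | h <;> obtain ⟨c, rfl⟩ := isConj_iff.mp h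
        · exact hg (hNn.conj_mem x hx c)
        · exact hg (hNn.conj_mem y hy c)
      have hle : ∀ g : G, g ≠ 1 → Nat.card (MulAction.fixedBy Ω g) ≤ 1 := fun g hg =>
        H60.fix_le_one hreg hD hg
      set H := MulAction.stabilizer G α with hH
      have hfree : ∀ b : Ω, b ≠ α → Nat.card (MulAction.orbit H b) = Nat.card H := by
        intro b hb
        have hst : MulAction.stabilizer H b = ⊥ := eq_bot_iff.mpr fun h hh => Subgroup.mem_bot.mpr (by
          by_contra h1
          haveI := Finite.card_le_one_iff_subsingleton.mp (hle (h : G) fun e => h1 (Subtype.ext e))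
          exact hb (congrArg Subtype.val
            (Subsingleton.elim (⟨b, hh⟩ : MulAction.fixedBy Ω (h : G)) ⟨α, h.2⟩)))
        rw [Nat.card_congr (MulAction.orbitEquivQuotientStabilizer H b)]
        show (MulAction.stabilizer H b).index = _
        rw [hst, Subgroup.index_bot]
      have hcover : {z : Ω | z ≠ α} = MulAction.orbit H (x • α) ∪ MulAction.orbit H (y • α) := by
        ext z
        constructor
        · intro hz
          obtain ⟨⟨n, hn⟩, hnz⟩ := MulAction.exists_smul_eq N α z
          change n • α = z at hnz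
          have hn1 : n ≠ 1 := fun e => hz (by rw [← hnz, e, one_smul])
          rcases hxy' n (hder n hn hn1) with h | h
          · obtain ⟨g, hg, hgz⟩ := H60.exists_stab_map hab hx h α
            exact Or.inl ⟨⟨g, hg⟩, hgz.trans hnz⟩
          · obtain ⟨g, hg, hgz⟩ := H60.exists_stab_map hab hy h α
            exact Or.inr ⟨⟨g, hg⟩, hgz.trans hnz⟩
        · rintro (⟨⟨g, hg⟩, rfl⟩ | ⟨⟨g, hg⟩, rfl⟩) (hz : g • _ = α)
          · exact hder x hx hx1 α (smul_left_cancel g (hz.trans (MulAction.mem_stabilizer_iff.mp hg).symm))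
          · exact hder y hy hy1 α (smul_left_cancel g (hz.trans (MulAction.mem_stabilizer_iff.mp hg).symm))
      have hdisj : Disjoint (MulAction.orbit H (x • α)) (MulAction.orbit H (y • α)) := by
        rw [Set.disjoint_left]
        rintro z ⟨⟨g, hg⟩, hgz⟩ ⟨⟨k, hk⟩, hkz⟩
        apply hxy
        have he : g • x • α = k • y • α := hgz.trans hkz.symm
        have hg' : g • α = α := hg
        have hk' : k • α = α := hk
        have h3 : (g * x * g⁻¹) • α = (k * y * k⁻¹) • α := by
          simp only [mul_smul, inv_smul_eq_iff.mpr hg'.symm, inv_smul_eq_iff.mpr hk'.symm]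
          exact he
        have h4 : (k * y * k⁻¹)⁻¹ * (g * x * g⁻¹) = 1 :=
          hreg _ (N.mul_mem (N.inv_mem (hNn.conj_mem y hy k)) (hNn.conj_mem x hx g)) α
            (by rw [mul_smul, h3, inv_smul_smul])
        have h5 : g * x * g⁻¹ = k * y * k⁻¹ := (inv_mul_eq_one.mp h4).symm
        exact (isConj_iff.mpr ⟨g, h5⟩).trans (isConj_iff.mpr ⟨k, rfl⟩ : IsConj y (k * y * k⁻¹)).symm
      have hcount : 2 * Nat.card H = Fintype.card Ω - 1 := by
        have h : Set.ncard {z : Ω | z ≠ α} = Fintype.card Ω - 1 := by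
          rw [show {z : Ω | z ≠ α} = {α}ᶜ from rfl, Set.ncard_compl, Set.ncard_singleton,
            Nat.card_eq_fintype_card]
        rw [← h, hcover, Set.ncard_union_eq hdisj, ← Nat.card_coe_set_eq, ← Nat.card_coe_set_eq,
          hfree _ (hder x hx hx1 α), hfree _ (hder y hy hy1 α), two_mul]
      exact ⟨haff, hle, by omega, hcount⟩
  exfalso
  haveI := htr
  haveI := hNn
  haveI : Finite (Fin m → S) := Finite.of_equiv N e.toEquiv
  let i : Fin m := ⟨0, hm⟩
  haveI : Finite S := Finite.of_injective _ (Pi.mulSingle_injective (M := fun _ : Fin m => S) i)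
  have hsingle : (∀ t : S, t ≠ 1 → ∀ ω : Ω, e.symm (Pi.mulSingle i t) • ω ≠ ω) → False := fun h =>
    hS (H60.comm_of_two_orders (orderOf d1) (orderOf d2) fun t ht => by
      have h1 : orderOf ((e.symm (Pi.mulSingle i t) : N) : G) = orderOf t := by
        rw [Subgroup.orderOf_coe, MulEquiv.orderOf_eq]
        exact orderOf_injective (MonoidHom.mulSingle (fun _ : Fin m => S) i) (Pi.mulSingle_injective (M := fun _ : Fin m => S) i) t
      rw [← h1]
      rcases hclass _ (h t ht) with hc | hc <;> obtain ⟨c, hc⟩ := isConj_iff.mp hc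
      · exact Or.inl (hc ▸ MulEquiv.orderOf_eq (MulAut.conj c) d1)
      · exact Or.inr (hc ▸ MulEquiv.orderOf_eq (MulAut.conj c) d2))
  rcases hcase with hreg | ⟨-, hm2⟩
  · refine hsingle fun t ht ω hω => ?_
    have h1 : e.symm (Pi.mulSingle i t) = 1 := Subtype.ext (hreg _ (e.symm _).2 ω hω)
    rw [MulEquiv.map_eq_one_iff, Pi.mulSingle_eq_one_iff] at h1
    exact ht h1
  rcases H60.derangement_coord (Ω := Ω) e i with ⟨x, hx, hxd⟩ | ⟨hd, -⟩
  · let j : Fin m := ⟨1, hm2⟩
    have hji : i ≠ j := by simp [i, j]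
    obtain ⟨y, y', hy, hy', hne⟩ := H60.exists_two_centralizer_orders hS
    let z : S → N := fun w => e.symm (Function.update (Pi.mulSingle i x) j w)
    have hz : ∀ w, IsConj d1 (z w : G) ∨ IsConj d2 (z w : G) := fun w => hclass _ (hxd (z w) (by simp [z, hji]))
    have heq : ∀ v w, IsConj (z v : G) (z w) →
        Nat.card (Subgroup.centralizer ({v} : Set S)) = Nat.card (Subgroup.centralizer ({w} : Set S)) := by
      intro v w h
      obtain ⟨c, hc⟩ := isConj_iff.mp h
      exact H60.card_centralizer_update e _ j _ _ (H60.card_centralizer_conj c _ _ hc)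
    have l1 := (H60.card_centralizer_lt hS hy).ne
    have l2 := (H60.card_centralizer_lt hS hy').ne
    rcases hz 1 with h | h <;> rcases hz y with g | g <;> rcases hz y' with k | k
    all_goals first
      | exact l1 (heq y 1 (g.symm.trans h))
      | exact l2 (heq y' 1 (k.symm.trans h))
      | exact hne (heq y y' (g.symm.trans k))
  · exact hsingle hd

end Cfsg.Agent.S3520
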