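import Cfsg.Statements.S3521
import Cfsg.Agent.H60.PrimFit
import Cfsg.Agent.H80.XA.Simple
-- import your own Cfsg.Agent.* helpers here

set_option autoImplicit false
open Cfsg

namespace Cfsg.Agent.S3521

/-- Let a finite group G that is not solvable act faithfully and primitively on a finite set with p ^ d points (p prime), with a non-trivial abelian normal subgroup acting regularly (affine type) and with non-trivial point stabilizers each acting primitively on every one of its orbits (an insoluble extremely primitive group of affine type). Then p = 2; and if moreover G is not 2-transitive, then a point stabilizer is almost simple (it has a non-abelian simple normal subgroup with trivial centralizer). -/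
theorem result {G : Type*} [Group G] [Finite G] {Ω : Type*} [Fintype Ω] [MulAction G Ω] [FaithfulSMul G Ω] (p d : ℕ) (hp : p.Prime) (hcard : Fintype.card Ω = p ^ d) (hsol : ¬ Group.IsSolvable G)
    (N : Subgroup G) [N.Normal] (hN : N ≠ ⊥) (hNc : IsMulCommutative N) (hNreg : ∀ ω : Ω, MulAction.stabilizer N ω = ⊥)
    (hprim : MulAction.IsPreprimitive G Ω) (hH : ∀ α : Ω, MulAction.stabilizer G α ≠ ⊥) (hep : ∀ (α : Ω) (ω : Ω), MulAction.IsPreprimitive (MulAction.stabilizer G α) (MulAction.orbit (MulAction.stabilizer G α) ω)) (α : Ω) :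
    p = 2 ∧ (¬ MulAction.IsMultiplyPretransitive G Ω 2 → ∃ T : Subgroup (MulAction.stabilizer G α), T.Normal ∧ IsSimpleGroup T ∧ ¬ IsMulCommutative T ∧ Subgroup.centralizer (T : Set (MulAction.stabilizer G α)) = ⊥) := by
  classical
  haveI := hprim
  haveI : Nontrivial Ω := by
    rw [← Fintype.one_lt_card_iff_nontrivial, hcard]
    rcases Nat.eq_zero_or_pos d with rfl | hd
    · exfalso
      have h1 : Fintype.card Ω = 1 := by rw [hcard, pow_zero]
      have hsub : Subsingleton Ω := Fintype.card_le_one_iff_subsingleton.1 h1.le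
      exact hN (Subgroup.eq_bot_iff_forall _ |>.2 fun g _ =>
        eq_of_smul_eq_smul fun ω : Ω => Subsingleton.elim _ _)
    · exact Nat.one_lt_pow hd.ne' hp.one_lt
  set H := MulAction.stabilizer G α with hHdef
  have htr : MulAction.IsPretransitive ↥N Ω := H60.normal_transitive (X := Ω) inferInstance hN
  have hreg : ∀ n ∈ N, n • α = α → n = 1 := fun n hn h0 => by
    have hm : (⟨n, hn⟩ : ↥N) ∈ MulAction.stabilizer ↥N α := h0
    rw [hNreg α, Subgroup.mem_bot] at hm
    exact congrArg Subtype.val hm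
  have hinj : ∀ m ∈ N, ∀ n ∈ N, m • α = n • α → m = n := fun m hm n hn h0 => by
    have := hreg (n⁻¹ * m) (mul_mem (inv_mem hn) hm) (by rw [mul_smul, h0, inv_smul_smul])
    exact (inv_mul_eq_one.1 this).symm
  have hsurj : ∀ ω : Ω, ∃ n ∈ N, n • α = ω := fun ω => by
    obtain ⟨⟨n, hn⟩, he⟩ := MulAction.exists_smul_eq ↥N α ω
    exact ⟨n, hn, he⟩
  have hsm : ∀ g ∈ H, ∀ n : G, g • (n • α) = (g * n * g⁻¹) • α := fun g hg n => by
    rw [mul_smul, mul_smul, show g⁻¹ • α = α from inv_mem hg]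
  have hcm : ∀ a ∈ N, ∀ b ∈ N, a * b = b * a := fun a ha b hb =>
    congrArg Subtype.val (mul_comm' (⟨a, ha⟩ : ↥N) ⟨b, hb⟩)
  have hnorm : ∀ g ∈ H, ∀ v ∈ N, g * v * g⁻¹ ∈ N := fun g _ v hv =>
    Subgroup.Normal.conj_mem inferInstance v hv g
  have hprod : ∀ g : G, ∃ n ∈ N, ∃ c ∈ H, g = n * c := fun g => by
    obtain ⟨n, hn, he⟩ := hsurj (g • α)
    refine ⟨n, hn, n⁻¹ * g, ?_, (mul_inv_cancel_left _ _).symm⟩
    show (n⁻¹ * g) • α = α
    rw [mul_smul, ← he, inv_smul_smul]
  have hirr : ∀ W : Subgroup G, W ≤ N → W ≠ ⊥ → (∀ g ∈ H, ∀ v ∈ W, g * v * g⁻¹ ∈ W) → W = N := by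
    intro W hWN hWne hW
    have hWn : W.Normal := ⟨fun w hw g => by
      obtain ⟨n, hn, c, hc, rfl⟩ := hprod g
      have h1 := hW c hc w hw
      rw [show n * c * w * (n * c)⁻¹ = n * (c * w * c⁻¹) * n⁻¹ by group,
        hcm n hn _ (hWN h1), mul_inv_cancel_right]
      exact h1⟩
    have hWt := H60.normal_transitive (X := Ω) hWn hWne
    refine le_antisymm hWN fun n hn => ?_
    obtain ⟨⟨w, hw⟩, he⟩ := MulAction.exists_smul_eq ↥W α (n • α)
    rwa [← hinj w (hWN hw) n hn he]
  have hfaith : ∀ g ∈ H, (∀ v ∈ N, g * v = v * g) → g = 1 := fun g hg hv =>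
    eq_of_smul_eq_smul fun ω : Ω => by
      obtain ⟨n, hn, rfl⟩ := hsurj ω
      rw [hsm g hg, hv n hn, mul_inv_cancel_right, one_smul]
  have hnofix : ∀ v ∈ N, v ≠ 1 → ∃ g ∈ H, g * v ≠ v * g := by
    intro v hv hv1
    by_contra hc
    push Not at hc
    have hW : N ⊓ Subgroup.centralizer (H : Set G) = N := by
      refine hirr _ inf_le_left (fun h0 => hv1 (Subgroup.mem_bot.1
        (h0 ▸ ⟨hv, Subgroup.mem_centralizer_iff.2 hc⟩))) fun g hg w hw => ?_
      rw [Subgroup.mem_centralizer_iff.1 hw.2 g hg, mul_inv_cancel_right]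
      exact hw
    exact hH α ((Subgroup.eq_bot_iff_forall _).2 fun g hg => hfaith g hg fun w hw =>
      Subgroup.mem_centralizer_iff.1 (hW.ge hw).2 g hg)
  have hmax : ∀ v ∈ N, v ≠ 1 → ∀ K : Subgroup G, K ≤ H → H80.XA.st H v ≤ K →
      K = H80.XA.st H v ∨ K = H := by
    intro v hv hv1 K hKH hK
    obtain ⟨g, hg, hgv⟩ := hnofix v hv hv1
    let o : MulAction.orbit ↥H (v • α) := ⟨v • α, MulAction.mem_orbit_self _⟩
    haveI := hep α (v • α)
    haveI : Nontrivial (MulAction.orbit ↥H (v • α)) := by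
      refine ⟨⟨(⟨g, hg⟩ : ↥H) • o, o, fun h0 => hgv ?_⟩⟩
      have h1 : g • (v • α) = v • α := congrArg Subtype.val h0
      rw [hsm g hg] at h1
      exact mul_inv_eq_iff_eq_mul.1 (hinj _ (hnorm g hg v hv) v hv h1)
    have hco := MulAction.IsPreprimitive.isCoatom_stabilizer_of_isPreprimitive
      (G := ↥H) (X := MulAction.orbit ↥H (v • α)) o
    have hst : MulAction.stabilizer ↥H o = (H80.XA.st H v).subgroupOf H := by
      ext ⟨c, hc⟩
      rw [MulAction.mem_stabilizer_iff, Subgroup.mem_subgroupOf, H80.XA.mem_st, Subtype.ext_iff]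
      show c • (v • α) = v • α ↔ _
      rw [hsm c hc]
      exact ⟨fun h1 => ⟨hc, mul_inv_eq_iff_eq_mul.1 (hinj _ (hnorm c hc v hv) v hv h1)⟩,
        fun h1 => by rw [mul_inv_eq_iff_eq_mul.2 h1.2]⟩
    rw [hst] at hco
    rcases eq_or_lt_of_le (show (H80.XA.st H v).subgroupOf H ≤ K.subgroupOf H from
      fun c hc => hK hc) with e | e
    · left
      refine le_antisymm (fun c hc => ?_) hK
      have h1 : (⟨c, hKH hc⟩ : ↥H) ∈ (H80.XA.st H v).subgroupOf H := e.ge hc
      exact h1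
    · right
      exact le_antisymm hKH (Subgroup.subgroupOf_eq_top.1 (hco.2 _ e))
  have hnsolH : ¬ Group.IsSolvable ↥H := by
    intro hs
    apply hsol
    haveI : Group.IsSolvable ↥N :=
      Group.isSolvable_of_comm fun a b => Subtype.ext (hcm a a.2 b b.2)
    haveI : Group.IsSolvable (G ⧸ N) := by
      refine Group.isSolvable_of_surjective (f := (QuotientGroup.mk' N).comp H.subtype) fun q => ?_
      obtain ⟨g, rfl⟩ := QuotientGroup.mk'_surjective N q
      obtain ⟨n, hn, c, hc, rfl⟩ := hprod g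
      refine ⟨⟨c, hc⟩, QuotientGroup.eq.2 ?_⟩
      show c⁻¹ * (n * c) ∈ N
      have := Subgroup.Normal.conj_mem inferInstance n hn c⁻¹
      simpa [mul_assoc] using this
    exact (Group.isSolvable_iff_subgroup_quotient N).2 ⟨inferInstance, inferInstance⟩
  have hyp : H80.XA.Hyp H N := ⟨hcm, hnorm, hirr, hfaith, hnofix, hN, hmax, hnsolH⟩
  refine ⟨?_, fun _ => ?_⟩
  · have hNcard : Nat.card ↥N = p ^ d := by
      rw [← hcard, ← Nat.card_eq_fintype_card]
      refine Nat.card_eq_of_bijective (fun n : ↥N => (n : G) • α)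
        ⟨fun m n h0 => Subtype.ext (hinj m m.2 n n.2 h0), fun ω => ?_⟩
      obtain ⟨n, hn, he⟩ := hsurj ω
      exact ⟨⟨n, hn⟩, he⟩
    obtain ⟨v, hv, hv1⟩ := N.bot_or_exists_ne_one.resolve_left hN
    have h2 : orderOf (⟨v, hv⟩ : ↥N) = 2 := by
      refine orderOf_eq_prime (p := 2) ?_ (fun h0 => hv1 (congrArg Subtype.val h0))
      rw [pow_two]
      exact Subtype.ext (hyp.sq v hv)
    have := orderOf_dvd_natCard (⟨v, hv⟩ : ↥N)
    rw [h2, hNcard] at this
    exact ((Nat.prime_dvd_prime_iff_eq Nat.prime_two hp).1 (Nat.prime_two.dvd_of_dvd_pow this)).symm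
  · obtain ⟨M, hMH, hMn, hMs, hMna, hMc⟩ := hyp.almost_simple
    haveI := hMs
    refine ⟨M.subgroupOf H, Subgroup.normal_subgroupOf_of_le_normalizer hMn, ?_, ?_, ?_⟩
    · exact (Subgroup.subgroupOfEquivOfLe hMH).isSimpleGroup
    · intro hc
      refine hMna fun a ha b hb => ?_
      have := mul_comm' (⟨⟨a, hMH ha⟩, ha⟩ : ↥(M.subgroupOf H)) ⟨⟨b, hMH hb⟩, hb⟩
      exact congrArg (fun x : ↥(M.subgroupOf H) => ((x : ↥H) : G)) this
    · rw [Subgroup.eq_bot_iff_forall]
      intro c hc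
      have h1 : (c : G) ∈ H ⊓ Subgroup.centralizer (M : Set G) :=
        ⟨c.2, Subgroup.mem_centralizer_iff.2 fun m hm =>
          congrArg Subtype.val (Subgroup.mem_centralizer_iff.1 hc ⟨m, hMH hm⟩ hm)⟩
      rw [hMc, Subgroup.mem_bot] at h1
      exact Subtype.ext h1

end Cfsg.Agent.S3521
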