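import Cfsg.Statements.S3524

set_option autoImplicit false
open Cfsg

namespace Cfsg.Agent.S3524

/-- A permutation group with a base is closed at one level above the base size. Let G be a group of permutations of a set Ω and suppose some k points α₁, …, α_k are fixed simultaneously only by the identity of G (a base of size k). Then G is (k+1)-closed: a permutation of Ω that agrees on every (k+1)-tuple of points with some element of G belongs to G. -/
theorem result {Ω : Type*} (G : Subgroup (Equiv.Perm Ω)) (k : ℕ) (α : Fin k → Ω)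
    (hbase : ∀ g ∈ G, (∀ i, g (α i) = α i) → g = 1) (σ : Equiv.Perm Ω)
    (hσ : ∀ t : Fin (k + 1) → Ω, ∃ g ∈ G, ∀ i, σ (t i) = g (t i)) : σ ∈ G := by
  rcases isEmpty_or_nonempty Ω with hΩ | ⟨⟨ω0⟩⟩
  · have : σ = 1 := Equiv.ext fun x => isEmptyElim x
    exact this ▸ G.one_mem
  obtain ⟨g, hg, hgt⟩ := hσ (Fin.snoc α ω0)
  have hα : ∀ i, σ (α i) = g (α i) := fun i => by simpa using hgt i.castSucc
  have : σ = g := by
    ext x
    obtain ⟨h, hh, hht⟩ := hσ (Fin.snoc α x)
    have hαh : ∀ i, σ (α i) = h (α i) := fun i => by simpa using hht i.castSucc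
    have hx : σ x = h x := by simpa using hht (Fin.last k)
    have h1 := hbase (g⁻¹ * h) (G.mul_mem (G.inv_mem hg) hh) fun i => by
      rw [Equiv.Perm.mul_apply, ← hαh i, hα i]; simp
    rw [hx, (inv_mul_eq_one.mp h1).symm]
  exact this ▸ hg

end Cfsg.Agent.S3524
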