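import Cfsg.Statements.S3532
import Cfsg.Agent.H64.SL2Spectrum
import Cfsg.Agent.H64.FpfSemidirect
import Cfsg.Agent.H64.SpecBasics

set_option autoImplicit false
open Cfsg

namespace Cfsg.Agent.S3532

/-- Let q ≥ 4 be a prime power and L = PSL(2,q). There is a finite solvable group with the same set of element orders as L × L (so L × L is not determined by its spectrum). -/
theorem result {F : Type*} [Field F] [Fintype F] (hF : 4 ≤ Fintype.card F) :
    ∃ (H : Type) (_ : Group H) (_ : Finite H), Group.IsSolvable H ∧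
      Set.range (orderOf : H → ℕ) = Set.range (orderOf : Matrix.ProjectiveSpecialLinearGroup (Fin 2) F × Matrix.ProjectiveSpecialLinearGroup (Fin 2) F → ℕ) := by
  classical
  set q := Fintype.card F with hq
  obtain ⟨p, hpc⟩ := CharP.exists F
  haveI := hpc
  obtain ⟨n, hp, hn⟩ := FiniteField.card F p
  haveI := Fact.mk hp
  let K := GaloisField p (2 * (n : ℕ))
  letI : Fintype K := Fintype.ofFinite K
  have hK : Fintype.card K = q ^ 2 := by
    rw [← Nat.card_eq_fintype_card, GaloisField.card p _ (Nat.mul_ne_zero two_ne_zero n.ne_zero), hq, hn, ← pow_mul,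
      mul_comm]
  set d := Nat.gcd 2 (q - 1) with hd
  have hd0 : 0 < d := Nat.gcd_pos_of_pos_left _ (by norm_num)
  have hd1 : d ∣ q - 1 := Nat.gcd_dvd_right _ _
  have hd2 : d ∣ q + 1 := by
    have h := Nat.dvd_add hd1 (Nat.gcd_dvd_left 2 (q - 1))
    rwa [show q - 1 + 2 = q + 1 by omega] at h
  set m := (q - 1) / d with hm
  set k := (q + 1) / d with hk
  have hsq : q ^ 2 - 1 = (q + 1) * (q - 1) := by
    rw [← Nat.sq_sub_sq, one_pow]
  have hm0 : 0 < m := Nat.div_pos (Nat.le_of_dvd (by omega) hd1) hd0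
  have hk0 : 0 < k := Nat.div_pos (Nat.le_of_dvd (by omega) hd2) hd0
  have hmd : m ∣ Fintype.card K - 1 := by
    rw [hK, hsq]; exact dvd_mul_of_dvd_right (Nat.div_dvd_of_dvd hd1) _
  have hkd : k ∣ Fintype.card K - 1 := by
    rw [hK, hsq]; exact dvd_mul_of_dvd_left (Nat.div_dvd_of_dvd hd2) _
  haveI : ∀ a, Finite (H64.FrobAff K a) := fun a => Finite.of_equiv _ SemidirectProduct.equivProd.symm
  haveI := H64.frobAff_solvable K m
  haveI := H64.frobAff_solvable K k
  refine ⟨H64.FrobAff K m × H64.FrobAff K k, inferInstance, inferInstance, inferInstance, ?_⟩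
  rw [H64.range_orderOf_prod, H64.range_orderOf_prod, H64.psl2_spectrum p, ← hq, ← hd, ← hm, ← hk,
    H64.frobAff_spectrum K p m hm0 hmd, H64.frobAff_spectrum K p k hk0 hkd]
  ext x
  simp only [Set.mem_image2, Set.mem_setOf_eq]
  constructor
  · rintro ⟨a, ha, b, hb, rfl⟩
    exact ⟨a, ha.imp_right Or.inl, b, hb.imp_right Or.inr, rfl⟩
  · rintro ⟨a, ha | ha | ha, b, hb | hb | hb, rfl⟩
    · exact ⟨Nat.lcm a b, Or.inl (Nat.lcm_dvd ha hb), 1, Or.inl (one_dvd _), Nat.lcm_one_right _⟩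
    · exact ⟨b, Or.inr hb, a, Or.inl ha, Nat.lcm_comm _ _⟩
    · exact ⟨a, Or.inl ha, b, Or.inr hb, rfl⟩
    · exact ⟨a, Or.inr ha, b, Or.inl hb, rfl⟩
    · exact ⟨Nat.lcm a b, Or.inr (Nat.lcm_dvd ha hb), 1, Or.inl (one_dvd _), Nat.lcm_one_right _⟩
    · exact ⟨a, Or.inr ha, b, Or.inr hb, rfl⟩
    · exact ⟨b, Or.inl hb, a, Or.inr ha, Nat.lcm_comm _ _⟩
    · exact ⟨b, Or.inr hb, a, Or.inr ha, Nat.lcm_comm _ _⟩
    · exact ⟨1, Or.inl (one_dvd _), Nat.lcm a b, Or.inr (Nat.lcm_dvd ha hb), Nat.lcm_one_left _⟩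

end Cfsg.Agent.S3532
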