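import Cfsg.Statements.S3548
import Cfsg.Agent.H60.DerIndex

set_option autoImplicit false
open Cfsg

namespace Cfsg.Agent.S3548

/-- Let G act faithfully and transitively on a finite set with n ≥ 2 points and let D be the subgroup generated by the derangements. Then the index of D in G divides n − 1, and if it equals n − 1 then n is a prime power. -/
theorem result {G Ω : Type*} [Group G] [Finite G] [MulAction G Ω] [FaithfulSMul G Ω] [Finite Ω]
    (htrans : MulAction.IsPretransitive G Ω) (hΩ : 2 ≤ Nat.card Ω) :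
    (Subgroup.closure {g : G | ∀ ω : Ω, g • ω ≠ ω}).index ∣ Nat.card Ω - 1 ∧
    ((Subgroup.closure {g : G | ∀ ω : Ω, g • ω ≠ ω}).index = Nat.card Ω - 1 → IsPrimePow (Nat.card Ω)) := by
  haveI := htrans
  set D := Subgroup.closure {g : G | ∀ ω : Ω, g • ω ≠ ω} with hDdef
  have hD : ∀ g, g ∉ D → ∃ ω : Ω, g • ω = ω := H60.exists_fixed_of_notMem_closure
  haveI hne : Nonempty Ω := (Nat.card_pos_iff.mp (by omega)).1
  obtain ⟨a⟩ := hne
  refine ⟨H60.index_dvd_card_sub_one D hD a, fun hidx => ?_⟩
  classical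
  haveI : D.Normal := ⟨fun d hd g => by
    have := Subgroup.mem_map_of_mem (MulAut.conj g).toMonoidHom hd
    rw [hDdef, MonoidHom.map_closure] at this
    refine Subgroup.closure_mono ?_ this
    rintro _ ⟨y, hy, rfl⟩ ω hω
    apply hy (g⁻¹ • ω)
    simpa [mul_smul, smul_eq_iff_eq_inv_smul] using hω⟩
  have htr := (H60.transitive_and_fix_one D hD).1
  -- every suborbit is everything else
  have horb : ∀ x, x ≠ a → Nat.card (MulAction.orbit (MulAction.stabilizer G a) x) = Nat.card Ω - 1 ∧
      MulAction.orbit (MulAction.stabilizer G a) x = {a}ᶜ := by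
    intro x hx
    have hsub : MulAction.orbit (MulAction.stabilizer G a) x ⊆ {a}ᶜ := by
      rintro y ⟨⟨h, hh⟩, rfl⟩ (hy : h • x = a)
      exact hx (smul_left_cancel h (hy.trans hh.symm))
    have hc : Nat.card ({a}ᶜ : Set Ω) = Nat.card Ω - 1 := by
      rw [Nat.card_coe_set_eq, Set.ncard_compl, Set.ncard_singleton]
    have hd := H60.index_dvd_suborbit D hD hx
    rw [hidx] at hd
    haveI : Nonempty (MulAction.orbit (MulAction.stabilizer G a) x) := ⟨⟨x, MulAction.mem_orbit_self x⟩⟩
    have hle := Nat.le_of_dvd Nat.card_pos hd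
    refine ⟨le_antisymm (hc ▸ Nat.card_mono (Set.toFinite _) hsub) hle, ?_⟩
    apply Set.eq_of_subset_of_ncard_le hsub
    rw [← Nat.card_coe_set_eq, ← Nat.card_coe_set_eq, hc]
    exact hle
  -- `D` is regular
  have hreg : ∀ d ∈ D, d • a = a → d = 1 := by
    intro d hd hda
    refine H60.eq_one_of_forall_smul_eq (Ω := Ω) fun x => ?_
    by_cases hx : x = a
    · rw [hx, hda]
    -- the stabilizer of `x` in `G_a` has index `[G_a : D_a]` and lies in `D_a`
    have h1 := (horb x hx).1
    rw [Nat.card_congr (MulAction.orbitEquivQuotientStabilizer (MulAction.stabilizer G a) x)] at h1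
    have h2 := H60.index_eq_relIndex_stabilizer D htr a
    rw [hidx, ← h1, Subgroup.relIndex] at h2
    have hle : MulAction.stabilizer (MulAction.stabilizer G a) x ≤
        (D ⊓ MulAction.stabilizer G a).subgroupOf (MulAction.stabilizer G a) := by
      intro h hh
      rw [Subgroup.mem_subgroupOf]
      refine ⟨?_, h.2⟩
      by_contra hnD
      have h4 := (H60.transitive_and_fix_one D hD).2 _ hnD
      haveI : Subsingleton (MulAction.fixedBy Ω (h : G)) := (Nat.card_eq_one_iff_unique.mp h4).1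
      exact hx (congrArg Subtype.val (Subsingleton.elim
        (⟨x, hh⟩ : MulAction.fixedBy Ω (h : G)) ⟨a, h.2⟩))
    have heq : MulAction.stabilizer (MulAction.stabilizer G a) x =
        (D ⊓ MulAction.stabilizer G a).subgroupOf (MulAction.stabilizer G a) := by
      refine Subgroup.eq_of_le_of_card_ge hle ?_
      have e1 := (MulAction.stabilizer (MulAction.stabilizer G a) x).card_mul_index
      have e2 := ((D ⊓ MulAction.stabilizer G a).subgroupOf (MulAction.stabilizer G a)).card_mul_index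
      rw [h2] at e2
      exact (Nat.eq_of_mul_eq_mul_right (Nat.pos_of_ne_zero Subgroup.index_ne_zero_of_finite) (e2.trans e1.symm)).le
    have hm : (⟨d, hda⟩ : MulAction.stabilizer G a) ∈ MulAction.stabilizer (MulAction.stabilizer G a) x := by
      rw [heq, Subgroup.mem_subgroupOf]; exact ⟨hd, hda⟩
    exact hm
  have hcardD : Nat.card D = Nat.card Ω :=
    Nat.card_eq_of_bijective (fun d : D => d • a) ⟨fun d d' h => by
      refine Subtype.ext (inv_mul_eq_one.mp (hreg ((d' : G)⁻¹ * d) (D.mul_mem (D.inv_mem d'.2) d.2) ?_)).symm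
      rw [mul_smul, inv_smul_eq_iff]; exact h, fun ω => MulAction.exists_smul_eq D a ω⟩
  obtain ⟨q, hq, hqn⟩ := Nat.exists_prime_and_dvd (show Nat.card D ≠ 1 by omega)
  haveI : Fact q.Prime := ⟨hq⟩
  obtain ⟨d0, hd0⟩ := exists_prime_orderOf_dvd_card' q hqn
  have hd01 : d0 ≠ 1 := fun h => by rw [h, orderOf_one] at hd0; exact hq.one_lt.ne hd0
  have hP : IsPGroup q D := by
    intro d
    by_cases hd1 : d = 1
    · exact ⟨0, by rw [hd1, one_pow]⟩
    have hne' : ∀ e : D, e ≠ 1 → (e : G) • a ≠ a := fun e he h =>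
      he (Subtype.ext (hreg e e.2 h))
    have hmem : (d : G) • a ∈ MulAction.orbit (MulAction.stabilizer G a) ((d0 : G) • a) := by
      rw [(horb _ (hne' d0 hd01)).2]; exact hne' d hd1
    obtain ⟨⟨h, hh⟩, hhd⟩ := hmem
    change h • (d0 : G) • a = (d : G) • a at hhd
    have hconj : h * d0 * h⁻¹ ∈ D := (inferInstance : D.Normal).conj_mem _ d0.2 h
    have : h * d0 * h⁻¹ = (d : G) := by
      refine (inv_mul_eq_one.mp (hreg ((h * d0 * h⁻¹)⁻¹ * d) (D.mul_mem (D.inv_mem hconj) d.2) ?_))
      rw [mul_smul, inv_smul_eq_iff, mul_smul, mul_smul, MulAction.mem_stabilizer_iff.mp (inv_mem hh), hhd]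
    refine ⟨1, ?_⟩
    rw [pow_one, ← hd0]
    refine Subtype.ext ?_
    rw [Subgroup.coe_pow, ← this, conj_pow, ← Subgroup.coe_pow, pow_orderOf_eq_one, Subgroup.coe_one]
    group
  obtain ⟨k, hk⟩ := IsPGroup.iff_card.mp hP
  rw [← hcardD, hk]
  refine hq.isPrimePow.pow ?_
  rintro rfl
  rw [pow_zero] at hk
  omega

end Cfsg.Agent.S3548
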