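import Cfsg.Statements.S3549
import Cfsg.Agent.H60.DerIndex

set_option autoImplicit false
open Cfsg

namespace Cfsg.Agent.S3549

open scoped Pointwise
open MulAction

theorem bound {G Ω : Type*} [Group G] [Finite G] [MulAction G Ω] [Finite Ω]
    [IsPretransitive G Ω] (D : Subgroup G) (hD : ∀ g, g ∉ D → ∃ ω : Ω, g • ω = ω)
    (B : Set Ω) (hB : IsBlock G B) (hBne : B.Nontrivial) (hBu : B ≠ Set.univ) :
    (D.index + 1) ^ 2 ≤ Nat.card Ω := by
  obtain ⟨b, hb⟩ := hBne.nonempty
  -- the translate of `B` through a point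
  have hblock : ∀ (g : G) (x : Ω), g • x = x → ∀ c : G, x ∈ c • B → g • c • B = c • B := by
    intro g x hgx c hc
    by_contra hne
    have hdis : Disjoint ((g * c) • B) (c • B) :=
      (MulAction.isBlock_iff_smul_eq_or_disjoint.mp (hB.translate c) g).resolve_left hne
        |> fun h => by rw [mul_smul]; exact h
    refine Set.disjoint_left.mp hdis ?_ hc
    rw [mul_smul, ← hgx]
    exact Set.smul_mem_smul_set hc
  let B0 : orbit G B := ⟨B, mem_orbit_self B⟩
  haveI : Finite (orbit G B) := Finite.of_injective (fun x => (x : Set Ω)) Subtype.val_injective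
  have hD' : ∀ g, g ∉ D → ∃ β : orbit G B, g • β = β := by
    intro g hg
    obtain ⟨ω, hω⟩ := hD g hg
    obtain ⟨c, rfl⟩ := exists_smul_eq G b ω
    exact ⟨⟨c • B, ⟨c, rfl⟩⟩, Subtype.ext (hblock g _ hω c (Set.smul_mem_smul_set hb))⟩
  haveI : IsPretransitive G (orbit G B) := inferInstance
  obtain ⟨hDtr, hone⟩ := H60.transitive_and_fix_one D hD'
  have hm := H60.index_dvd_card_sub_one D hD' B0
  have hrel := H60.index_eq_relIndex_stabilizer D hDtr B0
  -- the block with its setwise stabilizer
  let H : Subgroup G := stabilizer G B0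
  have hHB : ∀ h ∈ H, h • B = B := fun h hh => congrArg Subtype.val hh
  letI : MulAction H B :=
    { smul := fun h x => ⟨(h : G) • (x : Ω), by
        have := Set.smul_mem_smul_set (a := (h : G)) x.2
        rwa [hHB h h.2] at this⟩
      one_smul := fun x => Subtype.ext (one_smul G (x : Ω))
      mul_smul := fun g h x => Subtype.ext (mul_smul (g : G) (h : G) (x : Ω)) }
  haveI : IsPretransitive H B := ⟨fun x y => by
    obtain ⟨c, hc⟩ := exists_smul_eq G (x : Ω) y
    have hcB : c • B = B := by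
      by_contra hne
      refine Set.disjoint_left.mp ((MulAction.isBlock_iff_smul_eq_or_disjoint.mp hB c).resolve_left hne) ?_ y.2
      rw [← hc]; exact Set.smul_mem_smul_set x.2
    exact ⟨⟨c, Subtype.ext hcB⟩, Subtype.ext hc⟩⟩
  have hDH : ∀ h : H, h ∉ D.subgroupOf H → ∃ x : B, h • x = x := by
    intro h hh
    rw [Subgroup.mem_subgroupOf] at hh
    obtain ⟨ω, hω⟩ := hD _ hh
    obtain ⟨c, rfl⟩ := exists_smul_eq G b ω
    haveI : Subsingleton (fixedBy (orbit G B) (h : G)) := (Nat.card_eq_one_iff_unique.mp (hone _ hh)).1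
    have heq : c • B = B := congrArg (fun z => ((z : orbit G B) : Set Ω)) (congrArg Subtype.val
      (Subsingleton.elim
        (⟨⟨c • B, ⟨c, rfl⟩⟩, Subtype.ext (hblock _ _ hω c (Set.smul_mem_smul_set hb))⟩ : fixedBy (orbit G B) (h : G))
        ⟨B0, h.2⟩))
    exact ⟨⟨c • b, heq ▸ Set.smul_mem_smul_set hb⟩, Subtype.ext hω⟩
  have hd := H60.index_dvd_card_sub_one (Ω := B) (D.subgroupOf H) hDH ⟨b, hb⟩
  have hidx : (D.subgroupOf H).index = D.index := by
    rw [← hrel, Subgroup.inf_relIndex_right, Subgroup.relIndex]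
  rw [hidx] at hd
  have hn := hB.ncard_block_mul_ncard_orbit_eq ⟨b, hb⟩
  rw [← Nat.card_coe_set_eq, ← Nat.card_coe_set_eq] at hn
  have hd2 : 2 ≤ Nat.card B := by
    rw [Nat.card_coe_set_eq]
    exact Set.one_lt_ncard_iff_nontrivial.mpr hBne
  have hm2 : 2 ≤ Nat.card (orbit G B) := by
    by_contra hlt
    have hle : Nat.card (orbit G B) ≤ 1 := by omega
    haveI := Finite.card_le_one_iff_subsingleton.mp hle
    refine hBu (Set.eq_univ_of_forall fun x => ?_)
    obtain ⟨c, rfl⟩ := exists_smul_eq G b x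
    have : c • B = B := congrArg Subtype.val (Subsingleton.elim (⟨c • B, ⟨c, rfl⟩⟩ : orbit G B) B0)
    exact this ▸ Set.smul_mem_smul_set hb
  have h1 := Nat.le_of_dvd (by omega) hd
  have h2 := Nat.le_of_dvd (by omega) hm
  rw [← hn, sq]
  exact Nat.mul_le_mul (by omega) (by omega)


/-- Let G act faithfully, transitively but imprimitively on a finite set with n points, and let D be the subgroup generated by the derangements. Then the index of D in G is at most √n − 1. -/
theorem result {G Ω : Type*} [Group G] [Finite G] [MulAction G Ω] [FaithfulSMul G Ω] [Finite Ω]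
    (htrans : MulAction.IsPretransitive G Ω) (himp : ¬ MulAction.IsPreprimitive G Ω) :
    ((Subgroup.closure {g : G | ∀ ω : Ω, g • ω ≠ ω}).index : ℝ) ≤ Real.sqrt (Nat.card Ω) - 1 := by
  haveI := htrans
  set D := Subgroup.closure {g : G | ∀ ω : Ω, g • ω ≠ ω}
  obtain ⟨B, hB, hBt⟩ : ∃ B : Set Ω, IsBlock G B ∧ ¬ IsTrivialBlock B := by
    by_contra h
    push Not at h
    exact himp { toIsPretransitive := htrans, isTrivialBlock_of_isBlock := fun {B} hB => h B hB }
  rw [IsTrivialBlock, not_or] at hBt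
  have hb := bound D H60.exists_fixed_of_notMem_closure B hB
    (Set.not_subsingleton_iff.mp hBt.1) hBt.2
  rw [le_sub_iff_add_le]
  have : ((D.index + 1 : ℕ) : ℝ) ≤ Real.sqrt (Nat.card Ω) := by
    apply Real.le_sqrt_of_sq_le
    exact_mod_cast hb
  simpa using this

end Cfsg.Agent.S3549
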