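import Cfsg.Statements.S3550
import Cfsg.Agent.H25.Derange.Main
import Cfsg.Agent.H60.Derangement

set_option autoImplicit false
open Cfsg

namespace Cfsg.Agent.S3550

/-- Let G act faithfully and primitively on a finite set with n ≥ 2 points and suppose G has no non-trivial abelian normal subgroup (G is not of affine type). Let D be the subgroup generated by the derangements. Then the index of D in G is at most √n − 1. -/
theorem result {G Ω : Type*} [Group G] [Finite G] [MulAction G Ω] [FaithfulSMul G Ω] [Finite Ω]
    (hprim : MulAction.IsPreprimitive G Ω) (hΩ : 2 ≤ Nat.card Ω) (hna : ∀ N : Subgroup G, N.Normal → IsMulCommutative ↥N → N = ⊥) :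
    ((Subgroup.closure {g : G | ∀ ω : Ω, g • ω ≠ ω}).index : ℝ) ≤ Real.sqrt (Nat.card Ω) - 1 := by
  classical
  set D := Subgroup.closure {g : G | ∀ ω : Ω, g • ω ≠ ω} with hDdef
  have := hprim
  have hfix : ∀ g, g ∉ D → ∃ ω : Ω, g • ω = ω := H60.exists_fixed_of_notMem_closure
  obtain ⟨hDtr, hone⟩ := H60.transitive_and_fix_one (Ω := Ω) D hfix
  have hfaith : ∀ g : G, (∀ ω : Ω, g • ω = ω) → g = 1 := fun g hg =>
    eq_of_smul_eq_smul fun ω => (hg ω).trans (one_smul G ω).symm
  have hDn : D.Normal := by
    refine ⟨fun x hx g => ?_⟩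
    induction hx using Subgroup.closure_induction with
    | mem x hx =>
      refine Subgroup.subset_closure fun ω hω => hx (g⁻¹ • ω) ?_
      rw [mul_smul, mul_smul] at hω
      exact eq_inv_smul_iff.2 hω
    | one => simp
    | mul x y _ _ hx hy =>
      have h : g * (x * y) * g⁻¹ = g * x * g⁻¹ * (g * y * g⁻¹) := by group
      rw [h]
      exact mul_mem hx hy
    | inv x _ hx =>
      have h : g * x⁻¹ * g⁻¹ = (g * x * g⁻¹)⁻¹ := by group
      rw [h]
      exact inv_mem hx
  have hntr : ∀ N : Subgroup G, N.Normal → N ≠ ⊥ → ∀ x y : Ω, ∃ g ∈ N, g • x = y := by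
    intro N hN hne x y
    have h : MulAction.IsPretransitive N Ω := MulAction.IsQuasiPreprimitive.isPretransitive_of_normal
      (fun h => hne ((Subgroup.eq_bot_iff_forall N).2 fun g hg => hfaith g fun ω =>
        (Set.eq_univ_iff_forall.1 h ω) ⟨g, hg⟩))
    obtain ⟨g, hg⟩ := h.exists_smul_eq x y
    exact ⟨g, g.2, hg⟩
  have S : H25.Derange.Setup D Ω :=
    { normal := hDn
      trans := fun x y => by
        obtain ⟨g, hg⟩ := hDtr.exists_smul_eq x y
        exact ⟨g, g.2, hg⟩
      uniq := fun g hg x y hx hy => by
        have hsub : Subsingleton (MulAction.fixedBy Ω g) :=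
          (Nat.card_eq_one_iff_unique.1 (hone g hg)).1
        exact congrArg Subtype.val
          (Subsingleton.elim (⟨x, hx⟩ : MulAction.fixedBy Ω g) ⟨y, hy⟩)
      fix := hfix
      faith := hfaith
      normal_trans := hntr
      nonaffine := hna
      two_le := hΩ }
  have key : (D.index + 1) ^ 2 ≤ Nat.card Ω := by
    by_cases hd : 2 ≤ D.index
    · exact S.index_bound hd
    have hd1 : D.index = 1 := by
      have := Subgroup.index_ne_zero_of_finite (H := D)
      omega
    rw [hd1]
    -- at most three points means affine type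
    by_contra hsmall
    have := Fintype.ofFinite Ω
    have hn : Fintype.card Ω ≤ 3 := by rw [← Nat.card_eq_fintype_card]; omega
    let π : G →* Equiv.Perm Ω := MulAction.toPermHom G Ω
    have hπ : Function.Injective π := MulAction.toPerm_injective
    set A := (alternatingGroup Ω).comap π
    have hAc : IsMulCommutative A := by
      have : Nontrivial Ω := Finite.one_lt_card_iff_nontrivial.1 hΩ
      have hle : Nat.card (alternatingGroup Ω) ≤ 3 := by
        have h := two_mul_nat_card_alternatingGroup (α := Ω)
        rw [Nat.card_perm, Nat.card_eq_fintype_card (α := Ω)] at h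
        have h6 : (Fintype.card Ω).factorial ≤ 6 := le_trans (Nat.factorial_le hn) (by decide)
        omega
      have hcomm : ∀ u v : alternatingGroup Ω, u * v = v * u := by
        intro u v
        have hpos : 0 < Nat.card (alternatingGroup Ω) := Nat.card_pos
        rcases (show Nat.card (alternatingGroup Ω) = 1 ∨ Nat.card (alternatingGroup Ω) = 2 ∨
            Nat.card (alternatingGroup Ω) = 3 by omega) with h | h | h
        · have := (Nat.card_eq_one_iff_unique.1 h).1
          exact Subsingleton.elim _ _
        all_goals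
          have : IsCyclic (alternatingGroup Ω) := by
            have := Fact.mk (show Nat.Prime (Nat.card (alternatingGroup Ω)) by rw [h]; norm_num)
            exact isCyclic_of_prime_card (p := Nat.card (alternatingGroup Ω)) rfl
          obtain ⟨g, hg⟩ := IsCyclic.exists_generator (α := alternatingGroup Ω)
          obtain ⟨i, rfl⟩ := Subgroup.mem_zpowers_iff.1 (hg u)
          obtain ⟨j, rfl⟩ := Subgroup.mem_zpowers_iff.1 (hg v)
          exact zpow_mul_comm g i j
      refine ⟨⟨fun x y => Subtype.ext (hπ ?_)⟩⟩
      have h := congrArg Subtype.val (hcomm ⟨π x, x.2⟩ ⟨π y, y.2⟩)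
      simpa using h
    have hAbot := hna A ((alternatingGroup.normal).comap π) hAc
    have hGc : IsMulCommutative (⊤ : Subgroup G) := by
      refine ⟨⟨fun x y => Subtype.ext ?_⟩⟩
      have h : (x : G) * y * (x : G)⁻¹ * (y : G)⁻¹ ∈ A := by
        show π _ ∈ alternatingGroup Ω
        rw [Equiv.Perm.mem_alternatingGroup]
        simp only [map_mul, map_inv]
        rcases Int.units_eq_one_or (Equiv.Perm.sign (π (x : G))) with h | h <;>
          rcases Int.units_eq_one_or (Equiv.Perm.sign (π (y : G))) with h' | h' <;>
          simp [h, h']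
      rw [hAbot, Subgroup.mem_bot, mul_inv_eq_one, mul_inv_eq_iff_eq_mul] at h
      exact h
    have htop := hna ⊤ inferInstance hGc
    obtain ⟨x, y, hxy⟩ := (Finite.one_lt_card_iff_nontrivial.1 hΩ).exists_pair_ne
    obtain ⟨g, -, hg⟩ := S.trans x y
    have hg1 : g ∈ (⊥ : Subgroup G) := htop ▸ Subgroup.mem_top g
    rw [Subgroup.mem_bot.1 hg1, one_smul] at hg
    exact hxy hg
  rw [le_sub_iff_add_le]
  refine (Real.le_sqrt (by positivity) (Nat.cast_nonneg _)).2 ?_
  exact_mod_cast key

end Cfsg.Agent.S3550
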