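import Cfsg.Statements.S3554
import Cfsg.Agent.H60.Basic

set_option autoImplicit false
open Cfsg

namespace Cfsg.Agent.S3554

/-- Let G act faithfully and transitively on a finite set and suppose G has a non-trivial cyclic normal subgroup. Then some element of G of prime order fixes no point. -/
theorem result {G Ω : Type*} [Group G] [Finite G] [MulAction G Ω] [FaithfulSMul G Ω] [Finite Ω]
    (htrans : MulAction.IsPretransitive G Ω) (C : Subgroup G) (hC : C.Normal) (hC1 : C ≠ ⊥) (hcyc : IsCyclic ↥C) :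
    ∃ g : G, (orderOf g).Prime ∧ ∀ ω : Ω, g • ω ≠ ω := by
  haveI := htrans
  obtain ⟨c, hc⟩ := hcyc.exists_generator
  have hne : Nat.card C ≠ 1 := by simpa [Subgroup.card_eq_one] using hC1
  obtain ⟨q, hq, hdvd⟩ := Nat.exists_prime_and_dvd hne
  haveI : Fact q.Prime := ⟨hq⟩
  obtain ⟨x, hx⟩ := exists_prime_orderOf_dvd_card' q hdvd
  have hxG : orderOf (x : G) = q := by rw [Subgroup.orderOf_coe, hx]
  refine ⟨(x : G), hxG ▸ hq, fun ω hω => ?_⟩
  have key : ∀ ω' : Ω, (x : G) • ω' = ω' := by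
    intro ω'
    obtain ⟨g, rfl⟩ := MulAction.exists_smul_eq G ω ω'
    have hmem : g⁻¹ * x * g ∈ C := by simpa using hC.conj_mem x x.2 g⁻¹
    set y : C := ⟨g⁻¹ * x * g, hmem⟩
    have hy : orderOf y = q := by
      rw [← Subgroup.orderOf_coe, ← hxG]
      simpa [y] using orderOf_injective (MulAut.conj g⁻¹).toMonoidHom (MulEquiv.injective _) (x : G)
    have hyx : y ∈ Subgroup.zpowers x :=
      H60.mem_zpowers_of_pow_orderOf_eq_one hcyc x y (by rw [hx, ← hy]; exact pow_orderOf_eq_one y)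
    obtain ⟨k, hk⟩ := hyx
    have hyω : (y : G) • ω = ω := by
      rw [← hk, SubgroupClass.coe_zpow]
      exact MulAction.mem_stabilizer_iff.mp (Subgroup.zpow_mem _ (MulAction.mem_stabilizer_iff.mpr hω) k)
    have h2 := congrArg (g • ·) hyω
    simpa [y, mul_smul] using h2
  have h1 : (x : G) = 1 := FaithfulSMul.eq_of_smul_eq_smul (α := Ω) fun a => by rw [key a, one_smul]
  rw [h1, orderOf_one] at hxG
  exact hq.one_lt.ne hxG

end Cfsg.Agent.S3554
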