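import Cfsg.Statements.S3555
import Cfsg.Agent.H2.DerangeInvol
import Cfsg.Agent.S0035
-- import your own Cfsg.Agent.* helpers here

set_option autoImplicit false
open Cfsg
open scoped Pointwise

namespace Cfsg.Agent.S3555

/-- Let G act faithfully and transitively on a finite set and suppose every element of G fixing no point is an involution. Then either G is an elementary abelian 2-group, or G is a Frobenius group whose Frobenius kernel is an elementary abelian 2-group: G has a Frobenius complement H, and the elements lying in no conjugate of H, together with the identity, pairwise commute and square to the identity. -/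
theorem result {G Ω : Type*} [Group G] [Finite G] [MulAction G Ω] [FaithfulSMul G Ω] [Finite Ω]
    (htrans : MulAction.IsPretransitive G Ω) (hinv : ∀ g : G, (∀ ω : Ω, g • ω ≠ ω) → orderOf g = 2) :
    (IsMulCommutative G ∧ ∀ g : G, g ^ 2 = 1) ∨
    (∃ H : Subgroup G, Cfsg.IsFrobeniusComplement H ∧
      (∀ x ∈ Cfsg.frobeniusKernel H, x ^ 2 = 1) ∧
      ∀ x ∈ Cfsg.frobeniusKernel H, ∀ y ∈ Cfsg.frobeniusKernel H, x * y = y * x) := by
  classical
  haveI := Fintype.ofFinite G
  haveI := Fintype.ofFinite Ω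
  have hsq : ∀ g : G, (∀ ω : Ω, g • ω ≠ ω) → g ^ 2 = 1 := fun g hg => by
    rw [← hinv g hg]; exact pow_orderOf_eq_one g
  have habel : ∀ K : Subgroup G, (∀ x ∈ K, x ^ 2 = 1) → ∀ x ∈ K, ∀ y ∈ K, x * y = y * x := by
    intro K hK x hx y hy
    have e1 : x * x = 1 := by rw [← pow_two]; exact hK x hx
    have e2 : y * y = 1 := by rw [← pow_two]; exact hK y hy
    have e3 : (x * y) * (x * y) = 1 := by rw [← pow_two]; exact hK _ (K.mul_mem hx hy)
    calc x * y = x * ((x * y) * (x * y)) * y := by rw [e3, mul_one]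
      _ = (x * x) * (y * x) * (y * y) := by group
      _ = y * x := by rw [e1, e2, one_mul, mul_one]
  rcases isEmpty_or_nonempty Ω with hΩ | ⟨⟨a⟩⟩
  · haveI : Subsingleton G :=
      ⟨fun x y => FaithfulSMul.eq_of_smul_eq_smul (α := Ω) fun ω => isEmptyElim ω⟩
    exact Or.inl ⟨⟨⟨fun x y => Subsingleton.elim _ _⟩⟩, fun g => Subsingleton.elim _ _⟩
  by_cases hH : MulAction.stabilizer G a = ⊥
  · have hall : ∀ g : G, g ^ 2 = 1 := by
      intro g
      by_cases hg : g = 1
      · rw [hg, one_pow]
      refine hsq g fun ω hω => hg ?_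
      obtain ⟨k, rfl⟩ := MulAction.exists_smul_eq G a ω
      have h1 : k⁻¹ * g * k ∈ MulAction.stabilizer G a := by
        rw [MulAction.mem_stabilizer_iff, mul_smul, mul_smul, hω, inv_smul_smul]
      rw [hH, Subgroup.mem_bot] at h1
      calc g = k * (k⁻¹ * g * k) * k⁻¹ := by group
        _ = 1 := by rw [h1, mul_one, mul_inv_cancel]
    exact Or.inl ⟨⟨⟨fun x y => habel ⊤ (fun z _ => hall z) x trivial y trivial⟩⟩, hall⟩
  right
  refine ⟨MulAction.stabilizer G a, ?_⟩
  have hfrob : Cfsg.IsFrobeniusComplement (MulAction.stabilizer G a) := by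
    refine ⟨hH, fun htop => ?_, fun g hg => ?_⟩
    · refine hH (eq_bot_iff.2 fun x hx => Subgroup.mem_bot.2
        (FaithfulSMul.eq_of_smul_eq_smul (α := Ω) fun ω => ?_))
      obtain ⟨k, rfl⟩ := MulAction.exists_smul_eq G a ω
      have hk : k • a = a := MulAction.mem_stabilizer_iff.1 (htop.symm ▸ Subgroup.mem_top k)
      rw [hk, MulAction.mem_stabilizer_iff.1 hx, one_smul]
    · rw [eq_bot_iff]
      rintro x ⟨hx, hxg⟩
      change x ∈ MulAut.conj g • MulAction.stabilizer G a at hxg
      rw [Subgroup.mem_pointwise_smul_iff_inv_smul_mem, MulAction.mem_stabilizer_iff,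
        ← map_inv, MulAut.smul_def, MulAut.conj_apply, inv_inv, mul_smul, mul_smul, inv_smul_eq_iff] at hxg
      exact Subgroup.mem_bot.2 (H2.DerangeInvol.eq_one_of_two_fixed hsq
        (fun e => hg (MulAction.mem_stabilizer_iff.2 e.symm)) (MulAction.mem_stabilizer_iff.1 hx) hxg)
  have hker : ∀ x ∈ Cfsg.frobeniusKernel (MulAction.stabilizer G a), x ^ 2 = 1 := by
    rintro x (rfl | hx)
    · exact one_pow 2
    refine hsq x fun ω hω => ?_
    obtain ⟨k, rfl⟩ := MulAction.exists_smul_eq G a ω
    refine hx k ?_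
    rw [Subgroup.mem_pointwise_smul_iff_inv_smul_mem, MulAction.mem_stabilizer_iff,
      ← map_inv, MulAut.smul_def, MulAut.conj_apply, inv_inv, mul_smul, mul_smul, hω, inv_smul_smul]
  obtain ⟨N, hN, -, -⟩ := Cfsg.Agent.S0035.result _ hfrob
  refine ⟨hfrob, hker, fun x hx y hy => ?_⟩
  rw [← hN] at hx hy
  exact habel N (fun z hz => hker z (by rw [← hN]; exact hz)) x hx y hy

end Cfsg.Agent.S3555
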