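import Cfsg.Statements.S3556
import Cfsg.Agent.H60.Socle
import Cfsg.Agent.H56.BurnsideMinimal

set_option autoImplicit false
open Cfsg

namespace Cfsg.Agent.S3556

/-- Let G act faithfully and primitively on a finite set with at least two points, and suppose that for some fixed prime p every element of G fixing no point has order a power of p. Then G is of affine type (it has a regular normal subgroup that is an elementary abelian r-group for some prime r) or almost simple (it has a non-abelian simple normal subgroup with trivial centralizer). -/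
theorem result {G Ω : Type*} [Group G] [Finite G] [MulAction G Ω] [FaithfulSMul G Ω] [Finite Ω]
    (hprim : MulAction.IsPreprimitive G Ω) (hΩ : 2 ≤ Nat.card Ω) (p : ℕ) (hp : p.Prime)
    (hder : ∀ g : G, (∀ ω : Ω, g • ω ≠ ω) → ∃ k : ℕ, orderOf g = p ^ k) :
    (∃ (N : Subgroup G) (r : ℕ), r.Prime ∧ N.Normal ∧ Cfsg.IsElementaryAbelian r N ∧
      MulAction.IsPretransitive N Ω ∧ ∀ a : Ω, MulAction.stabilizer N a = ⊥) ∨
    (∃ T : Subgroup G, T.Normal ∧ IsSimpleGroup ↥T ∧ ¬ IsMulCommutative ↥T ∧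
      Subgroup.centralizer (T : Set G) = ⊥) := by
  classical
  haveI := hprim
  haveI : Nontrivial Ω := Finite.one_lt_card_iff_nontrivial.mp hΩ
  haveI : Fact p.Prime := ⟨hp⟩
  by_cases hnas : ∃ T : Subgroup G, T.Normal ∧ IsSimpleGroup ↥T ∧ ¬ IsMulCommutative ↥T ∧
      Subgroup.centralizer (T : Set G) = ⊥
  · exact Or.inr hnas
  rcases H60.socle_cases (Ω := Ω) hnas with ⟨N, hNn, hNne, hmin, hab, htr, hreg⟩ |
      ⟨N, hNn, hNne, hmin, htr, S, _, _, m, hm, hS, ⟨e⟩, hcase⟩
  · left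
    haveI := hNn
    obtain ⟨r, hr, hexp⟩ := H56.exists_prime_pow_eq_one hNne hmin hab
    exact ⟨N, r, hr, hNn, ⟨⟨⟨fun a b => Subtype.ext (hab a a.2 b b.2)⟩⟩, hexp⟩, htr,
      fun a => eq_bot_iff.mpr fun n hn => Subgroup.mem_bot.mpr (Subtype.ext (hreg n n.2 a hn))⟩
  exfalso
  haveI := htr
  haveI : Finite (Fin m → S) := Finite.of_equiv N e.toEquiv
  let i : Fin m := ⟨0, hm⟩
  haveI : Finite S := Finite.of_injective _ (Pi.mulSingle_injective (M := fun _ : Fin m => S) i)
  apply hS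
  suffices hall : ∀ t : S, ∃ k, orderOf t = p ^ k from
    IsSimpleGroup.comm_iff_isSolvable.mpr (H33.isSolvable_of_two_primes hp hp fun r hr hd => by
      haveI : Fact r.Prime := ⟨hr⟩
      obtain ⟨x, hx⟩ := exists_prime_orderOf_dvd_card' r hd
      obtain ⟨k, hk⟩ := hall x
      exact Or.inl ((Nat.prime_dvd_prime_iff_eq hr hp).mp (hr.dvd_of_dvd_pow (n := k) (by rw [← hk, hx]))))
  have hdvd : ∀ (n : N), (∀ ω : Ω, n • ω ≠ ω) → ∀ j, ∃ k, orderOf (e n j) = p ^ k := by
    intro n hn j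
    obtain ⟨k, hk⟩ := hder (n : G) hn
    have h1 : orderOf (e n j) ∣ p ^ k := by
      rw [← hk, Subgroup.orderOf_coe, ← MulEquiv.orderOf_eq e n]
      exact orderOf_map_dvd (Pi.evalMonoidHom (fun _ : Fin m => S) j) (e n)
    obtain ⟨l, -, hl⟩ := (Nat.dvd_prime_pow hp).mp h1
    exact ⟨l, hl⟩
  intro t
  rcases eq_or_ne t 1 with rfl | ht
  · exact ⟨0, by simp⟩
  have hsingle : (∀ ω : Ω, e.symm (Pi.mulSingle i t) • ω ≠ ω) → ∃ k, orderOf t = p ^ k := fun h => by
    simpa using hdvd _ h i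
  rcases hcase with hreg | ⟨-, hm2⟩
  · refine hsingle fun ω hω => ?_
    have h1 : e.symm (Pi.mulSingle i t) = 1 := Subtype.ext (hreg _ (e.symm _).2 ω hω)
    rw [MulEquiv.map_eq_one_iff, Pi.mulSingle_eq_one_iff] at h1
    exact ht h1
  rcases H60.derangement_coord (Ω := Ω) e i with ⟨x, hx, hxd⟩ | ⟨hd, -⟩
  · let j : Fin m := ⟨1, hm2⟩
    have hji : i ≠ j := by simp [i, j]
    simpa using hdvd (e.symm (Function.update (Pi.mulSingle i x) j t))
      (hxd _ (by simp [hji])) j
  · exact hsingle (hd t ht)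

end Cfsg.Agent.S3556
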