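import Cfsg.Statements.S3557

set_option autoImplicit false
open Cfsg

namespace Cfsg.Agent.S3557

open MulAction in
/-- A non-trivial normal subgroup of a finite `p`-group contains a central element of order `p`. -/
theorem exists_central_in_normal {H : Type*} [Group H] [Finite H] {p : ℕ} [Fact p.Prime] (hH : IsPGroup p H)
    (N : Subgroup H) [hN : N.Normal] (hne : N ≠ ⊥) :
    ∃ w ∈ N, orderOf w = p ∧ ∀ h : H, h * w = w * h := by
  classical
  letI : MulAction H N :=
    { smul := fun h n => ⟨h * n * h⁻¹, hN.conj_mem n n.2 h⟩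
      one_smul := fun n => Subtype.ext (show (1 : H) * n * (1 : H)⁻¹ = n by simp)
      mul_smul := fun g h n => Subtype.ext (show g * h * n * (g * h)⁻¹ = g * (h * n * h⁻¹) * g⁻¹ by group) }
  have hmod := hH.card_modEq_card_fixedPoints N
  haveI : Nontrivial N := (Subgroup.nontrivial_iff_ne_bot N).mpr hne
  obtain ⟨k, hk⟩ := IsPGroup.iff_card.mp (hH.to_subgroup N)
  have hk0 : k ≠ 0 := fun h => by
    rw [h, pow_zero] at hk
    exact (Finite.one_lt_card (α := N)).ne' hk
  have hd : p ∣ Nat.card (fixedPoints H N) :=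
    (Nat.ModEq.dvd_iff hmod dvd_rfl).mp (hk ▸ dvd_pow_self p hk0)
  have h1 : (1 : N) ∈ fixedPoints H N := fun h => Subtype.ext (show h * 1 * h⁻¹ = 1 by simp)
  haveI : Nonempty (fixedPoints H N) := ⟨⟨1, h1⟩⟩
  haveI : Nontrivial (fixedPoints H N) := Finite.one_lt_card_iff_nontrivial.mp
    (lt_of_lt_of_le (Fact.out : p.Prime).one_lt (Nat.le_of_dvd Nat.card_pos hd))
  obtain ⟨⟨x, hx⟩, hx1⟩ := exists_ne (⟨1, h1⟩ : fixedPoints H N)
  have hxne : (x : H) ≠ 1 := fun h => hx1 (Subtype.ext (Subtype.ext h))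
  have hxc : ∀ h : H, h * (x : H) = x * h := fun h => by
    have := congrArg Subtype.val (hx h)
    change h * (x : H) * h⁻¹ = x at this
    rwa [mul_inv_eq_iff_eq_mul] at this
  obtain ⟨j, hj⟩ := IsPGroup.iff_orderOf.mp hH (x : H)
  obtain ⟨j, rfl⟩ : ∃ i, j = i + 1 := by
    rcases Nat.eq_zero_or_pos j with h | h
    · rw [h, pow_zero, orderOf_eq_one_iff] at hj; exact absurd hj hxne
    · exact ⟨j - 1, by omega⟩
  refine ⟨(x : H) ^ (p ^ j), pow_mem x.2 _, ?_, fun h => Commute.pow_right (hxc h) _⟩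
  rw [orderOf_pow, hj, Nat.gcd_eq_right (pow_dvd_pow p (by omega : j ≤ j + 1)),
    Nat.pow_div (by omega) (Fact.out : p.Prime).pos, show j + 1 - j = 1 by omega, pow_one]

open MulAction in
/-- The construction: a central element moving only one of two orbits. -/
theorem derangement_of_split {G Ω : Type*} [Group G] [Finite G] [MulAction G Ω] [Finite Ω] {p : ℕ} [Fact p.Prime]
    (hcl : ∀ σ : Equiv.Perm Ω, (∀ a b : Ω, ∃ g : G, σ a = g • a ∧ σ b = g • b) → ∃ g : G, ∀ a : Ω, σ a = g • a)
    [FaithfulSMul G Ω] {P : Subgroup G} (hP : IsPGroup p P) (A B : Set Ω) (hA : ∀ g ∈ P, ∀ a ∈ A, g • a ∈ A)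
    (hB : ∀ g ∈ P, ∀ b ∈ B, g • b ∈ B) (hBt : ∀ b ∈ B, ∀ b' ∈ B, ∃ g ∈ P, g • b = b')
    (hcover : ∀ ω, ω ∈ A ↔ ω ∉ B) (hAcard : Nat.card A = p ^ 2) (hBcard : Nat.card B = p ^ 2)
    (z : G) (hzP : z ∈ P) (hz : orderOf z = p) (hzB : ∀ b ∈ B, z • b = b) (hzA : ∀ a ∈ A, z • a ≠ a) :
    ∃ g : G, (orderOf g).Prime ∧ ∀ ω : Ω, g • ω ≠ ω := by
  classical
  have hp : p.Prime := Fact.out
  -- the kernel on `B` and its orbits on `A`
  let K : Subgroup P :=
    { carrier := {g | ∀ b ∈ B, (g : G) • b = b}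
      one_mem' := fun b _ => by simp
      mul_mem' := fun {g h} hg hh b hb => by rw [Subgroup.coe_mul, mul_smul, hh b hb, hg b hb]
      inv_mem' := fun {g} hg b hb => by rw [Subgroup.coe_inv, inv_smul_eq_iff, hg b hb] }
  have hKn : K.Normal := ⟨fun k hk g b hb => by
    rw [Subgroup.coe_mul, Subgroup.coe_mul, Subgroup.coe_inv, mul_smul, mul_smul,
      hk _ (hB _ (P.inv_mem g.2) b hb), smul_inv_smul]⟩
  have horb : ∀ (g : P) (a : Ω), (fun x => (g : G) • x) '' orbit K a = orbit K ((g : G) • a) := by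
    intro g a
    ext x
    constructor
    · rintro ⟨_, ⟨k, rfl⟩, rfl⟩
      refine ⟨⟨g * k * g⁻¹, hKn.conj_mem k k.2 g⟩, ?_⟩
      show ((g : G) * (k : P) * (g : G)⁻¹) • (g : G) • a = (g : G) • ((k : P) : G) • a
      rw [mul_smul, mul_smul, inv_smul_smul]
    · rintro ⟨k, rfl⟩
      refine ⟨((g : G)⁻¹ * (k : P) * g) • a, ⟨⟨g⁻¹ * k * g, by simpa using hKn.conj_mem k k.2 g⁻¹⟩, rfl⟩, ?_⟩
      show (g : G) • ((g : G)⁻¹ * (k : P) * g) • a = ((k : P) : G) • (g : G) • a
      rw [mul_smul, mul_smul, smul_inv_smul]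
  let Q : Set (Set Ω) := (fun a => orbit K a) '' A
  have hQcard : Nat.card Q ≤ p := by
    have hsum : p * Nat.card Q ≤ Nat.card A := by
      let T : Finset Ω := (Set.toFinite A).toFinset
      have hT : ∀ x, x ∈ T ↔ x ∈ A := fun x => Set.Finite.mem_toFinset _
      have hTc : T.card = Nat.card A := by
        rw [Nat.card_coe_set_eq, Set.ncard_eq_toFinset_card A]
      have hQc : (T.image fun a => orbit K a).card = Nat.card Q := by
        rw [Nat.card_coe_set_eq, ← Set.ncard_coe_finset, Finset.coe_image]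
        congr 1
        ext q
        simp [Q, hT]
      rw [← hTc, ← hQc]
      calc p * (T.image fun a => orbit K a).card
          = ∑ _q ∈ T.image fun a => orbit K a, p := by rw [Finset.sum_const, smul_eq_mul, mul_comm]
        _ ≤ ∑ q ∈ T.image fun a => orbit K a, (T.filter fun a => orbit K a = q).card := by
            refine Finset.sum_le_sum fun q hq => ?_
            obtain ⟨a, ha, rfl⟩ := Finset.mem_image.mp hq
            have haA : a ∈ A := (hT a).mp ha
            obtain ⟨i, hi⟩ := (hP.to_subgroup K).card_orbit a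
            have hi0 : i ≠ 0 := by
              intro h0
              rw [h0, pow_zero, Nat.card_eq_one_iff_unique] at hi
              obtain ⟨hs, -⟩ := hi
              exact hzA a haA (congrArg Subtype.val (@Subsingleton.elim _ hs
                ⟨z • a, ⟨⟨⟨z, hzP⟩, hzB⟩, rfl⟩⟩ ⟨a, mem_orbit_self a⟩))
            calc p ≤ p ^ i := Nat.le_self_pow hi0 p
              _ = Nat.card (orbit K a) := hi.symm
              _ ≤ (T.filter fun x => orbit K x = orbit K a).card := by
                rw [Nat.card_coe_set_eq, ← Set.ncard_coe_finset]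
                refine Set.ncard_le_ncard ?_ (Finset.finite_toSet _)
                intro x hx
                obtain ⟨k, rfl⟩ := hx
                simp only [Finset.coe_filter, Set.mem_ofPred_eq, hT]
                exact ⟨hA _ (k : P).2 a haA, orbit_smul k a⟩
        _ = T.card := (Finset.card_eq_sum_card_image _ _).symm
    rw [hAcard, sq] at hsum
    exact Nat.le_of_mul_le_mul_left hsum hp.pos
  let φ : P →* Equiv.Perm Q :=
    { toFun := fun g =>
        { toFun := fun q => ⟨(fun x => (g : G) • x) '' q.1, by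
            obtain ⟨_, a, ha, rfl⟩ := q
            exact ⟨(g : G) • a, hA _ g.2 a ha, (horb g a).symm⟩⟩
          invFun := fun q => ⟨(fun x => ((g⁻¹ : P) : G) • x) '' q.1, by
            obtain ⟨_, a, ha, rfl⟩ := q
            exact ⟨((g⁻¹ : P) : G) • a, hA _ (g⁻¹).2 a ha, (horb g⁻¹ a).symm⟩⟩
          left_inv := fun q => Subtype.ext (by simp [Set.image_image])
          right_inv := fun q => Subtype.ext (by simp [Set.image_image]) }
      map_one' := Equiv.ext fun q => Subtype.ext (by simp)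
      map_mul' := fun g h => Equiv.ext fun q => Subtype.ext (by simp [Set.image_image, mul_smul]) }
  -- some element of the kernel on blocks moves `B`
  obtain ⟨b0, hb0⟩ : B.Nonempty := by
    by_contra h
    rw [Set.not_nonempty_iff_eq_empty] at h
    rw [h] at hBcard
    simp at hBcard
    exact pow_ne_zero 2 hp.ne_zero hBcard.symm
  haveI : Fintype B := Fintype.ofFinite _
  let π : P →* Equiv.Perm B :=
    { toFun := fun g =>
        { toFun := fun b => ⟨(g : G) • (b : Ω), hB _ g.2 b b.2⟩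
          invFun := fun b => ⟨(g : G)⁻¹ • (b : Ω), hB _ (P.inv_mem g.2) b b.2⟩
          left_inv := fun b => Subtype.ext (inv_smul_smul _ _)
          right_inv := fun b => Subtype.ext (smul_inv_smul _ _) }
      map_one' := Equiv.ext fun b => Subtype.ext (one_smul _ _)
      map_mul' := fun g h => Equiv.ext fun b => Subtype.ext (mul_smul _ _ _) }
  have hne : φ.ker.map π.rangeRestrict ≠ ⊥ := by
    intro h
    have hle : φ.ker ≤ K := fun g hg b hb => by
      have h1 : π.rangeRestrict g = 1 := by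
        rw [← Subgroup.mem_bot, ← h]
        exact ⟨g, hg, rfl⟩
      exact congrArg Subtype.val (Equiv.congr_fun (congrArg Subtype.val h1 : π g = 1) ⟨b, hb⟩)
    -- the orbit of `b0` has length `p ^ 2`, but the kernel has index at most `p`
    have h1 : p ^ 2 ∣ φ.ker.index := by
      let f : P → B := fun g => ⟨(g : G) • b0, hB _ g.2 b0 hb0⟩
      have hker : φ.ker ≤ stabilizer P b0 := fun g hg => hle hg b0 hb0
      have h2 : (stabilizer P b0).index = p ^ 2 := by
        rw [index_stabilizer, ← Nat.card_coe_set_eq, ← hBcard]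
        refine Nat.card_congr (Equiv.setCongr ?_)
        ext x
        constructor
        · rintro ⟨g, rfl⟩
          exact hB _ g.2 b0 hb0
        · intro hx
          obtain ⟨g, hg, hgx⟩ := hBt b0 hb0 x hx
          exact ⟨⟨g, hg⟩, hgx⟩
      exact h2 ▸ Subgroup.index_dvd_of_le hker
    obtain ⟨i, hi⟩ := hP.index φ.ker
    have h3 : p ^ i ∣ (Nat.card Q).factorial := by
      rw [← hi, Subgroup.index_ker, ← Nat.card_perm]
      exact Subgroup.card_subgroup_dvd_card φ.range
    have h4 : p ^ 2 ∣ (Nat.card Q).factorial := (h1.trans (hi ▸ dvd_rfl)).trans h3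
    rcases lt_or_eq_of_le hQcard with hlt | heq
    · exact absurd (hp.dvd_factorial.mp ((dvd_pow_self p two_ne_zero).trans h4)) (by omega)
    · rw [heq, ← Nat.mul_factorial_pred hp.ne_zero, sq, Nat.mul_dvd_mul_iff_left hp.pos] at h4
      have := hp.dvd_factorial.mp h4
      have := hp.pos
      omega
  haveI : (φ.ker.map π.rangeRestrict).Normal := (MonoidHom.normal_ker φ).map _ π.rangeRestrict_surjective
  obtain ⟨w', hw'M, hw', hw'c⟩ := exists_central_in_normal (hP.of_surjective π.rangeRestrict π.rangeRestrict_surjective)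
    (φ.ker.map π.rangeRestrict) hne
  obtain ⟨w, hwM, rfl⟩ := hw'M
  have hwfree : ∀ b ∈ B, (w : G) • b ≠ b := by
    intro b hb hwb
    have h1 : π.rangeRestrict w = 1 := by
      refine Subtype.ext (Equiv.ext fun b' => ?_)
      obtain ⟨g, hg, hgb⟩ := hBt b hb b' b'.2
      show π w b' = b'
      have hc : π (⟨g, hg⟩ : P) * π w = π w * π ⟨g, hg⟩ := congrArg Subtype.val (hw'c (π.rangeRestrict ⟨g, hg⟩))
      have h2 := congrArg Subtype.val (Equiv.congr_fun hc ⟨b, hb⟩)
      simp only [Equiv.Perm.mul_apply] at h2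
      change g • (w : G) • b = (w : G) • g • b at h2
      rw [hwb, hgb] at h2
      exact Subtype.ext h2.symm
    rw [h1, orderOf_one] at hw'
    exact hp.one_lt.ne hw'
  have hwp : ∀ b ∈ B, ((w : G) ^ p) • b = b := by
    intro b hb
    have h1 : π (w ^ p) = 1 := by
      rw [map_pow]
      have := pow_orderOf_eq_one (π.rangeRestrict w)
      rw [hw'] at this
      exact congrArg Subtype.val this
    have h2 := congrArg Subtype.val (Equiv.congr_fun h1 ⟨b, hb⟩)
    change ((w ^ p : P) : G) • b = b at h2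
    simpa using h2
  have hAB : ∀ ω, ω ∉ A → ω ∈ B := fun ω h => by
    by_contra h2
    exact h ((hcover ω).mpr h2)
  let σ : Equiv.Perm Ω :=
    { toFun := fun ω => if ω ∈ A then z • ω else (w : G) • ω
      invFun := fun ω => if ω ∈ A then z⁻¹ • ω else (w : G)⁻¹ • ω
      left_inv := fun ω => by
        simp only []
        by_cases h : ω ∈ A
        · rw [if_pos h, if_pos (hA z hzP ω h), inv_smul_smul]
        · have hn : (w : G) • ω ∉ A := fun h' => h (by simpa using hA _ (P.inv_mem w.2) _ h')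
          rw [if_neg h, if_neg hn, inv_smul_smul]
      right_inv := fun ω => by
        simp only []
        by_cases h : ω ∈ A
        · rw [if_pos h, if_pos (hA _ (P.inv_mem hzP) ω h), smul_inv_smul]
        · have hn : (w : G)⁻¹ • ω ∉ A := fun h' => h (by simpa using hA _ w.2 _ h')
          rw [if_neg h, if_neg hn, smul_inv_smul] }
  have hσA : ∀ a ∈ A, σ a = z • a := fun a ha => if_pos ha
  have hσB : ∀ a, a ∉ A → σ a = (w : G) • a := fun a ha => if_neg ha
  have hmix : ∀ a b : Ω, a ∈ A → b ∉ A → ∃ g : G, σ a = g • a ∧ σ b = g • b := by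
    intro a b ha hb
    have hφ : (fun x => (w : G) • x) '' orbit K a = orbit K a :=
      congrArg Subtype.val (Equiv.congr_fun (show φ w = 1 from hwM) ⟨orbit K a, a, ha, rfl⟩)
    have hm1 : (w : G) • a ∈ orbit K a := hφ ▸ Set.mem_image_of_mem _ (mem_orbit_self a)
    have hm2 : z • a ∈ orbit K a := ⟨⟨⟨z, hzP⟩, hzB⟩, rfl⟩
    obtain ⟨k1, hk1⟩ := hm1
    obtain ⟨k2, hk2⟩ := hm2
    change ((k1 : P) : G) • a = (w : G) • a at hk1
    change ((k2 : P) : G) • a = z • a at hk2
    refine ⟨((k2 : P) : G) * ((k1 : P) : G)⁻¹ * (w : G), ?_, ?_⟩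
    · rw [hσA a ha, mul_smul, mul_smul, ← hk1, inv_smul_smul, hk2]
    · have hwb : (w : G) • b ∈ B := hB _ w.2 b (hAB b hb)
      rw [hσB b hb, mul_smul, mul_smul, inv_smul_eq_iff.mpr ((k1.2 _ hwb).symm), k2.2 _ hwb]
  obtain ⟨g, hg⟩ := hcl σ fun a b => by
    by_cases ha : a ∈ A <;> by_cases hb : b ∈ A
    · exact ⟨z, hσA a ha, hσA b hb⟩
    · exact hmix a b ha hb
    · obtain ⟨g, h1, h2⟩ := hmix b a hb ha
      exact ⟨g, h2, h1⟩
    · exact ⟨w, hσB a ha, hσB b hb⟩
  have hpowA : ∀ (n : ℕ) a, a ∈ A → g ^ n • a = z ^ n • a ∧ z ^ n • a ∈ A := by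
    intro n
    induction n with
    | zero => intro a ha; simp [ha]
    | succ n ih =>
      intro a ha
      obtain ⟨h1, h2⟩ := ih a ha
      have h3 : z ^ (n + 1) • a = z • z ^ n • a := by rw [pow_succ', mul_smul]
      refine ⟨?_, h3 ▸ hA z hzP _ h2⟩
      rw [h3, pow_succ', mul_smul, h1, ← hg, hσA _ h2]
  have hpowB : ∀ (n : ℕ) a, a ∈ B → g ^ n • a = (w : G) ^ n • a ∧ (w : G) ^ n • a ∈ B := by
    intro n
    induction n with
    | zero => intro a ha; simp [ha]
    | succ n ih =>
      intro a ha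
      obtain ⟨h1, h2⟩ := ih a ha
      have h3 : (w : G) ^ (n + 1) • a = (w : G) • (w : G) ^ n • a := by rw [pow_succ', mul_smul]
      refine ⟨?_, h3 ▸ hB _ w.2 _ h2⟩
      rw [h3, pow_succ', mul_smul, h1, ← hg, hσB _ fun h => (hcover _).mp h h2]
  have hfree : ∀ ω : Ω, g • ω ≠ ω := by
    intro ω hω
    by_cases h : ω ∈ A
    · rw [← hg, hσA ω h] at hω; exact hzA ω h hω
    · rw [← hg, hσB ω h] at hω; exact hwfree ω (hAB ω h) hω
  refine ⟨g, ?_, hfree⟩
  have hgp : g ^ p = 1 := by
    refine FaithfulSMul.eq_of_smul_eq_smul fun ω : Ω => ?_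
    rw [one_smul]
    by_cases h : ω ∈ A
    · rw [(hpowA p ω h).1, ← hz, pow_orderOf_eq_one, one_smul]
    · rw [(hpowB p ω (hAB ω h)).1, hwp ω (hAB ω h)]
  rw [orderOf_eq_prime hgp fun h => hfree b0 (by rw [h, one_smul])]
  exact hp

/-- Let G act faithfully and transitively on a finite set with 2p² points, p a prime, and suppose G is 2-closed: every permutation of the set which, on each ordered pair of points, agrees with some element of G, is itself induced by an element of G. Then some element of G of prime order fixes no point. -/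
theorem result {G Ω : Type*} [Group G] [Finite G] [MulAction G Ω] [FaithfulSMul G Ω] [Finite Ω]
    (htrans : MulAction.IsPretransitive G Ω) (p : ℕ) (hp : p.Prime) (hcard : Nat.card Ω = 2 * p ^ 2)
    (hcl : ∀ σ : Equiv.Perm Ω, (∀ a b : Ω, ∃ g : G, σ a = g • a ∧ σ b = g • b) → ∃ g : G, ∀ a : Ω, σ a = g • a) :
    ∃ g : G, (orderOf g).Prime ∧ ∀ ω : Ω, g • ω ≠ ω := by
  classical
  haveI := htrans
  haveI : Fact p.Prime := ⟨hp⟩
  haveI : Nonempty Ω := (Nat.card_pos_iff.mp (by rw [hcard]; have := hp.pos; positivity)).1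
  obtain ⟨S⟩ : Nonempty (Sylow p G) := inferInstance
  set P : Subgroup G := (S : Subgroup G) with hPdef
  -- every orbit has length at least the `p`-part of the degree
  obtain ⟨e, hep, he⟩ : ∃ e, p ^ e ∣ Nat.card Ω ∧ 2 ≤ e ∧ ∀ ω : Ω, p ^ e ∣ Nat.card (MulAction.orbit P ω) := by
    obtain ⟨e, he2, hedvd⟩ : ∃ e, 2 ≤ e ∧ p ^ e ∣ Nat.card Ω ∧ (p = 2 → e = 3) := by
      rcases eq_or_ne p 2 with rfl | h
      · exact ⟨3, by omega, by rw [hcard]; norm_num, fun _ => rfl⟩
      · exact ⟨2, le_rfl, by rw [hcard]; exact dvd_mul_left _ _, fun h' => absurd h' h⟩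
    refine ⟨e, hedvd.1, he2, fun ω => ?_⟩
    obtain ⟨i, hi⟩ := S.2.card_orbit ω
    rw [hi]
    refine pow_dvd_pow p ?_
    have h1 : Nat.card (MulAction.orbit P ω) * Nat.card (MulAction.stabilizer P ω) = Nat.card P := by
      rw [Nat.card_coe_set_eq, ← MulAction.index_stabilizer, mul_comm, Subgroup.card_mul_index]
    have h2 : Nat.card (MulAction.stabilizer P ω) ∣ Nat.card (MulAction.stabilizer G ω) :=
      Subgroup.card_dvd_of_injective
        ((P.subtype.comp (MulAction.stabilizer P ω).subtype).codRestrict _ fun x => x.2)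
        fun x y h => Subtype.ext (Subtype.ext (congrArg Subtype.val h :))
    obtain ⟨k, hk⟩ := IsPGroup.iff_card.mp (S.2.to_subgroup (MulAction.stabilizer P ω))
    have h3 : p ^ (e + k) ∣ Nat.card G := by
      rw [← (MulAction.stabilizer G ω).card_mul_index, MulAction.index_stabilizer_of_transitive G ω, pow_add,
        mul_comm (Nat.card (MulAction.stabilizer G ω))]
      exact Nat.mul_dvd_mul hedvd.1 (hk ▸ h2)
    have h4 : Nat.card P = p ^ (Nat.card G).factorization p := S.card_eq_multiplicity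
    rw [hi, hk, h4, ← pow_add] at h1
    have h5 := Nat.pow_right_injective hp.two_le h1
    have h6 := (Nat.Prime.pow_dvd_iff_le_factorization hp Nat.card_pos.ne').mp h3
    omega
  obtain ⟨he2, horb⟩ := he
  have horble : ∀ ω : Ω, p ^ 2 ≤ Nat.card (MulAction.orbit P ω) := fun ω => by
    haveI : Nonempty (MulAction.orbit P ω) := ⟨⟨ω, MulAction.mem_orbit_self ω⟩⟩
    exact le_trans (Nat.pow_le_pow_right hp.pos he2) (Nat.le_of_dvd Nat.card_pos (horb ω))
  have hPne : P ≠ ⊥ := by
    intro h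
    obtain ⟨ω⟩ := ‹Nonempty Ω›
    have h1 := horble ω
    have h2 : Nat.card (MulAction.orbit P ω) = 1 := by
      rw [Nat.card_eq_one_iff_unique]
      refine ⟨⟨fun x y => Subtype.ext ?_⟩, ⟨⟨ω, MulAction.mem_orbit_self ω⟩⟩⟩
      obtain ⟨⟨g, hg⟩, hgx⟩ := x.2
      obtain ⟨⟨g', hg'⟩, hgy⟩ := y.2
      rw [h, Subgroup.mem_bot] at hg hg'
      subst hg; subst hg'
      exact hgx.symm.trans hgy
    rw [h2] at h1
    have : 1 < p ^ 2 := Nat.one_lt_pow two_ne_zero hp.one_lt
    omega
  haveI : Nontrivial P := (Subgroup.nontrivial_iff_ne_bot P).mpr hPne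
  obtain ⟨z, -, hz, hzc⟩ := exists_central_in_normal S.2 (⊤ : Subgroup P) top_ne_bot
  have hzG : orderOf (z : G) = p := by rw [Subgroup.orderOf_coe, hz]
  by_cases hzd : ∀ ω : Ω, (z : G) • ω ≠ ω
  · exact ⟨z, by rw [hzG]; exact hp, hzd⟩
  push Not at hzd
  obtain ⟨b0, hb0⟩ := hzd
  set B : Set Ω := MulAction.orbit P b0 with hBdef
  have hzB : ∀ b ∈ B, (z : G) • b = b := by
    rintro _ ⟨g, rfl⟩
    show (z : G) • (g : G) • b0 = (g : G) • b0
    have hc : (g : G) * z = z * g := congrArg Subtype.val (hzc g)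
    rw [← mul_smul, ← hc, mul_smul, hb0]
  obtain ⟨a0, ha0⟩ : ∃ a0 : Ω, (z : G) • a0 ≠ a0 := by
    by_contra h
    push Not at h
    have : (z : G) = 1 := FaithfulSMul.eq_of_smul_eq_smul fun ω : Ω => by rw [one_smul, h ω]
    rw [this, orderOf_one] at hzG
    exact hp.one_lt.ne hzG
  set A : Set Ω := MulAction.orbit P a0 with hAdef
  have hdisj : Disjoint A B := by
    rw [Set.disjoint_left]
    intro x hxA hxB
    apply ha0
    refine hzB a0 ?_
    rw [hBdef, ← MulAction.orbit_eq_iff.mpr hxB, MulAction.orbit_eq_iff.mpr hxA]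
    exact MulAction.mem_orbit_self a0
  have hsum : Nat.card A + Nat.card B ≤ 2 * p ^ 2 := by
    rw [← hcard, Nat.card_coe_set_eq, Nat.card_coe_set_eq, ← Set.ncard_union_eq hdisj]
    exact Set.ncard_le_card _
  have hA2 : Nat.card A = p ^ 2 ∧ Nat.card B = p ^ 2 := by
    have h1 := horble a0
    have h2 := horble b0
    rw [← hAdef] at h1
    rw [← hBdef] at h2
    omega
  have hcov : A ∪ B = Set.univ := by
    refine Set.eq_of_subset_of_ncard_le (Set.subset_univ _) ?_
    rw [Set.ncard_univ, Set.ncard_union_eq hdisj, ← Nat.card_coe_set_eq, ← Nat.card_coe_set_eq, hA2.1, hA2.2,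
      hcard, two_mul]
  refine derangement_of_split hcl S.2 A B (fun g hg a ha => ?_) (fun g hg b hb => ?_) (fun b hb b' hb' => ?_)
    (fun ω => ⟨fun h h' => Set.disjoint_left.mp hdisj h h', fun h =>
      ((hcov.ge (Set.mem_univ ω)) : ω ∈ A ∪ B).resolve_right h⟩)
    hA2.1 hA2.2 (z : G) z.2 hzG hzB ?_
  · exact MulAction.mem_orbit_of_mem_orbit (⟨g, hg⟩ : P) ha
  · exact MulAction.mem_orbit_of_mem_orbit (⟨g, hg⟩ : P) hb
  · rw [hBdef, ← MulAction.orbit_eq_iff.mpr hb] at hb'
    obtain ⟨g, hg⟩ := hb'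
    exact ⟨g, g.2, hg⟩
  · rintro _ ⟨g, rfl⟩ h
    apply ha0
    change (z : G) • (g : G) • a0 = (g : G) • a0 at h
    have hc : (g : G) * z = z * g := congrArg Subtype.val (hzc g)
    rw [← mul_smul, ← hc, mul_smul] at h
    exact smul_left_cancel (g : G) h

end Cfsg.Agent.S3557
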