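import Cfsg.Statements.S3560

set_option autoImplicit false
open Cfsg

namespace Cfsg.Agent.S3560

open scoped Classical in
/-- Permutations of a set coordinatised by `E` preserving Hamming distance. -/
def hammingGroup {α ι : Type*} [Fintype ι] {m : ℕ} (E : α ≃ (ι → Fin m)) :
    Subgroup (Equiv.Perm α) where
  carrier := {σ | ∀ x y, hammingDist (E (σ x)) (E (σ y)) = hammingDist (E x) (E y)}
  one_mem' := fun x y => rfl
  mul_mem' := fun {a b} ha hb x y => (ha (b x) (b y)).trans (hb x y)
  inv_mem' := fun {a} ha x y => by
    have := ha (a⁻¹ x) (a⁻¹ y)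
    simpa using this.symm

open scoped Classical Pointwise in
theorem hamming_primitive {α ι : Type*} [Fintype ι] {m : ℕ} (hm : 3 ≤ m) (E : α ≃ (ι → Fin m)) :
    MulAction.IsPreprimitive (hammingGroup E) α := by
  let mk : ((ι → Fin m) ≃ (ι → Fin m)) → Equiv.Perm α := fun f => (E.trans f).trans E.symm
  have hmk : ∀ f x, E (mk f x) = f (E x) := fun f x => by simp [mk]
  have hcoord : ∀ π : ι → Equiv.Perm (Fin m), mk (Equiv.piCongrRight π) ∈ hammingGroup E := by
    intro π x y
    rw [hmk, hmk]
    exact hammingDist_comp (fun i => π i) (fun i => (π i).injective)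
  have hindex : ∀ τ : Equiv.Perm ι, mk (Equiv.arrowCongr τ (Equiv.refl (Fin m))) ∈ hammingGroup E := by
    intro τ x y
    rw [hmk, hmk]
    simp only [hammingDist, Equiv.arrowCongr_apply, Equiv.coe_refl, Function.id_comp, Function.comp_apply]
    exact Finset.card_bij (fun i _ => τ.symm i) (fun i hi => by simpa using hi)
      (fun i _ j _ h => τ.symm.injective h) (fun i hi => ⟨τ i, by simpa using hi, by simp⟩)
  haveI : MulAction.IsPretransitive (hammingGroup E) α := ⟨fun x y =>
    ⟨⟨_, hcoord fun i => Equiv.swap (E x i) (E y i)⟩, E.injective (by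
      show E (mk _ x) = _
      rw [hmk]; funext i; simp)⟩⟩
  refine { isTrivialBlock_of_isBlock := fun {B} hB => ?_ }
  rw [MulAction.IsTrivialBlock, or_iff_not_imp_left]
  intro hns
  obtain ⟨x, hx, y, hy, hxy⟩ := Set.not_subsingleton_iff.mp hns
  have hstep : ∀ (f : (ι → Fin m) ≃ (ι → Fin m)), mk f ∈ hammingGroup E → ∀ a b, a ∈ B →
      E.symm (f (E a)) ∈ B → b ∈ B → E.symm (f (E b)) ∈ B := by
    intro f hf a b ha hfa hb
    have hmem : ∀ z ∈ B, E.symm (f (E z)) ∈ (⟨mk f, hf⟩ : hammingGroup E) • B :=
      fun z hz => ⟨z, hz, rfl⟩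
    rcases MulAction.isBlock_iff_smul_eq_or_disjoint.mp hB ⟨mk f, hf⟩ with h | h
    · exact h ▸ hmem b hb
    · exact absurd hfa (Set.disjoint_left.mp h (hmem a ha))
  -- two points of `B` differing in one coordinate
  obtain ⟨i, hi⟩ : ∃ i, E x i ≠ E y i := by
    by_contra h
    push Not at h
    exact hxy (E.injective (funext h))
  obtain ⟨z, hz⟩ : ∃ z : Fin m, z ∉ ({E x i, E y i} : Finset (Fin m)) := by
    by_contra h
    push Not at h
    have hcard := Finset.card_le_card (fun z _ => h z : (Finset.univ : Finset (Fin m)) ⊆ {E x i, E y i})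
    rw [Finset.card_univ, Fintype.card_fin] at hcard
    have := Finset.card_le_two (a := E x i) (b := E y i)
    omega
  simp only [Finset.mem_insert, Finset.mem_singleton, not_or] at hz
  let π : ι → Equiv.Perm (Fin m) := fun k => if k = i then Equiv.swap (E y i) z else 1
  have hπx : Equiv.piCongrRight π (E x) = E x := by
    funext k
    rcases eq_or_ne k i with h | h
    · subst h; simp [π, Equiv.swap_apply_of_ne_of_ne hi (Ne.symm hz.1)]
    · simp [π, h]
  have hπy : Equiv.piCongrRight π (E y) = Function.update (E y) i z := by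
    funext k
    rcases eq_or_ne k i with h | h
    · subst h; simp [π]
    · simp [π, h]
  have hy' : E.symm (Function.update (E y) i z) ∈ B := hπy ▸
    hstep _ (hcoord π) x y hx (by rw [hπx, E.symm_apply_apply]; exact hx) hy
  -- all neighbours in coordinate `i` of `y`
  have hline : ∀ c, E.symm (Function.update (E y) i c) ∈ B := by
    intro c
    rcases eq_or_ne c (E y i) with h | h
    · rw [h, Function.update_eq_self, E.symm_apply_apply]; exact hy
    let π' : ι → Equiv.Perm (Fin m) := fun k => if k = i then Equiv.swap z c else 1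
    have h1 : Equiv.piCongrRight π' (E y) = E y := by
      funext k
      rcases eq_or_ne k i with hk | hk
      · subst hk; simp [π', Equiv.swap_apply_of_ne_of_ne (Ne.symm hz.2) (Ne.symm h)]
      · simp [π', hk]
    have h2 : Equiv.piCongrRight π' (E (E.symm (Function.update (E y) i z))) = Function.update (E y) i c := by
      rw [E.apply_symm_apply]
      funext k
      rcases eq_or_ne k i with hk | hk
      · subst hk; simp [π']
      · simp [π', hk]
    exact h2 ▸ hstep _ (hcoord π') y _ hy (by rw [h1, E.symm_apply_apply]; exact hy) hy'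
  have hupd : ∀ w ∈ B, ∀ j c, E.symm (Function.update (E w) j c) ∈ B := by
    intro w hw j c
    -- permute coordinates `i, j`, then move `y` to `w`
    let τ := Equiv.swap i j
    let π' : ι → Equiv.Perm (Fin m) := fun k => Equiv.swap (E y (τ k)) (E w k)
    let f : (ι → Fin m) ≃ (ι → Fin m) := (Equiv.arrowCongr τ (Equiv.refl (Fin m))).trans (Equiv.piCongrRight π')
    have hf : mk f ∈ hammingGroup E := by
      have : mk f = mk (Equiv.piCongrRight π') * mk (Equiv.arrowCongr τ (Equiv.refl (Fin m))) := by
        ext a; simp [mk, f]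
      rw [this]
      exact mul_mem (hcoord π') (hindex τ)
    have h1 : f (E y) = E w := by funext k; simp [f, π', τ]
    let c' := Equiv.swap (E y i) (E w j) c
    have h2 : f (E (E.symm (Function.update (E y) i c'))) = Function.update (E w) j c := by
      rw [E.apply_symm_apply]
      funext k
      rcases eq_or_ne k j with hk | hk
      · subst hk; simp [f, π', τ, c']
      · have hne : τ k ≠ i := by
          intro h
          apply hk
          apply τ.injective
          rw [h]
          simp [τ]
        simp only [τ] at hne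
        simp [f, π', τ, hk, Function.update_of_ne hne]
    exact h2 ▸ hstep f hf y _ hy (by rw [h1, E.symm_apply_apply]; exact hw) (hline c')
  refine Set.eq_univ_of_forall fun a => ?_
  have hind : ∀ s : Finset ι, ∃ w ∈ B, ∀ k ∈ s, E w k = E a k := by
    intro s
    induction s using Finset.induction_on with
    | empty => exact ⟨y, hy, by simp⟩
    | @insert k s _ ih =>
      obtain ⟨w, hw, hws⟩ := ih
      refine ⟨_, hupd w hw k (E a k), fun l hl => ?_⟩
      rw [E.apply_symm_apply]
      rcases eq_or_ne l k with h | h
      · subst h; simp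
      · rw [Function.update_of_ne h]
        exact hws l ((Finset.mem_insert.mp hl).resolve_left h)
  obtain ⟨w, hw, hwa⟩ := hind Finset.univ
  have : w = a := E.injective (funext fun k => hwa k (Finset.mem_univ k))
  exact this ▸ hw


/-- Let K be a finite group isomorphic to a direct product of r ≥ 2 groups all of the same order m ≥ 3. Then K is not a B-group: there is a primitive but not doubly transitive permutation group (on some finite set) containing a regular subgroup isomorphic to K. -/
theorem result {K : Type*} [Group K] [Finite K] {ι : Type*} [Fintype ι] (F : ι → Type*) [∀ i, Group (F i)]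
    (hr : 2 ≤ Fintype.card ι) (m : ℕ) (hm : 3 ≤ m) (hcard : ∀ i, Nat.card (F i) = m) (e : K ≃* (∀ i, F i)) :
    ∃ (n : ℕ) (G R : Subgroup (Equiv.Perm (Fin n))), R ≤ G ∧ Nonempty (↥R ≃* K) ∧
      MulAction.IsPretransitive ↥R (Fin n) ∧ (∀ a : Fin n, MulAction.stabilizer ↥R a = ⊥) ∧
      MulAction.IsPreprimitive ↥G (Fin n) ∧ ¬ MulAction.IsMultiplyPretransitive ↥G (Fin n) 2 := by
  classical
  haveI : ∀ i, Finite (F i) := fun i => Nat.finite_of_card_ne_zero (by rw [hcard i]; omega)
  let φ : ∀ i, F i ≃ Fin m := fun i => Finite.equivFinOfCardEq (hcard i)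
  let n := Fintype.card (ι → Fin m)
  let E : Fin n ≃ (ι → Fin m) := (Fintype.equivFin _).symm
  let T : Fin n ≃ K := E.trans ((Equiv.piCongrRight fun i => (φ i).symm).trans e.symm.toEquiv)
  let ψ : K →* Equiv.Perm (Fin n) :=
    { toFun := fun k => (T.trans (Equiv.mulLeft k)).trans T.symm
      map_one' := by ext1 x; simp
      map_mul' := fun a b => by ext1 x; simp [mul_assoc] }
  have hψ : Function.Injective ψ := fun a b h => by
    have := DFunLike.congr_fun h (T.symm 1)
    simpa [ψ] using this
  have hψE : ∀ k x i, E (ψ k x) i = φ i (e k i * (φ i).symm (E x i)) := by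
    intro k x i
    simp [ψ, T]
  refine ⟨n, hammingGroup E, ψ.range, ?_, ⟨(MonoidHom.ofInjective hψ).symm⟩, ?_, ?_, hamming_primitive hm E, ?_⟩
  · rintro _ ⟨k, rfl⟩ x y
    rw [funext (hψE k x), funext (hψE k y)]
    exact hammingDist_comp (fun i v => φ i (e k i * (φ i).symm v)) (x := E x) (y := E y)
      fun i => (φ i).injective.comp ((mul_right_injective _).comp (φ i).symm.injective)
  · refine ⟨fun x y => ⟨⟨_, ⟨T y * (T x)⁻¹, rfl⟩⟩, ?_⟩⟩
    show ψ (T y * (T x)⁻¹) x = y
    simp [ψ]
  · intro a
    refine eq_bot_iff.mpr ?_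
    rintro ⟨_, k, rfl⟩ hk
    have h1 : ψ k a = a := hk
    simp [ψ, Equiv.symm_apply_eq] at h1
    rw [Subgroup.mem_bot]
    subst h1
    exact Subtype.ext (map_one ψ)
  · intro h2
    obtain ⟨i, j, hij⟩ := Fintype.one_lt_card_iff.mp hr
    let u : ι → Fin m := fun _ => ⟨0, by omega⟩
    let one : Fin m := ⟨1, by omega⟩
    let v := Function.update u i one
    let w := Function.update v j one
    have d1 : hammingDist u v = 1 := by
      simp only [hammingDist]
      rw [Finset.card_eq_one]
      refine ⟨i, ?_⟩
      ext k
      rcases eq_or_ne k i with h | h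
      · subst h; simp [v, u, one]
      · simp [v, h]
    have d2 : hammingDist u w = 2 := by
      simp only [hammingDist]
      rw [Finset.card_eq_two]
      refine ⟨i, j, hij, ?_⟩
      ext k
      rcases eq_or_ne k i with h | h
      · subst h; simp [w, v, u, one, hij]
      · rcases eq_or_ne k j with h' | h'
        · subst h'; simp [w, u, one]
        · simp [w, v, h, h']
    rw [MulAction.is_two_pretransitive_iff] at h2
    obtain ⟨g, hg0, hg1⟩ := h2 (a := E.symm u) (b := E.symm v) (c := E.symm u) (d := E.symm w)
      (fun h => by have := E.symm.injective h; rw [← this, hammingDist_self] at d1; omega)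
      (fun h => by have := E.symm.injective h; rw [← this, hammingDist_self] at d2; omega)
    have := g.2 (E.symm u) (E.symm v)
    change hammingDist (E (g • E.symm u)) (E (g • E.symm v)) = _ at this
    rw [hg0, hg1] at this
    simp [d1, d2] at this

end Cfsg.Agent.S3560
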