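import Cfsg.Statements.S3571
import Cfsg.Agent.H60.AltSocle
import Cfsg.Agent.H32.AltAut

set_option autoImplicit false
open Cfsg

namespace Cfsg.Agent.S3571

theorem six {G Ω : Type*} [Group G] [Finite G] [MulAction G Ω] [FaithfulSMul G Ω] [Finite Ω]
    (T : Subgroup G) (eT : ↥T ≃* ↥(alternatingGroup (Fin 6)))
    (htr : MulAction.IsPretransitive T Ω) (hΩ : 2 ≤ Nat.card Ω) (r : ℕ) (hr : r.Prime)
    (hrd : r ∣ Nat.card Ω) (hmax : ∀ s : ℕ, s.Prime → s ∣ Nat.card Ω → s ≤ r) :
    ∃ g : G, orderOf g = r ∧ ∀ ω : Ω, g • ω ≠ ω := by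
  classical
  haveI : Fact r.Prime := ⟨hr⟩
  haveI : Nonempty Ω := Finite.card_pos_iff.mp (by omega)
  obtain ⟨a⟩ := ‹Nonempty Ω›
  set K := MulAction.stabilizer T a with hK
  have hcardT : Nat.card T = 360 := by
    rw [Nat.card_congr eT.toEquiv, nat_card_alternatingGroup, Nat.card_fin]; rfl
  have hnK : Nat.card K * Nat.card Ω = 360 := by
    rw [← MulAction.index_stabilizer_of_transitive T a, ← hK, Subgroup.card_mul_index, hcardT]
  have finish : ∀ g : T, orderOf g = r → (∀ x : T, x * g * x⁻¹ ∉ K) →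
      ∃ g : G, orderOf g = r ∧ ∀ ω : Ω, g • ω ≠ ω := by
    refine fun g hg hno => ⟨g, by rw [Subgroup.orderOf_coe, hg], fun ω hω => ?_⟩
    obtain ⟨x, hx⟩ := MulAction.exists_smul_eq T ω a
    refine hno x ?_
    show (x * g * x⁻¹) • a = a
    rw [mul_smul, mul_smul, ← hx, inv_smul_smul]
    exact congrArg (x • ·) hω
  by_cases hd : r ∣ Nat.card K
  swap
  · obtain ⟨g, hg⟩ := exists_prime_orderOf_dvd_card' r
      (show r ∣ Nat.card T by rw [hcardT, ← hnK]; exact hrd.trans (dvd_mul_left _ _))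
    refine finish g hg fun x hx => hd ?_
    have h1 : orderOf (x * g * x⁻¹) = r := by rw [← MulAut.conj_apply, MulEquiv.orderOf_eq, hg]
    exact h1 ▸ Subgroup.orderOf_dvd_natCard K hx
  have h360 : r * r ∣ 360 := hnK ▸ Nat.mul_dvd_mul hd hrd
  have hr5 : r ≤ 18 := by
    have := Nat.le_of_dvd (by norm_num) h360
    nlinarith
  have hn360 : Nat.card Ω ∣ 360 := hnK ▸ dvd_mul_left _ _
  obtain rfl | rfl : r = 2 ∨ r = 3 := by
    interval_cases r <;> (revert hr h360; norm_num)
  · exfalso
    have h3 : ¬ 3 ∣ Nat.card Ω := fun h => by have := hmax 3 Nat.prime_three h; omega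
    have h5 : ¬ 5 ∣ Nat.card Ω := fun h => by have := hmax 5 (by norm_num) h; omega
    have hn8 : Nat.card Ω ∣ 8 := by
      have h45 : Nat.Coprime (Nat.card Ω) 45 := by
        rw [show (45 : ℕ) = 3 ^ 2 * 5 by norm_num]
        exact Nat.Coprime.mul_right
          (Nat.Coprime.pow_right _ ((Nat.prime_three.coprime_iff_not_dvd).mpr h3).symm)
          (((Nat.Prime.coprime_iff_not_dvd (by norm_num)).mpr h5).symm)
      exact h45.dvd_of_dvd_mul_right (show Nat.card Ω ∣ 8 * 45 from hn360)
    have hne8 : Nat.card Ω ≠ 8 := fun h => by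
      rw [h] at hnK
      obtain ⟨c, hc⟩ := hd
      omega
    have hn4 : Nat.card Ω ≤ 4 := by
      have h8 := Nat.le_of_dvd (by norm_num) hn8
      interval_cases (Nat.card Ω) <;> omega
    have hinj : Function.Injective ((MulAction.toPermHom G Ω).comp T.subtype) :=
      MulAction.toPerm_injective.comp Subtype.val_injective
    have h := Nat.le_of_dvd (Nat.card_pos) (Subgroup.card_dvd_of_injective _ hinj)
    rw [hcardT, Nat.card_perm] at h
    have h' := Nat.factorial_le hn4
    have : Nat.factorial 4 = 24 := rfl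
    omega
  · have hK9 : ¬ 3 ^ 2 ∣ Nat.card K := fun h => by
      have := Nat.mul_dvd_mul h hrd
      rw [hnK] at this
      norm_num at this
    by_contra hcon
    have hfix : ∀ j : ℕ, 1 ≤ j → j * 3 ≤ 6 → ∃ g : K,
        ((eT (g : T)) : Equiv.Perm (Fin 6)).cycleType = Multiset.replicate j 3 ∧ orderOf g = 3 := by
      intro j hj1 hj2
      obtain ⟨σ, hσ, hct, -⟩ := H60.exists_perm_replicate (α := Fin 6) Nat.prime_three hj1
        (by rw [Fintype.card_fin]; exact hj2)
      have hσA : σ ∈ alternatingGroup (Fin 6) := by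
        rw [Equiv.Perm.mem_alternatingGroup, Equiv.Perm.sign_of_cycleType_eq_replicate (n := 3) (by norm_num)
          (by rw [hct, Multiset.card_replicate]), if_pos (by decide)]
      set g := eT.symm ⟨σ, hσA⟩ with hg
      have hgo : orderOf g = 3 := by rw [hg, MulEquiv.orderOf_eq, Subgroup.orderOf_mk, hσ]
      obtain ⟨x, hx⟩ : ∃ x : T, x * g * x⁻¹ ∈ K := by
        by_contra h
        push Not at h
        exact hcon (finish g hgo h)
      refine ⟨⟨_, hx⟩, ?_, by rw [Subgroup.orderOf_mk, ← MulAut.conj_apply, MulEquiv.orderOf_eq, hgo]⟩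
      simp [hg, Equiv.Perm.cycleType_conj, hct]
    obtain ⟨u, hu, hu3⟩ := hfix 1 le_rfl (by norm_num)
    obtain ⟨v, hv, hv3⟩ := hfix 2 (by norm_num) (by norm_num)
    haveI : Fact (Nat.Prime 3) := ⟨Nat.prime_three⟩
    have hsyl : ∀ (P : Sylow 3 K), Nat.card P ≤ 3 := by
      intro P
      obtain ⟨i, hi⟩ := IsPGroup.iff_card.mp P.2
      have hdvd : Nat.card P ∣ Nat.card K := Subgroup.card_subgroup_dvd_card _
      rw [hi] at hdvd ⊢
      have : i < 2 := by
        by_contra h
        exact hK9 ((pow_dvd_pow 3 (by omega : 2 ≤ i)).trans hdvd)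
      interval_cases i <;> norm_num
    have hgrp : ∀ w : K, orderOf w = 3 → ∃ P : Sylow 3 K, (P : Subgroup K) = Subgroup.zpowers w := by
      intro w hw
      obtain ⟨P, hP⟩ := (IsPGroup.of_card (n := 1)
        (show Nat.card (Subgroup.zpowers w) = 3 ^ 1 by rw [Nat.card_zpowers, hw, pow_one])).exists_le_sylow
      refine ⟨P, (Subgroup.eq_of_le_of_card_ge hP ?_).symm⟩
      rw [Nat.card_zpowers, hw]
      exact hsyl P
    obtain ⟨P, hP⟩ := hgrp u hu3
    obtain ⟨Q, hQ⟩ := hgrp v hv3
    obtain ⟨c, hc⟩ := MulAction.exists_smul_eq K P Q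
    have hvQ : v ∈ (c • P : Sylow 3 K) := by
      rw [hc]; show v ∈ (Q : Subgroup K); rw [hQ]; exact Subgroup.mem_zpowers v
    rw [Sylow.smul_def] at hvQ
    have hvQ' : v ∈ (P : Subgroup K).map (MulAut.conj c).toMonoidHom := hvQ
    rw [hP, MonoidHom.map_zpowers] at hvQ'
    obtain ⟨i, hi⟩ := hvQ'
    simp only at hi
    have hu' : orderOf (((eT (u : T)) : Equiv.Perm (Fin 6))) = 3 := by
      rw [Subgroup.orderOf_coe, MulEquiv.orderOf_eq, Subgroup.orderOf_coe, hu3]
    have hv1 : ((eT (v : T)) : Equiv.Perm (Fin 6)) = (eT (c : T) : Equiv.Perm (Fin 6)) *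
        (eT (u : T) : Equiv.Perm (Fin 6)) ^ (i % 3) * (eT (c : T) : Equiv.Perm (Fin 6))⁻¹ := by
      have h1 : (eT (u : T) : Equiv.Perm (Fin 6)) ^ (i % 3) = (eT (u : T) : Equiv.Perm (Fin 6)) ^ i := by
        have h := zpow_mod_orderOf ((eT (u : T) : Equiv.Perm (Fin 6))) i
        rw [hu'] at h
        exact_mod_cast h
      rw [h1, ← hi]
      simp [map_zpow]
    have hi3 : i % 3 = 0 ∨ i % 3 = 1 ∨ i % 3 = 2 := by omega
    have h2 : (eT (u : T) : Equiv.Perm (Fin 6)) ^ (2 : ℤ) = (eT (u : T) : Equiv.Perm (Fin 6))⁻¹ := by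
      refine eq_inv_of_mul_eq_one_left ?_
      rw [← zpow_add_one, show (2 : ℤ) + 1 = ((3 : ℕ) : ℤ) by norm_num, zpow_natCast, ← hu',
        pow_orderOf_eq_one]
    rw [hv1, Equiv.Perm.cycleType_conj] at hv
    rcases hi3 with h | h | h <;> rw [h] at hv
    · rw [zpow_zero, Equiv.Perm.cycleType_one] at hv
      exact absurd (congrArg Multiset.card hv) (by simp)
    · rw [zpow_one, hu] at hv
      exact absurd (congrArg Multiset.card hv) (by simp)
    · rw [h2, Equiv.Perm.cycleType_inv, hu] at hv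
      exact absurd (congrArg Multiset.card hv) (by simp)


/-- Let G be an almost simple group whose socle is an alternating group of degree m ≥ 5 (G has a normal subgroup T isomorphic to that alternating group with trivial centralizer), acting faithfully and primitively on a finite set Ω with at least two points, and let r be the largest prime divisor of the number of points. Then G contains an element of order r fixing no point. -/
theorem result {G Ω : Type*} [Group G] [Finite G] [MulAction G Ω] [FaithfulSMul G Ω] [Finite Ω]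
    (T : Subgroup G) (hT : T.Normal) (hTc : Subgroup.centralizer (T : Set G) = ⊥) (m : ℕ) (hm : 5 ≤ m)
    (eT : ↥T ≃* ↥(alternatingGroup (Fin m))) (hprim : MulAction.IsPreprimitive G Ω) (hΩ : 2 ≤ Nat.card Ω)
    (r : ℕ) (hr : r.Prime) (hrd : r ∣ Nat.card Ω) (hmax : ∀ s : ℕ, s.Prime → s ∣ Nat.card Ω → s ≤ r) :
    ∃ g : G, orderOf g = r ∧ ∀ ω : Ω, g • ω ≠ ω := by
  classical
  haveI := hprim
  haveI := hT
  haveI : Nonempty Ω := Finite.card_pos_iff.mp (by omega)
  obtain ⟨a⟩ := ‹Nonempty Ω›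
  haveI : Nontrivial Ω := Finite.one_lt_card_iff_nontrivial.mp (by omega)
  have hTne : ∃ t : T, t ≠ 1 := by
    haveI : Nontrivial (alternatingGroup (Fin m)) :=
      alternatingGroup.nontrivial_of_three_le_card (by rw [Nat.card_fin]; omega)
    obtain ⟨x, hx⟩ := exists_ne (1 : alternatingGroup (Fin m))
    exact ⟨eT.symm x, fun h => hx (by simpa using congrArg eT h)⟩
  have htrT : MulAction.IsPretransitive T Ω := by
    refine MulAction.IsQuasiPreprimitive.isPretransitive_of_normal (G := G) ?_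
    intro huniv
    obtain ⟨t, ht⟩ := hTne
    refine ht (Subtype.ext (FaithfulSMul.eq_of_smul_eq_smul (α := Ω) fun ω => ?_))
    have hmem : ω ∈ MulAction.fixedPoints T Ω := by rw [huniv]; exact Set.mem_univ ω
    rw [OneMemClass.coe_one, one_smul]
    exact hmem t
  by_cases h6 : m = 6
  · subst h6
    exact six T eT htrT hΩ r hr hrd hmax
  let ψ : Equiv.Perm (Fin m) ≃* MulAut (alternatingGroup (Fin m)) :=
    MulEquiv.ofBijective (MulAut.conjNormal : Equiv.Perm (Fin m) →* MulAut (alternatingGroup (Fin m)))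
      (H32.AltAut.conjNormal_bijective (by rw [Fintype.card_fin]; omega)
        (by rw [Fintype.card_fin]; exact h6))
  let φ : G →* Equiv.Perm (Fin m) :=
    ψ.symm.toMonoidHom.comp ((MulAut.congr eT).toMonoidHom.comp (MulAut.conjNormal : G →* MulAut T))
  have hφ : Function.Injective φ := by
    rw [injective_iff_map_eq_one]
    intro g hg
    have h1 : (MulAut.conjNormal g : MulAut T) = 1 := by
      apply (MulAut.congr eT).injective
      apply ψ.symm.injective
      rw [map_one, map_one]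
      exact hg
    have h2 : g ∈ Subgroup.centralizer (T : Set G) := by
      rw [Subgroup.mem_centralizer_iff]
      intro t ht
      have h3 := congrArg Subtype.val (DFunLike.congr_fun h1 ⟨t, ht⟩)
      rw [MulAut.conjNormal_apply] at h3
      exact (mul_inv_eq_iff_eq_mul.mp h3).symm
    rwa [hTc, Subgroup.mem_bot] at h2
  have hφT : ∀ t : T, φ t = (eT t : Equiv.Perm (Fin m)) := by
    intro t
    apply ψ.injective
    show ψ (ψ.symm _) = _
    rw [ψ.apply_symm_apply]
    refine MulEquiv.ext fun y => Subtype.ext ?_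
    show (eT ((MulAut.conjNormal (t : G) : MulAut T) (eT.symm y)) : Equiv.Perm (Fin m)) = _
    rw [show (MulAut.conjNormal (t : G) : MulAut T) (eT.symm y) = t * eT.symm y * t⁻¹ from
      Subtype.ext (by simp [MulAut.conjNormal_apply])]
    simp [ψ, MulAut.conjNormal_apply]
  have hA : alternatingGroup (Fin m) ≤ φ.range := fun x hx =>
    ⟨(eT.symm ⟨x, hx⟩ : T), by rw [hφT]; simp⟩
  refine H60.AltSocle.exists_derangement hm φ hφ hA hprim hΩ a (fun hle => ?_) r hr hrd hmax
  haveI := htrT
  obtain ⟨b, hb⟩ := exists_ne a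
  obtain ⟨t, ht⟩ := MulAction.exists_smul_eq T a b
  obtain ⟨h, hh, he⟩ := hle (eT t).2
  rw [← hφT] at he
  have : h = (t : G) := hφ he
  subst this
  exact hb (ht.symm.trans hh)

end Cfsg.Agent.S3571
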