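import Cfsg.Statements.S3573
import Cfsg.Agent.H60.Perm

set_option autoImplicit false
open Cfsg

namespace Cfsg.Agent.S3573

theorem core (n k : ℕ) (r : ℕ) (hr : r.Prime) (hrd : r ∣ Nat.choose n k) (hk : k ≤ n) :
    (∀ σ : Equiv.Perm (Fin n), orderOf σ = r → ∃ s : Finset (Fin n), s.card = k ∧ s.image σ = s) ↔
      k % r ≤ n % r := by
  classical
  constructor
  · intro h
    have hrn : r ≤ n := by
      by_contra hlt
      exact H60.not_dvd_choose_of_lt hr (by omega) (by rw [Nat.mod_eq_of_lt (by omega : n < r)]; exact hk) hrd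
    obtain ⟨σ, hσ, hct, hsupp⟩ := H60.exists_perm_replicate (α := Fin n) hr
      (Nat.div_pos hrn hr.pos) (by rw [Fintype.card_fin]; exact Nat.div_mul_le_self n r)
    obtain ⟨s, hs, hinv⟩ := h σ hσ
    refine (hs ▸ H60.mod_le_card_fixed hr hσ s hinv).trans ?_
    have hle : (s.filter fun x => σ x = x) ⊆ σ.supportᶜ := fun x hx => by
      simp only [Finset.mem_filter] at hx
      simp [hx.2]
    have := Finset.card_le_card hle
    rw [Finset.card_compl, hsupp, Fintype.card_fin] at this
    have := Nat.div_add_mod' n r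
    omega
  · intro h σ hσ
    obtain ⟨j, hj1, hjn, hct, hsupp⟩ := H60.cycleType_of_orderOf_eq_prime hr hσ
    rw [Fintype.card_fin] at hjn
    have hk' := Nat.div_add_mod' k r
    rcases le_total (k / r) j with hle | hle
    · have hjdiv : j ≤ n / r := (Nat.le_div_iff_mul_le hr.pos).mpr hjn
      have hn := Nat.div_add_mod' n r
      have := Nat.mul_le_mul_right r hjdiv
      obtain ⟨s, hs, hinv⟩ := H60.exists_invariant_set hct (k / r) (k % r) hle (by rw [Fintype.card_fin]; omega)
      exact ⟨s, by omega, hinv⟩
    · have hjk : j * r ≤ k := (Nat.mul_le_mul_right r hle).trans (Nat.div_mul_le_self k r)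
      obtain ⟨s, hs, hinv⟩ := H60.exists_invariant_set hct j (k - j * r) le_rfl (by rw [Fintype.card_fin]; omega)
      exact ⟨s, by omega, hinv⟩


/-- Let 1 ≤ k with 2k < n and consider the symmetric group of degree n acting on the k-subsets of an n-set. Let r be a prime dividing the number C(n,k) of k-subsets. If r is odd, then every permutation of order r fixes some k-subset if and only if r ≤ k and the remainder of k modulo r is at most the remainder of n modulo r. If r = 2, then every involution fixes some k-subset if and only if k is even or n is odd. -/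
theorem result (n k : ℕ) (hk : 1 ≤ k) (hkn : 2 * k < n) (r : ℕ) (hr : r.Prime) (hrd : r ∣ Nat.choose n k) :
    (r ≠ 2 → ((∀ σ : Equiv.Perm (Fin n), orderOf σ = r → ∃ s : Finset (Fin n), s.card = k ∧ s.image σ = s) ↔
      (r ≤ k ∧ k % r ≤ n % r))) ∧
    (r = 2 → ((∀ σ : Equiv.Perm (Fin n), orderOf σ = 2 → ∃ s : Finset (Fin n), s.card = k ∧ s.image σ = s) ↔
      (Even k ∨ Odd n))) := by
  constructor
  · intro _
    rw [core n k r hr hrd (by omega)]
    refine ⟨fun h => ⟨?_, h⟩, fun h => h.2⟩
    by_contra hlt
    exact H60.not_dvd_choose_of_lt hr (by omega) (by rwa [Nat.mod_eq_of_lt (by omega : k < r)] at h) hrd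
  · rintro rfl
    rw [core n k 2 hr hrd (by omega), Nat.even_iff, Nat.odd_iff]
    omega

end Cfsg.Agent.S3573
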