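import Cfsg.Statements.S3575
import Cfsg.Agent.H60.Perm

set_option autoImplicit false
open Cfsg

namespace Cfsg.Agent.S3575

/-- Writing a number as a sum of bounded terms. -/
theorem exists_bounded_sum (A : ℕ) : ∀ N s : ℕ, s ≤ N * A → ∃ x : Fin N → ℕ, (∀ i, x i ≤ A) ∧ ∑ i, x i = s := by
  intro N
  induction N with
  | zero => intro s hs; exact ⟨fun i => 0, fun i => i.elim0, by simp; omega⟩
  | succ N ih =>
    intro s hs
    rw [Nat.succ_mul] at hs
    obtain ⟨x, hx, hsum⟩ := ih (s - min s A) (by omega)
    refine ⟨Fin.cons (min s A) x, fun i => ?_, ?_⟩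
    · refine Fin.cases ?_ ?_ i
      · simp
      · intro k; simpa using hx k
    · rw [Fin.sum_univ_succ]
      simp [hsum]

open Equiv in
/-- A partition into `b` parts of size `a` invariant under a permutation with `c` cycles of prime length. -/
theorem exists_partition {a b r : ℕ} (hr : r.Prime) (σ : Perm (Fin (a * b))) (hσ : orderOf σ = r)
    (j : ℕ) (hj : j * r ≤ b) (x : Fin (b - j * r) → ℕ) (hx : ∀ i, x i * r ≤ a)
    (hc : σ.support.card = (j * a + ∑ i, x i) * r) :
    ∃ f : Fin (a * b) → Fin b, (∀ k : Fin b, Nat.card {y : Fin (a * b) // f y = k} = a) ∧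
      ∃ π : Perm (Fin b), ∀ y, f (σ y) = π (f y) := by
  classical
  haveI : Fact r.Prime := ⟨hr⟩
  haveI : NeZero r := ⟨hr.ne_zero⟩
  let I := Fin (b - j * r)
  let Y : I → Type := fun i => (ZMod r × Fin (x i)) ⊕ Fin (a - x i * r)
  let X := (ZMod r × (Fin j × Fin a)) ⊕ (Σ i : I, Y i)
  let B := (ZMod r × Fin j) ⊕ I
  let rot : Perm (ZMod r) := Equiv.addRight 1
  let τ : Perm X := Equiv.sumCongr (Equiv.prodCongr rot (Equiv.refl _))
    (Equiv.sigmaCongrRight fun i => Equiv.sumCongr (Equiv.prodCongr rot (Equiv.refl _)) (Equiv.refl _))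
  let π : Perm B := Equiv.sumCongr (Equiv.prodCongr rot (Equiv.refl _)) (Equiv.refl _)
  let g : X → B := fun y => Sum.elim (fun p => Sum.inl (p.1, p.2.1)) (fun q => Sum.inr q.1) y
  have hg : ∀ y, g (τ y) = π (g y) := by
    rintro (⟨z, k, l⟩ | ⟨i, (⟨z, l⟩ | l)⟩) <;> rfl
  have hfib : ∀ w : B, Nat.card {y : X // g y = w} = a := by
    rintro (⟨z, k⟩ | i)
    · let e : {y : X // g y = Sum.inl (z, k)} ≃ Fin a :=
        { toFun := fun y => match y with
            | ⟨Sum.inl p, _⟩ => p.2.2
            | ⟨Sum.inr q, h⟩ => absurd h Sum.inr_ne_inl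
          invFun := fun l => ⟨Sum.inl (z, k, l), rfl⟩
          left_inv := by
            rintro ⟨(⟨z', k', l⟩ | q), h⟩
            · have h' : (z', k') = (z, k) := Sum.inl.inj h
              cases h'
              rfl
            · exact absurd h Sum.inr_ne_inl
          right_inv := fun l => rfl }
      rw [Nat.card_congr e, Nat.card_fin]
    · let e : {y : X // g y = Sum.inr i} ≃ Y i :=
        { toFun := fun y => match y with
            | ⟨Sum.inl p, h⟩ => absurd h Sum.inl_ne_inr
            | ⟨Sum.inr q, h⟩ => (Sum.inr.inj h : q.1 = i) ▸ q.2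
          invFun := fun l => ⟨Sum.inr ⟨i, l⟩, rfl⟩
          left_inv := by
            rintro ⟨(p | ⟨i', l⟩), h⟩
            · exact absurd h Sum.inl_ne_inr
            · obtain rfl : i' = i := Sum.inr.inj h
              rfl
          right_inv := fun l => rfl }
      rw [Nat.card_congr e, Nat.card_sum, Nat.card_prod, Nat.card_zmod, Nat.card_fin, Nat.card_fin, mul_comm r]
      have := hx i
      omega
  have hXcard : Fintype.card X = a * b := by
    simp only [X, Y, I, Fintype.card_sum, Fintype.card_prod, Fintype.card_sigma, ZMod.card, Fintype.card_fin]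
    rw [Finset.sum_congr rfl (fun i _ => show r * x i + (a - x i * r) = a by
      have := hx i
      rw [mul_comm r]; omega), Finset.sum_const, Finset.card_univ, Fintype.card_fin, smul_eq_mul]
    obtain ⟨d, hd⟩ := Nat.exists_eq_add_of_le hj
    rw [hd, Nat.add_sub_cancel_left]; ring
  have hBcard : Fintype.card B = b := by
    simp only [B, I, Fintype.card_sum, Fintype.card_prod, ZMod.card, Fintype.card_fin]
    rw [mul_comm r]; omega
  have hτr : τ ^ r = 1 := by
    have hn : ∀ (n : ℕ),
        (∀ z p, (τ ^ n) (Sum.inl (z, p)) = Sum.inl (z + n, p)) ∧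
        (∀ i z l, (τ ^ n) (Sum.inr ⟨i, Sum.inl (z, l)⟩) = Sum.inr ⟨i, Sum.inl (z + n, l)⟩) ∧
        (∀ i l, (τ ^ n) (Sum.inr ⟨i, Sum.inr l⟩) = Sum.inr ⟨i, Sum.inr l⟩) := by
      intro n
      induction n with
      | zero => simp
      | succ n ih =>
        refine ⟨fun z p => ?_, fun i z l => ?_, fun i l => ?_⟩
        · rw [pow_succ', Perm.mul_apply, ih.1]
          show Sum.inl (z + n + 1, p) = _
          rw [Nat.cast_succ, add_assoc]
        · rw [pow_succ', Perm.mul_apply, ih.2.1]
          show (Sum.inr ⟨i, Sum.inl (z + n + 1, l)⟩ : X) = _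
          rw [Nat.cast_succ, add_assoc]
        · rw [pow_succ', Perm.mul_apply, ih.2.2]
          rfl
    refine Equiv.ext ?_
    rintro (⟨z, p⟩ | ⟨i, (⟨z, l⟩ | l)⟩)
    · rw [(hn r).1, ZMod.natCast_self, add_zero]; rfl
    · rw [(hn r).2.1, ZMod.natCast_self, add_zero]; rfl
    · rw [(hn r).2.2]; rfl
  let ι : (ZMod r × (Fin j × Fin a)) ⊕ (Σ i : I, ZMod r × Fin (x i)) ↪ X :=
    ⟨fun u => Sum.elim (fun p => Sum.inl p) (fun q => Sum.inr ⟨q.1, Sum.inl q.2⟩) u, by
      rintro (p | ⟨i, q⟩) (p' | ⟨i', q'⟩) h <;> cases h <;> rfl⟩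
  have hsupp : τ.support = Finset.univ.map ι := by
    ext y
    simp only [Perm.mem_support, Finset.mem_map, Finset.mem_univ, true_and]
    rcases y with ⟨z, p⟩ | ⟨i, (⟨z, l⟩ | l)⟩
    · refine ⟨fun _ => ⟨Sum.inl (z, p), rfl⟩, fun _ h => ?_⟩
      have h' : z + 1 = z := congrArg Prod.fst (Sum.inl.inj h)
      simp at h'
    · refine ⟨fun _ => ⟨Sum.inr ⟨i, z, l⟩, rfl⟩, fun _ h => ?_⟩
      have h1 := eq_of_heq (Sigma.mk.inj (Sum.inr.inj h)).2
      have h' : z + 1 = z := congrArg Prod.fst (Sum.inl.inj h1)
      simp at h'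
    · refine ⟨fun h => absurd rfl h, fun ⟨u, hu⟩ => ?_⟩
      rcases u with p | q
      · exact absurd hu Sum.inl_ne_inr
      · obtain ⟨h1, h2⟩ := Sigma.mk.inj (Sum.inr.inj hu)
        subst h1
        exact absurd (eq_of_heq h2) Sum.inl_ne_inr
  have hτcard : τ.support.card = σ.support.card := by
    rw [hsupp, Finset.card_map, Finset.card_univ, hc]
    simp only [Fintype.card_sum, Fintype.card_prod, Fintype.card_sigma, ZMod.card, Fintype.card_fin, I]
    rw [← Finset.mul_sum]
    ring
  obtain ⟨c, hc1, -, hcσ, hcs⟩ := H60.cycleType_of_orderOf_eq_prime hr hσ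
  let e : X ≃ Fin (a * b) := (Fintype.equivFin X).trans (finCongr hXcard)
  let τ' : Perm (Fin (a * b)) := e.permCongr τ
  have hτ'supp : τ'.support = τ.support.map e.toEmbedding := by
    ext y
    simp only [Perm.mem_support, Finset.mem_map, Equiv.coe_toEmbedding]
    constructor
    · intro h
      refine ⟨e.symm y, fun h' => h ?_, e.apply_symm_apply y⟩
      show e (τ (e.symm y)) = y
      rw [h', e.apply_symm_apply]
    · rintro ⟨u, hu, rfl⟩ h
      change e (τ (e.symm (e u))) = e u at h
      rw [e.symm_apply_apply] at h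
      exact hu (e.injective h)
  have hτ'1 : τ' ≠ 1 := by
    intro h
    have h0 : τ'.support.card = 0 := by rw [h]; simp
    rw [hτ'supp, Finset.card_map, hτcard, hcs] at h0
    have := Nat.mul_pos hc1 hr.pos
    omega
  have hτ'o : orderOf τ' = r := orderOf_eq_prime
    (by rw [show τ' = e.permCongrHom τ from rfl, ← map_pow, hτr, map_one]) hτ'1
  obtain ⟨c', -, -, hcτ, hcs'⟩ := H60.cycleType_of_orderOf_eq_prime hr hτ'o
  have hcc : c' = c := by
    rw [hτ'supp, Finset.card_map, hτcard, hcs] at hcs'
    exact (Nat.eq_of_mul_eq_mul_right hr.pos hcs').symm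
  obtain ⟨ρ, hρ⟩ := isConj_iff.1 (Perm.isConj_iff_cycleType_eq.2 (show τ'.cycleType = σ.cycleType by
    rw [hcτ, hcσ, hcc]))
  let eB : B ≃ Fin b := (Fintype.equivFin B).trans (finCongr hBcard)
  refine ⟨fun y => eB (g (e.symm (ρ⁻¹ y))), fun k => ?_, eB.permCongr π, fun y => ?_⟩
  · let E : {y : Fin (a * b) // eB (g (e.symm (ρ⁻¹ y))) = k} ≃ {u : X // g u = eB.symm k} :=
      { toFun := fun y => ⟨e.symm (ρ⁻¹ y.1), eB.injective (y.2.trans (eB.apply_symm_apply k).symm)⟩
        invFun := fun u => ⟨ρ (e u.1), by rw [Perm.coe_inv, Equiv.symm_apply_apply, e.symm_apply_apply, u.2, eB.apply_symm_apply]⟩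
        left_inv := fun y => Subtype.ext (by simp)
        right_inv := fun u => Subtype.ext (by simp) }
    rw [Nat.card_congr E, hfib]
  · show eB (g (e.symm (ρ⁻¹ (σ y)))) = eB (π (eB.symm (eB (g (e.symm (ρ⁻¹ y))))))
    rw [eB.symm_apply_apply, ← hg]
    congr 2
    rw [← hρ]
    simp [τ', Equiv.permCongr_apply]

open Equiv in
/-- The cycle number of a permutation fixing a partition. -/
theorem cycles_of_partition {a b r : ℕ} (ha : 0 < a) (hr : r.Prime) (σ : Perm (Fin (a * b))) (hσ : orderOf σ = r)
    {c : ℕ} (hc : σ.support.card = c * r) (f : Fin (a * b) → Fin b)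
    (hf : ∀ k : Fin b, Nat.card {y : Fin (a * b) // f y = k} = a)
    (π : Perm (Fin b)) (hπ : ∀ y, f (σ y) = π (f y)) :
    ∃ j, j * r ≤ b ∧ j * a ≤ c ∧ c ≤ j * a + (b - j * r) * (a / r) := by
  classical
  have hsurj : Function.Surjective f := fun k => by
    have h : 0 < Nat.card {y : Fin (a * b) // f y = k} := by rw [hf k]; exact ha
    obtain ⟨⟨y, hy⟩⟩ := (Nat.card_pos_iff.1 h).1
    exact ⟨y, hy⟩
  have hpow : ∀ (n : ℕ) y, f ((σ ^ n) y) = (π ^ n) (f y) := by
    intro n
    induction n with
    | zero => simp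
    | succ n ih => intro y; rw [pow_succ', Perm.mul_apply, hπ, ih, pow_succ', Perm.mul_apply]
  have hπr : π ^ r = 1 := by
    ext k
    obtain ⟨y, rfl⟩ := hsurj k
    rw [← hpow, ← hσ, pow_orderOf_eq_one]
    rfl
  obtain ⟨j, hj⟩ : r ∣ π.support.card := by
    rw [← Perm.sum_cycleType]
    refine Multiset.dvd_sum fun d hd => ?_
    rcases hr.eq_one_or_self_of_dvd d ((Perm.dvd_of_mem_cycleType hd).trans (orderOf_dvd_of_pow_eq_one hπr)) with h | h
    · exact absurd h (Perm.one_lt_of_mem_cycleType hd).ne'
    · exact h ▸ dvd_rfl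
  have hjb : j * r ≤ b := by
    rw [mul_comm, ← hj]
    exact le_trans (Finset.card_le_univ _) (le_of_eq (Fintype.card_fin b))
  let M : Fin b → ℕ := fun k => (σ.support.filter fun y => f y = k).card
  have hfc : ∀ k : Fin b, ((Finset.univ : Finset (Fin (a * b))).filter fun y => f y = k).card = a := fun k => by
    refine (Eq.trans ?_ (hf k))
    rw [Nat.card_eq_fintype_card, Fintype.card_subtype]
  have hsum : c * r = ∑ k, M k := by
    rw [← hc]
    exact Finset.card_eq_sum_card_fiberwise fun y _ => Finset.mem_univ _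
  have hmoved : ∀ k ∈ π.support, M k = a := by
    intro k hk
    rw [← hfc k]
    show (σ.support.filter fun y => f y = k).card = _
    congr 1
    ext y
    simp only [Finset.mem_filter, Finset.mem_univ, true_and, Perm.mem_support]
    refine ⟨fun h => h.2, fun h => ⟨fun hy => Perm.mem_support.1 hk ?_, h⟩⟩
    rw [← h, ← hπ, hy]
  have hfix : ∀ k, k ∉ π.support → M k ≤ (a / r) * r := by
    intro k hk
    set F := (Finset.univ : Finset (Fin (a * b))).filter fun y => f y = k
    have hF : F.image σ = F := by
      refine Finset.eq_of_subset_of_card_le (fun y hy => ?_) (by rw [Finset.card_image_of_injective _ σ.injective])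
      obtain ⟨z, hz, rfl⟩ := Finset.mem_image.1 hy
      simp only [F, Finset.mem_filter, Finset.mem_univ, true_and] at hz ⊢
      rw [hπ, hz, Perm.notMem_support.1 hk]
    have h1 := H60.mod_le_card_fixed hr hσ F hF
    have h2 : M k + (F.filter fun y => σ y = y).card = F.card := by
      rw [show M k = (F.filter fun y => ¬ σ y = y).card from ?_, add_comm, Finset.card_filter_add_card_filter_not]
      show (σ.support.filter fun y => f y = k).card = _
      congr 1
      ext y
      simp [F, and_comm]
    rw [hfc k] at h1 h2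
    have := Nat.div_add_mod a r
    rw [mul_comm r] at this
    omega
  refine ⟨j, hjb, ?_, ?_⟩
  · refine Nat.le_of_mul_le_mul_right ?_ hr.pos
    rw [hsum]
    calc j * a * r = ∑ k ∈ π.support, M k := by rw [Finset.sum_congr rfl hmoved, Finset.sum_const, smul_eq_mul, hj]; ring
      _ ≤ ∑ k, M k := Finset.sum_le_sum_of_subset (Finset.subset_univ _)
  · refine Nat.le_of_mul_le_mul_right ?_ hr.pos
    rw [hsum, ← Finset.sum_add_sum_compl π.support]
    calc ∑ k ∈ π.support, M k + ∑ k ∈ π.supportᶜ, M k
        ≤ ∑ k ∈ π.support, a + ∑ k ∈ π.supportᶜ, (a / r) * r :=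
          add_le_add (le_of_eq (Finset.sum_congr rfl hmoved))
            (Finset.sum_le_sum fun k hk => hfix k (Finset.mem_compl.1 hk))
      _ = (j * a + (b - j * r) * (a / r)) * r := by
          rw [Finset.sum_const, Finset.sum_const, Finset.card_compl, Fintype.card_fin, smul_eq_mul, smul_eq_mul, hj, mul_comm r j]
          ring

/-- Let a, b ≥ 2 and consider the symmetric group of degree a·b acting on the partitions of an (a·b)-set into b parts of size a (encoded as maps onto a b-element set all of whose fibres have a elements; a permutation fixes such a partition when it permutes the fibres). Let r be a prime dividing the number (ab)!/((a!)^b·b!) of such partitions, and let ℓ and k be the remainders of a and b modulo r. Then every permutation of order r fixes some such partition if and only if r ≤ a and one of the following holds: ℓ = 0; or k = 0 and ℓ = 1; or ℓ and k are non-zero, k·ℓ < r, and either b < r or (k + r)·ℓ ≤ k·a + r. -/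
theorem result (a b : ℕ) (ha : 2 ≤ a) (hb : 2 ≤ b) (r : ℕ) (hr : r.Prime)
    (hrd : r ∣ (a * b).factorial / (a.factorial ^ b * b.factorial)) :
    (∀ σ : Equiv.Perm (Fin (a * b)), orderOf σ = r →
        ∃ f : Fin (a * b) → Fin b, (∀ j : Fin b, Nat.card {x : Fin (a * b) // f x = j} = a) ∧
          ∃ π : Equiv.Perm (Fin b), ∀ x : Fin (a * b), f (σ x) = π (f x)) ↔
      (r ≤ a ∧ (a % r = 0 ∨ (b % r = 0 ∧ a % r = 1) ∨
        (a % r ≠ 0 ∧ b % r ≠ 0 ∧ (b % r) * (a % r) < r ∧ (b < r ∨ (b % r + r) * (a % r) ≤ (b % r) * a + r)))) := by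
  classical
  have hr2 := hr.two_le
  have hrn : r ≤ a * b := by
    refine hr.dvd_factorial.1 (hrd.trans (Nat.div_dvd_of_dvd ⟨Nat.uniformBell b a, ?_⟩))
    rw [mul_comm a b, ← Nat.uniformBell_mul_eq b (show a ≠ 0 by omega)]
    ring
  set A := a / r with hA
  set l := a % r with hl
  set J := b / r with hJ
  set k := b % r with hk
  have hal : a = r * A + l := (Nat.div_add_mod a r).symm
  have hbk : b = r * J + k := (Nat.div_add_mod b r).symm
  have hlr : l < r := Nat.mod_lt _ (by omega)
  have hkr : k < r := Nat.mod_lt _ (by omega)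
  -- the cycle numbers which occur
  have hexc : ∀ c, 1 ≤ c → c * r ≤ a * b → ∃ σ : Equiv.Perm (Fin (a * b)), orderOf σ = r ∧ σ.support.card = c * r := by
    intro c hc1 hc
    obtain ⟨σ, h1, -, h3⟩ := H60.exists_perm_replicate (α := Fin (a * b)) hr hc1 (by rwa [Fintype.card_fin])
    exact ⟨σ, h1, h3⟩
  constructor
  · intro hall
    have hgood : ∀ c, 1 ≤ c → c * r ≤ a * b → ∃ j, j * r ≤ b ∧ j * a ≤ c ∧ c ≤ j * a + (b - j * r) * A := by
      intro c hc1 hc
      obtain ⟨σ, hσ, hs⟩ := hexc c hc1 hc
      obtain ⟨f, hf, π, hπ⟩ := hall σ hσ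
      exact cycles_of_partition (by omega) hr σ hσ hs f hf π hπ
    have hra : r ≤ a := by
      by_contra h
      obtain ⟨j, hj, hj1, hj2⟩ := hgood 1 le_rfl (by omega)
      rw [show A = 0 from Nat.div_eq_of_lt (by omega), mul_zero, add_zero] at hj2
      rcases Nat.eq_zero_or_pos j with h0 | h0
      · subst h0; omega
      · have : a ≤ j * a := Nat.le_mul_of_pos_left _ h0
        omega
    have hA1 : 1 ≤ A := (Nat.one_le_div_iff (by omega)).2 hra
    refine ⟨hra, ?_⟩
    rcases Nat.eq_zero_or_pos l with h0 | h0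
    · exact Or.inl h0
    right
    have hbj : ∀ j, j * r ≤ b → j ≤ J := fun j h => (Nat.le_div_iff_mul_le (by omega)).2 h
    -- the top value
    have hkl : k * l < r := by
      by_contra hc
      push Not at hc
      obtain ⟨j, hj, -, hj2⟩ := hgood (J * l + b * A + 1) (by omega) (by
        have e : a * b = (J * l + b * A) * r + k * l := by
          calc a * b = (r * A + l) * b := by rw [← hal]
            _ = b * A * r + l * b := by ring
            _ = b * A * r + l * (r * J + k) := by rw [← hbk]
            _ = (J * l + b * A) * r + k * l := by ring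
        rw [e, add_mul, one_mul]
        omega)
      have h1 := hbj j hj
      obtain ⟨d, hd⟩ := Nat.exists_eq_add_of_le hj
      rw [show b - j * r = d by omega] at hj2
      have h2 : j * a + d * A = j * l + b * A := by rw [hd, hal]; ring
      have h3 : j * l ≤ J * l := Nat.mul_le_mul_right _ h1
      omega
    -- the last gap
    have hgap : 1 ≤ J → l ≤ k * A + 1 := by
      intro hJ1
      by_contra hc
      push Not at hc
      have hJa : J * a = J * l + J * r * A := by rw [hal]; ring
      have hJb : J * a * r ≤ a * b := by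
        calc J * a * r = a * (r * J) := by ring
          _ ≤ a * b := Nat.mul_le_mul_left _ (by omega)
      have hJa1 : 2 ≤ J * a := le_trans ha (Nat.le_mul_of_pos_left _ hJ1)
      obtain ⟨j, hj, hj1, hj2⟩ := hgood (J * a - 1) (by omega)
        (le_trans (Nat.mul_le_mul_right _ (Nat.sub_le _ _)) hJb)
      have h1 : j ≤ J - 1 := by
        by_contra h
        have : J * a ≤ j * a := Nat.mul_le_mul_right _ (by omega)
        omega
      obtain ⟨d, hd⟩ := Nat.exists_eq_add_of_le hj
      rw [show b - j * r = d by omega] at hj2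
      have h2 : j * a + d * A = j * l + b * A := by rw [hd, hal]; ring
      have h3 : j * l ≤ (J - 1) * l := Nat.mul_le_mul_right _ h1
      have h4 : J * l = (J - 1) * l + l := by
        rw [← Nat.succ_mul, show (J - 1).succ = J by omega]
      have h5 : b * A = J * r * A + k * A := by rw [hbk]; ring
      omega
    rcases Nat.eq_zero_or_pos k with hk0 | hk0
    · left
      refine ⟨hk0, ?_⟩
      have : 1 ≤ J := by
        rcases Nat.eq_zero_or_pos J with h | h
        · rw [h, hk0] at hbk; omega
        · exact h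
      have := hgap this
      rw [hk0] at this
      omega
    · right
      refine ⟨by omega, by omega, hkl, ?_⟩
      rcases Nat.eq_zero_or_pos J with h | h
      · left; rw [h] at hbk; omega
      · right
        have := hgap h
        rw [hal]
        calc (k + r) * l = k * l + r * l := by ring
          _ ≤ k * l + r * (k * A + 1) := by
            have := Nat.mul_le_mul_left r this
            omega
          _ = k * (r * A + l) + r := by ring
  · rintro ⟨hra, hcond⟩ σ hσ
    have hA1 : 1 ≤ A := (Nat.one_le_div_iff (by omega)).2 hra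
    have hkl : k * l < r ∧ (J = 0 ∨ l ≤ k * A + 1) := by
      rcases hcond with h | ⟨h, h'⟩ | ⟨-, -, h, h'⟩
      · rw [h]; simp; omega
      · rw [h, h']; simp; omega
      · refine ⟨h, ?_⟩
        rcases h' with h' | h'
        · exact Or.inl (Nat.div_eq_of_lt h')
        · right
          rw [hal] at h'
          refine Nat.le_of_mul_le_mul_left (?_ : r * l ≤ r * (k * A + 1)) (by omega)
          have e1 : (k + r) * l = k * l + r * l := by ring
          have e2 : k * (r * A + l) + r = k * l + r * (k * A + 1) := by ring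
          linarith
    obtain ⟨c, hc1, hcn, -, hcs⟩ := H60.cycleType_of_orderOf_eq_prime hr hσ
    rw [Fintype.card_fin] at hcn
    have hcC : c ≤ J * l + b * A := by
      by_contra hc
      have e : a * b = (J * l + b * A) * r + k * l := by
        calc a * b = (r * A + l) * b := by rw [← hal]
          _ = b * A * r + l * b := by ring
          _ = b * A * r + l * (r * J + k) := by rw [← hbk]
          _ = (J * l + b * A) * r + k * l := by ring
      have h1 : (J * l + b * A + 1) * r ≤ c * r := Nat.mul_le_mul_right _ (by omega)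
      rw [add_mul, one_mul] at h1
      omega
    -- the intervals cover everything up to the top
    have hcover : ∀ i, i ≤ J → c ≤ i * l + b * A → ∃ j, j * r ≤ b ∧ j * a ≤ c ∧ c ≤ j * a + (b - j * r) * A := by
      intro i
      induction i with
      | zero => intro _ h; exact ⟨0, by simp, by simp, by simpa using h⟩
      | succ i ih =>
        intro hi h
        by_cases h' : c ≤ i * l + b * A
        · exact ih (by omega) h'
        have hib : (i + 1) * r ≤ b := by
          have : (i + 1) * r ≤ J * r := Nat.mul_le_mul_right _ hi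
          rw [mul_comm J] at this
          omega
        refine ⟨i + 1, hib, ?_, ?_⟩
        · have hl' : l ≤ k * A + 1 := by
            rcases hkl.2 with h0 | h0
            · omega
            · exact h0
          have h2 : (i + 1) * (r * A) ≤ J * (r * A) := Nat.mul_le_mul_right _ hi
          have e1 : (i + 1) * a = i * l + l + (i + 1) * (r * A) := by rw [hal]; ring
          have e2 : b * A = J * (r * A) + k * A := by rw [hbk]; ring
          omega
        · obtain ⟨d, hd⟩ := Nat.exists_eq_add_of_le hib
          rw [show b - (i + 1) * r = d by omega]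
          have e3 : (i + 1) * a + d * A = (i + 1) * l + b * A := by rw [hd, hal]; ring
          omega
    obtain ⟨j, hj, hj1, hj2⟩ := hcover J le_rfl hcC
    obtain ⟨x, hx, hxs⟩ := exists_bounded_sum A (b - j * r) (c - j * a) (by omega)
    refine exists_partition hr σ hσ j hj x (fun i => ?_) (by rw [hxs, hcs, Nat.add_sub_cancel' hj1])
    exact le_trans (Nat.mul_le_mul_right _ (hx i)) (Nat.div_mul_le_self a r)

end Cfsg.Agent.S3575
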