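import Cfsg.Statements.S3590
import Cfsg.Agent.H64.AffineOmega8
-- import your own Cfsg.Agent.* helpers here

set_option autoImplicit false
open Cfsg

namespace Cfsg.Agent.S3590

/-- A finite group has a copy in the lowest universe. -/
theorem exists_small (X : Type*) [Group X] (hX : Finite X) :
    ∃ (H : Type) (_ : Group H) (_ : Fintype H), Fintype.card H = Nat.card X ∧
      Set.range (orderOf : H → ℕ) = Set.range (orderOf : X → ℕ) := by
  obtain ⟨e⟩ : Nonempty ({i : Fin (Nat.card X) // True} ≃ X) := ⟨(Equiv.subtypeUnivEquiv fun _ => trivial).trans (Finite.equivFin X).symm⟩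
  letI : Group ({i : Fin (Nat.card X) // True}) := e.group
  refine ⟨{i : Fin (Nat.card X) // True}, inferInstance, inferInstance, by rw [Fintype.card_congr (Equiv.subtypeUnivEquiv fun _ => trivial), Fintype.card_fin], ?_⟩
  have hm : ∀ x y : {i : Fin (Nat.card X) // True}, e (x * y) = e x * e y := fun x y => by
    show e (e.symm (e x * e y)) = e x * e y
    rw [Equiv.apply_symm_apply]
  let m : {i : Fin (Nat.card X) // True} ≃* X := MulEquiv.mk' e hm
  ext o
  simp only [Set.mem_range]
  exact (Equiv.exists_congr_left m.toEquiv).trans (exists_congr fun y => by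
    rw [← MulEquiv.orderOf_eq m.symm y]; rfl)

/-- Let F be a finite field of characteristic 2. Then PSp(8,F) is not determined by its set of element orders, not even up to finitely many groups: for every bound there is a finite group of larger order with exactly the same set of element orders as PSp(8,F). -/
theorem result {F : Type*} [Field F] [Fintype F]
    [CharP F 2] (M : ℕ) :
    ∃ (H : Type) (_ : Group H) (_ : Fintype H), M < Fintype.card H ∧ Set.range (orderOf : H → ℕ) = Set.range (orderOf : Cfsg.PSp 4 F → ℕ) := by
  classical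
  obtain ⟨ζ, hζ⟩ := H48.QuadEven.exists_theta_neg (F := F)
  have han := H44.binForm_one_anisotropic (F := F) (ζ := ζ) (fun t ht => by
    have h1 : H48.QuadEven.theta ζ = 1 := if_pos ⟨t, by
      linear_combination ht - ζ * CharTwo.two_eq_zero (R := F)⟩
    rw [h1] at hζ
    exact absurd hζ (by decide))
  obtain ⟨H, hG, hF, hcard, hrange⟩ := exists_small
    (H64.Affine (H44.minusForm 3 (1 : F) ζ) (H64.rotations 1 ζ han) (Fin (M + 1)))
    (Nat.finite_of_card_ne_zero (Nat.lt_of_le_of_lt (Nat.zero_le M) (H64.affine_large 1 ζ han M)).ne')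
  refine ⟨H, hG, hF, by rw [hcard]; exact H64.affine_large 1 ζ han M, ?_⟩
  rw [H64.range_psp, H64.range_sp 1 ζ han, ← H64.range_affine 1 ζ han M, hrange]

end Cfsg.Agent.S3590
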