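import Cfsg.Statements.S3592
import Cfsg.Agent.H63.M11Counts
import Cfsg.Agent.H87.MathieuCert

set_option autoImplicit false
open Cfsg
open scoped Pointwise

namespace Cfsg.Agent.S3592

/-- Let M be the Mathieu group M₁₁ (order 7920). If a finite group G has the same order as M and the same set of values of the function 'number of elements of order n' (taken over the element orders n that occur), then G is isomorphic to M. -/
theorem result {G : Type*} [Group G] [Finite G]
    (hcard : Nat.card G = Nat.card ↥Cfsg.Spor.M11)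
    (hnse : {c : ℕ | 0 < c ∧ ∃ n : ℕ, c = Nat.card {g : G // orderOf g = n}} =
      {c : ℕ | 0 < c ∧ ∃ n : ℕ, c = Nat.card {g : ↥Cfsg.Spor.M11 // orderOf g = n}}) :
    Nonempty (G ≃* ↥Cfsg.Spor.M11) := by
  classical
  have hM : Nat.card ↥Cfsg.Spor.M11 = 7920 := H87.natCard_M11
  haveI : Finite ↥Cfsg.Spor.M11 := Nat.finite_of_card_ne_zero (by omega)
  haveI := H36.M11Cent.isSimpleGroup_M11
  rw [hM] at hcard
  haveI : Fact (Nat.Prime 11) := ⟨by norm_num⟩
  obtain ⟨P⟩ : Nonempty (Sylow 11 G) := inferInstance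
  have hPc : Nat.card (P : Subgroup G) = 11 := by
    rw [H62.card_sylow_coe (p := 11) (a := 1) (m := 720) (by rw [hcard]; norm_num) (by norm_num) P,
      pow_one]
  -- the possible counts
  have hmem : ∀ n, n ≠ 1 → 0 < Nat.card {g : G // orderOf g = n} →
      let c := Nat.card {g : G // orderOf g = n}
      c = 1 ∨ 165 ∣ c ∨ 440 ∣ c ∨ 1584 ∣ c ∨ c = 1440 := by
    intro n _ hpos c
    have hc : c ∈ {c : ℕ | 0 < c ∧ ∃ n : ℕ, c = Nat.card {g : G // orderOf g = n}} :=
      ⟨hpos, n, rfl⟩
    rw [hnse] at hc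
    obtain ⟨-, m, hm⟩ := hc
    rw [hm]
    by_cases hm1 : m = 1
    · subst hm1
      left
      rw [Nat.card_eq_one_iff_unique]
      exact ⟨⟨fun a b => Subtype.ext ((orderOf_eq_one_iff.1 a.2).trans (orderOf_eq_one_iff.1 b.2).symm)⟩,
        ⟨⟨1, orderOf_one⟩⟩⟩
    · exact Or.inr (H63.M11.count_dvd hM hm1)
  have h11 := H62.card_orderOf_eq_prime P hPc
  have hsyl : Nat.card (Sylow 11 G) = 144 := by
    have h1 := H62.card_normalizer_mul P
    have h2 : Nat.card (Sylow 11 G) ∈ Nat.divisors 720 := by
      refine Nat.mem_divisors.2 ⟨?_, by norm_num⟩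
      exact H62.card_sylow_dvd (p := 11) (a := 1) (m := 720) (by rw [hcard]; norm_num) (by norm_num)
    have h3 := H62.card_sylow_mod (G := G) (p := 11)
    have h4 := hmem 11 (by norm_num) (by rw [h11]; exact Nat.mul_pos Nat.card_pos (by norm_num))
    rw [h11] at h4
    have hall : ∀ d ∈ Nat.divisors 720, d % 11 = 1 →
        (d * (11 - 1) = 1 ∨ 165 ∣ d * (11 - 1) ∨ 440 ∣ d * (11 - 1) ∨ 1584 ∣ d * (11 - 1) ∨
          d * (11 - 1) = 1440) → d = 144 := by decide +kernel
    exact hall _ h2 h3 h4
  haveI : IsSimpleGroup G := by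
    refine H63.M11.simple_of_eleven hcard P fun y hy hy1 => ?_
    set C := Subgroup.centralizer ({y} : Set G) with hC
    have hyz : Subgroup.zpowers y = (P : Subgroup G) := by
      refine Subgroup.eq_of_le_of_card_ge (Subgroup.zpowers_le.2 hy) ?_
      have hd := orderOf_dvd_natCard (⟨y, hy⟩ : (P : Subgroup G))
      rw [hPc, Subgroup.orderOf_mk] at hd
      rcases (Nat.dvd_prime (by norm_num)).1 hd with e | e
      · exact absurd (orderOf_eq_one_iff.1 e) hy1
      · rw [hPc, Nat.card_zpowers, e]
    have hCN : C ≤ Subgroup.normalizer ((P : Subgroup G) : Set G) := by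
      rw [hC, ← Subgroup.centralizer_closure, ← Subgroup.zpowers_eq_closure, hyz]
      exact Subgroup.centralizer_le_normalizer _
    have hN := H62.card_normalizer_mul P
    rw [hsyl, hcard] at hN
    have hd : Nat.card C ∣ 55 := by
      have := Subgroup.card_dvd_of_le hCN
      rwa [show Nat.card (Subgroup.normalizer ((P : Subgroup G) : Set G)) = 55 by omega] at this
    have hyC : y ∈ C := Subgroup.mem_centralizer_singleton_iff.2 rfl
    have hyo : orderOf y = 11 := by rw [← Nat.card_zpowers, hyz, hPc]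
    have h11C : 11 ∣ Nat.card C := by
      have := orderOf_dvd_natCard (⟨y, hyC⟩ : C)
      rwa [Subgroup.orderOf_mk, hyo] at this
    have h55 : Nat.card C = 11 ∨ Nat.card C = 55 := by
      obtain ⟨k, hk⟩ := h11C
      rw [hk] at hd ⊢
      have := Nat.le_of_dvd (by norm_num) hd
      have : k ∣ 5 := Nat.dvd_of_mul_dvd_mul_left (by norm_num : 0 < 11) hd
      rcases (Nat.dvd_prime Nat.prime_five).1 this with e | e <;> omega
    refine h55.resolve_right fun h => ?_
    -- an element of order 55 would give too many elements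
    haveI : Fact (Nat.Prime 5) := ⟨Nat.prime_five⟩
    obtain ⟨⟨z, hzC⟩, hz⟩ := exists_prime_orderOf_dvd_card' (G := C) 5 (by rw [h]; norm_num)
    rw [Subgroup.orderOf_mk] at hz
    have hcom : Commute z y := Subgroup.mem_centralizer_singleton_iff.1 hzC
    have hzy : orderOf (z * y) = 55 := by
      rw [hcom.orderOf_mul_eq_mul_orderOf_of_coprime (by rw [hz, hyo]; norm_num), hz, hyo]
    -- then there are exactly 5760 elements of order 55
    have hzy5 : (z * y) ^ 5 ∈ (P : Subgroup G) := by
      have hz5 : z ^ 5 = 1 := hz ▸ pow_orderOf_eq_one z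
      rw [hcom.mul_pow, hz5, one_mul]
      exact pow_mem hy 5
    have hCy : Subgroup.zpowers (z * y) = C := by
      refine Subgroup.eq_of_le_of_card_ge (Subgroup.zpowers_le.2
        (Subgroup.mem_centralizer_singleton_iff.2 ?_)) (by rw [h, Nat.card_zpowers, hzy])
      exact (hcom.mul_left (Commute.refl y)).eq
    have hs : ∀ Q : Sylow 11 G, ∃ c : G, c • P = Q := fun Q => MulAction.exists_smul_eq G P Q
    choose c hc using hs
    let φ : Sylow 11 G × {i : Fin 55 // Nat.Coprime i.1 55} → {g : G // orderOf g = 55} :=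
      fun p => ⟨MulAut.conj (c p.1) ((z * y) ^ (p.2.1 : ℕ)), by
        rw [MulEquiv.orderOf_eq, Nat.Coprime.orderOf_pow (by rw [hzy]; exact p.2.2.symm), hzy]⟩
    have hP5 : ∀ i : {i : Fin 55 // Nat.Coprime i.1 55},
        Subgroup.zpowers (((z * y) ^ (i.1 : ℕ)) ^ 5) = (P : Subgroup G) := by
      intro i
      refine Subgroup.eq_of_le_of_card_ge (Subgroup.zpowers_le.2 ?_) ?_
      · rw [← pow_mul, mul_comm, pow_mul]
        exact pow_mem hzy5 _
      · rw [Nat.card_zpowers, hPc, orderOf_pow,
          Nat.Coprime.orderOf_pow (by rw [hzy]; exact i.2.symm), hzy]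
        norm_num
    have hinj : Function.Injective φ := by
      rintro ⟨Q, i⟩ ⟨Q', i'⟩ e
      have e' : MulAut.conj (c Q) ((z * y) ^ (i.1 : ℕ)) = MulAut.conj (c Q') ((z * y) ^ (i'.1 : ℕ)) :=
        congrArg Subtype.val e
      have hQ : Q = Q' := by
        rw [← hc Q, ← hc Q']
        apply Sylow.ext
        rw [Sylow.coe_subgroup_smul, Sylow.coe_subgroup_smul]
        nth_rewrite 1 [← hP5 i]
        rw [← hP5 i']
        have key : ∀ (a : G) (w : G), MulAut.conj a • Subgroup.zpowers w =
            Subgroup.zpowers (MulAut.conj a w) := fun a w => by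
          exact MonoidHom.map_zpowers (MulAut.conj a).toMonoidHom w
        rw [key, key, map_pow, e', ← map_pow]
      subst hQ
      have hi : (i.1 : ℕ) = i'.1 := by
        refine pow_injOn_Iio_orderOf ?_ ?_ ((MulAut.conj (c Q)).injective e') <;>
          rw [Set.mem_Iio, hzy]
        · exact i.1.2
        · exact i'.1.2
      exact Prod.ext rfl (Subtype.ext (Fin.ext hi))
    have hsurj : Function.Surjective φ := by
      rintro ⟨g, hg⟩
      have hg5 : orderOf (g ^ 5) = 11 := by rw [orderOf_pow, hg]; norm_num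
      obtain ⟨Q, hQ⟩ := (IsPGroup.of_card (p := 11) (n := 1)
        (by rw [Nat.card_zpowers, hg5, pow_one]) : IsPGroup 11 (Subgroup.zpowers (g ^ 5))).exists_le_sylow
      have hgQ := hQ (Subgroup.mem_zpowers (g ^ 5))
      rw [← hc Q, Sylow.coe_subgroup_smul, Subgroup.mem_pointwise_smul_iff_inv_smul_mem,
        MulAut.smul_def, MulAut.conj_inv_apply] at hgQ
      set g' := (c Q)⁻¹ * g * c Q with hg'
      have hg'c : g' = MulAut.conj (c Q)⁻¹ g := by simp [hg']
      have hg'5 : g' ^ 5 = (c Q)⁻¹ * g ^ 5 * c Q := by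
        rw [hg'c, ← map_pow]; simp
      have hgen : Subgroup.zpowers (g' ^ 5) = (P : Subgroup G) := by
        refine Subgroup.eq_of_le_of_card_ge (Subgroup.zpowers_le.2 (hg'5 ▸ hgQ)) ?_
        rw [Nat.card_zpowers, hPc, hg'c, ← map_pow, MulEquiv.orderOf_eq, hg5]
      have hgC : g' ∈ C := by
        rw [hC, ← Subgroup.centralizer_closure, ← Subgroup.zpowers_eq_closure, hyz, ← hgen,
          Subgroup.zpowers_eq_closure, Subgroup.centralizer_closure,
          Subgroup.mem_centralizer_singleton_iff]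
        exact ((Commute.refl g').pow_right 5).eq
      rw [← hCy] at hgC
      obtain ⟨i, hi⟩ := (mem_powers_iff_mem_zpowers.2 hgC)
      have hi' : (z * y) ^ (i % 55) = g' := by rw [← hzy, pow_mod_orderOf]; exact hi
      have hcop : Nat.Coprime (i % 55) 55 := by
        have hgo : orderOf g' = 55 := by rw [hg'c, MulEquiv.orderOf_eq, hg]
        rw [← hi', orderOf_pow, hzy] at hgo
        have hdvd := Nat.gcd_dvd_left 55 (i % 55)
        have h55' : Nat.gcd 55 (i % 55) = 1 := by
          have hpos : 0 < Nat.gcd 55 (i % 55) := Nat.gcd_pos_of_pos_left _ (by norm_num)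
          have := Nat.div_mul_cancel hdvd
          rw [hgo] at this
          omega
        rwa [Nat.coprime_iff_gcd_eq_one, Nat.gcd_comm]
      refine ⟨⟨Q, ⟨⟨i % 55, Nat.mod_lt _ (by norm_num)⟩, hcop⟩⟩, Subtype.ext ?_⟩
      show MulAut.conj (c Q) ((z * y) ^ (i % 55)) = g
      rw [hi', hg']
      simp [mul_assoc]
    have h5760 : Nat.card {g : G // orderOf g = 55} = 5760 := by
      rw [← Nat.card_congr (Equiv.ofBijective φ ⟨hinj, hsurj⟩), Nat.card_prod, hsyl,
        Nat.card_eq_fintype_card (α := {i : Fin 55 // Nat.Coprime i.1 55}),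
        show Fintype.card {i : Fin 55 // Nat.Coprime i.1 55} = 40 by decide +kernel]
    have h := hmem 55 (by norm_num) (by rw [h5760]; norm_num)
    simp only [h5760] at h
    norm_num at h
  exact H36.M11.iso_of_order_7920 hcard hM

end Cfsg.Agent.S3592
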