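import Cfsg.Statements.S3595
import Cfsg.Agent.H91.M23R.HepOf
import Cfsg.Agent.H91.M23R.LocOfNse
import Cfsg.Agent.H91.M23R.OrbOf
import Cfsg.Agent.H94.M23R.Star
import Cfsg.Agent.H79.M23Counts
import Cfsg.Agent.H78.M23R.Eight

set_option autoImplicit false
open Cfsg

namespace Cfsg.Agent.S3595

/-- Let M be the Mathieu group M₂₃ (order 10200960). If a finite group G has the same order as M and the same set of values of the function 'number of elements of order n' (taken over the element orders n that occur), then G is isomorphic to M. -/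
theorem result {G : Type*} [Group G] [Finite G]
    (hcard : Nat.card G = Nat.card ↥Cfsg.Spor.M23)
    (hnse : {c : ℕ | 0 < c ∧ ∃ n : ℕ, c = Nat.card {g : G // orderOf g = n}} =
      {c : ℕ | 0 < c ∧ ∃ n : ℕ, c = Nat.card {g : ↥Cfsg.Spor.M23 // orderOf g = n}}) :
    Nonempty (G ≃* ↥Cfsg.Spor.M23) := by
  have hG : Nat.card G = 10200960 := hcard.trans H79.M23Counts.card_M23
  have L : H91.M23R.Loc G := H91.M23R.loc_of_nse hG (hnse.trans H79.M23Counts.nse_M23)
  obtain ⟨H⟩ := H91.M23R.exists_hep L
  obtain ⟨π, hs, hk⟩ := H62.M23A7.exists_hom H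
  obtain ⟨O⟩ := H91.M23R.exists_orb L H hs hk
  exact H94.M23R.Star.iso hs hk O (H78.M23R.eight hk O L hs) hG

end Cfsg.Agent.S3595
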