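import Cfsg.Statements.S3598
import Cfsg.Agent.H65.SquareDegrees
import Cfsg.Agent.H65.PSLDegreesSquare
import Cfsg.Agent.H65.SmallSimple
import Cfsg.Agent.H37.SmallIso
import Cfsg.Agent.S0494

set_option autoImplicit false
open Cfsg
open scoped commutatorElement

namespace Cfsg.Agent.S3598

theorem fibre_card (H : Type*) [Group H] [Fintype H] (d : ℕ) :
    Nat.card {χ : Cfsg.IrrCharacter H // (χ : H → ℂ) 1 = (d : ℂ)} =
      (Finset.univ.filter fun χ : Cfsg.IrrCharacter H => H12.degree (χ : H → ℂ) = d).card := by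
  classical
  rw [Nat.card_eq_fintype_card, Fintype.card_subtype]
  congr 1
  ext χ
  simp only [Finset.mem_filter, Finset.mem_univ, true_and, H12.irr_apply_one, Nat.cast_inj]

/-- Let p be a prime and F a field with p² elements. If a finite group G has, for every d, the same number of irreducible complex characters of degree d as PSL(2,F) (the same first column of the character table, with multiplicities), then G is isomorphic to PSL(2,F). -/
theorem result {F : Type*} [Field F] [Fintype F] (p : ℕ) (hp : p.Prime)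
    (hF : Fintype.card F = p ^ 2) {G : Type*} [Group G] [Finite G]
    (h : ∀ d : ℕ, Nat.card {χ : Cfsg.IrrCharacter G // (χ : G → ℂ) 1 = (d : ℂ)} =
      Nat.card {χ : Cfsg.IrrCharacter (Matrix.ProjectiveSpecialLinearGroup (Fin 2) F) // (χ : Matrix.ProjectiveSpecialLinearGroup (Fin 2) F → ℂ) 1 = (d : ℂ)}) :
    Nonempty (G ≃* Matrix.ProjectiveSpecialLinearGroup (Fin 2) F) := by
  classical
  set L := Matrix.ProjectiveSpecialLinearGroup (Fin 2) F with hL
  haveI := Fintype.ofFinite G
  haveI : Fintype L := Fintype.ofFinite L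
  have hp2 : 4 ≤ p ^ 2 := Nat.pow_le_pow_left hp.two_le 2
  -- degrees and orders
  have hdeg : ∀ (d : ℕ), (∃ χ : Cfsg.IrrCharacter G, (χ : G → ℂ) 1 = (d : ℂ)) →
      ∃ ψ : Cfsg.IrrCharacter L, (ψ : L → ℂ) 1 = (d : ℂ) := by
    rintro d ⟨χ, hχ⟩
    haveI : Nonempty {χ : Cfsg.IrrCharacter G // (χ : G → ℂ) 1 = (d : ℂ)} := ⟨⟨χ, hχ⟩⟩
    have h1 : 0 < Nat.card {χ : Cfsg.IrrCharacter G // (χ : G → ℂ) 1 = (d : ℂ)} := Nat.card_pos
    rw [h d] at h1
    obtain ⟨⟨ψ, hψ⟩⟩ := (Nat.card_pos_iff.1 h1).1
    exact ⟨ψ, hψ⟩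
  have hcard : Nat.card G = Nat.card L := by
    rw [← H12.sum_degree_sq_nat, ← H12.sum_degree_sq_nat]
    set S := (Finset.univ.image fun χ : Cfsg.IrrCharacter G => H12.degree (χ : G → ℂ)) ∪
      (Finset.univ.image fun χ : Cfsg.IrrCharacter L => H12.degree (χ : L → ℂ))
    rw [← Finset.sum_fiberwise_of_maps_to (t := S) (g := fun χ : Cfsg.IrrCharacter G => H12.degree (χ : G → ℂ))
        (fun χ _ => Finset.mem_union_left _ (Finset.mem_image_of_mem _ (Finset.mem_univ χ))),
      ← Finset.sum_fiberwise_of_maps_to (t := S) (g := fun χ : Cfsg.IrrCharacter L => H12.degree (χ : L → ℂ))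
        (fun χ _ => Finset.mem_union_right _ (Finset.mem_image_of_mem _ (Finset.mem_univ χ)))]
    refine Finset.sum_congr rfl fun d _ => ?_
    rw [Finset.sum_congr rfl (fun χ hχ => by rw [(Finset.mem_filter.1 hχ).2]),
      Finset.sum_congr rfl (s₁ := Finset.univ.filter fun χ : Cfsg.IrrCharacter L => H12.degree (χ : L → ℂ) = d)
        (fun χ hχ => by rw [(Finset.mem_filter.1 hχ).2]),
      Finset.sum_const, Finset.sum_const, ← fibre_card G d, ← fibre_card L d, h d]
  have hlin : (commutator G).index = 1 := by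
    have h1 := h 1
    simp only [Nat.cast_one] at h1
    rw [H12.card_linear_irr, H12.card_linear_irr] at h1
    haveI : IsSimpleGroup L :=
      Matrix.ProjectiveSpecialLinearGroup.rank_two_simple (by rw [Nat.card_eq_fintype_card, hF]; omega)
    obtain ⟨a, ha, hasq⟩ : ∃ a : F, a ≠ 0 ∧ a ^ 2 ≠ 1 := by
      by_contra hcon
      push Not at hcon
      have hsub : (Finset.univ : Finset F) ⊆ {0, 1, -1} := fun x _ => by
        by_cases hx : x = 0
        · simp [hx]
        · rcases sq_eq_one_iff.1 (hcon x hx) with e | e <;> simp [e]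
      have h3 := (Finset.card_le_card hsub).trans Finset.card_le_three
      rw [Finset.card_univ, hF] at h3
      omega
    rw [h1, SL2Simple.PSL_commutator_eq_top ⟨a, ha, hasq⟩, Subgroup.index_top]
  have hPSL := H39.card_PSL2_mul (F := F)
  rw [hF] at hPSL
  rcases hp.eq_two_or_odd' with rfl | hodd
  · -- `q = 4`
    have hL60 : Nat.card L = 60 := by
      rw [show Nat.gcd 2 (2 ^ 2 - 1) = 1 by decide, one_mul] at hPSL
      rw [hL, hPSL]
      norm_num
    have hG60 : Nat.card G = 60 := hcard.trans hL60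
    haveI : Nontrivial G := Finite.one_lt_card_iff_nontrivial.1 (by omega)
    have hGna : ¬ IsMulCommutative G := fun hc => by
      haveI := hc
      rw [(commutator_eq_bot_iff G).2 hc, Subgroup.index_bot] at hlin
      omega
    haveI : IsSimpleGroup G := by
      refine ⟨fun N hN => ?_⟩
      by_contra hne
      push Not at hne
      obtain ⟨M, hMtop, hMmax⟩ := (wellFounded_gt (α := {M : Subgroup G // M.Normal ∧ M ≠ ⊤})).has_min
        Set.univ ⟨⟨N, hN, hne.2⟩, trivial⟩
      haveI := M.2.1
      haveI : IsSimpleGroup (G ⧸ M.1) := by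
        haveI : Nontrivial (G ⧸ M.1) := Finite.one_lt_card_iff_nontrivial.1 (by
          rw [← Subgroup.index_eq_card]
          have h1 := Subgroup.index_ne_zero_of_finite (H := M.1)
          have h2 : M.1.index ≠ 1 := fun e => M.2.2 (Subgroup.index_eq_one.1 e)
          omega)
        refine ⟨fun K hK => ?_⟩
        by_contra hK'
        push Not at hK'
        have hle : M.1 ≤ K.comap (QuotientGroup.mk' M.1) := fun x hx => by
          rw [Subgroup.mem_comap, QuotientGroup.mk'_apply, (QuotientGroup.eq_one_iff x).2 hx]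
          exact K.one_mem
        refine hMmax ⟨K.comap (QuotientGroup.mk' M.1), hK.comap _, fun e => hK'.2 ?_⟩ trivial
          (lt_of_le_of_ne hle fun e => hK'.1 ?_)
        · rw [← Subgroup.map_comap_eq_self_of_surjective (QuotientGroup.mk'_surjective M.1) K, e,
            Subgroup.map_top_of_surjective _ (QuotientGroup.mk'_surjective M.1)]
        · rw [← Subgroup.map_comap_eq_self_of_surjective (QuotientGroup.mk'_surjective M.1) K, ← (show M.1 = K.comap (QuotientGroup.mk' M.1) from congrArg Subtype.val e),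
            QuotientGroup.map_mk'_self]
      have hQna : ¬ IsMulCommutative (G ⧸ M.1) := fun hc => by
        have hle : commutator G ≤ M.1 := by
          rw [commutator_def, Subgroup.commutator_le]
          intro x _ y _
          refine (QuotientGroup.eq_one_iff _).1 ?_
          show QuotientGroup.mk' M.1 ⁅x, y⁆ = 1
          rw [map_commutatorElement, commutatorElement_eq_one_iff_mul_comm]
          exact hc.is_comm.comm _ _
        rw [Subgroup.index_eq_one.1 hlin] at hle
        exact M.2.2 (top_le_iff.1 hle)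
      have hQ : Nat.card (G ⧸ M.1) = 60 := by
        refine H65.card_eq_sixty hQna ?_
        rw [← Subgroup.index_eq_card]
        have := Nat.le_of_dvd Nat.card_pos (Subgroup.index_dvd_card M.1)
        omega
      rw [← Subgroup.index_eq_card] at hQ
      have h1 := M.1.card_mul_index
      rw [hQ, hG60] at h1
      have hM1 : Nat.card M.1 = 1 := by omega
      have hMbot := Subgroup.card_eq_one.1 hM1
      refine hMmax ⟨N, hN, hne.2⟩ trivial (show M.1 < N from ?_)
      rw [hMbot]
      exact bot_lt_iff_ne_bot.2 hne.1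
    obtain ⟨e⟩ := Cfsg.Agent.S0494.result hG60
    obtain ⟨e'⟩ := H37.nonempty_alternating_of_line (F := F) (k := 5)
      (by rw [Nat.card_eq_fintype_card, hF]; norm_num) (by norm_num) (by rw [← hL, hL60]; rfl)
    exact ⟨e.trans e'.symm⟩
  · haveI : Fact p.Prime := ⟨hp⟩
    have hp3 : 3 ≤ p := by
      obtain ⟨k, rfl⟩ := hodd
      have := hp.two_le
      omega
    have hq4 : p ^ 2 % 4 = 1 := by
      obtain ⟨k, rfl⟩ := hodd
      rw [show (2 * k + 1) ^ 2 = 4 * (k * k + k) + 1 by ring]
      omega
    have hq9 : 9 ≤ p ^ 2 := Nat.pow_le_pow_left hp3 2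
    have hH : H65.SquareDegrees.Hyp G p (p ^ 2) := by
      refine ⟨hp, rfl, hq4, by omega, ?_, hlin, fun χ d hd => ?_⟩
      · rw [hcard, hL]
        rw [Nat.gcd_eq_left (show 2 ∣ p ^ 2 - 1 by omega)] at hPSL
        rw [hPSL]
        congr 1
        rw [mul_comm, ← Nat.sq_sub_sq, one_pow]
      · obtain ⟨ψ, hψ⟩ := hdeg d ⟨χ, hd⟩
        have := H65.PSLDegrees.degree_cases (F := F) (by rw [hF]; exact hq4) ψ hψ
        rwa [hF] at this
    obtain ⟨K, i1, i2, hK, ⟨e⟩⟩ := H65.SquareDegrees.exists_psl hH
    exact ⟨e.trans (H37.pslCongr (FiniteField.ringEquivOfCardEq (hK.trans hF.symm)))⟩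

end Cfsg.Agent.S3598
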