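import Cfsg.Statements.S3600
import Cfsg.Agent.S3433
import Cfsg.Agent.H61.CritA6.Main

set_option autoImplicit false
open Cfsg

namespace Cfsg.Agent.S3600

/-- A finite group is critical with respect to a set Ω of natural numbers when its set of element orders is Ω while no proper section has Ω as its set of element orders. A finite group critical with respect to {1, 2, 3, 4, 5} (the set of element orders of the alternating group of degree 6) is isomorphic either to the alternating group of degree 6 or to the affine group F² ⋊ SL(2,F) over the field F with four elements (realised as the matrices of SL(3,F) with last row (0, 0, 1)). -/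
theorem result {G : Type*} [Group G] [Finite G]
    (hcrit : Set.range (orderOf : G → ℕ) = ({1, 2, 3, 4, 5} : Set ℕ) ∧
      ∀ (H : Subgroup G) (N : Subgroup ↥H) [N.Normal], (H ≠ ⊤ ∨ N ≠ ⊥) → Set.range (orderOf : (↥H ⧸ N) → ℕ) ≠ ({1, 2, 3, 4, 5} : Set ℕ)) :
    Nonempty (G ≃* alternatingGroup (Fin 6)) ∨
      ∃ (F : Type) (_ : Field F) (_ : Fintype F), Fintype.card F = 4 ∧
        Nonempty (G ≃* ↥(Subgroup.closure {M : Matrix.SpecialLinearGroup (Fin 3) F |
          (M : Matrix (Fin 3) (Fin 3) F) 2 0 = 0 ∧ (M : Matrix (Fin 3) (Fin 3) F) 2 1 = 0 ∧ (M : Matrix (Fin 3) (Fin 3) F) 2 2 = 1})) := by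
  classical
  obtain ⟨hspec, hmin⟩ := hcrit
  have hset : ({1, 2, 3, 4, 5} : Set ℕ) = {k : ℕ | 1 ≤ k ∧ k ≤ 5} := by
    ext k; simp only [Set.mem_insert_iff, Set.mem_singleton_iff, Set.mem_ofPred_eq]; omega
  have hle : ∀ g : G, orderOf g ≤ 5 := fun g => by
    have hg : orderOf g ∈ Set.range (orderOf : G → ℕ) := ⟨g, rfl⟩
    rw [hspec, hset] at hg
    exact hg.2
  rcases Cfsg.Agent.S3433.result (G := G) (hset ▸ hspec) with hA | ⟨N, hN, ⟨hcomm, hsq⟩, ⟨e⟩⟩
  · exact Or.inl hA
  right
  haveI := hN
  set π : G →* H61.CritA6.A5 := e.toMonoidHom.comp (QuotientGroup.mk' N) with hπ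
  have hker : π.ker = N := by
    ext x
    simp [hπ, MonoidHom.mem_ker]
  have hsurj : Function.Surjective π := e.surjective.comp (QuotientGroup.mk'_surjective N)
  have hne : N ≠ ⊥ := by
    intro hb
    obtain ⟨g, hg⟩ : 4 ∈ Set.range (orderOf : G → ℕ) := by rw [hspec]; simp
    have hinj : Function.Injective π := (MonoidHom.ker_eq_bot_iff π).1 (hker.trans hb)
    have key : ∀ a : H61.CritA6.A5, a ^ 4 = 1 → a ^ 2 = 1 := by decide +kernel
    have h2 : g ^ 2 = 1 := hinj (by
      rw [map_pow, map_one]
      exact key _ (by rw [← map_pow, ← hg, pow_orderOf_eq_one, map_one]))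
    have := orderOf_le_of_pow_eq_one two_pos h2
    omega
  let F := GaloisField 2 2
  haveI : Fintype F := Fintype.ofFinite F
  have hF : Fintype.card F = 4 := by
    rw [← Nat.card_eq_fintype_card, GaloisField.card 2 2 (by norm_num)]; norm_num
  refine ⟨F, inferInstance, inferInstance, hF, ?_⟩
  rw [H64.affSL_closure]
  refine H61.CritA6.Data.iso_affine hF ⟨π, hsurj, hle, hker ▸ hcomm, hker ▸ hsq, hker ▸ hne⟩ ?_
  show ∀ M : Subgroup G, M.Normal → M ≤ π.ker → M = ⊥ ∨ M = π.ker
  rw [hker]
  intro M hM hMN
  by_contra hcon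
  push Not at hcon
  -- `G / M` would have the same spectrum
  haveI := hM
  haveI : (M.subgroupOf (⊤ : Subgroup G)).Normal := inferInstance
  refine hmin ⊤ (M.subgroupOf ⊤) (Or.inr ?_) ?_
  · intro hb
    apply hcon.1
    rw [eq_bot_iff]
    intro x hx
    have := (Subgroup.eq_bot_iff_forall _).1 hb ⟨x, Subgroup.mem_top x⟩ (Subgroup.mem_subgroupOf.2 hx)
    simpa using congrArg Subtype.val this
  · have eQ : (↥(⊤ : Subgroup G) ⧸ M.subgroupOf ⊤) ≃* (G ⧸ M) :=
      QuotientGroup.congr _ _ Subgroup.topEquiv (by
        ext x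
        simp [Subgroup.mem_map, Subgroup.mem_subgroupOf])
    have hrange : Set.range (orderOf : (↥(⊤ : Subgroup G) ⧸ M.subgroupOf ⊤) → ℕ) =
        Set.range (orderOf : (G ⧸ M) → ℕ) := by
      ext k
      constructor
      · rintro ⟨x, rfl⟩; exact ⟨eQ x, MulEquiv.orderOf_eq eQ x⟩
      · rintro ⟨x, rfl⟩; exact ⟨eQ.symm x, MulEquiv.orderOf_eq eQ.symm x⟩
    rw [hrange, hset]
    let q := QuotientGroup.mk' M
    have hq : Function.Surjective q := QuotientGroup.mk'_surjective M
    let π' : G ⧸ M →* H61.CritA6.A5 := QuotientGroup.lift M π (by rw [hker]; exact hMN)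
    have hπ' : ∀ g, π' (q g) = π g := fun g => rfl
    have hle' : ∀ x : G ⧸ M, orderOf x ≤ 5 := fun x => by
      obtain ⟨g, rfl⟩ := hq x
      exact le_trans (Nat.le_of_dvd (orderOf_pos g) (orderOf_map_dvd q g)) (hle g)
    have hker' : π'.ker = N.map q := by
      ext x
      obtain ⟨g, rfl⟩ := hq x
      rw [MonoidHom.mem_ker, hπ']
      constructor
      · intro hg
        exact ⟨g, hker ▸ MonoidHom.mem_ker.2 hg, rfl⟩
      · rintro ⟨n, hn, hne'⟩
        rw [← hπ', ← hne', hπ', ← MonoidHom.mem_ker, hker]
        exact hn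
    have hprime : ∀ p : ℕ, p.Prime → p ∣ 60 → p ∈ Set.range (orderOf : (G ⧸ M) → ℕ) := by
      intro p hp hd
      haveI := Fact.mk hp
      have h60 : Nat.card H61.CritA6.A5 = 60 := by rw [Nat.card_eq_fintype_card]; decide +kernel
      have hs : Function.Surjective π' := fun a => by
        obtain ⟨g, hg⟩ := hsurj a; exact ⟨q g, by rw [hπ', hg]⟩
      have hd' : p ∣ Nat.card (G ⧸ M) :=
        (h60 ▸ hd).trans (Subgroup.card_dvd_of_surjective π' hs)
      exact exists_prime_orderOf_dvd_card' p hd'
    ext k
    simp only [Set.mem_ofPred_eq]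
    constructor
    · rintro ⟨x, rfl⟩
      exact ⟨orderOf_pos x, hle' x⟩
    · rintro ⟨hk1, hk5⟩
      interval_cases k
      · exact ⟨1, orderOf_one⟩
      · exact hprime 2 Nat.prime_two (by norm_num)
      · exact hprime 3 Nat.prime_three (by norm_num)
      · -- an element of order four
        let d : H61.CritA6.Data (G ⧸ M) :=
          { π := π'
            surj := fun a => by obtain ⟨g, hg⟩ := hsurj a; exact ⟨q g, by rw [hπ', hg]⟩
            le5 := hle'
            comm := by
              rw [hker']
              constructor; constructor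
              rintro ⟨_, a, ha, rfl⟩ ⟨_, b, hb, rfl⟩
              have := congrArg Subtype.val (hcomm.is_comm.comm (⟨a, ha⟩ : N) ⟨b, hb⟩)
              exact Subtype.ext (by
                show q a * q b = q b * q a
                rw [← map_mul, ← map_mul]; exact congrArg q this)
            sq := by
              rw [hker']
              rintro _ ⟨a, ha, rfl⟩
              rw [← map_pow, hsq a ha, map_one]
            ne := by
              rw [hker']
              intro hb
              apply hcon.2
              refine le_antisymm hMN ?_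
              intro n hn
              have : q n = 1 := (Subgroup.eq_bot_iff_forall _).1 hb _ ⟨n, hn, rfl⟩
              exact (QuotientGroup.eq_one_iff n).1 this }
        exact d.order_four
      · exact hprime 5 (by norm_num) (by norm_num)

end Cfsg.Agent.S3600
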