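import Cfsg.Statements.S3626
import Cfsg.Agent.H64.ReeCube
import Cfsg.Agent.S1159

set_option autoImplicit false
open Cfsg

namespace Cfsg.Agent.S3626

/-- Let R be the small Ree group over the field with q = 3^(2m+1) ≥ 27 elements. Then there are finite groups of arbitrarily large order with exactly the same set of element orders as R × R × R. -/
theorem result {K : Type*} [Field K] [Fintype K] {m : ℕ} (hm : 1 ≤ m) (hK : Fintype.card K = 3 ^ (2 * m + 1)) (N : ℕ) :
    ∃ (H : Type) (_ : Group H) (_ : Fintype H), N < Fintype.card H ∧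
      Set.range (orderOf : H → ℕ) = Set.range (orderOf : ↥(Cfsg.Lie.twistedG2 K (3 ^ m)) × ↥(Cfsg.Lie.twistedG2 K (3 ^ m)) × ↥(Cfsg.Lie.twistedG2 K (3 ^ m)) → ℕ) := by
  classical
  obtain ⟨p, hp⟩ := CharP.exists K
  haveI := hp
  obtain ⟨n, hpr, hc⟩ := FiniteField.card K p
  have hp3 : p = 3 := by
    have h1 : p ∣ 3 ^ (2 * m + 1) := by
      rw [← hK, hc]
      exact dvd_pow_self p n.pos.ne'
    exact (Nat.prime_dvd_prime_iff_eq hpr Nat.prime_three).1 (hpr.dvd_of_dvd_pow h1)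
  subst hp3
  haveI : Fact (Nat.Prime 3) := ⟨Nat.prime_three⟩
  set R := ↥(Cfsg.Lie.twistedG2 K (3 ^ m))
  haveI : Finite R := inferInstance
  let Y := H64.ReeCube.X K (N + 1)
  haveI : Finite Y := Finite.of_equiv _ SemidirectProduct.equivProd.symm
  have hR : ∀ d : ℕ, d ∈ Set.range (orderOf : R → ℕ) ↔ _ :=
    fun d => Cfsg.Agent.S1159.result hm hK d
  have hY : ∀ d : ℕ, d ∈ Set.range (orderOf : Y → ℕ) ↔ _ :=
    fun d => H64.ReeCube.range_orderOf hK (Nat.succ_pos N) d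
  rw [hK] at hY
  have hRne : ∀ d, d ∈ Set.range (orderOf : R → ℕ) → 0 < d := by
    rintro _ ⟨r, rfl⟩
    exact orderOf_pos r
  have heq : Set.range (orderOf : R × R × Y → ℕ) = Set.range (orderOf : R × R × R → ℕ) := by
    rw [H64.range_orderOf_prod, H64.range_orderOf_prod, H64.range_orderOf_prod (A := R) (B := R × R),
      H64.range_orderOf_prod (A := R) (B := R)]
    ext d
    simp only [Set.mem_image2]
    constructor
    · rintro ⟨a, ha, _, ⟨b, hb, c, hc, rfl⟩, rfl⟩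
      refine ⟨a, ha, _, ⟨b, hb, c, (hR c).2 ?_, rfl⟩, rfl⟩
      rcases (hY c).1 hc with h | h | h | h
      · exact Or.inl h
      · exact Or.inr (Or.inl h)
      · exact Or.inr (Or.inr (Or.inl h))
      · exact Or.inr (Or.inr (Or.inr (Or.inl h)))
    · rintro ⟨a, ha, _, ⟨b, hb, c, hc, rfl⟩, rfl⟩
      -- sort the three orders: either one of them occurs in `Y`, or two of them share a torus
      have split : ∀ d, d ∈ Set.range (orderOf : R → ℕ) → d ∈ Set.range (orderOf : Y → ℕ) ∨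
          (d ∣ 3 ^ (2 * m + 1) - 3 ^ (m + 1) + 1 ∨ d ∣ 3 ^ (2 * m + 1) + 3 ^ (m + 1) + 1) := by
        intro d hd
        rcases (hR d).1 hd with h | h | h | h | h
        · exact Or.inl ((hY d).2 (Or.inl h))
        · exact Or.inl ((hY d).2 (Or.inr (Or.inl h)))
        · exact Or.inl ((hY d).2 (Or.inr (Or.inr (Or.inl h))))
        · exact Or.inl ((hY d).2 (Or.inr (Or.inr (Or.inr h))))
        · exact Or.inr h
      have hl : ∀ x y z : ℕ, Nat.lcm x (Nat.lcm y z) = Nat.lcm y (Nat.lcm x z) := fun x y z => by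
        rw [← Nat.lcm_assoc, Nat.lcm_comm x y, Nat.lcm_assoc]
      rcases split a ha with h | ha'
      · exact ⟨b, hb, _, ⟨c, hc, a, h, rfl⟩, by simp [Nat.lcm_comm, hl]⟩
      rcases split b hb with h | hb'
      · exact ⟨a, ha, _, ⟨c, hc, b, h, rfl⟩, by simp [Nat.lcm_comm, hl]⟩
      rcases split c hc with h | hc'
      · exact ⟨a, ha, _, ⟨b, hb, c, h, rfl⟩, rfl⟩
      have h1Y : (1 : ℕ) ∈ Set.range (orderOf : Y → ℕ) := ⟨1, orderOf_one⟩
      have join : ∀ x y, x ∣ 3 ^ (2 * m + 1) - 3 ^ (m + 1) + 1 → y ∣ 3 ^ (2 * m + 1) - 3 ^ (m + 1) + 1 →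
          Nat.lcm x y ∈ Set.range (orderOf : R → ℕ) := fun x y hx hy =>
        (hR _).2 (Or.inr (Or.inr (Or.inr (Or.inr (Or.inl (Nat.lcm_dvd hx hy))))))
      have join' : ∀ x y, x ∣ 3 ^ (2 * m + 1) + 3 ^ (m + 1) + 1 → y ∣ 3 ^ (2 * m + 1) + 3 ^ (m + 1) + 1 →
          Nat.lcm x y ∈ Set.range (orderOf : R → ℕ) := fun x y hx hy =>
        (hR _).2 (Or.inr (Or.inr (Or.inr (Or.inr (Or.inr (Nat.lcm_dvd hx hy))))))
      have key : Nat.lcm a b ∈ Set.range (orderOf : R → ℕ) ∨ Nat.lcm a c ∈ Set.range (orderOf : R → ℕ) ∨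
          Nat.lcm b c ∈ Set.range (orderOf : R → ℕ) := by
        rcases ha' with p | p <;> rcases hb' with q | q <;> rcases hc' with r | r <;>
          first
            | exact Or.inl (join _ _ p q)
            | exact Or.inl (join' _ _ p q)
            | exact Or.inr (Or.inl (join _ _ p r))
            | exact Or.inr (Or.inl (join' _ _ p r))
            | exact Or.inr (Or.inr (join _ _ q r))
            | exact Or.inr (Or.inr (join' _ _ q r))
      rcases key with h | h | h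
      · exact ⟨_, h, _, ⟨c, hc, 1, h1Y, rfl⟩, by simp [Nat.lcm_assoc]⟩
      · exact ⟨_, h, _, ⟨b, hb, 1, h1Y, rfl⟩, by simp [Nat.lcm_assoc, Nat.lcm_comm, hl]⟩
      · exact ⟨a, ha, _, ⟨_, h, 1, h1Y, rfl⟩, by simp⟩
  obtain ⟨H, hG, hF, ⟨e⟩⟩ := H64.exists_type_zero_copy (R × R × Y)
  refine ⟨H, hG, hF, ?_, (H64.range_orderOf_congr e).trans heq⟩
  rw [← Nat.card_eq_fintype_card, Nat.card_congr e.toEquiv, Nat.card_prod, Nat.card_prod]
  calc N < Nat.card Y := lt_of_lt_of_le (Nat.lt_succ_self N) (H64.ReeCube.card_gt (N + 1)).le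
    _ ≤ Nat.card R * (Nat.card R * Nat.card Y) := by
      rw [← mul_assoc]
      exact Nat.le_mul_of_pos_left _ (Nat.mul_pos Nat.card_pos Nat.card_pos)

end Cfsg.Agent.S3626
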