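import Cfsg.Statements.S3627
import Cfsg.Agent.H97.J1Classes
import Cfsg.Agent.H97.SpectrumExamples
-- import your own Cfsg.Agent.* helpers here

set_option autoImplicit false
open Cfsg

namespace Cfsg.Agent.S3627

/-- The five odd primes dividing the order of J₁ and not equal to 2. -/
def oddPrimes : Fin 5 → ℕ := ![3, 5, 7, 11, 19]

abbrev jOrders : List ℕ := [1, 2, 3, 5, 6, 7, 10, 11, 15, 19]

theorem lcm_fourfold : ∀ a ∈ jOrders, ∀ b ∈ jOrders, ∀ c ∈ jOrders, ∀ d ∈ jOrders,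
    Nat.lcm a (Nat.lcm b (Nat.lcm c d)) ∣ 43890 ∧ Nat.lcm a (Nat.lcm b (Nat.lcm c d)) ≠ 43890 := by
  decide +kernel

theorem range_J1_four :
    Set.range (orderOf : ↥Cfsg.Spor.J1 × ↥Cfsg.Spor.J1 × ↥Cfsg.Spor.J1 × ↥Cfsg.Spor.J1 → ℕ) =
      {n | n ∣ 43890 ∧ n ≠ 43890} := by
  have hmem : ∀ g : ↥Cfsg.Spor.J1, orderOf g ∈ jOrders := fun g =>
    Set.ext_iff.1 H97.J1.range_orderOf _ |>.1 ⟨g, rfl⟩
  ext n
  constructor
  · rintro ⟨⟨a, b, c, d⟩, rfl⟩
    simp only [Prod.orderOf]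
    exact lcm_fourfold _ (hmem a) _ (hmem b) _ (hmem c) _ (hmem d)
  · rintro ⟨hn, hne⟩
    have key : ∀ a ∈ jOrders, ∀ b ∈ jOrders, ∀ c ∈ jOrders, ∀ d ∈ jOrders,
        n ∣ Nat.lcm a (Nat.lcm b (Nat.lcm c d)) → n ∈
          Set.range (orderOf : ↥Cfsg.Spor.J1 × ↥Cfsg.Spor.J1 × ↥Cfsg.Spor.J1 × ↥Cfsg.Spor.J1 → ℕ) := by
      intro a ha b hb c hc d hd h
      obtain ⟨x, hx⟩ := (Set.ext_iff.1 H97.J1.range_orderOf a).2 ha
      obtain ⟨y, hy⟩ := (Set.ext_iff.1 H97.J1.range_orderOf b).2 hb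
      obtain ⟨z, hz⟩ := (Set.ext_iff.1 H97.J1.range_orderOf c).2 hc
      obtain ⟨w, hw⟩ := (Set.ext_iff.1 H97.J1.range_orderOf d).2 hd
      have ho : orderOf (x, y, z, w) = Nat.lcm a (Nat.lcm b (Nat.lcm c d)) := by
        simp only [Prod.orderOf, hx, hy, hz, hw]
      refine ⟨(x, y, z, w) ^ (orderOf (x, y, z, w) / n), orderOf_pow_orderOf_div ?_ (ho ▸ h)⟩
      exact (orderOf_pos _).ne'
    have cover : n ∣ 21945 ∨ n ∣ 14630 ∨ n ∣ 8778 ∨ n ∣ 6270 ∨ n ∣ 3990 ∨ n ∣ 2310 := by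
      have hc : ∀ m ∈ Nat.divisors 43890, m ≠ 43890 →
          m ∣ 21945 ∨ m ∣ 14630 ∨ m ∣ 8778 ∨ m ∣ 6270 ∨ m ∣ 3990 ∨ m ∣ 2310 := by decide +kernel
      exact hc n (Nat.mem_divisors.2 ⟨hn, by norm_num⟩) hne
    rcases cover with h | h | h | h | h | h
    · exact key 7 (by decide) 11 (by decide) 19 (by decide) 15 (by decide) h
    · exact key 7 (by decide) 11 (by decide) 19 (by decide) 10 (by decide) h
    · exact key 7 (by decide) 11 (by decide) 19 (by decide) 6 (by decide) h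
    · exact key 11 (by decide) 19 (by decide) 6 (by decide) 5 (by decide) h
    · exact key 7 (by decide) 19 (by decide) 6 (by decide) 5 (by decide) h
    · exact key 7 (by decide) 11 (by decide) 6 (by decide) 5 (by decide) h

/-- Let J be the first Janko group. Then there are finite groups of arbitrarily large order with exactly the same set of element orders as J × J × J × J. -/
theorem result (N : ℕ) : ∃ (H : Type) (_ : Group H) (_ : Fintype H), N < Fintype.card H ∧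
      Set.range (orderOf : H → ℕ) = Set.range (orderOf : ↥Cfsg.Spor.J1 × ↥Cfsg.Spor.J1 × ↥Cfsg.Spor.J1 × ↥Cfsg.Spor.J1 → ℕ) := by
  haveI : Fact (Nat.Prime 2) := ⟨Nat.prime_two⟩
  haveI : Finite (GaloisField 2 180) := inferInstance
  haveI : Fintype (GaloisField 2 180) := Fintype.ofFinite _
  have hprod : ∏ j, oddPrimes j = 21945 := by decide +kernel
  have hcard : Nat.card (GaloisField 2 180)ˣ = 2 ^ 180 - 1 := by
    rw [Nat.card_units, GaloisField.card 2 180 (by norm_num)]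
  obtain ⟨H, i₁, i₂, hlt, hH⟩ := H97.Spectrum.exists_proper_divisor_spectrum
    (K := GaloisField 2 180) oddPrimes
    (fun j => by fin_cases j <;> norm_num [oddPrimes])
    (by decide)
    (fun j => by fin_cases j <;> norm_num [oddPrimes])
    (fun j => by rw [hcard]; fin_cases j <;> decide +kernel) N
  refine ⟨H, i₁, i₂, hlt, ?_⟩
  rw [hH, hprod, range_J1_four]

end Cfsg.Agent.S3627
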