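import Cfsg.Statements.S3633
import Cfsg.Agent.H64.ThreePrimes

set_option autoImplicit false
open Cfsg

namespace Cfsg.Agent.S3633

/-- Let G be a finite group and ρ a set of at least three prime divisors of the order of G that are pairwise non-adjacent in the prime graph (no element of order rs for distinct r, s ∈ ρ). Then at most one prime of ρ divides the order of any given solvable normal subgroup of G; in particular G is not solvable. -/
theorem result {G : Type*} [Group G] [Finite G] (ρ : Finset ℕ) (hρ : 3 ≤ ρ.card) (hc : ((∀ r ∈ ρ, r.Prime ∧ r ∣ Nat.card G) ∧ (∀ r ∈ ρ, ∀ s ∈ ρ, r ≠ s → ¬ ∃ x : G, orderOf x = r * s)))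
    (K : Subgroup G) [K.Normal] (hK : Group.IsSolvable ↥K) :
    (∀ r ∈ ρ, ∀ s ∈ ρ, r ∣ Nat.card ↥K → s ∣ Nat.card ↥K → r = s) ∧ ¬ Group.IsSolvable G := by
  classical
  obtain ⟨hρp, hρn⟩ := hc
  -- a solvable subgroup cannot contain three primes of `ρ`
  have key : ∀ (M : Subgroup G), Group.IsSolvable M → ∀ r ∈ ρ, ∀ s ∈ ρ, ∀ t ∈ ρ, r ≠ s → r ≠ t → s ≠ t →
      r ∣ Nat.card M → s ∣ Nat.card M → t ∣ Nat.card M → False := by
    intro M hM r hr s hs t ht hrs hrt hst d1 d2 d3
    have no : ∀ a ∈ ρ, ∀ b ∈ ρ, a ≠ b → ¬ ∃ z : M, orderOf z = a * b := fun a ha b hb hab ⟨z, hz⟩ =>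
      hρn a ha b hb hab ⟨(z : G), by rw [Subgroup.orderOf_coe]; exact hz⟩
    rcases H64.three_primes_adjacent hM (hρp r hr).1 (hρp s hs).1 (hρp t ht).1 hrs hrt hst d1 d2 d3
      with h | h | h
    · exact no r hr s hs hrs h
    · exact no r hr t ht hrt h
    · exact no s hs t ht hst h
  refine ⟨?_, ?_⟩
  · intro r hr s hs dr ds
    by_contra hrs
    obtain ⟨t, ht, htr, hts⟩ : ∃ t ∈ ρ, t ≠ r ∧ t ≠ s := by
      obtain ⟨t, ht, hnt⟩ := Finset.exists_mem_notMem_of_card_lt_card (s := ({r, s} : Finset ℕ)) (t := ρ)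
        (lt_of_le_of_lt Finset.card_le_two (by omega))
      simp only [Finset.mem_insert, Finset.mem_singleton, not_or] at hnt
      exact ⟨t, ht, hnt.1, hnt.2⟩
    haveI := Fact.mk (hρp t ht).1
    obtain ⟨x, hx⟩ := exists_prime_orderOf_dvd_card' t (hρp t ht).2
    let f := QuotientGroup.mk' K
    let C := Subgroup.zpowers (f x)
    let M := C.comap f
    have hKM : K ≤ M := fun k hk => by
      show f k ∈ C
      rw [show f k = 1 from (QuotientGroup.eq_one_iff k).2 hk]
      exact C.one_mem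
    haveI : Group.IsSolvable C := @isSolvable_of_comm C _ (fun a b => mul_comm' a b)
    haveI := hK
    have hM : Group.IsSolvable M :=
      solvable_of_ker_le_range (Subgroup.inclusion hKM) (f.subgroupComap C) (fun m hm => by
        have : f (m : G) = 1 := congrArg Subtype.val hm
        exact ⟨⟨m, (QuotientGroup.eq_one_iff _).1 this⟩, rfl⟩)
    refine key M hM r hr s hs t ht hrs htr.symm hts.symm (dr.trans (Subgroup.card_dvd_of_le hKM))
      (ds.trans (Subgroup.card_dvd_of_le hKM)) ?_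
    rw [← hx]
    exact Subgroup.orderOf_dvd_natCard M (Subgroup.mem_zpowers (f x))
  · intro hG
    obtain ⟨S, hSρ, hcard⟩ := Finset.exists_subset_card_eq hρ
    obtain ⟨r, s, t, h1, h2, h3, rfl⟩ := Finset.card_eq_three.1 hcard
    have hd : ∀ a ∈ ρ, a ∣ Nat.card (⊤ : Subgroup G) := fun a ha => by
      rw [Subgroup.card_top]; exact (hρp a ha).2
    exact key ⊤ inferInstance r (hSρ (by simp)) s (hSρ (by simp)) t (hSρ (by simp)) h1 h2 h3
      (hd r (hSρ (by simp))) (hd s (hSρ (by simp))) (hd t (hSρ (by simp)))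

end Cfsg.Agent.S3633
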