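import Cfsg.Statements.S3634
import Cfsg.Agent.H61.NormMap
import Mathlib

set_option autoImplicit false
open Cfsg

namespace Cfsg.Agent.S3634

variable {G : Type*} [Group G] [Finite G]

theorem exists_orderOf_mul {a b : ℕ} (ha : a.Prime) (hb : b.Prime) (hab : a ≠ b) {x y : G}
    (hx : orderOf x = a) (hy : orderOf y = b) (hxy : x * y = y * x) : ∃ z : G, orderOf z = a * b :=
  ⟨x * y, by rw [(show Commute x y from hxy).orderOf_mul_eq_mul_orderOf_of_coprime
    (by rw [hx, hy]; exact (Nat.coprime_primes ha hb).mpr hab), hx, hy]⟩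

theorem dvd_card_of_sup_eq (N X Y : Subgroup G) [N.Normal] (h : Y ≤ N ⊔ X) {q : ℕ}
    (hq : q ∣ Nat.card (Y.map (QuotientGroup.mk' N))) : q ∣ Nat.card X := by
  refine hq.trans ((Subgroup.card_dvd_of_le ?_).trans (Subgroup.card_map_dvd X (QuotientGroup.mk' N)))
  calc Y.map (QuotientGroup.mk' N) ≤ (N ⊔ X).map (QuotientGroup.mk' N) := Subgroup.map_mono h
    _ = X.map (QuotientGroup.mk' N) := by rw [Subgroup.map_sup, QuotientGroup.map_mk'_self, bot_sup_eq]

/-- Let G be a finite group with normal subgroups K ≤ M, and let p, q, r be distinct primes with p dividing the order of K, q dividing the order of M/K and r dividing the order of G/M. Then p, q, r are not pairwise non-adjacent in the prime graph of G: G has an element of order pq, pr or qr. -/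
theorem result {G : Type*} [Group G] [Finite G] (K M : Subgroup G) [K.Normal] [M.Normal] (hKM : K ≤ M)
    (p q r : ℕ) (hp : p.Prime) (hq : q.Prime) (hr : r.Prime) (hpq : p ≠ q) (hpr : p ≠ r) (hqr : q ≠ r)
    (hpK : p ∣ Nat.card ↥K) (hqM : q ∣ Nat.card ↥M / Nat.card ↥K) (hrG : r ∣ Nat.card G / Nat.card ↥M) :
    (∃ x : G, orderOf x = p * q) ∨ (∃ x : G, orderOf x = p * r) ∨ (∃ x : G, orderOf x = q * r) := by
  classical
  by_contra hne
  simp only [not_or, not_exists] at hne
  obtain ⟨hnpq, hnpr, hnqr⟩ := hne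
  haveI := Fact.mk hp
  haveI := Fact.mk hq
  haveI := Fact.mk hr
  obtain ⟨P₀⟩ := (inferInstance : Nonempty (Sylow p K))
  set P : Subgroup G := P₀.1.map K.subtype with hP
  have hPK : P ≤ K := Subgroup.map_subtype_le _
  set L := Subgroup.normalizer (P : Set G) with hL
  have hLK : L ⊔ K = ⊤ := Sylow.normalizer_sup_eq_top P₀
  set ML := M ⊓ L with hML
  have hM' : M ≤ K ⊔ ML := by
    intro m hm
    have : m ∈ L ⊔ K := hLK ▸ Subgroup.mem_top m
    rw [sup_comm, Subgroup.mem_sup_of_normal_left] at this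
    obtain ⟨k, hk, l, hl, rfl⟩ := this
    exact Subgroup.mul_mem_sup hk ⟨by simpa using M.mul_mem (M.inv_mem (hKM hk)) hm, hl⟩
  have hqML : q ∣ Nat.card ML := by
    refine dvd_card_of_sup_eq K ML M hM' ?_
    have h1 : Nat.card (M.map (QuotientGroup.mk' K)) * Nat.card K = Nat.card M := by
      rw [mul_comm, ← Subgroup.card_mul_index (K.subgroupOf M), Nat.card_congr (Subgroup.subgroupOfEquivOfLe hKM).toEquiv]
      congr 1
      change Nat.card (M.map (QuotientGroup.mk' K)) = K.relIndex M
      have h := Subgroup.relIndex_ker (K := M) (QuotientGroup.mk' K)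
      rw [QuotientGroup.ker_mk'] at h
      exact h.symm
    rwa [← h1, Nat.mul_div_cancel _ Nat.card_pos] at hqM
  -- Sylow q of `ML`
  obtain ⟨Q₀⟩ := (inferInstance : Nonempty (Sylow q (ML.subgroupOf L)))
  haveI hMLn : (ML.subgroupOf L).Normal := by
    rw [hML, Subgroup.inf_subgroupOf_right]; infer_instance
  have hQsup := Sylow.normalizer_sup_eq_top Q₀
  set Q : Subgroup L := Q₀.1.map (ML.subgroupOf L).subtype with hQ
  set R := Subgroup.normalizer (Q : Set L) with hR
  have hQcard : Nat.card Q = Nat.card Q₀ := Subgroup.card_map_of_injective (Subgroup.subtype_injective _)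
  have hqQ : q ∣ Nat.card Q := by
    rw [hQcard]
    exact Q₀.dvd_card_of_dvd_card (by rw [Nat.card_congr (Subgroup.subgroupOfEquivOfLe inf_le_right).toEquiv]; exact hqML)
  have hrR : r ∣ Nat.card R := by
    have h1 : (⊤ : Subgroup G) ≤ M ⊔ R.map L.subtype := by
      have e : (R ⊔ ML.subgroupOf L).map L.subtype = L := by
        rw [hQsup, ← MonoidHom.range_eq_map, Subgroup.range_subtype]
      rw [Subgroup.map_sup, Subgroup.map_subgroupOf_eq_of_le (inf_le_right : ML ≤ L)] at e
      calc (⊤ : Subgroup G) = L ⊔ K := hLK.symm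
        _ ≤ M ⊔ R.map L.subtype := sup_le (e.ge.trans (sup_le le_sup_right (inf_le_left.trans le_sup_left)))
              (hKM.trans le_sup_left)
    rw [← Subgroup.card_map_of_injective (K := R) (f := L.subtype) L.subtype_injective]
    refine dvd_card_of_sup_eq M _ ⊤ h1 ?_
    rw [Subgroup.map_top_of_surjective _ (QuotientGroup.mk'_surjective M), Subgroup.card_top]
    rw [← Subgroup.index_eq_card]
    rwa [← Subgroup.card_mul_index M, Nat.mul_div_cancel_left _ Nat.card_pos] at hrG
  obtain ⟨x, hx⟩ := exists_prime_orderOf_dvd_card' r hrR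
  -- `L` acts on the centre of `P`
  letI : CommGroup (Subgroup.center P) :=
    { (inferInstance : Group (Subgroup.center P)) with
      mul_comm := fun a b => Subtype.ext ((Subgroup.mem_center_iff.mp b.2) a) }
  let c : MulAut P →* MulAut (Subgroup.center P) :=
    MonoidHom.mk' (fun e => Subgroup.centerCongr e) (fun e f => MulEquiv.ext fun _ => rfl)
  let φ : L →* MulAut (Subgroup.center P) := c.comp P.normalizerMonoidHom
  have hPp : IsPGroup p P := P₀.2.map _
  have hφ : ∀ (l : L) (v : Subgroup.center P), (((φ l v : Subgroup.center P) : P) : G) = (l : G) * ((v : P) : G) * (l : G)⁻¹ :=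
    fun l v => rfl
  have hpow : ∀ (v : Subgroup.center P), v ≠ 1 → ∃ k, orderOf ((v : P) : G) = p * k := by
    intro v hv
    obtain ⟨j, hj⟩ := (IsPGroup.iff_orderOf.mp hPp) (v : P)
    rw [Subgroup.orderOf_coe, hj]
    rcases j with _ | j
    · exfalso; apply hv
      rw [pow_zero, orderOf_eq_one_iff, OneMemClass.coe_eq_one] at hj
      exact hj
    · exact ⟨p ^ j, by rw [pow_succ, mul_comm]⟩
  -- no element of prime order different from `p` fixes a non-trivial element
  have hfree : ∀ (s : ℕ), s.Prime → p ≠ s → (∀ z : G, ¬ orderOf z = p * s) → ∀ (l : L), orderOf (l : G) = s →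
      ∀ v : Subgroup.center P, φ l v = v → v = 1 := by
    intro s hs hps hno l hl v hv
    by_contra hv1
    obtain ⟨k, hk⟩ := hpow v hv1
    set u := ((v : P) : G) with hu
    have hcomm : Commute u (l : G) := by
      have := congrArg (fun z : Subgroup.center P => ((z : P) : G)) hv
      simp only [hφ] at this
      rw [mul_inv_eq_iff_eq_mul] at this
      exact this.symm
    have hk0 : 0 < k := by
      rcases Nat.eq_zero_or_pos k with rfl | h
      · exact absurd hk (by rw [mul_zero]; exact (orderOf_pos u).ne')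
      · exact h
    obtain ⟨z, hz⟩ := exists_orderOf_mul hp hs hps (x := u ^ k) (y := (l : G))
      (by rw [orderOf_pow, hk, Nat.gcd_eq_right (Dvd.intro_left p rfl), Nat.mul_div_cancel _ hk0]) hl
      (hcomm.pow_left k).eq
    exact hno z hz
  have hxL : orderOf ((x : L) : G) = r := by rw [Subgroup.orderOf_coe, Subgroup.orderOf_coe, hx]
  have hQp : IsPGroup q Q := Q₀.2.map _
  have hQcop : (Nat.card Q).Coprime (Nat.card (Subgroup.center P)) :=
    IsPGroup.coprime_card_of_ne q p (Ne.symm hpq) _ _ hQp (hPp.to_subgroup _)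
  have hnorm : ∀ v : Subgroup.center P, ∏ i ∈ Finset.range r, φ ((x : L) ^ i) v = 1 := by
    intro v
    apply hfree r hr hpr hnpr (x : L) hxL
    rw [map_prod]
    have hxr : (x : L) ^ r = 1 := by rw [← hx, ← Subgroup.orderOf_coe]; exact pow_orderOf_eq_one _
    obtain ⟨r', rfl⟩ : ∃ r', r = r' + 1 := ⟨r - 1, by have := hr.one_le; omega⟩
    have hstep : ∀ i, φ (x : L) (φ ((x : L) ^ i) v) = φ ((x : L) ^ (i + 1)) v := fun i => by
      rw [pow_succ', map_mul]; rfl
    simp only [hstep]
    conv_rhs => rw [Finset.prod_range_succ']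
    rw [Finset.prod_range_succ, hxr, pow_zero]
  have htriv := H61.action_trivial_of_norm_eq_one φ Q (x : L) r hr.pos x.2 ?_ hQcop hnorm
  · obtain ⟨y, hy⟩ := exists_prime_orderOf_dvd_card' q hqQ
    have hyG : orderOf ((y : L) : G) = q := by rw [Subgroup.orderOf_coe, Subgroup.orderOf_coe, hy]
    have hPnt : Nontrivial P := by
      rw [Subgroup.nontrivial_iff_ne_bot]
      intro hb
      have h1 : p ∣ Nat.card P₀ := P₀.dvd_card_of_dvd_card hpK
      have : Nat.card P = Nat.card P₀ := Subgroup.card_map_of_injective K.subtype_injective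
      rw [← this, hb, Subgroup.card_bot, Nat.dvd_one] at h1
      exact hp.one_lt.ne' h1
    have := IsPGroup.center_nontrivial (G := P) hPp
    obtain ⟨v, hv⟩ := exists_ne (1 : Subgroup.center P)
    exact hv (hfree q hq hpq hnpq (y : L) hyG v (htriv y y.2 v))
  · intro i hi hir a ha hcomm
    by_contra ha1
    obtain ⟨j, hj⟩ := (IsPGroup.iff_orderOf.mp hQp) ⟨a, ha⟩
    rw [Subgroup.orderOf_mk] at hj
    rcases j with _ | j
    · rw [pow_zero, orderOf_eq_one_iff] at hj; exact ha1 hj
    have hxi : orderOf (((x : L) ^ i : L) : G) = r := by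
      rw [Subgroup.coe_pow, (Nat.Coprime.orderOf_pow ?_), hxL]
      rw [hxL]
      exact (Nat.Prime.coprime_iff_not_dvd hr).mpr fun hd => absurd (Nat.le_of_dvd hi hd) (not_le.mpr hir)
    obtain ⟨z, hz⟩ := exists_orderOf_mul hq hr hqr (x := ((a : L) : G) ^ q ^ j) (y := (((x : L) ^ i : L) : G))
      (by rw [orderOf_pow, Subgroup.orderOf_coe, hj, Nat.gcd_eq_right (pow_dvd_pow q (Nat.le_succ j)), Nat.pow_div (Nat.le_succ j) hq.pos]; simp)
      hxi ((show Commute (a : G) (((x : L) ^ i : L) : G) from congrArg Subtype.val hcomm).pow_left _).eq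
    exact hnqr z hz

end Cfsg.Agent.S3634
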