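import Cfsg.Statements.S3639
import Cfsg.Agent.H57.SzPrimeGraph
import Cfsg.Agent.H57.SzForm
-- import your own Cfsg.Agent.* helpers here

set_option autoImplicit false
open Cfsg

namespace Cfsg.Agent.S3639

/-- Let S be the Suzuki group over the field with q = 2^(2m+1) ≥ 8 elements. Then there are finite groups of arbitrarily large order with the same prime graph as S. -/
theorem result {F : Type*} [Field F] [Fintype F] {m : ℕ} (hm : 1 ≤ m) (hF : Fintype.card F = 2 ^ (2 * m + 1)) (N : ℕ) :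
    ∃ (H : Type) (_ : Group H) (_ : Fintype H), N < Fintype.card H ∧ ((∀ r : ℕ, r.Prime → (r ∣ Nat.card ↥(Cfsg.Lie.Sz F (2 ^ (m + 1))) ↔ r ∣ Nat.card H)) ∧
      (∀ r s : ℕ, r.Prime → s.Prime → r ≠ s → ((∃ x : ↥(Cfsg.Lie.Sz F (2 ^ (m + 1))), orderOf x = r * s) ↔ (∃ y : H, orderOf y = r * s)))) := by
  classical
  haveI : Finite (H57.SzExt F m (N + 1)) := Finite.of_equiv _ SemidirectProduct.equivProd.symm
  haveI := Fintype.ofFinite (H57.SzExt F m (N + 1))
  let ψ : Shrink.{0} (H57.SzExt F m (N + 1)) ≃* H57.SzExt F m (N + 1) := Shrink.mulEquiv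
  haveI : Finite (Shrink.{0} (H57.SzExt F m (N + 1))) := Finite.of_equiv _ ψ.symm.toEquiv
  haveI := Fintype.ofFinite (Shrink.{0} (H57.SzExt F m (N + 1)))
  let e := H57.lieSzEquiv hm hF
  obtain ⟨h1, h2⟩ := H57.szExt_primeGraph hm hF (N + 1)
  refine ⟨Shrink.{0} (H57.SzExt F m (N + 1)), inferInstance, inferInstance, ?_, ?_, ?_⟩
  · rw [← Nat.card_eq_fintype_card, Nat.card_congr ψ.toEquiv, SemidirectProduct.card,
      Nat.card_eq_fintype_card, Fintype.card_multiplicative, Fintype.card_fun, Fintype.card_fun,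
      hF, Fintype.card_fin, Fintype.card_fin, ← pow_mul, ← pow_mul]
    have hp : 0 < Nat.card (Cfsg.Sz F m) := Nat.card_pos
    have h3 : N + 1 < 2 ^ (N + 1) := Nat.lt_two_pow_self
    have h4 : 2 ^ (N + 1) ≤ 2 ^ ((2 * m + 1) * (4 * (N + 1))) :=
      Nat.pow_le_pow_right (by norm_num) (by nlinarith)
    have h5 := Nat.le_mul_of_pos_right (2 ^ ((2 * m + 1) * (4 * (N + 1)))) hp
    omega
  · intro r hr
    rw [← Nat.card_congr e.toEquiv, h1 r hr, Nat.card_congr ψ.toEquiv]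
  · intro r s hr hs hrs
    refine Iff.trans ?_ ((h2 r s hr hs hrs).trans ?_)
    · exact ⟨fun ⟨x, hx⟩ => ⟨e.symm x, by rw [MulEquiv.orderOf_eq]; exact hx⟩,
        fun ⟨x, hx⟩ => ⟨e x, by rw [MulEquiv.orderOf_eq]; exact hx⟩⟩
    · exact ⟨fun ⟨x, hx⟩ => ⟨ψ.symm x, by rw [MulEquiv.orderOf_eq]; exact hx⟩,
        fun ⟨x, hx⟩ => ⟨ψ x, by rw [MulEquiv.orderOf_eq]; exact hx⟩⟩

end Cfsg.Agent.S3639
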