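import Cfsg.Statements.S3641
import Cfsg.Agent.H65.SylowSeventeen
import Cfsg.Agent.H39.ProjField

set_option autoImplicit false
open Cfsg

namespace Cfsg.Agent.S3641

/-- Let G be a finite group with trivial centre whose set of Sylow numbers (numbers of Sylow r-subgroups, r over the prime divisors of its order) is exactly {18, 136, 153}. Then G is isomorphic to PSL(2, 17) or to PGL(2, 17). -/
theorem result {G : Type*} [Group G] [Finite G] (hZ : Subgroup.center G = ⊥) (hNS : {c : ℕ | ∃ r : ℕ, r.Prime ∧ r ∣ Nat.card G ∧ c = Nat.card (Sylow r G)} = ({18, 136, 153} : Set ℕ))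
    {F : Type*} [Field F] [Fintype F] (hF : Fintype.card F = 17) :
    Nonempty (G ≃* Matrix.ProjectiveSpecialLinearGroup (Fin 2) F) ∨ Nonempty (G ≃* (GL (Fin 2) F ⧸ Subgroup.center (GL (Fin 2) F))) := by
  classical
  haveI h17 : Fact (Nat.Prime 17) := ⟨by norm_num⟩
  -- the Sylow numbers
  have hset : ∀ r : ℕ, r.Prime → r ∣ Nat.card G → Nat.card (Sylow r G) = 18 ∨ Nat.card (Sylow r G) = 136 ∨
      Nat.card (Sylow r G) = 153 := fun r hr hd => by
    have h0 : Nat.card (Sylow r G) ∈ {c : ℕ | ∃ r : ℕ, r.Prime ∧ r ∣ Nat.card G ∧ c = Nat.card (Sylow r G)} :=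
      ⟨r, hr, hd, rfl⟩
    rw [hNS] at h0
    simpa using h0
  have hmod : ∀ r : ℕ, r.Prime → Nat.card (Sylow r G) % r = 1 := fun r hr => by
    haveI := Fact.mk hr
    have := card_sylow_modEq_one r G
    rw [Nat.ModEq, Nat.mod_eq_of_lt hr.one_lt] at this
    exact this
  obtain ⟨r, hr, hrG, hr18⟩ : ∃ r : ℕ, r.Prime ∧ r ∣ Nat.card G ∧ Nat.card (Sylow r G) = 18 := by
    obtain ⟨r, h1, h2, h3⟩ : (18 : ℕ) ∈ {c : ℕ | ∃ r : ℕ, r.Prime ∧ r ∣ Nat.card G ∧ c = Nat.card (Sylow r G)} := by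
      rw [hNS]; simp
    exact ⟨r, h1, h2, h3.symm⟩
  obtain rfl : r = 17 := by
    have hmr := Nat.dvd_sub_mod (n := r) 18
    rw [show 18 % r = 1 by rw [← hr18]; exact hmod r hr] at hmr
    exact (Nat.prime_dvd_prime_iff_eq hr h17.out).1 hmr
  obtain ⟨P⟩ : Nonempty (Sylow 17 G) := inferInstance
  have h18 : 18 ∣ Nat.card G := hr18 ▸ P.card_eq_index_normalizer ▸ Subgroup.index_dvd_card _
  have h2G : 2 ∣ Nat.card G := (show 2 ∣ 18 by norm_num).trans h18
  have h3G : 3 ∣ Nat.card G := (show 3 ∣ 18 by norm_num).trans h18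
  have hn2 : Nat.card (Sylow 2 G) = 153 := by
    have h1 := hmod 2 Nat.prime_two
    rcases hset 2 Nat.prime_two h2G with e | e | e <;> omega
  have hn3 : Nat.card (Sylow 3 G) = 136 := by
    have h1 := hmod 3 Nat.prime_three
    rcases hset 3 Nat.prime_three h3G with e | e | e <;> omega
  -- the action on the Sylow `17`-subgroups
  haveI : Fintype (Sylow 17 G) := Fintype.ofFinite _
  have hΩ : Fintype.card (Sylow 17 G) = 18 := by rw [← Nat.card_eq_fintype_card, hr18]
  set φ₀ := MulAction.toPermHom G (Sylow 17 G)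
  set H := φ₀.range with hH
  set φ := φ₀.rangeRestrict
  have hφ : Function.Surjective φ := φ₀.rangeRestrict_surjective
  have hsmul : ∀ (g : G) (Q : Sylow 17 G), φ g • Q = g • Q := fun g Q => rfl
  haveI : MulAction.IsPretransitive H (Sylow 17 G) := ⟨fun A B => by
    obtain ⟨g, hg⟩ := MulAction.exists_smul_eq G A B
    exact ⟨φ g, hg⟩⟩
  set F₀ := (P : Subgroup G).map φ with hF₀
  have hFc : Nat.card F₀ = 17 := by
    obtain ⟨i, hi⟩ := (P.isPGroup'.map φ).exists_card_eq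
    have hle : i ≤ 1 := by
      by_contra hlt
      have h1 : 17 ^ 2 ∣ Nat.card F₀ := hi ▸ pow_dvd_pow 17 (by omega)
      have h2 : 17 ^ 2 ∣ Nat.card (Equiv.Perm (Sylow 17 G)) :=
        h1.trans ((Subgroup.card_subgroup_dvd_card _).trans (Subgroup.card_subgroup_dvd_card H))
      rw [Nat.card_eq_fintype_card, Fintype.card_perm, hΩ] at h2
      norm_num [Nat.factorial] at h2
    interval_cases i
    · exfalso
      rw [pow_zero] at hi
      have hbot := Subgroup.card_eq_one.1 hi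
      obtain ⟨Q, hQ⟩ := Fintype.exists_ne_of_one_lt_card (by omega) P
      refine hQ (Sylow.ext (P.3 Q.isPGroup' fun w hw => ?_))
      have hw1 : φ w = 1 := Subgroup.mem_bot.1 (hbot ▸ Subgroup.mem_map_of_mem φ hw)
      have hfixQ : w • Q = Q := by rw [← hsmul, hw1]; exact one_smul H Q
      exact ((P.isPGroup'.inf_normalizer_sylow Q).le ⟨hw, Sylow.smul_eq_iff_mem_normalizer.1 hfixQ⟩).2
    · rw [hi, pow_one]
  have hfree : ∀ u ∈ F₀, u ≠ 1 → ∀ Q : Sylow 17 G, u • Q = Q → Q = P := by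
    rintro _ ⟨g, hg, rfl⟩ hne Q hQ
    have hgen := zpowers_eq_top_of_prime_card hFc
      (g := (⟨φ g, Subgroup.mem_map_of_mem φ hg⟩ : F₀)) (fun e => hne (congrArg Subtype.val e))
    refine Sylow.ext (P.3 Q.isPGroup' fun w hw => ?_)
    obtain ⟨k, hk⟩ := Subgroup.mem_zpowers_iff.1
      (hgen ▸ Subgroup.mem_top (⟨φ w, Subgroup.mem_map_of_mem φ hw⟩ : F₀))
    have hk' : φ g ^ k = φ w := congrArg Subtype.val hk
    have hfixQ : w • Q = Q := by
      rw [← hsmul, ← hk']
      exact MulAction.mem_stabilizer_iff.1 ((MulAction.stabilizer H Q).zpow_mem hQ k)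
    exact ((P.isPGroup'.inf_normalizer_sylow Q).le ⟨hw, Sylow.smul_eq_iff_mem_normalizer.1 hfixQ⟩).2
  have hstab : F₀ ≤ MulAction.stabilizer H P := by
    rintro _ ⟨g, hg, rfl⟩
    exact Sylow.smul_eq_iff_mem_normalizer.2 (Subgroup.le_normalizer hg)
  have hFn : (F₀.subgroupOf (MulAction.stabilizer H P)).Normal := ⟨fun a ha g => by
    obtain ⟨n, hn⟩ := hφ (g : H)
    obtain ⟨w, hw, hwa⟩ := Subgroup.mem_subgroupOf.1 ha
    have hnP : n ∈ Subgroup.normalizer ((P : Subgroup G) : Set G) := by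
      refine Sylow.smul_eq_iff_mem_normalizer.1 ?_
      rw [← hsmul, hn]; exact g.2
    refine Subgroup.mem_subgroupOf.2 ⟨n * w * n⁻¹, (Subgroup.mem_normalizer_iff.1 hnP w).1 hw, ?_⟩
    rw [map_mul, map_mul, map_inv, hn, hwa]
    rfl⟩
  obtain ⟨K, i1, i2, hK, hiso⟩ := H65.DegreeEighteen.degree_eighteen H hΩ P F₀ hstab hFn hFc hfree
  -- Sylow numbers of `H`
  haveI : CharP K 17 := charP_of_card_eq_prime_pow (f := 1) (by rw [hK, pow_one])
  have hPSL : Nat.card (Matrix.ProjectiveSpecialLinearGroup (Fin 2) K) = 2448 := by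
    have := H39.card_PSL2_mul (F := K)
    rw [hK, show Nat.gcd 2 (17 - 1) = 2 by decide, show 17 * (17 ^ 2 - 1) = 4896 by norm_num] at this
    omega
  obtain ⟨j, hj, hHc⟩ : ∃ j : Matrix.ProjectiveSpecialLinearGroup (Fin 2) K →* H,
      Function.Injective j ∧ Nat.card H ∣ 4896 := by
    rcases hiso with ⟨⟨e⟩⟩ | ⟨⟨e⟩⟩
    · exact ⟨e.symm.toMonoidHom, e.symm.injective, by rw [Nat.card_congr e.toEquiv, hPSL]; norm_num⟩
    · exact ⟨e.symm.toMonoidHom.comp Matrix.ProjectiveSpecialLinearGroup.toPGL,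
        e.symm.injective.comp Matrix.ProjectiveSpecialLinearGroup.toPGL_injective,
        by rw [Nat.card_congr e.toEquiv, H39.card_PGL2, hK]; norm_num⟩
  set eL := MonoidHom.ofInjective hj
  have hLc : Nat.card j.range = 2448 := by rw [← Nat.card_congr eL.toEquiv, hPSL]
  have hsp : ∀ g : j.range, orderOf g ∣ 17 ∨ orderOf g ∣ 8 ∨ orderOf g ∣ 9 := fun g => by
    rw [← MulEquiv.orderOf_eq eL.symm g]; exact H65.SylowSeventeen.spectrum hK _
  have hex : ∀ m : ℕ, m ∣ 8 ∨ m ∣ 9 → ∃ g : j.range, orderOf g = m := by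
    intro m hm
    have hmem : m ∈ Set.range (orderOf : Matrix.ProjectiveSpecialLinearGroup (Fin 2) K → ℕ) := by
      rw [H64.psl2_spectrum 17, hK]
      rcases hm with e | e
      · exact Or.inr (Or.inl (by simpa using e))
      · exact Or.inr (Or.inr (by simpa using e))
    obtain ⟨g, hg⟩ := hmem
    exact ⟨eL g, (MulEquiv.orderOf_eq eL g).trans hg⟩
  obtain ⟨h3L, h2L⟩ := H65.SylowSeventeen.card_sylow_ge hLc hsp (hex 9 (Or.inr dvd_rfl)) (hex 8 (Or.inl dvd_rfl))
  -- the kernel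
  set N := φ.ker with hN
  have hkN : ∀ r : ℕ, r = 2 ∨ r = 3 ∨ r = 17 → ∀ T : Sylow r G, N ≤ Subgroup.normalizer ((T : Subgroup G) : Set G) := by
    rintro r (rfl | rfl | rfl) T k hk
    · haveI : Fact (Nat.Prime 2) := ⟨Nat.prime_two⟩
      exact H65.SylowKernel.kernel_normalizes hφ
        (by rw [hn2]; exact h2L.trans (H65.SylowKernel.card_sylow_le _ 2)) T hk
    · haveI : Fact (Nat.Prime 3) := ⟨Nat.prime_three⟩
      exact H65.SylowKernel.kernel_normalizes hφ
        (by rw [hn3]; exact h3L.trans (H65.SylowKernel.card_sylow_le _ 3)) T hk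
    · refine Sylow.smul_eq_iff_mem_normalizer.1 ?_
      rw [← hsmul, MonoidHom.mem_ker.1 hk]; exact one_smul H T
  have hHdvd : ∀ r : ℕ, r.Prime → r ∣ Nat.card H → r = 2 ∨ r = 3 ∨ r = 17 := by
    intro r hr' hd
    have hd' : r ∣ 2 ^ 5 * 3 ^ 2 * 17 := hd.trans (hHc.trans (by norm_num))
    rcases hr'.dvd_mul.1 hd' with h | h
    · rcases hr'.dvd_mul.1 h with h | h
      · exact Or.inl ((Nat.prime_dvd_prime_iff_eq hr' Nat.prime_two).1 (hr'.dvd_of_dvd_pow h))
      · exact Or.inr (Or.inl ((Nat.prime_dvd_prime_iff_eq hr' Nat.prime_three).1 (hr'.dvd_of_dvd_pow h)))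
    · exact Or.inr (Or.inr ((Nat.prime_dvd_prime_iff_eq hr' h17.out).1 h))
  have hπ : ∀ r : ℕ, r.Prime → r ∣ Nat.card G → r = 2 ∨ r = 3 ∨ r = 17 := by
    intro r hr' hd
    by_contra hcon
    push Not at hcon
    haveI := Fact.mk hr'
    have hSK : ∀ S : Sylow r G, (S : Subgroup G) ≤ N := fun S w hw => by
      obtain ⟨i, hi⟩ := IsPGroup.iff_orderOf.1 S.isPGroup' ⟨w, hw⟩
      rw [Subgroup.orderOf_mk] at hi
      by_contra hne
      obtain ⟨l, -, hl⟩ := (Nat.dvd_prime_pow hr').1 (show orderOf (φ w) ∣ r ^ i from hi ▸ orderOf_map_dvd φ w)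
      have hl0 : l ≠ 0 := fun e => hne (orderOf_eq_one_iff.1 (by rw [hl, e, pow_zero]))
      rcases hHdvd r hr' ((hl ▸ dvd_pow_self r hl0).trans (orderOf_dvd_natCard _)) with e | e | e
      · exact hcon.1 e
      · exact hcon.2.1 e
      · exact hcon.2.2 e
    have h1 := hmod r hr'
    have hsub := Nat.dvd_sub_mod (n := r) (Nat.card (Sylow r G))
    rw [h1] at hsub
    rcases hset r hr' hd with e | e | e <;> rw [e] at hsub
    · exact hcon.2.2 ((Nat.prime_dvd_prime_iff_eq hr' h17.out).1 hsub)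
    · obtain rfl : r = 5 := by
        rcases hr'.dvd_mul.1 (show r ∣ 3 ^ 3 * 5 from hsub) with h | h
        · exact absurd ((Nat.prime_dvd_prime_iff_eq hr' Nat.prime_three).1 (hr'.dvd_of_dvd_pow h)) hcon.2.1
        · exact (Nat.prime_dvd_prime_iff_eq hr' (by norm_num)).1 h
      haveI : Fact (Nat.Prime 2) := ⟨Nat.prime_two⟩
      refine H65.SylowKernel.no_outside_prime N (q := 2) (r := 5) hSK (hkN 2 (Or.inl rfl)) (by rw [e]; norm_num) ?_
      intro i hi hm
      rw [e] at hi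
      have hi4 : i < 4 := by
        by_contra hlt
        have := (pow_dvd_pow 2 (show 4 ≤ i by omega)).trans hi
        norm_num at this
      rw [Nat.ModEq] at hm
      interval_cases i <;> omega
    · obtain rfl : r = 19 := by
        rcases hr'.dvd_mul.1 (show r ∣ 2 ^ 3 * 19 from hsub) with h | h
        · exact absurd ((Nat.prime_dvd_prime_iff_eq hr' Nat.prime_two).1 (hr'.dvd_of_dvd_pow h)) hcon.1
        · exact (Nat.prime_dvd_prime_iff_eq hr' (by norm_num)).1 h
      haveI : Fact (Nat.Prime 3) := ⟨Nat.prime_three⟩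
      refine H65.SylowKernel.no_outside_prime N (q := 3) (r := 19) hSK (hkN 3 (Or.inr (Or.inl rfl)))
        (by rw [e]; norm_num) ?_
      intro i hi hm
      rw [e] at hi
      have hi3 : i < 3 := by
        by_contra hlt
        have := (pow_dvd_pow 3 (show 3 ≤ i by omega)).trans hi
        norm_num at this
      rw [Nat.ModEq] at hm
      interval_cases i <;> omega
  have hker : N = ⊥ :=
    H65.SylowKernel.eq_bot_of_normalizes N hZ fun r hr' hd T => hkN r (hπ r hr' hd) T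
  let eG : G ≃* H := MulEquiv.ofBijective φ ⟨(MonoidHom.ker_eq_bot_iff φ).1 hker, hφ⟩
  let ε : K ≃+* F := FiniteField.ringEquivOfCardEq (hK.trans hF.symm)
  rcases hiso with ⟨⟨e⟩⟩ | ⟨⟨e⟩⟩
  · exact Or.inl ⟨(eG.trans e).trans (H37.pslCongr ε)⟩
  · let E : Matrix.ProjGenLinGroup (Fin 2) K ≃* Matrix.ProjGenLinGroup (Fin 2) F :=
      MonoidHom.toMulEquiv (Matrix.ProjGenLinGroup.map ε.toRingHom)
        (Matrix.ProjGenLinGroup.map ε.symm.toRingHom)
        (by rw [← Matrix.ProjGenLinGroup.map_comp, RingEquiv.symm_toRingHom_comp_toRingHom, Matrix.ProjGenLinGroup.map_id])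
        (by rw [← Matrix.ProjGenLinGroup.map_comp, RingEquiv.toRingHom_comp_symm_toRingHom, Matrix.ProjGenLinGroup.map_id])
    exact Or.inr ⟨(eG.trans e).trans E⟩

end Cfsg.Agent.S3641
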