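import Cfsg.Statements.S3662
import Cfsg.Agent.H35.G24Orders

set_option autoImplicit false
set_option linter.all false
open Cfsg

namespace Cfsg.Agent.S3662

/-- The prime graph of a finite group has the prime divisors of its order as vertices, two distinct primes p, q being joined when the group has an element of order pq; two groups have the same prime graph when they have the same prime divisors and the same joined pairs. Let F be the field with 4 elements and L the Chevalley group of type G₂ over F. There are finite groups of arbitrarily large order with the same prime graph as L. -/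
theorem result {F : Type*} [Field F] [Fintype F] (hF : Fintype.card F = 4) (N : ℕ) :
    ∃ (H : Type) (_ : Group H) (_ : Finite H), N < Nat.card H ∧
      ((∀ p : ℕ, p.Prime → (p ∣ Nat.card ↥(Cfsg.Lie.chevG2.group F) ↔ p ∣ Nat.card H)) ∧
      (∀ p q : ℕ, p.Prime → q.Prime → p ≠ q → ((∃ g : ↥(Cfsg.Lie.chevG2.group F), orderOf g = p * q) ↔ (∃ g : H, orderOf g = p * q)))) := by
  classical
  let ψ : F ≃+* H35.G24.K4 := FiniteField.ringEquivOfCardEq (K' := H35.G24.K4) (by rw [hF, H35.G24.K4.card_eq])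
  obtain ⟨e⟩ := H52.exists_group_congr Cfsg.Lie.chevG2 ψ
  let k := N + 1
  let V : Type := Multiplicative (Fin k → Fin 6 → H35.G24.K4)
  let H : Type := V ⋊[H35.G24.modAct k] H35.G24.G24
  haveI : Finite H := Finite.of_equiv _ SemidirectProduct.equivProd.symm
  have hV : Nat.card V = 4 ^ (6 * k) := by
    rw [Nat.card_congr (Multiplicative.toAdd (α := Fin k → Fin 6 → H35.G24.K4)), Nat.card_fun, Nat.card_fun,
      Nat.card_eq_fintype_card (α := H35.G24.K4), H35.G24.K4.card_eq, Nat.card_fin, Nat.card_fin, ← pow_mul]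
  have hcard : Nat.card H = Nat.card V * Nat.card H35.G24.G24 := SemidirectProduct.card
  have hexp : ∀ v : V, v ^ 2 = 1 := fun v => by
    refine Multiplicative.toAdd.injective ?_
    rw [toAdd_pow, toAdd_one, two_nsmul]
    funext i j
    exact H35.G24.K4.add_self _
  refine ⟨H, inferInstance, inferInstance, ?_, fun p hp => ?_, fun p q hp hq hne => ?_⟩
  · rw [hcard, hV]
    calc N < 4 ^ N := Nat.lt_pow_self (by norm_num)
      _ ≤ 4 ^ (6 * k) := Nat.pow_le_pow_right (by norm_num) (by omega)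
      _ ≤ _ := Nat.le_mul_of_pos_right _ Nat.card_pos
  · rw [Nat.card_congr e.toEquiv, hcard, hV]
    refine ⟨fun h => h.mul_left _, fun h => ?_⟩
    rcases hp.dvd_mul.1 h with h | h
    · have h2 : p ∣ 2 := hp.dvd_of_dvd_pow (show p ∣ 2 ^ 2 from hp.dvd_of_dvd_pow h)
      rw [(Nat.prime_dvd_prime_iff_eq hp Nat.prime_two).1 h2, H35.G24.card_G24]
      norm_num
    · exact h
  refine Iff.trans (b := ∃ g : H35.G24.G24, orderOf g = p * q)
    ⟨fun ⟨g, hg⟩ => ⟨e g, by rw [MulEquiv.orderOf_eq, hg]⟩,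
      fun ⟨g, hg⟩ => ⟨e.symm g, by rw [MulEquiv.orderOf_eq, hg]⟩⟩ ?_
  refine ⟨fun ⟨g, hg⟩ => ⟨SemidirectProduct.inr g, by
    rw [orderOf_injective _ SemidirectProduct.inr_injective, hg]⟩, fun ⟨z, hz⟩ => ?_⟩
  have hd : orderOf z ∣ orderOf z.right * 2 := by
    refine orderOf_dvd_of_pow_eq_one ?_
    rw [pow_mul]
    refine H64.semidirect_pow_of_right_eq_one (H35.G24.modAct k) _ 2 hexp ?_
    exact (map_pow (SemidirectProduct.rightHom (φ := H35.G24.modAct k)) z _).trans (pow_orderOf_eq_one _)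
  have hfpf : ∀ r : ℕ, orderOf z.right = r → r = 7 ∨ r = 13 → orderOf z = r := by
    intro r hr hor
    rw [H64.semidirect_orderOf_of_fpf _ z, hr]
    intro w hw
    refine Multiplicative.toAdd.injective (funext fun i => ?_)
    have hwi := congrFun (congrArg Multiplicative.toAdd hw) i
    rcases hor with rfl | rfl
    · exact H35.G24.fpf_seven hr hwi
    · exact H35.G24.fpf_thirteen hr hwi
  rw [hz] at hd hfpf
  have hw : ∀ r : ℕ, r.Prime → r ≠ 2 → p * q = r * 2 → ∃ g : H35.G24.G24, orderOf g = p * q := by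
    intro r hr hr2 hpq
    rw [hpq] at hd hfpf ⊢
    have hrd : r ∣ orderOf z.right := Nat.dvd_of_mul_dvd_mul_right (by norm_num) hd
    have hrG := hrd.trans (orderOf_dvd_natCard z.right)
    rw [H35.G24.card_G24, show 4 ^ 6 * (4 ^ 2 - 1) * (4 ^ 6 - 1) = 2 ^ 12 * (3 ^ 3 * (5 ^ 2 * (7 * 13))) by norm_num] at hrG
    have hr' : r = 3 ∨ r = 5 ∨ r = 7 ∨ r = 13 := by
      rcases hr.dvd_mul.1 hrG with h | h
      · exact absurd ((Nat.prime_dvd_prime_iff_eq hr Nat.prime_two).1 (hr.dvd_of_dvd_pow h)) hr2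
      rcases hr.dvd_mul.1 h with h | h
      · exact Or.inl ((Nat.prime_dvd_prime_iff_eq hr Nat.prime_three).1 (hr.dvd_of_dvd_pow h))
      rcases hr.dvd_mul.1 h with h | h
      · exact Or.inr (Or.inl ((Nat.prime_dvd_prime_iff_eq hr (by norm_num)).1 (hr.dvd_of_dvd_pow h)))
      rcases hr.dvd_mul.1 h with h | h
      · exact Or.inr (Or.inr (Or.inl ((Nat.prime_dvd_prime_iff_eq hr (by norm_num)).1 h)))
      · exact Or.inr (Or.inr (Or.inr ((Nat.prime_dvd_prime_iff_eq hr (by norm_num)).1 h)))
    by_cases hbig : orderOf z.right = r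
    · rcases hr' with rfl | rfl | rfl | rfl
      · exact H35.G24.exists_orderOf_six
      · exact H35.G24.exists_orderOf_ten
      · have := hfpf 7 hbig (Or.inl rfl); omega
      · have := hfpf 13 hbig (Or.inr rfl); omega
    · have h2 : orderOf z.right ∣ r * 2 := by
        rw [← hpq, ← hz]; exact orderOf_map_dvd (SemidirectProduct.rightHom (φ := H35.G24.modAct k)) z
      obtain ⟨a, ha⟩ := hrd
      rw [ha] at h2
      have ha2 : a ∣ 2 := Nat.dvd_of_mul_dvd_mul_left hr.pos h2
      rcases (Nat.dvd_prime Nat.prime_two).1 ha2 with rfl | rfl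
      · exact absurd (by rw [ha, mul_one]) hbig
      · exact ⟨z.right, ha⟩
  by_cases hp2 : p = 2
  · exact hw q hq (fun h => hne (hp2.trans h.symm)) (by rw [hp2, mul_comm])
  by_cases hq2 : q = 2
  · exact hw p hp hp2 (by rw [hq2])
  have hc : Nat.Coprime (p * q) 2 :=
    Nat.Coprime.mul_left ((Nat.coprime_primes hp Nat.prime_two).2 hp2) ((Nat.coprime_primes hq Nat.prime_two).2 hq2)
  exact ⟨_, orderOf_pow_orderOf_div (orderOf_pos _).ne' (hc.dvd_of_dvd_mul_right hd)⟩

end Cfsg.Agent.S3662
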