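import Cfsg.Statements.S3663
import Cfsg.Agent.H64.U34Cover
import Cfsg.Agent.H64.SUTransport

set_option autoImplicit false
open Cfsg

namespace Cfsg.Agent.S3663

/-- The prime graph of a finite group has the prime divisors of its order as vertices, two distinct primes p, q being joined when the group has an element of order pq; two groups have the same prime graph when they have the same prime divisors and the same joined pairs. Let F be the field with 16 elements and L = PSU(3,4) realised over F. There are finite groups of arbitrarily large order with the same prime graph as L. -/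
theorem result {F : Type*} [Field F] [Fintype F] (hF : Fintype.card F = 16) (N : ℕ) :
    ∃ (H : Type) (_ : Group H) (_ : Finite H), N < Nat.card H ∧
      ((∀ p : ℕ, p.Prime → (p ∣ Nat.card (Cfsg.PSU 3 F 4) ↔ p ∣ Nat.card H)) ∧
      (∀ p q : ℕ, p.Prime → q.Prime → p ≠ q → ((∃ g : (Cfsg.PSU 3 F 4), orderOf g = p * q) ↔ (∃ g : H, orderOf g = p * q)))) := by
  have hF' : Fintype.card F = 4 ^ 2 := by rw [hF]; norm_num
  let ψ : F ≃+* H64.K16 := FiniteField.ringEquivOfCardEq (K' := H64.K16) (by rw [hF, H64.K16.card_eq])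
  have hbot : Subgroup.center (Cfsg.SU 3 F 4) = ⊥ := by
    rw [eq_bot_iff]
    intro g hg
    have h : H64.suCongr 3 4 ψ g ∈ Subgroup.center H64.G34 := by
      rw [Subgroup.mem_center_iff] at hg ⊢
      intro k
      have := congrArg (H64.suCongr 3 4 ψ) (hg ((H64.suCongr 3 4 ψ).symm k))
      simpa using this
    rw [H64.u34_center, Subgroup.mem_bot, MulEquiv.map_eq_one_iff] at h
    exact h
  let e : Cfsg.PSU 3 F 4 ≃* H64.G34 :=
    ((QuotientGroup.quotientMulEquivOfEq hbot).trans QuotientGroup.quotientBot).trans (H64.suCongr 3 4 ψ)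
  let k := N + 1
  let H : Type := Multiplicative (Fin k → H64.mod34) ⋊[H64.modAct34 k] H64.G34
  haveI : Finite H := Finite.of_equiv _ SemidirectProduct.equivProd.symm
  have hcard : Nat.card H = Nat.card H64.mod34 ^ k * Nat.card H64.G34 := by
    show Nat.card (Multiplicative (Fin k → H64.mod34) ⋊[H64.modAct34 k] H64.G34) = _
    rw [SemidirectProduct.card, Nat.card_congr (Multiplicative.toAdd (α := Fin k → H64.mod34)),
      Nat.card_fun, Nat.card_eq_fintype_card (α := Fin k), Fintype.card_fin]
  obtain ⟨g10, -, hg10⟩ := H64.exists_witness34 10 (H64.mk34 14 8 4 4 5 10 15 4 4) (by simp [H64.u34Witness])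
  obtain ⟨g15, -, hg15⟩ := H64.exists_witness34 15 (H64.mk34 6 6 12 6 12 6 15 14 14) (by simp [H64.u34Witness])
  have h5G : 5 ∣ Nat.card H64.G34 :=
    (show 5 ∣ orderOf g10 by rw [hg10]; norm_num).trans (orderOf_dvd_natCard g10)
  refine ⟨H, inferInstance, inferInstance, ?_, fun p hp => ?_, fun p q hp hq hne => ?_⟩
  · rw [hcard]
    calc N < 2 ^ N := Nat.lt_two_pow_self
      _ ≤ 2 ^ k := Nat.pow_le_pow_right (by norm_num) (Nat.le_succ N)
      _ ≤ Nat.card H64.mod34 ^ k := Nat.pow_le_pow_left H64.two_le_card_mod34 k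
      _ ≤ _ := Nat.le_mul_of_pos_right _ Nat.card_pos
  · rw [Nat.card_congr e.toEquiv, hcard]
    refine ⟨fun h => h.mul_left _, fun h => ?_⟩
    rcases hp.dvd_mul.1 h with h | h
    · haveI := Fact.mk hp
      have hM : p ∣ Nat.card (Multiplicative (Fin k → H64.mod34)) := by
        rw [Nat.card_congr (Multiplicative.toAdd (α := Fin k → H64.mod34)), Nat.card_fun,
          Nat.card_eq_fintype_card (α := Fin k), Fintype.card_fin]
        exact h
      obtain ⟨v, hv⟩ := exists_prime_orderOf_dvd_card' p hM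
      have : p ∣ 5 := hv ▸ orderOf_dvd_of_pow_eq_one (H64.mod34_exponent v)
      rwa [(Nat.prime_dvd_prime_iff_eq hp (by norm_num)).1 this]
    · exact h
  have key : (∃ g : H64.G34, orderOf g = p * q) ↔ ∃ z : H, orderOf z = p * q := by
    refine ⟨fun ⟨g, hg⟩ => ⟨SemidirectProduct.inr g, by
      rw [orderOf_injective _ SemidirectProduct.inr_injective, hg]⟩, fun ⟨z, hz⟩ => ?_⟩
    have hd : orderOf z ∣ orderOf z.right * 5 := by
      refine orderOf_dvd_of_pow_eq_one ?_
      rw [pow_mul]
      refine H64.semidirect_pow_of_right_eq_one (H64.modAct34 k) _ 5 H64.mod34_exponent ?_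
      exact (map_pow (SemidirectProduct.rightHom (φ := H64.modAct34 k)) z _).trans (pow_orderOf_eq_one _)
    have h13 : orderOf z.right = 13 → orderOf z = 13 := fun h => by
      rw [H64.semidirect_orderOf_of_fpf _ z, h]
      intro w hw
      refine Multiplicative.toAdd.injective (funext fun i => Subtype.ext ?_)
      exact H64.fpf34 z.right h (w.toAdd i).2
        (congrArg (fun x : Multiplicative (Fin k → H64.mod34) => (x.toAdd i : H64.V34 × H64.V34 → ZMod 5)) hw)
    obtain ⟨n, hn, hdn⟩ := H64.orderOf_dvd34 z.right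
    rw [hz] at hd h13
    have hcop : p ≠ 5 → q ≠ 5 → ∃ g : H64.G34, orderOf g = p * q := fun hp5 hq5 => by
      have hc : Nat.Coprime (p * q) 5 :=
        Nat.Coprime.mul_left ((Nat.coprime_primes hp (by norm_num)).2 hp5)
          ((Nat.coprime_primes hq (by norm_num)).2 hq5)
      exact ⟨_, orderOf_pow_orderOf_div (orderOf_pos _).ne' (hc.dvd_of_dvd_mul_right hd)⟩
    have hfive : ∀ r : ℕ, r.Prime → r ≠ 5 → p * q = r * 5 → ∃ g : H64.G34, orderOf g = p * q := by
      intro r hr hr5 hpq
      rw [hpq] at hd h13 ⊢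
      have hrd : r ∣ orderOf z.right := Nat.dvd_of_mul_dvd_mul_right (by norm_num) hd
      have hrn := hrd.trans hdn
      simp only [List.mem_cons, List.not_mem_nil, or_false] at hn
      have hr' : r = 2 ∨ r = 3 ∨ (r = 13 ∧ orderOf z.right = 13) := by
        rcases hn with rfl | rfl | rfl | rfl
        · have hr13 := (Nat.prime_dvd_prime_iff_eq hr (by norm_num)).1 hrn
          exact Or.inr (Or.inr ⟨hr13, Nat.dvd_antisymm hdn (hr13 ▸ hrd)⟩)
        · rcases hr.dvd_mul.1 (show r ∣ 3 * 5 from hrn) with h | h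
          · exact Or.inr (Or.inl ((Nat.prime_dvd_prime_iff_eq hr (by norm_num)).1 h))
          · exact absurd ((Nat.prime_dvd_prime_iff_eq hr (by norm_num)).1 h) hr5
        · exact Or.inl ((Nat.prime_dvd_prime_iff_eq hr Nat.prime_two).1 (hr.dvd_of_dvd_pow (show r ∣ 2 ^ 2 from hrn)))
        · rcases hr.dvd_mul.1 (show r ∣ 2 * 5 from hrn) with h | h
          · exact Or.inl ((Nat.prime_dvd_prime_iff_eq hr Nat.prime_two).1 h)
          · exact absurd ((Nat.prime_dvd_prime_iff_eq hr (by norm_num)).1 h) hr5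
      rcases hr' with rfl | rfl | ⟨rfl, h⟩
      · exact ⟨g10, hg10⟩
      · exact ⟨g15, hg15⟩
      · have := h13 h
        omega
    by_cases hp5 : p = 5
    · exact hfive q hq (fun h => hne (hp5.trans h.symm)) (by rw [hp5, mul_comm])
    by_cases hq5 : q = 5
    · exact hfive p hp hp5 (by rw [hq5])
    exact hcop hp5 hq5
  refine Iff.trans ?_ key
  exact ⟨fun ⟨g, hg⟩ => ⟨e g, by rw [MulEquiv.orderOf_eq, hg]⟩,
    fun ⟨g, hg⟩ => ⟨e.symm g, by rw [MulEquiv.orderOf_eq, hg]⟩⟩

end Cfsg.Agent.S3663
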