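import Cfsg.Statements.S3664
import Cfsg.Agent.H64.Sz8Cover
import Cfsg.Agent.H64.Sp6Three

set_option autoImplicit false
open Cfsg

namespace Cfsg.Agent.S3664

/-- The prime graph of a finite group has the prime divisors of its order as vertices, two distinct primes p, q being joined when the group has an element of order pq; two groups have the same prime graph when they have the same prime divisors and the same joined pairs. Let F be the field with 3 elements and L = PSp(6,F). There are finite groups of arbitrarily large order with the same prime graph as L (a prime graph shared by the orthogonal groups Ω₇(3) and PΩ⁺₈(3)). -/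
theorem result {F : Type*} [Field F] [Fintype F] (hF : Fintype.card F = 3) (N : ℕ) :
    ∃ (H : Type) (_ : Group H) (_ : Finite H), N < Nat.card H ∧
      ((∀ p : ℕ, p.Prime → (p ∣ Nat.card (Cfsg.PSp 3 F) ↔ p ∣ Nat.card H)) ∧
      (∀ p q : ℕ, p.Prime → q.Prime → p ≠ q → ((∃ g : (Cfsg.PSp 3 F), orderOf g = p * q) ↔ (∃ g : H, orderOf g = p * q)))) := by
  haveI : Fact (Nat.Prime 3) := ⟨Nat.prime_three⟩
  let ψ : F ≃+* ZMod 3 := FiniteField.ringEquivOfCardEq (by rw [hF, ZMod.card])
  let e₀ := H64.spCongr 3 ψ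
  let e : Cfsg.PSp 3 F ≃* H64.PG63 := QuotientGroup.congr _ _ e₀ (by
    ext y
    simp only [Subgroup.mem_map, Subgroup.mem_center_iff]
    constructor
    · rintro ⟨x, hx, rfl⟩ g
      obtain ⟨g, rfl⟩ := e₀.surjective g
      show e₀ g * e₀ x = e₀ x * e₀ g
      rw [← map_mul, hx, map_mul]
    · intro hy
      refine ⟨e₀.symm y, fun g => e₀.injective ?_, e₀.apply_symm_apply y⟩
      rw [map_mul, map_mul, MulEquiv.apply_symm_apply]
      exact hy _)
  haveI : Finite (H64.Sz8Cover (N + 1)) := Finite.of_equiv _ SemidirectProduct.equivProd.symm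
  have hcard := H64.card_sz8Cover (N + 1)
  refine ⟨H64.Sz8Cover (N + 1), inferInstance, inferInstance, ?_, fun p hp => ?_, fun p q hp hq hne => ?_⟩
  · rw [hcard]
    calc N < 2 ^ N := Nat.lt_two_pow_self
      _ ≤ 2 ^ (48 * (N + 1)) := Nat.pow_le_pow_right (by norm_num) (by omega)
      _ ≤ _ := Nat.le_mul_of_pos_right _ (by norm_num)
  · rw [Nat.card_congr e.toEquiv, hcard]
    constructor
    · intro h
      rcases H64.pg63_primes hp h with rfl | rfl | rfl | rfl | rfl <;> exact Dvd.dvd.mul_left (by norm_num) _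
    · intro h
      refine H64.pg63_prime_mem ?_
      have e : ∀ r : ℕ, r.Prime → p ∣ r → p = r := fun r hr h => (Nat.prime_dvd_prime_iff_eq hp hr).1 h
      rw [show 87360 = 2 ^ 6 * (3 * (5 * (7 * 13))) by norm_num] at h
      rcases hp.dvd_mul.1 h with h | h
      · exact Or.inl (e 2 Nat.prime_two (hp.dvd_of_dvd_pow h))
      rcases hp.dvd_mul.1 h with h | h
      · exact Or.inl (e 2 Nat.prime_two (hp.dvd_of_dvd_pow h))
      rcases hp.dvd_mul.1 h with h | h
      · exact Or.inr (Or.inl (e 3 Nat.prime_three h))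
      rcases hp.dvd_mul.1 h with h | h
      · exact Or.inr (Or.inr (Or.inl (e 5 (by norm_num) h)))
      rcases hp.dvd_mul.1 h with h | h
      · exact Or.inr (Or.inr (Or.inr (Or.inl (e 7 (by norm_num) h))))
      · exact Or.inr (Or.inr (Or.inr (Or.inr (e 13 (by norm_num) h))))
  have hPF : ∀ a b : ℕ, a.Prime → b.Prime → a < b →
      ((∃ g : Cfsg.PSp 3 F, orderOf g = a * b) ↔ ∃ g : H64.Sz8Cover (N + 1), orderOf g = a * b) := by
    intro a b ha hb hab
    rw [H64.sz8Cover_pairs (N + 1) (Nat.succ_pos N) ha hb hab, ← H64.pg63_pairs ha hb hab]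
    exact ⟨fun ⟨g, hg⟩ => ⟨e g, by rw [MulEquiv.orderOf_eq, hg]⟩,
      fun ⟨g, hg⟩ => ⟨e.symm g, by rw [MulEquiv.orderOf_eq, hg]⟩⟩
  rcases Nat.lt_or_gt_of_ne hne with h | h
  · exact hPF p q hp hq h
  · rw [mul_comm p q]
    exact hPF q p hq hp h

end Cfsg.Agent.S3664
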