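import Cfsg.Statements.S3670
import Cfsg.Agent.H17.U33Degrees
import Cfsg.Agent.H17.SemiExample

set_option autoImplicit false
open Cfsg

namespace Cfsg.Agent.S3670

/-- The character degree graph of a finite group has as vertices the primes dividing some irreducible complex character degree, two distinct primes being joined when their product divides some irreducible character degree; two groups have the same character degree graph when they have the same vertices and the same joined pairs. Let F be the field with 9 elements and L = PSU(3,3) realised over F (order 6048). There is a finite solvable group of order 6048 with the same character degree graph as L; so L is not determined by its order together with its character degree graph. -/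
theorem result {F : Type*} [Field F] [Fintype F] (hF : Fintype.card F = 9) :
    ∃ (H : Type) (_ : Group H) (_ : Fintype H), Group.IsSolvable H ∧ Nat.card H = 6048 ∧ Cfsg.degreePrimes H = Cfsg.degreePrimes (Cfsg.PSU 3 F 3) ∧ Cfsg.degreeGraph H = Cfsg.degreeGraph (Cfsg.PSU 3 F 3) := by
  obtain ⟨e⟩ := H17.U33.exists_equiv hF
  letI : Fintype (Cfsg.PSU 3 F 3) := Fintype.ofEquiv _ e.symm.toEquiv
  have key : ∀ d ∈ Cfsg.charDegrees H17.U33.GJ, d ∈ Cfsg.charDegrees (Cfsg.PSU 3 F 3) := by
    rintro d ⟨χ, rfl⟩
    refine ⟨⟨(χ : H17.U33.GJ → ℂ) ∘ e.toMonoidHom,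
      H12.IsIrrCharacter.comp_surjective χ.2 e.surjective⟩, ?_⟩
    simp [Cfsg.charDegree]
  have hc : Nat.card (Cfsg.PSU 3 F 3) = 6048 := by
    rw [Nat.card_congr e.toEquiv, H17.U33.card_GJ]
  obtain ⟨d, hd, h6⟩ := H17.U33.exists_deg_six
  obtain ⟨h1, h2⟩ := H17.SemiEx.same_graph hc ⟨d, key d hd, h6⟩
    ⟨28, key _ H17.U33.exists_deg_28, by norm_num⟩ ⟨21, key _ H17.U33.exists_deg_21, dvd_rfl⟩
  exact ⟨H17.SemiEx.SG, inferInstance, inferInstance, H17.SemiEx.isSolvable_SG,
    H17.SemiEx.card_SG, h1, h2⟩

end Cfsg.Agent.S3670
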