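import Cfsg.Statements.S3678
import Cfsg.Agent.H64.Char2Graph
import Cfsg.Agent.H37.Card

set_option autoImplicit false
open Cfsg

namespace Cfsg.Agent.S3678

/-- The prime graph of a finite group has the prime divisors of its order as vertices, two distinct primes p, q being joined when the group has an element of order pq; two groups have the same prime graph when they have the same prime divisors and the same joined pairs. Let F be the field with 7 elements. There are finite groups of arbitrarily large order with the same prime graph as PSL(2,F) (the graph on {2, 3, 7} with no edges, which is also the prime graph of PSL(2,8)). -/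
theorem result {F : Type*} [Field F] [Fintype F] (hF : Fintype.card F = 7) (N : ℕ) :
    ∃ (H : Type) (_ : Group H) (_ : Finite H), N < Nat.card H ∧
      ((∀ p : ℕ, p.Prime → (p ∣ Nat.card (Matrix.ProjectiveSpecialLinearGroup (Fin 2) F) ↔ p ∣ Nat.card H)) ∧
      (∀ p q : ℕ, p.Prime → q.Prime → p ≠ q → ((∃ g : (Matrix.ProjectiveSpecialLinearGroup (Fin 2) F), orderOf g = p * q) ↔ (∃ g : H, orderOf g = p * q)))) := by
  haveI : Fact (Nat.Prime 2) := ⟨Nat.prime_two⟩
  haveI : Fact (Nat.Prime 7) := ⟨by norm_num⟩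
  haveI : CharP F 7 := by
    obtain ⟨p, hpc⟩ := CharP.exists F
    haveI := hpc
    obtain ⟨n, hp, hn⟩ := FiniteField.card F p
    have h : p ∣ 7 := hF ▸ hn ▸ dvd_pow_self p n.ne_zero
    rwa [(Nat.prime_dvd_prime_iff_eq hp Fact.out).1 h] at hpc
  let K := GaloisField 2 3
  letI : Fintype K := Fintype.ofFinite K
  have hK : Fintype.card K = 8 := by
    rw [← Nat.card_eq_fintype_card, GaloisField.card 2 3 (by norm_num)]; norm_num
  haveI : CharP K 2 := inferInstance
  obtain ⟨H, i, j, hN, hprimes, hup, hdown⟩ := H64.exists_big_char2 (F := K) N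
  have hL := H64.psl2_spectrum (F := F) 7
  have hS := H64.psl2_spectrum (F := K) 2
  rw [hF] at hL
  rw [hK] at hS
  obtain ⟨e⟩ := H64.psl2_char2_equiv (F := K)
  -- both groups have element orders dividing one of few prime powers
  have small : ∀ a p q : ℕ, p.Prime → q.Prime → p ≠ q → p * q ∣ a →
      (a = 7 ∨ a = 3 ∨ a = 4 ∨ a = 2 ∨ a = 9) → False := by
    intro a p q hp hq hne hd ha
    have key : ∀ r k : ℕ, r.Prime → p * q ∣ r ^ k → False := fun r k hr h =>
      hne (((Nat.prime_dvd_prime_iff_eq hp hr).1 (hp.dvd_of_dvd_pow ((Dvd.intro q rfl).trans h))).trans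
        ((Nat.prime_dvd_prime_iff_eq hq hr).1 (hq.dvd_of_dvd_pow ((Dvd.intro_left p rfl).trans h))).symm)
    rcases ha with rfl | rfl | rfl | rfl | rfl
    · exact key 7 1 (by norm_num) (by simpa using hd)
    · exact key 3 1 (by norm_num) (by simpa using hd)
    · exact key 2 2 (by norm_num) (by simpa using hd)
    · exact key 2 1 (by norm_num) (by simpa using hd)
    · exact key 3 2 (by norm_num) (by simpa using hd)
  have ordL : ∀ g : Matrix.ProjectiveSpecialLinearGroup (Fin 2) F, orderOf g ∣ 7 ∨ orderOf g ∣ 3 ∨ orderOf g ∣ 4 := by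
    intro g
    have := hL ▸ Set.mem_range_self (f := orderOf) g
    simpa using this
  have ordH : ∀ h : H, orderOf h ∣ 4 ∨ orderOf h ∣ 2 ∨ orderOf h ∣ 7 ∨ orderOf h ∣ 9 := by
    intro h
    rcases hdown h with h4 | ⟨g, hg⟩
    · exact Or.inl h4
    · have := hS ▸ Set.mem_range_self (f := orderOf) (e g)
      rw [MulEquiv.orderOf_eq, hg] at this
      exact Or.inr (by simpa using this)
  have cardF : 2 * Nat.card (Matrix.ProjectiveSpecialLinearGroup (Fin 2) F) = 336 := by
    have h := H37.card_PSL_fin (F := F) 2 (by norm_num)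
    simp [Nat.card_eq_fintype_card, hF, Finset.prod_range_succ] at h ⊢
    omega
  have cardK : Nat.card (Matrix.SpecialLinearGroup (Fin 2) K) = 504 := by
    have h := H37.card_SL_fin (F := K) 2 (by norm_num)
    simp [Nat.card_eq_fintype_card, hK, Finset.prod_range_succ] at h ⊢
    omega
  refine ⟨H, i, j, hN, fun p hp => ?_, fun p q hp hq hne => ⟨?_, ?_⟩⟩
  · rw [hprimes p hp, cardK, show Nat.card (Matrix.ProjectiveSpecialLinearGroup (Fin 2) F) = 2 ^ 3 * 3 * 7 by omega,
      show (504 : ℕ) = 2 ^ 3 * 3 ^ 2 * 7 by norm_num]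
    simp only [hp.dvd_mul]
    exact or_congr_left (or_congr_right ⟨fun h => h.trans (dvd_pow_self 3 two_ne_zero),
      fun h => hp.dvd_of_dvd_pow h⟩)
  · rintro ⟨g, hg⟩
    rcases ordL g with h | h | h <;> exact (small _ p q hp hq hne (hg ▸ h) (by tauto)).elim
  · rintro ⟨h, hh⟩
    rcases ordH h with h' | h' | h' | h' <;> exact (small _ p q hp hq hne (hh ▸ h') (by tauto)).elim

end Cfsg.Agent.S3678
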