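import Cfsg.Statements.S3680
import Cfsg.Agent.H61.CharSimple
import Cfsg.Agent.H61.PrimBasic

set_option autoImplicit false
open Cfsg

namespace Cfsg.Agent.S3680

open MulAction

variable {G Ω : Type*} [Group G] [MulAction G Ω]

/-- The centraliser of a transitive subgroup is semiregular. -/
theorem eq_one_of_commute_transitive [FaithfulSMul G Ω] (V : Subgroup G) [IsPretransitive V Ω]
    {w : G} (hw : ∀ v ∈ V, v * w = w * v) {a : Ω} (ha : w • a = a) : w = 1 := by
  apply eq_of_smul_eq_smul (α := Ω)
  intro x
  obtain ⟨⟨v, hv⟩, rfl⟩ := exists_smul_eq V a x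
  change w • v • a = (1 : G) • v • a
  rw [← mul_smul, ← hw v hv, mul_smul, ha, one_smul]

theorem minimal_commute {V W : Subgroup G} (hVn : V.Normal) (hWn : W.Normal)
    (hV : ∀ M : Subgroup G, M.Normal → M ≤ V → M = ⊥ ∨ M = V) (hW : ∀ M : Subgroup G, M.Normal → M ≤ W → M = ⊥ ∨ M = W)
    (hne : V ≠ W) : ∀ v ∈ V, ∀ w ∈ W, v * w = w * v := by
  intro v hv w hw
  refine (Subgroup.commute_of_normal_of_disjoint V W hVn hWn (disjoint_iff.mpr ?_) v w hv hw).eq
  rcases hV (V ⊓ W) (Subgroup.normal_inf_normal V W) inf_le_left with h | h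
  · exact h
  · rcases hW (V ⊓ W) (Subgroup.normal_inf_normal V W) inf_le_right with h' | h'
    · exact h'
    · exact absurd (h.symm.trans h') hne

/-- The socle of a finite primitive permutation group. Let a finite group G act faithfully and primitively on a set Ω, and let N be the subgroup generated by the minimal normal subgroups of G. Then either N is an elementary abelian p-group for some prime p and acts regularly on Ω (transitively with trivial point stabilizers), or N is isomorphic to a direct product of m ≥ 1 copies of a non-abelian simple group. -/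
theorem result {G Ω : Type*} [Group G] [Finite G] [MulAction G Ω] [FaithfulSMul G Ω] [Finite Ω]
    (hprim : MulAction.IsPreprimitive G Ω) (N : Subgroup G)
    (hN : N = sSup {V : Subgroup G | V.Normal ∧ V ≠ ⊥ ∧ ∀ M : Subgroup G, M.Normal → M ≤ V → M = ⊥ ∨ M = V}) :
    (∃ p : ℕ, p.Prime ∧ IsMulCommutative N ∧ (∀ x : N, x ^ p = 1) ∧
      MulAction.IsPretransitive N Ω ∧ ∀ ω : Ω, MulAction.stabilizer N ω = ⊥) ∨
    (∃ (T : Type) (_ : Group T) (m : ℕ), 1 ≤ m ∧ IsSimpleGroup T ∧ ¬ IsMulCommutative T ∧ Nonempty (N ≃* (Fin m → T))) := by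
  classical
  have := hprim
  have := hprim.toIsPretransitive
  set S := {V : Subgroup G | V.Normal ∧ V ≠ ⊥ ∧ ∀ M : Subgroup G, M.Normal → M ≤ V → M = ⊥ ∨ M = V} with hS
  rcases subsingleton_or_nontrivial Ω with hΩ | hΩ
  · -- one point: the group is trivial
    have hG : Subsingleton G := ⟨fun a b => eq_of_smul_eq_smul (α := Ω) fun x => Subsingleton.elim _ _⟩
    left
    refine ⟨2, Nat.prime_two, ⟨⟨fun a b => Subsingleton.elim _ _⟩⟩, fun x => Subsingleton.elim _ _,
      ⟨fun x y => ⟨1, Subsingleton.elim _ _⟩⟩, fun ω => Subsingleton.elim _ _⟩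
  obtain ⟨a⟩ := (inferInstance : Nonempty Ω)
  have hGnt : Nontrivial G := by
    by_contra h
    rw [not_nontrivial_iff_subsingleton] at h
    obtain ⟨x, y, hxy⟩ := exists_pair_ne Ω
    obtain ⟨g, hg⟩ := exists_smul_eq G x y
    rw [Subsingleton.elim g 1, one_smul] at hg
    exact hxy hg
  have htrans : ∀ V ∈ S, IsPretransitive V Ω := by
    intro V hV
    have := hV.1
    refine IsQuasiPreprimitive.isPretransitive_of_normal (N := V) fun h => hV.2.1 ?_
    exact H61.normal_eq_bot_of_le_stabilizer V a fun v hv =>
      (Set.eq_univ_iff_forall.mp h a : a ∈ fixedPoints V Ω) ⟨v, hv⟩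
  -- there is a minimal normal subgroup
  obtain ⟨V, ⟨hVn, hVne⟩, hVmin⟩ := (Set.toFinite {K : Subgroup G | K.Normal ∧ K ≠ ⊥}).exists_minimal
    ⟨⊤, inferInstance, top_ne_bot⟩
  have hVS : V ∈ S := ⟨hVn, hVne, fun M hM hle => or_iff_not_imp_left.mpr fun hb => le_antisymm hle (hVmin ⟨hM, hb⟩ hle)⟩
  have := htrans V hVS
  -- the structure of `V`
  obtain ⟨T, gT, hT, m, hm, ⟨e⟩⟩ := H61.exists_mulEquiv_pi_of_minimal_normal V hVn hVne hVS.2.2
  by_cases hTc : IsMulCommutative T
  · -- abelian case
    left
    have hVab : ∀ x ∈ V, ∀ y ∈ V, x * y = y * x := by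
      intro x hx y hy
      have : (⟨x, hx⟩ : V) * ⟨y, hy⟩ = ⟨y, hy⟩ * ⟨x, hx⟩ := e.injective (by
        rw [map_mul, map_mul]
        funext i
        exact hTc.is_comm.comm _ _)
      exact congrArg Subtype.val this
    have honly : ∀ W ∈ S, W = V := by
      intro W hW
      by_contra hne
      have hc := minimal_commute hVn hW.1 hVS.2.2 hW.2.2 (fun h => hne h.symm)
      have hWV : W ≤ V := by
        intro w hw
        obtain ⟨⟨v, hv⟩, hva⟩ := exists_smul_eq V a (w • a)
        have : v⁻¹ * w = 1 := eq_one_of_commute_transitive V (a := a) (fun u hu => by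
          rw [← mul_assoc, hVab u hu v⁻¹ (V.inv_mem hv), mul_assoc, hc u hu w hw, mul_assoc]) (by
          rw [mul_smul, ← (show v • a = w • a from hva), inv_smul_smul])
        rw [inv_mul_eq_one] at this
        exact this ▸ hv
      rcases hVS.2.2 W hW.1 hWV with h | h
      · exact hW.2.1 h
      · exact hne h
    have hNV : N = V := by
      rw [hN]
      exact le_antisymm (sSup_le fun W hW => (honly W hW).le) (le_sSup hVS)
    subst hNV
    -- `T` has prime order
    letI : CommGroup T := { gT with mul_comm := hTc.is_comm.comm }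
    haveI : Finite T := by
      haveI : Finite (Fin m → T) := Finite.of_equiv _ e.toEquiv
      exact Finite.of_injective (fun t => (fun _ => t : Fin m → T)) (fun s t h => congrFun h ⟨0, hm⟩)
    have hTp : (Nat.card T).Prime := IsSimpleGroup.prime_card
    refine ⟨Nat.card T, hTp, ⟨⟨fun x y => Subtype.ext (hVab x x.2 y y.2)⟩⟩, fun x => e.injective ?_,
      htrans _ hVS, fun ω => ?_⟩
    · rw [map_pow, map_one]
      funext i
      exact pow_card_eq_one'
    · rw [eq_bot_iff]
      intro x hx
      rw [Subgroup.mem_bot]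
      exact Subtype.ext (eq_one_of_commute_transitive N (a := ω) (fun v hv => hVab v hv x x.2) hx)
  · -- non-abelian case
    right
    by_cases hother : ∃ W ∈ S, W ≠ V
    · obtain ⟨W, hW, hne⟩ := hother
      have hc := minimal_commute hVn hW.1 hVS.2.2 hW.2.2 hne.symm
      have := htrans W hW
      have hregV : ∀ v ∈ V, v • a = a → v = 1 := fun v hv h =>
        eq_one_of_commute_transitive W (a := a) (fun w hw => (hc v hv w hw).symm) h
      have honly : ∀ U ∈ S, U = V ∨ U = W := by
        intro U hU
        by_contra hne'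
        push Not at hne'
        have hcU := minimal_commute hVn hU.1 hVS.2.2 hU.2.2 hne'.1.symm
        have hUW : U ≤ W := by
          intro u hu
          obtain ⟨⟨w, hw⟩, hwa⟩ := exists_smul_eq W a (u • a)
          have : w⁻¹ * u = 1 := eq_one_of_commute_transitive V (a := a) (fun x hx => by
            rw [← mul_assoc, hc x hx w⁻¹ (W.inv_mem hw), mul_assoc, hcU x hx u hu, mul_assoc]) (by
            rw [mul_smul, ← (show w • a = u • a from hwa), inv_smul_smul])
          rw [inv_mul_eq_one] at this
          exact this ▸ hw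
        rcases hW.2.2 U hU.1 hUW with h | h
        · exact hU.2.1 h
        · exact hne'.2 h
      have hNVW : N = V ⊔ W := by
        rw [hN]
        refine le_antisymm (sSup_le fun U hU => ?_) (sup_le (le_sSup hVS) (le_sSup hW))
        rcases honly U hU with rfl | rfl
        · exact le_sup_left
        · exact le_sup_right
      have hex : ∀ v : V, ∃ w : W, (w : G) • a = ((v : G))⁻¹ • a := fun v => exists_smul_eq W a _
      choose f hf using hex
      have huniq : ∀ w w' : W, (w : G) • a = (w' : G) • a → w = w' := by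
        intro w w' h
        have h' : ((w' : G)⁻¹ * w) • a = a := by rw [mul_smul, h, inv_smul_smul]
        have := eq_one_of_commute_transitive V (a := a) (fun v hv => hc v hv _ (W.mul_mem (W.inv_mem w'.2) w.2)) h'
        rw [inv_mul_eq_one] at this
        exact Subtype.ext this.symm
      let φ : V →* W := MonoidHom.mk' f fun v v' => by
        apply huniq
        rw [hf, Subgroup.coe_mul, Subgroup.coe_mul, mul_smul, hf v',
          ← mul_smul, ← hc _ (V.inv_mem v'.2) _ (f v).2, mul_smul, hf v, ← mul_smul, mul_inv_rev]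
      have hφ : Function.Bijective φ := by
        constructor
        · rw [injective_iff_map_eq_one]
          intro v hv
          have h1 := hf v
          rw [show f v = 1 from hv, Subgroup.coe_one, one_smul, eq_inv_smul_iff] at h1
          exact Subtype.ext (hregV v v.2 h1)
        · intro w
          obtain ⟨v, hv⟩ := exists_smul_eq V a ((w : G) • a)
          refine ⟨v⁻¹, huniq _ _ ?_⟩
          change (f v⁻¹ : G) • a = _
          rw [hf, Subgroup.coe_inv, inv_inv]
          exact hv
      have hd : Disjoint V W := by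
        rw [disjoint_iff]
        rcases hVS.2.2 (V ⊓ W) (@Subgroup.normal_inf_normal _ _ V W hVn hW.1) inf_le_left with h | h
        · exact h
        · rcases hW.2.2 (V ⊓ W) (@Subgroup.normal_inf_normal _ _ V W hVn hW.1) inf_le_right with h' | h'
          · exact h'
          · exact absurd (h'.symm.trans h) hne
      obtain ⟨eP⟩ := H61.nonempty_mulEquiv_prod_sup V W hVn hW.1 hd
      refine ⟨T, gT, m + m, by omega, hT, hTc, ⟨(MulEquiv.subgroupCongr hNVW).trans (eP.symm.trans
        ((MulEquiv.prodCongr e ((MulEquiv.ofBijective φ hφ).symm.trans e)).trans (H61.piFinAddMulEquiv T m m)))⟩⟩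
    · push Not at hother
      have hNV : N = V := by
        rw [hN]
        exact le_antisymm (sSup_le fun W hW => (hother W hW).le) (le_sSup hVS)
      exact ⟨T, gT, m, hm, hT, hTc, ⟨(MulEquiv.subgroupCongr hNV).trans e⟩⟩

end Cfsg.Agent.S3680
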