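import Cfsg.Statements.S3682
import Cfsg.Agent.H61.WielandtBound

set_option autoImplicit false
open Cfsg

namespace Cfsg.Agent.S3682

/-- Wielandt's bound toward the Sims conjecture. Let a finite group G act faithfully and primitively on a set Ω, let a and b be points, and suppose the orbit of b under the stabilizer of a has length d ≥ 2. Then there are a prime p and a normal p-subgroup P of the stabilizer of a, all of whose elements fix b, such that the index of P in the stabilizer of a divides d! · ((d - 1)!)^d. -/
theorem result {G Ω : Type*} [Group G] [Finite G] [MulAction G Ω] [FaithfulSMul G Ω] [Finite Ω]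
    (hprim : MulAction.IsPreprimitive G Ω) (a b : Ω) (d : ℕ) (hd : Nat.card (MulAction.orbit (MulAction.stabilizer G a) b) = d) (h2 : 2 ≤ d) :
    ∃ p : ℕ, p.Prime ∧ ∃ P : Subgroup (MulAction.stabilizer G a), P.Normal ∧ IsPGroup p P ∧ (∀ g : P, ((g : MulAction.stabilizer G a) : G) • b = b) ∧
      P.index ∣ Nat.factorial d * (Nat.factorial (d - 1)) ^ d := by
  subst hd
  obtain ⟨hP, hc⟩ := H61.exists_twPair_of_orbit hprim h2
  rcases hP.exists_bound hc with hb | ⟨hA, hB⟩
  · rw [H61.relIndex_stabilizer] at hb
    refine ⟨2, Nat.prime_two, ⊥, inferInstance, IsPGroup.of_bot, fun g => ?_, ?_⟩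
    · have h1 : (g : MulAction.stabilizer G a) = 1 := Subgroup.mem_bot.mp g.2
      rw [h1, Subgroup.coe_one, one_smul]
    · rwa [Subgroup.index_bot]
  · obtain ⟨p, hp, hpA, -⟩ := hP.exists_prime hA hB
    refine ⟨p, hp, (H61.core2 _ (MulAction.stabilizer G b)).subgroupOf _,
      Subgroup.normal_subgroupOf_of_le_normalizer (H61.le_normalizer_core2 _ _),
      hpA.comap_subtype, fun g => ?_, ?_⟩
    · exact H61.core1_le_right _ _ (H61.core2_le_core1 _ _ (Subgroup.mem_subgroupOf.mp g.2))
    · have h1 := H61.relIndex_core2_dvd (MulAction.stabilizer G a) (MulAction.stabilizer G b)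
      have e : (MulAction.stabilizer G a).relIndex (MulAction.stabilizer G b) =
          (MulAction.stabilizer G b).relIndex (MulAction.stabilizer G a) := by
        have h3 := ((MulAction.stabilizer G a).subgroupOf (MulAction.stabilizer G b)).card_mul_index
        have h4 := ((MulAction.stabilizer G b).subgroupOf (MulAction.stabilizer G a)).card_mul_index
        rw [← Subgroup.inf_subgroupOf_right, Cfsg.Comp.card_subgroupOf inf_le_right, Subgroup.inf_subgroupOf_right] at h3 h4
        rw [inf_comm] at h4
        rw [← hc, ← h4] at h3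
        exact Nat.eq_of_mul_eq_mul_left Nat.card_pos h3
      rw [e, H61.relIndex_stabilizer] at h1
      exact h1

end Cfsg.Agent.S3682
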