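import Cfsg.Statements.S3684
import Cfsg.Agent.H61.PrimBasic
import Cfsg.Agent.H61.DihedralIso

set_option autoImplicit false
open Cfsg

namespace Cfsg.Agent.S3684

open MulAction

variable {G : Type*} [Group G] [Finite G]

theorem exists_gen (A : Subgroup G) (h : Nat.card A = 2) : ∃ t ∈ A, A = Subgroup.zpowers t := by
  haveI := Fact.mk Nat.prime_two
  have := isCyclic_of_prime_card h
  obtain ⟨t, ht⟩ := (Subgroup.isCyclic_iff_exists_zpowers_eq_top A).mp this
  exact ⟨t, ht ▸ Subgroup.mem_zpowers t, ht.symm⟩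

theorem sq_one (A : Subgroup G) (h : Nat.card A = 2) (x : G) (hx : x ∈ A) : x * x = 1 := by
  have := pow_card_eq_one' (G := A) (x := ⟨x, hx⟩)
  rw [h, pow_two] at this
  exact congrArg Subtype.val this

theorem two_cases (t : G) (ht : t * t = 1) {x : G} (hx : x ∈ Subgroup.zpowers t) : x = 1 ∨ x = t := by
  obtain ⟨k, rfl⟩ := hx
  rcases Int.even_or_odd' k with ⟨m, rfl | rfl⟩
  · left; simp [zpow_mul, pow_two, ht]
  · right; simp [zpow_add, zpow_mul, pow_two, ht]

/-- Let a finite group G act faithfully and primitively on a set Ω, and suppose the stabilizer of a point a has an orbit of length 2. Then the stabilizer of a has order 2 and G is isomorphic to the dihedral group of order 2p for some prime p. -/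
theorem result {G Ω : Type*} [Group G] [Finite G] [MulAction G Ω] [FaithfulSMul G Ω] [Finite Ω]
    (hprim : MulAction.IsPreprimitive G Ω) (a b : Ω) (h2 : Nat.card (MulAction.orbit (MulAction.stabilizer G a) b) = 2) :
    Nat.card (MulAction.stabilizer G a) = 2 ∧ ∃ p : ℕ, p.Prime ∧ Nonempty (G ≃* DihedralGroup p) := by
  classical
  have := hprim
  have := hprim.toIsPretransitive
  set A := stabilizer G a with hA
  set B := stabilizer G b with hB
  have hst : stabilizer A b = B.subgroupOf A := by
    ext x; simp [hB, Subgroup.mem_subgroupOf, Subgroup.smul_def]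
  have hidx : (B.subgroupOf A).index = 2 := by
    rw [← hst, index_stabilizer, ← Nat.card_coe_set_eq]; exact h2
  have hab : a ≠ b := by
    rintro rfl
    rw [Subgroup.subgroupOf_self, Subgroup.index_top] at hidx
    omega
  have : Nontrivial Ω := ⟨a, b, hab⟩
  have hAne : A ≠ ⊥ := by
    intro h
    have h1 : Nat.card A = 1 := by rw [h]; simp
    have := (B.subgroupOf A).index_dvd_card
    rw [hidx, h1] at this
    simp at this
  have hnot : ¬ A ≤ B := fun h => hAne (H61.stabilizer_eq_bot_of_le hprim hab h)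
  have hco : IsCoatom A := IsPreprimitive.isCoatom_stabilizer_of_isPreprimitive G a
  have hco' : IsCoatom B := IsPreprimitive.isCoatom_stabilizer_of_isPreprimitive G b
  have hsup : A ⊔ B = ⊤ := by
    apply hco.2
    refine lt_of_le_of_ne le_sup_left fun h => ?_
    have hle : B ≤ A := h ▸ le_sup_right
    rcases eq_or_lt_of_le hle with h' | h'
    · exact hnot h'.ge
    · exact hco.1 (hco'.2 _ h')
  have hcardAB : Nat.card B = Nat.card A := by
    obtain ⟨g, hg⟩ := exists_smul_eq G a b
    rw [hA, hB, ← hg, stabilizer_smul_eq_stabilizer_map_conj]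
    exact (Nat.card_congr ((stabilizer G a).equivMapOfInjective _ (MulAut.conj g).injective).toEquiv).symm
  set N := A ⊓ B with hN
  have hNA : (N.subgroupOf A).index = 2 := by
    rw [hN, Subgroup.inf_subgroupOf_left]; exact hidx
  have hcA : Nat.card N * 2 = Nat.card A := by
    rw [← hNA, ← Nat.card_congr (Subgroup.subgroupOfEquivOfLe (inf_le_left : N ≤ A)).toEquiv]
    exact Subgroup.card_mul_index _
  have hNB : (N.subgroupOf B).index = 2 := by
    have h := Subgroup.card_mul_index (N.subgroupOf B)
    rw [Nat.card_congr (Subgroup.subgroupOfEquivOfLe (inf_le_right : N ≤ B)).toEquiv, hcardAB, ← hcA] at h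
    exact Nat.eq_of_mul_eq_mul_left Nat.card_pos h
  have hnA : (N.subgroupOf A).Normal := Subgroup.normal_of_index_eq_two hNA
  have hnB : (N.subgroupOf B).Normal := Subgroup.normal_of_index_eq_two hNB
  have h1 : A ≤ Subgroup.normalizer (N : Set G) := (Subgroup.normal_subgroupOf_iff_le_normalizer inf_le_left).mp hnA
  have h3 : B ≤ Subgroup.normalizer (N : Set G) := (Subgroup.normal_subgroupOf_iff_le_normalizer inf_le_right).mp hnB
  have hNn : N.Normal := Subgroup.normalizer_eq_top_iff.mp (top_le_iff.mp (hsup ▸ sup_le h1 h3))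
  have hNbot : N = ⊥ := H61.normal_eq_bot_of_le_stabilizer N a inf_le_left
  have hA2 : Nat.card A = 2 := by rw [← hcA, hNbot]; simp
  refine ⟨hA2, ?_⟩
  have hB2 : Nat.card B = 2 := hcardAB.trans hA2
  obtain ⟨t, ht, htu⟩ := exists_gen A hA2
  obtain ⟨s, hs, hsu⟩ := exists_gen B hB2
  have ht2 : t * t = 1 := sq_one A hA2 t ht
  have hs2 : s * s = 1 := sq_one B hB2 s hs
  have hti : t⁻¹ = t := inv_eq_of_mul_eq_one_right ht2
  have hsi : s⁻¹ = s := inv_eq_of_mul_eq_one_right hs2
  set c := t * s with hcdef
  have hci : c⁻¹ = s * t := by rw [hcdef, mul_inv_rev, hti, hsi]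
  have htc : t * c * t = c⁻¹ := by rw [hci, hcdef, ← mul_assoc, ht2, one_mul]
  have hsc : s * c * s = c⁻¹ := by rw [hci, hcdef, mul_assoc, mul_assoc, hs2, mul_one]
  have hnorm : ∀ D : Subgroup G, D ≤ Subgroup.zpowers c → D.Normal := by
    intro D hD
    have key : ∀ u : G, u * u = 1 → u * c * u = c⁻¹ → u ∈ Subgroup.normalizer (D : Set G) := by
      intro u hu huc
      have hui : u⁻¹ = u := inv_eq_of_mul_eq_one_right hu
      have hd : ∀ d ∈ D, u * d * u⁻¹ = d⁻¹ := by
        intro d hd
        obtain ⟨k, rfl⟩ := hD hd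
        have e : u * c ^ k * u⁻¹ = (u * c * u⁻¹) ^ k := conj_zpow.symm
        change u * c ^ k * u⁻¹ = (c ^ k)⁻¹
        rw [e, hui, huc, inv_zpow]
      refine Subgroup.mem_normalizer_iff.mpr fun d => ⟨fun h => ?_, fun h => ?_⟩
      · rw [hd d h]; exact D.inv_mem h
      · have h2 := hd _ h
        have e : u * (u * d * u⁻¹) * u⁻¹ = d := by rw [hui, ← mul_assoc, ← mul_assoc, hu, one_mul, mul_assoc, hu, mul_one]
        rw [e] at h2
        rw [h2]; exact D.inv_mem h
    apply Subgroup.normalizer_eq_top_iff.mp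
    rw [← top_le_iff, ← hsup, htu, hsu]
    exact sup_le ((Subgroup.zpowers_le).mpr (key t ht2 htc)) ((Subgroup.zpowers_le).mpr (key s hs2 hsc))
  set C := Subgroup.zpowers c with hC
  have hCn : C.Normal := hnorm C le_rfl
  have htC : t ∉ C := by
    intro h
    have hsC : s ∈ C := by
      have : t * c ∈ C := C.mul_mem h (Subgroup.mem_zpowers c)
      rwa [hcdef, ← mul_assoc, ht2, one_mul] at this
    have hCt : C = ⊤ := by
      rw [← top_le_iff, ← hsup, htu, hsu]
      exact sup_le ((Subgroup.zpowers_le).mpr h) ((Subgroup.zpowers_le).mpr hsC)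
    have : A.Normal := hnorm A (hCt ▸ le_top)
    exact hAne (H61.normal_eq_bot_of_le_stabilizer A a le_rfl)
  have hdisj : ∀ D : Subgroup G, D ≤ C → Disjoint D A := by
    intro D hD
    rw [disjoint_iff, eq_bot_iff, htu]
    intro x hx
    rcases two_cases t ht2 hx.2 with rfl | rfl
    · exact Subgroup.one_mem _
    · exact absurd (hD hx.1) htC
  have hmul : ∀ D : Subgroup G, D ≤ C → D ⊔ A = ⊤ → Nat.card D * 2 = Nat.card G := by
    intro D hD hDA
    have := hnorm D hD
    rw [← hA2]
    exact (Subgroup.isComplement'_of_disjoint_and_mul_eq_univ (hdisj D hD) (by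
      rw [← Subgroup.normal_mul, hDA, Subgroup.coe_top])).card_mul
  have hCA : C ⊔ A = ⊤ := by
    rw [← top_le_iff, ← hsup]
    refine sup_le le_sup_right ?_
    rw [hsu, Subgroup.zpowers_le]
    have : t * c = s := by rw [hcdef, ← mul_assoc, ht2, one_mul]
    rw [← this]
    exact Subgroup.mul_mem _ (Subgroup.mem_sup_right ht) (Subgroup.mem_sup_left (Subgroup.mem_zpowers c))
  have hprime : (Nat.card C).Prime := by
    apply H61.card_prime_of_isCoatom_bot
    have hcn : c ≠ 1 := by
      intro h
      apply hnot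
      have hst' : t = s := by
        have h' : t * s = 1 := h
        rw [mul_eq_one_iff_eq_inv.mp h', hsi]
      rw [htu, hsu, hst']
    refine ⟨?_, fun D hD => ?_⟩
    · intro h
      have : (⟨c, Subgroup.mem_zpowers c⟩ : C) ∈ (⊥ : Subgroup C) := h ▸ Subgroup.mem_top _
      exact hcn (congrArg Subtype.val (Subgroup.mem_bot.mp this))
    · have hle : D.map C.subtype ≤ C := Subgroup.map_subtype_le D
      have hne : D.map C.subtype ≠ ⊥ := by
        rw [Ne, Subgroup.map_eq_bot_iff_of_injective _ C.subtype_injective]; exact hD.ne'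
      have htop : D.map C.subtype ⊔ A = ⊤ := by
        apply hco.2
        refine lt_of_le_of_ne le_sup_right fun h => hne ?_
        exact disjoint_self.mp ((hdisj _ hle).mono_right (le_sup_left.trans h.ge))
      have e1 := hmul _ hle htop
      have e2 := hmul C le_rfl hCA
      apply Subgroup.eq_top_of_card_eq
      rw [Subgroup.card_map_of_injective C.subtype_injective] at e1
      omega
  refine ⟨Nat.card C, hprime, ?_⟩
  haveI : NeZero (Nat.card C) := ⟨hprime.ne_zero⟩
  exact H61.nonempty_mulEquiv_dihedralGroup c t (Nat.card C) (Nat.card_zpowers c).symm ht2 htc htC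
    (by rw [← hmul C le_rfl hCA, mul_comm])

end Cfsg.Agent.S3684
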