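import Cfsg.Statements.S3687
import Cfsg.Agent.H61.AltPairStruct

set_option autoImplicit false
open Cfsg

namespace Cfsg.Agent.S3687

/-- Let a finite group G act faithfully and primitively on a set Ω, let a and b be points such that the orbit Δ of b under the stabilizer H of a has d ≥ 6 elements, and suppose that the permutation group induced by H on Δ contains the alternating group of Δ (the image of H in the symmetric group of Δ has index at most 2) while H does not act faithfully on Δ. Then either H induces exactly the alternating group of Δ and H is isomorphic to the direct product of the alternating groups of degrees d and d - 1; or H induces the full symmetric group of Δ and H is isomorphic to one of: the direct product of the symmetric groups of degrees d and d - 1, the direct product of the symmetric group of degree d with the alternating group of degree d - 1, or the subgroup of the direct product of the symmetric groups of degrees d and d - 1 consisting of the pairs of permutations with equal signs. -/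
theorem result {G Ω : Type*} [Group G] [Finite G] [MulAction G Ω] [FaithfulSMul G Ω] [Finite Ω]
    (hprim : MulAction.IsPreprimitive G Ω) (a b : Ω) (d : ℕ) (hd : Nat.card (MulAction.orbit (MulAction.stabilizer G a) b) = d) (h6 : 6 ≤ d)
    (halt : (MulAction.toPermHom (MulAction.stabilizer G a) (MulAction.orbit (MulAction.stabilizer G a) b)).range.index ≤ 2)
    (hunf : ¬ Function.Injective (MulAction.toPermHom (MulAction.stabilizer G a) (MulAction.orbit (MulAction.stabilizer G a) b))) :
    ((MulAction.toPermHom (MulAction.stabilizer G a) (MulAction.orbit (MulAction.stabilizer G a) b)).range.index = 2 ∧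
      Nonempty (MulAction.stabilizer G a ≃* alternatingGroup (Fin d) × alternatingGroup (Fin (d - 1)))) ∨
    ((MulAction.toPermHom (MulAction.stabilizer G a) (MulAction.orbit (MulAction.stabilizer G a) b)).range = ⊤ ∧
      (Nonempty (MulAction.stabilizer G a ≃* Equiv.Perm (Fin d) × Equiv.Perm (Fin (d - 1))) ∨
       Nonempty (MulAction.stabilizer G a ≃* Equiv.Perm (Fin d) × alternatingGroup (Fin (d - 1))) ∨
       Nonempty (MulAction.stabilizer G a ≃* ((Equiv.Perm.sign.comp (MonoidHom.fst (Equiv.Perm (Fin d)) (Equiv.Perm (Fin (d - 1))))) *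
         (Equiv.Perm.sign.comp (MonoidHom.snd (Equiv.Perm (Fin d)) (Equiv.Perm (Fin (d - 1)))))).ker))) := by
  classical
  haveI := hprim
  obtain ⟨hT, hc⟩ := H61.exists_twPair_of_orbit hprim (a := a) (b := b) (by omega)
  set M := MulAction.stabilizer G a with hM
  set N := MulAction.stabilizer G b with hN
  obtain ⟨g, hg⟩ := MulAction.exists_smul_eq G a b
  have hS : H61.AltPair.Setting M N d :=
    ⟨hT, ⟨g, by rw [hN, ← hg, MulAction.stabilizer_smul_eq_stabilizer_map_conj]⟩,
      (H61.relIndex_stabilizer a b).trans hd, h6⟩
  set φ := MulAction.toPermHom M (MulAction.orbit M b) with hφ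
  have hker : φ.ker = (H61.core1 M N).subgroupOf M := by
    ext x
    rw [MonoidHom.mem_ker, Subgroup.mem_subgroupOf, H61.core1, H61.mem_coreIn]
    constructor
    · intro h
      refine ⟨x.2, fun k hk => Subgroup.mem_inf.mpr ⟨mul_mem (mul_mem hk x.2) (inv_mem hk), ?_⟩⟩
      have h1 := congrArg Subtype.val
        (Equiv.congr_fun h ⟨(⟨k, hk⟩ : M)⁻¹ • b, MulAction.mem_orbit b _⟩)
      change (x : G) • (k⁻¹ • b) = k⁻¹ • b at h1
      show (k * (x : G) * k⁻¹) • b = b
      rw [mul_smul, mul_smul, h1, smul_inv_smul]
    · rintro ⟨-, h⟩
      refine Equiv.ext ?_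
      rintro ⟨y, k, rfl⟩
      refine Subtype.ext ?_
      show (x : G) • ((k : G) • b) = (k : G) • b
      have h1 : ((k : G)⁻¹ * (x : G) * ((k : G)⁻¹)⁻¹) • b = b := (Subgroup.mem_inf.mp (h _ (inv_mem k.2))).2
      rw [inv_inv, mul_smul, mul_smul, inv_smul_eq_iff] at h1
      exact h1
  have hcard : Nat.card φ.range = (H61.core1 M N).relIndex M := by
    rw [← Subgroup.index_ker, hker]
    rfl
  have hperm : Nat.card (Equiv.Perm (MulAction.orbit M b)) = d.factorial := by rw [Nat.card_perm, hd]
  have hmul := φ.range.card_mul_index
  rw [hperm, hcard] at hmul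
  have hpos := Nat.factorial_pos d
  have hb : H61.AltPair.Big M N d := by
    show d.factorial ≤ 2 * _
    rw [← hmul, mul_comm 2]
    exact Nat.mul_le_mul_left _ halt
  have hne : H61.core1 M N ≠ ⊥ := fun e => hunf ((MonoidHom.ker_eq_bot_iff _).mp (by
    rw [hker, e, Subgroup.bot_subgroupOf]))
  rcases hS.structure_cases hb hne with ⟨hr, he⟩ | ⟨hr, he⟩
  · left
    refine ⟨?_, he⟩
    rw [← hr, mul_comm 2] at hmul
    exact Nat.eq_of_mul_eq_mul_left (Nat.pos_of_ne_zero fun e => by rw [e, mul_zero] at hr; omega) hmul
  · right
    refine ⟨Subgroup.index_eq_one.mp ?_, he⟩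
    rw [hr] at hmul
    exact Nat.eq_of_mul_eq_mul_left hpos (hmul.trans (mul_one _).symm)

end Cfsg.Agent.S3687
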