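import Cfsg.Statements.S3693
import Cfsg.Agent.H61.WielandtBound

set_option autoImplicit false
open Cfsg

namespace Cfsg.Agent.S3693

/-- Let a finite group G act faithfully and primitively on a set Ω, let a and b be points such that the orbit Δ of b under the stabilizer H of a has length d ≥ 2, and consider the permutation group induced on Δ by the elements of H fixing b. If that induced group has trivial Fitting subgroup (no non-trivial nilpotent normal subgroup), then the two-point stabilizer of a and b has trivial Fitting subgroup and the order of H divides d! · ((d - 1)!)^d. -/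
theorem result {G Ω : Type*} [Group G] [Finite G] [MulAction G Ω] [FaithfulSMul G Ω] [Finite Ω]
    (hprim : MulAction.IsPreprimitive G Ω) (a b : Ω) (d : ℕ) (hd : Nat.card (MulAction.orbit (MulAction.stabilizer G a) b) = d) (h2 : 2 ≤ d)
    (hF : Cfsg.fittingSubgroup ↥(((MulAction.stabilizer G b).subgroupOf (MulAction.stabilizer G a)).map (MulAction.toPermHom (MulAction.stabilizer G a) (MulAction.orbit (MulAction.stabilizer G a) b))) = ⊥) :
    Cfsg.fittingSubgroup ↥(MulAction.stabilizer G a ⊓ MulAction.stabilizer G b) = ⊥ ∧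
      Nat.card (MulAction.stabilizer G a) ∣ Nat.factorial d * (Nat.factorial (d - 1)) ^ d := by
  subst hd
  obtain ⟨hP, hc⟩ := H61.exists_twPair_of_orbit hprim h2
  set M := MulAction.stabilizer G a with hM
  set N := MulAction.stabilizer G b with hN
  set f := MulAction.toPermHom M (MulAction.orbit M b) with hf
  have hbot : ∀ p : ℕ, p.Prime → Cfsg.pCoreOf p (M ⊓ N) = ⊥ := by
    intro p hp
    haveI := Fact.mk hp
    refine hP.pCoreOf_inf_eq_bot hp ?_
    set P := Cfsg.pCoreOf p (M ⊓ N) with hPdef
    set I := (N.subgroupOf M).map f with hI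
    have hPD : P ≤ M ⊓ N := H75.pCoreOf_le _
    set J := (P.subgroupOf M).map f with hJ
    have hJI : J ≤ I := Subgroup.map_mono fun x hx => (hPD hx).2
    have hJn : I ≤ Subgroup.normalizer (J : Set _) := by
      refine H75.le_normalizer_of_conj ?_
      rintro _ ⟨k, hk, rfl⟩ _ ⟨x, hx, rfl⟩
      rw [← map_inv, ← map_mul, ← map_mul]
      refine Subgroup.mem_map_of_mem _ ?_
      exact H75.conj_mem_of_mem_normalizer (A := P) (H75.le_normalizer_pCoreOf _
        (Subgroup.mem_inf.mpr ⟨k.2, hk⟩)) hx
    have := Subgroup.normal_subgroupOf_of_le_normalizer hJn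
    have h1 : J.subgroupOf I = ⊥ := by
      refine le_bot_iff.mp (hF ▸ ?_)
      exact (Cfsg.Comp.le_pCore this (((H75.isPGroup_pCoreOf _).comap_subtype.map f).comap_subtype (K := I))).trans
        (Cfsg.Comp.pCore_le_fitting p)
    have h2 : J = ⊥ := by
      rw [← Subgroup.map_subgroupOf_eq_of_le hJI, h1, Subgroup.map_bot]
    intro x hx
    have hxM : x ∈ M := (hPD hx).1
    have h3 : f ⟨x, hxM⟩ = 1 := by
      rw [← Subgroup.mem_bot, ← h2]
      exact Subgroup.mem_map_of_mem _ hx
    refine H61.mem_coreIn.mpr ⟨hxM, fun k hk => Subgroup.mem_inf.mpr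
      ⟨mul_mem (mul_mem hk hxM) (inv_mem hk), ?_⟩⟩
    have h4 := congrArg Subtype.val (Equiv.Perm.ext_iff.mp h3
      ⟨(⟨k, hk⟩ : M)⁻¹ • b, MulAction.mem_orbit _ _⟩)
    change x • (k⁻¹ • b) = k⁻¹ • b at h4
    rw [hN, MulAction.mem_stabilizer_iff, mul_smul, mul_smul, h4, smul_inv_smul]
  refine ⟨?_, ?_⟩
  · rw [Cfsg.Comp.fitting_eq_iSup_pCore]
    exact le_bot_iff.mp (iSup_le fun s => (H75.pCore_eq_bot_iff.mp (hbot s s.2)).le)
  · have hb := hP.card_dvd_of_fitting_trivial hc hbot
    rwa [H61.relIndex_stabilizer] at hb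

end Cfsg.Agent.S3693
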