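import Cfsg.Statements.S3696

set_option autoImplicit false
open Cfsg

namespace Cfsg.Agent.S3696

/-- A weighted two-term arithmetic-geometric mean inequality for natural numbers. -/
theorem two_term_amgm (a b i j : ℕ) :
    a ^ i * b ^ j * (i + j) ^ (i + j) ≤ i ^ i * j ^ j * (a + b) ^ (i + j) := by
  rcases Nat.eq_zero_or_pos i with rfl | hi
  · simp only [pow_zero, one_mul, zero_add]
    rw [mul_comm]
    exact Nat.mul_le_mul_left _ (Nat.pow_le_pow_left (Nat.le_add_left b a) j)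
  rcases Nat.eq_zero_or_pos j with rfl | hj
  · simp only [pow_zero, mul_one, add_zero]
    rw [mul_comm]
    exact Nat.mul_le_mul_left _ (Nat.pow_le_pow_left (Nat.le_add_right a b) i)
  have key : ((a : ℝ) / i) ^ i * ((b : ℝ) / j) ^ j ≤ (((a : ℝ) + b) / ((i + j : ℕ) : ℝ)) ^ (i + j) := by
    have h := Real.geom_mean_le_arith_mean2_weighted (w₁ := (i : ℝ) / ((i + j : ℕ) : ℝ))
      (w₂ := (j : ℝ) / ((i + j : ℕ) : ℝ)) (p₁ := (a : ℝ) / i) (p₂ := (b : ℝ) / j)
      (by positivity) (by positivity) (by positivity) (by positivity)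
      (by push_cast; field_simp)
    have e : (i : ℝ) / ((i + j : ℕ) : ℝ) * ((a : ℝ) / i) + (j : ℝ) / ((i + j : ℕ) : ℝ) * ((b : ℝ) / j) =
        ((a : ℝ) + b) / ((i + j : ℕ) : ℝ) := by
      field_simp
    rw [e] at h
    have h2 := pow_le_pow_left₀ (by positivity) h (i + j)
    rw [mul_pow, ← Real.rpow_mul_natCast (by positivity), ← Real.rpow_mul_natCast (by positivity),
      div_mul_cancel₀ _ (by positivity), div_mul_cancel₀ _ (by positivity), Real.rpow_natCast,
      Real.rpow_natCast] at h2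
    exact h2
  rw [div_pow, div_pow, div_pow, div_mul_div_comm,
    div_le_div_iff₀ (by positivity) (by positivity)] at key
  have : ((a ^ i * b ^ j * (i + j) ^ (i + j) : ℕ) : ℝ) ≤ ((i ^ i * j ^ j * (a + b) ^ (i + j) : ℕ) : ℝ) := by
    push_cast at key ⊢
    linarith
  exact_mod_cast this

theorem mul_pow_self_le (m e : ℕ) (he : 1 ≤ e) (hm : 2 ^ e ≤ m) : m * e ^ e ≤ m ^ e := by
  obtain ⟨f, rfl⟩ : ∃ f, e = f + 1 := ⟨e - 1, by omega⟩
  rw [pow_succ' m f]
  refine Nat.mul_le_mul_left _ ?_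
  calc (f + 1) ^ (f + 1) ≤ (2 ^ f) ^ (f + 1) := Nat.pow_le_pow_left (Nat.lt_two_pow_self) _
    _ = (2 ^ (f + 1)) ^ f := by rw [← pow_mul, ← pow_mul, mul_comm]
    _ ≤ m ^ f := Nat.pow_le_pow_left hm _

variable {Ω : Type*} [Fintype Ω] [DecidableEq Ω]

theorem card_bound (p : ℕ) (hp : p.Prime) (A T : Subgroup (Equiv.Perm Ω)) (hA : IsPGroup p A)
    (hab : ∀ x ∈ A, ∀ y ∈ A, x * y = y * x)
    (hT : ∀ x, x ∈ T ↔ x ∈ A ∧ x ^ p = 1) (d : ℕ) :
    ∀ B : Subgroup (Equiv.Perm Ω), B ≤ A → ∀ S : Set Ω, (∀ g ∈ B, ∀ x ∈ S, g x ∈ S) →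
      (∀ g ∈ B, (∀ x ∈ S, g x = x) → g = 1) → Nat.card ↥(T ⊓ B) = p ^ d →
      Nat.card B * d ^ d ≤ S.ncard ^ d := by
  haveI := Fact.mk hp
  induction d using Nat.strong_induction_on with
  | _ d ih =>
    intro B hBA S hinv hfaith hd
    rcases Nat.eq_zero_or_pos d with rfl | hdpos
    · have hBbot : B = ⊥ := by
        by_contra hne
        have hnt : Nontrivial B := (Subgroup.nontrivial_iff_ne_bot B).mpr hne
        obtain ⟨k, hk0, hk⟩ := (hA.to_le hBA).nontrivial_iff_card.mp hnt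
        obtain ⟨x, hx⟩ := exists_prime_orderOf_dvd_card' (G := B) p (hk ▸ dvd_pow_self p (by omega))
        have hmem : (x : Equiv.Perm Ω) ∈ T ⊓ B := by
          refine ⟨(hT _).mpr ⟨hBA x.2, ?_⟩, x.2⟩
          rw [← hx, ← Subgroup.orderOf_coe, pow_orderOf_eq_one]
        rw [pow_zero, Subgroup.card_eq_one] at hd
        rw [hd, Subgroup.mem_bot] at hmem
        have : x = 1 := Subtype.ext hmem
        rw [this, orderOf_one] at hx
        exact hp.one_lt.ne hx
      rw [hBbot]; simp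
    -- choose a moved point
    have hTne : T ⊓ B ≠ ⊥ := by
      intro h
      rw [h, Subgroup.card_bot] at hd
      exact (Nat.one_lt_pow hdpos.ne' hp.one_lt).ne hd
    obtain ⟨v, hv, hv1⟩ := (Subgroup.bot_or_exists_ne_one _).resolve_left hTne
    obtain ⟨x, hxS, hx⟩ : ∃ x ∈ S, v x ≠ x := by
      by_contra h
      push Not at h
      exact hv1 (hfaith v hv.2 h)
    let K : Subgroup (Equiv.Perm Ω) := B ⊓ MulAction.stabilizer (Equiv.Perm Ω) x
    have hKmem : ∀ g, g ∈ K ↔ g ∈ B ∧ g x = x := fun g => Iff.rfl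
    set O := MulAction.orbit B x with hO
    have hKA : K ≤ A := inf_le_left.trans hBA
    have hOS : O ⊆ S := by
      rintro _ ⟨g, rfl⟩
      exact hinv _ g.2 x hxS
    have hKfixO : ∀ g ∈ K, ∀ y ∈ O, g y = y := by
      rintro g hg _ ⟨h, rfl⟩
      change g ((h : Equiv.Perm Ω) x) = (h : Equiv.Perm Ω) x
      rw [← Equiv.Perm.mul_apply, hab g (hKA hg) h (hBA h.2), Equiv.Perm.mul_apply, ((hKmem g).mp hg).2]
    have hdvd : Nat.card ↥(T ⊓ K) ∣ p ^ d := hd ▸ Subgroup.card_dvd_of_le (inf_le_inf_left T inf_le_left)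
    obtain ⟨d', hd'le, hd'⟩ := (Nat.dvd_prime_pow hp).mp hdvd
    have hd'lt : d' < d := by
      refine lt_of_le_of_ne hd'le ?_
      rintro rfl
      have := Subgroup.eq_of_le_of_card_ge (inf_le_inf_left T (inf_le_left : K ≤ B)) (by rw [hd, hd'])
      exact hx (((hKmem v).mp (this.ge hv).2)).2
    have hinv' : ∀ g ∈ K, ∀ y ∈ S \ O, g y ∈ S \ O := by
      intro g hg y hy
      refine ⟨hinv g (inf_le_left (b := MulAction.stabilizer (Equiv.Perm Ω) x) hg) y hy.1, fun h => hy.2 ?_⟩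
      have e := hKfixO g hg _ h
      rwa [g.injective e] at h
    have hfaith' : ∀ g ∈ K, (∀ y ∈ S \ O, g y = y) → g = 1 := by
      intro g hg h
      refine hfaith g ((hKmem g).mp hg).1 fun y hy => ?_
      by_cases hyO : y ∈ O
      · exact hKfixO g hg y hyO
      · exact h y ⟨hy, hyO⟩
    have IH := ih d' hd'lt K hKA (S \ O) hinv' hfaith' hd'
    set m := O.ncard with hm
    have hBK : Nat.card B = m * Nat.card K := by
      have h1 := Subgroup.card_mul_index (K.subgroupOf B)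
      rw [Nat.card_congr (Subgroup.subgroupOfEquivOfLe (inf_le_left : K ≤ B)).toEquiv] at h1
      have h2 : (K.subgroupOf B).index = m := by
        have : K.subgroupOf B = MulAction.stabilizer B x := by
          ext g; simp [Subgroup.mem_subgroupOf, hKmem, Subgroup.smul_def]
        rw [this, MulAction.index_stabilizer]
      rw [← h1, h2, mul_comm]
    obtain ⟨e, he, rfl⟩ : ∃ e, 1 ≤ e ∧ d = e + d' := ⟨d - d', by omega, by omega⟩
    have hme : p ^ e ≤ m := by
      -- `(T ⊓ B) / (T ⊓ K)` embeds in `B / K`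
      have h1 := Subgroup.card_mul_index ((T ⊓ K).subgroupOf (T ⊓ B))
      rw [Nat.card_congr (Subgroup.subgroupOfEquivOfLe (inf_le_inf_left T inf_le_left)).toEquiv, hd, hd', pow_add,
        mul_comm (p ^ e), Nat.mul_left_cancel_iff (pow_pos hp.pos _)] at h1
      rw [← h1]
      have h2 : ((T ⊓ K).subgroupOf (T ⊓ B)) = MulAction.stabilizer ↥(T ⊓ B) x := by
        ext g
        simp only [Subgroup.mem_subgroupOf, MulAction.mem_stabilizer_iff, Subgroup.mem_inf]
        exact ⟨fun h => ((hKmem _).mp h.2).2, fun h => ⟨g.2.1, (hKmem _).mpr ⟨g.2.2, h⟩⟩⟩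
      rw [h2, MulAction.index_stabilizer]
      refine Set.ncard_le_ncard ?_ (Set.toFinite _)
      rintro _ ⟨g, rfl⟩
      exact ⟨⟨g, g.2.2⟩, rfl⟩
    have h2e : 2 ^ e ≤ m := (Nat.pow_le_pow_left hp.two_le e).trans hme
    have hS : m + (S \ O).ncard = S.ncard := by
      rw [add_comm]; exact Set.ncard_sdiff_add_ncard_of_subset hOS (Set.toFinite _)
    rw [hBK, ← hS]
    set n' := (S \ O).ncard
    have hpos : 0 < e ^ e * d' ^ d' := by
      rcases Nat.eq_zero_or_pos d' with rfl | hpos'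
      · rw [pow_zero, mul_one]; exact pow_pos (by omega) e
      · positivity
    refine Nat.le_of_mul_le_mul_left ?_ hpos
    calc e ^ e * d' ^ d' * (m * Nat.card K * (e + d') ^ (e + d'))
        = (m * e ^ e) * (Nat.card K * d' ^ d') * (e + d') ^ (e + d') := by ring
      _ ≤ m ^ e * n' ^ d' * (e + d') ^ (e + d') := by gcongr; exact mul_pow_self_le m e he h2e
      _ ≤ e ^ e * d' ^ d' * (m + n') ^ (e + d') := two_term_amgm m n' e d'

/-- Let p be a prime, Ω a finite set with n ≥ p elements, and A an abelian p-subgroup of the symmetric group on Ω whose elements of order dividing p number p^k (so k is the rank of A). Then |A| · k^k ≤ n^k, that is, |A| ≤ (n/k)^k. -/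
theorem result {Ω : Type*} [Fintype Ω] [DecidableEq Ω]
    (p : ℕ) (hp : p.Prime) (hn : p ≤ Fintype.card Ω) (A : Subgroup (Equiv.Perm Ω)) (hA : IsPGroup p A) (hab : IsMulCommutative A)
    (k : ℕ) (hk : Nat.card {x : A // x ^ p = 1} = p ^ k) :
    Nat.card A * k ^ k ≤ Fintype.card Ω ^ k := by
  classical
  have hab' : ∀ x ∈ A, ∀ y ∈ A, x * y = y * x := fun x hx y hy =>
    congrArg Subtype.val (hab.is_comm.comm (⟨x, hx⟩ : A) ⟨y, hy⟩)
  let T : Subgroup (Equiv.Perm Ω) :=
    { carrier := {x | x ∈ A ∧ x ^ p = 1}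
      mul_mem' := fun {x y} hx hy => ⟨A.mul_mem hx.1 hy.1, by
        rw [(show Commute x y from hab' x hx.1 y hy.1).mul_pow, hx.2, hy.2, one_mul]⟩
      one_mem' := ⟨A.one_mem, one_pow p⟩
      inv_mem' := fun {x} hx => ⟨A.inv_mem hx.1, by rw [inv_pow, hx.2, inv_one]⟩ }
  have h := card_bound p hp A T hA hab' (fun x => Iff.rfl) k A le_rfl Set.univ (fun g _ x _ => Set.mem_univ _)
    (fun g _ h => Equiv.ext fun x => h x (Set.mem_univ x)) ?_
  · rwa [Set.ncard_univ, Nat.card_eq_fintype_card (α := Ω)] at h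
  rw [← hk]
  exact Nat.card_congr
    { toFun := fun x => ⟨⟨x.1, x.2.2⟩, Subtype.ext x.2.1.2⟩
      invFun := fun x => ⟨x.1.1, ⟨x.1.2, congrArg Subtype.val x.2⟩, x.1.2⟩
      left_inv := fun x => rfl
      right_inv := fun x => rfl }

end Cfsg.Agent.S3696
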