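import Cfsg.Statements.S3703
import Cfsg.Agent.H61.NormMap
import Cfsg.Agent.H2.FrobeniusBasic
import Cfsg.Agent.H1.CoprimeAction
import Cfsg.Agent.H6.Basic
import Mathlib

set_option autoImplicit false
open Cfsg

namespace Cfsg.Agent.S3703

open scoped Pointwise

variable {G : Type*} [Group G] [Finite G]

/-- Either there is an element of order `p * h`, or `Q` centralises `P`. -/
theorem centralize_or_order (N : Subgroup G) [N.Normal] (P Q : Subgroup G) (p : ℕ) [Fact p.Prime]
    (hP : IsPGroup p P) (hPN : P ≤ N) (hQ : Group.IsSolvable Q) (hcop : (Nat.card Q).Coprime (Nat.card P))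
    (hQP : Q ≤ Subgroup.normalizer (P : Set G))
    (g : G) (hgP : g ∈ Subgroup.normalizer (P : Set G)) (hgQ : g ∈ Subgroup.normalizer (Q : Set G))
    (h : ℕ) (hh : 0 < h) (hord : orderOf g = h) (hgN : ∀ k : ℕ, g ^ k ∈ N → h ∣ k)
    (hfix : ∀ i, 0 < i → i < h → ∀ a ∈ Q, a * g ^ i = g ^ i * a → a = 1) :
    Q ≤ Subgroup.centralizer (P : Set G) ∨ ∃ z : G, orderOf z = p * h := by
  classical
  by_cases hex : ∃ z : G, orderOf z = p * h
  · exact Or.inr hex
  left
  set L := Subgroup.normalizer (P : Set G) with hL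
  letI : CommGroup (Abelianization P) := inferInstance
  let ab : MulAut P →* MulAut (Abelianization P) :=
    { toFun := fun e => e.abelianizationCongr
      map_one' := MulEquiv.ext fun x => by
        obtain ⟨y, rfl⟩ := QuotientGroup.mk'_surjective (commutator P) x
        rfl
      map_mul' := fun e f => MulEquiv.ext fun x => by
        obtain ⟨y, rfl⟩ := QuotientGroup.mk'_surjective (commutator P) x
        rfl }
  let φ : L →* MulAut (Abelianization P) := ab.comp P.normalizerMonoidHom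
  have hφ : ∀ (l : L) (v : P), φ l (Abelianization.of v) =
      Abelianization.of ⟨(l : G) * (v : G) * (l : G)⁻¹, (Subgroup.mem_normalizer_iff.mp l.2 v).mp v.2⟩ := fun l v => rfl
  let gL : L := ⟨g, hgP⟩
  have hgp : g ^ h = 1 := hord ▸ pow_orderOf_eq_one g
  have hnorm : ∀ v : Abelianization P, ∏ i ∈ Finset.range h, φ (gL ^ i) v = 1 := by
    intro v
    obtain ⟨u, rfl⟩ := QuotientGroup.mk'_surjective (commutator P) v
    set z : G := (u : G) * g with hz
    have hpow : ∀ n : ℕ, ∃ w : P, z ^ n = (w : G) * g ^ n ∧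
        Abelianization.of w = ∏ i ∈ Finset.range n, φ (gL ^ i) (Abelianization.of u) := by
      intro n
      induction n with
      | zero => exact ⟨1, by simp, by simp⟩
      | succ n ih =>
        obtain ⟨w, hw1, hw2⟩ := ih
        refine ⟨w * ⟨g ^ n * (u : G) * (g ^ n)⁻¹, (Subgroup.mem_normalizer_iff.mp (Subgroup.pow_mem _ hgP n) u).mp u.2⟩, ?_, ?_⟩
        · rw [pow_succ, hw1, hz, Subgroup.coe_mul, pow_succ]
          group
        · rw [map_mul, hw2, Finset.prod_range_succ]
          rfl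
    obtain ⟨w, hw1, hw2⟩ := hpow h
    rw [hgp, mul_one] at hw1
    suffices hw0 : w = 1 by
      change ∏ i ∈ Finset.range h, φ (gL ^ i) (Abelianization.of u) = 1
      rw [← hw2, hw0, map_one]
    by_contra hne
    apply hex
    obtain ⟨j, hj⟩ := (IsPGroup.iff_orderOf.mp hP) w
    rcases j with _ | j
    · exact absurd (orderOf_eq_one_iff.mp (hj.trans (pow_zero p))) hne
    have hdvd : h ∣ orderOf z := by
      obtain ⟨w', hw', -⟩ := hpow (orderOf z)
      rw [pow_orderOf_eq_one] at hw'
      apply hgN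
      rw [eq_comm, mul_eq_one_iff_eq_inv] at hw'
      exact N.inv_mem_iff.mp (hw' ▸ hPN w'.2)
    obtain ⟨m, hm⟩ := hdvd
    have h2 := orderOf_pow' z hh.ne'
    rw [hw1, Subgroup.orderOf_coe, hj, hm, Nat.gcd_eq_right (Dvd.intro m rfl), Nat.mul_div_cancel_left _ hh] at h2
    refine ⟨z ^ p ^ j, ?_⟩
    have hp : 0 < p := (Fact.out : p.Prime).pos
    rw [orderOf_pow' z (pow_pos hp j).ne', hm, ← h2, Nat.gcd_eq_right (Dvd.dvd.mul_left (pow_dvd_pow p j.le_succ) h),
      Nat.mul_div_assoc _ (pow_dvd_pow p j.le_succ), Nat.pow_div j.le_succ hp, Nat.succ_sub (le_refl j), Nat.sub_self,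
      pow_one, mul_comm]
  have hQcard : Nat.card (Q.subgroupOf L) = Nat.card Q := Nat.card_congr (Subgroup.subgroupOfEquivOfLe hQP).toEquiv
  have htriv := H61.action_trivial_of_norm_eq_one φ (Q.subgroupOf L) gL h hh
    (by
      rw [Subgroup.mem_normalizer_iff]
      exact fun x => Subgroup.mem_normalizer_iff.mp hgQ (x : G))
    (fun i hi hih a ha hc => Subtype.ext (hfix i hi hih a ha (congrArg Subtype.val hc)))
    (by rw [hQcard]; exact Nat.Coprime.coprime_dvd_right (Subgroup.card_quotient_dvd_card _) hcop) hnorm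
  -- lift triviality from the abelianisation
  have hsup := H1.commutator_sup_centralizer_eq hQP hcop (Or.inl hQ)
  have hle : (⁅P, Q⁆ : Subgroup G).subgroupOf P ≤ commutator P := by
    have h1 : ⁅P, Q⁆ ≤ (commutator P).map P.subtype := by
      rw [Subgroup.commutator_le]
      intro x hx y hy
      have h2 := htriv ⟨y, hQP hy⟩ hy (Abelianization.of ⟨x⁻¹, P.inv_mem hx⟩)
      rw [hφ, eq_comm, ← inv_mul_eq_one, ← map_inv, ← map_mul, ← MonoidHom.mem_ker, Abelianization.ker_of] at h2
      refine ⟨_, h2, ?_⟩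
      simp [commutatorElement_def, mul_assoc]
    intro x hx
    obtain ⟨y, hy, hxy⟩ := h1 hx
    rwa [Subtype.ext hxy] at hy
  have htop : (Subgroup.centralizer (Q : Set G)).subgroupOf P = ⊤ := by
    apply frattini_nongenerating
    rw [← top_le_iff]
    have h3 : ((⁅P, Q⁆ : Subgroup G) ⊔ (P ⊓ Subgroup.centralizer (Q : Set G))).subgroupOf P = ⊤ := by
      rw [hsup, Subgroup.subgroupOf_self]
    rw [← h3, Subgroup.subgroupOf_sup (H1.commutator_le_left_of_le_normalizer hQP) inf_le_left,
      Subgroup.inf_subgroupOf_left]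
    exact sup_le ((hle.trans (H6.commutator_le_frattini hP)).trans le_sup_right) le_sup_left
  intro y hy
  rw [Subgroup.mem_centralizer_iff]
  intro x hx
  exact ((Subgroup.mem_centralizer_iff.mp (Subgroup.subgroupOf_eq_top.mp htop hx)) y hy).symm

/-- Let N be a normal subgroup of the finite group G such that G/N is a Frobenius group with kernel F and cyclic complement H, where the order of F is coprime to that of N and F is not contained in the image of C_G(N) in G/N. Then G has an element of order p·#H for some prime p dividing the order of N. (A standard tool in recognising groups by their element orders.) -/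
theorem result {G : Type*} [Group G] [Finite G] (N : Subgroup G) [N.Normal]
    (Fb Hb : Subgroup (G ⧸ N)) [Fb.Normal] (hHb : Cfsg.IsFrobeniusComplement Hb) (hker : Cfsg.frobeniusKernel Hb = (Fb : Set (G ⧸ N)))
    (hcyc : IsCyclic Hb) (hcop : (Nat.card Fb).Coprime (Nat.card N))
    (hnot : ¬ Fb ≤ (Subgroup.centralizer (N : Set G)).map (QuotientGroup.mk' N)) :
    ∃ p : ℕ, p.Prime ∧ p ∣ Nat.card N ∧ ∃ g : G, orderOf g = p * Nat.card Hb := by
  classical
  by_contra hne
  simp only [not_exists, not_and] at hne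
  set h := Nat.card Hb with hhdef
  have hh : 0 < h := Nat.card_pos
  have hcardF : Nat.card Fb = Hb.index := by
    rw [← H2.card_frobeniusKernel hHb, hker]
    rfl
  have hcopFH : (Nat.card Fb).Coprime h := hcardF ▸ (H2.coprime_card_index hHb).symm
  have hcomp : Subgroup.IsComplement' Fb Hb :=
    Subgroup.isComplement'_of_coprime (by rw [hcardF, Subgroup.index_mul_card]) hcopFH
  have hfpf := H2.fpf_of_frobenius hcomp hHb
  set π := QuotientGroup.mk' N with hπ
  set Fh := Fb.comap π with hFh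
  have hπs : Function.Surjective π := QuotientGroup.mk'_surjective N
  have hNF : N ≤ Fh := fun x hx => by
    rw [hFh, Subgroup.mem_comap, hπ, QuotientGroup.mk'_apply, (QuotientGroup.eq_one_iff x).mpr hx]
    exact Fb.one_mem
  suffices hall : ∀ q : ℕ, q.Prime → ∃ Q : Sylow q Fh, Q.1.map Fh.subtype ≤ N ⊔ Subgroup.centralizer (N : Set G) by
    apply hnot
    have hle : Fh ≤ N ⊔ Subgroup.centralizer (N : Set G) := by
      set W := (N ⊔ Subgroup.centralizer (N : Set G)).subgroupOf Fh with hW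
      suffices W = ⊤ from Subgroup.subgroupOf_eq_top.mp this
      rw [← Subgroup.index_eq_one]
      by_contra hne1
      obtain ⟨q, hq, hqd⟩ := Nat.exists_prime_and_dvd hne1
      haveI := Fact.mk hq
      obtain ⟨Q, hQ⟩ := hall q hq
      have : Q.1 ≤ W := fun x hx => hQ ⟨x, hx, rfl⟩
      exact Q.not_dvd_index (hqd.trans (Subgroup.index_dvd_of_le this))
    calc Fb = Fh.map π := (Subgroup.map_comap_eq_self_of_surjective hπs Fb).symm
      _ ≤ (N ⊔ Subgroup.centralizer (N : Set G)).map π := Subgroup.map_mono hle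
      _ = _ := by rw [Subgroup.map_sup, hπ, QuotientGroup.map_mk'_self, bot_sup_eq]
  intro q hq
  haveI := Fact.mk hq
  obtain ⟨Q0⟩ := (inferInstance : Nonempty (Sylow q Fh))
  refine ⟨Q0, ?_⟩
  set Q := Q0.1.map Fh.subtype with hQ
  have hQp : IsPGroup q Q := Q0.2.map _
  have hQF : Q ≤ Fh := Subgroup.map_subtype_le _
  by_cases hqN : q ∣ Nat.card N
  · -- then `Q` lies in `N`
    refine le_trans ?_ le_sup_left
    intro x hx
    have h1 : π x ∈ Fb := hQF hx
    obtain ⟨j, hj⟩ := (IsPGroup.iff_orderOf.mp hQp) ⟨x, hx⟩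
    rw [Subgroup.orderOf_mk] at hj
    have h2 : orderOf (π x) ∣ q ^ j := hj ▸ orderOf_map_dvd π x
    have h3 : orderOf (π x) ∣ Nat.card Fb := by rw [← Subgroup.orderOf_mk (π x) h1]; exact orderOf_dvd_natCard _
    have h4 : (Nat.card Fb).Coprime (q ^ j) := (Nat.Coprime.coprime_dvd_right hqN hcop).pow_right j
    have : orderOf (π x) = 1 := Nat.dvd_one.mp (h4.gcd_eq_one ▸ Nat.dvd_gcd h3 h2)
    rw [orderOf_eq_one_iff, hπ, QuotientGroup.mk'_apply, QuotientGroup.eq_one_iff] at this
    exact this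
  -- `Q` centralises a Sylow subgroup of `N` for every prime
  refine le_trans ?_ le_sup_right
  have hQsol : Group.IsSolvable Q := by
    have := hQp.isNilpotent
    infer_instance
  have hQN : (Nat.card Q).Coprime (Nat.card N) := by
    obtain ⟨k, hk⟩ := IsPGroup.iff_card.mp hQp
    rw [hk]
    exact (hq.coprime_iff_not_dvd.mpr hqN).pow_left k
  have hQnormN : Q ≤ Subgroup.normalizer (N : Set G) := Subgroup.normalizer_eq_top (H := N) ▸ le_top
  suffices hW : (Subgroup.centralizer (Q : Set G)).subgroupOf N = ⊤ by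
    intro y hy
    rw [Subgroup.mem_centralizer_iff]
    intro x hx
    exact ((Subgroup.mem_centralizer_iff.mp (Subgroup.subgroupOf_eq_top.mp hW hx)) y hy).symm
  rw [← Subgroup.index_eq_one]
  by_contra hne1
  obtain ⟨p, hp, hpd⟩ := Nat.exists_prime_and_dvd hne1
  haveI := Fact.mk hp
  obtain ⟨P0, hP0⟩ := H1.exists_invariant_sylow hQnormN hQN (Or.inl hQsol) p
  set P := P0.1.map N.subtype with hP
  have hPN : P ≤ N := Subgroup.map_subtype_le _
  set L := Subgroup.normalizer (P : Set G) with hL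
  have hLN : L ⊔ N = ⊤ := Sylow.normalizer_sup_eq_top P0
  -- `Q` is a Sylow subgroup of `Fh ⊓ L`
  set FL := (Fh ⊓ L).subgroupOf L with hFL
  haveI : FL.Normal := by
    rw [hFL, Subgroup.inf_subgroupOf_right]; infer_instance
  have hQFL : Q ≤ Fh ⊓ L := le_inf hQF hP0
  let QL : Subgroup FL := (Q.subgroupOf L).subgroupOf FL
  have hQLsyl : ∃ R : Sylow q FL, R.1 = QL := by
    have hQLp : IsPGroup q QL :=
      (hQp.comap_of_injective L.subtype L.subtype_injective).comap_of_injective FL.subtype FL.subtype_injective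
    obtain ⟨R, hR⟩ := hQLp.exists_le_sylow
    refine ⟨R, (Subgroup.eq_of_le_of_card_ge hR ?_).symm⟩
    have e1 : Nat.card QL = Nat.card Q := by
      rw [Nat.card_congr (Subgroup.subgroupOfEquivOfLe (H := Q.subgroupOf L) (K := FL) fun x hx => hQFL hx).toEquiv,
        Nat.card_congr (Subgroup.subgroupOfEquivOfLe hP0).toEquiv]
    rw [e1, hQ, Subgroup.card_map_of_injective Fh.subtype_injective]
    obtain ⟨k, hk⟩ := IsPGroup.iff_card.mp R.2
    rw [hk]
    refine Nat.le_of_dvd Nat.card_pos ?_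
    have h2 : q ^ k ∣ Nat.card Fh := by
      rw [← hk]
      refine (Subgroup.card_subgroup_dvd_card _).trans ?_
      rw [hFL, Nat.card_congr (Subgroup.subgroupOfEquivOfLe (inf_le_right : Fh ⊓ L ≤ L)).toEquiv]
      exact Subgroup.card_dvd_of_le inf_le_left
    exact Q0.pow_dvd_card_of_pow_dvd_card h2
  obtain ⟨R, hR⟩ := hQLsyl
  have hRsup := Sylow.normalizer_sup_eq_top R
  rw [hR, Subgroup.map_subgroupOf_eq_of_le (show Q.subgroupOf L ≤ FL from fun x hx => hQFL hx)] at hRsup
  -- an element of order `h` in the normaliser, lifting a generator of a complement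
  obtain ⟨y, hy⟩ := (Subgroup.isCyclic_iff_exists_zpowers_eq_top Hb).mp hcyc
  have hyH : y ∈ Hb := hy ▸ Subgroup.mem_zpowers y
  have hyord : orderOf y = h := by rw [← Nat.card_zpowers, hy, hhdef]
  obtain ⟨y₀, rfl⟩ := hπs y
  obtain ⟨l, hl, n, hn, hln⟩ : ∃ l ∈ L, ∃ n ∈ N, l * n = y₀ := by
    have : y₀ ∈ L ⊔ N := hLN ▸ Subgroup.mem_top _
    rwa [Subgroup.mem_sup_of_normal_right] at this
  obtain ⟨r, hr, f, hf, hrf⟩ : ∃ r ∈ Subgroup.normalizer ((Q.subgroupOf L : Subgroup L) : Set L), ∃ f ∈ FL, r * f = (⟨l, hl⟩ : L) := by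
    have : (⟨l, hl⟩ : L) ∈ Subgroup.normalizer ((Q.subgroupOf L : Subgroup L) : Set L) ⊔ FL := hRsup ▸ Subgroup.mem_top _
    rwa [Subgroup.mem_sup_of_normal_right] at this
  set g : G := (r : G) with hg
  have hgL : g ∈ L := r.2
  have hgQ : g ∈ Subgroup.normalizer (Q : Set G) := by
    rw [Subgroup.mem_normalizer_iff]
    intro x
    constructor
    · intro hx
      exact (Subgroup.mem_normalizer_iff.mp hr ⟨x, hP0 hx⟩).mp hx
    · intro hx
      have hxL : g * x * g⁻¹ ∈ L := hP0 hx
      have hxL' : x ∈ L := by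
        have := L.mul_mem (L.mul_mem (L.inv_mem hgL) hxL) hgL
        simpa [mul_assoc] using this
      exact (Subgroup.mem_normalizer_iff.mp hr ⟨x, hxL'⟩).mpr hx
  -- image of `g`
  have hπn : π n = 1 := by rw [hπ, QuotientGroup.mk'_apply, QuotientGroup.eq_one_iff]; exact hn
  have hfF : π (f : G) ∈ Fb := hf.1
  have hgy : π g = π y₀ * (π (f : G))⁻¹ := by
    rw [← hln, map_mul, hπn, mul_one, ← show g * (f : G) = l from congrArg Subtype.val hrf, map_mul, mul_inv_cancel_right]
  have hmodF : ∀ k : ℕ, (π g) ^ k ∈ Fb → h ∣ k := by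
    intro k hk
    have h1 : ((π g : G ⧸ N) : (G ⧸ N) ⧸ Fb) = ((π y₀ : G ⧸ N) : (G ⧸ N) ⧸ Fb) := by
      rw [hgy, QuotientGroup.mk_mul, (QuotientGroup.eq_one_iff _).mpr (Fb.inv_mem hfF), mul_one]
    have h2 : (π y₀) ^ k ∈ Fb := by
      rw [← QuotientGroup.eq_one_iff, QuotientGroup.mk_pow, ← h1, ← QuotientGroup.mk_pow, QuotientGroup.eq_one_iff]
      exact hk
    rw [← hyord]
    exact orderOf_dvd_of_pow_eq_one (H2.complement_inf hcomp h2 (Hb.pow_mem hyH k))
  have hfpf' : ∀ i, 0 < i → i < h → ∀ a ∈ Fb, a * (π g) ^ i = (π g) ^ i * a → a = 1 := by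
    intro i hi hih a ha hc
    have hnF : (π g) ^ i ∉ Fb := fun hmem => absurd (Nat.le_of_dvd hi (hmodF i hmem)) (not_le.mpr hih)
    rw [← SetLike.mem_coe, ← hker] at hnF
    simp only [Cfsg.frobeniusKernel, Set.mem_ofPred_eq, not_or, not_forall, not_not] at hnF
    obtain ⟨hne1, x, hx⟩ := hnF
    rw [H2.mem_conj_smul] at hx
    have hu : x⁻¹ * (π g) ^ i * x ≠ 1 := by
      intro h0; apply hne1
      have : (π g) ^ i = x * (x⁻¹ * (π g) ^ i * x) * x⁻¹ := by group
      rw [this, h0]; group
    have hca : x⁻¹ * a * x ∈ Fb ⊓ Subgroup.centralizer {x⁻¹ * (π g) ^ i * x} := by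
      refine ⟨?_, ?_⟩
      · have := (inferInstance : Fb.Normal).conj_mem a ha x⁻¹
        rwa [inv_inv] at this
      · change x⁻¹ * a * x ∈ Subgroup.centralizer {x⁻¹ * (π g) ^ i * x}
        rw [Subgroup.mem_centralizer_singleton_iff]
        calc x⁻¹ * a * x * (x⁻¹ * (π g) ^ i * x) = x⁻¹ * (a * (π g) ^ i) * x := by group
          _ = x⁻¹ * ((π g) ^ i * a) * x := by rw [hc]
          _ = _ := by group
    rw [hfpf _ hx hu, Subgroup.mem_bot] at hca
    have : a = x * (x⁻¹ * a * x) * x⁻¹ := by group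
    rw [this, hca]; group
  have hgord : orderOf g = h := by
    have hπh : orderOf (π g) = h := by
      refine Nat.dvd_antisymm ?_ (hmodF _ (by rw [pow_orderOf_eq_one]; exact Fb.one_mem))
      by_cases hnF : π g ∈ Fb
      · have := hmodF 1 (by rwa [pow_one])
        have h1 : h = 1 := Nat.dvd_one.mp this
        exact absurd (Subgroup.eq_bot_of_card_eq Hb h1) hHb.1
      · rw [← SetLike.mem_coe, ← hker] at hnF
        simp only [Cfsg.frobeniusKernel, Set.mem_ofPred_eq, not_or, not_forall, not_not] at hnF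
        obtain ⟨-, x, hx⟩ := hnF
        rw [← Subgroup.orderOf_mk (π g) hx, hhdef,
          show Nat.card Hb = Nat.card ↥(MulAut.conj x • Hb) from Nat.card_congr (Subgroup.equivSMul _ Hb).toEquiv]
        exact orderOf_dvd_natCard _
    by_contra hne2
    have hdvd : h ∣ orderOf g := hπh ▸ orderOf_map_dvd π g
    obtain ⟨m, hm⟩ := hdvd
    have hgh : g ^ h ∈ N := by
      rw [← QuotientGroup.eq_one_iff, QuotientGroup.mk_pow, ← hπh]
      exact pow_orderOf_eq_one (π g)
    have hm1 : m ≠ 1 := fun h0 => hne2 (by rw [hm, h0, mul_one])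
    have hmN : m ∣ Nat.card N := by
      have e : orderOf (g ^ h) = m := by
        rw [orderOf_pow, hm, Nat.gcd_eq_right (Dvd.intro m rfl), Nat.mul_div_cancel_left _ hh]
      rw [← e, ← Subgroup.orderOf_mk (g ^ h) hgh]
      exact orderOf_dvd_natCard _
    obtain ⟨p', hp', hpm⟩ := Nat.exists_prime_and_dvd hm1
    obtain ⟨m', rfl⟩ := hpm
    have hm0 : 0 < m' := by
      rcases Nat.eq_zero_or_pos m' with rfl | h0
      · rw [mul_zero, mul_zero] at hm; exact absurd hm (orderOf_pos g).ne'
      · exact h0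
    refine hne p' hp' ((dvd_mul_right p' m').trans hmN) (g ^ m') ?_
    rw [orderOf_pow' g hm0.ne', hm, show h * (p' * m') = m' * (p' * h) by ring,
      Nat.gcd_eq_right (Dvd.intro (p' * h) rfl), Nat.mul_div_cancel_left _ hm0]
  rcases centralize_or_order N P Q p (P0.2.map _) hPN hQsol
      (Nat.Coprime.coprime_dvd_right (Subgroup.card_dvd_of_le hPN) hQN) hP0 g hgL hgQ h hh hgord
      (fun k hk => hmodF k (by rw [← map_pow, hπ, QuotientGroup.mk'_apply, (QuotientGroup.eq_one_iff _).mpr hk]; exact Fb.one_mem))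
      (fun i hi hih a ha hc => by
        have h1 : π a = 1 := hfpf' i hi hih _ (hQF ha) (by rw [← map_pow, ← map_mul, ← map_mul, hc])
        rw [hπ, QuotientGroup.mk'_apply, QuotientGroup.eq_one_iff] at h1
        have h2 : orderOf a ∣ Nat.card Q := by rw [← Subgroup.orderOf_mk a ha]; exact orderOf_dvd_natCard _
        have h3 : orderOf a ∣ Nat.card N := by rw [← Subgroup.orderOf_mk a h1]; exact orderOf_dvd_natCard _
        exact orderOf_eq_one_iff.mp (Nat.dvd_one.mp (hQN.gcd_eq_one ▸ Nat.dvd_gcd h2 h3)))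
    with hcen | ⟨z, hz⟩
  · refine P0.not_dvd_index (hpd.trans (Subgroup.index_dvd_of_le ?_))
    intro x hx
    refine Subgroup.mem_centralizer_iff.mpr fun y hy => ?_
    exact ((Subgroup.mem_centralizer_iff.mp (hcen hy)) (x : G) ⟨x, hx, rfl⟩).symm
  · have hpN : p ∣ Nat.card N := hpd.trans (Subgroup.index_dvd_card _)
    exact hne p hp hpN z hz

end Cfsg.Agent.S3703
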