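import Cfsg.Statements.S3704

set_option autoImplicit false
open Cfsg

namespace Cfsg.Agent.S3704

open MulAction

/-- If `M` has zero row and column sums and `Mᵀ M = a (n I - J)` with `a ≠ 0`, then `Mᵀ N = b (n I - J)`
determines `N` up to a scalar among matrices with zero column sums. -/
theorem matrix_rigid {ι : Type*} [Fintype ι] [DecidableEq ι] (M N : Matrix ι ι ℚ) (a b : ℚ) (ha : a ≠ 0)
    (hcolM : ∀ x, ∑ z, M z x = 0) (hcolN : ∀ x, ∑ z, N z x = 0)
    (hM : Matrix.transpose M * M = a • ((Fintype.card ι : ℚ) • (1 : Matrix ι ι ℚ) - Matrix.of fun _ _ => 1))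
    (hN : Matrix.transpose M * N = b • ((Fintype.card ι : ℚ) • (1 : Matrix ι ι ℚ) - Matrix.of fun _ _ => 1)) :
    a • N = b • M := by
  rcases isEmpty_or_nonempty ι with hι | hι
  · exact Subsingleton.elim _ _
  set n : ℚ := (Fintype.card ι : ℚ)
  have hn : n ≠ 0 := by simp [n]
  set J : Matrix ι ι ℚ := Matrix.of fun _ _ => 1 with hJ
  have hJJ : J * J = n • J := by
    ext i j; simp [hJ, Matrix.mul_apply, n]
  have hJt : Matrix.transpose J = J := by ext i j; simp [hJ]
  have hJM : ∀ X : Matrix ι ι ℚ, (∀ x, ∑ z, X z x = 0) → J * X = 0 := by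
    intro X hX; ext i j; simp [hJ, Matrix.mul_apply, hX]
  have hMJ : Matrix.transpose M * J = 0 := by
    have := congrArg Matrix.transpose (hJM M hcolM)
    rwa [Matrix.transpose_mul, hJt, Matrix.transpose_zero] at this
  set X := a • N - b • M with hX
  suffices X = 0 from sub_eq_zero.mp this
  have h1 : Matrix.transpose (M + J) * X = 0 := by
    rw [Matrix.transpose_add, hJt, add_mul, hX, mul_sub, mul_smul_comm, mul_smul_comm, hM, hN, mul_sub, mul_smul_comm, mul_smul_comm,
      hJM N hcolN, hJM M hcolM]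
    simp [smul_smul, mul_comm a b]
  -- `(M + J)ᵀ (M + J)` is invertible
  have hY : Matrix.transpose (M + J) * (M + J) = (a * n) • 1 + (n - a) • J := by
    rw [Matrix.transpose_add, hJt, add_mul, mul_add, mul_add, hM, hMJ, hJM M hcolM, hJJ]
    simp only [smul_sub, sub_smul, smul_smul]
    abel
  have han : a * n ≠ 0 := mul_ne_zero ha hn
  have h2 : Matrix.transpose (M + J) * ((M + J) * ((1 / (a * n)) • 1 + (-(n - a) / ((a * n) * (n * n))) • J)) = 1 := by
    rw [← mul_assoc, hY]
    simp only [mul_add, add_mul, smul_mul_assoc, mul_smul_comm, one_mul, mul_one, smul_smul, hJJ, smul_add, one_div]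
    rw [inv_mul_cancel₀ han, one_smul, add_assoc, ← add_smul, ← add_smul, add_eq_left]
    convert zero_smul ℚ J using 2
    field_simp
    ring
  have h3 := mul_eq_one_comm.mp h2
  calc X = _ * Matrix.transpose (M + J) * X := by rw [h3, one_mul]
    _ = 0 := by rw [mul_assoc, h1, mul_zero]

/-- Let G be a finite group acting faithfully and 2-transitively on a finite set Ω of size n, and let H be a subgroup of index n in G which is not transitive on Ω and fixes no point of Ω. Then H has exactly two orbits on Ω. -/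
theorem result {G Ω : Type*} [Group G] [Finite G] [MulAction G Ω] [FaithfulSMul G Ω] [Finite Ω] (h2 : MulAction.IsMultiplyPretransitive G Ω 2) (H : Subgroup G) (hidx : H.index = Nat.card Ω) (hnt : ¬ MulAction.IsPretransitive H Ω) (hfix : ∀ a : Ω, ∃ h : H, h • a ≠ a) : Nat.card (MulAction.orbitRel.Quotient H Ω) = 2 := by
  classical
  cases nonempty_fintype G
  cases nonempty_fintype Ω
  haveI : Fintype (G ⧸ H) := Fintype.ofFinite _
  haveI htrans : IsPretransitive G Ω := by
    have := h2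
    exact isPretransitive_of_is_two_pretransitive
  have hΩ : Nonempty Ω := by
    by_contra h
    rw [not_nonempty_iff] at h
    exact hnt ⟨fun x => h.elim x⟩
  obtain ⟨e⟩ : Nonempty (Ω ≃ G ⧸ H) := ⟨Fintype.equivOfCardEq (by
    rw [← Nat.card_eq_fintype_card, ← Nat.card_eq_fintype_card, ← hidx, Subgroup.index_eq_card])⟩
  let orb : Ω → orbitRel.Quotient H Ω := Quotient.mk''
  have horb : ∀ (k : G), k ∈ H → ∀ x, orb (k • x) = orb x := fun k hk x => Quotient.eq''.mpr ⟨⟨k, hk⟩, rfl⟩
  -- two orbits at least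
  have hge : 1 < Nat.card (orbitRel.Quotient H Ω) := by
    rw [Finite.one_lt_card_iff_nontrivial]
    by_contra hsub
    rw [not_nontrivial_iff_subsingleton] at hsub
    refine hnt ⟨fun x y => ?_⟩
    obtain ⟨k, hk⟩ := Quotient.exact' (Subsingleton.elim (orb y) (orb x))
    exact ⟨k, hk⟩
  refine le_antisymm ?_ hge
  by_contra hlt
  push Not at hlt
  rw [Nat.card_eq_fintype_card] at hlt
  obtain ⟨q₁, q₂, q₃, h12, h13, h23⟩ := Fintype.two_lt_card_iff.mp hlt
  let Inv : (Ω → ℚ) → Prop := fun f => (∀ k ∈ H, ∀ x, f (k • x) = f x) ∧ ∑ x, f x = 0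
  let Mf : (Ω → ℚ) → Matrix Ω Ω ℚ := fun f => Matrix.of fun z x => f ((e z).out⁻¹ • x)
  have hMrep : ∀ f, Inv f → ∀ (z : Ω) (g : G), e z = (g : G ⧸ H) → ∀ x, Mf f z x = f (g⁻¹ • x) := by
    intro f hf z g hg x
    have hmem : (e z).out⁻¹ * g ∈ H := by
      rw [← QuotientGroup.eq, QuotientGroup.out_eq', hg]
    obtain ⟨k, hk, hk'⟩ : ∃ k ∈ H, g⁻¹ = k * (e z).out⁻¹ :=
      ⟨((e z).out⁻¹ * g)⁻¹, H.inv_mem hmem, by group⟩
    change f ((e z).out⁻¹ • x) = _
    rw [hk', mul_smul, hf.1 k hk]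
  have hshift : ∀ f, Inv f → ∀ (γ : G) (z x : Ω), Mf f (e.symm (γ • e z)) (γ • x) = Mf f z x := by
    intro f hf γ z x
    have hq : e (e.symm (γ • e z)) = ((γ * (e z).out : G) : G ⧸ H) := by
      rw [Equiv.apply_symm_apply]
      conv_lhs => rw [← QuotientGroup.out_eq' (e z)]
      rfl
    rw [hMrep f hf _ (γ * (e z).out) hq]
    change _ = f ((e z).out⁻¹ • x)
    rw [mul_inv_rev, ← mul_smul, mul_assoc, inv_mul_cancel, mul_one]
  have hrow : ∀ f, Inv f → ∀ z, ∑ x, Mf f z x = 0 := by
    intro f hf z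
    rw [← hf.2]
    exact Equiv.sum_comp (MulAction.toPerm (e z).out⁻¹) f
  have hcol : ∀ f, Inv f → ∀ x, ∑ z, Mf f z x = 0 := by
    intro f hf x
    have hall : ∀ γ : G, ∑ z, Mf f z (γ • x) = ∑ z, Mf f z x := by
      intro γ
      rw [← Equiv.sum_comp (e.trans ((MulAction.toPerm γ).trans e.symm)) (fun z => Mf f z (γ • x))]
      exact Finset.sum_congr rfl fun z _ => hshift f hf γ z x
    have h0 : ∑ y, ∑ z, Mf f z y = 0 := by rw [Finset.sum_comm]; simp [hrow f hf]
    have hconst : ∀ y, ∑ z, Mf f z y = ∑ z, Mf f z x := by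
      intro y
      obtain ⟨γ, rfl⟩ := exists_smul_eq G x y
      exact hall γ
    rw [Finset.sum_congr rfl fun y _ => hconst y, Finset.sum_const, smul_eq_zero] at h0
    exact h0.resolve_left (by simp)
  have hprod : ∀ f g, Inv f → Inv g → ∃ c : ℚ, Matrix.transpose (Mf f) * Mf g =
      c • ((Fintype.card Ω : ℚ) • (1 : Matrix Ω Ω ℚ) - Matrix.of fun _ _ => 1) := by
    intro f g hf hg
    set P := Matrix.transpose (Mf f) * Mf g with hP
    have hinv : ∀ (γ : G) x y, P (γ • x) (γ • y) = P x y := by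
      intro γ x y
      simp only [hP, Matrix.mul_apply, Matrix.transpose_apply]
      rw [← Equiv.sum_comp (e.trans ((MulAction.toPerm γ).trans e.symm))]
      refine Finset.sum_congr rfl fun z _ => ?_
      exact congrArg₂ (· * ·) (hshift f hf γ z x) (hshift g hg γ z y)
    have hsum : ∀ x, ∑ y, P x y = 0 := by
      intro x
      simp only [hP, Matrix.mul_apply, Matrix.transpose_apply]
      rw [Finset.sum_comm]
      simp [← Finset.mul_sum, hrow g hg]
    obtain ⟨x₀, y₀, hxy⟩ : ∃ x y : Ω, x ≠ y := by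
      by_contra h
      push Not at h
      exact hnt ⟨fun x y => ⟨1, by rw [one_smul]; exact h x y⟩⟩
    have hoff : ∀ x y, x ≠ y → P x y = P x₀ y₀ := by
      intro x y h
      obtain ⟨γ, rfl, rfl⟩ := (is_two_pretransitive_iff.mp h2) hxy h
      exact hinv γ _ _
    refine ⟨-P x₀ y₀, ?_⟩
    ext x y
    by_cases h : x = y
    · subst h
      have := hsum x
      rw [← Finset.sum_erase_add _ _ (Finset.mem_univ x), Finset.sum_congr rfl fun y hy => hoff x y (Finset.ne_of_mem_erase hy).symm] at this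
      simp only [Finset.sum_const, Finset.card_erase_of_mem (Finset.mem_univ x), Finset.card_univ, nsmul_eq_mul] at this
      rw [Nat.cast_sub Fintype.card_pos, Nat.cast_one] at this
      simp
      linarith
    · simp [hoff x y h, h]
  have key : ∀ f g, Inv f → Inv g → f ≠ 0 → ∃ a b : ℚ, a ≠ 0 ∧ ∀ x, a * g x = b * f x := by
    intro f g hf hg hne
    obtain ⟨a, ha⟩ := hprod f f hf hf
    obtain ⟨b, hb⟩ := hprod f g hf hg
    have hzx : ∀ (u : Ω → ℚ), Inv u → ∀ x, Mf u (e.symm ((1 : G) : G ⧸ H)) x = u x := fun u hu x => by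
      rw [hMrep u hu _ 1 (by rw [Equiv.apply_symm_apply]), inv_one, one_smul]
    have hane : a ≠ 0 := by
      rintro rfl
      rw [zero_smul] at ha
      apply hne
      funext x
      have h0 := congrFun (congrFun ha x) x
      simp only [Matrix.mul_apply, Matrix.transpose_apply, Matrix.zero_apply] at h0
      have := (Finset.sum_eq_zero_iff_of_nonneg fun z _ => mul_self_nonneg (Mf f z x)).mp h0 (e.symm ((1 : G) : G ⧸ H)) (Finset.mem_univ _)
      rw [hzx f hf, mul_self_eq_zero] at this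
      exact this
    have := matrix_rigid (Mf f) (Mf g) a b hane (hcol f hf) (hcol g hg) ha hb
    refine ⟨a, b, hane, fun x => ?_⟩
    have h0 := congrFun (congrFun this (e.symm ((1 : G) : G ⧸ H))) x
    simp only [Matrix.smul_apply, smul_eq_mul, hzx f hf, hzx g hg] at h0
    exact h0
  -- three orbits give two independent functions
  let cnt : orbitRel.Quotient H Ω → ℚ := fun q => ((Finset.univ.filter fun x => orb x = q).card : ℚ)
  let fn : orbitRel.Quotient H Ω → orbitRel.Quotient H Ω → Ω → ℚ :=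
    fun q q' x => (if orb x = q then cnt q' else 0) - (if orb x = q' then cnt q else 0)
  have hfn : ∀ q q', Inv (fn q q') := by
    intro q q'
    refine ⟨fun k hk x => by simp only [fn, horb k hk x], ?_⟩
    simp only [fn, Finset.sum_sub_distrib, ← Finset.sum_filter, Finset.sum_const, nsmul_eq_mul, cnt]
    ring
  obtain ⟨x₁, hx₁⟩ := Quotient.exists_rep q₁
  obtain ⟨x₃, hx₃⟩ := Quotient.exists_rep q₃
  have hx₁' : orb x₁ = q₁ := hx₁
  have hx₃' : orb x₃ = q₃ := hx₃
  have hpos : ∀ q, cnt q ≠ 0 := by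
    intro q
    obtain ⟨x, hx⟩ := Quotient.exists_rep q
    simp only [cnt, ne_eq, Nat.cast_eq_zero, Finset.card_eq_zero]
    exact Finset.Nonempty.ne_empty ⟨x, Finset.mem_filter.mpr ⟨Finset.mem_univ x, hx⟩⟩
  have hne : fn q₁ q₂ ≠ 0 := by
    intro h
    have := congrFun h x₁
    simp [fn, hx₁', h12, hpos q₂] at this
  obtain ⟨a, b, ha, hab⟩ := key _ (fn q₁ q₃) (hfn q₁ q₂) (hfn q₁ q₃) hne
  have := hab x₃
  simp [fn, hx₃', h13.symm, h23.symm, ha, hpos q₁] at this

end Cfsg.Agent.S3704
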