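import Cfsg.Statements.S3706
import Cfsg.Agent.H13.Ito.FromIndex
import Cfsg.Agent.H13.ONan.Main
import Cfsg.Agent.H64.ONan.Endgame

set_option autoImplicit false
open Cfsg

namespace Cfsg.Agent.S3706

/-- Let G be a finite group acting faithfully and 2-transitively on a finite set Ω of size n, and let H be a subgroup of index n in G which is not transitive on Ω and fixes no point of Ω. Suppose H acts unfaithfully on one of its orbits: some non-identity element of H fixes every point of that orbit. Then there are an integer m ≥ 2 and a finite field F with #Ω = (#F^(m+1) − 1)/(#F − 1), and G has a normal subgroup isomorphic to PSL_{m+1}(F) whose centralizer in G is trivial (so that G lies between PSL_{m+1}(F) and its automorphism group). -/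
theorem result {G Ω : Type*} [Group G] [Finite G] [MulAction G Ω] [FaithfulSMul G Ω] [Finite Ω] (h2 : MulAction.IsMultiplyPretransitive G Ω 2) (H : Subgroup G) (hidx : H.index = Nat.card Ω) (hnt : ¬ MulAction.IsPretransitive H Ω) (hfix : ∀ a : Ω, ∃ h : H, h • a ≠ a) (hunf : ∃ a : Ω, ∃ h : H, h ≠ 1 ∧ ∀ b ∈ MulAction.orbit H a, h • b = b) : ∃ (m : ℕ) (F : Type) (_ : Field F) (_ : Fintype F), 2 ≤ m ∧ Nat.card Ω = (Fintype.card F ^ (m + 1) - 1) / (Fintype.card F - 1) ∧ ∃ N : Subgroup G, N.Normal ∧ Nonempty (N ≃* Matrix.ProjectiveSpecialLinearGroup (Fin (m + 1)) F) ∧ Subgroup.centralizer (N : Set G) = ⊥ := by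
  classical
  haveI := Fintype.ofFinite Ω
  haveI := Fintype.ofFinite (G ⧸ H)
  obtain ⟨a, h, hh1, hhfix⟩ := hunf
  obtain ⟨S, hS⟩ := H13.Ito.exists_sym h2 H hidx hnt a (hfix a)
  obtain ⟨h2', hfs⟩ := H64.ONan.cosets_action h2 H hidx hnt
  haveI := hfs
  have hB : ∀ g : G, g • ((1 : G) : G ⧸ H) = ((1 : G) : G ⧸ H) ↔ g ∈ H := fun g => by
    rw [← MulAction.mem_stabilizer_iff, MulAction.stabilizer_quotient]
  have hmem : ∀ z, z ∈ S.pts ((1 : G) : G ⧸ H) ↔ z ∈ MulAction.orbit H a := fun z => by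
    rw [hS, H13.Ito.mem_orbitPts_one]
  set K := S.axial ((1 : G) : G ⧸ H) with hK
  have hKH : K ≤ H := fun g hg => (hB g).1 (S.axial_smul_block hg)
  haveI hKn : (K.subgroupOf H).Normal := ⟨fun c hc g => by
    have h1 := S.conj_axial (g : G) (Subgroup.mem_subgroupOf.1 hc)
    rw [(hB g).2 g.2] at h1
    exact Subgroup.mem_subgroupOf.2 h1⟩
  have hKne : K.subgroupOf H ≠ ⊥ := fun h0 => hh1 (by
    have h1 : h ∈ K.subgroupOf H := Subgroup.mem_subgroupOf.2
      (S.mem_axial.2 fun z hz => hhfix z ((hmem z).1 hz))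
    rwa [h0, Subgroup.mem_bot] at h1)
  let e := Subgroup.subgroupOfEquivOfLe hKH
  obtain ⟨N, hN, hN1, hsol, hNle⟩ : ∃ N : Subgroup H, N.Normal ∧ N ≠ ⊥ ∧ Group.IsSolvable N ∧
      N ≤ K.subgroupOf H := by
    rcases S.solvable_or_fitting h2' _ (fun q => by
      obtain ⟨g, hg⟩ := hfix q
      exact ⟨g, (hB g).2 g.2, hg⟩) with hsol | hfit
    · exact ⟨_, hKn, hKne, (haveI := hsol; Group.isSolvable_of_isSolvable_injective (f := e.toMonoidHom) e.injective), le_rfl⟩
    · haveI : (Cfsg.fittingSubgroup ↥(K.subgroupOf H)).Characteristic :=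
        H1.fittingSubgroup_characteristic _
      haveI := H1.isNilpotent_fittingSubgroup ↥(K.subgroupOf H)
      have hne : Cfsg.fittingSubgroup ↥(K.subgroupOf H) ≠ ⊥ := fun h0 => by
        refine hfit ?_
        rw [eq_bot_iff]
        have hle := H1.map_fittingSubgroup_le_of_surjective e.symm.toMonoidHom e.symm.surjective
        rw [h0, le_bot_iff, Subgroup.map_eq_bot_iff_of_injective _ e.symm.injective] at hle
        exact hle.le
      refine ⟨(Cfsg.fittingSubgroup ↥(K.subgroupOf H)).map (K.subgroupOf H).subtype,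
        ConjAct.normal_of_characteristic_of_normal, ?_, ?_, Subgroup.map_subtype_le _⟩
      · rw [ne_eq, Subgroup.map_eq_bot_iff_of_injective _ (Subgroup.subtype_injective _)]
        exact hne
      · exact Group.isSolvable_of_surjective (f := MulEquiv.toMonoidHom
          ((Cfsg.fittingSubgroup ↥(K.subgroupOf H)).equivMapOfInjective _
            (Subgroup.subtype_injective _))) (MulEquiv.surjective _)
  have hNfix : ∃ b : Ω, ∀ x ∈ N, x • b = b := ⟨a, fun x hx =>
    S.mem_axial.1 (Subgroup.mem_subgroupOf.1 (hNle hx)) a ((hmem a).2 (MulAction.mem_orbit_self a))⟩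
  obtain ⟨p, hp, ⟨C⟩⟩ := H64.ONan.exists_conf_solvable h2 H hidx hnt hfix N hN hN1 hsol hNfix
  obtain ⟨g, hg⟩ := hfix a
  have hlt : 1 < Nat.card (G ⧸ H) := by
    rw [← H.index_eq_card, hidx]
    exact Finite.one_lt_card_iff_nontrivial.2 ⟨⟨_, _, hg⟩⟩
  haveI := Finite.one_lt_card_iff_nontrivial.1 hlt
  exact H64.ONan.MainConcl.transfer (X := G ⧸ H) (C.main hp (exists_pair_ne _))
    (H.index_eq_card.symm.trans hidx)

end Cfsg.Agent.S3706
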