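import Cfsg.Statements.S3708
import Cfsg.Agent.H41.Phan.Pair
import Cfsg.Agent.H70.Phan.AutTorus

set_option autoImplicit false
open Cfsg

namespace Cfsg.Agent.S3708

/-- Phan's recognition of unitary groups. Let F be a finite field with q² elements, q > 4, and n ≥ 2. Let G be a group generated by subgroups U_0, …, U_{n−1}, each isomorphic to the special unitary group SU(2, q²) (determinant-one isometries of the standard Hermitian form in two variables over F), and let D_i ≤ U_i be cyclic subgroups of order q + 1. Suppose that U_i and U_j commute elementwise whenever the indices differ by at least 2, that the subgroup generated by U_i and U_{i+1} is isomorphic to SU(3, q²) for each i, and that D_i and D_j commute elementwise for all i, j. Then G is a homomorphic image of SU(n+1, q²). (Generation of G by the U_i is part of the hypothesis; G is not assumed finite.) -/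
theorem result {G : Type*} [Group G] (n : ℕ) (hn : 2 ≤ n)
    (F : Type*) [Field F] [Fintype F] (q : ℕ) (hq : 4 < q) (hF : Fintype.card F = q ^ 2)
    (U : Fin n → Subgroup G) (e : ∀ i, ↥(Cfsg.SU 2 F q) ≃* ↥(U i)) (hgen : ⨆ i, U i = ⊤)
    (D : Fin n → Subgroup G) (hD : ∀ i, D i ≤ U i ∧ IsCyclic ↥(D i) ∧ Nat.card ↥(D i) = q + 1)
    (h1 : ∀ i j : Fin n, (i : ℕ) + 2 ≤ j → ∀ x ∈ U i, ∀ y ∈ U j, x * y = y * x)
    (h2 : ∀ i j : Fin n, (i : ℕ) + 1 = j → Nonempty (↥(U i ⊔ U j) ≃* ↥(Cfsg.SU 3 F q)))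
    (h3 : ∀ i j : Fin n, i ≠ j → ∀ x ∈ D i, ∀ y ∈ D j, x * y = y * x) :
    ∃ f : ↥(Cfsg.SU (n + 1) F q) →* G, Function.Surjective f := by
  classical
  rcases eq_or_lt_of_le hn with rfl | hn3
  · obtain ⟨ε⟩ := h2 0 1 rfl
    have htop : U 0 ⊔ U 1 = ⊤ := by
      refine top_unique (hgen ▸ iSup_le fun i => ?_)
      fin_cases i
      exacts [le_sup_left, le_sup_right]
    refine ⟨(U 0 ⊔ U 1).subtype.comp ε.symm.toMonoidHom, MonoidHom.range_eq_top.1 ?_⟩
    rw [MonoidHom.range_comp, MonoidHom.range_eq_top.2 ε.symm.surjective,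
      ← MonoidHom.range_eq_map, Subgroup.range_subtype, htop]
  let U' : ℕ → Subgroup G := fun a => if h : a < n then U ⟨a, h⟩ else ⊥
  have hU' : ∀ i : Fin n, U' i.1 = U i := fun i => by simp [U', i.2]
  refine H41.Phan.weak hF (N := n + 1) (by omega) (fun α hα => H70.Phan.aut_torus hF α hα)
    (by omega) U' (fun i j hij hj x hx y hy => ?_) (fun a ha => ?_) (fun H hH => ?_)
  · rw [hU' ⟨i, by omega⟩] at hx
    rw [hU' ⟨j, by omega⟩] at hy
    exact h1 _ _ hij x hx y hy
  · obtain ⟨ε⟩ := h2 ⟨a, by omega⟩ ⟨a + 1, by omega⟩ rfl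
    obtain ⟨Φ, hker, hA, hB⟩ := H41.Phan.hom_of_pair hF (e ⟨a, by omega⟩) (e ⟨a + 1, by omega⟩)
      ε (hD _) (hD _) (h3 _ _ (by simp [Fin.ext_iff]))
    exact H41.Phan.stdPair_of_hom hF ha U' Φ hker (hA.trans (hU' ⟨a, by omega⟩).symm)
      (hB.trans (hU' ⟨a + 1, by omega⟩).symm)
  · exact top_unique (hgen ▸ iSup_le fun i => hU' i ▸ hH i.1 (by have := i.2; omega))

end Cfsg.Agent.S3708
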