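import Cfsg.Statements.S3709
import Cfsg.Agent.H41.Phan.StdPairs
import Cfsg.Agent.H70.Phan.AutTorus

set_option autoImplicit false
open Cfsg

namespace Cfsg.Agent.S3709

/-- Recognition of unitary groups from a weak Phan system. Let F be a finite field with q² elements, q > 3, and n ≥ 3. Let G be a group with subgroups U_0, …, U_{n−1}, each isomorphic to SU(2, q²), and, for each pair of consecutive indices, a subgroup V_{i,i+1} in which U_i and U_{i+1} form a standard pair (some isomorphism from SU(3, q²), or from its central quotient PSU(3, q²), onto V_{i,i+1} carries the two block-diagonal SU(2, q²) subgroups, or their images, onto U_i and U_{i+1}). Suppose that U_i and U_j commute elementwise whenever the indices differ by at least 2, and that G is generated by the U_i together with the V_{i,i+1}. Then G is a homomorphic image of SU(n+1, q²). (G is not assumed finite.) -/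
theorem result {G : Type*} [Group G] (n : ℕ) (hn : 3 ≤ n)
    (F : Type*) [Field F] [Fintype F] (q : ℕ) (hq : 3 < q) (hF : Fintype.card F = q ^ 2)
    (U : Fin n → Subgroup G) (e : ∀ i, ↥(Cfsg.SU 2 F q) ≃* ↥(U i))
    (V : Fin n → Fin n → Subgroup G)
    (h1 : ∀ i j : Fin n, (i : ℕ) + 2 ≤ j → ∀ x ∈ U i, ∀ y ∈ U j, x * y = y * x)
    (h2 : ∀ i j : Fin n, (i : ℕ) + 1 = j → Cfsg.IsStandardUnitaryPair (V i j) (U i) (U j) F q)
    (hgen : (⨆ i, U i) ⊔ (⨆ (i : Fin n) (j : Fin n) (_ : (i : ℕ) + 1 = j), V i j) = ⊤) :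
    ∃ f : ↥(Cfsg.SU (n + 1) F q) →* G, Function.Surjective f := by
  classical
  let U' : ℕ → Subgroup G := fun a => if h : a < n then U ⟨a, h⟩ else ⊥
  have hU' : ∀ i : Fin n, U' i.1 = U i := fun i => by simp [U', i.2]
  refine H41.Phan.weak hF (N := n + 1) (by omega) (fun α hα => H70.Phan.aut_torus hF α hα)
    (by omega) U' (fun i j hij hj x hx y hy => ?_) (fun a ha => ?_) (fun H hH => ?_)
  · rw [hU' ⟨i, by omega⟩] at hx
    rw [hU' ⟨j, by omega⟩] at hy
    exact h1 _ _ hij x hx y hy
  · obtain ⟨Φ, -, hker, hA, hB⟩ :=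
      H41.Phan.hom_of_standard hF (h2 ⟨a, by omega⟩ ⟨a + 1, by omega⟩ rfl)
    exact H41.Phan.stdPair_of_hom hF ha U' Φ hker (hA.trans (hU' ⟨a, by omega⟩).symm)
      (hB.trans (hU' ⟨a + 1, by omega⟩).symm)
  · have hle : ∀ i, U i ≤ H := fun i => hU' i ▸ hH i.1 (by have := i.2; omega)
    refine top_unique (hgen ▸ sup_le (iSup_le hle) (iSup_le fun i => iSup₂_le fun j hij => ?_))
    obtain ⟨Φ, hV, -, hA, hB⟩ := H41.Phan.hom_of_standard hF (h2 i j hij)
    rw [← hV]
    exact (H41.Phan.range_le_of_standard hF (by omega) hA hB).trans (sup_le (hle i) (hle j))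

end Cfsg.Agent.S3709
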