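import Cfsg.Statements.S3710
import Cfsg.Agent.H70.Phan.NineWeak

set_option autoImplicit false
open Cfsg

namespace Cfsg.Agent.S3710

/-- Recognition of unitary groups over the field with 9 elements from a weak Phan system. Let F be a field with 9 elements and n ≥ 4. Let G be a group with subgroups U_0, …, U_{n−1}, each isomorphic to SU(2, 9), and, for consecutive indices, subgroups V_{i,i+1} in which U_i and U_{i+1} form a standard pair (via an isomorphism from SU(3, 9) or PSU(3, 9) carrying the block-diagonal subgroups, or their images, onto U_i and U_{i+1}); suppose U_i and U_j commute elementwise whenever the indices differ by at least 2, that G is generated by the U_i and the V_{i,i+1}, and moreover that for each i the subgroup generated by V_{i,i+1} and V_{i+1,i+2} is a homomorphic image of SU(4, 9). Then G is a homomorphic image of SU(n+1, 9). (G is not assumed finite.) -/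
theorem result {G : Type*} [Group G] (n : ℕ) (hn : 4 ≤ n)
    (F : Type*) [Field F] [Fintype F] (hF : Fintype.card F = 9)
    (U : Fin n → Subgroup G) (e : ∀ i, ↥(Cfsg.SU 2 F 3) ≃* ↥(U i))
    (V : Fin n → Fin n → Subgroup G)
    (h1 : ∀ i j : Fin n, (i : ℕ) + 2 ≤ j → ∀ x ∈ U i, ∀ y ∈ U j, x * y = y * x)
    (h2 : ∀ i j : Fin n, (i : ℕ) + 1 = j → Cfsg.IsStandardUnitaryPair (V i j) (U i) (U j) F 3)
    (hgen : (⨆ i, U i) ⊔ (⨆ (i : Fin n) (j : Fin n) (_ : (i : ℕ) + 1 = j), V i j) = ⊤)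
    (h4 : ∀ i j k : Fin n, (i : ℕ) + 1 = j → (j : ℕ) + 1 = k →
      ∃ g : ↥(Cfsg.SU 4 F 3) →* ↥(V i j ⊔ V j k), Function.Surjective g) :
    ∃ f : ↥(Cfsg.SU (n + 1) F 3) →* G, Function.Surjective f := by
  classical
  have hF' : Fintype.card F = 3 ^ 2 := by rw [hF]; norm_num
  let U' : ℕ → Subgroup G := fun a => if h : a < n then U ⟨a, h⟩ else ⊥
  have hU' : ∀ i : Fin n, U' i.1 = U i := fun i => by simp [U', i.2]
  have hle2 : ∀ i j : Fin n, (i : ℕ) + 1 = j → U i ≤ V i j ∧ U j ≤ V i j := by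
    intro i j hij
    obtain ⟨Φ, hV, -, hA, hB⟩ := H41.Phan.hom_of_standard hF' (h2 i j hij)
    exact ⟨hV ▸ hA ▸ Subgroup.map_le_range _ _, hV ▸ hB ▸ Subgroup.map_le_range _ _⟩
  refine H70.Phan.Nine.weak_three hF' (N := n + 1) (by omega) U' (fun i j hij hj x hx y hy => ?_)
    (fun a ha => ?_) (fun a ha => ?_) (fun H hH => ?_)
  · rw [hU' ⟨i, by omega⟩] at hx
    rw [hU' ⟨j, by omega⟩] at hy
    exact h1 _ _ hij x hx y hy
  · obtain ⟨Φ, -, hker, hA, hB⟩ :=
      H41.Phan.hom_of_standard hF' (h2 ⟨a, by omega⟩ ⟨a + 1, by omega⟩ rfl)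
    exact H41.Phan.stdPair_of_hom hF' ha U' Φ hker (hA.trans (hU' ⟨a, by omega⟩).symm)
      (hB.trans (hU' ⟨a + 1, by omega⟩).symm)
  · let i : Fin n := ⟨a, by omega⟩
    let j : Fin n := ⟨a + 1, by omega⟩
    let k : Fin n := ⟨a + 2, by omega⟩
    obtain ⟨g, hg⟩ := h4 i j k rfl rfl
    refine ⟨(V i j ⊔ V j k).subtype.comp g, ?_⟩
    rw [MonoidHom.range_comp, MonoidHom.range_eq_top.2 hg, ← MonoidHom.range_eq_map,
      Subgroup.range_subtype, hU' i, hU' j, hU' k]
    exact ⟨(hle2 i j rfl).1.trans le_sup_left, (hle2 i j rfl).2.trans le_sup_left,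
      (hle2 j k rfl).2.trans le_sup_right⟩
  · have hle : ∀ i, U i ≤ H := fun i => hU' i ▸ hH i.1 (by have := i.2; omega)
    refine top_unique (hgen ▸ sup_le (iSup_le hle) (iSup_le fun i => iSup₂_le fun j hij => ?_))
    obtain ⟨Φ, hV, -, hA, hB⟩ := H41.Phan.hom_of_standard hF' (h2 i j hij)
    rw [← hV]
    exact (H41.Phan.range_le_of_standard hF' le_rfl hA hB).trans (sup_le (hle i) (hle j))

end Cfsg.Agent.S3710
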