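import Cfsg.Statements.S3711
import Cfsg.Agent.H42.Phan.TwoBuild

set_option autoImplicit false
open Cfsg

namespace Cfsg.Agent.S3711

/-- Recognition of unitary groups over the field with 4 elements from a weak Phan system. Let F be a field with 4 elements and n ≥ 4. Let G be a group with subgroups U_0, …, U_{n−1}, each isomorphic to SU(2, 4), and, for consecutive indices, subgroups V_{i,i+1} in which U_i and U_{i+1} form a standard pair (via an isomorphism from SU(3, 4) or PSU(3, 4) carrying the block-diagonal subgroups, or their images, onto U_i and U_{i+1}); suppose U_i and U_j commute elementwise whenever the indices differ by at least 2, that G is generated by the U_i and the V_{i,i+1}, that for each i the subgroup generated by V_{i,i+1} and V_{i+1,i+2} is a homomorphic image of SU(4, 4), that U_i and V_{j,j+1} commute elementwise whenever i ≤ j − 2 or i ≥ j + 3, and that V_{i,i+1} and V_{k,k+1} commute elementwise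 whenever k ≥ i + 3. Then G is a homomorphic image of SU(n+1, 4). (G is not assumed finite.) -/
theorem result {G : Type*} [Group G] (n : ℕ) (hn : 4 ≤ n)
    (F : Type*) [Field F] [Fintype F] (hF : Fintype.card F = 4)
    (U : Fin n → Subgroup G) (e : ∀ i, ↥(Cfsg.SU 2 F 2) ≃* ↥(U i))
    (V : Fin n → Fin n → Subgroup G)
    (h1 : ∀ i j : Fin n, (i : ℕ) + 2 ≤ j → ∀ x ∈ U i, ∀ y ∈ U j, x * y = y * x)
    (h2 : ∀ i j : Fin n, (i : ℕ) + 1 = j → Cfsg.IsStandardUnitaryPair (V i j) (U i) (U j) F 2)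
    (hgen : (⨆ i, U i) ⊔ (⨆ (i : Fin n) (j : Fin n) (_ : (i : ℕ) + 1 = j), V i j) = ⊤)
    (h4 : ∀ i j k : Fin n, (i : ℕ) + 1 = j → (j : ℕ) + 1 = k →
      ∃ g : ↥(Cfsg.SU 4 F 2) →* ↥(V i j ⊔ V j k), Function.Surjective g)
    (h5 : ∀ i j k : Fin n, (j : ℕ) + 1 = k → ((i : ℕ) + 2 ≤ j ∨ (k : ℕ) + 2 ≤ i) →
      ∀ x ∈ U i, ∀ y ∈ V j k, x * y = y * x)
    (h6 : ∀ i j k l : Fin n, (i : ℕ) + 1 = j → (k : ℕ) + 1 = l → (j : ℕ) + 2 ≤ k →
      ∀ x ∈ V i j, ∀ y ∈ V k l, x * y = y * x) :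
    ∃ f : ↥(Cfsg.SU (n + 1) F 2) →* G, Function.Surjective f := by
  classical
  have hF' : Fintype.card F = 2 ^ 2 := by rw [hF]; norm_num
  let U' : ℕ → Subgroup G := fun a => if h : a < n then U ⟨a, h⟩ else ⊥
  let V' : ℕ → Subgroup G := fun a => if h : a + 1 < n then V ⟨a, by omega⟩ ⟨a + 1, h⟩ else ⊥
  have hU : ∀ a (h : a < n), U' a = U ⟨a, h⟩ := fun a h => dif_pos h
  have hV : ∀ a (h : a + 1 < n), V' a = V ⟨a, by omega⟩ ⟨a + 1, h⟩ := fun a h => dif_pos h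
  refine H42.Phan.chain hF' n hn U' V' (fun i hi hb => ?_) (fun i j hij hj => ?_) (fun i hi => ?_)
    (fun H hHV hHU => ?_) (fun i hi => ?_) (fun i j hi hj hij => ?_) (fun i k hik hk => ?_)
  · obtain ⟨x, hx⟩ := H42.Phan.su2_nontrivial hF'
    rw [hU i hi] at hb
    have h1 : ((e ⟨i, hi⟩ x : ↥(U ⟨i, hi⟩)) : G) = 1 :=
      (Subgroup.eq_bot_iff_forall _).1 hb _ (e ⟨i, hi⟩ x).2
    exact hx ((e ⟨i, hi⟩).injective ((Subtype.ext h1).trans (map_one _).symm))
  · rw [hU i (by omega), hU j hj]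
    exact h1 ⟨i, by omega⟩ ⟨j, hj⟩ hij
  · rw [hV i hi, hU i (by omega), hU (i + 1) hi]
    exact h2 ⟨i, by omega⟩ ⟨i + 1, hi⟩ rfl
  · rw [eq_top_iff, ← hgen]
    refine sup_le (iSup_le fun i => ?_) (iSup_le fun i => iSup_le fun j => iSup_le fun hij => ?_)
    · have := hHU i i.2
      rwa [hU i i.2] at this
    · have h' : (i : ℕ) + 1 < n := hij ▸ j.2
      have := hHV i h'
      rwa [hV i h', show (⟨(i : ℕ) + 1, h'⟩ : Fin n) = j from Fin.ext hij] at this
  · obtain ⟨g, hg⟩ := h4 ⟨i, by omega⟩ ⟨i + 1, by omega⟩ ⟨i + 2, hi⟩ rfl rfl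
    refine ⟨(Subgroup.subtype _).comp g, ?_⟩
    rw [MonoidHom.range_comp, MonoidHom.range_eq_top.2 hg, ← MonoidHom.range_eq_map,
      Subgroup.range_subtype, hV i (by omega), hV (i + 1) hi]
  · rw [hU i hi, hV j hj]
    refine h5 ⟨i, hi⟩ ⟨j, by omega⟩ ⟨j + 1, hj⟩ rfl ?_
    simp only
    omega
  · rw [hV i (by omega), hV k hk]
    refine h6 ⟨i, by omega⟩ ⟨i + 1, by omega⟩ ⟨k, by omega⟩ ⟨k + 1, hk⟩ rfl rfl ?_
    simp only
    omega

end Cfsg.Agent.S3711
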