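import Cfsg.Statements.S3713
import Cfsg.Agent.H87.SpAm.Chunk
-- import your own Cfsg.Agent.* helpers here

set_option autoImplicit false
open Cfsg

namespace Cfsg.Agent.S3713

open scoped Classical in
/-- Extension by `1` of a map defined on a subgroup. -/
noncomputable def ext1 {G H : Type*} [Group G] [Group H] {K : Subgroup G} (f : ↥K →* H) (g : G) :
    H :=
  if h : g ∈ K then f ⟨g, h⟩ else 1

theorem ext1_eq {G H : Type*} [Group G] [Group H] {K : Subgroup G} (f : ↥K →* H) {g : G}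
    (h : g ∈ K) : ext1 f g = f ⟨g, h⟩ := dif_pos h

theorem ext1_mul {G H : Type*} [Group G] [Group H] {K : Subgroup G} (f : ↥K →* H) :
    H87.SpAm.MulOn (ext1 f) K := fun a ha b hb => by
  rw [ext1_eq f (mul_mem ha hb), ext1_eq f ha, ext1_eq f hb, ← map_mul]
  rfl

/-- A presentation of the symplectic group as the universal completion of an amalgam of small subgroups. Let F be a field with more than two elements, n ≥ 2, and Sp the group of 2n × 2n matrices over F preserving the standard alternating form, acting on column vectors; write e_k, f_k for the standard basis vectors of the two halves (a hyperbolic basis). For each k let S_k be the subgroup of Sp fixing e_l and f_l for all l ≠ k (a copy of SL(2, F) on the plane of e_k, f_k), and for each i with i + 1 < n let M_i be the subgroup fixing every e_l and fixing f_l for all l other than i, i+1 (an abelian group isomorphic to the additive group of F³). Then Sp is the universal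 completion of the amalgam formed by the S_k, the M_i and the subgroups generated by two of them: for every group H and homomorphisms σ_k : S_k → H, μ_i : M_i → H such that for each pair of these subgroups some homomorphism on the subgroup they generate restricts to the given ones, there is exactly one homomorphism Sp → H restricting to every σ_k and μ_i. -/
theorem result
    (F : Type*) [Field F] (hF : ∃ a : F, a ≠ 0 ∧ a ≠ 1) (n : ℕ) (hn : 2 ≤ n)
    (S M : Fin n → Subgroup ↥(Matrix.symplecticGroup (Fin n) F))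
    (hS : ∀ j : Fin n, S j = Subgroup.closure {A : ↥(Matrix.symplecticGroup (Fin n) F) | ∀ k : Fin n, k ≠ j →
      ((A : ↥(Matrix.symplecticGroup (Fin n) F)) : Matrix (Fin n ⊕ Fin n) (Fin n ⊕ Fin n) F).mulVec (Pi.single (Sum.inl k) (1 : F)) = (Pi.single (Sum.inl k) (1 : F)) ∧ ((A : ↥(Matrix.symplecticGroup (Fin n) F)) : Matrix (Fin n ⊕ Fin n) (Fin n ⊕ Fin n) F).mulVec (Pi.single (Sum.inr k) (1 : F)) = (Pi.single (Sum.inr k) (1 : F))})
    (hM : ∀ i : Fin n, (i : ℕ) + 1 < n → M i = Subgroup.closure {A : ↥(Matrix.symplecticGroup (Fin n) F) |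
      (∀ k : Fin n, ((A : ↥(Matrix.symplecticGroup (Fin n) F)) : Matrix (Fin n ⊕ Fin n) (Fin n ⊕ Fin n) F).mulVec (Pi.single (Sum.inl k) (1 : F)) = (Pi.single (Sum.inl k) (1 : F))) ∧
        ∀ k : Fin n, (k : ℕ) ≠ i → (k : ℕ) ≠ (i : ℕ) + 1 → ((A : ↥(Matrix.symplecticGroup (Fin n) F)) : Matrix (Fin n ⊕ Fin n) (Fin n ⊕ Fin n) F).mulVec (Pi.single (Sum.inr k) (1 : F)) = (Pi.single (Sum.inr k) (1 : F))})
    {H : Type*} [Group H] (σ : ∀ j : Fin n, ↥(S j) →* H) (μ : ∀ i : Fin n, ↥(M i) →* H)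
    (hSS : ∀ j l : Fin n, j ≠ l → ∃ Ψ : ↥(S j ⊔ S l) →* H,
      (∀ (g : ↥(Matrix.symplecticGroup (Fin n) F)) (hg : g ∈ S j), Ψ ⟨g, Subgroup.mem_sup_left hg⟩ = σ j ⟨g, hg⟩) ∧
        (∀ (g : ↥(Matrix.symplecticGroup (Fin n) F)) (hg : g ∈ S l), Ψ ⟨g, Subgroup.mem_sup_right hg⟩ = σ l ⟨g, hg⟩))
    (hMM : ∀ i i' : Fin n, i ≠ i' → (i : ℕ) + 1 < n → (i' : ℕ) + 1 < n → ∃ Ψ : ↥(M i ⊔ M i') →* H,
      (∀ (g : ↥(Matrix.symplecticGroup (Fin n) F)) (hg : g ∈ M i), Ψ ⟨g, Subgroup.mem_sup_left hg⟩ = μ i ⟨g, hg⟩) ∧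
        (∀ (g : ↥(Matrix.symplecticGroup (Fin n) F)) (hg : g ∈ M i'), Ψ ⟨g, Subgroup.mem_sup_right hg⟩ = μ i' ⟨g, hg⟩))
    (hMS : ∀ i j : Fin n, (i : ℕ) + 1 < n → ∃ Ψ : ↥(M i ⊔ S j) →* H,
      (∀ (g : ↥(Matrix.symplecticGroup (Fin n) F)) (hg : g ∈ M i), Ψ ⟨g, Subgroup.mem_sup_left hg⟩ = μ i ⟨g, hg⟩) ∧
        (∀ (g : ↥(Matrix.symplecticGroup (Fin n) F)) (hg : g ∈ S j), Ψ ⟨g, Subgroup.mem_sup_right hg⟩ = σ j ⟨g, hg⟩)) :
    ∃! Φ : ↥(Matrix.symplecticGroup (Fin n) F) →* H,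
      (∀ (j : Fin n) (g : ↥(Matrix.symplecticGroup (Fin n) F)) (hg : g ∈ S j), Φ g = σ j ⟨g, hg⟩) ∧
        (∀ (i : Fin n), (i : ℕ) + 1 < n → ∀ (g : ↥(Matrix.symplecticGroup (Fin n) F)) (hg : g ∈ M i), Φ g = μ i ⟨g, hg⟩) := by
  classical
  open H87.SpAm in
  have eS : ∀ j : Fin n, S j = SS j := fun j => by
    rw [hS j]
    refine le_antisymm ((Subgroup.closure_le _).2 fun g hg => mem_SS.2 fun k hk => hg k hk)
      fun g hg => Subgroup.subset_closure fun k hk => mem_SS.1 hg k hk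
  have eM : ∀ i : Fin n, (i : ℕ) + 1 < n → M i = H87.SpAm.MM i := fun i hi => by
    rw [hM i hi]
    refine le_antisymm ((Subgroup.closure_le _).2 fun g hg => H87.SpAm.mem_MM.2 hg)
      fun g hg => Subgroup.subset_closure (H87.SpAm.mem_MM.1 hg)
  let A : H87.SpAm.Amalg n F H :=
    { σ := fun j => ext1 (σ j)
      μ := fun i => ext1 (μ i)
      ss := fun j l hjl => by
        obtain ⟨Ψ, h1, h2⟩ := hSS j l hjl
        refine ⟨ext1 Ψ, ?_, fun g hg => ?_, fun g hg => ?_⟩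
        · rw [← eS, ← eS]
          exact ext1_mul Ψ
        · rw [← eS] at hg
          rw [ext1_eq Ψ (Subgroup.mem_sup_left hg), ext1_eq _ hg, h1]
        · rw [← eS] at hg
          rw [ext1_eq Ψ (Subgroup.mem_sup_right hg), ext1_eq _ hg, h2]
      mm := fun i i' hne hi hi' => by
        obtain ⟨Ψ, h1, h2⟩ := hMM i i' hne hi hi'
        refine ⟨ext1 Ψ, ?_, fun g hg => ?_, fun g hg => ?_⟩
        · rw [← eM i hi, ← eM i' hi']
          exact ext1_mul Ψ
        · rw [← eM i hi] at hg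
          rw [ext1_eq Ψ (Subgroup.mem_sup_left hg), ext1_eq _ hg, h1]
        · rw [← eM i' hi'] at hg
          rw [ext1_eq Ψ (Subgroup.mem_sup_right hg), ext1_eq _ hg, h2]
      ms := fun i j hi => by
        obtain ⟨Ψ, h1, h2⟩ := hMS i j hi
        refine ⟨ext1 Ψ, ?_, fun g hg => ?_, fun g hg => ?_⟩
        · rw [← eM i hi, ← eS]
          exact ext1_mul Ψ
        · rw [← eM i hi] at hg
          rw [ext1_eq Ψ (Subgroup.mem_sup_left hg), ext1_eq _ hg, h1]
        · rw [← eS] at hg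
          rw [ext1_eq Ψ (Subgroup.mem_sup_right hg), ext1_eq _ hg, h2]
      hσ := fun j => by
        rw [← eS]
        exact ext1_mul (σ j) }
  obtain ⟨φ, hφ⟩ := H87.SpAm.exists_good hF A n le_rfl
  have hmem : ∀ g : ↥(Matrix.symplecticGroup (Fin n) F), g ∈ H87.SpAm.LG n := fun g => by
    rw [H87.SpAm.LG_n]
    exact Subgroup.mem_top g
  refine ⟨MonoidHom.mk' φ fun a b => hφ.mul a (hmem a) b (hmem b),
    ⟨fun j g hg => ?_, fun i hi g hg => ?_⟩, ?_⟩
  · rw [MonoidHom.mk'_apply, hφ.eqσ j j.2 g (eS j ▸ hg)]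
    exact ext1_eq _ hg
  · rw [MonoidHom.mk'_apply, hφ.eqμ i hi g (eM i hi ▸ hg)]
    exact ext1_eq _ hg
  rintro Φ ⟨hΦS, hΦM⟩
  refine MonoidHom.eq_of_eqOn_top fun g _ => ?_
  refine MonoidHom.eqOn_closure ?_ (hφ.gen n le_rfl (hmem g))
  rintro t (⟨j, -, ht⟩ | ⟨i, hi, ht⟩)
  · rw [← eS] at ht
    rw [hΦS j t ht, MonoidHom.mk'_apply, hφ.eqσ j j.2 t (eS j ▸ ht)]
    exact (ext1_eq _ ht).symm
  · rw [← eM i hi] at ht
    rw [hΦM i hi t ht, MonoidHom.mk'_apply, hφ.eqμ i hi t (eM i hi ▸ ht)]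
    exact (ext1_eq _ ht).symm

end Cfsg.Agent.S3713
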