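import Cfsg.Statements.S3716
import Cfsg.Agent.H6.Three.Dihedral
import Cfsg.Agent.H6.Three.AutomizerOrder
-- import your own Cfsg.Agent.* helpers here

set_option autoImplicit false
open Cfsg

namespace Cfsg.Agent.S3716

/-- Let G be a finite group with an elementary abelian Sylow 3-subgroup M of order 9 which is self-centralizing (C_G(M) = M), let N = N_G(M), and suppose C_G(g) ≤ N for every nonidentity g ∈ M. If the Sylow 2-subgroups of N are dihedral of order 8, then G is not simple. -/
theorem result {G : Type*} [Group G] [Finite G] (M : Sylow 3 G) (hM9 : Nat.card ↥(M : Subgroup G) = 9)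
    (hMel : ∀ m ∈ (M : Subgroup G), m ^ 3 = 1)
    (hCM : Subgroup.centralizer ((M : Subgroup G) : Set G) = (M : Subgroup G))
    (N : Subgroup G) (hN : N = Subgroup.normalizer ((M : Subgroup G) : Set G))
    (hCg : ∀ g ∈ (M : Subgroup G), g ≠ 1 → Subgroup.centralizer ({g} : Set G) ≤ N)
    (hS : ∀ S : Sylow 2 ↥N, Nonempty (↥(S : Subgroup ↥N) ≃* DihedralGroup 4)) :
    ¬ IsSimpleGroup G := by
  classical
  subst hN
  haveI : Fact (Nat.Prime 3) := ⟨Nat.prime_three⟩
  haveI : Fact (Nat.Prime 2) := ⟨Nat.prime_two⟩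
  set N := Subgroup.normalizer ((M : Subgroup G) : Set G) with hN
  have h27 : ¬ 27 ∣ Nat.card N := by
    intro h
    obtain ⟨Q, hQ⟩ := Sylow.exists_subgroup_card_pow_prime 3 (n := 3)
      (h.trans (Subgroup.card_subgroup_dvd_card N))
    obtain ⟨P, hP⟩ := (IsPGroup.of_card hQ).exists_le_sylow
    have := Subgroup.card_dvd_of_le hP
    rw [hQ, P.card_eq_multiplicity, ← M.card_eq_multiplicity, hM9] at this
    norm_num at this
  obtain ⟨a, ha⟩ := H6.Three.card_normalizer (M := (M : Subgroup G)) hM9 hCM.le h27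
  obtain ⟨S⟩ : Nonempty (Sylow 2 ↥N) := Sylow.nonempty
  obtain ⟨e⟩ := hS S
  have h8 : Nat.card (S : Subgroup ↥N) = 8 := by
    rw [Nat.card_congr e.toEquiv, DihedralGroup.nat_card]
  have ha3 : a = 3 := by
    have h := S.card_eq_multiplicity
    rw [h8, ha, Nat.factorization_mul (by norm_num) (by positivity), Finsupp.add_apply] at h
    have e9 : (9 : ℕ).factorization 2 = 0 := Nat.factorization_eq_zero_of_not_dvd (by norm_num)
    rw [e9, zero_add, Nat.Prime.factorization_pow Nat.prime_two, Finsupp.single_eq_same] at h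
    exact Nat.pow_right_injective (le_refl 2) (show 2 ^ a = 2 ^ 3 by omega)
  exact H6.Three.DihedralHyp.not_simple
    { card9 := hM9
      exp3 := hMel
      selfCent := hCM.le
      φ := N.subtype.comp ((S : Subgroup ↥N).subtype.comp e.symm.toMonoidHom)
      φ_inj := Subtype.val_injective.comp (Subtype.val_injective.comp e.symm.injective)
      φ_norm := fun d => SetLike.coe_mem _
      card72 := by rw [← hN, ha, ha3]; norm_num
      cent := hCg }

end Cfsg.Agent.S3716
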