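import Cfsg.Statements.S3733
import Mathlib

set_option autoImplicit false
open Cfsg

namespace Cfsg.Agent.S3733

/-- Let A and V be subgroups of a finite group with V abelian and nontrivial and A normalizing V. Suppose a nonempty finite family of proper subgroups of A partitions A: every non-identity element of A lies in exactly one member. If the number of members minus one is coprime to the order of V, then some member B of the family has a non-identity fixed point on V, that is V ∩ C(B) ≠ 1. -/
theorem result {G : Type*} [Group G] [Finite G] (A V : Subgroup G) (hVab : IsMulCommutative V) (hV : V ≠ ⊥) (hAV : A ≤ Subgroup.normalizer (V : Set G)) (𝒜 : Finset (Subgroup G)) (hne : 𝒜.Nonempty) (hprop : ∀ B ∈ 𝒜, B < A) (hpart : ∀ a ∈ A, a ≠ 1 → ∃! B, B ∈ 𝒜 ∧ a ∈ B) (hk : (𝒜.card - 1).Coprime (Nat.card V)) : ∃ B ∈ 𝒜, V ⊓ Subgroup.centralizer (B : Set G) ≠ ⊥ := by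
  classical
  by_contra hcon
  push Not at hcon
  haveI := hVab
  haveI : Fintype G := Fintype.ofFinite G
  letI : CommGroup V := { (inferInstance : Group V) with mul_comm := fun a b => mul_comm' a b }
  have hstab : ∀ a ∈ A, ∀ v : V, a * (v : G) * a⁻¹ ∈ V := fun a ha v =>
    ((Subgroup.mem_normalizer_iff.mp (hAV ha)) v).mp v.2
  let c : A → V → V := fun a v => ⟨(a : G) * v * (a : G)⁻¹, hstab a a.2 v⟩
  have cmul : ∀ a b : A, ∀ v : V, c (a * b) v = c a (c b v) := by
    intro a b v; apply Subtype.ext; simp [c, mul_assoc]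
  have cone : ∀ v : V, c 1 v = v := by intro v; apply Subtype.ext; simp [c]
  have chom : ∀ (a : A) (s : Finset A) (f : A → V), c a (∏ i ∈ s, f i) = ∏ i ∈ s, c a (f i) := by
    intro a s f
    let φ : V →* V :=
      { toFun := c a
        map_one' := by apply Subtype.ext; simp [c]
        map_mul' := fun u w => by apply Subtype.ext; simp [c, mul_assoc] }
    exact map_prod φ f s
  -- every member has trivial fixed points, so all norms are trivial
  have norm_one : ∀ B : Subgroup G, B ≤ A → (V ⊓ Subgroup.centralizer (B : Set G) = ⊥) → ∀ v : V,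
      ∏ a ∈ Finset.univ.filter (fun a : A => (a : G) ∈ B), c a v = 1 := by
    intro B hBA hB v
    set w := ∏ a ∈ Finset.univ.filter (fun a : A => (a : G) ∈ B), c a v with hw
    have hwfix : ∀ b : A, (b : G) ∈ B → c b w = w := by
      intro b hb
      rw [hw, chom]
      refine Finset.prod_bij' (fun a _ => b * a) (fun a _ => b⁻¹ * a) ?_ ?_ ?_ ?_ ?_
      · intro a ha; simp only [Finset.mem_filter, Finset.mem_univ, true_and] at ha ⊢; exact mul_mem hb ha
      · intro a ha; simp only [Finset.mem_filter, Finset.mem_univ, true_and] at ha ⊢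
        exact mul_mem (inv_mem hb) ha
      · intro a _; simp
      · intro a _; simp
      · intro a _; exact (cmul b a v).symm
    have : (w : G) ∈ V ⊓ Subgroup.centralizer (B : Set G) := by
      refine ⟨w.2, ?_⟩
      change (w : G) ∈ Subgroup.centralizer (B : Set G)
      rw [Subgroup.mem_centralizer_iff]
      intro b hb
      have := congrArg Subtype.val (hwfix ⟨b, hBA hb⟩ hb)
      exact mul_inv_eq_iff_eq_mul.mp this
    rw [hB, Subgroup.mem_bot] at this
    exact Subtype.ext this
  have hAne : V ⊓ Subgroup.centralizer (A : Set G) = ⊥ := by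
    obtain ⟨B, hB⟩ := hne
    rw [eq_bot_iff, ← hcon B hB]
    exact inf_le_inf_left _ (Subgroup.centralizer_le (hprop B hB).le)
  obtain ⟨v, hvV, hv1⟩ := (Subgroup.ne_bot_iff_exists_ne_one.mp hV).imp fun v hv => (⟨v.2, hv⟩ : _ ∧ _)
  apply hv1
  have hsum : ∏ B ∈ 𝒜, ∏ a ∈ Finset.univ.filter (fun a : A => (a : G) ∈ B), c a v = 1 :=
    Finset.prod_eq_one fun B hB => norm_one B (hprop B hB).le (hcon B hB) v
  have hflip : ∏ B ∈ 𝒜, ∏ a ∈ Finset.univ.filter (fun a : A => (a : G) ∈ B), c a v
      = ∏ a : A, c a v ^ (𝒜.filter (fun B => (a : G) ∈ B)).card := by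
    simp only [Finset.prod_filter]
    rw [Finset.prod_comm]
    refine Finset.prod_congr rfl fun a _ => ?_
    rw [← Finset.prod_filter, Finset.prod_const]
  have hcount : ∀ a : A, a ≠ 1 → (𝒜.filter (fun B => (a : G) ∈ B)).card = 1 := by
    intro a ha
    obtain ⟨B, hB, huniq⟩ := hpart a a.2 (fun h => ha (Subtype.ext h))
    rw [Finset.card_eq_one]
    refine ⟨B, Finset.ext fun B' => ?_⟩
    simp only [Finset.mem_filter, Finset.mem_singleton]
    exact ⟨fun h => huniq B' h, fun h => h ▸ hB⟩
  have hall : ∏ a : A, c a v = 1 := by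
    have := norm_one A le_rfl hAne v
    simpa using this
  have hk1 : v ^ (𝒜.card - 1) = 1 := by
    rw [hflip, ← Finset.mul_prod_erase _ _ (Finset.mem_univ (1 : A))] at hsum
    rw [← Finset.mul_prod_erase _ _ (Finset.mem_univ (1 : A))] at hall
    rw [Finset.prod_congr rfl (fun a ha => by rw [hcount a (Finset.ne_of_mem_erase ha), pow_one])] at hsum
    have h1 : (𝒜.filter (fun B => ((1 : A) : G) ∈ B)).card = 𝒜.card := by simp
    rw [h1, cone] at hsum
    rw [cone] at hall
    obtain ⟨k, hk'⟩ : ∃ k, 𝒜.card = k + 1 := ⟨𝒜.card - 1, (Nat.succ_pred_eq_of_pos hne.card_pos).symm⟩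
    rw [hk', pow_succ, mul_assoc, hall, mul_one] at hsum
    rw [hk']; simpa using hsum
  have := pow_gcd_eq_one.mpr ⟨hk1, pow_card_eq_one' (x := v)⟩
  rwa [hk.gcd_eq_one, pow_one] at this

end Cfsg.Agent.S3733
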