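import Cfsg.Statements.S3734
import Cfsg.Agent.S0058
import Cfsg.Agent.H1.CoprimeAction

set_option autoImplicit false
open Cfsg
open scoped commutatorElement

namespace Cfsg.Agent.S3734

/-- Let A and G be subgroups of a finite group with A abelian, A normalizing G and the orders of A and G coprime. Then G is generated by the fixed-point subgroups C_G(B) of those subgroups B of A for which A/B is cyclic (that is, A = ⟨B, a⟩ for some a), and [G, A] is generated by the commutator subgroups [C_G(B), A] over the same subgroups B. -/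
theorem result {X : Type*} [Group X] [Finite X] (A G : Subgroup X) (hAab : IsMulCommutative A) (hAG : A ≤ Subgroup.normalizer (G : Set X)) (hcop : (Nat.card A).Coprime (Nat.card G)) : (⨆ B ∈ {B : Subgroup X | B ≤ A ∧ ∃ a ∈ A, B ⊔ Subgroup.zpowers a = A}, G ⊓ Subgroup.centralizer (B : Set X)) = G ∧ (⨆ B ∈ {B : Subgroup X | B ≤ A ∧ ∃ a ∈ A, B ⊔ Subgroup.zpowers a = A}, ⁅G ⊓ Subgroup.centralizer (B : Set X), A⁆) = ⁅G, A⁆ := by
  classical
  set Fam := {B : Subgroup X | B ≤ A ∧ ∃ a ∈ A, B ⊔ Subgroup.zpowers a = A} with hFam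
  have hAc : ∀ a ∈ A, ∀ b ∈ A, a * b = b * a := fun a ha b hb =>
    congrArg Subtype.val (hAab.is_comm.comm (⟨a, ha⟩ : ↥A) ⟨b, hb⟩)
  haveI hAsol : Group.IsSolvable ↥A :=
    Group.isSolvable_of_comm fun a b => Subtype.ext (hAc a a.2 b b.2)
  have hAnC : ∀ B : Subgroup X, B ≤ A → A ≤ Subgroup.normalizer (Subgroup.centralizer (B : Set X) : Set X) :=
    fun B hB a ha => Subgroup.le_normalizer (Subgroup.mem_centralizer_iff.2 fun b hb => hAc b (hB hb) a ha)
  have hinfn : ∀ (U V : Subgroup X), A ≤ Subgroup.normalizer (U : Set X) → A ≤ Subgroup.normalizer (V : Set X) →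
      A ≤ Subgroup.normalizer ((U ⊓ V : Subgroup X) : Set X) := fun U V hU hV a ha => by
    rw [Subgroup.mem_normalizer_iff]
    intro x
    rw [Subgroup.mem_inf, Subgroup.mem_inf, ← Subgroup.mem_normalizer_iff.1 (hU ha) x,
      ← Subgroup.mem_normalizer_iff.1 (hV ha) x]
  have part1 : ∀ (m : ℕ) (D K : Subgroup X), Nat.card A - Nat.card D ≤ m → D ≤ A → K ≤ G →
      A ≤ Subgroup.normalizer (K : Set X) → D ≤ Subgroup.centralizer (K : Set X) →
      K ≤ ⨆ B ∈ Fam, K ⊓ Subgroup.centralizer (B : Set X) := by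
    intro m
    induction m using Nat.strong_induction_on with
    | _ m ih =>
      intro D K hm hDA hKG hAK hDK
      have hKD : K ≤ Subgroup.centralizer (D : Set X) := Subgroup.le_centralizer_iff.1 hDK
      by_cases hfam : D ∈ Fam
      · exact le_trans (le_inf le_rfl hKD)
          (le_iSup₂ (f := fun B (_ : B ∈ Fam) => K ⊓ Subgroup.centralizer (B : Set X)) D hfam)
      set L := K ⊔ A
      have hKL : K ≤ L := le_sup_left
      have hAL : A ≤ L := le_sup_right
      haveI hDn : (D.subgroupOf L).Normal := by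
        rw [Subgroup.normal_subgroupOf_iff_le_normalizer (hDA.trans hAL), sup_le_iff]
        exact ⟨(Subgroup.le_centralizer_iff.1 hDK).trans (Subgroup.centralizer_le_normalizer _),
          fun a ha => Subgroup.centralizer_le_normalizer _
            (Subgroup.mem_centralizer_iff.2 fun d hd => hAc d (hDA hd) a ha)⟩
      set π := QuotientGroup.mk' (D.subgroupOf L) with hπ
      set A' := (A.subgroupOf L).map π with hA'
      set K' := (K.subgroupOf L).map π with hK'
      have hπker : ∀ x : ↥L, π x = 1 ↔ (x : X) ∈ D := fun x => by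
        rw [← MonoidHom.mem_ker, hπ, QuotientGroup.ker_mk', Subgroup.mem_subgroupOf]
      haveI hA'c : IsMulCommutative ↥A' := ⟨⟨fun u v => by
        obtain ⟨_, a, ha, rfl⟩ := u
        obtain ⟨_, b, hb, rfl⟩ := v
        exact Subtype.ext (show π a * π b = π b * π a by
          rw [← map_mul, ← map_mul]; exact congrArg π (Subtype.ext (hAc a ha b hb)))⟩⟩
      have hA'cyc : ¬ IsCyclic ↥A' := by
        intro hc
        obtain ⟨⟨_, a, ha, rfl⟩, hg⟩ := hc.exists_generator
        refine hfam ⟨hDA, a, ha, le_antisymm (sup_le hDA (Subgroup.zpowers_le.2 ha)) fun b hb => ?_⟩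
        obtain ⟨k, hk⟩ := hg ⟨π ⟨b, hAL hb⟩, ⟨⟨b, hAL hb⟩, hb, rfl⟩⟩
        have hk' : π (a ^ k) = π ⟨b, hAL hb⟩ := by
          rw [map_zpow]; exact congrArg Subtype.val hk
        have hd : ((a : X) ^ k)⁻¹ * b ∈ D := by
          have := (hπker ((a ^ k)⁻¹ * ⟨b, hAL hb⟩)).1 (by rw [map_mul, map_inv, hk', inv_mul_cancel])
          simpa using this
        have := mul_mem ((le_sup_right : _ ≤ D ⊔ Subgroup.zpowers (a : X))
          (zpow_mem (Subgroup.mem_zpowers (a : X)) k)) ((le_sup_left : _ ≤ D ⊔ Subgroup.zpowers (a : X)) hd)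
        simpa using this
      have hA'K' : A' ≤ Subgroup.normalizer (K' : Set (↥L ⧸ D.subgroupOf L)) := by
        refine (Subgroup.map_mono ?_).trans (Subgroup.le_normalizer_map π)
        intro a ha
        rw [Subgroup.mem_normalizer_iff]
        intro x
        simp only [Subgroup.mem_subgroupOf]
        exact Subgroup.mem_normalizer_iff.1 (hAK ha) (x : X)
      have hcop' : (Nat.card ↥A').Coprime (Nat.card ↥K') := by
        have e1 : Nat.card ↥(A.subgroupOf L) = Nat.card ↥A :=
          Nat.card_congr (Subgroup.subgroupOfEquivOfLe hAL).toEquiv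
        have e2 : Nat.card ↥(K.subgroupOf L) = Nat.card ↥K :=
          Nat.card_congr (Subgroup.subgroupOfEquivOfLe hKL).toEquiv
        refine Nat.Coprime.coprime_dvd_left (((A.subgroupOf L).card_map_dvd π).trans (dvd_of_eq e1)) ?_
        refine Nat.Coprime.coprime_dvd_right (((K.subgroupOf L).card_map_dvd π).trans (dvd_of_eq e2)) ?_
        exact hcop.coprime_dvd_right (Subgroup.card_dvd_of_le hKG)
      have hgen := Cfsg.Agent.S0058.result A' K' hA'cyc hA'K' hcop'
      have hinj : ∀ x : ↥L, (x : X) ∈ K → (x : X) ∈ D → x = 1 := fun x hxK hxD => by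
        have h := Subgroup.disjoint_of_coprime_natCard
          (H := A) (K := K) (hcop.coprime_dvd_right (Subgroup.card_dvd_of_le hKG))
        exact Subtype.ext (Subgroup.disjoint_def.1 h (hDA hxD) hxK)
      set W := ⨆ B ∈ Fam, K ⊓ Subgroup.centralizer (B : Set X) with hW
      have hle : K' ≤ (W.subgroupOf L).map π := by
        rw [← hgen]
        refine iSup₂_le fun u hu => ?_
        obtain ⟨⟨a, ha, rfl⟩, hu1⟩ := hu
        have haD : (a : X) ∉ D := fun h => hu1 ((hπker a).2 h)
        rintro y ⟨⟨k, hk, rfl⟩, hky⟩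
        refine ⟨k, ?_, rfl⟩
        have hka : (k : X) * a = a * k := by
          have h1 : π k * π a = π a * π k := Subgroup.mem_centralizer_singleton_iff.1 hky
          have h2 : (((k * a) * (a * k)⁻¹ : ↥L) : X) ∈ D :=
            (hπker _).1 (by rw [map_mul, map_inv, map_mul, map_mul, h1, mul_inv_cancel])
          have h3 : ((k : X) * a) * ((a : X) * k)⁻¹ ∈ K := by
            rw [show ((k : X) * a) * ((a : X) * k)⁻¹ = k * (a * (k : X)⁻¹ * (a : X)⁻¹) by group]
            exact mul_mem hk ((Subgroup.mem_normalizer_iff.1 (hAK ha) _).1 (inv_mem hk))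
          exact mul_inv_eq_one.1 (congrArg Subtype.val (hinj ((k * a) * (a * k)⁻¹) (by simpa using h3) h2))
        set D' := D ⊔ Subgroup.zpowers (a : X)
        have hD'A : D' ≤ A := sup_le hDA (Subgroup.zpowers_le.2 ha)
        have hlt : Nat.card D < Nat.card D' := by
          refine lt_of_le_of_ne (Subgroup.card_le_of_le le_sup_left) fun h => haD ?_
          rw [Subgroup.eq_of_le_of_card_ge (le_sup_left : D ≤ D') h.ge]
          exact (le_sup_right : _ ≤ D') (Subgroup.mem_zpowers _)
        have hA' : Nat.card D' ≤ Nat.card A := Subgroup.card_le_of_le hD'A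
        have hkK : (k : X) ∈ K ⊓ Subgroup.centralizer (D' : Set X) := by
          refine ⟨hk, ?_⟩
          have : Subgroup.zpowers (k : X) ≤ Subgroup.centralizer (D' : Set X) := by
            rw [Subgroup.le_centralizer_iff, sup_le_iff]
            exact ⟨hDK.trans (Subgroup.centralizer_le (Subgroup.zpowers_le.2 hk)), Subgroup.zpowers_le.2
              (Subgroup.mem_centralizer_iff.2 (by
                rintro _ ⟨i, rfl⟩
                exact ((show Commute (k : X) a from hka).zpow_left i).eq))⟩
          exact this (Subgroup.mem_zpowers _)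
        have := ih (Nat.card A - Nat.card D') (by omega) D' (K ⊓ Subgroup.centralizer (D' : Set X)) le_rfl
          hD'A (inf_le_left.trans hKG) (hinfn _ _ hAK (hAnC D' hD'A))
          (Subgroup.le_centralizer_iff.1 inf_le_right) hkK
        exact (iSup₂_mono fun B _ => inf_le_inf_right _ inf_le_left : _ ≤ W) this
      intro k hk
      obtain ⟨w, hw, hwk⟩ := hle ⟨⟨k, hKL hk⟩, hk, rfl⟩
      have hWK : W ≤ K := iSup₂_le fun B _ => inf_le_left
      have h1 : (w⁻¹ * ⟨k, hKL hk⟩ : ↥L) = 1 := by
        refine hinj _ ?_ ((hπker _).1 (by rw [map_mul, map_inv, hwk, inv_mul_cancel]))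
        exact mul_mem (inv_mem (hWK hw)) hk
      rw [inv_mul_eq_one] at h1
      have h2 : (w : X) = k := congrArg Subtype.val h1
      exact h2 ▸ hw
  have h1 : ∀ K : Subgroup X, K ≤ G → A ≤ Subgroup.normalizer (K : Set X) →
      K ≤ ⨆ B ∈ Fam, K ⊓ Subgroup.centralizer (B : Set X) := fun K hKG hAK =>
    part1 _ ⊥ K le_rfl bot_le hKG hAK bot_le
  refine ⟨le_antisymm (iSup₂_le fun B _ => inf_le_left) (h1 G le_rfl hAG), ?_⟩
  refine le_antisymm (iSup₂_le fun B _ => Subgroup.commutator_mono inf_le_left le_rfl) ?_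
  set W2 := ⨆ B ∈ Fam, ⁅G ⊓ Subgroup.centralizer (B : Set X), A⁆ with hW2
  set K := ⁅G, A⁆ with hKdef
  have hKG : K ≤ G := H1.commutator_le_left_of_le_normalizer hAG
  have hAK : A ≤ Subgroup.normalizer (K : Set X) := H1.right_le_normalizer_commutator
  have hcopK : (Nat.card A).Coprime (Nat.card K) := hcop.coprime_dvd_right (Subgroup.card_dvd_of_le hKG)
  have hcc : ⁅K, A⁆ = K := H1.commutator_commutator_eq hAG hcop (Or.inl hAsol)
  set C := K ⊓ Subgroup.centralizer (A : Set X) with hC
  -- `C` and `A` normalise `W2`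
  have hAW : A ≤ Subgroup.normalizer (W2 : Set X) := by
    rw [Subgroup.le_normalizer_iff]
    intro a ha w hw
    induction hw using Subgroup.iSup_induction' with
    | hp B w hw =>
      induction hw using Subgroup.iSup_induction' with
      | hp hB w hw =>
        exact (le_iSup₂ (f := fun B (_ : B ∈ Fam) => ⁅G ⊓ Subgroup.centralizer (B : Set X), A⁆) B hB)
          (Subgroup.le_normalizer_iff.1 H1.right_le_normalizer_commutator a ha w hw)
      | h1 => simp
      | hmul x y _ _ hx hy => simpa [mul_assoc] using mul_mem hx hy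
    | h1 => simp
    | hmul x y _ _ hx hy => simpa [mul_assoc] using mul_mem hx hy
  have hCW : C ≤ Subgroup.normalizer (W2 : Set X) := by
    rw [Subgroup.le_normalizer_iff]
    intro c hc w hw
    induction hw using Subgroup.iSup_induction' with
    | hp B w hw =>
      induction hw using Subgroup.iSup_induction' with
      | hp hB w hw =>
        refine (le_iSup₂ (f := fun B (_ : B ∈ Fam) => ⁅G ⊓ Subgroup.centralizer (B : Set X), A⁆) B hB)
          (Subgroup.le_normalizer_iff.1 (H1.left_le_normalizer_commutator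
            (K := G ⊓ Subgroup.centralizer (B : Set X)) (A := A)) c
            ⟨hKG hc.1, Subgroup.centralizer_le hB.1 hc.2⟩ w hw)
      | h1 => simp
      | hmul x y _ _ hx hy => simpa [mul_assoc] using mul_mem hx hy
    | h1 => simp
    | hmul x y _ _ hx hy => simpa [mul_assoc] using mul_mem hx hy
  have hKle : K ≤ C ⊔ W2 := by
    refine (h1 K hKG hAK).trans (iSup₂_le fun B hB => ?_)
    have hn : A ≤ Subgroup.normalizer ((K ⊓ Subgroup.centralizer (B : Set X) : Subgroup X) : Set X) :=
      hinfn _ _ hAK (hAnC B hB.1)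
    rw [← H1.commutator_sup_centralizer_eq hn (hcopK.coprime_dvd_right (Subgroup.card_dvd_of_le inf_le_left))
      (Or.inl hAsol)]
    refine sup_le (le_sup_of_le_right ?_) (le_sup_of_le_left (inf_le_inf_right _ inf_le_left))
    exact le_trans (Subgroup.commutator_mono (inf_le_inf_right _ hKG) le_rfl)
      (le_iSup₂ (f := fun B (_ : B ∈ Fam) => ⁅G ⊓ Subgroup.centralizer (B : Set X), A⁆) B hB)
  conv_lhs => rw [← hcc]
  rw [Subgroup.commutator_le]
  intro k hk a ha
  have hk' : k ∈ ((C ⊔ W2 : Subgroup X) : Set X) := hKle hk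
  rw [Subgroup.coe_mul_of_left_le_normalizer_right _ _ hCW] at hk'
  obtain ⟨c, hc, w, hw, rfl⟩ := hk'
  have hca : Commute a c⁻¹ :=
    (show Commute a c from Subgroup.mem_centralizer_iff.1 hc.2 a ha).inv_right
  have he : ⁅c * w, a⁆ = c * (w * (a * w⁻¹ * a⁻¹)) * c⁻¹ := by
    rw [commutatorElement_def, mul_inv_rev]
    calc c * w * a * (w⁻¹ * c⁻¹) * a⁻¹ = c * w * a * w⁻¹ * (c⁻¹ * a⁻¹) := by group
      _ = c * w * a * w⁻¹ * (a⁻¹ * c⁻¹) := by rw [hca.inv_left.eq]
      _ = _ := by group
  rw [he]
  exact Subgroup.le_normalizer_iff.1 hCW c hc _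
    (mul_mem hw (Subgroup.le_normalizer_iff.1 hAW a ha _ (inv_mem hw)))

end Cfsg.Agent.S3734
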