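import Cfsg.Statements.S3735
import Mathlib

set_option autoImplicit false
open Cfsg

namespace Cfsg.Agent.S3735

/-- Clifford's Theorem for actions on finite abelian groups, first part. Let H and V be subgroups of a finite group with V abelian and H normalizing V, and let A be a normal subgroup of H. If every H-invariant subgroup of V has an H-invariant complement in V, then every A-invariant subgroup of V has an A-invariant complement in V. -/
theorem result {G : Type*} [Group G] [Finite G] (H A V : Subgroup G) (hVab : IsMulCommutative V) (hHV : H ≤ Subgroup.normalizer (V : Set G)) (hAH : A ≤ H) (hAn : H ≤ Subgroup.normalizer (A : Set G)) (hss : ∀ U : Subgroup G, U ≤ V → H ≤ Subgroup.normalizer (U : Set G) → ∃ W : Subgroup G, W ≤ V ∧ H ≤ Subgroup.normalizer (W : Set G) ∧ U ⊓ W = ⊥ ∧ U ⊔ W = V) (U : Subgroup G) (hUV : U ≤ V) (hAU : A ≤ Subgroup.normalizer (U : Set G)) : ∃ W : Subgroup G, W ≤ V ∧ A ≤ Subgroup.normalizer (W : Set G) ∧ U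 ⊓ W = ⊥ ∧ U ⊔ W = V := by
  classical
  haveI := hVab
  let Inv : Subgroup G → Subgroup G → Prop := fun B S => B ≤ Subgroup.normalizer (S : Set G)
  let Min : Subgroup G → Subgroup G → Prop := fun B S =>
    Minimal (fun T : Subgroup G => T ≤ V ∧ T ≠ ⊥ ∧ Inv B T) S
  have hjoin : ∀ (B : Subgroup G) (𝒮 : Set (Subgroup G)), (∀ S ∈ 𝒮, Inv B S) → Inv B (⨆ S : 𝒮, (S : Subgroup G)) :=
    fun B 𝒮 h => le_trans (le_iInf fun S : 𝒮 => h S S.2) (Subgroup.iInf_normalizer_le_normalizer_iSup _)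
  have hbelow : ∀ (B T : Subgroup G), T ≤ V → T ≠ ⊥ → Inv B T → ∃ S ≤ T, Min B S := fun B T h1 h2 h3 =>
    exists_minimal_le_of_wellFoundedLT (fun T : Subgroup G => T ≤ V ∧ T ≠ ⊥ ∧ Inv B T) T ⟨h1, h2, h3⟩
  -- conjugates of minimal `A`-invariant subgroups
  have hconj : ∀ h ∈ H, ∀ S : Subgroup G, Min A S → Min A (S.map (MulAut.conj h).toMonoidHom) := by
    have hmove : ∀ h ∈ H, ∀ T : Subgroup G, T ≤ V ∧ T ≠ ⊥ ∧ Inv A T →
        T.map (MulAut.conj h).toMonoidHom ≤ V ∧ T.map (MulAut.conj h).toMonoidHom ≠ ⊥ ∧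
          Inv A (T.map (MulAut.conj h).toMonoidHom) := by
      intro h hh T hT
      refine ⟨?_, ?_, ?_⟩
      · rintro _ ⟨v, hv, rfl⟩
        exact ((Subgroup.mem_normalizer_iff.mp (hHV hh)) v).mp (hT.1 hv)
      · exact fun e => hT.2.1 ((Subgroup.map_eq_bot_iff_of_injective _ (MulAut.conj h).injective).mp e)
      · intro a ha
        have ha' : h⁻¹ * a * h ∈ A := by
          have := ((Subgroup.mem_normalizer_iff.mp (inv_mem (hAn hh))) a).mp ha
          simpa using this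
        have hmap := Subgroup.mem_normalizer_iff_map_conj_eq.mp (hT.2.2 ha')
        rw [Subgroup.mem_normalizer_iff_map_conj_eq, Subgroup.map_map]
        conv_rhs => rw [← hmap, Subgroup.map_map]
        congr 1
        ext x
        simp [mul_assoc]
    intro h hh S hS
    refine ⟨hmove h hh S hS.1, fun T hT hle => ?_⟩
    have hback := hS.2 (hmove h⁻¹ (inv_mem hh) T hT) (by
      rintro _ ⟨y, hy, rfl⟩
      obtain ⟨z, hz, rfl⟩ := hle hy
      simpa [mul_assoc] using hz)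
    rintro _ ⟨z, hz, rfl⟩
    obtain ⟨y, hy, rfl⟩ := hback hz
    simpa [mul_assoc] using hy
  -- `V` is generated by minimal `H`-invariant subgroups
  have hJH : (⨆ M : {M | Min H M}, (M : Subgroup G)) = V := by
    have hle : (⨆ M : {M | Min H M}, (M : Subgroup G)) ≤ V := iSup_le fun M => M.2.1.1
    obtain ⟨W, hWV, hWn, hint, hsup⟩ :=
      hss _ hle (hjoin H _ fun M hM => hM.1.2.2)
    rcases eq_or_ne W ⊥ with hW | hW
    · rwa [hW, sup_bot_eq] at hsup
    · obtain ⟨M, hMW, hM⟩ := hbelow H W hWV hW hWn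
      exact absurd (le_bot_iff.mp (hint ▸ le_inf (le_iSup (fun M : {M | Min H M} => (M : Subgroup G)) ⟨M, hM⟩) hMW)) hM.1.2.1
  -- and hence by minimal `A`-invariant subgroups
  have hJA : V ≤ ⨆ S : {S | Min A S}, (S : Subgroup G) := by
    rw [← hJH]
    refine iSup_le fun M => ?_
    obtain ⟨S, hSM, hS⟩ := hbelow A M.1 M.2.1.1 M.2.1.2.1 (hAH.trans M.2.1.2.2)
    let T := ⨆ h : H, S.map (MulAut.conj (h : G)).toMonoidHom
    have hTM : T ≤ M.1 := iSup_le fun h => by
      rw [← Subgroup.mem_normalizer_iff_map_conj_eq.mp (M.2.1.2.2 h.2)]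
      exact Subgroup.map_mono hSM
    have hST : S ≤ T := le_iSup_of_le (1 : H) (by intro x hx; exact ⟨x, hx, by simp⟩)
    have hTn : Inv H T := by
      intro g hg
      rw [Subgroup.mem_normalizer_iff_map_conj_eq, Subgroup.map_iSup]
      refine le_antisymm (iSup_le fun h => le_iSup_of_le (⟨g, hg⟩ * h : H) ?_)
        (iSup_le fun h => le_iSup_of_le ((⟨g, hg⟩ : H)⁻¹ * h) ?_)
      · rintro _ ⟨_, ⟨z, hz, rfl⟩, rfl⟩; exact ⟨z, hz, by simp [mul_assoc]⟩
      · rintro _ ⟨z, hz, rfl⟩; exact ⟨_, ⟨z, hz, rfl⟩, by simp [mul_assoc]⟩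
    refine le_trans (M.2.2 ⟨hTM.trans M.2.1.1, fun e => hS.1.2.1 (le_bot_iff.mp (e ▸ hST)), hTn⟩ hTM) ?_
    exact iSup_le fun h => le_iSup (fun S : {S | Min A S} => (S : Subgroup G)) ⟨_, hconj h h.2 S hS⟩
  -- take a maximal invariant subgroup meeting `U` trivially
  obtain ⟨W, -, hW⟩ := exists_maximal_ge_of_wellFoundedGT
    (fun T : Subgroup G => T ≤ V ∧ Inv A T ∧ U ⊓ T = ⊥) ⊥
    ⟨bot_le, fun a _ => Subgroup.mem_normalizer_iff_map_conj_eq.mpr (Subgroup.map_bot _), inf_bot_eq U⟩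
  refine ⟨W, hW.1.1, hW.1.2.1, hW.1.2.2, le_antisymm (sup_le hUV hW.1.1) ?_⟩
  refine hJA.trans (iSup_le fun S => ?_)
  by_contra hSU
  have hcomm : ∀ T : Subgroup G, T ≤ V → V ≤ Subgroup.normalizer (T : Set G) := by
    intro T hT v hv
    rw [Subgroup.mem_normalizer_iff]
    intro t
    constructor
    · intro ht
      have : v * t = t * v := congrArg Subtype.val (mul_comm' (⟨v, hv⟩ : V) ⟨t, hT ht⟩)
      rwa [this, mul_inv_cancel_right]
    · intro ht
      have h1 : t ∈ V := by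
        have := mul_mem (mul_mem (inv_mem hv) (hT ht)) hv
        simpa [mul_assoc] using this
      have : v * t = t * v := congrArg Subtype.val (mul_comm' (⟨v, hv⟩ : V) ⟨t, h1⟩)
      rwa [this, mul_inv_cancel_right] at ht
  have hUWinv : Inv A (U ⊔ W) :=
    le_trans (le_inf hAU hW.1.2.1) (Subgroup.normalizer_inf_normalizer_le_normalizer_sup U W)
  have hSinf : (S : Subgroup G) ⊓ (U ⊔ W) = ⊥ := by
    by_contra hne
    refine hSU (le_trans (S.2.2 ⟨inf_le_left.trans S.2.1.1, hne, ?_⟩ inf_le_left) inf_le_right)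
    intro a ha
    rw [Subgroup.mem_normalizer_iff]
    intro x
    exact and_congr ((Subgroup.mem_normalizer_iff.mp (S.2.1.2.2 ha)) x)
      ((Subgroup.mem_normalizer_iff.mp (hUWinv ha)) x)
  have hbigger : U ⊓ (W ⊔ S) = ⊥ := by
    rw [eq_bot_iff]
    rintro x ⟨hxU, hxWS⟩
    have hxWS' : x ∈ ((W ⊔ S : Subgroup G) : Set G) := hxWS
    rw [Subgroup.coe_mul_of_left_le_normalizer_right W S (hW.1.1.trans (hcomm S S.2.1.1))] at hxWS'
    obtain ⟨w, hw, s, hs, rfl⟩ := hxWS'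
    have hs' : s ∈ (S : Subgroup G) ⊓ (U ⊔ W) := ⟨hs, by
      have : s = w⁻¹ * (w * s) := by group
      rw [this]
      exact mul_mem (Subgroup.mem_sup_right (inv_mem hw)) (Subgroup.mem_sup_left hxU)⟩
    rw [hSinf, Subgroup.mem_bot] at hs'
    subst hs'
    simp only [mul_one] at hxU ⊢
    exact hW.1.2.2 ▸ (⟨hxU, hw⟩ : w ∈ U ⊓ W)
  refine hSU (le_trans ?_ (le_sup_right : W ≤ U ⊔ W))
  exact le_trans le_sup_right (hW.2 ⟨sup_le hW.1.1 S.2.1.1, le_trans (le_inf hW.1.2.1 S.2.1.2.2)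
    (Subgroup.normalizer_inf_normalizer_le_normalizer_sup W S), hbigger⟩ le_sup_left)

end Cfsg.Agent.S3735
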