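import Cfsg.Statements.S3736
import Mathlib
import Cfsg.Agent.H1.CoprimeAction2
import Cfsg.Agent.H6.SpecialAction
import Cfsg.Agent.H83.TrivAction

set_option autoImplicit false
open Cfsg
open scoped commutatorElement

namespace Cfsg.Agent.S3736

/-- The Hall–Higman reduction for a minimal non-trivial action. Let B, A and P be subgroups of a finite group with P a p-group, B normalizing P, and A a normal subgroup of B of order prime to p. Suppose A does not centralize P but centralizes every proper B-invariant subgroup of P. Then [P, A] = P; P is elementary abelian or special; B acts irreducibly on P/Φ(P), that is, the only B-invariant subgroups of P containing Φ(P) are Φ(P) and P; and if p is odd then every element of P has order dividing p. -/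
theorem result {X : Type*} [Group X] [Finite X] {p : ℕ} [Fact p.Prime] (B A P : Subgroup X) (hP : IsPGroup p P) (hBP : B ≤ Subgroup.normalizer (P : Set X)) (hAB : A ≤ B) (hAn : B ≤ Subgroup.normalizer (A : Set X)) (hAp : (Nat.card A).Coprime p) (hnt : ⁅P, A⁆ ≠ ⊥) (hmin : ∀ U : Subgroup X, U < P → B ≤ Subgroup.normalizer (U : Set X) → ⁅U, A⁆ = ⊥) : ⁅P, A⁆ = P ∧ (Cfsg.IsElementaryAbelian p P ∨ Cfsg.IsSpecial p ↥P) ∧ (∀ U : Subgroup X, (frattini ↥P).map P.subtype ≤ U → U ≤ P → B ≤ Subgroup.normalizer (U : Set X) → U = (frattini ↥P).map P.subtype ∨ U = P) ∧ (p ≠ 2 → ∀ x ∈ P, x ^ p = 1) := by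
  classical
  have hp : p.Prime := Fact.out
  have hAP : A ≤ Subgroup.normalizer (P : Set X) := hAB.trans hBP
  haveI := hP.isNilpotent
  have hcop : (Nat.card A).Coprime (Nat.card P) := by
    obtain ⟨k, hk⟩ := hP.exists_card_eq
    rw [hk]; exact hAp.pow_right k
  have hsol : Group.IsSolvable A ∨ Group.IsSolvable P := Or.inr inferInstance
  -- `[P, A] = P`
  have hPA : ⁅P, A⁆ = P := by
    rcases (H1.commutator_le_left_of_le_normalizer hAP).lt_or_eq with h | h
    · refine absurd ?_ hnt
      have hB : B ≤ Subgroup.normalizer (⁅P, A⁆ : Subgroup X) := by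
        intro b hb
        rw [Subgroup.mem_normalizer_iff_map_conj_eq, Subgroup.map_commutator,
          Subgroup.mem_normalizer_iff_map_conj_eq.mp (hBP hb), Subgroup.mem_normalizer_iff_map_conj_eq.mp (hAn hb)]
      rw [← H1.commutator_commutator_eq hAP hcop hsol]
      exact hmin _ h hB
    · exact h
  let f : A →* MulAut P := P.normalizerMonoidHom.comp (Subgroup.inclusion hAP)
  have hf : ∀ (a : A) (x : P), ((f a x : P) : X) = a * x * (a : X)⁻¹ := fun a x => rfl
  set A' := f.range with hA'
  have hA'p : Nat.Coprime (Nat.card A') p := hAp.coprime_dvd_left (Subgroup.card_range_dvd f)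
  have hGA : Subgroup.closure {x : P | ∃ g : P, ∃ a ∈ A', x = g⁻¹ * a g} = ⊤ := by
    apply Subgroup.map_injective P.subtype_injective
    rw [← MonoidHom.range_eq_map, Subgroup.range_subtype]
    refine le_antisymm (Subgroup.map_subtype_le _) ?_
    conv_lhs => rw [← hPA]
    rw [Subgroup.commutator_le]
    intro g hg a ha
    refine ⟨(⟨g, hg⟩ : P) * f ⟨a, ha⟩ (⟨g, hg⟩ : P)⁻¹,
      Subgroup.subset_closure ⟨(⟨g, hg⟩ : P)⁻¹, f ⟨a, ha⟩, ⟨_, rfl⟩, by rw [inv_inv]⟩, ?_⟩
    simp [hf, commutatorElement_def, mul_assoc]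
  -- proper invariant subgroups of `P` are fixed
  have hfix : ∀ H : Subgroup P, H ≠ ⊤ → (∀ b ∈ B, ∀ (x : P) (hb' : b ∈ Subgroup.normalizer (P : Set X)),
      x ∈ H → P.normalizerMonoidHom ⟨b, hb'⟩ x ∈ H) → ∀ a ∈ A', ∀ h ∈ H, a h = h := by
    rintro H hH hinv _ ⟨a, rfl⟩ h hh
    have hlt : H.map P.subtype < P := by
      refine lt_of_le_of_ne (Subgroup.map_subtype_le _) fun he => hH ?_
      apply Subgroup.map_injective P.subtype_injective
      rw [he, ← MonoidHom.range_eq_map, Subgroup.range_subtype]
    have hBH : B ≤ Subgroup.normalizer (H.map P.subtype : Subgroup X) := by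
      rw [Subgroup.le_normalizer_iff]
      rintro b hb _ ⟨x, hx, rfl⟩
      exact ⟨_, hinv b hb x (hBP hb) hx, rfl⟩
    have h1 := (Subgroup.commutator_eq_bot_iff_le_centralizer.mp (hmin _ hlt hBH)) ⟨h, hh, rfl⟩
    refine Subtype.ext ?_
    rw [hf]
    rw [Subgroup.mem_centralizer_iff] at h1
    rw [show (a : X) * h = h * a from h1 a a.2, mul_inv_cancel_right]
  have hfixchar : ∀ H : Subgroup P, H.Characteristic → H ≠ ⊤ → ∀ a ∈ A', ∀ h ∈ H, a h = h :=
    fun H hH hne => hfix H hne fun b _ x hb' hx => H6.apply_mem_of_characteristic hH _ hx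
  haveI : Nontrivial P := by
    rw [Subgroup.nontrivial_iff_ne_bot]
    rintro rfl
    exact hnt (Subgroup.commutator_bot_left _)
  -- the elements fixed by `A` when `P` is abelian
  have hab1 : IsMulCommutative P → ∀ v : P, (∀ a ∈ A', a v = v) → v = 1 := by
    intro hc v hv
    haveI := hc
    letI : CommGroup P := { (inferInstance : Group P) with mul_comm := fun a b => mul_comm' a b }
    refine H6.eq_one_of_fixed_of_generates hP A'.subtype hA'p ?_ (fun a => hv a a.2)
    rw [eq_top_iff, ← hGA]
    exact Subgroup.closure_mono fun x ⟨g, a, ha, h⟩ => ⟨g, ⟨a, ha⟩, h⟩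
  by_cases hc : IsMulCommutative P
  · -- elementary abelian
    have hexp : ∀ x : P, x ^ p = 1 := by
      letI : CommGroup P := { (inferInstance : Group P) with mul_comm := fun a b => hc.is_comm.comm a b }
      by_contra hne
      push Not at hne
      obtain ⟨x, hx⟩ := hne
      let Ω : Subgroup P := (powMonoidHom p : P →* P).ker
      have hΩc : Ω.Characteristic := by
        rw [Subgroup.characteristic_iff_le_comap]
        intro φ z hz
        show (φ z) ^ p = 1
        rw [← map_pow, show z ^ p = 1 from hz, map_one]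
      have hΩt : Ω ≠ ⊤ := fun h => hx (show x ∈ Ω from h ▸ Subgroup.mem_top x)
      obtain ⟨z, hz⟩ := exists_prime_orderOf_dvd_card' (G := P) p (by
        obtain ⟨k, hk⟩ := hP.exists_card_eq
        have hk0 : k ≠ 0 := by
          rintro rfl
          have := Finite.one_lt_card (α := P)
          rw [hk] at this
          simp at this
        rw [hk]; exact dvd_pow_self p hk0)
      have hzΩ : z ∈ Ω := show z ^ p = 1 by rw [← hz]; exact pow_orderOf_eq_one z
      have := hab1 hc z (fun a ha => hfixchar Ω hΩc hΩt a ha z hzΩ)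
      rw [this, orderOf_one] at hz
      exact hp.one_lt.ne hz
    have hΦ : frattini P = ⊥ := by
      refine le_bot_iff.mp (H6.frattini_le_of_quotient (p := p) ⊥ ?_ fun g => by rw [hexp]; exact one_mem _)
      rw [commutator_def, Subgroup.commutator_le]
      intro u _ w _
      rw [Subgroup.mem_bot, commutatorElement_eq_one_iff_mul_comm]
      exact hc.is_comm.comm u w
    refine ⟨hPA, Or.inl ⟨hc, fun a ha => congrArg Subtype.val (hexp ⟨a, ha⟩)⟩, ?_, fun _ x hx => congrArg Subtype.val (hexp ⟨x, hx⟩)⟩
    intro U _ hUP hBU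
    by_cases hUeq : U = P
    · exact Or.inr hUeq
    left
    rw [hΦ, Subgroup.map_bot, eq_bot_iff]
    intro u hu
    have hne : U.subgroupOf P ≠ ⊤ := fun h => hUeq (le_antisymm hUP (Subgroup.subgroupOf_eq_top.mp h))
    have := hab1 hc ⟨u, hUP hu⟩ (fun a ha => hfix _ hne (fun b hb x hb' hx =>
      (Subgroup.mem_normalizer_iff.mp (hBU hb) _).mp hx) a ha _ hu)
    exact Subgroup.mem_bot.mpr (congrArg Subtype.val this)
  · -- special
    obtain ⟨hsp, hZ⟩ := H6.special_of_coprime_action hP A' hA'p hGA
      (fun H hH hHc => hfixchar H hH fun h => hc ⟨⟨fun a b => by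
        haveI := hHc
        exact congrArg Subtype.val (mul_comm' (⟨a, h ▸ Subgroup.mem_top a⟩ : H) ⟨b, h ▸ Subgroup.mem_top b⟩)⟩⟩)
    refine ⟨hPA, Or.inr hsp, ?_, ?_⟩
    · intro U hΦU hUP hBU
      by_cases hUeq : U = P
      · exact Or.inr hUeq
      left
      refine le_antisymm ?_ hΦU
      intro u hu
      have hne : U.subgroupOf P ≠ ⊤ := fun h => hUeq (le_antisymm hUP (Subgroup.subgroupOf_eq_top.mp h))
      refine ⟨⟨u, hUP hu⟩, ?_, rfl⟩
      rw [SetLike.mem_coe, hsp.2.1]
      exact (hZ _).mpr fun a ha => hfix _ hne (fun b hb x hb' hx =>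
        (Subgroup.mem_normalizer_iff.mp (hBU hb) _).mp hx) a ha _ hu
    · intro hp2 x hx
      have hcomm : ∀ a b c : P, Commute ⁅a, b⁆ c := fun a b c =>
        (Subgroup.mem_center_iff.mp (hsp.2.2.le (by
          rw [commutator_def]; exact Subgroup.commutator_mem_commutator (Subgroup.mem_top a) (Subgroup.mem_top b))) c).symm
      have hcp : ∀ a b : P, ⁅a, b⁆ ^ p = 1 := by
        intro a b
        rw [← H6.commutator_pow_left (hcomm a b a).symm, commutatorElement_eq_one_iff_mul_comm]
        exact (Subgroup.mem_center_iff.mp (hsp.2.1.le (H6.pow_prime_mem_frattini hP a)) b).symm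
      let Ω : Subgroup P :=
        { carrier := {z | z ^ p = 1}
          one_mem' := one_pow p
          mul_mem' := fun {a b} ha hb => by
            show (a * b) ^ p = 1
            have h1 : b * a = a * b * ⁅b⁻¹, a⁻¹⁆ := by rw [commutatorElement_def]; group
            rw [H83.mul_pow_prime hp hp2 h1 (hcomm _ _ a).eq (hcomm _ _ b).eq (hcp _ _),
              show a ^ p = 1 from ha, show b ^ p = 1 from hb, one_mul]
          inv_mem' := fun {a} ha => by
            show a⁻¹ ^ p = 1
            rw [inv_pow, show a ^ p = 1 from ha, inv_one] }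
      by_contra hxp
      have hΩc : Ω.Characteristic := by
        rw [Subgroup.characteristic_iff_le_comap]
        intro φ z hz
        show (φ z) ^ p = 1
        rw [← map_pow, show z ^ p = 1 from hz, map_one]
      have hΩt : Ω ≠ ⊤ := fun h => hxp (congrArg Subtype.val (show (⟨x, hx⟩ : P) ∈ Ω from h ▸ Subgroup.mem_top _))
      apply hnt
      rw [Subgroup.commutator_comm, Subgroup.commutator_eq_bot_iff_le_centralizer]
      refine H83.le_centralizer_of_fixes_omega hp2 hP hAP hAp fun z hz hzp a ha => ?_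
      have := congrArg Subtype.val (hfixchar Ω hΩc hΩt (f ⟨a, ha⟩) ⟨_, rfl⟩ ⟨z, hz⟩ (Subtype.ext hzp))
      rw [hf] at this
      exact mul_inv_eq_iff_eq_mul.mp this

end Cfsg.Agent.S3736
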