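import Cfsg.Statements.S3737
import Mathlib
import Cfsg.Agent.H1.CoprimeAction2
import Cfsg.Agent.H29.BaerSum

set_option autoImplicit false
open Cfsg

namespace Cfsg.Agent.S3737

open scoped commutatorElement

/-- The class-two case, by averaging in the Baer sum. -/
theorem le_centralizer_of_class_two {X : Type*} [Group X] [Finite X] {p : ℕ} [Fact p.Prime] (hp : p ≠ 2)
    (P Q G : Subgroup X) (hP : IsPGroup p P) (hQ : (Nat.card Q).Coprime p)
    (hPQ : P ≤ Subgroup.normalizer (Q : Set X)) (hG : IsPGroup p G)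
    (hPG : P ≤ Subgroup.normalizer (G : Set X)) (hQG : Q ≤ Subgroup.normalizer (G : Set X))
    (hc : ∀ a b c : G, Commute ⁅a, b⁆ c)
    (hC : G ⊓ Subgroup.centralizer (P : Set X) ≤ Subgroup.centralizer (Q : Set X)) :
    Q ≤ Subgroup.centralizer (G : Set X) := by
  classical
  obtain ⟨n, hn⟩ := hG.exists_card_eq
  have hodd : Odd (Nat.card G) := hn ▸ ((Fact.out : p.Prime).odd_of_ne_two hp).pow
  obtain ⟨h, hh⟩ : ∃ h, 2 * h = Nat.card G + 1 := by
    obtain ⟨t, ht⟩ := hodd; exact ⟨t + 1, by omega⟩
  have hh' : ∀ a b : G, ⁅a, b⁆ ^ (2 * h) = ⁅a, b⁆ := fun a b => by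
    rw [hh, pow_succ, pow_card_eq_one', one_mul]
  letI : AddCommGroup G := H29.baerAddCommGroup h hh' hc
  haveI : Fintype Q := Fintype.ofFinite _
  have hadd : ∀ a b : G, a + b = a * b * ⁅b, a⁆ ^ h := H29.baerAdd_eq h hh' hc
  -- conjugation is additive
  let cj : ∀ x : X, x ∈ Subgroup.normalizer (G : Set X) → (G →+ G) := fun x hx =>
    AddMonoidHom.mk' (fun v => (G.normalizerMonoidHom ⟨x, hx⟩) v) fun a b => by
      simp only [hadd, map_mul, map_pow, map_commutatorElement]
  have cj_coe : ∀ x hx (v : G), ((cj x hx v : G) : X) = x * v * x⁻¹ := fun x hx v => rfl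
  let σ : G →+ G := ∑ q : Q, cj q (hQG q.2)
  have hσ : ∀ v : G, σ v = ∑ q : Q, cj q (hQG q.2) v := fun v => AddMonoidHom.finsetSum_apply _ _ v
  have hσQ : ∀ (q : Q) (v : G), cj q (hQG q.2) (σ v) = σ v := by
    intro q v
    rw [hσ, map_sum]
    refine Fintype.sum_equiv (Equiv.mulLeft q) _ _ fun i => Subtype.ext ?_
    simp [cj_coe, mul_assoc]
  have hσP : ∀ (x : P) (v : G), cj x (hPG x.2) (σ v) = σ (cj x (hPG x.2) v) := by
    intro x v
    rw [hσ, hσ, map_sum]
    let e : Q ≃ Q :=
      { toFun := fun q => ⟨x * q * (x : X)⁻¹, ((Subgroup.mem_normalizer_iff.mp (hPQ x.2)) _).mp q.2⟩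
        invFun := fun q => ⟨(x : X)⁻¹ * q * x, by
          have := ((Subgroup.mem_normalizer_iff.mp (inv_mem (hPQ x.2))) _).mp q.2
          simpa using this⟩
        left_inv := fun q => Subtype.ext (by simp [mul_assoc])
        right_inv := fun q => Subtype.ext (by simp [mul_assoc]) }
    refine Fintype.sum_equiv e _ _ fun i => Subtype.ext ?_
    simp [cj_coe, e, mul_assoc]
  -- an element of the kernel fixed by `P` is zero
  have hzero : ∀ v : G, σ v = 0 → (∀ x : P, cj x (hPG x.2) v = v) → v = 0 := by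
    intro v hv hfix
    have hvQ : ∀ q : Q, cj q (hQG q.2) v = v := by
      intro q
      have hvC : (v : X) ∈ G ⊓ Subgroup.centralizer (P : Set X) := by
        refine Subgroup.mem_inf.mpr ⟨v.2, Subgroup.mem_centralizer_iff.mpr fun x hx => ?_⟩
        exact mul_inv_eq_iff_eq_mul.mp ((cj_coe x _ v).symm.trans (congrArg Subtype.val (hfix ⟨x, hx⟩)))
      exact Subtype.ext (by
        rw [cj_coe, Subgroup.mem_centralizer_iff.mp (hC hvC) q q.2, mul_inv_cancel_right])
    rw [hσ, Finset.sum_congr rfl (fun q _ => hvQ q), Finset.sum_const, Finset.card_univ] at hv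
    have hcop : (Fintype.card Q).Coprime (Nat.card G) := by
      rw [← Nat.card_eq_fintype_card, hn]; exact hQ.pow_right n
    exact (nsmulCoprime hcop.symm).injective (hv.trans (nsmul_zero _).symm)
  have hker : σ.ker = ⊥ := by
    by_contra hne
    have hst : ∀ (x : P) (v : σ.ker), cj x (hPG x.2) (v : G) ∈ σ.ker := fun x v => by
      have hv : σ (v : G) = 0 := v.2
      show σ _ = 0
      rw [← hσP, hv, map_zero]
    letI : MulAction P σ.ker :=
      { smul := fun x v => ⟨cj x (hPG x.2) (v : G), hst x v⟩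
        one_smul := fun v => Subtype.ext (Subtype.ext (by
          show ((cj (1 : X) _ (v : G) : G) : X) = ((v : G) : X)
          simp [cj_coe]))
        mul_smul := fun a b v => Subtype.ext (Subtype.ext (by
          show ((cj ((a : X) * b) _ (v : G) : G) : X) = ((cj a _ (cj b _ (v : G)) : G) : X)
          simp [cj_coe, mul_assoc])) }
    have hcard : p ∣ Nat.card σ.ker := by
      obtain ⟨k, -, hk⟩ := (Nat.dvd_prime_pow (Fact.out : p.Prime)).mp
        (hn ▸ AddSubgroup.card_addSubgroup_dvd_card σ.ker)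
      rcases k with _ | k
      · exact absurd (AddSubgroup.card_eq_one.mp (by simpa using hk)) hne
      · rw [hk]; exact dvd_pow_self p (Nat.succ_ne_zero k)
    have h0 : (0 : σ.ker) ∈ MulAction.fixedPoints P σ.ker := fun x => Subtype.ext (map_zero (cj x (hPG x.2)))
    obtain ⟨b, hb, hb0⟩ := hP.exists_fixed_point_of_prime_dvd_card_of_fixed_point _ hcard h0
    exact hb0 (Subtype.ext (hzero b b.2 (fun x => congrArg Subtype.val (hb x))).symm)
  have hsur : Function.Surjective σ :=
    Finite.injective_iff_surjective.mp ((AddMonoidHom.ker_eq_bot_iff σ).mp hker)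
  intro q hq
  rw [Subgroup.mem_centralizer_iff]
  intro g hg
  obtain ⟨v, hv⟩ := hsur ⟨g, hg⟩
  have h1 := hσQ ⟨q, hq⟩ v
  rw [hv] at h1
  exact (mul_inv_eq_iff_eq_mul.mp ((cj_coe q _ ⟨g, hg⟩).symm.trans (congrArg Subtype.val h1))).symm

/-- Thompson's strengthening of the P × Q lemma for odd primes. Let p be an odd prime and let P, Q and G be subgroups of a finite group with P a p-group, Q of order prime to p and normalized by P, and G a p-group normalized by both P and Q. If every element of G centralized by P is centralized by Q, then Q centralizes G. -/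
theorem result {X : Type*} [Group X] [Finite X] {p : ℕ} [Fact p.Prime] (hp : p ≠ 2) (P Q G : Subgroup X) (hP : IsPGroup p P) (hQ : (Nat.card Q).Coprime p) (hPQ : P ≤ Subgroup.normalizer (Q : Set X)) (hG : IsPGroup p G) (hPG : P ≤ Subgroup.normalizer (G : Set X)) (hQG : Q ≤ Subgroup.normalizer (G : Set X)) (hC : G ⊓ Subgroup.centralizer (P : Set X) ≤ Subgroup.centralizer (Q : Set X)) : Q ≤ Subgroup.centralizer (G : Set X) := by
  induction hn : Nat.card G using Nat.strong_induction_on generalizing G with
  | _ n ih =>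
  by_cases hne : G = ⊥
  · subst hne
    rw [← Subgroup.commutator_eq_bot_iff_le_centralizer, Subgroup.commutator_bot_right]
  have hlt : ∀ U : Subgroup X, U < G → Nat.card U < n := fun U hU => by
    rw [← hn]; exact Set.Finite.card_lt_card (Set.toFinite _) hU
  set D := ⁅G, G⁆ with hD
  have hDlt : D < G := H1.commutator_lt_of_isPGroup hG hG Subgroup.le_normalizer hne
  have hconj : ∀ R : Subgroup X, R ≤ Subgroup.normalizer (G : Set X) →
      R ≤ Subgroup.normalizer (D : Set X) := by
    intro R hR r hr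
    rw [Subgroup.mem_normalizer_iff_map_conj_eq, hD, Subgroup.map_commutator,
      Subgroup.mem_normalizer_iff_map_conj_eq.mp (hR hr)]
  have hQD : Q ≤ Subgroup.centralizer (D : Set X) :=
    ih _ (hlt D hDlt) D (hG.to_le hDlt.le) (hconj P hPG) (hconj Q hQG)
      ((inf_le_inf_right _ hDlt.le).trans hC) rfl
  set W := ⁅G, Q⁆ with hW
  have hWG : W ≤ G := H1.commutator_le_left_of_le_normalizer hQG
  rcases hWG.lt_or_eq with hWlt | hWeq
  · have hPW : P ≤ Subgroup.normalizer (W : Set X) := by
      intro r hr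
      rw [Subgroup.mem_normalizer_iff_map_conj_eq, hW, Subgroup.map_commutator,
        Subgroup.mem_normalizer_iff_map_conj_eq.mp (hPG hr), Subgroup.mem_normalizer_iff_map_conj_eq.mp (hPQ hr)]
    have h1 : Q ≤ Subgroup.centralizer (W : Set X) :=
      ih _ (hlt W hWlt) W (hG.to_le hWG) hPW H1.right_le_normalizer_commutator
        ((inf_le_inf_right _ hWG).trans hC) rfl
    haveI := hG.isNilpotent
    have hcop : (Nat.card Q).Coprime (Nat.card G) := by
      obtain ⟨m, hm⟩ := hG.exists_card_eq
      rw [hm]; exact hQ.pow_right m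
    exact H1.le_centralizer_of_commutator_le hQG hcop (Or.inr inferInstance) le_rfl
      (by rw [← hW, Subgroup.commutator_comm, Subgroup.commutator_eq_bot_iff_le_centralizer]; exact h1)
  · have h2 : ⁅⁅Q, G⁆, D⁆ = ⊥ := by
      refine Subgroup.commutator_commutator_eq_bot_of_rotate ?_ ?_
      · rw [Subgroup.commutator_comm, eq_bot_iff, ← (Subgroup.commutator_eq_bot_iff_le_centralizer.mpr hQD)]
        refine Subgroup.commutator_mono le_rfl ?_
        rw [Subgroup.commutator_comm]
        exact H1.commutator_le_left_of_le_normalizer (hconj G Subgroup.le_normalizer)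
      · rw [Subgroup.commutator_comm D Q, Subgroup.commutator_eq_bot_iff_le_centralizer.mpr hQD,
          Subgroup.commutator_bot_left]
    rw [Subgroup.commutator_comm Q G, ← hW, hWeq, Subgroup.commutator_eq_bot_iff_le_centralizer] at h2
    refine le_centralizer_of_class_two hp P Q G hP hQ hPQ hG hPG hQG ?_ hC
    intro a b c
    refine Subtype.ext ?_
    exact (Subgroup.mem_centralizer_iff.mp (h2 c.2) _
      (Subgroup.commutator_mem_commutator a.2 b.2))

end Cfsg.Agent.S3737
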