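import Cfsg.Statements.S3738
import Cfsg.Agent.H28.TwoRankThree

set_option autoImplicit false
open Cfsg

namespace Cfsg.Agent.S3738

/-- Let d be a non-identity 3-element of a finite group and P a 2-subgroup normalized by d on which ⟨d⟩ acts faithfully (no non-identity power of d centralizes P) and without non-identity fixed points (C_P(d) = 1). If every abelian subgroup of P has 2-rank at most 2, then d has order 3. -/
theorem result {X : Type*} [Group X] [Finite X] (d : X) (n : ℕ) (hn : 1 ≤ n) (hd : orderOf d = 3 ^ n) (P : Subgroup X) (hP : IsPGroup 2 P) (hdP : d ∈ Subgroup.normalizer (P : Set X)) (hfaith : Subgroup.zpowers d ⊓ Subgroup.centralizer (P : Set X) = ⊥) (hfpf : P ⊓ Subgroup.centralizer {d} = ⊥) (hrank : ∀ V : Subgroup X, V ≤ P → IsMulCommutative V → Cfsg.PRankLE 2 2 V) : orderOf d = 3 := by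
  refine H28.Rank3.order_eq_three P hP d n hn hd hdP hfaith fun E hEP hEc hE2 => ?_
  have hE : IsMulCommutative E := ⟨⟨fun a b => Subtype.ext (hEc a a.2 b b.2)⟩⟩
  have h := hrank E hEP hE ⊤ ⟨⟨fun a b => Subtype.ext (Subtype.ext (hEc a.1 a.1.2 b.1 b.1.2))⟩⟩
    (fun a _ => Subtype.ext (hE2 a a.2))
  rw [Subgroup.card_top] at h
  exact h

end Cfsg.Agent.S3738
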