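import Cfsg.Statements.S3739
import Cfsg.Agent.H28.ThreeInvolutions
import Cfsg.Agent.H1.Cores

set_option autoImplicit false
open Cfsg

namespace Cfsg.Agent.S3739

/-- Let G be a finite group with C_G(O₂(G)) ≤ O₂(G) containing an element of order 6, and let d be a non-identity 3-element of G normalizing a nontrivial elementary abelian 2-subgroup W with C_W(d) = 1. Then G has an elementary abelian subgroup of order 8. -/
theorem result {G : Type*} [Group G] [Finite G] (hchar : Subgroup.centralizer (Cfsg.pCore 2 G : Set G) ≤ Cfsg.pCore 2 G) (hsix : ∃ g : G, orderOf g = 6) (d : G) (hd1 : d ≠ 1) (hd : IsPGroup 3 ↥(Subgroup.zpowers d)) (W : Subgroup G) (hW : Cfsg.IsElementaryAbelian 2 W) (hW1 : W ≠ ⊥) (hdW : d ∈ Subgroup.normalizer (W : Set G)) (hfpf : W ⊓ Subgroup.centralizer {d} = ⊥) : ∃ E : Subgroup G, Cfsg.IsElementaryAbelian 2 E ∧ Nat.card E = 8 := by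
  haveI : (Cfsg.pCore 2 G).Characteristic := H1.pCore_characteristic 2 G
  obtain ⟨g, hg⟩ := hsix
  obtain ⟨E, hEc, hE2, hE8⟩ := H28.Rank3.exists_eight (Cfsg.pCore 2 G) (H1.isPGroup_pCore 2 G)
    hchar g hg W
    (fun a ha b hb => by
      haveI := hW.1
      exact congrArg Subtype.val (mul_comm' (⟨a, ha⟩ : W) ⟨b, hb⟩))
    hW.2 hW1 d hdW (fun x hx h => Subgroup.mem_bot.mp
      (hfpf ▸ ⟨hx, Subgroup.mem_centralizer_singleton_iff.mpr h.symm⟩))
  exact ⟨E, ⟨⟨⟨fun a b => Subtype.ext (hEc a a.2 b b.2)⟩⟩, hE2⟩, hE8⟩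

end Cfsg.Agent.S3739
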