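import Cfsg.Statements.S3740
import Cfsg.Agent.S0274
import Cfsg.Agent.H37.Torus
import Cfsg.Agent.H37.Card
import Cfsg.Agent.H84.OddGL2
import Cfsg.Agent.H29.CommutatorFixedBasic

set_option autoImplicit false
open Cfsg

namespace Cfsg.Agent.S3740

open Matrix in
theorem card_SL2_prime (p : ℕ) [Fact p.Prime] :
    (p - 1) * Nat.card (SpecialLinearGroup (Fin 2) (ZMod p)) = (p ^ 2 - 1) * (p ^ 2 - p) := by
  have h := H37.card_SL_fin (F := ZMod p) 2 one_le_two
  simpa [Fin.prod_univ_two] using h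

/-- A cyclic subgroup of order four cannot be permuted by an element of order three without being
centralised. -/
theorem fixed_of_order_four {G : Type*} [Group G] [Finite G] {a y : G} (ha : a ^ 3 = 1)
    (hy : orderOf y = 4) (hinv : a * y * a⁻¹ ∈ Subgroup.zpowers y) : a * y * a⁻¹ = y := by
  obtain ⟨k, hk⟩ := mem_powers_iff_mem_zpowers.mpr hinv
  have hk' : a * y * a⁻¹ = y ^ k := hk.symm
  have hyk : a * y ^ k * a⁻¹ = y ^ (k * k) :=
    conj_pow.symm.trans (by rw [hk', ← pow_mul])
  have h3 : y ^ (k * k * k) = y := by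
    calc y ^ (k * k * k) = (a * y ^ k * a⁻¹) ^ k := by rw [hyk, ← pow_mul]
      _ = a * (y ^ k) ^ k * a⁻¹ := conj_pow
      _ = a * (a * (a * y * a⁻¹) * a⁻¹) * a⁻¹ := by rw [← pow_mul, ← hyk, hk']
      _ = a ^ 3 * y * (a ^ 3)⁻¹ := by rw [pow_three]; group
      _ = y := by rw [ha]; group
  have h4 : k * k * k % 4 = 1 := by
    have := (pow_inj_mod (x := y) (n := k * k * k) (m := 1)).mp (by rw [h3, pow_one])
    rw [hy] at this
    exact this
  have h5 : k % 4 = 1 := by
    rw [Nat.mul_mod, Nat.mul_mod k k] at h4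
    rcases (by omega : k % 4 = 0 ∨ k % 4 = 1 ∨ k % 4 = 2 ∨ k % 4 = 3) with h | h | h | h <;>
      (rw [h] at h4; norm_num at h4) <;> exact h
  rw [hk', ← pow_mod_orderOf y k, hy, h5, pow_one]

/-- If a p-element a of SL₂(q), q = p^n odd, normalizes a p′-subgroup R and ⁅R, ⟨a⟩⁆ ≠ 1, then p = 3, R ≅ Q₈ and R⟨a⟩ ≅ SL₂(3). -/
theorem result (F : Type) [Field F] [Fintype F] {p : ℕ} [Fact p.Prime] [CharP F p] (hp : p ≠ 2) (a : Matrix.SpecialLinearGroup (Fin 2) F) (ha : IsPGroup p ↥(Subgroup.zpowers a)) (R : Subgroup (Matrix.SpecialLinearGroup (Fin 2) F)) (hR : (Nat.card R).Coprime p) (haR : a ∈ Subgroup.normalizer (R : Set (Matrix.SpecialLinearGroup (Fin 2) F))) (hnt : ⁅R, Subgroup.zpowers a⁆ ≠ ⊥) : p = 3 ∧ Nonempty (↥R ≃* QuaternionGroup 2) ∧ Nonempty (↥(R ⊔ Subgroup.zpowers a) ≃* Matrix.SpecialLinearGroup (Fin 2) (ZMod 3)) := by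
  classical
  have hpp : p.Prime := Fact.out
  have hp3 : 3 ≤ p := by have := hpp.two_le; omega
  have hndvd : ¬ p ∣ Nat.card R := (hpp.coprime_iff_not_dvd).mp hR.symm
  have ha1 : a ≠ 1 := by
    rintro rfl
    apply hnt
    rw [Subgroup.zpowers_one_eq_bot]
    exact Subgroup.commutator_bot_right R
  -- `a` is unipotent of order `p`
  have hap : a ^ p = 1 := by
    obtain ⟨k, hk⟩ := ha ⟨a, Subgroup.mem_zpowers a⟩
    have hk' : a ^ p ^ k = 1 := congrArg Subtype.val hk
    have hM : (a : Matrix (Fin 2) (Fin 2) F) ^ p ^ k = 1 := by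
      rw [← Matrix.SpecialLinearGroup.coe_pow, hk']; rfl
    haveI : ExpChar F p := ExpChar.prime hpp
    have hnil : IsNilpotent ((a : Matrix (Fin 2) (Fin 2) F) - 1) :=
      ⟨p ^ k, by rw [sub_pow_char_pow_of_commute p k (Commute.one_right _), hM, one_pow, sub_self]⟩
    have hsq : ((a : Matrix (Fin 2) (Fin 2) F) - 1) ^ 2 = 0 := by
      rw [sq, H80.sq_eq_fin_two, H84.det_eq_zero_of_isNilpotent hnil,
        (Matrix.isNilpotent_trace_of_isNilpotent hnil).eq_zero, zero_smul, zero_smul, sub_zero]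
    apply Subtype.ext
    rw [Matrix.SpecialLinearGroup.coe_pow]
    have h0 := sub_pow_char_of_commute p (Commute.one_right (a : Matrix (Fin 2) (Fin 2) F))
    obtain ⟨r, hr⟩ : ∃ r, p = 2 + r := ⟨p - 2, by omega⟩
    rw [one_pow, hr, pow_add, hsq, zero_mul, ← hr] at h0
    exact sub_eq_zero.mp h0.symm
  have hord : orderOf a = p := orderOf_eq_prime hap ha1
  -- a `p'`-element commuting with `a` is central
  have hcen : ∀ c : Matrix.SpecialLinearGroup (Fin 2) F, c ∈ R → a * c = c * a →
      c ∈ Subgroup.center (Matrix.SpecialLinearGroup (Fin 2) F) := by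
    intro c hc hca
    by_contra hnc
    have hsc : ¬ H40.IsScalar2 (a : Matrix (Fin 2) (Fin 2) F) := fun h => by
      have h2 := H37.mul_self_of_mem_center (H37.mem_center_of_isScalar2 h)
      have h4 : orderOf a ∣ 2 := orderOf_dvd_of_pow_eq_one (by rw [pow_two]; exact h2)
      rw [hord] at h4
      exact absurd (Nat.le_of_dvd two_pos h4) (by omega)
    obtain ⟨α, β, hαβ⟩ := H40.comm_eq_poly hsc
      (show (c : Matrix (Fin 2) (Fin 2) F) * (a : Matrix (Fin 2) (Fin 2) F) = _ from
        (congrArg Subtype.val hca).symm)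
    -- `c ^ p` is scalar
    have hcp : H40.IsScalar2 ((c ^ p : Matrix.SpecialLinearGroup (Fin 2) F) : Matrix (Fin 2) (Fin 2) F) := by
      haveI : ExpChar F p := ExpChar.prime hpp
      have hA : (a : Matrix (Fin 2) (Fin 2) F) ^ p = 1 := by
        rw [← Matrix.SpecialLinearGroup.coe_pow, hap]; rfl
      rw [Matrix.SpecialLinearGroup.coe_pow, hαβ,
        add_pow_char_of_commute p (((Commute.one_left _).smul_left α).smul_right β), smul_pow,
        smul_pow, hA, one_pow, ← add_smul]
      simp [H40.IsScalar2, Matrix.smul_apply, Matrix.one_apply]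
    apply hnc
    have h1 := H37.mem_center_of_isScalar2 hcp
    have hord' : (orderOf c).Coprime p := by
      refine Nat.Coprime.coprime_dvd_left ?_ hR
      rw [← Subgroup.orderOf_mk c hc]
      exact orderOf_dvd_natCard _
    obtain ⟨k, hk⟩ := exists_pow_eq_self_of_coprime hord'.symm
    rw [← hk]
    exact pow_mem h1 k
  -- elements fixed
  have hfix2 : ∀ c : Matrix.SpecialLinearGroup (Fin 2) F, c ∈ R → a * c = c * a → c * c = 1 :=
    fun c hc h => H37.mul_self_of_mem_center (hcen c hc h)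
  -- Dickson for invariant subgroups of `R`
  have hdick : ∀ S : Subgroup (Matrix.SpecialLinearGroup (Fin 2) F), S ≤ R →
      a ∈ Subgroup.normalizer (S : Set (Matrix.SpecialLinearGroup (Fin 2) F)) →
      (∀ x ∈ S, a * x = x * a) ∨
      ∃ K : Subgroup (Matrix.SpecialLinearGroup (Fin 2) F), K ≤ S ⊔ Subgroup.zpowers a ∧
        Nonempty (K ≃* Matrix.SpecialLinearGroup (Fin 2) (ZMod p)) ∧
        Nat.card ↥(S ⊔ Subgroup.zpowers a) = Nat.card S * p := by
    intro S hS haS
    set P := Subgroup.zpowers a with hP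
    set H := S ⊔ P with hH
    have hPc : Nat.card P = p := by rw [hP, Nat.card_zpowers, hord]
    have hdisj : S ⊓ P = ⊥ := by
      refine (Subgroup.disjoint_of_coprime_natCard ?_).eq_bot
      rw [hPc]
      exact (Nat.Coprime.coprime_dvd_left (Subgroup.card_dvd_of_le hS) hR)
    have hPN : P ≤ Subgroup.normalizer (S : Set (Matrix.SpecialLinearGroup (Fin 2) F)) :=
      Subgroup.zpowers_le.mpr haS
    have hHN : H ≤ Subgroup.normalizer (S : Set (Matrix.SpecialLinearGroup (Fin 2) F)) :=
      sup_le Subgroup.le_normalizer hPN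
    haveI hSn : (S.subgroupOf H).Normal := Subgroup.normal_subgroupOf_of_le_normalizer hHN
    have hHc : Nat.card H = Nat.card S * p := by
      have hc : Subgroup.IsComplement' (S.subgroupOf H) (P.subgroupOf H) := by
        refine Subgroup.isComplement'_of_disjoint_and_mul_eq_univ ?_ ?_
        · rw [disjoint_iff, Subgroup.subgroupOf, Subgroup.subgroupOf, ← Subgroup.comap_inf, hdisj,
            ← Subgroup.subgroupOf, Subgroup.bot_subgroupOf]
        · rw [← Subgroup.normal_mul, ← Subgroup.subgroupOf_sup le_sup_left le_sup_right,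
            Subgroup.subgroupOf_self, Subgroup.coe_top]
      have := hc.card_mul_card
      rw [Nat.card_congr (Subgroup.subgroupOfEquivOfLe (le_sup_left : S ≤ H)).toEquiv,
        Nat.card_congr (Subgroup.subgroupOfEquivOfLe (le_sup_right : P ≤ H)).toEquiv, hPc] at this
      exact this.symm
    by_cases hsyl : 1 < Nat.card (Sylow p H)
    · obtain ⟨K, hK, hKe⟩ := Cfsg.Agent.S0274.result p hp H hsyl
      exact Or.inr ⟨K, hK, hKe, hHc⟩
    · left
      have hPH : P ≤ H := le_sup_right
      have hPp : IsPGroup p (P.subgroupOf H) :=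
        IsPGroup.of_card (n := 1) (by
          rw [Nat.card_congr (Subgroup.subgroupOfEquivOfLe hPH).toEquiv, hPc, pow_one])
      obtain ⟨Q, hQ⟩ := hPp.exists_le_sylow
      have hQn : (Q : Subgroup H).Normal := by
        haveI : Subsingleton (Sylow p H) := by
          rw [← Finite.card_le_one_iff_subsingleton]; omega
        exact Q.normal_of_subsingleton
      intro x hx
      have hQc : Nat.card (Q : Subgroup H) = p := by
        rw [Sylow.card_eq_multiplicity, hHc]
        have hnd : ¬ p ∣ Nat.card S := fun hd => hndvd (hd.trans (Subgroup.card_dvd_of_le hS))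
        rw [Nat.factorization_mul Nat.card_pos.ne' hpp.ne_zero, Finsupp.add_apply,
          Nat.factorization_eq_zero_of_not_dvd hnd, hpp.factorization_self, zero_add, pow_one]
      have hPQ : P.subgroupOf H = (Q : Subgroup H) := Subgroup.eq_of_le_of_card_ge hQ (by
        rw [hQc, Nat.card_congr (Subgroup.subgroupOfEquivOfLe hPH).toEquiv, hPc])
      have hSa : (⟨x, le_sup_left (b := P) hx⟩ : H) ∈ S.subgroupOf H := hx
      have hPa : (⟨a, le_sup_right (a := S) (Subgroup.mem_zpowers a)⟩ : H) ∈ P.subgroupOf H :=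
        Subgroup.mem_zpowers a
      have hdis' : Disjoint (P.subgroupOf H) (S.subgroupOf H) := by
        rw [disjoint_iff, Subgroup.subgroupOf, Subgroup.subgroupOf, ← Subgroup.comap_inf, inf_comm, hdisj,
          ← Subgroup.subgroupOf, Subgroup.bot_subgroupOf]
      have := Subgroup.commute_of_normal_of_disjoint _ _ (hPQ ▸ hQn) hSn hdis' _ _ hPa hSa
      exact congrArg Subtype.val this.eq
  -- `R` is not centralised
  have hRnc : ¬ ∀ x ∈ R, a * x = x * a := by
    intro h
    apply hnt
    rw [Subgroup.commutator_eq_bot_iff_le_centralizer]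
    intro x hx
    rw [Subgroup.mem_centralizer_iff]
    intro y hy
    obtain ⟨k, rfl⟩ := Subgroup.mem_zpowers_iff.mp hy
    exact ((show Commute a x from h x hx).zpow_left k).eq
  obtain ⟨K, hKH, ⟨eK⟩, hHc⟩ := (hdick R le_rfl haR).resolve_left hRnc
  have hcardK : (p - 1) * Nat.card K = (p ^ 2 - 1) * (p ^ 2 - p) := by
    rw [Nat.card_congr eK.toEquiv]; exact card_SL2_prime p
  have hKcard : Nat.card K = p * ((p - 1) * (p + 1)) := by
    obtain ⟨r, rfl⟩ : ∃ r, p = r + 1 := ⟨p - 1, by omega⟩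
    have e1 : (r + 1) ^ 2 - 1 = r * (r + 2) := by
      rw [show (r + 1) ^ 2 = r * (r + 2) + 1 by ring, Nat.add_sub_cancel]
    have e2 : (r + 1) ^ 2 - (r + 1) = r * (r + 1) := by
      rw [show (r + 1) ^ 2 = r * (r + 1) + (r + 1) by ring, Nat.add_sub_cancel]
    rw [e1, e2, Nat.add_sub_cancel] at hcardK
    rw [Nat.add_sub_cancel]
    refine Nat.eq_of_mul_eq_mul_left (by omega : 0 < r) ?_
    rw [hcardK]; ring
  -- `R` is a 2-group
  have hdvd : ∀ s : ℕ, s.Prime → s ∣ Nat.card R → s = 2 := by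
    intro s hs hsd
    by_contra hs2
    haveI : Fact s.Prime := ⟨hs⟩
    have hinv : ∀ x ∈ R, a * x * a⁻¹ ∈ R := fun x hx => (Subgroup.mem_normalizer_iff.mp haR x).mp hx
    let θ : MulAut R :=
      { toFun := fun x => ⟨a * x * a⁻¹, hinv x x.2⟩
        invFun := fun x => ⟨a⁻¹ * x * a, (Subgroup.mem_normalizer_iff.mp haR _).mpr (by
          rw [show a * (a⁻¹ * (x : Matrix.SpecialLinearGroup (Fin 2) F) * a) * a⁻¹ = x by group]
          exact x.2)⟩
        left_inv := fun x => Subtype.ext (by simp [mul_assoc])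
        right_inv := fun x => Subtype.ext (by simp [mul_assoc])
        map_mul' := fun x y => Subtype.ext (by simp [mul_assoc]) }
    have hθ : ∀ (k : ℕ) (x : R), (((θ ^ k) x : R) : Matrix.SpecialLinearGroup (Fin 2) F) =
        a ^ k * x * (a ^ k)⁻¹ := by
      intro k
      induction k with
      | zero => intro x; simp
      | succ k ih =>
        intro x
        rw [pow_succ, MulAut.mul_apply, ih]
        show a ^ k * (a * _ * a⁻¹) * (a ^ k)⁻¹ = _
        rw [pow_succ]; group
    have hθp : θ ^ p = 1 := MulEquiv.ext fun x => Subtype.ext (by rw [hθ, hap]; simp)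
    obtain ⟨T, hT⟩ := H29.exists_invariant_sylow hθp hndvd s
    set S := (T : Subgroup R).map R.subtype with hSdef
    have hSR : S ≤ R := Subgroup.map_subtype_le _
    have hSc : Nat.card S = Nat.card (T : Subgroup R) :=
      Subgroup.card_map_of_injective R.subtype_injective
    have hSinv : ∀ y ∈ S, a * y * a⁻¹ ∈ S := by
      rintro _ ⟨y, hy, rfl⟩
      exact ⟨θ y, hT y hy, rfl⟩
    have haS : a ∈ Subgroup.normalizer (S : Set (Matrix.SpecialLinearGroup (Fin 2) F)) :=
      Subgroup.mem_normalizer_fintype hSinv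
    obtain ⟨j, hj⟩ := IsPGroup.iff_card.mp T.2
    rcases hdick S hSR haS with hfix | ⟨K', hK', ⟨eK'⟩, hH'⟩
    · have hdT : s ∣ Nat.card S := hSc ▸ Sylow.dvd_card_of_dvd_card T hsd
      obtain ⟨x, hx⟩ := exists_prime_orderOf_dvd_card' s hdT
      have h2 := hfix2 _ (hSR x.2) (hfix x x.2)
      have h3 : s ∣ 2 := hx ▸ orderOf_dvd_of_pow_eq_one
        (Subtype.ext (by rw [Subgroup.coe_pow, pow_two]; exact h2) : x ^ 2 = 1)
      exact hs2 ((Nat.prime_dvd_prime_iff_eq hs Nat.prime_two).mp h3)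
    · have hd := Subgroup.card_dvd_of_le hK'
      rw [Nat.card_congr eK'.toEquiv, ← Nat.card_congr eK.toEquiv, hKcard, hH', hSc, hj,
        mul_comm (s ^ j) p] at hd
      have hd' := Nat.dvd_of_mul_dvd_mul_left hpp.pos hd
      have h2 : 2 ∣ (p - 1) * (p + 1) := by
        have := hpp.odd_of_ne_two hp
        obtain ⟨t, ht⟩ := this
        exact Dvd.dvd.mul_left ⟨t + 1, by omega⟩ _
      have := Nat.prime_two.dvd_of_dvd_pow (h2.trans hd')
      exact hs2 ((Nat.prime_dvd_prime_iff_eq Nat.prime_two hs).mp this).symm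
  obtain ⟨i, hi⟩ : ∃ i, Nat.card R = 2 ^ i :=
    ⟨_, Nat.eq_prime_pow_of_unique_prime_dvd Nat.card_pos.ne' (fun {d} hd h => hdvd d hd h)⟩
  have hdK := Subgroup.card_dvd_of_le hKH
  rw [hKcard, hHc, mul_comm (Nat.card R) p, hi] at hdK
  have hdK' := Nat.dvd_of_mul_dvd_mul_left hpp.pos hdK
  -- hence `p = 3`
  have hp3' : p = 3 := by
    obtain ⟨u, -, hu⟩ := (Nat.dvd_prime_pow Nat.prime_two).mp (dvd_trans (dvd_mul_right (p - 1) (p + 1)) hdK')
    obtain ⟨v, -, hv⟩ := (Nat.dvd_prime_pow Nat.prime_two).mp (dvd_trans (dvd_mul_left (p + 1) (p - 1)) hdK')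
    rcases u with _ | _ | u
    · omega
    · omega
    · exfalso
      rcases v with _ | _ | v
      · omega
      · omega
      · rw [pow_succ, pow_succ] at hu hv; omega
  subst hp3'
  have h8 : 8 ∣ 2 ^ i := by simpa using hdK'
  -- `R` is `Q₈`
  haveI : Fact (Nat.Prime 2) := ⟨Nat.prime_two⟩
  have hR2 : IsPGroup 2 R := IsPGroup.of_card hi
  have hkey : ∀ g : R, (∀ h : R, orderOf h = orderOf g → h ∈ Subgroup.zpowers g) →
      4 ∣ orderOf g → False := by
    intro g hg h4
    obtain ⟨d, hd⟩ := h4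
    set y := g ^ d with hy
    have hd0 : d ≠ 0 := fun he => (orderOf_pos g).ne' (by rw [hd, he, mul_zero])
    have hyo : orderOf y = 4 := by
      rw [hy, orderOf_pow_of_dvd hd0 ⟨4, by rw [hd, mul_comm]⟩, hd, Nat.mul_div_left _ (Nat.pos_of_ne_zero hd0)]
    have hyo' : orderOf (y : Matrix.SpecialLinearGroup (Fin 2) F) = 4 := by
      rw [Subgroup.orderOf_coe, hyo]
    set g' : R := ⟨a * g * a⁻¹, (Subgroup.mem_normalizer_iff.mp haR g).mp g.2⟩ with hg'
    have hg'o : orderOf g' = orderOf g := by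
      rw [← Subgroup.orderOf_coe g', ← Subgroup.orderOf_coe g]
      exact orderOf_injective (MulAut.conj a).toMonoidHom (MulAut.conj a).injective _
    obtain ⟨m, hm⟩ := Subgroup.mem_zpowers_iff.mp (hg g' hg'o)
    have hinv : a * (y : Matrix.SpecialLinearGroup (Fin 2) F) * a⁻¹ ∈
        Subgroup.zpowers (y : Matrix.SpecialLinearGroup (Fin 2) F) := by
      refine ⟨m, ?_⟩
      show (y : Matrix.SpecialLinearGroup (Fin 2) F) ^ m = _
      have e : y ^ m = g' ^ d := by rw [hy, ← hm, ← zpow_natCast, ← zpow_natCast, ← zpow_mul, ← zpow_mul, mul_comm]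
      rw [← Subgroup.coe_zpow, e, Subgroup.coe_pow, hy, Subgroup.coe_pow]
      exact conj_pow
    have hf := fixed_of_order_four hap hyo' hinv
    have h2 := hfix2 _ y.2 (by
      calc a * (y : Matrix.SpecialLinearGroup (Fin 2) F) = a * y * a⁻¹ * a := by group
        _ = y * a := by rw [hf])
    have := orderOf_dvd_of_pow_eq_one (show (y : Matrix.SpecialLinearGroup (Fin 2) F) ^ 2 = 1 by rw [pow_two, h2])
    rw [hyo'] at this
    exact absurd (Nat.le_of_dvd two_pos this) (by norm_num)
  obtain ⟨e⟩ : Nonempty (R ≃* QuaternionGroup 2) := by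
    rcases H37.two_subgroup_cyclic_or_quaternion 3 hp R hR2 with hc | ⟨k, hk, ⟨e⟩⟩
    · exfalso
      obtain ⟨g, hg⟩ := hc.exists_generator
      refine hkey g (fun h _ => hg h) ?_
      rw [orderOf_eq_card_of_forall_mem_zpowers hg, hi]
      exact dvd_trans (by norm_num) h8
    · rcases Nat.lt_or_ge k 2 with hk2 | hk2
      · have : k = 1 := by omega
        subst this
        exact ⟨e⟩
      · exfalso
        haveI : NeZero (2 ^ k) := ⟨by positivity⟩
        have h4k : 4 ≤ 2 ^ k := le_trans (by norm_num) (Nat.pow_le_pow_right two_pos hk2)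
        refine hkey (e.symm (QuaternionGroup.a 1)) (fun h hh => ?_) ?_
        · rw [e.symm.orderOf_eq, QuaternionGroup.orderOf_a_one] at hh
          rcases he : e h with j | j
          · refine ⟨(j.val : ℤ), ?_⟩
            show (e.symm (QuaternionGroup.a 1)) ^ (j.val : ℤ) = h
            apply e.injective
            rw [zpow_natCast, map_pow, e.apply_symm_apply, he, QuaternionGroup.a_one_pow]
            simp
          · exfalso
            rw [← e.orderOf_eq, he, QuaternionGroup.orderOf_xa] at hh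
            omega
        · rw [e.symm.orderOf_eq, QuaternionGroup.orderOf_a_one]
          exact ⟨2 ^ (k - 1), by
            conv_lhs => rw [show k = (k - 1) + 1 by omega, pow_succ]
            ring⟩
  have hR8 : Nat.card R = 8 := by
    rw [Nat.card_congr e.toEquiv, Nat.card_eq_fintype_card, QuaternionGroup.card]
  refine ⟨rfl, ⟨e⟩, ?_⟩
  have hcard : Nat.card K = Nat.card ↥(R ⊔ Subgroup.zpowers a) := by
    rw [hKcard, hHc, hR8]
  exact ⟨(MulEquiv.subgroupCongr (Subgroup.eq_of_le_of_card_ge hKH hcard.ge)).symm.trans eK⟩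

end Cfsg.Agent.S3740
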