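import Cfsg.Statements.S3744
import Cfsg.Agent.H10.PSolvable
import Cfsg.Agent.H1.SchurZassenhausConj

set_option autoImplicit false
universe u
open Cfsg

namespace Cfsg.Agent.S3744

open scoped Pointwise

theorem main : ∀ (n : ℕ) {G : Type u} [Group G] [Finite G] {p : ℕ} [Fact p.Prime],
    Nat.card G = n → IsPSolvable p G →
    ∃ H : Subgroup G, (Nat.card H).Coprime p ∧ (∃ k : ℕ, H.index = p ^ k) ∧
      ∀ U : Subgroup G, (Nat.card U).Coprime p → ∃ g : G, MulAut.conj g • U ≤ H := by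
  intro n
  induction n using Nat.strong_induction_on with
  | _ n ih =>
  intro G _ _ p _ hn hG
  rcases subsingleton_or_nontrivial G with hs | hs
  · refine ⟨⊤, ?_, ⟨0, by simp⟩, fun U _ => ⟨1, le_top⟩⟩
    rw [Subgroup.card_top, Nat.card_unique]
    exact Nat.coprime_one_left p
  have lift : ∀ (N : Subgroup G) [N.Normal], N ≠ ⊥ → ∃ L : Subgroup G, N ≤ L ∧
      (∃ m : ℕ, m.Coprime p ∧ Nat.card L = Nat.card N * m) ∧ (∃ k : ℕ, L.index = p ^ k) ∧
      ∀ U : Subgroup G, (Nat.card U).Coprime p → ∃ g : G, MulAut.conj g • U ≤ L := by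
    intro N _ hN
    obtain ⟨B, hB1, ⟨k, hB2⟩, hB3⟩ := ih (Nat.card (G ⧸ N)) (hn ▸ H10.card_quotient_lt N hN) rfl
      (H10.isPSolvable_quotient hG N)
    have hidx : (B.comap (QuotientGroup.mk' N)).index = B.index :=
      Subgroup.index_comap_of_surjective _ (QuotientGroup.mk'_surjective N)
    refine ⟨B.comap (QuotientGroup.mk' N), fun x hx => ?_, ⟨_, hB1, ?_⟩, ⟨k, by rw [hidx, hB2]⟩,
      fun U hU => ?_⟩
    · rw [Subgroup.mem_comap, show QuotientGroup.mk' N x = 1 from (QuotientGroup.eq_one_iff x).mpr hx]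
      exact one_mem B
    · have h1 := (B.comap (QuotientGroup.mk' N)).card_mul_index
      rw [Subgroup.card_eq_card_quotient_mul_card_subgroup N, ← B.card_mul_index, hidx] at h1
      exact Nat.eq_of_mul_eq_mul_right (Nat.pos_of_ne_zero Subgroup.index_ne_zero_of_finite)
        (by rw [h1]; ring)
    · obtain ⟨g, hg⟩ := hB3 (U.map (QuotientGroup.mk' N))
        (hU.coprime_dvd_left (Subgroup.card_map_dvd _ _))
      obtain ⟨g, rfl⟩ := QuotientGroup.mk'_surjective N g
      refine ⟨g, fun x hx => ?_⟩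
      rw [Subgroup.mem_pointwise_smul_iff_inv_smul_mem] at hx
      rw [Subgroup.mem_comap]
      apply hg
      rw [Subgroup.mem_pointwise_smul_iff_inv_smul_mem]
      exact ⟨_, hx, by simp [MulAut.smul_def]⟩
  rcases H10.pCore_or_pPrimeCore_ne_bot hG with hV | hM
  · -- `O_p ≠ 1`
    haveI : (pCore p G).Normal := H10.pCore_normal
    set V := pCore p G with hVdef
    obtain ⟨L, hVL, ⟨m, hm, hLc⟩, ⟨k, hk⟩, hL⟩ := lift V hV
    obtain ⟨a, ha⟩ := (H10.pCore_isPGroup (p := p) (G := G)).exists_card_eq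
    have hVcop : ∀ {j : ℕ}, j.Coprime p → (Nat.card V).Coprime j := fun {j} hj => by
      rw [ha]; exact (hj.pow_right a).symm
    obtain ⟨C, hC⟩ := Subgroup.exists_right_complement'_of_coprime (N := V.subgroupOf L) (by
      have hc : Nat.card (V.subgroupOf L) = Nat.card V :=
        Nat.card_congr (Subgroup.subgroupOfEquivOfLe hVL).toEquiv
      have h1 := (V.subgroupOf L).card_mul_index
      rw [hc, hLc] at h1
      rw [hc, Nat.eq_of_mul_eq_mul_left Nat.card_pos h1]
      exact hVcop hm)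
    set H := C.map L.subtype with hH
    have hHc : Nat.card H = m := by
      rw [hH, Subgroup.card_map_of_injective L.subtype_injective]
      have h1 := hC.card_mul
      rw [Nat.card_congr (Subgroup.subgroupOfEquivOfLe hVL).toEquiv, hLc] at h1
      exact Nat.eq_of_mul_eq_mul_left Nat.card_pos h1
    refine ⟨H, hHc ▸ hm, ⟨a + k, ?_⟩, fun U hU => ?_⟩
    · have h1 := H.card_mul_index
      rw [hHc, ← L.card_mul_index, hLc, hk, ha] at h1
      have hm0 : 0 < m := hHc ▸ Nat.card_pos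
      exact Nat.eq_of_mul_eq_mul_left hm0 (by rw [h1, pow_add]; ring)
    · obtain ⟨g, hg⟩ := hL U hU
      set U' := MulAut.conj g • U with hU'
      have hU'c : (Nat.card U').Coprime p := by rwa [hU', H1.card_conj_smul]
      set K := H ⊓ (V ⊔ U') with hK
      have hsup : V ⊔ K = V ⊔ U' := by
        refine le_antisymm (sup_le le_sup_left inf_le_right) ?_
        intro x hx
        have hxL : x ∈ L := (sup_le hVL hg) hx
        have hmem : (⟨x, hxL⟩ : L) ∈ (V.subgroupOf L) ⊔ C := hC.sup_eq_top ▸ Subgroup.mem_top _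
        obtain ⟨v, hv, c, hc, hvc⟩ := Subgroup.mem_sup_of_normal_left.mp hmem
        have hxeq : (v : G) * c = x := congrArg Subtype.val hvc
        have hvV : (v : G) ∈ V := hv
        have hcH : (c : G) ∈ H := ⟨c, hc, rfl⟩
        have hcW : (c : G) ∈ V ⊔ U' := by
          rw [show (c : G) = (v : G)⁻¹ * x by rw [← hxeq]; group]
          exact mul_mem (inv_mem (Subgroup.mem_sup_left hvV)) hx
        rw [← hxeq]
        exact mul_mem (Subgroup.mem_sup_left hvV) (Subgroup.mem_sup_right ⟨hcH, hcW⟩)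
      have hKc : (Nat.card K).Coprime p :=
        (hHc ▸ hm).coprime_dvd_left (Subgroup.card_dvd_of_le inf_le_left)
      have h1 := H1.card_sup_of_coprime (D := V) (H := K) Subgroup.le_normalizer_of_normal (hVcop hKc)
      have h2 := H1.card_sup_of_coprime (D := V) (H := U') Subgroup.le_normalizer_of_normal
        (hVcop hU'c)
      rw [hsup, h2] at h1
      have hsol : Group.IsSolvable V := by
        have := (H10.pCore_isPGroup (p := p) (G := G)).isNilpotent
        infer_instance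
      obtain ⟨d, -, hd⟩ := H1.exists_conj_eq_of_coprime (D := V) (H := U') (K := K)
        Subgroup.le_normalizer_of_normal (hVcop hU'c) (Or.inl hsol) inf_le_right
        (Nat.eq_of_mul_eq_mul_left Nat.card_pos h1).symm
      refine ⟨d * g, ?_⟩
      rw [map_mul, mul_smul, ← hU', hd]
      exact inf_le_left
  · -- `O_p' ≠ 1`
    haveI : (pPrimeCore p G).Normal := H10.pPrimeCore_normal
    obtain ⟨L, -, ⟨m, hm, hLc⟩, hk, hL⟩ := lift (pPrimeCore p G) hM
    exact ⟨L, hLc ▸ Nat.Coprime.mul_left H10.pPrimeCore_coprime hm, hk, hL⟩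

/-- A finite p-soluble group has a p-complement, all its p-complements are conjugate, and every subgroup of order prime to p lies in one of them. Here a p-complement is a subgroup of order prime to p whose index is a power of p. -/
theorem result {G : Type*} [Group G] [Finite G] {p : ℕ} [Fact p.Prime] (hG : Cfsg.IsPSolvable p G) : (∃ H : Subgroup G, (Nat.card H).Coprime p ∧ ∃ n : ℕ, H.index = p ^ n) ∧ (∀ H₁ H₂ : Subgroup G, (Nat.card H₁).Coprime p → (∃ n : ℕ, H₁.index = p ^ n) → (Nat.card H₂).Coprime p → (∃ n : ℕ, H₂.index = p ^ n) → ∃ g : G, H₂ = H₁.map (MulAut.conj g).toMonoidHom) ∧ (∀ U : Subgroup G, (Nat.card U).Coprime p → ∃ H : Subgroup G, (Nat.card H).Coprime p ∧ (∃ n : ℕ, H.index = p ^ n) ∧ ∃ g : G, U.map (MulAut.conj g).toMonoidHom ≤ H) := by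
  obtain ⟨H, hH1, hH2, hH3⟩ := main _ rfl hG
  have hcard : ∀ A B : Subgroup G, (Nat.card A).Coprime p → (∃ n : ℕ, B.index = p ^ n) →
      Nat.card A ∣ Nat.card B := by
    intro A B hA ⟨n, hn⟩
    refine (hA.pow_right n).dvd_of_dvd_mul_right ?_
    rw [← hn, B.card_mul_index]
    exact Subgroup.card_subgroup_dvd_card A
  have heq : ∀ A : Subgroup G, (Nat.card A).Coprime p → (∃ n : ℕ, A.index = p ^ n) →
      ∃ g : G, MulAut.conj g • A = H := by
    intro A hA1 hA2
    obtain ⟨g, hg⟩ := hH3 A hA1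
    refine ⟨g, Subgroup.eq_of_le_of_card_ge hg ?_⟩
    rw [H1.card_conj_smul]
    exact Nat.le_of_dvd Nat.card_pos (hcard H A hH1 hA2)
  refine ⟨⟨H, hH1, hH2⟩, ?_, fun U hU => ?_⟩
  · intro H₁ H₂ h1 h2 h3 h4
    obtain ⟨a, ha⟩ := heq H₁ h1 h2
    obtain ⟨b, hb⟩ := heq H₂ h3 h4
    refine ⟨b⁻¹ * a, ?_⟩
    have : H₂ = MulAut.conj (b⁻¹ * a) • H₁ := by
      rw [map_mul, mul_smul, ha, ← hb, ← mul_smul, ← map_mul, inv_mul_cancel, map_one, one_smul]
    exact this
  · obtain ⟨g, hg⟩ := hH3 U hU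
    exact ⟨H, hH1, hH2, g, hg⟩

end Cfsg.Agent.S3744
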