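import Cfsg.Statements.S3746
import Cfsg.Agent.CompLayer

set_option autoImplicit false
open Cfsg
open scoped commutatorElement

namespace Cfsg.Agent.S3746

/-- Let Z ≤ Z(G) be a central subgroup of a finite group G and E a subgroup of G containing Z whose image E/Z is a component of G/Z (subnormal and quasisimple). Then the derived subgroup [E, E] is a component of G. -/
theorem result {G : Type*} [Group G] [Finite G] (Z : Subgroup G) (hZ : Z ≤ Subgroup.center G) [Z.Normal] (E : Subgroup G) (hZE : Z ≤ E) (hE : Cfsg.IsComponent (E.map (QuotientGroup.mk' Z))) : Cfsg.IsComponent ⁅E, E⁆ := by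
  set π := QuotientGroup.mk' Z with hπ
  set L : Subgroup G := ⁅E, E⁆ with hL
  have hEs : E.IsSubnormal := by
    have h := hE.1.comap π
    rwa [Subgroup.comap_map_eq, hπ, QuotientGroup.ker_mk', sup_eq_left.mpr hZE] at h
  have hLE : L ≤ E := by
    rw [hL, Subgroup.commutator_le]
    intro a ha b hb
    exact E.mul_mem (E.mul_mem (E.mul_mem ha hb) (E.inv_mem ha)) (E.inv_mem hb)
  have hLn : E ≤ Subgroup.normalizer (L : Set G) := fun e he => Cfsg.Comp.mem_normalizer_of_map_conj_eq (by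
    rw [hL, Subgroup.map_commutator, Cfsg.Comp.map_conj_eq_of_mem_normalizer (Subgroup.le_normalizer he)])
  haveI hLnE : (L.subgroupOf E).Normal := ⟨fun x hx g => (Subgroup.mem_normalizer_iff.mp (hLn g.2) x).mp hx⟩
  have hLs : L.IsSubnormal := by
    have h := (hLnE.isSubnormal).trans' hEs
    rwa [Subgroup.map_subgroupOf_eq_of_le hLE] at h
  have hLmap : L.map π = E.map π := by rw [hL, Subgroup.map_commutator]; exact Cfsg.Comp.isComponent_perfect hE
  have hform : ∀ e ∈ E, ∃ l ∈ L, ∃ z ∈ Z, e = l * z := by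
    intro e he
    obtain ⟨l, hl, hle⟩ := hLmap.ge ⟨e, he, rfl⟩
    refine ⟨l, hl, l⁻¹ * e, ?_, by rw [mul_inv_cancel_left]⟩
    rw [hπ, QuotientGroup.mk'_apply, QuotientGroup.mk'_apply, QuotientGroup.eq] at hle
    exact hle
  have hperf : ⁅L, L⁆ = L := by
    refine le_antisymm (Subgroup.commutator_mono hLE hLE) ?_
    conv_lhs => rw [hL]
    rw [Subgroup.commutator_le]
    intro a ha b hb
    obtain ⟨l, hl, z, hz, rfl⟩ := hform a ha
    obtain ⟨m, hm, w, hw, rfl⟩ := hform b hb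
    have hzc : ∀ y, Commute z y := fun y => (Subgroup.mem_center_iff.mp (hZ hz) y).symm
    have hwc : ∀ y, Commute w y := fun y => (Subgroup.mem_center_iff.mp (hZ hw) y).symm
    have h1 : ⁅l * z, m * w⁆ = ⁅l, m⁆ := by
      simp only [commutatorElement_def, mul_inv_rev]
      calc l * z * (m * w) * (z⁻¹ * l⁻¹) * (w⁻¹ * m⁻¹)
          = l * (z * (m * w) * z⁻¹) * l⁻¹ * (w⁻¹ * m⁻¹) := by group
        _ = l * (m * w) * l⁻¹ * (w⁻¹ * m⁻¹) := by rw [(hzc (m * w)).eq, mul_inv_cancel_right]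
        _ = l * m * (w * l⁻¹ * w⁻¹) * m⁻¹ := by group
        _ = l * m * l⁻¹ * m⁻¹ := by rw [(hwc l⁻¹).eq, mul_inv_cancel_right]
    rw [h1]
    exact Subgroup.commutator_mem_commutator hl hm
  refine ⟨hLs, ?_⟩
  let f : L →* E.map π := (π.comp L.subtype).codRestrict (E.map π) (fun x => ⟨x, hLE x.2, rfl⟩)
  refine Cfsg.Comp.isQuasisimple_of_ker_le_center ?_ hE.2 f ?_ ?_
  · exact (Subgroup.isPerfect_iff.mpr hperf).commutator_eq_top
  · rintro ⟨y, hy⟩
    obtain ⟨l, hl, rfl⟩ := hLmap.ge hy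
    exact ⟨⟨l, hl⟩, rfl⟩
  · intro x hx
    rw [Subgroup.mem_center_iff]
    intro y
    have h1 : π (x : G) = 1 := congrArg Subtype.val (MonoidHom.mem_ker.mp hx)
    exact Subtype.ext (Subgroup.mem_center_iff.mp (hZ ((QuotientGroup.eq_one_iff _).mp h1)) y)

end Cfsg.Agent.S3746
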