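import Cfsg.Statements.S3747
import Cfsg.Agent.CompLayer

set_option autoImplicit false
open Cfsg

namespace Cfsg.Agent.S3747

/-- Let G be a finite group. (a) If K is a component of G with trivial centre, then the normal closure of K in G is a minimal normal subgroup of G. (b) If the Fitting subgroup of G is trivial, then the layer E(G) is generated by the minimal normal subgroups of G. -/
theorem result {G : Type*} [Group G] [Finite G] : (∀ K : Subgroup G, Cfsg.IsComponent K → Subgroup.center ↥K = ⊥ → (Subgroup.normalClosure (K : Set G) ≠ ⊥ ∧ ∀ N : Subgroup G, N.Normal → N ≤ Subgroup.normalClosure (K : Set G) → N = ⊥ ∨ N = Subgroup.normalClosure (K : Set G))) ∧ (Cfsg.fittingSubgroup G = ⊥ → sSup {N : Subgroup G | N ≠ ⊥ ∧ N.Normal ∧ ∀ N' : Subgroup G, N'.Normal → N' ≤ N → N' = ⊥ ∨ N' = N} = Cfsg.layer G) := by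
  classical
  have hA : ∀ K : Subgroup G, Cfsg.IsComponent K → Subgroup.center ↥K = ⊥ → (Subgroup.normalClosure (K : Set G) ≠ ⊥ ∧ ∀ N : Subgroup G, N.Normal → N ≤ Subgroup.normalClosure (K : Set G) → N = ⊥ ∨ N = Subgroup.normalClosure (K : Set G)) := by
    intro K hK hZ
    refine ⟨fun h => Cfsg.Comp.isComponent_ne_bot hK (eq_bot_iff.mpr (h ▸ Subgroup.le_normalClosure)), ?_⟩
    intro N hN hNM
    haveI := Fintype.ofFinite G
    let S : Finset (Subgroup G) := Finset.univ.image (fun g : G => K.map (MulAut.conj g).toMonoidHom)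
    have hS : ∀ L ∈ S, Cfsg.IsComponent L := by
      intro L hL
      obtain ⟨g, -, rfl⟩ := Finset.mem_image.mp hL
      exact Cfsg.Comp.isComponent_conj hK g
    have hsup : Subgroup.normalClosure (K : Set G) ≤ S.sup id := by
      rw [Subgroup.normalClosure, Subgroup.closure_le]
      intro x hx
      obtain ⟨a, ha, hax⟩ := Group.mem_conjugatesOfSet_iff.mp hx
      obtain ⟨c, rfl⟩ := isConj_iff.mp hax
      exact (Finset.le_sup (f := id) (Finset.mem_image.mpr ⟨c, Finset.mem_univ _, rfl⟩) :
        K.map (MulAut.conj c).toMonoidHom ≤ S.sup id) ⟨a, ha, rfl⟩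
    by_cases hall : ∀ L ∈ S, ⁅L, N⁆ = ⊥
    · left
      rw [eq_bot_iff]
      intro z hz
      have hcomm : ∀ L ∈ S, ∀ M ∈ S, L ≠ M → ⁅L, M⁆ = ⊥ := fun L hL M hM hne =>
        (Cfsg.Comp.component_eq_or_commute (hS L hL) (hS M hM)).resolve_left hne
      have hcz : ∀ x ∈ S.sup id, x * z = z * x := by
        have hle : S.sup id ≤ Subgroup.centralizer ({z} : Set G) := by
          refine Finset.sup_le fun L hL x hx => ?_
          rw [Subgroup.mem_centralizer_singleton_iff]
          exact Cfsg.Comp.commute_of_commutator_eq_bot (hall L hL) hx hz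
        intro x hx
        exact Subgroup.mem_centralizer_singleton_iff.mp (hle hx)
      have h := Cfsg.Comp.mem_iSup_centers S hcomm z (hsup (hNM hz)) hcz
      have hb : (S.sup fun L => (Subgroup.center L).map L.subtype) = ⊥ := by
        rw [eq_bot_iff]
        refine Finset.sup_le fun L hL => ?_
        obtain ⟨g, -, rfl⟩ := Finset.mem_image.mp hL
        rintro _ ⟨y, hy, rfl⟩
        obtain ⟨k, hk, hky⟩ := y.2
        have hk1 : (⟨k, hk⟩ : K) ∈ Subgroup.center K := by
          rw [Subgroup.mem_center_iff]
          intro m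
          apply Subtype.ext
          apply (MulAut.conj g).injective
          have h1 := congrArg Subtype.val (Subgroup.mem_center_iff.mp hy ⟨_, m, m.2, rfl⟩)
          simp only [Subgroup.coe_mul, ← hky] at h1
          show (MulAut.conj g).toMonoidHom ((m : G) * k) = (MulAut.conj g).toMonoidHom (k * (m : G))
          rw [map_mul, map_mul]
          exact h1
        rw [hZ, Subgroup.mem_bot] at hk1
        rw [Subgroup.mem_bot]
        show (y : G) = 1
        rw [← hky, show k = 1 from congrArg Subtype.val hk1, map_one]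
      rwa [hb] at h
    · right
      push Not at hall
      obtain ⟨L, hL, hne⟩ := hall
      have hLN := (Cfsg.Comp.component_le_or_commute (hS L hL) hN.isSubnormal).resolve_right hne
      obtain ⟨g, -, rfl⟩ := Finset.mem_image.mp hL
      refine le_antisymm hNM (Subgroup.normalClosure_le_normal fun k hk => ?_)
      have h := hN.conj_mem' _ (hLN ⟨k, hk, rfl⟩) g
      simpa [mul_assoc] using h
  refine ⟨hA, fun hF => ?_⟩
  apply le_antisymm
  · refine sSup_le ?_
    rintro N ⟨hNne, hN, hmin⟩
    by_contra hnle
    haveI := hN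
    haveI : (Cfsg.layer G).Normal := Cfsg.Comp.normal_of_map_conj_le fun g =>
      (Cfsg.Comp.layer_map_equiv (MulAut.conj g)).le
    have hinf : N ⊓ Cfsg.layer G = ⊥ := (hmin _ inferInstance inf_le_left).resolve_right
      (fun h => hnle (inf_eq_left.mp h))
    have hcen : N ≤ Subgroup.centralizer (Cfsg.generalizedFittingSubgroup G : Set G) := by
      rw [show Cfsg.generalizedFittingSubgroup G = Cfsg.layer G by rw [Cfsg.generalizedFittingSubgroup, hF, sup_bot_eq],
        ← Subgroup.commutator_eq_bot_iff_le_centralizer, eq_bot_iff, ← hinf]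
      exact Subgroup.commutator_le_inf N (Cfsg.layer G)
    have h1 := hcen.trans Cfsg.Comp.centralizer_fStar_le
    rw [Cfsg.generalizedFittingSubgroup, hF, sup_bot_eq] at h1
    exact hnle h1
  · refine Cfsg.Comp.layer_le_iff.mpr fun K hK => ?_
    have hZ : Subgroup.center K = ⊥ := by
      have h : (Subgroup.center K).map K.subtype ≤ Cfsg.fittingSubgroup G := by
        refine Cfsg.Comp.le_fitting_of_subnormal (((inferInstance : (Subgroup.center K).Normal).isSubnormal).trans' hK.1) ?_
        haveI : IsMulCommutative ((Subgroup.center K).map K.subtype) := IsMulCommutative.of_comm (by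
          rintro ⟨_, a, ha, rfl⟩ ⟨_, b, hb, rfl⟩
          exact Subtype.ext (congrArg (fun w : K => (w : G)) (Subgroup.mem_center_iff.mp hb a)))
        letI : CommGroup ((Subgroup.center K).map K.subtype) := { (inferInstance : Group _) with mul_comm := mul_comm' }
        infer_instance
      rw [hF, le_bot_iff, Subgroup.map_eq_bot_iff_of_injective _ K.subtype_injective] at h
      exact h
    obtain ⟨h1, h2⟩ := hA K hK hZ
    exact Subgroup.le_normalClosure.trans (le_sSup ⟨h1, Subgroup.normalClosure_normal, h2⟩)

end Cfsg.Agent.S3747
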