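import Cfsg.Statements.S3751
import Cfsg.Agent.H75.Basic
import Cfsg.Agent.H77.CharP
import Cfsg.Agent.H36.Subnormalizer
import Cfsg.Agent.H1.Cores

set_option autoImplicit false
open Cfsg
open scoped commutatorElement

namespace Cfsg.Agent.S3751

/-- Two distinct subgroups M₁, M₂ of G form a primitive pair when, for {i, j} = {1, 2}, every non-trivial normal subgroup A of M_i contained in M₁ ∩ M₂ satisfies N_{M_j}(A) = M₁ ∩ M₂; the pair has characteristic p when moreover C_{M_i}(O_p(M_i)) ≤ O_p(M_i) for both i and O_p(M₁)O_p(M₂) ≤ M₁ ∩ M₂. Let G be a finite group, p a prime dividing its order, with O_p(G) = 1 and every p-local subgroup of characteristic p. Then either G has a primitive pair of characteristic p, or every maximal p-local subgroup M of G is strongly p-embedded in G: M is a proper subgroup, p divides its order, and for every g ∉ M the order of M ∩ gMg⁻¹ is prime to p. -/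
theorem result {G : Type*} [Group G] [Finite G] {p : ℕ} [Fact p.Prime] (hloc : Cfsg.IsOfLocalCharacteristic p G) (hOp : Cfsg.pCore p G = ⊥) : (∃ M₁ M₂ : Subgroup G, M₁ ≠ M₂ ∧ (∀ A : Subgroup G, A ≠ ⊥ → A ≤ M₁ ⊓ M₂ → (M₁ ≤ Subgroup.normalizer (A : Set G) → M₂ ⊓ Subgroup.normalizer (A : Set G) = M₁ ⊓ M₂) ∧ (M₂ ≤ Subgroup.normalizer (A : Set G) → M₁ ⊓ Subgroup.normalizer (A : Set G) = M₁ ⊓ M₂)) ∧ Subgroup.centralizer (Cfsg.pCore p ↥M₁ : Set ↥M₁) ≤ Cfsg.pCore p ↥M₁ ∧ Subgroup.centralizer (Cfsg.pCore p ↥M₂ : Set ↥M₂) ≤ Cfsg.pCore p ↥M₂ ∧ (Cfsg.pCore p ↥M₁).map M₁.subtype ⊔ (Cfsg.pCore p ↥M₂).map M₂.subtype ≤ M₁ ⊓ M₂) ∨ (∀ M : Subgroup G, (∃ T : Subgroup G, IsPGroup p T ∧ T ≠ ⊥ ∧ M = Subgroup.normalizer (T : Set G)) → (∀ L : Subgroup G, (∃ T : Subgroup G, IsPGroup p T ∧ T ≠ ⊥ ∧ L = Subgroup.normalizer (T : Set G)) → M ≤ L → L = M) → M ≠ ⊤ ∧ p ∣ Nat.card M ∧ ∀ g : G, g ∉ M → ¬ p ∣ Nat.card ↥(M ⊓ M.map (MulAut.conj g).toMonoidHom))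 := by
  classical
  have hp : p.Prime := Fact.out
  obtain ⟨hpG, hchar⟩ := hloc
  let Loc : Subgroup G → Prop := fun M => ∃ T : Subgroup G, IsPGroup p T ∧ T ≠ ⊥ ∧ M = Subgroup.normalizer (T : Set G)
  let Max : Subgroup G → Prop := fun M => Loc M ∧ ∀ L, Loc L → M ≤ L → L = M
  let O : Subgroup G → Subgroup G := fun M => Cfsg.pCoreOf p M
  have hO : ∀ M, IsPGroup p (O M) := fun M => H75.isPGroup_pCoreOf M
  have hOle : ∀ M, O M ≤ M := fun M => H75.pCoreOf_le M
  have hMN : ∀ M, M ≤ Subgroup.normalizer (O M : Set G) := fun M => H75.le_normalizer_pCoreOf M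
  have exists_max : ∀ L, Loc L → ∃ M, Max M ∧ L ≤ M := by
    intro L hL
    obtain ⟨M, hLM, hM⟩ := (Set.toFinite {M : Subgroup G | Loc M}).exists_le_maximal hL
    exact ⟨M, ⟨hM.prop, fun L' hL' hle => le_antisymm (hM.le_of_ge hL' hle) hle⟩, hLM⟩
  have hOne : ∀ M, Loc M → O M ≠ ⊥ := by
    rintro M ⟨T, hT, hT1, rfl⟩ h
    exact hT1 (le_bot_iff.1 (h ▸ H75.le_pCoreOf Subgroup.le_normalizer le_rfl hT))
  have hself : ∀ M, Max M → Subgroup.normalizer (O M : Set G) = M := fun M hM =>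
    hM.2 _ ⟨O M, hO M, hOne M hM.1, rfl⟩ (hMN M)
  have hcharM : ∀ M, Max M → Subgroup.centralizer (Cfsg.pCore p ↥M : Set ↥M) ≤ Cfsg.pCore p ↥M := by
    rintro M ⟨⟨T, hT, hT1, rfl⟩, -⟩
    exact hchar T hT hT1
  have hkey : ∀ M, Max M → ∀ A : Subgroup G, A ≠ ⊥ → A ≤ M → M ≤ Subgroup.normalizer (A : Set G) →
      Subgroup.normalizer (A : Set G) ≤ M := by
    intro M hM A hA hAM hMA
    have hB : A ⊓ O M ≠ ⊥ := by
      intro hbot
      refine hA (le_bot_iff.1 (hbot ▸ le_inf le_rfl ?_))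
      refine le_trans ?_ ((H77.charP_subgroup_iff).1 (hcharM M hM))
      refine le_inf hAM fun a ha => ?_
      rw [Subgroup.mem_centralizer_iff]
      intro o ho
      rw [← commutatorElement_eq_one_iff_mul_comm, ← Subgroup.mem_bot, ← hbot]
      refine Subgroup.mem_inf.2 ⟨?_, ?_⟩
      · exact mul_mem ((Subgroup.mem_normalizer_iff.1 (hMA (hOle M ho)) a).1 ha) (inv_mem ha)
      · have := mul_mem ho ((Subgroup.mem_normalizer_iff.1 (hMN M (hAM ha)) o⁻¹).1 (inv_mem ho))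
        rw [show o * (a * o⁻¹ * a⁻¹) = ⁅o, a⁆ by simp only [commutatorElement_def]; group] at this
        exact this
    have hle : A ⊓ O M ≤ Cfsg.pCoreOf p A := H75.le_pCoreOf inf_le_left
      ((le_inf Subgroup.le_normalizer (hAM.trans (hMN M))).trans Subgroup.inf_normalizer_le_normalizer_inf)
      ((hO M).to_le inf_le_right)
    have hne : Cfsg.pCoreOf p A ≠ ⊥ := fun h => hB (le_bot_iff.1 (h ▸ hle))
    have h1 := H75.normalizer_le_normalizer_pCoreOf (p := p) A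
    rw [← hM.2 _ ⟨_, H75.isPGroup_pCoreOf A, hne, rfl⟩ (hMA.trans h1)]
    exact h1
  have good : ∀ M₁ M₂, Max M₁ → Max M₂ → M₁ ≠ M₂ → O M₁ ⊔ O M₂ ≤ M₁ ⊓ M₂ →
      ∃ M₁ M₂ : Subgroup G, M₁ ≠ M₂ ∧ (∀ A : Subgroup G, A ≠ ⊥ → A ≤ M₁ ⊓ M₂ → (M₁ ≤ Subgroup.normalizer (A : Set G) → M₂ ⊓ Subgroup.normalizer (A : Set G) = M₁ ⊓ M₂) ∧ (M₂ ≤ Subgroup.normalizer (A : Set G) → M₁ ⊓ Subgroup.normalizer (A : Set G) = M₁ ⊓ M₂)) ∧ Subgroup.centralizer (Cfsg.pCore p ↥M₁ : Set ↥M₁) ≤ Cfsg.pCore p ↥M₁ ∧ Subgroup.centralizer (Cfsg.pCore p ↥M₂ : Set ↥M₂) ≤ Cfsg.pCore p ↥M₂ ∧ (Cfsg.pCore p ↥M₁).map M₁.subtype ⊔ (Cfsg.pCore p ↥M₂).map M₂.subtype ≤ M₁ ⊓ M₂ := by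
    intro M₁ M₂ h1 h2 hne hle
    refine ⟨M₁, M₂, hne, fun A hA hAle => ⟨fun hn => ?_, fun hn => ?_⟩, hcharM _ h1, hcharM _ h2, hle⟩
    · refine le_antisymm (le_inf (inf_le_right.trans (hkey _ h1 A hA (hAle.trans inf_le_left) hn)) inf_le_left) ?_
      exact le_inf inf_le_right (inf_le_left.trans hn)
    · refine le_antisymm (le_inf inf_le_left (inf_le_right.trans (hkey _ h2 A hA (hAle.trans inf_le_right) hn))) ?_
      exact le_inf inf_le_left (inf_le_right.trans hn)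
  refine or_iff_not_imp_left.2 fun hno => ?_
  have nogood : ∀ M₁ M₂, Max M₁ → Max M₂ → M₁ ≠ M₂ → ¬ (O M₁ ⊔ O M₂ ≤ M₁ ⊓ M₂) :=
    fun M₁ M₂ h1 h2 hne hle => hno (good M₁ M₂ h1 h2 hne hle)
  -- maximal p-subgroups of a member
  let MaxP : Subgroup G → Subgroup G → Prop := fun T M =>
    T ≤ M ∧ IsPGroup p T ∧ ∀ X : Subgroup G, IsPGroup p X → T ≤ X → X ≤ M → X = T
  have exists_maxP : ∀ M (T0 : Subgroup G), IsPGroup p T0 → T0 ≤ M → ∃ T, MaxP T M ∧ T0 ≤ T := by
    intro M T0 hT0 hle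
    obtain ⟨T, h0T, hT⟩ := (Set.toFinite {X : Subgroup G | IsPGroup p X ∧ X ≤ M}).exists_le_maximal ⟨hT0, hle⟩
    exact ⟨T, ⟨hT.prop.2, hT.prop.1, fun X hX hTX hXM => le_antisymm (hT.le_of_ge ⟨hX, hXM⟩ hTX) hTX⟩, h0T⟩
  have hOT : ∀ M T, MaxP T M → O M ≤ T := by
    intro M T hT
    rw [← hT.2.2 (T ⊔ O M) (hT.2.1.to_sup_of_normal_right' (hO M) (hT.1.trans (hMN M))) le_sup_left
      (sup_le hT.1 (hOle M))]
    exact le_sup_right
  have hfull : ∀ M T, Max M → MaxP T M → ∀ X : Subgroup G, IsPGroup p X → T ≤ X → X = T := by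
    intro M T hM hT X hX hTX
    by_contra hne
    have hlt := H36.lt_inf_normalizer_of_pgroup hX (lt_of_le_of_ne hTX (Ne.symm hne))
    obtain ⟨x, hx, hxT⟩ := SetLike.exists_of_lt hlt
    have hxM : x ∉ M := fun hxM => hxT (by
      have h := hT.2.2 (T ⊔ Subgroup.zpowers x) (hX.to_le (sup_le hTX (Subgroup.zpowers_le.2 hx.1)))
        le_sup_left (sup_le hT.1 (Subgroup.zpowers_le.2 hxM))
      rw [← h]; exact Subgroup.mem_sup_right (Subgroup.mem_zpowers x))
    set c := (MulAut.conj x).toMonoidHom with hc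
    have hcinj : Function.Injective c := (MulAut.conj x).injective
    have hTc : T.map c = T := Subgroup.mem_normalizer_iff_map_conj_eq.1 hx.2
    set M' := M.map c with hM'
    have hlocmap : ∀ {K : Subgroup G} (d : G ≃* G), Loc K → Loc (K.map d.toMonoidHom) := by
      rintro K d ⟨U, hU, hU1, rfl⟩
      exact ⟨U.map d.toMonoidHom, hU.map _, fun h => hU1
        ((Subgroup.map_eq_bot_iff_of_injective _ d.injective).1 h), Subgroup.map_equiv_normalizer_eq U d⟩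
    have hM'max : Max M' := by
      refine ⟨hlocmap _ hM.1, fun L hL hle => ?_⟩
      have h1 := hM.2 _ (hlocmap (MulAut.conj x).symm hL) (by
        intro m hm
        exact ⟨c m, hle ⟨m, hm, rfl⟩, (MulAut.conj x).symm_apply_apply m⟩)
      rw [hM', ← h1, Subgroup.map_map]
      convert (Subgroup.map_id L).symm using 2
      ext y
      exact (MulAut.conj x).apply_symm_apply y
    have hT' : MaxP T M' := by
      refine ⟨hTc ▸ Subgroup.map_mono hT.1, hT.2.1, fun Y hY hTY hYM => ?_⟩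
      have h1 := hT.2.2 (Y.comap c) (hY.comap_of_injective c hcinj)
        (fun t ht => hTY (show c t ∈ T from hTc ▸ Subgroup.mem_map_of_mem c ht))
        (fun y hy => (Subgroup.mem_map_iff_mem hcinj).1 (hYM hy))
      rw [← Subgroup.map_comap_eq_self_of_surjective (f := c) (MulAut.conj x).surjective Y, h1, hTc]
    refine nogood M M' hM hM'max (fun heq => hxM ?_) ?_
    · rw [← hself M hM]
      have hxN : x ∈ Subgroup.normalizer (M : Set G) := Subgroup.mem_normalizer_iff_map_conj_eq.2 heq.symm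
      exact H75.normalizer_le_normalizer_pCoreOf M hxN
    · exact sup_le ((hOT M T hT).trans (le_inf hT.1 hT'.1)) ((hOT M' T hT').trans (le_inf hT.1 hT'.1))
  intro M hMloc hMmax
  have hM : Max M := ⟨hMloc, hMmax⟩
  refine ⟨fun htop => ?_, ?_, fun g hg hdvd => ?_⟩
  · obtain ⟨T, hT, hT1, hMT⟩ := hMloc
    haveI : T.Normal := Subgroup.normalizer_eq_top_iff.1 (hMT ▸ htop)
    exact hT1 (le_bot_iff.1 (hOp ▸ H1.le_pCore hT))
  · obtain ⟨k, hk⟩ := IsPGroup.iff_card.1 (hO M)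
    refine dvd_trans ?_ (Subgroup.card_dvd_of_le (hOle M))
    rw [hk]
    refine dvd_pow_self p fun h0 => hOne M hMloc ?_
    rw [h0, pow_zero] at hk
    exact Subgroup.eq_bot_of_card_eq _ hk
  · set c := (MulAut.conj g).toMonoidHom with hc
    have hM' : Max (M.map c) := by
      obtain ⟨U, hU, hU1, hMU⟩ := hMloc
      refine ⟨⟨U.map c, hU.map _, fun h => hU1 ((Subgroup.map_eq_bot_iff_of_injective _ (MulAut.conj g).injective).1 h),
        by rw [hMU]; exact Subgroup.map_equiv_normalizer_eq U (MulAut.conj g)⟩, fun L hL hle => ?_⟩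
      obtain ⟨V, hV, hV1, rfl⟩ := hL
      have h1 := hM.2 _ ⟨V.map (MulAut.conj g).symm.toMonoidHom, hV.map _,
        fun h => hV1 ((Subgroup.map_eq_bot_iff_of_injective _ (MulAut.conj g).symm.injective).1 h), rfl⟩
        (by
          rw [← Subgroup.map_equiv_normalizer_eq V (MulAut.conj g).symm]
          intro m hm
          exact ⟨c m, hle ⟨m, hm, rfl⟩, (MulAut.conj g).symm_apply_apply m⟩)
      rw [← Subgroup.map_equiv_normalizer_eq V (MulAut.conj g).symm] at h1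
      rw [← h1, Subgroup.map_map]
      convert (Subgroup.map_id _).symm using 2
      ext y
      exact (MulAut.conj g).apply_symm_apply y
    have hne : M ≠ M.map c := fun heq => hg (by
      rw [← hself M hM]
      exact H75.normalizer_le_normalizer_pCoreOf M (Subgroup.mem_normalizer_iff_map_conj_eq.2 heq.symm))
    obtain ⟨⟨z, hzmem⟩, hz⟩ := exists_prime_orderOf_dvd_card' p hdvd
    rw [Subgroup.orderOf_mk] at hz
    obtain ⟨⟨M₁, M₂, T⟩, ⟨h1, h2, hne12, hT, hT1, hTle⟩, hmax⟩ :=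
      Set.exists_max_image {q : Subgroup G × Subgroup G × Subgroup G | Max q.1 ∧ Max q.2.1 ∧ q.1 ≠ q.2.1 ∧
        IsPGroup p q.2.2 ∧ q.2.2 ≠ ⊥ ∧ q.2.2 ≤ q.1 ⊓ q.2.1} (fun q => Nat.card q.2.2) (Set.toFinite _)
        ⟨(M, M.map c, Subgroup.zpowers z), hM, hM', hne,
          IsPGroup.of_card (n := 1) (by rw [Nat.card_zpowers, hz, pow_one]),
          fun h => by
            have : z ∈ (⊥ : Subgroup G) := h ▸ Subgroup.mem_zpowers z
            rw [Subgroup.mem_bot] at this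
            rw [this, orderOf_one] at hz
            exact hp.one_lt.ne hz,
          Subgroup.zpowers_le.2 hzmem⟩
    by_cases hTS : ∀ X : Subgroup G, IsPGroup p X → T ≤ X → X = T
    · have hm : ∀ N, T ≤ N → MaxP T N := fun N hN => ⟨hN, hT, fun X hX hTX _ => hTS X hX hTX⟩
      exact nogood M₁ M₂ h1 h2 hne12 (sup_le ((hOT _ _ (hm _ (hTle.trans inf_le_left))).trans hTle)
        ((hOT _ _ (hm _ (hTle.trans inf_le_right))).trans hTle))
    · obtain ⟨L, hL, hNL⟩ := exists_max _ ⟨T, hT, hT1, rfl⟩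
      have key : ∀ N, Max N → T ≤ N → L = N := by
        intro N hN hTN
        by_contra hLN
        obtain ⟨X, hX, hTX⟩ := exists_maxP N T hT hTN
        have hXT : T < X := lt_of_le_of_ne hTX fun he => hTS (he ▸ hfull N X hN hX)
        have hlt := H36.lt_inf_normalizer_of_pgroup hX.2.1 hXT
        have hle := hmax (L, N, X ⊓ Subgroup.normalizer (T : Set G))
          ⟨hL, hN, hLN, hX.2.1.to_le inf_le_left, fun h => hT1 (le_bot_iff.1 (h ▸ hlt.le)),
            le_inf (inf_le_right.trans hNL) (inf_le_left.trans hX.1)⟩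
        exact hlt.ne (Subgroup.eq_of_le_of_card_ge hlt.le hle)
      exact hne12 ((key M₁ h1 (hTle.trans inf_le_left)).symm.trans (key M₂ h2 (hTle.trans inf_le_right)))

end Cfsg.Agent.S3751
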