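import Cfsg.Statements.S3753
import Cfsg.Agent.H72.KInfStable

set_option autoImplicit false
open Cfsg

namespace Cfsg.Agent.S3753

/-- Two distinct subgroups M₁, M₂ of G form a primitive pair when, for {i, j} = {1, 2}, every non-trivial normal subgroup A of M_i contained in M₁ ∩ M₂ satisfies N_{M_j}(A) = M₁ ∩ M₂; the pair has characteristic p when moreover C_{M_i}(O_p(M_i)) ≤ O_p(M_i) for both i and O_p(M₁)O_p(M₂) ≤ M₁ ∩ M₂. If the finite group G has a primitive pair (M₁, M₂) of characteristic p for some prime p, then M₁ or M₂ has non-abelian Sylow 2-subgroups. In particular no group of odd order has a primitive pair of characteristic p. -/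
theorem result {G : Type*} [Group G] [Finite G] {p : ℕ} [Fact p.Prime] (M₁ M₂ : Subgroup G) (hne : M₁ ≠ M₂) (hP : ∀ A : Subgroup G, A ≠ ⊥ → A ≤ M₁ ⊓ M₂ → (M₁ ≤ Subgroup.normalizer (A : Set G) → M₂ ⊓ Subgroup.normalizer (A : Set G) = M₁ ⊓ M₂) ∧ (M₂ ≤ Subgroup.normalizer (A : Set G) → M₁ ⊓ Subgroup.normalizer (A : Set G) = M₁ ⊓ M₂)) (hc₁ : Subgroup.centralizer (Cfsg.pCore p ↥M₁ : Set ↥M₁) ≤ Cfsg.pCore p ↥M₁) (hc₂ : Subgroup.centralizer (Cfsg.pCore p ↥M₂ : Set ↥M₂) ≤ Cfsg.pCore p ↥M₂) (hO : (Cfsg.pCore p ↥M₁).map M₁.subtype ⊔ (Cfsg.pCore p ↥M₂).map M₂.subtype ≤ M₁ ⊓ M₂) : (∃ S : Sylow 2 ↥M₁, ¬ IsMulCommutative (S : Subgroup ↥M₁)) ∨ (∃ S : Sylow 2 ↥M₂, ¬ IsMulCommutative (S : Subgroup ↥M₂)) := by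
  classical
  by_contra hcon
  simp only [not_or, not_exists, not_not] at hcon
  obtain ⟨hab₁, hab₂⟩ := hcon
  haveI : Fact (Nat.Prime 2) := ⟨Nat.prime_two⟩
  set D := M₁ ⊓ M₂ with hD
  obtain ⟨R₀⟩ : Nonempty (Sylow p D) := inferInstance
  set R := (R₀ : Subgroup D).map D.subtype with hR
  have hRD : R ≤ D := Subgroup.map_subtype_le _
  have hRp : IsPGroup p R := R₀.2.map _
  have hcore : ∀ M : Subgroup G, D ≤ M → (Cfsg.pCore p ↥M).map M.subtype ≤ D →
      (Cfsg.pCore p ↥M).map M.subtype ≤ R := by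
    intro M hDM hQD
    set Q := (Cfsg.pCore p ↥M).map M.subtype with hQ
    haveI := H1.pCore_normal' p ↥M
    haveI : (Q.subgroupOf D).Normal := ⟨fun q hq d => by
      obtain ⟨q', hq', hqe⟩ := Subgroup.mem_subgroupOf.mp hq
      refine Subgroup.mem_subgroupOf.mpr ⟨(⟨d, hDM d.2⟩ : M) * q' * (⟨d, hDM d.2⟩ : M)⁻¹,
        Subgroup.Normal.conj_mem inferInstance _ hq' _, ?_⟩
      simp only [Subgroup.coe_mul, Subgroup.coe_inv, map_mul, map_inv, Subgroup.coe_subtype]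
      rw [show (q' : G) = (q : G) from hqe]⟩
    have hQp : IsPGroup p (Q.subgroupOf D) :=
      ((H1.isPGroup_pCore p ↥M).map M.subtype).comap_of_injective D.subtype D.subtype_injective
    have hle : Q.subgroupOf D ≤ (R₀ : Subgroup D) := (H1.le_pCore hQp).trans (H1.pCore_le_sylow R₀)
    intro x hx
    exact ⟨⟨x, hQD hx⟩, hle (Subgroup.mem_subgroupOf.mpr hx), rfl⟩
  have hQ₁ := hcore M₁ inf_le_left (le_sup_left.trans hO)
  have hQ₂ := hcore M₂ inf_le_right (le_sup_right.trans hO)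
  -- a nontrivial subgroup normal in both members
  suffices hW : ∃ W : Subgroup G, W ≠ ⊥ ∧ W ≤ D ∧ M₁ ≤ Subgroup.normalizer (W : Set G) ∧
      M₂ ≤ Subgroup.normalizer (W : Set G) by
    obtain ⟨W, hW0, hWD, hW1, hW2⟩ := hW
    have e1 := (hP W hW0 hWD).1 hW1
    have e2 := (hP W hW0 hWD).2 hW2
    rw [inf_eq_left.mpr hW2] at e1
    rw [inf_eq_left.mpr hW1] at e2
    exact hne (e2.trans e1.symm)
  have hbot : ∀ M : Subgroup G, Subgroup.centralizer (Cfsg.pCore p ↥M : Set ↥M) ≤ Cfsg.pCore p ↥M →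
      (Cfsg.pCore p ↥M).map M.subtype ≤ R → R = ⊥ → M = ⊥ := by
    intro M hc hQR hR0
    have h0 : Cfsg.pCore p ↥M = ⊥ := by
      rw [← Subgroup.map_eq_bot_iff_of_injective _ M.subtype_injective]
      exact le_bot_iff.mp (hQR.trans hR0.le)
    rw [Subgroup.eq_bot_iff_forall]
    intro x hx
    have h1 : (⟨x, hx⟩ : M) ∈ Cfsg.pCore p ↥M := hc (by
      rw [h0, Subgroup.mem_centralizer_iff]
      intro y hy
      rw [Subgroup.mem_bot.mp hy, one_mul, mul_one])
    rw [h0] at h1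
    exact congrArg Subtype.val (Subgroup.mem_bot.mp h1)
  have hR0 : R ≠ ⊥ := fun h => hne ((hbot M₁ hc₁ hQ₁ h).trans (hbot M₂ hc₂ hQ₂ h).symm)
  have hconj : ∀ M : Subgroup G, ∀ W : Subgroup G, W ≤ M → (W.subgroupOf M).Normal →
      M ≤ Subgroup.normalizer (W : Set G) := fun M W hWM hn => by
    haveI := hn
    exact Subgroup.normal_subgroupOf_iff_le_normalizer hWM |>.mp hn
  by_cases hp : p = 2
  · subst hp
    -- the cores are the Sylow subgroups
    have hfull : ∀ M : Subgroup G, D ≤ M → (∀ T : Sylow 2 ↥M, IsMulCommutative (T : Subgroup ↥M)) →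
        Subgroup.centralizer (Cfsg.pCore 2 ↥M : Set ↥M) ≤ Cfsg.pCore 2 ↥M →
        (Cfsg.pCore 2 ↥M).map M.subtype = R → M ≤ Subgroup.normalizer (R : Set G) := by
      intro M hDM _ _ he
      haveI := H1.pCore_normal' 2 ↥M
      refine hconj M R (hRD.trans hDM) ?_
      rw [← he, Subgroup.subgroupOf, Subgroup.comap_map_eq_self_of_injective M.subtype_injective]
      infer_instance
    have heq : ∀ M : Subgroup G, D ≤ M → (∀ T : Sylow 2 ↥M, IsMulCommutative (T : Subgroup ↥M)) →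
        Subgroup.centralizer (Cfsg.pCore 2 ↥M : Set ↥M) ≤ Cfsg.pCore 2 ↥M →
        (Cfsg.pCore 2 ↥M).map M.subtype ≤ R → (Cfsg.pCore 2 ↥M).map M.subtype = R := by
      intro M hDM hab hc hle
      refine le_antisymm hle ?_
      obtain ⟨T, hT⟩ := (hRp.comap_of_injective M.subtype M.subtype_injective).exists_le_sylow
      intro x hx
      refine ⟨⟨x, hDM (hRD hx)⟩, hc ?_, rfl⟩
      rw [Subgroup.mem_centralizer_iff]
      intro y hy
      exact congrArg Subtype.val ((hab T).is_comm.comm ⟨y, H1.pCore_le_sylow T hy⟩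
        ⟨⟨x, hDM (hRD hx)⟩, hT hx⟩)
    exact ⟨R, hR0, hRD, hfull M₁ inf_le_left hab₁ hc₁ (heq M₁ inf_le_left hab₁ hc₁ hQ₁),
      hfull M₂ inf_le_right hab₂ hc₂ (heq M₂ inf_le_right hab₂ hc₂ hQ₂)⟩
  · have hW := H73.kInfLower_isCharPFunctor (p := p)
    have hnorm : ∀ M : Subgroup G, D ≤ M → (∀ T : Sylow 2 ↥M, IsMulCommutative (T : Subgroup ↥M)) →
        Subgroup.centralizer (Cfsg.pCore p ↥M : Set ↥M) ≤ Cfsg.pCore p ↥M →
        (Cfsg.pCore p ↥M).map M.subtype ≤ R →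
        M ≤ Subgroup.normalizer (Cfsg.inducedFunctor Cfsg.kInfLower R : Set G) := by
      intro M hDM hab hc hle
      have hRM : R ≤ M := hRD.trans hDM
      have hRMp : IsPGroup p (R.subgroupOf M) := hRp.comap_of_injective M.subtype M.subtype_injective
      have hn := H72.kInfLower_normal_of_comm_sylow_two hp hab hc hRMp
        (fun x hx => Subgroup.mem_subgroupOf.mpr (hle ⟨x, hx, rfl⟩))
      have he := H73.map_inducedFunctor hW M.subtype M.subtype_injective hRMp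
      rw [Subgroup.map_subgroupOf_eq_of_le hRM] at he
      refine hconj M _ ((H73.inducedFunctor_le R).trans hRM) ?_
      rw [← he, Subgroup.subgroupOf, Subgroup.comap_map_eq_self_of_injective M.subtype_injective]
      exact hn
    refine ⟨Cfsg.inducedFunctor Cfsg.kInfLower R, ?_, (H73.inducedFunctor_le R).trans hRD,
      hnorm M₁ inf_le_left hab₁ hc₁ hQ₁, hnorm M₂ inf_le_right hab₂ hc₂ hQ₂⟩
    exact (H73.isConjugacyFunctor_inducedFunctor hW G R hRp).2.1 hR0

end Cfsg.Agent.S3753
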