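import Cfsg.Statements.S3754
import Cfsg.Agent.H10.PSolvableDual
import Cfsg.Agent.H79.CoprimeGen
import Cfsg.Agent.H1.Cores
import Cfsg.Agent.H1.CoprimeAction
import Cfsg.Agent.H1.SchurZassenhausConj
import Cfsg.Agent.H6.Basic

set_option autoImplicit false
open Cfsg

namespace Cfsg.Agent.S3754

open scoped commutatorElement

universe w

variable {M : Type w} [Group M]

theorem mem_of_mem_sup {N A : Subgroup M} [Finite M] {p : ℕ} [Fact p.Prime] (hA : IsPGroup p A)
    (hAN : A ≤ Subgroup.normalizer (N : Set M)) {g : M} (hg : g ∈ N ⊔ A)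
    (ho : Nat.Coprime (orderOf g) p) : g ∈ N := by
  obtain ⟨n, hn, a, ha, rfl⟩ := H1.exists_mul_of_mem_sup hAN hg
  have key : ∀ k : ℕ, (n * a) ^ k * (a ^ k)⁻¹ ∈ N := by
    intro k
    induction k with
    | zero => simp
    | succ k ih =>
      have e : (n * a) ^ (k + 1) * (a ^ (k + 1))⁻¹ =
          ((n * a) ^ k * (a ^ k)⁻¹) * (a ^ k * n * (a ^ k)⁻¹) := by
        rw [pow_succ, pow_succ]; group
      rw [e]
      exact mul_mem ih ((Subgroup.mem_normalizer_iff.mp (hAN (pow_mem ha k)) n).mp hn)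
  have h := key (orderOf (n * a))
  rw [pow_orderOf_eq_one, one_mul, inv_mem_iff] at h
  obtain ⟨j, hj⟩ := hA ⟨a, ha⟩
  have hj' : a ^ p ^ j = 1 := congrArg Subtype.val hj
  have hcop : (orderOf a).Coprime (orderOf (n * a)) :=
    ((Nat.Coprime.pow_right j ho).coprime_dvd_right (orderOf_dvd_of_pow_eq_one hj')).symm
  obtain ⟨i, hi⟩ := exists_pow_eq_self_of_coprime hcop.symm
  exact mul_mem hn (hi ▸ pow_mem h i)

theorem exists_coprime_pow {Q : Type*} [Group Q] [Finite M] {p : ℕ} [Fact p.Prime] (f : M →* Q) (g : M)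
    (h : (orderOf (f g)).Coprime p) :
    ∃ j : ℕ, (orderOf (g ^ p ^ j)).Coprime p ∧ f g ∈ Subgroup.zpowers (f (g ^ p ^ j)) := by
  have hp := (Fact.out : p.Prime)
  refine ⟨(orderOf g).factorization p, ?_, ?_⟩
  · rw [orderOf_pow' _ (pow_ne_zero _ hp.ne_zero),
      Nat.gcd_eq_right (Nat.ordProj_dvd _ _)]
    exact (Nat.coprime_ordCompl hp (orderOf_pos g).ne').symm
  · rw [map_pow]
    obtain ⟨i, hi⟩ := exists_pow_eq_self_of_coprime
      (Nat.Coprime.pow_left ((orderOf g).factorization p) h.symm)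
    refine ⟨(i : ℤ), ?_⟩
    show (f g ^ _) ^ (i : ℤ) = f g
    rw [zpow_natCast]; exact hi

theorem mem_normalizer' [Finite M] {W : Subgroup M} {c : M} (h : ∀ w ∈ W, c * w * c⁻¹ ∈ W) :
    c ∈ Subgroup.normalizer (W : Set M) := by
  have hle : W.map (MulAut.conj c).toMonoidHom ≤ W := by
    rintro _ ⟨w, hw, rfl⟩; exact h w hw
  have heq := Subgroup.eq_of_le_of_card_ge hle
    (le_of_eq (Subgroup.card_map_of_injective (MulAut.conj c).injective).symm)
  rw [Subgroup.mem_normalizer_iff]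
  refine fun w => ⟨h w, fun hw => ?_⟩
  rw [← heq] at hw
  obtain ⟨a, ha, he⟩ := hw
  exact (MulAut.conj c).injective he ▸ ha

/-- Let M be a finite p-soluble group and A a p-subgroup of M with Φ(A) ≤ O_p(M) but A ≰ O_p(M). Then there is x ∈ O_{p,p'}(M) such that L = ⟨A, xAx⁻¹⟩ satisfies: x ∈ O^p(L) and O^p(L) ≤ O_{p,p'}(M); [O^p(L), A] = O^p(L); A ∩ O_p(L) has index p in A; and [A ∩ O_p(L), L] ≤ O_p(M). Here O^p(L) is the subgroup generated by the p'-elements of L and O_{p,p'}(M) the preimage of O_{p'}(M/O_p(M)). -/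
theorem result {M : Type*} [Group M] [Finite M] {p : ℕ} [Fact p.Prime] (hM : Cfsg.IsPSolvable p M) (A : Subgroup M) (hA : IsPGroup p A) (hΦ : (frattini ↥A).map A.subtype ≤ Cfsg.pCore p M) (hnot : ¬ A ≤ Cfsg.pCore p M) : ∃ x ∈ (Cfsg.pPrimeCore p (M ⧸ Cfsg.pCore p M)).comap (QuotientGroup.mk' (Cfsg.pCore p M)), x ∈ (Cfsg.pResidual p ↥(A ⊔ A.map (MulAut.conj x).toMonoidHom)).map (A ⊔ A.map (MulAut.conj x).toMonoidHom).subtype ∧ (Cfsg.pResidual p ↥(A ⊔ A.map (MulAut.conj x).toMonoidHom)).map (A ⊔ A.map (MulAut.conj x).toMonoidHom).subtype ≤ (Cfsg.pPrimeCore p (M ⧸ Cfsg.pCore p M)).comap (QuotientGroup.mk' (Cfsg.pCore p M)) ∧ ⁅(Cfsg.pResidual p ↥(A ⊔ A.map (MulAut.conj x).toMonoidHom)).map (A ⊔ A.map (MulAut.conj x).toMonoidHom).subtype, A⁆ = (Cfsg.pResidual p ↥(A ⊔ A.map (MulAut.conj x).toMonoidHom)).map (A ⊔ A.map (MulAut.conj x).toMonoidHom).subtype ∧ (A ⊓ (Cfsg.pCore p ↥(A ⊔ A.map (MulAut.conj x).toMonoidHom)).map (A ⊔ A.map (MulAut.conj x).toMonoidHom).subtype).relIndex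 A = p ∧ ⁅A ⊓ (Cfsg.pCore p ↥(A ⊔ A.map (MulAut.conj x).toMonoidHom)).map (A ⊔ A.map (MulAut.conj x).toMonoidHom).subtype, A ⊔ A.map (MulAut.conj x).toMonoidHom⁆ ≤ Cfsg.pCore p M := by
  classical
  have hpp := (Fact.out : p.Prime)
  set U := Cfsg.pCore p M with hU
  set π := QuotientGroup.mk' U with hπ
  set R := Cfsg.pPrimeCore p (M ⧸ U) with hR
  haveI hRn : R.Normal := H1.pPrimeCore_normal' p (M ⧸ U)
  have hRcop : (Nat.card R).Coprime p := H10.pPrimeCore_coprime
  have hCR := H10.centralizer_pPrimeCore_le (H10.isPSolvable_quotient hM U) H10.pCore_quotient_pCore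
  set Ab := A.map π with hAb
  have hAbp : IsPGroup p Ab := hA.map π
  have hAΦ : ∀ a : A, a ∈ frattini A → π (a : M) = 1 := fun a ha =>
    (QuotientGroup.eq_one_iff _).mpr (hΦ (Subgroup.mem_map_of_mem A.subtype ha))
  have hexp : ∀ y ∈ Ab, y ^ p = 1 := by
    rintro _ ⟨a, ha, rfl⟩
    rw [← map_pow]
    exact hAΦ (⟨a, ha⟩ ^ p) (H6.pow_prime_mem_frattini hA _)
  haveI hAbc : IsMulCommutative Ab := ⟨⟨by
    rintro ⟨_, a, ha, rfl⟩ ⟨_, b, hb, rfl⟩
    refine Subtype.ext ?_
    have h := hAΦ ⁅(⟨a, ha⟩ : A), ⟨b, hb⟩⁆ (H6.commutator_le_frattini hA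
      (Subgroup.commutator_mem_commutator (Subgroup.mem_top _) (Subgroup.mem_top _)))
    rw [show (((⁅(⟨a, ha⟩ : A), ⟨b, hb⟩⁆) : A) : M) = ⁅a, b⁆ from rfl, map_commutatorElement,
      commutatorElement_eq_one_iff_commute] at h
    exact h.eq⟩⟩
  have hcm : ∀ a ∈ Ab, ∀ b ∈ Ab, a * b = b * a := fun a ha b hb =>
    congrArg Subtype.val (hAbc.is_comm.comm ⟨a, ha⟩ ⟨b, hb⟩)
  have hRnorm : Ab ≤ Subgroup.normalizer (R : Set (M ⧸ U)) := by
    rw [Subgroup.normalizer_eq_top]; exact le_top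
  have hdisj : ∀ y, y ∈ R → y ∈ Ab → y = 1 := by
    intro y hyR hyA
    rw [← orderOf_eq_one_iff]
    refine Nat.eq_one_of_dvd_coprimes hRcop (Subgroup.orderOf_dvd_natCard R hyR) ?_
    exact orderOf_dvd_of_pow_eq_one (hexp y hyA)
  have hAR : ¬ R ≤ Subgroup.centralizer (Ab : Set (M ⧸ U)) := by
    intro h
    apply hnot
    intro a ha
    refine (QuotientGroup.eq_one_iff a).mp ?_
    exact hdisj _ (hCR (Subgroup.le_centralizer_iff.mp h (Subgroup.mem_map_of_mem π ha)))
      (Subgroup.mem_map_of_mem π ha)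
  -- a minimal invariant subgroup of `R` moved by `Ab`
  obtain ⟨X, hXmem, hmin⟩ := Set.Finite.exists_minimal (Set.toFinite
    {X : Subgroup (M ⧸ U) | X ≤ R ∧ Ab ≤ Subgroup.normalizer (X : Set (M ⧸ U)) ∧
      ¬ X ≤ Subgroup.centralizer (Ab : Set (M ⧸ U))}) ⟨R, le_rfl, hRnorm, hAR⟩
  obtain ⟨hXR, hXn, hXnc⟩ := hXmem
  have hXmin : ∀ Y : Subgroup (M ⧸ U), Y ≤ X → Ab ≤ Subgroup.normalizer (Y : Set (M ⧸ U)) →
      Y ≠ X → Y ≤ Subgroup.centralizer (Ab : Set (M ⧸ U)) := by
    intro Y hY hYn hne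
    by_contra hc
    exact hne (le_antisymm hY (hmin ⟨hY.trans hXR, hYn, hc⟩ hY))
  have hXcop : (Nat.card X).Coprime p := hRcop.coprime_dvd_left (Subgroup.card_dvd_of_le hXR)
  set Cx := Subgroup.centralizer (X : Set (M ⧸ U)) with hCx
  have hidx : Cx.relIndex Ab = p := by
    have hne : ¬ Ab ≤ Cx := fun h => hXnc (Subgroup.le_centralizer_iff.mp h)
    obtain ⟨a, haA, haC⟩ := SetLike.not_le_iff_exists.mp hne
    set D := (Cx ⊓ Ab) ⊔ Subgroup.zpowers a with hD
    have hAD : Ab ≤ D := by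
      intro b hb
      by_contra hbD
      set Eg := Subgroup.closure ({a, b} : Set (M ⧸ U)) with hEg
      have hEA : Eg ≤ Ab := (Subgroup.closure_le _).mpr
        (Set.insert_subset_iff.mpr ⟨haA, Set.singleton_subset_iff.mpr hb⟩)
      haveI : IsMulCommutative Eg := ⟨⟨fun u v => Subtype.ext (hcm _ (hEA u.2) _ (hEA v.2))⟩⟩
      have hmemE : ∀ y ∈ Eg, ∃ i j : ℤ, y = a ^ i * b ^ j := by
        intro y hy
        induction hy using Subgroup.closure_induction with
        | mem y hy =>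
          rcases hy with rfl | hy
          · exact ⟨1, 0, by simp⟩
          · exact ⟨0, 1, by simp [Set.mem_singleton_iff.mp hy]⟩
        | one => exact ⟨0, 0, by simp⟩
        | mul y z _ _ hy hz =>
          obtain ⟨i, j, rfl⟩ := hy
          obtain ⟨i', j', rfl⟩ := hz
          refine ⟨i + i', j + j', ?_⟩
          rw [zpow_add, zpow_add]
          have hc : Commute (b ^ j) (a ^ i') := (Commute.zpow_zpow (hcm b hb a haA) j i')
          calc a ^ i * b ^ j * (a ^ i' * b ^ j') = a ^ i * (b ^ j * a ^ i') * b ^ j' := by group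
            _ = a ^ i * (a ^ i' * b ^ j) * b ^ j' := by rw [hc.eq]
            _ = _ := by group
        | inv y _ hy =>
          obtain ⟨i, j, rfl⟩ := hy
          refine ⟨-i, -j, ?_⟩
          rw [mul_inv_rev, zpow_neg, zpow_neg]
          exact (Commute.zpow_zpow (hcm b hb a haA) j i).inv_inv.eq
      have hmod : ∀ (c : M ⧸ U), c ∈ Ab → ∀ (T : Subgroup (M ⧸ U)) (i : ℤ), c ^ i ∈ T →
          ¬ (p : ℤ) ∣ i → c ∈ T := by
        intro c hc T i hiT hpi
        obtain ⟨u, v, huv⟩ : IsCoprime i (p : ℤ) :=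
          ((Nat.prime_iff_prime_int.mp hpp).coprime_iff_not_dvd.mpr hpi).symm
        have e : c = (c ^ i) ^ u := by
          conv_lhs => rw [← zpow_one c, ← huv, zpow_add, zpow_mul' c v, zpow_natCast, hexp c hc,
            one_zpow, mul_one, zpow_mul']
        exact e ▸ zpow_mem hiT u
      have htriv : ∀ y ∈ Eg, y ∈ Cx → y = 1 := by
        intro y hy hyC
        obtain ⟨i, j, rfl⟩ := hmemE y hy
        have hj : (p : ℤ) ∣ j := by
          by_contra hj
          refine hbD (hmod b hb D j ?_ hj)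
          have : b ^ j = (a ^ i)⁻¹ * (a ^ i * b ^ j) := by group
          rw [this]
          exact mul_mem (inv_mem (Subgroup.mem_sup_right ⟨i, rfl⟩))
            (Subgroup.mem_sup_left ⟨hyC, hEA hy⟩)
        obtain ⟨l, rfl⟩ := hj
        rw [zpow_mul, zpow_natCast, hexp b hb, one_zpow, mul_one] at hyC ⊢
        by_cases hi : (p : ℤ) ∣ i
        · obtain ⟨l', rfl⟩ := hi
          rw [zpow_mul, zpow_natCast, hexp a haA, one_zpow]
        · exact absurd (hmod a haA Cx i hyC hi) haC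
      have hnc : ¬ IsCyclic Eg := by
        intro hcyc
        have haE : a ∈ Eg := Subgroup.subset_closure (Set.mem_insert _ _)
        have hbE : b ∈ Eg := Subgroup.subset_closure (Set.mem_insert_of_mem _ rfl)
        have ha1 : a ≠ 1 := fun h => haC (h ▸ one_mem _)
        have hcard : Nat.card Eg ≤ p := by
          obtain ⟨g, hg⟩ := hcyc.exists_generator
          rw [← orderOf_eq_card_of_forall_mem_zpowers hg]
          exact Nat.le_of_dvd hpp.pos (orderOf_dvd_of_pow_eq_one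
            (Subtype.ext (by simpa using hexp _ (hEA g.2))))
        have hEa : Subgroup.zpowers a = Eg := Subgroup.eq_of_le_of_card_ge
          (Subgroup.zpowers_le.mpr haE) (by
            rw [Nat.card_zpowers, orderOf_eq_prime (hexp a haA) ha1]; exact hcard)
        exact hbD (Subgroup.mem_sup_right (hEa.symm ▸ hbE))
      refine hXnc (H79.le_of_centralizers_le (p := p) (fun y hy => hexp y (hEA hy)) hnc
        (hEA.trans hXn) hXcop fun y hy hy1 => ?_)
      refine hXmin _ inf_le_left ?_ fun he => hy1 (htriv y hy ?_)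
      · intro c hc
        refine mem_normalizer' ?_
        intro z hz
        refine ⟨(Subgroup.mem_normalizer_iff.mp (hXn hc) z).mp hz.1, ?_⟩
        show _ ∈ Subgroup.centralizer _
        rw [Subgroup.mem_centralizer_singleton_iff]
        have h1 : Commute z y := Subgroup.mem_centralizer_singleton_iff.mp hz.2
        have h2 : Commute c y := hcm c hc y (hEA hy)
        exact ((h2.mul_left h1).mul_left h2.inv_left).eq
      · rw [Subgroup.mem_centralizer_iff]
        intro z hz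
        have hz' : z ∈ X ⊓ Subgroup.centralizer ({y} : Set (M ⧸ U)) := he.symm ▸ hz
        exact Subgroup.mem_centralizer_singleton_iff.mp hz'.2
    haveI : IsMulCommutative (Cx.subgroupOf Ab) := inferInstance
    haveI hn : (Cx.subgroupOf Ab).Normal := ⟨fun u hu v => by
      rw [hAbc.is_comm.comm v u, mul_inv_cancel_right]; exact hu⟩
    rw [Subgroup.relIndex, Subgroup.index_eq_card,
      ← orderOf_eq_card_of_forall_mem_zpowers (g := QuotientGroup.mk' (Cx.subgroupOf Ab) ⟨a, haA⟩)]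
    · refine orderOf_eq_prime ?_ fun h => haC (Subgroup.mem_subgroupOf.mp
        ((QuotientGroup.eq_one_iff _).mp h))
      rw [← map_pow, show (⟨a, haA⟩ : Ab) ^ p = 1 from Subtype.ext (hexp a haA), map_one]
    · intro u
      obtain ⟨⟨b, hb⟩, rfl⟩ := QuotientGroup.mk'_surjective _ u
      obtain ⟨c, hc, d, hd, he⟩ := H1.exists_mul_of_mem_sup (D := Cx ⊓ Ab) (H := Subgroup.zpowers a)
        (by
          rw [Subgroup.zpowers_le]
          refine mem_normalizer' ?_
          intro z hz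
          rw [hcm a haA z hz.2, mul_inv_cancel_right]
          exact hz) (hAD hb)
      obtain ⟨i, rfl⟩ := hd
      refine ⟨i, ?_⟩
      show (QuotientGroup.mk' (Cx.subgroupOf Ab) ⟨a, haA⟩) ^ i = _
      rw [← map_zpow]
      refine (QuotientGroup.eq.mpr ?_)
      rw [Subgroup.mem_subgroupOf]
      have : b = c * a ^ i := he
      simp only [Subgroup.coe_mul, Subgroup.coe_inv, SubgroupClass.coe_zpow]
      rw [this, show (a ^ i)⁻¹ * (c * a ^ i) = (a ^ i)⁻¹ * (a ^ i * c) by
        rw [hcm c hc.2 (a ^ i) (zpow_mem haA i)], inv_mul_cancel_left]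
      exact hc.1
  -- the candidates
  let good : Set M := {g | π g ∈ X ∧ π g ∉ Subgroup.centralizer (Ab : Set (M ⧸ U)) ∧
    (orderOf g).Coprime p}
  have hlift : ∀ g : M, π g ∈ X → π g ∉ Subgroup.centralizer (Ab : Set (M ⧸ U)) →
      ∃ j : ℕ, g ^ p ^ j ∈ good := by
    intro g hgX hgC
    obtain ⟨j, hj1, hj2⟩ := exists_coprime_pow π g
      (hXcop.coprime_dvd_left (Subgroup.orderOf_dvd_natCard X hgX))
    refine ⟨j, ?_, fun h => hgC (Subgroup.zpowers_le.mpr h hj2), hj1⟩
    rw [map_pow]; exact pow_mem hgX _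
  have hgood : good.Nonempty := by
    obtain ⟨y, hyX, hyC⟩ := SetLike.not_le_iff_exists.mp hXnc
    obtain ⟨g, rfl⟩ := QuotientGroup.mk'_surjective U y
    obtain ⟨j, hj⟩ := hlift g hyX hyC
    exact ⟨_, hj⟩
  obtain ⟨x₀, hx₀, hx₀min⟩ := Set.exists_min_image good
    (fun g => Nat.card ↥(A ⊔ A.map (MulAut.conj g).toMonoidHom)) (Set.toFinite _) hgood
  set L₀ := A ⊔ A.map (MulAut.conj x₀).toMonoidHom with hL₀
  have himg : ∀ g ∈ good, X ≤ (A ⊔ A.map (MulAut.conj g).toMonoidHom).map π ∧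
      (A ⊔ A.map (MulAut.conj g).toMonoidHom).map π ≤ X ⊔ Ab := by
    intro g hg
    obtain ⟨hgX, hgC, -⟩ := hg
    set Lb := (A ⊔ A.map (MulAut.conj g).toMonoidHom).map π with hLb
    have hAL : Ab ≤ Lb := Subgroup.map_mono le_sup_left
    have hconj : ∀ a ∈ A, π g * π a * (π g)⁻¹ ∈ Lb := by
      intro a ha
      rw [← map_inv, ← map_mul, ← map_mul]
      exact Subgroup.mem_map_of_mem π (Subgroup.mem_sup_right ⟨a, ha, rfl⟩)
    refine ⟨?_, ?_⟩
    · by_contra hle
      have hYn : Ab ≤ Subgroup.normalizer ((X ⊓ Lb : Subgroup (M ⧸ U)) : Set (M ⧸ U)) := by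
        intro c hc
        refine mem_normalizer' ?_
        intro z hz
        exact ⟨(Subgroup.mem_normalizer_iff.mp (hXn hc) z).mp hz.1,
          Lb.mul_mem (Lb.mul_mem (hAL hc) hz.2) (Lb.inv_mem (hAL hc))⟩
      have hY := hXmin _ inf_le_left hYn fun he => hle (inf_eq_left.mp he)
      apply hgC
      rw [Subgroup.mem_centralizer_iff]
      rintro _ ⟨a, ha, rfl⟩
      set z := π g * π a * (π g)⁻¹ * (π a)⁻¹ with hz
      have haA : π a ∈ Ab := Subgroup.mem_map_of_mem π ha
      have hzX : z ∈ X := by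
        rw [hz, show π g * π a * (π g)⁻¹ * (π a)⁻¹ = π g * (π a * (π g)⁻¹ * (π a)⁻¹) by group]
        exact mul_mem hgX ((Subgroup.mem_normalizer_iff.mp (hXn haA) _).mp (inv_mem hgX))
      have hzc : Commute (π a) z := Subgroup.mem_centralizer_iff.mp
        (hY ⟨hzX, Lb.mul_mem (hconj a ha) (Lb.inv_mem (hAL haA))⟩) _ haA
      have he : π g * π a * (π g)⁻¹ = z * π a := by rw [hz]; group
      have hzp : z ^ p = 1 := by
        have := congrArg (· ^ p) he
        simp only [conj_pow, hexp _ haA, mul_one, mul_inv_cancel] at this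
        rw [hzc.symm.mul_pow, hexp _ haA, mul_one] at this
        exact this.symm
      have hz1 : z = 1 := by
        rw [← orderOf_eq_one_iff]
        exact Nat.eq_one_of_dvd_coprimes hXcop (Subgroup.orderOf_dvd_natCard X hzX)
          (orderOf_dvd_of_pow_eq_one hzp)
      rw [hz1, one_mul] at he
      exact (mul_inv_eq_iff_eq_mul.mp he).symm
    · rw [hLb, Subgroup.map_sup]
      refine sup_le le_sup_right ?_
      rintro _ ⟨_, ⟨a, ha, rfl⟩, rfl⟩
      show π (g * a * g⁻¹) ∈ _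
      rw [map_mul, map_mul, map_inv]
      exact mul_mem (mul_mem (Subgroup.mem_sup_left hgX)
        (Subgroup.mem_sup_right (Subgroup.mem_map_of_mem π ha))) (inv_mem (Subgroup.mem_sup_left hgX))
  obtain ⟨l, hlL, hlπ⟩ := (himg x₀ hx₀).1 hx₀.1
  obtain ⟨j, hxgood⟩ := hlift l (hlπ ▸ hx₀.1) (hlπ ▸ hx₀.2.1)
  set x := l ^ p ^ j with hx
  have hxL₀ : x ∈ L₀ := pow_mem hlL _
  set L := A ⊔ A.map (MulAut.conj x).toMonoidHom with hL
  have hLle : L ≤ L₀ := by
    refine sup_le le_sup_left ?_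
    rintro _ ⟨a, ha, rfl⟩
    exact mul_mem (mul_mem hxL₀ (Subgroup.mem_sup_left (T := A.map _) ha)) (inv_mem hxL₀)
  have hLeq : L = L₀ := Subgroup.eq_of_le_of_card_ge hLle (hx₀min x hxgood)
  have hxL : x ∈ L := hLeq ▸ hxL₀
  obtain ⟨hXL, hLX⟩ := himg x hxgood
  set K := (Cfsg.pResidual p ↥L).map L.subtype with hK
  have hgen : ∀ g ∈ L, (orderOf g).Coprime p → g ∈ K := fun g hg ho =>
    ⟨⟨g, hg⟩, Subgroup.subset_closure (by simpa [Subgroup.orderOf_mk] using ho), rfl⟩
  have hKle : ∀ T : Subgroup M, (∀ g ∈ L, (orderOf g).Coprime p → g ∈ T) → K ≤ T := by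
    intro T hT
    rw [hK, Subgroup.map_le_iff_le_comap, Cfsg.pResidual, Subgroup.closure_le]
    intro g hg
    exact hT g g.2 (by simpa [Subgroup.orderOf_coe] using hg)
  have hKn : L ≤ Subgroup.normalizer (K : Set M) := by
    intro c hc
    refine mem_normalizer' ?_
    intro z hz
    have : K ≤ K.comap (MulAut.conj c).toMonoidHom := hKle _ fun g hg ho => by
      refine hgen _ (mul_mem (mul_mem hc hg) (inv_mem hc)) ?_
      show (orderOf ((MulAut.conj c) g)).Coprime p
      rwa [MulEquiv.orderOf_eq]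
    exact this hz
  have hAL : A ≤ L := le_sup_left
  have hxK : x ∈ K := hgen x hxL hxgood.2.2
  have hKY : K ≤ R.comap π := by
    refine hKle _ fun g hg ho => hXR ?_
    exact mem_of_mem_sup hAbp hXn (hLX (Subgroup.mem_map_of_mem π hg))
      (ho.coprime_dvd_left (orderOf_map_dvd π g))
  set P := (Cfsg.pCore p ↥L).map L.subtype with hP
  have hPn : L ≤ Subgroup.normalizer (P : Set M) := by
    intro c hc
    refine mem_normalizer' ?_
    rintro _ ⟨z, hz, rfl⟩
    exact ⟨⟨c, hc⟩ * z * ⟨c, hc⟩⁻¹, Subgroup.Normal.conj_mem inferInstance z hz _, rfl⟩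
  have hAP : A ⊓ P = A ⊓ Cx.comap π := by
    refine le_antisymm ?_ ?_
    · rintro a ⟨haA, haP⟩
      refine ⟨haA, ?_⟩
      show π a ∈ Cx
      rw [hCx, Subgroup.mem_centralizer_iff]
      intro y hy
      obtain ⟨g, hgL, rfl⟩ := hXL hy
      set w := g * a * g⁻¹ * a⁻¹
      have hwP : w ∈ P := mul_mem ((Subgroup.mem_normalizer_iff.mp (hPn hgL) a).mp haP) (inv_mem haP)
      have hwX : π w ∈ X := by
        have e : π w = π g * (π a * (π g)⁻¹ * (π a)⁻¹) := by
          simp only [w, map_mul, map_inv]; group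
        rw [e]
        exact mul_mem hy ((Subgroup.mem_normalizer_iff.mp (hXn (Subgroup.mem_map_of_mem π haA)) _).mp
          (inv_mem hy))
      have hw1 : π w = 1 := by
        obtain ⟨z, hz, hze⟩ := hwP
        obtain ⟨i, hi⟩ := H10.pCore_isPGroup (⟨z, hz⟩ : Cfsg.pCore p ↥L)
        have hwp : w ^ p ^ i = 1 := by
          rw [← hze, ← map_pow]
          exact (congrArg L.subtype (congrArg Subtype.val hi)).trans (map_one _)
        rw [← orderOf_eq_one_iff]
        exact Nat.eq_one_of_dvd_coprimes (hXcop.pow_right i) (Subgroup.orderOf_dvd_natCard X hwX)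
          (orderOf_dvd_of_pow_eq_one (by rw [← map_pow, hwp, map_one]))
      simp only [w, map_mul, map_inv, mul_inv_eq_one, mul_inv_eq_iff_eq_mul] at hw1
      simpa using hw1
    · rintro a ⟨haA, haC⟩
      refine ⟨haA, ⟨⟨a, hAL haA⟩, ?_, rfl⟩⟩
      have hcentral : ∀ c ∈ Cx ⊓ Ab, ∀ y ∈ L.map π, y * c = c * y := by
        intro c hc y hy
        have : L.map π ≤ Subgroup.centralizer ({c} : Set (M ⧸ U)) := by
          refine hLX.trans (sup_le (fun z hz => ?_) fun z hz => ?_)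
          · exact Subgroup.mem_centralizer_singleton_iff.mpr (Subgroup.mem_centralizer_iff.mp hc.1 z hz)
          · exact Subgroup.mem_centralizer_singleton_iff.mpr (hcm z hz c hc.2)
        exact Subgroup.mem_centralizer_singleton_iff.mp (this hy)
      set f := π.comp L.subtype with hf
      have hker : IsPGroup p f.ker := by
        intro z
        have hz : ((z : L) : M) ∈ U := (QuotientGroup.eq_one_iff _).mp (MonoidHom.mem_ker.mp z.2)
        obtain ⟨i, hi⟩ := H10.pCore_isPGroup (⟨_, hz⟩ : U)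
        refine ⟨i, Subtype.ext (Subtype.ext ?_)⟩
        simpa using congrArg Subtype.val hi
      have hDn : ((Cx ⊓ Ab).comap f).Normal := ⟨fun z hz c => by
        rw [Subgroup.mem_comap] at hz ⊢
        rw [map_mul, map_mul, map_inv,
          show f c * f z = f z * f c from hcentral _ hz _ (Subgroup.mem_map_of_mem π c.2),
          mul_inv_cancel_right]
        exact hz⟩
      exact H10.le_pCore hDn ((hAbp.to_le inf_le_right).comap_of_ker_isPGroup f hker)
        ⟨haC, Subgroup.mem_map_of_mem π haA⟩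
  refine ⟨x, hXR hxgood.1, hxK, hKY, ?_, ?_, ?_⟩
  · refine le_antisymm (H1.commutator_le_left_of_le_normalizer (hAL.trans hKn)) ?_
    refine hKle _ fun g hg ho => mem_of_mem_sup hA H1.right_le_normalizer_commutator ?_ ho
    refine (show L ≤ ⁅K, A⁆ ⊔ A from sup_le le_sup_right ?_) hg
    rintro _ ⟨a, ha, rfl⟩
    show x * a * x⁻¹ ∈ _
    rw [show x * a * x⁻¹ = ⁅x, a⁆ * a by simp only [commutatorElement_def]; group]
    exact mul_mem (Subgroup.mem_sup_left (Subgroup.commutator_mem_commutator hxK ha))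
      (Subgroup.mem_sup_right ha)
  · show (A ⊓ P).relIndex A = p
    rw [hAP, Subgroup.inf_relIndex_left, Subgroup.relIndex_comap]
    exact hidx
  · show ⁅A ⊓ P, L⁆ ≤ U
    rw [hAP, Subgroup.commutator_le]
    rintro a ⟨haA, haC⟩ c hc
    refine (QuotientGroup.eq_one_iff _).mp ?_
    show π ⁅a, c⁆ = 1
    rw [map_commutatorElement, commutatorElement_eq_one_iff_commute]
    have hle : L.map π ≤ Subgroup.centralizer ({π a} : Set (M ⧸ U)) := by
      refine hLX.trans (sup_le (fun z hz => ?_) fun z hz => ?_)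
      · exact Subgroup.mem_centralizer_singleton_iff.mpr (Subgroup.mem_centralizer_iff.mp haC z hz)
      · exact Subgroup.mem_centralizer_singleton_iff.mpr (hcm z hz _ (Subgroup.mem_map_of_mem π haA))
    exact (Subgroup.mem_centralizer_singleton_iff.mp (hle (Subgroup.mem_map_of_mem π hc))).symm

end Cfsg.Agent.S3754
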