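import Cfsg.Statements.S3756
import Cfsg.Agent.H9.SFreeGroup
import Cfsg.Agent.H65.StronglyEmbedded
import Cfsg.Agent.H77.JUnique
import Cfsg.Agent.H10.Thompson
-- import your own Cfsg.Agent.* helpers here

set_option autoImplicit false
open Cfsg

namespace Cfsg.Agent.S3756

/-- Let G be a finite group of even order with O₂(G) = 1 such that every 2-local subgroup of G is solvable, of characteristic 2, and has no section isomorphic to the symmetric group of degree 4. Then every maximal 2-local subgroup of G is strongly embedded in G. -/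
theorem result {G : Type*} [Group G] [Finite G] (heven : Even (Nat.card G)) (hO : Cfsg.pCore 2 G = ⊥) (hloc : ∀ M : Subgroup G, Cfsg.IsTwoLocal M → Group.IsSolvable M ∧ Cfsg.IsOfCharacteristicTwo ↥M ∧ ¬ Cfsg.Involves (Equiv.Perm (Fin 4)) ↥M) (M : Subgroup G) (hM : Cfsg.IsMaximalTwoLocal M) : Cfsg.IsStronglyEmbedded M := by
  classical
  haveI : Fact (Nat.Prime 2) := ⟨Nat.prime_two⟩
  obtain ⟨P0, hP0, hP01, hMP0⟩ := hM.1
  obtain ⟨S, hP0S⟩ := hP0.exists_le_sylow
  have hS1 : (S : Subgroup G) ≠ ⊥ := fun h => hP01 (le_bot_iff.mp (h ▸ hP0S))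
  obtain ⟨K, hK, hKse⟩ := Cfsg.Agent.H9.SFree.exists_stronglyEmbedded hO hloc S hS1
  have hle : M ≤ K := by
    rw [hMP0]
    exact hKse.2 P0 hP0S hP01
  rw [← hM.2 K hK.1 hle]
  exact hKse.1

end Cfsg.Agent.S3756
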