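import Cfsg.Statements.S3760


set_option autoImplicit false
open Cfsg

namespace Cfsg.Agent.S3760

/-- Let the group G act transitively on a set X, let x ∈ X with stabilizer H = G_x, and let K ≤ H. Then N_G(K) acts transitively on the set of fixed points of K if and only if every G-conjugate of K contained in H is already an H-conjugate of K. -/
theorem result {G : Type*} [Group G] {X : Type*} [MulAction G X] (htrans : ∀ a b : X, ∃ g : G, g • a = b) (x : X) (K : Subgroup G) (hK : K ≤ MulAction.stabilizer G x) : (∀ a b : X, (∀ k ∈ K, k • a = a) → (∀ k ∈ K, k • b = b) → ∃ g ∈ Subgroup.normalizer (K : Set G), g • a = b) ↔ ∀ g : G, K.map (MulAut.conj g).toMonoidHom ≤ MulAction.stabilizer G x → ∃ h ∈ MulAction.stabilizer G x, K.map (MulAut.conj g).toMonoidHom = K.map (MulAut.conj h).toMonoidHom := by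
  constructor
  · intro h g hg
    obtain ⟨n, hn, hnx⟩ := h x (g⁻¹ • x) (fun k hk => hK hk) (fun k hk => by
      have h1 : g * k * g⁻¹ ∈ MulAction.stabilizer G x := hg ⟨k, hk, rfl⟩
      have h2 : (g * k * g⁻¹) • x = x := h1
      rw [mul_smul, mul_smul] at h2
      exact eq_inv_smul_iff.2 h2)
    refine ⟨g * n, ?_, ?_⟩
    · show (g * n) • x = x
      rw [mul_smul, hnx, smul_inv_smul]
    · ext y
      simp only [Subgroup.mem_map, MulEquiv.coe_toMonoidHom, MulAut.conj_apply]
      constructor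
      · rintro ⟨k, hk, rfl⟩
        refine ⟨n⁻¹ * k * n, ?_, by group⟩
        have := (Subgroup.mem_normalizer_iff.1 (inv_mem hn) k).1 hk
        simpa using this
      · rintro ⟨k, hk, rfl⟩
        exact ⟨n * k * n⁻¹, (Subgroup.mem_normalizer_iff.1 hn k).1 hk, by group⟩
  · intro h
    have key : ∀ a : X, (∀ k ∈ K, k • a = a) → ∃ n ∈ Subgroup.normalizer (K : Set G), n • x = a := by
      intro a ha
      obtain ⟨g, rfl⟩ := htrans x a
      obtain ⟨u, hu, hKu⟩ := h g⁻¹ (by
        rintro _ ⟨k, hk, rfl⟩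
        show (g⁻¹ * k * g⁻¹⁻¹) • x = x
        rw [inv_inv, mul_smul, mul_smul, ha k hk, inv_smul_smul])
      have hux : u • x = x := hu
      refine ⟨g * u, Subgroup.mem_normalizer_iff.2 fun k => ⟨fun hk => ?_, fun hk => ?_⟩, by
        rw [mul_smul, hux]⟩
      · have : u * k * u⁻¹ ∈ K.map (MulAut.conj g⁻¹).toMonoidHom := hKu ▸ ⟨k, hk, rfl⟩
        obtain ⟨j, hj, hj'⟩ := this
        have e : g * u * k * (g * u)⁻¹ = j := by
          have : g⁻¹ * j * g⁻¹⁻¹ = u * k * u⁻¹ := hj'
          calc g * u * k * (g * u)⁻¹ = g * (u * k * u⁻¹) * g⁻¹ := by group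
            _ = j := by rw [← this]; group
        rw [e]; exact hj
      · have : g⁻¹ * (g * u * k * (g * u)⁻¹) * g⁻¹⁻¹ ∈ K.map (MulAut.conj u).toMonoidHom :=
          hKu ▸ ⟨_, hk, rfl⟩
        obtain ⟨j, hj, hj'⟩ := this
        have hj'' : u * j * u⁻¹ = g⁻¹ * (g * u * k * (g * u)⁻¹) * g⁻¹⁻¹ := hj'
        have e : k = j := by
          calc k = u⁻¹ * (g⁻¹ * (g * u * k * (g * u)⁻¹) * g⁻¹⁻¹) * u := by group
            _ = j := by rw [← hj'']; group
        rw [e]; exact hj
    intro a b ha hb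
    obtain ⟨n, hn, rfl⟩ := key a ha
    obtain ⟨m, hm, rfl⟩ := key b hb
    exact ⟨m * n⁻¹, mul_mem hm (inv_mem hn), by rw [mul_smul, inv_smul_smul]⟩

end Cfsg.Agent.S3760
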