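import Cfsg.Statements.S3761
import Cfsg.Agent.H30.SelfCentralizing

set_option autoImplicit false
open Cfsg

namespace Cfsg.Agent.S3761

/-- Let G be a finite non-abelian p-group with a cyclic normal subgroup U of order p^n such that C_G(U) = U. Then either p = 2 and G is dihedral, generalized quaternion or semidihedral of order 2^(n+1); or, writing U₁ for the subgroup generated by the p-th powers of elements of U and M = C_G(U₁), the subgroup U has index p in M and the subgroup Ω₁(M) generated by the elements of M of order dividing p is elementary abelian of order p² and characteristic in G. -/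
theorem result {G : Type*} [Group G] [Finite G] {p : ℕ} [Fact p.Prime] (hG : IsPGroup p G) (hna : ¬ IsMulCommutative G) (U : Subgroup G) [U.Normal] (hU : IsCyclic U) (n : ℕ) (hUn : Nat.card U = p ^ n) (hC : Subgroup.centralizer (U : Set G) = U) : (p = 2 ∧ Nat.card G = 2 ^ (n + 1) ∧ ((∃ m : ℕ, Nonempty (G ≃* DihedralGroup m)) ∨ (∃ m : ℕ, Nonempty (G ≃* QuaternionGroup m)) ∨ Cfsg.IsQuasiDihedral G)) ∨ (U.relIndex (Subgroup.centralizer (Cfsg.powerClosure p 1 U : Set G)) = p ∧ Cfsg.IsElementaryAbelian p (Cfsg.omegaOne p (Subgroup.centralizer (Cfsg.powerClosure p 1 U : Set G))) ∧ Nat.card ↥(Cfsg.omegaOne p (Subgroup.centralizer (Cfsg.powerClosure p 1 U : Set G))) = p ^ 2 ∧ (Cfsg.omegaOne p (Subgroup.centralizer (Cfsg.powerClosure p 1 U : Set G))).Characteristic) := by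
  obtain ⟨u, rfl⟩ := U.isCyclic_iff_exists_zpowers_eq_top.1 hU
  obtain ⟨m, hm, hm1, ⟨hp2, hidx, hinv⟩ | ⟨h2, x, hx⟩⟩ :=
    H30.cyclic_selfCentralizing_cases hG hna inferInstance hC
  · left
    subst hp2
    refine ⟨rfl, ?_, hinv.classify⟩
    rw [← (Subgroup.zpowers u).card_mul_index, hidx, hUn, pow_succ]
  · right
    obtain ⟨hrel, E, hEeq, hEp, hEc, hEcard, hEn, huniq⟩ :=
      H30.good_structure inferInstance hC hm hm1 h2 hx
    have hpc : Cfsg.powerClosure p 1 (Subgroup.zpowers u) = Subgroup.zpowers (u ^ p) := by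
      refine le_antisymm ((Subgroup.closure_le _).2 ?_) (Subgroup.zpowers_le.2
        (Subgroup.subset_closure ⟨u, Subgroup.mem_zpowers u, by rw [pow_one]⟩))
      rintro y ⟨w, ⟨i, rfl⟩, rfl⟩
      refine ⟨i, ?_⟩
      show (u ^ p) ^ i = (u ^ i) ^ (p ^ 1)
      rw [pow_one, ← zpow_natCast u p, ← zpow_mul, mul_comm, zpow_mul, zpow_natCast]
    have hom : Cfsg.omegaOne p (Subgroup.centralizer (Subgroup.zpowers (u ^ p) : Set G)) = E := hEeq.symm
    rw [hpc, hom]
    refine ⟨hrel, ⟨hEc, fun a ha => (hEp a ha).2⟩, hEcard, ?_⟩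
    rw [Subgroup.characteristic_iff_map_eq]
    intro φ
    refine huniq _ (hEn.map _ φ.surjective) hG ?_ ?_
    · rintro _ ⟨a, ha, rfl⟩
      rw [← map_pow, (hEp a ha).2, map_one]
    · rw [Subgroup.card_map_of_injective φ.injective, hEcard]

end Cfsg.Agent.S3761
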