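import Cfsg.Statements.S3765
import Cfsg.Agent.H36.MinimalActing

set_option autoImplicit false
open Cfsg

namespace Cfsg.Agent.S3765

/-- Let p, q, r be distinct primes and let X, Q, V be subgroups of a finite group with X of order r normalizing the q-group Q and acting faithfully on it (X ∩ C(Q) = 1), and V a nontrivial elementary abelian p-group normalized by X and Q on which XQ acts faithfully. If q = 2 and r has the form 2^n + 1, assume in addition that Q is abelian. Then C_V(X) ≠ 1. -/
theorem result {G : Type*} [Group G] [Finite G] {p q r : ℕ} (hp : p.Prime) (hq : q.Prime) (hr : r.Prime) (hpq : p ≠ q) (hpr : p ≠ r) (hqr : q ≠ r) (X Q V : Subgroup G) (hX : Nat.card X = r) (hQ : IsPGroup q Q) (hXQ : X ≤ Subgroup.normalizer (Q : Set G)) (hXfaith : X ⊓ Subgroup.centralizer (Q : Set G) = ⊥) (hV : Cfsg.IsElementaryAbelian p V) (hV1 : V ≠ ⊥) (hXV : X ≤ Subgroup.normalizer (V : Set G)) (hQV : Q ≤ Subgroup.normalizer (V : Set G)) (hfaith : (X ⊔ Q) ⊓ Subgroup.centralizer (V : Set G) = ⊥) (hexc : q =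 2 → (∃ n : ℕ, r = 2 ^ n + 1) → IsMulCommutative Q) : V ⊓ Subgroup.centralizer (X : Set G) ≠ ⊥ := by
  classical
  by_contra hCV
  haveI : Fact r.Prime := ⟨hr⟩
  obtain ⟨x, hx⟩ := (isCyclic_of_prime_card hX).exists_generator
  have hxr : (x : G) ^ r = 1 :=
    (Subgroup.coe_pow X x r).symm.trans (congrArg Subtype.val (hX ▸ pow_card_eq_one'))
  have hXzp : ∀ w ∈ X, ∃ k : ℤ, (x : G) ^ k = w := by
    intro w hw
    obtain ⟨k, hk⟩ := Subgroup.mem_zpowers_iff.mp (hx ⟨w, hw⟩)
    exact ⟨k, (Subgroup.coe_zpow X x k).symm.trans (congrArg Subtype.val hk)⟩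
  have hcX : ∀ w : G, (x : G) * w = w * x → w ∈ Subgroup.centralizer (X : Set G) := by
    intro w hw
    rw [Subgroup.mem_centralizer_iff]
    intro a ha
    obtain ⟨k, rfl⟩ := hXzp a ha
    exact (show Commute (x : G) w from hw).zpow_left k
  -- a minimal subgroup on which `X` acts nontrivially
  haveI : Finite (Subgroup G) := Finite.of_injective _ SetLike.coe_injective
  haveI : Fintype (Subgroup G) := Fintype.ofFinite _
  have hQmem : Q ∈ Finset.univ.filter fun S : Subgroup G => S ≤ Q ∧
      (∀ a ∈ S, (x : G) * a * (x : G)⁻¹ ∈ S) ∧ ¬ ∀ a ∈ S, (x : G) * a = a * x := by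
    refine Finset.mem_filter.mpr ⟨Finset.mem_univ _, le_rfl,
      fun a ha => (Subgroup.mem_normalizer_iff.mp (hXQ x.2) a).mp ha, fun hall => ?_⟩
    have hle : X ≤ Subgroup.centralizer (Q : Set G) := fun w hw =>
      Subgroup.mem_centralizer_iff.mpr fun a ha =>
        (Subgroup.mem_centralizer_iff.mp (hcX a (hall a ha)) w hw).symm
    rw [inf_eq_left.mpr hle] at hXfaith
    rw [hXfaith, Subgroup.card_bot] at hX
    exact hr.one_lt.ne hX
  obtain ⟨S, hS, hSmin⟩ := Finset.exists_min_image _ (fun S : Subgroup G => Nat.card S) ⟨Q, hQmem⟩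
  obtain ⟨-, hSQ, hSx, hSne⟩ := Finset.mem_filter.mp hS
  let θ : ↥S ≃* ↥S := MulEquiv.ofBijective
    ({ toFun := fun a : ↥S => (⟨(x : G) * a * (x : G)⁻¹, hSx a a.2⟩ : ↥S)
       map_one' := Subtype.ext (by simp)
       map_mul' := fun a b => Subtype.ext (by simp [mul_assoc]) } : ↥S →* ↥S)
    (Finite.injective_iff_bijective.mp fun a b hab => Subtype.ext
      (mul_left_cancel (mul_right_cancel (congrArg Subtype.val hab))))
  have hθ : ∀ a : ↥S, ((θ a : ↥S) : G) = (x : G) * a * (x : G)⁻¹ := fun a => rfl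
  have hmin : H36.MinAct.IsMin θ q r :=
    { hQ := hQ.to_le hSQ
      hq := hq
      hr := hr
      hqr := hqr
      hθr := fun a => by
        have h : ∀ k : ℕ, (((θ : ↥S → ↥S)^[k] a : ↥S) : G) = (x : G) ^ k * a * ((x : G) ^ k)⁻¹ := by
          intro k
          induction k with
          | zero => simp
          | succ k ih =>
            rw [Function.iterate_succ_apply', hθ, ih, pow_succ']
            group
        apply Subtype.ext
        rw [h r, hxr]
        group
      hne := by
        by_contra hall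
        push Not at hall
        exact hSne fun a ha => by
          have h1 : (x : G) * a * (x : G)⁻¹ = a := congrArg Subtype.val (hall ⟨a, ha⟩)
          exact mul_inv_eq_iff_eq_mul.mp h1
      hmin := fun T hT hTθ a ha => by
        by_contra hne
        have hlt : Nat.card (T.map S.subtype) < Nat.card S := by
          rw [Subgroup.card_map_of_injective S.subtype_injective]
          exact lt_of_le_of_ne T.card_le_card_group (fun he => hT (Subgroup.eq_top_of_card_eq T he))
        have hle := hSmin (T.map S.subtype) (Finset.mem_filter.mpr ⟨Finset.mem_univ _,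
          (Subgroup.map_subtype_le T).trans hSQ,
          fun b hb => by
            obtain ⟨c, hc, rfl⟩ := hb
            exact ⟨θ c, hTθ c hc, rfl⟩,
          fun hall => hne (Subtype.ext (by
            rw [hθ, mul_inv_eq_iff_eq_mul]
            exact hall _ ⟨a, ha, rfl⟩))⟩)
        omega }
  haveI : IsMulCommutative V := hV.1
  letI : CommGroup ↥V :=
    { (inferInstance : Group ↥V) with mul_comm := fun a b => IsMulCommutative.is_comm.comm a b }
  let cj : ↥(Subgroup.normalizer (V : Set G)) → AddMonoid.End (Additive ↥V) := fun g =>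
    { toFun := fun v => Additive.ofMul (⟨(g : G) * (v.toMul : ↥V) * (g : G)⁻¹,
        (Subgroup.mem_normalizer_iff.mp g.2 _).mp (v.toMul).2⟩ : ↥V)
      map_zero' := congrArg Additive.ofMul (Subtype.ext (by simp))
      map_add' := fun v w => congrArg Additive.ofMul (Subtype.ext (by simp [mul_assoc])) }
  let cjH : ↥(Subgroup.normalizer (V : Set G)) →* AddMonoid.End (Additive ↥V) :=
    { toFun := cj
      map_one' := AddMonoidHom.ext fun v => congrArg Additive.ofMul (Subtype.ext
        (show (1 : G) * ((v.toMul : ↥V) : G) * (1 : G)⁻¹ = ((v.toMul : ↥V) : G) by simp))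
      map_mul' := fun a b => AddMonoidHom.ext fun v => congrArg Additive.ofMul (Subtype.ext
        (show ((a : G) * b) * ((v.toMul : ↥V) : G) * ((a : G) * b)⁻¹ =
          (a : G) * ((b : G) * ((v.toMul : ↥V) : G) * (b : G)⁻¹) * (a : G)⁻¹ by group)) }
  have hSV : S ≤ Subgroup.normalizer (V : Set G) := hSQ.trans hQV
  let xN : ↥(Subgroup.normalizer (V : Set G)) := ⟨x, hXV x.2⟩
  obtain ⟨hq2, hn, hcomm⟩ := hmin.fermat (A := Additive ↥V) hp hpq hpr
    (fun v => congrArg Additive.ofMul
      (Subtype.ext ((Subgroup.coe_pow V v.toMul p).trans (hV.2 _ (v.toMul).2))))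
    (cjH.comp (Subgroup.inclusion hSV))
    (fun a b hab => by
      have hmem : ((a⁻¹ * b : ↥S) : G) ∈ (X ⊔ Q) ⊓ Subgroup.centralizer (V : Set G) := by
        refine ⟨Subgroup.mem_sup_right (hSQ (a⁻¹ * b).2), Subgroup.mem_centralizer_iff.mpr ?_⟩
        intro v hv
        have h1 := congrArg (fun w : Additive ↥V => ((w.toMul : ↥V) : G))
          (DFunLike.congr_fun hab (Additive.ofMul (⟨v, hv⟩ : ↥V)))
        change (a : G) * v * (a : G)⁻¹ = (b : G) * v * (b : G)⁻¹ at h1
        show v * ((a : G)⁻¹ * b) = (a : G)⁻¹ * b * v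
        calc v * ((a : G)⁻¹ * b) = (a : G)⁻¹ * ((a : G) * v * (a : G)⁻¹) * b := by group
          _ = (a : G)⁻¹ * b * v := by rw [h1]; group
      rw [hfaith, Subgroup.mem_bot] at hmem
      exact inv_mul_eq_one.mp (Subtype.ext hmem))
    (cjH xN)
    (by
      rw [← map_pow, show xN ^ r = 1 from Subtype.ext ((Subgroup.coe_pow _ xN r).trans hxr), map_one])
    (fun v hv => by
      have h1 : (x : G) * (v.toMul : ↥V) * (x : G)⁻¹ = (v.toMul : ↥V) :=
        congrArg (fun w : Additive ↥V => ((w.toMul : ↥V) : G)) hv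
      have h2 : ((v.toMul : ↥V) : G) ∈ V ⊓ Subgroup.centralizer (X : Set G) :=
        ⟨(v.toMul).2, hcX _ (mul_inv_eq_iff_eq_mul.mp h1)⟩
      rw [hCV, Subgroup.mem_bot] at h2
      exact congrArg Additive.ofMul (Subtype.ext h2))
    (fun a => by
      show cjH xN * cjH (Subgroup.inclusion hSV a) = cjH (Subgroup.inclusion hSV (θ a)) * cjH xN
      rw [← map_mul, ← map_mul]
      congr 1
      apply Subtype.ext
      show (x : G) * a = (x : G) * a * (x : G)⁻¹ * x
      group)
  apply hcomm
  have hab := hexc hq2 hn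
  rw [_root_.commutator_def, Subgroup.commutator_eq_bot_iff_le_centralizer]
  intro a _
  rw [Subgroup.mem_centralizer_iff]
  intro b _
  apply Subtype.ext
  show (b : G) * a = (a : G) * b
  exact congrArg (fun z : ↥Q => (z : G))
    (IsMulCommutative.is_comm.comm (⟨b, hSQ b.2⟩ : ↥Q) ⟨a, hSQ a.2⟩)

end Cfsg.Agent.S3765
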