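import Cfsg.Statements.S3766
import Cfsg.Agent.H73.Chief
import Cfsg.Agent.H1.Hall
import Cfsg.Agent.H10.Basic

set_option autoImplicit false
open Cfsg

namespace Cfsg.Agent.S3766

open scoped commutatorElement

variable {G : Type*} [Group G] [Finite G]

theorem map_fitting_normal (N : Subgroup G) [N.Normal] :
    ((Cfsg.fittingSubgroup N).map N.subtype).Normal := by
  rw [H1.fittingSubgroup_subgroup_map_eq]
  haveI := H1.fittingSubgroup_normal G
  infer_instance

/-- The Fitting subgroup centralises every chief factor of a solvable group. -/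
theorem fitting_le_factorCentralizer (hG : Group.IsSolvable G) {U V : Subgroup G}
    (hUV : Cfsg.IsChiefFactor U V) :
    ∀ u ∈ U, ∀ g ∈ Cfsg.fittingSubgroup G, ⁅u, g⁆ ∈ V := by
  obtain ⟨hlt, hUn, hVn, hmin⟩ := hUV
  haveI := H1.fittingSubgroup_normal G
  set F := Cfsg.fittingSubgroup G
  haveI : (⁅U, F⁆ ⊔ V).Normal := Subgroup.sup_normal _ _
  rcases hmin _ inferInstance le_sup_right
    (sup_le (Subgroup.commutator_le_left U F) hlt.le) with e | e
  · exact fun u hu g hg => e ▸ Subgroup.mem_sup_left (Subgroup.commutator_mem_commutator hu hg)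
  exfalso
  have step : ∀ A : Subgroup G, A.Normal → U ≤ A ⊔ V → U ≤ ⁅A, F⁆ ⊔ V := by
    intro A hA hUA
    rw [← e]
    refine sup_le ?_ le_sup_right
    rw [Subgroup.commutator_le]
    intro u hu g hg
    haveI : (⁅A, F⁆ ⊔ V).Normal := Subgroup.sup_normal _ _
    have hle : A ⊔ V ≤ H73.commutatorInto (⁅A, F⁆ ⊔ V) g :=
      sup_le (fun a ha => H73.mem_commutatorInto.mpr
          (Subgroup.mem_sup_left (Subgroup.commutator_mem_commutator ha hg)))
        (fun v hv => H73.mem_commutatorInto.mpr (Subgroup.mem_sup_right (by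
          rw [show ⁅v, g⁆ = v * (g * v⁻¹ * g⁻¹) by rw [commutatorElement_def]; group]
          exact mul_mem hv (hVn.conj_mem _ (inv_mem hv) g))))
    exact hle (hUA hu)
  let D : ℕ → Subgroup G := fun n => ((⊤ : Subgroup F).lowerCentralSeries n).map F.subtype
  have hD0 : D 0 = F := by
    simp only [D, Subgroup.lowerCentralSeries_zero, ← MonoidHom.range_eq_map, Subgroup.range_subtype]
  have hDn : ∀ n, (D n).Normal := fun n => ConjAct.normal_of_characteristic_of_normal
  have hDs : ∀ n, D (n + 1) = ⁅D n, F⁆ := fun n => by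
    simp only [D, Subgroup.lowerCentralSeries_succ, Subgroup.map_commutator]
    rw [← MonoidHom.range_eq_map, Subgroup.range_subtype]
  have hall : ∀ n, U ≤ D n ⊔ V := by
    intro n
    induction n with
    | zero => rw [hD0]; exact e.ge.trans (sup_le_sup_right (Subgroup.commutator_le_right U F) V)
    | succ n ih => rw [hDs]; exact step _ (hDn n) ih
  haveI := H1.isNilpotent_fittingSubgroup G
  obtain ⟨n, hn⟩ := (Subgroup.nilpotent_iff_lowerCentralSeries (G := F)).mp inferInstance
  have h := hall n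
  rw [show D n = ⊥ by simp only [D, hn, Subgroup.map_bot], bot_sup_eq] at h
  exact hlt.not_ge h

/-- Elements of `N` centralising all chief factors below `F(N)` lie in `F(N)`. -/
theorem kernel_le_fitting (hG : Group.IsSolvable G) (N : Subgroup G) [N.Normal] :
    N ⊓ H73.chiefKernel ((Cfsg.fittingSubgroup N).map N.subtype) ≤
      (Cfsg.fittingSubgroup N).map N.subtype := by
  classical
  set X := (Cfsg.fittingSubgroup N).map N.subtype with hX
  haveI hXn : X.Normal := map_fitting_normal N
  haveI := H73.chiefKernel_normal (G := G) X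
  set C := N ⊓ H73.chiefKernel X with hC
  have hXC : X ≤ C := by
    refine le_inf (Subgroup.map_subtype_le _) ?_
    intro g hg U V hUV _ u hu
    exact fitting_le_factorCentralizer hG hUV u hu g (by
      rw [hX, H1.fittingSubgroup_subgroup_map_eq] at hg; exact hg.1)
  by_contra hnot
  obtain ⟨U, hU, hUC⟩ := H73.exists_chief_below (V := X) (X := C)
    (lt_of_le_of_ne hXC (fun h => hnot h.ge))
  obtain ⟨hXU, hUn, -, hmin⟩ := hU
  -- the image of `U` is a `q`-group
  set π := QuotientGroup.mk' X with hπ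
  set Ub := U.map π with hUb
  haveI : Ub.Normal := hUn.map π (QuotientGroup.mk'_surjective X)
  have hUbne : Ub ≠ ⊥ := by
    rw [hUb, Ne, Subgroup.map_eq_bot_iff, hπ, QuotientGroup.ker_mk']
    exact hXU.not_ge
  haveI : Nontrivial Ub := (Subgroup.nontrivial_iff_ne_bot Ub).mpr hUbne
  haveI : Group.IsSolvable G := hG
  haveI : Group.IsSolvable (G ⧸ X) :=
    Group.isSolvable_of_surjective (G := G) (QuotientGroup.mk'_surjective X)
  obtain ⟨q, W, hq, hWn, hW, hWq⟩ := H1.exists_normal_pgroup_ne_bot ↥Ub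
  haveI := Fact.mk hq
  have hWle : W ≤ Cfsg.pCore q Ub := H10.le_pCore hWn hWq
  haveI : (Cfsg.pCore q Ub).Characteristic := H10.pCore_characteristic
  haveI hOn : ((Cfsg.pCore q Ub).map Ub.subtype).Normal := ConjAct.normal_of_characteristic_of_normal
  have hUbq : IsPGroup q Ub := by
    have hO : (Cfsg.pCore q Ub).map Ub.subtype = Ub := by
      set O := ((Cfsg.pCore q Ub).map Ub.subtype).comap π
      rcases hmin O (hOn.comap π) (fun x hx => by
          rw [Subgroup.mem_comap, show π x = 1 from (QuotientGroup.eq_one_iff x).mpr hx]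
          exact one_mem _) (fun x hx => by
          have h1 : π x ∈ Ub := Subgroup.map_subtype_le _ hx
          obtain ⟨u, hu, hux⟩ := h1
          have h2 : u⁻¹ * x ∈ X := QuotientGroup.eq.mp hux
          rw [show x = u * (u⁻¹ * x) by group]
          exact mul_mem hu (hXU.le h2)) with h | h
      · exfalso
        apply hW
        have h0 : (Cfsg.pCore q Ub).map Ub.subtype = ⊥ := by
          rw [← Subgroup.map_comap_eq_self_of_surjective (QuotientGroup.mk'_surjective X)
            ((Cfsg.pCore q Ub).map Ub.subtype), show ((Cfsg.pCore q Ub).map Ub.subtype).comap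
              (QuotientGroup.mk' X) = X from h, QuotientGroup.map_mk'_self]
        rw [Subgroup.map_eq_bot_iff_of_injective _ Ub.subtype_injective] at h0
        exact le_bot_iff.mp (h0 ▸ hWle)
      · have hmc := Subgroup.map_comap_eq_self_of_surjective (QuotientGroup.mk'_surjective X)
          ((Cfsg.pCore q Ub).map Ub.subtype)
        rw [show ((Cfsg.pCore q Ub).map Ub.subtype).comap (QuotientGroup.mk' X) = U from h] at hmc
        exact hmc.symm
    exact hO ▸ H10.pCore_isPGroup.map _
  obtain ⟨S⟩ := (inferInstance : Nonempty (Sylow q U))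
  set Q := (S : Subgroup U).map U.subtype with hQ
  have hQU : Q ≤ U := Subgroup.map_subtype_le _
  have hcov : U ≤ X ⊔ Q := by
    intro x hx
    have hsurj : Function.Surjective ((QuotientGroup.mk' X).subgroupMap U) :=
      MonoidHom.subgroupMap_surjective _ _
    have htop : (S : Subgroup U).map ((QuotientGroup.mk' X).subgroupMap U) = ⊤ :=
      ((Sylow.mapSurjective hsurj S).is_maximal' (hUbq.to_subgroup ⊤) le_top).symm
    have h1 : (QuotientGroup.mk' X).subgroupMap U ⟨x, hx⟩ ∈
        (S : Subgroup U).map ((QuotientGroup.mk' X).subgroupMap U) := htop ▸ Subgroup.mem_top _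
    obtain ⟨s, hs, hsx⟩ := h1
    have h2 : QuotientGroup.mk' X (s : G) = QuotientGroup.mk' X x := congrArg Subtype.val hsx
    have h3 : (s : G)⁻¹ * x ∈ X := QuotientGroup.eq.mp h2
    rw [show x = (s : G) * ((s : G)⁻¹ * x) by group]
    exact mul_mem (Subgroup.mem_sup_right ⟨s, hs, rfl⟩) (Subgroup.mem_sup_left h3)
  -- `X` normalises `Q`
  have hXQ : X ≤ Subgroup.normalizer (Q : Set G) := by
    rw [hX, H1.fittingSubgroup_eq_iSup_pCore, Subgroup.map_iSup]
    refine iSup_le fun r => ?_
    haveI := Fact.mk r.2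
    set O := (Cfsg.pCore (r : ℕ) ↥N).map N.subtype with hO
    haveI : (Cfsg.pCore (r : ℕ) ↥N).Characteristic := H10.pCore_characteristic
    haveI : O.Normal := ConjAct.normal_of_characteristic_of_normal
    have hOX : O ≤ X := Subgroup.map_mono (H1.pCore_le_fitting _)
    by_cases hrq : (r : ℕ) = q
    · have hOU : O ≤ U := hOX.trans hXU.le
      have hle : O.subgroupOf U ≤ (S : Subgroup U) := by
        haveI : (O.subgroupOf U).Normal := inferInstance
        refine IsPGroup.le_sylow_of_normal ?_ S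
        exact ((hrq ▸ H10.pCore_isPGroup : IsPGroup q (Cfsg.pCore (r : ℕ) ↥N)).map N.subtype).of_equiv
          (Subgroup.subgroupOfEquivOfLe hOU).symm
      exact fun z hz => Q.le_normalizer ⟨⟨z, hOU hz⟩, hle hz, rfl⟩
    · have hOr : IsPGroup (r : ℕ) O := H10.pCore_isPGroup.map _
      have hcomm : ∀ x ∈ Q, ∀ z ∈ O, Commute x z := by
        intro x hx z hz
        refine H73.commute_of_chiefKernel hOr ?_ ?_ z hz
        · obtain ⟨k, hk⟩ := S.isPGroup'.map U.subtype ⟨x, hx⟩
          exact (((Nat.coprime_primes hq r.2).mpr (Ne.symm hrq)).pow_left k).coprime_dvd_left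
            (orderOf_dvd_of_pow_eq_one (congrArg Subtype.val hk))
        · exact fun A B hAB hA => (hUC (hQU hx)).2 A B hAB (hA.trans hOX)
      exact fun z hz => Subgroup.centralizer_le_normalizer _
        (Subgroup.mem_centralizer_iff.mpr fun x hx => hcomm x hx z hz)
  have hUQ : U ≤ Subgroup.normalizer (Q : Set G) := hcov.trans (sup_le hXQ Q.le_normalizer)
  haveI hSn : (S : Subgroup U).Normal := by
    have : Q.subgroupOf U = (S : Subgroup U) := Subgroup.comap_map_eq_self_of_injective U.subtype_injective _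
    rw [← this]
    exact (Subgroup.normal_subgroupOf_iff_le_normalizer hQU).mpr hUQ
  haveI := S.characteristic_of_normal hSn
  haveI hQn : Q.Normal := ConjAct.normal_of_characteristic_of_normal
  have hQN : Q ≤ N := hQU.trans (hUC.trans inf_le_left)
  have hQX : Q ≤ X := by
    have h1 : Q.subgroupOf N ≤ Cfsg.fittingSubgroup N := by
      haveI : (Q.subgroupOf N).Normal := inferInstance
      exact H1.le_fittingSubgroup
        (((S.isPGroup'.map U.subtype).of_equiv (Subgroup.subgroupOfEquivOfLe hQN).symm).isNilpotent)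
    exact fun z hz => ⟨⟨z, hQN hz⟩, h1 hz, rfl⟩
  exact hXU.not_ge (hcov.trans (sup_le le_rfl hQX))

/-- Let G be a finite solvable group and N a normal subgroup of G. Call a pair V < U of normal subgroups of G a chief factor of G when no normal subgroup of G lies strictly between them; an element g centralizes the chief factor U/V when u g u⁻¹ g⁻¹ ∈ V for all u ∈ U. Then an element of G lies in the Fitting subgroup F(N) if and only if it lies in N and centralizes every chief factor of G; and also if and only if it lies in N and centralizes every chief factor U/V of G with U ≤ F(N). -/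
theorem result {G : Type*} [Group G] [Finite G] (hG : Group.IsSolvable G) (N : Subgroup G) [N.Normal] (g : G) : (g ∈ (Cfsg.fittingSubgroup ↥N).map N.subtype ↔ g ∈ N ∧ ∀ U V : Subgroup G, (U.Normal ∧ V.Normal ∧ V < U ∧ ∀ W : Subgroup G, W.Normal → V ≤ W → W ≤ U → W = V ∨ W = U) → ∀ u ∈ U, u * g * u⁻¹ * g⁻¹ ∈ V) ∧ (g ∈ (Cfsg.fittingSubgroup ↥N).map N.subtype ↔ g ∈ N ∧ ∀ U V : Subgroup G, (U.Normal ∧ V.Normal ∧ V < U ∧ ∀ W : Subgroup G, W.Normal → V ≤ W → W ≤ U → W = V ∨ W = U) → U ≤ (Cfsg.fittingSubgroup ↥N).map N.subtype → ∀ u ∈ U, u * g * u⁻¹ * g⁻¹ ∈ V) := by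
  haveI := map_fitting_normal N
  have hfwd : g ∈ (Cfsg.fittingSubgroup ↥N).map N.subtype → g ∈ N ∧ ∀ U V : Subgroup G,
      (U.Normal ∧ V.Normal ∧ V < U ∧ ∀ W : Subgroup G, W.Normal → V ≤ W → W ≤ U → W = V ∨ W = U) →
        ∀ u ∈ U, u * g * u⁻¹ * g⁻¹ ∈ V := by
    intro hg
    refine ⟨Subgroup.map_subtype_le _ hg, fun U V ⟨hU, hV, hlt, hmin⟩ u hu => ?_⟩
    rw [H1.fittingSubgroup_subgroup_map_eq] at hg
    exact fitting_le_factorCentralizer hG ⟨hlt, hU, hV, hmin⟩ u hu g hg.1
  have hbwd : (g ∈ N ∧ ∀ U V : Subgroup G,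
      (U.Normal ∧ V.Normal ∧ V < U ∧ ∀ W : Subgroup G, W.Normal → V ≤ W → W ≤ U → W = V ∨ W = U) →
        U ≤ (Cfsg.fittingSubgroup ↥N).map N.subtype → ∀ u ∈ U, u * g * u⁻¹ * g⁻¹ ∈ V) →
      g ∈ (Cfsg.fittingSubgroup ↥N).map N.subtype := by
    rintro ⟨hgN, h⟩
    exact kernel_le_fitting hG N
      ⟨hgN, fun U V ⟨hlt, hU, hV, hmin⟩ hUX u hu => h U V ⟨hU, hV, hlt, hmin⟩ hUX u hu⟩
  exact ⟨⟨hfwd, fun h => hbwd ⟨h.1, fun U V hUV _ => h.2 U V hUV⟩⟩,
    ⟨fun h => ⟨(hfwd h).1, fun U V hUV _ => (hfwd h).2 U V hUV⟩, hbwd⟩⟩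

end Cfsg.Agent.S3766
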