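import Cfsg.Statements.S3767
import Cfsg.Agent.H29.SemiregularSymplectic
import Cfsg.Agent.H6.Basic

set_option autoImplicit false
open Cfsg

namespace Cfsg.Agent.S3767

open scoped commutatorElement in
/-- The core: a semiregular automorphism of an extraspecial group modulo the centre. -/
theorem core {Q : Type*} [Group Q] [Finite Q] {p : ℕ} [Fact p.Prime] (hQ : Cfsg.IsExtraspecial p Q)
    (n : ℕ) (hn : Nat.card Q = p ^ (2 * n + 1)) (θ : MulAut Q) {h : ℕ} (h0 : 0 < h)
    (hcop : h.Coprime p) (hθ : θ ^ h = 1)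
    (hfix : ∀ k : ℕ, ¬ h ∣ k → ∀ a, (θ ^ k) a = a → a ∈ Subgroup.center Q)
    (hcen : ∀ z ∈ Subgroup.center Q, θ z = z) : h ∣ p ^ n + 1 ∨ h ∣ p ^ n - 1 := by
  classical
  have hp : p.Prime := Fact.out
  obtain ⟨⟨hpg, hfr, hder⟩, hZ⟩ := hQ
  set Z := Subgroup.center Q with hZdef
  have hc : ∀ a b : Q, ⁅a, b⁆ ∈ Z := fun a b => by
    rw [← hder]; exact Subgroup.commutator_mem_commutator (Subgroup.mem_top a) (Subgroup.mem_top b)
  haveI hcomm : IsMulCommutative (Q ⧸ Z) :=
    Subgroup.Normal.quotient_commutative_iff_commutator_le.mpr hder.le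
  letI : CommGroup (Q ⧸ Z) :=
    { (inferInstance : Group (Q ⧸ Z)) with mul_comm := fun a b => mul_comm' a b }
  obtain ⟨hmod⟩ : Nonempty (Module (ZMod p) (Additive (Q ⧸ Z))) := ⟨AddCommGroup.zmodModule fun v => by
    apply Additive.toMul.injective
    obtain ⟨a, ha⟩ := QuotientGroup.mk_surjective (Additive.toMul v)
    show (Additive.toMul v) ^ p = 1
    rw [← ha, ← QuotientGroup.mk_pow, QuotientGroup.eq_one_iff, ← hfr]
    exact H6.pow_prime_mem_frattini hpg a⟩
  haveI : Finite (Additive (Q ⧸ Z)) := inferInstanceAs (Finite (Q ⧸ Z))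
  haveI : Module.Finite (ZMod p) (Additive (Q ⧸ Z)) := Module.Finite.of_finite
  have hθZ : Z.map θ.toMonoidHom = Z := by
    ext z
    constructor
    · rintro ⟨w, hw, rfl⟩
      show θ w ∈ Z
      rw [hcen w hw]; exact hw
    · intro hz; exact ⟨z, hz, hcen z hz⟩
  let ψ : MulAut (Q ⧸ Z) := QuotientGroup.congr Z Z θ hθZ
  have hψ : ∀ (k : ℕ) (a : Q), (ψ ^ k) (a : Q ⧸ Z) = (((θ ^ k) a : Q) : Q ⧸ Z) := by
    intro k
    induction k with
    | zero => intro a; rfl
    | succ k ih =>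
      intro a
      rw [pow_succ, pow_succ, MulAut.mul_apply, MulAut.mul_apply]
      exact ih (θ a)
  let X : Module.End (ZMod p) (Additive (Q ⧸ Z)) :=
    AddMonoidHom.toZModLinearMap p (MonoidHom.toAdditive ψ.toMonoidHom)
  have hX : ∀ (k : ℕ) (v : Additive (Q ⧸ Z)),
      Additive.toMul ((X ^ k) v) = (ψ ^ k) (Additive.toMul v) := by
    intro k
    induction k with
    | zero => intro v; rfl
    | succ k ih =>
      intro v
      rw [pow_succ, Module.End.mul_apply, ih, pow_succ, MulAut.mul_apply]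
      rfl
  have hXh : X ^ h = 1 := by
    refine LinearMap.ext fun v => Additive.toMul.injective ?_
    obtain ⟨a, ha⟩ := QuotientGroup.mk_surjective (Additive.toMul v)
    rw [hX, ← ha, hψ, hθ]
    exact ha
  have hfpf : ∀ k : ℕ, ¬ h ∣ k → ∀ v, (X ^ k) v = v → v = 0 := by
    intro k hk v hv
    apply Additive.toMul.injective
    obtain ⟨a, ha⟩ := QuotientGroup.mk_surjective (Additive.toMul v)
    have h1 := congrArg Additive.toMul hv
    rw [hX, ← ha, hψ, QuotientGroup.eq] at h1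
    rw [← ha]
    show (a : Q ⧸ Z) = 1
    rw [QuotientGroup.eq_one_iff]
    obtain ⟨z, hz⟩ : ∃ z, z = ((θ ^ k) a)⁻¹ * a := ⟨_, rfl⟩
    have hzZ : z ∈ Z := hz ▸ h1
    have hfixz : ∀ (j : ℕ), (θ ^ j) z = z := by
      intro j
      induction j with
      | zero => rfl
      | succ j ih => rw [pow_succ, MulAut.mul_apply, hcen z hzZ, ih]
    have hθk : (θ ^ k) a = a * z⁻¹ := by rw [hz]; group
    have hiter : ∀ j : ℕ, ((θ ^ k) ^ j) a = a * (z⁻¹) ^ j := by
      intro j
      induction j with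
      | zero => simp
      | succ j ih =>
        rw [pow_succ, MulAut.mul_apply, hθk, map_mul, map_inv, ih, ← pow_mul, hfixz, pow_succ,
          mul_assoc]
    have h2 := hiter h
    rw [← pow_mul, mul_comm k h, pow_mul, hθ, one_pow, MulAut.one_apply] at h2
    have h3 : z ^ h = 1 := by
      have := (mul_eq_left (a := a)).mp h2.symm
      rwa [inv_pow, inv_eq_one] at this
    have h4 : z ^ p = 1 := by
      have := pow_card_eq_one' (x := (⟨z, hzZ⟩ : Z))
      rw [hZ] at this
      exact congrArg Subtype.val this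
    have h5 : z = 1 := orderOf_eq_one_iff.mp
      (Nat.eq_one_of_dvd_coprimes hcop (orderOf_dvd_of_pow_eq_one h3) (orderOf_dvd_of_pow_eq_one h4))
    refine hfix k hk a ?_
    rw [hθk, h5, inv_one, mul_one]
  -- the commutator form
  let e : Z ≃* Multiplicative (ZMod p) := mulEquivOfPrimeCardEq hZ (by simp)
  let g : Q → Q → ZMod p := fun a b => Multiplicative.toAdd (e ⟨⁅a, b⁆, hc a b⟩)
  have hgr : ∀ a b b', g a (b * b') = g a b + g a b' := by
    intro a b b'
    show _ = Multiplicative.toAdd (e ⟨⁅a, b⁆, hc a b⟩ * e ⟨⁅a, b'⁆, hc a b'⟩)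
    rw [← map_mul]
    refine congrArg (fun t => Multiplicative.toAdd (e t)) (Subtype.ext ?_)
    show ⁅a, b * b'⁆ = ⁅a, b⁆ * ⁅a, b'⁆
    rw [commutatorElement_def, commutatorElement_def, commutatorElement_def]
    calc a * (b * b') * a⁻¹ * (b * b')⁻¹ = a * b * a⁻¹ * ⁅a, b'⁆ * b⁻¹ := by
          rw [commutatorElement_def]; group
      _ = _ := by
          rw [mul_assoc (a * b * a⁻¹), ← Subgroup.mem_center_iff.mp (hc a b') b⁻¹, ← mul_assoc,
            commutatorElement_def]
  have hgl : ∀ a a' b, g (a * a') b = g a b + g a' b := by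
    intro a a' b
    show _ = Multiplicative.toAdd (e ⟨⁅a, b⁆, hc a b⟩ * e ⟨⁅a', b⁆, hc a' b⟩)
    rw [← map_mul]
    refine congrArg (fun t => Multiplicative.toAdd (e t)) (Subtype.ext ?_)
    show ⁅a * a', b⁆ = ⁅a, b⁆ * ⁅a', b⁆
    rw [commutatorElement_def, commutatorElement_def, commutatorElement_def]
    calc a * a' * b * (a * a')⁻¹ * b⁻¹ = a * ⁅a', b⁆ * b * a⁻¹ * b⁻¹ := by
          rw [commutatorElement_def]; group
      _ = ⁅a', b⁆ * (a * b * a⁻¹ * b⁻¹) := by
          rw [Subgroup.mem_center_iff.mp (hc a' b) a]; group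
      _ = _ := by
          rw [← Subgroup.mem_center_iff.mp (hc a' b) (a * b * a⁻¹ * b⁻¹), commutatorElement_def]
  have hgz : ∀ a b, (a ∈ Z ∨ b ∈ Z) → g a b = 0 := by
    intro a b hab
    have : ⁅a, b⁆ = 1 := by
      rw [commutatorElement_eq_one_iff_mul_comm]
      rcases hab with ha | hb
      · exact (Subgroup.mem_center_iff.mp ha b).symm
      · exact Subgroup.mem_center_iff.mp hb a
    show Multiplicative.toAdd (e ⟨⁅a, b⁆, hc a b⟩) = 0
    rw [show (⟨⁅a, b⁆, hc a b⟩ : Z) = 1 from Subtype.ext this, map_one]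
    rfl
  have hgwd : ∀ a a' b b' : Q, (a : Q ⧸ Z) = a' → (b : Q ⧸ Z) = b' → g a b = g a' b' := by
    intro a a' b b' ha hb
    obtain ⟨z, hz⟩ : ∃ z, z = a⁻¹ * a' := ⟨_, rfl⟩
    obtain ⟨w, hw⟩ : ∃ w, w = b⁻¹ * b' := ⟨_, rfl⟩
    have hz' : z ∈ Z := hz ▸ QuotientGroup.eq.mp ha
    have hw' : w ∈ Z := hw ▸ QuotientGroup.eq.mp hb
    rw [show a' = a * z by rw [hz]; group, show b' = b * w by rw [hw]; group, hgl, hgr, hgr,
      hgz z b (Or.inl hz'), hgz a w (Or.inr hw'), hgz z w (Or.inl hz')]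
    simp
  let out : Additive (Q ⧸ Z) → Q := fun v => Quotient.out (Additive.toMul v)
  have hout : ∀ v, ((out v : Q) : Q ⧸ Z) = Additive.toMul v := fun v => Quotient.out_eq _
  let f : Additive (Q ⧸ Z) → Additive (Q ⧸ Z) → ZMod p := fun v w => g (out v) (out w)
  have hf : ∀ (v w : Additive (Q ⧸ Z)) (a b : Q), Additive.toMul v = (a : Q ⧸ Z) →
      Additive.toMul w = (b : Q ⧸ Z) → f v w = g a b := fun v w a b hv hw =>
    hgwd _ _ _ _ ((hout v).trans hv) ((hout w).trans hw)
  have hfr' : ∀ u v w, f u (v + w) = f u v + f u w := fun u v w => by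
    rw [hf u (v + w) (out u) (out v * out w) (hout u).symm
      (by rw [QuotientGroup.mk_mul, hout, hout]; rfl)]
    exact hgr _ _ _
  have hfl : ∀ u v w, f (u + v) w = f u w + f v w := fun u v w => by
    rw [hf (u + v) w (out u * out v) (out w) (by rw [QuotientGroup.mk_mul, hout, hout]; rfl)
      (hout w).symm]
    exact hgl _ _ _
  let B : Additive (Q ⧸ Z) →ₗ[ZMod p] Additive (Q ⧸ Z) →ₗ[ZMod p] ZMod p :=
    AddMonoidHom.toZModLinearMap p
      (AddMonoidHom.mk' (fun v => AddMonoidHom.toZModLinearMap p (AddMonoidHom.mk' (f v) (hfr' v)))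
        (fun u v => LinearMap.ext fun w => hfl u v w))
  have hB : B.SeparatingLeft := by
    intro v hv
    obtain ⟨a, ha⟩ := QuotientGroup.mk_surjective (Additive.toMul v)
    apply Additive.toMul.injective
    rw [← ha]
    show (a : Q ⧸ Z) = 1
    rw [QuotientGroup.eq_one_iff, hZdef, Subgroup.mem_center_iff]
    intro b
    have h1 : g a b = 0 := (hf v (Additive.ofMul (b : Q ⧸ Z)) a b ha.symm rfl).symm.trans (hv _)
    have h2 : (⟨⁅a, b⁆, hc a b⟩ : Z) = 1 := e.injective (by
      rw [map_one]; exact Multiplicative.toAdd.injective h1)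
    exact (commutatorElement_eq_one_iff_mul_comm.mp (congrArg Subtype.val h2)).symm
  have hXout : ∀ v, Additive.toMul (X v) = ((θ (out v) : Q) : Q ⧸ Z) := fun v => by
    have h1 := hX 1 v
    rw [pow_one, pow_one, ← hout v] at h1
    exact h1
  have hBX : ∀ u w, B (X u) (X w) = B u w := by
    intro u w
    show f (X u) (X w) = f u w
    rw [hf (X u) (X w) _ _ (hXout u) (hXout w)]
    show Multiplicative.toAdd (e _) = Multiplicative.toAdd (e _)
    refine congrArg (fun t => Multiplicative.toAdd (e t)) (Subtype.ext ?_)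
    show ⁅θ (out u), θ (out w)⁆ = ⁅out u, out w⁆
    rw [← map_commutatorElement θ]
    exact hcen _ (hc _ _)
  refine H29.dvd_pow_add_one_or_sub_one (V := Additive (Q ⧸ Z)) (n := n) ?_ B hB X hBX h0 hcop hXh hfpf
  have hcard : Nat.card (Q ⧸ Z) = p ^ (2 * n) := by
    have h1 := Subgroup.card_eq_card_quotient_mul_card_subgroup Z
    rw [hn, hZ, pow_succ] at h1
    exact (Nat.eq_of_mul_eq_mul_right hp.pos h1).symm
  have h2 := Module.natCard_eq_pow_finrank (K := ZMod p) (V := Additive (Q ⧸ Z))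
  rw [show Nat.card (Additive (Q ⧸ Z)) = Nat.card (Q ⧸ Z) from rfl, hcard, Nat.card_zmod] at h2
  exact (Nat.pow_right_injective hp.two_le h2).symm

/-- A cyclic p'-group H acting on an extraspecial group of order p^(2n+1) with C_P(x) = Z(P) for all x ∈ H# has order dividing p^n + 1 or p^n − 1. -/
theorem result {G : Type*} [Group G] [Finite G] {p : ℕ} [Fact p.Prime] (P H : Subgroup G) (hP : Cfsg.IsExtraspecial p ↥P) (n : ℕ) (hn : Nat.card P = p ^ (2 * n + 1)) (hH : IsCyclic H) (hcop : (Nat.card H).Coprime p) (hHP : H ≤ Subgroup.normalizer (P : Set G)) (hfix : ∀ x ∈ H, x ≠ 1 → P ⊓ Subgroup.centralizer {x} = (Subgroup.center ↥P).map P.subtype) : Nat.card H ∣ p ^ n + 1 ∨ Nat.card H ∣ p ^ n - 1 := by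
  classical
  obtain ⟨x, hx⟩ := hH.exists_generator
  have hord : orderOf x = Nat.card H := orderOf_eq_card_of_forall_mem_zpowers hx
  let N := Subgroup.normalizer (P : Set G)
  let ρ : N →* MulAut P :=
    { toFun := fun g =>
        { toFun := fun a => ⟨(g : G) * a * (g : G)⁻¹, (Subgroup.mem_normalizer_iff.mp g.2 _).mp a.2⟩
          invFun := fun a => ⟨(g : G)⁻¹ * a * (g : G), by
            refine (Subgroup.mem_normalizer_iff.mp g.2 _).mpr ?_
            rw [show (g : G) * ((g : G)⁻¹ * a * g) * (g : G)⁻¹ = a by group]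
            exact a.2⟩
          left_inv := fun a => Subtype.ext (by simp [mul_assoc])
          right_inv := fun a => Subtype.ext (by simp [mul_assoc])
          map_mul' := fun a b => Subtype.ext (by simp [mul_assoc]) }
      map_one' := MulEquiv.ext fun a => Subtype.ext (by simp)
      map_mul' := fun g g' => MulEquiv.ext fun a => Subtype.ext (by simp [mul_assoc]) }
  let θ : MulAut P := ρ (Subgroup.inclusion hHP x)
  have hθ : ∀ (k : ℕ) (a : P), (((θ ^ k) a : P) : G) = (x : G) ^ k * a * ((x : G) ^ k)⁻¹ := by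
    intro k a
    show (((ρ (Subgroup.inclusion hHP x) ^ k) a : P) : G) = _
    rw [← map_pow, ← map_pow]
    show ((x ^ k : H) : G) * (a : G) * ((x ^ k : H) : G)⁻¹ = _
    rw [Subgroup.coe_pow]
  refine core hP n hn θ Nat.card_pos hcop ?_ ?_ ?_
  · refine MulEquiv.ext fun a => Subtype.ext ?_
    rw [hθ, ← Subgroup.coe_pow, pow_card_eq_one']
    simp
  · intro k hk a ha
    have hne : (x ^ k : H) ≠ 1 := fun he => hk (hord ▸ orderOf_dvd_of_pow_eq_one he)
    have h1 := hfix ((x ^ k : H) : G) (x ^ k).2 (fun he => hne (Subtype.ext he))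
    have h2 : (a : G) ∈ P ⊓ Subgroup.centralizer {((x ^ k : H) : G)} := by
      refine ⟨a.2, Subgroup.mem_centralizer_singleton_iff.mpr ?_⟩
      have h3 := congrArg (fun t : P => (t : G)) ha
      simp only [hθ] at h3
      rw [Subgroup.coe_pow]
      calc (a : G) * (x : G) ^ k = (x : G) ^ k * a * ((x : G) ^ k)⁻¹ * (x : G) ^ k := by rw [h3]
        _ = (x : G) ^ k * a := by group
    rw [h1] at h2
    obtain ⟨b, hb, hba⟩ := h2
    exact (Subtype.ext hba : b = a) ▸ hb
  · intro z hz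
    by_cases hx1 : (x : G) = 1
    · apply Subtype.ext
      rw [← pow_one θ, hθ, pow_one, hx1]
      simp
    have h1 := hfix (x : G) x.2 hx1
    have h2 : (z : G) ∈ P ⊓ Subgroup.centralizer {(x : G)} := h1 ▸ ⟨z, hz, rfl⟩
    apply Subtype.ext
    rw [← pow_one θ, hθ, pow_one, ← Subgroup.mem_centralizer_singleton_iff.mp h2.2]
    group

end Cfsg.Agent.S3767
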