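import Cfsg.Statements.S3768
import Cfsg.Agent.H2.FrobeniusKernel

set_option autoImplicit false
open Cfsg

namespace Cfsg.Agent.S3768

/-- Let G be a finite Frobenius group with Frobenius complement R and Frobenius kernel K (the identity together with the elements in no conjugate of R), and let N be a normal subgroup of G not containing K. Then G/N is a Frobenius group with Frobenius complement RN/N whose Frobenius kernel is the image of K. -/
theorem result {G : Type*} [Group G] [Finite G] (R : Subgroup G) (hR : Cfsg.IsFrobeniusComplement R) (N : Subgroup G) [N.Normal] (hKN : ¬ Cfsg.frobeniusKernel R ⊆ N) : Cfsg.IsFrobeniusComplement (R.map (QuotientGroup.mk' N)) ∧ Cfsg.frobeniusKernel (R.map (QuotientGroup.mk' N)) = QuotientGroup.mk' N '' Cfsg.frobeniusKernel R := by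
  obtain ⟨K, hK, hKn, hc⟩ := H2.exists_kernel hR
  haveI := hKn
  rw [← hK] at hKN ⊢
  -- the commutator maps with an element of the complement are injective on the kernel
  have hinj : ∀ h ∈ R, h ≠ 1 → ∀ a ∈ K, ∀ b ∈ K, a * h * a⁻¹ * h⁻¹ = b * h * b⁻¹ * h⁻¹ → a = b := by
    intro h hh hne a ha b hb he
    have h1 : a * h * a⁻¹ = b * h * b⁻¹ := mul_right_cancel he
    have h2 : (b⁻¹ * a) * h = h * (b⁻¹ * a) := by
      calc (b⁻¹ * a) * h = b⁻¹ * (a * h * a⁻¹) * a := by group
        _ = b⁻¹ * (b * h * b⁻¹) * a := by rw [h1]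
        _ = h * (b⁻¹ * a) := by group
    have h3 := H2.mem_of_commute hR hh hne h2
    have h4 := H2.complement_inf hc (mul_mem (inv_mem hb) ha) h3
    exact (inv_mul_eq_one.mp h4).symm
  -- surjectivity on every normal subgroup contained in the kernel
  have hsurj : ∀ M : Subgroup G, M.Normal → M ≤ K → ∀ h ∈ R, h ≠ 1 →
      ∀ c ∈ M, ∃ a ∈ M, a * h * a⁻¹ * h⁻¹ = c := by
    intro M hM hMK h hh hne c hc'
    let f : M → M := fun a => ⟨(a : G) * h * (a : G)⁻¹ * h⁻¹, by
      have : (a : G) * (h * (a : G)⁻¹ * h⁻¹) ∈ M :=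
        mul_mem a.2 (hM.conj_mem _ (inv_mem a.2) h)
      simpa [mul_assoc] using this⟩
    have hf : Function.Injective f := fun a b hab =>
      Subtype.ext (hinj h hh hne a (hMK a.2) b (hMK b.2) (congrArg Subtype.val hab))
    obtain ⟨a, ha⟩ := (Finite.injective_iff_surjective.mp hf) ⟨c, hc'⟩
    exact ⟨a, a.2, congrArg Subtype.val ha⟩
  have hNR : ∀ h ∈ R, h ∈ N → h = 1 := by
    intro h hh hhN
    by_contra hne
    refine hKN fun c hcK => ?_
    obtain ⟨a, -, ha⟩ := hsurj K hKn le_rfl h hh hne c hcK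
    have hmem : (a * h * a⁻¹) * h⁻¹ ∈ N := mul_mem (‹N.Normal›.conj_mem h hhN a) (inv_mem hhN)
    rwa [ha] at hmem
  have hNK : N ≤ K := by
    intro x hx
    by_contra hxK
    have h1 : x ∉ (K : Set G) := hxK
    rw [hK] at h1
    simp only [Cfsg.frobeniusKernel, Set.mem_setOf_eq, not_or, not_forall, not_not] at h1
    obtain ⟨hx1, g, hg⟩ := h1
    have h2 := hNR _ (H2.mem_conj_smul.mp hg)
      (by simpa [mul_assoc] using ‹N.Normal›.conj_mem x hx g⁻¹)
    apply hx1
    simpa [mul_assoc] using congrArg (fun t => g * t * g⁻¹) h2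
  have hc' : Subgroup.IsComplement' (K.map (QuotientGroup.mk' N)) (R.map (QuotientGroup.mk' N)) := by
    refine Subgroup.isComplement'_of_disjoint_and_mul_eq_univ ?_ ?_
    · rw [Subgroup.disjoint_def]
      rintro _ ⟨k, hk, rfl⟩ ⟨h, hh, he⟩
      have h1 : h⁻¹ * k ∈ N := QuotientGroup.eq.mp he
      have h2 : h = 1 := by
        refine H2.complement_inf hc ?_ hh
        have := mul_mem hk (inv_mem (hNK h1))
        simpa [mul_assoc] using this
      subst h2
      rw [← he, map_one]
    · rw [Set.eq_univ_iff_forall]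
      intro q
      obtain ⟨g, rfl⟩ := QuotientGroup.mk'_surjective N q
      obtain ⟨k, hk, h, hh, rfl⟩ := H2.complement_decomp hc g
      exact ⟨_, ⟨k, hk, rfl⟩, _, ⟨h, hh, rfl⟩, (map_mul _ k h).symm⟩
  have hK' : K.map (QuotientGroup.mk' N) ≠ ⊥ := by
    rw [Ne, Subgroup.map_eq_bot_iff, QuotientGroup.ker_mk']
    exact hKN
  have hR' : R.map (QuotientGroup.mk' N) ≠ ⊥ := by
    rw [Ne, Subgroup.map_eq_bot_iff, QuotientGroup.ker_mk']
    intro hle
    exact hR.1 ((Subgroup.eq_bot_iff_forall _).mpr fun x hx => hNR x hx (hle hx))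
  have hF : Cfsg.IsFrobeniusComplement (R.map (QuotientGroup.mk' N)) := by
    refine H2.frobenius_of_fpf hc' hK' hR' ?_
    rintro _ ⟨h, hh, rfl⟩ hne
    rw [eq_bot_iff]
    rintro _ ⟨⟨k, hk, rfl⟩, hcomm⟩
    have hh1 : h ≠ 1 := fun e => hne (by rw [e, map_one])
    have h1 : (QuotientGroup.mk' N) k * QuotientGroup.mk' N h =
        QuotientGroup.mk' N h * QuotientGroup.mk' N k := Subgroup.mem_centralizer_singleton_iff.mp hcomm
    rw [← map_mul, ← map_mul] at h1
    have h2 : k * h * k⁻¹ * h⁻¹ ∈ N := by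
      have h3 : (k * h) * (h * k)⁻¹ ∈ N := by
        rw [← QuotientGroup.eq_one_iff]
        change QuotientGroup.mk' N _ = 1
        rw [map_mul (QuotientGroup.mk' N), h1, map_inv, mul_inv_cancel]
      simpa [mul_assoc] using h3
    obtain ⟨a, ha, he⟩ := hsurj N inferInstance hNK h hh hh1 _ h2
    have hka : k = a := (hinj h hh hh1 a (hNK ha) k hk he).symm
    subst hka
    rw [Subgroup.mem_bot]
    exact (QuotientGroup.eq_one_iff k).mpr ha
  refine ⟨hF, ?_⟩
  rw [← H2.coe_eq_frobeniusKernel hc' hF, Subgroup.coe_map]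


end Cfsg.Agent.S3768
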