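import Cfsg.Statements.S3769
import Cfsg.Agent.H83.PrimeActionGroup

set_option autoImplicit false
open Cfsg

namespace Cfsg.Agent.S3769

/-- Let G and V be subgroups of a finite group with G solvable of odd order normalizing V, V an elementary abelian ℓ-group for a prime ℓ not dividing the order of G, and suppose G has a normal Hall subgroup K with a complement R of prime order. If C_V(R) = 1, then [R, K] centralizes V. -/
theorem result {X : Type*} [Group X] [Finite X] (G : Subgroup X) (hsolv : Group.IsSolvable G) (hodd : Odd (Nat.card G)) (V : Subgroup X) {ℓ : ℕ} (hℓ : ℓ.Prime) (hV : Cfsg.IsElementaryAbelian ℓ V) (hℓG : ¬ ℓ ∣ Nat.card G) (hGV : G ≤ Subgroup.normalizer (V : Set X)) (K R : Subgroup X) (hKG : K ≤ G) (hKn : G ≤ Subgroup.normalizer (K : Set X)) (hHall : (Nat.card K).Coprime (K.relIndex G)) (hRG : R ≤ G) (hR : (Nat.card R).Prime) (hKR : K ⊓ R = ⊥) (hKRG : K ⊔ R = G) (hCV : V ⊓ Subgroup.centralizer (R : Set X) = ⊥) : ⁅R, K⁆ ≤ Subgroup.centralizer (V :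 Set X) := by
  classical
  obtain ⟨p, hp, hRc⟩ : ∃ p, p.Prime ∧ Nat.card R = p := ⟨_, hR, rfl⟩
  have : Fact p.Prime := ⟨hp⟩
  have : Fact ℓ.Prime := ⟨hℓ⟩
  have : (K.subgroupOf G).Normal := Subgroup.normal_subgroupOf_iff_le_normalizer hKG |>.mpr hKn
  have hrel : K.relIndex G = p := by
    have hc : Subgroup.IsComplement' (R.subgroupOf G) (K.subgroupOf G) := by
      refine Subgroup.isComplement'_of_disjoint_and_mul_eq_univ ?_ ?_
      · rw [disjoint_iff, eq_bot_iff]
        exact fun g hg => Subtype.ext (hKR.le ⟨hg.2, hg.1⟩)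
      · rw [← Subgroup.mul_normal, ← Subgroup.subgroupOf_sup hRG hKG, sup_comm, hKRG,
          Subgroup.subgroupOf_self, Subgroup.coe_top]
    show (K.subgroupOf G).index = p
    rw [hc.index_eq_card, Nat.card_congr (Subgroup.subgroupOfEquivOfLe hRG).toEquiv, hRc]
  have hpK : ¬ p ∣ Nat.card K := fun h =>
    hp.not_dvd_one ((hrel ▸ hHall).gcd_eq_one ▸ Nat.dvd_gcd h dvd_rfl)
  have hKdvd : Nat.card K ∣ Nat.card G := Subgroup.card_dvd_of_le hKG
  have hℓK : ¬ ℓ ∣ Nat.card K := fun h => hℓG (h.trans hKdvd)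
  have hpℓ : p ≠ ℓ := fun h => hℓG (h ▸ hRc ▸ Subgroup.card_dvd_of_le hRG)
  have hKodd : Odd (Nat.card K) := hodd.of_dvd_nat hKdvd
  have : Group.IsSolvable G := hsolv
  have hKsol : Group.IsSolvable K :=
    Group.isSolvable_of_isSolvable_injective (Subgroup.inclusion_injective hKG)
  rw [Subgroup.commutator_le]
  intro r hr k hk
  rw [Subgroup.mem_centralizer_iff]
  intro v hv
  by_cases hr1 : r = 1
  · simp [hr1]
  have hgen : Subgroup.zpowers r = R := by
    apply Subgroup.eq_of_le_of_card_ge (Subgroup.zpowers_le.mpr hr)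
    rw [Nat.card_zpowers]
    have h1 : orderOf r ∣ p := hRc ▸ Subgroup.orderOf_dvd_natCard R hr
    rcases (Nat.dvd_prime hp).mp h1 with h | h
    · exact absurd (orderOf_eq_one_iff.mp h) hr1
    · rw [h, hRc]
  have hfix : ∀ v ∈ V, r * v = v * r → v = 1 := by
    intro w hw hc
    have hwR : w ∈ V ⊓ Subgroup.centralizer (R : Set X) := by
      refine ⟨hw, Subgroup.mem_centralizer_iff.mpr ?_⟩
      intro s hs
      rw [← hgen] at hs
      obtain ⟨i, rfl⟩ := Subgroup.mem_zpowers_iff.mp hs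
      exact Commute.zpow_left hc i
    rw [hCV] at hwR
    exact hwR
  exact (H83.prime_action_group (p := p) hV hGV (hRG hr)
    (by rw [← hRc]; exact orderOf_dvd_iff_pow_eq_one.mp (Subgroup.orderOf_dvd_natCard R hr))
    hKG (fun k hk => (Subgroup.mem_normalizer_iff.mp (hKn (hRG hr)) k).mp hk)
    hKsol hKodd hpK hℓK hpℓ hfix k hk v hv).symm

end Cfsg.Agent.S3769
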