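import Cfsg.Statements.S3770
import Cfsg.Agent.S0042
import Cfsg.Agent.H83.FrobeniusGroup
import Cfsg.Agent.H2.CoprimeAbelian
import Cfsg.Agent.H2.FrobeniusKernel

set_option autoImplicit false
open Cfsg

namespace Cfsg.Agent.S3770

/-- Let G and V be subgroups of a finite group with G a Frobenius group with complement R of prime order and kernel K, G normalizing V, and V an elementary abelian ℓ-group for a prime ℓ not dividing the order of G. If C_V(R) has order ℓ, then the derived subgroup of K centralizes V. -/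
theorem result {X : Type*} [Group X] [Finite X] (G : Subgroup X) (V : Subgroup X) {ℓ : ℕ} (hℓ : ℓ.Prime) (hV : Cfsg.IsElementaryAbelian ℓ V) (hℓG : ¬ ℓ ∣ Nat.card G) (hGV : G ≤ Subgroup.normalizer (V : Set X)) (R : Subgroup ↥G) (hR : Cfsg.IsFrobeniusComplement R) (hRp : (Nat.card R).Prime) (hCV : Nat.card ↥(V ⊓ Subgroup.centralizer ((R.map G.subtype : Subgroup X) : Set X)) = ℓ) : ⁅Subgroup.closure (Subtype.val '' Cfsg.frobeniusKernel R), Subgroup.closure (Subtype.val '' Cfsg.frobeniusKernel R)⁆ ≤ Subgroup.centralizer (V : Set X) := by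
  obtain ⟨hVc, hVp⟩ := hV
  haveI := hVc
  obtain ⟨N, hN, hNn, hnil⟩ := Cfsg.Agent.S0042.result R hR
  haveI := hNn
  obtain ⟨N', hN', -, hc⟩ := H2.exists_kernel hR
  have hNN : N' = N := SetLike.coe_injective (hN'.trans hN.symm)
  subst hNN
  have hK : Subgroup.closure (Subtype.val '' Cfsg.frobeniusKernel R) = N'.map G.subtype := by
    rw [← hN', ← Subgroup.closure_eq (N'.map G.subtype)]
    rfl
  rw [hK]
  set K := N'.map G.subtype with hKdef
  set R' := R.map G.subtype with hR'def
  have hKG : K ≤ G := Subgroup.map_subtype_le _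
  have hRG : R' ≤ G := Subgroup.map_subtype_le _
  have hcK : Nat.card K = Nat.card N' := Subgroup.card_map_of_injective G.subtype_injective
  have hcR : Nat.card R' = Nat.card R := Subgroup.card_map_of_injective G.subtype_injective
  have hcopG : (Nat.card G).Coprime (Nat.card V) := by
    refine Nat.coprime_of_dvd' fun q hq hqG hqV => ?_
    haveI := Fact.mk hq
    obtain ⟨v, hv⟩ := exists_prime_orderOf_dvd_card' q hqV
    have h1 : orderOf v ∣ ℓ := orderOf_dvd_of_pow_eq_one (Subtype.ext (by simpa using hVp v v.2))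
    rw [hv] at h1
    exact absurd ((Nat.prime_dvd_prime_iff_eq hq hℓ).mp h1 ▸ hqG) hℓG
  have hcopKV : (Nat.card K).Coprime (Nat.card V) :=
    hcopG.coprime_dvd_left (Subgroup.card_dvd_of_le hKG)
  have hKV : K ≤ Subgroup.normalizer (V : Set X) := hKG.trans hGV
  set M := ⁅V, K⁆ with hMdef
  have hMV : M ≤ V := H1.commutator_le_left_of_le_normalizer hKV
  have hGK : G ≤ Subgroup.normalizer (K : Set X) := by
    intro g hg
    rw [Subgroup.mem_normalizer_iff]
    intro x
    constructor
    · rintro ⟨k, hk, rfl⟩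
      exact ⟨(⟨g, hg⟩ : G) * k * (⟨g, hg⟩ : G)⁻¹, hNn.conj_mem k hk _, rfl⟩
    · rintro ⟨k, hk, he⟩
      have he' : (k : X) = g * x * g⁻¹ := he
      refine ⟨(⟨g, hg⟩ : G)⁻¹ * k * ((⟨g, hg⟩ : G)⁻¹)⁻¹, hNn.conj_mem k hk _, ?_⟩
      change g⁻¹ * (k : X) * g⁻¹⁻¹ = x
      rw [he']; group
  have hGM : G ≤ Subgroup.normalizer (M : Set X) :=
    H83.le_normalizer_commutator hGV hGK
  have hMc : IsMulCommutative M :=
    ⟨⟨fun a b => Subtype.ext (congrArg Subtype.val
      (hVc.is_comm.comm ⟨a, hMV a.2⟩ ⟨b, hMV b.2⟩) :)⟩⟩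
  have hCK : M ⊓ Subgroup.centralizer (K : Set X) = ⊥ := by
    rw [eq_bot_iff, ← H2.inf_commutator_eq_bot hKV hcopKV]
    exact fun x hx => ⟨⟨hMV hx.1, hx.2⟩, hx.1⟩
  have hcopM : ∀ H : Subgroup X, H ≤ G → (Nat.card H).Coprime (Nat.card M) := fun H hH =>
    (hcopG.coprime_dvd_left (Subgroup.card_dvd_of_le hH)).coprime_dvd_right
      (Subgroup.card_dvd_of_le hMV)
  have hndvd : ¬ Nat.card R' ∣ Nat.card K := by
    rw [hcR, hcK]
    intro h
    have h1 : (Nat.card R).Coprime R.index := H2.coprime_card_index hR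
    rw [hc.index_eq_card] at h1
    exact hRp.ne_one (Nat.eq_one_of_dvd_coprimes h1 dvd_rfl h)
  have hsol : Group.IsSolvable K := by
    haveI : Group.IsSolvable N' := by haveI := hnil; infer_instance
    exact Group.isSolvable_of_surjective (f := (N'.equivMapOfInjective G.subtype G.subtype_injective).toMonoidHom)
      (N'.equivMapOfInjective G.subtype G.subtype_injective).surjective
  obtain ⟨-, hfrob⟩ := H83.frobenius_group_action (K := K) (R := R') (M := M)
    (hRG.trans hGK) (by
      rintro _ ⟨r, hr, rfl⟩ hr1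
      rw [eq_bot_iff]
      rintro _ ⟨⟨k, hk, rfl⟩, hk'⟩
      have h1 : k ∈ N' ⊓ Subgroup.centralizer {r} :=
        ⟨hk, Subgroup.mem_centralizer_singleton_iff.mpr
          (Subtype.ext (Subgroup.mem_centralizer_singleton_iff.mp hk'))⟩
      rw [H2.fpf_of_frobenius hc hR r hr (fun e => hr1 (by rw [e]; rfl)), Subgroup.mem_bot] at h1
      rw [h1, map_one]
      exact Subgroup.one_mem _)
    hsol (by
      letI := H2.commGroupOfComm M
      exact CommGroup.isNilpotent)
    (hKG.trans hGM) (hRG.trans hGM) (hcopM K hKG) (hcopM R' hRG) hCK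
  have hcyc : IsCyclic ↥(M ⊓ Subgroup.centralizer (R' : Set X)) := by
    haveI := Fact.mk hℓ
    haveI : IsCyclic ↥(V ⊓ Subgroup.centralizer (R' : Set X)) := isCyclic_of_prime_card hCV
    exact isCyclic_of_injective (Subgroup.inclusion (inf_le_inf_right _ hMV))
      (Subgroup.inclusion_injective _)
  have h1 := hfrob (hcR.symm ▸ hRp) hndvd hcyc
  have hDK : ⁅K, K⁆ ≤ K := Subgroup.commutator_le_self K
  rw [← H2.sup_commutator_eq hKV hcopKV]
  rw [Subgroup.le_centralizer_iff]
  exact sup_le (fun v hv => Subgroup.centralizer_le hDK hv.2) (Subgroup.le_centralizer_iff.mp h1)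


end Cfsg.Agent.S3770
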