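import Cfsg.Statements.S3772
import Cfsg.Agent.H6.Basic
import Cfsg.Agent.H36.Kulakoff

set_option autoImplicit false
open Cfsg

namespace Cfsg.Agent.S3772

/-- Let G be a finite 2-group whose Frattini subgroup Φ(G) has order 2, with |G : Φ(G)| = 2^d, and let j be the number of elements x of G with x² = 1. Then j = 2^d, or j = 2^d + 2^(d−r) or j = 2^d − 2^(d−r) for some positive integer r with 2r ≤ d. Moreover if d = 2r and j is 2^d + 2^r or 2^d − 2^r, then G is extraspecial. -/
theorem result {G : Type*} [Group G] [Finite G] (hG : IsPGroup 2 G) (hΦ : Nat.card (frattini G) = 2) (d : ℕ) (hd : (frattini G).index = 2 ^ d) : (Nat.card {x : G // x ^ 2 = 1} = 2 ^ d ∨ ∃ r : ℕ, 1 ≤ r ∧ 2 * r ≤ d ∧ (Nat.card {x : G // x ^ 2 = 1} = 2 ^ d + 2 ^ (d - r) ∨ Nat.card {x : G // x ^ 2 = 1} + 2 ^ (d - r) = 2 ^ d)) ∧ (∀ r : ℕ, d = 2 * r → (Nat.card {x : G // x ^ 2 = 1} = 2 ^ d + 2 ^ r ∨ Nat.card {x : G // x ^ 2 = 1} + 2 ^ r = 2 ^ d) → Cfsg.IsExtraspecial 2 G) := by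
  classical
  have := Fintype.ofFinite G
  obtain ⟨z, hz1, hzΦ, hzc, hcases⟩ : ∃ z : G, z ≠ 1 ∧ z ∈ frattini G ∧ z ∈ Subgroup.center G ∧
      ∀ x ∈ frattini G, x = 1 ∨ x = z := by
    have : Nontrivial (frattini G) := Finite.one_lt_card_iff_nontrivial.mp (by rw [hΦ]; norm_num)
    obtain ⟨⟨z, hz⟩, hne⟩ := exists_ne (1 : frattini G)
    have hz1 : z ≠ 1 := fun h => hne (Subtype.ext h)
    have hcases : ∀ x ∈ frattini G, x = 1 ∨ x = z := by
      intro x hx
      have h2 := (Nat.card_eq_two_iff' (1 : frattini G)).mp hΦ
      by_cases h1 : x = 1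
      · exact Or.inl h1
      · exact Or.inr (congrArg Subtype.val (h2.unique (y₁ := ⟨x, hx⟩) (y₂ := ⟨z, hz⟩)
          (fun h => h1 (congrArg Subtype.val h)) hne))
    refine ⟨z, hz1, hz, Subgroup.mem_center_iff.mpr fun g => ?_, hcases⟩
    rcases hcases _ ((inferInstance : (frattini G).Normal).conj_mem z hz g) with h | h
    · exact absurd (conj_eq_one_iff.mp h) hz1
    · exact mul_inv_eq_iff_eq_mul.mp h
  have hzc' : ∀ g : G, g * z = z * g := Subgroup.mem_center_iff.mp hzc
  have hz2 : z * z = 1 := by
    rcases hcases _ (mul_mem hzΦ hzΦ) with h | h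
    · exact h
    · exact absurd (mul_left_cancel (h.trans (mul_one z).symm)) hz1
  have hsq : ∀ x : G, x ^ 2 = 1 ∨ x ^ 2 = z := fun x =>
    hcases _ (H36.pow_mem_frattini hG x)
  have hcom : ∀ u x : G, u * x = x * u ∨ u * x = x * u * z := by
    intro u x
    have hm : (x * u)⁻¹ * (u * x) ∈ frattini G := by
      have := H6.commutator_le_frattini hG (Subgroup.commutator_mem_commutator
        (Subgroup.mem_top u⁻¹) (Subgroup.mem_top x⁻¹))
      convert this using 1
      rw [commutatorElement_def]
      group
    rcases hcases _ hm with h | h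
    · exact Or.inl (inv_mul_eq_one.mp h).symm
    · exact Or.inr (inv_mul_eq_iff_eq_mul.mp h)
  let f : G → ℤ := fun x => if x ^ 2 = 1 then 1 else -1
  let ε : G → G → ℤ := fun x u => if u * x = x * u then 1 else -1
  have hf : ∀ x u : G, f (x * u) = f x * f u * ε x u := by
    intro x u
    have h1 : (x * u) ^ 2 = x * (u * x) * u := by rw [pow_two]; group
    rcases hcom u x with h | h
    · have h2 : (x * u) ^ 2 = x ^ 2 * u ^ 2 := by
        rw [h1, h, pow_two, pow_two]; group
      rcases hsq x with hx | hx <;> rcases hsq u with hu | hu <;>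
        simp [f, ε, h, h2, hx, hu, hz1, hz2]
    · have h2 : (x * u) ^ 2 = x ^ 2 * u ^ 2 * z := by
        rw [h1, h]
        calc x * (x * u * z) * u = x * x * u * (z * u) := by group
          _ = x * x * u * (u * z) := by rw [hzc' u]
          _ = _ := by rw [pow_two, pow_two]; group
      have h3 : ¬ u * x = x * u := fun h' => hz1 (by
        rw [h'] at h; exact mul_left_cancel (h.symm.trans (mul_one _).symm))
      rcases hsq x with hx | hx <;> rcases hsq u with hu | hu <;>
        simp [f, ε, h3, h2, hx, hu, hz1, hz2]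
  have hf2 : ∀ x : G, f x * f x = 1 := fun x => by simp only [f]; split <;> norm_num
  set Z := Subgroup.center G
  have hsum : ∀ u : G, ∑ x : G, ε x u = if u ∈ Z then (Fintype.card G : ℤ) else 0 := by
    intro u
    split
    · next h =>
      simp [ε, fun x => (Subgroup.mem_center_iff.mp h x).symm]
    · next h =>
      rw [Subgroup.mem_center_iff] at h
      push Not at h
      obtain ⟨a, ha⟩ := h
      have hflip : ∀ x, ε (a * x) u = - ε x u := by
        intro x
        have hua : u * a = a * u * z := (hcom u a).resolve_left fun h => ha h.symm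
        rcases hcom u x with hx | hx
        · have : ¬ u * (a * x) = a * x * u := fun h' => by
            apply ha
            rw [← mul_assoc, mul_assoc a x u, ← hx, ← mul_assoc] at h'
            exact (mul_right_cancel h').symm
          simp [ε, this, hx]
        · have hne : ¬ u * x = x * u := fun h' => hz1 (by
            rw [h'] at hx; exact mul_left_cancel (hx.symm.trans (mul_one _).symm))
          have : u * (a * x) = a * x * u := by
            calc u * (a * x) = u * a * x := by group
              _ = a * u * (z * x) := by rw [hua]; group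
              _ = a * (u * x) * z := by rw [← hzc' x]; group
              _ = a * x * u * (z * z) := by rw [hx]; group
              _ = _ := by rw [hz2, mul_one]
          simp [ε, this, hne]
      have h1 : ∑ x : G, ε x u = ∑ x : G, ε (a * x) u :=
        (Equiv.sum_comp (Equiv.mulLeft a) (fun x => ε x u)).symm
      rw [Finset.sum_congr rfl (g := fun x => - ε x u) fun x _ => hflip x, Finset.sum_neg_distrib] at h1
      omega
  set S : ℤ := ∑ x : G, f x with hS
  have hS2 : S * S = Fintype.card G * ∑ u : Z, f u := by
    calc S * S = ∑ x : G, ∑ y : G, f x * f y := Finset.sum_mul_sum _ _ _ _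
      _ = ∑ x : G, ∑ u : G, f u * ε x u := Finset.sum_congr rfl fun x _ => by
          rw [← Equiv.sum_comp (Equiv.mulLeft x)]
          refine Finset.sum_congr rfl fun u _ => ?_
          show f x * f (x * u) = f u * ε x u
          rw [hf, ← mul_assoc, ← mul_assoc, hf2, one_mul]
      _ = ∑ u : G, f u * ∑ x : G, ε x u := by
          rw [Finset.sum_comm]; simp only [Finset.mul_sum]
      _ = _ := by
          simp only [hsum, mul_ite, mul_zero]
          rw [← Finset.sum_filter, Finset.mul_sum,
            Finset.sum_subtype (p := fun u => u ∈ Z) (F := inferInstance) _ (by simp)]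
          exact Finset.sum_congr rfl fun u _ => mul_comm _ _
  set j := Nat.card {x : G // x ^ 2 = 1}
  have hn : Fintype.card G = 2 ^ (d + 1) := by
    rw [← Nat.card_eq_fintype_card, ← (frattini G).card_mul_index, hΦ, hd, pow_succ, mul_comm]
  have hj : S = 2 * (j : ℤ) - Fintype.card G := by
    have h1 : ∀ x : G, f x = 2 * (if x ^ 2 = 1 then 1 else 0) - 1 := fun x => by
      simp only [f]; split <;> norm_num
    rw [hS, Finset.sum_congr rfl fun x _ => h1 x, Finset.sum_sub_distrib, ← Finset.mul_sum,
      Finset.sum_boole]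
    simp [j, Fintype.card_subtype, Nat.card_eq_fintype_card]
  obtain ⟨e, he⟩ := IsPGroup.iff_card.mp (hG.to_subgroup Z)
  have hdich : (∑ u : Z, f u) = 0 ∨ ((∑ u : Z, f u) = 2 ^ e ∧ ∀ u : Z, f u = 1) := by
    by_cases h : ∀ u : Z, f u = 1
    · refine Or.inr ⟨?_, h⟩
      simp [h, ← Nat.card_eq_fintype_card, he]
    · push Not at h
      obtain ⟨c, hc⟩ := h
      left
      have hflip : ∀ u : Z, f ((c * u : Z) : G) = - f u := by
        intro u
        rw [Subgroup.coe_mul, hf]
        have : ε (c : G) (u : G) = 1 := by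
          simp [ε, Subgroup.mem_center_iff.mp c.2 (u : G)]
        rw [this]
        have : f c = -1 := by simp only [f] at hc ⊢; split at hc <;> simp_all
        rw [this]; ring
      have h1 : ∑ u : Z, f u = ∑ u : Z, f ((c * u : Z) : G) :=
        (Equiv.sum_comp (Equiv.mulLeft c) (fun u : Z => f u)).symm
      rw [Finset.sum_congr rfl (g := fun u : Z => - f u) fun u _ => hflip u,
        Finset.sum_neg_distrib] at h1
      omega
  -- the centre contains the Frattini subgroup
  have hΦZ : frattini G ≤ Z := fun x hx => by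
    rcases hcases x hx with rfl | rfl
    · exact one_mem _
    · exact hzc
  have he1 : 1 ≤ e := by
    have := Subgroup.card_dvd_of_le hΦZ
    rw [hΦ, he] at this
    by_contra h
    simp [show e = 0 by omega] at this
  rcases hdich with h0 | ⟨hZ, hall⟩
  · rw [h0, mul_zero, mul_self_eq_zero, hj] at hS2
    have hj2 : j = 2 ^ d := by
      have h2 := hn
      rw [pow_succ] at h2
      omega
    refine ⟨Or.inl hj2, fun r _ h => ?_⟩
    have := pow_pos (show 0 < 2 by norm_num) r
    omega
  -- the group is not abelian
  have hnab : ¬ ∀ x y : G, x * y = y * x := by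
    intro hab
    have hall' : ∀ x : G, x ^ 2 = 1 := fun x => by
      have := hall ⟨x, Subgroup.mem_center_iff.mpr fun y => hab y x⟩
      by_contra h
      simp [f, h] at this
    -- an elementary abelian group has trivial Frattini subgroup
    obtain ⟨K, hK, hmax⟩ := exists_maximal_of_wellFoundedGT (fun K : Subgroup G => z ∉ K)
      ⟨⊥, by simpa using hz1⟩
    have hco : IsCoatom K := by
      refine ⟨fun h => hK (h ▸ Subgroup.mem_top z), fun L hKL => ?_⟩
      have hzL : z ∈ L := by
        by_contra h
        exact hKL.not_ge (hmax h hKL.le)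
      refine eq_top_iff.mpr fun x _ => ?_
      by_contra hxL
      have hxK : x ∉ K := fun h => hxL (hKL.le h)
      let K' : Subgroup G :=
        { carrier := {g | g ∈ K ∨ x * g ∈ K}
          mul_mem' := fun {a b} ha hb => by
            rcases ha with ha | ha <;> rcases hb with hb | hb
            · exact Or.inl (mul_mem ha hb)
            · refine Or.inr ?_
              rw [← mul_assoc, hab x a, mul_assoc]; exact mul_mem ha hb
            · exact Or.inr (by rw [← mul_assoc]; exact mul_mem ha hb)
            · refine Or.inl ?_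
              have hxx : x * x = 1 := by rw [← pow_two]; exact hall' x
              have := mul_mem ha hb
              rwa [show x * a * (x * b) = a * b by
                rw [hab x a, mul_assoc, ← mul_assoc x x, hxx, one_mul]] at this
          one_mem' := Or.inl (one_mem _)
          inv_mem' := fun {a} ha => by
            have : a⁻¹ = a := inv_eq_of_mul_eq_one_left (by rw [← pow_two]; exact hall' a)
            rw [this]; exact ha }
      have hzK' : z ∉ K' := by
        rintro (h | h)
        · exact hK h
        · exact hxL ((Subgroup.mul_mem_cancel_right L hzL).mp (hKL.le h))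
      have hle : K ≤ K' := fun g hg => Or.inl hg
      have hxK' : x ∈ K' := Or.inr (by rw [← pow_two, hall' x]; exact one_mem _)
      exact hxK (hmax hzK' hle hxK')
    exact hK (frattini_le_coatom hco hzΦ)
  have hlt : e + 1 < d + 1 := by
    push Not at hnab
    obtain ⟨x, y, hxy⟩ := hnab
    have hle : e ≤ d + 1 := by
      have := Subgroup.card_le_card_group Z
      rw [he, Nat.card_eq_fintype_card (α := G), hn] at this
      exact (Nat.pow_le_pow_iff_right (by norm_num)).mp this
    by_contra hge
    apply hxy
    have hidx : Z.index ∣ 2 := by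
      have h1 := Z.card_mul_index
      rw [he, Nat.card_eq_fintype_card (α := G), hn,
        show d + 1 = e + (d + 1 - e) by omega, pow_add] at h1
      rw [Nat.eq_of_mul_eq_mul_left (pow_pos (by norm_num) e) h1]
      have : d + 1 - e ≤ 1 := by omega
      exact (Nat.pow_dvd_pow 2 this).trans (by norm_num)
    have : IsCyclic (G ⧸ Z) := by
      rcases (Nat.dvd_prime Nat.prime_two).mp hidx with h | h
      · have : Subsingleton (G ⧸ Z) := (Nat.card_eq_one_iff_unique.mp h).1
        infer_instance
      · exact isCyclic_of_prime_card (p := 2) h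
    exact commutative_of_cyclic_center_quotient (QuotientGroup.mk' Z)
      (by rw [QuotientGroup.ker_mk']) x y
  rw [hZ, hn] at hS2
  -- the exponent is even
  have habs : S.natAbs * S.natAbs = 2 ^ (d + 1 + e) := by
    rw [← Int.natAbs_mul, hS2]
    simp [Int.natAbs_mul, Int.natAbs_pow, pow_add]
  obtain ⟨k, -, hk⟩ := (Nat.dvd_prime_pow Nat.prime_two).mp (Dvd.intro _ habs)
  have hek : d + 1 + e = 2 * k := by
    rw [hk, ← pow_add] at habs
    have := Nat.pow_right_injective le_rfl habs
    omega
  have hSk : S = 2 ^ k ∨ S = -2 ^ k := by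
    rcases Int.natAbs_eq S with h | h <;> rw [hk] at h <;> simp at h
    · exact Or.inl h
    · exact Or.inr h
  have hk1 : (2 : ℤ) ^ k = 2 * ((2 ^ (k - 1) : ℕ) : ℤ) := by
    rw [Nat.cast_pow, Nat.cast_ofNat, ← pow_succ', show k - 1 + 1 = k by omega]
  have hj' : j = 2 ^ d + 2 ^ (k - 1) ∨ j + 2 ^ (k - 1) = 2 ^ d := by
    rw [hj, hn, hk1] at hSk
    have : (2 : ℕ) ^ (d + 1) = 2 * 2 ^ d := pow_succ' 2 d
    omega
  refine ⟨Or.inr ⟨d + 1 - k, by omega, by omega,
    by rwa [show d - (d + 1 - k) = k - 1 by omega]⟩, fun r hr h => ?_⟩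
  have hke : k - 1 = r := by
    have hp := pow_pos (show 0 < 2 by norm_num) r
    have hp' := pow_pos (show 0 < 2 by norm_num) (k - 1)
    refine Nat.pow_right_injective (le_refl 2) ?_
    show 2 ^ (k - 1) = 2 ^ r
    omega
  have he' : e = 1 := by omega
  have hZΦ : frattini G = Z := Subgroup.eq_of_le_of_card_ge hΦZ (by rw [hΦ, he, he', pow_one])
  refine ⟨⟨hG, hZΦ, le_antisymm ((H6.commutator_le_frattini hG).trans hZΦ.le) ?_⟩,
    by show Nat.card Z = 2; rw [he, he', pow_one]⟩
  intro g hg
  rw [show Subgroup.center G = Z from rfl, ← hZΦ] at hg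
  rcases hcases g hg with rfl | rfl
  · exact one_mem _
  push Not at hnab
  obtain ⟨x, y, hxy⟩ := hnab
  have h3 : (y * x)⁻¹ * (x * y) ∈ commutator G := by
    have := Subgroup.commutator_mem_commutator (Subgroup.mem_top x⁻¹) (Subgroup.mem_top y⁻¹)
    rw [commutatorElement_def, ← commutator_def] at this
    convert this using 1
    group
  rcases hcom x y with h | h
  · exact absurd h hxy
  · rwa [h, inv_mul_cancel_left] at h3

end Cfsg.Agent.S3772
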