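import Cfsg.Statements.S3773
import Cfsg.Agent.H30.SquareMap

set_option autoImplicit false
open Cfsg
open scoped commutatorElement

namespace Cfsg.Agent.S3773

/-- Let G be a finite 2-group of nilpotency class at most 2 and exponent dividing 4 in which the elements x with x² = 1 form a subgroup N. Then |G| ≤ |N|³, and |G| < |N|³ unless G is special. -/
theorem result {G : Type*} [Group G] [Finite G] (hG : IsPGroup 2 G) (hcl : (⊤ : Subgroup G).lowerCentralSeries 2 = ⊥) (hexp : ∀ x : G, x ^ 4 = 1) (hN : ∀ x y : G, x ^ 2 = 1 → y ^ 2 = 1 → (x * y) ^ 2 = 1) : Nat.card G ≤ Nat.card {x : G // x ^ 2 = 1} ^ 3 ∧ (¬ Cfsg.IsSpecial 2 G → Nat.card G < Nat.card {x : G // x ^ 2 = 1} ^ 3) := by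
  let N : Subgroup G :=
    { carrier := {x | x ^ 2 = 1}
      one_mem' := one_pow 2
      mul_mem' := fun {x y} (hx : x ^ 2 = 1) (hy : y ^ 2 = 1) => hN x y hx hy
      inv_mem' := fun {x} (hx : x ^ 2 = 1) => by show x⁻¹ ^ 2 = 1; rw [inv_pow, hx, inv_one] }
  refine H30.card_le_cube hG (fun x y => ?_) hexp N (fun x => Iff.rfl)
  rw [Subgroup.mem_center_iff]
  intro g
  have h1 : ⁅x⁻¹, y⁻¹⁆ ∈ (⊤ : Subgroup G).lowerCentralSeries 1 := by
    rw [Subgroup.lowerCentralSeries_succ, Subgroup.lowerCentralSeries_zero]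
    exact Subgroup.commutator_mem_commutator (Subgroup.mem_top _) (Subgroup.mem_top _)
  have h2 : ⁅⁅x⁻¹, y⁻¹⁆, g⁆ ∈ (⊤ : Subgroup G).lowerCentralSeries 2 := by
    rw [Subgroup.lowerCentralSeries_succ]
    exact Subgroup.commutator_mem_commutator h1 (Subgroup.mem_top _)
  rw [hcl, Subgroup.mem_bot, commutatorElement_eq_one_iff_mul_comm, commutatorElement_def, inv_inv, inv_inv] at h2
  exact h2.symm

end Cfsg.Agent.S3773
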