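import Cfsg.Statements.S3774
-- import your own Cfsg.Agent.* helpers here

set_option autoImplicit false
open Cfsg

namespace Cfsg.Agent.S3774

/-- Let G be a nontrivial finite 2-group whose automorphism group permutes the involutions of G transitively. Then every involution of G is central, so that the involutions together with 1 form the subgroup Ω₁(Z(G)), and if this subgroup has order q then |G| is a power of q. -/
theorem result {G : Type*} [Group G] [Finite G] [Nontrivial G] (hG : IsPGroup 2 G) (htrans : ∀ x y : G, x ≠ 1 → x ^ 2 = 1 → y ≠ 1 → y ^ 2 = 1 → ∃ a : MulAut G, a x = y) : (∀ x : G, x ^ 2 = 1 → x ∈ Subgroup.center G) ∧ ∃ m : ℕ, Nat.card G = Nat.card {z : G // z ^ 2 = 1} ^ m := by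
  haveI : Fact (Nat.Prime 2) := ⟨Nat.prime_two⟩
  haveI := hG.center_nontrivial
  obtain ⟨⟨c, hc⟩, hc1⟩ := exists_ne (1 : Subgroup.center G)
  have heven : ∀ g : G, g ≠ 1 → ∃ j : ℕ, orderOf g = 2 ^ j * 2 := by
    intro g hg
    obtain ⟨k, hk⟩ := hG g
    obtain ⟨j, -, hj⟩ := (Nat.dvd_prime_pow Nat.prime_two).1 (orderOf_dvd_of_pow_eq_one hk)
    rcases j with _ | j
    · exact absurd (orderOf_eq_one_iff.1 (by simpa using hj)) hg
    · exact ⟨j, by rw [hj, pow_succ]⟩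
  let f : {g : G // g ≠ 1} → {x : G // x ≠ 1 ∧ x ^ 2 = 1} := fun g =>
    ⟨g.1 ^ (orderOf g.1 / 2), by
      obtain ⟨j, hj⟩ := heven g.1 g.2
      rw [hj, Nat.mul_div_cancel _ (by norm_num : 0 < 2)]
      refine ⟨pow_ne_one_of_lt_orderOf (pow_ne_zero _ (by norm_num)) ?_, ?_⟩
      · rw [hj]; have := Nat.two_pow_pos j; omega
      · rw [← pow_mul, ← hj, pow_orderOf_eq_one]⟩
  obtain ⟨z, hz⟩ : ∃ z : {x : G // x ≠ 1 ∧ x ^ 2 = 1}, z.1 ∈ Subgroup.center G := by
    have hc1' : c ≠ 1 := fun h => hc1 (Subtype.ext h)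
    exact ⟨f ⟨c, hc1'⟩, Subgroup.pow_mem _ hc _⟩
  have hcent : ∀ x : G, x ^ 2 = 1 → x ∈ Subgroup.center G := by
    intro x hx
    by_cases hx1 : x = 1
    · rw [hx1]; exact one_mem _
    obtain ⟨a, rfl⟩ := htrans z.1 x z.2.1 z.2.2 hx1 hx
    rw [Subgroup.mem_center_iff]
    intro g
    apply a.symm.injective
    simp only [map_mul, MulEquiv.symm_apply_apply]
    exact Subgroup.mem_center_iff.1 hz _
  refine ⟨hcent, ?_⟩
  -- the involutions with `1` form a subgroup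
  let E : Subgroup G :=
    { carrier := {x | x ^ 2 = 1}
      one_mem' := one_pow 2
      mul_mem' := fun {x y} (hx : x ^ 2 = 1) (hy : y ^ 2 = 1) => by
        show (x * y) ^ 2 = 1
        rw [(show Commute x y from (Subgroup.mem_center_iff.1 (hcent y hy) x)).mul_pow, hx, hy, mul_one]
      inv_mem' := fun {x} (hx : x ^ 2 = 1) => by
        show x⁻¹ ^ 2 = 1
        rw [inv_pow, hx, inv_one] }
  obtain ⟨k, hk⟩ : ∃ k, Nat.card E = 2 ^ k := IsPGroup.iff_card.1 (hG.to_subgroup E)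
  obtain ⟨m, hm⟩ : ∃ m, Nat.card G = 2 ^ m := IsPGroup.iff_card.1 hG
  have hk' : Nat.card {z : G // z ^ 2 = 1} = 2 ^ k := hk
  -- the fibres of `f` are equipotent
  have hfib : ∀ y : {x : G // x ≠ 1 ∧ x ^ 2 = 1}, Nonempty ({g // f g = y} ≃ {g // f g = z}) := by
    intro y
    obtain ⟨a, ha⟩ := htrans y.1 z.1 y.2.1 y.2.2 z.2.1 z.2.2
    let e : {g : G // g ≠ 1} ≃ {g : G // g ≠ 1} :=
      a.toEquiv.subtypeEquiv (fun g => by simp)
    refine ⟨e.subtypeEquiv fun g => ?_⟩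
    rw [Subtype.ext_iff, Subtype.ext_iff]
    show g.1 ^ (orderOf g.1 / 2) = y.1 ↔ (a g.1) ^ (orderOf (a g.1) / 2) = z.1
    rw [MulEquiv.orderOf_eq, ← map_pow, ← ha, a.injective.eq_iff]
  let e := fun y => (hfib y).some
  have hdvd : Nat.card {x : G // x ≠ 1 ∧ x ^ 2 = 1} ∣ Nat.card {g : G // g ≠ 1} := by
    refine ⟨Nat.card {g // f g = z}, ?_⟩
    rw [← Nat.card_prod]
    exact Nat.card_congr ((Equiv.sigmaFiberEquiv f).symm.trans ((Equiv.sigmaCongrRight e).trans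
      (Equiv.sigmaEquivProd _ _)))
  have h1 : Nat.card {g : G // g ≠ 1} = 2 ^ m - 1 := by
    rw [← hm, show Nat.card {g : G // g ≠ 1} = ({1} : Set G)ᶜ.ncard from Nat.card_coe_set_eq _,
      Set.ncard_compl, Set.ncard_singleton]
  have h2 : Nat.card {x : G // x ≠ 1 ∧ x ^ 2 = 1} = 2 ^ k - 1 := by
    rw [← hk']
    have : {x : G | x ≠ 1 ∧ x ^ 2 = 1} = {x : G | x ^ 2 = 1} \ {1} := by ext x; simp [and_comm]
    show Nat.card ({x : G | x ≠ 1 ∧ x ^ 2 = 1} : Set G) = _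
    rw [Nat.card_coe_set_eq, this, Set.ncard_diff_singleton_of_mem (by simp)]
    rfl
  rw [h1, h2] at hdvd
  have hkm : k ∣ m := by
    have h3 := Nat.pow_sub_one_gcd_pow_sub_one 2 k m
    rw [Nat.gcd_eq_left hdvd] at h3
    have h4 : 2 ^ k = 2 ^ (Nat.gcd k m) := by
      have := Nat.two_pow_pos k; have := Nat.two_pow_pos (Nat.gcd k m); omega
    rw [Nat.pow_right_injective (le_refl 2) h4]
    exact Nat.gcd_dvd_right k m
  obtain ⟨d, hd⟩ := hkm
  exact ⟨d, by rw [hm, hk', hd, pow_mul]⟩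

end Cfsg.Agent.S3774
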