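import Cfsg.Statements.S3775
import Mathlib
import Cfsg.Agent.H29.AbelianInvariantSplit

set_option autoImplicit false
open Cfsg

namespace Cfsg.Agent.S3775

/-- Let A be a finite abelian p-group and X a group of automorphisms of A of order prime to p. Call a subgroup of A invariant when every element of X maps it onto itself. Then the following are equivalent: (i) A is not the direct product of two nontrivial invariant subgroups; (ii) every invariant subgroup of A is one of the subgroups Ω_i(A) = {a : a^(p^i) = 1}; (iii) the subgroup Ω₁(A) of elements of order dividing p has no invariant subgroups other than 1 and itself. -/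
theorem result {A : Type*} [CommGroup A] [Finite A] {p : ℕ} [Fact p.Prime] (hA : IsPGroup p A) (X : Subgroup (MulAut A)) (hX : (Nat.card X).Coprime p) : ((¬ ∃ B C : Subgroup A, B ≠ ⊥ ∧ C ≠ ⊥ ∧ (∀ x ∈ X, B.map x.toMonoidHom = B) ∧ (∀ x ∈ X, C.map x.toMonoidHom = C) ∧ B ⊓ C = ⊥ ∧ B ⊔ C = ⊤) ↔ (∀ B : Subgroup A, (∀ x ∈ X, B.map x.toMonoidHom = B) → ∃ i : ℕ, ∀ a : A, a ∈ B ↔ a ^ p ^ i = 1)) ∧ ((∀ B : Subgroup A, (∀ x ∈ X, B.map x.toMonoidHom = B) → ∃ i : ℕ, ∀ a : A, a ∈ B ↔ a ^ p ^ i = 1) ↔ (∀ B : Subgroup A, (∀ x ∈ X, B.map x.toMonoidHom = B) → (∀ b ∈ B, b ^ p = 1) → B = ⊥ ∨ ∀ a : A, a ∈ B ↔ a ^ p = 1)) := by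
  classical
  have hp : p.Prime := Fact.out
  have hinv : ∀ B : Subgroup A, (∀ x ∈ X, B.map x.toMonoidHom = B) ↔ (∀ x ∈ X, ∀ a ∈ B, x a ∈ B) := by
    intro B
    refine ⟨fun h x hx a ha => (h x hx).le ⟨a, ha, rfl⟩, fun h x hx => le_antisymm ?_ fun a ha => ?_⟩
    · rintro _ ⟨a, ha, rfl⟩; exact h x hx a ha
    · exact ⟨x.symm a, h _ (inv_mem hx) a ha, x.apply_symm_apply a⟩
  have hpn : ∀ a : A, a ≠ 1 → ∀ B : Subgroup A, a ∈ B → ∃ z ∈ B, z ≠ 1 ∧ z ^ p = 1 := by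
    intro a ha B haB
    obtain ⟨k, hk⟩ := hA a
    induction k generalizing a with
    | zero => exact absurd (by simpa using hk) ha
    | succ k ih =>
      by_cases h : a ^ p = 1
      · exact ⟨a, haB, ha, h⟩
      · exact ih (a ^ p) h (pow_mem haB p) (by rw [← pow_mul, ← pow_succ']; exact hk)
  -- (ii) → (i)
  have h21 : (∀ B : Subgroup A, (∀ x ∈ X, B.map x.toMonoidHom = B) → ∃ i : ℕ, ∀ a : A, a ∈ B ↔ a ^ p ^ i = 1) →
      ¬ ∃ B C : Subgroup A, B ≠ ⊥ ∧ C ≠ ⊥ ∧ (∀ x ∈ X, B.map x.toMonoidHom = B) ∧ (∀ x ∈ X, C.map x.toMonoidHom = C) ∧ B ⊓ C = ⊥ ∧ B ⊔ C = ⊤ := by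
    rintro h ⟨B, C, hB, hC, hBi, hCi, hint, -⟩
    obtain ⟨i, hi⟩ := h B hBi
    obtain ⟨j, hj⟩ := h C hCi
    obtain ⟨a, haB, ha⟩ := B.bot_or_exists_ne_one.resolve_left hB
    obtain ⟨c, hcC, hc⟩ := C.bot_or_exists_ne_one.resolve_left hC
    obtain ⟨z, hzB, hz1, hzp⟩ := hpn a ha B haB
    rcases j with _ | j
    · exact hc (by simpa using (hj c).mp hcC)
    · refine hz1 ?_
      have hzC : z ∈ C := (hj z).mpr (by rw [pow_succ', pow_mul, hzp, one_pow])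
      have : z ∈ B ⊓ C := ⟨hzB, hzC⟩
      rwa [hint, Subgroup.mem_bot] at this
  -- (ii) → (iii)
  have h23 : (∀ B : Subgroup A, (∀ x ∈ X, B.map x.toMonoidHom = B) → ∃ i : ℕ, ∀ a : A, a ∈ B ↔ a ^ p ^ i = 1) →
      (∀ B : Subgroup A, (∀ x ∈ X, B.map x.toMonoidHom = B) → (∀ b ∈ B, b ^ p = 1) → B = ⊥ ∨ ∀ a : A, a ∈ B ↔ a ^ p = 1) := by
    intro h B hBi hB1
    obtain ⟨i, hi⟩ := h B hBi
    rcases i with _ | i
    · left; rw [Subgroup.eq_bot_iff_forall]; intro a ha; simpa using (hi a).mp ha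
    · exact Or.inr fun a => ⟨hB1 a, fun ha => (hi a).mpr (by rw [pow_succ', pow_mul, ha, one_pow])⟩
  -- (iii) → (ii)
  have h32 : (∀ B : Subgroup A, (∀ x ∈ X, B.map x.toMonoidHom = B) → (∀ b ∈ B, b ^ p = 1) → B = ⊥ ∨ ∀ a : A, a ∈ B ↔ a ^ p = 1) →
      (∀ B : Subgroup A, (∀ x ∈ X, B.map x.toMonoidHom = B) → ∃ i : ℕ, ∀ a : A, a ∈ B ↔ a ^ p ^ i = 1) := by
    intro h
    have key : ∀ i : ℕ, ∀ B : Subgroup A, (∀ x ∈ X, ∀ a ∈ B, x a ∈ B) → (∀ b ∈ B, b ^ p ^ (i + 1) = 1) →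
        (∃ b ∈ B, b ^ p ^ i ≠ 1) → ∀ a : A, a ^ p ^ (i + 1) = 1 → a ∈ B := by
      intro i
      induction i with
      | zero =>
        rintro B hBi hB ⟨b, hb, hb1⟩ a ha
        rcases h B ((hinv B).mpr hBi) (by simpa using hB) with h0 | h0
        · rw [h0, Subgroup.mem_bot] at hb; exact absurd (by simp [hb]) hb1
        · exact (h0 a).mpr (by simpa using ha)
      | succ i ih =>
        rintro B hBi hB ⟨b, hb, hb1⟩ a ha
        have hD : ∀ k : ℕ, (∀ x ∈ X, ∀ a ∈ B.map (powMonoidHom k : A →* A), x a ∈ B.map (powMonoidHom k : A →* A)) := by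
          rintro k x hx _ ⟨c, hc, rfl⟩
          exact ⟨x c, hBi x hx c hc, (map_pow x c k).symm⟩
        rcases h (B.map (powMonoidHom (p ^ (i + 1)) : A →* A)) ((hinv _).mpr (hD _)) (by
          rintro _ ⟨c, hc, rfl⟩
          show (c ^ p ^ (i + 1)) ^ p = 1
          rw [← pow_mul, ← pow_succ]; exact hB c hc) with h0 | h0
        · exact absurd (Subgroup.mem_bot.mp (h0.le ⟨b, hb, rfl⟩)) hb1
        · obtain ⟨c, hc, hca⟩ := (h0 (a ^ p ^ (i + 1))).mpr (by rw [← pow_mul, ← pow_succ]; exact ha)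
          have hca' : c ^ p ^ (i + 1) = a ^ p ^ (i + 1) := hca
          have hsmall : a * c⁻¹ ∈ B.map (powMonoidHom p : A →* A) := by
            refine ih _ (hD p) ?_ ⟨b ^ p, ⟨b, hb, rfl⟩, ?_⟩ _ (by rw [mul_pow, inv_pow, hca', mul_inv_cancel])
            · rintro _ ⟨d, hd, rfl⟩
              show (d ^ p) ^ p ^ (i + 1) = 1
              rw [← pow_mul, ← pow_succ']; exact hB d hd
            · rw [← pow_mul, ← pow_succ']; exact hb1
          obtain ⟨d, hd, hd'⟩ := hsmall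
          have hd'' : d ^ p = a * c⁻¹ := hd'
          rw [show a = d ^ p * c by rw [hd'', inv_mul_cancel_right]]
          exact mul_mem (pow_mem hd p) hc
    intro B hBi
    obtain ⟨i, hi, hmin⟩ : ∃ i, (∀ b ∈ B, b ^ p ^ i = 1) ∧ ∀ j < i, ∃ b ∈ B, b ^ p ^ j ≠ 1 := by
      obtain ⟨n, hn⟩ := hA.exists_card_eq
      have hex : ∃ i, ∀ b ∈ B, b ^ p ^ i = 1 := ⟨n, fun b _ => by rw [← hn]; exact pow_card_eq_one'⟩
      refine ⟨Nat.find hex, Nat.find_spec hex, fun j hj => ?_⟩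
      have := Nat.find_min hex hj
      push Not at this
      exact this
    refine ⟨i, fun a => ⟨hi a, fun ha => ?_⟩⟩
    rcases i with _ | i
    · have : a = 1 := by simpa using ha
      rw [this]; exact one_mem B
    · exact key i B ((hinv B).mp hBi) hi (hmin i (Nat.lt_succ_self i)) a ha
  -- (i) → (iii)
  have h13 : (¬ ∃ B C : Subgroup A, B ≠ ⊥ ∧ C ≠ ⊥ ∧ (∀ x ∈ X, B.map x.toMonoidHom = B) ∧ (∀ x ∈ X, C.map x.toMonoidHom = C) ∧ B ⊓ C = ⊥ ∧ B ⊔ C = ⊤) →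
      (∀ B : Subgroup A, (∀ x ∈ X, B.map x.toMonoidHom = B) → (∀ b ∈ B, b ^ p = 1) → B = ⊥ ∨ ∀ a : A, a ∈ B ↔ a ^ p = 1) := by
    intro hind
    by_cases htriv : ∀ a : A, a = 1
    · intro B _ _
      exact Or.inl (Subgroup.eq_bot_iff_forall _ |>.mpr fun a _ => htriv a)
    obtain ⟨n, hn⟩ := hA.exists_card_eq
    have hex : ∃ i, ∀ a : A, a ^ p ^ i = 1 := ⟨n, fun a => by rw [← hn]; exact pow_card_eq_one'⟩
    obtain ⟨d, hd, hd'⟩ : ∃ d, (∀ a : A, a ^ p ^ (d + 1) = 1) ∧ ∃ a : A, a ^ p ^ d ≠ 1 := by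
      have hpos : Nat.find hex ≠ 0 := by
        intro h0
        have := Nat.find_spec hex
        rw [h0] at this
        exact htriv fun a => by simpa using this a
      obtain ⟨d, hd⟩ := Nat.exists_eq_succ_of_ne_zero hpos
      refine ⟨d, fun a => ?_, ?_⟩
      · have := Nat.find_spec hex a
        rwa [hd] at this
      have := Nat.find_min hex (m := d) (by omega)
      push Not at this
      exact this
    set Ω : Subgroup A := (powMonoidHom p : A →* A).ker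
    have hΩi : ∀ x ∈ X, ∀ a ∈ Ω, x a ∈ Ω := fun x _ a ha => by
      show (x a) ^ p = 1
      rw [← map_pow, show a ^ p = 1 from ha, map_one]
    have hcopB : ∀ B : Subgroup A, (Nat.card X).Coprime (Nat.card B) := fun B => by
      obtain ⟨k, hk⟩ := (hA.to_subgroup B).exists_card_eq
      rw [hk]; exact hX.pow_right k
    have main : ∀ B : Subgroup A, (∀ x ∈ X, ∀ a ∈ B, x a ∈ B) → (∀ b ∈ B, b ^ p = 1) →
        (∀ b ∈ B, ∃ c, c ^ p ^ d = b) → B ≠ ⊥ → ∀ a, a ^ p = 1 → a ∈ B := by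
      intro B hBi hB1 hBd hBne
      have hBΩ : B ≤ Ω := hB1
      obtain ⟨C₀, -, hC₀, hC₀B, hC₀s⟩ := H29.exists_complement_elementary hp Ω B ⊥ hBΩ bot_le (bot_inf_eq B)
        (fun a ha => by rw [Subgroup.mem_bot]; exact ha)
      obtain ⟨T, hTi, -, hTΩ, hTB, hTs⟩ := H29.exists_invariant_complement X Ω B ⊥ C₀ (hcopB B) hΩi hBi
        (fun x _ a ha => by rw [Subgroup.mem_bot] at ha ⊢; rw [ha, map_one]) bot_le hC₀ hBΩ hC₀B hC₀s
      obtain ⟨E, hTE, hE⟩ := exists_maximal_ge_of_wellFoundedGT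
        (fun E : Subgroup A => (∀ x ∈ X, ∀ a ∈ E, x a ∈ E) ∧ E ⊓ B = ⊥) T ⟨hTi, hTB⟩
      let M : Subgroup A := E.comap (powMonoidHom p : A →* A)
      have hMi : ∀ x ∈ X, ∀ a ∈ M, x a ∈ M := fun x hx a ha => by
        show (x a) ^ p ∈ E
        rw [← map_pow]; exact hE.1.1 x hx _ ha
      have hEM : E ≤ M := fun a ha => pow_mem ha p
      have hBM : B ≤ M := fun b hb => show b ^ p ∈ E by rw [hB1 b hb]; exact one_mem E
      obtain ⟨C₁, hEC₁, hC₁, hC₁B, hC₁s⟩ := H29.exists_complement_elementary hp M B E hBM hEM hE.1.2 (fun a ha => ha)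
      obtain ⟨C₂, hC₂i, hEC₂, -, hC₂B, hC₂s⟩ := H29.exists_invariant_complement X M B E C₁ (hcopB B) hMi hBi
        hE.1.1 hEC₁ hC₁ hBM hC₁B hC₁s
      have hC₂E : C₂ ≤ E := hE.2 ⟨hC₂i, hC₂B⟩ hEC₂
      obtain ⟨C₃, hC₃E, hC₃s⟩ := H29.exists_complement_homocyclic d hd E fun a ha => by
        have haM : a ∈ C₂ ⊔ B := hC₂s ▸ (show a ∈ M from ha)
        obtain ⟨u, hu, b, hb, rfl⟩ := Subgroup.mem_sup.mp haM
        obtain ⟨c, hc⟩ := hBd b hb
        exact ⟨c, by rw [hc, mul_inv_cancel_right]; exact hC₂E hu⟩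
      obtain ⟨F, hFi, -, -, hFE, hFs⟩ := H29.exists_invariant_complement X ⊤ E ⊥ C₃ (hcopB E)
        (fun _ _ _ _ => Subgroup.mem_top _) hE.1.1
        (fun x _ a ha => by rw [Subgroup.mem_bot] at ha ⊢; rw [ha, map_one]) bot_le le_top le_top hC₃E hC₃s
      have hEbot : E = ⊥ := by
        by_contra hEne
        refine hind ⟨F, E, ?_, hEne, (hinv F).mpr hFi, (hinv E).mpr hE.1.1, hFE, hFs⟩
        rintro rfl
        rw [bot_sup_eq] at hFs
        exact hBne (by rw [← hE.1.2, hFs, top_inf_eq])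
      intro a ha
      have : a ∈ T ⊔ B := hTs ▸ (show a ∈ Ω from ha)
      rwa [le_bot_iff.mp (hTE.trans hEbot.le), bot_sup_eq] at this
    -- the bottom layer is everything
    have hbottom : ∀ a : A, a ^ p = 1 → ∃ c, c ^ p ^ d = a := by
      obtain ⟨a₀, ha₀⟩ := hd'
      refine main (powMonoidHom (p ^ d) : A →* A).range ?_ ?_ (fun b hb => hb) ?_
      · rintro x - _ ⟨c, rfl⟩; exact ⟨x c, (map_pow x c _).symm⟩
      · rintro _ ⟨c, rfl⟩; show (c ^ p ^ d) ^ p = 1; rw [← pow_mul, ← pow_succ]; exact hd c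
      · exact fun h0 => ha₀ (Subgroup.mem_bot.mp (h0.le ⟨a₀, rfl⟩))
    intro B hBi hB1
    by_cases hBne : B = ⊥
    · exact Or.inl hBne
    · exact Or.inr fun a => ⟨hB1 a, main B ((hinv B).mp hBi) hB1 (fun b hb => hbottom b (hB1 b hb)) hBne a⟩
  exact ⟨⟨fun h => h32 (h13 h), h21⟩, ⟨h23, h32⟩⟩

end Cfsg.Agent.S3775
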