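import Cfsg.Statements.S3776
import Cfsg.Agent.H29.HigmanSolvSq2
import Cfsg.Agent.H31.Basic
import Cfsg.Agent.H6.Basic

set_option autoImplicit false
open Cfsg
open scoped commutatorElement

namespace Cfsg.Agent.S3776

/-- Let G be a finite non-abelian 2-group with more than one involution admitting a solvable group of automorphisms that permutes its involutions transitively. Then the derived subgroup, the Frattini subgroup and the centre of G coincide and consist exactly of the elements x with x² = 1. -/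
theorem result {G : Type*} [Group G] [Finite G] (hG : IsPGroup 2 G) (hna : ¬ IsMulCommutative G) (htwo : ∃ x y : G, x ≠ y ∧ x ≠ 1 ∧ x ^ 2 = 1 ∧ y ≠ 1 ∧ y ^ 2 = 1) (hY : ∃ Y : Subgroup (MulAut G), Group.IsSolvable Y ∧ ∀ x y : G, x ≠ 1 → x ^ 2 = 1 → y ≠ 1 → y ^ 2 = 1 → ∃ a ∈ Y, a x = y) : commutator G = frattini G ∧ frattini G = Subgroup.center G ∧ ∀ x : G, x ∈ Subgroup.center G ↔ x ^ 2 = 1 := by
  classical
  obtain ⟨Y, hsol, htr⟩ := hY
  haveI : Fact (Nat.Prime 2) := ⟨Nat.prime_two⟩
  haveI : Finite (MulAut G) := Finite.of_injective _ DFunLike.coe_injective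
  letI : MulDistribMulAction Y G := MulDistribMulAction.compHom G Y.subtype
  have htrans : ∀ x y : G, x ≠ 1 → x * x = 1 → y ≠ 1 → y * y = 1 → ∃ k : Y, k • x = y :=
    fun x y hx1 hx hy1 hy => by
      obtain ⟨a, ha, h⟩ := htr x y hx1 (by rw [pow_two, hx]) hy1 (by rw [pow_two, hy])
      exact ⟨⟨a, ha⟩, h⟩
  have htwo' : ∃ x y : G, x ≠ y ∧ x ≠ 1 ∧ x * x = 1 ∧ y ≠ 1 ∧ y * y = 1 := by
    simpa only [pow_two] using htwo
  have hnab : ∃ x y : G, x * y ≠ y * x := by
    by_contra h
    push Not at h
    exact hna ⟨⟨h⟩⟩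
  obtain ⟨F, iF, ⟨R⟩⟩ := Cfsg.Agent.H29.HigSolv.exists_frame hsol hG htrans htwo'
  have hcomm : ∀ x y : G, x * x = 1 → y * y = 1 → x * y = y * x := fun x y _ hy =>
    Subgroup.mem_center_iff.mp (Cfsg.Agent.H29.HigSolv.invol_central_of_trans hG htrans hy) x
  have hF : Cfsg.Agent.H29.HigSolv.Ctx G Y F :=
    { data := ⟨hG, htrans, fun β hv => R.weight β hv hcomm⟩
      frame := R
      nonabelian := hnab }
  have hcenter : ∀ x : G, x ∈ Subgroup.center G ↔ x * x = 1 := fun x =>
    Cfsg.Agent.H29.HigSolv.mem_center_iff_sq hF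
  have h1 : frattini G ≤ Subgroup.center G :=
    H31.frattini_le_of_pow_mem Nat.prime_two _ (by
      rw [commutator_def, Subgroup.commutator_le]
      intro x _ y _
      exact Cfsg.Agent.H29.HigSolv.comm_central hF x y)
      (fun x => by rw [pow_two]; exact Cfsg.Agent.H29.HigSolv.sq_central hF x)
  have h2 : commutator G ≤ frattini G := H6.commutator_le_frattini hG
  have h3 : Subgroup.center G ≤ commutator G := fun z hz => by
    refine Cfsg.Agent.H29.HigSolv.invol_mem hF.data ?_ (fun k x hx => ?_) ((hcenter z).mp hz)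
    · intro h
      obtain ⟨x, y, hxy⟩ := hnab
      have hm : ⁅x, y⁆ ∈ commutator G := by
        rw [commutator_def]
        exact Subgroup.commutator_mem_commutator (Subgroup.mem_top x) (Subgroup.mem_top y)
      rw [h, Subgroup.mem_bot, commutatorElement_eq_one_iff_mul_comm] at hm
      exact hxy hm
    · haveI : (commutator G).Characteristic := inferInstance
      have := Subgroup.characteristic_iff_map_eq.mp this (k : MulAut G)
      exact this ▸ Subgroup.mem_map_of_mem _ hx
  exact ⟨le_antisymm h2 (h1.trans h3), le_antisymm h1 (h3.trans h2),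
    fun x => by rw [hcenter x, pow_two]⟩

end Cfsg.Agent.S3776
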