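import Cfsg.Statements.S3778


set_option autoImplicit false
open Cfsg

namespace Cfsg.Agent.S3778

set_option linter.all false

open Subgroup in
theorem index_ge_prime {G : Type*} [Group G] [Finite G] {p : ℕ} [hp : Fact p.Prime] (hG : IsPGroup p G)
    {H : Subgroup G} (hH : H ≠ ⊤) : p ≤ H.index := by
  obtain ⟨k, hk⟩ := hG.index H
  rcases k with _ | k
  · rw [pow_zero, index_eq_one] at hk; exact absurd hk hH
  · rw [hk]; exact Nat.le_self_pow k.succ_ne_zero p

open Subgroup in
theorem relIndex_ge_prime {G : Type*} [Group G] [Finite G] {p : ℕ} [hp : Fact p.Prime] (hG : IsPGroup p G)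
    {H K : Subgroup G} (hHK : ¬ K ≤ H) : p ≤ H.relIndex K :=
  index_ge_prime (hG.to_subgroup K) (fun h => hHK (subgroupOf_eq_top.1 h))

/-- If G is a finite p-group in which every conjugacy class has at most p^b elements (every element has centralizer of index at most p^b), then G is abelian when b = 0, and when b ≥ 1 its nilpotency class c satisfies (c − 1)(p − 1) < bp, that is c < bp/(p − 1) + 1, and hence c ≤ 2b. -/
theorem result {G : Type*} [Group G] [Finite G] {p : ℕ} [Fact p.Prime] (hG : IsPGroup p G) (b : ℕ) (hb : ∀ x : G, (Subgroup.centralizer ({x} : Set G)).index ≤ p ^ b) : ∃ c : ℕ, (⊤ : Subgroup G).lowerCentralSeries c = ⊥ ∧ (b ≠ 0 → (c - 1) * (p - 1) < b * p ∧ c ≤ 2 * b) ∧ (b = 0 → c ≤ 1) := by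
  classical
  haveI := Fintype.ofFinite G
  have hp : p.Prime := Fact.out
  haveI := hG.isNilpotent
  have h0 := Subgroup.nilpotent_iff_lowerCentralSeries.1 (inferInstance : Group.IsNilpotent G)
  set γ := (⊤ : Subgroup G).lowerCentralSeries with hγ
  set c := Nat.find h0 with hcdef
  have hc : γ c = ⊥ := Nat.find_spec h0
  have hstep : ∀ i, i + 1 < c → ¬ γ (i + 1) ≤ γ (i + 2) := by
    intro i hi hle
    have hconst : ∀ k, γ (i + 1) ≤ γ (i + 1 + k) := by
      intro k
      induction k with
      | zero => exact le_rfl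
      | succ k ih =>
        refine hle.trans ?_
        show ⁅γ (i + 1), (⊤ : Subgroup G)⁆ ≤ ⁅γ (i + 1 + k), (⊤ : Subgroup G)⁆
        exact Subgroup.commutator_mono ih le_rfl
    refine Nat.find_min h0 hi (eq_bot_iff.2 ((hconst (c - (i + 1))).trans ?_))
    rw [Nat.add_sub_cancel' hi.le]
    exact hc.le
  haveI hγn : ∀ i, (γ i).Normal := fun i => inferInstance
  -- two-step centralisers
  let D : ℕ → Subgroup G := fun i =>
    (Subgroup.centralizer (((γ i).map (QuotientGroup.mk' (γ (i + 2))) : Subgroup (G ⧸ γ (i + 2))) :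
      Set (G ⧸ γ (i + 2)))).comap (QuotientGroup.mk' (γ (i + 2)))
  have hD : ∀ i (x : G), x ∈ D i ↔ ∀ y ∈ γ i, y * x * y⁻¹ * x⁻¹ ∈ γ (i + 2) := by
    intro i x
    show QuotientGroup.mk' (γ (i + 2)) x ∈ Subgroup.centralizer _ ↔ _
    rw [Subgroup.mem_centralizer_iff]
    constructor
    · intro h y hy
      rw [← QuotientGroup.eq_one_iff]
      have h1 := h _ ⟨y, hy, rfl⟩
      show QuotientGroup.mk' (γ (i + 2)) (y * x * y⁻¹ * x⁻¹) = 1
      rw [map_mul, map_mul, map_mul, map_inv, map_inv, h1, mul_inv_cancel_right, mul_inv_cancel]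
    · rintro h _ ⟨y, hy, rfl⟩
      have h1 : QuotientGroup.mk' (γ (i + 2)) (y * x * y⁻¹ * x⁻¹) = 1 :=
        (QuotientGroup.eq_one_iff _).2 (h y hy)
      rw [map_mul, map_mul, map_mul, map_inv, map_inv, mul_inv_eq_one, mul_inv_eq_iff_eq_mul] at h1
      exact h1
  have hDne : ∀ i, i + 1 < c → D i ≠ ⊤ := by
    intro i hi htop
    refine hstep i hi ?_
    show ⁅γ i, (⊤ : Subgroup G)⁆ ≤ γ (i + 2)
    rw [Subgroup.commutator_le]
    intro y hy x _
    rw [commutatorElement_def]
    exact (hD i x).1 (htop ▸ Subgroup.mem_top x) y hy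
  -- the breadth bound
  have hbr : ∀ x : G, ((Finset.range (c - 1)).filter fun i => x ∉ D i).card ≤ b := by
    intro x
    set C := Subgroup.centralizer ({x} : Set G) with hC
    have key : ∀ k ≤ c - 1, p ^ ((Finset.range k).filter fun i => x ∉ D i).card ≤ (γ k ⊔ C).index := by
      intro k
      induction k with
      | zero => intro _; simp [Nat.one_le_iff_ne_zero, Subgroup.index_ne_zero_of_finite]
      | succ k ih =>
        intro hk
        have ih := ih (by omega)
        have hle : γ (k + 1) ⊔ C ≤ γ k ⊔ C :=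
          sup_le_sup_right ((⊤ : Subgroup G).lowerCentralSeries_antitone (Nat.le_succ k)) C
        rw [← Subgroup.relIndex_mul_index hle]
        by_cases hx : x ∈ D k
        · rw [Finset.range_add_one, Finset.filter_insert, if_neg (not_not.2 hx)]
          refine ih.trans (Nat.le_mul_of_pos_left _ (Nat.pos_of_ne_zero ?_))
          exact Subgroup.index_ne_zero_of_finite
        · rw [Finset.range_add_one, Finset.filter_insert, if_pos hx,
            Finset.card_insert_of_notMem (by simp), pow_succ']
          refine Nat.mul_le_mul (relIndex_ge_prime hG ?_) ih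
          intro hle'
          refine hx ((hD k x).2 fun y hy => ?_)
          obtain ⟨w, hw, u, hu, rfl⟩ := Subgroup.mem_sup_of_normal_left.1 (hle' (Subgroup.mem_sup_left hy))
          have hux : u * x = x * u := Subgroup.mem_centralizer_singleton_iff.1 hu
          have h1 : w * u * x * (w * u)⁻¹ * x⁻¹ = w * x * w⁻¹ * x⁻¹ := by
            rw [mul_assoc w u x, hux]; group
          rw [h1, ← commutatorElement_def]
          exact Subgroup.commutator_mem_commutator hw (Subgroup.mem_top x)
    refine (Nat.pow_le_pow_iff_right hp.one_lt).1 ((key _ le_rfl).trans (le_trans ?_ (hb x)))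
    exact Nat.le_of_dvd (Nat.pos_of_ne_zero Subgroup.index_ne_zero_of_finite)
      (Subgroup.index_dvd_of_le le_sup_right)
  refine ⟨c, hc, fun hb0 => ?_, fun hb0 => ?_⟩
  · have hmain : (c - 1) * (p - 1) < b * p := by
      set G' := Fintype.card G with hG'
      have h1 : ∑ x : G, ((Finset.range (c - 1)).filter fun i => x ∉ D i).card < G' * b := by
        calc ∑ x : G, ((Finset.range (c - 1)).filter fun i => x ∉ D i).card < ∑ _x : G, b := by
              refine Finset.sum_lt_sum (fun x _ => hbr x) ⟨1, Finset.mem_univ _, ?_⟩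
              rw [Finset.filter_false_of_mem (fun i _ => not_not.2 (one_mem (D i))), Finset.card_empty]
              exact Nat.pos_of_ne_zero hb0
          _ = G' * b := by simp [hG']
      have h2 : ∑ x : G, ((Finset.range (c - 1)).filter fun i => x ∉ D i).card =
          ∑ i ∈ Finset.range (c - 1), (Finset.univ.filter fun x : G => x ∉ D i).card := by
        simp only [Finset.card_filter]
        rw [Finset.sum_comm]
      have h3 : (c - 1) * (G' * (p - 1)) ≤
          (∑ i ∈ Finset.range (c - 1), (Finset.univ.filter fun x : G => x ∉ D i).card) * p := by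
        rw [Finset.sum_mul]
        refine le_trans ?_ (Finset.card_nsmul_le_sum _ _ (G' * (p - 1)) fun i hi => ?_)
        · simp
        · rw [Finset.mem_range] at hi
          have h4 := index_ge_prime hG (hDne i (by omega))
          have h5 := (D i).card_mul_index
          rw [Nat.card_eq_fintype_card (α := G)] at h5
          have h6 : Nat.card (D i) * p ≤ G' := by
            rw [hG', ← h5]; exact Nat.mul_le_mul_left _ h4
          have h7 : (Finset.univ.filter fun x : G => x ∉ D i).card = G' - Nat.card (D i) := by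
            rw [Finset.filter_not, Finset.card_univ_sdiff, Nat.card_eq_fintype_card,
              ← Fintype.card_subtype]
          rw [h7, Nat.sub_mul, Nat.mul_sub, mul_one]
          exact Nat.sub_le_sub_left h6 _
      rw [← h2] at h3
      have h8 : G' * ((c - 1) * (p - 1)) < G' * (b * p) :=
        calc G' * ((c - 1) * (p - 1)) = (c - 1) * (G' * (p - 1)) := by ring
          _ ≤ _ := h3
          _ < G' * b * p := Nat.mul_lt_mul_of_pos_right h1 hp.pos
          _ = G' * (b * p) := by ring
      exact Nat.lt_of_mul_lt_mul_left h8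
    refine ⟨hmain, ?_⟩
    obtain ⟨k, hk⟩ : ∃ k, p = k + 2 := ⟨p - 2, by have := hp.two_le; omega⟩
    subst hk
    by_contra hlt
    have h9 : 2 * b ≤ c - 1 := by omega
    have h10 : 2 * b * (k + 1) ≤ (c - 1) * (k + 1) := Nat.mul_le_mul_right _ h9
    rw [show k + 2 - 1 = k + 1 by omega] at hmain
    nlinarith
  · refine Nat.find_min' h0 ?_
    rw [hγ, Subgroup.top_lowerCentralSeries_one, _root_.commutator_def,
      Subgroup.commutator_eq_bot_iff_le_centralizer]
    intro a _
    refine Subgroup.mem_centralizer_iff.2 fun g _ => ?_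
    have h1 := hb a
    rw [hb0, pow_zero] at h1
    have h2 : Subgroup.centralizer ({a} : Set G) = ⊤ :=
      Subgroup.index_eq_one.1 (le_antisymm h1 (Nat.pos_of_ne_zero Subgroup.index_ne_zero_of_finite))
    exact Subgroup.mem_centralizer_singleton_iff.1 (h2 ▸ Subgroup.mem_top g)

end Cfsg.Agent.S3778
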