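import Cfsg.Statements.S3780
import Mathlib
import Cfsg.Agent.H29.FrattiniBasis

set_option autoImplicit false
open Cfsg

namespace Cfsg.Agent.S3780

/-- Let V be a finite abelian p-group and α an automorphism of V of order p whose fixed-point subgroup has order p^n. Then V can be generated by pn elements: some subset of V with at most pn elements generates V. -/
theorem result {V : Type*} [CommGroup V] [Finite V] {p : ℕ} [Fact p.Prime] (hV : IsPGroup p V) (α : MulAut V) (hα : orderOf α = p) (n : ℕ) (hfix : Nat.card {v : V // α v = v} = p ^ n) : ∃ S : Finset V, S.card ≤ p * n ∧ Subgroup.closure (S : Set V) = ⊤ := by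
  classical
  have hp : p.Prime := Fact.out
  -- the elements killed by `p`
  set Ω : Subgroup V := (powMonoidHom p : V →* V).ker with hΩ
  have hmemΩ : ∀ v, v ∈ Ω ↔ v ^ p = 1 := fun v => by rw [hΩ, MonoidHom.mem_ker]; rfl
  have hαΩ : ∀ v ∈ Ω, α v ∈ Ω := fun v hv => by
    rw [hmemΩ] at hv ⊢; rw [← map_pow, hv, map_one]
  -- `f v = α v / v` on `Ω` is nilpotent of index at most `p`
  let f : Ω →* Ω :=
    { toFun := fun v => ⟨α v / v, Ω.div_mem (hαΩ v v.2) v.2⟩
      map_one' := Subtype.ext (by simp)
      map_mul' := fun u v => Subtype.ext (by simp [mul_div_mul_comm]) }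
  have hfix : Nat.card f.ker ≤ p ^ n := by
    rw [← hfix]
    refine Nat.card_le_card_of_injective (fun v => ⟨(v.1 : V), ?_⟩) ?_
    · have := congrArg Subtype.val (MonoidHom.mem_ker.mp v.2)
      exact div_eq_one.mp this
    · intro u v h
      have := congrArg Subtype.val h
      exact Subtype.ext (Subtype.ext this)
  have hnil : ∀ v : Ω, f^[p] v = 1 := by
    letI : Module (ZMod p) (Additive Ω) := AddCommGroup.zmodModule (n := p) (G := Additive Ω)
      (fun v => (Subtype.ext ((hmemΩ _).mp (Additive.toMul v).2) : (Additive.toMul v) ^ p = 1))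
    let E : Module.End (ZMod p) (Additive Ω) := AddMonoidHom.toZModLinearMap p
      ({ toFun := fun v => Additive.ofMul (⟨α (Additive.toMul v : Ω), hαΩ _ (Additive.toMul v).2⟩ : Ω)
         map_zero' := by apply Additive.toMul.injective; exact Subtype.ext (map_one α)
         map_add' := fun u v => by
          apply Additive.toMul.injective; exact Subtype.ext (map_mul α _ _) } : Additive Ω →+ Additive Ω)
    have hE : ∀ (k : ℕ) (v : Ω), (((Additive.toMul ((E ^ k) (Additive.ofMul v))) : Ω) : V) = (α ^ k) (v : V) := by
      intro k
      induction k with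
      | zero => intro v; rfl
      | succ k ih =>
        intro v
        rw [pow_succ', pow_succ']
        show α (((Additive.toMul ((E ^ k) (Additive.ofMul v))) : Ω) : V) = α ((α ^ k) (v : V))
        rw [ih]
    have hEp : E ^ p = 1 := by
      refine LinearMap.ext fun v => Additive.toMul.injective (Subtype.ext ?_)
      refine (hE p (Additive.toMul v)).trans ?_
      have h := pow_orderOf_eq_one α
      simp only [hα] at h
      simp only [h]
      rfl
    have hED : ∀ (k : ℕ) (v : Ω), Additive.toMul (((E - 1) ^ k) (Additive.ofMul v)) = f^[k] v := by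
      intro k
      induction k with
      | zero => intro v; rfl
      | succ k ih =>
        intro v
        rw [pow_succ', Function.iterate_succ_apply', ← ih v]
        rfl
    have hzero : (p : Module.End (ZMod p) (Additive Ω)) = 0 := by
      refine LinearMap.ext fun v => ?_
      rw [Module.End.natCast_apply, LinearMap.zero_apply, ← Nat.cast_smul_eq_nsmul (ZMod p),
        ZMod.natCast_self, zero_smul]
    obtain ⟨R, hR⟩ := (Commute.one_right (E - 1)).exists_add_pow_prime_eq hp
    rw [sub_add_cancel, hEp, one_pow, hzero, zero_mul, zero_mul, zero_mul, add_zero] at hR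
    intro v
    rw [← hED, right_eq_add.mp hR]
    rfl
  have hkers : ∀ k : ℕ, Nat.card {v : Ω // f^[k] v = 1} ≤ p ^ (n * k) := by
    intro k
    induction k with
    | zero =>
      haveI : Subsingleton {v : Ω // f^[0] v = 1} := ⟨fun u v => Subtype.ext (u.2.trans v.2.symm)⟩
      exact le_trans (Finite.card_le_one_iff_subsingleton.mpr inferInstance) (by simp)
    | succ k ih =>
      let K : Subgroup Ω :=
        { carrier := {v | f^[k + 1] v = 1}
          one_mem' := iterate_map_one f (k + 1)
          mul_mem' := fun {u v} hu hv => by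
            simp only [Set.mem_setOf_eq] at hu hv ⊢
            rw [iterate_map_mul, hu, hv, one_mul]
          inv_mem' := fun {u} hu => by
            simp only [Set.mem_setOf_eq] at hu ⊢
            rw [iterate_map_inv, hu, inv_one] }
      let g : K →* Ω := f.comp K.subtype
      have h1 : Nat.card g.ker ≤ p ^ n := by
        refine le_trans (Nat.card_le_card_of_injective (fun v => (⟨v.1.1, v.2⟩ : f.ker)) ?_) hfix
        intro u v h
        exact Subtype.ext (Subtype.ext (congrArg (fun w : f.ker => (w : Ω)) h))
      have h2 : Nat.card g.range ≤ p ^ (n * k) := by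
        refine le_trans (Nat.card_le_card_of_injective
          (fun v => (⟨v.1, ?_⟩ : {v : Ω // f^[k] v = 1})) ?_) ih
        · obtain ⟨w, hw⟩ := v.2
          rw [← hw]
          show f^[k] (f (w : Ω)) = 1
          rw [← Function.iterate_succ_apply]
          exact w.2
        · intro u v h
          exact Subtype.ext (congrArg (fun w : {v : Ω // f^[k] v = 1} => (w : Ω)) h)
      calc Nat.card {v : Ω // f^[k + 1] v = 1} = Nat.card K := rfl
        _ = Nat.card g.ker * g.ker.index := (Subgroup.card_mul_index _).symm
        _ = Nat.card g.ker * Nat.card g.range := by rw [Subgroup.index_ker]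
        _ ≤ p ^ n * p ^ (n * k) := Nat.mul_le_mul h1 h2
        _ = p ^ (n * (k + 1)) := by ring
  have hΩcard : Nat.card Ω ≤ p ^ (n * p) := by
    refine le_trans (le_of_eq ?_) (hkers p)
    exact (Nat.card_congr (Equiv.subtypeUnivEquiv hnil)).symm
  -- compare with the Frattini quotient
  obtain ⟨m, hm⟩ := hV.exists_card_eq
  obtain ⟨r, -, hr⟩ := (Nat.dvd_prime_pow hp).mp (hm ▸ Subgroup.index_dvd_card (frattini V))
  have hle : (powMonoidHom p : V →* V).range ≤ frattini V := by
    rintro _ ⟨v, rfl⟩
    exact H6.pow_prime_mem_frattini hV v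
  have hrn : r ≤ p * n := by
    have h1 : p ^ r ≤ p ^ (n * p) := by
      rw [← hr]
      refine le_trans (Nat.le_of_dvd (Nat.pos_of_ne_zero Subgroup.index_ne_zero_of_finite)
        (Subgroup.index_dvd_of_le hle)) ?_
      rw [Subgroup.index_range]
      exact hΩcard
    rw [mul_comm]
    exact (Nat.pow_le_pow_iff_right hp.one_lt).mp h1
  obtain ⟨F, hF⟩ := H29.exists_closure_eq_top hV hr
  exact ⟨Finset.image F Finset.univ, (Finset.card_image_le.trans (by simpa using hrn)),
    by rw [Finset.coe_image, Finset.coe_univ, Set.image_univ]; exact hF⟩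

end Cfsg.Agent.S3780
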