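import Cfsg.Statements.S3781
import Cfsg.Agent.H30.IterComm

set_option autoImplicit false
open Cfsg

namespace Cfsg.Agent.S3781

/-- Let G be a finite p-group and n ≥ 1, and write γ_1(G) = G, γ_{k+1}(G) = [γ_k(G), G], and likewise γ_k(N) for a subgroup N. Let N be a normal subgroup of G contained in γ_n(G). If i > 1 and γ_{i+1}(N) ≠ 1, then |γ_i(N) : γ_{i+1}(N)| ≥ p^n. -/
theorem result {G : Type*} [Group G] [Finite G] {p : ℕ} [Fact p.Prime] (hG : IsPGroup p G) (n : ℕ) (hn : 1 ≤ n) (N : Subgroup G) [N.Normal] (hN : N ≤ (⊤ : Subgroup G).lowerCentralSeries (n - 1)) (i : ℕ) (hi : 1 < i) (hne : N.lowerCentralSeries i ≠ ⊥) : p ^ n ≤ (N.lowerCentralSeries i).relIndex (N.lowerCentralSeries (i - 1)) := by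
  obtain ⟨m, rfl⟩ : ∃ m, i = m + 1 := ⟨i - 1, by omega⟩
  obtain ⟨n', rfl⟩ : ∃ n', n = n' + 1 := ⟨n - 1, by omega⟩
  rw [Nat.add_sub_cancel] at hN ⊢
  have hnorm : ∀ j, (N.lowerCentralSeries j).Normal := by
    intro j
    induction j with
    | zero => simpa
    | succ j ih => rw [Subgroup.lowerCentralSeries_succ]; haveI := ih; infer_instance
  set L := N.lowerCentralSeries m with hL
  set M := N.lowerCentralSeries (m + 1) with hM
  haveI hMn : M.Normal := hnorm (m + 1)
  have hML : M ≤ L := N.lowerCentralSeries_antitone (Nat.le_succ m)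
  by_contra hlt
  set π := QuotientGroup.mk' M
  obtain ⟨k, hk⟩ : ∃ k, M.relIndex L = p ^ k := (hG.to_subgroup L).index _
  have hkn : k ≤ n' := by
    rw [hk, not_le, Nat.pow_lt_pow_iff_right (Fact.out : p.Prime).one_lt] at hlt
    omega
  have hcard : Nat.card (L.map π) = p ^ k := by
    rw [← hk]
    conv_rhs => rw [← QuotientGroup.ker_mk' M, Subgroup.relIndex_ker]
  have h1 : H30.iterTop (L.map π) k = ⊥ :=
    H30.iterTop_eq_bot (hG.to_quotient M) k _ ((hnorm m).map _ (QuotientGroup.mk'_surjective M)) hcard.le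
  rw [← H30.map_iterTop π (QuotientGroup.mk'_surjective M), Subgroup.map_eq_bot_iff, QuotientGroup.ker_mk'] at h1
  have h2 : M ≤ ⁅M, (⊤ : Subgroup G)⁆ := by
    calc M = ⁅L, N⁆ := Subgroup.lowerCentralSeries_succ N m
      _ ≤ ⁅L, (⊤ : Subgroup G).lowerCentralSeries n'⁆ := Subgroup.commutator_mono le_rfl hN
      _ ≤ H30.iterTop L (n' + 1) := H30.commutator_lowerCentralSeries_le n' L (hnorm m)
      _ ≤ ⁅M, (⊤ : Subgroup G)⁆ := Subgroup.commutator_mono ((H30.iterTop_antitone (hnorm m) hkn).trans h1) le_rfl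
  exact (H30.commutator_top_lt hG hMn hne).not_ge h2

end Cfsg.Agent.S3781
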