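import Cfsg.Statements.S3783
import Cfsg.Agent.H32.PSeries
import Cfsg.Agent.H32.FreeAbelian
import Cfsg.Agent.H10.PSolvableDual
import Cfsg.Agent.H1.CoprimeAction2
import Cfsg.Agent.H6.Basic

set_option autoImplicit false
universe u
open Cfsg

namespace Cfsg.Agent.S3783

open scoped Pointwise commutatorElement
open H32.PSeries

/-- An invariant Sylow subgroup on which `y` acts nontrivially. -/
theorem exists_invariant {H : Type*} [Group H] [Finite H] {p : ℕ} [Fact p.Prime] (R : Subgroup H)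
    [R.Normal] (hR : (Nat.card R).Coprime p) {x y : H} {k : ℕ} (hxk : x ^ (p ^ k) = 1)
    (hna : y ∉ Subgroup.centralizer (R : Set H)) :
    ∃ (q : ℕ) (_ : Fact q.Prime), q ≠ p ∧ ∃ S : Sylow q R,
      (∀ g ∈ (S : Subgroup R).map R.subtype, x * g * x⁻¹ ∈ (S : Subgroup R).map R.subtype) ∧
      y ∉ Subgroup.centralizer (((S : Subgroup R).map R.subtype : Subgroup H) : Set H) := by
  classical
  by_contra hcon
  apply hna
  have hC : ∀ q : ℕ, q.Prime → q ∣ Nat.card R →
      q ^ (Nat.card R).factorization q ∣ Nat.card ↥(R ⊓ Subgroup.centralizer {y}) := by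
    intro q hq hqR
    haveI : Fact q.Prime := ⟨hq⟩
    have hqp : q ≠ p := by
      rintro rfl
      exact hq.ne_one (Nat.Coprime.eq_one_of_dvd hR.symm hqR)
    let f : Subgroup.zpowers x →* MulAut R := (MulAut.conjNormal).comp (Subgroup.zpowers x).subtype
    letI : MulDistribMulAction (Subgroup.zpowers x) R := MulDistribMulAction.compHom R f
    have hpg : IsPGroup p (Subgroup.zpowers x) := by
      rintro ⟨z, j, rfl⟩
      refine ⟨k, Subtype.ext ?_⟩
      simp only [SubgroupClass.coe_pow, OneMemClass.coe_one]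
      rw [← zpow_natCast, ← zpow_mul, mul_comm, zpow_mul, zpow_natCast, hxk, one_zpow]
    have hn : ¬ p ∣ Nat.card (Sylow q R) := by
      obtain ⟨Q⟩ := (inferInstance : Nonempty (Sylow q R))
      intro h
      exact (Fact.out : p.Prime).ne_one (Nat.Coprime.eq_one_of_dvd hR.symm
        ((h.trans Q.card_dvd_index).trans (Subgroup.index_dvd_card _)))
    obtain ⟨Q, hQ⟩ := hpg.nonempty_fixed_point_of_prime_not_dvd_card (Sylow q R) hn
    have hinv : ∀ g ∈ (Q : Subgroup R).map R.subtype, x * g * x⁻¹ ∈ (Q : Subgroup R).map R.subtype := by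
      rintro _ ⟨g, hg, rfl⟩
      have h1 : (⟨x, Subgroup.mem_zpowers x⟩ : Subgroup.zpowers x) • Q = Q := hQ _
      have h2 : (⟨x, Subgroup.mem_zpowers x⟩ : Subgroup.zpowers x) • g ∈ (Q : Subgroup R) := by
        rw [← h1, Sylow.pointwise_smul_def]
        exact Subgroup.smul_mem_pointwise_smul g _ _ hg
      exact ⟨_, h2, rfl⟩
    have hy : y ∈ Subgroup.centralizer (((Q : Subgroup R).map R.subtype : Subgroup H) : Set H) := by
      by_contra hy
      exact hcon ⟨q, inferInstance, hqp, Q, hinv, hy⟩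
    have hle2 : (Q : Subgroup R).map R.subtype ≤ R ⊓ Subgroup.centralizer {y} := fun z hz =>
      ⟨Subgroup.map_subtype_le _ hz,
        Subgroup.mem_centralizer_singleton_iff.mpr (Subgroup.mem_centralizer_iff.mp hy z hz)⟩
    have := Subgroup.card_dvd_of_le hle2
    rwa [Subgroup.card_subtype, Q.card_eq_multiplicity] at this
  have hdvd : Nat.card R ∣ Nat.card ↥(R ⊓ Subgroup.centralizer {y}) := by
    rw [Nat.dvd_iff_prime_pow_dvd_dvd]
    intro q j hq hj
    rcases Nat.eq_zero_or_pos j with rfl | hjpos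
    · simp
    refine (pow_dvd_pow q ?_).trans (hC q hq ((dvd_pow_self q hjpos.ne').trans hj))
    exact (hq.pow_dvd_iff_le_factorization Nat.card_pos.ne').mp hj
  have heq : R ⊓ Subgroup.centralizer {y} = R :=
    Subgroup.eq_of_le_of_card_ge inf_le_left (Nat.le_of_dvd Nat.card_pos hdvd)
  rw [Subgroup.mem_centralizer_iff]
  intro z hz
  rw [SetLike.mem_coe, ← heq] at hz
  exact Subgroup.mem_centralizer_singleton_iff.mp hz.2

/-- The key step: powers `x ^ p ^ e` of elements of the Sylow subgroup lie in `O_p`. -/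
theorem pow_mem_pCore {G : Type*} [Group G] [Finite G] {p : ℕ} [Fact p.Prime]
    (hG : Cfsg.IsPSolvable p G)
    (hab : ∀ (q : ℕ) [Fact q.Prime], q ≠ p → ∀ Q : Sylow q G, IsMulCommutative (Q : Subgroup G))
    (e : ℕ) (hexp : ∀ (P : Sylow p G), ∀ x ∈ (P : Subgroup G), x ^ p ^ (e + 1) = 1)
    (hO : Cfsg.pPrimeCore p G = ⊥) (P : Sylow p G) {x : G} (hx : x ∈ (P : Subgroup G)) :
    x ^ p ^ e ∈ Cfsg.pCore p G := by
  classical
  haveI hVn : (Cfsg.pCore p G).Normal := H10.pCore_normal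
  set V := Cfsg.pCore p G with hVdef
  have hVp : IsPGroup p V := H10.pCore_isPGroup
  by_contra hy
  set N := p ^ (e + 1) with hNdef
  set π := QuotientGroup.mk' V with hπ
  have hπy : π (x ^ p ^ e) ≠ 1 := fun h => hy ((QuotientGroup.eq_one_iff _).mp h)
  set R := Cfsg.pPrimeCore p (G ⧸ V)
  haveI : R.Normal := H10.pPrimeCore_normal
  have hquot : Cfsg.pCore p (G ⧸ V) = ⊥ := H10.pCore_quotient_pCore
  have hGq : Cfsg.IsPSolvable p (G ⧸ V) := H10.isPSolvable_quotient hG V
  have hna : π (x ^ p ^ e) ∉ Subgroup.centralizer (R : Set (G ⧸ V)) := by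
    intro h
    have hmem := H10.centralizer_pPrimeCore_le hGq hquot h
    apply hπy
    have hd1 : orderOf (π (x ^ p ^ e)) ∣ Nat.card R := Subgroup.orderOf_dvd_natCard _ hmem
    have hd2 : orderOf (π (x ^ p ^ e)) ∣ p ^ (e + 1) :=
      orderOf_dvd_of_pow_eq_one (by
        rw [← map_pow, ← pow_mul, mul_comm, pow_mul, hexp P x hx, one_pow, map_one])
    have h3 := Nat.dvd_gcd hd1 hd2
    rw [((H10.pPrimeCore_coprime (G := G ⧸ V) (p := p)).pow_right (e + 1) : Nat.Coprime _ _),
      Nat.dvd_one, orderOf_eq_one_iff] at h3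
    exact h3
  have hxk : π x ^ p ^ (e + 1) = 1 := by rw [← map_pow, hexp P x hx, map_one]
  obtain ⟨q, hqF, hqp, S, hSx, hSy⟩ := exists_invariant R H10.pPrimeCore_coprime hxk hna
  set Q := (S : Subgroup R).map R.subtype with hQdef
  have hQcomm : ∀ a ∈ Q, ∀ b ∈ Q, a * b = b * a := by
    obtain ⟨T, hT⟩ := (S.isPGroup'.map R.subtype).exists_le_sylow
    obtain ⟨U, hU⟩ := Sylow.mapSurjective_surjective (QuotientGroup.mk'_surjective V) q T
    intro a ha b hb
    have ha' := hT ha
    have hb' := hT hb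
    rw [← hU, Sylow.coe_mapSurjective] at ha' hb'
    obtain ⟨a', ha1, rfl⟩ := ha'
    obtain ⟨b', hb1, rfl⟩ := hb'
    have := (hab q hqp U).is_comm.comm ⟨a', ha1⟩ ⟨b', hb1⟩
    have h' : a' * b' = b' * a' := congrArg Subtype.val this
    rw [← map_mul, h', map_mul]
  have hQcop : (Nat.card Q).Coprime p :=
    (H10.pPrimeCore_coprime (G := G ⧸ V) (p := p)).coprime_dvd_left
      (Subgroup.card_dvd_of_le (Subgroup.map_subtype_le _))
  have hypow : π (x ^ p ^ e) = (π x) ^ p ^ e := map_pow π x _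
  have hQy : ∀ g ∈ Q, π (x ^ p ^ e) * g * (π (x ^ p ^ e))⁻¹ ∈ Q := by
    rw [hypow]; exact H32.FreeAbelian.conj_pow_mem hSx _
  obtain ⟨Q₁, hQ₁le, hQ₁ne, hQ₁x, hQ₁fix⟩ :=
    H32.FreeAbelian.exists_fpf hQcomm hQcop hSx
      (show Commute (π (x ^ p ^ e)) (π x) by rw [hypow]; exact Commute.pow_self _ _)
      (a := 1) (by rw [← map_pow, ← pow_mul, pow_one, ← pow_succ, hexp P x hx, map_one]) hQy (by
        by_contra hcomm'
        simp only [not_exists, not_and, not_not] at hcomm'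
        apply hSy
        rw [Subgroup.mem_centralizer_iff]
        exact fun g hg => (hcomm' g hg).symm)
  -- the representation on the Frattini quotient of `V`
  letI hcg : CommGroup (↥V ⧸ frattini ↥V) :=
    { (inferInstance : Group (↥V ⧸ frattini ↥V)) with
      mul_comm := fun a b => by
        obtain ⟨a, rfl⟩ := QuotientGroup.mk'_surjective _ a
        obtain ⟨b, rfl⟩ := QuotientGroup.mk'_surjective _ b
        rw [← map_mul, ← map_mul]
        apply QuotientGroup.eq.mpr
        have : (a * b)⁻¹ * (b * a) = ⁅b⁻¹, a⁻¹⁆ := by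
          rw [commutatorElement_def]; group
        rw [this]
        exact H6.commutator_le_frattini hVp
          (Subgroup.commutator_mem_commutator (Subgroup.mem_top _) (Subgroup.mem_top _)) }
  have hfix : ∀ φ : MulAut ↥V, (frattini ↥V).map (φ : ↥V →* ↥V) = frattini ↥V := fun φ =>
    Subgroup.characteristic_iff_map_eq.mp inferInstance φ
  let ρ₀ : G →* MulAut (↥V ⧸ frattini ↥V) :=
    { toFun := fun g => QuotientGroup.congr _ _ (MulAut.conjNormal g) (hfix _)
      map_one' := by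
        apply MulEquiv.ext
        intro w
        obtain ⟨w, rfl⟩ := QuotientGroup.mk'_surjective _ w
        simp
      map_mul' := fun g h => by
        apply MulEquiv.ext
        intro w
        obtain ⟨w, rfl⟩ := QuotientGroup.mk'_surjective _ w
        simp }
  have hρ₀ : ∀ g (w : ↥V), ρ₀ g (QuotientGroup.mk' _ w) =
      QuotientGroup.mk' _ (MulAut.conjNormal g w) := fun g w => rfl
  have hVker : V ≤ ρ₀.ker := by
    intro v hv
    rw [MonoidHom.mem_ker]
    apply MulEquiv.ext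
    intro w
    obtain ⟨w, rfl⟩ := QuotientGroup.mk'_surjective _ w
    rw [hρ₀, MulAut.one_apply,
      show MulAut.conjNormal v w = (⟨v, hv⟩ : ↥V) * w * (⟨v, hv⟩ : ↥V)⁻¹ from
        Subtype.ext (by simp [MulAut.conjNormal_apply]),
      map_mul, map_mul, map_inv, mul_comm (QuotientGroup.mk' _ (⟨v, hv⟩ : ↥V)) _,
      mul_inv_cancel_right]
  let ρ : G ⧸ V →* MulAut (↥V ⧸ frattini ↥V) := QuotientGroup.lift V ρ₀ hVker
  have hρ : ∀ g, ρ (π g) = ρ₀ g := fun g => rfl
  have hrel : ∀ w, ∏ i ∈ Finset.range N, ρ ((π x) ^ i) w = 1 := by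
    intro w
    obtain ⟨v, rfl⟩ := QuotientGroup.mk'_surjective _ w
    have hprod : ∀ m : ℕ, ∃ h : ((v : G) * x) ^ m * (x ^ m)⁻¹ ∈ V,
        QuotientGroup.mk' (frattini ↥V) ⟨_, h⟩ =
          ∏ i ∈ Finset.range m, ρ ((π x) ^ i) (QuotientGroup.mk' _ v) := by
      intro m
      induction m with
      | zero =>
        refine ⟨by simp, ?_⟩
        rw [Finset.prod_range_zero]
        convert map_one (QuotientGroup.mk' (frattini ↥V)) using 2
        apply Subtype.ext
        simp
      | succ m ih =>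
        obtain ⟨h, he⟩ := ih
        have h' : x ^ m * (v : G) * (x ^ m)⁻¹ ∈ V := hVn.conj_mem _ v.2 _
        have e1 : ((v : G) * x) ^ (m + 1) * (x ^ (m + 1))⁻¹ =
            (((v : G) * x) ^ m * (x ^ m)⁻¹) * (x ^ m * (v : G) * (x ^ m)⁻¹) := by
          rw [pow_succ, pow_succ]; group
        refine ⟨e1 ▸ mul_mem h h', ?_⟩
        rw [Finset.prod_range_succ, ← he, ← map_pow π, hρ, hρ₀, ← map_mul]
        congr 1
        apply Subtype.ext
        simp only [Subgroup.coe_mul, MulAut.conjNormal_apply]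
        exact e1
    obtain ⟨h, he⟩ := hprod N
    rw [← he]
    convert map_one (QuotientGroup.mk' (frattini ↥V)) using 2
    apply Subtype.ext
    have hvx : (v : G) * x ∈ (P : Subgroup G) := mul_mem (H10.pCore_le_sylow P v.2) hx
    show ((v : G) * x) ^ N * (x ^ N)⁻¹ = 1
    rw [hexp P _ hvx, hexp P x hx, inv_one, mul_one]
  have hfree : ∀ g ∈ Q₁, ∀ j : ℕ, 0 < j → j < N →
      ∃ u ∈ Q₁, g = u⁻¹ * ((π x) ^ j * u * ((π x) ^ j)⁻¹) := by
    intro g hg j hj hjN
    refine H32.FreeAbelian.exists_displacement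
      (fun a ha b hb => hQcomm a (hQ₁le ha) b (hQ₁le hb))
      (H32.FreeAbelian.conj_pow_mem hQ₁x j) ?_ hg
    intro u hu hju
    apply hQ₁fix u hu
    set C := Subgroup.centralizer ({u} : Set (G ⧸ V))
    have hjC : (π x) ^ j ∈ C := Subgroup.mem_centralizer_singleton_iff.mpr hju
    obtain ⟨i, hi, hgcd⟩ := (Nat.dvd_prime_pow Fact.out).mp (Nat.gcd_dvd_right j N)
    have hie : i ≤ e := by
      by_contra hlt
      have hN' : N ∣ j := by
        have := Nat.gcd_dvd_left j N
        rwa [hgcd, show i = e + 1 by omega] at this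
      exact absurd (Nat.le_of_dvd hj hN') (by omega)
    have hgC : (π x) ^ Nat.gcd j N ∈ C := by
      have hb := Nat.gcd_eq_gcd_ab j N
      rw [← zpow_natCast, hb, zpow_add, zpow_mul, zpow_mul, zpow_natCast, zpow_natCast, hxk,
        one_zpow, mul_one]
      exact C.zpow_mem hjC _
    have hyC : π (x ^ p ^ e) ∈ C := by
      rw [hypow, ← Nat.sub_add_cancel hie, pow_add, mul_comm, pow_mul, ← hgcd]
      exact C.pow_mem hgC _
    exact Subgroup.mem_centralizer_singleton_iff.mp hyC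
  have hMp : IsPGroup p (↥V ⧸ frattini ↥V) := hVp.to_quotient _
  have htriv := H32.FreeAbelian.eq_self_of_relation ρ hQ₁x
    (fun a ha b hb => hQcomm a (hQ₁le ha) b (hQ₁le hb)) (pow_pos (Fact.out : p.Prime).pos _)
    hrel hfree (fun g hg w hw => H32.FreeAbelian.eq_self_of_fixed_quot ρ hMp
      (hQcop.coprime_dvd_left (Subgroup.orderOf_dvd_natCard _ (hQ₁le hg))) hw)
  apply hQ₁ne
  rw [eq_bot_iff]
  intro gb hgb
  rw [Subgroup.mem_bot]
  obtain ⟨g, rfl⟩ := QuotientGroup.mk'_surjective V gb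
  obtain ⟨a, m, hm, hgm⟩ := Nat.exists_eq_pow_mul_and_not_dvd (orderOf_pos g).ne' p
    (Fact.out : p.Prime).ne_one
  set g' := g ^ p ^ a with hg'
  have hg'ord : (orderOf g').Coprime p := by
    rw [hg', orderOf_pow_of_dvd (pow_ne_zero _ (Fact.out : p.Prime).ne_zero) (hgm ▸ dvd_mul_right _ _),
      hgm, Nat.mul_div_cancel_left _ (pow_pos (Fact.out : p.Prime).pos a)]
    exact ((Fact.out : p.Prime).coprime_iff_not_dvd.mpr hm).symm
  have hg'V : g' ∈ V := by
    apply H10.centralizer_pCore_le hG hO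
    refine H1.le_centralizer_of_frattini (A := Subgroup.zpowers g') (K := V)
      Subgroup.le_normalizer_of_normal ?_ ?_ (Subgroup.mem_zpowers g')
    · rw [Nat.card_zpowers]
      obtain ⟨b, hb⟩ := (hVp.to_subgroup (frattini ↥V)).exists_card_eq
      rw [hb]
      exact hg'ord.pow_right b
    · intro z hz k hk
      obtain ⟨i, rfl⟩ := Subgroup.mem_zpowers_iff.mp hz
      have hm' : π (g' ^ i) ∈ Q₁ := by
        rw [map_zpow, hg', map_pow]; exact Q₁.zpow_mem (Q₁.pow_mem hgb _) _
      have h1 := htriv _ hm' (QuotientGroup.mk' _ ⟨k, hk⟩)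
      rw [hρ, hρ₀] at h1
      have h2 := QuotientGroup.eq.mp h1.symm
      have h3 := (frattini ↥V).inv_mem h2
      refine ⟨((⟨k, hk⟩ : ↥V) * ((⟨k, hk⟩ : ↥V)⁻¹ * MulAut.conjNormal (g' ^ i) ⟨k, hk⟩) *
        (⟨k, hk⟩ : ↥V)⁻¹), ?_, ?_⟩
      · exact (inferInstance : (frattini ↥V).Normal).conj_mem _ h2 _
      · simp [← map_zpow, MulAut.conjNormal_apply, mul_assoc]
  have hπg : (π g) ^ p ^ a = 1 := by
    rw [← map_pow]; exact (QuotientGroup.eq_one_iff _).mpr hg'V
  have h3 := Nat.dvd_gcd (Subgroup.orderOf_dvd_natCard _ (hQ₁le hgb))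
    (orderOf_dvd_of_pow_eq_one hπg)
  rw [(hQcop.pow_right a : Nat.Coprime _ _), Nat.dvd_one, orderOf_eq_one_iff] at h3
  exact h3

theorem main : ∀ (k : ℕ) {G : Type u} [Group G] [Finite G] {p : ℕ} [Fact p.Prime], Nat.card G = k →
    Cfsg.IsPSolvable p G →
    (∀ (q : ℕ) [Fact q.Prime], q ≠ p → ∀ Q : Sylow q G, IsMulCommutative (Q : Subgroup G)) →
    ∀ n : ℕ, (∀ (P : Sylow p G), ∀ x ∈ (P : Subgroup G), x ^ p ^ n = 1) →
    Cfsg.PLengthLE p n G := by
  intro k
  induction k using Nat.strong_induction_on with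
  | _ k ih =>
  intro G _ _ p _ hk hG hab n hexp
  rcases subsingleton_or_nontrivial G with hs | hs
  · refine pLengthLE_mono (pLengthLE_zero_of_coprime ?_) (Nat.zero_le n)
    rw [Nat.card_unique]; exact Nat.coprime_one_left p
  have hquot : ∀ (N : Subgroup G) [N.Normal] (m : ℕ), N ≠ ⊥ →
      (∀ (P : Sylow p G), ∀ x ∈ (P : Subgroup G), x ^ p ^ m ∈ N) → Cfsg.PLengthLE p m (G ⧸ N) := by
    intro N _ m hN hm
    refine ih _ (hk ▸ H10.card_quotient_lt N hN) rfl (H10.isPSolvable_quotient hG N) ?_ m ?_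
    · intro q _ hq Q
      obtain ⟨U, rfl⟩ := Sylow.mapSurjective_surjective (QuotientGroup.mk'_surjective N) q Q
      refine ⟨⟨?_⟩⟩
      rintro ⟨a, ha⟩ ⟨b, hb⟩
      obtain ⟨a', ha1, rfl⟩ := ha
      obtain ⟨b', hb1, rfl⟩ := hb
      have h' : a' * b' = b' * a' :=
        congrArg Subtype.val ((hab q hq U).is_comm.comm ⟨a', ha1⟩ ⟨b', hb1⟩)
      apply Subtype.ext
      simp only [Subgroup.coe_mul]
      rw [← map_mul, h', map_mul]
    · intro P x hx
      obtain ⟨U, rfl⟩ := Sylow.mapSurjective_surjective (QuotientGroup.mk'_surjective N) p P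
      obtain ⟨x', hx1, rfl⟩ := hx
      rw [← map_pow]
      exact (QuotientGroup.eq_one_iff _).mpr (hm U x' hx1)
  haveI : (Cfsg.pPrimeCore p G).Normal := H10.pPrimeCore_normal
  haveI hVn : (Cfsg.pCore p G).Normal := H10.pCore_normal
  by_cases hO : Cfsg.pPrimeCore p G = ⊥
  swap
  · have h := pLengthLE_add (Cfsg.pPrimeCore p G)
      (pLengthLE_zero_of_coprime H10.pPrimeCore_coprime)
      (hquot _ n hO (fun P x hx => by rw [hexp P x hx]; exact one_mem _))
    rwa [Nat.zero_add] at h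
  have hV : Cfsg.pCore p G ≠ ⊥ :=
    (H10.pCore_or_pPrimeCore_ne_bot hG).resolve_right (not_not.mpr hO)
  rcases n with _ | e
  · exfalso
    apply hV
    rw [eq_bot_iff]
    intro v hv
    rw [Subgroup.mem_bot]
    simpa using hexp default v (H10.pCore_le_sylow default hv)
  have h := pLengthLE_add (Cfsg.pCore p G) (pLengthLE_one_of_isPGroup H10.pCore_isPGroup)
    (hquot _ e hV (fun P x hx => pow_mem_pCore hG hab e hexp hO P hx))
  rwa [Nat.add_comm] at h

/-- Let G be a finite p-soluble group in which, for every prime q ≠ p, the Sylow q-subgroups are abelian. If the Sylow p-subgroups of G have exponent dividing p^n, then G has p-length at most n. -/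
theorem result {G : Type*} [Group G] [Finite G] {p : ℕ} [Fact p.Prime] (hG : Cfsg.IsPSolvable p G) (hab : ∀ (q : ℕ) [Fact q.Prime], q ≠ p → ∀ Q : Sylow q G, IsMulCommutative (Q : Subgroup G)) (n : ℕ) (hexp : ∀ (P : Sylow p G), ∀ x ∈ (P : Subgroup G), x ^ p ^ n = 1) : Cfsg.PLengthLE p n G := by
  exact main _ rfl hG hab n hexp

end Cfsg.Agent.S3783
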