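import Cfsg.Statements.S3784
import Mathlib

set_option autoImplicit false
open Cfsg

namespace Cfsg.Agent.S3784

/-- Let p, q be primes and a, b positive integers with p^a = q^b + 1. Then either p = 2, b = 1, a is prime and q = 2^a − 1; or q = 2, a = 1, b is a power of 2 and p = 2^b + 1; or p^a = 9 and q^b = 8. -/
theorem result (p q a b : ℕ) (hp : p.Prime) (hq : q.Prime) (ha : 1 ≤ a) (hb : 1 ≤ b) (h : p ^ a = q ^ b + 1) : (p = 2 ∧ b = 1 ∧ a.Prime ∧ q + 1 = 2 ^ a) ∨ (q = 2 ∧ a = 1 ∧ (∃ m : ℕ, b = 2 ^ m) ∧ p = 2 ^ b + 1) ∨ (p ^ a = 9 ∧ q ^ b = 8) := by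
  have hp2 := hp.two_le
  have hq2 := hq.two_le
  rcases hq.eq_two_or_odd with hq' | hq'
  · -- q = 2
    subst hq'
    have hpodd : p % 2 = 1 := by
      rcases hp.eq_two_or_odd with h' | h'
      · subst h'
        have e1 : 2 ∣ 2 ^ a := dvd_pow_self 2 (by omega)
        have e2 : 2 ∣ 2 ^ b := dvd_pow_self 2 (by omega)
        omega
      · exact h'
    rcases Nat.even_or_odd a with ⟨c, hc⟩ | hodd
    · right; right
      have hx : (p ^ c) ^ 2 = 2 ^ b + 1 := by rw [← pow_mul, ← h]; congr 1; omega
      have hx2 : 2 ≤ p ^ c := le_trans hp2 (Nat.le_self_pow (by omega) p)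
      obtain ⟨y, hy⟩ : ∃ y, p ^ c = y + 1 := ⟨p ^ c - 1, by omega⟩
      rw [hy] at hx
      have hx' : y * (y + 2) = 2 ^ b := by nlinarith
      obtain ⟨i, -, hi⟩ := (Nat.dvd_prime_pow Nat.prime_two).1 (Dvd.intro _ hx')
      obtain ⟨j, -, hj⟩ := (Nat.dvd_prime_pow Nat.prime_two).1 (Dvd.intro_left _ hx')
      rcases i with _ | _ | i
      · rcases j with _ | _ | j <;> simp [hi, pow_succ] at hj
        all_goals omega
      · rw [hi] at hx'
        have : 2 ^ b = 8 := by omega
        exact ⟨by omega, this⟩
      · rcases j with _ | _ | j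
        · simp [hi, pow_succ] at hj
        · simp [hi, pow_succ] at hj
        · simp only [pow_succ] at hi hj
          omega
    · by_cases ha1 : a = 1
      · subst ha1
        rw [pow_one] at h
        subst h
        exact Or.inr (Or.inl ⟨rfl, rfl, Nat.pow_of_pow_add_prime one_lt_two (by omega) hp, rfl⟩)
      · exfalso
        have hg := geom_sum_mul_add (p - 1) a
        have hp1 : p - 1 + 1 = p := by omega
        rw [hp1, h] at hg
        have hS : (∑ i ∈ Finset.range a, p ^ i) * (p - 1) = 2 ^ b := by omega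
        obtain ⟨j, -, hj⟩ := (Nat.dvd_prime_pow Nat.prime_two).1 (Dvd.intro _ hS)
        have hmod : (∑ i ∈ Finset.range a, p ^ i) % 2 = a % 2 := by
          rw [Finset.sum_nat_mod]
          simp [Nat.pow_mod, hpodd]
        have hbig : 2 ≤ ∑ i ∈ Finset.range a, p ^ i := by
          have : ∑ i ∈ Finset.range a, 1 ≤ ∑ i ∈ Finset.range a, p ^ i :=
            Finset.sum_le_sum fun i _ => Nat.one_le_pow _ _ (by omega)
          simp at this
          omega
        rw [hj] at hmod hbig
        rcases j with _ | j
        · simp at hbig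
        · rw [pow_succ, Nat.mul_mod_left, Nat.odd_iff.1 hodd] at hmod
          omega
  · -- q odd
    have hqb : q ^ b % 2 = 1 := by simp [Nat.pow_mod, hq']
    have hp' : p = 2 := by
      rcases hp.eq_two_or_odd with h' | h'
      · exact h'
      · have : p ^ a % 2 = 1 := by simp [Nat.pow_mod, h']
        omega
    subst hp'
    rcases Nat.even_or_odd b with ⟨c, hc⟩ | hodd
    · exfalso
      have h4 : q ^ b % 4 = 1 := by
        have : q % 4 = 1 ∨ q % 4 = 3 := by omega
        rw [Nat.pow_mod, hc, ← two_mul, pow_mul]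
        rcases this with h' | h' <;> simp [h', Nat.pow_mod]
      have hlt : 2 ≤ q ^ b := le_trans hq2 (Nat.le_self_pow (by omega) q)
      rcases a with _ | _ | a
      · omega
      · simp at h
        omega
      · rw [pow_succ, pow_succ, mul_assoc] at h
        omega
    · have hb1 : b = 1 := by
        by_contra hb1
        have hsum : ∃ T : ℤ, Odd T ∧ T * ((q : ℤ) + 1) = (q : ℤ) ^ b + 1 := by
          refine ⟨∑ i ∈ Finset.range b, (-(q:ℤ)) ^ i, ?_, ?_⟩
          · rw [Int.odd_iff, Finset.sum_int_mod]
            have e : ∀ i, (-(q:ℤ)) ^ i % 2 = 1 := by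
              intro i
              have : Odd ((-(q:ℤ)) ^ i) := (Odd.neg (by exact_mod_cast Nat.odd_iff.2 hq')).pow
              exact Int.odd_iff.1 this
            simp [e]
            have := Nat.odd_iff.1 hodd
            omega
          · have := geom_sum_mul (-(q:ℤ)) b
            rw [hodd.neg_pow] at this
            linear_combination (-1 : ℤ) * this
        obtain ⟨T, hT, hTeq⟩ := hsum
        have hTpos : 0 ≤ T := by
          by_contra hneg
          have h0 : (0:ℤ) < (q:ℤ) ^ b + 1 := by positivity
          nlinarith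
        lift T to ℕ using hTpos
        have hTeq' : T * (q + 1) = 2 ^ a := by rw [h]; exact_mod_cast hTeq
        obtain ⟨j, -, hj⟩ := (Nat.dvd_prime_pow Nat.prime_two).1 (Dvd.intro _ hTeq')
        have hTo : T % 2 = 1 := by
          have := Int.odd_iff.1 hT
          omega
        rcases j with _ | j
        · simp [hj] at hTeq'
          have : q ^ 1 < q ^ b := Nat.pow_lt_pow_right (by omega) (by omega)
          rw [pow_one] at this
          omega
        · rw [hj, pow_succ, Nat.mul_mod_left] at hTo
          omega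
      subst hb1
      left
      rw [pow_one] at h
      refine ⟨rfl, rfl, ?_, h.symm⟩
      have ha1 : a ≠ 1 := by rintro rfl; omega
      have : (2 ^ a - 1).Prime := by rw [h]; simpa using hq
      exact (Nat.prime_of_pow_sub_one_prime ha1 this).2

end Cfsg.Agent.S3784
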