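import Cfsg.Statements.S3785
import Cfsg.Agent.H3.MinNormal
import Cfsg.Agent.H84.BaerTrick
import Cfsg.Agent.H35.Basic
import Cfsg.Agent.H1.Fitting
import Cfsg.Agent.H32.PClosed

set_option autoImplicit false
open Cfsg

namespace Cfsg.Agent.S3785

/-- Let G be a finite solvable group whose Fitting subgroup F(G) has odd order. If an element g of G commutes with every element of prime order of F(G), then g ∈ F(G). -/
theorem result {G : Type*} [Group G] [Finite G] (hG : Group.IsSolvable G) (hodd : Odd (Nat.card (Cfsg.fittingSubgroup G))) (g : G) (hg : ∀ x ∈ Cfsg.fittingSubgroup G, (orderOf x).Prime → g * x = x * g) : g ∈ Cfsg.fittingSubgroup G := by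
  classical
  haveI := hG
  set F := Cfsg.fittingSubgroup G
  haveI hFn : F.Normal := H1.fittingSubgroup_normal G
  set C := Subgroup.centralizer {x : G | x ∈ F ∧ (orderOf x).Prime} with hC
  have hgC : g ∈ C := by
    rw [hC, Subgroup.mem_centralizer_iff]
    exact fun x hx => (hg x hx.1 hx.2).symm
  haveI hCn : C.Normal := by
    refine ⟨fun c hc h => ?_⟩
    rw [hC, Subgroup.mem_centralizer_iff] at hc ⊢
    intro x hx
    have := hc (h⁻¹ * x * h) ⟨by simpa using hFn.conj_mem x hx.1 h⁻¹, by
      rw [show h⁻¹ * x * h = MulAut.conj h⁻¹ x by simp, MulEquiv.orderOf_eq]; exact hx.2⟩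
    calc x * (h * c * h⁻¹) = h * (h⁻¹ * x * h * c) * h⁻¹ := by group
      _ = h * (c * (h⁻¹ * x * h)) * h⁻¹ := by rw [this]
      _ = h * c * h⁻¹ * x := by group
  by_contra hgF
  set E := C ⊓ F
  set f := QuotientGroup.mk' E
  have hf : Function.Surjective f := QuotientGroup.mk'_surjective E
  haveI : (C.map f).Normal := hCn.map f hf
  haveI : Group.IsSolvable (G ⧸ E) := Group.isSolvable_of_surjective hf
  have hne : C.map f ≠ ⊥ := fun h => by
    rw [Subgroup.map_eq_bot_iff, QuotientGroup.ker_mk'] at h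
    exact hgF (h hgC).2
  obtain ⟨Mb, hMbn, hMbb, hMbC, hmin⟩ := H3.exists_minNormal_le (C.map f) hne
  haveI := hMbn
  obtain ⟨-, q, hq, -, hMq, -⟩ := H3.minNormal_elementary Mb hMbb hmin
  haveI := Fact.mk hq
  set M := Mb.comap f
  have hEM : E ≤ M := fun x hx => by
    show f x ∈ Mb
    rw [show f x = 1 from (QuotientGroup.eq_one_iff x).mpr hx]; exact one_mem _
  have hMC : M ≤ C := by
    refine le_trans (Subgroup.comap_mono hMbC) ?_
    rw [Subgroup.comap_map_eq, QuotientGroup.ker_mk']
    exact sup_le le_rfl inf_le_left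
  obtain ⟨Q⟩ : Nonempty (Sylow q M) := inferInstance
  have hsup : (Q : Subgroup M) ⊔ E.subgroupOf M = ⊤ := by
    rw [← Subgroup.index_eq_one]
    have hfin : IsPGroup q (M ⧸ E.subgroupOf M) := by
      intro y
      obtain ⟨y, rfl⟩ := QuotientGroup.mk'_surjective _ y
      obtain ⟨j, hj⟩ := hMq ⟨f y, y.2⟩
      refine ⟨j, ?_⟩
      rw [← map_pow, QuotientGroup.mk'_apply, QuotientGroup.eq_one_iff, Subgroup.mem_subgroupOf,
        SubgroupClass.coe_pow, ← QuotientGroup.eq_one_iff, QuotientGroup.mk_pow]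
      exact congrArg Subtype.val hj
    obtain ⟨i, hi⟩ := IsPGroup.iff_card.mp hfin
    rw [← Subgroup.index_eq_card] at hi
    have d1 := Subgroup.index_dvd_of_le (le_sup_right : E.subgroupOf M ≤ (Q : Subgroup M) ⊔ E.subgroupOf M)
    have d2 := Subgroup.index_dvd_of_le (le_sup_left : (Q : Subgroup M) ≤ (Q : Subgroup M) ⊔ E.subgroupOf M)
    rw [hi] at d1
    obtain ⟨j, -, hj⟩ := (Nat.dvd_prime_pow hq).mp d1
    rcases Nat.eq_zero_or_pos j with rfl | hj0
    · simpa using hj
    · exact absurd ((hj ▸ dvd_pow_self q hj0.ne').trans d2) Q.not_dvd_index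
  haveI hFnil := H1.isNilpotent_fittingSubgroup G
  -- prime-power elements of F lie in the cores
  have hcore : ∀ (r : ℕ), r.Prime → ∀ x ∈ F, (∃ b, orderOf x = r ^ b) → x ∈ Cfsg.pCore r G := by
    intro r hr x hx hb
    haveI := Fact.mk hr
    obtain ⟨b, hb⟩ := hb
    obtain ⟨S⟩ : Nonempty (Sylow r F) := inferInstance
    have hcl : Cfsg.IsPClosed r F := fun S' =>
      ((Group.isNilpotent_of_finite_tfae (G := F)).out 0 3 rfl rfl).mp hFnil r ⟨hr⟩ S'
    haveI := hcl S
    have h1 : (⟨x, hx⟩ : F) ∈ Cfsg.pCore r F :=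
      H1.le_pCore S.isPGroup' (H32.pClosed_mem_sylow hcl S
        (IsPGroup.of_card (G := Subgroup.zpowers (⟨x, hx⟩ : F)) (n := b)
          (by rw [Nat.card_zpowers, Subgroup.orderOf_mk, hb])) (Subgroup.mem_zpowers _))
    have h2 := Subgroup.mem_map_of_mem F.subtype h1
    rw [H1.pCore_subgroup_map_eq] at h2
    exact h2.1
  have hEN : E.subgroupOf M ≤ Subgroup.normalizer ((Q : Subgroup M) : Set M) := by
    rw [← Subgroup.subgroupOf_eq_top]
    refine H35.eq_top_of_prime_pow_mem _ fun r b x hr hb => ?_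
    rw [Subgroup.mem_subgroupOf]
    obtain ⟨⟨x, hxM⟩, hxE⟩ := x
    rw [Subgroup.orderOf_mk, Subgroup.orderOf_mk] at hb
    rw [Subgroup.mem_subgroupOf] at hxE
    show (⟨x, hxM⟩ : M) ∈ Subgroup.normalizer ((Q : Subgroup M) : Set M)
    have hxcore : x ∈ Cfsg.pCore r G := hcore r hr x hxE.2 ⟨b, hb⟩
    haveI := Fact.mk hr
    by_cases hrq : r = q
    · subst hrq
      haveI := H1.pCore_normal' r G
      refine Subgroup.le_normalizer ?_
      have hp : IsPGroup r ↥((Cfsg.pCore r G).subgroupOf M) := IsPGroup.comap_subtype (H1.isPGroup_pCore r G)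
      exact hp.le_sylow_of_normal Q hxcore
    · by_cases hx1 : x = 1
      · have : (⟨x, hxM⟩ : M) = 1 := Subtype.ext hx1
        rw [this]; exact one_mem _
      have hr2 : r ≠ 2 := by
        rintro rfl
        have hd : orderOf x ∣ Nat.card F := Subgroup.orderOf_dvd_natCard _ hxE.2
        rw [hb] at hd
        rcases Nat.eq_zero_or_pos b with rfl | hb0
        · rw [pow_zero, orderOf_eq_one_iff] at hb; exact hx1 hb
        · exact (Nat.not_even_iff_odd.mpr hodd) (even_iff_two_dvd.mpr ((dvd_pow_self 2 hb0.ne').trans hd))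
      set Q' := (Q : Subgroup M).map M.subtype
      have hQ' : ¬ r ∣ Nat.card Q' := by
        rw [Subgroup.card_map_of_injective Subtype.coe_injective]
        obtain ⟨i, hi⟩ := IsPGroup.iff_card.mp Q.isPGroup'
        rw [hi]
        intro h
        exact hrq ((Nat.prime_dvd_prime_iff_eq hr hq).mp (hr.dvd_of_dvd_pow h))
      haveI := H1.pCore_normal' r G
      have hcent := H84.le_centralizer_of_omega_one hr2 (H1.isPGroup_pCore r G) hQ'
        Subgroup.le_normalizer_of_normal (fun c hc y hy hyr => by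
          by_cases hy1 : y = 1
          · rw [hy1, one_mul, mul_one]
          have hcC : c ∈ C := hMC (Subgroup.map_subtype_le _ hc)
          rw [hC, Subgroup.mem_centralizer_iff] at hcC
          exact hcC y ⟨(H1.pCore_le_fitting r) hy, by rw [orderOf_eq_prime hyr hy1]; exact hr⟩)
      refine Subgroup.centralizer_le_normalizer _ ?_
      rw [Subgroup.mem_centralizer_iff]
      intro c hc
      exact Subtype.ext ((Subgroup.mem_centralizer_iff.mp (hcent (Subgroup.mem_map_of_mem M.subtype hc))) x hxcore).symm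
  haveI hQn : (Q : Subgroup M).Normal :=
    Subgroup.normalizer_eq_top_iff.mp (top_le_iff.mp (hsup ▸ sup_le Subgroup.le_normalizer hEN))
  have hQF : (Q : Subgroup M).map M.subtype ≤ F := by
    haveI := Q.characteristic_of_normal hQn
    exact le_trans (H1.le_pCore (Q.isPGroup'.map _)) (H1.pCore_le_fitting q)
  have hMF : M ≤ E := by
    refine le_inf hMC ?_
    intro x hx
    have : (⟨x, hx⟩ : M) ∈ (Q : Subgroup M) ⊔ E.subgroupOf M := by rw [hsup]; trivial
    have h2 := Subgroup.mem_map_of_mem M.subtype this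
    rw [Subgroup.map_sup, Subgroup.map_subgroupOf_eq_of_le hEM] at h2
    exact sup_le hQF inf_le_right h2
  apply hMbb
  rw [← Subgroup.map_comap_eq_self_of_surjective hf Mb, Subgroup.map_eq_bot_iff, QuotientGroup.ker_mk']
  exact hMF

end Cfsg.Agent.S3785
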