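import Cfsg.Statements.S3786
import Cfsg.Agent.H29.HHExpDrop

set_option autoImplicit false
open Cfsg

namespace Cfsg.Agent.S3786

universe w

variable {p : ℕ} [Fact p.Prime]

theorem pLengthLE_of_exp_one {G : Type w} [Group G] [Finite G] {k : ℕ} (S : Sylow p G)
    (hexp : ∀ x ∈ (S : Subgroup G), x ^ p ^ 0 = 1) : Cfsg.PLengthLE p k G := by
  refine H32.PSeries.pLengthLE_mono (H32.PSeries.pLengthLE_zero_of_coprime ?_) (Nat.zero_le k)
  refine H10.coprime_iff_not_dvd.mpr fun hd => ?_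
  have h : (S : Subgroup G) = ⊥ := (Subgroup.eq_bot_iff_forall _).mpr fun x hx => by
    simpa using hexp x hx
  have := S.not_dvd_index
  rw [h, Subgroup.index_bot] at this
  exact this hd

/-- The Sylow group of `G / O_{p',p}(G)` inherits a power relation. -/
theorem quotient_exp {G : Type w} [Group G] [Finite G] [(Cfsg.pPrimeCore p G).Normal]
    [(Cfsg.upperPSeries p G 2).1.Normal] {k : ℕ} (S : Sylow p G)
    (h : ∀ x ∈ (S.mapSurjective (QuotientGroup.mk'_surjective (Cfsg.pPrimeCore p G)) : Subgroup (G ⧸ Cfsg.pPrimeCore p G)),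
      x ^ k ∈ Cfsg.pCore p (G ⧸ Cfsg.pPrimeCore p G)) :
    ∀ x ∈ (S.mapSurjective (QuotientGroup.mk'_surjective (Cfsg.upperPSeries p G 2).1) : Subgroup (G ⧸ (Cfsg.upperPSeries p G 2).1)),
      x ^ k = 1 := by
  rintro _ ⟨x, hx, rfl⟩
  rw [← map_pow, QuotientGroup.mk'_apply, QuotientGroup.eq_one_iff, H82.upperPSeries_two, Cfsg.pPrimePCore,
    Subgroup.mem_comap, map_pow]
  exact h _ ⟨x, hx, rfl⟩

theorem map_exp {G : Type w} [Group G] [Finite G] {k : ℕ} (S : Sylow p G) (N : Subgroup G) [N.Normal]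
    (h : ∀ x ∈ (S : Subgroup G), x ^ k = 1) :
    ∀ x ∈ (S.mapSurjective (QuotientGroup.mk'_surjective N) : Subgroup (G ⧸ N)), x ^ k = 1 := by
  rintro _ ⟨x, hx, rfl⟩
  rw [← map_pow, h x hx, map_one]

theorem part_a (hp : p ≠ 2) : ∀ (e : ℕ) (G : Type w) [Group G] [Finite G], Cfsg.IsPSolvable p G →
    ((¬ ∃ k : ℕ, p = 2 ^ k + 1) ∨ ∀ S : Sylow 2 G, IsMulCommutative (S : Subgroup G)) →
    ∀ S : Sylow p G, (∀ x ∈ (S : Subgroup G), x ^ p ^ e = 1) → Cfsg.PLengthLE p e G := by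
  intro e
  induction e with
  | zero => intro G _ _ _ _ S hS; exact pLengthLE_of_exp_one S hS
  | succ e ih =>
    intro G _ _ hs hnf S hS
    haveI := H1.pPrimeCore_normal' p G
    haveI := (Cfsg.upperPSeries p G 2).2
    haveI : Fact (Nat.Prime 2) := ⟨Nat.prime_two⟩
    have hnfq : ∀ (N : Subgroup G) [N.Normal], (¬ ∃ k : ℕ, p = 2 ^ k + 1) ∨
        ∀ T : Sylow 2 (G ⧸ N), IsMulCommutative (T : Subgroup (G ⧸ N)) := by
      intro N _
      refine hnf.imp id fun h T => ?_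
      obtain ⟨T₀⟩ : Nonempty (Sylow 2 G) := inferInstance
      obtain ⟨c, hc⟩ := MulAction.exists_smul_eq (G ⧸ N) (T₀.mapSurjective (QuotientGroup.mk'_surjective N)) T
      refine ⟨⟨fun a b => Subtype.ext ?_⟩⟩
      obtain ⟨a, ha⟩ := a
      obtain ⟨b, hb⟩ := b
      rw [← hc] at ha hb
      obtain ⟨a', ⟨a₀, ha₀, rfl⟩, rfl⟩ := ha
      obtain ⟨b', ⟨b₀, hb₀, rfl⟩, rfl⟩ := hb
      have hcm : a₀ * b₀ = b₀ * a₀ := congrArg Subtype.val ((h T₀).is_comm.comm ⟨a₀, ha₀⟩ ⟨b₀, hb₀⟩)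
      exact ((Commute.map hcm (QuotientGroup.mk' N)).map
        (MulDistribMulAction.toMonoidEnd _ _ (MulAut.conj c))).eq
    have hd := H29.HHExp.drop_one hp (H10.isPSolvable_quotient hs _) H10.pPrimeCore_quotient_pPrimeCore
      (hnfq _) _ (map_exp S (Cfsg.pPrimeCore p G) hS)
    have h := ih (G ⧸ (Cfsg.upperPSeries p G 2).1) (H10.isPSolvable_quotient hs _) (hnfq _) _
      (quotient_exp S hd)
    show (Cfsg.upperPSeries p G (2 * (e + 1) + 1)).1 = ⊤
    rw [show 2 * (e + 1) + 1 = (2 * e + 1) + 2 by omega, H11.upperPSeries_add_two,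
      show (Cfsg.upperPSeries p (G ⧸ (Cfsg.upperPSeries p G 2).1) (2 * e + 1)).1 = ⊤ from h,
      Subgroup.comap_top]

theorem part_b (hp : p ≠ 2) : ∀ (e : ℕ) (G : Type w) [Group G] [Finite G], Cfsg.IsPSolvable p G →
    ∀ S : Sylow p G, (∀ x ∈ (S : Subgroup G), x ^ p ^ e = 1) → Cfsg.PLengthLE p (2 * e) G := by
  intro e
  induction e with
  | zero => intro G _ _ _ S hS; exact pLengthLE_of_exp_one S hS
  | succ e ih =>
    intro G _ _ hs S hS
    haveI := H1.pPrimeCore_normal' p G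
    haveI := (Cfsg.upperPSeries p G 2).2
    have hc := H29.HHExp.commutator_mem_pCore hp (H10.isPSolvable_quotient hs _)
      H10.pPrimeCore_quotient_pPrimeCore _ (map_exp S (Cfsg.pPrimeCore p G) hS)
    set H := G ⧸ (Cfsg.upperPSeries p G 2).1 with hH
    set S₁ := S.mapSurjective (QuotientGroup.mk'_surjective (Cfsg.upperPSeries p G 2).1) with hS₁
    have hsH : Cfsg.IsPSolvable p H := H10.isPSolvable_quotient hs _
    have hexp₁ : ∀ x ∈ (S₁ : Subgroup H), x ^ p ^ (e + 1) = 1 := map_exp S _ hS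
    have hcomm₁ : ∀ a ∈ (S₁ : Subgroup H), ∀ b ∈ (S₁ : Subgroup H), Commute (a ^ p ^ e) (b ^ p ^ e) := by
      rintro _ ⟨a, ha, rfl⟩ _ ⟨b, hb, rfl⟩
      rw [← commutatorElement_eq_one_iff_commute, ← map_pow, ← map_pow, ← map_commutatorElement,
        QuotientGroup.mk'_apply, QuotientGroup.eq_one_iff, H82.upperPSeries_two, Cfsg.pPrimePCore,
        Subgroup.mem_comap, map_commutatorElement, map_pow, map_pow]
      exact hc _ ⟨a, ha, rfl⟩ _ ⟨b, hb, rfl⟩
    haveI := H1.pPrimeCore_normal' p H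
    haveI := (Cfsg.upperPSeries p H 2).2
    have hd := H29.HHExp.drop_two hp (H10.isPSolvable_quotient hsH _) H10.pPrimeCore_quotient_pPrimeCore
      _ (map_exp S₁ (Cfsg.pPrimeCore p H) hexp₁) (by
        rintro _ ⟨a, ha, rfl⟩ _ ⟨b, hb, rfl⟩
        rw [← map_pow, ← map_pow]
        exact (hcomm₁ a ha b hb).map _)
    have h := ih (H ⧸ (Cfsg.upperPSeries p H 2).1) (H10.isPSolvable_quotient hsH _) _
      (quotient_exp S₁ hd)
    show (Cfsg.upperPSeries p G (2 * (2 * (e + 1)) + 1)).1 = ⊤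
    have h2 : (Cfsg.upperPSeries p H (2 * (2 * e) + 1 + 2)).1 = ⊤ := by
      rw [H11.upperPSeries_add_two (G := H) p (2 * (2 * e) + 1),
        show (Cfsg.upperPSeries p (H ⧸ (Cfsg.upperPSeries p H 2).1) (2 * (2 * e) + 1)).1 = ⊤ from h,
        Subgroup.comap_top]
    rw [show 2 * (2 * (e + 1)) + 1 = (2 * (2 * e) + 1 + 2) + 2 by omega, H11.upperPSeries_add_two, h2,
      Subgroup.comap_top]

/-- The Hall–Higman bound on p-length. Let p be an odd prime and G a finite p-soluble group whose Sylow p-subgroups have exponent dividing p^e. (a) If p is not of the form 2^k + 1, or if the Sylow 2-subgroups of G are abelian, then G has p-length at most e. (b) In every case G has p-length at most 2e. -/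
theorem result {G : Type*} [Group G] [Finite G] {p : ℕ} [Fact p.Prime] (hp : p ≠ 2) (hG : Cfsg.IsPSolvable p G) (e : ℕ) (hexp : ∀ (P : Sylow p G), ∀ x ∈ (P : Subgroup G), x ^ p ^ e = 1) : (((¬ ∃ k : ℕ, p = 2 ^ k + 1) ∨ ∀ S : Sylow 2 G, IsMulCommutative (S : Subgroup G)) → Cfsg.PLengthLE p e G) ∧ Cfsg.PLengthLE p (2 * e) G := by
  obtain ⟨S⟩ : Nonempty (Sylow p G) := inferInstance
  exact ⟨fun h => part_a hp e G hG h S (hexp S), part_b hp e G hG S (hexp S)⟩

end Cfsg.Agent.S3786
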