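import Cfsg.Statements.S3787
import Cfsg.Agent.H32.HHSection
import Cfsg.Agent.H32.WreathSection
import Cfsg.Agent.H10.PStability
import Cfsg.Agent.H10.StableNormal
import Cfsg.Agent.H11.PLengthClass
import Cfsg.Agent.H32.PSeries

set_option autoImplicit false
open Cfsg

namespace Cfsg.Agent.S3787

universe w

theorem le_pCore_of_no_wreath {G : Type w} [Group G] [Finite G] {p : ℕ} [Fact p.Prime] (hp : p ≠ 2)
    (hnf : ¬ ∃ k : ℕ, p = 2 ^ k + 1) (hs : Cfsg.IsPSolvable p G)
    (hO : Cfsg.pPrimeCore p G = ⊥) (S : Sylow p G)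
    (hwr : ∀ (H : Type) [Group H] [Finite H], H32.Wreath.IsShape p H →
      ¬ Cfsg.Involves H ↥(S : Subgroup G)) :
    (S : Subgroup G) ≤ Cfsg.pCore p G := by
  classical
  have hpp := (Fact.out : p.Prime)
  by_contra hnot
  obtain ⟨y, hyS, hyU⟩ := SetLike.not_le_iff_exists.mp hnot
  have hex : ∃ j, y ^ p ^ j ∈ Cfsg.pCore p G := by
    obtain ⟨j, hj⟩ := S.isPGroup' ⟨y, hyS⟩
    exact ⟨j, by rw [show y ^ p ^ j = 1 from congrArg Subtype.val hj]; exact one_mem _⟩
  have hj1 : 1 ≤ Nat.find hex := by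
    rcases Nat.eq_zero_or_pos (Nat.find hex) with h | h
    · exact absurd (by simpa [h] using Nat.find_spec hex) hyU
    · exact h
  set x := y ^ p ^ (Nat.find hex - 1) with hx
  have hxS : x ∈ (S : Subgroup G) := pow_mem hyS _
  have hxU : x ∉ Cfsg.pCore p G := Nat.find_min hex (by omega)
  have hxp : x ^ p ∈ Cfsg.pCore p G := by
    rw [hx, ← pow_mul, ← pow_succ, Nat.sub_add_cancel hj1]
    exact Nat.find_spec hex
  haveI hΦn : ((frattini ↥(Cfsg.pCore p G)).map (Cfsg.pCore p G).subtype).Normal :=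
    H10.map_frattini_subtype_normal H10.pCore_normal
  set Φ := (frattini ↥(Cfsg.pCore p G)).map (Cfsg.pCore p G).subtype
  set π := QuotientGroup.mk' Φ
  set V := (Cfsg.pCore p G).map π with hV
  obtain ⟨v, hv, hne⟩ := H32.HHS.exists_pow_ne hp hs hO (Or.inl hnf) x 1 le_rfl
    (by rwa [pow_one]) (by simpa using hxU)
  rw [pow_one] at hne
  haveI : V.Normal :=
    (inferInstance : (Cfsg.pCore p G).Normal).map π (QuotientGroup.mk'_surjective _)
  have hVe : Cfsg.IsElementaryAbelian p V := H10.elementaryAbelian_pCore_section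
  have hVcomm : ∀ a ∈ V, ∀ b ∈ V, Commute a b := fun a ha b hb =>
    congrArg Subtype.val (hVe.1.is_comm.comm ⟨a, ha⟩ ⟨b, hb⟩)
  have hzV : π x ^ p ∈ V := by rw [← map_pow]; exact Subgroup.mem_map_of_mem π hxp
  have hcen : π x ^ p ∈ Subgroup.centralizer (V : Set (G ⧸ Φ)) :=
    Subgroup.mem_centralizer_iff.mpr fun a ha => (hVcomm a ha _ hzV).eq
  obtain ⟨W, hWV, hWcard, hnorm, hfix, hnm, hvW⟩ :=
    H32.Wreath.exists_free_subgroup V hVe (π x) hcen v hv hne
  have hWc : ∀ a ∈ W, ∀ b ∈ W, Commute a b := fun a ha b hb => hVcomm a (hWV ha) b (hWV hb)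
  have hWp : ∀ a ∈ W, a ^ p = 1 := fun a ha => hVe.2 a (hWV ha)
  have hUS : Cfsg.pCore p G ≤ (S : Subgroup G) := H10.pCore_le_sylow S
  set T := (S : Subgroup G).map π with hT
  have hVT : V ≤ T := Subgroup.map_mono hUS
  have hfin : ∀ c : G ⧸ Φ, c ∈ T → (∀ a ∈ V, c * a * c⁻¹ = π x * a * (π x)⁻¹) → c ^ p ∈ V →
      W ⊓ Subgroup.zpowers (c ^ p) = ⊥ → False := by
    intro c hcT hact hcV hd
    have hfix' : Nat.card ↥(W ⊓ Subgroup.centralizer ({c} : Set (G ⧸ Φ))) = p := by
      rw [← hfix]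
      congr 2
      ext a
      simp only [Subgroup.mem_inf, Subgroup.mem_centralizer_singleton_iff]
      refine and_congr_right fun ha => ?_
      constructor
      · intro h
        have h1 := hact a (hWV ha)
        rw [← h, mul_inv_cancel_right] at h1
        exact mul_inv_eq_iff_eq_mul.mp h1.symm |>.symm
      · intro h
        have h1 := hact a (hWV ha)
        rw [← h, mul_inv_cancel_right] at h1
        exact mul_inv_eq_iff_eq_mul.mp h1 |>.symm
    obtain ⟨H, hG, hF, hsh, hinv⟩ := H32.Wreath.exists_shape T W (hWV.trans hVT) c hcT hWc hWp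
      hWcard (fun a ha => by rw [hact a (hWV ha)]; exact hnorm a ha) hfix'
      (fun a ha => hVcomm _ hcV _ (hWV ha)) hd
    obtain ⟨K, R, hR, ⟨e⟩⟩ := hinv
    refine hwr H hsh ?_
    let g : (S : Subgroup G) →* T := π.subgroupMap (S : Subgroup G)
    have hg : Function.Surjective g := π.subgroupMap_surjective _
    let f : K.comap g →* H := e.toMonoidHom.comp
      ((QuotientGroup.mk' (R.subgroupOf K)).comp (g.subgroupComap K))
    exact H32.Wreath.involves_of_surjective f (e.surjective.comp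
      ((QuotientGroup.mk'_surjective _).comp (g.subgroupComap_surjective_of_surjective K hg)))
  have hxT : π x ∈ T := Subgroup.mem_map_of_mem π hxS
  by_cases hd : W ⊓ Subgroup.zpowers (π x ^ p) = ⊥
  · exact hfin (π x) hxT (fun _ _ => rfl) hzV hd
  -- the `p`-th power lies in the line of fixed points of `W`
  set z := π x ^ p with hz
  have hzp : z ^ p = 1 := hVe.2 z hzV
  obtain ⟨w, ⟨hwW, hwz⟩, hw1⟩ := Subgroup.ne_bot_iff_exists_ne_one.mp hd |> fun ⟨⟨a, ha⟩, h⟩ =>
    (⟨a, ha, fun h' => h (Subtype.ext h')⟩ : ∃ a, a ∈ W ⊓ Subgroup.zpowers z ∧ a ≠ 1)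
  have hgen : Subgroup.zpowers w = Subgroup.zpowers z := by
    refine Subgroup.eq_of_le_of_card_ge (Subgroup.zpowers_le.mpr hwz) ?_
    rw [Nat.card_zpowers, Nat.card_zpowers, orderOf_eq_prime (hWp w hwW) hw1]
    exact Nat.le_of_dvd hpp.pos (orderOf_dvd_of_pow_eq_one hzp)
  have hzW : z ∈ W := Subgroup.zpowers_le.mpr hwW (hgen ▸ Subgroup.mem_zpowers z)
  set N := (v * π x) ^ p * z⁻¹ with hNdef
  have hN1 : N ≠ 1 := fun h => hne (mul_inv_eq_one.mp h)
  have hNcomm : N * π x = π x * N := by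
    have hzx : Commute z (π x) := (Commute.refl (π x)).pow_left p
    have hvN : Commute N v := hVcomm N (hWV hnm) v hv
    have h1 : Commute N (v * π x) := by
      have h2 : Commute ((v * π x) ^ p) (v * π x) := (Commute.refl _).pow_left p
      have h3 : Commute z (v * π x) := (hVcomm z hzV v hv).mul_right hzx
      exact h2.mul_left h3.inv_left
    have h4 := h1.mul_right hvN.inv_right
    have h5 : Commute N (v⁻¹ * (v * π x)) := hvN.inv_right.mul_right h1
    rw [inv_mul_cancel_left] at h5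
    exact h5.eq
  set F := W ⊓ Subgroup.centralizer ({π x} : Set (G ⧸ Φ)) with hF
  have hNF : N ∈ F := ⟨hnm, Subgroup.mem_centralizer_singleton_iff.mpr hNcomm⟩
  have hzF : z ∈ F :=
    ⟨hzW, Subgroup.mem_centralizer_singleton_iff.mpr ((Commute.refl (π x)).pow_left p).eq⟩
  have hFN : Subgroup.zpowers N = F := by
    refine Subgroup.eq_of_le_of_card_ge (Subgroup.zpowers_le.mpr hNF) ?_
    rw [hfix, Nat.card_zpowers, orderOf_eq_prime (hWp N hnm) hN1]
  obtain ⟨i, hi⟩ : z⁻¹ ∈ Subgroup.zpowers N := hFN ▸ inv_mem hzF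
  -- replace `v` by a power of it
  have hu : (v ^ i * π x) ^ p = 1 := by
    have hmap : ∀ (k : ℕ) (a : G ⧸ Φ), a ∈ V →
        ∃ b ∈ V, (a * π x) ^ k = b * π x ^ k ∧
          ∀ a' ∈ V, ∀ b', (a' * π x) ^ k = b' * π x ^ k →
            (a * a' * π x) ^ k = b * b' * π x ^ k := by
      intro k
      induction k with
      | zero =>
        intro a _
        refine ⟨1, one_mem _, by simp, fun a' _ b' h => ?_⟩
        simp only [pow_zero, mul_one] at h ⊢
        rw [← h, one_mul]
      | succ k ih =>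
        intro a ha
        obtain ⟨b, hb, hbe, hadd⟩ := ih a ha
        have hn : π x ^ k * a * (π x ^ k)⁻¹ ∈ V :=
          Subgroup.Normal.conj_mem inferInstance a ha _
        refine ⟨b * (π x ^ k * a * (π x ^ k)⁻¹), mul_mem hb hn, ?_, ?_⟩
        · rw [pow_succ, hbe, pow_succ]; group
        · intro a' ha' b' h
          have hb'eq : (a' * π x) ^ k = (b' * (π x ^ k * a' * (π x ^ k)⁻¹)⁻¹) * π x ^ k := by
            rw [pow_succ, pow_succ] at h
            have e := eq_mul_inv_of_mul_eq h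
            rw [e]
            group
          have hb'V : b' * (π x ^ k * a' * (π x ^ k)⁻¹)⁻¹ ∈ V := by
            obtain ⟨b'', hb''V, hb''e, -⟩ := ih a' ha'
            rw [hb''e] at hb'eq
            rw [← mul_right_cancel hb'eq]
            exact hb''V
          have hcm : Commute (b' * (π x ^ k * a' * (π x ^ k)⁻¹)⁻¹) (π x ^ k * a * (π x ^ k)⁻¹) :=
            hVcomm _ hb'V _ hn
          rw [pow_succ, hadd a' ha' _ hb'eq, pow_succ]
          calc b * (b' * (π x ^ k * a' * (π x ^ k)⁻¹)⁻¹) * π x ^ k * (a * a' * π x)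
              = b * ((b' * (π x ^ k * a' * (π x ^ k)⁻¹)⁻¹) * (π x ^ k * a * (π x ^ k)⁻¹)) *
                  (π x ^ k * a' * (π x ^ k)⁻¹) * (π x ^ k * π x) := by group
            _ = b * ((π x ^ k * a * (π x ^ k)⁻¹) * (b' * (π x ^ k * a' * (π x ^ k)⁻¹)⁻¹)) *
                  (π x ^ k * a' * (π x ^ k)⁻¹) * (π x ^ k * π x) := by rw [hcm.eq]
            _ = _ := by group
    let φ : V →* G ⧸ Φ :=
      { toFun := fun a => (a * π x) ^ p * z⁻¹
        map_one' := by simp [hz]
        map_mul' := fun a a' => by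
          obtain ⟨b, -, hbe, hadd⟩ := hmap p a a.2
          obtain ⟨b', -, hbe', -⟩ := hmap p a' a'.2
          show ((a : G ⧸ Φ) * a' * π x) ^ p * z⁻¹ = _
          rw [hadd a' a'.2 b' hbe', hbe, hbe', ← hz]
          group }
    have h1 : φ (⟨v, hv⟩ ^ i) = z⁻¹ := by rw [map_zpow]; exact hi
    exact mul_inv_eq_iff_eq_mul.mp h1 |>.trans (inv_mul_cancel z)
  refine hfin (v ^ i * π x) (mul_mem (hVT (zpow_mem hv i)) hxT) (fun a ha => ?_)
    (by rw [hu]; exact one_mem _) (by rw [hu, Subgroup.zpowers_one_eq_bot, inf_bot_eq])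
  have hxa : π x * a * (π x)⁻¹ ∈ V := Subgroup.Normal.conj_mem inferInstance a ha _
  calc v ^ i * π x * a * (v ^ i * π x)⁻¹ = v ^ i * (π x * a * (π x)⁻¹) * (v ^ i)⁻¹ := by group
    _ = π x * a * (π x)⁻¹ := by
        rw [(hVcomm _ (zpow_mem hv i) _ hxa).eq, mul_inv_cancel_right]

/-- Let G be a finite p-soluble group, p an odd prime not of the form 2^k + 1, and suppose the wreath product C_p ≀ C_p (of order p^(p+1)) is not involved in a Sylow p-subgroup of G: no section of a Sylow p-subgroup is isomorphic to it. Then G has p-length at most 1. -/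
theorem result {G : Type*} [Group G] [Finite G] {p : ℕ} [Fact p.Prime] (hp2 : p ≠ 2) (hnf : (¬ ∃ k : ℕ, p = 2 ^ k + 1)) (hG : Cfsg.IsPSolvable p G) (P : Sylow p G) (hwr : ∀ (W : Type) [Group W] [Finite W], (∃ (B : Subgroup W) (t : W), B.Normal ∧ IsMulCommutative B ∧ (∀ b ∈ B, b ^ p = 1) ∧ Nat.card B = p ^ p ∧ orderOf t = p ∧ t ∉ B ∧ Nat.card W = p ^ (p + 1) ∧ Nat.card ↥(B ⊓ Subgroup.centralizer ({t} : Set W)) = p) → ¬ Cfsg.Involves W ↥(P : Subgroup G)) : Cfsg.PLengthLE p 1 G := by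
  haveI := H1.pPrimeCore_normal' p G
  have hq := QuotientGroup.mk'_surjective (Cfsg.pPrimeCore p G)
  set q := QuotientGroup.mk' (Cfsg.pPrimeCore p G)
  set S1 := P.mapSurjective hq with hS1
  have hle := le_pCore_of_no_wreath hp2 hnf (H10.isPSolvable_quotient hG _)
    H10.pPrimeCore_quotient_pPrimeCore S1 (fun H _ _ hH hinv => by
      obtain ⟨K, R, hR, ⟨e⟩⟩ := hinv
      refine hwr H hH ?_
      have hg := q.subgroupMap_surjective (P : Subgroup G)
      let f : K.comap (q.subgroupMap (P : Subgroup G)) →* H := e.toMonoidHom.comp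
        ((QuotientGroup.mk' (R.subgroupOf K)).comp ((q.subgroupMap (P : Subgroup G)).subgroupComap K))
      exact H32.Wreath.involves_of_surjective f (e.surjective.comp
        ((QuotientGroup.mk'_surjective _).comp
          ((q.subgroupMap (P : Subgroup G)).subgroupComap_surjective_of_surjective K hg))))
  have hA : (P : Subgroup G) ≤ (Cfsg.upperPSeries p G 2).1 := by
    rw [H82.upperPSeries_two, Cfsg.pPrimePCore, ← Subgroup.map_le_iff_le_comap]
    exact hle
  show (Cfsg.upperPSeries p G (2 * 1 + 1)).1 = ⊤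
  have hco : (Nat.card (G ⧸ (Cfsg.upperPSeries p G 2).1)).Coprime p := by
    rw [← Subgroup.index_eq_card]
    refine H10.coprime_iff_not_dvd.mpr fun hd => ?_
    exact P.not_dvd_index (hd.trans (Subgroup.index_dvd_of_le hA))
  have h : (Cfsg.upperPSeries p (G ⧸ (Cfsg.upperPSeries p G 2).1) (2 * 0 + 1)).1 = ⊤ :=
    H32.PSeries.pLengthLE_zero_of_coprime hco
  rw [show 2 * 1 + 1 = (2 * 0 + 1) + 2 by omega, H11.upperPSeries_add_two, h, Subgroup.comap_top]

end Cfsg.Agent.S3787
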