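import Cfsg.Statements.S3788
import Cfsg.Agent.H32.PSeries
import Cfsg.Agent.H32.FreeAbelian
import Cfsg.Agent.H10.PSolvableDual
import Cfsg.Agent.H1.SchurZassenhausConj
import Cfsg.Agent.H1.CoprimeAction2
import Cfsg.Agent.H6.Basic
import Cfsg.Agent.H75.Basic
import Cfsg.Agent.H18.Basic

set_option autoImplicit false
open Cfsg

namespace Cfsg.Agent.S3788

open scoped Pointwise commutatorElement

/-- Involvement lifts from quotients. -/
theorem involves_of_quotient {K : Type} [Group K] {G : Type*} [Group G] {N : Subgroup G} [N.Normal]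
    (h : Cfsg.Involves K (G ⧸ N)) : Cfsg.Involves K G := by
  obtain ⟨A, R, hR, ⟨e⟩⟩ := h
  haveI := hR
  let π : A.comap (QuotientGroup.mk' N) →* A :=
    ((QuotientGroup.mk' N).comp (A.comap (QuotientGroup.mk' N)).subtype).codRestrict A fun g => g.2
  let φ := (QuotientGroup.mk' (R.subgroupOf A)).comp π
  have hφ : Function.Surjective φ := by
    refine (QuotientGroup.mk'_surjective _).comp ?_
    rintro ⟨a, ha⟩
    obtain ⟨g, rfl⟩ := QuotientGroup.mk'_surjective N a
    exact ⟨⟨g, ha⟩, rfl⟩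
  have hk : (R.comap (QuotientGroup.mk' N)).subgroupOf (A.comap (QuotientGroup.mk' N)) = φ.ker := by
    ext g
    rw [MonoidHom.mem_ker, Subgroup.mem_subgroupOf, Subgroup.mem_comap]
    exact (QuotientGroup.eq_one_iff (N := R.subgroupOf A) (π g)).symm
  have hn : ((R.comap (QuotientGroup.mk' N)).subgroupOf (A.comap (QuotientGroup.mk' N))).Normal := by
    rw [hk]; infer_instance
  refine ⟨_, R.comap (QuotientGroup.mk' N), hn, ?_⟩
  exact ⟨((QuotientGroup.quotientMulEquivOfEq hk).trans
    (QuotientGroup.quotientKerEquivOfSurjective φ hφ)).trans e⟩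

/-- A subgroup is a section. -/
theorem involves_of_subgroup {K : Type} [Group K] {G : Type*} [Group G] (X : Subgroup G)
    (e : X ≃* K) : Cfsg.Involves K G := by
  have h : ((⊥ : Subgroup G).subgroupOf X) = ⊥ := by simp [Subgroup.subgroupOf_eq_bot]
  refine ⟨X, ⊥, h ▸ inferInstance, ?_⟩
  exact ⟨((QuotientGroup.quotientMulEquivOfEq h).trans QuotientGroup.quotientBot).trans e⟩

theorem card_sup_of_disjoint {G : Type*} [Group G] [Finite G] {D B : Subgroup G}
    (hB : B ≤ Subgroup.normalizer (D : Set G)) (hd : Disjoint D B) :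
    Nat.card ↥(D ⊔ B) = Nat.card D * Nat.card B := by
  rw [← Nat.card_prod]
  refine (Nat.card_congr (Equiv.ofBijective
    (fun x : D × B => (⟨(x.1 : G) * x.2, mul_mem (Subgroup.mem_sup_left x.1.2)
      (Subgroup.mem_sup_right x.2.2)⟩ : ↥(D ⊔ B))) ⟨?_, ?_⟩)).symm
  · intro x y hxy
    exact Subgroup.mul_injective_of_disjoint hd (Subtype.ext_iff.mp hxy)
  · rintro ⟨x, hx⟩
    obtain ⟨d, hd', h, hh, rfl⟩ := H1.exists_mul_of_mem_sup hB hx
    exact ⟨(⟨d, hd'⟩, ⟨h, hh⟩), rfl⟩

/-- Recognition of the symmetric group of degree four. -/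
theorem involves_sym_four {H : Type*} [Group H] [Finite H] {z u t : H} (hz2 : z ^ 2 = 1) (hz : z ≠ 1)
    (hcomm : Commute z (u * z * u⁻¹)) (hne : u * z * u⁻¹ ≠ z)
    (hu2 : u * (u * z * u⁻¹) * u⁻¹ = z * (u * z * u⁻¹)) (hu : u ^ 3 = 1) (ht : t ^ 2 = 1)
    (htz : t * z * t⁻¹ = z) (htu : t * u * t⁻¹ = u⁻¹) :
    Cfsg.Involves (Equiv.Perm (Fin 4)) H := by
  classical
  set y := u * z * u⁻¹ with hy
  set U := Subgroup.zpowers z ⊔ Subgroup.zpowers y with hUdef
  set S := Subgroup.zpowers u ⊔ Subgroup.zpowers t with hSdef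
  have hy2 : y ^ 2 = 1 := by rw [hy, conj_pow, hz2]; simp
  have hy1 : y ≠ 1 := fun h => hz (by
    rw [show z = u⁻¹ * y * u by rw [hy]; group, h]; group)
  have hzU : z ∈ U := Subgroup.mem_sup_left (Subgroup.mem_zpowers z)
  have hyU : y ∈ U := Subgroup.mem_sup_right (Subgroup.mem_zpowers y)
  have ho : ∀ {w : H}, w ^ 2 = 1 → w ≠ 1 → orderOf w = 2 := fun h1 h2 => orderOf_eq_prime h1 h2
  have two : ∀ {w v : H}, w ^ 2 = 1 → v ∈ Subgroup.zpowers w → v = 1 ∨ v = w := by
    intro w v hw hv
    obtain ⟨i, rfl⟩ := Subgroup.mem_zpowers_iff.mp hv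
    rw [← zpow_natCast] at hw
    rcases Int.even_or_odd i with ⟨j, rfl⟩ | ⟨j, rfl⟩
    · left; rw [← two_mul, zpow_mul]; rw [show ((2 : ℕ) : ℤ) = 2 from rfl] at hw; rw [hw, one_zpow]
    · right; rw [zpow_add, zpow_mul]; rw [show ((2 : ℕ) : ℤ) = 2 from rfl] at hw
      rw [hw, one_zpow, one_mul, zpow_one]
  have hcz : Subgroup.zpowers y ≤ Subgroup.normalizer (Subgroup.zpowers z : Set H) :=
    (Subgroup.zpowers_le.mpr (Subgroup.mem_centralizer_iff.mpr (fun w hw => by
      obtain ⟨i, rfl⟩ := Subgroup.mem_zpowers_iff.mp hw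
      exact (hcomm.zpow_left i).eq))).trans (Subgroup.centralizer_le_normalizer _)
  have hUcard : Nat.card U = 4 := by
    have hd : Disjoint (Subgroup.zpowers z) (Subgroup.zpowers y) := by
      rw [Subgroup.disjoint_def]
      intro v hv hv'
      rcases two hz2 hv with h | h
      · exact h
      rcases two hy2 hv' with h' | h'
      · exact h'
      · exact absurd (h'.symm.trans h) hne
    rw [hUdef, card_sup_of_disjoint hcz hd, Nat.card_zpowers, Nat.card_zpowers, ho hz2 hz, ho hy2 hy1]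
  have huU : u ∈ Subgroup.normalizer (U : Set H) := by
    rw [Subgroup.mem_normalizer_iff]
    have hfwd : ∀ x ∈ U, u * x * u⁻¹ ∈ U := by
      have hle : U ≤ U.comap (MulAut.conj u).toMonoidHom := by
        rw [hUdef, sup_le_iff, Subgroup.zpowers_le, Subgroup.zpowers_le]
        exact ⟨hyU, (show u * y * u⁻¹ ∈ U from hu2 ▸ mul_mem hzU hyU)⟩
      exact fun x hx => hle hx
    intro x
    refine ⟨hfwd x, fun hx => ?_⟩
    have h1 := hfwd _ (hfwd _ hx)
    have hu3 : u * u * u = 1 := by rw [← hu, pow_succ, pow_two]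
    rwa [show u * (u * (u * x * u⁻¹) * u⁻¹) * u⁻¹ = (u * u * u) * x * (u * u * u)⁻¹ by group, hu3,
      one_mul, inv_one, mul_one] at h1
  have htU : t ∈ Subgroup.normalizer (U : Set H) := by
    rw [Subgroup.mem_normalizer_iff]
    have hfwd : ∀ x ∈ U, t * x * t⁻¹ ∈ U := by
      have hle : U ≤ U.comap (MulAut.conj t).toMonoidHom := by
        rw [hUdef, sup_le_iff, Subgroup.zpowers_le, Subgroup.zpowers_le]
        refine ⟨show t * z * t⁻¹ ∈ U by rw [htz]; exact hzU, show t * y * t⁻¹ ∈ U from ?_⟩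
        rw [show t * y * t⁻¹ = (t * u * t⁻¹) * (t * z * t⁻¹) * (t * u * t⁻¹)⁻¹ by rw [hy]; group,
          htu, htz]
        exact (Subgroup.mem_normalizer_iff.mp (inv_mem huU) z).mp hzU
      exact fun x hx => hle hx
    intro x
    refine ⟨hfwd x, fun hx => ?_⟩
    have h1 := hfwd _ hx
    have ht2 : t * t = 1 := by rw [← pow_two, ht]
    rwa [show t * (t * x * t⁻¹) * t⁻¹ = (t * t) * x * (t * t)⁻¹ by group, ht2, one_mul, inv_one,
      mul_one] at h1
  have hSU : S ≤ Subgroup.normalizer (U : Set H) :=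
    sup_le (Subgroup.zpowers_le.mpr huU) (Subgroup.zpowers_le.mpr htU)
  have htn : Subgroup.zpowers t ≤ Subgroup.normalizer (Subgroup.zpowers u : Set H) := by
    rw [Subgroup.zpowers_le, Subgroup.mem_normalizer_iff]
    intro x
    have hfwd : ∀ x ∈ Subgroup.zpowers u, t * x * t⁻¹ ∈ Subgroup.zpowers u := by
      have hle : Subgroup.zpowers u ≤ (Subgroup.zpowers u).comap (MulAut.conj t).toMonoidHom := by
        rw [Subgroup.zpowers_le]
        show t * u * t⁻¹ ∈ Subgroup.zpowers u
        rw [htu]; exact inv_mem (Subgroup.mem_zpowers u)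
      exact fun x hx => hle hx
    refine ⟨hfwd x, fun hx => ?_⟩
    have h1 := hfwd _ hx
    have ht2 : t * t = 1 := by rw [← pow_two, ht]
    rwa [show t * (t * x * t⁻¹) * t⁻¹ = (t * t) * x * (t * t)⁻¹ by group, ht2, one_mul, inv_one,
      mul_one] at h1
  have hu1 : u ≠ 1 := fun h => hne (by rw [hy, h]; group)
  have hou : orderOf u = 3 := orderOf_eq_prime hu hu1
  have ht1 : t ≠ 1 := by
    intro h
    rw [h] at htu
    have h2 : u * u = 1 := by
      have : u = u⁻¹ := by simpa using htu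
      nth_rw 2 [this]; exact mul_inv_cancel u
    apply hu1
    rw [← hu, pow_succ, pow_two, h2, one_mul]
  -- elements of `S` fixing `U` pointwise are trivial
  have key : ∀ s ∈ S, s * z * s⁻¹ = z → s * y * s⁻¹ = y → s = 1 := by
    intro s hs h1 h2
    obtain ⟨v, hv, w, hw, rfl⟩ := H1.exists_mul_of_mem_sup htn hs
    have hwz : w * z * w⁻¹ = z := by
      rcases two ht hw with rfl | rfl
      · group
      · exact htz
    have hvz : v * z * v⁻¹ = z := by
      calc v * z * v⁻¹ = v * (w * z * w⁻¹) * v⁻¹ := by rw [hwz]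
        _ = v * w * z * (v * w)⁻¹ := by group
        _ = z := h1
    have hv1 : v = 1 := by
      obtain ⟨i, rfl⟩ := Subgroup.mem_zpowers_iff.mp hv
      have hz' : u ^ i ∈ Subgroup.centralizer ({z} : Set H) :=
        Subgroup.mem_centralizer_singleton_iff.mpr (mul_inv_eq_iff_eq_mul.mp hvz)
      by_contra hne1
      have hgen : Subgroup.zpowers (u ^ i) = Subgroup.zpowers u := by
        refine Subgroup.eq_of_le_of_card_ge (Subgroup.zpowers_le.mpr ⟨i, rfl⟩) ?_
        rw [Nat.card_zpowers, Nat.card_zpowers, hou,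
          orderOf_eq_prime (by rw [← zpow_natCast, ← zpow_mul, mul_comm, zpow_mul, zpow_natCast, hu, one_zpow]) hne1]
      have hu' : u ∈ Subgroup.centralizer ({z} : Set H) :=
        (Subgroup.zpowers_le.mpr hz') (hgen ▸ Subgroup.mem_zpowers u)
      apply hne
      show u * z * u⁻¹ = z
      rw [Subgroup.mem_centralizer_singleton_iff.mp hu']; group
    subst hv1
    rw [one_mul] at h1 h2 ⊢
    rcases two ht hw with h | h
    · exact h
    exfalso
    rw [h] at h2
    have e1 : t * y * t⁻¹ = u⁻¹ * z * u := by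
      rw [show t * y * t⁻¹ = (t * u * t⁻¹) * (t * z * t⁻¹) * (t * u * t⁻¹)⁻¹ by rw [hy]; group,
        htu, htz, inv_inv]
    rw [e1] at h2
    apply hy1
    have e2 : z = u * y * u⁻¹ := by rw [← h2]; group
    rw [hu2] at e2
    exact mul_left_cancel (a := z) (e2.symm.trans (mul_one z).symm)
  have hdisj : Disjoint U S := by
    rw [Subgroup.disjoint_def]
    intro v hv hv'
    refine key v hv' ?_ ?_
    · have : Commute v z := by
        obtain ⟨a, ha, b, hb, rfl⟩ := H1.exists_mul_of_mem_sup hcz hv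
        rcases two hz2 ha with h1 | h1 <;> rcases two hy2 hb with h2 | h2 <;> rw [h1, h2]
        · exact (Commute.one_left z).mul_left (Commute.one_left z)
        · exact (Commute.one_left z).mul_left hcomm.symm
        · exact (Commute.refl z).mul_left (Commute.one_left z)
        · exact (Commute.refl z).mul_left hcomm.symm
      rw [this.eq]; group
    · have : Commute v y := by
        obtain ⟨a, ha, b, hb, rfl⟩ := H1.exists_mul_of_mem_sup hcz hv
        rcases two hz2 ha with h1 | h1 <;> rcases two hy2 hb with h2 | h2 <;> rw [h1, h2]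
        · exact (Commute.one_left y).mul_left (Commute.one_left y)
        · exact (Commute.one_left y).mul_left (Commute.refl y)
        · exact hcomm.mul_left (Commute.one_left y)
        · exact hcomm.mul_left (Commute.refl y)
      rw [this.eq]; group
  have hScard : Nat.card S = 6 := by
    rw [hSdef, card_sup_of_disjoint htn ?_, Nat.card_zpowers, Nat.card_zpowers, hou, ho ht ht1]
    rw [Subgroup.disjoint_def]
    intro v hv hv'
    rcases two ht hv' with h | h
    · exact h
    · exfalso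
      apply ht1
      rw [← orderOf_eq_one_iff]
      have hd1 : orderOf t ∣ 3 := by
        rw [← hou, ← Nat.card_zpowers u]
        exact Subgroup.orderOf_dvd_natCard _ (h ▸ hv)
      rw [ho ht ht1] at hd1
      norm_num at hd1
  set X := U ⊔ S with hX
  have hXc : Nat.card X = 24 := by rw [hX, card_sup_of_disjoint hSU hdisj, hUcard, hScard]
  set S' := S.subgroupOf X with hS'
  have hidx : S'.index = 4 := by
    have h6 : Nat.card S' = 6 := by
      rw [hS', Nat.card_congr (Subgroup.subgroupOfEquivOfLe (le_sup_right : S ≤ X)).toEquiv, hScard]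
    have := S'.card_mul_index
    rw [h6, hXc] at this
    omega
  have hcore : S'.normalCore = ⊥ := by
    rw [eq_bot_iff]
    intro s hs
    have hsS : (s : H) ∈ S := Subgroup.normalCore_le S' hs
    have hfix : ∀ d ∈ U, (s : H) * d * (s : H)⁻¹ = d := by
      intro d hd
      have h1 : ((s : H) * d * (s : H)⁻¹) * d⁻¹ ∈ U :=
        mul_mem ((Subgroup.mem_normalizer_iff.mp (hSU hsS) d).mp hd) (inv_mem hd)
      have h2 : ((s : H) * d * (s : H)⁻¹) * d⁻¹ ∈ S := by
        have h3 := (Subgroup.normalCore_normal S').conj_mem _ (inv_mem hs) ⟨d, Subgroup.mem_sup_left hd⟩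
        have h4 := Subgroup.normalCore_le S' h3
        rw [hS', Subgroup.mem_subgroupOf] at h4
        simp only [Subgroup.coe_mul, Subgroup.coe_inv] at h4
        rw [show (s : H) * d * (s : H)⁻¹ * d⁻¹ = s * (d * (s : H)⁻¹ * d⁻¹) by group]
        exact mul_mem hsS h4
      exact mul_inv_eq_one.mp (Subgroup.disjoint_def.mp hdisj h1 h2)
    rw [Subgroup.mem_bot]
    exact Subtype.ext (key s hsS (hfix z hzU) (hfix y hyU))
  let f := (Finite.equivFinOfCardEq (hidx : Nat.card (X ⧸ S') = 4)).permCongrHom.toMonoidHom.comp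
    (MulAction.toPermHom X (X ⧸ S'))
  have hf : Function.Injective f :=
    (Finite.equivFinOfCardEq (hidx : Nat.card (X ⧸ S') = 4)).permCongrHom.injective.comp
      ((MonoidHom.ker_eq_bot_iff _).mp (by rw [← Subgroup.normalCore_eq_ker, hcore]))
  have hbij : Function.Bijective f := by
    refine ⟨hf, ((Nat.bijective_iff_injective_and_card f).mpr ⟨hf, ?_⟩).2⟩
    rw [hXc, Nat.card_perm, Nat.card_fin]
    rfl
  exact involves_of_subgroup X (MulEquiv.ofBijective f hbij)

/-- The core of the argument. -/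
theorem core {H : Type*} [Group H] [Finite H] {p : ℕ} [Fact p.Prime] (hH : Cfsg.IsPSolvable p H)
    (W : Subgroup H) [W.Normal] (hWab : ∀ v ∈ W, ∀ w ∈ W, v * w = w * v)
    (hWp : ∀ v ∈ W, v ^ p = 1) (hq : Cfsg.pCore p (H ⧸ W) = ⊥)
    (hfaith : ∀ g : H, (orderOf g).Coprime p → (∀ v ∈ W, Commute g v) → g = 1)
    {a : H} (haW : a ∉ W) (hap : a ^ p ∈ W)
    (hnorm : ∀ v ∈ W, v * a * v⁻¹ ∈ Subgroup.zpowers a)
    (h : p ≠ 2 ∨ ¬ Cfsg.Involves (Equiv.Perm (Fin 4)) H) : False := by
  classical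
  have hp := (Fact.out : p.Prime)
  set z := a ^ p with hzdef
  set Z := Subgroup.zpowers z with hZ
  have hzp : z ^ p = 1 := hWp z hap
  have hinter : ∀ g ∈ Subgroup.zpowers a, g ∈ W → g ∈ Z := by
    intro g hg hgW
    obtain ⟨i, rfl⟩ := Subgroup.mem_zpowers_iff.mp hg
    by_cases hi : (p : ℤ) ∣ i
    · obtain ⟨j, rfl⟩ := hi
      exact ⟨j, by simp only [hzdef]; rw [← zpow_natCast, ← zpow_mul]⟩
    · exfalso
      apply haW
      have hco : IsCoprime (p : ℤ) i := (Nat.prime_iff_prime_int.mp hp).irreducible.coprime_iff_not_dvd.mpr hi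
      obtain ⟨r, s, hrs⟩ := hco
      have : a = (a ^ p) ^ r * (a ^ i) ^ s := by
        rw [← zpow_natCast, ← zpow_mul, ← zpow_mul, ← zpow_add, mul_comm (p : ℤ) r, mul_comm i s,
          hrs, zpow_one]
      rw [this]
      exact mul_mem (W.zpow_mem hap r) (W.zpow_mem hgW s)
  have hcomm : ∀ v ∈ W, a * v * a⁻¹ * v⁻¹ ∈ Z := by
    intro v hv
    refine hinter _ ?_ (mul_mem ((inferInstance : W.Normal).conj_mem v hv a) (inv_mem hv))
    rw [show a * v * a⁻¹ * v⁻¹ = a * (v * a * v⁻¹)⁻¹ by group]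
    exact mul_mem (Subgroup.mem_zpowers a) (inv_mem (hnorm v hv))
  have hZfix : ∀ g ∈ Z, a * g = g * a := by
    intro g hg
    obtain ⟨i, rfl⟩ := Subgroup.mem_zpowers_iff.mp hg
    exact (((Commute.refl a).pow_right p).zpow_right i).eq
  have hZW : Z ≤ W := Subgroup.zpowers_le.mpr hap
  -- complement of `W` in the preimage of `O_{p'}(H / W)`
  set π := QuotientGroup.mk' W with hπ
  set R := Cfsg.pPrimeCore p (H ⧸ W) with hR
  haveI : R.Normal := H10.pPrimeCore_normal
  set Y := R.comap π with hY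
  have hWY : W ≤ Y := fun x hx => by
    rw [hY, Subgroup.mem_comap, show π x = 1 from (QuotientGroup.eq_one_iff x).mpr hx]
    exact one_mem _
  have hWpg : IsPGroup p W := fun v => ⟨1, by rw [pow_one]; exact Subtype.ext (hWp v v.2)⟩
  obtain ⟨e, he⟩ := hWpg.exists_card_eq
  have hWc : Nat.card (W.subgroupOf Y) = Nat.card W :=
    Nat.card_congr (Subgroup.subgroupOfEquivOfLe hWY).toEquiv
  have hidx : (W.subgroupOf Y).index = Nat.card R := H32.PSeries.relIndex_comap_mk W R
  obtain ⟨C, hC⟩ := Subgroup.exists_right_complement'_of_coprime (N := W.subgroupOf Y) (by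
    rw [hWc, hidx, he]
    exact (H10.pPrimeCore_coprime.pow_right e).symm)
  set K := C.map Y.subtype with hK
  have hKY : K ≤ Y := Subgroup.map_subtype_le _
  have hKc : (Nat.card K).Coprime p := by
    rw [hK, Subgroup.card_map_of_injective Y.subtype_injective, ← hC.symm.index_eq_card, hidx]
    exact H10.pPrimeCore_coprime
  have hcover : Y ≤ W ⊔ K := by
    intro x hx
    have hmem : (⟨x, hx⟩ : Y) ∈ (W.subgroupOf Y) ⊔ C := hC.sup_eq_top ▸ Subgroup.mem_top _
    obtain ⟨v, hv, c, hc, hvc⟩ := Subgroup.mem_sup_of_normal_left.mp hmem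
    rw [show x = (v : H) * c from (congrArg Subtype.val hvc).symm]
    exact mul_mem (Subgroup.mem_sup_left hv) (Subgroup.mem_sup_right ⟨c, hc, rfl⟩)
  have hWK : ∀ g, g ∈ W → g ∈ K → g = 1 := fun g hg hg' =>
    Subgroup.disjoint_def.mp (Subgroup.disjoint_of_coprime_natCard (by
      rw [he]; exact (hKc.pow_right e).symm)) hg hg'
  haveI : Y.Normal := (inferInstance : R.Normal).comap π
  obtain ⟨w, hw, hwK⟩ := H1.exists_conj_eq_of_coprime (D := W) (H := K) (K := MulAut.conj a • K)
    Subgroup.le_normalizer_of_normal (by rw [he]; exact (hKc.pow_right e).symm)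
    (Or.inl (by have := hWpg.isNilpotent; infer_instance))
    (fun x hx => hcover (by
      obtain ⟨k, hk, rfl⟩ := hx
      exact (inferInstance : Y.Normal).conj_mem k (hKY hk) a))
    (H1.card_conj_smul a K)
  set t := w⁻¹ * a with ht
  have htK : MulAut.conj t • K = K := by
    rw [ht, map_mul, mul_smul, ← hwK, ← mul_smul, ← map_mul, inv_mul_cancel, map_one, one_smul]
  have htconj : ∀ k ∈ K, t * k * t⁻¹ ∈ K := fun k hk => htK ▸ ⟨k, hk, rfl⟩
  -- the power of `t`
  set d := a * w⁻¹ * a⁻¹ * w with hd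
  have hdZ : d ∈ Z := by
    have := hcomm w⁻¹ (inv_mem hw)
    rwa [inv_inv] at this
  have hpow : ∀ m : ℕ, t ^ m = d ^ (m.choose 2) * (w⁻¹) ^ m * a ^ m := by
    have hdw : Commute d w⁻¹ := hWab d (hZW hdZ) w⁻¹ (inv_mem hw)
    have hda : Commute a d := hZfix d hdZ
    intro m
    induction m with
    | zero => simp
    | succ m ih =>
      have e2 : ∀ j : ℕ, a ^ j * w⁻¹ = d ^ j * w⁻¹ * a ^ j := by
        intro j
        induction j with
        | zero => simp
        | succ j ihj =>
          calc a ^ (j + 1) * w⁻¹ = a * (a ^ j * w⁻¹) := by rw [pow_succ', mul_assoc]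
            _ = (a * d ^ j) * w⁻¹ * a ^ j := by rw [ihj]; group
            _ = d ^ j * (a * w⁻¹) * a ^ j := by rw [(hda.pow_right j).eq]; group
            _ = d ^ j * (d * w⁻¹ * a) * a ^ j := by
              rw [show a * w⁻¹ = d * w⁻¹ * a by rw [hd]; group]
            _ = (d ^ j * d) * w⁻¹ * (a * a ^ j) := by group
            _ = _ := by rw [← pow_succ, ← pow_succ']
      rw [pow_succ, ih, ht]
      calc d ^ m.choose 2 * w⁻¹ ^ m * a ^ m * (w⁻¹ * a)
          = d ^ m.choose 2 * w⁻¹ ^ m * (a ^ m * w⁻¹) * a := by group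
        _ = d ^ m.choose 2 * (w⁻¹ ^ m * d ^ m) * w⁻¹ * (a ^ m * a) := by rw [e2]; group
        _ = (d ^ m.choose 2 * d ^ m) * (w⁻¹ ^ m * w⁻¹) * (a ^ m * a) := by
          rw [((hdw.symm).pow_pow m m).eq]; group
        _ = _ := by
          rw [← pow_add, ← pow_succ, ← pow_succ, Nat.choose_succ_succ' m 1, Nat.choose_one_right,
            Nat.add_comm]
  have htp : t ^ p = d ^ (p.choose 2) * z := by
    rw [hpow p, inv_pow, hWp w hw, inv_one, mul_one]
  have htW : ∀ v ∈ W, t * v * t⁻¹ = a * v * a⁻¹ := by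
    intro v hv
    rw [ht, show w⁻¹ * a * v * (w⁻¹ * a)⁻¹ = w⁻¹ * (a * v * a⁻¹) * w by group,
      hWab w⁻¹ (inv_mem hw) _ ((inferInstance : W.Normal).conj_mem v hv a), inv_mul_cancel_right]
  have htcomm : ∀ v ∈ W, t * v * t⁻¹ * v⁻¹ ∈ Z := fun v hv => by rw [htW v hv]; exact hcomm v hv
  -- `t` does not centralise `K`
  have hnc : ∃ k ∈ K, t * k ≠ k * t := by
    by_contra hcon
    simp only [not_exists, not_and, not_not] at hcon
    have hquot : Cfsg.IsPSolvable p (H ⧸ W) := H10.isPSolvable_quotient hH W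
    have hmem : π t ∈ Subgroup.centralizer (R : Set (H ⧸ W)) := by
      rw [Subgroup.mem_centralizer_iff]
      intro r hr
      obtain ⟨x, rfl⟩ := QuotientGroup.mk'_surjective W r
      obtain ⟨v, hv, k, hk, rfl⟩ := H1.exists_mul_of_mem_sup
        Subgroup.le_normalizer_of_normal (hcover (show x ∈ Y from hr))
      rw [map_mul, show π v = 1 from (QuotientGroup.eq_one_iff v).mpr hv, one_mul, ← map_mul,
        ← map_mul, hcon k hk]
    have htR := H10.centralizer_pPrimeCore_le hquot hq hmem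
    have h1 : π t = π a := by
      rw [ht, map_mul, show π w⁻¹ = 1 from (QuotientGroup.eq_one_iff _).mpr (inv_mem hw), one_mul]
    have h2 : π a ^ p = 1 := by rw [← map_pow]; exact (QuotientGroup.eq_one_iff _).mpr hap
    rw [h1] at htR
    have h3 := Nat.dvd_gcd (Subgroup.orderOf_dvd_natCard _ htR) (orderOf_dvd_of_pow_eq_one h2)
    rw [(H10.pPrimeCore_coprime : Nat.Coprime _ _), Nat.dvd_one, orderOf_eq_one_iff] at h3
    exact haW ((QuotientGroup.eq_one_iff a).mp h3)
  obtain ⟨k, hk, hkt⟩ := hnc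
  -- if `K` centralises `z` we are done
  have main : (∀ g ∈ K, g * z = z * g) → False := by
    intro hKz
    set u := k * t * k⁻¹ * t⁻¹ with hu
    have huK : u ∈ K := by
      rw [hu, show k * t * k⁻¹ * t⁻¹ = k * (t * k⁻¹ * t⁻¹) by group]
      exact mul_mem hk (htconj _ (inv_mem hk))
    apply hkt
    have hu1 : u = 1 := by
      refine hfaith u (hKc.coprime_dvd_left (Subgroup.orderOf_dvd_natCard _ huK))
        (H75.commute_of_stabilize (A := W) (B := Z) (hWpg.to_le hZW)
          (hKc.coprime_dvd_left (Subgroup.orderOf_dvd_natCard _ huK)) ?_ ?_)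
      · intro v hv
        -- both `t` and `k t k⁻¹` are trivial modulo `Z`
        have e1 := htcomm (k⁻¹ * (t⁻¹ * v * t) * k) (by
          simpa using (inferInstance : W.Normal).conj_mem _
            (by simpa using (inferInstance : W.Normal).conj_mem v hv t⁻¹) k⁻¹)
        have e2 := htcomm (t⁻¹ * v * t) (by simpa using (inferInstance : W.Normal).conj_mem v hv t⁻¹)
        rw [show t * (t⁻¹ * v * t) * t⁻¹ = v by group] at e2
        obtain ⟨i, hi⟩ := Subgroup.mem_zpowers_iff.mp e1
        have hcz : Commute k (z ^ i) := (show Commute k z from hKz k hk).zpow_right i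
        have heq : u * v * u⁻¹ = z ^ i * (t⁻¹ * v * t) := by
          calc u * v * u⁻¹ = k * (t * (k⁻¹ * (t⁻¹ * v * t) * k) * t⁻¹ * (k⁻¹ * (t⁻¹ * v * t) * k)⁻¹) *
                (k⁻¹ * (t⁻¹ * v * t) * k) * k⁻¹ := by rw [hu]; group
            _ = (k * z ^ i) * k⁻¹ * (t⁻¹ * v * t) := by rw [← hi]; group
            _ = _ := by rw [hcz.eq]; group
        rw [commutatorElement_def, heq,
          show z ^ i * (t⁻¹ * v * t) * v⁻¹ = z ^ i * (v * (t⁻¹ * v * t)⁻¹)⁻¹ by group]
        exact mul_mem (hi ▸ e1) (inv_mem e2)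
      · intro b hb
        obtain ⟨i, rfl⟩ := Subgroup.mem_zpowers_iff.mp hb
        exact (show Commute u z from hKz u huK).zpow_right i
    rw [hu, mul_inv_eq_one] at hu1
    exact (mul_inv_eq_iff_eq_mul.mp hu1).symm
  by_cases hzK : t ^ p = z
  · -- `z` normalises, hence centralises, `K`
    apply main
    intro g hg
    have hz1 : ∀ j : ℕ, ∀ g ∈ K, t ^ j * g * (t ^ j)⁻¹ ∈ K := H32.FreeAbelian.conj_pow_mem htconj
    have h1 : z * g * z⁻¹ * g⁻¹ ∈ K := mul_mem (hzK ▸ hz1 p g hg) (inv_mem hg)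
    have h2 : z * g * z⁻¹ * g⁻¹ ∈ W := by
      rw [show z * g * z⁻¹ * g⁻¹ = z * (g * z⁻¹ * g⁻¹) by group]
      exact mul_mem hap ((inferInstance : W.Normal).conj_mem _ (inv_mem hap) g)
    exact (mul_inv_eq_iff_eq_mul.mp (mul_inv_eq_one.mp (hWK _ h2 h1))).symm
  · -- now `p = 2` and `t` is an involution
    have hp2 : p = 2 := by
      by_contra hne
      apply hzK
      have hdp : d ^ p = 1 := hWp d (hZW hdZ)
      obtain ⟨j, hj⟩ : p ∣ p.choose 2 := hp.dvd_choose_self (by norm_num) (by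
        have := hp.two_le; omega)
      rw [htp, hj, pow_mul, hdp, one_pow, one_mul]
    subst hp2
    have hdz : d = 1 ∨ d = z := by
      obtain ⟨i, hi⟩ := Subgroup.mem_zpowers_iff.mp hdZ
      have hz2' : z ^ (2 : ℤ) = 1 := by exact_mod_cast hzp
      rcases Int.even_or_odd i with ⟨j, rfl⟩ | ⟨j, rfl⟩
      · left; rw [← hi, ← two_mul, zpow_mul, hz2', one_zpow]
      · right; rw [← hi, zpow_add, zpow_mul, hz2', one_zpow, one_mul, zpow_one]
    have ht2 : t ^ 2 = 1 := by
      rcases hdz with h1 | h1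
      · exact absurd (by rw [htp, h1, one_pow, one_mul]) hzK
      · rw [htp, h1, Nat.choose_self, pow_one, ← pow_two]; exact hzp
    set u := k * t * k⁻¹ * t⁻¹ with hu
    have huK : u ∈ K := by
      rw [hu, show k * t * k⁻¹ * t⁻¹ = k * (t * k⁻¹ * t⁻¹) by group]
      exact mul_mem hk (htconj _ (inv_mem hk))
    have hu1 : u ≠ 1 := fun h => hkt (by
      rw [hu, mul_inv_eq_one] at h
      exact (mul_inv_eq_iff_eq_mul.mp h).symm)
    have htt : t * t = 1 := by rw [← pow_two, ht2]
    have hti : t⁻¹ = t := inv_eq_of_mul_eq_one_right htt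
    have htu : t * u * t⁻¹ = u⁻¹ := by
      rw [hu]
      calc t * (k * t * k⁻¹ * t⁻¹) * t⁻¹ = t * k * t * k⁻¹ * (t * t)⁻¹ := by group
        _ = t * k * t⁻¹ * k⁻¹ := by rw [htt, hti, inv_one, mul_one]
        _ = (k * t * k⁻¹ * t⁻¹)⁻¹ := by group
    have hucop : (orderOf u).Coprime 2 := hKc.coprime_dvd_left (Subgroup.orderOf_dvd_natCard _ huK)
    obtain ⟨j, hj⟩ : Odd (orderOf u) := Nat.coprime_two_right.mp hucop
    have husq : u = (u ^ 2) ^ (j + 1) := by
      rw [← pow_mul, show 2 * (j + 1) = orderOf u + 1 by omega, pow_succ, pow_orderOf_eq_one,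
        one_mul]
    set y := u * z * u⁻¹ with hy
    set U := Z ⊔ Subgroup.zpowers y with hU
    have hyW : y ∈ W := (inferInstance : W.Normal).conj_mem z hap u
    have hUW : U ≤ W := sup_le hZW (Subgroup.zpowers_le.mpr hyW)
    have hmod1 : ∀ v ∈ W, t * v * t⁻¹ * v⁻¹ ∈ U := fun v hv => Subgroup.mem_sup_left (htcomm v hv)
    have hmod2 : ∀ v ∈ W, (u * t * u⁻¹) * v * (u * t * u⁻¹)⁻¹ * v⁻¹ ∈ U := by
      intro v hv
      have e1 := htcomm (u⁻¹ * v * u) (by simpa using (inferInstance : W.Normal).conj_mem v hv u⁻¹)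
      obtain ⟨i, hi⟩ := Subgroup.mem_zpowers_iff.mp e1
      refine Subgroup.mem_sup_right ⟨i, ?_⟩
      show y ^ i = _
      rw [hy, conj_zpow, hi]
      group
    have htz : t * z * t⁻¹ = z := by
      rw [htW z hap, hZfix z (Subgroup.mem_zpowers z)]; group
    have hhypN : ∀ g, (∀ v ∈ W, g * v * g⁻¹ * v⁻¹ ∈ U) → g ∈ Subgroup.normalizer (U : Set H) := by
      intro g hg
      have hle : U ≤ U.comap (MulAut.conj g).toMonoidHom := fun x hx => by
        show g * x * g⁻¹ ∈ U
        have h1 := mul_mem (hg x (hUW hx)) hx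
        rwa [inv_mul_cancel_right] at h1
      have heq : U.map (MulAut.conj g).toMonoidHom = U :=
        Subgroup.eq_of_le_of_card_ge (Subgroup.map_le_iff_le_comap.mpr hle)
          (Subgroup.card_map_of_injective (f := (MulAut.conj g).toMonoidHom) (MulAut.conj g).injective).ge
      rw [Subgroup.mem_normalizer_iff]
      intro x
      refine ⟨fun hx => hle hx, fun hx => ?_⟩
      rw [← heq] at hx
      obtain ⟨x', hx', he'⟩ := hx
      exact (MulAut.conj g).injective he' ▸ hx'
    let N : Subgroup H :=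
      { carrier := {g | ∀ v ∈ W, g * v * g⁻¹ * v⁻¹ ∈ U}
        one_mem' := fun v _ => by simp
        mul_mem' := fun {g g'} hg hg' v hv => by
          have h1 := hg' v hv
          have h2 := (Subgroup.mem_normalizer_iff.mp (hhypN g hg) _).mp h1
          have h3 := hg v hv
          rw [show g * g' * v * (g * g')⁻¹ * v⁻¹ =
            g * (g' * v * g'⁻¹ * v⁻¹) * g⁻¹ * (g * v * g⁻¹ * v⁻¹) by group]
          exact mul_mem h2 h3
        inv_mem' := fun {g} hg v hv => by
          have h1 := hg (g⁻¹ * v * g) (by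
            simpa using (inferInstance : W.Normal).conj_mem v hv g⁻¹)
          have h2 := inv_mem h1
          rw [inv_inv]
          rw [show (g * (g⁻¹ * v * g) * g⁻¹ * (g⁻¹ * v * g)⁻¹)⁻¹ = g⁻¹ * v * g * v⁻¹ by group] at h2
          exact h2 }
    have hN1 : t ∈ N := hmod1
    have hN2 : u * t * u⁻¹ ∈ N := hmod2
    have hu2N : u ^ 2 ∈ N := by
      have : u ^ 2 = (u * t * u⁻¹) * t⁻¹ := by
        rw [pow_two]
        calc u * u = u * (t * u * t⁻¹)⁻¹ := by rw [htu, inv_inv]
          _ = _ := by group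
      rw [this]
      exact mul_mem hN2 (inv_mem hN1)
    have huN : ∀ v ∈ W, u * v * u⁻¹ * v⁻¹ ∈ U := by
      have : u ∈ N := by rw [husq]; exact pow_mem hu2N _
      exact this
    have hyz : Commute z y := hWab z hap y hyW
    have hy2 : y ^ 2 = 1 := hWp y hyW
    by_cases hfix : y = z
    · -- `u` fixes `z`
      apply hu1
      have hUZ : U = Z := by rw [hU, hfix, ← hZ, sup_idem]
      exact hfaith u hucop (H75.commute_of_stabilize (A := W) (B := Z) (hWpg.to_le hZW) hucop
        (fun v hv => hUZ ▸ huN v hv) (fun b hb => by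
          obtain ⟨i, rfl⟩ := Subgroup.mem_zpowers_iff.mp hb
          exact (show Commute u z from mul_inv_eq_iff_eq_mul.mp hfix).zpow_right i))
    · have hz1 : z ≠ 1 := fun h1 => hfix (by rw [hy, h1]; group)
      have hy' : u * y * u⁻¹ ∈ U :=
        (Subgroup.mem_normalizer_iff.mp (hhypN u huN) y).mp
          (Subgroup.mem_sup_right (Subgroup.mem_zpowers y))
      have hyval : u * y * u⁻¹ = z * y := by
        have two : ∀ {w v : H}, w ^ 2 = 1 → v ∈ Subgroup.zpowers w → v = 1 ∨ v = w := by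
          intro w v hw hv
          obtain ⟨i, rfl⟩ := Subgroup.mem_zpowers_iff.mp hv
          have hw' : w ^ (2 : ℤ) = 1 := by exact_mod_cast hw
          rcases Int.even_or_odd i with ⟨j, rfl⟩ | ⟨j, rfl⟩
          · left; rw [← two_mul, zpow_mul, hw', one_zpow]
          · right; rw [zpow_add, zpow_mul, hw', one_zpow, one_mul, zpow_one]
        obtain ⟨v, hv, x, hx, hvx⟩ := H1.exists_mul_of_mem_sup
          (D := Z) (H := Subgroup.zpowers y) (Subgroup.zpowers_le.mpr
            (Subgroup.centralizer_le_normalizer _ (Subgroup.mem_centralizer_iff.mpr fun g hg => by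
              obtain ⟨i, rfl⟩ := Subgroup.mem_zpowers_iff.mp hg
              exact (hyz.zpow_left i).eq))) hy'
        rcases two hzp hv with h1 | h1 <;> rcases two hy2 hx with h2 | h2 <;> rw [h1, h2] at hvx
        · exfalso
          have : u * y * u⁻¹ = 1 := hvx.trans (one_mul 1)
          apply hz1
          rw [show z = u⁻¹ * (u⁻¹ * (u * y * u⁻¹) * u) * u by rw [hy]; group, this]
          group
        · exfalso
          apply hfix
          have : u * y * u⁻¹ = u * z * u⁻¹ := hvx.trans (one_mul y)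
          exact mul_left_cancel (mul_right_cancel this)
        · exfalso
          have h3 : u * y * u⁻¹ = z := hvx.trans (mul_one z)
          have hc : u ^ 2 ∈ Subgroup.centralizer ({z} : Set H) := by
            rw [Subgroup.mem_centralizer_singleton_iff]
            calc u ^ 2 * z = (u * y * u⁻¹) * u ^ 2 := by rw [pow_two, hy]; group
              _ = _ := by rw [h3]
          have : u ∈ Subgroup.centralizer ({z} : Set H) := husq ▸ pow_mem hc _
          apply hfix
          rw [hy, Subgroup.mem_centralizer_singleton_iff.mp this]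
          group
        · exact hvx
      have hu3 : u ^ 3 = 1 := by
        have hc : (orderOf (u ^ 3)).Coprime 2 := hucop.coprime_dvd_left (orderOf_pow_dvd 3)
        refine hfaith _ hc (H75.commute_of_stabilize (A := W) (B := U) (hWpg.to_le hUW) hc ?_ ?_)
        · intro v hv
          exact (show u ^ 3 ∈ N from pow_mem (show u ∈ N from huN) 3) v hv
        · have e1 : u ^ 3 * z * (u ^ 3)⁻¹ = z := by
            calc u ^ 3 * z * (u ^ 3)⁻¹ = u * (u * y * u⁻¹) * u⁻¹ := by rw [hy, pow_succ, pow_two]; group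
              _ = u * (z * y) * u⁻¹ := by rw [hyval]
              _ = y * (u * y * u⁻¹) := conj_mul.symm
              _ = _ := by rw [hyval, ← mul_assoc, ← hyz.eq, mul_assoc, ← pow_two, hy2, mul_one]
          have e2 : u ^ 3 * y * (u ^ 3)⁻¹ = y := by
            calc u ^ 3 * y * (u ^ 3)⁻¹ = u * (u ^ 3 * z * (u ^ 3)⁻¹) * u⁻¹ := by rw [hy]; group
              _ = _ := by rw [e1, hy]
          intro b hb
          have hle : U ≤ Subgroup.centralizer ({u ^ 3} : Set H) := by
            rw [hU, sup_le_iff, hZ, Subgroup.zpowers_le, Subgroup.zpowers_le,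
              Subgroup.mem_centralizer_singleton_iff, Subgroup.mem_centralizer_singleton_iff]
            exact ⟨(mul_inv_eq_iff_eq_mul.mp e1).symm, (mul_inv_eq_iff_eq_mul.mp e2).symm⟩
          exact (Subgroup.mem_centralizer_singleton_iff.mp (hle hb)).symm
      exact (h.resolve_left (fun h2 => h2 rfl))
        (involves_sym_four hzp hz1 hyz hfix hyval hu3 ht2 htz htu)

theorem quotient_normalizes {G : Type*} [Group G] {N : Subgroup G} [N.Normal] {P A : Subgroup G}
    (h : P ≤ Subgroup.normalizer (A : Set G)) :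
    P.map (QuotientGroup.mk' N) ≤ Subgroup.normalizer ((A.map (QuotientGroup.mk' N) : Subgroup (G ⧸ N)) : Set (G ⧸ N)) :=
  (Subgroup.map_mono h).trans (Subgroup.le_normalizer_map _)

/-- The case `O_{p'} = 1`. -/
theorem main {G : Type*} [Group G] [Finite G] {p : ℕ} [Fact p.Prime] (hG : Cfsg.IsPSolvable p G)
    (hO : Cfsg.pPrimeCore p G = ⊥) (A : Subgroup G) (hAp : IsPGroup p A) (hA : IsCyclic A)
    (hAV : Cfsg.pCore p G ≤ Subgroup.normalizer (A : Set G))
    (h : p ≠ 2 ∨ ¬ Cfsg.Involves (Equiv.Perm (Fin 4)) G) : A ≤ Cfsg.pCore p G := by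
  classical
  haveI hVn : (Cfsg.pCore p G).Normal := H10.pCore_normal
  set V := Cfsg.pCore p G with hV
  have hVp : IsPGroup p V := H10.pCore_isPGroup
  by_contra hnot
  obtain ⟨a₀, ha₀, ha₀V⟩ := SetLike.not_le_iff_exists.mp hnot
  -- a power of `a₀` outside `V` with `p`-th power inside
  have hex : ∃ j : ℕ, a₀ ^ p ^ j ∈ V := by
    obtain ⟨j, hj⟩ := hAp ⟨a₀, ha₀⟩
    exact ⟨j, (show a₀ ^ p ^ j = 1 from congrArg Subtype.val hj) ▸ one_mem V⟩
  set j := Nat.find hex with hjdef
  have hj0 : j ≠ 0 := fun h0 => ha₀V (by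
    have := Nat.find_spec hex
    rwa [← hjdef, h0, pow_zero, pow_one] at this)
  obtain ⟨i, hi⟩ := Nat.exists_eq_succ_of_ne_zero hj0
  set a := a₀ ^ p ^ i with ha
  have haA : a ∈ A := pow_mem ha₀ _
  have haV : a ∉ V := fun hmem => by
    have := Nat.find_min' hex hmem
    omega
  have hapV : a ^ p ∈ V := by
    have := Nat.find_spec hex
    rw [← hjdef, hi, pow_succ, pow_mul] at this
    exact this
  set Φ := (frattini ↥V).map V.subtype with hΦ
  haveI hΦn : Φ.Normal := ConjAct.normal_of_characteristic_of_normal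
  set π := QuotientGroup.mk' Φ with hπ
  set W := V.map π with hW
  haveI : W.Normal := hVn.map π (QuotientGroup.mk'_surjective Φ)
  have hΦV : Φ ≤ V := Subgroup.map_subtype_le _
  have hWcomap : ∀ {g : G}, π g ∈ W → g ∈ V := by
    rintro g ⟨v, hv, hvg⟩
    have h1 : v⁻¹ * g ∈ Φ := QuotientGroup.eq.mp hvg
    rw [show g = v * (v⁻¹ * g) by group]
    exact mul_mem hv (hΦV h1)
  refine core (H10.isPSolvable_quotient hG Φ) W ?_ ?_ ?_ ?_ (a := π a) (fun hm => haV (hWcomap hm))
    (by rw [← map_pow]; exact ⟨_, hapV, rfl⟩) ?_ (h.imp_right fun h' hc => h' (involves_of_quotient hc))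
  · rintro _ ⟨v, hv, rfl⟩ _ ⟨w, hw, rfl⟩
    rw [← map_mul, ← map_mul]
    apply QuotientGroup.eq.mpr
    refine ⟨⁅(⟨w, hw⟩ : V)⁻¹, (⟨v, hv⟩ : V)⁻¹⁆, H6.commutator_le_frattini hVp
      (Subgroup.commutator_mem_commutator (Subgroup.mem_top _) (Subgroup.mem_top _)), ?_⟩
    simp [commutatorElement_def, mul_assoc]
  · rintro _ ⟨v, hv, rfl⟩
    rw [← map_pow]
    exact (QuotientGroup.eq_one_iff _).mpr ⟨_, H6.pow_prime_mem_frattini hVp ⟨v, hv⟩, rfl⟩
  · set O := Cfsg.pCore p ((G ⧸ Φ) ⧸ W)
    haveI : O.Normal := H10.pCore_normal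
    let f := (QuotientGroup.mk' W).comp π
    have hf : Function.Surjective f :=
      (QuotientGroup.mk'_surjective W).comp (QuotientGroup.mk'_surjective Φ)
    have hker : f.ker ≤ V := fun g hg => hWcomap ((QuotientGroup.eq_one_iff _).mp hg)
    have hp : IsPGroup p (O.comap f) := by
      refine IsPGroup.comap_of_ker_isPGroup H10.pCore_isPGroup f (hVp.to_le hker)
    have hle : O.comap f ≤ V := H10.le_pCore inferInstance hp
    rw [eq_bot_iff]
    intro o ho
    obtain ⟨g, rfl⟩ := hf o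
    rw [Subgroup.mem_bot]
    exact (QuotientGroup.eq_one_iff _).mpr ⟨g, hle ho, rfl⟩
  · intro gb hgb hcomm
    obtain ⟨g, rfl⟩ := QuotientGroup.mk'_surjective Φ gb
    obtain ⟨e, m, hm, hgm⟩ := Nat.exists_eq_pow_mul_and_not_dvd (orderOf_pos g).ne' p
      (Fact.out : p.Prime).ne_one
    set g' := g ^ p ^ e with hg'
    have hg'ord : (orderOf g').Coprime p := by
      rw [hg', orderOf_pow_of_dvd (pow_ne_zero _ (Fact.out : p.Prime).ne_zero) (hgm ▸ dvd_mul_right _ _),
        hgm, Nat.mul_div_cancel_left _ (pow_pos (Fact.out : p.Prime).pos e)]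
      exact ((Fact.out : p.Prime).coprime_iff_not_dvd.mpr hm).symm
    have hg'V : g' ∈ V := by
      apply H10.centralizer_pCore_le hG hO
      refine H1.le_centralizer_of_frattini (A := Subgroup.zpowers g') (K := V)
        Subgroup.le_normalizer_of_normal ?_ ?_ (Subgroup.mem_zpowers g')
      · rw [Nat.card_zpowers]
        obtain ⟨b, hb⟩ := (hVp.to_subgroup (frattini ↥V)).exists_card_eq
        rw [hb]
        exact hg'ord.pow_right b
      · intro x hx v hv
        obtain ⟨l, rfl⟩ := Subgroup.mem_zpowers_iff.mp hx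
        apply (QuotientGroup.eq_one_iff _).mp
        have hc : Commute (π g' ^ l) (π v) := by
          rw [hg', map_pow]
          exact ((hcomm _ ⟨v, hv, rfl⟩).pow_left _).zpow_left l
        show π (g' ^ l * v * (g' ^ l)⁻¹ * v⁻¹) = 1
        rw [map_mul, map_mul, map_mul, map_inv, map_inv, map_zpow, hc.eq]
        group
    have h1 : g' = 1 := by
      obtain ⟨b, hb⟩ := hVp ⟨g', hg'V⟩
      have h2 := Nat.dvd_gcd (dvd_refl (orderOf g'))
        (orderOf_dvd_of_pow_eq_one (congrArg Subtype.val hb))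
      rw [(hg'ord.pow_right b : Nat.Coprime _ _), Nat.dvd_one, orderOf_eq_one_iff] at h2
      exact h2
    have h2 : π g ^ p ^ e = 1 := by rw [← map_pow, ← hg', h1, map_one]
    have h3 := Nat.dvd_gcd (dvd_refl (orderOf (π g))) (orderOf_dvd_of_pow_eq_one h2)
    rw [(hgb.pow_right e : Nat.Coprime _ _), Nat.dvd_one, orderOf_eq_one_iff] at h3
    exact h3
  · rintro _ ⟨v, hv, rfl⟩
    -- conjugation by `v` preserves the subgroup generated by `a`
    have hmem : v * a * v⁻¹ ∈ A := (Subgroup.mem_normalizer_iff.mp (hAV hv) a).mp haA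
    have hzp : v * a * v⁻¹ ∈ Subgroup.zpowers a := by
      haveI := hA
      have h1 : (Subgroup.zpowers (⟨v * a * v⁻¹, hmem⟩ : A)) = Subgroup.zpowers (⟨a, haA⟩ : A) := by
        apply H18.cyclic_subgroup_eq_of_card_eq
        rw [Nat.card_zpowers, Nat.card_zpowers, ← Subgroup.orderOf_coe, ← Subgroup.orderOf_coe]
        exact orderOf_injective (MulAut.conj v).toMonoidHom (MulAut.conj v).injective a
      have h2 := h1 ▸ Subgroup.mem_zpowers (⟨v * a * v⁻¹, hmem⟩ : A)
      obtain ⟨l, hl⟩ := Subgroup.mem_zpowers_iff.mp h2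
      exact ⟨l, congrArg Subtype.val hl⟩
    obtain ⟨l, hl⟩ := Subgroup.mem_zpowers_iff.mp hzp
    exact ⟨l, show π a ^ l = _ by rw [← map_zpow, hl, map_mul, map_mul, map_inv]⟩

/-- Let G be a finite p-soluble group, P a Sylow p-subgroup of G and A a cyclic normal subgroup of P. If p is odd, or if no section of G is isomorphic to the symmetric group of degree 4, then A ≤ O_{p',p}(G). -/
theorem result {G : Type*} [Group G] [Finite G] {p : ℕ} [Fact p.Prime] (hG : Cfsg.IsPSolvable p G) (P : Sylow p G) (A : Subgroup G) (hAP : A ≤ (P : Subgroup G)) (hAn : (P : Subgroup G) ≤ Subgroup.normalizer (A : Set G)) (hA : IsCyclic A) (h : p ≠ 2 ∨ ¬ Cfsg.Involves (Equiv.Perm (Fin 4)) G) : A ≤ Cfsg.pPrimePCore p G := by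
  haveI : (Cfsg.pPrimeCore p G).Normal := H10.pPrimeCore_normal
  set π := QuotientGroup.mk' (Cfsg.pPrimeCore p G) with hπ
  have hq : Cfsg.pPrimeCore p (G ⧸ Cfsg.pPrimeCore p G) = ⊥ := H10.pPrimeCore_quotient_pPrimeCore
  haveI := hA
  have h1 : IsCyclic (A.map π) :=
    isCyclic_of_surjective (π.subgroupMap A) (π.subgroupMap_surjective A)
  have h2 : IsPGroup p (A.map π) := (P.isPGroup'.to_le hAP).map π
  have h3 : Cfsg.pCore p (G ⧸ Cfsg.pPrimeCore p G) ≤
      Subgroup.normalizer ((A.map π : Subgroup (G ⧸ Cfsg.pPrimeCore p G)) : Set (G ⧸ Cfsg.pPrimeCore p G)) :=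
    (H10.pCore_le_sylow (P.mapSurjective (QuotientGroup.mk'_surjective _))).trans
      (quotient_normalizes hAn)
  have h4 := main (H10.isPSolvable_quotient hG _) hq (A.map π) h2 h1 h3
    (h.imp_right fun h' hc => h' (involves_of_quotient hc))
  rw [Cfsg.pPrimePCore]
  exact Subgroup.map_le_iff_le_comap.mp h4

end Cfsg.Agent.S3788
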