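import Cfsg.Statements.S3789
import Cfsg.Agent.H32.HHLinear
import Cfsg.Agent.H10.PStability
import Cfsg.Agent.H10.StableNormal
import Cfsg.Agent.H11.PLengthClass
import Cfsg.Agent.H32.PSeries

set_option autoImplicit false
open Cfsg

namespace Cfsg.Agent.S3789

open scoped commutatorElement

universe w

theorem quad_of_rel {R : Type*} [Ring R] {H : Type*} [Group H] (ρ : H →* R) {B : Subgroup H}
    (hrel : ∀ a ∈ ⁅B, B⁆, ∀ b ∈ B, ∀ c ∈ B, (ρ a - 1) * (ρ b - 1) * (ρ c - 1) = 0) :
    ∀ a ∈ ⁅B, B⁆, ∀ a' ∈ ⁅B, B⁆, (ρ a - 1) * (ρ a' - 1) = 0 := by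
  intro a ha
  let T : Subgroup H :=
    { carrier := {x | (ρ a - 1) * (ρ x - 1) = 0}
      one_mem' := by simp
      mul_mem' := fun {x y} hx hy => by
        show (ρ a - 1) * (ρ (x * y) - 1) = 0
        rw [map_mul, show ρ x * ρ y - 1 = (ρ x - 1) * ρ y + (ρ y - 1) by rw [sub_mul, one_mul]; abel, mul_add,
          ← mul_assoc, show (ρ a - 1) * (ρ x - 1) = 0 from hx,
          show (ρ a - 1) * (ρ y - 1) = 0 from hy, zero_mul, add_zero]
      inv_mem' := fun {x} hx => by
        show (ρ a - 1) * (ρ x⁻¹ - 1) = 0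
        have e : (ρ x - 1) * ρ x⁻¹ = 1 - ρ x⁻¹ := by rw [sub_mul, H32.HH.sigma_mul_inv, one_mul]
        have h0 : (ρ a - 1) * ((ρ x - 1) * ρ x⁻¹) = 0 := by
          rw [← mul_assoc, show (ρ a - 1) * (ρ x - 1) = 0 from hx, zero_mul]
        rw [e, mul_sub] at h0
        rw [mul_sub]
        exact sub_eq_zero.mpr (sub_eq_zero.mp h0).symm }
  have hle : ⁅B, B⁆ ≤ T := by
    rw [Subgroup.commutator_le]
    intro b hb c hc
    show (ρ a - 1) * (ρ ⁅b, c⁆ - 1) = 0
    have e : ρ ⁅b, c⁆ - 1 = (ρ b * ρ c - ρ c * ρ b) * ρ (b⁻¹ * c⁻¹) := by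
      rw [sub_mul, ← map_mul, ← map_mul, ← map_mul, ← map_mul,
        show c * b * (b⁻¹ * c⁻¹) = 1 by group, map_one,
        show b * c * (b⁻¹ * c⁻¹) = ⁅b, c⁆ by simp only [commutatorElement_def]; group]
    have e2 : ρ b * ρ c - ρ c * ρ b = (ρ b - 1) * (ρ c - 1) - (ρ c - 1) * (ρ b - 1) := by
      simp only [sub_mul, mul_sub, one_mul, mul_one]; abel
    rw [e, e2, ← mul_assoc, mul_sub, ← mul_assoc, ← mul_assoc, hrel a ha b hb c hc, hrel a ha c hc b hb,
      sub_zero, zero_mul]
  exact fun a' ha' => hle ha'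

variable {G : Type*} [Group G] [Finite G] {p : ℕ} [Fact p.Prime]

/-- The representation on an elementary abelian normal subgroup, with triple commutators. -/
theorem exists_rep3 (V : Subgroup G) [V.Normal] (hV : Cfsg.IsElementaryAbelian p V) :
    ∃ (n : ℕ) (ρ : (G ⧸ Subgroup.centralizer (V : Set G)) →*
        Module.End (AlgebraicClosure (ZMod p)) (Fin n → AlgebraicClosure (ZMod p))),
      Function.Injective ρ ∧ ∀ a b c : G, (∀ v ∈ V, ⁅a, ⁅b, ⁅c, v⁆⁆⁆ = 1) →
        (ρ (a : G ⧸ Subgroup.centralizer (V : Set G)) - 1) * (ρ (b : G ⧸ Subgroup.centralizer (V : Set G)) - 1) *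
          (ρ (c : G ⧸ Subgroup.centralizer (V : Set G)) - 1) = 0 := by
  letI : CommGroup V := { (inferInstance : Group V) with mul_comm := hV.1.is_comm.comm }
  haveI : Module (ZMod p) (Additive V) :=
    AddCommGroup.zmodModule (fun x => by
      apply Additive.toMul.injective
      exact Subtype.ext (by simpa using hV.2 _ (Additive.toMul x).2))
  let f : G → Additive V →+ Additive V := fun g => MonoidHom.toAdditive (MulAut.conjNormal g : MulAut V).toMonoidHom
  have hf : ∀ (g : G) (x : Additive V), ((Additive.toMul (f g x) : V) : G) =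
      g * (Additive.toMul x : V) * g⁻¹ := fun g x => rfl
  let lin : G →* Module.End (ZMod p) (Additive V) :=
    { toFun := fun g => (f g).toZModLinearMap p
      map_one' := LinearMap.ext fun x => Additive.toMul.injective (Subtype.ext (by
        show ((Additive.toMul (f 1 x) : V) : G) = _
        rw [hf]; simp))
      map_mul' := fun g h => LinearMap.ext fun x => Additive.toMul.injective (Subtype.ext (by
        show ((Additive.toMul (f (g * h) x) : V) : G) = ((Additive.toMul (f g (f h x)) : V) : G)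
        rw [hf, hf, hf]; group)) }
  obtain ⟨n, e, he⟩ := H10.exists_end_embedding (p := p) (Additive V)
  have hker : ∀ g, lin g = 1 ↔ g ∈ Subgroup.centralizer (V : Set G) := by
    intro g
    rw [Subgroup.mem_centralizer_iff]
    refine ⟨fun h v hv => ?_, fun h => LinearMap.ext fun x => Additive.toMul.injective (Subtype.ext ?_)⟩
    · have h1 := congrArg (fun L : Module.End (ZMod p) (Additive V) =>
        ((Additive.toMul (L (Additive.ofMul ⟨v, hv⟩)) : V) : G)) h
      have h2 : g * v * g⁻¹ = v := h1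
      exact (mul_inv_eq_iff_eq_mul.mp h2).symm
    · show g * _ * g⁻¹ = _
      rw [← h _ (Additive.toMul x).2, mul_inv_cancel_right]
      rfl
  refine ⟨n, ((e : _ →* _).comp (QuotientGroup.lift _ lin fun g hg => MonoidHom.mem_ker.mpr ((hker g).mpr hg))), ?_, ?_⟩
  · refine he.comp ?_
    rw [← MonoidHom.ker_eq_bot_iff, eq_bot_iff]
    intro x hx
    obtain ⟨g, rfl⟩ := QuotientGroup.mk'_surjective _ x
    exact Subgroup.mem_bot.mpr ((QuotientGroup.eq_one_iff g).mpr ((hker g).mp hx))
  · intro a b c h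
    show (e (lin a) - 1) * (e (lin b) - 1) * (e (lin c) - 1) = 0
    rw [← map_one e, ← map_sub, ← map_sub, ← map_sub, ← map_mul, ← map_mul]
    convert map_zero e
    refine LinearMap.ext fun x => ?_
    have sub1 : ∀ (g : G) (y : Additive V), ((Additive.toMul ((lin g - 1) y) : V) : G) =
        ⁅g, ((Additive.toMul y : V) : G)⁆ := by
      intro g y
      show ((Additive.toMul (f g y - y) : V) : G) = _
      rw [toMul_sub, div_eq_mul_inv, Subgroup.coe_mul, Subgroup.coe_inv, hf, commutatorElement_def]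
    apply Additive.toMul.injective
    apply Subtype.ext
    rw [Module.End.mul_apply, Module.End.mul_apply, sub1, sub1, sub1, h _ (Additive.toMul x).2]
    rfl

/-- The last derived term of a Sylow subgroup lies in `O_p` when `O_{p'} = 1`. -/
theorem derived_le_pCore {G : Type w} [Group G] [Finite G] {p : ℕ} [Fact p.Prime] (hp : p ≠ 2)
    (hs : Cfsg.IsPSolvable p G) (hO : Cfsg.pPrimeCore p G = ⊥) (S : Sylow p G) (d : ℕ)
    (hd : derivedSeries (S : Subgroup G) (d + 1) = ⊥) :
    (derivedSeries (S : Subgroup G) d).map (S : Subgroup G).subtype ≤ Cfsg.pCore p G := by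
  classical
  have hcU := H10.centralizer_pCore_le hs hO
  have hUS : Cfsg.pCore p G ≤ (S : Subgroup G) := H10.pCore_le_sylow S
  have hab : ∀ x ∈ (derivedSeries (S : Subgroup G) d).map (S : Subgroup G).subtype,
      ∀ y ∈ (derivedSeries (S : Subgroup G) d).map (S : Subgroup G).subtype, Commute x y := by
    rintro _ ⟨x, hx, rfl⟩ _ ⟨y, hy, rfl⟩
    have h : ⁅x, y⁆ ∈ derivedSeries (S : Subgroup G) (d + 1) := Subgroup.commutator_mem_commutator hx hy
    rw [hd, Subgroup.mem_bot, commutatorElement_eq_one_iff_commute] at h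
    exact h.map (S : Subgroup G).subtype
  rcases Nat.eq_zero_or_pos d with rfl | hdpos
  · intro x hx
    refine hcU (Subgroup.mem_centralizer_iff.mpr fun y hy => ?_)
    exact (hab y ⟨⟨y, hUS hy⟩, Subgroup.mem_top _, rfl⟩ x hx).eq
  obtain ⟨e, rfl⟩ : ∃ e, d = e + 1 := ⟨d - 1, by omega⟩
  set U := Cfsg.pCore p G with hU
  set B0 := (derivedSeries (S : Subgroup G) e).map (S : Subgroup G).subtype with hB0
  set A0 := (derivedSeries (S : Subgroup G) (e + 1)).map (S : Subgroup G).subtype with hA0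
  have hA0B : A0 = ⁅B0, B0⁆ := by
    rw [hA0, derivedSeries_succ, Subgroup.map_commutator]
  set Φ := (frattini U).map U.subtype with hΦ
  haveI hΦn : Φ.Normal := H10.map_frattini_subtype_normal H10.pCore_normal
  set π := QuotientGroup.mk' Φ
  set V := U.map π with hV
  haveI : V.Normal := (inferInstance : U.Normal).map π (QuotientGroup.mk'_surjective _)
  have hVe : Cfsg.IsElementaryAbelian p V := H10.elementaryAbelian_pCore_section
  obtain ⟨n, ρ, hinj, hrel3⟩ := exists_rep3 V hVe
  set C := Subgroup.centralizer (V : Set (G ⧸ Φ))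
  set θ : G →* (G ⧸ Φ) ⧸ C := (QuotientGroup.mk' C).comp π with hθdef
  have hθ : Function.Surjective θ := (QuotientGroup.mk'_surjective C).comp (QuotientGroup.mk'_surjective _)
  have hkerp : IsPGroup p θ.ker := by
    have : θ.ker = Cfsg.sectionKernel U Φ := by
      rw [hθdef, ← MonoidHom.comap_ker, QuotientGroup.ker_mk']; rfl
    rw [this]
    exact H10.isPGroup_sectionKernel_frattini hcU
  have hkerU : θ.ker ≤ U := H10.le_pCore inferInstance hkerp
  have hOH : Cfsg.pCore p ((G ⧸ Φ) ⧸ C) = ⊥ := by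
    set Y := (Cfsg.pCore p ((G ⧸ Φ) ⧸ C)).comap θ
    haveI : Y.Normal := Subgroup.Normal.comap inferInstance θ
    have hYp : IsPGroup p Y := by
      intro y
      obtain ⟨i, hi⟩ := H10.pCore_isPGroup (⟨θ y, y.2⟩ : Cfsg.pCore p ((G ⧸ Φ) ⧸ C))
      have hi' : ((y : G) ^ p ^ i) ∈ θ.ker := by
        rw [MonoidHom.mem_ker, map_pow]; exact congrArg Subtype.val hi
      obtain ⟨j, hj⟩ := hkerp ⟨_, hi'⟩
      refine ⟨i + j, Subtype.ext ?_⟩
      rw [Subgroup.coe_pow, pow_add, pow_mul]
      exact congrArg Subtype.val hj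
    have hYU : Y ≤ U := H10.le_pCore inferInstance hYp
    rw [eq_bot_iff]
    intro h hh
    obtain ⟨y, rfl⟩ := hθ h
    have hyV : π y ∈ C := by
      have hyV' : π y ∈ V := Subgroup.mem_map_of_mem π (hYU hh)
      rw [Subgroup.mem_centralizer_iff]
      intro v hv
      exact congrArg Subtype.val (hVe.1.is_comm.comm ⟨v, hv⟩ ⟨_, hyV'⟩)
    exact Subgroup.mem_bot.mpr ((QuotientGroup.eq_one_iff _).mpr hyV)
  have hsH : Cfsg.IsPSolvable p ((G ⧸ Φ) ⧸ C) := H10.isPSolvable_of_surjective hs θ hθ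
  set B := B0.map θ with hB
  have hBp : IsPGroup p B := (((S.isPGroup'.to_subgroup _).map (S : Subgroup G).subtype)).map θ
  have hAB : ⁅B, B⁆ = A0.map θ := by rw [hA0B, Subgroup.map_commutator]
  have hB0n : (S : Subgroup G) ≤ Subgroup.normalizer (B0 : Set G) :=
    Subgroup.le_normalizer.trans (Cfsg.Comp.le_normalizer_map_subtype (derivedSeries (S : Subgroup G) e))
  have hrel : ∀ a ∈ ⁅B, B⁆, ∀ b ∈ B, ∀ c ∈ B, (ρ a - 1) * (ρ b - 1) * (ρ c - 1) = 0 := by
    intro a ha b hb c hc
    rw [hAB] at ha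
    obtain ⟨a0, ha0, rfl⟩ := ha
    obtain ⟨b0, hb0, rfl⟩ := hb
    obtain ⟨c0, hc0, rfl⟩ := hc
    refine hrel3 (π a0) (π b0) (π c0) ?_
    rintro _ ⟨v, hv, rfl⟩
    rw [← map_commutatorElement, ← map_commutatorElement, ← map_commutatorElement]
    have hvS : v ∈ Subgroup.normalizer (B0 : Set G) := hB0n (hUS hv)
    have h1 : ⁅c0, v⁆ ∈ B0 := by
      rw [commutatorElement_def, show c0 * v * c0⁻¹ * v⁻¹ = c0 * (v * c0⁻¹ * v⁻¹) by group]
      exact mul_mem hc0 ((Subgroup.mem_normalizer_iff.mp hvS _).mp (inv_mem hc0))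
    have h2 : ⁅b0, ⁅c0, v⁆⁆ ∈ A0 := hA0B ▸ Subgroup.commutator_mem_commutator hb0 h1
    rw [commutatorElement_eq_one_iff_commute.mpr (hab a0 ha0 _ h2), map_one]
  have hbot : ⁅B, B⁆ = ⊥ := by
    rw [eq_bot_iff]
    intro a ha
    rcases eq_or_ne p 3 with h3 | h3
    · subst h3
      exact H32.HH.commutator_eq_bot ρ hinj hsH hOH B hBp hrel ▸ ha
    · by_contra hna
      obtain ⟨e3, -⟩ := H10.end_sl23_of_not_mem_pCore hp hinj hsH (a := a)
        (quad_of_rel ρ hrel a ha a ha) (hOH.symm ▸ hna)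
      exact h3 e3
  intro x hx
  apply hkerU
  rw [MonoidHom.mem_ker, ← Subgroup.mem_bot, ← hbot, hAB]
  exact Subgroup.mem_map_of_mem θ hx

theorem main (p : ℕ) [Fact p.Prime] (hp : p ≠ 2) : ∀ (d : ℕ) (G : Type w) [Group G] [Finite G],
    Cfsg.IsPSolvable p G → ∀ S : Sylow p G, derivedSeries (S : Subgroup G) d = ⊥ → Cfsg.PLengthLE p d G := by
  intro d
  induction d with
  | zero =>
    intro G _ _ _ S hS
    rw [derivedSeries_zero] at hS
    refine H32.PSeries.pLengthLE_zero_of_coprime (H10.coprime_iff_not_dvd.mpr fun hd => ?_)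
    refine S.ne_bot_of_dvd_card hd (eq_bot_iff.mpr fun x hx => ?_)
    have := hS.le (Subgroup.mem_top (⟨x, hx⟩ : (S : Subgroup G)))
    exact congrArg Subtype.val (Subgroup.mem_bot.mp this)
  | succ d ih =>
    intro G _ _ hsol S hS
    haveI := H1.pPrimeCore_normal' p G
    set q := QuotientGroup.mk' (Cfsg.pPrimeCore p G)
    set S1 := S.mapSurjective (QuotientGroup.mk'_surjective (Cfsg.pPrimeCore p G)) with hS1
    have hderiv : ∀ k : ℕ, (derivedSeries (S1 : Subgroup (G ⧸ Cfsg.pPrimeCore p G)) k).map (S1 : Subgroup (G ⧸ Cfsg.pPrimeCore p G)).subtype =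
        ((derivedSeries (S : Subgroup G) k).map (S : Subgroup G).subtype).map q := fun k =>
      derived_map q (S : Subgroup G) (S1 : Subgroup (G ⧸ Cfsg.pPrimeCore p G)) rfl k
    have hS1d : derivedSeries (S1 : Subgroup (G ⧸ Cfsg.pPrimeCore p G)) (d + 1) = ⊥ := by
      apply Subgroup.map_injective (S1 : Subgroup (G ⧸ Cfsg.pPrimeCore p G)).subtype_injective
      rw [hderiv, hS, Subgroup.map_bot, Subgroup.map_bot, Subgroup.map_bot]
    have hA : (derivedSeries (S : Subgroup G) d).map (S : Subgroup G).subtype ≤ (Cfsg.upperPSeries p G 2).1 := by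
      rw [H82.upperPSeries_two, Cfsg.pPrimePCore, ← Subgroup.map_le_iff_le_comap, ← hderiv]
      exact derived_le_pCore hp (H10.isPSolvable_quotient hsol _) H10.pPrimeCore_quotient_pPrimeCore S1 d hS1d
    set f := QuotientGroup.mk' (Cfsg.upperPSeries p G 2).1 with hf
    set S2 := S.mapSurjective (QuotientGroup.mk'_surjective (Cfsg.upperPSeries p G 2).1)
    have hS2d : derivedSeries (S2 : Subgroup (G ⧸ (Cfsg.upperPSeries p G 2).1)) d = ⊥ := by
      apply Subgroup.map_injective (S2 : Subgroup (G ⧸ (Cfsg.upperPSeries p G 2).1)).subtype_injective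
      rw [derived_map f (S : Subgroup G) (S2 : Subgroup (G ⧸ (Cfsg.upperPSeries p G 2).1)) rfl d, Subgroup.map_bot, eq_bot_iff,
        Subgroup.map_le_iff_le_comap, MonoidHom.comap_bot, QuotientGroup.ker_mk']
      exact hA
    have h := ih (G ⧸ (Cfsg.upperPSeries p G 2).1) (H10.isPSolvable_quotient hsol _) S2 hS2d
    show (Cfsg.upperPSeries p G (2 * (d + 1) + 1)).1 = ⊤
    rw [show 2 * (d + 1) + 1 = (2 * d + 1) + 2 by omega, H11.upperPSeries_add_two,
      show (Cfsg.upperPSeries p (G ⧸ (Cfsg.upperPSeries p G 2).1) (2 * d + 1)).1 = ⊤ from h, Subgroup.comap_top]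
where
  derived_map {G X : Type w} [Group G] [Group X] (f : G →* X) (P : Subgroup G) (P' : Subgroup X)
      (h : P' = P.map f) : ∀ k, (derivedSeries P' k).map P'.subtype = ((derivedSeries P k).map P.subtype).map f := by
    subst h
    intro k
    induction k with
    | zero => rw [derivedSeries_zero, derivedSeries_zero, ← MonoidHom.range_eq_map, ← MonoidHom.range_eq_map,
        Subgroup.range_subtype, Subgroup.range_subtype]
    | succ k ih => rw [derivedSeries_succ, derivedSeries_succ, Subgroup.map_commutator, Subgroup.map_commutator,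
        Subgroup.map_commutator, ih]

/-- Let p be an odd prime and G a finite p-soluble group whose Sylow p-subgroups have derived length at most d. Then G has p-length at most d. -/
theorem result {G : Type*} [Group G] [Finite G] {p : ℕ} [Fact p.Prime] (hp : p ≠ 2) (hG : Cfsg.IsPSolvable p G) (d : ℕ) (hd : ∀ P : Sylow p G, derivedSeries ↥(P : Subgroup G) d = ⊥) : Cfsg.PLengthLE p d G := by
  obtain ⟨S⟩ : Nonempty (Sylow p G) := inferInstance
  exact main p hp d G hG S (hd S)

end Cfsg.Agent.S3789
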