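import Cfsg.Statements.S3790
import Cfsg.Agent.H32.PSeries

set_option autoImplicit false
universe u
open Cfsg

namespace Cfsg.Agent.S3790

open H32.PSeries

/-- Every prime-avoiding group has `p`-length bounded by the product. -/
theorem main (p : ℕ) [Fact p.Prime] (S : Finset ℕ) (l : ℕ → ℕ) :
    ∀ {G : Type u} [Group G] [Finite G], (∀ s ∈ S, s.Prime ∧ s ≠ p) →
      (∀ s ∈ S, Cfsg.PLengthLE s (l s) G) →
      (∀ s : ℕ, s.Prime → s ∣ Nat.card G → s ≠ p → s ∈ S) →
      Cfsg.PLengthLE p (∏ s ∈ S, (1 + l s)) G := by
  classical
  induction S using Finset.induction_on with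
  | empty =>
    intro G _ _ _ _ hcover
    rw [Finset.prod_empty]
    apply pLengthLE_one_of_isPGroup
    obtain ⟨m, hm⟩ : ∃ m, Nat.card G = p ^ m := by
      refine ⟨_, Nat.eq_prime_pow_of_unique_prime_dvd Nat.card_pos.ne' fun {d} hd hdvd => ?_⟩
      by_contra hne
      exact absurd (hcover d hd hdvd hne) (Finset.notMem_empty d)
    exact IsPGroup.of_card hm
  | @insert q T hqT ih =>
    intro G _ _ hS hl hcover
    rw [Finset.prod_insert hqT]
    set B := ∏ s ∈ T, (1 + l s) with hB
    obtain ⟨hq, hqp⟩ := hS q (Finset.mem_insert_self q T)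
    haveI := Fact.mk hq
    have hser := upperPSeries_isAlt (G := G) (p := q) (2 * l q + 1)
    set U := fun i => (Cfsg.upperPSeries q G i).1 with hU
    have key : ∀ i ≤ 2 * l q + 1, Cfsg.PLengthLE p (((i + 1) / 2) * B) (U i) := by
      intro i
      induction i with
      | zero =>
        intro _
        simp only [Nat.zero_add, Nat.reduceDiv, zero_mul]
        apply pLengthLE_zero_of_coprime
        rw [show U 0 = ⊥ from rfl, Subgroup.card_bot]
        exact Nat.coprime_one_left p
      | succ i ihi =>
        intro hi
        haveI hn : (U i).Normal := (Cfsg.upperPSeries q G i).2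
        set N := (U i).subgroupOf (U (i + 1)) with hN
        have hle : U i ≤ U (i + 1) := H10.upperPSeries_le_succ i
        have hNc : Cfsg.PLengthLE p (((i + 1) / 2) * B) N :=
          pLengthLE_of_injective (ihi (by omega)) (Subgroup.subgroupOfEquivOfLe hle).toMonoidHom
            (Subgroup.subgroupOfEquivOfLe hle).injective
        have hcard : Nat.card (↥(U (i + 1)) ⧸ N) = (U i).relIndex (U (i + 1)) := rfl
        by_cases he : Even i
        · have hc := hser.even_factor i (by omega) he
          have hq' : Cfsg.PLengthLE p B (↥(U (i + 1)) ⧸ N) := by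
            refine ih (fun s hs => hS s (Finset.mem_insert_of_mem hs)) (fun s hs => ?_) ?_
            · haveI := Fact.mk (hS s (Finset.mem_insert_of_mem hs)).1
              exact pLengthLE_of_surjective
                (pLengthLE_of_injective (hl s (Finset.mem_insert_of_mem hs)) (U (i + 1)).subtype
                  (U (i + 1)).subtype_injective)
                (QuotientGroup.mk' N) (QuotientGroup.mk'_surjective N)
            · intro s hs hsd hsp
              have hsG : s ∣ Nat.card G :=
                hsd.trans ((Subgroup.card_quotient_dvd_card N).trans (Subgroup.card_subgroup_dvd_card _))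
              rcases Finset.mem_insert.mp (hcover s hs hsG hsp) with rfl | h
              · exact absurd (hc.coprime_dvd_left (hcard ▸ hsd))
                  (by simpa [Nat.coprime_self] using hs.one_lt.ne')
              · exact h
          have := pLengthLE_add N hNc hq'
          obtain ⟨j, rfl⟩ := he
          rw [show (j + j + 1 + 1) / 2 = (j + j + 1) / 2 + 1 by omega, add_mul, one_mul]
          exact this
        · obtain ⟨m, hm⟩ := hser.odd_factor i (by omega) he
          have hq' : Cfsg.PLengthLE p 0 (↥(U (i + 1)) ⧸ N) := by
            apply pLengthLE_zero_of_coprime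
            rw [hcard, hm]
            exact ((Nat.coprime_primes hq Fact.out).mpr hqp).pow_left m
          have := pLengthLE_add N hNc hq'
          rw [Nat.add_zero] at this
          obtain ⟨j, rfl⟩ := Nat.not_even_iff_odd.mp he
          rw [show (2 * j + 1 + 1 + 1) / 2 = (2 * j + 1 + 1) / 2 by omega]
          exact this
    have h := key (2 * l q + 1) le_rfl
    have htop : U (2 * l q + 1) = ⊤ := hl q (Finset.mem_insert_self q T)
    have h' := pLengthLE_of_surjective h (Subgroup.subtype _) (by
      intro g
      exact ⟨⟨g, htop ▸ Subgroup.mem_top g⟩, rfl⟩)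
    rwa [show (2 * l q + 1 + 1) / 2 = 1 + l q by omega] at h'

/-- Let G be a finite solvable group and p a prime. Suppose p₁, …, p_r are distinct primes, all different from p, that include every prime dividing the order of G other than p, and that G has p_i-length at most l_i for each i. Then G has p-length at most the product of the numbers 1 + l_i. -/
theorem result {G : Type*} [Group G] [Finite G] (hG : Group.IsSolvable G) (p : ℕ) [Fact p.Prime] (r : ℕ) (q : Fin r → ℕ) (hq : ∀ i, (q i).Prime ∧ q i ≠ p) (hinj : Function.Injective q) (hcover : ∀ s : ℕ, s.Prime → s ∣ Nat.card G → s ≠ p → ∃ i, q i = s) (l : Fin r → ℕ) (hl : ∀ i, Cfsg.PLengthLE (q i) (l i) G) : Cfsg.PLengthLE p (Finset.univ.prod fun i => 1 + l i) G := by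
  classical
  let lf : ℕ → ℕ := Function.extend q l 0
  have h := main p (Finset.univ.image q) lf (G := G)
    (fun s hs => by obtain ⟨i, -, rfl⟩ := Finset.mem_image.mp hs; exact hq i)
    (fun s hs => by
      obtain ⟨i, -, rfl⟩ := Finset.mem_image.mp hs
      simp only [lf, hinj.extend_apply]
      exact hl i)
    (fun s hs hd hne => by
      obtain ⟨i, hi⟩ := hcover s hs hd hne
      exact Finset.mem_image.mpr ⟨i, Finset.mem_univ i, hi⟩)
  rw [Finset.prod_image hinj.injOn] at h
  simpa [lf, hinj.extend_apply] using h

end Cfsg.Agent.S3790
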