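import Cfsg.Statements.S3791
import Cfsg.Agent.H32.PSeries
import Cfsg.Agent.H1.Hall

set_option autoImplicit false
universe u
open Cfsg

namespace Cfsg.Agent.S3791

open H32.PSeries
open scoped commutatorElement

theorem derived_add {G : Type*} [Group G] (N : Subgroup G) [N.Normal] {a b : ℕ}
    (ha : derivedSeries N a = ⊥) (hb : derivedSeries (G ⧸ N) b = ⊥) :
    derivedSeries G (a + b) = ⊥ := by
  have hbN : derivedSeries G b ≤ N := by
    have h := map_derivedSeries_le_derivedSeries (QuotientGroup.mk' N) b
    rw [hb, le_bot_iff, Subgroup.map_eq_bot_iff, QuotientGroup.ker_mk'] at h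
    exact h
  have key : ∀ j, derivedSeries G (b + j) ≤ (derivedSeries N j).map N.subtype := by
    intro j
    induction j with
    | zero =>
      rw [derivedSeries_zero, ← MonoidHom.range_eq_map, Subgroup.range_subtype, Nat.add_zero]
      exact hbN
    | succ j ih =>
      rw [← Nat.add_assoc, derivedSeries_succ, derivedSeries_succ, Subgroup.map_commutator]
      exact Subgroup.commutator_mono ih ih
  have := key a
  rw [ha, Subgroup.map_bot, le_bot_iff] at this
  rwa [Nat.add_comm]

theorem derived_injective {G H : Type*} [Group G] [Group H] (f : G →* H)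
    (hf : Function.Injective f) {k : ℕ} (h : derivedSeries H k = ⊥) : derivedSeries G k = ⊥ := by
  have := map_derivedSeries_le_derivedSeries f k
  rw [h, le_bot_iff, Subgroup.map_eq_bot_iff_of_injective _ hf] at this
  exact this

theorem derived_surjective {G H : Type*} [Group G] [Group H] (f : G →* H)
    (hf : Function.Surjective f) {k : ℕ} (h : derivedSeries G k = ⊥) : derivedSeries H k = ⊥ := by
  rw [← map_derivedSeries_eq hf k, h, Subgroup.map_bot]

/-- Derived length bound with Sylow data indexed by primes. -/
theorem main : ∀ (n : ℕ) {G : Type u} [Group G] [Finite G], Nat.card G = n → Group.IsSolvable G →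
    ∀ (S : Finset ℕ) (d l : ℕ → ℕ), (∀ s : ℕ, s.Prime → s ∣ Nat.card G → s ∈ S) →
    (∀ s ∈ S, ∀ (_ : Fact s.Prime) (P : Sylow s G), derivedSeries ↥(P : Subgroup G) (d s) = ⊥) →
    (∀ s ∈ S, s.Prime → Cfsg.PLengthLE s (l s) G) →
    derivedSeries G (∑ s ∈ S, d s * l s) = ⊥ := by
  classical
  intro n
  induction n using Nat.strong_induction_on with
  | _ n ih =>
  intro G _ _ hn hG S d l hcover hd hl
  rcases subsingleton_or_nontrivial G with hs | hs
  · exact Subgroup.eq_bot_of_subsingleton _
  obtain ⟨q, V, hq, hVn, hV, hVp⟩ := @H1.exists_normal_pgroup_ne_bot G _ _ _ hG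
  haveI := Fact.mk hq
  -- data for quotients
  have hquot : ∀ (N : Subgroup G) [N.Normal],
      (∀ s : ℕ, s.Prime → s ∣ Nat.card (G ⧸ N) → s ∈ S) ∧
      (∀ s ∈ S, ∀ (_ : Fact s.Prime) (P : Sylow s (G ⧸ N)),
        derivedSeries ↥(P : Subgroup (G ⧸ N)) (d s) = ⊥) := by
    intro N _
    refine ⟨fun s hs hsd => hcover s hs (hsd.trans (Subgroup.card_quotient_dvd_card N)),
      fun s hs hfs P => ?_⟩
    obtain ⟨R, rfl⟩ := Sylow.mapSurjective_surjective (QuotientGroup.mk'_surjective N) s P
    refine derived_surjective ((QuotientGroup.mk' N).subgroupMap (R : Subgroup G))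
      ((QuotientGroup.mk' N).subgroupMap_surjective _) (hd s hs hfs R)
  haveI hAn : (Cfsg.pCore q G).Normal := H10.pCore_normal
  set A := Cfsg.pCore q G with hA
  have hAne : A ≠ ⊥ := fun h => hV (le_bot_iff.mp ((H10.le_pCore hVn hVp).trans h.le))
  by_cases hB : Cfsg.pPrimeCore q G = ⊥
  · have hqS : q ∈ S := hcover q hq (by
      obtain ⟨a, ha⟩ := (H10.pCore_isPGroup (p := q) (G := G)).exists_card_eq
      rcases Nat.eq_zero_or_pos a with rfl | hpos
      · exact absurd (Subgroup.card_eq_one.mp (by simpa using ha)) hAne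
      · exact (dvd_pow_self q hpos.ne').trans (ha ▸ Subgroup.card_subgroup_dvd_card A))
    have hl0 : 1 ≤ l q := by
      by_contra hlt
      have h0 : Cfsg.PLengthLE q 0 G := by
        have := hl q hqS hq
        rwa [show l q = 0 by omega] at this
      have hs1 := upperPSeries_isAlt (G := G) (p := q) 1
      have hc := hs1.even_factor 0 (by omega) Even.zero
      rw [hs1.zero, Subgroup.relIndex_bot_left] at hc
      have := H10.le_pPrimeCore (upperPSeries q G (0 + 1)).2 hc
      rw [show (upperPSeries q G (0 + 1)).1 = ⊤ from h0, hB, top_le_iff] at this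
      exact bot_ne_top this
    let l' : ℕ → ℕ := Function.update l q (l q - 1)
    have hquo := hquot A
    have hrec := ih (Nat.card (G ⧸ A)) (hn ▸ H10.card_quotient_lt A hAne) rfl
      (Group.isSolvable_of_surjective (G := G) (QuotientGroup.mk'_surjective A))
      S d l' hquo.1 hquo.2 (fun s hs hsp => by
        haveI := Fact.mk hsp
        by_cases hsq : s = q
        · subst hsq
          simp only [l', Function.update_self]
          apply pLengthLE_quotient_pCore hB
          rw [Nat.sub_add_cancel hl0]
          exact hl s hs hsp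
        · simp only [l', Function.update_of_ne hsq]
          exact pLengthLE_of_surjective (hl s hs hsp) _ (QuotientGroup.mk'_surjective A))
    have hAd : derivedSeries A (d q) = ⊥ := by
      obtain ⟨P, hP⟩ := (H10.pCore_isPGroup (p := q) (G := G)).exists_le_sylow
      exact derived_injective (Subgroup.inclusion hP) (Subgroup.inclusion_injective hP)
        (hd q hqS inferInstance P)
    have h := derived_add A hAd hrec
    rw [← Finset.add_sum_erase S _ hqS] at h ⊢
    have hsum : ∑ s ∈ S.erase q, d s * l' s = ∑ s ∈ S.erase q, d s * l s :=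
      Finset.sum_congr rfl fun s hs => by
        simp [l', Function.update_of_ne (Finset.ne_of_mem_erase hs)]
    rw [hsum, ← Nat.add_assoc] at h
    simp only [l', Function.update_self] at h
    rwa [show d q + d q * (l q - 1) = d q * l q by
      obtain ⟨j, hj⟩ := Nat.exists_eq_succ_of_ne_zero (by omega : l q ≠ 0)
      rw [hj, Nat.succ_sub_one, Nat.mul_succ, Nat.add_comm]] at h
  · have hboth : ∀ (N : Subgroup G) [N.Normal], N ≠ ⊥ →
        derivedSeries G (∑ s ∈ S, d s * l s) ≤ N := by
      intro N _ hN
      have hquo := hquot N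
      have hrec := ih (Nat.card (G ⧸ N)) (hn ▸ H10.card_quotient_lt N hN) rfl
        (Group.isSolvable_of_surjective (G := G) (QuotientGroup.mk'_surjective N))
        S d l hquo.1 hquo.2 (fun s hs hsp => by
          haveI := Fact.mk hsp
          exact pLengthLE_of_surjective (hl s hs hsp) _ (QuotientGroup.mk'_surjective N))
      have h := map_derivedSeries_le_derivedSeries (QuotientGroup.mk' N) (∑ s ∈ S, d s * l s)
      rw [hrec, le_bot_iff, Subgroup.map_eq_bot_iff, QuotientGroup.ker_mk'] at h
      exact h
    haveI : (Cfsg.pPrimeCore q G).Normal := H10.pPrimeCore_normal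
    have hdis : A ⊓ Cfsg.pPrimeCore q G = ⊥ :=
      H10.inf_eq_bot_of_isPGroup_coprime H10.pCore_isPGroup H10.pPrimeCore_coprime
    exact le_bot_iff.mp (hdis ▸ le_inf (hboth A hAne) (hboth _ hB))

/-- The Hall–Higman bound on derived length: let G be a finite solvable group, let p₁, …, p_r be distinct primes that include every prime dividing the order of G, and suppose that for each i the Sylow p_i-subgroups of G have derived length at most d_i and G has p_i-length at most l_i. Then G has derived length at most Σ d_i l_i. -/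
theorem result {G : Type*} [Group G] [Finite G] (hG : Group.IsSolvable G) (r : ℕ) (q : Fin r → ℕ) (hq : ∀ i, (q i).Prime) (hinj : Function.Injective q) (hcover : ∀ s : ℕ, s.Prime → s ∣ Nat.card G → ∃ i, q i = s) (d l : Fin r → ℕ) (hd : ∀ i, ∀ P : Subgroup G, (haveI := Fact.mk (hq i); ∃ S : Sylow (q i) G, (S : Subgroup G) = P) → derivedSeries ↥P (d i) = ⊥) (hl : ∀ i, Cfsg.PLengthLE (q i) (l i) G) : derivedSeries G (Finset.univ.sum fun i => d i * l i) = ⊥ := by
  classical
  let df : ℕ → ℕ := Function.extend q d 0
  let lf : ℕ → ℕ := Function.extend q l 0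
  have h := main _ rfl hG (Finset.univ.image q) df lf
    (fun s hs hsd => by
      obtain ⟨i, hi⟩ := hcover s hs hsd
      exact Finset.mem_image.mpr ⟨i, Finset.mem_univ i, hi⟩)
    (fun s hs _ P => by
      obtain ⟨i, -, rfl⟩ := Finset.mem_image.mp hs
      simp only [df, hinj.extend_apply]
      exact hd i _ ⟨P, rfl⟩)
    (fun s hs _ => by
      obtain ⟨i, -, rfl⟩ := Finset.mem_image.mp hs
      simp only [lf, hinj.extend_apply]
      exact hl i)
  rw [Finset.sum_image hinj.injOn] at h
  simpa [df, lf, hinj.extend_apply] using h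

end Cfsg.Agent.S3791
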