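import Cfsg.Statements.S3796
import Cfsg.Agent.H1.PairFPF.Height

set_option autoImplicit false
open Cfsg

namespace Cfsg.Agent.S3796

/-- Ward's Theorem: let G be a finite solvable group and A an elementary abelian group of automorphisms of G of order p² (p a prime) with no non-identity common fixed point. Then G has Fitting height at most 2: G has Fitting height at most m when there is a chain of normal subgroups 1 = F₀ ≤ F₁ ≤ ⋯ ≤ F_m = G with each F_{i+1}/F_i nilpotent. -/
theorem result {G : Type*} [Group G] [Finite G] (hG : Group.IsSolvable G) {p : ℕ} (hp : p.Prime) (A : Subgroup (MulAut G)) (hA : Cfsg.IsElementaryAbelian p A) (hcard : Nat.card A = p ^ 2) (hfpf : ∀ g : G, (∀ a ∈ A, a g = g) → g = 1) : ∃ F : Fin (2 + 1) → Subgroup G, F 0 = ⊥ ∧ F (Fin.last 2) = ⊤ ∧ Monotone F ∧ (∀ i, (F i).Normal) ∧ ∀ i : Fin 2, ∃ k : ℕ, (F i.succ).lowerCentralSeries k ≤ F i.castSucc := by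
  have := hA.1
  have hnc : ¬ IsCyclic A := by
    intro hc
    have h1 : Monoid.exponent A ∣ p :=
      Monoid.exponent_dvd_of_forall_pow_eq_one fun a => Subtype.ext (hA.2 a a.2)
    rw [IsCyclic.exponent_eq_card, hcard] at h1
    exact Nat.not_le.mpr (lt_self_pow₀ hp.one_lt one_lt_two) (Nat.le_of_dvd hp.pos h1)
  have hcop : (Nat.card G).Coprime (Nat.card A) := by
    rw [hcard]
    refine (Nat.Coprime.pow_right 2 (Nat.Coprime.symm (hp.coprime_iff_not_dvd.mpr fun hd => ?_)))
    have := Fact.mk hp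
    have hP : IsPGroup p A := IsPGroup.of_card hcard
    let : MulAction A G := MulAction.compHom G A.subtype
    have h1 : (1 : G) ∈ MulAction.fixedPoints A G := fun a => map_one (a : MulAut G)
    obtain ⟨g, hg, hne⟩ := hP.exists_fixed_point_of_prime_dvd_card_of_fixed_point G hd h1
    exact hne (hfpf g fun a ha => hg ⟨a, ha⟩).symm
  obtain ⟨k, hk⟩ := H1.PairFPF.exists_nilpotent_lcs hG A.subtype hp hp (by rw [hcard, sq]) hnc hcop
    fun g hg => hfpf g fun a ha => hg ⟨a, ha⟩
  set N := (⊤ : Subgroup G).lowerCentralSeries k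
  obtain ⟨j, hj⟩ := (Subgroup.isNilpotent_iff_lowerCentralSeries N).mp hk
  have hN : N.Normal := inferInstance
  refine ⟨![⊥, N, ⊤], rfl, rfl, Fin.monotone_iff_le_succ.mpr ?_, ?_, ?_⟩
  · intro i
    fin_cases i
    · exact bot_le
    · exact le_top
  · intro i
    fin_cases i
    · exact (inferInstance : (⊥ : Subgroup G).Normal)
    · exact hN
    · exact (inferInstance : (⊤ : Subgroup G).Normal)
  · intro i
    fin_cases i
    · exact ⟨j, hj.le⟩
    · exact ⟨k, le_refl N⟩

end Cfsg.Agent.S3796
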