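import Cfsg.Statements.S3797
import Cfsg.Agent.H68.OneClass
import Cfsg.Agent.H82.PLength

set_option autoImplicit false
open Cfsg

namespace Cfsg.Agent.S3797

/-- Let G be a finite solvable group of even order whose Sylow 2-subgroups contain more than one involution, and suppose all involutions of G are conjugate. Then G has 2-length at most 1, and a Sylow 2-subgroup S of G is either homocyclic (a direct product of cyclic groups of one common order) or a non-abelian 2-group with more than one involution admitting a solvable group of automorphisms transitive on its involutions. -/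
theorem result {G : Type*} [Group G] [Finite G] (hG : Group.IsSolvable G) (heven : Even (Nat.card G)) (S : Sylow 2 G) (htwo : ∃ x y : G, x ∈ (S : Subgroup G) ∧ y ∈ (S : Subgroup G) ∧ x ≠ y ∧ x ≠ 1 ∧ x ^ 2 = 1 ∧ y ≠ 1 ∧ y ^ 2 = 1) (hconj : ∀ x y : G, x ≠ 1 → x ^ 2 = 1 → y ≠ 1 → y ^ 2 = 1 → IsConj x y) : Cfsg.PLengthLE 2 1 G ∧ ((∃ m r : ℕ, Nonempty (↥(S : Subgroup G) ≃* (Fin r → Multiplicative (ZMod (2 ^ m))))) ∨ (¬ IsMulCommutative (S : Subgroup G) ∧ ∃ Y : Subgroup (MulAut ↥(S : Subgroup G)), Group.IsSolvable Y ∧ ∀ x y : ↥(S : Subgroup G), x ≠ 1 → x ^ 2 = 1 → y ≠ 1 → y ^ 2 = 1 → ∃ a ∈ Y, a x = y)) := by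
  classical
  haveI : Fact (Nat.Prime 2) := ⟨Nat.prime_two⟩
  haveI := hG
  set N := Cfsg.pPrimeCore 2 G with hN
  haveI hNn : N.Normal := H1.pPrimeCore_normal' 2 G
  set π := QuotientGroup.mk' N with hπ
  have hNodd : (Nat.card N).Coprime 2 := H1.card_pPrimeCore_coprime 2 G
  -- the map is injective on `2`-elements
  have hinj : ∀ x : G, (∃ e : ℕ, x ^ 2 ^ e = 1) → x ∈ N → x = 1 := by
    rintro x ⟨e, he⟩ hx
    refine orderOf_eq_one_iff.mp (Nat.eq_one_of_dvd_coprimes ((hNodd.symm).pow_left e)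
      (orderOf_dvd_of_pow_eq_one he) ?_)
    have := orderOf_dvd_natCard (⟨x, hx⟩ : N)
    rwa [Subgroup.orderOf_mk] at this
  have hlift : ∀ y : G ⧸ N, y ≠ 1 → y ^ 2 = 1 → ∃ x : G, π x = y ∧ x ≠ 1 ∧ x ^ 2 = 1 := by
    intro y hy1 hy
    obtain ⟨x, rfl⟩ := QuotientGroup.mk'_surjective N y
    have hx2 : x ^ 2 ∈ N := by
      rw [← map_pow] at hy
      exact (QuotientGroup.eq_one_iff _).mp hy
    have hodd : Odd (Nat.card N) := Nat.coprime_two_right.mp hNodd
    refine ⟨x ^ Nat.card N, ?_, ?_, ?_⟩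
    · rw [map_pow]
      obtain ⟨i, hi⟩ := hodd
      rw [hi, pow_succ, pow_mul, hy, one_pow, one_mul]
    · intro h
      apply hy1
      obtain ⟨i, hi⟩ := hodd
      have h1 := congrArg π h
      rwa [map_pow, hi, pow_succ, pow_mul, hy, one_pow, one_mul, map_one] at h1
    · have h1 : orderOf (x ^ 2) ∣ Nat.card N := by
        have h2 := orderOf_dvd_natCard (⟨x ^ 2, hx2⟩ : N)
        rwa [Subgroup.orderOf_mk] at h2
      rw [← pow_mul, mul_comm, pow_mul]
      exact orderOf_dvd_iff_pow_eq_one.mp h1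
  obtain ⟨x, y, hxS, hyS, hxy, hx1, hx2, hy1, hy2⟩ := htwo
  have hne1 : ∀ z : G, z ≠ 1 → z ^ 2 = 1 → π z ≠ 1 := fun z hz1 hz2 h =>
    hz1 (hinj z ⟨1, by rwa [pow_one]⟩ ((QuotientGroup.eq_one_iff z).mp h))
  have hSinj : Set.InjOn π (S : Set G) := by
    intro a ha b hb h
    have h1 : a⁻¹ * b ∈ N := QuotientGroup.eq.mp h
    have h2 : a⁻¹ * b ∈ (S : Subgroup G) := mul_mem (inv_mem ha) hb
    obtain ⟨e, he⟩ := S.isPGroup' ⟨_, h2⟩
    exact inv_mul_eq_one.mp (hinj _ ⟨e, by simpa using congrArg Subtype.val he⟩ h1)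
  have hone : ∀ a b : G ⧸ N, a ≠ 1 → a ^ 2 = 1 → b ≠ 1 → b ^ 2 = 1 → IsConj a b := by
    intro a b ha ha2 hb hb2
    obtain ⟨a', rfl, ha1', ha2'⟩ := hlift a ha ha2
    obtain ⟨b', rfl, hb1', hb2'⟩ := hlift b hb hb2
    exact π.map_isConj (hconj a' b' ha1' ha2' hb1' hb2')
  have hO : Cfsg.pPrimeCore 2 (G ⧸ N) = ⊥ := H1.pPrimeCore_quotient_pPrimeCore 2
  haveI : Group.IsSolvable (G ⧸ N) := inferInstance
  have hodd := H68.OC.odd_index_pCore hO hone (fun h => hxy (hSinj hxS hyS h)) (hne1 x hx1 hx2)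
    (by rw [← map_pow, hx2, map_one]) (hne1 y hy1 hy2) (by rw [← map_pow, hy2, map_one])
  set T := Cfsg.pCore 2 (G ⧸ N) with hT
  haveI hTn : T.Normal := H1.pCore_normal' 2 (G ⧸ N)
  refine ⟨H82.pLengthLE_one_of_coprime_index ?_, ?_⟩
  · show ((T.comap π).index).Coprime 2
    rw [Subgroup.index_comap_of_surjective _ (QuotientGroup.mk'_surjective N)]
    exact Nat.coprime_two_right.mpr hodd
  -- `S` maps isomorphically onto `T`
  have hST : (S : Subgroup G).map π = T := by
    have hle : (S : Subgroup G).map π ≤ T := by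
      rintro _ ⟨s, hs, rfl⟩
      obtain ⟨e, he⟩ := S.isPGroup' ⟨s, hs⟩
      have h1 : orderOf ((π s : G ⧸ N) : (G ⧸ N) ⧸ T) ∣ 2 ^ e := orderOf_dvd_of_pow_eq_one (by
        rw [← QuotientGroup.mk_pow, ← map_pow, show s ^ 2 ^ e = 1 by simpa using congrArg Subtype.val he,
          map_one, QuotientGroup.mk_one])
      have h2 : orderOf ((π s : G ⧸ N) : (G ⧸ N) ⧸ T) ∣ T.index := by
        rw [Subgroup.index_eq_card]; exact orderOf_dvd_natCard _
      exact (QuotientGroup.eq_one_iff _).mp (orderOf_eq_one_iff.mp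
        (Nat.eq_one_of_dvd_coprimes ((Nat.coprime_two_left.mpr hodd).pow_left e) h1 h2))
    refine le_antisymm hle ?_
    have hsyl : ¬ 2 ∣ ((S : Subgroup G).map π).index :=
      fun h => S.not_dvd_index (h.trans (Subgroup.index_map_dvd _ (QuotientGroup.mk'_surjective N)))
    intro t ht
    by_contra hn
    have h1 : ((S : Subgroup G).map π).relIndex T ∣ ((S : Subgroup G).map π).index :=
      ⟨T.index, (Subgroup.relIndex_mul_index hle).symm⟩
    obtain ⟨j, hj⟩ := ((H1.isPGroup_pCore 2 (G ⧸ N)).index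
      (((S : Subgroup G).map π).subgroupOf T))
    rcases j with _ | j
    · exact hn (Subgroup.mem_subgroupOf.mp
        (show (⟨t, ht⟩ : T) ∈ _ from (Subgroup.index_eq_one.mp hj).ge (Subgroup.mem_top _)))
    · exact hsyl ((dvd_pow_self 2 j.succ_ne_zero).trans (hj ▸ h1))
  let θ : ↥(S : Subgroup G) →* T :=
    (π.comp (S : Subgroup G).subtype).codRestrict T fun s => hST.le ⟨s, s.2, rfl⟩
  have hθ : Function.Bijective θ := by
    refine ⟨fun a b h => Subtype.ext (hSinj a.2 b.2 (congrArg Subtype.val h)), fun t => ?_⟩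
    obtain ⟨s, hs, hst⟩ := hST.ge t.2
    exact ⟨⟨s, hs⟩, Subtype.ext hst⟩
  let eST : ↥(S : Subgroup G) ≃* T := MulEquiv.ofBijective θ hθ
  let α : G →* MulAut ↥(S : Subgroup G) := (MulAut.congr eST.symm).toMonoidHom.comp
    ((MulAut.conjNormal : (G ⧸ N) →* MulAut T).comp π)
  have htr : ∀ a b : ↥(S : Subgroup G), a ≠ 1 → a ^ 2 = 1 → b ≠ 1 → b ^ 2 = 1 →
      ∃ f ∈ α.range, f a = b := by
    intro a b ha ha2 hb hb2
    obtain ⟨g, hg⟩ := isConj_iff.mp (hconj a b (fun h => ha (Subtype.ext h))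
      (by simpa using congrArg Subtype.val ha2) (fun h => hb (Subtype.ext h))
      (by simpa using congrArg Subtype.val hb2))
    refine ⟨α g, ⟨g, rfl⟩, ?_⟩
    show eST.symm ((MulAut.conjNormal (π g) : MulAut T) (eST a)) = b
    rw [MulEquiv.symm_apply_eq]
    refine Subtype.ext ?_
    rw [MulAut.conjNormal_apply]
    show π g * π a * (π g)⁻¹ = π b
    rw [← hg, map_mul, map_mul, map_inv]
  by_cases hab : IsMulCommutative (S : Subgroup G)
  · left
    letI : CommGroup ↥(S : Subgroup G) :=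
      { (inferInstance : Group ↥(S : Subgroup G)) with mul_comm := fun a b => mul_comm' a b }
    obtain ⟨ι, hι, n, hn, ⟨e⟩⟩ := CommGroup.equiv_prod_multiplicative_zmod_of_finite ↥(S : Subgroup G)
    haveI := hι
    -- the cyclic factors are `2`-groups of one order
    have hpow : ∀ i, ∃ j, n i = 2 ^ (j + 1) := by
      intro i
      haveI : NeZero (n i) := ⟨by have := hn i; omega⟩
      obtain ⟨k, hk⟩ := S.isPGroup' (e.symm (Pi.mulSingle i (Multiplicative.ofAdd (1 : ZMod (n i)))))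
      rw [← map_pow] at hk
      have h1 := congrFun (e.symm.injective (hk.trans (map_one e.symm).symm)) i
      rw [Pi.pow_apply, Pi.mulSingle_eq_same, Pi.one_apply, ← ofAdd_nsmul, ofAdd_eq_one,
        nsmul_eq_mul, mul_one] at h1
      obtain ⟨j, -, hj⟩ := (Nat.dvd_prime_pow Nat.prime_two).mp ((ZMod.natCast_eq_zero_iff _ _).mp h1)
      rcases j with _ | j
      · have h2 := hn i; rw [hj, pow_zero] at h2; omega
      · exact ⟨j, hj⟩
    choose j hj using hpow
    have hle : ∀ i i', j i ≤ j i' := by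
      intro i i'
      by_contra hlt
      push Not at hlt
      haveI : NeZero (n i) := ⟨by have := hn i; omega⟩
      haveI : NeZero (n i') := ⟨by have := hn i'; omega⟩
      -- `u` is a high power, `v` is not
      let u := e.symm (Pi.mulSingle i (Multiplicative.ofAdd ((2 ^ j i : ℕ) : ZMod (n i))))
      let v := e.symm (Pi.mulSingle i' (Multiplicative.ofAdd ((2 ^ j i' : ℕ) : ZMod (n i'))))
      have hord : ∀ k : ι, ∀ z : ↥(S : Subgroup G),
          z = e.symm (Pi.mulSingle k (Multiplicative.ofAdd ((2 ^ j k : ℕ) : ZMod (n k)))) →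
          z ≠ 1 ∧ z ^ 2 = 1 := by
        intro k z hz
        refine ⟨fun h => ?_, ?_⟩
        · rw [hz, ← map_one e.symm, e.symm.injective.eq_iff, Pi.mulSingle_eq_one_iff, ofAdd_eq_one,
            ZMod.natCast_eq_zero_iff, hj k, Nat.pow_dvd_pow_iff_le_right (by norm_num)] at h
          omega
        · rw [hz, ← map_pow, ← Pi.mulSingle_pow, ← ofAdd_nsmul, nsmul_eq_mul, ← Nat.cast_mul,
            ← pow_succ', ← hj k, ZMod.natCast_self, ofAdd_zero, Pi.mulSingle_one, map_one]
      obtain ⟨f, -, hf⟩ := htr u v (hord i u rfl).1 (hord i u rfl).2 (hord i' v rfl).1 (hord i' v rfl).2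
      obtain ⟨d, hd⟩ : ∃ d, j i = j i' + 1 + d := ⟨j i - (j i' + 1), by omega⟩
      have hu : u = (e.symm (Pi.mulSingle i (Multiplicative.ofAdd ((2 ^ d : ℕ) : ZMod (n i))))) ^
          2 ^ (j i' + 1) := by
        rw [← map_pow, ← Pi.mulSingle_pow, ← ofAdd_nsmul, nsmul_eq_mul, ← Nat.cast_mul, ← pow_add]
        show e.symm _ = _
        rw [hd]
      rw [hu, map_pow] at hf
      have h1 := congrFun (congrArg e hf) i'
      rw [map_pow, Pi.pow_apply, show e v = _ from e.apply_symm_apply _, Pi.mulSingle_eq_same] at h1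
      set w := e (f (e.symm (Pi.mulSingle i (Multiplicative.ofAdd ((2 ^ d : ℕ) : ZMod (n i)))))) i'
      have hwpow : w ^ 2 ^ (j i' + 1) = 1 := by
        rw [← hj i']
        apply Multiplicative.toAdd.injective
        rw [toAdd_pow, toAdd_one, nsmul_eq_mul, ZMod.natCast_self, zero_mul]
      rw [hwpow] at h1
      have h2 := h1.symm
      rw [ofAdd_eq_one, ZMod.natCast_eq_zero_iff, hj i',
        Nat.pow_dvd_pow_iff_le_right (by norm_num)] at h2
      omega
    haveI : Nonempty ι := by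
      by_contra hempty
      rw [not_nonempty_iff] at hempty
      have := e.injective (Subsingleton.elim (e ⟨x, hxS⟩) (e 1))
      exact hx1 (by simpa using congrArg Subtype.val this)
    obtain ⟨i₀⟩ := ‹Nonempty ι›
    have hall : ∀ i, n i = 2 ^ (j i₀ + 1) := fun i => by
      rw [hj i, le_antisymm (hle i i₀) (hle i₀ i)]
    refine ⟨j i₀ + 1, Fintype.card ι, ⟨e.trans ((MulEquiv.piCongrRight fun i =>
      AddEquiv.toMultiplicative (ZMod.ringEquivCongr (hall i)).toAddEquiv).trans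
      { Equiv.piCongrLeft' (fun _ => Multiplicative (ZMod (2 ^ (j i₀ + 1)))) (Fintype.equivFin ι) with
        map_mul' := fun a b => rfl })⟩⟩
  · exact Or.inr ⟨hab, α.range, Group.isSolvable_of_surjective (f := α.rangeRestrict)
      α.rangeRestrict_surjective, htr⟩

end Cfsg.Agent.S3797
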