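import Cfsg.Statements.S3798
import Cfsg.Agent.H1.TransitiveOrderP

set_option autoImplicit false
open Cfsg

namespace Cfsg.Agent.S3798

/-- The Gaschütz–Yen Theorem: let G be a finite p-soluble group, p an odd prime dividing its order, such that the automorphism group of G permutes the subgroups of G of order p transitively. Then G has p-length at most 1. -/
theorem result {G : Type*} [Group G] [Finite G] {p : ℕ} [Fact p.Prime] (hp : p ≠ 2) (hdvd : p ∣ Nat.card G) (hG : Cfsg.IsPSolvable p G) (htrans : ∀ U V : Subgroup G, Nat.card U = p → Nat.card V = p → ∃ a : MulAut G, U.map a.toMonoidHom = V) : Cfsg.PLengthLE p 1 G := by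
  set K := Cfsg.pPrimeCore p G with hK
  haveI : K.Normal := H1.pPrimeCore_normal' p G
  refine H82.pLengthLE_one_of_coprime_index ?_
  refine ((Fact.out : p.Prime).coprime_iff_not_dvd.mpr ?_).symm
  have hidx : (Cfsg.pPrimePCore p G).index = (Cfsg.pCore p (G ⧸ K)).index :=
    Subgroup.index_comap_of_surjective _ (QuotientGroup.mk'_surjective K)
  rw [hidx]
  refine H1.not_dvd_index_pCore_of_transitive hp (H10.isPSolvable_quotient hG K)
    H10.pPrimeCore_quotient_pPrimeCore fun U V hU hV => ?_
  have lift : ∀ W : Subgroup (G ⧸ K), Nat.card W = p →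
      ∃ W' : Subgroup G, Nat.card W' = p ∧ W'.map (QuotientGroup.mk' K) = W := by
    intro W hW
    have hd : p ∣ Nat.card (W.comap (QuotientGroup.mk' K)) := by
      rw [H1.card_comap_mk', hW]
      exact dvd_mul_left p _
    obtain ⟨⟨w, hwmem⟩, hw⟩ := exists_prime_orderOf_dvd_card' p hd
    rw [Subgroup.orderOf_mk] at hw
    refine ⟨Subgroup.zpowers w, by rw [Nat.card_zpowers, hw], ?_⟩
    rw [MonoidHom.map_zpowers]
    refine Subgroup.eq_of_le_of_card_ge (Subgroup.zpowers_le.mpr hwmem) ?_
    rw [hW, Nat.card_zpowers]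
    have h2 : orderOf (QuotientGroup.mk' K w) ∣ p := hw ▸ orderOf_map_dvd _ w
    rcases (Nat.dvd_prime Fact.out).mp h2 with h1 | h1
    · exfalso
      rw [orderOf_eq_one_iff, QuotientGroup.mk'_apply, QuotientGroup.eq_one_iff] at h1
      have h3 := Subgroup.orderOf_dvd_natCard _ h1
      rw [hw] at h3
      exact (Fact.out : p.Prime).coprime_iff_not_dvd.mp (H1.card_pPrimeCore_coprime p G).symm h3
    · exact h1.ge
  obtain ⟨U', hU', rfl⟩ := lift U hU
  obtain ⟨V', hV', rfl⟩ := lift V hV
  obtain ⟨a, ha⟩ := htrans U' V' hU' hV'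
  refine ⟨QuotientGroup.congr K K a (H1.map_pPrimeCore_equiv p a), ?_⟩
  rw [← ha, Subgroup.map_map, Subgroup.map_map]
  congr 1

end Cfsg.Agent.S3798
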