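import Cfsg.Statements.S3800
import Mathlib

set_option autoImplicit false
open Cfsg

namespace Cfsg.Agent.S3800

/-- Let G be a finite group, N a normal subgroup of G whose order is prime to p, and P a p-subgroup of G. Then in G/N the normalizer of the image of P is the image of N_G(P), and the centralizer of the image of P is the image of C_G(P). -/
theorem result {G : Type*} [Group G] [Finite G] {p : ℕ} [Fact p.Prime] (N : Subgroup G) [N.Normal] (hN : (Nat.card N).Coprime p) (P : Subgroup G) (hP : IsPGroup p P) : Subgroup.normalizer ((P.map (QuotientGroup.mk' N)) : Set (G ⧸ N)) = (Subgroup.normalizer (P : Set G)).map (QuotientGroup.mk' N) ∧ Subgroup.centralizer ((P.map (QuotientGroup.mk' N)) : Set (G ⧸ N)) = (Subgroup.centralizer (P : Set G)).map (QuotientGroup.mk' N) := by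
  set π := QuotientGroup.mk' N with hπ
  have hsurj : Function.Surjective π := QuotientGroup.mk'_surjective N
  have hker : ∀ z, π z = 1 ↔ z ∈ N := fun z => QuotientGroup.eq_one_iff z
  have hdisj : ∀ z, z ∈ N → z ∈ P → z = 1 := by
    intro z hzN hzP
    obtain ⟨k, hk⟩ := hP ⟨z, hzP⟩
    have hk' : z ^ p ^ k = 1 := congrArg Subtype.val hk
    rw [← orderOf_eq_one_iff]
    exact Nat.eq_one_of_dvd_coprimes (hN.pow_right k) (Subgroup.orderOf_dvd_natCard N hzN) (orderOf_dvd_of_pow_eq_one hk')
  -- P is a Sylow subgroup of M = P ⊔ N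
  set M := (P.map π).comap π with hM
  have hMmem : ∀ z, z ∈ M ↔ ∃ a ∈ P, π a = π z := fun z => Subgroup.mem_map
  have hPM : P ≤ M := Subgroup.le_comap_map _ _
  have hindex : ¬ p ∣ (P.subgroupOf M).index := by
    intro hd
    have hcardM : Nat.card M = Nat.card (P.map π) * Nat.card N := by
      have e1 := Subgroup.card_mul_index M
      have e2 := Subgroup.card_mul_index (P.map π)
      have e3 : M.index = (P.map π).index := Subgroup.index_comap_of_surjective _ hsurj
      have e4 := Subgroup.card_eq_card_quotient_mul_card_subgroup N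
      have e5 : 0 < (P.map π).index := Nat.pos_of_ne_zero Subgroup.index_ne_zero_of_finite
      rw [e3] at e1
      apply Nat.eq_of_mul_eq_mul_right e5
      rw [e1, e4, ← e2]
      ring
    have hmapP : Nat.card (P.map π) = Nat.card P := by
      refine (Nat.card_congr (Equiv.ofBijective (fun a : P => (⟨π a, a, a.2, rfl⟩ : P.map π)) ⟨?_, ?_⟩)).symm
      · intro a b hab
        have hab' : π (a:G) = π b := congrArg Subtype.val hab
        apply Subtype.ext
        have := hdisj ((a:G)⁻¹ * b) ((QuotientGroup.eq).1 hab') (P.mul_mem (P.inv_mem a.2) b.2)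
        exact inv_mul_eq_one.1 this
      · rintro ⟨_, a, ha, rfl⟩; exact ⟨⟨a, ha⟩, rfl⟩
    have h1 : (P.subgroupOf M).index = Nat.card N := by
      have := Subgroup.card_mul_index (P.subgroupOf M)
      rw [Nat.card_congr (Subgroup.subgroupOfEquivOfLe hPM).toEquiv, hcardM, hmapP] at this
      exact Nat.eq_of_mul_eq_mul_left Nat.card_pos this
    have h2 := h1 ▸ hd
    exact (Fact.out : p.Prime).coprime_iff_not_dvd.1 hN.symm h2
  let S : Sylow p M := (hP.comap_subtype).toSylow hindex
  have hSmap : (S : Subgroup M).map M.subtype = P := Subgroup.map_subgroupOf_eq_of_le hPM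
  have hkey : ∀ g, π g ∈ Subgroup.normalizer ((P.map π : Subgroup (G ⧸ N)) : Set (G ⧸ N)) → ∃ n ∈ N, n * g ∈ Subgroup.normalizer (P : Set G) := by
    intro g hg
    have hconjM : P.map (MulAut.conj g).toMonoidHom ≤ M := by
      rintro _ ⟨a, ha, rfl⟩
      show π (g * a * g⁻¹) ∈ P.map π
      rw [map_mul, map_mul, map_inv]
      exact ((Subgroup.mem_normalizer_iff.1 hg) (π a)).1 (Subgroup.mem_map_of_mem π ha)
    have hQ : IsPGroup p ((P.map (MulAut.conj g).toMonoidHom).subgroupOf M) := (hP.map _).comap_subtype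
    obtain ⟨T, hT⟩ := hQ.exists_le_sylow
    obtain ⟨u, hu⟩ := MulAction.exists_smul_eq M T S
    obtain ⟨a, ha, hau⟩ := (hMmem _).1 u.2
    have hn : a⁻¹ * (u:G) ∈ N := (QuotientGroup.eq).1 hau
    refine ⟨a⁻¹ * u, hn, Subgroup.mem_normalizer_fintype ?_⟩
    intro z hz
    have h1 : (⟨g * z * g⁻¹, hconjM ⟨z, hz, rfl⟩⟩ : M) ∈ (T : Subgroup M) := hT (Subgroup.mem_map_of_mem _ hz)
    have h2 : u * (⟨g * z * g⁻¹, hconjM ⟨z, hz, rfl⟩⟩ : M) * u⁻¹ ∈ (S : Subgroup M) := by
      rw [← hu]
      exact Subgroup.smul_mem_pointwise_smul _ (MulAut.conj u) _ h1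
    have h3 : (u:G) * (g * z * g⁻¹) * (u:G)⁻¹ ∈ P := h2
    have h4 := P.mul_mem (P.mul_mem (P.inv_mem ha) h3) ha
    simpa [mul_assoc] using h4
  constructor
  · ext y
    constructor
    · intro hy
      obtain ⟨g, rfl⟩ := hsurj y
      obtain ⟨n, hn, hng⟩ := hkey g hy
      exact ⟨n * g, hng, by rw [map_mul, (hker n).2 hn, one_mul]⟩
    · rintro ⟨g, hg, rfl⟩
      exact (Subgroup.le_normalizer_map π) (Subgroup.mem_map_of_mem π hg)
  · ext y
    constructor
    · intro hy
      obtain ⟨g, rfl⟩ := hsurj y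
      have hyN : π g ∈ Subgroup.normalizer ((P.map π : Subgroup (G ⧸ N)) : Set (G ⧸ N)) :=
        Subgroup.centralizer_le_normalizer _ hy
      obtain ⟨n, hn, hng⟩ := hkey g hyN
      refine ⟨n * g, Subgroup.mem_centralizer_iff.2 fun a ha => ?_, by rw [map_mul, (hker n).2 hn, one_mul]⟩
      have h1 : π a * π g = π g * π a := Subgroup.mem_centralizer_iff.1 hy _ (Subgroup.mem_map_of_mem π ha)
      have h2 : (n * g) * a * (n * g)⁻¹ * a⁻¹ = 1 := by
        apply hdisj
        · rw [← hker]
          simp only [map_mul, map_inv, (hker n).2 hn, one_mul]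
          rw [← h1]; simp [mul_assoc]
        · exact P.mul_mem ((Subgroup.mem_normalizer_iff.1 hng a).1 ha) (P.inv_mem ha)
      rw [mul_inv_eq_one, mul_inv_eq_iff_eq_mul] at h2
      exact h2.symm
    · rintro ⟨g, hg, rfl⟩
      rw [Subgroup.mem_centralizer_iff]
      rintro _ ⟨a, ha, rfl⟩
      rw [← map_mul, ← map_mul, Subgroup.mem_centralizer_iff.1 hg a ha]

end Cfsg.Agent.S3800
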