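import Cfsg.Statements.S3803
import Mathlib
import Cfsg.Agent.S3736
import Cfsg.Agent.H1.CoprimeAction2
import Cfsg.Agent.H6.Commutator

set_option autoImplicit false
open Cfsg

namespace Cfsg.Agent.S3803

open scoped commutatorElement

/-- An element of odd order normalising a cyclic `2`-group centralises it. -/
theorem commute_of_zpowers_invariant {X : Type*} [Group X] [Finite X] {a x : X} {k : ℕ}
    (hx : orderOf x = 2 ^ k) (ha : Odd (orderOf a)) (h : a * x * a⁻¹ ∈ Subgroup.zpowers x) :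
    a * x = x * a := by
  obtain ⟨j, hj⟩ := (mem_powers_iff_mem_zpowers).mpr h
  have hj' : x ^ j = a * x * a⁻¹ := hj
  have hn : ∀ n : ℕ, a ^ n * x * (a ^ n)⁻¹ = x ^ (j ^ n) := by
    intro n
    induction n with
    | zero => simp
    | succ n ih =>
      calc a ^ (n + 1) * x * (a ^ (n + 1))⁻¹ = a * (a ^ n * x * (a ^ n)⁻¹) * a⁻¹ := by rw [pow_succ']; group
        _ = a * x ^ (j ^ n) * a⁻¹ := by rw [ih]
        _ = (a * x * a⁻¹) ^ (j ^ n) := by rw [conj_pow]
        _ = x ^ (j ^ (n + 1)) := by rw [← hj', ← pow_mul, pow_succ']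
  rcases Nat.eq_zero_or_pos k with hk | hk
  · rw [hk, pow_zero, orderOf_eq_one_iff] at hx; simp [hx]
  have h1 : x ^ (j ^ orderOf a) = x ^ 1 := by rw [← hn, pow_orderOf_eq_one]; simp
  rw [pow_eq_pow_iff_modEq, hx, ← ZMod.natCast_eq_natCast_iff, Nat.cast_pow, Nat.cast_one] at h1
  have hu : IsUnit ((j : ℕ) : ZMod (2 ^ k)) := by
    rw [ZMod.isUnit_iff_coprime]
    refine (Nat.prime_two.coprime_iff_not_dvd.mpr fun hd => ?_).symm.pow_right k
    have : ((j ^ orderOf a : ℕ) : ZMod 2) = 1 := by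
      have := congrArg (ZMod.castHom (dvd_pow_self 2 hk.ne') (ZMod 2)) h1
      rw [map_pow, map_natCast, map_one] at this
      rw [Nat.cast_pow]; exact this
    rw [Nat.cast_pow, (ZMod.natCast_eq_zero_iff j 2).mpr hd, zero_pow ha.pos.ne'] at this
    exact zero_ne_one this
  obtain ⟨u, hu⟩ := hu
  have hu1 : u ^ orderOf a = 1 := Units.ext (by rw [Units.val_pow_eq_pow_val, hu, h1, Units.val_one])
  have hu2 : u ^ (2 ^ (k - 1)) = 1 := by
    have := pow_card_eq_one (x := u)
    rwa [ZMod.card_units_eq_totient, Nat.totient_prime_pow Nat.prime_two hk, show 2 - 1 = 1 from rfl, mul_one] at this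
  have hone := pow_gcd_eq_one.mpr ⟨hu1, hu2⟩
  rw [((Nat.coprime_two_right.mpr ha).pow_right (k - 1)).gcd_eq_one, pow_one] at hone
  have h2 : x ^ j = x ^ 1 := by
    rw [pow_eq_pow_iff_modEq, hx, ← ZMod.natCast_eq_natCast_iff, ← hu, hone, Units.val_one, Nat.cast_one]
  rw [hj', pow_one, mul_inv_eq_iff_eq_mul] at h2
  exact h2

/-- An odd operator group normalising a cyclic `2`-group centralises it. -/
theorem le_centralizer_of_isCyclic {X : Type*} [Group X] [Finite X] {A E : Subgroup X}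
    (hA : Odd (Nat.card A)) (hE : IsPGroup 2 E) (hc : IsCyclic E)
    (hAE : A ≤ Subgroup.normalizer (E : Set X)) : A ≤ Subgroup.centralizer (E : Set X) := by
  haveI := hc
  obtain ⟨g, hg⟩ := IsCyclic.exists_generator (α := E)
  obtain ⟨k, hk⟩ := IsPGroup.iff_orderOf.mp hE g
  intro a ha
  have hodd : Odd (orderOf a) := Odd.of_dvd_nat hA (Subgroup.orderOf_dvd_natCard A ha)
  have hga : a * (g : X) * a⁻¹ ∈ Subgroup.zpowers (g : X) := by
    have hmem := ((Subgroup.mem_normalizer_iff.mp (hAE ha)) g).mp g.2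
    obtain ⟨m, hm⟩ := hg ⟨_, hmem⟩
    exact ⟨m, congrArg Subtype.val hm⟩
  have hcomm : Commute a (g : X) := commute_of_zpowers_invariant (by rw [Subgroup.orderOf_coe, hk]) hodd hga
  rw [Subgroup.mem_centralizer_iff]
  intro y hy
  obtain ⟨m, hm⟩ := hg ⟨y, hy⟩
  have hy' : (g : X) ^ m = y := congrArg Subtype.val hm
  rw [← hy']
  exact ((hcomm.zpow_right m).eq).symm

/-- Let P be a 2-subgroup and A a subgroup of odd order of a finite group, with A normalizing P. Let D ≤ P with 1 < |D| < |P|. If every subgroup of P of order |D|, and also every subgroup of P of order 4 in case |D| = 2, is normalized by A, then A centralizes P. -/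
theorem result {X : Type*} [Group X] [Finite X] (P A D : Subgroup X) (hP : IsPGroup 2 P) (hA : Odd (Nat.card A))
    (hAP : A ≤ Subgroup.normalizer (P : Set X)) (hDP : D ≤ P) (hD1 : 1 < Nat.card D) (hD2 : Nat.card D < Nat.card P)
    (hinv : ∀ E : Subgroup X, E ≤ P → (Nat.card E = Nat.card D ∨ (Nat.card D = 2 ∧ Nat.card E = 4)) → A ≤ Subgroup.normalizer (E : Set X)) :
    A ≤ Subgroup.centralizer (P : Set X) := by
  classical
  haveI : Fact (Nat.Prime 2) := ⟨Nat.prime_two⟩
  obtain ⟨d, hd⟩ := (hP.to_le hDP).exists_card_eq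
  obtain ⟨m, hm⟩ := hP.exists_card_eq
  have hd1 : 1 ≤ d := by
    rcases d with _ | d
    · rw [hd] at hD1; simp at hD1
    · omega
  have hdm : d + 1 ≤ m := by
    rw [hd, hm] at hD2
    exact (Nat.pow_lt_pow_iff_right one_lt_two).mp hD2
  by_contra hnot
  -- a minimal invariant subgroup that is not centralised
  obtain ⟨Q, hQP, hQ⟩ := exists_minimal_le_of_wellFoundedLT
    (fun Q : Subgroup X => Q ≤ P ∧ A ≤ Subgroup.normalizer (Q : Set X) ∧ ¬ A ≤ Subgroup.centralizer (Q : Set X))
    P ⟨le_rfl, hAP, hnot⟩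
  obtain ⟨⟨-, hAQ, hQnot⟩, hQmin⟩ := hQ
  have hQ2 : IsPGroup 2 Q := hP.to_le hQP
  have hmin : ∀ U : Subgroup X, U < Q → A ≤ Subgroup.normalizer (U : Set X) → A ≤ Subgroup.centralizer (U : Set X) :=
    fun U hU hAU => by
      by_contra h
      exact hU.not_ge (hQmin ⟨hU.le.trans hQP, hAU, h⟩ hU.le)
  obtain ⟨q, hq⟩ := hQ2.exists_card_eq
  have hext : ∀ (U T : Subgroup X) (i : ℕ), U ≤ T → Nat.card U ∣ 2 ^ i → 2 ^ i ∣ Nat.card T →
      ∃ E : Subgroup X, Nat.card E = 2 ^ i ∧ U ≤ E ∧ E ≤ T := by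
    intro U T i hUT hU hi
    obtain ⟨u, hui, hu⟩ := (Nat.dvd_prime_pow Nat.prime_two).mp hU
    obtain ⟨K, hK, hUK⟩ := Sylow.exists_subgroup_card_pow_prime_le 2 hi (U.subgroupOf T)
      (n := u) (by rw [Nat.card_congr (Subgroup.subgroupOfEquivOfLe hUT).toEquiv, hu]) hui
    refine ⟨K.map T.subtype, ?_, fun x hx => ⟨⟨x, hUT hx⟩, hUK hx, rfl⟩, Subgroup.map_subtype_le _⟩
    rw [← hK]
    exact (Nat.card_congr (K.equivMapOfInjective _ T.subtype_injective).toEquiv).symm
  rcases lt_or_ge d q with hdq | hdq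
  · -- every element of `Q` is fixed
    apply hQnot
    obtain ⟨hQA, hQs, -, -⟩ := Cfsg.Agent.S3736.result (p := 2) A A Q hQ2 hAQ le_rfl Subgroup.le_normalizer
      (Nat.coprime_two_right.mpr hA)
      (fun h => hQnot (Subgroup.commutator_eq_bot_iff_le_centralizer.mp (by rw [Subgroup.commutator_comm]; exact h)))
      (fun U hU hAU => by
        rw [Subgroup.commutator_comm, Subgroup.commutator_eq_bot_iff_le_centralizer]; exact hmin U hU hAU)
    have hfour : ∀ x : Q, x ^ 4 = 1 := by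
      intro x
      rcases hQs with hel | hsp
      · apply Subtype.ext
        rw [Subgroup.coe_pow, Subgroup.coe_one, show 4 = 2 * 2 from rfl, pow_mul, hel.2 x x.2, one_pow]
      · have hcomm : ∀ a b c : Q, Commute ⁅a, b⁆ c := fun a b c =>
          (Subgroup.mem_center_iff.mp (hsp.2.2.le (by
            rw [commutator_def]; exact Subgroup.commutator_mem_commutator (Subgroup.mem_top a) (Subgroup.mem_top b))) c).symm
        have hcp : ∀ a b : Q, ⁅a, b⁆ ^ 2 = 1 := by
          intro a b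
          rw [← H6.commutator_pow_left (hcomm a b a).symm, commutatorElement_eq_one_iff_mul_comm]
          exact (Subgroup.mem_center_iff.mp (hsp.2.1.le (H6.pow_prime_mem_frattini hQ2 a)) b).symm
        have hmem : x ^ 2 ∈ commutator Q := by rw [hsp.2.2, ← hsp.2.1]; exact H6.pow_prime_mem_frattini hQ2 x
        rw [commutator_def, Subgroup.commutator_def] at hmem
        have : ∀ y ∈ Subgroup.closure {g : Q | ∃ g₁ ∈ (⊤ : Subgroup Q), ∃ g₂ ∈ (⊤ : Subgroup Q), ⁅g₁, g₂⁆ = g}, y ^ 2 = 1 ∧ ∀ z : Q, Commute y z := by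
          intro y hy
          induction hy using Subgroup.closure_induction with
          | mem y hy => obtain ⟨a, -, b, -, rfl⟩ := hy; exact ⟨hcp a b, hcomm a b⟩
          | one => exact ⟨one_pow 2, fun z => Commute.one_left z⟩
          | mul y z _ _ hy hz =>
            exact ⟨by rw [(hy.2 z).mul_pow, hy.1, hz.1, one_mul], fun w => (hy.2 w).mul_left (hz.2 w)⟩
          | inv y _ hy => exact ⟨by rw [inv_pow, hy.1, inv_one], fun w => (hy.2 w).inv_left⟩
        rw [show 4 = 2 * 2 from rfl, pow_mul]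
        exact (this _ hmem).1
    intro a ha
    rw [Subgroup.mem_centralizer_iff]
    intro x hx
    have hx4 : x ^ 4 = 1 := congrArg Subtype.val (hfour ⟨x, hx⟩)
    obtain ⟨o, ho, hox⟩ := (Nat.dvd_prime_pow Nat.prime_two).mp
      (show orderOf x ∣ 2 ^ 2 from orderOf_dvd_of_pow_eq_one hx4)
    have hzQ : Subgroup.zpowers x ≤ Q := Subgroup.zpowers_le.mpr hx
    have hzc : Nat.card (Subgroup.zpowers x) = 2 ^ o := by rw [Nat.card_zpowers, hox]
    rcases le_or_gt o d with hod | hod
    · obtain ⟨E, hE, hxE, hEQ⟩ := hext _ Q d hzQ (hzc ▸ pow_dvd_pow 2 hod) (hq ▸ pow_dvd_pow 2 hdq.le)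
      have hAE := hinv E (hEQ.trans hQP) (Or.inl (by rw [hE, hd]))
      have hlt : E < Q := by
        refine lt_of_le_of_ne hEQ fun he => ?_
        rw [he, hq] at hE
        exact hdq.ne' (Nat.pow_right_injective le_rfl hE)
      exact Subgroup.mem_centralizer_iff.mp (hmin E hlt hAE ha) x (hxE (Subgroup.mem_zpowers x))
    · -- `d = 1` and `x` has order four
      have hAz := hinv (Subgroup.zpowers x) (hzQ.trans hQP) (Or.inr ⟨by rw [hd, show d = 1 by omega, pow_one], by rw [hzc, show o = 2 by omega]; rfl⟩)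
      have := le_centralizer_of_isCyclic hA (hP.to_le (hzQ.trans hQP)) inferInstance hAz ha
      exact Subgroup.mem_centralizer_iff.mp this x (Subgroup.mem_zpowers x)
  · -- `Q` lies in a subgroup all of whose maximal subgroups are invariant
    apply hQnot
    obtain ⟨E, hE, hQE, hEP⟩ := hext Q P d hQP (hq ▸ pow_dvd_pow 2 hdq) (hm ▸ pow_dvd_pow 2 (by omega))
    have hAE := hinv E hEP (Or.inl (by rw [hE, hd]))
    by_cases hEc : IsCyclic E
    · exact (le_centralizer_of_isCyclic hA (hP.to_le hEP) hEc hAE).trans (Subgroup.centralizer_le hQE)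
    obtain ⟨R, hR, hER, hRP⟩ := hext E P (d + 1) hEP (hE ▸ pow_dvd_pow 2 (Nat.le_succ d)) (hm ▸ pow_dvd_pow 2 hdm)
    have hR2 : IsPGroup 2 R := hP.to_le hRP
    have hRc : ¬ IsCyclic R := fun h => hEc (by
      haveI := h
      exact isCyclic_of_surjective (Subgroup.subgroupOfEquivOfLe hER) (Subgroup.subgroupOfEquivOfLe hER).surjective)
    have hmax : ∀ M : Subgroup R, IsCoatom M → A ≤ Subgroup.normalizer (M.map R.subtype : Subgroup X) := by
      intro M hM
      refine hinv _ ((Subgroup.map_subtype_le M).trans hRP) (Or.inl ?_)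
      have h1 := M.card_mul_index
      rw [H6.index_eq_prime_of_isCoatom hR2 hM, hR, pow_succ] at h1
      rw [← Nat.card_congr (M.equivMapOfInjective _ R.subtype_injective).toEquiv, hd]
      exact Nat.eq_of_mul_eq_mul_right two_pos h1
    have hAR : A ≤ Subgroup.normalizer (R : Set X) := by
      rw [Subgroup.le_normalizer_iff]
      intro a ha x hx
      rcases eq_top_or_exists_le_coatom (Subgroup.zpowers (⟨x, hx⟩ : R)) with htop | ⟨M, hM, hle⟩
      · exact absurd ⟨⟨(⟨x, hx⟩ : R), fun y => show y ∈ Subgroup.zpowers (⟨x, hx⟩ : R) by rw [htop]; exact Subgroup.mem_top y⟩⟩ hRc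
      · exact Subgroup.map_subtype_le M ((Subgroup.mem_normalizer_iff.mp (hmax M hM ha) x).mp
          ⟨⟨x, hx⟩, hle (Subgroup.mem_zpowers _), rfl⟩)
    have hcent : A ≤ Subgroup.centralizer (R : Set X) := by
      refine H1.le_centralizer_of_frattini hAR ?_ ?_
      · obtain ⟨i, -, hi⟩ := (Nat.dvd_prime_pow Nat.prime_two).mp (hR ▸ Subgroup.card_subgroup_dvd_card (frattini R))
        rw [hi]; exact (Nat.coprime_two_right.mpr hA).pow_right i
      · intro a ha x hx
        have hax : a * x * a⁻¹ ∈ R := (Subgroup.mem_normalizer_iff.mp (hAR ha) x).mp hx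
        refine ⟨⟨a * x * a⁻¹, hax⟩ * (⟨x, hx⟩ : R)⁻¹, ?_, rfl⟩
        rw [SetLike.mem_coe, H6.mem_frattini_iff]
        intro M hM
        rw [Subgroup.mul_mem_iff_of_index_two (H6.index_eq_prime_of_isCoatom hR2 hM), inv_mem_iff]
        have key := Subgroup.mem_normalizer_iff.mp (hmax M hM ha) x
        constructor
        · intro h
          obtain ⟨y, hy, hyx⟩ := key.mpr ⟨_, h, rfl⟩
          exact (Subtype.ext hyx : y = ⟨x, hx⟩) ▸ hy
        · intro h
          obtain ⟨y, hy, hyx⟩ := key.mp ⟨_, h, rfl⟩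
          exact (Subtype.ext hyx : y = ⟨a * x * a⁻¹, hax⟩) ▸ hy
    exact hcent.trans (Subgroup.centralizer_le (hQE.trans hER))

end Cfsg.Agent.S3803
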