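import Cfsg.Statements.S3805
import Cfsg.Agent.H35.SqLinear
import Cfsg.Agent.H79.CoprimeGen
import Cfsg.Agent.H91.DihedralLift

set_option autoImplicit false
set_option maxHeartbeats 2000000
set_option linter.all false
open Cfsg

namespace Cfsg.Agent.S3805

/-- Let G be a finite group whose Sylow 3-subgroup T is elementary abelian of order 9 and self-centralizing, with N_G(T)/T a Klein four-group, and suppose that the centralizer of every nonidentity element of T lies in N_G(T). Then T is normal in G. -/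
theorem result {G : Type*} [Group G] [Finite G]
    (T : Sylow 3 G) (hT : Cfsg.IsElementaryAbelian 3 (T : Subgroup G)) (hcard : Nat.card T = 9)
    (hC : Subgroup.centralizer ((T : Subgroup G) : Set G) = T)
    [hn : ((T : Subgroup G).subgroupOf (Subgroup.normalizer ((T : Subgroup G) : Set G))).Normal]
    (hK : IsKleinFour (↥(Subgroup.normalizer ((T : Subgroup G) : Set G)) ⧸
      (T : Subgroup G).subgroupOf (Subgroup.normalizer ((T : Subgroup G) : Set G))))
    (hloc : ∀ t ∈ (T : Subgroup G), t ≠ 1 →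
      Subgroup.centralizer ({t} : Set G) ≤ Subgroup.normalizer ((T : Subgroup G) : Set G)) :
    Subgroup.normalizer ((T : Subgroup G) : Set G) = ⊤ := by
  classical
  haveI : Fintype G := Fintype.ofFinite G
  haveI : Fact (Nat.Prime 3) := ⟨by norm_num⟩
  haveI : Fact (Nat.Prime 2) := ⟨by norm_num⟩
  set N : Subgroup G := Subgroup.normalizer ((T : Subgroup G) : Set G) with hNdef
  have hTN : (T : Subgroup G) ≤ N := Subgroup.le_normalizer
  have hcomm : ∀ x ∈ (T : Subgroup G), ∀ y ∈ (T : Subgroup G), x * y = y * x := fun x hx y hy => by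
    haveI := hT.1
    exact congrArg Subtype.val (IsMulCommutative.is_comm.comm (⟨x, hx⟩ : (T : Subgroup G)) ⟨y, hy⟩)
  have hexp := hT.2
  have hcardT : Nat.card (T : Subgroup G) = 9 := hcard
  -- the quotient by `T`
  have hNcard : Nat.card N = 36 := by
    rw [Subgroup.card_eq_card_quotient_mul_card_subgroup ((T : Subgroup G).subgroupOf N),
      Nat.card_congr (Subgroup.subgroupOfEquivOfLe hTN).toEquiv, hcardT, IsKleinFour.card_four]
  have hsq : ∀ x ∈ N, x ^ 2 ∈ (T : Subgroup G) := by
    intro x hx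
    have h := Monoid.pow_exponent_eq_one
      (QuotientGroup.mk' ((T : Subgroup G).subgroupOf N) ⟨x, hx⟩)
    rw [IsKleinFour.exponent_two, ← map_pow, QuotientGroup.mk'_apply, QuotientGroup.eq_one_iff,
      Subgroup.mem_subgroupOf] at h
    simpa using h
  have h3T : ∀ x ∈ N, x ^ 3 = 1 → x ∈ (T : Subgroup G) := by
    intro x hx h
    have h4 := pow_mem (hsq x hx) 2
    rw [← pow_mul, show 2 * 2 = 3 + 1 from rfl, pow_succ, h, one_mul] at h4
    exact h4
  -- a complement
  obtain ⟨K, hK4⟩ := Sylow.exists_subgroup_card_pow_prime (G := N) 2 (n := 2) (by rw [hNcard]; norm_num)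
  set V : Subgroup G := K.map N.subtype with hVdef
  have hVN : V ≤ N := Subgroup.map_subtype_le K
  have hV4 : Nat.card V = 4 := by
    rw [hVdef, Subgroup.card_map_of_injective N.subtype_injective, hK4]; norm_num
  have hV2 : ∀ x ∈ V, x * x = 1 := by
    intro x hx
    have h4 : x ^ 4 = 1 := by
      have h := pow_card_eq_one' (x := (⟨x, hx⟩ : V))
      rw [hV4] at h
      simpa using congrArg Subtype.val h
    have h1 := hexp _ (hsq x (hVN hx))
    rw [← pow_mul, show 2 * 3 = 4 + 2 from rfl, pow_add, h4, one_mul, sq] at h1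
    exact h1
  have hVT : ∀ x ∈ V, x ∈ (T : Subgroup G) → x = 1 := by
    intro x hx hxT
    have h := hexp x hxT
    rw [pow_succ, sq, hV2 x hx, one_mul] at h
    exact h
  have hVinv : ∀ x ∈ V, x⁻¹ = x := fun x hx => inv_eq_of_mul_eq_one_right (hV2 x hx)
  have hVcomm : ∀ x ∈ V, ∀ y ∈ V, x * y = y * x := fun x hx y hy => by
    have h := hVinv _ (mul_mem hx hy)
    rw [mul_inv_rev, hVinv x hx, hVinv y hy] at h
    exact h.symm
  have hact : ∀ x ∈ V, ∀ t ∈ (T : Subgroup G), x * t * x ∈ (T : Subgroup G) := fun x hx t ht => by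
    have h := (Subgroup.mem_normalizer_iff.1 (hVN hx) t).1 ht
    rwa [hVinv x hx] at h
  have hcent : ∀ x ∈ V, (∀ t ∈ (T : Subgroup G), x * t * x = t) → x = 1 := by
    intro x hx h
    refine hVT x hx ?_
    rw [← hC, Subgroup.mem_centralizer_iff]
    intro t ht
    calc t * x = x * t * x * x := by rw [h t ht]
      _ = x * t := by rw [mul_assoc, hV2 x hx, mul_one]
  have other : ∀ a ∈ V, ∃ b ∈ V, b ≠ 1 ∧ b ≠ a := by
    intro a _
    by_contra hc
    simp only [not_exists, not_and, not_not] at hc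
    have hsub : (V : Set G) ⊆ {1, a} := fun x hx => by
      by_cases h : x = 1
      · simp [h]
      · simp [hc x hx h]
    have h := Set.ncard_le_ncard hsub
    have h2 : ({1, a} : Set G).ncard ≤ 2 :=
      (Set.ncard_insert_le _ _).trans (by rw [Set.ncard_singleton])
    have h' : (V : Set G).ncard = 4 := hV4
    omega
  -- a reflection
  have hu : ∃ u ∈ V, u ≠ 1 ∧ ∃ t ∈ (T : Subgroup G), u * t * u ≠ t⁻¹ := by
    by_contra hc
    simp only [not_exists, not_and, ne_eq, not_not] at hc
    obtain ⟨a, ha, ha1, -⟩ := other 1 (one_mem _)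
    obtain ⟨b, hb, hb1, hba⟩ := other a ha
    have h1 := hcent (a * b) (mul_mem ha hb) fun t ht => by
      calc a * b * t * (a * b) = a * (b * t * b) * a := by
            conv_lhs => arg 2; rw [hVcomm a ha b hb]
            simp only [mul_assoc]
        _ = t := by
            rw [hc b hb hb1 t ht, hc a ha ha1 t⁻¹ (inv_mem ht), inv_inv]
    exact hba ((eq_inv_of_mul_eq_one_right h1).trans (hVinv a ha))
  obtain ⟨u, huV, hu1, t, ht, htne⟩ := hu
  have hu2 := hV2 u huV
  set t2 := t * (u * t * u) with ht2def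
  have ht2T : t2 ∈ (T : Subgroup G) := mul_mem ht (hact u huV t ht)
  have ht2ne : t2 ≠ 1 := fun e => htne (eq_inv_of_mul_eq_one_right e)
  have hut2 : u * t2 * u = t2 := by
    calc u * t2 * u = u * t * u * t * (u * u) := by rw [ht2def]; simp only [mul_assoc]
      _ = u * t * u * t := by rw [hu2, mul_one]
      _ = t2 := hcomm _ (hact u huV t ht) t ht
  have huc : ∃ s ∈ (T : Subgroup G), u * s * u ≠ s := by
    by_contra hc
    simp only [not_exists, not_and, ne_eq, not_not] at hc
    exact hu1 (hcent u huV hc)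
  obtain ⟨s, hs, hsne⟩ := huc
  set t1 := s * (u * s * u)⁻¹ with ht1def
  have ht1T : t1 ∈ (T : Subgroup G) := mul_mem hs (inv_mem (hact u huV s hs))
  have ht1ne : t1 ≠ 1 := fun e => hsne (mul_inv_eq_one.1 e).symm
  have hconjmul : ∀ x ∈ V, ∀ a b : G, x * (a * b) * x = (x * a * x) * (x * b * x) := by
    intro x hx a b
    simp only [mul_assoc]
    rw [← mul_assoc x x, hV2 x hx, one_mul]
  have hconjinv : ∀ x ∈ V, ∀ a : G, x * a⁻¹ * x = (x * a * x)⁻¹ := by
    intro x hx a
    rw [mul_inv_rev, mul_inv_rev, hVinv x hx, mul_assoc]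
  have hconjconj : ∀ x ∈ V, ∀ a : G, x * (x * a * x) * x = a := by
    intro x hx a
    calc x * (x * a * x) * x = (x * x) * a * (x * x) := by simp only [mul_assoc]
      _ = a := by rw [hV2 x hx, one_mul, mul_one]
  have hconjpow : ∀ x ∈ V, ∀ (a : G) (n : ℕ), x * a ^ n * x = (x * a * x) ^ n := by
    intro x hx a n
    induction n with
    | zero => rw [pow_zero, pow_zero, mul_one, hV2 x hx]
    | succ n ih => rw [pow_succ, pow_succ, hconjmul x hx, ih]
  have hut1 : u * t1 * u = t1⁻¹ := by
    rw [ht1def, hconjmul u huV, hconjinv u huV, hconjconj u huV, mul_inv_rev, inv_inv]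
  have hord : ∀ x ∈ (T : Subgroup G), x ≠ 1 → orderOf x = 3 := fun x hx hne =>
    orderOf_eq_prime (hexp x hx) hne
  have hsquare : ∀ x ∈ (T : Subgroup G), x * x = 1 → x = 1 := by
    intro x hx h
    have h' := hexp x hx
    rwa [pow_succ, sq, h, one_mul] at h'
  have indep : ∀ i k : ℕ, t1 ^ i * t2 ^ k = 1 → t1 ^ i = 1 ∧ t2 ^ k = 1 := by
    intro i k h
    have h' := congrArg (fun x => u * x * u) h
    simp only [mul_one, hu2] at h'
    rw [hconjmul u huV, hconjpow u huV, hconjpow u huV, hut1, hut2, inv_pow] at h'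
    have e1 : t2 ^ k = (t1 ^ i)⁻¹ := eq_inv_of_mul_eq_one_right h
    have e2 : t2 ^ k = t1 ^ i := by rw [eq_inv_of_mul_eq_one_right h', inv_inv]
    have h1 : t1 ^ i * t1 ^ i = 1 := by
      nth_rewrite 2 [← e2]; exact h
    have := hsquare _ (pow_mem ht1T i) h1
    exact ⟨this, by rw [e2, this]⟩
  have span : ∀ x ∈ (T : Subgroup G), ∃ i k : Fin 3, x = t1 ^ i.val * t2 ^ k.val := by
    let f : Fin 3 × Fin 3 → (T : Subgroup G) := fun p =>
      ⟨t1 ^ p.1.val * t2 ^ p.2.val, mul_mem (pow_mem ht1T _) (pow_mem ht2T _)⟩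
    have red : ∀ (i i' : Fin 3) (x : G), x ∈ (T : Subgroup G) → x ≠ 1 → x ^ (i.val + 2 * i'.val) = 1 → i = i' := by
      intro i i' x hx hne h
      have h' := orderOf_dvd_of_pow_eq_one h
      rw [hord x hx hne] at h'
      apply Fin.ext
      have := i.isLt; have := i'.isLt
      obtain ⟨c, hc⟩ := h'
      omega
    have hf : Function.Injective f := by
      rintro ⟨i, k⟩ ⟨i', k'⟩ h
      have h' : t1 ^ i.val * t2 ^ k.val = t1 ^ i'.val * t2 ^ k'.val := congrArg Subtype.val h
      have h0 : t1 ^ (i.val + 2 * i'.val) * t2 ^ (k.val + 2 * k'.val) = 1 := by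
        have c : Commute (t1 ^ (2 * i'.val)) (t2 ^ k.val) := hcomm _ (pow_mem ht1T _) _ (pow_mem ht2T _)
        have c' : Commute (t2 ^ k'.val) (t1 ^ (2 * i'.val)) := hcomm _ (pow_mem ht2T _) _ (pow_mem ht1T _)
        calc t1 ^ (i.val + 2 * i'.val) * t2 ^ (k.val + 2 * k'.val)
            = t1 ^ i.val * (t1 ^ (2 * i'.val) * t2 ^ k.val) * t2 ^ (2 * k'.val) := by
              simp only [pow_add, mul_assoc]
          _ = t1 ^ i.val * t2 ^ k.val * t1 ^ (2 * i'.val) * t2 ^ (2 * k'.val) := by
              rw [c.eq]; simp only [mul_assoc]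
          _ = (t1 ^ (3 * i'.val)) * t2 ^ (3 * k'.val) := by
              rw [h', mul_assoc (t1 ^ i'.val), c'.eq]
              simp only [mul_assoc, ← pow_add]
              rw [← mul_assoc, ← pow_add]
              congr 2 <;> ring
          _ = 1 := by rw [pow_mul, pow_mul, hexp _ ht1T, hexp _ ht2T, one_pow, one_pow, one_mul]
      obtain ⟨a, b⟩ := indep _ _ h0
      exact Prod.ext (red i i' t1 ht1T ht1ne a) (red k k' t2 ht2T ht2ne b)
    have hb : Function.Bijective f :=
      (Fintype.bijective_iff_injective_and_card f).2 ⟨hf, by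
        rw [Fintype.card_prod, Fintype.card_fin, ← Nat.card_eq_fintype_card, hcardT]⟩
    intro x hx
    obtain ⟨p, hp⟩ := hb.2 ⟨x, hx⟩
    exact ⟨p.1, p.2, (congrArg Subtype.val hp).symm⟩
  have gen12 : ∀ x ∈ V, x * t1 * x = t1 → x * t2 * x = t2 → x = 1 := by
    intro x hx h1 h2
    refine hcent x hx fun y hy => ?_
    obtain ⟨i, k, rfl⟩ := span y hy
    rw [hconjmul x hx, hconjpow x hx, hconjpow x hx, h1, h2]
  obtain ⟨q, hqV, hq1, hqu⟩ := other u huV
  have hqu_comm : ∀ a : G, u * (q * a * q) * u = q * (u * a * u) * q := by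
    intro a
    calc u * (q * a * q) * u = (u * q) * a * (q * u) := by simp only [mul_assoc]
      _ = (q * u) * a * (u * q) := by rw [hVcomm u huV q hqV]
      _ = q * (u * a * u) * q := by simp only [mul_assoc]
  have three : ∀ (x : G) (i : Fin 3), x ∈ (T : Subgroup G) → x ^ i.val = 1 ∨ x ^ i.val = x ∨ x ^ i.val = x⁻¹ := by
    intro x i hx
    fin_cases i
    · exact Or.inl (pow_zero x)
    · exact Or.inr (Or.inl (pow_one x))
    · refine Or.inr (Or.inr (eq_inv_of_mul_eq_one_left ?_))
      show x ^ 2 * x = 1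
      rw [← pow_succ]; exact hexp x hx
  have hq_t1 : q * t1 * q = t1 ∨ q * t1 * q = t1⁻¹ := by
    obtain ⟨i, k, hik⟩ := span _ (hact q hqV t1 ht1T)
    have h := hqu_comm t1
    rw [hut1, hconjinv q hqV, hik, hconjmul u huV, hconjpow u huV, hconjpow u huV, hut1, hut2, inv_pow,
      mul_inv_rev, hcomm (t2 ^ k.val)⁻¹ (inv_mem (pow_mem ht2T _)) _ (inv_mem (pow_mem ht1T _))] at h
    have h2 : t2 ^ k.val = 1 := hsquare _ (pow_mem ht2T _) (mul_eq_one_iff_eq_inv.2 (mul_left_cancel h))
    rw [h2, mul_one] at hik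
    rcases three t1 i ht1T with e | e | e
    · rw [e] at hik
      have := congrArg (fun z => q * z * q) hik
      simp only [hconjconj q hqV, mul_one, hV2 q hqV] at this
      exact absurd this ht1ne
    · exact Or.inl (hik.trans e)
    · exact Or.inr (hik.trans e)
  have hq_t2 : q * t2 * q = t2 ∨ q * t2 * q = t2⁻¹ := by
    obtain ⟨i, k, hik⟩ := span _ (hact q hqV t2 ht2T)
    have h := hqu_comm t2
    rw [hut2, hik, hconjmul u huV, hconjpow u huV, hconjpow u huV, hut1, hut2, inv_pow] at h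
    have h2 : t1 ^ i.val = 1 := hsquare _ (pow_mem ht1T _) (by
      have h' := mul_right_cancel h
      rw [inv_eq_iff_mul_eq_one] at h'
      exact h')
    rw [h2, one_mul] at hik
    rcases three t2 k ht2T with e | e | e
    · rw [e] at hik
      have := congrArg (fun z => q * z * q) hik
      simp only [hconjconj q hqV, mul_one, hV2 q hqV] at this
      exact absurd this ht2ne
    · exact Or.inl (hik.trans e)
    · exact Or.inr (hik.trans e)
  have huq : ∀ a : G, (u * q) * a * (u * q) = u * (q * a * q) * u := by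
    intro a
    conv_lhs => arg 2; rw [hVcomm u huV q hqV]
    simp only [mul_assoc]
  have hvex : ∃ v ∈ V, v * t1 * v = t1 ∧ v * t2 * v = t2⁻¹ := by
    rcases hq_t1 with a | a <;> rcases hq_t2 with b | b
    · exact absurd (gen12 q hqV a b) hq1
    · exact ⟨q, hqV, a, b⟩
    · have h := gen12 (u * q) (mul_mem huV hqV)
        (by rw [huq, a, hconjinv u huV, hut1, inv_inv]) (by rw [huq, b, hut2])
      exact absurd ((eq_inv_of_mul_eq_one_right h).trans (hVinv u huV)) hqu
    · exact ⟨u * q, mul_mem huV hqV, by rw [huq, a, hconjinv u huV, hut1, inv_inv],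
        by rw [huq, b, hconjinv u huV, hut2]⟩
  obtain ⟨v, hvV, hvt1, hvt2⟩ := hvex
  have hv2 := hV2 v hvV
  have hv1 : v ≠ 1 := by
    intro e
    rw [e, one_mul, mul_one] at hvt2
    exact ht2ne (hsquare _ ht2T (mul_eq_one_iff_eq_inv.2 hvt2))
  have huv : u ≠ v := by
    intro e
    rw [← e, hut2] at hvt2
    exact ht2ne (hsquare _ ht2T (mul_eq_one_iff_eq_inv.2 hvt2))
  -- the embedding
  let A : H35.Sq.D3 →* G := H91.dihedralLift t1 u (hexp _ ht1T) hu2 (by rw [hVinv u huV, hut1])
  let B : H35.Sq.D3 →* G := H91.dihedralLift t2 v (hexp _ ht2T) hv2 (by rw [hVinv v hvV, hvt2])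
  have cswap : ∀ x ∈ V, ∀ a : G, x * a * x = a → Commute x a := by
    intro x hx a h
    calc x * a = x * a * (x * x) := by rw [hV2 x hx, mul_one]
      _ = (x * a * x) * x := by simp only [mul_assoc]
      _ = a * x := by rw [h]
  have hc12 : Commute t1 t2 := hcomm _ ht1T _ ht2T
  have hcu2 : Commute u t2 := cswap u huV t2 hut2
  have hc1v : Commute t1 v := (cswap v hvV t1 hvt1).symm
  have hcuv : Commute u v := hVcomm u huV v hvV
  have comm : ∀ a b, Commute (A a) (B b) := by
    rintro (i | i) (k | k)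
    · exact hc12.pow_pow _ _
    · exact (hc1v.pow_left _).mul_right (hc12.pow_pow _ _)
    · exact (hcu2.pow_right _).mul_left (hc12.pow_pow _ _)
    · exact (hcuv.mul_right (hcu2.pow_right _)).mul_left ((hc1v.pow_left _).mul_right (hc12.pow_pow _ _))
  let j : H35.Sq.M →* G := MonoidHom.noncommCoprod A B comm
  have jrr : ∀ i k, j (DihedralGroup.r i, DihedralGroup.r k) = t1 ^ i.val * t2 ^ k.val := fun i k => rfl
  have hTmem : ∀ i k : ℕ, t1 ^ i * t2 ^ k ∈ (T : Subgroup G) := fun i k =>
    mul_mem (pow_mem ht1T i) (pow_mem ht2T k)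
  have val0 : ∀ (i : ZMod 3) (x : G), x ∈ (T : Subgroup G) → x ≠ 1 → x ^ i.val = 1 → i = 0 := by
    intro i x hx hne h
    have h' := orderOf_dvd_of_pow_eq_one h
    rw [hord x hx hne] at h'
    apply ZMod.val_injective
    have := ZMod.val_lt i
    obtain ⟨c, hc⟩ := h'
    simp only [ZMod.val_zero]
    omega
  have hinj : Function.Injective j := by
    rw [injective_iff_map_eq_one]
    rintro ⟨i | i, k | k⟩ h
    · obtain ⟨a, b⟩ := indep _ _ h
      rw [val0 i t1 ht1T ht1ne a, val0 k t2 ht2T ht2ne b]; rfl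
    · exfalso
      have h' : t1 ^ i.val * (v * t2 ^ k.val) = 1 := h
      apply hv1
      refine hVT v hvV ?_
      rw [show v = (t1 ^ i.val)⁻¹ * (t1 ^ i.val * (v * t2 ^ k.val)) * (t2 ^ k.val)⁻¹ by group, h', mul_one]
      exact mul_mem (inv_mem (pow_mem ht1T _)) (inv_mem (pow_mem ht2T _))
    · exfalso
      have h' : u * t1 ^ i.val * t2 ^ k.val = 1 := h
      apply hu1
      refine hVT u huV ?_
      rw [show u = (u * t1 ^ i.val * t2 ^ k.val) * (t2 ^ k.val)⁻¹ * (t1 ^ i.val)⁻¹ by group, h', one_mul]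
      exact mul_mem (inv_mem (pow_mem ht2T _)) (inv_mem (pow_mem ht1T _))
    · exfalso
      have h' : u * t1 ^ i.val * (v * t2 ^ k.val) = 1 := h
      rw [show u * t1 ^ i.val * (v * t2 ^ k.val) = u * (t1 ^ i.val * v) * t2 ^ k.val by simp only [mul_assoc],
        (hc1v.pow_left i.val).eq] at h'
      have h2 : u * v ∈ (T : Subgroup G) := by
        rw [show u * v = (u * (v * t1 ^ i.val) * t2 ^ k.val) * (t2 ^ k.val)⁻¹ * (t1 ^ i.val)⁻¹ by group,
          h', one_mul]
        exact mul_mem (inv_mem (pow_mem ht2T _)) (inv_mem (pow_mem ht1T _))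
      exact huv (((eq_inv_of_mul_eq_one_left (hVT _ (mul_mem huV hvV) h2))).trans (hVinv v hvV))
  have hrange : j.range = N := by
    refine Subgroup.eq_of_le_of_card_ge ?_ ?_
    · rintro x ⟨⟨a, b⟩, rfl⟩
      have hA : ∀ a, A a ∈ N := by
        rintro (i | i)
        · exact pow_mem (hTN ht1T) _
        · exact mul_mem (hVN huV) (pow_mem (hTN ht1T) _)
      have hB : ∀ b, B b ∈ N := by
        rintro (i | i)
        · exact pow_mem (hTN ht2T) _
        · exact mul_mem (hVN hvV) (pow_mem (hTN ht2T) _)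
      exact mul_mem (hA a) (hB b)
    · rw [hNcard, ← Nat.card_congr (MonoidHom.ofInjective hinj).toEquiv, Nat.card_eq_fintype_card]
      exact le_of_eq rfl
  have hfour : ∀ m : H35.Sq.M, m ^ 2 ≠ 1 → m ^ 4 ≠ 1 ∧ (m ^ 4) ^ 3 = 1 := by decide +kernel
  let S : H35.Sq.Config G :=
    { j := j
      inj := hinj
      ti := by
        intro m hm g hg
        rw [hrange] at hg ⊢
        have hm4 := hfour m hm
        have ht : j m ^ 4 ∈ (T : Subgroup G) := by
          refine h3T _ (pow_mem (hrange ▸ ⟨m, rfl⟩ : j m ∈ N) _) ?_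
          rw [← map_pow, ← map_pow, hm4.2, map_one]
        have hne : j m ^ 4 ≠ 1 := fun e => hm4.1 (hinj (by rw [map_pow, e, map_one]))
        have ht' : g * j m ^ 4 * g⁻¹ ∈ (T : Subgroup G) := by
          refine h3T _ ?_ ?_
          · rw [← conj_pow]; exact pow_mem hg _
          · rw [conj_pow, hexp _ ht]; group
        have hne' : g * j m ^ 4 * g⁻¹ ≠ 1 := fun e => hne (conj_eq_one_iff.1 e)
        have hstab : ∀ x ∈ (T : Subgroup G), g * x * g⁻¹ ∈ (T : Subgroup G) := by
          intro x hx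
          refine h3T _ (hloc _ ht' hne' ?_) (by rw [conj_pow, hexp _ hx]; group)
          rw [Subgroup.mem_centralizer_iff]
          intro y hy
          rw [Set.mem_singleton_iff] at hy
          subst hy
          calc g * j m ^ 4 * g⁻¹ * (g * x * g⁻¹) = g * (j m ^ 4 * x) * g⁻¹ := by group
            _ = g * (x * j m ^ 4) * g⁻¹ := by rw [hcomm _ ht x hx]
            _ = g * x * g⁻¹ * (g * j m ^ 4 * g⁻¹) := by group
        have heq : (T : Subgroup G).map (MulAut.conj g).toMonoidHom = (T : Subgroup G) := by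
          refine Subgroup.eq_of_le_of_card_ge ?_ (le_of_eq ?_)
          · rintro x ⟨y, hy, rfl⟩; exact hstab y hy
          · exact (Subgroup.card_map_of_injective (MulEquiv.injective _)).symm
        rw [hNdef, Subgroup.mem_normalizer_iff]
        intro x
        refine ⟨hstab x, fun hx => ?_⟩
        rw [← heq] at hx
        obtain ⟨y, hy, hyx⟩ := hx
        have : g * y * g⁻¹ = g * x * g⁻¹ := hyx
        rw [← mul_left_cancel (mul_right_cancel this)]
        exact hy }
  obtain ⟨⟨f, hf1, hf2⟩, f', hf1', hf2'⟩ := S.exists_separating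
  have hju : S.j H35.Sq.u₀ = u := by
    show u * t1 ^ (0 : ZMod 3).val * (B 1) = u
    simp
  have hjv : S.j H35.Sq.v₀ = v := by
    show A 1 * (v * t2 ^ (0 : ZMod 3).val) = v
    simp
  rw [hju] at hf1 hf1'
  rw [hjv] at hf2 hf2'
  have killT : ∀ φ : G →* ℂˣ, φ t1 = 1 ∧ φ t2 = 1 := by
    intro φ
    have key : ∀ x ∈ V, ∀ y ∈ (T : Subgroup G), x * y * x = y⁻¹ → φ y = 1 := by
      intro x hx y hy h
      have h' := congrArg φ h
      rw [map_mul, map_mul, map_inv, mul_comm (φ x) (φ y), mul_assoc, ← map_mul, hV2 x hx, map_one, mul_one] at h'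
      have h3 : φ y ^ 3 = 1 := by rw [← map_pow, hexp y hy, map_one]
      rw [pow_succ, sq, mul_eq_one_iff_eq_inv.2 h', one_mul] at h3
      exact h3
    exact ⟨key u huV t1 ht1T hut1, key v hvV t2 ht2T hvt2⟩
  obtain ⟨ft1, ft2⟩ := killT f
  obtain ⟨ft1', ft2'⟩ := killT f'
  set G1 : Subgroup G := f.ker ⊓ f'.ker with hG1
  haveI : G1.Normal := inferInstance
  have hTG1 : (T : Subgroup G) ≤ G1 := by
    intro x hx
    obtain ⟨i, k, rfl⟩ := span x hx
    simp [hG1, MonoidHom.mem_ker, ft1, ft2, ft1', ft2']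
  have hG1N : ∀ x ∈ G1, x ∈ N → x ∈ (T : Subgroup G) := by
    intro x hx hxN
    rw [← hrange] at hxN
    obtain ⟨⟨a, b⟩, rfl⟩ := hxN
    simp only [hG1, Subgroup.mem_inf, MonoidHom.mem_ker] at hx
    have hne : (-1 : ℂˣ) ≠ 1 := by
      intro e
      have := congrArg Units.val e
      norm_num at this
    rcases a with i | i <;> rcases b with k | k
    · rw [jrr]; exact hTmem _ _
    · exfalso
      have h : f' (t1 ^ i.val * (v * t2 ^ k.val)) = 1 := hx.2
      simp [ft1', ft2', hf2'] at h
    · exfalso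
      have h : f (u * t1 ^ i.val * t2 ^ k.val) = 1 := hx.1
      simp [ft1, ft2, hf1] at h
    · exfalso
      have h : f (u * t1 ^ i.val * (v * t2 ^ k.val)) = 1 := hx.1
      simp [ft1, ft2, hf1, hf2] at h
  -- normal complement
  let P : Sylow 3 G1 := T.subtype hTG1
  have hP : (P : Subgroup G1) = (T : Subgroup G).subgroupOf G1 := T.coe_subtype hTG1
  have hburn : Subgroup.normalizer (P : Set G1) ≤ Subgroup.centralizer (P : Set G1) := by
    intro x hx
    have hxT : (x : G) ∈ (T : Subgroup G) := by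
      refine hG1N _ x.2 ?_
      rw [hNdef, Subgroup.mem_normalizer_iff]
      intro y
      constructor
      · intro hy
        have := (Subgroup.mem_normalizer_iff.1 hx ⟨y, hTG1 hy⟩).1 (show _ ∈ (P : Subgroup G1) by
          rw [hP]; exact hy)
        rw [hP] at this
        exact this
      · intro hy
        have hy1 : y ∈ G1 := by
          have h := Subgroup.Normal.conj_mem' (inferInstance : G1.Normal) _ (hTG1 hy) (x : G)
          rwa [show (x : G)⁻¹ * ((x : G) * y * (x : G)⁻¹) * (x : G) = y by group] at h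
        have h := (Subgroup.mem_normalizer_iff.1 hx ⟨y, hy1⟩).2 (show _ ∈ (P : Subgroup G1) by
          rw [hP]; exact hy)
        rw [hP] at h
        exact h
    rw [Subgroup.mem_centralizer_iff]
    intro y hy
    have hy' : y ∈ (T : Subgroup G).subgroupOf G1 := by rw [← hP]; exact hy
    exact Subtype.ext (hcomm _ hy' _ hxT)
  obtain ⟨L, hn, hcompl, hL3⟩ : ∃ L : Subgroup G1,
      L.Normal ∧ Subgroup.IsComplement' L (P : Subgroup G1) ∧ ¬ 3 ∣ Nat.card L :=
    ⟨_, MonoidHom.normal_ker _, MonoidHom.ker_transferSylow_isComplement' P hburn,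
      MonoidHom.not_dvd_card_ker_transferSylow P hburn⟩
  set Lg : Subgroup G := L.map G1.subtype with hLg
  haveI := hT.1
  have hLbot : Lg ≤ ⊥ := by
    refine H79.le_of_centralizers_le (p := 3) (A := (T : Subgroup G)) hexp ?_ ?_ ?_ ?_
    · intro hc
      have h1 := IsCyclic.exponent_eq_card (α := (T : Subgroup G))
      have h2 : Monoid.exponent (T : Subgroup G) ∣ 3 :=
        Monoid.exponent_dvd_of_forall_pow_eq_one fun x => Subtype.ext (hexp _ x.2)
      rw [h1, hcardT] at h2
      norm_num at h2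
    · intro x hx
      rw [Subgroup.mem_normalizer_iff]
      intro y
      constructor
      · rintro ⟨y', hy', rfl⟩
        exact ⟨⟨x, hTG1 hx⟩ * y' * ⟨x, hTG1 hx⟩⁻¹, hn.conj_mem y' hy' _, rfl⟩
      · rintro ⟨y', hy', e⟩
        refine ⟨⟨x, hTG1 hx⟩⁻¹ * y' * ⟨x, hTG1 hx⟩, hn.conj_mem' y' hy' _, ?_⟩
        show x⁻¹ * (y' : G) * x = y
        rw [show (y' : G) = x * y * x⁻¹ from e]; group
    · rw [hLg, Subgroup.card_map_of_injective G1.subtype_injective]
      exact ((Nat.Prime.coprime_iff_not_dvd (by norm_num)).2 hL3).symm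
    · rintro x hx hx1 z ⟨⟨z', hz', rfl⟩, hzc⟩
      have hzT := hG1N _ z'.2 (hloc x hx hx1 hzc)
      have : z' ∈ L ⊓ (P : Subgroup G1) := ⟨hz', by rw [hP]; exact hzT⟩
      rw [hcompl.disjoint.eq_bot, Subgroup.mem_bot] at this
      rw [this]; exact one_mem _
  have hLtriv : L = ⊥ := by
    rw [eq_bot_iff]
    intro z hz
    have := hLbot ⟨z, hz, rfl⟩
    rw [Subgroup.mem_bot] at this ⊢
    exact Subtype.ext this
  have hTeq : (T : Subgroup G) = G1 := by
    refine le_antisymm hTG1 fun x hx => ?_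
    have h := hcompl
    rw [hLtriv, Subgroup.isComplement'_bot_left, hP, Subgroup.subgroupOf_eq_top] at h
    exact h hx
  have hnorm : (T : Subgroup G).Normal := hTeq ▸ inferInstance
  exact Subgroup.normalizer_eq_top_iff.2 hnorm

end Cfsg.Agent.S3805
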