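import Cfsg.Statements.S3808
import Cfsg.Agent.H30.Extraspecial

set_option autoImplicit false
open Cfsg

namespace Cfsg.Agent.S3808

/-- Let S be a finite p-group with an extraspecial subgroup Q of index p. Then either Z(S) = Z(Q), or S = Q·Z(S) and Z(S) has order p². -/
theorem result {S : Type*} [Group S] [Finite S] (p : ℕ) [Fact p.Prime] (hS : IsPGroup p S) (Q : Subgroup S) (hQ : Cfsg.IsExtraspecial p ↥Q) (hQi : Q.index = p) :
    Subgroup.center S = (Subgroup.center ↥Q).map Q.subtype ∨
      (Q ⊔ Subgroup.center S = ⊤ ∧ Nat.card (Subgroup.center S) = p ^ 2) := by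
  obtain ⟨hQn, hZc, hint⟩ := H30.extraspecial_index_facts hS hQ hQi
  by_cases h : Subgroup.center S ≤ Q
  · left
    rw [← hint, inf_eq_right.2 h]
  · right
    have hlt : Q < Q ⊔ Subgroup.center S := left_lt_sup.2 h
    have htop : Q ⊔ Subgroup.center S = ⊤ := by
      refine Subgroup.eq_top_of_le_card _ ?_
      rw [← Q.card_mul_index, hQi, mul_comm]
      exact H30.card_mul_le_of_lt hS hlt
    refine ⟨htop, ?_⟩
    have h1 := Subgroup.relIndex_sup_right (K := Q) (H := Subgroup.center S)
    have h2 : (Q ⊓ Subgroup.center S).relIndex (Subgroup.center S) = p := by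
      rw [Subgroup.inf_relIndex_right, ← h1, sup_comm, htop,
        Subgroup.relIndex_top_right, hQi]
    have h3 := Subgroup.relIndex_mul_relIndex ⊥ (Q ⊓ Subgroup.center S) (Subgroup.center S) bot_le inf_le_right
    rw [Subgroup.relIndex_bot_left, Subgroup.relIndex_bot_left, h2, hint,
      Subgroup.card_map_of_injective Q.subtype_injective, hQ.2] at h3
    rw [← h3, sq]

end Cfsg.Agent.S3808
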