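import Cfsg.Statements.S3809
import Cfsg.Agent.H30.Extraspecial

set_option autoImplicit false
open Cfsg

namespace Cfsg.Agent.S3809

/-- Let S be a finite p-group with an extraspecial subgroup of index p. Then S has order p^(2+2n) for some n ≥ 1, derived length at most 3, and exponent dividing p³. -/
theorem result {S : Type*} [Group S] [Finite S] (p : ℕ) [Fact p.Prime] (hS : IsPGroup p S) (Q : Subgroup S) (hQ : Cfsg.IsExtraspecial p ↥Q) (hQi : Q.index = p) :
    (∃ n : ℕ, 1 ≤ n ∧ Nat.card S = p ^ (2 + 2 * n)) ∧ derivedSeries S 3 = ⊥ ∧ ∀ x : S, x ^ (p ^ 3) = 1 := by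
  obtain ⟨hQn, hZc, hint⟩ := H30.extraspecial_index_facts hS hQ hQi
  obtain ⟨n, hn, hcard⟩ := H30.extraspecial_card hQ
  obtain ⟨⟨-, hfr, hder⟩, hZ⟩ := hQ
  have hpow : ∀ x : S, x ^ p ∈ Q := fun x => hQi ▸ Q.pow_index_mem x
  refine ⟨⟨n, hn, ?_⟩, ?_, ?_⟩
  · rw [← Q.card_mul_index, hcard, hQi, ← pow_succ]; ring_nf
  · haveI : Fact (Nat.card (S ⧸ Q)).Prime := ⟨by rw [← Subgroup.index, hQi]; exact Fact.out⟩
    haveI : IsCyclic (S ⧸ Q) := isCyclic_of_prime_card (p := Nat.card (S ⧸ Q)) rfl
    have hc : commutator S ≤ Q := by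
      exact Subgroup.Normal.quotient_commutative_iff_commutator_le.1 inferInstance
    have h1 : derivedSeries S 1 ≤ Q := by rw [derivedSeries_one]; exact hc
    have h2 : derivedSeries S 2 ≤ (Subgroup.center ↥Q).map Q.subtype := by
      rw [derivedSeries_succ, ← hder, commutator_def ↥Q, Subgroup.map_commutator,
        ← MonoidHom.range_eq_map, Subgroup.range_subtype]
      exact Subgroup.commutator_mono h1 h1
    rw [derivedSeries_succ, eq_bot_iff]
    refine (Subgroup.commutator_mono (h2.trans hZc) le_top).trans ?_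
    exact le_of_eq (Subgroup.commutator_eq_bot_iff_le_centralizer.2
      (by rw [Subgroup.coe_top, Subgroup.centralizer_univ]))
  · intro x
    have hq : ∀ q : ↥Q, q ^ p ^ 2 = 1 := by
      intro q
      haveI : Group.IsNilpotent ↥Q := (hS.to_subgroup Q).isNilpotent
      have hqp : q ^ p ∈ frattini ↥Q := by
        rw [frattini, Order.radical, Subgroup.mem_iInf]
        intro M
        rw [Subgroup.mem_iInf]
        intro hM
        have hMn : M.Normal := Subgroup.NormalizerCondition.normal_of_coatom _ (Group.normalizerCondition_of_isNilpotent) hM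
        obtain ⟨z, hz, hzM, hzp, -⟩ := H30.exists_step (hS.to_subgroup Q) (lt_top_iff_ne_top.2 hM.1)
        have hsup : M ⊔ Subgroup.zpowers z = ⊤ :=
          hM.2 _ (left_lt_sup.2 fun hle => hzM (hle (Subgroup.mem_zpowers z)))
        have hgen : ∀ y : ↥Q ⧸ M, ∃ i : ℤ, (QuotientGroup.mk z : ↥Q ⧸ M) ^ i = y := by
          intro y
          induction y using QuotientGroup.induction_on with | H a =>
          obtain ⟨k, hk, i, rfl⟩ := (H30.mem_sup_zpowers (by rw [Subgroup.normalizer_eq_top]; trivial)).1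
            (hsup ▸ Subgroup.mem_top a : a ∈ M ⊔ Subgroup.zpowers z)
          refine ⟨i, ?_⟩
          rw [QuotientGroup.mk_mul, (QuotientGroup.eq_one_iff k).2 hk, one_mul, QuotientGroup.mk_zpow]
        obtain ⟨i, hi⟩ := hgen (QuotientGroup.mk q)
        rw [← QuotientGroup.eq_one_iff, QuotientGroup.mk_pow, ← hi, ← zpow_natCast, ← zpow_mul,
          mul_comm, zpow_mul, zpow_natCast, ← QuotientGroup.mk_pow, (QuotientGroup.eq_one_iff _).2 hzp,
          one_zpow]
      rw [hfr] at hqp
      have := orderOf_dvd_natCard (⟨_, hqp⟩ : Subgroup.center ↥Q)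
      rw [hZ, orderOf_dvd_iff_pow_eq_one] at this
      rw [sq, pow_mul]
      exact congrArg Subtype.val this
    have := congrArg Subtype.val (hq ⟨_, hpow x⟩)
    simp only [Subgroup.coe_pow, Subgroup.coe_one] at this
    rw [← this, ← pow_mul]; ring_nf

end Cfsg.Agent.S3809
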