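import Cfsg.Statements.S3810
import Cfsg.Agent.H30.Extraspecial

set_option autoImplicit false
open Cfsg

namespace Cfsg.Agent.S3810

/-- Let S be a finite p-group with an extraspecial subgroup of index p. Then S has an abelian subgroup of index p if and only if S has order p⁴. -/
theorem result {S : Type*} [Group S] [Finite S] (p : ℕ) [Fact p.Prime] (hS : IsPGroup p S) (Q : Subgroup S) (hQ : Cfsg.IsExtraspecial p ↥Q) (hQi : Q.index = p) :
    (∃ A : Subgroup S, IsMulCommutative ↥A ∧ A.index = p) ↔ Nat.card S = p ^ 4 := by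
  have hp : p.Prime := Fact.out
  obtain ⟨n, hn, hcard⟩ := H30.extraspecial_card hQ
  have hScard : Nat.card S = p ^ (2 + 2 * n) := by
    rw [← Q.card_mul_index, hcard, hQi, ← pow_succ]; ring_nf
  constructor
  · rintro ⟨A, hA, hAi⟩
    have hB : IsMulCommutative (A.subgroupOf Q) := inferInstance
    have h1 := H30.extraspecial_center_map_le hB hQ
    have h2 : Nat.card Q ≤ p * Nat.card (A.subgroupOf Q) := by
      rw [← (A.subgroupOf Q).card_mul_index, mul_comm p]
      refine Nat.mul_le_mul_left _ ?_
      show A.relIndex Q ≤ p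
      refine le_trans (Subgroup.relIndex_le_of_le_right le_top ?_) ?_
      · rw [Subgroup.relIndex_top_right, hAi]; exact hp.ne_zero
      · rw [Subgroup.relIndex_top_right, hAi]
    have h3 : Nat.card Q * Nat.card Q ≤ Nat.card Q * p ^ 3 :=
      calc Nat.card Q * Nat.card Q ≤ (p * Nat.card (A.subgroupOf Q)) * (p * Nat.card (A.subgroupOf Q)) :=
            Nat.mul_le_mul h2 h2
        _ = p ^ 2 * Nat.card (A.subgroupOf Q) ^ 2 := by ring
        _ ≤ p ^ 2 * (Nat.card Q * p) := Nat.mul_le_mul_left _ h1
        _ = _ := by ring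
    have h4 := Nat.le_of_mul_le_mul_left h3 Nat.card_pos
    rw [hcard] at h4
    have h5 := (Nat.pow_le_pow_iff_right hp.one_lt).1 h4
    rw [hScard, show n = 1 by omega]
  · intro h4
    by_contra hcon
    push Not at hcon
    have := H30.card_le_pow_three hS fun A hAn hAc => ?_
    · rw [h4] at this
      exact absurd ((Nat.pow_le_pow_iff_right hp.one_lt).1 this) (by omega)
    obtain ⟨a, ha⟩ := IsPGroup.iff_card.1 (hS.to_subgroup A)
    rw [ha]
    refine Nat.pow_le_pow_right hp.pos ?_
    by_contra hgt
    have hd := A.card_subgroup_dvd_card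
    rw [ha, h4, Nat.pow_dvd_pow_iff_le_right hp.one_lt] at hd
    rcases (show a = 3 ∨ a = 4 by omega) with rfl | rfl
    · refine hcon A hAc ?_
      have := A.card_mul_index
      rw [ha, h4, pow_succ p 3] at this
      exact Nat.eq_of_mul_eq_mul_left (pow_pos hp.pos 3) this
    · have htop : A = ⊤ := Subgroup.eq_top_of_card_eq _ (ha.trans h4.symm)
      subst htop
      refine H30.extraspecial_not_isMulCommutative hQ ⟨⟨fun x y => Subtype.ext ?_⟩⟩
      have := congrArg Subtype.val
        (hAc.is_comm.comm (⟨x, trivial⟩ : (⊤ : Subgroup S)) ⟨y, trivial⟩)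
      simpa using this

end Cfsg.Agent.S3810
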