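import Cfsg.Statements.S3811
import Cfsg.Agent.H30.SoftSubgroup

set_option autoImplicit false
open Cfsg

namespace Cfsg.Agent.S3811

/-- Let P be a finite p-group and E an abelian subgroup of P that contains its centralizer, has index p in its normalizer, and has index at least p² in P. Then the subgroups of P containing E are totally ordered by inclusion, each proper one has index p in its normalizer (so they form the normalizer tower of E, with all steps of index p), and the i-th member of the tower above E has nilpotency class i + 1 whenever it is a proper subgroup of P. -/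
theorem result {P : Type*} [Group P] [Finite P] (p : ℕ) [Fact p.Prime] (hP : IsPGroup p P)
    (E : Subgroup P) (hEab : IsMulCommutative ↥E) (hC : Subgroup.centralizer (E : Set P) ≤ E)
    (hN : (E.subgroupOf (Subgroup.normalizer (E : Set P))).index = p) (hidx : p ^ 2 ≤ E.index) :
    (∀ K L : Subgroup P, E ≤ K → E ≤ L → K ≤ L ∨ L ≤ K) ∧
      (∀ K : Subgroup P, E ≤ K → K ≠ ⊤ → (K.subgroupOf (Subgroup.normalizer (K : Set P))).index = p) ∧
      ∀ (i : ℕ) (K : Subgroup P) [Group.IsNilpotent ↥K], E ≤ K → K ≠ ⊤ → K.index * p ^ i = E.index →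
        Group.nilpotencyClass ↥K = i + 1 := by
  have hN' := H30.card_normalizer_of_subgroupOf_index hN
  refine ⟨fun K L hK hL => H30.overgroups_chain hEab hC hN' hP hK hL, fun K hK hKt => ?_, ?_⟩
  · have h := H30.card_normalizer_overgroup hEab hC hN' hP K hK hKt
    have h1 := Subgroup.relIndex_mul_relIndex ⊥ K (Subgroup.normalizer (K : Set P)) bot_le Subgroup.le_normalizer
    rw [Subgroup.relIndex_bot_left, Subgroup.relIndex_bot_left, h, mul_comm p] at h1
    exact Nat.eq_of_mul_eq_mul_left Nat.card_pos h1
  · intro i K _ hK hKt hi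
    have hcard : Nat.card K = Nat.card E * p ^ i := by
      have h1 : Nat.card K * K.index = Nat.card E * p ^ i * K.index := by
        rw [K.card_mul_index, ← E.card_mul_index, ← hi]; ring
      exact Nat.eq_of_mul_eq_mul_right (Nat.pos_of_ne_zero Subgroup.index_ne_zero_of_finite) h1
    obtain ⟨h1, h2⟩ := H30.class_overgroup hEab hC hN' hP hK hKt hcard
    have e : ∀ t, (⊤ : Subgroup K).lowerCentralSeries t = ⊥ ↔ K.lowerCentralSeries t = ⊥ := fun t => by
      rw [← Subgroup.top_subtype_lowerCentralSeries K t, Subgroup.map_eq_bot_iff_of_injective _ K.subtype_injective]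
    rw [← e, Subgroup.lowerCentralSeries_eq_bot_iff_nilpotencyClass_le] at h1
    rw [Ne, ← e, Subgroup.lowerCentralSeries_eq_bot_iff_nilpotencyClass_le] at h2
    omega

end Cfsg.Agent.S3811
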