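import Cfsg.Statements.S3815
import Mathlib

set_option autoImplicit false
open Cfsg

namespace Cfsg.Agent.S3815

/-- Let G be a finite group, p a prime and d ∈ G an element of order prime to p. If dg has order prime to p for every element g ∈ G of order prime to p, then d ∈ O_{p'}(G). -/
theorem result {G : Type*} [Group G] [Finite G] {p : ℕ} [Fact p.Prime]
    (d : G) (hd : (orderOf d).Coprime p)
    (h : ∀ g : G, (orderOf g).Coprime p → (orderOf (d * g)).Coprime p) :
    d ∈ Cfsg.pPrimeCore p G := by
  let D : Set G := {d | ∀ g : G, (orderOf g).Coprime p → (orderOf (d * g)).Coprime p}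
  have hDd : d ∈ D := h
  have hDmul : ∀ a ∈ D, ∀ b ∈ D, a * b ∈ D := fun a ha b hb g hg => by
    rw [mul_assoc]; exact ha _ (hb g hg)
  let M : Submonoid G := { carrier := D, mul_mem' := fun {a b} ha hb => hDmul a ha b hb, one_mem' := fun g hg => by simpa using hg }
  have hinv : ∀ a ∈ D, a⁻¹ ∈ D := by
    intro a ha
    rw [← zpow_neg_one]
    have : a⁻¹ = a ^ (orderOf a - 1) := by
      rw [inv_eq_iff_mul_eq_one, ← pow_succ', Nat.sub_add_cancel (orderOf_pos a), pow_orderOf_eq_one]
    rw [zpow_neg_one, this]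
    exact M.pow_mem ha _
  let K : Subgroup G := { M with inv_mem' := fun {a} ha => hinv a ha }
  have hnorm : K.Normal := ⟨fun a ha c g hg => by
    have e1 : orderOf (c⁻¹ * g * c) = orderOf g := by
      have := (MulAut.conj c⁻¹).orderOf_eq g
      simpa using this
    have h1 := ha (c⁻¹ * g * c) (by rwa [e1])
    have e2 : orderOf (c * a * c⁻¹ * g) = orderOf (a * (c⁻¹ * g * c)) := by
      rw [← (MulAut.conj c).orderOf_eq (a * (c⁻¹ * g * c))]
      congr 1
      simp [mul_assoc]
    rwa [e2]⟩
  have hcard : (Nat.card K).Coprime p := by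
    rw [Nat.coprime_comm, (Fact.out : p.Prime).coprime_iff_not_dvd]
    intro hp
    obtain ⟨x, hx⟩ := exists_prime_orderOf_dvd_card' p hp
    have h1 := x.2 1 (by simp)
    rw [mul_one, Subgroup.orderOf_coe, hx, Nat.coprime_self] at h1
    exact (Fact.out : p.Prime).ne_one h1
  exact le_sSup (show K ∈ {N : Subgroup G | N.Normal ∧ (Nat.card N).Coprime p} from ⟨hnorm, hcard⟩) hDd

end Cfsg.Agent.S3815
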