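import Cfsg.Statements.S3816
import Cfsg.Agent.H29.CommutatorFixedMain

set_option autoImplicit false
open Cfsg

namespace Cfsg.Agent.S3816

/-- If a group of odd prime order p acts on a solvable p'-group H, then the fixed points in [H,P] are generated by the fixed points in the subgroups [h,P], h ∈ H. -/
theorem result {H : Type*} [Group H] [Finite H]
    [Group.IsSolvable H] {p : ℕ} [Fact p.Prime] (hp : p ≠ 2) (hcop : (Nat.card H).Coprime p)
    (x : MulAut H) (hx : orderOf x = p) :
    Subgroup.closure {c : H | ∃ h : H, ∃ i : ℕ, c = h⁻¹ * (x ^ i) h} ⊓ (x : H →* H).eqLocus (MonoidHom.id H) =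
      ⨆ h : H, Subgroup.closure {c : H | ∃ i : ℕ, c = h⁻¹ * (x ^ i) h} ⊓ (x : H →* H).eqLocus (MonoidHom.id H) := by
  have hp' : p.Prime := Fact.out
  refine le_antisymm ?_ (iSup_le fun h => inf_le_inf_right _
    (Subgroup.closure_mono fun c ⟨i, hi⟩ => ⟨h, i, hi⟩))
  have h3 : 3 ≤ p := by have := hp'.two_le; omega
  have h1 := H29.cgen_inf_fixG_le x (hx ▸ pow_orderOf_eq_one x) h3
    ((hp'.coprime_iff_not_dvd).mp hcop.symm)
  rw [H29.cgen_top_eq] at h1
  exact h1

end Cfsg.Agent.S3816
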