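import Cfsg.Statements.S3818
import Cfsg.Agent.H32.HalfFixReduce

set_option autoImplicit false
open Cfsg

namespace Cfsg.Agent.S3818

/-- Let G be a finite solvable group and P a subgroup of G of prime order p > 3 whose conjugates generate G. Let V be a faithful irreducible representation of G over a field of positive characteristic, finite-dimensional. Then the subspace of V fixed by P has dimension less than half the dimension of V. -/
theorem result {G : Type*} [Group G] [Finite G] [Group.IsSolvable G]
    {p : ℕ} [Fact p.Prime] (hp : 3 < p) (P : Subgroup G) (hP : Nat.card P = p) (hgen : Subgroup.normalClosure (P : Set G) = ⊤)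
    {k : Type*} [Field k] (ℓ : ℕ) [Fact ℓ.Prime] [CharP k ℓ]
    {V : Type*} [AddCommGroup V] [Module k V] [FiniteDimensional k V]
    (ρ : Representation k G V) [ρ.IsIrreducible] (hfaith : Function.Injective ρ) :
    2 * Module.finrank k ↥(⨅ g : ↥P, LinearMap.ker (ρ (g : G) - LinearMap.id)) < Module.finrank k V := by
  classical
  obtain ⟨⟨x, hxP⟩, hx1⟩ : ∃ x : P, x ≠ 1 := by
    haveI : Nontrivial P := Finite.one_lt_card_iff_nontrivial.mp (by omega)
    exact exists_ne 1
  have hx1' : x ≠ 1 := fun h => hx1 (Subtype.ext h)
  have hxp : x ^ p = 1 := by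
    have h : (⟨x, hxP⟩ : P) ^ Nat.card P = 1 := pow_card_eq_one'
    rw [hP] at h
    exact congrArg Subtype.val h
  have hPx : Subgroup.zpowers x = P := by
    refine Subgroup.eq_of_le_of_card_ge (Subgroup.zpowers_le.mpr hxP) ?_
    rw [hP, Nat.card_zpowers, orderOf_eq_prime hxp hx1']
  have hgen' : Subgroup.normalClosure {x} = ⊤ := by
    rw [← top_le_iff, ← hgen]
    refine Subgroup.normalClosure_le_normal ?_
    intro y hy
    have hy' : y ∈ Subgroup.zpowers x := by rw [hPx]; exact hy
    obtain ⟨i, rfl⟩ := hy'
    have hxn : x ∈ Subgroup.normalClosure ({x} : Set G) :=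
      Subgroup.subset_normalClosure (Set.mem_singleton x)
    exact Subgroup.zpow_mem _ hxn i
  haveI : Nontrivial V := by
    by_contra h
    rw [not_nontrivial_iff_subsingleton] at h
    exact hx1' (hfaith (LinearMap.ext fun v => Subsingleton.elim _ _))
  have hirr : H32.HalfFix.Irred (ρ : G →* Module.End k V) := by
    intro U hU
    rcases IsSimpleOrder.eq_bot_or_eq_top (⟨U, fun g v hv => hU g v hv⟩ : Subrepresentation ρ) with h | h
    · left; exact congrArg Subrepresentation.toSubmodule h
    · right; exact congrArg Subrepresentation.toSubmodule h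
  have h := H32.HalfFix.bound (G := G) ℓ (Fact.out : p.Prime) hp x hxp hx1' hgen' ρ hfaith hirr
  refine lt_of_le_of_lt (Nat.mul_le_mul_left _ (Submodule.finrank_mono ?_)) h
  exact iInf_le (fun g : P => LinearMap.ker (ρ (g : G) - LinearMap.id)) ⟨x, hxP⟩

end Cfsg.Agent.S3818
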