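import Cfsg.Statements.S3819
import Cfsg.Agent.H10.PSolvable
import Cfsg.Agent.H1.Cores
import Cfsg.Agent.H1.CoprimeAction
import Cfsg.Agent.H75.Large
import Cfsg.Agent.H84.PQLemma

set_option autoImplicit false
open Cfsg

namespace Cfsg.Agent.S3819

open scoped commutatorElement

universe w

variable {G : Type w} [Group G] [Finite G]

theorem core_map_bot (q : ℕ) (K W : Subgroup G) [W.Normal] [K.Normal]
    (hW : W = (Cfsg.pPrimeCore q ↥K).map K.subtype) :
    Cfsg.pPrimeCore q ↥(K.map (QuotientGroup.mk' W)) = ⊥ := by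
  haveI := H1.pPrimeCore_normal' q ↥K
  set f := (QuotientGroup.mk' W).subgroupMap K
  have hf : Function.Surjective f := MonoidHom.subgroupMap_surjective _ _
  have hker : f.ker = Cfsg.pPrimeCore q ↥K := by
    ext k
    rw [MonoidHom.mem_ker, Subtype.ext_iff]
    show ((k : G) : G ⧸ W) = 1 ↔ _
    rw [QuotientGroup.eq_one_iff]
    constructor
    · intro h
      obtain ⟨a, ha, hae⟩ := hW.le h
      exact (Subtype.ext hae : a = k) ▸ ha
    · intro h
      exact hW.ge ⟨k, h, rfl⟩
  let e := (QuotientGroup.quotientMulEquivOfEq hker.symm).trans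
    (QuotientGroup.quotientKerEquivOfSurjective f hf)
  rw [← H1.map_pPrimeCore_equiv q e, H1.pPrimeCore_quotient_pPrimeCore, Subgroup.map_bot]

/-- Let G be a finite group with Sylow p-subgroup P and H = O_{p'}(G), and suppose G = PH and the commutator subgroup [H, P] is solvable. Let q be a prime and z an element of q-power order of C_H(P). Then (O_{q'}(C_H(z)) ∩ O_{q'}(C_H(P))) · [O_{q'}(C_H(z)), P] ≤ O_{q'}(H). -/
theorem result {G : Type*} [Group G] [Finite G] {p : ℕ} [Fact p.Prime]
    (P : Sylow p G) (hPH : Cfsg.pPrimeCore p G ⊔ (P : Subgroup G) = ⊤)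
    (hsol : Group.IsSolvable ↥⁅Cfsg.pPrimeCore p G, (P : Subgroup G)⁆)
    {q : ℕ} [Fact q.Prime] (z : G) (hzH : z ∈ Cfsg.pPrimeCore p G) (hzP : z ∈ Subgroup.centralizer ((P : Subgroup G) : Set G))
    (hz : ∃ k : ℕ, orderOf z = q ^ k) :
    ((Cfsg.pPrimeCore q ↥(Cfsg.pPrimeCore p G ⊓ Subgroup.centralizer ({z} : Set G))).map
        (Cfsg.pPrimeCore p G ⊓ Subgroup.centralizer ({z} : Set G)).subtype ⊓
      (Cfsg.pPrimeCore q ↥(Cfsg.pPrimeCore p G ⊓ Subgroup.centralizer ((P : Subgroup G) : Set G))).map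
        (Cfsg.pPrimeCore p G ⊓ Subgroup.centralizer ((P : Subgroup G) : Set G)).subtype) ⊔
    ⁅(Cfsg.pPrimeCore q ↥(Cfsg.pPrimeCore p G ⊓ Subgroup.centralizer ({z} : Set G))).map
        (Cfsg.pPrimeCore p G ⊓ Subgroup.centralizer ({z} : Set G)).subtype, (P : Subgroup G)⁆ ≤
    (Cfsg.pPrimeCore q ↥(Cfsg.pPrimeCore p G)).map (Cfsg.pPrimeCore p G).subtype := by
  classical
  set H := Cfsg.pPrimeCore p G with hHdef
  haveI hHn : H.Normal := H1.pPrimeCore_normal' p G
  set Pg := (P : Subgroup G) with hPg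
  set K := ⁅H, Pg⁆ with hKdef
  haveI hKn : K.Normal := by
    rw [← Subgroup.normalizer_eq_top_iff, eq_top_iff, ← hPH]
    exact sup_le H1.left_le_normalizer_commutator H1.right_le_normalizer_commutator
  have hKH : K ≤ H := Subgroup.commutator_le_left H Pg
  haveI : Group.IsSolvable ↥K := hsol
  haveI := H1.pPrimeCore_normal' q ↥K
  set W := (Cfsg.pPrimeCore q ↥K).map K.subtype with hWdef
  haveI hWn : W.Normal := by
    haveI := H1.pPrimeCore_characteristic q ↥K
    exact H1.map_subtype_normal_of_characteristic K _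
  have hWK : W ≤ K := Subgroup.map_subtype_le _
  have hWcop : (Nat.card W).Coprime q := by
    rw [hWdef, Subgroup.card_subtype]; exact H1.card_pPrimeCore_coprime q ↥K
  have hleN : ∀ T : Subgroup G, T ≤ H → H ≤ Subgroup.normalizer (T : Set G) →
      (Nat.card T).Coprime q → T ≤ (Cfsg.pPrimeCore q ↥H).map H.subtype := by
    intro T hT hTn hTc
    haveI := (Subgroup.normal_subgroupOf_iff_le_normalizer hT).mpr hTn
    have h1 : T.subgroupOf H ≤ Cfsg.pPrimeCore q ↥H := H1.le_pPrimeCore (by
      rwa [Nat.card_congr (Subgroup.subgroupOfEquivOfLe hT).toEquiv])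
    calc T = (T.subgroupOf H).map H.subtype := (Subgroup.map_subgroupOf_eq_of_le hT).symm
      _ ≤ _ := Subgroup.map_mono h1
  have hWN : W ≤ (Cfsg.pPrimeCore q ↥H).map H.subtype :=
    hleN W (hWK.trans hKH) (by rw [Subgroup.normalizer_eq_top]; exact le_top) hWcop
  set CHz := H ⊓ Subgroup.centralizer ({z} : Set G) with hCHz
  set D := (Cfsg.pPrimeCore q ↥CHz).map CHz.subtype with hD
  set CHP := H ⊓ Subgroup.centralizer (Pg : Set G) with hCHP
  set E := (Cfsg.pPrimeCore q ↥CHP).map CHP.subtype with hE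
  have hcoreN : ∀ T : Subgroup G, ∀ t ∈ Subgroup.normalizer (T : Set G),
      ∀ d ∈ (Cfsg.pPrimeCore q ↥T).map T.subtype,
        t * d * t⁻¹ ∈ (Cfsg.pPrimeCore q ↥T).map T.subtype := by
    rintro T t ht _ ⟨d, hd, rfl⟩
    let φ := Subgroup.normalizerMonoidHom T ⟨t, ht⟩
    exact ⟨φ d, (H1.map_pPrimeCore_equiv q φ).le ⟨d, hd, rfl⟩, rfl⟩
  have hDcop : ∀ d ∈ D, (orderOf d).Coprime q := by
    rintro _ ⟨d, hd, rfl⟩
    refine (H1.card_pPrimeCore_coprime q ↥CHz).coprime_dvd_left ?_
    rw [orderOf_injective CHz.subtype CHz.subtype_injective]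
    exact Subgroup.orderOf_dvd_natCard _ hd
  have hDC : D ≤ CHz := Subgroup.map_subtype_le _
  set π := QuotientGroup.mk' W with hπ
  set Kb := K.map π with hKb
  haveI : Kb.Normal := hKn.map π (QuotientGroup.mk'_surjective W)
  haveI : Group.IsSolvable ↥Kb :=
    Group.isSolvable_of_surjective (MonoidHom.subgroupMap_surjective π K)
  set Q := (Cfsg.pCore q ↥Kb).map Kb.subtype with hQ
  haveI hQn : Q.Normal := by
    haveI := H1.pCore_characteristic q ↥Kb
    exact H1.map_subtype_normal_of_characteristic Kb _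
  have hQK : Q ≤ Kb := Subgroup.map_subtype_le _
  have hQp : IsPGroup q Q := (H1.isPGroup_pCore q ↥Kb).map _
  have hQc : ∀ k ∈ Kb, (∀ a ∈ Q, Commute k a) → k ∈ Q := by
    intro k hk hc
    have h := H10.centralizer_pCore_le (G := ↥Kb) (p := q) H10.isPSolvable_of_isSolvable
      (core_map_bot q K W hWdef) (show (⟨k, hk⟩ : Kb) ∈ Subgroup.centralizer _ from
        Subgroup.mem_centralizer_iff.mpr fun a ha =>
          Subtype.ext (hc a ⟨a, ha, rfl⟩).symm.eq)
    exact ⟨_, h, rfl⟩
  obtain ⟨e, he⟩ := hz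
  have hZB : IsPGroup q (Subgroup.zpowers (π z)) := by
    have : IsPGroup q (Subgroup.zpowers z) := IsPGroup.of_card (n := e) (by rw [Nat.card_zpowers, he])
    rw [← MonoidHom.map_zpowers]; exact this.map π
  have key : ∀ y ∈ D, ∀ a ∈ Q, Commute (π y) a := by
    intro y hy
    have hyC := hDC hy
    have hycz : Commute y z := Subgroup.mem_centralizer_singleton_iff.mp hyC.2
    refine H75.axb (p := q) hQp hZB (by rw [Subgroup.normalizer_eq_top]; exact le_top)
      ((hDcop y hy).coprime_dvd_left (orderOf_map_dvd π y))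
      (by rw [Subgroup.normalizer_eq_top]; trivial) ?_ ?_
    · rintro b ⟨i, rfl⟩
      exact ((hycz.map π).zpow_right i)
    · intro a ha haC
      obtain ⟨u, huK, rfl⟩ := hQK ha
      obtain ⟨c, hc, hcu⟩ := H1.exists_fixed_mem_coset (A := Subgroup.zpowers z) (N := W) (k := u)
        (by rw [Subgroup.normalizer_eq_top]; exact le_top)
        (by rw [Nat.card_zpowers, he]; exact hWcop.pow_right e)
        (Or.inr (Group.isSolvable_of_comm fun s t => mul_comm' s t))
        (by
          rintro b ⟨i, rfl⟩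
          refine (QuotientGroup.eq_one_iff _).mp ?_
          show π (u⁻¹ * (z ^ i * u * (z ^ i)⁻¹)) = 1
          have hcm : π u * π (z ^ i) = π (z ^ i) * π u := by
            rw [map_zpow]
            exact (Subgroup.mem_centralizer_iff.mp haC _ ⟨i, rfl⟩).symm
          rw [map_mul, map_mul, map_mul, map_inv, map_inv, ← hcm]
          group)
      have hπc : π c = π u := by
        have h1 : π (u⁻¹ * c) = 1 := (QuotientGroup.eq_one_iff _).mpr hcu
        rw [map_mul, map_inv, inv_mul_eq_one] at h1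
        exact h1.symm
      have hcK : c ∈ K := by simpa using mul_mem huK (hWK hcu)
      have hcC : c ∈ CHz := ⟨hKH hcK, Subgroup.mem_centralizer_singleton_iff.mpr
        (Subgroup.mem_centralizer_iff.mp hc z (Subgroup.mem_zpowers z)).symm⟩
      set w := y * c * y⁻¹ * c⁻¹ with hw
      have hwD : w ∈ D := by
        rw [hw, show y * c * y⁻¹ * c⁻¹ = y * (c * y⁻¹ * c⁻¹) by group]
        exact mul_mem hy (hcoreN CHz c (Subgroup.le_normalizer hcC) _ (inv_mem hy))
      have hwQ : π w ∈ Q := by
        rw [hw, map_mul, map_mul, map_mul, map_inv, map_inv, hπc]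
        exact mul_mem (hQn.conj_mem _ ha _) (inv_mem ha)
      have hw1 : π w = 1 := by
        obtain ⟨j, hj⟩ := hQp ⟨_, hwQ⟩
        rw [← orderOf_eq_one_iff]
        exact Nat.eq_one_of_dvd_coprimes ((hDcop w hwD).pow_right j) (orderOf_map_dvd π w)
          (orderOf_dvd_of_pow_eq_one (congrArg Subtype.val hj))
      rw [hw, map_mul, map_mul, map_mul, map_inv, map_inv, hπc, mul_inv_eq_one,
        mul_inv_eq_iff_eq_mul] at hw1
      exact hw1
  have hDK : D ⊓ K ≤ W := by
    rintro y ⟨hyD, hyK⟩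
    have hyQ := hQc (π y) (Subgroup.mem_map_of_mem π hyK) (key y hyD)
    obtain ⟨j, hj⟩ := hQp ⟨_, hyQ⟩
    refine (QuotientGroup.eq_one_iff y).mp ?_
    show π y = 1
    rw [← orderOf_eq_one_iff]
    exact Nat.eq_one_of_dvd_coprimes ((hDcop y hyD).pow_right j) (orderOf_map_dvd π y)
      (orderOf_dvd_of_pow_eq_one (congrArg Subtype.val hj))
  refine sup_le ?_ ?_
  · rintro y ⟨hyD, hyE⟩
    set C0 := (Subgroup.centralizer (Kb : Set (G ⧸ W))).comap π with hC0
    haveI : C0.Normal := Subgroup.Normal.comap inferInstance π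
    have hyC0 : y ∈ C0 := by
      rw [hC0, Subgroup.mem_comap, Subgroup.mem_centralizer_iff]
      intro k hk
      set c := π y * k * (π y)⁻¹ * k⁻¹ with hc
      have hcK : c ∈ Kb := mul_mem ((inferInstance : Kb.Normal).conj_mem k hk _) (inv_mem hk)
      have hcQ : c ∈ Q := by
        refine hQc c hcK fun a ha => ?_
        have hk1 : k⁻¹ * a * k ∈ Q := by simpa using hQn.conj_mem a ha k⁻¹
        have h1 : π y * a = a * π y := key y hyD a ha
        have h2 : π y * (k⁻¹ * a * k) = (k⁻¹ * a * k) * π y := key y hyD _ hk1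
        show c * a = a * c
        rw [hc]
        calc π y * k * (π y)⁻¹ * k⁻¹ * a
            = π y * k * (π y)⁻¹ * ((k⁻¹ * a * k) * π y) * (π y)⁻¹ * k⁻¹ := by group
          _ = π y * k * (π y)⁻¹ * (π y * (k⁻¹ * a * k)) * (π y)⁻¹ * k⁻¹ := by rw [h2]
          _ = (π y * a) * (k * (π y)⁻¹ * k⁻¹) := by group
          _ = (a * π y) * (k * (π y)⁻¹ * k⁻¹) := by rw [h1]
          _ = a * (π y * k * (π y)⁻¹ * k⁻¹) := by group
      have hyc : π y * c = c * π y := key y hyD c hcQ
      have hc1 : c = 1 := by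
        refine H84.commute_of_conj_eq_mul (q := π y) (x := k) hyc (by rw [hc]; group)
          (m := q ^ Classical.choose (hQp ⟨c, hcQ⟩))
          (congrArg Subtype.val (Classical.choose_spec (hQp ⟨c, hcQ⟩)))
          (n := orderOf y) (by rw [← map_pow, pow_orderOf_eq_one, map_one])
          ((hDcop y hyD).symm.pow_left _)
      rw [hc, mul_inv_eq_one, mul_inv_eq_iff_eq_mul] at hc1
      exact hc1.symm
    set T := W ⊔ (E ⊓ C0) with hT
    have hEH : E ≤ H := (Subgroup.map_subtype_le _).trans inf_le_left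
    have hTH : T ≤ H := sup_le (hWK.trans hKH) (inf_le_left.trans hEH)
    have hHK : H ≤ K ⊔ CHP := by
      refine (H1.commutator_sup_centralizer_eq (A := Pg) (K := H)
        (by rw [Subgroup.normalizer_eq_top]; exact le_top) ?_ ?_).ge
      · obtain ⟨n, hn⟩ := P.isPGroup'.exists_card_eq
        rw [hn]
        exact (H10.pPrimeCore_coprime (G := G) (p := p)).symm.pow_left n
      · left
        haveI := P.isPGroup'.isNilpotent
        infer_instance
    have hTn : H ≤ Subgroup.normalizer (T : Set G) := by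
      refine hHK.trans (sup_le ?_ ?_)
      · refine H84.le_normalizer_of_conj fun k hk t ht => ?_
        suffices T ≤ T.comap (MulAut.conj k).toMonoidHom from this ht
        refine sup_le (fun x hx => Subgroup.mem_sup_left (hWn.conj_mem x hx k)) fun x hx => ?_
        show k * x * k⁻¹ ∈ T
        have hcx : π k * π x = π x * π k :=
          Subgroup.mem_centralizer_iff.mp hx.2 _ (Subgroup.mem_map_of_mem π hk)
        have hW' : x⁻¹ * (k * x * k⁻¹) ∈ W := by
          refine (QuotientGroup.eq_one_iff _).mp ?_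
          show π (x⁻¹ * (k * x * k⁻¹)) = 1
          rw [map_mul, map_mul, map_mul, map_inv, map_inv, hcx]
          group
        rw [show k * x * k⁻¹ = x * (x⁻¹ * (k * x * k⁻¹)) by group]
        exact mul_mem (Subgroup.mem_sup_right hx) (Subgroup.mem_sup_left hW')
      · refine H84.le_normalizer_of_conj fun k hk t ht => ?_
        suffices T ≤ T.comap (MulAut.conj k).toMonoidHom from this ht
        refine sup_le (fun x hx => Subgroup.mem_sup_left (hWn.conj_mem x hx k)) fun x hx => ?_
        exact Subgroup.mem_sup_right ⟨hcoreN CHP k (Subgroup.le_normalizer hk) x hx.1,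
          (inferInstance : C0.Normal).conj_mem x hx.2 k⟩
    have hTcop : (Nat.card T).Coprime q := by
      have hEc : (Nat.card E).Coprime q := by
        rw [hE, Subgroup.card_subtype]; exact H1.card_pPrimeCore_coprime q ↥CHP
      refine Nat.Coprime.coprime_dvd_left ?_ (Nat.Coprime.mul_left
        (hEc.coprime_dvd_left (Subgroup.card_dvd_of_le (inf_le_left : E ⊓ C0 ≤ E))) hWcop)
      rw [hT, sup_comm]
      exact H1.card_sup_dvd_mul (E ⊓ C0) W
    exact hleN T hTH hTn hTcop (Subgroup.mem_sup_right ⟨hyE, hyC0⟩)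
  · refine le_trans ?_ hWN
    refine le_trans (le_inf ?_ ?_) hDK
    · rw [Subgroup.commutator_le]
      intro d hd a ha
      have haN : a ∈ Subgroup.normalizer (CHz : Set G) := by
        refine (H84.le_normalizer_of_conj (A := Pg) fun b hb x hx => ?_) ha
        refine ⟨hHn.conj_mem x hx.1 b, Subgroup.mem_centralizer_singleton_iff.mpr ?_⟩
        have hbz : Commute b z := Subgroup.mem_centralizer_iff.mp hzP b hb
        have hxz : Commute x z := Subgroup.mem_centralizer_singleton_iff.mp hx.2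
        exact ((hbz.mul_left hxz).mul_left hbz.inv_left).eq
      rw [commutatorElement_def, show d * a * d⁻¹ * a⁻¹ = d * (a * d⁻¹ * a⁻¹) by group]
      exact mul_mem hd (hcoreN CHz a haN _ (inv_mem hd))
    · exact Subgroup.commutator_mono (hDC.trans inf_le_left) le_rfl

end Cfsg.Agent.S3819
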