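import Cfsg.Statements.S3820
import Mathlib

set_option autoImplicit false
open Cfsg

namespace Cfsg.Agent.S3820

/-- Call a subgroup H of G pronormal if H and gHg⁻¹ are conjugate inside ⟨H, gHg⁻¹⟩ for every g ∈ G. Let S ≤ H ≤ G be subgroups of a finite group with S pronormal in G (for instance S a Sylow subgroup). Then H is pronormal in G if and only if H and gHg⁻¹ are conjugate inside ⟨H, gHg⁻¹⟩ for every g ∈ N_G(S). In particular H is pronormal whenever N_G(S) ≤ H. -/
theorem result {G : Type*} [Group G] [Finite G] (S H : Subgroup G) (hSH : S ≤ H)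
    (hS : Cfsg.IsPronormal S) :
    Cfsg.IsPronormal H ↔
      ∀ g ∈ Subgroup.normalizer (S : Set G), ∃ w ∈ H ⊔ H.map (MulAut.conj g).toMonoidHom,
        H.map (MulAut.conj g).toMonoidHom = H.map (MulAut.conj w).toMonoidHom := by
  constructor
  · intro hH g _; exact hH g
  · intro hN g
    obtain ⟨x, hx, hxS⟩ := hS g
    have hJ : S ⊔ S.map (MulAut.conj g).toMonoidHom ≤ H ⊔ H.map (MulAut.conj g).toMonoidHom :=
      sup_le_sup hSH (Subgroup.map_mono hSH)
    have hxJ := hJ hx
    set J := H ⊔ H.map (MulAut.conj g).toMonoidHom with hJdef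
    have comp : ∀ (a b : G) (L : Subgroup G), (L.map (MulAut.conj b).toMonoidHom).map (MulAut.conj a).toMonoidHom = L.map (MulAut.conj (a * b)).toMonoidHom := by
      intro a b L
      rw [Subgroup.map_map]; congr 1; ext y; simp
    have hn : x⁻¹ * g ∈ Subgroup.normalizer (S : Set G) := by
      have h1 : S.map (MulAut.conj (x⁻¹ * g)).toMonoidHom = S := by
        rw [← comp, hxS, comp, inv_mul_cancel]
        ext y; simp
      rw [Subgroup.mem_normalizer_iff]
      intro y
      constructor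
      · intro hy
        exact h1 ▸ (⟨y, hy, rfl⟩ : (x⁻¹ * g) * y * (x⁻¹ * g)⁻¹ ∈ S.map (MulAut.conj (x⁻¹ * g)).toMonoidHom)
      · intro hy
        have hy' : (MulAut.conj (x⁻¹ * g)).toMonoidHom y ∈ S.map (MulAut.conj (x⁻¹ * g)).toMonoidHom := by rw [h1]; exact hy
        exact (Subgroup.mem_map_iff_mem (MulAut.conj (x⁻¹ * g)).injective).1 hy'
    obtain ⟨w, hw, hwe⟩ := hN _ hn
    have hw' : w ∈ J := by
      refine (sup_le le_sup_left ?_ : _ ≤ J) hw
      rw [← comp, Subgroup.map_le_iff_le_comap]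
      intro y hy
      have hy' : y ∈ J := le_sup_right (a := H) hy
      show x⁻¹ * y * (x⁻¹)⁻¹ ∈ J
      exact J.mul_mem (J.mul_mem (J.inv_mem hxJ) hy') (J.inv_mem (J.inv_mem hxJ))
    refine ⟨x * w, J.mul_mem hxJ hw', ?_⟩
    rw [← comp, ← hwe, comp, mul_inv_cancel_left]

end Cfsg.Agent.S3820
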