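import Cfsg.Statements.S3821
import Mathlib

set_option autoImplicit false
open Cfsg

namespace Cfsg.Agent.S3821

/-- Let A be a normal subgroup of the finite group G and H a subgroup of A. Then H is pronormal in G (H and gHg⁻¹ conjugate inside ⟨H, gHg⁻¹⟩ for every g ∈ G) if and only if H is pronormal in A and G = A · N_G(H). -/
theorem result {G : Type*} [Group G] [Finite G] (A H : Subgroup G) [A.Normal] (hHA : H ≤ A) :
    Cfsg.IsPronormal H ↔ (Cfsg.IsPronormal (H.subgroupOf A) ∧ A ⊔ Subgroup.normalizer (H : Set G) = ⊤) := by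
  have conv : ∀ (a : A) , H.map (MulAut.conj (a:G)).toMonoidHom = ((H.subgroupOf A).map (MulAut.conj a).toMonoidHom).map A.subtype := by
    intro a
    rw [Subgroup.map_map]
    conv_lhs => rw [← Subgroup.map_subgroupOf_eq_of_le hHA, Subgroup.map_map]
    congr 1
  have hsup : ∀ (a : A), H ⊔ H.map (MulAut.conj (a:G)).toMonoidHom = ((H.subgroupOf A) ⊔ (H.subgroupOf A).map (MulAut.conj a).toMonoidHom).map A.subtype := by
    intro a
    rw [Subgroup.map_sup, ← conv, Subgroup.map_subgroupOf_eq_of_le hHA]
  have inj : Function.Injective (Subgroup.map A.subtype) := Subgroup.map_injective A.subtype_injective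
  have comp : ∀ (a b : G) (L : Subgroup G), (L.map (MulAut.conj b).toMonoidHom).map (MulAut.conj a).toMonoidHom = L.map (MulAut.conj (a * b)).toMonoidHom := by
    intro a b L
    rw [Subgroup.map_map]; congr 1; ext y; simp
  have hnorm : ∀ n : G, n ∈ Subgroup.normalizer (H : Set G) ↔ H.map (MulAut.conj n).toMonoidHom = H := by
    intro n
    constructor
    · intro hn
      ext y
      rw [Subgroup.mem_map_equiv]
      have := (Subgroup.mem_normalizer_iff.1 hn (n⁻¹ * y * n))
      simp [mul_assoc] at this
      simpa [mul_assoc] using this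
    · intro h1
      rw [Subgroup.mem_normalizer_iff]
      intro y
      conv_rhs => rw [← h1, Subgroup.mem_map_equiv]
      simp [SetLike.mem_coe, mul_assoc]
  constructor
  · intro hH
    constructor
    · intro a
      obtain ⟨x, hx, hxe⟩ := hH (a : G)
      rw [hsup] at hx
      obtain ⟨x', hx', rfl⟩ := Subgroup.mem_map.1 hx
      refine ⟨x', hx', inj ?_⟩
      show Subgroup.map A.subtype _ = Subgroup.map A.subtype _
      rw [← conv, ← conv]
      exact hxe
    · rw [eq_top_iff]
      intro g _
      obtain ⟨x, hx, hxe⟩ := hH g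
      have hxA : x ∈ A := by
        refine (sup_le hHA ?_ : _ ≤ A) hx
        rw [Subgroup.map_le_iff_le_comap]
        intro y hy
        exact Subgroup.Normal.conj_mem inferInstance y (hHA hy) g
      have hn : x⁻¹ * g ∈ Subgroup.normalizer (H : Set G) := by
        rw [hnorm, ← comp, hxe, comp, inv_mul_cancel]; ext y; simp
      have := Subgroup.mul_mem_sup hxA hn
      rwa [mul_inv_cancel_left] at this
  · rintro ⟨hA, htop⟩ g
    have hg : g ∈ A ⊔ Subgroup.normalizer (H : Set G) := htop ▸ Subgroup.mem_top g
    obtain ⟨a, ha, n, hn, rfl⟩ := Subgroup.mem_sup_of_normal_left.1 hg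
    rw [← comp, (hnorm n).1 hn]
    obtain ⟨x, hx, hxe⟩ := hA ⟨a, ha⟩
    refine ⟨(x : G), ?_, ?_⟩
    · have := hsup ⟨a, ha⟩
      simp only at this
      rw [this]
      exact Subgroup.mem_map_of_mem _ hx
    · rw [show a = ((⟨a, ha⟩ : A) : G) from rfl, conv, conv, hxe]

end Cfsg.Agent.S3821
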