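import Cfsg.Statements.S3822
import Cfsg.Agent.H32.MaxPairComplement
import Cfsg.Agent.H1.Fitting
import Cfsg.Agent.H1.SchurZassenhausConj
import Cfsg.Agent.H1.CoprimeAction
import Cfsg.Agent.H10.PStability
import Cfsg.Agent.H6.Basic
import Cfsg.Agent.H84.PQLemma

set_option autoImplicit false
open Cfsg

namespace Cfsg.Agent.S3822

open scoped commutatorElement

universe w

theorem isSolvable_sup {G : Type w} [Group G] {V A : Subgroup G} (hV : Group.IsSolvable V)
    (hA : Group.IsSolvable A) (hAV : A ≤ Subgroup.normalizer (V : Set G)) :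
    Group.IsSolvable ↥(V ⊔ A) := by
  haveI : (V.subgroupOf (V ⊔ A)).Normal :=
    (Subgroup.normal_subgroupOf_iff_le_normalizer le_sup_left).mpr
      (sup_le Subgroup.le_normalizer hAV)
  refine (Group.isSolvable_iff_subgroup_quotient (V.subgroupOf (V ⊔ A))).mpr ⟨?_, ?_⟩
  · haveI := hV
    exact Group.isSolvable_of_isSolvable_injective
      (f := (Subgroup.subgroupOfEquivOfLe (le_sup_left : V ≤ V ⊔ A)).toMonoidHom)
      (Subgroup.subgroupOfEquivOfLe _).injective
  · haveI := hA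
    refine Group.isSolvable_of_surjective
      (f := (QuotientGroup.mk' (V.subgroupOf (V ⊔ A))).comp (Subgroup.inclusion le_sup_right)) ?_
    intro z
    obtain ⟨⟨g, hg⟩, rfl⟩ := QuotientGroup.mk'_surjective _ z
    obtain ⟨u, hu, a, ha, rfl⟩ := H1.exists_mul_of_mem_sup hAV hg
    refine ⟨⟨a, ha⟩, QuotientGroup.eq.mpr (Subgroup.mem_subgroupOf.mpr ?_)⟩
    show a⁻¹ * (u * a) ∈ V
    have := (Subgroup.mem_normalizer_iff.mp (hAV (inv_mem ha)) u).mp hu
    simpa [mul_assoc] using this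

theorem key {G : Type w} [Group G] [Finite G] {p : ℕ} [Fact p.Prime] (hp : 3 < p) (P : Subgroup G)
    (hP : Nat.card P = p) (A : Subgroup G) (hA : Group.IsSolvable ↥A)
    (hAgen : ∃ a ∈ A, A = P ⊔ P.map (MulAut.conj a).toMonoidHom)
    (hmax : ∀ B : Subgroup G, A ≤ B → Group.IsSolvable ↥B →
      (∃ b ∈ B, B = P ⊔ P.map (MulAut.conj b).toMonoidHom) → B = A)
    {q r : ℕ} [Fact q.Prime] [Fact r.Prime] (hrq : r ≠ q) :
    ∀ V : Subgroup G, IsPGroup q V → A ≤ Subgroup.normalizer (V : Set G) →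
      (Cfsg.pCore r ↥A).map A.subtype ≤ Subgroup.centralizer (V : Set G) := by
  classical
  intro V
  induction V using WellFoundedLT.induction with
  | _ V ih =>
  intro hVq hAV
  set F := (Cfsg.pCore r ↥A).map A.subtype with hF
  by_contra hcon
  have hFA : F ≤ A := Subgroup.map_subtype_le _
  have hFr : IsPGroup r F := (H1.isPGroup_pCore r ↥A).map _
  have hAF : A ≤ Subgroup.normalizer (F : Set G) := by
    refine (Subgroup.normal_subgroupOf_iff_le_normalizer hFA).mp ?_
    rw [hF, Subgroup.subgroupOf, Subgroup.comap_map_eq_self_of_injective A.subtype_injective]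
    exact H1.pCore_normal' r ↥A
  have hFV : F ≤ Subgroup.normalizer (V : Set G) := hFA.trans hAV
  obtain ⟨kq, hkq⟩ := hVq.exists_card_eq
  obtain ⟨kr, hkr⟩ := hFr.exists_card_eq
  have hcop : (Nat.card F).Coprime (Nat.card V) := by
    rw [hkq, hkr]
    exact Nat.Coprime.pow _ _ ((Nat.coprime_primes Fact.out Fact.out).mpr hrq)
  haveI hVn' := hVq.isNilpotent
  have hVsol : Group.IsSolvable V := inferInstance
  have hlt : ∀ V₀, V₀ < V → A ≤ Subgroup.normalizer (V₀ : Set G) → ⁅V₀, F⁆ = ⊥ := by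
    intro V₀ h hn
    rw [Subgroup.commutator_eq_bot_iff_le_centralizer, Subgroup.le_centralizer_iff]
    exact ih V₀ h (hVq.to_le h.le) hn
  have hD : ⁅V, F⁆ = V := by
    by_contra hne
    refine hcon (H1.le_centralizer_of_commutator_le hFV hcop (Or.inr hVsol) le_rfl
      (hlt _ (lt_of_le_of_ne (H1.commutator_le_left_of_le_normalizer hFV) hne) ?_))
    refine H84.le_normalizer_of_conj fun c hc z hz => ?_
    suffices ⁅V, F⁆ ≤ ⁅V, F⁆.comap (MulAut.conj c).toMonoidHom from this hz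
    rw [Subgroup.commutator_le]
    intro v hv f hf
    show c * ⁅v, f⁆ * c⁻¹ ∈ ⁅V, F⁆
    rw [conjugate_commutatorElement]
    exact Subgroup.commutator_mem_commutator ((Subgroup.mem_normalizer_iff.mp (hAV hc) v).mp hv)
      ((Subgroup.mem_normalizer_iff.mp (hAF hc) f).mp hf)
  have hVA : ¬ V ≤ A := by
    intro hVA
    apply hcon
    intro f hf
    rw [Subgroup.mem_centralizer_iff]
    intro v hv
    have hc : ⁅v, f⁆ ∈ V ⊓ F :=
      ⟨H1.commutator_le_left_of_le_normalizer hFV (Subgroup.commutator_mem_commutator hv hf), by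
        rw [commutatorElement_def]
        exact F.mul_mem ((Subgroup.mem_normalizer_iff.mp (hAF (hVA hv)) f).mp hf) (F.inv_mem hf)⟩
    have hbot : V ⊓ F = ⊥ := disjoint_iff.mp (IsPGroup.disjoint_of_ne q r hrq.symm _ _ hVq hFr)
    rw [hbot, Subgroup.mem_bot, commutatorElement_eq_one_iff_commute] at hc
    exact hc.eq
  set H := V ⊔ A with hH
  have hVH : V ≤ H := le_sup_left
  have hAH : A ≤ H := le_sup_right
  haveI hHsol : Group.IsSolvable H := isSolvable_sup hVsol hA hAV
  set V1 := V.subgroupOf H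
  haveI hV1n : V1.Normal := (Subgroup.normal_subgroupOf_iff_le_normalizer hVH).mpr
    (sup_le Subgroup.le_normalizer hAV)
  set Φ := (frattini ↥V1).map V1.subtype with hΦ
  haveI hΦn : Φ.Normal := H10.map_frattini_subtype_normal hV1n
  set π := QuotientGroup.mk' Φ with hπ
  have hπs : Function.Surjective π := QuotientGroup.mk'_surjective Φ
  haveI : Group.IsSolvable (↥H ⧸ Φ) := Group.isSolvable_of_surjective hπs
  set W := V1.map π with hW
  haveI hWn : W.Normal := hV1n.map π hπs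
  have hV1q : IsPGroup q V1 := hVq.of_equiv (Subgroup.subgroupOfEquivOfLe hVH).symm
  have hΦle : Φ ≤ V1 := Subgroup.map_subtype_le _
  have hfr : ∀ K : Subgroup ↥H, K ≤ V1 → V1 ≤ K ⊔ Φ → V1 ≤ K := by
    intro K hK h
    have h1 : K.subgroupOf V1 ⊔ frattini ↥V1 = ⊤ := by
      apply Subgroup.map_injective V1.subtype_injective
      rw [Subgroup.map_sup, Subgroup.map_subgroupOf_eq_of_le hK, ← hΦ,
        ← MonoidHom.range_eq_map, Subgroup.range_subtype]
      exact le_antisymm (sup_le hK hΦle) h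
    exact Subgroup.subgroupOf_eq_top.mp (frattini_nongenerating h1)
  have hWexp : ∀ w ∈ W, w ^ q = 1 := by
    rintro _ ⟨v, hv, rfl⟩
    rw [← map_pow]
    exact (QuotientGroup.eq_one_iff _).mpr ⟨_, H6.pow_prime_mem_frattini hV1q ⟨v, hv⟩, rfl⟩
  haveI : IsMulCommutative W := ⟨⟨by
    rintro ⟨_, u, hu, rfl⟩ ⟨_, v, hv, rfl⟩
    refine Subtype.ext ?_
    show π u * π v = π v * π u
    have h1 : π ⁅u, v⁆ = 1 := (QuotientGroup.eq_one_iff _).mpr
      ⟨⁅(⟨u, hu⟩ : V1), ⟨v, hv⟩⁆, H6.commutator_le_frattini hV1q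
        (Subgroup.commutator_mem_commutator (Subgroup.mem_top _) (Subgroup.mem_top _)), rfl⟩
    rw [map_commutatorElement, commutatorElement_eq_one_iff_commute] at h1
    exact h1.eq⟩⟩
  set Ab := (A.subgroupOf H).map π with hAb
  set Fb := (F.subgroupOf H).map π with hFb
  have hnorm : ∀ (T : Subgroup ↥H), A.subgroupOf H ≤ Subgroup.normalizer (T : Set ↥H) →
      A ≤ Subgroup.normalizer ((T.map H.subtype : Subgroup G) : Set G) := fun T hT => by
    refine le_of_eq_of_le (Subgroup.map_subgroupOf_eq_of_le hAH).symm ?_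
    exact H84.le_normalizer_map H.subtype hT
  -- invariant subgroups of `W` other than `W` come from proper invariant subgroups of `V`
  have hproper : ∀ U : Subgroup (↥H ⧸ Φ), U ≤ W → Ab ≤ Subgroup.normalizer (U : Set (↥H ⧸ Φ)) →
      U = W ∨ ∀ u ∈ U, ∀ f ∈ Fb, f * u * f⁻¹ = u := by
    intro U hUW hUn
    set V₀ := U.comap π ⊓ V1 with hV₀
    by_cases h : V₀ = V1
    · left
      refine le_antisymm hUW ?_
      rw [hW, Subgroup.map_le_iff_le_comap]
      exact h.ge.trans inf_le_left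
    · right
      have hn : A.subgroupOf H ≤ Subgroup.normalizer (V₀ : Set ↥H) := by
        refine H84.le_normalizer_of_conj fun c hc z hz => ⟨?_, hV1n.conj_mem z hz.2 c⟩
        show π (c * z * c⁻¹) ∈ U
        rw [map_mul, map_mul, map_inv]
        exact (Subgroup.mem_normalizer_iff.mp (hUn (Subgroup.mem_map_of_mem π hc)) _).mp hz.1
      have hlt' : V₀.map H.subtype < V := by
        rw [← Subgroup.map_subgroupOf_eq_of_le hVH]
        exact (Subgroup.map_lt_map_iff_of_injective H.subtype_injective).mpr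
          (lt_of_le_of_ne inf_le_right h)
      have hc := hlt _ hlt' (hnorm V₀ hn)
      rintro u hu _ ⟨f, hf, rfl⟩
      obtain ⟨v, hv, rfl⟩ := hUW hu
      rw [← map_inv, ← map_mul, ← map_mul]
      congr 1
      refine Subtype.ext ?_
      show (f : G) * v * (f : G)⁻¹ = v
      have h1 : ⁅(v : G), (f : G)⁆ = 1 := by
        rw [← Subgroup.mem_bot, ← hc]
        exact Subgroup.commutator_mem_commutator ⟨v, ⟨hu, hv⟩, rfl⟩ (Subgroup.mem_subgroupOf.mp hf)
      rw [commutatorElement_eq_one_iff_commute] at h1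
      rw [← h1.eq, mul_inv_cancel_right]
  have hWne : W ≠ ⊥ := by
    intro h
    have h1 : V1 ≤ ⊥ ⊔ Φ := by
      rw [bot_sup_eq]
      intro v hv
      exact (QuotientGroup.eq_one_iff v).mp (Subgroup.mem_bot.mp (h ▸ Subgroup.mem_map_of_mem π hv))
    have h2 : V1 = ⊥ := le_bot_iff.mp (hfr ⊥ bot_le h1)
    apply hVA
    intro v hv
    have h3 : (⟨v, hVH hv⟩ : ↥H) ∈ (⊥ : Subgroup ↥H) := h2 ▸ Subgroup.mem_subgroupOf.mpr hv
    rw [show v = 1 from congrArg Subtype.val (Subgroup.mem_bot.mp h3)]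
    exact one_mem A
  have hFbr : IsPGroup r Fb := (hFr.of_equiv (Subgroup.subgroupOfEquivOfLe (hFA.trans hAH)).symm).map π
  have hFAb : Fb ≤ Ab := Subgroup.map_mono (Subgroup.comap_mono hFA)
  have hAFb : Ab ≤ Subgroup.normalizer (Fb : Set (↥H ⧸ Φ)) := by
    refine H84.le_normalizer_map π (H84.le_normalizer_of_conj fun c hc f hf => ?_)
    exact Subgroup.mem_subgroupOf.mpr ((Subgroup.mem_normalizer_iff.mp
      (hAF (Subgroup.mem_subgroupOf.mp hc)) _).mp (Subgroup.mem_subgroupOf.mp hf))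
  have hWcomm : W ≤ ⁅W, Fb⁆ := by
    rw [hW, hFb, ← Subgroup.map_commutator]
    refine Subgroup.map_mono ((Subgroup.map_le_map_iff_of_injective H.subtype_injective).mp ?_)
    rw [Subgroup.map_commutator, Subgroup.map_subgroupOf_eq_of_le hVH,
      Subgroup.map_subgroupOf_eq_of_le (hFA.trans hAH), hD]
  have hWF : ∀ w ∈ W, (∀ f ∈ Fb, f * w * f⁻¹ = w) → w = 1 := by
    intro w hw hfix
    refine H32.MaxPair.eq_one_of_fixed (Fact.out : q.Prime) hWexp ?_ hWcomm hw hfix
    obtain ⟨k, hk⟩ := hFbr.exists_card_eq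
    rw [hk]
    exact ((Nat.coprime_primes Fact.out Fact.out).mpr hrq).pow_left k
  have hirr : ∀ U : Subgroup (↥H ⧸ Φ), U ≤ W → Ab ≤ Subgroup.normalizer (U : Set (↥H ⧸ Φ)) →
      U = ⊥ ∨ U = W := by
    intro U hUW hUn
    rcases hproper U hUW hUn with h | h
    · exact Or.inr h
    · exact Or.inl (eq_bot_iff.mpr fun u hu => Subgroup.mem_bot.mpr (hWF u (hUW hu) (h u hu)))
  have hWAb : W ⊓ Ab = ⊥ := by
    refine (hirr _ inf_le_left ?_).resolve_right fun h => hVA ?_
    · refine H84.le_normalizer_of_conj fun c hc z hz => ?_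
      exact ⟨hWn.conj_mem z hz.1 c, Ab.mul_mem (Ab.mul_mem hc hz.2) (Ab.inv_mem hc)⟩
    · have h1 : V1 ≤ (V1 ⊓ A.subgroupOf H) ⊔ Φ := by
        intro v hv
        obtain ⟨a, ha, he⟩ := (inf_eq_left.mp h) (Subgroup.mem_map_of_mem π hv)
        have hmem : a⁻¹ * v ∈ Φ := QuotientGroup.eq.mp he
        have haV : a ∈ V1 := by
          rw [show a = v * (a⁻¹ * v)⁻¹ by group]
          exact mul_mem hv (inv_mem (hΦle hmem))
        rw [show v = a * (a⁻¹ * v) by group]
        exact mul_mem (Subgroup.mem_sup_left ⟨haV, ha⟩) (Subgroup.mem_sup_right hmem)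
      intro v hv
      exact Subgroup.mem_subgroupOf.mp
        ((hfr _ inf_le_left h1) (Subgroup.mem_subgroupOf.mpr hv : (⟨v, hVH hv⟩ : ↥H) ∈ V1)).2
  have htop : W ⊔ Ab = ⊤ := by
    rw [hW, hAb, ← Subgroup.map_sup, ← Subgroup.subgroupOf_sup hVH hAH, ← hH,
      Subgroup.subgroupOf_self, Subgroup.map_top_of_surjective _ hπs]
  obtain ⟨⟨x, hxP⟩, hx1⟩ : ∃ x : P, x ≠ 1 := by
    haveI : Nontrivial P := Finite.one_lt_card_iff_nontrivial.mp (by omega)
    exact exists_ne 1
  have hx1' : x ≠ 1 := fun h => hx1 (Subtype.ext h)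
  have hxp : x ^ p = 1 := by
    have h : (⟨x, hxP⟩ : P) ^ Nat.card P = 1 := pow_card_eq_one'
    rw [hP] at h
    exact congrArg Subtype.val h
  have hPx : Subgroup.zpowers x = P := by
    refine Subgroup.eq_of_le_of_card_ge (Subgroup.zpowers_le.mpr hxP) ?_
    rw [hP, Nat.card_zpowers, orderOf_eq_prime hxp hx1']
  have hpair : ∀ g : G, P ⊔ P.map (MulAut.conj g).toMonoidHom =
      Subgroup.closure {x, g * x * g⁻¹} := by
    intro g
    rw [← hPx, MonoidHom.map_zpowers, Subgroup.zpowers_eq_closure, Subgroup.zpowers_eq_closure,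
      ← Subgroup.closure_union, Set.singleton_union]
    rfl
  obtain ⟨a, haA, hAeq⟩ := hAgen
  have hxA : x ∈ A := by
    rw [hAeq]; exact Subgroup.mem_sup_left hxP
  set xH : ↥H := ⟨x, hAH hxA⟩
  set aH : ↥H := ⟨a, hAH haA⟩
  have hgen : Ab ≤ Subgroup.closure {π xH, π aH * π xH * (π aH)⁻¹} := by
    have h1 : A.subgroupOf H ≤ Subgroup.closure {xH, aH * xH * aH⁻¹} := by
      refine (Subgroup.map_le_map_iff_of_injective H.subtype_injective).mp ?_
      rw [Subgroup.map_subgroupOf_eq_of_le hAH, MonoidHom.map_closure, Set.image_pair]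
      exact (hAeq.trans (hpair a)).le
    refine (Subgroup.map_mono h1).trans ?_
    rw [MonoidHom.map_closure, Set.image_pair, map_mul, map_mul, map_inv]
  obtain ⟨w, hwW, hcov⟩ := H32.MaxPair.exists_cover (Fact.out : p.Prime) hp hrq W Ab Fb hWexp hWne
    htop hWAb hFAb hAFb hFbr hWF hirr (π xH) (Subgroup.mem_map_of_mem π hxA)
    (by rw [← map_pow, show xH ^ p = 1 from Subtype.ext hxp, map_one]) (π aH)
    (Subgroup.mem_map_of_mem π haA) hgen
  obtain ⟨v, hv, rfl⟩ := hwW
  set BH := Subgroup.closure {xH, (v * aH) * xH * (v * aH)⁻¹} with hBH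
  have hBV : V1 ≤ BH := by
    refine (hfr (BH ⊓ V1) inf_le_right ?_).trans inf_le_left
    intro u hu
    have h1 : π u ∈ BH.map π := by
      refine le_trans hcov ?_ (Subgroup.mem_map_of_mem π hu)
      rw [hBH, MonoidHom.map_closure, Set.image_pair]
      simp only [map_mul, map_inv, mul_inv_rev, mul_assoc]
      rfl
    obtain ⟨b, hb, hbe⟩ := h1
    have hmem : b⁻¹ * u ∈ Φ := QuotientGroup.eq.mp hbe
    have hbV : b ∈ V1 := by
      rw [show b = u * (b⁻¹ * u)⁻¹ by group]
      exact mul_mem hu (inv_mem (hΦle hmem))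
    rw [show u = b * (b⁻¹ * u) by group]
    exact mul_mem (Subgroup.mem_sup_left ⟨hb, hbV⟩) (Subgroup.mem_sup_right hmem)
  set B := Subgroup.closure {x, ((v : G) * a) * x * ((v : G) * a)⁻¹} with hB
  have hBe : B = BH.map H.subtype := by
    rw [hBH, MonoidHom.map_closure, Set.image_pair]; rfl
  have hVB : V ≤ B := by
    rw [hBe, ← Subgroup.map_subgroupOf_eq_of_le hVH]
    exact Subgroup.map_mono hBV
  have hvB : (v : G) ∈ B := hVB (Subgroup.mem_subgroupOf.mp hv)
  have hAB : A ≤ B := by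
    rw [hAeq, hpair a, Subgroup.closure_le]
    have hyB : ((v : G) * a) * x * ((v : G) * a)⁻¹ ∈ B :=
      Subgroup.subset_closure (Set.mem_insert_of_mem _ (Set.mem_singleton _))
    rintro z (rfl | hz)
    · exact Subgroup.subset_closure (Set.mem_insert _ _)
    · rw [Set.mem_singleton_iff] at hz
      subst hz
      rw [SetLike.mem_coe, show a * x * a⁻¹ =
        (v : G)⁻¹ * (((v : G) * a) * x * ((v : G) * a)⁻¹) * v by group]
      exact mul_mem (mul_mem (inv_mem hvB) hyB) hvB
  have hBH' : B ≤ H := hBe ▸ Subgroup.map_subtype_le BH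
  have hBsol : Group.IsSolvable B :=
    Group.isSolvable_of_isSolvable_injective (f := Subgroup.inclusion hBH')
      (Subgroup.inclusion_injective hBH')
  have heq := hmax B hAB hBsol ⟨(v : G) * a, mul_mem hvB (hAB haA), (hpair _).symm⟩
  exact hVA (hVB.trans heq.le)

/-- Let G be a finite group and P a subgroup of prime order p > 3. Consider the solvable subgroups A of G of the form A = ⟨P, aPa⁻¹⟩ for some a ∈ A, and let A be maximal under inclusion among them. Then for every nilpotent subgroup V of G normalized by A, the subgroup F(A)V generated by the Fitting subgroup of A and V is nilpotent. -/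
theorem result {G : Type*} [Group G] [Finite G]
    {p : ℕ} [Fact p.Prime] (hp : 3 < p) (P : Subgroup G) (hP : Nat.card P = p) (A : Subgroup G)
    (hA : Group.IsSolvable ↥A ∧ ∃ a ∈ A, A = P ⊔ P.map (MulAut.conj a).toMonoidHom)
    (hmax : ∀ B : Subgroup G, A ≤ B → Group.IsSolvable ↥B → (∃ b ∈ B, B = P ⊔ P.map (MulAut.conj b).toMonoidHom) → B = A)
    (V : Subgroup G) (hV : Group.IsNilpotent ↥V) (hAV : A ≤ Subgroup.normalizer (V : Set G)) :
    Group.IsNilpotent ↥((Cfsg.fittingSubgroup ↥A).map A.subtype ⊔ V) := by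
  classical
  set F := (Cfsg.fittingSubgroup ↥A).map A.subtype with hF
  set Fr : Nat.Primes → Subgroup G := fun r => (Cfsg.pCore (r : ℕ) ↥A).map A.subtype with hFr
  set Vr : Nat.Primes → Subgroup G := fun r => (Cfsg.pCore (r : ℕ) ↥V).map V.subtype with hVr
  have hFe : F = ⨆ r, Fr r := by
    rw [hF, H1.fittingSubgroup_eq_iSup_pCore, Subgroup.map_iSup]
  have hVe : V = ⨆ r, Vr r := by
    have h1 : (⊤ : Subgroup ↥V) ≤ ⨆ p : Nat.Primes, Cfsg.pCore (p : ℕ) ↥V :=
      H1.le_iSup_pCore_of_isNilpotent ⊤ (Group.nilpotent_of_mulEquiv Subgroup.topEquiv.symm)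
    conv_lhs => rw [← Subgroup.range_subtype V, MonoidHom.range_eq_map, ← top_le_iff.mp h1,
      Subgroup.map_iSup]
  have hAVr : ∀ r, A ≤ Subgroup.normalizer (Vr r : Set G) := by
    intro r
    refine H84.le_normalizer_of_conj fun c hc z hz => ?_
    obtain ⟨z, hz, rfl⟩ := hz
    exact ⟨(Subgroup.normalizerMonoidHom V ⟨c, hAV hc⟩) z,
      (H1.map_pCore_equiv (r : ℕ) (Subgroup.normalizerMonoidHom V ⟨c, hAV hc⟩)).le ⟨z, hz, rfl⟩, rfl⟩
  have hFrA : ∀ r, Fr r ≤ A := fun r => Subgroup.map_subtype_le _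
  have hVrq : ∀ r : Nat.Primes, IsPGroup (r : ℕ) (Vr r) := fun r => (H1.isPGroup_pCore _ _).map _
  have hFrq : ∀ r : Nat.Primes, IsPGroup (r : ℕ) (Fr r) := fun r => (H1.isPGroup_pCore _ _).map _
  have hcomm : ∀ (K : Subgroup G) (r s : Nat.Primes), r ≠ s →
      (Cfsg.pCore (r : ℕ) ↥K).map K.subtype ≤
        Subgroup.centralizer ((Cfsg.pCore (s : ℕ) ↥K).map K.subtype : Set G) := by
    rintro K r s hrs _ ⟨a, ha, rfl⟩
    rw [Subgroup.mem_centralizer_iff]
    rintro _ ⟨b, hb, rfl⟩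
    haveI := Fact.mk r.2
    haveI := Fact.mk s.2
    exact (congrArg K.subtype (Subgroup.commute_of_normal_of_disjoint _ _ (H1.pCore_normal' _ _)
      (H1.pCore_normal' _ _) (IsPGroup.disjoint_of_ne (r : ℕ) (s : ℕ)
        (fun h => hrs (Subtype.ext h)) _ _ (H1.isPGroup_pCore _ _) (H1.isPGroup_pCore _ _))
      a b ha hb).eq).symm
  have hFV : ∀ r s : Nat.Primes, r ≠ s → Fr r ≤ Subgroup.centralizer (Vr s : Set G) := by
    intro r s hrs
    haveI := Fact.mk r.2
    haveI := Fact.mk s.2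
    exact key hp P hP A hA.1 hA.2 hmax (fun h => hrs (Subtype.ext h)) (Vr s) (hVrq s) (hAVr s)
  set R : Nat.Primes → Subgroup G := fun r => Fr r ⊔ Vr r with hR
  set K := F ⊔ V with hK
  have hKe : K = ⨆ r, R r := by rw [hK, hFe, hVe, hR, iSup_sup_eq]
  have hRp : ∀ r : Nat.Primes, IsPGroup (r : ℕ) (R r) := fun r =>
    (hFrq r).to_sup_of_normal_right' (hVrq r) ((hFrA r).trans (hAVr r))
  have hRK : ∀ r, R r ≤ K := fun r => hKe ▸ le_iSup R r
  have hRc : ∀ r s, r ≠ s → R s ≤ Subgroup.centralizer (R r : Set G) := by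
    intro r s hrs
    rw [Subgroup.le_centralizer_iff]
    refine sup_le ?_ ?_ <;> rw [Subgroup.le_centralizer_iff] <;> refine sup_le ?_ ?_
    · exact hcomm A s r hrs.symm
    · rw [Subgroup.le_centralizer_iff]; exact hFV r s hrs
    · exact hFV s r hrs.symm
    · exact hcomm V s r hrs.symm
  have hKn : ∀ r, K ≤ Subgroup.normalizer (R r : Set G) := by
    intro r
    rw [hKe]
    refine iSup_le fun s => ?_
    rcases eq_or_ne r s with rfl | hrs
    · exact Subgroup.le_normalizer
    · exact (hRc r s hrs).trans (Subgroup.centralizer_le_normalizer _)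
  have htop : (⊤ : Subgroup ↥K) ≤ Cfsg.fittingSubgroup ↥K := by
    have hle : K ≤ (Cfsg.fittingSubgroup ↥K).map K.subtype := by
      conv_lhs => rw [hKe]
      refine iSup_le fun r => ?_
      haveI := Fact.mk r.2
      haveI : ((R r).subgroupOf K).Normal :=
        (Subgroup.normal_subgroupOf_iff_le_normalizer (hRK r)).mpr (hKn r)
      refine le_of_eq_of_le (Subgroup.map_subgroupOf_eq_of_le (hRK r)).symm (Subgroup.map_mono ?_)
      exact H1.le_fittingSubgroup ((hRp r).of_equiv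
        (Subgroup.subgroupOfEquivOfLe (hRK r)).symm).isNilpotent
    intro k _
    obtain ⟨k', hk', he⟩ := hle k.2
    exact K.subtype_injective he ▸ hk'
  have hnil := H1.isNilpotent_fittingSubgroup ↥K
  rw [top_le_iff.mp htop] at hnil
  haveI := hnil
  exact Group.nilpotent_of_mulEquiv Subgroup.topEquiv

end Cfsg.Agent.S3822
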