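import Cfsg.Statements.S3825
import Mathlib

set_option autoImplicit false
set_option linter.all false
open Cfsg
open scoped commutatorElement

namespace Cfsg.Agent.S3825

/-- Let U be a subgroup of a finite group H and w an involution of H normalizing U and commuting with exactly two elements of U, the identity and y. If V is a non-cyclic elementary abelian 2-subgroup of U containing y which is normal in U and invariant under w, then V is a Sylow 2-subgroup of U, V has order 4, and U/V is abelian. -/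
theorem result {H : Type*} [Group H] [Finite H] (U : Subgroup H) (w : H) (hw : orderOf w = 2)
    (hwU : w ∈ Subgroup.normalizer (U : Set H)) (y : H) (hy : y ≠ 1) (hyU : y ∈ U)
    (hfix : ∀ u ∈ U, w * u * w⁻¹ = u ↔ (u = 1 ∨ u = y))
    (V : Subgroup H) (hVU : V ≤ U) (hVn : (V.subgroupOf U).Normal) (hVw : ∀ v ∈ V, w * v * w⁻¹ ∈ V)
    (hVe : Cfsg.IsElementaryAbelian 2 V) (hVc : ¬ IsCyclic ↥V) (hyV : y ∈ V) :
    ¬ 2 ∣ V.relIndex U ∧ Nat.card ↥V = 4 ∧ ⁅U, U⁆ ≤ V := by
  obtain ⟨hVab, hVsq⟩ := hVe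
  have hw2 : w * w = 1 := by rw [← pow_two, ← hw]; exact pow_orderOf_eq_one w
  have hwi : w⁻¹ = w := inv_eq_of_mul_eq_one_right hw2
  have hcomm : ∀ a ∈ V, ∀ b ∈ V, a * b = b * a := fun a ha b hb =>
    congrArg Subtype.val (hVab.is_comm.comm ⟨a, ha⟩ ⟨b, hb⟩)
  have hinv : ∀ a ∈ V, a⁻¹ = a := fun a ha => inv_eq_of_mul_eq_one_right (by rw [← pow_two]; exact hVsq a ha)
  have hww : ∀ a : H, w * (w * a * w⁻¹) * w⁻¹ = a := by
    intro a; rw [hwi]; simp [mul_assoc, hw2]; simp [← mul_assoc, hw2]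
  have hfy : w * y * w⁻¹ = y := (hfix y hyU).2 (Or.inr rfl)
  -- there is some v₀ in V moved by w to v₀ * y
  obtain ⟨v0, hv0, hv01, hv0y⟩ : ∃ v ∈ V, v ≠ 1 ∧ v ≠ y := by
    by_contra hcon
    push Not at hcon
    apply hVc
    refine ⟨⟨y, hyV⟩, fun v => ?_⟩
    by_cases h1 : (v : H) = 1
    · exact ⟨0, Subtype.ext (by simp [h1])⟩
    · exact ⟨1, Subtype.ext (by simp [hcon v v.2 h1])⟩
  have hd : ∀ v ∈ V, w * v * w⁻¹ * v = 1 ∨ w * v * w⁻¹ * v = y := by
    intro v hv
    apply (hfix _ (hVU (V.mul_mem (hVw v hv) hv))).1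
    calc w * (w * v * w⁻¹ * v) * w⁻¹ = (w * (w * v * w⁻¹) * w⁻¹) * (w * v * w⁻¹) := by group
      _ = v * (w * v * w⁻¹) := by rw [hww]
      _ = _ := hcomm v hv _ (hVw v hv)
  have hdy : ∀ v ∈ V, v ≠ 1 → v ≠ y → w * v * w⁻¹ = v * y := by
    intro v hv h1 h2
    rcases hd v hv with h | h
    · exfalso
      rw [mul_eq_one_iff_eq_inv, hinv v hv] at h
      rcases (hfix v (hVU hv)).1 h with h' | h'
      · exact h1 h'
      · exact h2 h'
    · rw [← mul_inv_eq_iff_eq_mul.2 h.symm, hinv v hv, hcomm y hyV v hv]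
  have hv0d := hdy v0 hv0 hv01 hv0y
  have hV4 : ∀ v ∈ V, v = 1 ∨ v = y ∨ v = v0 ∨ v = v0 * y := by
    intro v hv
    by_cases h1 : v = 1
    · exact Or.inl h1
    by_cases h2 : v = y
    · exact Or.inr (Or.inl h2)
    right; right
    have h3 : w * (v0 * v) * w⁻¹ = v0 * v := by
      calc w * (v0 * v) * w⁻¹ = (w * v0 * w⁻¹) * (w * v * w⁻¹) := by group
        _ = (v0 * y) * (v * y) := by rw [hv0d, hdy v hv h1 h2]
        _ = v0 * v * (y * y) := by rw [mul_assoc v0 y, ← mul_assoc y v, hcomm y hyV v hv]; group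
        _ = _ := by rw [show y * y = 1 by rw [← pow_two]; exact hVsq y hyV, mul_one]
    rcases (hfix _ (hVU (V.mul_mem hv0 hv))).1 h3 with h4 | h4
    · left; rw [eq_comm, ← hinv v0 hv0]; exact (eq_inv_of_mul_eq_one_right h4).symm
    · right; rw [← h4, ← mul_assoc, show v0 * v0 = 1 by rw [← pow_two]; exact hVsq v0 hv0, one_mul]
  -- w acts fixed-point-freely on U / V
  haveI := hVn
  let φ₀ : U →* U := MonoidHom.mk' (fun u => ⟨w * u * w⁻¹, (Subgroup.mem_normalizer_iff.1 hwU u).1 u.2⟩)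
    (fun a b => Subtype.ext (by simp [mul_assoc]))
  let φ := QuotientGroup.map (V.subgroupOf U) (V.subgroupOf U) φ₀ (fun u hu => hVw u hu)
  have hinvol : Function.Involutive φ := by
    intro q
    obtain ⟨u, rfl⟩ := QuotientGroup.mk_surjective q
    simp only [φ, QuotientGroup.map_mk]
    exact congrArg QuotientGroup.mk (Subtype.ext (hww u) : φ₀ (φ₀ u) = u)
  have hfpf : MonoidHom.FixedPointFree φ := by
    intro q hq
    obtain ⟨u, rfl⟩ := QuotientGroup.mk_surjective q
    simp only [φ, QuotientGroup.map_mk] at hq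
    have hvV : (u : H)⁻¹ * (w * u * w⁻¹) ∈ V := Subgroup.mem_subgroupOf.1 ((QuotientGroup.eq).1 hq.symm)
    set v := (u : H)⁻¹ * (w * u * w⁻¹) with hv
    have hwu : w * (u : H) * w⁻¹ = u * v := by rw [hv, mul_inv_cancel_left]
    have hvfix : w * v * w⁻¹ = v := by
      have h1 : (u : H) = (w * u * w⁻¹) * (w * v * w⁻¹) := by
        calc (u : H) = w * (w * u * w⁻¹) * w⁻¹ := (hww u).symm
          _ = w * (u * v) * w⁻¹ := by rw [hwu]
          _ = _ := by group
      rw [hwu, mul_assoc] at h1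
      have h2 : v * (w * v * w⁻¹) = 1 := left_eq_mul.1 h1
      rw [← inv_eq_of_mul_eq_one_right h2, hinv v hvV]
    rw [QuotientGroup.eq_one_iff, Subgroup.mem_subgroupOf]
    rcases (hfix v (hVU hvV)).1 hvfix with h | h
    · rw [h, mul_one] at hwu
      rcases (hfix u u.2).1 hwu with h' | h' <;> rw [h']
      · exact V.one_mem
      · exact hyV
    · rw [h] at hwu
      have h1 : w * ((u : H) * v0) * w⁻¹ = u * v0 := by
        calc w * ((u : H) * v0) * w⁻¹ = (w * u * w⁻¹) * (w * v0 * w⁻¹) := by group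
          _ = (u * y) * (v0 * y) := by rw [hwu, hv0d]
          _ = u * ((y * v0) * y) := by group
          _ = u * (v0 * (y * y)) := by rw [hcomm y hyV v0 hv0]; group
          _ = _ := by rw [show y * y = 1 by rw [← pow_two]; exact hVsq y hyV, mul_one]
      have h3 : (u : H) * v0 ∈ V := by
        rcases (hfix _ (U.mul_mem u.2 (hVU hv0))).1 h1 with h' | h' <;> rw [h']
        · exact V.one_mem
        · exact hyV
      exact (Subgroup.mul_mem_cancel_right V hv0).1 h3
  refine ⟨?_, ?_, ?_⟩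
  · have h := hfpf.odd_card_of_involutive hinvol
    intro h2
    exact Nat.not_even_iff_odd.2 h (even_iff_two_dvd.2 h2)
  · have hset : (V : Set H) = {1, y, v0, v0 * y} := by
      ext v
      simp only [SetLike.mem_coe, Set.mem_insert_iff, Set.mem_singleton_iff]
      refine ⟨hV4 v, ?_⟩
      rintro (rfl | rfl | rfl | rfl)
      exacts [V.one_mem, hyV, hv0, V.mul_mem hv0 hyV]
    rw [← SetLike.coe_sort_coe, Nat.card_coe_set_eq, hset]
    have e1 : v0 * y ≠ 1 := fun h => hv0y ((eq_inv_of_mul_eq_one_left h).trans (hinv y hyV))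
    rw [Set.ncard_insert_of_notMem (by simp [Ne.symm hy, Ne.symm hv01, e1.symm]),
      Set.ncard_insert_of_notMem (by simp [Ne.symm hv0y, hv01]), Set.ncard_pair (by simp [hy])]
  · rw [Subgroup.commutator_le]
    intro a ha b hb
    have h := hfpf.commute_all_of_involutive hinvol ((⟨a, ha⟩ : U) : U ⧸ V.subgroupOf U) ((⟨b, hb⟩ : U) : U ⧸ V.subgroupOf U)
    have h1 : ((⁅(⟨a, ha⟩ : U), (⟨b, hb⟩ : U)⁆ : U) : U ⧸ V.subgroupOf U) = 1 := by
      rw [← QuotientGroup.mk'_apply, map_commutatorElement, commutatorElement_eq_one_iff_commute]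
      exact h
    exact Subgroup.mem_subgroupOf.1 ((QuotientGroup.eq_one_iff _).1 h1)

end Cfsg.Agent.S3825
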