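import Cfsg.Statements.S3838
import Cfsg.Agent.H5.Frobenius
import Cfsg.Agent.H1.SchurZassenhausConj

set_option autoImplicit false
open Cfsg

namespace Cfsg.Agent.S3838

open scoped commutatorElement Pointwise

theorem npc_of_normal {M : Type*} [Group M] [Finite M] {p : ℕ} [Fact p.Prime] (P : Sylow p M)
    (Q : Subgroup M) [Q.Normal] (hQP : Q ≤ (P : Subgroup M))
    (hN : Cfsg.HasNormalPComplement p ↥(Subgroup.normalizer ((P : Subgroup M) : Set M)))
    (hab : ∀ a ∈ (P : Subgroup M), ∀ b ∈ (P : Subgroup M), ⁅a, b⁆ ∈ Q)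
    (hΦ : ∀ H : Subgroup M, H ≤ (P : Subgroup M) → (P : Subgroup M) ≤ Q ⊔ H → (P : Subgroup M) ≤ H) :
    Cfsg.HasNormalPComplement p M := by
  set π := QuotientGroup.mk' Q with hπ
  have hπs : Function.Surjective π := QuotientGroup.mk'_surjective Q
  set P' : Sylow p (M ⧸ Q) := P.mapSurjective hπs with hP'
  have hP'c : (P' : Subgroup (M ⧸ Q)) = (P : Subgroup M).map π := Sylow.coe_mapSurjective hπs P
  have hcomap : ((P : Subgroup M).map π).comap π = (P : Subgroup M) := by
    rw [Subgroup.comap_map_eq, hπ, QuotientGroup.ker_mk', sup_eq_left.2 hQP]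
  -- Burnside in the quotient
  have hburn : Subgroup.normalizer ((P' : Subgroup (M ⧸ Q)) : Set (M ⧸ Q)) ≤
      Subgroup.centralizer ((P' : Subgroup (M ⧸ Q)) : Set (M ⧸ Q)) := by
    intro x hx
    obtain ⟨n, rfl⟩ := hπs x
    have hn : n ∈ Subgroup.normalizer ((P : Subgroup M) : Set M) := by
      apply Subgroup.mem_normalizer_fintype
      intro a ha
      show n * a * n⁻¹ ∈ (P : Subgroup M)
      rw [← hcomap]
      rw [hP'c, Subgroup.mem_normalizer_iff] at hx
      simpa using (hx (π a)).1 (Subgroup.mem_map_of_mem π ha)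
    obtain ⟨u, v, rfl, ⟨k, hu⟩, hv, hu', hv'⟩ := H5.exists_p_decomposition (p := p) n
    refine Subgroup.mem_centralizer_iff.2 fun y hy => ?_
    rw [hP'c] at hy
    obtain ⟨a, ha, rfl⟩ := hy
    have hvn := (Subgroup.zpowers_le.2 hn) hv'
    have hva : a * v = v * a := by
      set N := Subgroup.normalizer ((P : Subgroup M) : Set M) with hNdef
      have h1 : (⟨v, hvn⟩ : N) ∈ Subgroup.normalizer (((P : Subgroup M).subgroupOf N : Subgroup N) : Set N) :=
        Subgroup.normalizer_eq_top ((P : Subgroup M).subgroupOf N) ▸ Subgroup.mem_top _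
      have h2 := H5.frobenius_of_hasNormalPComplement hN
        (P.isPGroup'.comap_of_injective N.subtype N.subtype_injective) h1
        (by rw [Subgroup.orderOf_mk]; exact hv)
      exact congrArg Subtype.val (h2 ⟨a, Subgroup.le_normalizer ha⟩ (Subgroup.mem_subgroupOf.2 ha))
    have huP : u ∈ (P : Subgroup M) := by
      have hun := (Subgroup.zpowers_le.2 hn) hu'
      obtain ⟨j, -, hj⟩ := (Nat.dvd_prime_pow (Fact.out : p.Prime)).1 (orderOf_dvd_of_pow_eq_one hu)
      exact ((IsPGroup.inf_normalizer_sylow (IsPGroup.of_card (n := j)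
        (by rw [Nat.card_zpowers, hj])) P).le ⟨Subgroup.mem_zpowers u, hun⟩).2
    have hua : π a * π u = π u * π a := by
      rw [← commutatorElement_eq_one_iff_mul_comm, ← map_commutatorElement]
      exact (QuotientGroup.eq_one_iff _).2 (hab a ha u huP)
    rw [map_mul, ← mul_assoc, hua, mul_assoc, ← map_mul, hva, map_mul, mul_assoc]
  set K := (MonoidHom.transferSylow P' hburn).ker.comap π with hK
  have hcompl := MonoidHom.ker_transferSylow_isComplement' P' hburn
  have hKtop : K ⊔ (P : Subgroup M) = ⊤ := by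
    have h1 : (MonoidHom.transferSylow P' hburn).ker ⊔ (P' : Subgroup (M ⧸ Q)) = ⊤ := hcompl.sup_eq_top
    rw [hK, ← hcomap, Subgroup.comap_sup_eq _ _ _ hπs, ← hP'c, h1, Subgroup.comap_top]
  have hQK : Q ≤ K := fun x hx => by
    show π x ∈ (MonoidHom.transferSylow P' hburn).ker
    rw [show π x = 1 from (QuotientGroup.eq_one_iff x).2 hx]
    exact one_mem _
  obtain ⟨j, hj⟩ := (P.isPGroup'.to_le hQP).exists_card_eq
  have hKidx : ¬ p ∣ (Q.subgroupOf K).index := by
    intro hd
    refine MonoidHom.not_dvd_card_ker_transferSylow P' hburn (hd.trans ?_)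
    have h1 : (Q.subgroupOf K).index = Nat.card (MonoidHom.transferSylow P' hburn).ker := by
      have := Subgroup.relIndex_comap (⊥ : Subgroup (M ⧸ Q)) π K
      rw [hK, Subgroup.map_comap_eq_self_of_surjective hπs, Subgroup.relIndex_bot_left,
        MonoidHom.comap_bot, hπ, QuotientGroup.ker_mk'] at this
      exact this
    exact h1.dvd
  have hcop : (Nat.card (Q.subgroupOf K)).Coprime (Q.subgroupOf K).index := by
    rw [Nat.card_congr (Subgroup.subgroupOfEquivOfLe hQK).toEquiv, hj]
    exact Nat.Coprime.pow_left _ ((Fact.out : p.Prime).coprime_iff_not_dvd.2 hKidx)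
  obtain ⟨L', hL'⟩ := Subgroup.exists_right_complement'_of_coprime hcop
  set L := L'.map K.subtype with hLdef
  have hLK : L ≤ K := Subgroup.map_subtype_le _
  have hLcard : Nat.card L = (Q.subgroupOf K).index := by
    rw [hLdef, Subgroup.card_map_of_injective K.subtype_injective]
    exact hL'.symm.index_eq_card.symm
  have hcopL : (Nat.card Q).Coprime (Nat.card L) := by
    rw [hLcard, hj]
    exact Nat.Coprime.pow_left _ ((Fact.out : p.Prime).coprime_iff_not_dvd.2 hKidx)
  have hQL : Q ⊔ L = K := by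
    have h1 : (Q.subgroupOf K ⊔ L').map K.subtype = K := by
      rw [hL'.sup_eq_top, ← MonoidHom.range_eq_map, Subgroup.range_subtype]
    rwa [Subgroup.map_sup, Subgroup.subgroupOf_map_subtype, inf_eq_left.2 hQK] at h1
  set N := Subgroup.normalizer (L : Set M) with hNdef
  have hQN : ∀ m : M, ∃ q ∈ Q, q⁻¹ * m ∈ N := by
    intro m
    have hle : MulAut.conj m • L ≤ Q ⊔ L := by
      rw [hQL]
      rintro _ ⟨l, hl, rfl⟩
      exact (inferInstance : K.Normal).conj_mem _ (hLK hl) m
    obtain ⟨q, hq, he⟩ := H1.exists_conj_eq_of_solvable_left (H := L) (D := Q)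
      (by rw [Subgroup.normalizer_eq_top Q]; exact le_top) hcopL
      (have := (P.isPGroup'.to_le hQP).isNilpotent; inferInstance) hle (H1.card_conj_smul m L)
    refine ⟨q, hq, ?_⟩
    have h2 : MulAut.conj (q⁻¹ * m) • L = L := by
      rw [map_mul, mul_smul, ← he, ← mul_smul, ← map_mul, inv_mul_cancel, map_one, one_smul]
    rw [hNdef, Subgroup.mem_normalizer_iff_map_conj_eq]
    exact h2
  have hPN : (P : Subgroup M) ≤ N := by
    refine (hΦ (N ⊓ (P : Subgroup M)) inf_le_right fun a ha => ?_).trans inf_le_left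
    obtain ⟨q, hq, hqa⟩ := hQN a
    have := Subgroup.mul_mem_sup (S := Q) (T := N ⊓ (P : Subgroup M)) hq
      ⟨hqa, (P : Subgroup M).mul_mem ((P : Subgroup M).inv_mem (hQP hq)) ha⟩
    simpa using this
  have hNtop : N = ⊤ := by
    rw [eq_top_iff]
    intro m _
    obtain ⟨q, hq, hm⟩ := hQN m
    have := mul_mem (hPN (hQP hq)) hm
    simpa using this
  have : L.Normal := Subgroup.normalizer_eq_top_iff.1 hNtop
  have hLp : ¬ p ∣ Nat.card L := hLcard ▸ hKidx
  refine H5.hasNormalPComplement_of_normal L hLp ?_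
  refine ⟨_, Nat.eq_prime_pow_of_unique_prime_dvd Subgroup.index_ne_zero_of_finite ?_⟩
  intro r hr hrd
  by_contra hne
  -- the index of `L` divides a power of `p`, as `L ⊔ P = M`
  have htop : L ⊔ (P : Subgroup M) = ⊤ := by
    rw [eq_top_iff, ← hKtop, ← hQL]
    exact sup_le (sup_le (hQP.trans le_sup_right) le_sup_left) le_sup_right
  have h1 : L.index ∣ Nat.card (P : Subgroup M) := by
    have := L.relIndex_sup_right (H := (P : Subgroup M))
    rw [sup_comm, htop, Subgroup.relIndex_top_right] at this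
    rw [this]
    exact Subgroup.index_dvd_card _
  obtain ⟨i, hi⟩ := P.isPGroup'.exists_card_eq
  rw [hi] at h1
  exact hne ((Nat.prime_dvd_prime_iff_eq hr Fact.out).1 (hr.dvd_of_dvd_pow (hrd.trans h1)))

/-- Let G be a finite group with Sylow p-subgroup P such that N_G(P) has a normal p-complement. Then N_G(Q) has a normal p-complement for every subgroup Q with [P, P] ≤ Q ≤ Φ(P). -/
theorem result {G : Type*} [Group G] [Finite G] {p : ℕ} [Fact p.Prime] (P : Sylow p G) (hN : Cfsg.HasNormalPComplement p ↥(Subgroup.normalizer ((P : Subgroup G) : Set G))) (Q : Subgroup G) (h1 : (commutator ↥(P : Subgroup G)).map (P : Subgroup G).subtype ≤ Q) (h2 : Q ≤ (frattini ↥(P : Subgroup G)).map (P : Subgroup G).subtype) : Cfsg.HasNormalPComplement p ↥(Subgroup.normalizer (Q : Set G)) := by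
  have hQP : Q ≤ (P : Subgroup G) := h2.trans (Subgroup.map_subtype_le _)
  have hab : ∀ a ∈ (P : Subgroup G), ∀ b ∈ (P : Subgroup G), ⁅a, b⁆ ∈ Q := by
    intro a ha b hb
    exact h1 ⟨⁅(⟨a, ha⟩ : (P : Subgroup G)), ⟨b, hb⟩⁆,
      Subgroup.commutator_mem_commutator (Subgroup.mem_top _) (Subgroup.mem_top _), rfl⟩
  set M := Subgroup.normalizer (Q : Set G) with hM
  have hPM : (P : Subgroup G) ≤ M := by
    intro a ha
    apply Subgroup.mem_normalizer_fintype
    intro q hq
    have := mul_mem (hab a ha q (hQP hq)) hq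
    simpa [commutatorElement_def] using this
  have : (Q.subgroupOf M).Normal := Subgroup.normal_in_normalizer
  refine npc_of_normal (P.subtype hPM) (Q.subgroupOf M) ?_ ?_ ?_ ?_
  · rw [Sylow.coe_subtype]
    exact fun x hx => Subgroup.mem_subgroupOf.2 (hQP (Subgroup.mem_subgroupOf.1 hx))
  · refine H5.hasNormalPComplement_of_injective
      ((M.subtype.comp (Subgroup.normalizer
        (((P.subtype hPM : Sylow p M) : Subgroup M) : Set M)).subtype).codRestrict
        (Subgroup.normalizer ((P : Subgroup G) : Set G)) ?_) ?_ hN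
    · intro n
      apply Subgroup.mem_normalizer_fintype
      intro a ha
      have h := (Subgroup.mem_normalizer_iff.1 n.2 ⟨a, hPM ha⟩).1 (Subgroup.mem_subgroupOf.2 ha)
      exact Subgroup.mem_subgroupOf.1 h
    · intro a b hab
      exact Subtype.ext (Subtype.ext (congrArg (fun w : ↥(Subgroup.normalizer ((P : Subgroup G) : Set G)) => (w : G)) hab))
  · intro a ha b hb
    rw [Sylow.coe_subtype] at ha hb
    exact Subgroup.mem_subgroupOf.2 (hab a (Subgroup.mem_subgroupOf.1 ha) b (Subgroup.mem_subgroupOf.1 hb))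
  · intro H hH hle
    rw [Sylow.coe_subtype] at hH hle ⊢
    set H' := (H.map M.subtype).subgroupOf (P : Subgroup G) with hH'
    have htop : H' ⊔ frattini ↥(P : Subgroup G) = ⊤ := by
      rw [eq_top_iff]
      rintro ⟨a, ha⟩ -
      obtain ⟨q, hq, h, hh, he⟩ := Subgroup.mem_sup_of_normal_left.1
        (hle (Subgroup.mem_subgroupOf.2 ha : (⟨a, hPM ha⟩ : M) ∈ (P : Subgroup G).subgroupOf M))
      have hhP : (h : G) ∈ (P : Subgroup G) := Subgroup.mem_subgroupOf.1 (hH hh)
      obtain ⟨f, hf, hfq⟩ := h2 (Subgroup.mem_subgroupOf.1 hq)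
      have e : (⟨a, ha⟩ : (P : Subgroup G)) = f * ⟨h, hhP⟩ :=
        Subtype.ext (by
          show a = (f : G) * (h : G)
          rw [show (f : G) = (q : G) from hfq]
          exact (congrArg Subtype.val he).symm)
      rw [e]
      exact mul_mem (Subgroup.mem_sup_right hf)
        (Subgroup.mem_sup_left (Subgroup.mem_subgroupOf.2 ⟨h, hh, rfl⟩))
    have hH'top := frattini_nongenerating htop
    intro a ha
    have h3 : (⟨(a : G), Subgroup.mem_subgroupOf.1 ha⟩ : (P : Subgroup G)) ∈ H' :=
      hH'top ▸ Subgroup.mem_top _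
    obtain ⟨b, hb, hba⟩ := Subgroup.mem_subgroupOf.1 h3
    rwa [← Subtype.ext (show (b : G) = (a : G) from hba)]

end Cfsg.Agent.S3838
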