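import Cfsg.Statements.S3858
import Mathlib.GroupTheory.Sylow

set_option autoImplicit false
open Cfsg

namespace Cfsg.Agent.S3858

/-- Let G be a finite group with a normal non-abelian simple subgroup T whose centralizer is trivial (G almost simple with socle T), r a prime and R a Sylow r-subgroup of G meeting T nontrivially. Then R lies in exactly one maximal subgroup of G if and only if G has exactly one conjugacy class of maximal subgroups whose index is prime to r. -/
theorem result {G : Type*} [Group G] [Finite G] (T : Subgroup G) [T.Normal] (hT : IsSimpleGroup T) (hna : ¬ IsMulCommutative T)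
    (hC : Subgroup.centralizer (T : Set G) = ⊥) {r : ℕ} [Fact r.Prime] (R : Sylow r G) (hR0 : (R : Subgroup G) ⊓ T ≠ ⊥) :
    (∃! M : Subgroup G, IsCoatom M ∧ (R : Subgroup G) ≤ M) ↔
      ((∃ M : Subgroup G, IsCoatom M ∧ ¬ r ∣ M.index) ∧
        ∀ M₁ M₂ : Subgroup G, IsCoatom M₁ → ¬ r ∣ M₁.index → IsCoatom M₂ → ¬ r ∣ M₂.index → ∃ g : G, M₂ = M₁.map (MulAut.conj g).toMonoidHom) := by
  have hne : ∀ H : Subgroup G, H ≠ ⊤ → ∃ M : Subgroup G, IsCoatom M ∧ H ≤ M := fun H hH => by
    obtain h | h := eq_top_or_exists_le_coatom H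
    · exact absurd h hH
    · exact h
  have hRnot : ∀ (h : ((R : Subgroup G)).Normal), False := by
    intro h
    haveI := h
    rcases hT.eq_bot_or_eq_top_of_normal ((R : Subgroup G).subgroupOf T) inferInstance with h | h
    · rw [Subgroup.subgroupOf_eq_bot, disjoint_iff] at h
      exact hR0 h
    · rw [Subgroup.subgroupOf_eq_top] at h
      have hp : IsPGroup r T := R.isPGroup'.to_le h
      haveI := hT.toNontrivial
      haveI := hp.center_nontrivial
      rcases hT.eq_bot_or_eq_top_of_normal (Subgroup.center T) inferInstance with h' | h'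
      · exact (Subgroup.nontrivial_iff_ne_bot _).mp inferInstance h'
      · exact hna ⟨⟨fun a b => (Subgroup.mem_center_iff.mp (h' ▸ Subgroup.mem_top b) a)⟩⟩
  have hidx : ∀ M : Subgroup G, (R : Subgroup G) ≤ M → ¬ r ∣ M.index := fun M hM h =>
    R.not_dvd_index (h.trans (Subgroup.index_dvd_of_le hM))
  have hconjR : ∀ M : Subgroup G, ¬ r ∣ M.index → ∃ g : G, (R : Subgroup G) ≤ M.map (MulAut.conj g).toMonoidHom := by
    intro M hM
    obtain ⟨S⟩ : Nonempty (Sylow r M) := inferInstance
    obtain ⟨R', hR'⟩ := (S.isPGroup'.map M.subtype).exists_le_sylow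
    have hcard : Nat.card ↥((S : Subgroup M).map M.subtype) = Nat.card R' := by
      rw [Subgroup.card_map_of_injective Subtype.coe_injective, S.card_eq_multiplicity,
        R'.card_eq_multiplicity, ← M.card_mul_index,
        Nat.factorization_mul Nat.card_pos.ne' Subgroup.index_ne_zero_of_finite,
        Finsupp.add_apply, Nat.factorization_eq_zero_of_not_dvd hM, add_zero]
    have hR'M : (R' : Subgroup G) ≤ M := by
      rw [← Subgroup.eq_of_le_of_card_ge hR' hcard.ge]
      exact Subgroup.map_subtype_le _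
    obtain ⟨g, hg⟩ := MulAction.exists_smul_eq G R' R
    refine ⟨g, ?_⟩
    rw [← hg]
    exact Subgroup.map_mono hR'M
  constructor
  · rintro ⟨M, hM, huni⟩
    refine ⟨⟨M, hM.1, hidx M hM.2⟩, fun M₁ M₂ h1 h1' h2 h2' => ?_⟩
    obtain ⟨g₁, hg₁⟩ := hconjR M₁ h1'
    obtain ⟨g₂, hg₂⟩ := hconjR M₂ h2'
    have hco : ∀ {N : Subgroup G} (g : G), IsCoatom N → IsCoatom (N.map (MulAut.conj g).toMonoidHom) :=
      fun g h => ((MulAut.conj g).mapSubgroup.isCoatom_iff _).mpr h
    have e1 := huni _ ⟨hco g₁ h1, hg₁⟩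
    have e2 := huni _ ⟨hco g₂ h2, hg₂⟩
    refine ⟨g₂⁻¹ * g₁, ?_⟩
    apply Subgroup.map_injective (f := (MulAut.conj g₂).toMonoidHom) (MulAut.conj g₂).injective
    rw [e2, ← e1, Subgroup.map_map]
    congr 1
    ext x
    simp [mul_assoc]
  · rintro ⟨-, hclass⟩
    obtain ⟨M, hM, hNM⟩ := hne (Subgroup.normalizer ((R : Subgroup G) : Set G))
      (fun h => hRnot (Subgroup.normalizer_eq_top_iff.mp h))
    have hRM : (R : Subgroup G) ≤ M := Subgroup.le_normalizer.trans hNM
    refine ⟨M, ⟨hM, hRM⟩, fun M' ⟨hM', hRM'⟩ => ?_⟩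
    obtain ⟨g, hg⟩ := hclass M M' hM (hidx M hRM) hM' (hidx M' hRM')
    have h2 : ((g⁻¹ • R : Sylow r G) : Subgroup G) ≤ M := by
      rw [Sylow.coe_subgroup_smul]
      intro x hx
      rw [Subgroup.mem_pointwise_smul_iff_inv_smul_mem, ← map_inv, inv_inv] at hx
      have := hRM' hx
      rw [hg] at this
      obtain ⟨m, hm, he⟩ := this
      have : m = x := (MulAut.conj g).injective he
      rwa [← this]
    obtain ⟨⟨m, hm⟩, hmeq⟩ := MulAction.exists_smul_eq M ((g⁻¹ • R).subtype h2) (R.subtype hRM)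
    rw [Sylow.smul_subtype] at hmeq
    have h3 : m • g⁻¹ • R = R := Sylow.subtype_injective hmeq
    rw [smul_smul, Sylow.smul_eq_iff_mem_normalizer] at h3
    have hgM : g ∈ M := by
      have := M.mul_mem (M.inv_mem hm) (hNM h3)
      rw [inv_mul_cancel_left] at this
      simpa using M.inv_mem this
    rw [hg]
    ext x
    constructor
    · rintro ⟨y, hy, rfl⟩
      simpa using M.mul_mem (M.mul_mem hgM hy) (M.inv_mem hgM)
    · intro hx
      exact ⟨g⁻¹ * x * g, M.mul_mem (M.mul_mem (M.inv_mem hgM) hx) hgM, by simp [mul_assoc]⟩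

end Cfsg.Agent.S3858
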