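import Cfsg.Statements.S3859
import Cfsg.Agent.H32.Sylow

set_option autoImplicit false
open Cfsg

namespace Cfsg.Agent.S3859

/-- Let G be a finite group with a normal non-abelian simple subgroup T whose centralizer is trivial (G almost simple with socle T), r a prime and R a Sylow r-subgroup of G meeting T nontrivially. If R lies in exactly one maximal subgroup of G, then G/T is an r-group. -/
theorem result {G : Type*} [Group G] [Finite G] (T : Subgroup G) [T.Normal] (hT : IsSimpleGroup T) (hna : ¬ IsMulCommutative T)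
    (hC : Subgroup.centralizer (T : Set G) = ⊥) {r : ℕ} [Fact r.Prime] (R : Sylow r G) (hR0 : (R : Subgroup G) ⊓ T ≠ ⊥)
    (huniq : ∃! M : Subgroup G, IsCoatom M ∧ (R : Subgroup G) ≤ M) : IsPGroup r (G ⧸ T) := by
  obtain ⟨M, hM, huni⟩ := huniq
  haveI : Finite (Subgroup G) := inferInstance
  have hcontain : ∀ H : Subgroup G, (R : Subgroup G) ≤ H → H ≠ ⊤ → H ≤ M := by
    intro H hRH hH
    obtain h | ⟨M', hM', hle⟩ := eq_top_or_exists_le_coatom H
    · exact absurd h hH
    · exact huni M' ⟨hM', hRH.trans hle⟩ ▸ hle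
  haveI : Fact r.Prime := inferInstance
  have hnorm : Subgroup.normalizer (((R : Subgroup G) ⊓ T : Subgroup G) : Set G) ≠ ⊤ := by
    intro h
    haveI : ((R : Subgroup G) ⊓ T).Normal := Subgroup.normalizer_eq_top_iff.mp h
    rcases hT.eq_bot_or_eq_top_of_normal (((R : Subgroup G) ⊓ T).subgroupOf T) inferInstance with h | h
    · rw [Subgroup.subgroupOf_eq_bot, disjoint_iff] at h
      exact hR0 (le_bot_iff.mp (h ▸ le_inf le_rfl inf_le_right))
    · rw [Subgroup.subgroupOf_eq_top] at h
      have hp : IsPGroup r T := R.isPGroup'.to_le (h.trans inf_le_left)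
      haveI := hT.toNontrivial
      haveI := hp.center_nontrivial
      rcases hT.eq_bot_or_eq_top_of_normal (Subgroup.center T) inferInstance with h' | h'
      · exact (Subgroup.nontrivial_iff_ne_bot _).mp inferInstance h'
      · exact hna ⟨⟨fun a b => (Subgroup.mem_center_iff.mp (h' ▸ Subgroup.mem_top b) a)⟩⟩
  have hNM : Subgroup.normalizer (((R : Subgroup G) ⊓ T : Subgroup G) : Set G) ≤ M := by
    exact hcontain _ (H32.sylow_le_normalizer_inf R T) hnorm
  have hRT : (R : Subgroup G) ⊔ T = ⊤ := by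
    by_contra h
    have hTM : T ≤ M := le_sup_right.trans (hcontain _ le_sup_left h)
    apply hM.1.1
    rw [eq_top_iff, ← H32.frattini_inf R T]
    exact sup_le hNM hTM
  intro q
  obtain ⟨g, rfl⟩ := QuotientGroup.mk'_surjective T q
  have hg : g ∈ (R : Subgroup G) ⊔ T := by rw [hRT]; trivial
  rw [← SetLike.mem_coe, Subgroup.mul_normal] at hg
  obtain ⟨a, ha, t, ht, rfl⟩ := hg
  obtain ⟨k, hk⟩ := R.isPGroup' ⟨a, ha⟩
  refine ⟨k, ?_⟩
  have : (QuotientGroup.mk' T) t = 1 := (QuotientGroup.eq_one_iff t).mpr ht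
  rw [map_mul, this, mul_one, ← map_pow]
  have : a ^ r ^ k = 1 := congrArg Subtype.val hk
  rw [this, map_one]

end Cfsg.Agent.S3859
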