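import Cfsg.Statements.S3864
import Cfsg.Agent.H68.DihedralFour

set_option autoImplicit false
open Cfsg

namespace Cfsg.Agent.S3864

set_option linter.all false

open Subgroup in
/-- If the reflection `x` is fused to the central involution, no normal subgroup has index `4`. -/
theorem no_index_four {G : Type*} [Group G] [Finite G] (S : Sylow 2 G) {c : G}
    (h : H68.Dih (S : Subgroup G) c) (hdz : H68.dz c ∈ zpowers (c ^ (2 : ℤ))) {x : G}
    (hx : x ∈ (S : Subgroup G)) (hxA : x ∉ zpowers c) (hconj : IsConj (H68.dz c) x)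
    (N : Subgroup G) (hN : N.Normal) : N.index ≠ 4 := by
  intro h4
  set π := QuotientGroup.mk' N with hπ
  have hcard : Nat.card (G ⧸ N) = 4 := by rw [← index_eq_card, h4]
  haveI : Fact (Nat.Prime 2) := ⟨Nat.prime_two⟩
  have hcomm : ∀ a b : G ⧸ N, a * b = b * a := by
    haveI := IsPGroup.isMulCommutative_of_card_eq_prime_sq (p := 2) (G := G ⧸ N) (by rw [hcard]; norm_num)
    exact fun a b => mul_comm' a b
  have hc2 : c ^ (2 : ℤ) ∈ N := by
    have h1 : π x * π c * (π x)⁻¹ = π c := by rw [hcomm (π x) (π c), mul_inv_cancel_right]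
    have h2 := congrArg π (h.conj_zpow' hx hxA 1)
    rw [zpow_one, map_mul, map_mul, map_inv, h1, zpow_neg, zpow_one, map_inv] at h2
    refine (QuotientGroup.eq_one_iff _).1 ?_
    show π (c ^ (2 : ℤ)) = 1
    rw [map_zpow, zpow_two]
    nth_rewrite 2 [h2]
    exact mul_inv_cancel _
  have hzN : H68.dz c ∈ N := (zpowers_le.2 hc2) hdz
  have hxN : x ∈ N := by
    obtain ⟨g, rfl⟩ := isConj_iff.1 hconj
    exact hN.conj_mem _ hzN g
  have htop : (S : Subgroup G).map π = ⊤ := by
    rw [← index_eq_one]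
    refine Nat.eq_one_of_dvd_coprimes (a := 4) (b := (S : Subgroup G).index) ?_ ?_ ?_
    · exact (Nat.prime_two.coprime_iff_not_dvd.2 S.not_dvd_index).pow_left 2
    · rw [← hcard]; exact index_dvd_card _
    · exact (S : Subgroup G).index_map_dvd (QuotientGroup.mk'_surjective N)
  have hle : (S : Subgroup G).map π ≤ zpowers (π c) := by
    rintro _ ⟨s, hs, rfl⟩
    by_cases hsA : s ∈ zpowers c
    · obtain ⟨i, rfl⟩ := hsA
      exact ⟨i, (map_zpow π c i).symm⟩
    · obtain ⟨i, hi⟩ := h.idx x hx s hs hxA hsA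
      refine ⟨i, ?_⟩
      have hπx : π x = 1 := (QuotientGroup.eq_one_iff x).2 hxN
      show π c ^ i = π s
      rw [← map_zpow, show c ^ i = x * s from hi, map_mul, hπx, one_mul]
  rw [htop] at hle
  have h5 := card_le_of_le hle
  rw [Nat.card_congr Subgroup.topEquiv.toEquiv, hcard, Nat.card_zpowers] at h5
  have h6 : orderOf (π c) ≤ 2 := orderOf_le_of_pow_eq_one two_pos (by
    rw [← map_pow]
    exact (QuotientGroup.eq_one_iff _).2 (by
      rw [show c ^ 2 = c ^ (2 : ℤ) from (zpow_natCast c 2).symm]; exact hc2))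
  omega

/-- Let G be a finite group whose Sylow 2-subgroups are dihedral of order 2 ^ n with n ≥ 3, and count the conjugacy classes of involutions of G. Then exactly one of the following holds: there is one class of involutions and no normal subgroup of index 2; there are two classes of involutions, a normal subgroup of index 2 and none of index 4; there are three classes of involutions and G has a normal 2-complement. -/
theorem result {G : Type*} [Group G] [Finite G] (P : Sylow 2 G) (n : ℕ) (hn : 3 ≤ n) (hdih : Nonempty (↥(P : Subgroup G) ≃* DihedralGroup (2 ^ (n - 1)))) : (Nat.card {C : ConjClasses G // ∃ g : G, ConjClasses.mk g = C ∧ orderOf g = 2} = 1 ∧ ∀ N : Subgroup G, N.Normal → N.index ≠ 2) ∨ (Nat.card {C : ConjClasses G // ∃ g : G, ConjClasses.mk g = C ∧ orderOf g = 2} = 2 ∧ (∃ N : Subgroup G, N.Normal ∧ N.index = 2) ∧ ∀ N : Subgroup G, N.Normal → N.index ≠ 4) ∨ (Nat.card {C : ConjClasses G // ∃ g : G, ConjClasses.mk g = C ∧ orderOf g = 2} = 3 ∧ Cfsg.HasNormalPComplement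 2 G) := by
  classical
  haveI : Fact (Nat.Prime 2) := ⟨Nat.prime_two⟩
  obtain ⟨eS⟩ := hdih
  have hm : 4 ≤ 2 ^ (n - 1) :=
    le_trans (by norm_num : 4 ≤ 2 ^ 2) (Nat.pow_le_pow_right (by norm_num) (by omega))
  obtain ⟨c, h, hcm⟩ := H68.exists_dih P.2 (by omega : 2 ≤ 2 ^ (n - 1)) eS
  obtain ⟨q, hq⟩ : 4 ∣ orderOf c := hcm ▸ (by
    rw [show (4 : ℕ) = 2 ^ 2 by norm_num]; exact pow_dvd_pow 2 (by omega))
  set z := H68.dz c with hz
  set d := c ^ (q : ℤ) with hd
  have hdd : d * d = z := by
    rw [hd, hz, H68.dz, ← zpow_natCast c (orderOf c / 2), ← zpow_add]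
    congr 1
    omega
  have hdz : z ∈ Subgroup.zpowers (c ^ (2 : ℤ)) :=
    ⟨(q : ℤ), by
      show (c ^ (2 : ℤ)) ^ (q : ℤ) = z
      rw [← hdd, hd, ← zpow_add, ← zpow_mul, two_mul]⟩
  have hdS : d ∈ (P : Subgroup G) := h.pow_mem _
  have hmove : ∀ u ∈ (P : Subgroup G), u ∉ Subgroup.zpowers c → d * u * d⁻¹ = z * u := by
    intro u hu huA
    have h1 := h.zpow_mul_comm' hu huA (-(q : ℤ))
    rw [neg_neg, zpow_neg] at h1
    rw [mul_assoc, h1, ← mul_assoc, hdd]
  obtain ⟨y, hy, hyA⟩ := h.exists_out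
  have hy' : y * c ∈ (P : Subgroup G) := mul_mem hy h.mem
  have hyA' : y * c ∉ Subgroup.zpowers c := by
    have := h.mul_zpow_not_mem hyA 1
    rwa [zpow_one] at this
  have hy2 : ∀ u ∈ (P : Subgroup G), u ∉ Subgroup.zpowers c → orderOf u = 2 := fun u hu huA =>
    H65.two_iff.2 ⟨h.invol u hu huA, fun e => huA (e ▸ one_mem _)⟩
  -- classes of involutions
  have hrefl : ∀ u ∈ (P : Subgroup G), u ∉ Subgroup.zpowers c → IsConj y u ∨ IsConj (y * c) u := by
    intro u hu huA
    obtain ⟨i, hi⟩ := Subgroup.mem_zpowers_iff.1 (h.idx y hy u hu hyA huA)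
    have hu' : u = y * c ^ i := by rw [hi, ← mul_assoc, h.invol y hy hyA, one_mul]
    have key : ∀ j : ℤ, c ^ j * u * (c ^ j)⁻¹ = y * c ^ (i - 2 * j) := fun j => by
      have h1 := h.zpow_mul_comm' hy hyA (-j)
      rw [neg_neg] at h1
      rw [hu', ← mul_assoc, ← h1, ← zpow_neg, mul_assoc, mul_assoc, ← zpow_add, ← zpow_add]
      congr 2
      ring
    rcases Int.even_or_odd i with ⟨j, hj⟩ | ⟨j, hj⟩
    · refine Or.inl (isConj_iff.2 ⟨c ^ j, ?_⟩ : IsConj u y).symm
      rw [key, show i - 2 * j = 0 by omega, zpow_zero, mul_one]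
    · refine Or.inr (isConj_iff.2 ⟨c ^ j, ?_⟩ : IsConj u (y * c)).symm
      rw [key, show i - 2 * j = 1 by omega, zpow_one]
  have hall : ∀ t : G, orderOf t = 2 → IsConj z t ∨ IsConj y t ∨ IsConj (y * c) t := by
    intro t ht
    obtain ⟨g, hg⟩ := H68.exists_cj_le P (Q := Subgroup.zpowers t)
      (IsPGroup.of_card (n := 1) (by rw [Nat.card_zpowers, ht, pow_one]))
    have hgt : g * t * g⁻¹ ∈ (P : Subgroup G) := hg ⟨t, Subgroup.mem_zpowers t, rfl⟩
    have hc : IsConj (g * t * g⁻¹) t := (isConj_iff.2 ⟨g, rfl⟩ : IsConj t (g * t * g⁻¹)).symm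
    by_cases hA : g * t * g⁻¹ ∈ Subgroup.zpowers c
    · rw [h.dz_unique (H65.two_conj ht g) hA] at hc; exact Or.inl hc
    · rcases hrefl _ hgt hA with h1 | h1
      · exact Or.inr (Or.inl (h1.trans hc))
      · exact Or.inr (Or.inr (h1.trans hc))
  set T := {C : ConjClasses G | ∃ g : G, ConjClasses.mk g = C ∧ orderOf g = 2} with hT
  have hTeq : T = {ConjClasses.mk z, ConjClasses.mk y, ConjClasses.mk (y * c)} := by
    ext C
    constructor
    · rintro ⟨t, rfl, ht⟩
      rcases hall t ht with e | e | e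
      · exact Or.inl (ConjClasses.mk_eq_mk_iff_isConj.2 e.symm)
      · exact Or.inr (Or.inl (ConjClasses.mk_eq_mk_iff_isConj.2 e.symm))
      · exact Or.inr (Or.inr (ConjClasses.mk_eq_mk_iff_isConj.2 e.symm))
    · rintro (rfl | rfl | rfl)
      · exact ⟨z, rfl, h.dz_two⟩
      · exact ⟨y, rfl, hy2 y hy hyA⟩
      · exact ⟨y * c, rfl, hy2 _ hy' hyA'⟩
  change (Nat.card ↥T = 1 ∧ _) ∨ (Nat.card ↥T = 2 ∧ _) ∨ (Nat.card ↥T = 3 ∧ _)
  rw [Nat.card_coe_set_eq, hTeq]
  have honeclass : IsConj z y → IsConj z (y * c) → ∀ a b : G, orderOf a = 2 → orderOf b = 2 → IsConj a b := by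
    intro h1 h2 a b ha hb
    have key : ∀ t, orderOf t = 2 → IsConj z t := by
      intro t ht
      rcases hall t ht with e | e | e
      exacts [e, h1.trans e, h2.trans e]
    exact (key a ha).symm.trans (key b hb)
  have hidx : ¬ (IsConj z y ∧ IsConj z (y * c)) → ∃ N : Subgroup G, N.Normal ∧ N.index = 2 := by
    intro hne
    by_contra hno
    push Not at hno
    have hno' : ∀ H : Subgroup G, H.index ≠ 2 := fun H hH =>
      hno H (Subgroup.normal_of_index_eq_two hH) hH
    exact hne ⟨(H68.isConj_dz P h hno' (hy2 y hy hyA)).symm, (H68.isConj_dz P h hno' (hy2 _ hy' hyA')).symm⟩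
  by_cases h1 : IsConj z y <;> by_cases h2 : IsConj z (y * c)
  · left
    refine ⟨?_, fun N _ => H68.index_ne_two_of_one_class P h (honeclass h1 h2) N⟩
    rw [← ConjClasses.mk_eq_mk_iff_isConj.2 h1, ← ConjClasses.mk_eq_mk_iff_isConj.2 h2]
    simp
  · right; left
    refine ⟨?_, hidx (fun e => h2 e.2), fun N hN => no_index_four P h hdz hy hyA h1 N hN⟩
    rw [← ConjClasses.mk_eq_mk_iff_isConj.2 h1, Set.insert_eq_of_mem (Set.mem_insert _ _)]
    exact Set.ncard_pair (fun e => h2 (ConjClasses.mk_eq_mk_iff_isConj.1 e))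
  · right; left
    refine ⟨?_, hidx (fun e => h1 e.1), fun N hN => no_index_four P h hdz hy' hyA' h2 N hN⟩
    rw [← ConjClasses.mk_eq_mk_iff_isConj.2 h2, Set.pair_comm (ConjClasses.mk y),
      Set.insert_eq_of_mem (Set.mem_insert _ _)]
    exact Set.ncard_pair (fun e => h1 (ConjClasses.mk_eq_mk_iff_isConj.1 e))
  · right; right
    -- no reflection is fused to the centre
    have hnz : ∀ u ∈ (P : Subgroup G), u ∉ Subgroup.zpowers c → ¬ IsConj z u := by
      intro u hu huA e
      rcases hrefl u hu huA with e1 | e1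
      · exact h1 (e.trans e1.symm)
      · exact h2 (e.trans e1.symm)
    have hcompl : Cfsg.HasNormalPComplement 2 G := by
      refine H68.hasNormalPComplement_of_klein P h fun U hUP hU => ?_
      obtain ⟨u, hu, huA, rfl⟩ := h.klein_eq hU hUP
      have hzu : z * u ∉ Subgroup.zpowers c := fun e =>
        huA ((Subgroup.mul_mem_cancel_left _ h.dz_mem_zpowers).1 e)
      have hzuP : z * u ∈ (P : Subgroup G) := mul_mem h.dz_mem hu
      have hzU : z ∈ h.four hu huA := (h.mem_four hu huA).2 (Or.inr (Or.inl rfl))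
      have huU : u ∈ h.four hu huA := (h.mem_four hu huA).2 (Or.inr (Or.inr (Or.inl rfl)))
      have hzz : z * z = 1 := H65.mul_self_of_two h.dz_two
      have hz1 : z ≠ 1 := H65.ne_one_of_two h.dz_two
      have hdN : d ∈ Subgroup.normalizer (h.four hu huA : Set G) := by
        have hcj : H70.cj d (h.four hu huA) = h.four hu huA := by
          refine H70.eq_of_cj_le ?_
          rintro _ ⟨v, hv, rfl⟩
          show d * v * d⁻¹ ∈ h.four hu huA
          have hdzc : d * z * d⁻¹ = z := by rw [← hdd]; group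
          rcases (h.mem_four hu huA).1 hv with rfl | rfl | rfl | rfl
          · simp
          · rw [hdzc]; exact hzU
          · rw [hmove v hu huA]; exact mul_mem hzU huU
          · rw [show d * (z * u) * d⁻¹ = (d * z * d⁻¹) * (d * u * d⁻¹) by group, hdzc, hmove u hu huA,
              ← mul_assoc, hzz, one_mul]
            exact huU
        rw [Subgroup.mem_normalizer_iff]
        intro v
        constructor
        · intro hv
          exact hcj ▸ (⟨v, hv, rfl⟩ : d * v * d⁻¹ ∈ H70.cj d (h.four hu huA))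
        · intro hv
          obtain ⟨w, hw, hwv⟩ : d * v * d⁻¹ ∈ H70.cj d (h.four hu huA) := hcj.symm ▸ hv
          have h5 : d * w * d⁻¹ = d * v * d⁻¹ := hwv
          rwa [← mul_left_cancel (mul_right_cancel h5)]
      refine le_antisymm ?_ (sup_le (Subgroup.centralizer_le_normalizer _) inf_le_right)
      intro g hg
      have himg : ∀ v ∈ h.four hu huA, v ≠ 1 →
          g * v * g⁻¹ = z ∨ g * v * g⁻¹ = u ∨ g * v * g⁻¹ = z * u :=
        fun v hv hv1 => ((h.mem_four hu huA).1 ((Subgroup.mem_normalizer_iff.1 hg v).1 hv)).resolve_left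
          (fun e => hv1 (conj_eq_one_iff.1 e))
      have hgz : g * z * g⁻¹ = z := by
        rcases himg z hzU hz1 with e | e | e
        · exact e
        · exact absurd (isConj_iff.2 ⟨g, e⟩) (hnz u hu huA)
        · exact absurd (isConj_iff.2 ⟨g, e⟩) (hnz _ hzuP hzu)
      have hcent : ∀ k : G, k * z * k⁻¹ = z → k * u * k⁻¹ = u →
          k ∈ Subgroup.centralizer (h.four hu huA : Set G) := by
        intro k hkz hku
        refine Subgroup.mem_centralizer_iff.2 fun v hv => (mul_inv_eq_iff_eq_mul.1 ?_).symm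
        rcases (h.mem_four hu huA).1 hv with rfl | rfl | rfl | rfl
        · group
        · exact hkz
        · exact hku
        · rw [show k * (z * u) * k⁻¹ = (k * z * k⁻¹) * (k * u * k⁻¹) by group, hkz, hku]
      rcases himg u huU (fun e => huA (e ▸ one_mem _)) with e | e | e
      · exact absurd (mul_left_cancel (mul_right_cancel (hgz.trans e.symm))) (fun e' => huA (e' ▸ h.dz_mem_zpowers))
      · exact Subgroup.mem_sup_left (hcent g hgz e)
      · have hk : d⁻¹ * g ∈ Subgroup.centralizer (h.four hu huA : Set G) := by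
          refine hcent _ ?_ ?_
          · rw [show d⁻¹ * g * z * (d⁻¹ * g)⁻¹ = d⁻¹ * (g * z * g⁻¹) * d by group, hgz, ← hdd]
            group
          · rw [show d⁻¹ * g * u * (d⁻¹ * g)⁻¹ = d⁻¹ * (g * u * g⁻¹) * d by group, e, ← hmove u hu huA]
            group
        have hgd : g = d * (d⁻¹ * g) := by group
        rw [hgd]
        exact mul_mem (Subgroup.mem_sup_right ⟨hdS, hdN⟩) (Subgroup.mem_sup_left hk)
    refine ⟨?_, hcompl⟩
    have hne3 : ¬ IsConj y (y * c) := by
      intro e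
      obtain ⟨N, hN, hc⟩ := (H5.hasNormalPComplement_iff_exists P).1 hcompl
      obtain ⟨g, hg⟩ := isConj_iff.1 e
      obtain ⟨k, hk, s, hs, rfl⟩ := Subgroup.mem_sup_of_normal_left.1
        (show g ∈ N ⊔ (P : Subgroup G) by rw [hc.sup_eq_top]; trivial)
      have hb : s * y * s⁻¹ ∈ (P : Subgroup G) := mul_mem (mul_mem hs hy) (inv_mem hs)
      have h5 : y * c * (s * y * s⁻¹)⁻¹ ∈ N := by
        rw [← hg]
        have := mul_mem hk (hN.conj_mem k⁻¹ (inv_mem hk) (s * y * s⁻¹))
        convert this using 1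
        group
      have h6 : y * c = s * y * s⁻¹ :=
        mul_inv_eq_one.1 ((Subgroup.disjoint_def.1 hc.disjoint) h5 (mul_mem hy' (inv_mem hb)))
      have hmem := h.conj_mul_self_mem hs hy hyA
      have hyc : y * c * y = c⁻¹ := by
        have := h.conj_zpow' hy hyA 1
        rwa [zpow_one, h.inv_eq hy hyA, zpow_neg, zpow_one] at this
      rw [← h6, hyc, inv_mem_iff] at hmem
      exact h.not_mem_sq hmem
    rw [Set.ncard_insert_of_notMem, Set.ncard_pair]
    · exact fun e => hne3 (ConjClasses.mk_eq_mk_iff_isConj.1 e)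
    · simp only [Set.mem_insert_iff, Set.mem_singleton_iff, ConjClasses.mk_eq_mk_iff_isConj]
      exact fun e => e.elim h1 h2

end Cfsg.Agent.S3864
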