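import Cfsg.Statements.S3866
import Mathlib

set_option autoImplicit false
open Cfsg
open scoped commutatorElement

namespace Cfsg.Agent.S3866

/-- Let A be a commutative normal subgroup of the finite group G with G generated by A and an element x. Then a ↦ x a x⁻¹ a⁻¹ is a surjective homomorphism from A onto the commutator subgroup of G whose kernel is the centralizer of x in A; in particular the commutator subgroup has order equal to the index in A of that centralizer. -/
theorem result {G : Type*} [Group G] [Finite G] (A : Subgroup G) [A.Normal] (hA : IsMulCommutative A) (x : G) (hgen : A ⊔ Subgroup.zpowers x = ⊤) : (∀ a ∈ A, x * a * x⁻¹ * a⁻¹ ∈ commutator G) ∧ (∀ c ∈ commutator G, ∃ a ∈ A, x * a * x⁻¹ * a⁻¹ = c) ∧ (∀ a ∈ A, ∀ b ∈ A, x * (a * b) * x⁻¹ * (a * b)⁻¹ = (x * a * x⁻¹ * a⁻¹) * (x * b * x⁻¹ * b⁻¹)) ∧ Nat.card (commutator G) * Nat.card ↥(A ⊓ Subgroup.centralizer ({x} : Set G)) = Nat.card A := by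
  have hc : ∀ a ∈ A, ∀ b ∈ A, a * b = b * a := fun a ha b hb => congrArg Subtype.val (mul_comm' (⟨a, ha⟩ : A) ⟨b, hb⟩)
  have hN : A.Normal := inferInstance
  have hconj : ∀ a ∈ A, x * a * x⁻¹ * a⁻¹ ∈ A := fun a ha => A.mul_mem (hN.conj_mem a ha x) (A.inv_mem ha)
  have hhom : ∀ a ∈ A, ∀ b ∈ A, x * (a * b) * x⁻¹ * (a * b)⁻¹ = (x * a * x⁻¹ * a⁻¹) * (x * b * x⁻¹ * b⁻¹) := by
    intro a ha b hb
    calc x * (a * b) * x⁻¹ * (a * b)⁻¹ = (x * a * x⁻¹) * ((x * b * x⁻¹ * b⁻¹) * a⁻¹) := by group
      _ = (x * a * x⁻¹) * (a⁻¹ * (x * b * x⁻¹ * b⁻¹)) := by rw [hc _ (hconj b hb) _ (A.inv_mem ha)]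
      _ = _ := by group
  let φ : A →* G := MonoidHom.mk' (fun a => x * (a:G) * x⁻¹ * (a:G)⁻¹) (fun a b => hhom a a.2 b b.2)
  have hrange : φ.range = commutator G := by
    apply le_antisymm
    · rintro _ ⟨a, rfl⟩
      exact Subgroup.commutator_mem_commutator (Subgroup.mem_top _) (Subgroup.mem_top _)
    · have hle : φ.range ≤ A := by rintro _ ⟨a, rfl⟩; exact hconj a a.2
      have hxnorm : ∀ k ∈ φ.range, x * k * x⁻¹ ∈ φ.range := by
        rintro _ ⟨a, rfl⟩
        exact ⟨⟨x * a * x⁻¹, hN.conj_mem a a.2 x⟩, by show x * (x * (a:G) * x⁻¹) * x⁻¹ * (x * (a:G) * x⁻¹)⁻¹ = x * (x * (a:G) * x⁻¹ * (a:G)⁻¹) * x⁻¹; group⟩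
      have hnormal : φ.range.Normal := by
        rw [← Subgroup.normalizer_eq_top_iff, eq_top_iff, ← hgen, sup_le_iff, Subgroup.zpowers_le]
        constructor
        · intro a ha
          rw [Subgroup.mem_normalizer_iff]
          intro k
          constructor
          · intro hk
            rw [hc a ha k (hle hk), mul_inv_cancel_right]; exact hk
          · intro hk
            have := hc a ha _ (hle hk)
            have h2 : k = a * k * a⁻¹ := by
              have := congrArg (fun z => a⁻¹ * z) this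
              simp [mul_assoc] at this
              simpa [mul_assoc] using this.symm
            rw [h2]; exact hk
        · exact Subgroup.mem_normalizer_fintype hxnorm
      let π := QuotientGroup.mk' φ.range
      have hcomm : ∀ a ∈ A, Commute (π a) (π x) := by
        intro a ha
        have hm : x * a * x⁻¹ * a⁻¹ ∈ φ.range := ⟨⟨a, ha⟩, rfl⟩
        have := (QuotientGroup.eq_one_iff _).2 hm
        show π a * π x = π x * π a
        have h2 : π (x * a * x⁻¹ * a⁻¹) = 1 := this
        simp only [map_mul, map_inv] at h2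
        have h3 := mul_inv_eq_one.1 h2
        conv_lhs => rw [← h3]
        simp
      let S : Subgroup (G ⧸ φ.range) := Subgroup.closure ((π '' A) ∪ {π x})
      have hScomm : IsMulCommutative S := by
        apply Subgroup.isMulCommutative_closure
        rintro u (⟨a, ha, rfl⟩ | rfl) v (⟨b, hb, rfl⟩ | rfl)
        · rw [← map_mul, ← map_mul, hc a ha b hb]
        · exact hcomm a ha
        · exact (hcomm b hb).symm
        · rfl
      have hStop : ∀ g, π g ∈ S := by
        intro g
        have : g ∈ S.comap π := by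
          have h : A ⊔ Subgroup.zpowers x ≤ S.comap π := sup_le
            (fun a ha => Subgroup.subset_closure (Or.inl ⟨a, ha, rfl⟩))
            ((Subgroup.zpowers_le).2 (Subgroup.subset_closure (Or.inr rfl)))
          exact h (hgen ▸ Subgroup.mem_top g)
        exact this
      rw [commutator_def, Subgroup.commutator_le]
      intro a _ b _
      rw [← QuotientGroup.eq_one_iff]
      show π ⁅a, b⁆ = 1
      rw [map_commutatorElement, commutatorElement_eq_one_iff_commute]
      exact congrArg Subtype.val (mul_comm' (⟨π a, hStop a⟩ : S) ⟨π b, hStop b⟩)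
  refine ⟨fun a ha => hrange ▸ ⟨⟨a, ha⟩, rfl⟩, ?_, hhom, ?_⟩
  · intro c hcm
    rw [← hrange] at hcm
    obtain ⟨a, rfl⟩ := hcm
    exact ⟨a, a.2, rfl⟩
  · have hker : φ.ker = (A ⊓ Subgroup.centralizer ({x} : Set G)).subgroupOf A := by
      ext a
      rw [MonoidHom.mem_ker, Subgroup.mem_subgroupOf, Subgroup.mem_inf, Subgroup.mem_centralizer_singleton_iff]
      show x * (a:G) * x⁻¹ * (a:G)⁻¹ = 1 ↔ _
      rw [mul_inv_eq_one, mul_inv_eq_iff_eq_mul]
      simp [eq_comm]
    rw [← hrange, ← Nat.card_congr (QuotientGroup.quotientKerEquivRange φ).toEquiv,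
      ← Nat.card_congr (Subgroup.subgroupOfEquivOfLe (inf_le_left : A ⊓ Subgroup.centralizer ({x} : Set G) ≤ A)).toEquiv, ← hker,
      ← Subgroup.card_eq_card_quotient_mul_card_subgroup]

end Cfsg.Agent.S3866
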