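import Cfsg.Statements.S3867
import Cfsg.Agent.H27.SylowLift

set_option autoImplicit false
open Cfsg

namespace Cfsg.Agent.S3867

open Subgroup

variable {G : Type*} [Group G]

private theorem comap_map (H K : Subgroup G) [K.Normal] :
    (H.map (QuotientGroup.mk' K)).comap (QuotientGroup.mk' K) = H ⊔ K := by
  rw [comap_map_eq, QuotientGroup.ker_mk']

private theorem frattini_quot [Finite G] {p : ℕ} [Fact p.Prime] (P : Sylow p G) (K : Subgroup G)
    [K.Normal] :
    normalizer (((P : Subgroup G) ⊔ K : Subgroup G) : Set G) =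
      normalizer ((P : Subgroup G) : Set G) ⊔ K := by
  refine le_antisymm (fun g hg => ?_) (sup_le (fun g hg => ?_) ?_)
  · rw [← comap_map, ← comap_normalizer_eq_of_surjective _ (QuotientGroup.mk'_surjective K),
      mem_comap] at hg
    obtain ⟨b, hb, n, hn, hbn⟩ := H27.exists_normalizer_lift K P hg
    obtain ⟨a, ha, rfl⟩ := hb
    have hmem : (a * g)⁻¹ * n ∈ K := QuotientGroup.eq.mp hbn
    have h1 : n * ((a * g)⁻¹ * n)⁻¹ = a * g := by group
    have h2 : a * g ∈ normalizer ((P : Subgroup G) : Set G) ⊔ K :=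
      h1 ▸ mul_mem (mem_sup_left hn) (mem_sup_right (inv_mem hmem))
    have h3 : a ∈ normalizer ((P : Subgroup G) : Set G) ⊔ K :=
      mem_sup_left (le_normalizer ha)
    simpa using mul_mem (inv_mem h3) h2
  · rw [mem_normalizer_iff_map_conj_eq, Subgroup.map_sup, mem_normalizer_iff_map_conj_eq.mp hg]
    exact congrArg _ ((inferInstance : K.Normal).map_conj_eq K g)
  · exact (le_sup_right : K ≤ (P : Subgroup G) ⊔ K).trans le_normalizer

private theorem card_sup_mul (A N : Subgroup G) [N.Normal] :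
    Nat.card (A ⊔ N : Subgroup G) * Nat.card (A ⊓ N : Subgroup G) = Nat.card A * Nat.card N := by
  have h1 : Nat.card N * N.relIndex (A ⊔ N) = Nat.card (A ⊔ N : Subgroup G) := by
    rw [← relIndex_bot_left, relIndex_mul_relIndex _ _ _ bot_le le_sup_right, relIndex_bot_left]
  have h2 : Nat.card (A ⊓ N : Subgroup G) * N.relIndex A = Nat.card A := by
    rw [inf_comm, ← relIndex_bot_left, ← inf_relIndex_right N A,
      relIndex_mul_relIndex _ _ _ bot_le inf_le_right, relIndex_bot_left]
  rw [← h1, ← h2, relIndex_sup_right]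
  ring

/-- Let M and N be nontrivial normal subgroups of the finite group G with M ⊓ N trivial, and let p be a prime. Writing n(X) for the number of Sylow p-subgroups of a group X, one has n(G) · n(G/MN) = n(G/M) · n(G/N). -/
theorem result {G : Type*} [Group G] [Finite G] (p : ℕ) [Fact p.Prime] (M N : Subgroup G) [M.Normal] [N.Normal] (hM : M ≠ ⊥) (hN : N ≠ ⊥) (hMN : M ⊓ N = ⊥) : Nat.card (Sylow p G) * Nat.card (Sylow p (G ⧸ (M ⊔ N))) = Nat.card (Sylow p (G ⧸ M)) * Nat.card (Sylow p (G ⧸ N)) := by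
  obtain ⟨P⟩ : Nonempty (Sylow p G) := inferInstance
  have hcount : ∀ (K : Subgroup G) [K.Normal], Nat.card (Sylow p (G ⧸ K)) =
      (normalizer ((P : Subgroup G) : Set G) ⊔ K).index := by
    intro K _
    rw [Sylow.card_eq_index_normalizer (P.mapSurjective (QuotientGroup.mk'_surjective K)),
      ← index_comap_of_surjective _ (QuotientGroup.mk'_surjective K),
      ← frattini_quot, ← comap_map,
      ← comap_normalizer_eq_of_surjective _ (QuotientGroup.mk'_surjective K)]
    rfl
  rw [hcount, hcount, hcount, Sylow.card_eq_index_normalizer P]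
  set R := normalizer ((P : Subgroup G) : Set G) with hR
  have hmem : (R ⊔ M) ⊓ N = R ⊓ N := by
    refine le_antisymm (fun g hg => ⟨?_, hg.2⟩) (inf_le_inf_right _ le_sup_left)
    have hg1 : g ∈ normalizer (((P : Subgroup G) ⊔ M : Subgroup G) : Set G) := by
      rw [frattini_quot]; exact hg.1
    have hg2 : g ∈ normalizer (((P : Subgroup G) ⊔ N : Subgroup G) : Set G) := by
      rw [frattini_quot]; exact mem_sup_right hg.2
    set I := ((P : Subgroup G) ⊔ M) ⊓ ((P : Subgroup G) ⊔ N)
    have hIp : IsPGroup p I := by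
      rintro ⟨x, hxM, hxN⟩
      have key : ∀ (K : Subgroup G) [K.Normal], x ∈ (P : Subgroup G) ⊔ K →
          ∃ k, x ^ p ^ k ∈ K := by
        intro K _ hxK
        rw [← comap_map, mem_comap] at hxK
        obtain ⟨k, hk⟩ := P.isPGroup'.map (QuotientGroup.mk' K) ⟨_, hxK⟩
        refine ⟨k, ?_⟩
        rw [← QuotientGroup.eq_one_iff, QuotientGroup.mk_pow]
        exact congrArg Subtype.val hk
      obtain ⟨a, ha⟩ := key M hxM
      obtain ⟨b, hb⟩ := key N hxN
      refine ⟨a + b, Subtype.ext ?_⟩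
      have h1 : x ^ p ^ (a + b) ∈ M ⊓ N :=
        ⟨by rw [pow_add, pow_mul]; exact pow_mem ha _,
         by rw [pow_add, mul_comm, pow_mul]; exact pow_mem hb _⟩
      rw [hMN, mem_bot] at h1
      exact h1
    have hI : I = P := P.is_maximal' hIp (le_inf le_sup_left le_sup_left)
    show g ∈ R
    rw [hR, ← hI, mem_normalizer_iff]
    intro a
    exact and_congr (mem_normalizer_iff.mp hg1 a) (mem_normalizer_iff.mp hg2 a)
  -- relative indices
  have e1 : Nat.card (R ⊔ (M ⊔ N) : Subgroup G) * Nat.card R =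
      Nat.card (R ⊔ M : Subgroup G) * Nat.card (R ⊔ N : Subgroup G) := by
    have h1 := card_sup_mul (R ⊔ M) N
    have h2 := card_sup_mul R N
    rw [hmem, sup_assoc] at h1
    have hpos : 0 < Nat.card (R ⊓ N : Subgroup G) := Nat.card_pos
    refine Nat.eq_of_mul_eq_mul_right hpos ?_
    calc Nat.card (R ⊔ (M ⊔ N) : Subgroup G) * Nat.card R * Nat.card (R ⊓ N : Subgroup G)
        = (Nat.card (R ⊔ (M ⊔ N) : Subgroup G) * Nat.card (R ⊓ N : Subgroup G)) * Nat.card R := by
          ring
      _ = Nat.card (R ⊔ M : Subgroup G) * (Nat.card R * Nat.card N) := by rw [h1]; ring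
      _ = _ := by rw [← h2]; ring
  have a1 := R.card_mul_index
  have a2 := (R ⊔ (M ⊔ N)).card_mul_index
  have a3 := (R ⊔ M).card_mul_index
  have a4 := (R ⊔ N).card_mul_index
  have hpos : 0 < Nat.card (R ⊔ (M ⊔ N) : Subgroup G) * Nat.card R :=
    Nat.mul_pos Nat.card_pos Nat.card_pos
  refine Nat.eq_of_mul_eq_mul_left hpos ?_
  calc Nat.card (R ⊔ (M ⊔ N) : Subgroup G) * Nat.card R * (R.index * (R ⊔ (M ⊔ N)).index)
      = (Nat.card R * R.index) * (Nat.card (R ⊔ (M ⊔ N) : Subgroup G) * (R ⊔ (M ⊔ N)).index) := by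
        ring
    _ = (Nat.card (R ⊔ M : Subgroup G) * (R ⊔ M).index) *
          (Nat.card (R ⊔ N : Subgroup G) * (R ⊔ N).index) := by rw [a1, a2, a3, a4]
    _ = _ := by rw [e1]; ring

end Cfsg.Agent.S3867
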