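import Cfsg.Statements.S3869
import Cfsg.Agent.H35.MinimalNormal
import Mathlib

set_option autoImplicit false
set_option linter.all false
open Cfsg

namespace Cfsg.Agent.S3869

/-- Let p and q be distinct primes and G a finite non-abelian group with a normal elementary abelian q-subgroup A that is a minimal normal subgroup of G and has index p. Then A has order q^e with e the multiplicative order of q modulo p, and G is minimal non-p-closed: its Sylow p-subgroups are not normal, while in every proper subgroup and in every proper quotient of G the Sylow p-subgroups are normal. -/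
theorem result {G : Type*} [Group G] [Finite G] {p q : ℕ} [Fact p.Prime] (hq : q.Prime) (hpq : q ≠ p)
    (hna : ¬ IsMulCommutative G) (A : Subgroup G) [A.Normal] (hA : Cfsg.IsElementaryAbelian q A) (hidx : A.index = p)
    (hmin : ∀ B : Subgroup G, B.Normal → B ≤ A → B = ⊥ ∨ B = A) :
    Nat.card ↥A = q ^ orderOf (q : ZMod p) ∧ ¬ Cfsg.IsPClosed p G ∧ (∀ H : Subgroup G, H ≠ ⊤ → Cfsg.IsPClosed p ↥H) ∧
      ∀ (N : Subgroup G) [N.Normal], N ≠ ⊥ → Cfsg.IsPClosed p (G ⧸ N) := by
  classical
  have hp := (Fact.out : p.Prime)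
  obtain ⟨hcomm, hexp⟩ := hA
  have hcA : ∀ a ∈ A, ∀ b ∈ A, a * b = b * a := fun a ha b hb =>
    congrArg Subtype.val (hcomm.1.comm ⟨a, ha⟩ ⟨b, hb⟩)
  haveI : Fact q.Prime := ⟨hq⟩
  have hqA : IsPGroup q A := fun a => ⟨1, Subtype.ext (by simpa using hexp a a.2)⟩
  obtain ⟨d, hd⟩ := IsPGroup.iff_card.mp hqA
  have hcardG : Nat.card G = q ^ d * p := by
    rw [← hd, ← hidx]; exact A.card_mul_index.symm
  have hpA : ¬ p ∣ Nat.card A := by
    rw [hd]; intro h
    exact hpq ((Nat.prime_dvd_prime_iff_eq hp hq).mp (hp.dvd_of_dvd_pow h)).symm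
  obtain ⟨P⟩ : Nonempty (Sylow p G) := inferInstance
  have hPcard : Nat.card P = p := by
    rw [P.card_eq_multiplicity, hcardG, Nat.factorization_mul (pow_ne_zero _ hq.ne_zero) hp.ne_zero,
      Finsupp.add_apply, hp.factorization_self, hq.factorization_pow,
      Finsupp.single_eq_of_ne (by exact hpq.symm), zero_add, pow_one]
  have hPA : (P : Subgroup G) ⊓ A = ⊥ := by
    refine Subgroup.inf_eq_bot_of_coprime ?_
    rw [hPcard]; exact (Nat.Prime.coprime_iff_not_dvd hp).mpr hpA
  have hAmax : ∀ H : Subgroup G, ¬ H ≤ A → H ⊔ A = ⊤ := by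
    intro H hH
    have hd1 := Subgroup.index_dvd_of_le (le_sup_right : A ≤ H ⊔ A)
    rw [hidx] at hd1
    rcases (Nat.dvd_prime hp).mp hd1 with h | h
    · exact Subgroup.index_eq_one.mp h
    · exfalso; apply hH
      have hr := Subgroup.relIndex_mul_index (le_sup_right : A ≤ H ⊔ A)
      rw [h, hidx] at hr
      have h1 : A.relIndex (H ⊔ A) = 1 := by
        have := hp.pos; exact Nat.eq_of_mul_eq_mul_right this (by rw [hr, one_mul])
      exact le_sup_left.trans (Subgroup.relIndex_eq_one.mp h1)
  -- `A` contains no nontrivial central element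
  have hZ : A ⊓ Subgroup.center G = ⊥ := by
    rcases hmin (A ⊓ Subgroup.center G) inferInstance inf_le_left with h | h
    · exact h
    · exfalso; apply hna
      have hle : A ≤ Subgroup.center G := inf_eq_left.mp h
      haveI : IsCyclic (G ⧸ A) := isCyclic_of_prime_card (p := p) (by rw [← hidx]; rfl)
      exact ⟨⟨commutative_of_cyclic_center_quotient (QuotientGroup.mk' A)
        (by rw [QuotientGroup.ker_mk']; exact hle)⟩⟩
  -- subgroups not in `A` meet `A` in `⊥` or `A`
  have hnorm : ∀ H : Subgroup G, ¬ H ≤ A → H ⊓ A = ⊥ ∨ A ≤ H := by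
    intro H hH
    have hn : (H ⊓ A).Normal := by
      rw [← Subgroup.normalizer_eq_top_iff, eq_top_iff, ← hAmax H hH, sup_le_iff]
      constructor
      · intro h hh
        rw [Subgroup.mem_normalizer_iff]
        intro y
        simp only [Subgroup.mem_inf]
        constructor
        · rintro ⟨h1, h2⟩
          exact ⟨H.mul_mem (H.mul_mem hh h1) (H.inv_mem hh), ‹A.Normal›.conj_mem y h2 h⟩
        · rintro ⟨h1, h2⟩
          have e : y = h⁻¹ * (h * y * h⁻¹) * h := by group
          rw [e]
          exact ⟨H.mul_mem (H.mul_mem (H.inv_mem hh) h1) hh, by simpa using ‹A.Normal›.conj_mem _ h2 h⁻¹⟩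
      · intro a ha
        rw [Subgroup.mem_normalizer_iff]
        intro y
        simp only [Subgroup.mem_inf]
        constructor
        · rintro ⟨h1, h2⟩
          rw [hcA a ha y h2, mul_inv_cancel_right]; exact ⟨h1, h2⟩
        · rintro ⟨h1, h2⟩
          have hy : y ∈ A := by
            have e : y = a⁻¹ * (a * y * a⁻¹) * a := by group
            rw [e]; exact A.mul_mem (A.mul_mem (A.inv_mem ha) h2) ha
          rw [hcA a ha y hy, mul_inv_cancel_right] at h1
          exact ⟨h1, hy⟩
    exact (hmin _ hn inf_le_right).imp id fun h => inf_eq_right.mp h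
  -- a subgroup meeting `A` trivially has order dividing `p`
  have hsmall : ∀ H : Subgroup G, H ⊓ A = ⊥ → Nat.card H ∣ p := by
    intro H h
    have h1 := Subgroup.inf_relIndex_left H A
    rw [h, Subgroup.relIndex_bot_left] at h1
    rw [h1, ← hidx]
    exact Subgroup.relIndex_dvd_index_of_normal A H
  have hPnA : ¬ (P : Subgroup G) ≤ A := fun h =>
    hpA (hPcard ▸ Subgroup.card_dvd_of_le h)
  have hPN : ∀ Q : Sylow p G, (Q : Subgroup G).Normal → False := by
    intro Q hQ
    haveI := Sylow.unique_of_normal Q hQ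
    have hQP : Q = P := Subsingleton.elim _ _
    subst hQP
    have hc : A ≤ Subgroup.centralizer ((Q : Subgroup G) : Set G) := fun a ha =>
      Subgroup.mem_centralizer_iff.mpr fun y hy =>
        (Subgroup.commute_of_normal_of_disjoint (Q : Subgroup G) A hQ inferInstance
          (disjoint_iff.mpr hPA) y a hy ha)
    have : A ≤ Subgroup.center G := by
      intro a ha
      rw [← Subgroup.centralizer_univ, ← Subgroup.coe_top, ← hAmax _ hPnA, Subgroup.mem_centralizer_iff]
      have hmem : a ∈ Subgroup.centralizer (((Q : Subgroup G) ⊔ A : Subgroup G) : Set G) := by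
        rw [Subgroup.sup_eq_closure, Subgroup.centralizer_closure, Subgroup.mem_centralizer_iff]
        rintro y (hy | hy)
        · exact Subgroup.mem_centralizer_iff.mp (hc ha) y hy
        · exact hcA y hy a ha
      exact Subgroup.mem_centralizer_iff.mp hmem
    have hAbot : A = ⊥ := le_bot_iff.mp (hZ ▸ le_inf le_rfl this)
    apply hna
    haveI : IsCyclic G := isCyclic_of_prime_card (p := p) (by
      rw [← hidx, hAbot, Subgroup.index_bot])
    infer_instance
  have hN : Subgroup.normalizer ((P : Subgroup G) : Set G) = P := by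
    have hle : (P : Subgroup G) ≤ Subgroup.normalizer ((P : Subgroup G) : Set G) := Subgroup.le_normalizer
    rcases hnorm _ (fun h => hPnA (hle.trans h)) with h | h
    · refine (Subgroup.eq_of_le_of_card_ge hle ?_).symm
      rw [hPcard]
      exact Nat.le_of_dvd hp.pos (hsmall _ h)
    · exfalso
      refine hPN P (Subgroup.normalizer_eq_top_iff.mp (top_le_iff.mp ?_))
      rw [← hAmax _ hPnA]
      exact sup_le hle h
  have hnp : Nat.card (Sylow p G) = q ^ d := by
    have hi := (P : Subgroup G).card_mul_index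
    rw [hPcard, hcardG, mul_comm (q ^ d) p] at hi
    rw [P.card_eq_index_normalizer, show Subgroup.normalizer (P : Set G) = (P : Subgroup G) from hN]
    exact Nat.eq_of_mul_eq_mul_left hp.pos hi
  refine ⟨?_, fun h => hPN P (h P), ?_, ?_⟩
  rotate_left
  · -- proper subgroups
    intro H hH Q
    by_cases hle : H ≤ A
    · have : Subsingleton Q := by
        have h1 := (Subgroup.card_subgroup_dvd_card (Q : Subgroup H)).trans (Subgroup.card_dvd_of_le hle)
        obtain ⟨k, hk⟩ := IsPGroup.iff_card.mp Q.isPGroup'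
        rw [hk] at h1
        rcases k with _ | k
        · exact (Nat.card_eq_one_iff_unique.mp (by simpa using hk)).1
        · exact absurd ((dvd_pow_self p k.succ_ne_zero).trans h1) hpA
      rw [Subgroup.eq_bot_of_subsingleton (Q : Subgroup H)]; infer_instance
    · rcases hnorm H hle with h | h
      · rw [← Q.is_maximal' (Q := ⊤) (IsPGroup.of_equiv ?_ Subgroup.topEquiv.symm) le_top]
        · infer_instance
        · rcases (Nat.dvd_prime hp).mp (hsmall H h) with hc | hc
          · exact IsPGroup.of_card (n := 0) (by simpa using hc)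
          · exact IsPGroup.of_card (n := 1) (by simpa using hc)
      · exact absurd (top_le_iff.mp ((hAmax H hle) ▸ sup_le le_rfl h)) hH
  · intro N hNn hNb Q
    have hAN : A ≤ N := by
      rcases hmin (A ⊓ N) inferInstance inf_le_left with h | h
      · exfalso
        have hna' : ¬ N ≤ A := fun hle => hNb (by rw [← h, inf_eq_right.mpr hle])
        have hc : Nat.card N = p := by
          rcases (Nat.dvd_prime hp).mp (hsmall N (by rwa [inf_comm])) with hc | hc
          · exact absurd (Subgroup.card_eq_one.mp hc) hNb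
          · exact hc
        obtain ⟨Q', hQ'⟩ := (IsPGroup.of_card (n := 1) (by simpa using hc) : IsPGroup p N).exists_le_sylow
        have : N = Q' := by
          refine Subgroup.eq_of_le_of_card_ge hQ' ?_
          rw [hc, Q'.card_eq_multiplicity, ← P.card_eq_multiplicity, hPcard]
        exact hPN Q' (this ▸ hNn)
      · exact inf_eq_left.mp h
    rw [← Q.is_maximal' (Q := ⊤) (IsPGroup.of_equiv ?_ Subgroup.topEquiv.symm) le_top]
    · infer_instance
    · have h1 := Subgroup.index_dvd_of_le hAN
      rw [hidx] at h1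
      rcases (Nat.dvd_prime hp).mp h1 with hc | hc
      · exact IsPGroup.of_card (n := 0) (by simpa [Subgroup.index] using hc)
      · exact IsPGroup.of_card (n := 1) (by simpa [Subgroup.index] using hc)
  -- the order of `A`
  set e := orderOf (q : ZMod p) with he
  have hqd : (q : ZMod p) ^ d = 1 := by
    have h1 := card_sylow_modEq_one p G
    rw [hnp, ← ZMod.natCast_eq_natCast_iff] at h1
    simpa using h1
  have hed : e ∣ d := orderOf_dvd_of_pow_eq_one hqd
  have hd0 : d ≠ 0 := by
    rintro rfl
    haveI : IsCyclic G := isCyclic_of_prime_card (p := p) (by simpa using hcardG)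
    exact hna inferInstance
  rw [hd]
  refine congrArg (q ^ ·) (le_antisymm ?_ (Nat.le_of_dvd (Nat.pos_of_ne_zero hd0) hed))
  obtain ⟨x, hxP, hx1⟩ := (P : Subgroup G).ne_bot_iff_exists_ne_one.mp (by
    intro h
    have : Nat.card (P : Subgroup G) = 1 := by rw [h]; exact Subgroup.card_bot
    exact hp.ne_one (hPcard ▸ this)) |> fun ⟨x, hx⟩ => (⟨x.1, x.2, fun h => hx (Subtype.ext h)⟩ :
      ∃ x, x ∈ (P : Subgroup G) ∧ x ≠ 1)
  have hxA : x ∉ A := fun h => hx1 (Subgroup.mem_bot.mp (hPA ▸ ⟨hxP, h⟩))
  have hxp : x ^ p = 1 := by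
    have h1 := orderOf_dvd_natCard (⟨x, hxP⟩ : (P : Subgroup G))
    rw [Subgroup.orderOf_mk, hPcard] at h1
    exact orderOf_dvd_iff_pow_eq_one.mp h1
  have hAne : A ≠ ⊥ := by
    intro h; apply hd0
    rw [h, Subgroup.card_bot] at hd
    exact (Nat.pow_eq_one.mp hd.symm).resolve_left hq.ne_one
  haveI := hcomm
  have he0 : e ≠ 0 := fun h0 => hd0 (zero_dvd_iff.mp (h0 ▸ hed))
  exact H35.minimal_normal_dim_le A hq hexp x hxp
    (hAmax (Subgroup.zpowers x) (fun h => hxA (h (Subgroup.mem_zpowers x))))
    hmin hAne hd he0 (pow_orderOf_eq_one _)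

end Cfsg.Agent.S3869
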