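import Cfsg.Statements.S3870
import Cfsg.Agent.H32.PClosed

set_option autoImplicit false
open Cfsg

namespace Cfsg.Agent.S3870

/-- Let G be a finite simple group whose Sylow p-subgroups are not normal but such that every proper subgroup of G has a normal Sylow p-subgroup. Then any two distinct Sylow p-subgroups of G intersect trivially, and for every Sylow p-subgroup P the normalizer of every non-identity subgroup of P lies in the normalizer of P. -/
theorem result {G : Type*} [Group G] [Finite G] [IsSimpleGroup G] {p : ℕ} [Fact p.Prime]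
    (hnc : ¬ Cfsg.IsPClosed p G) (hsub : ∀ H : Subgroup G, H ≠ ⊤ → Cfsg.IsPClosed p ↥H) :
    (∀ P Q : Sylow p G, P ≠ Q → (P : Subgroup G) ⊓ (Q : Subgroup G) = ⊥) ∧
      ∀ (P : Sylow p G) (R : Subgroup G), R ≤ P → R ≠ ⊥ →
        Subgroup.normalizer (R : Set G) ≤ Subgroup.normalizer ((P : Subgroup G) : Set G) := by
  classical
  have hTI : ∀ P Q : Sylow p G, P ≠ Q → (P : Subgroup G) ⊓ (Q : Subgroup G) = ⊥ := by
    intro P
    suffices H : ∀ (n : ℕ) (Q : Sylow p G) (P : Sylow p G), P ≠ Q →
        (P : Subgroup G) ⊓ (Q : Subgroup G) ≠ ⊥ →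
        Nat.card G ≤ Nat.card ↥((P : Subgroup G) ⊓ (Q : Subgroup G)) + n → False by
      intro Q hne
      by_contra hb
      exact H (Nat.card G) Q P hne hb (Nat.le_add_left _ _)
    intro n
    induction n with
    | zero =>
      intro Q P hne hb hle
      have h1 : (P : Subgroup G) ⊓ (Q : Subgroup G) = ⊤ := Subgroup.eq_top_of_le_card _ hle
      exact hne (Sylow.ext (by rw [(top_le_iff.mp (h1.ge.trans inf_le_left) : (P : Subgroup G) = ⊤), (top_le_iff.mp (h1.ge.trans inf_le_right) : (Q : Subgroup G) = ⊤)]))
    | succ n ih =>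
      intro Q P hne hb hle
      set D := (P : Subgroup G) ⊓ (Q : Subgroup G) with hD
      have hP : D < P := lt_of_le_of_ne inf_le_left fun he =>
        hne (Sylow.ext (P.is_maximal' Q.isPGroup' (he ▸ inf_le_right)).symm)
      have hQ : D < Q := lt_of_le_of_ne inf_le_right fun he =>
        hne (Sylow.ext (Q.is_maximal' P.isPGroup' (he ▸ inf_le_left)))
      have hN : Subgroup.normalizer (D : Set G) ≠ ⊤ := by
        intro h
        rcases IsSimpleGroup.eq_bot_or_eq_top_of_normal D (Subgroup.normalizer_eq_top_iff.mp h) with h | h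
        · exact hb h
        · exact (lt_of_lt_of_le hP le_top).ne h
      obtain ⟨S, hS⟩ := H32.exists_sylow_of_pClosed (hsub _ hN)
      have big : ∀ R : Sylow p G, D < R → R = S := by
        intro R hR
        by_contra hne'
        have h1 := H32.lt_inf_normalizer_of_lt_pgroup R.isPGroup' hR
        have h2 := hS _ inf_le_left (R.isPGroup'.to_le inf_le_right)
        have h3 : D < (R : Subgroup G) ⊓ (S : Subgroup G) := lt_of_lt_of_le h1 (le_inf inf_le_right h2)
        refine ih S R hne' (bot_lt_iff_ne_bot.mp (lt_of_le_of_lt bot_le h3)) ?_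
        have : Nat.card D < Nat.card ↥((R : Subgroup G) ⊓ (S : Subgroup G)) :=
          lt_of_not_ge fun h => h3.ne (Subgroup.eq_of_le_of_card_ge h3.le h)
        omega
      exact hne ((big P hP).trans (big Q hQ).symm)
  refine ⟨hTI, fun P R hR hR0 g hg => ?_⟩
  have hgP : g • P = P := by
    by_contra hne
    apply hR0
    refine le_bot_iff.mp (le_trans (le_inf ?_ hR) (hTI _ _ hne).le)
    intro r hr
    rw [Sylow.coe_subgroup_smul]
    have h := (Subgroup.mem_normalizer_iff''.mp hg r).mp hr
    refine Subgroup.mem_pointwise_smul_iff_inv_smul_mem.mpr ?_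
    simpa [MulAut.smul_def] using hR h
  exact Sylow.smul_eq_iff_mem_normalizer.mp hgP

end Cfsg.Agent.S3870
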