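import Cfsg.Statements.S3872
import Cfsg.Agent.H11.RegularOmega
import Cfsg.Agent.H11.PolySeq
import Cfsg.Agent.H6.MaxClass
import Cfsg.Agent.H9.NormalE2

set_option autoImplicit false
open Cfsg

namespace Cfsg.Agent.S3872

/-- Say that a finite group is p-exponent closed when its elements of order dividing p form a subgroup. Let G be a finite p-group that is not p-exponent closed, but all of whose proper subgroups and proper quotients are. Then G is generated by two elements, has nilpotency class at least p, has exponent p², has cyclic center, and has order at least p^(p+1). -/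
theorem result {G : Type*} [Group G] [Finite G] {p : ℕ} [Fact p.Prime] (hG : IsPGroup p G)
    (hnc : ¬ (∃ H : Subgroup G, (H : Set G) = {g : G | g ^ p = 1})) (hsub : ∀ K : Subgroup G, K ≠ ⊤ → (∃ H : Subgroup ↥K, (H : Set ↥K) = {g : ↥K | g ^ p = 1}))
    (hquo : ∀ (N : Subgroup G) [N.Normal], N ≠ ⊥ → (∃ H : Subgroup (G ⧸ N), (H : Set (G ⧸ N)) = {g : (G ⧸ N) | g ^ p = 1})) :
    (∃ x y : G, Subgroup.closure ({x, y} : Set G) = ⊤) ∧ (⊤ : Subgroup G).lowerCentralSeries (p - 1) ≠ ⊥ ∧
      Monoid.exponent G = p ^ 2 ∧ IsCyclic ↥(Subgroup.center G) ∧ p ^ (p + 1) ≤ Nat.card G := by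
  have hp : p.Prime := Fact.out
  -- two elements of order dividing `p` whose product is not
  obtain ⟨x, y, hx, hy, hxy⟩ : ∃ x y : G, x ^ p = 1 ∧ y ^ p = 1 ∧ (x * y) ^ p ≠ 1 := by
    by_contra hcon
    push Not at hcon
    exact hnc ⟨{ carrier := {g | g ^ p = 1}
                 one_mem' := one_pow p
                 mul_mem' := fun {a b} (ha : a ^ p = 1) (hb : b ^ p = 1) => hcon a b ha hb
                 inv_mem' := fun {a} (ha : a ^ p = 1) => by show a⁻¹ ^ p = 1; rw [inv_pow, ha, inv_one] }, rfl⟩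
  have htop : Subgroup.closure ({x, y} : Set G) = ⊤ := by
    by_contra hne
    obtain ⟨H, hH⟩ := hsub _ hne
    have hmem : ∀ g : Subgroup.closure ({x, y} : Set G), g ∈ H ↔ (g : G) ^ p = 1 := fun g => by
      rw [← SetLike.mem_coe, hH, Set.mem_setOf_eq, Subtype.ext_iff]; simp
    exact hxy ((hmem (⟨x, Subgroup.subset_closure (by simp)⟩ * ⟨y, Subgroup.subset_closure (by simp)⟩)).1
      (mul_mem ((hmem _).2 hx) ((hmem _).2 hy)))
  have hclass : (⊤ : Subgroup G).lowerCentralSeries (p - 1) ≠ ⊥ := by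
    intro hcl
    have hR := H11.regCond_of_small_class (G := G) hcl
    refine hxy ?_
    have := H11.mul_pow_pow_eq_one (k := 1) hG hR (x := x) (y := y) (by rwa [pow_one]) (by rwa [pow_one])
    rwa [pow_one] at this
  have hquot : ∀ (N : Subgroup G) [N.Normal], N ≠ ⊥ → ∀ g : G, g ^ p ∈ N := by
    intro N _ hN g
    obtain ⟨H, hH⟩ := hquo N hN
    have hmem : ∀ a : G, (a : G ⧸ N) ∈ H ↔ a ^ p ∈ N := fun a => by
      rw [← SetLike.mem_coe, hH, Set.mem_setOf_eq, ← QuotientGroup.mk_pow, QuotientGroup.eq_one_iff]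
    have hle : (⊤ : Subgroup G) ≤ H.comap (QuotientGroup.mk' N) := by
      rw [← htop, Subgroup.closure_le]
      intro a ha
      refine (hmem a).2 ?_
      rcases ha with rfl | rfl
      · rw [hx]; exact one_mem _
      · rw [hy]; exact one_mem _
    exact (hmem g).1 (hle (Subgroup.mem_top g))
  have hcent : ∀ z ∈ Subgroup.center G, z ^ p = 1 → z ≠ 1 →
      (Subgroup.zpowers z).Normal ∧ Nat.card (Subgroup.zpowers z) = p := by
    intro z hz hzp hz1
    refine ⟨⟨fun a ha g => ?_⟩, by rw [Nat.card_zpowers]; exact orderOf_eq_prime hzp hz1⟩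
    rw [Subgroup.mem_center_iff.1 (Subgroup.zpowers_le.2 hz ha) g, mul_inv_cancel_right]
    exact ha
  haveI : Nontrivial G := ⟨⟨(x * y) ^ p, 1, hxy⟩⟩
  haveI := hG.center_nontrivial
  obtain ⟨z, hz, hzp, hz1⟩ : ∃ z ∈ Subgroup.center G, z ^ p = 1 ∧ z ≠ 1 := by
    obtain ⟨w, hw⟩ := exists_prime_orderOf_dvd_card' (G := Subgroup.center G) p
      ((hG.to_subgroup (Subgroup.center G)).card_eq_or_dvd.resolve_left Finite.one_lt_card.ne')
    refine ⟨w, w.2, ?_, ?_⟩
    · rw [← hw, ← Subgroup.coe_pow, pow_orderOf_eq_one, Subgroup.coe_one]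
    · intro h
      have h1 : w = 1 := Subtype.ext h
      rw [h1, orderOf_one] at hw
      exact hp.one_lt.ne hw
  refine ⟨⟨x, y, htop⟩, hclass, ?_, ?_, ?_⟩
  · -- the exponent
    obtain ⟨hn, hcard⟩ := hcent z hz hzp hz1
    have hne : Subgroup.zpowers z ≠ ⊥ := by rwa [Ne, Subgroup.zpowers_eq_bot]
    have hdvd : Monoid.exponent G ∣ p ^ 2 := by
      refine Monoid.exponent_dvd_of_forall_pow_eq_one fun g => ?_
      obtain ⟨i, hi⟩ := Subgroup.mem_zpowers_iff.1 (hquot _ hne g)
      rw [sq, pow_mul, ← hi, ← zpow_natCast, ← zpow_mul, mul_comm, zpow_mul, zpow_natCast, hzp, one_zpow]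
    obtain ⟨j, hj, hj'⟩ := (Nat.dvd_prime_pow hp).1 hdvd
    rw [hj']
    rcases eq_or_lt_of_le hj with rfl | hlt
    · rfl
    · exfalso
      apply hxy
      have h1 : Monoid.exponent G ∣ p := by
        rw [hj']
        exact (pow_dvd_pow p (Nat.lt_succ_iff.1 hlt)).trans (dvd_of_eq (pow_one p))
      exact orderOf_dvd_iff_pow_eq_one.1 ((Monoid.order_dvd_exponent _).trans h1)
  · -- the centre
    obtain ⟨c, -, hc⟩ := Cfsg.Agent.H9.isCyclic_of_omega_small hG (Subgroup.center G) inferInstance (fun A hA hAe => by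
      obtain ⟨hn, hcard⟩ := hcent z hz hzp hz1
      refine (Subgroup.card_le_of_le (fun a ha => ?_ : A ≤ Subgroup.zpowers z)).trans hcard.le
      by_contra hne
      have ha1 : a ≠ 1 := fun h => hne (h ▸ one_mem _)
      obtain ⟨hn', hcard'⟩ := hcent a (hA ha) (hAe.2 a ha) ha1
      have h1 : (x * y) ^ p ∈ Subgroup.zpowers z ⊓ Subgroup.zpowers a :=
        ⟨hquot _ (by rwa [Ne, Subgroup.zpowers_eq_bot]) _, hquot _ (by rwa [Ne, Subgroup.zpowers_eq_bot]) _⟩
      have h2 : Nat.card (Subgroup.zpowers z ⊓ Subgroup.zpowers a : Subgroup G) ∣ p :=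
        hcard ▸ Subgroup.card_dvd_of_le inf_le_left
      rcases (Nat.dvd_prime hp).1 h2 with h3 | h3
      · rw [Subgroup.card_eq_one] at h3
        rw [h3, Subgroup.mem_bot] at h1
        exact hxy h1
      · have e1 := Subgroup.eq_of_le_of_card_ge (inf_le_left : Subgroup.zpowers z ⊓ Subgroup.zpowers a ≤ _) (by rw [hcard, h3])
        exact hne (by
          have e2 : Subgroup.zpowers z ≤ Subgroup.zpowers a := e1.symm.le.trans inf_le_right
          rw [Subgroup.eq_of_le_of_card_ge e2 (by rw [hcard, hcard'])]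
          exact Subgroup.mem_zpowers a))
    rw [hc]
    infer_instance
  · -- the order
    obtain ⟨m, hm⟩ := IsPGroup.iff_card.1 hG
    rw [hm]
    refine Nat.pow_le_pow_right hp.pos ?_
    haveI := hG.isNilpotent
    by_contra hlt
    apply hclass
    rw [Subgroup.lowerCentralSeries_eq_bot_iff_nilpotencyClass_le]
    rcases le_or_gt 2 m with h2 | h2
    · exact (H6.nilpotencyClass_le_pred m G hm h2).trans (by omega)
    · have hcomm : IsMulCommutative G := by
        interval_cases m
        · simp [(Nat.card_eq_one_iff_unique.1 (by simpa using hm)).1.elim ((x * y) ^ p) 1] at hxy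
        · haveI := isCyclic_of_prime_card (α := G) (p := p) (by simpa using hm)
          exact IsMulCommutative.of_comm fun a b => by
            letI := IsCyclic.commGroup (α := G); exact mul_comm a b
      exact H6.nilpotencyClass_le_one.trans (by have := hp.two_le; omega)

end Cfsg.Agent.S3872
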