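import Mathlib
import Cfsg.Statements.S3878

set_option autoImplicit false
open Cfsg

namespace Cfsg.Agent.S3878

open Equiv MulAction

/-- A subgroup of index prime to `p` contains a conjugate of every `p`-element. -/
theorem exists_conj_mem {G : Type*} [Group G] [Finite G] {p : ℕ} [Fact p.Prime] (H : Subgroup G)
    (hH : ¬ p ∣ H.index) {x : G} {k : ℕ} (hx : orderOf x = p ^ k) :
    ∃ g : G, g * x * g⁻¹ ∈ H := by
  obtain ⟨P⟩ : Nonempty (Sylow p H) := inferInstance
  have hcard : Nat.card ((P : Subgroup H).map H.subtype) = p ^ (Nat.card G).factorization p := by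
    rw [Nat.card_congr (Subgroup.equivMapOfInjective _ _ H.subtype_injective).toEquiv.symm,
      P.card_eq_multiplicity, ← H.card_mul_index,
      Nat.factorization_mul Nat.card_pos.ne' Subgroup.index_ne_zero_of_finite,
      Finsupp.add_apply, Nat.factorization_eq_zero_of_not_dvd hH, add_zero]
  set Q := Sylow.ofCard _ hcard
  obtain ⟨R, hR⟩ := (IsPGroup.of_card (p := p) (G := Subgroup.zpowers x) (n := k)
    (by rw [Nat.card_zpowers, hx])).exists_le_sylow
  obtain ⟨g, hg⟩ := MulAction.exists_smul_eq G R Q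
  refine ⟨g, ?_⟩
  have h1 : g * x * g⁻¹ ∈ ((g • R : Sylow p G) : Subgroup G) :=
    Subgroup.smul_mem_pointwise_smul x (MulAut.conj g) _ (hR (Subgroup.mem_zpowers x))
  rw [hg] at h1
  exact Subgroup.map_subtype_le _ h1

theorem hall_of_dpi {G : Type} [Group G] [Finite G] (π : Set ℕ) (h : Cfsg.IsDPiGroup π G) :
    Cfsg.IsEPiGroup π G := by
  have key : ∀ K : Subgroup G, Cfsg.IsPiSubgroup π K →
      ∃ M, K ≤ M ∧ Maximal (Cfsg.IsPiSubgroup π) M := fun K hK => Finite.exists_le_maximal hK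
  obtain ⟨H, -, hH⟩ := key ⊥ (fun p hp hd => by
    rw [Subgroup.card_bot] at hd; exact absurd (Nat.dvd_one.1 hd) hp.ne_one)
  refine ⟨H, hH.1, fun p hp hpπ hd => ?_⟩
  have : Fact p.Prime := ⟨hp⟩
  obtain ⟨P⟩ : Nonempty (Sylow p G) := inferInstance
  obtain ⟨M, hle, hM⟩ := key (P : Subgroup G) (fun q hq hqd => by
    obtain ⟨k, hk⟩ := P.isPGroup'.exists_card_eq
    rw [hk] at hqd
    exact (Nat.prime_dvd_prime_iff_eq hq hp).1 (hq.dvd_of_dvd_pow hqd) ▸ hpπ)
  obtain ⟨g, hg⟩ := h H M hH hM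
  have hidx : M.index = H.index := by
    rw [hg]; exact Subgroup.index_map_equiv H (MulAut.conj g)
  exact P.not_dvd_index (hd.trans (hidx ▸ Subgroup.index_dvd_of_le hle))

theorem dpi_of_cond {G : Type} [Group G] [Finite G] (π : Set ℕ)
    (h : (∀ p q : ℕ, p.Prime → q.Prime → p ∈ π → q ∈ π → p = q) ∨ ∀ p : ℕ, p.Prime → p ∈ π) :
    Cfsg.IsDPiGroup π G := by
  intro H K hH hK
  rcases h with h | h
  · by_cases hp : ∃ p, p.Prime ∧ p ∈ π
    · obtain ⟨p, hp, hpπ⟩ := hp
      have : Fact p.Prime := ⟨hp⟩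
      have key : ∀ A : Subgroup G, Maximal (Cfsg.IsPiSubgroup π) A → ∃ P : Sylow p G, (P : Subgroup G) = A := by
        intro A hA
        have hpA : IsPGroup p A := IsPGroup.of_card (n := (Nat.card A).primeFactorsList.length)
          (Nat.eq_prime_pow_of_unique_prime_dvd Nat.card_pos.ne' fun hq hqd => h _ _ hq hp (hA.1 _ hq hqd) hpπ)
        obtain ⟨P, hP⟩ := hpA.exists_le_sylow
        refine ⟨P, le_antisymm (hA.2 (fun q hq hqd => ?_) hP) hP⟩
        obtain ⟨k, hk⟩ := P.isPGroup'.exists_card_eq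
        rw [hk] at hqd
        exact (Nat.prime_dvd_prime_iff_eq hq hp).1 (hq.dvd_of_dvd_pow hqd) ▸ hpπ
      obtain ⟨P, rfl⟩ := key H hH
      obtain ⟨Q, rfl⟩ := key K hK
      obtain ⟨g, hg⟩ := MulAction.exists_smul_eq G P Q
      exact ⟨g, hg ▸ rfl⟩
    · push Not at hp
      have key : ∀ A : Subgroup G, Maximal (Cfsg.IsPiSubgroup π) A → A = ⊥ := fun A hA => by
        rw [← Subgroup.card_eq_one]
        by_contra hne
        obtain ⟨q, hq, hqd⟩ := Nat.exists_prime_and_dvd hne
        exact hp q hq (hA.1 q hq hqd)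
      exact ⟨1, by rw [key H hH, key K hK, Subgroup.map_bot]⟩
  · have key : ∀ A : Subgroup G, Maximal (Cfsg.IsPiSubgroup π) A → A = ⊤ := fun A hA =>
      top_le_iff.1 (hA.2 (fun q hq _ => h q hq) le_top)
    exact ⟨1, by rw [key H hH, key K hK]; exact (Subgroup.map_top_of_surjective _ (MulAut.conj (1 : G)).surjective).symm⟩

/-- A subgroup of `Sym(q)`, `q` prime, of order divisible by `q` is primitive. -/
theorem primitive_of_dvd {q : ℕ} (hq : q.Prime) (H : Subgroup (Perm (Fin q)))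
    (hd : q ∣ Nat.card H) : IsPreprimitive H (Fin q) := by
  have : Fact q.Prime := ⟨hq⟩
  obtain ⟨c, hc⟩ := exists_prime_orderOf_dvd_card' q hd
  have hco : orderOf (c : Perm (Fin q)) = q := by rw [Subgroup.orderOf_coe, hc]
  have hcyc : (c : Perm (Fin q)).IsCycle :=
    Perm.isCycle_of_prime_order' (by rw [hco]; exact hq) (by simp only [Fintype.card_fin, hco]; linarith [hq.pos])
  have hsupp : (c : Perm (Fin q)).support = Finset.univ := by
    apply Finset.eq_univ_of_card
    rw [← hcyc.orderOf, hco, Fintype.card_fin]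
  have : IsPretransitive H (Fin q) := by
    refine ⟨fun a b => ?_⟩
    obtain ⟨i, hi⟩ := hcyc.exists_zpow_eq (Perm.mem_support.1 (hsupp ▸ Finset.mem_univ a))
      (Perm.mem_support.1 (hsupp ▸ Finset.mem_univ b))
    exact ⟨c ^ i, by simpa [Subgroup.smul_def] using hi⟩
  exact IsPreprimitive.of_prime_card (by simpa using hq)

theorem no_two {q : ℕ} (hq : q.Prime) (H : Subgroup (Perm (Fin q))) (hd : q ∣ Nat.card H)
    (h2 : ¬ 2 ∣ H.index) : H = ⊤ := by
  have : Fact (Nat.Prime 2) := ⟨Nat.prime_two⟩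
  have : Fact q.Prime := ⟨hq⟩
  let a : Fin q := ⟨0, hq.pos⟩
  let b : Fin q := ⟨1, hq.one_lt⟩
  have hab : a ≠ b := by simp [a, b]
  have hs : (Equiv.swap a b).IsSwap := ⟨a, b, hab, rfl⟩
  obtain ⟨g, hg⟩ := exists_conj_mem H h2 (x := Equiv.swap a b) (k := 1) (by rw [hs.orderOf, pow_one])
  refine Perm.subgroup_eq_top_of_isPreprimitive_of_isSwap_mem (primitive_of_dvd hq H hd)
    (g * Equiv.swap a b * g⁻¹) ⟨g a, g b, g.injective.ne hab, ?_⟩ hg
  exact (Equiv.swap_apply_apply g a b).symm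

theorem even_of_cycle {p q : ℕ} (hp : p.Prime) (hp2 : p ≠ 2) (hq : q.Prime) (hpq : p < q)
    (H : Subgroup (Perm (Fin q))) (hd : q ∣ Nat.card H) (hidx : ¬ p ∣ H.index) :
    2 ∣ Nat.card H := by
  have : Fact p.Prime := ⟨hp⟩
  have : NeZero q := ⟨hq.ne_zero⟩
  have hq2 : p + 2 ≤ q := by
    have h1 : p % 2 = 1 := (hp.eq_two_or_odd).resolve_left hp2
    have h2 : q % 2 = 1 := hq.eq_two_or_odd.resolve_left (by have := hp.two_le; omega)
    omega
  set i : Fin q := ⟨p - 1, by omega⟩
  have hi : i ≠ 0 := by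
    intro e
    have e' := congrArg Fin.val e
    simp [i] at e'
    have := hp.two_le
    omega
  have hcyc : (Fin.cycleRange i).IsCycle := Fin.isCycle_cycleRange hi
  have hord : orderOf (Fin.cycleRange i) = p := by
    rw [← Perm.lcm_cycleType, Fin.cycleType_cycleRange hi, Multiset.lcm_singleton]
    have := hp.two_le
    simp [i]; omega
  obtain ⟨g, hg⟩ := exists_conj_mem H hidx (x := Fin.cycleRange i) (k := 1) (by rw [hord, pow_one])
  set c := g * Fin.cycleRange i * g⁻¹
  have hc : c.IsCycle := hcyc.conj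
  have hco : orderOf c = p := by
    show orderOf (g * Fin.cycleRange i * g⁻¹) = p
    rw [← MulAut.conj_apply, MulEquiv.orderOf_eq, hord]
  have hcs : c.support.card = p := by rw [← hc.orderOf, hco]
  have hsn : ((c.support : Set (Fin q))ᶜ).ncard = (q - p - 1) + 1 := by
    have := Set.ncard_add_ncard_compl (c.support : Set (Fin q))
    rw [Set.ncard_coe_finset, hcs, Nat.card_fin] at this
    omega
  have htr := Perm.isPretransitive_of_isCycle_mem hc hg
  have h2t := (primitive_of_dvd hq H hd).is_two_pretransitive hsn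
    (by rw [Nat.card_fin]; have := hp.two_le; omega) htr
  have := IsMultiplyPretransitive.index_of_fixingSubgroup_mul h2t
    (s := ({⟨0, hq.pos⟩, ⟨1, hq.one_lt⟩} : Set (Fin q))) (Set.ncard_pair (by simp))
  rw [Nat.card_fin] at this
  have e : (fixingSubgroup H ({⟨0, hq.pos⟩, ⟨1, hq.one_lt⟩} : Set (Fin q))).index = q * (q - 1) := by
    apply Nat.eq_of_mul_eq_mul_right (Nat.factorial_pos (q - 2))
    rw [this, mul_assoc]
    obtain ⟨m, rfl⟩ : ∃ m, q = m + 2 := ⟨q - 2, by omega⟩
    simp [Nat.factorial_succ]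
  refine Dvd.dvd.trans ?_ (Subgroup.index_dvd_card (fixingSubgroup H ({⟨0, hq.pos⟩, ⟨1, hq.one_lt⟩} : Set (Fin q))))
  rw [e]
  refine Dvd.dvd.mul_left ?_ q
  have := hq.eq_two_or_odd.resolve_left (by have := hp.two_le; omega)
  omega

theorem big_index {r : ℕ} (hr : r.Prime) (hr5 : 5 ≤ r) (H : Subgroup (Perm (Fin (r + 1)))) :
    H.index ≠ r := by
  intro hidx
  have hA : IsSimpleGroup (alternatingGroup (Fin (r + 1))) :=
    alternatingGroup.isSimpleGroup (by rw [Nat.card_fin]; omega)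
  set K := H.normalCore with hK
  have : Nontrivial (Fin (r + 1)) := Fin.nontrivial_iff_two_le.2 (by omega)
  rcases hA.eq_bot_or_eq_top_of_normal (K.subgroupOf (alternatingGroup (Fin (r + 1)))) inferInstance with e | e
  · have h1 : K.index ∣ r.factorial := by
      rw [hK, Subgroup.normalCore_eq_ker, Subgroup.index_ker]
      have h3 := Subgroup.card_subgroup_dvd_card
        (MulAction.toPermHom (Perm (Fin (r + 1))) (Perm (Fin (r + 1)) ⧸ H)).range
      rwa [Nat.card_perm, ← Subgroup.index_eq_card, hidx] at h3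
    have h2 : Nat.card K ∣ 2 := by
      have := Subgroup.card_mul_index (K.subgroupOf (alternatingGroup (Fin (r + 1))))
      rw [← Subgroup.relIndex, e, Subgroup.card_bot, one_mul] at this
      have hK := Subgroup.relIndex_dvd_index_of_normal K (alternatingGroup (Fin (r + 1)))
      have h4 : Nat.card (alternatingGroup (Fin (r + 1))) * 2 = Nat.card (Perm (Fin (r + 1))) := by
        rw [← alternatingGroup.index_eq_two (α := Fin (r + 1)), Subgroup.card_mul_index]
      rw [this] at hK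
      have h5 := Subgroup.card_mul_index K
      obtain ⟨t, ht⟩ := hK
      rw [ht, ← h4, mul_left_comm] at h5
      exact ⟨t, (Nat.eq_of_mul_eq_mul_left Nat.card_pos h5).symm⟩
    have h3 := Subgroup.card_mul_index K
    rw [Nat.card_perm, Nat.card_fin, Nat.factorial_succ] at h3
    have h4 : Nat.card K * K.index ≤ 2 * r.factorial :=
      Nat.mul_le_mul (Nat.le_of_dvd two_pos h2) (Nat.le_of_dvd r.factorial_pos h1)
    rw [h3] at h4
    have := Nat.le_of_mul_le_mul_right h4 r.factorial_pos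
    omega
  · rw [Subgroup.subgroupOf_eq_top] at e
    have := Subgroup.index_dvd_of_le (e.trans H.normalCore_le)
    rw [alternatingGroup.index_eq_two, hidx] at this
    have := Nat.le_of_dvd two_pos this
    omega

theorem cond_of_epi (π : Set ℕ) (h : ∀ (G : Type) [Group G] [Finite G], Cfsg.IsEPiGroup π G) :
    (∀ p q : ℕ, p.Prime → q.Prime → p ∈ π → q ∈ π → p = q) ∨ ∀ p : ℕ, p.Prime → p ∈ π := by
  classical
  by_contra hc
  push Not at hc
  obtain ⟨⟨p', q', hp', hq', hpπ', hqπ', hne'⟩, r0, hr0, hr0π⟩ := hc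
  obtain ⟨p, q, hp, hq, hpπ, hqπ, hpq⟩ :
      ∃ p q : ℕ, p.Prime ∧ q.Prime ∧ p ∈ π ∧ q ∈ π ∧ p < q := by
    rcases lt_or_gt_of_ne hne' with hlt | hlt
    · exact ⟨p', q', hp', hq', hpπ', hqπ', hlt⟩
    · exact ⟨q', p', hq', hp', hqπ', hpπ', hlt⟩
  -- Hall subgroups of `Sym(s)` for `s ∈ π`
  have hall : ∀ s : ℕ, s.Prime → s ∈ π → ∃ H : Subgroup (Perm (Fin s)),
      Cfsg.IsPiHall π H ∧ s ∣ Nat.card H := by
    intro s hs hsπ
    obtain ⟨H, hH⟩ := h (Perm (Fin s))
    refine ⟨H, hH, ?_⟩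
    have : s ∣ Nat.card H * H.index := by
      rw [Subgroup.card_mul_index, Nat.card_perm, Nat.card_fin]
      exact Nat.dvd_factorial hs.pos le_rfl
    exact (hs.dvd_mul.1 this).resolve_right (hH.2 s hs hsπ)
  by_cases h2 : 2 ∈ π
  · have down : ∀ s t : ℕ, s.Prime → s ∈ π → t.Prime → t ≤ s → t ∈ π := by
      intro s t hs hsπ ht hts
      obtain ⟨H, hH, hd⟩ := hall s hs hsπ
      refine hH.1 t ht ?_
      rw [no_two hs H hd (hH.2 2 Nat.prime_two h2), Subgroup.card_top, Nat.card_perm, Nat.card_fin]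
      exact Nat.dvd_factorial ht.pos hts
    have hex : ∃ r, r.Prime ∧ r ∉ π := ⟨r0, hr0, hr0π⟩
    set r := Nat.find hex
    obtain ⟨hr, hrπ⟩ := Nat.find_spec hex
    have hlow : ∀ t, t.Prime → t < r → t ∈ π := fun t ht htr => by
      by_contra hh; exact Nat.find_min hex htr ⟨ht, hh⟩
    have hqr : q < r := not_le.1 fun hle => hrπ (down q r hq hqπ hr hle)
    have hr5 : 5 ≤ r := by
      have := hp.two_le
      rcases hr.eq_two_or_odd with e | e <;> omega
    obtain ⟨H, hH⟩ := h (Perm (Fin (r + 1)))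
    apply big_index hr hr5 H
    have hprod : Nat.card H * H.index = (r + 1).factorial := by
      rw [Subgroup.card_mul_index, Nat.card_perm, Nat.card_fin]
    have hnd : ¬ r ∣ Nat.card H := fun hd => hrπ (hH.1 r hr hd)
    have honly : ∀ s, s.Prime → s ∣ H.index → s = r := by
      intro s hs hsd
      have hle : s ≤ r + 1 := hs.dvd_factorial.1 (hprod ▸ hsd.mul_left _)
      by_contra hsr
      have : s ≠ r + 1 := by
        intro e
        rcases hs.eq_two_or_odd with e' | e' <;> rcases hr.eq_two_or_odd with e'' | e'' <;> omega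
      exact hH.2 s hs (hlow s hs (by omega)) hsd
    obtain ⟨k, hk⟩ : ∃ k, H.index = r ^ k :=
      ⟨_, Nat.eq_prime_pow_of_unique_prime_dvd Subgroup.index_ne_zero_of_finite
        fun hs hsd => honly _ hs hsd⟩
    have h1 : r ∣ H.index :=
      (hr.dvd_mul.1 (hprod ▸ Nat.dvd_factorial hr.pos (Nat.le_succ r))).resolve_left hnd
    rcases k with _ | _ | k
    · rw [hk, pow_zero] at h1; exact absurd (Nat.dvd_one.1 h1) hr.ne_one
    · rw [hk, pow_one]
    · exfalso
      have h2d : r ^ 2 ∣ (r + 1).factorial := by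
        rw [← hprod, hk]; exact (pow_dvd_pow r (by omega)).mul_left _
      rw [Nat.factorial_succ, show r = (r - 1) + 1 by omega, Nat.factorial_succ,
        show r - 1 + 1 = r by omega] at h2d
      rw [pow_two, mul_left_comm] at h2d
      have := Nat.dvd_of_mul_dvd_mul_left hr.pos h2d
      rcases hr.dvd_mul.1 this with hd | hd
      · rw [Nat.dvd_add_right dvd_rfl] at hd; exact hr.ne_one (Nat.dvd_one.1 hd)
      · have := hr.dvd_factorial.1 hd; omega
  · obtain ⟨H, hH, hd⟩ := hall q hq hqπ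
    exact h2 (hH.1 2 Nat.prime_two
      (even_of_cycle hp (fun e => h2 (e ▸ hpπ)) hq hpq H hd (hH.2 p hp hpπ)))

/-- For a set of primes π the following are equivalent: every finite group has a Hall π-subgroup; in every finite group the maximal π-subgroups are pairwise conjugate; π contains at most one prime or contains every prime. -/
theorem result (π : Set ℕ) :
    ((∀ (G : Type) [Group G] [Finite G], Cfsg.IsEPiGroup π G) ↔
      ((∀ p q : ℕ, p.Prime → q.Prime → p ∈ π → q ∈ π → p = q) ∨ ∀ p : ℕ, p.Prime → p ∈ π)) ∧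
    ((∀ (G : Type) [Group G] [Finite G], Cfsg.IsDPiGroup π G) ↔
      ((∀ p q : ℕ, p.Prime → q.Prime → p ∈ π → q ∈ π → p = q) ∨ ∀ p : ℕ, p.Prime → p ∈ π)) :=
  ⟨⟨cond_of_epi π, fun h G _ _ => hall_of_dpi π (dpi_of_cond π h)⟩,
    ⟨fun h => cond_of_epi π (fun G _ _ => hall_of_dpi π (h G)), fun h G _ _ => dpi_of_cond π h⟩⟩

end Cfsg.Agent.S3878
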