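import Cfsg.Statements.S3881
import Cfsg.Agent.H30.MetacyclicApps

set_option autoImplicit false
open Cfsg

namespace Cfsg.Agent.S3881


open Subgroup in
theorem powKer_card {Q : Type*} [Group Q] [Finite Q] {p : ℕ} [hp : Fact p.Prime] (hp2 : p ≠ 2)
    (hQ : IsPGroup p Q) [IsCyclic (_root_.commutator Q)] {A : Subgroup Q} [A.Normal] [IsCyclic A]
    [IsCyclic (Q ⧸ A)] {n : ℕ} (hexp : ∀ q : Q, q ^ p ^ n = 1) (hcard : Nat.card Q = p ^ (2 * n))
    {i : ℕ} (hi : i ≤ n) : Nat.card {q : Q // q ^ p ^ i = 1} = p ^ (2 * i) := by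
  classical
  haveI := Fintype.ofFinite Q
  haveI := Fintype.ofFinite A
  haveI := Fintype.ofFinite (Q ⧸ A)
  have hup : ∀ k : ℕ, (Finset.univ.filter fun q : Q => q ^ p ^ k = 1).card ≤ p ^ (2 * k) := by
    intro k
    have h0 : 0 < p ^ k := pow_pos hp.out.pos k
    refine (Finset.card_le_mul_card_image (f := (QuotientGroup.mk : Q → Q ⧸ A)) _ (p ^ k) ?_).trans ?_
    · intro b hb
      obtain ⟨x0, hx0, rfl⟩ := Finset.mem_image.1 hb
      rw [Finset.mem_filter] at hx0
      refine le_trans ?_ (IsCyclic.card_pow_eq_one_le (α := A) h0)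
      refine Finset.card_le_card_of_injOn
        (fun y => if h : x0⁻¹ * y ∈ A then (⟨x0⁻¹ * y, h⟩ : A) else 1) ?_ ?_
      · intro y hy
        simp only [Finset.coe_filter, Finset.mem_filter, Finset.mem_univ, true_and, Set.mem_ofPred_eq] at hy ⊢
        rw [dif_pos (QuotientGroup.eq.1 hy.2.symm)]
        ext
        simp only [Subgroup.coe_pow, Subgroup.coe_one]
        exact H30.mul_pow_eq_one hp2 hQ (by rw [inv_pow, hx0.2, inv_one]) hy.1
      · intro y hy z hz h
        simp only [Finset.coe_filter, Finset.mem_filter, Finset.mem_univ, true_and, Set.mem_ofPred_eq] at hy hz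
        simp only [dif_pos (QuotientGroup.eq.1 hy.2.symm), dif_pos (QuotientGroup.eq.1 hz.2.symm),
          Subtype.mk.injEq, mul_right_inj] at h
        exact h
    · rw [two_mul, pow_add]
      refine Nat.mul_le_mul_left _ (le_trans (Finset.card_le_card ?_) (IsCyclic.card_pow_eq_one_le (α := Q ⧸ A) h0))
      intro b hb
      obtain ⟨x, hx, rfl⟩ := Finset.mem_image.1 hb
      rw [Finset.mem_filter] at hx ⊢
      exact ⟨Finset.mem_univ _, by rw [← QuotientGroup.mk_pow, hx.2, QuotientGroup.mk_one]⟩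
  have hlo : Nat.card Q ≤ (Finset.univ.filter fun q : Q => q ^ p ^ i = 1).card *
      (Finset.univ.filter fun q : Q => q ^ p ^ (n - i) = 1).card := by
    rw [Nat.card_eq_fintype_card, ← Finset.card_univ]
    refine (Finset.card_le_mul_card_image (f := fun q : Q => q ^ p ^ i) _
      ((Finset.univ.filter fun q : Q => q ^ p ^ i = 1).card) ?_).trans (Nat.mul_le_mul_left _ ?_)
    · intro b hb
      obtain ⟨x0, -, rfl⟩ := Finset.mem_image.1 hb
      refine Finset.card_le_card_of_injOn (fun y => x0⁻¹ * y) ?_ (fun a _ b _ h => mul_left_cancel h)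
      intro y hy
      simp only [Finset.coe_filter, Finset.mem_filter, Finset.mem_univ, true_and, Set.mem_ofPred_eq] at hy ⊢
      exact (H30.pow_eq_pow_iff_aux hp2 hQ i).1 _ _ hy.symm
    · refine Finset.card_le_card fun b hb => ?_
      obtain ⟨x, -, rfl⟩ := Finset.mem_image.1 hb
      exact Finset.mem_filter.2 ⟨Finset.mem_univ _, by
        rw [← pow_mul, ← pow_add, Nat.add_sub_cancel' hi, hexp]⟩
  rw [Nat.card_eq_fintype_card, Fintype.card_subtype]
  refine le_antisymm (hup i) ?_
  have h1 := hlo.trans (Nat.mul_le_mul_left _ (hup (n - i)))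
  rw [hcard, show 2 * n = 2 * i + 2 * (n - i) by omega, pow_add] at h1
  exact Nat.le_of_mul_le_mul_right h1 (pow_pos hp.out.pos _)

/-- Let p be an odd prime and G a finite metacyclic p-group (G has a cyclic normal subgroup with cyclic quotient). Suppose G is non-abelian with |G'| = p^n. Then for 1 ≤ i ≤ n the number of elements of G whose conjugacy class has exactly p^i elements is |Z(G)| · (p^(2i) − p^(2i−2)). -/
theorem result {G : Type*} [Group G] [Finite G] {p : ℕ} [Fact p.Prime] (hp : p ≠ 2) (hG : IsPGroup p G) (hmc : Cfsg.IsMetacyclic G) (n : ℕ) (hn : n ≠ 0) (hGn : Nat.card ↥(commutator G) = p ^ n) (i : ℕ) (hi : 1 ≤ i) (hin : i ≤ n) :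
    Nat.card {g : G // (Subgroup.centralizer ({g} : Set G)).index = p ^ i} =
      Nat.card ↥(Subgroup.center G) * (p ^ (2 * i) - p ^ (2 * i - 2)) := by
  classical
  haveI := H30.isCyclic_commutator_of_isMetacyclic hmc
  haveI := H30.isCyclic_commutator_quotient (Subgroup.center G)
  obtain ⟨N, hN, hc, hq⟩ := id hmc
  haveI := hN; haveI := hc; haveI := hq
  set π := QuotientGroup.mk' (Subgroup.center G) with hπ
  have hs : Function.Surjective π := QuotientGroup.mk'_surjective _
  haveI : (N.map π).Normal := hN.map π hs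
  haveI : IsCyclic (N.map π) := isCyclic_of_surjective _ (π.subgroupMap_surjective N)
  haveI : IsCyclic ((G ⧸ Subgroup.center G) ⧸ N.map π) :=
    isCyclic_of_surjective (QuotientGroup.map N (N.map π) π (Subgroup.le_comap_map π N)) (by
      intro y
      obtain ⟨y, rfl⟩ := QuotientGroup.mk_surjective y
      obtain ⟨x, rfl⟩ := hs y
      exact ⟨QuotientGroup.mk x, rfl⟩)
  have hQ := hG.to_quotient (Subgroup.center G)
  have hexp : ∀ q : G ⧸ Subgroup.center G, q ^ p ^ n = 1 := by
    intro q
    induction q using QuotientGroup.induction_on with | H x =>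
    exact (QuotientGroup.eq_one_iff _).2 (H30.pow_mem_center hp hG hmc hGn x)
  have hcard : Nat.card (G ⧸ Subgroup.center G) = p ^ (2 * n) := by
    rw [← Subgroup.index, H30.index_center_metacyclic hp hG hmc, hGn, ← pow_mul, mul_comm]
  have hK : ∀ k ≤ n, Nat.card {q : G ⧸ Subgroup.center G // q ^ p ^ k = 1} = p ^ (2 * k) :=
    fun k hk => powKer_card hp hQ (A := N.map π) hexp hcard hk
  obtain ⟨j, rfl⟩ : ∃ j, i = j + 1 := ⟨i - 1, by omega⟩
  have h1 : Nat.card {q : G ⧸ Subgroup.center G // orderOf q = p ^ (j + 1)} =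
      p ^ (2 * (j + 1)) - p ^ (2 * (j + 1) - 2) := by
    rw [← hK (j + 1) hin, show 2 * (j + 1) - 2 = 2 * j by omega, ← hK j (by omega)]
    change Nat.card ↥{q : G ⧸ Subgroup.center G | orderOf q = p ^ (j + 1)} =
      Nat.card ↥{q : G ⧸ Subgroup.center G | q ^ p ^ (j + 1) = 1} -
        Nat.card ↥{q : G ⧸ Subgroup.center G | q ^ p ^ j = 1}
    simp only [Nat.card_coe_set_eq]
    rw [← Set.ncard_sdiff]
    · congr 1
      ext q
      constructor
      · intro h
        have h : orderOf q = p ^ (j + 1) := h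
        refine ⟨by show q ^ p ^ (j + 1) = 1; rw [← h, pow_orderOf_eq_one], fun h' => ?_⟩
        have h3 := orderOf_dvd_of_pow_eq_one (show q ^ p ^ j = 1 from h')
        rw [h, Nat.pow_dvd_pow_iff_le_right (Fact.out : p.Prime).one_lt] at h3
        omega
      · rintro ⟨h, h'⟩
        exact orderOf_eq_prime_pow h' h
    · intro q hq'
      show q ^ p ^ (j + 1) = 1
      rw [pow_succ, pow_mul, show q ^ p ^ j = 1 from hq', one_pow]
  rw [← h1, ← Nat.card_prod]
  refine Nat.card_congr ((Equiv.subtypeEquivRight fun g => ?_).trans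
    (QuotientGroup.preimageMkEquivSubgroupProdSet (Subgroup.center G)
      {q | orderOf q = p ^ (j + 1)}))
  rw [H30.index_centralizer_singleton hp hG]
  rfl

end Cfsg.Agent.S3881
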