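import Cfsg.Statements.S3884
import Cfsg.Agent.H30.Metacyclic

set_option autoImplicit false
open Cfsg

namespace Cfsg.Agent.S3884

/-- Let p be an odd prime and G a finite metacyclic p-group (G has a cyclic normal subgroup with cyclic quotient). Then G is the product of two cyclic subgroups with trivial intersection: there are cyclic subgroups A and B with A ∩ B = 1 and |A| · |B| = |G|. -/
theorem result {G : Type*} [Group G] [Finite G] {p : ℕ} [Fact p.Prime] (hp : p ≠ 2) (hG : IsPGroup p G) (hmc : Cfsg.IsMetacyclic G) : ∃ A B : Subgroup G, IsCyclic ↥A ∧ IsCyclic ↥B ∧ A ⊓ B = ⊥ ∧ Nat.card ↥A * Nat.card ↥B = Nat.card G := by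
  classical
  have hpp : p.Prime := Fact.out
  haveI := H30.isCyclic_commutator_of_isMetacyclic hmc
  obtain ⟨a, b, hAn, htop, -, hgen⟩ := H30.exists_generators_of_isMetacyclic hmc
  haveI := hAn
  obtain ⟨e, he⟩ := hG.index (Subgroup.zpowers a)
  have hoQ : orderOf (QuotientGroup.mk b : G ⧸ Subgroup.zpowers a) = p ^ e := by
    rw [← he, Subgroup.index, ← Nat.card_zpowers]
    have : Subgroup.zpowers (QuotientGroup.mk b : G ⧸ Subgroup.zpowers a) = ⊤ := by
      rw [eq_top_iff]
      intro q _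
      induction q using QuotientGroup.induction_on with | H g =>
      obtain ⟨u, t, rfl⟩ := hgen g
      rw [QuotientGroup.mk_mul, (QuotientGroup.eq_one_iff _).2 (zpow_mem (Subgroup.mem_zpowers a) u), one_mul]
      exact ⟨t, (QuotientGroup.mk_zpow _ b t).symm⟩
    rw [this, Subgroup.card_top]
  have hmemA : ∀ t : ℤ, b ^ t ∈ Subgroup.zpowers a → ((p ^ e : ℕ) : ℤ) ∣ t := by
    intro t ht
    rw [← hoQ, orderOf_dvd_iff_zpow_eq_one, ← QuotientGroup.mk_zpow]
    exact (QuotientGroup.eq_one_iff _).2 ht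
  have hbe : b ^ p ^ e ∈ Subgroup.zpowers a := by
    rw [← QuotientGroup.eq_one_iff, QuotientGroup.mk_pow, ← hoQ, pow_orderOf_eq_one]
  set J := Subgroup.zpowers (b ^ p ^ e) with hJ
  have hJA : J ≤ Subgroup.zpowers a := Subgroup.zpowers_le.2 hbe
  have hJB : J ≤ Subgroup.zpowers b := Subgroup.zpowers_le.2 (pow_mem (Subgroup.mem_zpowers b) _)
  haveI hJn : J.Normal := H30.normal_of_le_cyclic (A := Subgroup.zpowers a) hJA
  have hinfJ : ∀ x, x ∈ Subgroup.zpowers a → x ∈ Subgroup.zpowers b → x ∈ J := by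
    rintro _ hxA ⟨t, rfl⟩
    obtain ⟨c, hc⟩ := hmemA t hxA
    exact ⟨c, show (b ^ p ^ e) ^ c = b ^ t by rw [hc, zpow_mul, zpow_natCast]⟩
  obtain ⟨f, hf⟩ : ∃ f, J.relIndex (Subgroup.zpowers a) = p ^ f :=
    (hG.to_subgroup (Subgroup.zpowers a)).index _
  have hcardA : Nat.card J * p ^ f = orderOf a := by
    have := Subgroup.relIndex_mul_relIndex ⊥ J (Subgroup.zpowers a) bot_le hJA
    rw [Subgroup.relIndex_bot_left, Subgroup.relIndex_bot_left, hf, Nat.card_zpowers a] at this
    exact this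
  have hcardG : Nat.card G = orderOf a * p ^ e := by
    rw [← Nat.card_zpowers, ← he, Subgroup.card_mul_index]
  have haf : a ^ p ^ f ∈ J := by
    have hJn' : (J.subgroupOf (Subgroup.zpowers a)).Normal := inferInstance
    have h := (J.subgroupOf (Subgroup.zpowers a)).pow_index_mem ⟨a, Subgroup.mem_zpowers a⟩
    have hidx : (J.subgroupOf (Subgroup.zpowers a)).index = p ^ f := hf
    rw [hidx, Subgroup.mem_subgroupOf] at h
    exact h
  have hJeq : Subgroup.zpowers (a ^ p ^ f) = J := by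
    refine Subgroup.eq_of_le_of_card_ge (Subgroup.zpowers_le.2 haf) ?_
    conv_rhs => rw [Nat.card_zpowers, orderOf_pow, ← hcardA, Nat.gcd_eq_right (dvd_mul_left _ _),
      Nat.mul_div_cancel _ (pow_pos hpp.pos f)]
  rcases le_or_gt e f with hef | hef
  · -- split over the normal cyclic subgroup
    have hn : (Subgroup.zpowers (a ^ p ^ e)).Normal :=
      H30.normal_of_le_cyclic (A := Subgroup.zpowers a) (Subgroup.zpowers_le.2 (pow_mem (Subgroup.mem_zpowers a) _))
    have hmem : b ^ p ^ e ∈ Subgroup.zpowers (a ^ p ^ e) := by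
      have h1 : Subgroup.zpowers (a ^ p ^ f) ≤ Subgroup.zpowers (a ^ p ^ e) := by
        rw [Subgroup.zpowers_le, show p ^ f = p ^ e * p ^ (f - e) by rw [← pow_add]; congr 1; omega, pow_mul]
        exact pow_mem (Subgroup.mem_zpowers _) _
      exact h1 (hJeq.symm ▸ Subgroup.mem_zpowers _)
    obtain ⟨i, hi⟩ := H30.exists_mul_zpow_pow_eq_one hp hG hn hmem
    have hoQ' : orderOf (QuotientGroup.mk (b * a ^ i) : G ⧸ Subgroup.zpowers a) = p ^ e := by
      rw [QuotientGroup.mk_mul, (QuotientGroup.eq_one_iff _).2 (zpow_mem (Subgroup.mem_zpowers a) i), mul_one, hoQ]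
    have hord : orderOf (b * a ^ i) = p ^ e := by
      refine Nat.dvd_antisymm (orderOf_dvd_of_pow_eq_one hi) ?_
      rw [← hoQ']
      exact orderOf_map_dvd (QuotientGroup.mk' (Subgroup.zpowers a)) _
    refine ⟨Subgroup.zpowers a, Subgroup.zpowers (b * a ^ i), inferInstance, inferInstance, ?_, ?_⟩
    · rw [eq_bot_iff]
      rintro x ⟨hxA, t, rfl⟩
      rw [Subgroup.mem_bot]
      show (b * a ^ i) ^ t = 1
      rw [← orderOf_dvd_iff_zpow_eq_one, hord, ← hoQ', orderOf_dvd_iff_zpow_eq_one, ← QuotientGroup.mk_zpow]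
      exact (QuotientGroup.eq_one_iff _).2 hxA
    · rw [Nat.card_zpowers, Nat.card_zpowers, hord, hcardG]
  · set d := b ^ p ^ (e - f) with hd
    have hdf : d ^ p ^ f = b ^ p ^ e := by rw [hd, ← pow_mul, ← pow_add]; congr 2; omega
    obtain ⟨i, hi⟩ := H30.exists_mul_zpow_pow_eq_one hp hG (a := a) (d := d) (k := f)
      (by rw [hdf]; exact hJn) (by rw [hdf]; exact haf)
    set a' := a * d ^ i with ha'
    have key : ∀ k, f = k + 1 → a' ^ p ^ k ∉ Subgroup.zpowers b := by
      intro k hk hmem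
      haveI := H30.isCyclic_commutator_quotient J
      have hGJ := hG.to_quotient J
      set π := QuotientGroup.mk' J
      obtain ⟨s, hs⟩ := Subgroup.mem_zpowers_iff.1 hmem
      have hsp : ((p ^ e : ℕ) : ℤ) ∣ s * p := by
        apply hmemA
        rw [zpow_mul, hs, zpow_natCast, ← pow_mul, ← pow_succ, ← hk, hi]
        exact one_mem _
      obtain ⟨s', hs'⟩ : ((p ^ (e - 1) : ℕ) : ℤ) ∣ s := by
        rw [show e = (e - 1) + 1 by omega, pow_succ, Nat.cast_mul] at hsp
        exact Int.dvd_of_mul_dvd_mul_right (by exact_mod_cast hpp.ne_zero) hsp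
      have heq : (π (d ^ s')) ^ p ^ k = (π a') ^ p ^ k := by
        rw [← map_pow, ← map_pow, ← hs, hs', hd, ← zpow_natCast b (p ^ (e - f)), ← zpow_mul, ← zpow_natCast,
          ← zpow_mul]
        congr 2
        rw [mul_right_comm, ← Nat.cast_mul, ← pow_add]
        congr 3
        omega
      have h1 := (H30.pow_eq_pow_iff_aux hp hGJ k).1 _ _ heq
      -- conjugate and use the second law
      have h2 : ((π (d ^ i)) * π a) ^ p ^ k = (π (d ^ s')) ^ p ^ k := by
        have h4 : π (d ^ i) * π a = π (d ^ i) * π (d ^ s') * ((π (d ^ s'))⁻¹ * π a') * (π (d ^ i))⁻¹ := by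
          rw [ha', map_mul]; group
        have h5 : π (d ^ i) * π (d ^ s') * ((π (d ^ s'))⁻¹ * π a') * (π (d ^ i))⁻¹ =
            π (d ^ s') * (π (d ^ i) * ((π (d ^ s'))⁻¹ * π a') * (π (d ^ i))⁻¹) := by
          have hc : π (d ^ i) * π (d ^ s') = π (d ^ s') * π (d ^ i) := by
            rw [← map_mul, ← map_mul, ← zpow_add, ← zpow_add, add_comm]
          rw [hc]; group
        rw [h4, h5]
        refine (H30.pow_eq_pow_iff_aux hp hGJ k).2 _ _ ?_
        rw [conj_pow, h1, mul_one, mul_inv_cancel]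
      have h3 := (H30.pow_eq_pow_iff_aux hp hGJ k).1 _ _ h2.symm
      have h6 : (π a) ^ p ^ k = (π (d ^ (s' - i))) ^ p ^ k := by
        have h4 : π a = π (d ^ (s' - i)) * ((π (d ^ s'))⁻¹ * (π (d ^ i) * π a)) := by
          rw [← map_inv, ← map_mul, ← map_mul, ← map_mul]
          congr 1
          rw [zpow_sub]; group
        conv_lhs => rw [h4]
        exact (H30.pow_eq_pow_iff_aux hp hGJ k).2 _ _ h3
      have h7 : a ^ p ^ k ∈ J := by
        rw [← map_pow, ← map_pow] at h6
        have h8 := QuotientGroup.eq.1 h6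
        have h9 : (a ^ p ^ k)⁻¹ ∈ Subgroup.zpowers b := by
          have := mul_mem (hJB h8) (inv_mem (pow_mem (zpow_mem
            (pow_mem (Subgroup.mem_zpowers b) (p ^ (e - f)) : d ∈ Subgroup.zpowers b) (s' - i)) (p ^ k)))
          rwa [mul_inv_cancel_right] at this
        exact hinfJ _ (pow_mem (Subgroup.mem_zpowers a) _) (inv_mem_iff.1 h9)
      have h10 := Subgroup.card_le_of_le (Subgroup.zpowers_le.2 h7)
      rw [Nat.card_zpowers, orderOf_pow] at h10
      have h11 : Nat.gcd (orderOf a) (p ^ k) = p ^ k :=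
        Nat.gcd_eq_right (by rw [← hcardA, hk, pow_succ]; exact Dvd.intro_left (Nat.card J * p) (by ring))
      rw [h11, ← hcardA, hk, pow_succ', ← mul_assoc, Nat.mul_div_cancel _ (pow_pos hpp.pos k)] at h10
      have : p ≤ 1 := Nat.le_of_mul_le_mul_left (show Nat.card J * p ≤ Nat.card J * 1 by rwa [mul_one]) Nat.card_pos
      exact absurd this (not_le.2 hpp.one_lt)
    have hord : orderOf a' = p ^ f := by
      rcases Nat.eq_zero_or_pos f with h0 | hpos
      · rw [h0] at hi ⊢
        rw [pow_zero, pow_one] at hi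
        rw [pow_zero, orderOf_eq_one_iff]
        exact hi
      · obtain ⟨k, hk⟩ : ∃ k, f = k + 1 := ⟨f - 1, by omega⟩
        rw [hk] at hi ⊢
        exact orderOf_eq_prime_pow (fun h => key k hk (h ▸ one_mem _)) hi
    have hordb : orderOf b = p ^ e * Nat.card J := by
      have hJo : Nat.card J = orderOf (b ^ p ^ e) := Nat.card_zpowers _
      rw [hJo, orderOf_pow, ]
      have hdvd : p ^ e ∣ orderOf b := by
        rw [← hoQ]; exact orderOf_map_dvd (QuotientGroup.mk' (Subgroup.zpowers a)) b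
      rw [Nat.gcd_eq_right hdvd, Nat.mul_div_cancel' hdvd]
    refine ⟨Subgroup.zpowers a', Subgroup.zpowers b, inferInstance, inferInstance, ?_, ?_⟩
    · rw [eq_bot_iff]
      rintro x ⟨⟨t, rfl⟩, hxB⟩
      rw [Subgroup.mem_bot]
      show a' ^ t = 1
      rw [← orderOf_dvd_iff_zpow_eq_one, hord]
      by_contra hndvd
      have hg : Int.gcd t (p ^ f : ℕ) ∣ p ^ f := by
        exact_mod_cast Int.gcd_dvd_right t ((p ^ f : ℕ) : ℤ)
      obtain ⟨v, hv, hgv⟩ := (Nat.dvd_prime_pow hpp).1 hg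
      have hvf : v ≠ f := by
        rintro rfl
        apply hndvd
        have := Int.gcd_dvd_left t ((p ^ v : ℕ) : ℤ)
        rwa [hgv] at this
      obtain ⟨k, hk⟩ : ∃ k, f = k + 1 := ⟨f - 1, by omega⟩
      apply key k hk
      have hb := Int.gcd_eq_gcd_ab t (p ^ f : ℕ)
      rw [hgv] at hb
      have hv' : a' ^ p ^ v ∈ Subgroup.zpowers b := by
        rw [← zpow_natCast, hb, zpow_add, zpow_mul, zpow_mul, zpow_natCast a' (p ^ f), hi, one_zpow, mul_one]
        exact zpow_mem (show a' ^ t ∈ Subgroup.zpowers b from hxB) _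
      rw [show p ^ k = p ^ v * p ^ (k - v) by rw [← pow_add]; congr 1; omega, pow_mul]
      exact pow_mem hv' _
    · rw [Nat.card_zpowers, Nat.card_zpowers, hord, hordb, hcardG, ← hcardA]
      ring

end Cfsg.Agent.S3884
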