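import Cfsg.Statements.S3889
import Mathlib

set_option autoImplicit false
set_option linter.all false
open Cfsg

namespace Cfsg.Agent.S3889

/-- A finite abelian group that is the union of a family of proper subgroups any two of which intersect trivially is elementary abelian: its exponent is a prime. -/
theorem result {G : Type*} [CommGroup G] [Finite G] (𝓑 : Set (Subgroup G)) (hprop : ∀ B ∈ 𝓑, B ≠ ⊤)
    (hcov : ∀ g : G, ∃ B ∈ 𝓑, g ∈ B) (hdisj : ∀ B ∈ 𝓑, ∀ C ∈ 𝓑, B ≠ C → B ⊓ C = ⊥) :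
    (Monoid.exponent G).Prime := by
  have same : ∀ B ∈ 𝓑, ∀ C ∈ 𝓑, ∀ x, x ≠ 1 → x ∈ B → x ∈ C → B = C := by
    intro B hB C hC x hx hxB hxC
    by_contra h
    exact hx (Subgroup.mem_bot.1 (hdisj B hB C hC h ▸ ⟨hxB, hxC⟩ : x ∈ (⊥ : Subgroup G)))
  have key : ∀ B ∈ 𝓑, ∀ a ∈ B, a ≠ 1 → ∀ b, b ∉ B → orderOf a = orderOf b := by
    intro B hB a ha ha1 b hb
    obtain ⟨Bb, hBb, hbB⟩ := hcov b
    obtain ⟨C, hC, habC⟩ := hcov (a * b)
    have habB : a * b ∉ B := fun h => hb ((Subgroup.mul_mem_cancel_left B ha).1 h)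
    rcases lt_trichotomy (orderOf a) (orderOf b) with h | h | h
    · exfalso
      have h1 : (a * b) ^ orderOf a = b ^ orderOf a := by rw [mul_pow, pow_orderOf_eq_one, one_mul]
      have h2 : b ^ orderOf a ≠ 1 := pow_ne_one_of_lt_orderOf (orderOf_pos a).ne' h
      have h3 := same C hC Bb hBb _ h2 (h1 ▸ C.pow_mem habC _) (Bb.pow_mem hbB _)
      subst h3
      have h4 : a ∈ C := (Subgroup.mul_mem_cancel_right C hbB).1 habC
      exact hb (same B hB C hC a ha1 ha h4 ▸ hbB)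
    · exact h
    · exfalso
      have h1 : (a * b) ^ orderOf b = a ^ orderOf b := by rw [mul_pow, pow_orderOf_eq_one b, mul_one]
      have h2 : a ^ orderOf b ≠ 1 := pow_ne_one_of_lt_orderOf (orderOf_pos b).ne' h
      exact habB (same C hC B hB _ h2 (h1 ▸ C.pow_mem habC _) (B.pow_mem ha _) ▸ habC)
  obtain ⟨B₁, hB₁, -⟩ := hcov 1
  have hG1 : Nat.card G ≠ 1 := by
    intro h
    have := (Nat.card_eq_one_iff_unique.1 h).1
    apply hprop B₁ hB₁
    rw [eq_top_iff]
    intro x _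
    rw [Subsingleton.elim x 1]
    exact one_mem B₁
  obtain ⟨p, hp, hpd⟩ := Nat.exists_prime_and_dvd hG1
  haveI := Fact.mk hp
  obtain ⟨a, ha⟩ := exists_prime_orderOf_dvd_card' p hpd
  have ha1 : a ≠ 1 := fun h => hp.ne_one (by rw [← ha, h, orderOf_one])
  obtain ⟨B, hB, haB⟩ := hcov a
  obtain ⟨b0, hb0⟩ : ∃ b, b ∉ B := by
    by_contra h
    push Not at h
    exact hprop B hB (eq_top_iff.2 fun x _ => h x)
  have hall : ∀ x : G, x ^ p = 1 := by
    intro x
    by_cases hx1 : x = 1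
    · simp [hx1]
    apply orderOf_dvd_iff_pow_eq_one.1
    by_cases hx : x ∈ B
    · rw [key B hB x hx hx1 b0 hb0, ← key B hB a haB ha1 b0 hb0, ha]
    · rw [← key B hB a haB ha1 x hx, ha]
  rcases (Nat.dvd_prime hp).1 (Monoid.exponent_dvd_of_forall_pow_eq_one hall) with h | h
  · exfalso
    exact ha1 (by simpa [h] using Monoid.pow_exponent_eq_one a)
  · rw [h]; exact hp

end Cfsg.Agent.S3889
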