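import Cfsg.Statements.S3892
import Cfsg.Agent.H33.Basic

set_option autoImplicit false
open Cfsg

namespace Cfsg.Agent.S3892

open Equiv

/-- Two non-commuting elements of prime order with centralisers in one proper subgroup rule out a
nilpotent minimal cover. -/
theorem no_cover {G : Type*} [Group G] [Finite G] {p : ℕ} [Fact p.Prime] (hp2 : ¬ p ^ 2 ∣ Nat.card G)
    {x y : G} (hx : orderOf x = p) (hy : orderOf y = p) (hxy : ¬ Commute x y) (M : Subgroup G) (hM : M ≠ ⊤)
    (hcx : ∀ a, Commute a x → a ∈ M) (hcy : ∀ a, Commute a y → a ∈ M) :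
    ¬ ∃ 𝓐 : Finset (Subgroup G), ((∀ A ∈ 𝓐, A ≠ ⊤) ∧ (∀ g : G, ∃ A ∈ 𝓐, g ∈ A)) ∧
      (∀ 𝓑 : Finset (Subgroup G), (∀ A ∈ 𝓑, A ≠ ⊤) ∧ (∀ g : G, ∃ A ∈ 𝓑, g ∈ A) → 𝓐.card ≤ 𝓑.card) ∧
      (∀ A ∈ 𝓐, Group.IsNilpotent A) := by
  classical
  rintro ⟨𝓐, ⟨hproper, hcov⟩, hmin, hnil⟩
  have hcomm : ∀ A ∈ 𝓐, ∀ x ∈ A, orderOf x = p → ∀ a ∈ A, Commute a x := by
    intro A hA x hxA hxo a ha
    haveI := hnil A hA
    set a' : A := ⟨a, ha⟩
    set x' : A := ⟨x, hxA⟩
    have hxo' : orderOf x' = p := by rw [← Subgroup.orderOf_coe]; exact hxo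
    obtain ⟨e, m, hm, he⟩ := Nat.exists_eq_pow_mul_and_not_dvd (orderOf_pos a').ne' p
      (Fact.out : p.Prime).ne_one
    have hp0 : p ^ e ≠ 0 := pow_ne_zero _ (Fact.out : p.Prime).ne_zero
    have h1 : Commute (a' ^ p ^ e) x' := by
      refine (H33.commute_of_nilpotent (p := p) ⟨1, by rw [hxo', pow_one]⟩ ?_).symm
      rw [orderOf_pow_of_dvd hp0 (he ▸ dvd_mul_right _ _), he, Nat.mul_div_cancel_left _ (Nat.pos_of_ne_zero hp0)]
      exact hm
    have h2 : Commute (a' ^ m) x' := by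
      obtain ⟨P⟩ : Nonempty (Sylow p A) := inferInstance
      have hPn : (P : Subgroup A).Normal :=
        Sylow.normal_of_normalizerCondition Group.normalizerCondition_of_isNilpotent P
      obtain ⟨k, hk⟩ := P.isPGroup'.exists_card_eq
      have hk1 : k ≤ 1 := by
        by_contra hlt
        exact hp2 (((pow_dvd_pow p (not_le.mp hlt)).trans (hk ▸ Subgroup.card_subgroup_dvd_card _)).trans
          (Subgroup.card_subgroup_dvd_card A))
      haveI hcyc : IsCyclic (P : Subgroup A) := by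
        rcases Nat.eq_zero_or_pos k with rfl | h
        · haveI := (Nat.card_eq_one_iff_unique.mp (hk.trans (pow_zero p))).1
          infer_instance
        · exact isCyclic_of_prime_card (p := p) (by rw [hk, show k = 1 by omega, pow_one])
      have hmem : ∀ z : A, (∃ j, z ^ p ^ j = 1) → z ∈ (P : Subgroup A) := by
        rintro z ⟨j, hj⟩
        obtain ⟨Q, hQ⟩ := (IsPGroup.of_card (p := p) (n := ((Nat.dvd_prime_pow Fact.out).mp
          (orderOf_dvd_of_pow_eq_one hj)).choose) (G := Subgroup.zpowers z) (by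
            rw [Nat.card_zpowers]
            exact ((Nat.dvd_prime_pow Fact.out).mp (orderOf_dvd_of_pow_eq_one hj)).choose_spec.2)).exists_le_sylow
        haveI := Sylow.unique_of_normal P hPn
        exact Subsingleton.elim Q P ▸ hQ (Subgroup.mem_zpowers z)
      have e1 := hmem (a' ^ m) ⟨e, by rw [← pow_mul, mul_comm, ← he, pow_orderOf_eq_one]⟩
      have e2 := hmem x' ⟨1, by rw [pow_one, ← hxo', pow_orderOf_eq_one]⟩
      exact congrArg Subtype.val ((IsCyclic.commutative (α := (P : Subgroup A))).1.1 ⟨_, e1⟩ ⟨_, e2⟩)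
    obtain ⟨u, v, huv⟩ : IsCoprime ((p ^ e : ℕ) : ℤ) (m : ℤ) :=
      Nat.Coprime.isCoprime (((Fact.out : p.Prime).coprime_iff_not_dvd.mpr hm).pow_left e)
    have hdec : a' = (a' ^ p ^ e) ^ u * (a' ^ m) ^ v := by
      rw [← zpow_natCast, ← zpow_natCast a' m, ← zpow_mul, ← zpow_mul, ← zpow_add, mul_comm _ u,
        mul_comm _ v, huv, zpow_one]
    have h3 : Commute a' x' := hdec ▸ (h1.zpow_left u).mul_left (h2.zpow_left v)
    exact congrArg Subtype.val h3.eq
  obtain ⟨A, hA, hxA⟩ := hcov x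
  obtain ⟨B, hB, hyB⟩ := hcov y
  have hAB : A ≠ B := by
    rintro rfl
    exact hxy (hcomm A hA y hyB hy x hxA)
  have hAM : A ≤ M := fun a ha => hcx a (hcomm A hA x hxA hx a ha)
  have hBM : B ≤ M := fun a ha => hcy a (hcomm B hB y hyB hy a ha)
  have hle := hmin (insert M ((𝓐.erase A).erase B)) ⟨fun C hC => ?_, fun g => ?_⟩
  · have h1 := Finset.card_insert_le M ((𝓐.erase A).erase B)
    have hB' : B ∈ 𝓐.erase A := Finset.mem_erase.mpr ⟨hAB.symm, hB⟩
    rw [Finset.card_erase_of_mem hB', Finset.card_erase_of_mem hA] at h1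
    have : 2 ≤ 𝓐.card := Finset.one_lt_card.mpr ⟨A, hA, B, hB, hAB⟩
    omega
  · rcases Finset.mem_insert.mp hC with rfl | h
    · exact hM
    · exact hproper C (Finset.mem_of_mem_erase (Finset.mem_of_mem_erase h))
  · obtain ⟨C, hC, hg⟩ := hcov g
    by_cases h1 : C = A
    · exact ⟨M, Finset.mem_insert_self _ _, hAM (h1 ▸ hg)⟩
    by_cases h2 : C = B
    · exact ⟨M, Finset.mem_insert_self _ _, hBM (h2 ▸ hg)⟩
    exact ⟨C, Finset.mem_insert_of_mem (Finset.mem_erase.mpr ⟨h2, Finset.mem_erase.mpr ⟨h1, hC⟩⟩), hg⟩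

theorem not_sq_dvd_factorial {p : ℕ} (hp : p.Prime) : ∀ m, m < 2 * p → ¬ p ^ 2 ∣ m.factorial
  | 0, _ => by
    intro h
    have := Nat.le_of_dvd one_pos (by simpa using h)
    nlinarith [hp.two_le]
  | m + 1, hm => by
    intro h
    rw [Nat.factorial_succ] at h
    by_cases hmp : m + 1 = p
    · rw [hmp, pow_two] at h
      have := hp.dvd_factorial.mp (Nat.dvd_of_mul_dvd_mul_left hp.pos h)
      omega
    · refine not_sq_dvd_factorial hp m (by omega) (Nat.Coprime.dvd_of_dvd_mul_left ?_ h)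
      refine Nat.Coprime.pow_left 2 (hp.coprime_iff_not_dvd.mpr fun hd => hmp ?_)
      obtain ⟨c, hc⟩ := hd
      rcases c with _ | _ | c
      · omega
      · omega
      · nlinarith

theorem card_dvd {n : ℕ} {G : Type*} [Group G] (ι : G →* Perm (Fin n)) (hι : Function.Injective ι) :
    Nat.card G ∣ n.factorial := by
  have := Subgroup.card_dvd_of_injective ι hι
  rwa [Nat.card_perm, Nat.card_fin] at this

/-- The general case `n ≥ 6`. -/
theorem large {n : ℕ} (hn : 6 ≤ n) {G : Type*} [Group G] [Finite G] (ι : G →* Perm (Fin n))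
    (hι : Function.Injective ι) (hev : ∀ σ : Perm (Fin n), Perm.sign σ = 1 → σ ∈ ι.range) :
    ¬ ∃ 𝓐 : Finset (Subgroup G), ((∀ A ∈ 𝓐, A ≠ ⊤) ∧ (∀ g : G, ∃ A ∈ 𝓐, g ∈ A)) ∧
      (∀ 𝓑 : Finset (Subgroup G), (∀ A ∈ 𝓑, A ≠ ⊤) ∧ (∀ g : G, ∃ A ∈ 𝓑, g ∈ A) → 𝓐.card ≤ 𝓑.card) ∧
      (∀ A ∈ 𝓐, Group.IsNilpotent A) := by
  classical
  obtain ⟨p, hp, hlt, hle⟩ := Nat.exists_prime_lt_and_le_two_mul (n / 2) (by omega)
  have hpn : p < n := by
    rcases lt_or_eq_of_le (show p ≤ n by omega) with h | h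
    · exact h
    · exfalso
      have h2 : 2 ∣ p := ⟨n / 2, by omega⟩
      rcases (Nat.dvd_prime hp).mp h2 with h' | h' <;> omega
  have hp5 : 5 ≤ p := by
    by_contra h
    interval_cases p <;> first | omega | (revert hp; norm_num)
  haveI := Fact.mk hp
  haveI : NeZero p := ⟨by omega⟩
  let e : Fin p ↪ Fin n := Fin.castLEEmb hpn.le
  let c : Perm (Fin p) := Equiv.addRight (1 : Fin p)
  set x : Perm (Fin n) := c.viaEmbedding e with hxdef
  have hxe : ∀ i, x (e i) = e (i + 1) := fun i => Perm.viaEmbedding_apply c e i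
  have hxout : ∀ i : Fin n, p ≤ (i : ℕ) → x i = i := fun i hi =>
    Perm.viaEmbedding_apply_of_notMem c e i (by rintro ⟨j, rfl⟩; exact absurd j.2 (not_lt.mpr hi))
  have hmem : ∀ i : Fin n, (i : ℕ) < p → ∃ j, e j = i := fun i hi => ⟨⟨i, hi⟩, rfl⟩
  have hmoves : ∀ i : Fin n, x i ≠ i ↔ (i : ℕ) < p := by
    intro i
    constructor
    · intro h; by_contra h'; exact h (hxout i (not_lt.mp h'))
    · intro h e'
      obtain ⟨j, rfl⟩ := hmem i h
      rw [hxe] at e'
      have := e.injective e'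
      rw [add_eq_left] at this
      have h1 := congrArg Fin.val this
      simp [Fin.val_one', Nat.one_mod_eq_one.mpr (show p ≠ 1 by omega)] at h1
  have hxp : x ^ p = 1 := by
    have hc : c ^ p = 1 := by
      have hk : ∀ k : ℕ, ∀ i : Fin p, (c ^ k) i = i + (k • (1 : Fin p)) := by
        intro k
        induction k with
        | zero => intro i; simp
        | succ k ih => intro i; rw [pow_succ, Perm.mul_apply, ih, succ_nsmul]; show i + 1 + _ = _; abel
      ext i
      rw [hk p i]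
      have : p • (1 : Fin p) = 0 := by
        have := card_nsmul_eq_zero (x := (1 : Fin p))
        simpa using this
      rw [this, add_zero]; rfl
    show (Perm.viaEmbeddingHom e c) ^ p = 1
    rw [← map_pow, hc, map_one]
  have hx1 : x ≠ 1 := fun h => (hmoves (e 0)).mpr (by show 0 < p; omega) (by rw [h]; rfl)
  have hxs : Perm.sign x = 1 := by
    rcases Int.units_eq_one_or (Perm.sign x) with h | h
    · exact h
    · have := congrArg Perm.sign hxp
      rw [map_pow, h, map_one, (hp.odd_of_ne_two (by omega)).neg_one_pow] at this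
      exact absurd this (by decide)
  let P : Fin n := ⟨0, by omega⟩
  set σ : Perm (Fin n) := swap (e 0) (e 1) with hσ
  set y := σ * x * σ⁻¹ with hydef
  have hys : Perm.sign y = 1 := by rw [hydef, map_mul, map_mul, map_inv, hxs, mul_one, mul_inv_cancel]
  obtain ⟨x', hx'⟩ := hev x hxs
  obtain ⟨y', hy'⟩ := hev y hys
  have hσT : ∀ i : Fin n, ((σ i : Fin n) : ℕ) < p ↔ (i : ℕ) < p := by
    intro i
    rw [hσ]
    rcases eq_or_ne i (e 0) with rfl | h0
    · rw [swap_apply_left]; exact iff_of_true (1 : Fin p).2 (0 : Fin p).2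
    rcases eq_or_ne i (e 1) with rfl | h1
    · rw [swap_apply_right]; exact iff_of_true (0 : Fin p).2 (1 : Fin p).2
    rw [swap_apply_of_ne_of_ne h0 h1]
  let S : Subgroup (Perm (Fin n)) :=
    { carrier := {g | ∀ i : Fin n, ((g i : Fin n) : ℕ) < p ↔ (i : ℕ) < p}
      one_mem' := fun _ => Iff.rfl
      mul_mem' := fun {g h} hg hh i => (hg (h i)).trans (hh i)
      inv_mem' := fun {g} hg i => by simpa using (hg (g⁻¹ i)).symm }
  have hcx : ∀ g, Commute g x → g ∈ S := by
    intro g hg i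
    rw [← hmoves, ← hmoves]
    have h : x (g i) = g (x i) := (Equiv.congr_fun hg.eq i).symm
    rw [h]
    exact g.injective.ne_iff
  refine no_cover (p := p) (x := x') (y := y') ?_ ?_ ?_ ?_ (S.comap ι) ?_ ?_ ?_
  · exact fun h => not_sq_dvd_factorial hp n (by omega) (h.trans (card_dvd ι hι))
  · rw [← orderOf_injective ι hι, hx']; exact orderOf_eq_prime hxp hx1
  · rw [← orderOf_injective ι hι, hy']
    refine orderOf_eq_prime (by rw [hydef, conj_pow, hxp, mul_one, mul_inv_cancel]) fun h => hx1 ?_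
    have := congrArg (fun g => σ⁻¹ * g * σ) h
    simpa [hydef, mul_assoc] using this
  · intro hc
    have hc' : Commute x y := hx' ▸ hy' ▸ hc.map ι
    -- evaluate at the point `0`
    have h := Equiv.congr_fun hc'.eq (e 0)
    let i2 : Fin p := ⟨2, by omega⟩
    let i3 : Fin p := ⟨3, by omega⟩
    have s12 : (1 : Fin p) + 1 = i2 := Fin.ext (by simp [i2, Fin.val_add, Fin.val_one', Nat.mod_eq_of_lt (show 2 < p by omega)])
    have s23 : i2 + 1 = i3 := Fin.ext (by simp [i2, i3, Fin.val_add, Fin.val_one', Nat.mod_eq_of_lt (show 3 < p by omega)])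
    have v1 : ((1 : Fin p) : ℕ) = 1 := by rw [Fin.val_one', Nat.mod_eq_of_lt]; omega
    have v0 : ((0 : Fin p) : ℕ) = 0 := rfl
    have hev' : ∀ a b : Fin p, (a : ℕ) ≠ b → e a ≠ e b := fun a b hab he => hab (congrArg Fin.val (e.injective he))
    have e20 : e i2 ≠ e 0 := hev' _ _ (by simp [i2, v0])
    have e21 : e i2 ≠ e 1 := hev' _ _ (by rw [v1]; show (2 : ℕ) ≠ 1; norm_num)
    have e30 : e i3 ≠ e 0 := hev' _ _ (by simp [i3, v0])
    -- `y` sends `0 ↦ 2` and `1 ↦ 0`
    have hy0 : y (e 0) = e i2 := by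
      show σ (x (σ⁻¹ (e 0))) = _
      rw [hσ, swap_inv, swap_apply_left, hxe, s12, swap_apply_of_ne_of_ne e20 e21]
    have hy1 : y (e 1) = e 0 := by
      show σ (x (σ⁻¹ (e 1))) = _
      rw [hσ, swap_inv, swap_apply_right, hxe, zero_add, swap_apply_right]
    simp only [Perm.mul_apply] at h
    rw [hy0, hxe, hxe, zero_add, hy1, s23] at h
    exact e30 h
  · intro h
    let Z : Fin n := ⟨n - 1, by omega⟩
    let i2 : Fin p := ⟨2, by omega⟩
    have v1 : ((1 : Fin p) : ℕ) = 1 := by rw [Fin.val_one', Nat.mod_eq_of_lt]; omega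
    have hev' : ∀ a b : Fin p, (a : ℕ) ≠ b → e a ≠ e b := fun a b hab he => hab (congrArg Fin.val (e.injective he))
    have e12 : e 1 ≠ e i2 := hev' _ _ (by rw [v1]; show (1 : ℕ) ≠ 2; norm_num)
    have e02 : e 0 ≠ e i2 := hev' _ _ (by simp [i2])
    have e01 : e 0 ≠ e 1 := hev' _ _ (by rw [v1]; show (0 : ℕ) ≠ 1; norm_num)
    set w : Perm (Fin n) := swap (e 0) Z * swap (e 1) (e i2)
    have h01 : e 0 ≠ Z := fun e' => by
      have := congrArg Fin.val e'
      simp [e, Z] at this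
      omega
    obtain ⟨w', hw'⟩ := hev w (by rw [map_mul, Perm.sign_swap h01, Perm.sign_swap e12]; simp)
    have hw : ι w' ∈ S := show w' ∈ S.comap ι from h ▸ Subgroup.mem_top w'
    rw [hw'] at hw
    have h2 := (hw (e 0)).mpr (0 : Fin p).2
    rw [Perm.mul_apply, swap_apply_of_ne_of_ne e01 e02, swap_apply_left] at h2
    simp [Z] at h2
    omega
  · intro a ha
    exact hcx _ (hx' ▸ ha.map ι)
  · intro a ha
    have h1 : Commute (σ⁻¹ * ι a * σ) x := by
      have h2 : Commute (ι a) y := hy' ▸ ha.map ι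
      show σ⁻¹ * ι a * σ * x = x * (σ⁻¹ * ι a * σ)
      calc σ⁻¹ * ι a * σ * x = σ⁻¹ * (ι a * y) * σ := by rw [hydef]; group
        _ = σ⁻¹ * (y * ι a) * σ := by rw [h2.eq]
        _ = _ := by rw [hydef]; group
    have := S.mul_mem (S.mul_mem (show σ ∈ S from hσT) (hcx _ h1)) (S.inv_mem (show σ ∈ S from hσT))
    simpa [mul_assoc] using this

theorem sym_four : ∀ a : Perm (Fin 4), a * swap 0 1 * swap 1 2 = swap 0 1 * swap 1 2 * a ∨
    a * swap 0 1 * swap 1 3 = swap 0 1 * swap 1 3 * a → Perm.sign a = 1 := by decide +kernel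

theorem sym_five : ∀ a : Perm (Fin 5),
    a * (swap 0 1 * swap 1 2 * swap 2 3 * swap 3 4) = swap 0 1 * swap 1 2 * swap 2 3 * swap 3 4 * a ∨
    a * (swap 0 2 * swap 2 1 * swap 1 3 * swap 3 4) = swap 0 2 * swap 2 1 * swap 1 3 * swap 3 4 * a →
      Perm.sign a = 1 := by decide +kernel

theorem alt_five : ∀ a : Perm (Fin 5), Perm.sign a = 1 → (a * (swap 0 1 * swap 1 2) = swap 0 1 * swap 1 2 * a ∨
    a * (swap 0 1 * swap 1 3) = swap 0 1 * swap 1 3 * a) → a 4 = 4 := by decide +kernel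

/-- A cover of a group is a finite set of proper subgroups whose union is the whole group; it is minimal when no cover has fewer members, and nilpotent when all its members are nilpotent. The alternating groups of degree at least 5 and the symmetric groups of degree at least 4 have no nilpotent minimal cover. -/
theorem result (n : ℕ) :
    (5 ≤ n → ¬ ∃ 𝓐 : Finset (Subgroup ↥(alternatingGroup (Fin n))), ((∀ A ∈ 𝓐, A ≠ ⊤) ∧ (∀ g : ↥(alternatingGroup (Fin n)), ∃ A ∈ 𝓐, g ∈ A)) ∧ (∀ 𝓑 : Finset (Subgroup ↥(alternatingGroup (Fin n))), (∀ A ∈ 𝓑, A ≠ ⊤) ∧ (∀ g : ↥(alternatingGroup (Fin n)), ∃ A ∈ 𝓑, g ∈ A) → 𝓐.card ≤ 𝓑.card) ∧ (∀ A ∈ 𝓐, Group.IsNilpotent ↥A)) ∧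
    (4 ≤ n → ¬ ∃ 𝓐 : Finset (Subgroup (Equiv.Perm (Fin n))), ((∀ A ∈ 𝓐, A ≠ ⊤) ∧ (∀ g : (Equiv.Perm (Fin n)), ∃ A ∈ 𝓐, g ∈ A)) ∧ (∀ 𝓑 : Finset (Subgroup (Equiv.Perm (Fin n))), (∀ A ∈ 𝓑, A ≠ ⊤) ∧ (∀ g : (Equiv.Perm (Fin n)), ∃ A ∈ 𝓑, g ∈ A) → 𝓐.card ≤ 𝓑.card) ∧ (∀ A ∈ 𝓐, Group.IsNilpotent ↥A)) := by
  refine ⟨fun hn => ?_, fun hn => ?_⟩
  · rcases Nat.lt_or_ge n 6 with h | h
    · obtain rfl : n = 5 := by omega
      haveI := Fact.mk Nat.prime_three
      let x : alternatingGroup (Fin 5) := ⟨swap 0 1 * swap 1 2, Perm.mem_alternatingGroup.mpr (by decide)⟩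
      let y : alternatingGroup (Fin 5) := ⟨swap 0 1 * swap 1 3, Perm.mem_alternatingGroup.mpr (by decide)⟩
      refine no_cover (p := 3) (x := x) (y := y) ?_ ?_ ?_ ?_
        (MulAction.stabilizer (alternatingGroup (Fin 5)) (4 : Fin 5)) ?_ ?_ ?_
      · intro h
        exact not_sq_dvd_factorial Nat.prime_three 5 (by omega)
          (h.trans (card_dvd (alternatingGroup (Fin 5)).subtype Subtype.val_injective))
      · exact orderOf_eq_prime (by decide +kernel) (by decide +kernel)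
      · exact orderOf_eq_prime (by decide +kernel) (by decide +kernel)
      · intro h
        have := congrArg Subtype.val h.eq
        revert this
        decide +kernel
      · intro h
        have hmem : (⟨swap 0 4 * swap 1 2, Perm.mem_alternatingGroup.mpr (by decide)⟩ : alternatingGroup (Fin 5)) ∈
            MulAction.stabilizer (alternatingGroup (Fin 5)) (4 : Fin 5) := h ▸ Subgroup.mem_top _
        have h4 : (swap 0 4 * swap 1 2 : Perm (Fin 5)) 4 = 4 := hmem
        revert h4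
        decide +kernel
      · exact fun a ha => alt_five a a.2 (Or.inl (congrArg Subtype.val ha.eq))
      · exact fun a ha => alt_five a a.2 (Or.inr (congrArg Subtype.val ha.eq))
    · refine large h (alternatingGroup (Fin n)).subtype Subtype.val_injective fun σ hσ => ⟨⟨σ, hσ⟩, rfl⟩
  · have hA : (alternatingGroup (Fin n)) ≠ ⊤ := by
      intro h
      have hmem : swap (⟨0, by omega⟩ : Fin n) ⟨1, by omega⟩ ∈ alternatingGroup (Fin n) := h ▸ Subgroup.mem_top _
      rw [Perm.mem_alternatingGroup, Perm.sign_swap (by simp [Fin.ext_iff])] at hmem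
      exact absurd hmem (by decide)
    rcases Nat.lt_or_ge n 6 with h | h
    · obtain rfl | rfl : n = 4 ∨ n = 5 := by omega
      · haveI := Fact.mk Nat.prime_three
        refine no_cover (p := 3) (x := swap (0 : Fin 4) 1 * swap 1 2) (y := swap (0 : Fin 4) 1 * swap 1 3)
          ?_ ?_ ?_ ?_ (alternatingGroup (Fin 4)) hA ?_ ?_
        · exact fun h => not_sq_dvd_factorial Nat.prime_three 4 (by omega)
            (h.trans (card_dvd (MonoidHom.id (Perm (Fin 4))) Function.injective_id))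
        · exact orderOf_eq_prime (by decide +kernel) (by decide +kernel)
        · exact orderOf_eq_prime (by decide +kernel) (by decide +kernel)
        · intro h; have := h.eq; revert this; decide +kernel
        · exact fun a ha => Perm.mem_alternatingGroup.mpr (sym_four a (Or.inl (by simpa [mul_assoc] using ha.eq)))
        · exact fun a ha => Perm.mem_alternatingGroup.mpr (sym_four a (Or.inr (by simpa [mul_assoc] using ha.eq)))
      · haveI := Fact.mk (show Nat.Prime 5 by norm_num)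
        refine no_cover (p := 5) (x := swap (0 : Fin 5) 1 * swap 1 2 * swap 2 3 * swap 3 4)
          (y := swap (0 : Fin 5) 2 * swap 2 1 * swap 1 3 * swap 3 4) ?_ ?_ ?_ ?_ (alternatingGroup (Fin 5)) hA ?_ ?_
        · exact fun h => not_sq_dvd_factorial (show Nat.Prime 5 by norm_num) 5 (by omega)
            (h.trans (card_dvd (MonoidHom.id (Perm (Fin 5))) Function.injective_id))
        · exact orderOf_eq_prime (by decide +kernel) (by decide +kernel)
        · exact orderOf_eq_prime (by decide +kernel) (by decide +kernel)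
        · intro h; have := h.eq; revert this; decide +kernel
        · exact fun a ha => Perm.mem_alternatingGroup.mpr (sym_five a (Or.inl ha.eq))
        · exact fun a ha => Perm.mem_alternatingGroup.mpr (sym_five a (Or.inr ha.eq))
    · exact large h (MonoidHom.id (Perm (Fin n))) Function.injective_id fun σ _ => ⟨σ, rfl⟩

end Cfsg.Agent.S3892
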