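import Cfsg.Statements.S3893
import Cfsg.Agent.H57.SzCover
import Cfsg.Agent.H57.SzForm
-- import your own Cfsg.Agent.* helpers here

set_option autoImplicit false
open Cfsg

namespace Cfsg.Agent.S3893

/-- A cover of a group is a finite set of proper subgroups whose union is the whole group; it is minimal when no cover has fewer members, and nilpotent when all its members are nilpotent. The Suzuki groups Sz(q), q = 2^(2m+1) with m ≥ 1, have no nilpotent minimal cover. -/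
theorem result {F : Type*} [Field F] [Fintype F] (m : ℕ) (hm : 1 ≤ m) (hF : Fintype.card F = 2 ^ (2 * m + 1)) :
    ¬ ∃ 𝓐 : Finset (Subgroup ↥(Cfsg.Lie.Sz F (2 ^ (m + 1)))), ((∀ A ∈ 𝓐, A ≠ ⊤) ∧ (∀ g : ↥(Cfsg.Lie.Sz F (2 ^ (m + 1))), ∃ A ∈ 𝓐, g ∈ A)) ∧ (∀ 𝓑 : Finset (Subgroup ↥(Cfsg.Lie.Sz F (2 ^ (m + 1)))), (∀ A ∈ 𝓑, A ≠ ⊤) ∧ (∀ g : ↥(Cfsg.Lie.Sz F (2 ^ (m + 1))), ∃ A ∈ 𝓑, g ∈ A) → 𝓐.card ≤ 𝓑.card) ∧ (∀ A ∈ 𝓐, Group.IsNilpotent ↥A) := by
  classical
  rintro ⟨𝓐, ⟨hne, hcov⟩, hmin, hnil⟩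
  let e := H57.lieSzEquiv hm hF
  let up : Subgroup (Cfsg.Sz F m) → Subgroup ↥(Cfsg.Lie.Sz F (2 ^ (m + 1))) := Subgroup.map e.toMonoidHom
  let down : Subgroup ↥(Cfsg.Lie.Sz F (2 ^ (m + 1))) → Subgroup (Cfsg.Sz F m) :=
    Subgroup.comap e.toMonoidHom
  obtain ⟨𝓑, hB, hBc, hlt⟩ := H57.sz_cover_smaller hm hF (𝓐.image down)
    (fun g => by
      obtain ⟨A, hA, hg⟩ := hcov (e g)
      exact ⟨down A, Finset.mem_image_of_mem _ hA, hg⟩)
    (fun A' hA' => by
      obtain ⟨A, hA, rfl⟩ := Finset.mem_image.mp hA'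
      haveI := hnil A hA
      exact Group.nilpotent_of_mulEquiv ((MulEquiv.subgroupCongr
        (Subgroup.map_comap_eq_self_of_surjective e.surjective A).symm).trans
          ((down A).equivMapOfInjective e.toMonoidHom e.injective).symm))
  have h1 := hmin (𝓑.image up) ⟨fun A' hA' htop => by
      obtain ⟨A, hA, rfl⟩ := Finset.mem_image.mp hA'
      apply hB A hA
      rw [← Subgroup.comap_map_eq_self_of_injective (f := e.toMonoidHom) e.injective A,
        show Subgroup.map e.toMonoidHom A = ⊤ from htop, Subgroup.comap_top],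
    fun g => by
      obtain ⟨A, hA, hg⟩ := hBc (e.symm g)
      exact ⟨up A, Finset.mem_image_of_mem _ hA, ⟨e.symm g, hg, e.apply_symm_apply g⟩⟩⟩
  have h2 : (𝓑.image up).card ≤ 𝓑.card := Finset.card_image_le
  have h3 : (𝓐.image down).card ≤ 𝓐.card := Finset.card_image_le
  omega

end Cfsg.Agent.S3893
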