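import Cfsg.Statements.S3898
import Cfsg.Agent.H26.ClassCountStatements

set_option autoImplicit false
open Cfsg

namespace Cfsg.Agent.S3898

/-- Let π be a finite set of primes containing 2 and G a finite group. Write k_π(G) for the number of conjugacy classes of G consisting of π-elements (elements all of whose order's prime divisors lie in π) and |G|_π for the π-part of the order of G. If k_π(G) > |G|_π/2, then G has a normal π-complement (a normal subgroup of order prime to π whose index is a π-number) and an abelian Hall subgroup for the set of odd primes in π. -/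
theorem result {G : Type*} [Group G] [Finite G] (π : Finset ℕ) (hπ : ∀ r ∈ π, r.Prime) (h2 : 2 ∈ π)
    (hk : π.prod (fun r => r ^ (Nat.card G).factorization r) < 2 * Nat.card {c : ConjClasses G // ∀ x ∈ c.carrier, ∀ r : ℕ, r.Prime → r ∣ orderOf x → r ∈ π}) :
    (∃ N : Subgroup G, N.Normal ∧ (∀ r : ℕ, r.Prime → r ∣ Nat.card ↥N → r ∉ π) ∧ ∀ r : ℕ, r.Prime → r ∣ N.index → r ∈ π) ∧ ∃ H : Subgroup G, Cfsg.IsPiHall ((↑π : Set ℕ) \ {2}) H ∧ IsMulCommutative ↥H := by
  classical
  rw [H26.card_classes_pi_eq π hπ] at hk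
  haveI := Fact.mk Nat.prime_two
  have hhalf : ∀ q ∈ π, ∀ P : Sylow q G, Nat.card ↥(P : Subgroup G) < 2 * H26.kP q G := by
    intro q hq P
    haveI := Fact.mk (hπ q hq)
    obtain ⟨b, hb, hb0, hle⟩ := H26.kPow_piPart_le (G := G) π hπ hq
    rw [P.card_eq_multiplicity]
    have h1 : q ^ (Nat.card G).factorization q * b < 2 * (H26.kP q G * b) := by
      rw [← hb]
      exact lt_of_lt_of_le hk (Nat.mul_le_mul_left _ hle)
    rw [← mul_assoc] at h1
    exact Nat.lt_of_mul_lt_mul_right h1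
  obtain ⟨P₂⟩ : Nonempty (Sylow 2 G) := inferInstance
  have h2n := H26.two_nilpotent_of_kP P₂ (hhalf 2 h2 P₂)
  have hcompl := H5.pResidual_isComplement' h2n P₂
  have hM2 : ¬ 2 ∣ Nat.card ↥(Cfsg.pResidual 2 G) := H5.not_dvd_card_of_isComplement' hcompl
  haveI hMn : (Cfsg.pResidual 2 G).Normal := inferInstance
  generalize Cfsg.pResidual 2 G = M at hcompl hM2 hMn
  haveI := hMn
  let σ := π.erase 2
  have hσ : ∀ r ∈ σ, r.Prime := fun r hr => hπ r (Finset.mem_of_mem_erase hr)
  have hkey : ∀ q ∈ σ, Cfsg.HasNormalPComplement q ↥M ∧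
      ∀ P : Sylow q ↥M, IsMulCommutative ↥(P : Subgroup ↥M) := by
    intro q hq
    have hqπ := Finset.mem_of_mem_erase hq
    have hq2 := Finset.ne_of_mem_erase hq
    haveI := Fact.mk (hπ q hqπ)
    obtain ⟨P₀⟩ : Nonempty (Sylow q G) := inferInstance
    refine ⟨?_, fun P => ?_⟩
    · obtain ⟨P₁⟩ : Nonempty (Sylow q ↥M) := inferInstance
      refine H26.hasNormalPComplement_of_centralizes P₁ fun Q r i x hQ hr hrq hxN hx hrs => ?_
      by_contra hc
      have hx1 : x ≠ 1 := fun h => hc (h ▸ one_mem _)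
      obtain ⟨s, hs, hsd⟩ := Nat.exists_prime_and_dvd (fun h => hx1 (orderOf_eq_one_iff.1 h))
      have hr2 : r ≠ 2 := by
        rintro rfl
        rw [hrs s hs hsd] at hsd
        exact hM2 (hsd.trans (orderOf_dvd_natCard x))
      refine absurd (hhalf q hqπ P₀) (not_lt.2 ?_)
      refine (H26.kP_bound hr hrq (Q := Q.map M.subtype) (hQ.map _) (x := (x : G)) ?_
        (i := i) (by exact_mod_cast congrArg (Subtype.val : ↥M → G) hx) ?_ P₀).2.2 hr2 hq2
      · exact Subgroup.le_normalizer_map M.subtype ⟨x, hxN, rfl⟩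
      · intro h
        refine hc (Subgroup.mem_centralizer_iff.2 fun t ht => Subtype.ext ?_)
        exact Subgroup.mem_centralizer_iff.1 h t ⟨t, ht, rfl⟩
    · obtain ⟨R, hR⟩ := (P.isPGroup'.map M.subtype).exists_le_sylow
      have hRc := H26.abelian_of_kP_half hq2 R (hhalf q hqπ R)
      refine ⟨⟨fun a b => ?_⟩⟩
      apply Subtype.ext
      apply Subtype.ext
      change ((a : ↥M) : G) * ((b : ↥M) : G) = ((b : ↥M) : G) * ((a : ↥M) : G)
      exact congrArg Subtype.val (IsMulCommutative.is_comm.comm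
        (⟨((a : ↥M) : G), hR ⟨a, a.2, rfl⟩⟩ : ↥(R : Subgroup G)) ⟨((b : ↥M) : G), hR ⟨b, b.2, rfl⟩⟩)
  obtain ⟨K, hK, h1, h2', H, ⟨hH1, hH2⟩, hHc⟩ := H26.exists_complement_hall σ hσ hkey
  have hMidx : ∀ r : ℕ, r.Prime → r ∣ M.index → r = 2 := by
    intro r hr hrd
    obtain ⟨j, hj⟩ := IsPGroup.iff_card.1 P₂.isPGroup'
    rw [hcompl.symm.index_eq_card, hj] at hrd
    exact (Nat.prime_dvd_prime_iff_eq hr Nat.prime_two).1 (hr.dvd_of_dvd_pow hrd)
  constructor
  · refine ⟨K.map M.subtype, inferInstance, fun r hr hrd hrπ => ?_, fun r hr hrd => ?_⟩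
    · rw [Subgroup.card_map_of_injective M.subtype_injective] at hrd
      rcases eq_or_ne r 2 with rfl | hr2
      · exact hM2 (hrd.trans (Subgroup.card_subgroup_dvd_card K))
      · exact h1 r hr hrd (Finset.mem_erase.2 ⟨hr2, hrπ⟩)
    · rw [Subgroup.index_map_subtype] at hrd
      rcases (Nat.Prime.dvd_mul hr).1 hrd with h | h
      · exact Finset.mem_of_mem_erase (h2' r hr h)
      · exact hMidx r hr h ▸ h2
  · refine ⟨H.map M.subtype, ⟨fun r hr hrd => ?_, fun r hr hrσ hrd => ?_⟩, ?_⟩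
    · rw [Subgroup.card_map_of_injective M.subtype_injective] at hrd
      have := Finset.mem_erase.1 (hH1 r hr hrd)
      exact ⟨this.2, this.1⟩
    · have hr2 : r ≠ 2 := fun h => hrσ.2 h
      rw [Subgroup.index_map_subtype] at hrd
      rcases (Nat.Prime.dvd_mul hr).1 hrd with h | h
      · exact hH2 r hr (Finset.mem_erase.2 ⟨hr2, hrσ.1⟩) h
      · exact hr2 (hMidx r hr h)
    · haveI := hHc
      refine ⟨⟨?_⟩⟩
      rintro ⟨_, a, ha, rfl⟩ ⟨_, b, hb, rfl⟩
      exact Subtype.ext (congrArg (fun z : ↥H => ((z : ↥M) : G))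
        (IsMulCommutative.is_comm.comm (⟨a, ha⟩ : ↥H) ⟨b, hb⟩))

end Cfsg.Agent.S3898
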