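import Cfsg.Statements.S3899
import Cfsg.Agent.H26.ClassCountStatements

set_option autoImplicit false
open Cfsg

namespace Cfsg.Agent.S3899

/-- Let π be a finite non-empty set of odd primes with smallest member p and G a finite group. Write k_π(G) for the number of conjugacy classes of G consisting of π-elements (elements all of whose order's prime divisors lie in π) and |G|_π for the π-part of the order of G. If k_π(G) > (p + 1)|G|_π/(2p), then G has a normal π-complement (a normal subgroup of order prime to π whose index is a π-number) and an abelian Hall π-subgroup. -/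
theorem result {G : Type*} [Group G] [Finite G] (π : Finset ℕ) (hπ : ∀ r ∈ π, r.Prime) (h2 : 2 ∉ π) (p : ℕ) (hp : p ∈ π)
    (hmin : ∀ r ∈ π, p ≤ r) (hk : (p + 1) * π.prod (fun r => r ^ (Nat.card G).factorization r) < 2 * p * Nat.card {c : ConjClasses G // ∀ x ∈ c.carrier, ∀ r : ℕ, r.Prime → r ∣ orderOf x → r ∈ π}) :
    (∃ N : Subgroup G, N.Normal ∧ (∀ r : ℕ, r.Prime → r ∣ Nat.card ↥N → r ∉ π) ∧ ∀ r : ℕ, r.Prime → r ∣ N.index → r ∈ π) ∧ ∃ H : Subgroup G, Cfsg.IsPiHall (↑π : Set ℕ) H ∧ IsMulCommutative ↥H := by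
  rw [H26.card_classes_pi_eq π hπ] at hk
  have hkey : ∀ q ∈ π, Cfsg.HasNormalPComplement q G ∧
      ∀ P : Sylow q G, IsMulCommutative ↥(P : Subgroup G) := by
    intro q hq
    haveI := Fact.mk (hπ q hq)
    obtain ⟨b, hb, hb0, hle⟩ := H26.kPow_piPart_le (G := G) π hπ hq
    have hbound : ∀ P : Sylow q G, (q + 1) * Nat.card ↥(P : Subgroup G) < 2 * q * H26.kP q G := by
      intro P
      rw [P.card_eq_multiplicity]
      have h1 : (p + 1) * (q ^ (Nat.card G).factorization q * b) < 2 * p * (H26.kP q G * b) := by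
        rw [← hb]
        exact lt_of_lt_of_le hk (Nat.mul_le_mul_left _ hle)
      have h2 : (p + 1) * q ^ (Nat.card G).factorization q < 2 * p * H26.kP q G := by
        rw [← mul_assoc, ← mul_assoc] at h1
        exact Nat.lt_of_mul_lt_mul_right h1
      generalize q ^ (Nat.card G).factorization q = N at h2 ⊢
      generalize H26.kP q G = k at h2 ⊢
      have hpq := hmin q hq
      have hp2 := (hπ p hp).two_le
      by_contra hcon
      have h3 : p * (2 * q * k) ≤ p * ((q + 1) * N) := Nat.mul_le_mul_left p (not_lt.1 hcon)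
      have h4 : q * ((p + 1) * N + 1) ≤ q * (2 * p * k) := Nat.mul_le_mul_left q h2
      have h5 : p * N ≤ q * N := Nat.mul_le_mul_right N hpq
      linarith [(hπ q hq).two_le]
    obtain ⟨P₀⟩ : Nonempty (Sylow q G) := inferInstance
    exact ⟨(H26.nilpotent_abelian_of_kP P₀ (hbound P₀)).1,
      fun P => (H26.nilpotent_abelian_of_kP P (hbound P)).2⟩
  obtain ⟨K, hK, h1, h2', H, hH, hHc⟩ := H26.exists_complement_hall π hπ hkey
  exact ⟨⟨K, inferInstance, h1, h2'⟩, H, hH, hHc⟩

end Cfsg.Agent.S3899
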