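import Cfsg.Agent.S4039
import Cfsg.Agent.H1.CoprimeAction
import Cfsg.Agent.H79.FusionControl
import Cfsg.Statements.S3903
-- import your own Cfsg.Agent.* helpers here

set_option autoImplicit false
open Cfsg

namespace Cfsg.Agent.S3903

open Subgroup

set_option linter.style.haveILetI false

section
variable {G : Type*} [Group G] [Finite G] {p : ℕ} [Fact p.Prime] {N : Subgroup G}

/-- Two elements: if all elements outside `N` have prime power order, a `p`-element outside `N` is
centralised by `p`-elements only. -/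
theorem centralizer_isPGroup (h : ∀ x : G, x ∉ N → IsPrimePow (orderOf x)) {y : G}
    (hy : ∃ k, orderOf y = p ^ k) (hyN : y ∉ N) : IsPGroup p (centralizer ({y} : Set G)) := by
  obtain ⟨k, hk⟩ := hy
  refine IsPGroup.of_card (n := (Nat.card (centralizer ({y} : Set G))).primeFactorsList.length)
    (Nat.eq_prime_pow_of_unique_prime_dvd Nat.card_pos.ne' fun {q} hq hqd => ?_)
  by_contra hqp
  haveI := Fact.mk hq
  obtain ⟨⟨z, hzC⟩, hz⟩ := exists_prime_orderOf_dvd_card' q hqd
  rw [Subgroup.orderOf_mk] at hz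
  have hc : Commute y z := (mem_centralizer_singleton_iff.mp hzC).symm
  have hcop : (orderOf y).Coprime (orderOf z) := by
    rw [hk, hz]
    exact ((Nat.coprime_primes Fact.out hq).mpr (Ne.symm hqp)).pow_left k
  have ho := hc.orderOf_mul_eq_mul_orderOf_of_coprime hcop
  have hyz : y * z ∈ N := by
    by_contra hyz
    obtain ⟨r, n, hr, hn, hrn⟩ := h _ hyz
    rw [ho, hk, hz] at hrn
    have hk0 : k ≠ 0 := by
      rintro rfl
      rw [pow_zero, orderOf_eq_one_iff] at hk
      exact hyN (hk ▸ one_mem N)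
    have h1 : p ∣ r ^ n := hrn ▸ dvd_mul_of_dvd_left (dvd_pow_self p hk0) q
    have h2 : q ∣ r ^ n := hrn ▸ dvd_mul_left q _
    have e1 := (Nat.prime_dvd_prime_iff_eq Fact.out hr.nat_prime).mp ((Fact.out : p.Prime).dvd_of_dvd_pow h1)
    have e2 := (Nat.prime_dvd_prime_iff_eq hq hr.nat_prime).mp (hq.dvd_of_dvd_pow h2)
    exact hqp (e2.trans e1.symm)
  have hq' : y ^ q ∈ N := by
    have h1 := pow_mem hyz q
    rwa [hc.mul_pow, ← hz, pow_orderOf_eq_one, mul_one, hz] at h1
  obtain ⟨m, hm⟩ := exists_pow_eq_self_of_coprime (x := y) (n := q) (by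
    rw [hk]; exact ((Nat.coprime_primes hq Fact.out).mpr hqp).pow_right k)
  exact hyN (hm ▸ pow_mem hq' m)

/-- A `p`-subgroup not contained in `N` has a `p`-group normalizer. -/
theorem normalizer_isPGroup [N.Normal] (h : ∀ x : G, x ∉ N → IsPrimePow (orderOf x))
    (hall : ∀ x : G, x ∉ N → ∃ k, orderOf x = p ^ k)
    {D : Subgroup G} (hD : IsPGroup p D) (hDN : ¬ D ≤ N) :
    IsPGroup p (normalizer (D : Set G)) := by
  refine IsPGroup.of_card (n := (Nat.card (normalizer (D : Set G))).primeFactorsList.length)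
    (Nat.eq_prime_pow_of_unique_prime_dvd Nat.card_pos.ne' fun {q} hq hqd => ?_)
  by_contra hqp
  haveI := Fact.mk hq
  obtain ⟨⟨w, hwD⟩, hw⟩ := exists_prime_orderOf_dvd_card' q hqd
  rw [Subgroup.orderOf_mk] at hw
  have hwN : w ∈ N := by
    by_contra hwN
    obtain ⟨k, hk⟩ := hall w hwN
    rw [hw] at hk
    have h1 : q ∣ p ^ k := hk ▸ dvd_rfl
    exact hqp ((Nat.prime_dvd_prime_iff_eq hq Fact.out).mp (hq.dvd_of_dvd_pow h1))
  obtain ⟨d, hd, hdN⟩ := SetLike.not_le_iff_exists.mp hDN
  set W := zpowers w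
  have hWD : W ≤ normalizer (D : Set G) := zpowers_le.mpr hwD
  have hWnorm : W ≤ normalizer ((D ⊓ N : Subgroup G) : Set G) := fun a ha =>
    mem_normalizer_fintype fun z hz => mem_inf.mpr
      ⟨(mem_normalizer_iff.mp (hWD ha) z).mp (mem_inf.mp hz).1,
        (inferInstance : N.Normal).conj_mem z (mem_inf.mp hz).2 a⟩
  have hcop : (Nat.card ↥(D ⊓ N : Subgroup G)).Coprime (Nat.card W) := by
    obtain ⟨j, hj⟩ := IsPGroup.iff_card.mp (hD.to_le (inf_le_left : D ⊓ N ≤ D))
    rw [hj, Nat.card_zpowers, hw]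
    exact ((Nat.coprime_primes Fact.out hq).mpr (Ne.symm hqp)).pow_left j
  obtain ⟨c, hc, hdc⟩ := H1.exists_fixed_mem_coset (A := W) (N := D ⊓ N) hWnorm hcop
    (Or.inr inferInstance) (k := d) (fun a ha => mem_inf.mpr
      ⟨mul_mem (inv_mem hd) ((mem_normalizer_iff.mp (hWD ha) d).mp hd), by
        have haN : a ∈ N := zpowers_le.mpr hwN ha
        have h1 : d⁻¹ * a * d ∈ N := (inferInstance : N.Normal).conj_mem' a haN d
        have h2 := mul_mem h1 (inv_mem haN)
        simpa [mul_assoc] using h2⟩)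
  have hcN : c ∉ N := fun hcN => hdN (by
    have h1 := mul_mem hcN (inv_mem (mem_inf.mp hdc).2)
    simpa [mul_assoc] using h1)
  have hcp := centralizer_isPGroup h (hall c hcN) hcN
  obtain ⟨j, hj⟩ := IsPGroup.iff_orderOf.mp hcp ⟨w, mem_centralizer_singleton_iff.mpr
    ((mem_centralizer_iff.mp hc w (mem_zpowers w)))⟩
  rw [Subgroup.orderOf_mk, hw] at hj
  have h1 : q ∣ p ^ j := hj ▸ dvd_rfl
  exact hqp ((Nat.prime_dvd_prime_iff_eq hq Fact.out).mp (hq.dvd_of_dvd_pow h1))

/-- Distinct Sylow subgroups meet inside `N`. -/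
theorem sylow_eq_of_not_le [N.Normal] (h : ∀ x : G, x ∉ N → IsPrimePow (orderOf x))
    (hall : ∀ x : G, x ∉ N → ∃ k, orderOf x = p ^ k) :
    ∀ (m : ℕ) (S T : Sylow p G), Nat.card G ≤ Nat.card ↥((S : Subgroup G) ⊓ T) + m →
      ¬ (S : Subgroup G) ⊓ T ≤ N → S = T := by
  intro m
  induction m using Nat.strong_induction_on with
  | _ m ih =>
  intro S T hm hDN
  by_contra hne
  set D := (S : Subgroup G) ⊓ T with hD
  have hDp : IsPGroup p D := S.isPGroup'.to_le inf_le_left
  obtain ⟨U, hU⟩ := (normalizer_isPGroup h hall hDp hDN).exists_le_sylow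
  have hstep : ∀ R : Sylow p G, D < (R : Subgroup G) → U = R := by
    intro R hR
    have hlt := H79.lt_inf_normalizer_of_lt R.isPGroup' hR
    have hle : (R : Subgroup G) ⊓ normalizer (D : Set G) ≤ (R : Subgroup G) ⊓ U :=
      inf_le_inf_left _ hU
    have hlt' : Nat.card D < Nat.card ↥((R : Subgroup G) ⊓ U) :=
      Set.Finite.card_lt_card (Set.toFinite _) (SetLike.coe_ssubset_coe.mpr (lt_of_lt_of_le hlt hle))
    have hcardG : Nat.card ↥((R : Subgroup G) ⊓ U) ≤ Nat.card G :=
      Nat.le_of_dvd Nat.card_pos (card_subgroup_dvd_card _)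
    exact (ih (Nat.card G - Nat.card ↥((R : Subgroup G) ⊓ U)) (by omega) R U (by omega)
      (fun hle' => hDN (((lt_of_lt_of_le hlt hle).le).trans hle'))).symm
  have hS : D < (S : Subgroup G) := lt_of_le_of_ne inf_le_left fun e =>
    hne (Sylow.ext (S.is_maximal' T.isPGroup' (e ▸ inf_le_right)).symm)
  have hT : D < (T : Subgroup G) := lt_of_le_of_ne inf_le_right fun e =>
    hne (Sylow.ext (T.is_maximal' S.isPGroup' (e ▸ inf_le_left)))
  exact hne ((hstep S hS).symm.trans (hstep T hT))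

end

/-- Let N be a proper normal subgroup of the finite group G such that every element x of G outside N has prime power order and has centralizer C_G(x) a maximal subgroup of G. Then N is solvable. -/
theorem result {G : Type*} [Group G] [Finite G] (N : Subgroup G) [N.Normal] (hN : N ≠ ⊤)
    (h : ∀ x : G, x ∉ N → IsPrimePow (orderOf x) ∧ IsCoatom (Subgroup.centralizer ({x} : Set G))) : Group.IsSolvable ↥N := by
  obtain ⟨x, -, hx⟩ := SetLike.exists_of_lt (lt_top_iff_ne_top.mpr hN)
  obtain ⟨p, k, hp, hk, hxo⟩ := (h x hx).1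
  haveI : Fact p.Prime := ⟨hp.nat_prime⟩
  have hpp : ∀ y : G, y ∉ N → IsPrimePow (orderOf y) := fun y hy => (h y hy).1
  set C := Subgroup.centralizer ({x} : Set G) with hC
  have hCmax : IsCoatom C := (h x hx).2
  have hCp : IsPGroup p C := centralizer_isPGroup hpp ⟨k, hxo.symm⟩ hx
  have hxC : x ∈ C := Subgroup.mem_centralizer_singleton_iff.mpr rfl
  by_cases hNC : N ≤ C
  · haveI := (hCp.to_le hNC).isNilpotent
    infer_instance
  suffices hG : Group.IsSolvable G from inferInstance
  have hCN : C ⊔ N = ⊤ := hCmax.lt_iff.mp (lt_of_le_of_ne le_sup_left fun e =>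
    hNC (e ▸ le_sup_right))
  -- every element outside `N` is a `p`-element
  have hall : ∀ y : G, y ∉ N → ∃ j, orderOf y = p ^ j := by
    intro y hy
    obtain ⟨q, n, hq, hn, hqn⟩ := hpp y hy
    have hquot : IsPGroup p (G ⧸ N) := by
      refine hCp.of_surjective ((QuotientGroup.mk' N).comp C.subtype) ?_
      intro z
      obtain ⟨g, rfl⟩ := QuotientGroup.mk_surjective z
      have hg : g ∈ ((C ⊔ N : Subgroup G) : Set G) := by rw [hCN]; trivial
      rw [Subgroup.mul_normal] at hg
      obtain ⟨c, hc, m, hm, rfl⟩ := hg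
      exact ⟨⟨c, hc⟩, (QuotientGroup.mk_mul_of_mem c hm).symm⟩
    obtain ⟨j, hj⟩ := IsPGroup.iff_orderOf.mp hquot (y : G ⧸ N)
    have hj0 : j ≠ 0 := by
      rintro rfl
      rw [pow_zero, orderOf_eq_one_iff, QuotientGroup.eq_one_iff] at hj
      exact hy hj
    have h1 : p ∣ q ^ n := by
      rw [hqn]
      exact (hj ▸ dvd_pow_self p hj0).trans (orderOf_map_dvd (QuotientGroup.mk' N) y)
    exact ⟨n, by rw [← hqn, (Nat.prime_dvd_prime_iff_eq hp.nat_prime hq.nat_prime).mp
      ((hp.nat_prime).dvd_of_dvd_pow h1)]⟩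
  -- maximal centralisers are Sylow subgroups
  by_cases hG' : IsPGroup p G
  · haveI := hG'.isNilpotent
    infer_instance
  have hsyl : ∀ y : G, y ∉ N → ∃ T : Sylow p G, (T : Subgroup G) = Subgroup.centralizer ({y} : Set G) := by
    intro y hy
    obtain ⟨T, hT⟩ := (centralizer_isPGroup hpp (hall y hy) hy).exists_le_sylow
    refine ⟨T, ?_⟩
    rcases ((h y hy).2).le_iff.mp hT with e | e
    · exact absurd ((e ▸ T.isPGroup' : IsPGroup p (⊤ : Subgroup G)).of_equiv Subgroup.topEquiv) hG'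
    · exact e
  obtain ⟨S, hS⟩ := hsyl x hx
  have hcent : ∀ y ∈ C, y ∉ N → C ≤ Subgroup.centralizer ({y} : Set G) := by
    intro y hyC hyN
    obtain ⟨T, hT⟩ := hsyl y hyN
    have hTS : T = S := sylow_eq_of_not_le hpp hall (Nat.card G) T S (by omega) (fun hle =>
      hyN (hle (Subgroup.mem_inf.mpr ⟨by rw [hT]; exact Subgroup.mem_centralizer_singleton_iff.mpr rfl,
        by rw [hS]; exact hyC⟩)))
    rw [← hT, hTS, hS]
  have habel : ∀ a ∈ C, ∀ b ∈ C, a * b = b * a := by
    intro a ha b hb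
    by_cases haN : a ∈ N
    · have h1 : a * x ∉ N := fun hc => hx (by simpa using mul_mem (inv_mem haN) hc)
      have h2 := Subgroup.mem_centralizer_singleton_iff.mp
        (hcent (a * x) (mul_mem ha hxC) h1 hb)
      have h3 := Subgroup.mem_centralizer_singleton_iff.mp (hcent x hxC hx hb)
      have h4 : a * b * x = b * a * x := by
        rw [mul_assoc, h3, ← mul_assoc, mul_assoc b a x, h2]
      exact mul_right_cancel h4
    · exact (Subgroup.mem_centralizer_singleton_iff.mp (hcent a ha haN hb)).symm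
  haveI : Group.IsNilpotent C := hCp.isNilpotent
  refine Cfsg.Agent.S4039.result C hCmax inferInstance ?_
  letI : CommGroup C := { (inferInstance : Group C) with
    mul_comm := fun a b => Subtype.ext (habel a a.2 b b.2) }
  exact le_trans CommGroup.nilpotencyClass_le_one (by norm_num)

end Cfsg.Agent.S3903
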