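import Cfsg.Statements.S3909
import Mathlib

set_option autoImplicit false
set_option linter.all false
open Cfsg

namespace Cfsg.Agent.S3909

/-- Let G be a finite group in which any two abelian subgroups of the same order are conjugate. Let M be a normal subgroup of G. If M contains an element of the same order as a ∈ G, then a ∈ M; and if M is elementary abelian of order p^t with p prime and t ≥ 2, then M is the unique Sylow p-subgroup of G. -/
theorem result {G : Type*} [Group G] [Finite G] (hB : ∀ A B : Subgroup G, IsMulCommutative ↥A → IsMulCommutative ↥B → Nat.card ↥A = Nat.card ↥B → ∃ g : G, B = A.map (MulAut.conj g).toMonoidHom) (M : Subgroup G) [M.Normal] :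
    (∀ a : G, (∃ m ∈ M, orderOf m = orderOf a) → a ∈ M) ∧
    ∀ (p t : ℕ) [Fact p.Prime], 2 ≤ t → Nat.card ↥M = p ^ t → Cfsg.IsElementaryAbelian p M → ∀ P : Sylow p G, (P : Subgroup G) = M := by
  have key : ∀ a : G, (∃ m ∈ M, orderOf m = orderOf a) → a ∈ M := by
    rintro a ⟨m, hm, hord⟩
    obtain ⟨g, hg⟩ := hB (Subgroup.zpowers m) (Subgroup.zpowers a) inferInstance inferInstance (by rw [Nat.card_zpowers, Nat.card_zpowers, hord])
    obtain ⟨b, hb, hba⟩ := (hg ▸ Subgroup.mem_zpowers a : a ∈ (Subgroup.zpowers m).map (MulAut.conj g).toMonoidHom)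
    rw [← hba]
    exact (inferInstance : M.Normal).conj_mem b ((Subgroup.zpowers_le).2 hm hb) g
  refine ⟨key, fun p t _ ht hcard hel P => ?_⟩
  have hMp : IsPGroup p M := IsPGroup.of_card hcard
  have hMP : M ≤ P := le_sup_left.trans (P.is_maximal' (hMp.to_sup_of_normal_left P.isPGroup') le_sup_right).le
  apply le_antisymm _ hMP
  have hp := (Fact.out : p.Prime)
  have hordp : ∀ a : G, orderOf a = p → a ∈ M := by
    intro a ha
    obtain ⟨⟨m, hm⟩, hmo⟩ := exists_prime_orderOf_dvd_card' (G := M) p (hcard ▸ dvd_pow_self p (by omega))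
    exact key a ⟨m, hm, by rw [ha, ← hmo, Subgroup.orderOf_mk]⟩
  have hordp2 : ∀ a : G, orderOf a = p ^ 2 → a ∈ M := by
    intro a ha
    obtain ⟨K, hK⟩ := Sylow.exists_subgroup_card_pow_prime p (G := M) (show p ^ 2 ∣ Nat.card M from hcard ▸ pow_dvd_pow p ht)
    have hab : IsMulCommutative (K.map M.subtype) := by
      haveI := hel.1
      refine ⟨⟨?_⟩⟩
      rintro ⟨_, u, hu, rfl⟩ ⟨_, v, hv, rfl⟩
      exact Subtype.ext (congrArg (M.subtype) (mul_comm' u v))
    obtain ⟨g, hg⟩ := hB (K.map M.subtype) (Subgroup.zpowers a) hab inferInstance (by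
      rw [Subgroup.card_map_of_injective M.subtype_injective, hK, Nat.card_zpowers, ha])
    obtain ⟨_, ⟨u, -, rfl⟩, hua⟩ := (hg ▸ Subgroup.mem_zpowers a : a ∈ (K.map M.subtype).map (MulAut.conj g).toMonoidHom)
    rw [← hua]
    exact (inferInstance : M.Normal).conj_mem _ u.2 g
  intro x hx
  obtain ⟨k, hk⟩ := IsPGroup.iff_orderOf.1 P.isPGroup' ⟨x, hx⟩
  rw [Subgroup.orderOf_mk] at hk
  match k with
  | 0 => rw [pow_zero, orderOf_eq_one_iff] at hk; exact hk ▸ one_mem M
  | 1 => exact hordp x (by simpa using hk)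
  | k + 2 =>
    exfalso
    set z := x ^ p ^ k with hz
    have hz2 : orderOf z = p ^ 2 := by
      rw [hz, orderOf_pow_of_dvd (pow_ne_zero _ hp.ne_zero) (hk ▸ pow_dvd_pow p (by omega)), hk, Nat.pow_div (by omega) hp.pos]
      congr 1; omega
    have := orderOf_dvd_of_pow_eq_one (hel.2 z (hordp2 z hz2))
    rw [hz2] at this
    have := Nat.le_of_dvd hp.pos this
    have := hp.one_lt
    nlinarith

end Cfsg.Agent.S3909
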