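import Cfsg.Statements.S3910
import Cfsg.Agent.H33.Basic

set_option autoImplicit false
open Cfsg

namespace Cfsg.Agent.S3910

/-- A finite nilpotent group in which any two abelian subgroups of the same order are conjugate is cyclic. -/
theorem result {G : Type*} [Group G] [Finite G] (hB : ∀ A B : Subgroup G, IsMulCommutative ↥A → IsMulCommutative ↥B → Nat.card ↥A = Nat.card ↥B → ∃ g : G, B = A.map (MulAut.conj g).toMonoidHom) (hnil : Group.IsNilpotent G) : IsCyclic G := by
  obtain ⟨x, hx⟩ := H33.exists_orderOf_multiple (G := G)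
  by_contra hnc
  have hne : Subgroup.zpowers x ≠ ⊤ := fun h =>
    hnc ⟨⟨x, fun y => (Subgroup.mem_zpowers_iff).1 (h.symm ▸ Subgroup.mem_top y)⟩⟩
  obtain ⟨M, hM, hle⟩ := (eq_top_or_exists_le_coatom (Subgroup.zpowers x)).resolve_left hne
  have hMn : M.Normal :=
    Subgroup.NormalizerCondition.normal_of_coatom M Group.normalizerCondition_of_isNilpotent hM
  apply hM.1
  rw [eq_top_iff]
  intro y _
  set z := x ^ (orderOf x / orderOf y)
  have hz : orderOf z = orderOf y := orderOf_pow_orderOf_div (orderOf_pos x).ne' (hx y)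
  obtain ⟨g, hg⟩ := hB (Subgroup.zpowers z) (Subgroup.zpowers y) inferInstance inferInstance
    (by rw [Nat.card_zpowers, Nat.card_zpowers, hz])
  have : y ∈ (Subgroup.zpowers z).map (MulAut.conj g).toMonoidHom := hg ▸ Subgroup.mem_zpowers y
  obtain ⟨w, hw, rfl⟩ := Subgroup.mem_map.1 this
  exact hMn.conj_mem w (hle ((Subgroup.zpowers_le.2
    (Subgroup.npow_mem_zpowers x _)) hw)) g

end Cfsg.Agent.S3910
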