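import Cfsg.Statements.S3911
import Mathlib
import Cfsg.Agent.H35.ConjAbelian

set_option autoImplicit false
set_option linter.all false
open Cfsg

namespace Cfsg.Agent.S3911

/-- Let G be a finite group in which any two abelian subgroups of the same order are conjugate. If M is a normal subgroup of G of odd order, then any two abelian subgroups of G/M of the same order are conjugate in G/M. -/
theorem result {G : Type*} [Group G] [Finite G] (hB : ∀ A B : Subgroup G, IsMulCommutative ↥A → IsMulCommutative ↥B → Nat.card ↥A = Nat.card ↥B → ∃ g : G, B = A.map (MulAut.conj g).toMonoidHom) (M : Subgroup G) [M.Normal] (hM : Odd (Nat.card ↥M)) :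
    ∀ A B : Subgroup (G ⧸ M), IsMulCommutative ↥A → IsMulCommutative ↥B → Nat.card ↥A = Nat.card ↥B →
      ∃ g : G ⧸ M, B = A.map (MulAut.conj g).toMonoidHom := by
  set π := QuotientGroup.mk' M with hπ
  have hsurj : Function.Surjective π := QuotientGroup.mk'_surjective M
  have main : ∀ A : Subgroup (G ⧸ M), IsMulCommutative A → ∃ D : Subgroup G, IsMulCommutative D ∧ D.map π = A ∧
      Nat.card D = Nat.card A * Nat.card (D ⊓ M : Subgroup G) ∧
      ∀ p : ℕ, p.Prime → (Nat.card (D ⊓ M : Subgroup G)).factorization p =
        if p ∣ Nat.card A then (Nat.card M).factorization p else 0 := by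
    intro A hA
    obtain ⟨D, hD⟩ := (Set.toFinite {D : Subgroup G | D.map π = A}).exists_minimal
      ⟨A.comap π, Subgroup.map_comap_eq_self_of_surjective hsurj A⟩
    obtain ⟨hDA, hmin⟩ := hD
    have hmin' : ∀ K, K ≤ D → K.map π = A → K = D := fun K hK hKA => le_antisymm hK (hmin hKA hK)
    -- the restriction of π to D
    let f : D →* A := (π.comp D.subtype).codRestrict A fun d => by
      rw [← hDA]; exact Subgroup.mem_map_of_mem π d.2
    have hf : Function.Surjective f := by
      rintro ⟨a, ha⟩
      obtain ⟨d, hd, hda⟩ : a ∈ D.map π := by rw [hDA]; exact ha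
      exact ⟨⟨d, hd⟩, Subtype.ext hda⟩
    have hker : f.ker = (D ⊓ M).subgroupOf D := by
      ext d
      rw [MonoidHom.mem_ker, Subgroup.mem_subgroupOf, Subgroup.mem_inf, Subtype.ext_iff]
      show ((d : G) : G ⧸ M) = 1 ↔ _
      rw [QuotientGroup.eq_one_iff]
      simp
    have hcard : Nat.card D = Nat.card A * Nat.card (D ⊓ M : Subgroup G) := by
      rw [Subgroup.card_eq_card_quotient_mul_card_subgroup f.ker,
        Nat.card_congr (QuotientGroup.quotientKerEquivOfSurjective f hf).toEquiv, hker,
        Nat.card_congr (Subgroup.subgroupOfEquivOfLe (inf_le_left : D ⊓ M ≤ D)).toEquiv]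
    -- minimality inside D
    have hsup : ∀ K : Subgroup D, K ⊔ f.ker = ⊤ → K = ⊤ := by
      intro K hK
      have h1 : (K.map D.subtype).map π = A := by
        apply le_antisymm
        · rintro _ ⟨_, ⟨k, -, rfl⟩, rfl⟩
          exact (f k).2
        · intro a ha
          obtain ⟨d, hd⟩ := hf ⟨a, ha⟩
          have : d ∈ K ⊔ f.ker := hK ▸ Subgroup.mem_top d
          obtain ⟨k, hk, m, hm, rfl⟩ := Subgroup.mem_sup_of_normal_right.1 this
          refine ⟨k, ⟨k, hk, rfl⟩, ?_⟩
          have := congrArg Subtype.val hd
          rw [map_mul, MonoidHom.mem_ker.1 hm, mul_one] at this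
          exact this
      have h2 := hmin' _ (Subgroup.map_subtype_le K) h1
      apply Subgroup.map_injective D.subtype_injective
      rw [h2, ← MonoidHom.range_eq_map, Subgroup.range_subtype]
    have hnormal : ∀ (p : ℕ) [Fact p.Prime] (P : Sylow p D), (P : Subgroup D).Normal := by
      intro p _ P
      haveI hN : ((P : Subgroup D) ⊔ f.ker).Normal := by
        have : (P : Subgroup D) ⊔ f.ker = ((P : Subgroup D).map f).comap f := (Subgroup.comap_map_eq f _).symm
        rw [this]
        haveI : ((P : Subgroup D).map f).Normal := ⟨fun x hx g => by rwa [mul_comm' g x, mul_inv_cancel_right]⟩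
        infer_instance
      have h1 := Sylow.normalizer_sup_eq_top (P.subtype (le_sup_left : (P : Subgroup D) ≤ (P : Subgroup D) ⊔ f.ker))
      rw [Sylow.coe_subtype, Subgroup.map_subgroupOf_eq_of_le le_sup_left, ← sup_assoc, sup_eq_left.2 Subgroup.le_normalizer] at h1
      exact Subgroup.normalizer_eq_top_iff.1 (hsup _ h1)
    -- p-part of the kernel
    have hkey : ∀ p : ℕ, p.Prime → ∀ [Fact p.Prime], ∀ P : Sylow p D, (∀ x y : (P : Subgroup D), x * y = y * x) ∧
        (Nat.card (D ⊓ M : Subgroup G)).factorization p = if p ∣ Nat.card A then (Nat.card M).factorization p else 0 := by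
      intro p hp _ P
      have hdiv : Nat.card (D ⊓ M : Subgroup G) ∣ Nat.card M := Subgroup.card_dvd_of_le inf_le_right
      by_cases hpM : p ∣ Nat.card M
      swap
      · have h0 : (Nat.card M).factorization p = 0 := Nat.factorization_eq_zero_of_not_dvd hpM
        have h1 : (Nat.card (D ⊓ M : Subgroup G)).factorization p = 0 :=
          Nat.factorization_eq_zero_of_not_dvd fun h => hpM (h.trans hdiv)
        refine ⟨fun x y => ?_, by rw [h1, h0, ite_self]⟩
        have hinj : Function.Injective (f.comp (P : Subgroup D).subtype) := by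
          rw [← MonoidHom.ker_eq_bot_iff, eq_bot_iff]
          intro z hz
          have hzM : ((z : D) : G) ∈ M := by
            have : f (z : D) = 1 := hz
            rwa [← MonoidHom.mem_ker, hker, Subgroup.mem_subgroupOf, Subgroup.mem_inf, and_iff_right (z : D).2] at this
          rw [Subgroup.mem_bot]
          obtain ⟨k, hk⟩ := IsPGroup.iff_orderOf.1 P.isPGroup' z
          rw [← orderOf_eq_one_iff]
          refine Nat.eq_one_of_dvd_coprimes (Nat.Coprime.pow_left k (hp.coprime_iff_not_dvd.2 hpM)) (hk ▸ dvd_rfl) ?_
          rw [← Subgroup.orderOf_coe, ← Subgroup.orderOf_coe]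
          exact Subgroup.orderOf_dvd_natCard M hzM
        apply hinj
        rw [map_mul, map_mul, mul_comm']
      have hp2 : p ≠ 2 := fun h => by subst h; exact Nat.not_even_iff_odd.2 hM (even_iff_two_dvd.2 hpM)
      by_cases hpA : p ∣ Nat.card A
      · rw [if_pos hpA]
        -- the Sylow p-subgroups of G are cyclic
        obtain ⟨R, hR⟩ := (P.isPGroup'.map D.subtype).exists_le_sylow
        have hpD : p ∣ Nat.card D := hcard ▸ dvd_mul_of_dvd_left hpA _
        have hRnotM : ¬ (P : Subgroup D).map D.subtype ≤ M := by
          intro hle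
          have h1 : (P : Subgroup D) ≤ f.ker := by
            rw [hker]
            exact fun z hz => Subgroup.mem_subgroupOf.2 ⟨z.2, hle ⟨z, hz, rfl⟩⟩
          apply P.not_dvd_index
          refine hpA.trans (dvd_trans ?_ (Subgroup.index_dvd_of_le h1))
          exact dvd_of_eq (Nat.card_congr (QuotientGroup.quotientKerEquivOfSurjective f hf).toEquiv).symm
        haveI hcyc : IsCyclic (R : Subgroup G) := by
          refine (H35.cyclic_or_pow_eq_one hp2 hB R.isPGroup').resolve_right fun hexp => hRnotM ?_
          intro x hx
          by_cases hx1 : x = 1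
          · rw [hx1]; exact one_mem M
          obtain ⟨⟨m, hm⟩, hmo⟩ := exists_prime_orderOf_dvd_card' (G := M) p hpM
          refine H35.mem_normal_of_orderOf hB M hm ?_
          rw [Subgroup.orderOf_mk] at hmo
          rw [hmo, orderOf_eq_prime (hexp x (hR hx)) hx1]
        letI : CommGroup (R : Subgroup G) := IsCyclic.commGroup
        refine ⟨fun x y => ?_, ?_⟩
        · have h1 := congrArg Subtype.val (mul_comm (⟨_, hR ⟨x, x.2, rfl⟩⟩ : (R : Subgroup G)) ⟨_, hR ⟨y, y.2, rfl⟩⟩)
          exact Subtype.ext (Subtype.ext h1)
        · apply le_antisymm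
          · exact (Nat.factorization_le_iff_dvd Nat.card_pos.ne' Nat.card_pos.ne').2 hdiv p
          -- R ⊓ M lies in D
          set Q := (P : Subgroup D).map D.subtype with hQ
          have hle : (R : Subgroup G) ⊓ M ≤ Q := by
            obtain ⟨a, ha⟩ := (R.isPGroup'.to_inf_left (K := M)).exists_card_eq
            obtain ⟨b, hb⟩ := (P.isPGroup'.map D.subtype).exists_card_eq
            have huniq : ∀ U V : Subgroup G, U ≤ (R : Subgroup G) → V ≤ (R : Subgroup G) → Nat.card U ∣ Nat.card V → U ≤ V := by
              intro U V hU hV hd u hu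
              classical
              have := Fintype.ofFinite (R : Subgroup G)
              let S : Set (R : Subgroup G) := {x | x ^ Nat.card V = 1}
              have hS : S.ncard ≤ Nat.card V := by
                rw [← Nat.card_coe_set_eq, Nat.card_eq_fintype_card, Fintype.card_subtype]
                exact IsCyclic.card_pow_eq_one_le Nat.card_pos
              have h1 : ((V.subgroupOf (R : Subgroup G) : Subgroup (R : Subgroup G)) : Set (R : Subgroup G)) = S := by
                refine Set.eq_of_subset_of_ncard_le (fun x hx => Subtype.ext ?_) ?_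
                · exact orderOf_dvd_iff_pow_eq_one.1 (Subgroup.orderOf_dvd_natCard V (Subgroup.mem_subgroupOf.1 hx))
                · rw [← Nat.card_coe_set_eq ((V.subgroupOf (R : Subgroup G) : Subgroup (R : Subgroup G)) : Set (R : Subgroup G))]
                  exact hS.trans (Nat.card_congr (Subgroup.subgroupOfEquivOfLe hV).toEquiv).ge
              have h2 : (⟨u, hU hu⟩ : (R : Subgroup G)) ∈ S :=
                Subtype.ext (orderOf_dvd_iff_pow_eq_one.1 ((Subgroup.orderOf_dvd_natCard U hu).trans hd))
              rw [← h1] at h2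
              exact Subgroup.mem_subgroupOf.1 h2
            rcases le_or_gt a b with h | h
            · exact huniq _ _ inf_le_left hR (by rw [ha, hb]; exact pow_dvd_pow p h)
            · exact absurd ((huniq _ _ hR inf_le_left (by rw [ha, hb]; exact pow_dvd_pow p h.le)).trans inf_le_right) hRnotM
          have hle2 : (R : Subgroup G) ⊓ M ≤ D ⊓ M :=
            le_inf (hle.trans (Subgroup.map_subtype_le _)) inf_le_right
          have hRM : Nat.card ((R : Subgroup G) ⊓ M : Subgroup G) = p ^ (Nat.card M).factorization p := by
            have h1 : ((R : Subgroup G).subgroupOf M) = (R : Subgroup G).comap M.subtype := rfl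
            obtain ⟨T, hT⟩ := (R.isPGroup'.comap_subtype (K := M)).exists_le_sylow
            have h2 : (T : Subgroup M) ≤ (R : Subgroup G).subgroupOf M := by
              obtain ⟨T', hT'⟩ := (T.isPGroup'.map M.subtype).exists_le_sylow
              obtain ⟨g, hg⟩ := MulAction.exists_smul_eq G T' R
              have hc1 : ((T : Subgroup M).map M.subtype).map (MulAut.conj g).toMonoidHom ≤ (R : Subgroup G) ⊓ M := by
                rintro _ ⟨u, hu, rfl⟩
                refine ⟨?_, ?_⟩
                · rw [← hg, Sylow.coe_subgroup_smul]; exact ⟨u, hT' hu, rfl⟩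
                · obtain ⟨w, -, rfl⟩ := hu
                  exact (inferInstance : M.Normal).conj_mem _ w.2 g
              have hc2 := Subgroup.card_le_of_le hc1
              rw [Subgroup.card_map_of_injective (MulAut.conj g).injective, Subgroup.card_map_of_injective M.subtype_injective] at hc2
              have hc3 : Nat.card ((R : Subgroup G).subgroupOf M) = Nat.card ((R : Subgroup G) ⊓ M : Subgroup G) := by
                rw [← Subgroup.inf_subgroupOf_right, Nat.card_congr (Subgroup.subgroupOfEquivOfLe inf_le_right).toEquiv]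
              exact (Subgroup.eq_of_le_of_card_ge hT (hc3 ▸ hc2)).ge
            rw [← T.card_eq_multiplicity, ← le_antisymm hT h2, ← h1, ← Subgroup.inf_subgroupOf_right,
              Nat.card_congr (Subgroup.subgroupOfEquivOfLe inf_le_right).toEquiv]
          have h4 := Subgroup.card_dvd_of_le hle2
          rw [hRM] at h4
          exact (hp.pow_dvd_iff_le_factorization Nat.card_pos.ne').1 h4
      · -- p ∣ |M| but p does not divide |A|: no p-elements in D
        rw [if_neg hpA]
        have hP1 : (P : Subgroup D) = ⊥ := by
          haveI := hnormal p P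
          obtain ⟨K, hK⟩ := Subgroup.exists_right_complement'_of_coprime (N := (P : Subgroup D)) P.card_coprime_index
          have hPk : (P : Subgroup D) ≤ f.ker := by
            intro z hz
            rw [MonoidHom.mem_ker, ← orderOf_eq_one_iff]
            obtain ⟨k, hk⟩ := IsPGroup.iff_orderOf.1 P.isPGroup' ⟨z, hz⟩
            rw [Subgroup.orderOf_mk] at hk
            exact Nat.eq_one_of_dvd_coprimes (Nat.Coprime.pow_left k (hp.coprime_iff_not_dvd.2 hpA)) (hk ▸ orderOf_map_dvd f z) (orderOf_dvd_natCard _)
          have hKtop : K = ⊤ := hsup K (eq_top_iff.2 (hK.sup_eq_top.symm.le.trans (sup_le (hPk.trans le_sup_right) le_sup_left)))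
          have := hK.disjoint.eq_bot
          rwa [hKtop, inf_top_eq] at this
        refine ⟨fun x y => ?_, ?_⟩
        · have : ∀ z : (P : Subgroup D), z = 1 := fun z => Subtype.ext (Subgroup.mem_bot.1 (hP1.le z.2))
          rw [this x, this y]
        · apply Nat.factorization_eq_zero_of_not_dvd
          intro h
          apply P.not_dvd_index
          rw [hP1, Subgroup.index_bot, hcard]
          exact dvd_mul_of_dvd_right h _
    refine ⟨D, ⟨⟨fun x y => ?_⟩⟩, hDA, hcard, fun p hp => by
      haveI := Fact.mk hp
      obtain ⟨P⟩ := (inferInstance : Nonempty (Sylow p D))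
      exact (hkey p hp P).2⟩
    have hcomm : ∀ (q b : ℕ) (u : D), q.Prime → orderOf u = q ^ b → ∀ (r c : ℕ) (v : D), r.Prime → orderOf v = r ^ c → u * v = v * u := by
      intro q b u hq hu r c v hr hv
      haveI := Fact.mk hq
      haveI := Fact.mk hr
      have mem : ∀ (q b : ℕ) [Fact q.Prime] (u : D) (Q : Sylow q D), orderOf u = q ^ b → u ∈ (Q : Subgroup D) := by
        intro q b _ u Q hu
        haveI := hnormal q Q
        have hpg : IsPGroup q (Subgroup.zpowers u) := IsPGroup.of_card (n := b) (by rw [Nat.card_zpowers, hu])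
        exact (Q.is_maximal' (hpg.to_sup_of_normal_right Q.isPGroup') le_sup_right) ▸ Subgroup.mem_sup_left (Subgroup.mem_zpowers u)
      obtain ⟨Q⟩ := (inferInstance : Nonempty (Sylow q D))
      obtain ⟨R⟩ := (inferInstance : Nonempty (Sylow r D))
      by_cases hqr : q = r
      · subst hqr
        exact congrArg Subtype.val ((hkey q hq Q).1 ⟨u, mem q b u Q hu⟩ ⟨v, mem q c v Q hv⟩)
      · exact (Subgroup.commute_of_normal_of_disjoint _ _ (hnormal q Q) (hnormal r R)
          (IsPGroup.disjoint_of_ne q r hqr _ _ Q.isPGroup' R.isPGroup') u v (mem q b u Q hu) (mem r c v R hv)).eq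
    have htop : Subgroup.center D = ⊤ := by
      apply H35.eq_top_of_prime_pow_mem
      intro q b u hq hu
      rw [Subgroup.mem_center_iff]
      have : Subgroup.centralizer ({u} : Set D) = ⊤ := by
        apply H35.eq_top_of_prime_pow_mem
        intro r c v hr hv
        rw [Subgroup.mem_centralizer_singleton_iff]
        exact hcomm r c v hr hv q b u hq hu
      intro w
      exact Subgroup.mem_centralizer_singleton_iff.1 (this ▸ Subgroup.mem_top w)
    exact (Subgroup.mem_center_iff.1 (htop ▸ Subgroup.mem_top y) x)
  intro A B hA hB' hAB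
  obtain ⟨DA, hDAc, hDA, hcA, hfA⟩ := main A hA
  obtain ⟨DB, hDBc, hDB, hcB, hfB⟩ := main B hB'
  have hcard : Nat.card DA = Nat.card DB := by
    rw [hcA, hcB, hAB]
    congr 1
    refine Nat.eq_of_factorization_eq Nat.card_pos.ne' Nat.card_pos.ne' fun p => ?_
    by_cases hp : p.Prime
    · rw [hfA p hp, hfB p hp, hAB]
    · rw [Nat.factorization_eq_zero_of_not_prime _ hp, Nat.factorization_eq_zero_of_not_prime _ hp]
  obtain ⟨g, hg⟩ := hB DA DB hDAc hDBc hcard
  refine ⟨π g, ?_⟩
  rw [← hDA, ← hDB, hg, Subgroup.map_map, Subgroup.map_map]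
  congr 1

end Cfsg.Agent.S3911
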