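import Cfsg.Statements.S3917
import Mathlib

set_option autoImplicit false
set_option linter.all false
open Cfsg

namespace Cfsg.Agent.S3917

/-- Say that a group has self-centralizing non-cyclic subgroups when every non-cyclic subgroup H satisfies C_G(H) ≤ H. A finite abelian group with self-centralizing non-cyclic subgroups is cyclic or elementary abelian of order p² for a prime p. -/
theorem result {G : Type*} [CommGroup G] [Finite G] (hX : (∀ H : Subgroup G, ¬ IsCyclic ↥H → Subgroup.centralizer (H : Set G) ≤ H)) :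
    IsCyclic G ∨ ∃ p : ℕ, p.Prime ∧ Nat.card G = p ^ 2 ∧ Monoid.exponent G = p := by
  classical
  have hcyc : ∀ H : Subgroup G, H ≠ ⊤ → IsCyclic H := by
    intro H hH
    by_contra hn
    apply hH
    rw [eq_top_iff]
    intro g _
    exact hX H hn (Subgroup.mem_centralizer_iff.2 fun h _ => mul_comm h g)
  by_cases hG : IsCyclic G
  · exact Or.inl hG
  right
  obtain ⟨g, hg⟩ := Monoid.exists_orderOf_eq_exponent (G := G) Monoid.ExponentExists.of_finite
  have hne : ∃ x, x ∉ Subgroup.zpowers g := by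
    by_contra h
    push Not at h
    exact hG ⟨g, h⟩
  obtain ⟨x, hx, hmin⟩ := (Set.toFinite {x : G | x ∉ Subgroup.zpowers g}).exists_minimalFor orderOf _ hne
  have hx' : x ∉ Subgroup.zpowers g := hx
  have hx1 : orderOf x ≠ 1 := by
    intro h
    exact hx' ((orderOf_eq_one_iff.1 h) ▸ one_mem _)
  obtain ⟨p, hp, hpx⟩ := Nat.exists_prime_and_dvd hx1
  have hxp : x ^ p ∈ Subgroup.zpowers g := by
    by_contra h
    have h1 := hmin (j := x ^ p) h
    have h2 : orderOf (x ^ p) = orderOf x / p := orderOf_pow_of_dvd hp.ne_zero hpx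
    have h3 : orderOf (x ^ p) < orderOf x := h2 ▸ Nat.div_lt_self (orderOf_pos x) hp.one_lt
    exact absurd (h1 h3.le) (by omega)
  obtain ⟨i, hi⟩ := Subgroup.mem_zpowers_iff.1 hxp
  have hpn : p ∣ Monoid.exponent G := hpx.trans (Monoid.order_dvd_exponent x)
  obtain ⟨c, hc⟩ := hpn
  have hpi : (p : ℤ) ∣ i := by
    have h1 : g ^ (i * (c : ℤ)) = 1 := by
      rw [zpow_mul, hi, zpow_natCast, ← pow_mul, ← hc]
      exact Monoid.pow_exponent_eq_one x
    have h2 := orderOf_dvd_iff_zpow_eq_one.2 h1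
    rw [hg, hc] at h2
    push_cast at h2
    have hc0 : (c : ℤ) ≠ 0 := by
      have : Monoid.exponent G ≠ 0 := Monoid.exponent_ne_zero_of_finite
      rw [hc] at this
      exact_mod_cast (Nat.mul_ne_zero_iff.1 this).2
    exact (mul_dvd_mul_iff_right hc0).1 h2
  obtain ⟨t, ht⟩ := hpi
  set y := x * g ^ (-t) with hy
  have hyp : y ^ p = 1 := by
    rw [hy, mul_pow, ← hi, ← zpow_natCast (g ^ (-t)), ← zpow_mul, ← zpow_add, ht]
    simp [mul_comm]
  have hyg : y ∉ Subgroup.zpowers g := fun h => hx' (by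
    have := (Subgroup.zpowers g).mul_mem h (Subgroup.zpow_mem_zpowers g t)
    rwa [hy, mul_assoc, ← zpow_add, neg_add_cancel, zpow_zero, mul_one] at this)
  haveI := Fact.mk hp
  have hzord : orderOf (g ^ c) = p := by
    have hc0 : c ≠ 0 := by
      rintro rfl
      exact Monoid.exponent_ne_zero_of_finite (by simpa using hc)
    rw [orderOf_pow' _ hc0, hg, hc, Nat.gcd_mul_left_left, Nat.mul_div_cancel _ (Nat.pos_of_ne_zero hc0)]
  have hyord : orderOf y = p := orderOf_eq_prime hyp fun h => hyg (h ▸ one_mem _)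
  let E : Subgroup G := (powMonoidHom p).ker
  have hyE : y ∈ E := hyp
  have hzE : g ^ c ∈ E := by
    show (g ^ c) ^ p = 1
    rw [← hzord]; exact pow_orderOf_eq_one _
  have hdisj : ∀ z, z ∈ Subgroup.zpowers y → z ∈ Subgroup.zpowers (g ^ c) → z = 1 := by
    intro z hzy hzc
    by_contra hz1
    apply hyg
    have h1 : Subgroup.zpowers z = Subgroup.zpowers y := by
      apply Subgroup.eq_of_le_of_card_ge ((Subgroup.zpowers_le).2 hzy)
      rw [Nat.card_zpowers, Nat.card_zpowers, hyord]
      exact (orderOf_eq_prime (orderOf_dvd_iff_pow_eq_one.1 (hyord ▸ orderOf_dvd_of_mem_zpowers hzy)) hz1).ge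
    have h2 : Subgroup.zpowers z ≤ Subgroup.zpowers g :=
      ((Subgroup.zpowers_le).2 hzc).trans ((Subgroup.zpowers_le).2 (Subgroup.npow_mem_zpowers g c))
    exact h2 (h1 ▸ Subgroup.mem_zpowers y)
  have hEnc : ¬ IsCyclic E := by
    intro hE
    obtain ⟨e, he⟩ := hE.exists_generator
    have hord : orderOf e ∣ p := orderOf_dvd_of_pow_eq_one (Subtype.ext e.2)
    have hle : Nat.card E ≤ p := by
      rw [← Subgroup.card_top (G := E), ← (Subgroup.eq_top_iff' _).2 he, Nat.card_zpowers]
      exact Nat.le_of_dvd hp.pos hord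
    have h1 : Subgroup.zpowers y = E := Subgroup.eq_of_le_of_card_ge ((Subgroup.zpowers_le).2 hyE) (by rwa [Nat.card_zpowers, hyord])
    have h2 : g ^ c ∈ Subgroup.zpowers y := h1 ▸ hzE
    have h3 := hdisj _ h2 (Subgroup.mem_zpowers _)
    rw [h3, orderOf_one] at hzord
    exact hp.ne_one hzord.symm
  have hEtop : E = ⊤ := by
    by_contra h
    exact hEnc (hcyc E h)
  have hexp : Monoid.exponent G = p := by
    have hdv : Monoid.exponent G ∣ p := Monoid.exponent_dvd_of_forall_pow_eq_one fun a => (hEtop ▸ Subgroup.mem_top a : a ∈ E)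
    rcases (Nat.dvd_prime hp).1 hdv with h | h
    · exact absurd (hg ▸ h : orderOf g = 1) (fun h1 => by
        have : g ^ c = 1 := by simp [orderOf_eq_one_iff.1 h1]
        rw [this, orderOf_one] at hzord
        exact hp.ne_one hzord.symm)
    · exact h
  refine ⟨p, hp, ?_, hexp⟩
  obtain ⟨n, hn⟩ := (IsPGroup.iff_card (p := p) (G := G)).1 (fun a => ⟨1, by rw [pow_one, ← hexp]; exact Monoid.pow_exponent_eq_one a⟩)
  rw [hn]
  congr 1
  by_contra hn2
  have hn1 : 2 ≤ n := by
    by_contra hlt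
    apply hG
    interval_cases n
    · have : Subsingleton G := (Nat.card_eq_one_iff_unique.1 (by simpa using hn)).1
      infer_instance
    · exact isCyclic_of_prime_card (p := p) (by simpa using hn)
  obtain ⟨K, hK⟩ := Sylow.exists_subgroup_card_pow_prime p (show p ^ 2 ∣ Nat.card G from hn ▸ pow_dvd_pow p hn1)
  have hKne : K ≠ ⊤ := by
    intro h
    rw [h, Subgroup.card_top, hn] at hK
    exact hn2 (Nat.pow_right_injective hp.two_le hK)
  haveI := hcyc K hKne
  obtain ⟨e, he⟩ := IsCyclic.exists_generator (α := K)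
  have h1 : Nat.card K ≤ p := by
    rw [← Subgroup.card_top (G := K), ← (Subgroup.eq_top_iff' _).2 he, Nat.card_zpowers]
    exact Nat.le_of_dvd hp.pos (hexp ▸ (Subgroup.orderOf_coe e) ▸ Monoid.order_dvd_exponent (e : G))
  rw [hK] at h1
  have := hp.one_lt
  nlinarith

end Cfsg.Agent.S3917
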