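import Cfsg.Statements.S3919
import Cfsg.Agent.H30.SelfCentralizing

set_option autoImplicit false
open Cfsg

namespace Cfsg.Agent.S3919

/-- Say that a group has self-centralizing non-cyclic subgroups when every non-cyclic subgroup H satisfies C_G(H) ≤ H. A finite non-abelian 2-group G of order 2^n has self-centralizing non-cyclic subgroups if and only if G has nilpotency class n − 1 (that is, G is dihedral, semidihedral or generalized quaternion). -/
theorem result {G : Type*} [Group G] [Finite G] (hna : ¬ IsMulCommutative G) (n : ℕ) (hG : Nat.card G = 2 ^ n) :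
    (∀ H : Subgroup G, ¬ IsCyclic ↥H → Subgroup.centralizer (H : Set G) ≤ H) ↔ (⊤ : Subgroup G).lowerCentralSeries (n - 2) ≠ ⊥ := by
  haveI : Fact (Nat.Prime 2) := ⟨Nat.prime_two⟩
  have hP : IsPGroup 2 G := IsPGroup.of_card hG
  have hn3 : 3 ≤ n := by
    by_contra hlt
    apply hna
    interval_cases n
    · haveI : Subsingleton G := (Nat.card_eq_one_iff_unique.1 (by simpa using hG)).1
      exact ⟨⟨fun a b => Subsingleton.elim _ _⟩⟩
    · haveI := isCyclic_of_prime_card (p := 2) (by simpa using hG)
      infer_instance
    · exact IsPGroup.isMulCommutative_of_card_eq_prime_sq (p := 2) hG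
  constructor
  · intro h
    rcases H30.cyclic_or_normal_square_or_invCyclic hP with hc | ⟨E, hEn, -, hEp, hEc⟩ | ⟨-, hinv⟩
    · haveI := hc
      exact absurd (inferInstance : IsMulCommutative G) hna
    · have hc := H30.card_cube_of_normal_square hP hna h hEn hEp hEc
      rw [hG] at hc
      have hn : n = 3 := Nat.pow_right_injective le_rfl hc
      subst hn
      intro hbot
      exact hna (Subgroup.lowerCentralSeries_one_eq_bot_iff.1 hbot)
    · exact hinv.lowerCentralSeries_ne_bot hG
  · intro hlcs H hH
    -- the derived subgroup has index 4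
    have hcard : ∀ j, j ≤ n - 2 → 2 ^ (j + 1) ≤ Nat.card ↥((⊤ : Subgroup G).lowerCentralSeries (n - 2 - j)) := by
      intro j hj
      induction j with
      | zero =>
        rcases (hP.to_subgroup ((⊤ : Subgroup G).lowerCentralSeries (n - 2 - 0))).card_eq_or_dvd with h | h
        · exact absurd (Subgroup.card_eq_one.1 h) hlcs
        · exact Nat.le_of_dvd Nat.card_pos (by simpa using h)
      | succ j ih =>
        have hne : (⊤ : Subgroup G).lowerCentralSeries (n - 2 - (j + 1)) ≠ ⊥ := fun h => hlcs <| le_bot_iff.1 <|
          ((⊤ : Subgroup G).lowerCentralSeries_antitone (Nat.sub_le _ _)).trans_eq h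
        have h1 := H30.card_mul_le_of_lt hP (H30.lowerCentralSeries_strict hP hne)
        rw [show n - 2 - (j + 1) + 1 = n - 2 - j by omega] at h1
        rw [pow_succ']
        exact le_trans (Nat.mul_le_mul_left 2 (ih (by omega))) h1
    have h1 := hcard (n - 3) (by omega)
    have hone : (⊤ : Subgroup G).lowerCentralSeries 1 = commutator G := by
      rw [commutator_def]; rfl
    rw [show n - 2 - (n - 3) = 1 by omega, hone] at h1
    obtain ⟨k, hk⟩ := hP.index (commutator G)
    have h2 := (commutator G).card_mul_index
    rw [hk, hG] at h2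
    have hk2 : k ≤ 2 := by
      by_contra hlt
      have h3 : 2 ^ (n - 3 + 1) * 2 ^ 3 ≤ 2 ^ n := by
        rw [← h2]; exact Nat.mul_le_mul h1 (Nat.pow_le_pow_right two_pos (by omega))
      rw [← pow_add, Nat.pow_le_pow_iff_right (by norm_num)] at h3
      omega
    have hk2' : 2 ≤ k := by
      by_contra hlt
      have hle : (commutator G).index ≤ 2 := by
        rw [hk]
        calc 2 ^ k ≤ 2 ^ 1 := Nat.pow_le_pow_right two_pos (by omega)
          _ = 2 := pow_one 2
      exact hna ⟨⟨H31.commutative_of_commutator_index_le_two hP hle⟩⟩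
    have hinv := H30.isInvCyclicTwo_of_index_four hna (n := n - 2) (by rw [hG]; congr 1; omega)
      (by rw [hk, show k = 2 by omega]; norm_num)
    exact hinv.selfCentralizing H hH

end Cfsg.Agent.S3919
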