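import Cfsg.Statements.S3920
import Mathlib

set_option autoImplicit false
set_option linter.all false
open Cfsg

namespace Cfsg.Agent.S3920

/-- Say that a group has self-centralizing non-cyclic subgroups when every non-cyclic subgroup H satisfies C_G(H) ≤ H. For n ≥ 3, the dihedral group of order 2n has self-centralizing non-cyclic subgroups if and only if n is odd or a power of 2. -/
theorem result (n : ℕ) (hn : 3 ≤ n) : (∀ H : Subgroup (DihedralGroup n), ¬ IsCyclic ↥H → Subgroup.centralizer (H : Set (DihedralGroup n)) ≤ H) ↔ (Odd n ∨ ∃ k : ℕ, n = 2 ^ k) := by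
  haveI : NeZero n := ⟨by omega⟩
  constructor
  · intro h
    by_contra hcon
    push Not at hcon
    obtain ⟨hnodd, hnpow⟩ := hcon
    obtain ⟨v, m, hm, hnm⟩ := Nat.exists_eq_two_pow_mul_odd (show n ≠ 0 by omega)
    have hv : 1 ≤ v := by
      by_contra h0
      interval_cases v
      simp at hnm
      exact hnodd (hnm ▸ hm)
    have hm1 : m ≠ 1 := by rintro rfl; exact hnpow v (by simpa using hnm)
    have hdvd : 2 ^ v ∣ n := hnm ▸ dvd_mul_right _ _
    let π : ZMod n →+* ZMod (2 ^ v) := ZMod.castHom hdvd (ZMod (2 ^ v))
    let H : Subgroup (DihedralGroup n) :=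
      { carrier := {x | match x with | DihedralGroup.r i => π i = 0 | DihedralGroup.sr i => π i = 0}
        one_mem' := map_zero π
        mul_mem' := by
          rintro (i | i) (j | j) hi hj <;> change π i = 0 at hi <;> change π j = 0 at hj <;> show π _ = 0 <;>
            simp only [map_add, map_sub, hi, hj, add_zero, sub_zero]
        inv_mem' := by
          rintro (i | i) hi <;> change π i = 0 at hi <;> show π _ = 0 <;>
            simp only [map_neg, hi, neg_zero] }
    have hmr : DihedralGroup.r ((2 ^ v : ℕ) : ZMod n) ∈ H := by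
      show π _ = 0
      rw [map_natCast, ZMod.natCast_self]
    have hs0 : DihedralGroup.sr (0 : ZMod n) ∈ H := by show π 0 = 0; simp
    have hnc : ¬ IsCyclic H := by
      intro hc
      letI : CommGroup H := IsCyclic.commGroup
      have := congrArg Subtype.val (mul_comm (⟨_, hmr⟩ : H) ⟨_, hs0⟩)
      simp only [Subgroup.coe_mul, DihedralGroup.r_mul_sr, DihedralGroup.sr_mul_r, DihedralGroup.sr.injEq] at this
      have h0 : ((2 ^ v * 2 : ℕ) : ZMod n) = 0 := by
        push_cast at this ⊢
        linear_combination (-1 : ZMod n) * this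
      rw [ZMod.natCast_eq_zero_iff, hnm, Nat.mul_dvd_mul_iff_left (by positivity)] at h0
      rcases (Nat.dvd_prime Nat.prime_two).1 h0 with h1 | h1
      · exact hm1 h1
      · subst h1; exact absurd hm (by decide)
    have hc : DihedralGroup.r ((2 ^ (v - 1) * m : ℕ) : ZMod n) ∈ Subgroup.centralizer (H : Set (DihedralGroup n)) := by
      have hh : ((2 ^ (v - 1) * m : ℕ) : ZMod n) + ((2 ^ (v - 1) * m : ℕ) : ZMod n) = 0 := by
        rw [← Nat.cast_add, ZMod.natCast_eq_zero_iff, hnm]
        obtain ⟨w, rfl⟩ := Nat.exists_eq_add_of_le hv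
        simp [pow_add]
        exact dvd_of_eq (by ring)
      rw [Subgroup.mem_centralizer_iff]
      rintro (i | i) - <;> simp only [DihedralGroup.r_mul_r, DihedralGroup.r_mul_sr, DihedralGroup.sr_mul_r]
      · rw [add_comm]
      · congr 1; linear_combination hh
    have hin : π ((2 ^ (v - 1) * m : ℕ) : ZMod n) = 0 := h H hnc hc
    rw [map_natCast, ZMod.natCast_eq_zero_iff] at hin
    obtain ⟨w, rfl⟩ := Nat.exists_eq_add_of_le hv
    simp only [Nat.add_sub_cancel_left, pow_add, pow_one] at hin
    rw [mul_comm 2, Nat.mul_dvd_mul_iff_left (by positivity)] at hin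
    exact Nat.not_even_iff_odd.2 hm (even_iff_two_dvd.2 hin)
  · intro hn' H hnc
    obtain ⟨a, ha⟩ : ∃ a, DihedralGroup.sr a ∈ H := by
      by_contra hcon
      push Not at hcon
      apply hnc
      have hle : H ≤ Subgroup.zpowers (DihedralGroup.r (1 : ZMod n)) := by
        intro x hx
        rcases x with i | i
        · exact Subgroup.mem_zpowers_iff.2 ⟨(i.val : ℤ), by rw [zpow_natCast, DihedralGroup.r_one_pow, ZMod.natCast_zmod_val]⟩
        · exact absurd hx (hcon i)
      exact isCyclic_of_injective (Subgroup.inclusion hle) (Subgroup.inclusion_injective hle)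
    have hzero : ∀ d : ZMod n, d + d = 0 → DihedralGroup.r d ∈ H := by
      intro d hd
      rcases hn' with hodd | ⟨k, rfl⟩
      · obtain ⟨k, hk⟩ := hodd
        have h0 : ((2 * k + 1 : ℕ) : ZMod n) = 0 := by rw [← hk]; exact ZMod.natCast_self n
        push_cast at h0
        have : d = 0 := by linear_combination d * h0 - (k : ZMod n) * hd
        rw [this, ← DihedralGroup.one_def]
        exact H.one_mem
      · obtain ⟨b, hb, hb0⟩ : ∃ b, DihedralGroup.r b ∈ H ∧ b ≠ 0 := by
          by_contra hcon
          push Not at hcon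
          apply hnc
          have hle : H ≤ Subgroup.zpowers (DihedralGroup.sr a) := by
            intro x hx
            rcases x with i | i
            · rw [hcon i hx, ← DihedralGroup.one_def]; exact one_mem _
            · have h1 := H.mul_mem ha hx
              rw [DihedralGroup.sr_mul_sr] at h1
              rw [eq_of_sub_eq_zero (hcon _ h1)]
              exact Subgroup.mem_zpowers _
          exact isCyclic_of_injective (Subgroup.inclusion hle) (Subgroup.inclusion_injective hle)
        by_cases hd0 : d = 0
        · rw [hd0, ← DihedralGroup.one_def]; exact H.one_mem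
        obtain ⟨j, o, ho, hj⟩ := Nat.exists_eq_two_pow_mul_odd (show b.val ≠ 0 from fun h => hb0 ((ZMod.val_eq_zero b).1 h))
        have hjk : j < k := by
          by_contra hle
          push Not at hle
          have h1 : 2 ^ k ≤ 2 ^ j := Nat.pow_le_pow_right (by norm_num) hle
          have h2 : 2 ^ j ≤ b.val := hj ▸ Nat.le_mul_of_pos_right _ ho.pos
          have h3 := b.val_lt
          omega
        have h1 := H.pow_mem hb (2 ^ (k - 1 - j))
        rw [DihedralGroup.r_pow] at h1
        convert h1 using 2
        obtain ⟨i, rfl⟩ := Nat.exists_eq_add_of_le (show j + 1 ≤ k by omega)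
        have hkey : ∀ e : ZMod (2 ^ (j + 1 + i)), e + e = 0 → e ≠ 0 → e = ((2 ^ (j + i) : ℕ) : ZMod (2 ^ (j + 1 + i))) := by
          intro e he he0
          have h2 : (2 ^ (j + 1 + i)) ∣ e.val + e.val := by
            rw [← ZMod.natCast_eq_zero_iff, Nat.cast_add, ZMod.natCast_zmod_val]; exact he
          rw [← ZMod.natCast_zmod_val e]
          congr 1
          have h3 := e.val_lt
          have h4 : e.val ≠ 0 := fun h => he0 ((ZMod.val_eq_zero e).1 h)
          have h5 : 2 ^ (j + 1 + i) = 2 * 2 ^ (j + i) := by rw [← pow_succ']; congr 1; omega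
          obtain ⟨c, hc⟩ := h2
          have hc1 : c = 1 := by
            have : 2 ^ (j + 1 + i) * c < 2 ^ (j + 1 + i) * 2 := by omega
            have := Nat.lt_of_mul_lt_mul_left this
            rcases c with _ | _ | c <;> omega
          subst hc1
          omega
        rw [hkey d hd hd0]
        have hb' : b = ((2 ^ j * o : ℕ) : ZMod (2 ^ (j + 1 + i))) := by rw [← hj, ZMod.natCast_zmod_val]
        obtain ⟨o', rfl⟩ := ho
        rw [hb']
        have h0 : ((2 ^ (j + 1 + i) : ℕ) : ZMod (2 ^ (j + 1 + i))) = 0 := ZMod.natCast_self _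
        rw [show j + 1 + i - 1 - j = i by omega]
        push_cast at h0 ⊢
        linear_combination (-(o' : ZMod (2 ^ (j + 1 + i)))) * h0
    intro g hg
    have hcomm := Subgroup.mem_centralizer_iff.1 hg _ ha
    rcases g with c | c
    · simp only [DihedralGroup.r_mul_sr, DihedralGroup.sr_mul_r, DihedralGroup.sr.injEq] at hcomm
      exact hzero c (by linear_combination hcomm)
    · simp only [DihedralGroup.sr_mul_sr, DihedralGroup.r.injEq] at hcomm
      have h2 := H.mul_mem ha (hzero (c - a) (by linear_combination hcomm))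
      rw [DihedralGroup.sr_mul_r] at h2
      convert h2 using 2
      ring

end Cfsg.Agent.S3920
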