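import Cfsg.Statements.S3939
import Cfsg.Agent.H33.Basic

set_option autoImplicit false
open Cfsg

namespace Cfsg.Agent.S3939

open scoped commutatorElement

theorem nilpotent_pair {G : Type*} [Group G] {m : ℕ} {g : G}
    (hg : g ∈ Subgroup.upperCentralSeries G m) (x : G) :
    Group.IsNilpotent ↥(Subgroup.closure ({x, g} : Set G)) := by
  classical
  set Z := Subgroup.upperCentralSeries G m
  set H := Subgroup.closure ({x, g} : Set G)
  rw [Subgroup.nilpotent_iff_finite_ascending_central_series]
  refine ⟨m + 1, fun i => if i ≤ m then (Subgroup.upperCentralSeries G i).subgroupOf H else ⊤,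
    ⟨by simp, ?_⟩, by simp⟩
  intro a n ha b
  by_cases hn : n + 1 ≤ m
  · simp only [if_pos hn] at ha
    simp only [if_pos (show n ≤ m by omega), Subgroup.mem_subgroupOf]
    exact Subgroup.upperCentralSeries_isAscendingCentralSeries G |>.2 _ _ (Subgroup.mem_subgroupOf.1 ha) _
  · by_cases hnm : n ≤ m
    · obtain rfl : n = m := by omega
      simp only [if_pos le_rfl, Subgroup.mem_subgroupOf]
      have key : ∀ c ∈ H, QuotientGroup.mk' Z c ∈ Subgroup.zpowers (QuotientGroup.mk' Z x) := by
        suffices H ≤ (Subgroup.zpowers (QuotientGroup.mk' Z x)).comap (QuotientGroup.mk' Z) from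
          fun c hc => this hc
        rw [Subgroup.closure_le]
        rintro c (rfl | rfl)
        · exact Subgroup.mem_zpowers _
        · show (QuotientGroup.mk' Z) c ∈ Subgroup.zpowers (QuotientGroup.mk' Z x)
          rw [show QuotientGroup.mk' Z c = 1 from (QuotientGroup.eq_one_iff c).2 hg]
          exact one_mem _
      obtain ⟨i, hi⟩ := Subgroup.mem_zpowers_iff.1 (key _ a.2)
      obtain ⟨j, hj⟩ := Subgroup.mem_zpowers_iff.1 (key _ b.2)
      refine (QuotientGroup.eq_one_iff _).1 ?_
      show QuotientGroup.mk' Z ⁅(a : G), (b : G)⁆ = 1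
      rw [map_commutatorElement, ← hi, ← hj, commutatorElement_eq_one_iff_mul_comm,
        ← zpow_add, ← zpow_add, add_comm]
    · simp only [if_neg hnm, Subgroup.mem_top]

theorem eq_one_of_center_bot {Q : Type*} [Group Q] [Finite Q] (hZ : Subgroup.center Q = ⊥) (g : Q)
    (hg : ∀ x : Q, Group.IsNilpotent ↥(Subgroup.closure ({x, g} : Set Q))) : g = 1 := by
  by_contra hne
  obtain ⟨p, hp, hpd⟩ := Nat.exists_prime_and_dvd (fun e => hne (orderOf_eq_one_iff.1 e))
  have : Fact p.Prime := ⟨hp⟩
  set v := (orderOf g).factorization p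
  set u := g ^ (orderOf g / p ^ v) with hu
  have huo : orderOf u = p ^ v :=
    orderOf_pow_orderOf_div (orderOf_pos g).ne' (Nat.ordProj_dvd _ _)
  have hv : 0 < v := hp.factorization_pos_of_dvd (orderOf_pos g).ne' hpd
  have hu1 : u ≠ 1 := by
    intro e
    rw [e, orderOf_one] at huo
    exact (Nat.one_lt_pow hv.ne' hp.one_lt).ne huo
  set K := {x : Q | ¬ p ∣ orderOf x}
  have hcomm : ∀ x ∈ K, Commute u x := by
    intro x hx
    set H := Subgroup.closure ({x, g} : Set Q)
    have := hg x
    have hxH : x ∈ H := Subgroup.subset_closure (by simp)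
    have huH : u ∈ H := H.pow_mem (Subgroup.subset_closure (by simp)) _
    have hc := H33.commute_of_nilpotent (G := H) (p := p) (y := ⟨u, huH⟩) (z := ⟨x, hxH⟩)
      ⟨v, by rw [Subgroup.orderOf_mk]; exact huo⟩ (by rw [Subgroup.orderOf_mk]; exact hx)
    exact congrArg Subtype.val hc.eq
  have hKconj : ∀ a : Q, ∀ x ∈ K, a * x * a⁻¹ ∈ K := by
    intro a x hx
    show ¬ p ∣ orderOf (a * x * a⁻¹)
    rwa [← MulAut.conj_apply, MulEquiv.orderOf_eq]
  have hconjcomm : ∀ a : Q, ∀ x ∈ K, Commute (a * u * a⁻¹) x := by
    intro a x hx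
    have := (hcomm _ (hKconj a⁻¹ x hx)).map (MulAut.conj a).toMonoidHom
    simpa [mul_assoc] using this
  obtain ⟨P, hP⟩ := (IsPGroup.of_card (p := p) (G := Subgroup.zpowers u) (n := v)
    (by rw [Nat.card_zpowers, huo])).exists_le_sylow
  set N := Subgroup.normalClosure ({u} : Set Q)
  have htop : Subgroup.closure K ⊔ (P : Subgroup Q) = ⊤ := by
    rw [← Subgroup.index_eq_one]
    by_contra h1
    obtain ⟨q, hq, hqd⟩ := Nat.exists_prime_and_dvd h1
    have : Fact q.Prime := ⟨hq⟩
    by_cases hqp : q = p
    · subst hqp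
      exact P.not_dvd_index (hqd.trans (Subgroup.index_dvd_of_le le_sup_right))
    · obtain ⟨R⟩ : Nonempty (Sylow q Q) := inferInstance
      have hle : (R : Subgroup Q) ≤ Subgroup.closure K ⊔ (P : Subgroup Q) := by
        intro r hr
        refine Subgroup.mem_sup_left (Subgroup.subset_closure ?_)
        obtain ⟨k, hk⟩ := (IsPGroup.iff_orderOf (p := q)).1 R.isPGroup' ⟨r, hr⟩
        rw [Subgroup.orderOf_mk] at hk
        show ¬ p ∣ orderOf r
        rw [hk]
        exact fun hd => hqp ((Nat.prime_dvd_prime_iff_eq hp hq).1 (hp.dvd_of_dvd_pow hd)).symm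
      exact R.not_dvd_index (hqd.trans (Subgroup.index_dvd_of_le hle))
  have hNP : N ≤ (P : Subgroup Q) := by
    refine Subgroup.normalClosure_le_normal (N := (P : Subgroup Q).normalCore) ?_ |>.trans
      (Subgroup.normalCore_le _)
    rintro w hw
    obtain rfl := Set.mem_singleton_iff.1 hw
    intro a
    -- write `a` as a product of an element of the closure of `K` and an element of `P`
    have hKn : (Subgroup.closure K).Normal := by
      refine ⟨fun n hn b => ?_⟩
      refine Subgroup.closure_induction (p := fun n _ => b * n * b⁻¹ ∈ Subgroup.closure K)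
        (fun x hx => Subgroup.subset_closure (hKconj b x hx)) (by simp) ?_ ?_ hn
      · intro x y _ _ hx hy
        have := mul_mem hx hy
        simpa [mul_assoc] using this
      · intro x _ hx
        have := inv_mem hx
        simpa [mul_assoc] using this
    obtain ⟨k, hk, b, hb, rfl⟩ := Subgroup.mem_sup_of_normal_left.1 (htop.symm ▸ Subgroup.mem_top a)
    have hbu : b * u * b⁻¹ ∈ (P : Subgroup Q) :=
      mul_mem (mul_mem hb (hP (Subgroup.mem_zpowers u))) (inv_mem hb)
    have hck : Commute k (b * u * b⁻¹) := by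
      have : Subgroup.closure K ≤ Subgroup.centralizer {b * u * b⁻¹} := by
        rw [Subgroup.closure_le]
        intro x hx
        exact Subgroup.mem_centralizer_iff.2 fun y hy => by
          rw [Set.mem_singleton_iff.1 hy]; exact hconjcomm b x hx
      exact (Subgroup.mem_centralizer_iff.1 (this hk) _ rfl).symm
    have e : k * b * u * (k * b)⁻¹ = b * u * b⁻¹ := by
      calc k * b * u * (k * b)⁻¹ = k * (b * u * b⁻¹) * k⁻¹ := by group
        _ = b * u * b⁻¹ := by rw [hck.eq]; group
    rw [e]; exact hbu
  -- a nontrivial fixed point of `P` on `N`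
  have hNn : N.Normal := Subgroup.normalClosure_normal
  let _ : MulAction (P : Subgroup Q) N :=
    MulAction.compHom N ((MulAut.conjNormal (H := N)).comp (P : Subgroup Q).subtype)
  have hdvd : p ∣ Nat.card N := by
    refine Dvd.dvd.trans ?_ (Subgroup.orderOf_dvd_natCard N (Subgroup.subset_normalClosure rfl))
    rw [huo]; exact dvd_pow_self p hv.ne'
  obtain ⟨z, hz, hz1⟩ := P.isPGroup'.exists_fixed_point_of_prime_dvd_card_of_fixed_point N hdvd
    (a := 1) (fun r => map_one (MulAut.conjNormal (H := N) (r : Q)))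
  have hzc : (z : Q) ∈ Subgroup.center Q := by
    have hle : Subgroup.closure K ⊔ (P : Subgroup Q) ≤ Subgroup.centralizer {(z : Q)} := by
      refine sup_le ((Subgroup.closure_le _).2 fun x hx => ?_) fun r hr => ?_
      · have hN' : N ≤ Subgroup.centralizer (K : Set Q) := by
          refine (Subgroup.closure_le _).2 ?_
          intro w hw
          obtain ⟨_, rfl, hw⟩ := Group.mem_conjugatesOfSet_iff.1 hw
          obtain ⟨a, rfl⟩ := isConj_iff.1 hw
          exact Subgroup.mem_centralizer_iff.2 fun y hy => (hconjcomm a y hy).symm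
        exact Subgroup.mem_centralizer_iff.2 fun y hy => by
          rw [Set.mem_singleton_iff.1 hy]
          exact (Subgroup.mem_centralizer_iff.1 (hN' z.2) x hx).symm
      · refine Subgroup.mem_centralizer_iff.2 fun y hy => ?_
        rw [Set.mem_singleton_iff.1 hy]
        have hr' := congrArg Subtype.val (hz ⟨r, hr⟩)
        change r * (z : Q) * r⁻¹ = (z : Q) at hr'
        nth_rw 1 [← hr']
        group
    rw [htop, top_le_iff] at hle
    refine Subgroup.mem_center_iff.2 fun y => ?_
    exact (Subgroup.mem_centralizer_iff.1 (hle ▸ Subgroup.mem_top y : y ∈ Subgroup.centralizer {(z : Q)}) _ rfl).symm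
  rw [hZ, Subgroup.mem_bot] at hzc
  exact hz1 (Subtype.ext hzc.symm)

/-- In a finite group G the set of elements g such that the subgroup generated by g and x is nilpotent for every x ∈ G is exactly the hypercenter of G (the last term of the upper central series). -/
theorem result {G : Type*} [Group G] [Finite G] (g : G) :
    (∀ x : G, Group.IsNilpotent ↥(Subgroup.closure ({x, g} : Set G))) ↔ g ∈ ⨆ n : ℕ, Subgroup.upperCentralSeries G n := by
  have hdir : Directed (· ≤ ·) fun n : ℕ => Subgroup.upperCentralSeries G n :=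
    (Subgroup.upperCentralSeries_mono G).directed_le
  constructor
  · intro h
    obtain ⟨a, b, hab, heq⟩ := Finite.exists_ne_map_eq_of_infinite (Subgroup.upperCentralSeries G)
    have hstab : Subgroup.upperCentralSeries G a = Subgroup.upperCentralSeries G (a + 1) :=
      Subgroup.upperCentralSeries.eq_ge_of_eq_gt hab (Nat.le_succ a) heq
    set Z := Subgroup.upperCentralSeries G a
    have hZ : Subgroup.center (G ⧸ Z) = ⊥ := by
      rw [eq_bot_iff]
      intro q hq
      obtain ⟨y, rfl⟩ := QuotientGroup.mk_surjective q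
      refine Subgroup.mem_bot.2 ((QuotientGroup.eq_one_iff y).2 ?_)
      rw [hstab, Subgroup.mem_upperCentralSeries_succ_iff]
      intro w
      refine (QuotientGroup.eq_one_iff _).1 ?_
      show QuotientGroup.mk' Z (y * w * y⁻¹ * w⁻¹) = 1
      simp only [map_mul, map_inv]
      have hc := Subgroup.mem_center_iff.1 hq (QuotientGroup.mk' Z w)
      calc _ = QuotientGroup.mk' Z w * (y : G ⧸ Z) * (QuotientGroup.mk' Z y)⁻¹ * (QuotientGroup.mk' Z w)⁻¹ := by
            rw [hc]; rfl
        _ = 1 := by show QuotientGroup.mk' Z w * QuotientGroup.mk' Z y * _ * _ = 1; group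
    refine Subgroup.mem_iSup_of_directed hdir |>.2 ⟨a, ?_⟩
    refine (QuotientGroup.eq_one_iff g).1 (eq_one_of_center_bot hZ _ fun q => ?_)
    obtain ⟨y, rfl⟩ := QuotientGroup.mk_surjective q
    have := h y
    set φ := QuotientGroup.mk' Z
    have e : Subgroup.closure ({(y : G ⧸ Z), (g : G ⧸ Z)} : Set (G ⧸ Z)) =
        (Subgroup.closure ({y, g} : Set G)).map φ := by
      rw [MonoidHom.map_closure, Set.image_pair]; rfl
    rw [e]
    exact Group.nilpotent_of_surjective _ (MonoidHom.subgroupMap_surjective φ (Subgroup.closure ({y, g} : Set G)))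
  · intro h
    obtain ⟨m, hm⟩ := (Subgroup.mem_iSup_of_directed hdir).1 h
    exact nilpotent_pair hm

end Cfsg.Agent.S3939
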