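import Cfsg.Statements.S3941
import Cfsg.Agent.H32.AltNotClosed
import Mathlib.GroupTheory.Perm.Fin

set_option autoImplicit false
open Cfsg

namespace Cfsg.Agent.S3941

/-- Let n ≥ 5 and p an odd prime with p ≤ n, and suppose that every proper subgroup of the alternating group of degree n whose order is divisible by p has a normal Sylow p-subgroup. Then n = p. -/
theorem result (n p : ℕ) (hn : 5 ≤ n) [Fact p.Prime] (hp : p ≠ 2) (hpn : p ≤ n)
    (h : ∀ H : Subgroup ↥(alternatingGroup (Fin n)), H ≠ ⊤ → p ∣ Nat.card ↥H → Cfsg.IsPClosed p ↥H) : n = p := by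
  classical
  by_contra hne
  have hp' : p.Prime := Fact.out
  have hp3 : 3 ≤ p := by have := hp'.two_le; omega
  obtain ⟨m, rfl⟩ : ∃ m, n = m + 1 := ⟨n - 1, by omega⟩
  let ι : Equiv.Perm (Fin m) →* Equiv.Perm (Fin (m + 1)) :=
    Equiv.Perm.extendDomainHom (p := fun x : Fin (m + 1) => x ≠ Fin.last m) (finSuccAboveEquiv (Fin.last m))
  have hι : ∀ σ, σ ∈ alternatingGroup (Fin m) → ι σ ∈ alternatingGroup (Fin (m + 1)) := by
    intro σ hσ
    rw [Equiv.Perm.mem_alternatingGroup] at hσ ⊢
    rw [← hσ]
    exact Equiv.Perm.sign_extendDomain σ _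
  let f : alternatingGroup (Fin m) →* alternatingGroup (Fin (m + 1)) :=
    { toFun := fun σ => ⟨ι σ, hι σ σ.2⟩
      map_one' := Subtype.ext (map_one ι)
      map_mul' := fun a b => Subtype.ext (map_mul ι a.1 b.1) }
  have hf : Function.Injective f := fun a b hab =>
    Subtype.ext (Equiv.Perm.extendDomainHom_injective _ (congrArg Subtype.val hab))
  let e := MonoidHom.ofInjective hf
  have hcard : Nat.card f.range = Nat.card (alternatingGroup (Fin m)) := (Nat.card_congr e.toEquiv).symm
  have h1 : ∀ k : ℕ, 2 ≤ k → 2 * Nat.card (alternatingGroup (Fin k)) = k.factorial := by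
    intro k hk
    haveI : Nontrivial (Fin k) := Fin.nontrivial_iff_two_le.mpr hk
    rw [two_mul_nat_card_alternatingGroup, Nat.card_perm, Nat.card_fin]
  have hne_top : f.range ≠ ⊤ := by
    intro h
    rw [h, Subgroup.card_top] at hcard
    have := h1 (m + 1) (by omega)
    rw [hcard, h1 m (by omega)] at this
    exact absurd this (Nat.factorial_lt (by omega) |>.mpr (Nat.lt_succ_self m)).ne
  have hdvd : p ∣ Nat.card f.range := by
    rw [hcard]
    have : p ∣ 2 * Nat.card (alternatingGroup (Fin m)) := by
      rw [h1 m (by omega)]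
      exact Nat.dvd_factorial hp'.pos (by omega)
    rcases (Nat.Prime.dvd_mul hp').mp this with h | h
    · exact absurd (Nat.le_of_dvd (by norm_num) h) (by omega)
    · exact h
  have hcl := h f.range hne_top hdvd
  exact H32.alternating_not_pClosed m p (by omega) hp3 (by omega) (H32.pClosed_of_mulEquiv e hcl)

end Cfsg.Agent.S3941
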