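import Cfsg.Statements.S3946
import Cfsg.Agent.H29.SplittingNilpotent

set_option autoImplicit false
open Cfsg

namespace Cfsg.Agent.S3946

/-- Kegel: a finite group with a splitting automorphism of prime order is nilpotent. -/
theorem result {G : Type*} [Group G] [Finite G] (α : MulAut G) (hp : (orderOf α).Prime)
    (hsplit : ∀ x : G, (((List.range (orderOf α)).map (fun i : ℕ => (α ^ i) x)).prod = 1)) : Group.IsNilpotent G :=
  H29.isNilpotent_of_splitting α hp (pow_orderOf_eq_one α) hsplit

end Cfsg.Agent.S3946
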