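import Cfsg.Statements.S3949
import Mathlib

set_option autoImplicit false
open Cfsg

namespace Cfsg.Agent.S3949

/-- Let G be a finite group and α an automorphism of G of order 2 such that the elements g·α(g)⁻¹ generate G. Let j be a positive integer such that 2^j divides the order of no element inverted by α. Then the set of values of the j-th iterate of the map c ↦ c·α(c)⁻¹ is exactly the set of elements of odd order inverted by α. -/
theorem result {G : Type*} [Group G] [Finite G] (α : MulAut G) (hα : orderOf α = 2) (hG : Subgroup.closure (Set.range (fun c : G => c * (α c)⁻¹)) = ⊤)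
    (j : ℕ) (hj : ∀ g : G, α g = g⁻¹ → ¬ 2 ^ j ∣ orderOf g) :
    Set.range ((fun c : G => c * (α c)⁻¹)^[j]) = {g : G | Odd (orderOf g) ∧ α g = g⁻¹} := by
  classical
  set φ : G → G := fun c : G => c * (α c)⁻¹ with hφ
  have hαα : ∀ c : G, α (α c) = c := by
    intro c
    have h := pow_orderOf_eq_one α
    rw [hα, pow_two] at h
    exact congrArg (fun e : MulAut G => e c) h
  have hinv : ∀ c : G, α (φ c) = (φ c)⁻¹ := by
    intro c; simp [hφ, hαα]
  have hpow : ∀ (n : ℕ) (g : G), α g = g⁻¹ → φ^[n] g = g ^ (2 ^ n) := by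
    intro n
    induction n with
    | zero => intro g _; simp
    | succ n ih =>
      intro g hg
      rw [Function.iterate_succ', Function.comp_apply, ih g hg]
      have h2 : α (g ^ (2 ^ n)) = (g ^ (2 ^ n))⁻¹ := by rw [map_pow, hg, inv_pow]
      show g ^ (2 ^ n) * (α (g ^ (2 ^ n)))⁻¹ = _
      rw [h2, inv_inv, ← pow_add]
      congr 1; ring
  obtain ⟨i, rfl⟩ : ∃ i, j = i + 1 := by
    rcases j with _ | i
    · exact absurd (by simp) (hj 1 (by simp))
    · exact ⟨i, rfl⟩
  ext g
  constructor
  · rintro ⟨c, rfl⟩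
    rw [Function.iterate_succ_apply, hpow i (φ c) (hinv c)]
    refine ⟨?_, by rw [map_pow, hinv c, inv_pow]⟩
    rw [orderOf_pow]
    have hne : orderOf (φ c) ≠ 0 := (orderOf_pos _).ne'
    obtain ⟨k, m, hm, hkm⟩ := Nat.exists_eq_two_pow_mul_odd hne
    have hki : k ≤ i := by
      by_contra hh
      apply hj (φ c) (hinv c)
      rw [hkm]
      exact (pow_dvd_pow 2 (by omega)).mul_right m
    have hg : Nat.gcd (orderOf (φ c)) (2 ^ i) = 2 ^ k := by
      rw [hkm, Nat.Coprime.gcd_mul_right_cancel]
      · exact Nat.gcd_eq_left (pow_dvd_pow 2 hki)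
      · exact (Nat.coprime_two_right.mpr hm).pow_right i
    rw [hg, hkm, Nat.mul_div_cancel_left _ (by positivity)]
    exact hm
  · rintro ⟨hodd, hg⟩
    have hcop : (orderOf g).Coprime (2 ^ (i + 1)) := (Nat.coprime_two_right.mpr hodd).pow_right _
    obtain ⟨m, hm⟩ := exists_pow_eq_self_of_coprime hcop.symm
    refine ⟨g ^ m, ?_⟩
    rw [hpow (i + 1) (g ^ m) (by rw [map_pow, hg, inv_pow]), ← pow_mul, mul_comm, pow_mul, hm]

end Cfsg.Agent.S3949
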