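import Cfsg.Statements.S3979
import Cfsg.Agent.H26.SchurTransfer

set_option autoImplicit false
open Cfsg

namespace Cfsg.Agent.S3979

/-- A finite cyclic group has trivial Schur multiplier: every finite stem extension of it is an isomorphism, said through `HasCyclicSchurMultiplier G 1`. -/
theorem result {G : Type*} [Group G] [Finite G] [IsCyclic G] : Cfsg.HasCyclicSchurMultiplier G 1 := by
  obtain ⟨g, hg⟩ := IsCyclic.exists_generator (α := G)
  let f : FreeGroup Unit →* G := FreeGroup.lift (fun _ => g)
  have hf : Function.Surjective f := fun x => by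
    obtain ⟨k, rfl⟩ := Subgroup.mem_zpowers_iff.1 (hg x)
    exact ⟨FreeGroup.of () ^ k, by simp [f]⟩
  refine (H26.hasCyclic_one_iff hf).2 (H26.schurM_eq_bot_of_commutator ?_)
  have hcomm : ∀ w : FreeGroup Unit, w ∈ Subgroup.zpowers (FreeGroup.of ()) := fun w => by
    induction w using FreeGroup.induction_on with
    | C1 => exact one_mem _
    | of x => exact Subgroup.mem_zpowers _
    | inv_of x h => exact inv_mem h
    | mul x y hx hy => exact mul_mem hx hy
  rw [eq_bot_iff, commutator_eq_closure, Subgroup.closure_le]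
  rintro _ ⟨a, b, rfl⟩
  obtain ⟨a, rfl⟩ := QuotientGroup.mk'_surjective _ a
  obtain ⟨b, rfl⟩ := QuotientGroup.mk'_surjective _ b
  obtain ⟨i, rfl⟩ := Subgroup.mem_zpowers_iff.1 (hcomm a)
  obtain ⟨j, rfl⟩ := Subgroup.mem_zpowers_iff.1 (hcomm b)
  rw [SetLike.mem_coe, Subgroup.mem_bot, ← map_commutatorElement,
    commutatorElement_eq_one_iff_mul_comm.2 (Commute.zpow_zpow_self _ i j).eq, map_one]

end Cfsg.Agent.S3979
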