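import Cfsg.Statements.S3950
import Cfsg.Agent.H26.SchurMetacyclic
import Cfsg.Agent.H26.SchurLower
import Cfsg.Agent.S3979

set_option autoImplicit false
open Cfsg

namespace Cfsg.Agent.S3950

/-- A finite abelian group has trivial Schur multiplier if and only if it is cyclic. -/
theorem result {G : Type*} [CommGroup G] [Finite G] : Cfsg.HasCyclicSchurMultiplier G 1 ↔ IsCyclic G := by
  refine ⟨fun h => ?_, fun _ => Cfsg.Agent.S3979.result⟩
  obtain ⟨ι, _, e, he, ⟨E⟩⟩ := CommGroup.equiv_prod_multiplicative_zmod_of_finite G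
  by_cases hco : Pairwise fun i j => Nat.Coprime (e i) (e j)
  · exact isCyclic_of_surjective
      ((E.trans (MulEquiv.piMultiplicative (fun i => ZMod (e i))).symm).trans
        (AddEquiv.toMultiplicative (ZMod.prodEquivPi e hco).toAddEquiv.symm)).symm.toMonoidHom
      (MulEquiv.surjective _)
  exfalso
  classical
  simp only [Pairwise, not_forall] at hco
  obtain ⟨i, j, hij, hcop⟩ := hco
  obtain ⟨p, hp, hpi, hpj⟩ := Nat.Prime.not_coprime_iff_dvd.1 hcop
  haveI := Fact.mk hp
  let φi : G → ZMod p := fun x => ZMod.castHom hpi (ZMod p) (E x i).toAdd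
  let φj : G → ZMod p := fun x => ZMod.castHom hpj (ZMod p) (E x j).toAdd
  have hφi : ∀ x y, φi (x * y) = φi x + φi y := fun x y => by
    simp only [φi, map_mul, Pi.mul_apply, toAdd_mul, map_add]
  have hφj : ∀ x y, φj (x * y) = φj x + φj y := fun x y => by
    simp only [φj, map_mul, Pi.mul_apply, toAdd_mul, map_add]
  have hlow := H26.orderOf_dvd_card_schurM_of_bilin (A := Multiplicative (ZMod p))
    (H26.stdPres_surjective G) (fun x y => .ofAdd (φi x * φj y))
    (fun g h k => by simp [hφi, add_mul, ofAdd_add])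
    (fun g h k => by simp [hφj, mul_add, ofAdd_add])
    (E.symm (Pi.mulSingle i (.ofAdd 1))) (E.symm (Pi.mulSingle j (.ofAdd 1))) (mul_comm _ _)
  have hval : φi (E.symm (Pi.mulSingle i (.ofAdd 1))) * φj (E.symm (Pi.mulSingle j (.ofAdd 1))) = 1 ∧
      φi (E.symm (Pi.mulSingle j (.ofAdd 1))) * φj (E.symm (Pi.mulSingle i (.ofAdd 1))) = 0 := by
    constructor
    · simp only [φi, φj, MulEquiv.apply_symm_apply, Pi.mulSingle_eq_same, toAdd_ofAdd, map_one,
        one_mul]
    · simp only [φi, φj, MulEquiv.apply_symm_apply, Pi.mulSingle_eq_of_ne hij, toAdd_one, map_zero,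
        zero_mul]
  simp only [hval.1, hval.2, ofAdd_zero, inv_one, mul_one] at hlow
  rw [orderOf_ofAdd_eq_addOrderOf, ZMod.addOrderOf_one] at hlow
  have h1 := (H26.hasCyclic_one_iff (H26.stdPres_surjective G)).1 h
  rw [h1, Subgroup.card_bot, Nat.dvd_one] at hlow
  exact hp.one_lt.ne' hlow

end Cfsg.Agent.S3950
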