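import Cfsg.Statements.S3951
import Cfsg.Agent.H26.SchurMetacyclic
import Cfsg.Agent.H26.SchurLower

set_option autoImplicit false
open Cfsg

namespace Cfsg.Agent.S3951

/-- For positive integers `m` and `n` with `n` dividing `m`, the Schur multiplier of the abelian group `ZMod m × ZMod n` (written multiplicatively) is cyclic of order `n`. In particular the elementary abelian group of order `p ^ 2` has multiplier of order `p`. -/
theorem result (m n : ℕ) [NeZero m] [NeZero n] (hnm : n ∣ m) : Cfsg.HasCyclicSchurMultiplier (Multiplicative (ZMod m × ZMod n)) n := by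
  let f : FreeGroup Bool →* Multiplicative (ZMod m × ZMod n) :=
    FreeGroup.lift (fun s => bif s then .ofAdd (1, 0) else .ofAdd (0, 1))
  have hfa : f (.of true) = .ofAdd (1, 0) := by simp [f]
  have hfb : f (.of false) = .ofAdd (0, 1) := by simp [f]
  have hf : Function.Surjective f := fun x => by
    refine ⟨FreeGroup.of true ^ x.toAdd.1.val * FreeGroup.of false ^ x.toAdd.2.val, ?_⟩
    rw [map_mul, map_pow, map_pow, hfa, hfb, ← ofAdd_nsmul, ← ofAdd_nsmul, ← ofAdd_add]
    exact (congrArg Multiplicative.ofAdd (by ext <;> simp)).trans (ofAdd_toAdd x)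
  obtain ⟨hcyc, hup⟩ := H26.metacyclic_upper (d := m) (u := 0) (v := 1) (n := n) (r := 1) (l := 0)
    (k := n) hf Nat.one_pos (Nat.pos_of_ne_zero (NeZero.ne n)) (Nat.pos_of_ne_zero (NeZero.ne m))
    (by simp) (by simp) (by simp) (by simp)
    (by
      rw [hfa, orderOf_ofAdd_eq_addOrderOf, Prod.addOrderOf_mk, ZMod.addOrderOf_one,
        addOrderOf_zero, Nat.lcm_one_right, Nat.mul_one])
    (by
      rw [hfb, ← ofAdd_nsmul, Nat.mul_zero, pow_zero]
      simp [ofAdd_eq_one])
    (by rw [pow_one, mul_comm (f (.of false)), mul_inv_cancel_right])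
  rw [Nat.gcd_zero_left, Nat.gcd_eq_right hnm] at hup
  let c : ZMod m →+* ZMod n := ZMod.castHom hnm _
  have hlow := H26.orderOf_dvd_card_schurM_of_bilin (A := Multiplicative (ZMod n)) hf
    (fun p q => .ofAdd (c p.toAdd.1 * q.toAdd.2))
    (fun g h e => by simp [add_mul, ofAdd_add])
    (fun g h e => by simp [mul_add, ofAdd_add])
    (Multiplicative.ofAdd (1, 0)) (Multiplicative.ofAdd (0, 1)) (mul_comm _ _)
  simp only [toAdd_ofAdd, map_one, map_zero, mul_zero, one_mul, ofAdd_zero, inv_one, mul_one] at hlow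
  rw [orderOf_ofAdd_eq_addOrderOf, ZMod.addOrderOf_one] at hlow
  exact H26.hasCyclic_of hf (Nat.dvd_antisymm hup hlow)

end Cfsg.Agent.S3951
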