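import Cfsg.Statements.S3953
import Cfsg.Agent.H26.SchurTransfer

set_option autoImplicit false
open Cfsg

namespace Cfsg.Agent.S3953

/-- Let `P` be a Sylow `p`-subgroup of the finite group `G`, let `A` be the Schur multiplier of `G` and `B` that of `P`. Then the `p`-primary component of `A` is isomorphic to a direct factor of `B`: there are subgroups `C` and `D` of `B` meeting trivially and generating `B`, with `C` isomorphic to the `p`-primary component of `A`. -/
theorem result {G : Type*} [Group G] [Finite G] (p : ℕ) [Fact p.Prime] (P : Sylow p G) {A B : Type*} [CommGroup A] [CommGroup B] (hA : Cfsg.HasSchurMultiplier G A) (hB : Cfsg.HasSchurMultiplier P B) : ∃ C D : Subgroup B, C ⊓ D = ⊥ ∧ C ⊔ D = ⊤ ∧ Nonempty (CommGroup.primaryComponent A p ≃* C) := by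
  have hp : p.Prime := Fact.out
  obtain ⟨q, t, hqt⟩ := H26.exists_res_cor (P : Subgroup G) hA hB
  obtain ⟨k, hk⟩ := IsPGroup.iff_card.1 P.isPGroup'
  let Ap : Subgroup A := CommGroup.primaryComponent A p
  haveI : Finite A := (H26.card_multiplier hA).1
  have hmem : ∀ a : A, a ∈ Ap ↔ ∃ j, a ^ p ^ j = 1 := fun a => by
    simp only [Ap, CommGroup.mem_primaryComponent]
  have hq : ∀ b, q b ∈ Ap := fun b => (hmem _).2 ⟨k, by
    rw [← map_pow, ← hk, H26.multiplier_pow_card hB, map_one]⟩
  have hAp : IsPGroup p Ap := fun a => by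
    obtain ⟨j, hj⟩ := (hmem _).1 a.2
    exact ⟨j, Subtype.ext hj⟩
  have hcop : (Nat.card Ap).Coprime (P : Subgroup G).index := by
    obtain ⟨l, hl⟩ := IsPGroup.iff_card.1 hAp
    rw [hl]
    exact ((hp.coprime_iff_not_dvd).2 P.not_dvd_index).pow_left l
  let e := powCoprime hcop
  have hinj : Function.Injective (t.comp Ap.subtype) := fun a b h => by
    apply e.injective
    apply Subtype.ext
    change (a : A) ^ _ = (b : A) ^ _
    rw [← hqt, ← hqt]
    exact congrArg q h
  refine ⟨(t.comp Ap.subtype).range, q.ker, ?_, ?_, ⟨MonoidHom.ofInjective hinj⟩⟩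
  · rw [eq_bot_iff]
    rintro _ ⟨⟨a, rfl⟩, ha⟩
    have h1 : e a = 1 := Subtype.ext ((hqt (a : A)).symm.trans ha)
    have h2 : a = 1 := e.injective (h1.trans (one_pow _).symm)
    rw [h2, map_one]
    exact one_mem _
  · rw [eq_top_iff]
    intro b _
    obtain ⟨a, ha⟩ := e.surjective ⟨q b, hq b⟩
    have h1 : q (t (a : A)) = q b := (hqt _).trans (congrArg Subtype.val ha)
    have : b = t (a : A) * ((t (a : A))⁻¹ * b) := by group
    rw [this]
    refine Subgroup.mul_mem_sup ⟨a, rfl⟩ ?_
    rw [MonoidHom.mem_ker, map_mul, map_inv, h1, inv_mul_cancel]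

end Cfsg.Agent.S3953
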