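import Cfsg.Statements.S3956
import Cfsg.Agent.H26.SchurProjective

set_option autoImplicit false
universe u v
open Cfsg

namespace Cfsg.Agent.S3956

/-- Let `σ : Γ →* Q` be a finite stem extension of the finite group `Q` such that every homomorphism from `Q` to the quotient of `GL n ℂ` by its centre, for every `n`, lifts along `σ` to a homomorphism `Γ →* GL n ℂ`. Then `σ` is a Schur covering group of `Q`: for every finite stem extension `τ : Δ →* Q` with `Δ` in the same universe as `Q`, the kernel of `τ` is a homomorphic image of the kernel of `σ`. -/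
theorem result {Q : Type u} [Group Q] [Finite Q] {Γ : Type v} [Group Γ] [Finite Γ] (σ : Γ →* Q) (hσ : Cfsg.IsStemExtension σ) (hlift : ∀ (n : ℕ) (γ : Q →* (GL (Fin n) ℂ ⧸ Subgroup.center (GL (Fin n) ℂ))), ∃ ρ : Γ →* GL (Fin n) ℂ, (QuotientGroup.mk' (Subgroup.center (GL (Fin n) ℂ))).comp ρ = γ.comp σ) (Δ : Type u) [Group Δ] [Finite Δ] (τ : Δ →* Q) (hτ : Cfsg.IsStemExtension τ) : ∃ π : σ.ker →* τ.ker, Function.Surjective π := by
  have hf := H26.stdPres_surjective Q
  obtain ⟨φ, hφ, -, hmap⟩ := H26.exists_lift_stem hf hσ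
  obtain ⟨ψ, -, -, hmap'⟩ := H26.exists_lift_stem hf hτ
  obtain ⟨p, hp, hp'⟩ := H26.surjective_hom_of_map_eq hmap
  obtain ⟨p', hps, -⟩ := H26.surjective_hom_of_map_eq hmap'
  have hinj : Function.Injective p := (injective_iff_map_eq_one p).2 (fun a ha => Subtype.ext
    (H26.kerComm_injective_of_lifts σ φ hφ hlift a.2
      ((hp' a).symm.trans (congrArg Subtype.val ha))))
  let e := MulEquiv.ofBijective p ⟨hinj, hp⟩
  exact ⟨p'.comp e.symm.toMonoidHom, hps.comp e.symm.surjective⟩

end Cfsg.Agent.S3956
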