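import Cfsg.Statements.S3957
import Cfsg.Agent.H26.SchurBasic

set_option autoImplicit false
universe u v
open Cfsg

namespace Cfsg.Agent.S3957

/-- Let `Q` be a finite group with Schur multiplier `A` and let `τ : Δ →* Q` be a finite stem extension, `Δ` in the universe of `Q`. Then there is a finite stem extension `σ : Γ →* Q` with kernel isomorphic to `A` (a Schur covering group) and a surjective homomorphism `β : Γ →* Δ` with `τ ∘ β = σ`. -/
theorem result {Q : Type u} [Group Q] [Finite Q] {A : Type v} [CommGroup A] (hA : Cfsg.HasSchurMultiplier Q A) {Δ : Type u} [Group Δ] [Finite Δ] (τ : Δ →* Q) (hτ : Cfsg.IsStemExtension τ) : ∃ (Γ : Type u) (_ : Group Γ) (_ : Finite Γ) (σ : Γ →* Q), Cfsg.IsStemExtension σ ∧ Nonempty (σ.ker ≃* A) ∧ ∃ β : Γ →* Δ, Function.Surjective β ∧ τ.comp β = σ := by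
  have hf := H26.stdPres_surjective Q
  obtain ⟨φ, hφ, hφs, hmap⟩ := H26.exists_lift_stem hf hτ
  have hle : φ.ker ≤ (H26.cePi (H26.stdPres Q)).ker := fun a ha => by
    rw [MonoidHom.mem_ker] at ha ⊢
    rw [← hφ, MonoidHom.comp_apply, ha, map_one]
  have hsup : (H26.cePi (H26.stdPres Q)).ker ≤ φ.ker ⊔ H26.SchurMul Q := by
    intro a ha
    have h1 : φ a ∈ τ.ker := by
      rw [MonoidHom.mem_ker, ← MonoidHom.comp_apply, hφ]; exact ha
    rw [← hmap] at h1
    obtain ⟨m, hm, hma⟩ := h1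
    have : a = a * m⁻¹ * m := by group
    rw [this]
    exact Subgroup.mul_mem_sup (by rw [MonoidHom.mem_ker, map_mul, map_inv, hma, mul_inv_cancel]) hm
  obtain ⟨S, hSK, hSM, hS⟩ := H26.exists_complement φ.ker hle hsup
  haveI : S.Normal := ⟨fun s hs g => by
    rw [Subgroup.mem_center_iff.1 (H26.cePi_ker_le_center (hle (hSK hs))) g, mul_inv_cancel_right]
    exact hs⟩
  obtain ⟨h0, hfin, hbij⟩ := H26.stem_of_complement hf S hSM hS
  obtain ⟨eA⟩ := H26.hasSchurMultiplier_iff.1 hA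
  let σ : H26.CE (H26.stdPres Q) ⧸ S →* Q :=
    QuotientGroup.lift S (H26.cePi (H26.stdPres Q)) (hS ▸ le_sup_left)
  have e₀ : H26.SchurMul Q ≃* σ.ker :=
    MulEquiv.ofBijective (MonoidHom.mk' _ (fun a b => Subtype.ext (QuotientGroup.mk_mul S _ _))) hbij
  refine ⟨_, inferInstance, hfin, σ, h0, ⟨e₀.symm.trans eA.symm⟩,
    QuotientGroup.lift S φ hSK, QuotientGroup.lift_surjective_of_surjective _ _ hφs _, ?_⟩
  apply QuotientGroup.monoidHom_ext
  ext a
  exact DFunLike.congr_fun hφ _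

end Cfsg.Agent.S3957
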