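import Cfsg.Statements.S3958
import Cfsg.Agent.H26.SchurBasic

set_option autoImplicit false
universe u v
open Cfsg

namespace Cfsg.Agent.S3958

/-- Let `σ : Γ →* Q` be a finite stem extension of the finite group `Q` with `Γ` of trivial Schur multiplier. Then `σ` is a Schur covering group of `Q`: for every finite stem extension `τ : Δ →* Q` with `Δ` in the same universe as `Q`, the kernel of `τ` is a homomorphic image of the kernel of `σ`. -/
theorem result {Q : Type u} [Group Q] [Finite Q] {Γ : Type v} [Group Γ] [Finite Γ] (σ : Γ →* Q) (hσ : Cfsg.IsStemExtension σ) (hΓ : Cfsg.HasCyclicSchurMultiplier Γ 1) (Δ : Type u) [Group Δ] [Finite Δ] (τ : Δ →* Q) (hτ : Cfsg.IsStemExtension τ) : ∃ π : σ.ker →* τ.ker, Function.Surjective π := by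
  have hf := H26.stdPres_surjective Q
  obtain ⟨φ, hφ, hφs, hmap⟩ := H26.exists_lift_stem hf hσ
  obtain ⟨ψ, -, -, hmap'⟩ := H26.exists_lift_stem hf hτ
  obtain ⟨p, hp, hp'⟩ := H26.surjective_hom_of_map_eq hmap
  obtain ⟨p', hps, -⟩ := H26.surjective_hom_of_map_eq hmap'
  have hle : φ.ker ≤ (H26.cePi (H26.stdPres Q)).ker := fun a ha => by
    rw [MonoidHom.mem_ker] at ha ⊢
    rw [← hφ, MonoidHom.comp_apply, ha, map_one]
  have hk := H26.kerComm_eq_bot hΓ φ (hle.trans H26.cePi_ker_le_center) hφs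
  have hinj : Function.Injective p := fun a b hab => by
    have h1 : (a : H26.CE (H26.stdPres Q))⁻¹ * b ∈ H26.kerComm φ := by
      refine ⟨?_, (commutator _).mul_mem ((commutator _).inv_mem a.2.2) b.2.2⟩
      change φ _ = 1
      rw [map_mul, map_inv, ← hp', ← hp', hab, inv_mul_cancel]
    rw [hk, Subgroup.mem_bot, inv_mul_eq_one] at h1
    exact Subtype.ext h1
  let e := MulEquiv.ofBijective p ⟨hinj, hp⟩
  exact ⟨p'.comp e.symm.toMonoidHom, hps.comp e.symm.surjective⟩

end Cfsg.Agent.S3958
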