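import Cfsg.Statements.S3960
import Cfsg.Agent.H26.SchurPerfect

set_option autoImplicit false
universe u
open Cfsg

namespace Cfsg.Agent.S3960

/-- A finite perfect group `Q` has a universal central extension: a finite perfect group `G` in the universe of `Q` and a surjective homomorphism `π : G →* Q` with central kernel such that for every group `X` in that universe and every surjective homomorphism `ξ : X →* Q` with central kernel there is exactly one homomorphism `η : G →* X` with `ξ ∘ η = π`. -/
theorem result {Q : Type u} [Group Q] [Finite Q] (hQ : Group.IsPerfect Q) : ∃ (G : Type u) (_ : Group G) (_ : Finite G) (π : G →* Q), Group.IsPerfect G ∧ Function.Surjective π ∧ π.ker ≤ Subgroup.center G ∧ ∀ (X : Type u) [Group X] (ξ : X →* Q), Function.Surjective ξ → ξ.ker ≤ Subgroup.center X → ∃! η : G →* X, ξ.comp η = π := by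
  have hf := H26.stdPres_surjective Q
  let π := H26.cePi (H26.stdPres Q)
  have hc : π.ker ≤ Subgroup.center _ := H26.cePi_ker_le_center
  obtain ⟨h1, h2⟩ := H26.perfect_commutator_of_perfect hc (H26.cePi_surjective hf) hQ.commutator_eq_top
  haveI := H26.finite_commutator_CE (f := H26.stdPres Q)
  refine ⟨commutator (H26.CE (H26.stdPres Q)), inferInstance, inferInstance,
    π.comp (commutator _).subtype, ⟨h2⟩, fun q => ?_, ?_, ?_⟩
  · obtain ⟨x, hx, rfl⟩ := (h1 ▸ Subgroup.mem_top q : q ∈ (commutator _).map π)
    exact ⟨⟨x, hx⟩, rfl⟩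
  · intro a ha
    rw [Subgroup.mem_center_iff]
    intro b
    exact Subtype.ext (Subgroup.mem_center_iff.1 (hc ha) b)
  · intro X _ ξ hξ hξc
    obtain ⟨φ, hφ⟩ := H26.exists_lift (f := H26.stdPres Q) ξ hξc hξ
    refine ⟨φ.comp (commutator _).subtype, ?_, fun η hη => ?_⟩
    · change ξ.comp (φ.comp (commutator _).subtype) = _
      rw [← MonoidHom.comp_assoc, hφ]
    ext a
    exact H26.eq_on_commutator hξc
      (hη.trans (by rw [← MonoidHom.comp_assoc, hφ] :
        π.comp (commutator _).subtype = ξ.comp (φ.comp (commutator _).subtype)))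
      (h2 ▸ Subgroup.mem_top a)

end Cfsg.Agent.S3960
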