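import Cfsg.Statements.S3961
import Cfsg.Agent.H26.SchurPerfect

set_option autoImplicit false
universe u v
open Cfsg

namespace Cfsg.Agent.S3961

/-- Let `π : G →* Q` be a surjective homomorphism with central kernel from a finite perfect group `G` (a perfect cover of `Q`). Then `π` is universal, in the sense that every surjective homomorphism `ξ : X →* Q` with central kernel from a group `X` in the universe of `G` admits a homomorphism `η : G →* X` with `ξ ∘ η = π`, if and only if `G` has trivial Schur multiplier. -/
theorem result {G : Type u} {Q : Type v} [Group G] [Group Q] [Finite G] (hG : Group.IsPerfect G) (π : G →* Q) (hπ : Function.Surjective π) (hker : π.ker ≤ Subgroup.center G) : (∀ (X : Type u) [Group X] (ξ : X →* Q), Function.Surjective ξ → ξ.ker ≤ Subgroup.center X → ∃ η : G →* X, ξ.comp η = π) ↔ Cfsg.HasCyclicSchurMultiplier G 1 := by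
  have hGt := hG.commutator_eq_top
  constructor
  · intro h
    refine ⟨⟨G, inferInstance, inferInstance, MonoidHom.id G,
      ⟨Function.surjective_id, by simp, by simp⟩, ?_⟩, ?_⟩
    · haveI : Subsingleton (MonoidHom.id G).ker := by rw [MonoidHom.ker_id]; infer_instance
      haveI : Subsingleton (Multiplicative (ZMod 1)) := inferInstanceAs (Subsingleton (ZMod 1))
      exact ⟨{ toFun := fun _ => 1, invFun := fun _ => 1, left_inv := fun _ => Subsingleton.elim _ _,
               right_inv := fun _ => Subsingleton.elim _ _, map_mul' := fun _ _ => Subsingleton.elim _ _ }⟩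
    intro Γ _ _ τ hτ
    have hD : commutator Γ = ⊤ := by
      rw [eq_top_iff]
      intro x _
      have h1 : τ x ∈ (commutator Γ).map τ := by
        rw [map_commutator_eq, MonoidHom.range_eq_top.2 hτ.1, ← _root_.commutator_def, hGt]
        exact Subgroup.mem_top _
      obtain ⟨y, hy, hyx⟩ := h1
      have h2 : y⁻¹ * x ∈ commutator Γ := hτ.2.2 (by
        rw [MonoidHom.mem_ker, map_mul, map_inv, hyx, inv_mul_cancel])
      have := mul_mem hy h2
      rwa [mul_inv_cancel_left] at this
    have hcen : (π.comp τ).ker ≤ Subgroup.center Γ := by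
      refine H26.le_center_of_perfect_of_comm hD ?_
      rw [Subgroup.commutator_le]
      intro x hx y _
      refine hτ.2.1 ?_
      rw [MonoidHom.mem_ker, map_commutatorElement, commutatorElement_eq_one_iff_mul_comm]
      exact (Subgroup.mem_center_iff.1 (hker hx) (τ y)).symm
    obtain ⟨η, hη⟩ := h Γ (π.comp τ) (hπ.comp hτ.1) hcen
    have hid : τ.comp η = MonoidHom.id G := MonoidHom.ext fun g =>
      H26.eq_on_commutator hker (φ := τ.comp η) (ψ := MonoidHom.id G)
        (by rw [← MonoidHom.comp_assoc, hη, MonoidHom.comp_id]) (hGt ▸ Subgroup.mem_top g)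
    have hsur := H26.surjective_of_stem hτ (π := MonoidHom.id G) Function.surjective_id hid
    refine ⟨1, fun x => ⟨1, ?_⟩⟩
    obtain ⟨g, hg⟩ := hsur x
    have h1 : g = 1 := by
      have := DFunLike.congr_fun hid g
      rw [MonoidHom.comp_apply, hg] at this
      exact this.symm.trans x.2
    exact Subtype.ext (hg.symm.trans ((congrArg η h1).trans (map_one η))).symm
  · intro h X _ ξ hξ hξc
    let Y : Subgroup (X × G) :=
      MonoidHom.eqLocus (ξ.comp (MonoidHom.fst X G)) (π.comp (MonoidHom.snd X G))
    let σ : Y →* G := (MonoidHom.snd X G).comp Y.subtype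
    have hs : Function.Surjective σ := fun g => by
      obtain ⟨x, hx⟩ := hξ (π g)
      exact ⟨⟨(x, g), hx⟩, rfl⟩
    have hσ : σ.ker ≤ Subgroup.center Y := by
      intro p hp
      have h2 : (p : X × G).2 = 1 := hp
      have h1 : (p : X × G).1 ∈ Subgroup.center X :=
        hξc (p.2.trans ((congrArg π h2).trans (map_one π)))
      rw [Subgroup.mem_center_iff]
      intro e
      apply Subtype.ext
      apply Prod.ext
      · exact Subgroup.mem_center_iff.1 h1 _
      · change (e : X × G).2 * (p : X × G).2 = (p : X × G).2 * (e : X × G).2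
        rw [h2, mul_one, one_mul]
    obtain ⟨η, hη⟩ := H26.exists_section_of_trivial hGt h σ hσ hs
    refine ⟨(MonoidHom.fst X G).comp (Y.subtype.comp η), MonoidHom.ext fun g => ?_⟩
    exact (η g).2.trans (congrArg π (DFunLike.congr_fun hη g))

end Cfsg.Agent.S3961
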