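import Cfsg.Statements.S3963
import Cfsg.Agent.H26.SchurMetacyclic
import Cfsg.Agent.H26.SchurLower

set_option autoImplicit false
open Cfsg

namespace Cfsg.Agent.S3963

/-- For every `n ≥ 1` the dicyclic (generalized quaternion) group of order `4 n` has trivial Schur multiplier. -/
theorem result (n : ℕ) [NeZero n] : Cfsg.HasCyclicSchurMultiplier (QuaternionGroup n) 1 := by
  let f : FreeGroup Bool →* QuaternionGroup n :=
    FreeGroup.lift (fun s => bif s then QuaternionGroup.a 1 else QuaternionGroup.xa 0)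
  have hn0 := NeZero.ne n
  haveI : NeZero (2 * n) := ⟨by omega⟩
  have hfa : f (.of true) = QuaternionGroup.a 1 := by simp [f]
  have hfb : f (.of false) = QuaternionGroup.xa 0 := by simp [f]
  have hf : Function.Surjective f := by
    rintro (i | i)
    · exact ⟨FreeGroup.of true ^ i.val, by rw [map_pow, hfa, QuaternionGroup.a_one_pow,
        ZMod.natCast_zmod_val]⟩
    · refine ⟨FreeGroup.of false * FreeGroup.of true ^ i.val, ?_⟩
      rw [map_mul, map_pow, hfa, hfb, QuaternionGroup.a_one_pow, ZMod.natCast_zmod_val,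
        QuaternionGroup.xa_mul_a, zero_add]
  obtain ⟨d, u, v, k, hd, hd0, hv, hmv, hru, hvu, hS, hrn'⟩ :=
    H26.metacyclic_param (m := 2 * n) (n := 2) (r := 2 * n - 1) (by omega) (by omega) (by
        rw [← ZMod.natCast_eq_natCast_iff, Nat.cast_pow, Nat.cast_sub (by omega), ZMod.natCast_self]
        simp)
  have hd' : d = 2 := by
    have h4 : d ∣ 2 * n - 1 - 1 := hd ▸ Nat.gcd_dvd_right _ _
    have h5 : d ∣ 2 * n := hd ▸ Nat.gcd_dvd_left _ _
    have h6 := Nat.dvd_sub h5 h4
    rw [show 2 * n - (2 * n - 1 - 1) = 2 by omega] at h6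
    have h7 : 2 ∣ d := hd ▸ Nat.dvd_gcd ⟨n, rfl⟩ ⟨n - 1, by omega⟩
    exact Nat.dvd_antisymm h6 h7
  subst hd'
  have hvn : v = n := by omega
  have h2 : f (.of false) ^ 2 = f (.of true) ^ (v * 1) := by
    rw [hfa, hfb, QuaternionGroup.xa_sq, QuaternionGroup.a_one_pow, Nat.mul_one, hvn]
  have h3 : f (.of false) * f (.of true) * (f (.of false))⁻¹ = f (.of true) ^ (2 * n - 1) := by
    rw [mul_inv_eq_iff_eq_mul, hfa, hfb, QuaternionGroup.a_one_pow, Nat.cast_sub (by omega),
      ZMod.natCast_self, QuaternionGroup.xa_mul_a, QuaternionGroup.a_mul_xa]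
    simp
  obtain ⟨hcyc, hup⟩ := H26.metacyclic_upper hf hv Nat.two_pos hd0 hru hvu hS (by rw [← hmv]; exact hrn')
    (by rw [hfa, QuaternionGroup.orderOf_a_one, hmv]) h2 h3
  rw [Nat.gcd_one_left, Nat.dvd_one] at hup
  exact H26.hasCyclic_of hf hup

end Cfsg.Agent.S3963
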