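import Cfsg.Statements.S3966
import Mathlib

set_option autoImplicit false
open Cfsg
open scoped commutatorElement

namespace Cfsg.Agent.S3966

/-- For even `n ≥ 2` the dicyclic group of order `4 n` is a stem extension of the dihedral group of order `2 n` with kernel of order `2`: there is a surjective homomorphism `QuaternionGroup n →* DihedralGroup n` whose kernel is central, lies in the commutator subgroup and has two elements. Together with the order of the multiplier this exhibits the dicyclic group as a Schur covering group of the dihedral group. -/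
theorem result (n : ℕ) [NeZero n] (hn : Even n) : ∃ σ : QuaternionGroup n →* DihedralGroup n, Cfsg.IsStemExtension σ ∧ Nat.card σ.ker = 2 := by
  let c : ZMod (2 * n) →+* ZMod n := ZMod.castHom (dvd_mul_left n 2) (ZMod n)
  have hc : c (n : ZMod (2 * n)) = 0 := by rw [map_natCast, ZMod.natCast_self]
  let φ : QuaternionGroup n → DihedralGroup n := fun
    | .a i => .r (c i)
    | .xa i => .sr (c i)
  let σ : QuaternionGroup n →* DihedralGroup n := MonoidHom.mk' φ (fun p q => by
    rcases p with i | i <;> rcases q with j | j <;>
      simp [φ, QuaternionGroup.a_mul_a, QuaternionGroup.a_mul_xa, QuaternionGroup.xa_mul_a,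
        QuaternionGroup.xa_mul_xa, hc])
  have hcsurj : Function.Surjective c := ZMod.castHom_surjective _
  have hn2 : NeZero (2 * n) := ⟨by have := NeZero.ne n; omega⟩
  have hne : (n : ZMod (2 * n)) ≠ 0 := by
    rw [Ne, ZMod.natCast_eq_zero_iff]
    intro h
    have := Nat.le_of_dvd (Nat.pos_of_ne_zero (NeZero.ne n)) h
    have := NeZero.ne n
    omega
  have hnn : (n : ZMod (2 * n)) + n = 0 := by
    rw [← Nat.cast_add, ← two_mul, ZMod.natCast_self]
  have hker : ∀ p, p ∈ σ.ker ↔
      p = QuaternionGroup.a 0 ∨ p = QuaternionGroup.a (n : ZMod (2 * n)) := by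
    intro p
    rw [MonoidHom.mem_ker]
    rcases p with i | i
    · constructor
      · intro h
        have h0 : c i = 0 := by
          have h' : DihedralGroup.r (c i) = DihedralGroup.r (0 : ZMod n) :=
            h.trans DihedralGroup.one_def
          exact DihedralGroup.r.inj h'
        rw [← ZMod.natCast_zmod_val i, map_natCast, ZMod.natCast_eq_zero_iff] at h0
        obtain ⟨k, hk⟩ := h0
        have hlt := ZMod.val_lt i
        have hk2 : k < 2 := by
          by_contra h2
          have : 2 * n ≤ n * k := by
            rw [Nat.mul_comm n k]; exact Nat.mul_le_mul_right n (by omega)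
          omega
        rw [← ZMod.natCast_zmod_val i]
        interval_cases k
        · left; rw [hk]; simp
        · right; rw [hk]; simp
      · rintro (h | h) <;> rw [QuaternionGroup.a.injEq] at h <;> subst h
        · change DihedralGroup.r (c 0) = 1
          rw [map_zero, ← DihedralGroup.one_def]
        · change DihedralGroup.r (c _) = 1
          rw [hc, ← DihedralGroup.one_def]
    · constructor
      · intro h
        exact absurd (h.trans DihedralGroup.one_def) (by intro h'; cases h')
      · rintro (h | h) <;> cases h
  refine ⟨σ, ⟨?_, ?_, ?_⟩, ?_⟩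
  · rintro (i | i) <;> obtain ⟨j, rfl⟩ := hcsurj i
    · exact ⟨.a j, rfl⟩
    · exact ⟨.xa j, rfl⟩
  · intro p hp
    rw [Subgroup.mem_center_iff]
    rcases (hker p).1 hp with rfl | rfl <;> intro g
    · rw [← QuaternionGroup.one_def]; simp
    · rcases g with j | j
      · simp [QuaternionGroup.a_mul_a, add_comm]
      · simp only [QuaternionGroup.xa_mul_a, QuaternionGroup.a_mul_xa, QuaternionGroup.xa.injEq]
        rw [sub_eq_add_neg, neg_eq_of_add_eq_zero_left hnn]
  · intro p hp
    rcases (hker p).1 hp with rfl | rfl
    · rw [← QuaternionGroup.one_def]; exact one_mem _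
    · obtain ⟨m, hm⟩ := hn
      have hsw : QuaternionGroup.a (m : ZMod (2 * n)) * QuaternionGroup.xa 0 =
          QuaternionGroup.a (n : ZMod (2 * n)) *
            (QuaternionGroup.xa 0 * QuaternionGroup.a (m : ZMod (2 * n))) := by
        simp only [QuaternionGroup.xa_mul_a, QuaternionGroup.a_mul_xa, QuaternionGroup.xa.injEq]
        have : (n : ZMod (2 * n)) = (m : ZMod (2 * n)) + m := by rw [← Nat.cast_add, ← hm]
        rw [this]; ring
      have heq : ⁅QuaternionGroup.a (m : ZMod (2 * n)), QuaternionGroup.xa 0⁆ =
          QuaternionGroup.a (n : ZMod (2 * n)) := by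
        rw [commutatorElement_def, hsw]; group
      rw [← heq]
      exact Subgroup.commutator_mem_commutator (Subgroup.mem_top _) (Subgroup.mem_top _)
  · have e : (σ.ker : Set (QuaternionGroup n)) =
        {QuaternionGroup.a 0, QuaternionGroup.a (n : ZMod (2 * n))} := by
      ext p; exact hker p
    rw [← SetLike.coe_sort_coe, Nat.card_coe_set_eq, e, Set.ncard_pair]
    exact fun h => hne (QuaternionGroup.a.inj h).symm

end Cfsg.Agent.S3966
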