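import Cfsg.Statements.S3965
import Cfsg.Agent.H26.SchurMetacyclic
import Cfsg.Agent.H26.SchurLower
import Cfsg.Agent.S3966

set_option autoImplicit false
open Cfsg

namespace Cfsg.Agent.S3965

/-- For even `n ≥ 2` the dihedral group of order `2 n` has Schur multiplier cyclic of order `2`. -/
theorem result (n : ℕ) [NeZero n] (hn : Even n) : Cfsg.HasCyclicSchurMultiplier (DihedralGroup n) 2 := by
  let f : FreeGroup Bool →* DihedralGroup n :=
    FreeGroup.lift (fun s => bif s then DihedralGroup.r 1 else DihedralGroup.sr 0)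
  have hfa : f (.of true) = DihedralGroup.r 1 := by simp [f]
  have hfb : f (.of false) = DihedralGroup.sr 0 := by simp [f]
  have hf : Function.Surjective f := by
    rintro (i | i)
    · exact ⟨FreeGroup.of true ^ i.val, by rw [map_pow, hfa, DihedralGroup.r_one_pow,
        ZMod.natCast_zmod_val]⟩
    · refine ⟨FreeGroup.of false * FreeGroup.of true ^ i.val, ?_⟩
      rw [map_mul, map_pow, hfa, hfb, DihedralGroup.r_one_pow, ZMod.natCast_zmod_val,
        DihedralGroup.sr_mul_r, zero_add]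
  obtain ⟨d, u, v, k, hd, hd0, hv, hmv, hru, hvu, hS, hrn'⟩ :=
    H26.metacyclic_param (m := n) (n := 2) (r := 2 * n - 1)
      (Nat.pos_of_ne_zero (NeZero.ne n)) (by have := NeZero.ne n; omega) (by
        rw [← ZMod.natCast_eq_natCast_iff, Nat.cast_pow,
          Nat.cast_sub (by have := NeZero.ne n; omega)]
        simp)
  have h2 : f (.of false) ^ 2 = f (.of true) ^ (v * 0) := by
    rw [hfb, pow_two, DihedralGroup.sr_mul_self, Nat.mul_zero, pow_zero]
  have h3 : f (.of false) * f (.of true) * (f (.of false))⁻¹ = f (.of true) ^ (2 * n - 1) := by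
    rw [hfa, hfb, DihedralGroup.inv_sr, DihedralGroup.sr_mul_r, DihedralGroup.sr_mul_sr,
      DihedralGroup.r_one_pow, Nat.cast_sub (by have := NeZero.ne n; omega)]
    simp
  obtain ⟨hcyc, hup⟩ := H26.metacyclic_upper hf hv Nat.two_pos hd0 hru hvu hS (by rw [← hmv]; exact hrn')
    (by rw [hfa, DihedralGroup.orderOf_r_one, hmv]) h2 h3
  have hd2 : Nat.card (H26.schurM f) ∣ Nat.gcd n 2 := by
    refine (hup.trans ((Nat.gcd_dvd_right _ _).trans (Nat.gcd_dvd_left _ _))).trans ?_
    refine Nat.dvd_gcd (hd ▸ Nat.gcd_dvd_left _ _) ?_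
    have h4 : d ∣ 2 * n - 1 - 1 := hd ▸ Nat.gcd_dvd_right _ _
    have h5 : d ∣ 2 * n := (hd ▸ Nat.gcd_dvd_left _ _ : d ∣ n).mul_left 2
    have h6 := Nat.dvd_sub h5 h4
    have hn0 := NeZero.ne n
    rwa [show 2 * n - (2 * n - 1 - 1) = 2 by omega] at h6
  obtain ⟨σ, hσ, hk⟩ := Cfsg.Agent.S3966.result n hn
  have hlow := H26.kerComm_card_dvd hf σ hσ.2.1 hσ.1
  rw [H26.kerComm_eq_ker_of_stem hσ, hk] at hlow
  exact H26.hasCyclic_of hf (Nat.dvd_antisymm (hd2.trans (Nat.gcd_dvd_right _ _)) hlow)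

end Cfsg.Agent.S3965
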