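import Cfsg.Statements.S3967
import Cfsg.Agent.H26.SchurMetacyclic
import Cfsg.Agent.H26.SchurLower

set_option autoImplicit false
open Cfsg

namespace Cfsg.Agent.S3967

/-- Let `m, n ≥ 1`, `r ≥ 1` with `r ^ n ≡ 1 (mod m)`, and `l` a natural number; put `d = gcd(m, r - 1)`, `t = m l / d` and `h = d · gcd(m, 1 + r + ⋯ + r^(n-1)) / m`. The group presented by generators `a, b` and relations `a ^ m = 1`, `b ^ n = a ^ t`, `b a b⁻¹ = a ^ r` (a metacyclic group of order `m n`) has Schur multiplier cyclic of order `gcd(l, h)`. -/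
theorem result (m n r l : ℕ) (hm : 0 < m) (hn : 0 < n) (hr : 0 < r) (hrn : r ^ n ≡ 1 [MOD m]) : Cfsg.HasCyclicSchurMultiplier (PresentedGroup ({FreeGroup.of true ^ m, (FreeGroup.of false) ^ n * (FreeGroup.of true ^ (m * l / Nat.gcd m (r - 1)))⁻¹, FreeGroup.of false * FreeGroup.of true * (FreeGroup.of false)⁻¹ * (FreeGroup.of true ^ r)⁻¹} : Set (FreeGroup Bool))) (Nat.gcd l (Nat.gcd m (r - 1) * Nat.gcd m (∑ i ∈ Finset.range n, r ^ i) / m)) := by
  obtain ⟨d, u, v, k, hd, hd0, hv, hmv, hru, hvu, hS, hrn'⟩ := H26.metacyclic_param hm hr hrn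
  have ht : m * l / Nat.gcd m (r - 1) = v * l := by
    rw [← hd, hmv, Nat.mul_assoc, Nat.mul_div_cancel_left _ hd0]
  have hh : Nat.gcd m (r - 1) * Nat.gcd m (∑ i ∈ Finset.range n, r ^ i) / m = Nat.gcd d k := by
    rw [← hd, hS, hmv, Nat.mul_comm d v, Nat.gcd_mul_left]
    rw [show d * (v * Nat.gcd d k) = v * d * Nat.gcd d k by ring]
    exact Nat.mul_div_cancel_left _ (Nat.mul_pos hv hd0)
  rw [ht, hh]
  subst hmv
  set rels : Set (FreeGroup Bool) := {FreeGroup.of true ^ (d * v),
    (FreeGroup.of false) ^ n * (FreeGroup.of true ^ (v * l))⁻¹,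
    FreeGroup.of false * FreeGroup.of true * (FreeGroup.of false)⁻¹ * (FreeGroup.of true ^ r)⁻¹}
    with hrels
  let f : FreeGroup Bool →* PresentedGroup rels := PresentedGroup.mk rels
  have hf : Function.Surjective f := QuotientGroup.mk'_surjective _
  have hrel : ∀ x ∈ rels, f x = 1 := fun x hx => PresentedGroup.one_of_mem hx
  have h1 : f (.of true) ^ (d * v) = 1 := by
    rw [← map_pow]; exact hrel _ (Or.inl rfl)
  have h2 : f (.of false) ^ n = f (.of true) ^ (v * l) := by
    have h := hrel _ (Or.inr (Or.inl rfl))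
    rwa [map_mul, map_inv, map_pow, map_pow, mul_inv_eq_one] at h
  have h3 : f (.of false) * f (.of true) * (f (.of false))⁻¹ = f (.of true) ^ r := by
    have h := hrel _ (Or.inr (Or.inr rfl))
    rwa [map_mul, map_mul, map_mul, map_inv, map_inv, map_pow, mul_inv_eq_one] at h
  haveI hfinite : Finite (PresentedGroup rels) := by
    let a := f (.of true)
    let b := f (.of false)
    have hpos : 0 < d * v := Nat.mul_pos hd0 hv
    have hb1 : b ^ (n * (d * v)) = 1 := by
      rw [pow_mul, h2, ← pow_mul, Nat.mul_comm, pow_mul, h1, one_pow]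
    have ha' : IsOfFinOrder a := isOfFinOrder_iff_pow_eq_one.2 ⟨_, hpos, h1⟩
    have hb' : IsOfFinOrder b :=
      isOfFinOrder_iff_pow_eq_one.2 ⟨_, Nat.mul_pos hn hpos, hb1⟩
    have hconj : ∀ j : ℕ, b ^ j * a * (b ^ j)⁻¹ = a ^ r ^ j := fun j => by
      have h4 := H26.conj_pow_formula (A := a) (B := b) (z := 1) (r := r) (one_mem _)
        (by rw [mul_one]; exact h3) j
      rwa [one_pow, mul_one] at h4
    have hgen : Subgroup.closure {a, b} = ⊤ := by
      have h5 := congrArg (Subgroup.map f) (FreeGroup.closure_range_of Bool)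
      rw [MonoidHom.map_closure, Subgroup.map_top_of_surjective _ hf] at h5
      rw [← h5]
      congr 1
      ext p
      constructor
      · rintro (rfl | rfl)
        · exact ⟨.of true, ⟨true, rfl⟩, rfl⟩
        · exact ⟨.of false, ⟨false, rfl⟩, rfl⟩
      · rintro ⟨_, ⟨t, rfl⟩, rfl⟩
        cases t
        · exact Or.inr rfl
        · exact Or.inl rfl
    have hnorm : (Subgroup.zpowers a).Normal := by
      refine ⟨fun p hp g => ?_⟩
      have hg : g ∈ Subgroup.closure {a, b} := hgen ▸ Subgroup.mem_top g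
      have hkey : ∀ x, x * a * x⁻¹ ∈ Subgroup.zpowers a →
          ∀ p ∈ Subgroup.zpowers a, x * p * x⁻¹ ∈ Subgroup.zpowers a := by
        rintro x hx _ ⟨i, rfl⟩
        rw [← conj_zpow]; exact zpow_mem hx i
      induction hg using Subgroup.closure_induction'' generalizing p with
      | one => simpa using hp
      | mem x hx =>
        rcases hx with rfl | rfl
        · exact hkey _ (by rw [mul_inv_cancel_right]; exact Subgroup.mem_zpowers a) p hp
        · exact hkey _ (by rw [h3]; exact pow_mem (Subgroup.mem_zpowers a) _) p hp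
      | inv_mem x hx =>
        rcases hx with rfl | rfl
        · exact hkey _ (by group; exact Subgroup.mem_zpowers a) p hp
        · refine hkey _ ?_ p hp
          have hN : 0 < n * (d * v) := Nat.mul_pos hn hpos
          have e : b⁻¹ = b ^ (n * (d * v) - 1) :=
            (eq_inv_of_mul_eq_one_left (by rw [← pow_succ, Nat.sub_add_cancel hN, hb1])).symm
          rw [e, hconj]
          exact pow_mem (Subgroup.mem_zpowers a) _
      | mul g₁ g₂ _ _ h₁ h₂ =>
        have : g₁ * g₂ * p * (g₁ * g₂)⁻¹ = g₁ * (g₂ * p * g₂⁻¹) * g₁⁻¹ := by group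
        rw [this]; exact h₁ _ (h₂ p hp)
    haveI := hnorm
    haveI : Finite (Subgroup.zpowers a) :=
      (finite_zpowers.2 ha').to_subtype
    haveI : Finite (Subgroup.zpowers b) :=
      (finite_zpowers.2 hb').to_subtype
    refine Finite.of_surjective
      (fun p : Subgroup.zpowers a × Subgroup.zpowers b => (p.1 : PresentedGroup rels) * p.2)
      (fun g => ?_)
    have hg : g ∈ Subgroup.zpowers a ⊔ Subgroup.zpowers b := by
      have hle : Subgroup.closure {a, b} ≤ Subgroup.zpowers a ⊔ Subgroup.zpowers b := by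
        rw [Subgroup.closure_le]
        rintro p (rfl | rfl)
        · exact Subgroup.mem_sup_left (Subgroup.mem_zpowers _)
        · exact Subgroup.mem_sup_right (Subgroup.mem_zpowers _)
      exact hle (hgen ▸ Subgroup.mem_top g)
    obtain ⟨y, hy, z, hz, rfl⟩ := Subgroup.mem_sup_of_normal_left.1 hg
    exact ⟨(⟨y, hy⟩, ⟨z, hz⟩), rfl⟩
  set g := Nat.gcd l (Nat.gcd d k) with hg
  obtain ⟨X, iX, a, b, w, hw, hwg, hbn, hai, hab', hc⟩ :=
    H26.exists_metacyclic_cover (g := g) hd0 hv hn hru hvu hS hrn'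
      ((Nat.gcd_dvd_right _ _).trans (Nat.gcd_dvd_left _ _)) (Nat.gcd_dvd_left _ _)
      ((Nat.gcd_dvd_right _ _).trans (Nat.gcd_dvd_right _ _))
  letI := iX
  haveI hWn : (Subgroup.zpowers w).Normal := ⟨fun p hp e => by
    rw [Subgroup.mem_center_iff.1 ((Subgroup.zpowers_le.2 hw) hp) e, mul_inv_cancel_right]
    exact hp⟩
  let F : PresentedGroup rels →* X ⧸ Subgroup.zpowers w :=
    PresentedGroup.toGroup (rels := rels)
      (f := fun s => bif s then QuotientGroup.mk a else QuotientGroup.mk b)
      (by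
        intro x hx
        rcases hx with rfl | rfl | rfl
        · rw [map_pow, FreeGroup.lift_apply_of, cond_true, ← QuotientGroup.mk_pow,
            QuotientGroup.eq_one_iff, ← zpow_natCast]
          exact (hai _).2 dvd_rfl
        · rw [map_mul, map_inv, map_pow, map_pow, FreeGroup.lift_apply_of,
            FreeGroup.lift_apply_of, cond_true, cond_false, ← QuotientGroup.mk_pow,
            ← QuotientGroup.mk_pow, hbn, mul_inv_cancel]
        · rw [map_mul, map_mul, map_mul, map_inv, map_inv, map_pow, FreeGroup.lift_apply_of,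
            FreeGroup.lift_apply_of, cond_true, cond_false, ← QuotientGroup.mk_pow,
            ← QuotientGroup.mk_inv, ← QuotientGroup.mk_inv, ← QuotientGroup.mk_mul,
            ← QuotientGroup.mk_mul, ← QuotientGroup.mk_mul, QuotientGroup.eq_one_iff]
          exact hab')
  have hFa : F (f (.of true)) = QuotientGroup.mk a := PresentedGroup.toGroup.of _
  have hFb : F (f (.of false)) = QuotientGroup.mk b := PresentedGroup.toGroup.of _
  have hord : orderOf (f (.of true)) = d * v := by
    refine Nat.dvd_antisymm (orderOf_dvd_of_pow_eq_one h1) (Int.natCast_dvd_natCast.1 ((hai _).1 ?_))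
    rw [zpow_natCast, ← QuotientGroup.eq_one_iff, QuotientGroup.mk_pow, ← hFa, ← map_pow,
      pow_orderOf_eq_one, map_one]
  obtain ⟨hcyc, hup⟩ :=
    H26.metacyclic_upper hf hv hn hd0 hru hvu hS hrn' hord h2 h3
  have hlow := H26.metacyclic_lower hf hw hru F hFa hFb h1 h3 hc
  rw [hwg] at hlow
  exact H26.hasCyclic_of hf (Nat.dvd_antisymm hup hlow)

end Cfsg.Agent.S3967
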