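import Cfsg.Statements.S3968
import Cfsg.Agent.H12.Integral
import Cfsg.Agent.H12.Linear
import Cfsg.Agent.H17.CharTools

set_option autoImplicit false
open Cfsg

namespace Cfsg.Agent.S3968

/-- Let `p` be a prime and `G` a finite group with a faithful irreducible complex character of degree `p` (so `G` is an irreducible linear group in `p` variables). If `p ^ 2` divides the order of `G`, then the centre of `G` is nontrivial. -/
theorem result {G : Type*} [Group G] [Finite G] (p : ℕ) (hp : p.Prime) (χ : Cfsg.IrrCharacter G) (hdeg : χ.1 1 = p) (hfaith : ∀ g : G, χ.1 g = χ.1 1 → g = 1) (hdiv : p ^ 2 ∣ Nat.card G) : Subgroup.center G ≠ ⊥ := by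
  classical
  intro hZ
  haveI := Fact.mk hp
  haveI := Fintype.ofFinite G
  obtain ⟨n, ρ, hρ, hχ⟩ := χ.2
  haveI := hρ
  have hn : n = p := by
    have h := congrFun hχ 1
    rw [Representation.char_one, hdeg, Module.finrank_fin_fun] at h
    exact_mod_cast h
  subst hn
  obtain ⟨P⟩ : Nonempty (Sylow n G) := inferInstance
  -- only the identity is scalar
  have hsc : ∀ g : G, ‖χ.1 g‖ = (n : ℝ) → g = 1 := by
    intro g h
    obtain ⟨ω, hω⟩ := H12.exists_scalar_of_norm_eq ρ g (by rw [hχ, h, Module.finrank_fin_fun])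
    have hc : g ∈ Subgroup.center G := Subgroup.mem_center_iff.2 fun x => by
      have hcomm : ρ (x * g * x⁻¹ * g⁻¹) = 1 := by
        have hgx : ρ (x * g * x⁻¹) = ρ g := by
          rw [map_mul, map_mul, hω, mul_smul_comm, smul_mul_assoc,
            show (LinearMap.id : Module.End ℂ (Fin n → ℂ)) = 1 from rfl, mul_one, ← map_mul,
            mul_inv_cancel, map_one]
        rw [map_mul, hgx, ← map_mul, mul_inv_cancel, map_one]
      have h1 := hfaith (x * g * x⁻¹ * g⁻¹) (by
        rw [← hχ, Representation.character, hcomm, Representation.char_one, LinearMap.trace_one])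
      rw [mul_inv_eq_one, mul_inv_eq_iff_eq_mul] at h1
      exact h1
    rw [hZ] at hc
    exact Subgroup.mem_bot.1 hc
  -- central elements of the Sylow subgroup have value zero
  have hz0 : ∀ z : (P : Subgroup G), z ∈ Subgroup.center (P : Subgroup G) → z ≠ 1 → χ.1 (z : G) = 0 := by
    intro z hz hz1
    have hcop : Nat.Coprime (Module.finrank ℂ (Fin n → ℂ))
        (Subgroup.centralizer ({(z : G)} : Set G)).index := by
      rw [Module.finrank_fin_fun, hp.coprime_iff_not_dvd]
      refine fun h => P.not_dvd_index (h.trans (Subgroup.index_dvd_of_le fun x hx => ?_))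
      rw [Subgroup.mem_centralizer_iff]
      intro y hy
      rw [Set.mem_singleton_iff] at hy
      subst hy
      exact congrArg Subtype.val (Subgroup.mem_center_iff.1 hz ⟨x, hx⟩).symm
    rcases H12.character_eq_zero_or_norm_eq ρ (z : G) hcop with h | h
    · rwa [hχ] at h
    · rw [hχ, Module.finrank_fin_fun] at h
      exact absurd (Subtype.ext (hsc _ h) : z = 1) hz1
  obtain ⟨k, hk⟩ := P.isPGroup'.exists_card_eq
  have hk2 : 2 ≤ k := by
    have h := P.pow_dvd_card_of_pow_dvd_card hdiv
    rw [hk] at h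
    exact (Nat.pow_dvd_pow_iff_le_right hp.one_lt).1 h
  haveI : Nontrivial (P : Subgroup G) := by
    rw [← Finite.one_lt_card_iff_nontrivial, hk]
    exact Nat.one_lt_pow (by omega) hp.one_lt
  obtain ⟨m, hm⟩ := (P.isPGroup'.to_subgroup (Subgroup.center (P : Subgroup G))).exists_card_eq
  -- the centre has order n
  have hcz : Nat.card (Subgroup.center (P : Subgroup G)) ∣ n := by
    obtain ⟨a, ha⟩ := H12.IsCharacter.classInner_nat
      (H12.IsCharacter.comp (H12.isCharacter_irr χ)
        (((P : Subgroup G).subtype).comp (Subgroup.center (P : Subgroup G)).subtype))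
      (H12.isCharacter_one (G := Subgroup.center (P : Subgroup G)))
    rw [H12.classInner_def, Finset.sum_eq_single 1] at ha
    rotate_left
    · intro z _ hz
      simp only [Function.comp_apply, MonoidHom.comp_apply, Subgroup.coe_subtype]
      rw [hz0 _ z.2 (fun e => hz (Subtype.ext e)), zero_mul]
    · intro h; exact absurd (Finset.mem_univ _) h
    simp only [Function.comp_apply, map_one, mul_one, hdeg] at ha
    refine ⟨a, ?_⟩
    have h0 : (Nat.card (Subgroup.center (P : Subgroup G)) : ℂ) ≠ 0 := Nat.cast_ne_zero.2 Nat.card_pos.ne'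
    rw [inv_mul_eq_iff_eq_mul₀ h0] at ha
    exact_mod_cast ha
  -- the restriction to P
  obtain ⟨mult, hmult⟩ := H12.IsCharacter.exists_mult (H12.IsCharacter.res (H12.isCharacter_irr χ) (P : Subgroup G))
  have happ : ∀ x : (P : Subgroup G), χ.1 x = ∑ ψ : IrrCharacter (P : Subgroup G), (mult ψ : ℂ) * (ψ : ↥(P : Subgroup G) → ℂ) x := by
    intro x
    have := congrFun hmult x
    simpa [Finset.sum_apply] using this
  by_cases hbig : ∃ ψ : IrrCharacter (P : Subgroup G), mult ψ ≠ 0 ∧ H12.degree (ψ : ↥(P : Subgroup G) → ℂ) ≠ 1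
  · obtain ⟨ψ, hψ0, hψ1⟩ := hbig
    have hdψ : n ≤ H12.degree (ψ : ↥(P : Subgroup G) → ℂ) := by
      have hd := H12.irr_degree_dvd_card ψ
      rw [hk] at hd
      obtain ⟨j, -, hj⟩ := (Nat.dvd_prime_pow hp).1 hd
      rw [hj] at hψ1 ⊢
      rcases j with _ | j
      · simp at hψ1
      · exact Nat.le_self_pow (by omega) n
    have h1 : (n : ℕ) = ∑ φ : IrrCharacter (P : Subgroup G), mult φ * H12.degree (φ : ↥(P : Subgroup G) → ℂ) := by
      have := happ 1
      simp only [OneMemClass.coe_one, hdeg, H12.irr_apply_one] at this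
      exact_mod_cast this
    rw [← Finset.add_sum_erase _ _ (Finset.mem_univ ψ)] at h1
    have hψm : mult ψ * H12.degree (ψ : ↥(P : Subgroup G) → ℂ) ≥ n :=
      le_trans hdψ (Nat.le_mul_of_pos_left _ (Nat.pos_of_ne_zero hψ0))
    have hrest : ∀ φ ∈ (Finset.univ : Finset (IrrCharacter (P : Subgroup G))).erase ψ, mult φ = 0 := by
      intro φ hφ
      have h0 : ∑ φ ∈ (Finset.univ : Finset (IrrCharacter (P : Subgroup G))).erase ψ,
          mult φ * H12.degree (φ : ↥(P : Subgroup G) → ℂ) = 0 := by omega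
      have := (Finset.sum_eq_zero_iff.1 h0) φ hφ
      exact (Nat.mul_eq_zero.1 this).resolve_right (H12.irr_degree_pos φ).ne'
    obtain ⟨z, hz, hz1⟩ : ∃ z : (P : Subgroup G), z ∈ Subgroup.center (P : Subgroup G) ∧ z ≠ 1 := by
      haveI := P.isPGroup'.center_nontrivial
      obtain ⟨z, hz⟩ := exists_ne (1 : Subgroup.center (P : Subgroup G))
      exact ⟨z, z.2, fun e => hz (Subtype.ext e)⟩
    obtain ⟨ω, hω⟩ := H17.exists_central_char ψ.2 (Subgroup.center (P : Subgroup G)) le_rfl
    have hv := hz0 z hz hz1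
    rw [happ z, Finset.sum_eq_single ψ (fun φ hφ hne => by
        rw [hrest φ (Finset.mem_erase.2 ⟨hne, hφ⟩), Nat.cast_zero, zero_mul]) (by simp)] at hv
    have he : (ψ : ↥(P : Subgroup G) → ℂ) z = (ω ⟨z, hz⟩ : ℂ) * (ψ : ↥(P : Subgroup G) → ℂ) 1 := by
      rw [← hω ⟨z, hz⟩ 1, mul_one]
    rw [he] at hv
    exact mul_ne_zero (Nat.cast_ne_zero.2 hψ0) (mul_ne_zero (Units.ne_zero _) (H12.irr_apply_one_ne_zero ψ)) hv
  · push_neg at hbig
    have habel : ∀ a b : (P : Subgroup G), a * b = b * a := by
      intro a b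
      have hval : χ.1 ((a * b * a⁻¹ * b⁻¹ : (P : Subgroup G)) : G) = χ.1 1 := by
        rw [← OneMemClass.coe_one (P : Subgroup G), happ, happ]
        refine Finset.sum_congr rfl fun ψ _ => ?_
        by_cases h0 : mult ψ = 0
        · simp [h0]
        obtain ⟨f, hf⟩ := H12.exists_monoidHom_of_apply_one_eq_one (H12.isCharacter_irr ψ)
          (by rw [H12.irr_apply_one, hbig ψ h0, Nat.cast_one])
        rw [← hf]
        simp only [map_mul, map_one, map_inv]
        rw [mul_comm (f a) (f b), mul_inv_cancel_right, mul_inv_cancel]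
      have h1 : a * b * a⁻¹ * b⁻¹ = 1 := Subtype.ext (hfaith _ hval)
      rw [mul_inv_eq_one, mul_inv_eq_iff_eq_mul] at h1
      exact h1
    rw [show Subgroup.center (P : Subgroup G) = ⊤ from
      eq_top_iff.2 fun x _ => Subgroup.mem_center_iff.2 fun y => habel y x, Subgroup.card_top, hk] at hcz
    have h := Nat.le_of_dvd hp.pos hcz
    have : n ^ 2 ≤ n ^ k := Nat.pow_le_pow_right hp.pos hk2
    nlinarith [hp.two_le]

end Cfsg.Agent.S3968
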