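import Cfsg.Statements.S3969
import Mathlib
import Cfsg.Agent.H29.FrattiniBasis

set_option autoImplicit false
open Cfsg

namespace Cfsg.Agent.S3969

/-- Let `P` be an abelian Sylow `p`-subgroup of the finite group `G`, generated by `d` elements (`d` its minimal number of generators). If the order of `G` is coprime to `(p - 1)(p ^ 2 - 1) ⋯ (p ^ d - 1)`, then `G` has a normal `p`-complement. (The classical statement needs only the largest number of cyclic factors of `P` of equal order in place of `d`; the form here follows from it.) -/
theorem result {G : Type*} [Group G] [Finite G] (p : ℕ) [Fact p.Prime] (P : Sylow p G) (hab : IsMulCommutative (P : Subgroup G)) (hcop : Nat.Coprime (Nat.card G) (∏ i ∈ Finset.Icc 1 (Group.rank (P : Subgroup G)), (p ^ i - 1))) : Cfsg.HasNormalPComplement p G := by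
  classical
  set N := Subgroup.normalizer ((P : Subgroup G) : Set G) with hN
  have hp : p.Prime := Fact.out
  obtain ⟨n, hn⟩ := P.2.exists_card_eq
  obtain ⟨r, -, hr⟩ := (Nat.dvd_prime_pow hp).mp (hn ▸ Subgroup.index_dvd_card (frattini ↥(P : Subgroup G)))
  haveI : Group.FG ↥(P : Subgroup G) := Group.fg_of_finite
  have hrd : r ≤ Group.rank ↥(P : Subgroup G) := H29.le_rank_of_index_frattini P.2 hr
  have hle : N ≤ Subgroup.centralizer ((P : Subgroup G) : Set G) := by
    let f := (P : Subgroup G).normalizerMonoidHom
    have h1 : Nat.card f.range = f.ker.index := (Subgroup.index_ker f).symm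
    have hker : f.ker.index = 1 := by
      by_contra hne
      obtain ⟨q, hq, hqd⟩ := Nat.exists_prime_and_dvd hne
      have hdiv : f.ker.index ∣ Nat.card G :=
        (Subgroup.index_dvd_card f.ker).trans (Subgroup.card_subgroup_dvd_card N)
      have haut := (h1 ▸ Subgroup.card_subgroup_dvd_card f.range).trans
        (H29.card_automorphisms_dvd hn hr)
      by_cases hqp : q = p
      · -- `P` is abelian, so it lies in the kernel
        subst hqp
        have hPker : (P : Subgroup G).subgroupOf N ≤ f.ker := by
          intro x hx
          rw [Subgroup.normalizerMonoidHom_ker, Subgroup.mem_subgroupOf, Subgroup.mem_centralizer_iff]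
          intro y hy
          exact congrArg Subtype.val (mul_comm' (⟨y, hy⟩ : (P : Subgroup G)) ⟨_, Subgroup.mem_subgroupOf.mp hx⟩)
        have hnd : ¬ q ∣ ((P : Subgroup G).subgroupOf N).index := by
          intro h
          exact P.not_dvd_index (h.trans (Subgroup.relIndex_dvd_index_of_le Subgroup.le_normalizer))
        exact hnd (hqd.trans (Subgroup.index_dvd_of_le hPker))
      · rcases hq.dvd_mul.mp (hqd.trans haut) with h | h
        · exact hqp ((Nat.prime_dvd_prime_iff_eq hq hp).mp (hq.dvd_of_dvd_pow h))
        · obtain ⟨i, hi, hqi⟩ := (Prime.dvd_finsetProd_iff hq.prime _).mp h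
          rw [Finset.mem_range] at hi
          have hfac : p ^ r - p ^ i = p ^ i * (p ^ (r - i) - 1) := by
            rw [Nat.mul_sub_one, ← pow_add, Nat.add_sub_cancel' hi.le]
          rw [hfac] at hqi
          rcases hq.dvd_mul.mp hqi with h' | h'
          · exact hqp ((Nat.prime_dvd_prime_iff_eq hq hp).mp (hq.dvd_of_dvd_pow h'))
          · refine Nat.not_coprime_of_dvd_of_dvd hq.one_lt (hqd.trans hdiv) (h'.trans ?_) hcop
            exact Finset.dvd_prod_of_mem (fun j => p ^ j - 1)
              (Finset.mem_Icc.mpr ⟨by omega, by omega⟩)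
    intro x hx
    have hxk : (⟨x, hx⟩ : N) ∈ f.ker := by rw [Subgroup.index_eq_one.mp hker]; exact Subgroup.mem_top _
    rw [Subgroup.normalizerMonoidHom_ker] at hxk
    exact hxk
  exact ⟨P, (MonoidHom.transferSylow P hle).ker, inferInstance,
    MonoidHom.ker_transferSylow_isComplement' P hle⟩

end Cfsg.Agent.S3969
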