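import Cfsg.Statements.S3970
import Cfsg.Agent.H5.Frobenius

set_option autoImplicit false
open Cfsg

namespace Cfsg.Agent.S3970

universe u

theorem card_closure_le {A : Type*} [CommGroup A] [Finite A] {p : ℕ} (hp : p.Prime)
    (h : ∀ x : A, x ^ p = 1) (s : Finset A) : Nat.card (Subgroup.closure (s : Set A)) ≤ p ^ s.card := by
  classical
  induction s using Finset.induction with
  | empty => simp
  | @insert a s ha ih =>
    rw [Finset.coe_insert, Set.insert_eq, Subgroup.closure_union, ← Subgroup.zpowers_eq_closure,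
      Finset.card_insert_of_notMem ha, pow_succ']
    refine le_trans ?_ (Nat.mul_le_mul (Nat.le_of_dvd hp.pos (orderOf_dvd_of_pow_eq_one (h a))) ih)
    rw [← Nat.card_zpowers, ← Nat.card_prod]
    refine Nat.card_le_card_of_surjective (fun x => (⟨x.1.1 * x.2.1,
      Subgroup.mul_mem_sup x.1.2 x.2.2⟩ : ↥(Subgroup.zpowers a ⊔ Subgroup.closure (s : Set A)))) ?_
    rintro ⟨x, hx⟩
    obtain ⟨y, hy, z, hz, rfl⟩ := Subgroup.mem_sup.1 hx
    exact ⟨(⟨y, hy⟩, ⟨z, hz⟩), rfl⟩

/-- Elements killed by `p` in an abelian group of rank at most two. -/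
theorem card_omega_le {A : Type*} [CommGroup A] [Finite A] {p : ℕ} (hp : p.Prime)
    (hr : Group.rank A ≤ 2) : Nat.card (powMonoidHom p : A →* A).ker ≤ p ^ 2 := by
  classical
  set f : A →* A := powMonoidHom p
  have h1 : Nat.card f.ker = Nat.card (A ⧸ f.range) := by
    rw [← Subgroup.index_eq_card]
    have e1 := Subgroup.card_mul_index f.ker
    have e2 := Subgroup.card_mul_index f.range
    rw [Subgroup.index_ker] at e1
    rw [← e1, mul_comm (Nat.card f.ker)] at e2
    exact (Nat.eq_of_mul_eq_mul_left Nat.card_pos e2).symm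
  rw [h1]
  obtain ⟨S, hS1, hS2⟩ := Group.rank_spec A
  have htop : Subgroup.closure ((S.image (QuotientGroup.mk' f.range) : Finset (A ⧸ f.range)) : Set (A ⧸ f.range)) = ⊤ := by
    rw [Finset.coe_image, ← MonoidHom.map_closure, hS2,
      Subgroup.map_top_of_surjective _ (QuotientGroup.mk'_surjective _)]
  have hq : ∀ x : A ⧸ f.range, x ^ p = 1 := by
    intro x
    obtain ⟨a, rfl⟩ := QuotientGroup.mk_surjective x
    rw [← QuotientGroup.mk_pow, QuotientGroup.eq_one_iff]
    exact ⟨a, rfl⟩
  have := card_closure_le hp hq (S.image (QuotientGroup.mk' f.range))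
  rw [htop, Subgroup.card_top] at this
  exact this.trans (Nat.pow_le_pow_right hp.pos (Finset.card_image_le.trans (hS1.le.trans hr)))

theorem centralizes {G : Type u} [Group G] [Finite G] {p : ℕ} [Fact p.Prime]
    (hmin : ∀ q : ℕ, q.Prime → q ∣ Nat.card G → p ≤ q) (P : Sylow p G)
    (hab : IsMulCommutative (P : Subgroup G)) (hr : Group.rank (P : Subgroup G) ≤ 2)
    (h12 : ¬ 12 ∣ Nat.card G) (v : G)
    (hv : v ∈ Subgroup.normalizer ((P : Subgroup G) : Set G)) {q k : ℕ} [Fact q.Prime]
    (hq : q ≠ p) (hvo : orderOf v = q ^ k) :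
    ∀ x ∈ (P : Subgroup G), v * x = x * v := by
  have hp : p.Prime := Fact.out
  rcases Nat.eq_zero_or_pos k with hk0 | hk0
  · rw [hk0, pow_zero, orderOf_eq_one_iff] at hvo
    intro x _; rw [hvo, one_mul, mul_one]
  have hqd : q ∣ Nat.card G := (dvd_pow_self q hk0.ne').trans (hvo ▸ orderOf_dvd_natCard v)
  have hpq : p < q := lt_of_le_of_ne (hmin q Fact.out hqd) (Ne.symm hq)
  let _ : CommGroup (P : Subgroup G) :=
    { (inferInstance : Group (P : Subgroup G)) with mul_comm := hab.is_comm.comm }
  set Ω := (powMonoidHom p : (P : Subgroup G) →* (P : Subgroup G)).ker with hΩ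
  have hΩle : Nat.card Ω ≤ p ^ 2 := card_omega_le hp hr
  have hmap : ∀ w ∈ Subgroup.zpowers v, ∀ x : Ω,
      w * ((x : (P : Subgroup G)) : G) * w⁻¹ ∈ (P : Subgroup G) ∧
        (w * ((x : (P : Subgroup G)) : G) * w⁻¹) ^ p = 1 := by
    intro w hw x
    refine ⟨(Subgroup.mem_normalizer_iff.1 ((Subgroup.zpowers_le.2 hv) hw) _).1 (x : (P : Subgroup G)).2, ?_⟩
    have h1 : ((x : (P : Subgroup G)) : G) ^ p = 1 :=
      congrArg Subtype.val (show (x : (P : Subgroup G)) ^ p = 1 from x.2)
    rw [conj_pow, h1, mul_one, mul_inv_cancel]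
  let _ : MulAction (Subgroup.zpowers v) Ω :=
    { smul := fun w x => ⟨⟨(w : G) * ((x : (P : Subgroup G)) : G) * (w : G)⁻¹, (hmap w w.2 x).1⟩,
        Subtype.ext (hmap w w.2 x).2⟩
      one_smul := fun x => by
        apply Subtype.ext; apply Subtype.ext
        show (1 : G) * _ * (1 : G)⁻¹ = _
        simp
      mul_smul := fun a b x => by
        apply Subtype.ext; apply Subtype.ext
        show ((a : G) * b) * _ * ((a : G) * b)⁻¹ = (a : G) * ((b : G) * _ * (b : G)⁻¹) * (a : G)⁻¹
        group }
  have hact : ∀ (w : Subgroup.zpowers v) (x : Ω),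
      (((w • x : Ω) : (P : Subgroup G)) : G) = (w : G) * ((x : (P : Subgroup G)) : G) * (w : G)⁻¹ :=
    fun _ _ => rfl
  -- fixed points
  let F : Subgroup Ω :=
    { carrier := MulAction.fixedPoints (Subgroup.zpowers v) Ω
      one_mem' := fun w => by
        apply Subtype.ext; apply Subtype.ext
        rw [hact]; simp
      mul_mem' := by
        intro a b ha hb w
        apply Subtype.ext; apply Subtype.ext
        rw [hact]
        have e1 := congrArg (fun y : Ω => ((y : (P : Subgroup G)) : G)) (ha w)
        have e2 := congrArg (fun y : Ω => ((y : (P : Subgroup G)) : G)) (hb w)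
        simp only [hact] at e1 e2
        calc (w : G) * (((a * b : Ω) : (P : Subgroup G)) : G) * (w : G)⁻¹
            = ((w : G) * ((a : (P : Subgroup G)) : G) * (w : G)⁻¹) *
              ((w : G) * ((b : (P : Subgroup G)) : G) * (w : G)⁻¹) := by push_cast; group
          _ = _ := by rw [e1, e2]; rfl
      inv_mem' := by
        intro a ha w
        apply Subtype.ext; apply Subtype.ext
        rw [hact]
        have e1 := congrArg (fun y : Ω => ((y : (P : Subgroup G)) : G)) (ha w)
        simp only [hact] at e1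
        calc (w : G) * (((a⁻¹ : Ω) : (P : Subgroup G)) : G) * (w : G)⁻¹
            = ((w : G) * ((a : (P : Subgroup G)) : G) * (w : G)⁻¹)⁻¹ := by push_cast; group
          _ = _ := by rw [e1]; rfl }
  have hmod : Nat.card Ω ≡ Nat.card F [MOD q] :=
    (IsPGroup.of_card (p := q) (n := k) (by rw [Nat.card_zpowers, hvo]) :
      IsPGroup q (Subgroup.zpowers v)).card_modEq_card_fixedPoints Ω
  have hΩp : IsPGroup p Ω := P.isPGroup'.to_subgroup _
  have hall : Nat.card F = Nat.card Ω := by
    obtain ⟨a, ha⟩ := hΩp.exists_card_eq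
    obtain ⟨b, hb⟩ := (hΩp.to_subgroup F).exists_card_eq
    rw [ha] at hΩle hmod
    rw [hb] at hmod
    have ha2 : a ≤ 2 := (Nat.pow_le_pow_iff_right hp.one_lt).1 hΩle
    have hba : b ≤ a := (Nat.pow_le_pow_iff_right hp.one_lt).1 (by
      rw [← ha, ← hb]; exact Nat.le_of_dvd Nat.card_pos F.card_subgroup_dvd_card)
    rw [ha, hb]
    by_contra hne
    have hd := (Nat.modEq_iff_dvd' (Nat.pow_le_pow_right hp.pos hba)).1 hmod.symm
    have hp2 := hp.two_le
    have hqp : Nat.Coprime q p := (Nat.coprime_primes Fact.out hp).2 hq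
    have hab' : b ≠ a := fun e => hne (by rw [e])
    rcases (show (a = 1 ∧ b = 0) ∨ (a = 2 ∧ b = 0) ∨ (a = 2 ∧ b = 1) by omega) with
      ⟨rfl, rfl⟩ | ⟨rfl, rfl⟩ | ⟨rfl, rfl⟩ <;> simp only [pow_zero, pow_one] at hd
    · have := Nat.le_of_dvd (by omega) hd; omega
    · rw [show p ^ 2 - 1 = (p + 1) * (p - 1) from Nat.sq_sub_sq p 1] at hd
      rcases (Nat.Prime.dvd_mul Fact.out).1 hd with hd' | hd'
      · have hq' : q = p + 1 := le_antisymm (Nat.le_of_dvd (by omega) hd') (by omega)
        have hp2' : p = 2 := by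
          rcases hp.eq_two_or_odd with e | e
          · exact e
          · rcases (Fact.out : q.Prime).eq_two_or_odd with e' | e' <;> omega
        subst hp2'
        apply h12
        have h4 : 4 ∣ Nat.card G := by
          refine (dvd_trans ?_ (P : Subgroup G).card_subgroup_dvd_card)
          refine (dvd_trans ?_ (Subgroup.card_subgroup_dvd_card Ω))
          rw [ha]; norm_num
        have h3 : 3 ∣ Nat.card G := by rw [hq'] at hqd; exact hqd
        exact Nat.Coprime.mul_dvd_of_dvd_of_dvd (by norm_num : Nat.Coprime 4 3) h4 h3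
      · have := Nat.le_of_dvd (by omega) hd'; omega
    · rw [pow_two, show p * p - p = p * (p - 1) by rw [Nat.mul_sub, mul_one]] at hd
      have := Nat.le_of_dvd (by omega) (hqp.dvd_of_dvd_mul_left hd)
      omega
  have hfixΩ : ∀ x : G, x ∈ (P : Subgroup G) → x ^ p = 1 → v * x = x * v := by
    intro x hx hxp
    have hmem : (⟨⟨x, hx⟩, Subtype.ext hxp⟩ : Ω) ∈ F := by
      rw [Subgroup.eq_top_of_card_eq F hall]; exact Subgroup.mem_top _
    have e := congrArg (fun y : Ω => ((y : (P : Subgroup G)) : G))
      (hmem ⟨v, Subgroup.mem_zpowers v⟩)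
    simp only [hact] at e
    exact mul_inv_eq_iff_eq_mul.1 e
  have key : ∀ (m : ℕ) (x : G), x ∈ (P : Subgroup G) → x ^ p ^ m = 1 → v * x = x * v := by
    intro m
    induction m with
    | zero => intro x _ h; rw [pow_zero, pow_one] at h; rw [h, one_mul, mul_one]
    | succ m ih =>
      intro x hx hxp
      have hxp' : v * x ^ p = x ^ p * v :=
        ih (x ^ p) ((P : Subgroup G).pow_mem hx p) (by rw [← pow_mul, ← pow_succ', hxp])
      have hvx : v * x * v⁻¹ ∈ (P : Subgroup G) := (Subgroup.mem_normalizer_iff.1 hv x).1 hx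
      set c := x⁻¹ * (v * x * v⁻¹) with hc
      have hcP : c ∈ (P : Subgroup G) := mul_mem (inv_mem hx) hvx
      have hcp : c ^ p = 1 := by
        have hcomm : Commute x⁻¹ (v * x * v⁻¹) := congrArg Subtype.val
          (hab.is_comm.comm (⟨x⁻¹, inv_mem hx⟩ : (P : Subgroup G)) ⟨_, hvx⟩)
        rw [hc, hcomm.mul_pow, conj_pow, inv_pow, hxp', mul_inv_cancel_right, inv_mul_cancel]
      have hvc : Commute v c := hfixΩ c hcP hcp
      have hiter : ∀ j : ℕ, v ^ j * x * (v ^ j)⁻¹ = x * c ^ j := by
        intro j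
        induction j with
        | zero => simp
        | succ j ihj =>
          calc v ^ (j + 1) * x * (v ^ (j + 1))⁻¹ = v * (v ^ j * x * (v ^ j)⁻¹) * v⁻¹ := by
                rw [pow_succ']; group
            _ = v * x * (c ^ j * v⁻¹) := by rw [ihj]; group
            _ = v * x * (v⁻¹ * c ^ j) := by rw [((hvc.pow_right j).inv_left).eq]
            _ = x * c ^ (j + 1) := by
              rw [← mul_assoc, show v * x * v⁻¹ = x * c by rw [hc]; group, mul_assoc, pow_succ']
      have h1 := hiter (orderOf v)
      rw [pow_orderOf_eq_one, one_mul, inv_one, mul_one, left_eq_mul] at h1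
      have hc1 : c = 1 := orderOf_eq_one_iff.1 (Nat.eq_one_of_dvd_coprimes
        (hvo ▸ Nat.Coprime.pow_left k ((Nat.coprime_primes Fact.out hp).2 hq))
        (orderOf_dvd_of_pow_eq_one h1) (orderOf_dvd_of_pow_eq_one hcp))
      rw [hc, inv_mul_eq_one] at hc1
      exact mul_inv_eq_iff_eq_mul.1 hc1.symm
  intro x hx
  obtain ⟨m, hm⟩ := P.isPGroup' ⟨x, hx⟩
  exact key m x hx (congrArg Subtype.val hm)

theorem aux : ∀ (n : ℕ) (G : Type u) [Group G] [Finite G], Nat.card G ≤ n →
    (∀ p : ℕ, p.Prime → p ∣ Nat.card G → (∃ q : ℕ, q.Prime ∧ q ∣ Nat.card G ∧ p < q) →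
      ∀ P : Sylow p G, IsMulCommutative (P : Subgroup G) ∧ Group.rank (P : Subgroup G) ≤ 2) →
    ¬ 12 ∣ Nat.card G → Group.IsSolvable G := by
  intro n
  induction n with
  | zero => intro G _ _ h; exact absurd h (by have := Nat.card_pos (α := G); omega)
  | succ n ih =>
  intro G _ _ hn h h12
  by_cases h1 : Nat.card G = 1
  · have : Subsingleton G := (Nat.card_eq_one_iff_unique.1 h1).1
    infer_instance
  set p := (Nat.card G).minFac with hpdef
  have hp : p.Prime := Nat.minFac_prime h1
  have hpd : p ∣ Nat.card G := Nat.minFac_dvd _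
  have : Fact p.Prime := ⟨hp⟩
  have hmin : ∀ q : ℕ, q.Prime → q ∣ Nat.card G → p ≤ q := fun q hq hqd =>
    Nat.minFac_le_of_dvd hq.two_le hqd
  by_cases hmax : ∃ q : ℕ, q.Prime ∧ q ∣ Nat.card G ∧ p < q
  · obtain ⟨P⟩ : Nonempty (Sylow p G) := inferInstance
    obtain ⟨hab, hr⟩ := h p hp hpd hmax P
    have hN : Subgroup.normalizer ((P : Subgroup G) : Set G) ≤
        Subgroup.centralizer ((P : Subgroup G) : Set G) := by
      intro w hw
      refine Subgroup.mem_centralizer_iff.2 fun x hx => ?_
      set C := Subgroup.centralizer ({x} : Set G) ⊓ Subgroup.zpowers w with hC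
      suffices hCw : Nat.card (Subgroup.zpowers w) ∣ Nat.card C by
        have e := Subgroup.eq_of_le_of_card_ge (inf_le_right : C ≤ Subgroup.zpowers w)
          (Nat.le_of_dvd Nat.card_pos hCw)
        exact Subgroup.mem_centralizer_iff.1 (e.ge (Subgroup.mem_zpowers w)).1 x rfl
      rw [Nat.card_zpowers, ← Nat.factorization_prime_le_iff_dvd (orderOf_pos w).ne' Nat.card_pos.ne']
      intro r hr'
      have : Fact r.Prime := ⟨hr'⟩
      set v := w ^ (orderOf w / r ^ (orderOf w).factorization r) with hvdef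
      have hvo : orderOf v = r ^ (orderOf w).factorization r :=
        orderOf_pow_orderOf_div (orderOf_pos w).ne' (Nat.ordProj_dvd _ _)
      have hvn := (Subgroup.zpowers_le.2 hw) (Subgroup.npow_mem_zpowers w _ : v ∈ Subgroup.zpowers w)
      have hvx : x * v = v * x := by
        by_cases hrp : r = p
        · have hvP : v ∈ (P : Subgroup G) := by
            subst hrp
            exact ((IsPGroup.inf_normalizer_sylow (IsPGroup.of_card (n := (orderOf w).factorization p)
              (by rw [Nat.card_zpowers, hvo])) P).le ⟨Subgroup.mem_zpowers v, hvn⟩).2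
          exact congrArg Subtype.val (hab.is_comm.comm (⟨x, hx⟩ : (P : Subgroup G)) ⟨v, hvP⟩)
        · exact (centralizes hmin P hab hr h12 v hvn hrp hvo x hx).symm
      refine (hr'.pow_dvd_iff_le_factorization Nat.card_pos.ne').1 (hvo ▸ ?_)
      exact Subgroup.orderOf_dvd_natCard C ⟨Subgroup.mem_centralizer_iff.2 fun y hy => by
        rw [Set.mem_singleton_iff.1 hy]; exact hvx, Subgroup.npow_mem_zpowers w _⟩
    set K := (MonoidHom.transferSylow P hN).ker
    have hcompl := MonoidHom.ker_transferSylow_isComplement' P hN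
    have hKnd : ¬ p ∣ Nat.card K := MonoidHom.not_dvd_card_ker_transferSylow P hN
    have hKsol : Group.IsSolvable K := by
      refine ih K ?_ ?_ (fun hd => h12 (hd.trans K.card_subgroup_dvd_card))
      · have e := hcompl.card_mul_card
        have h2 : 1 < Nat.card (P : Subgroup G) :=
          (Subgroup.one_lt_card_iff_ne_bot _).2 (P.ne_bot_of_dvd_card hpd)
        have : 0 < Nat.card K := Nat.card_pos
        nlinarith
      · intro r hr' hrd hex R
        have : Fact r.Prime := ⟨hr'⟩
        have hrp : r ≠ p := fun e => hKnd (e ▸ hrd)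
        obtain ⟨R', hR'⟩ := (R.isPGroup'.map K.subtype).exists_le_sylow
        have heq : (R : Subgroup K).map K.subtype = (R' : Subgroup G) := by
          refine Subgroup.eq_of_le_of_card_ge hR' (le_of_eq ?_)
          rw [Subgroup.card_map_of_injective K.subtype_injective, R.card_eq_multiplicity,
            R'.card_eq_multiplicity, ← hcompl.card_mul_card,
            Nat.factorization_mul Nat.card_pos.ne' Nat.card_pos.ne', Finsupp.add_apply]
          have h0 : (Nat.card (P : Subgroup G)).factorization r = 0 := by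
            obtain ⟨j, hj⟩ := P.isPGroup'.exists_card_eq
            rw [hj, Nat.Prime.factorization_pow hp, Finsupp.single_eq_of_ne hrp]
          rw [h0, add_zero]
        obtain ⟨q, hq, hqd, hrq⟩ := hex
        obtain ⟨hab', hr2⟩ := h r hr' (hrd.trans K.card_subgroup_dvd_card)
          ⟨q, hq, hqd.trans K.card_subgroup_dvd_card, hrq⟩ R'
        let e : (R : Subgroup K) ≃* (R' : Subgroup G) :=
          ((R : Subgroup K).equivMapOfInjective K.subtype K.subtype_injective).trans
            (MulEquiv.subgroupCongr heq)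
        refine ⟨⟨⟨fun a b => e.injective ?_⟩⟩, ?_⟩
        · rw [map_mul, map_mul]; exact hab'.is_comm.comm _ _
        · exact le_trans (Group.rank_le_of_surjective e.symm.toMonoidHom e.symm.surjective) hr2
    have : Group.IsSolvable (P : Subgroup G) := by
      have := P.isPGroup'.isNilpotent
      infer_instance
    exact Group.isSolvable_of_ker_le_range K.subtype (MonoidHom.transferSylow P hN)
      (by rw [Subgroup.range_subtype])
  · push Not at hmax
    have hpg : IsPGroup p G := IsPGroup.of_card (n := (Nat.card G).primeFactorsList.length)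
      (Nat.eq_prime_pow_of_unique_prime_dvd Nat.card_pos.ne'
        fun {q} hq hqd => le_antisymm (hmax q hq hqd) (hmin q hq hqd))
    have := hpg.isNilpotent
    infer_instance

/-- Let `G` be a finite group such that for every prime `p` dividing its order, other than the largest such prime, the Sylow `p`-subgroups are abelian and generated by at most two elements, and suppose `12` does not divide the order of `G`. Then `G` is solvable. In particular a group of cube-free order not divisible by `12` is solvable. -/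
theorem result {G : Type*} [Group G] [Finite G] (h : ∀ p : ℕ, p.Prime → p ∣ Nat.card G → (∃ q : ℕ, q.Prime ∧ q ∣ Nat.card G ∧ p < q) → ∀ P : Sylow p G, IsMulCommutative (P : Subgroup G) ∧ Group.rank (P : Subgroup G) ≤ 2) (h12 : ¬ 12 ∣ Nat.card G) : Group.IsSolvable G :=
  aux (Nat.card G) G le_rfl h h12

end Cfsg.Agent.S3970
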