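import Cfsg.Statements.S3976
import Mathlib
import Cfsg.Agent.H35.CountPSubgroups

set_option autoImplicit false
set_option linter.all false
open Cfsg

namespace Cfsg.Agent.S3976

/-- Let `p` be a prime and `G` a group of order `p ^ m`. For every `s ≤ m` the number of normal subgroups of `G` of order `p ^ s` is congruent to `1` modulo `p`. -/
theorem result {G : Type*} [Group G] [Finite G] (p m s : ℕ) (hp : p.Prime) (hG : Nat.card G = p ^ m) (hs : s ≤ m) : Nat.card {H : Subgroup G // H.Normal ∧ Nat.card H = p ^ s} ≡ 1 [MOD p] := by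
  haveI := Fact.mk hp
  have hpg : IsPGroup p G := IsPGroup.of_card hG
  let X := {H : Subgroup G // Nat.card H = p ^ s}
  letI act : MulAction G X :=
    { smul := fun g H => ⟨H.1.map (MulAut.conj g).toMonoidHom, (Subgroup.card_map_of_injective (MulAut.conj g).injective).trans H.2⟩
      one_smul := fun H => Subtype.ext (show H.1.map _ = H.1 by ext x; simp)
      mul_smul := fun g h H => Subtype.ext (show H.1.map _ = (H.1.map _).map _ by rw [Subgroup.map_map]; congr 1; ext x; simp) }
  have h1 := hpg.card_modEq_card_fixedPoints X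
  have h2 := H35.card_subgroups_prime_pow_modEq_one G p s hp (hG ▸ pow_dvd_pow p hs)
  have e : {H : Subgroup G // H.Normal ∧ Nat.card H = p ^ s} ≃ MulAction.fixedPoints G X :=
    { toFun := fun H => ⟨⟨H.1, H.2.2⟩, fun g => Subtype.ext (@Subgroup.Normal.map_conj_eq G _ H.1 H.2.1 g)⟩
      invFun := fun H => ⟨H.1.1, ⟨fun x hx g => by
        have h3 : H.1.1.map (MulAut.conj g).toMonoidHom = H.1.1 := congrArg Subtype.val (H.2 g)
        rw [← h3]
        exact ⟨x, hx, rfl⟩⟩, H.1.2⟩
      left_inv := fun H => rfl
      right_inv := fun H => rfl }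
  rw [Nat.card_congr e]
  exact h1.symm.trans h2

end Cfsg.Agent.S3976
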