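import Cfsg.Statements.S3977
import Cfsg.Agent.H30.SelfCentralizing

set_option autoImplicit false
open Cfsg

namespace Cfsg.Agent.S3977

/-- Let `p` be a prime and `G` a group of order `p ^ m` which has exactly one subgroup of order `p ^ s`, where `1 ≤ s < m`, and where `s ≥ 2` if `p = 2`. Then `G` is cyclic. (For `p = 2` and `s = 1` the generalized quaternion groups also occur; that case is the classical criterion for a unique involution.) -/
theorem result {G : Type*} [Group G] [Finite G] (p m s : ℕ) (hp : p.Prime) (hG : Nat.card G = p ^ m) (hs : 1 ≤ s) (hsm : s < m) (h2 : p ≠ 2 ∨ 2 ≤ s) (huniq : ∀ H K : Subgroup G, Nat.card H = p ^ s → Nat.card K = p ^ s → H = K) : IsCyclic G := by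
  haveI : Fact p.Prime := ⟨hp⟩
  have hP : IsPGroup p G := IsPGroup.of_card hG
  suffices ∀ k, ∀ K : Subgroup G, Nat.card K = p ^ k → s < k → IsCyclic K by
    have h := this m ⊤ (by rw [Subgroup.card_top]; exact hG) hsm
    exact isCyclic_of_surjective _ (Subgroup.topEquiv (G := G)).surjective
  intro k
  induction k using Nat.strong_induction_on with
  | _ k ih =>
    intro K hK hsk
    have hPK : IsPGroup p K := hP.to_subgroup K
    haveI := hPK.isNilpotent
    have hidx : ∀ M : Subgroup K, IsCoatom M → Nat.card M = p ^ (k - 1) ∧ M.index = p := by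
      intro M hM
      have h1 := M.card_mul_index
      have hi : M.index = p := H6.index_eq_prime_of_isCoatom hPK hM
      rw [hi, hK, show k = k - 1 + 1 by omega, pow_succ] at h1
      exact ⟨Nat.eq_of_mul_eq_mul_right hp.pos h1, hi⟩
    by_cases huM : ∀ M₁ M₂ : Subgroup K, IsCoatom M₁ → IsCoatom M₂ → M₁ = M₂
    · -- a unique maximal subgroup
      rcases eq_top_or_exists_le_coatom (⊥ : Subgroup K) with h | ⟨M, hM, -⟩
      · exfalso
        have := congrArg (fun S : Subgroup K => Nat.card S) h
        simp only [Subgroup.card_bot, Subgroup.card_top, hK] at this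
        have := Nat.one_lt_pow (show k ≠ 0 by omega) hp.one_lt
        omega
      · obtain ⟨g, hg⟩ : ∃ g, g ∉ M := by
          by_contra hcon
          push Not at hcon
          exact hM.1 ((Subgroup.eq_top_iff' M).2 hcon)
        refine isCyclic_iff_exists_zpowers_eq_top.2 ⟨g, ?_⟩
        rcases eq_top_or_exists_le_coatom (Subgroup.zpowers g) with h | ⟨M', hM', hle⟩
        · exact h
        · exact absurd (huM M' M hM' hM ▸ hle (Subgroup.mem_zpowers g)) hg
    push Not at huM
    obtain ⟨M₁, M₂, hM₁, hM₂, hne⟩ := huM
    have hk1 : s + 1 < k := by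
      by_contra hlt
      have hk : k - 1 = s := by omega
      apply hne
      apply Subgroup.map_injective K.subtype_injective
      apply huniq
      · rw [Subgroup.card_map_of_injective K.subtype_injective, (hidx _ hM₁).1, hk]
      · rw [Subgroup.card_map_of_injective K.subtype_injective, (hidx _ hM₂).1, hk]
    have hcyc : ∀ M : Subgroup K, IsCoatom M → IsCyclic M := by
      intro M hM
      have h1 := ih (k - 1) (by omega) (M.map K.subtype)
        (by rw [Subgroup.card_map_of_injective K.subtype_injective, (hidx _ hM).1]) (by omega)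
      exact isCyclic_of_surjective _ (Subgroup.equivMapOfInjective M K.subtype K.subtype_injective).symm.surjective
    exfalso
    rcases H30.cyclic_or_normal_square_or_invCyclic hPK with hc | ⟨E, -, -, hEp, hEc⟩ | ⟨hp2, hinv⟩
    · -- cyclic groups have one maximal subgroup
      haveI := hc
      obtain ⟨g, hg⟩ := IsCyclic.exists_generator (α := K)
      apply hne
      have hmem : ∀ M : Subgroup K, IsCoatom M → M = Subgroup.zpowers (g ^ p) := by
        intro M hM
        haveI : M.Normal := Subgroup.NormalizerCondition.normal_of_coatom _ Group.normalizerCondition_of_isNilpotent hM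
        refine (Subgroup.eq_of_le_of_card_ge (Subgroup.zpowers_le.2 ?_) ?_).symm
        · exact (hidx _ hM).2 ▸ M.pow_index_mem g
        · rw [Nat.card_zpowers, orderOf_pow, orderOf_eq_card_of_forall_mem_zpowers hg, hK,
            Nat.gcd_eq_right (dvd_pow_self p (by omega)), (hidx _ hM).1]
          rw [show k = k - 1 + 1 by omega, pow_succ, Nat.mul_div_cancel _ hp.pos, Nat.add_sub_cancel]
      rw [hmem _ hM₁, hmem _ hM₂]
    · rcases eq_top_or_exists_le_coatom E with h | ⟨M, hM, hle⟩
      · rw [h, Subgroup.card_top, hK] at hEc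
        have := Nat.pow_right_injective hp.two_le hEc
        omega
      · haveI := hcyc M hM
        haveI : IsCyclic E := isCyclic_of_injective (Subgroup.inclusion hle) (Subgroup.inclusion_injective hle)
        obtain ⟨g, hg⟩ := IsCyclic.exists_generator (α := E)
        have h1 : orderOf g = p ^ 2 := by rw [orderOf_eq_card_of_forall_mem_zpowers hg, hEc]
        have h2 : g ^ p = 1 := Subtype.ext (by simpa using hEp g g.2)
        have h3 := Nat.le_of_dvd hp.pos (h1 ▸ orderOf_dvd_of_pow_eq_one h2)
        have := hp.two_le
        nlinarith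
    · subst hp2
      have hs2 : 2 ≤ s := h2.resolve_left (fun h => h rfl)
      apply hinv.lowerCentralSeries_ne_bot hK
      -- `K` has class at most 2
      haveI hc1 := hcyc M₁ hM₁
      haveI hc2 := hcyc M₂ hM₂
      have hn1 : M₁.Normal := Subgroup.normal_of_index_eq_two (hidx _ hM₁).2
      have hn2 : M₂.Normal := Subgroup.normal_of_index_eq_two (hidx _ hM₂).2
      have htop : M₁ ⊔ M₂ = ⊤ := hM₁.2 _ (left_lt_sup.2 fun hle => hne (Subgroup.eq_of_le_of_card_ge hle
        (by rw [(hidx _ hM₁).1, (hidx _ hM₂).1])).symm)
      have hcen : M₁ ⊓ M₂ ≤ Subgroup.center K := by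
        rw [← Subgroup.centralizer_univ, ← Subgroup.coe_top, Subgroup.le_centralizer_iff, ← htop, sup_le_iff]
        constructor
        · exact (H30.le_centralizer_self_of_isMulCommutative inferInstance).trans
            (Subgroup.centralizer_le (SetLike.coe_subset_coe.2 inf_le_left))
        · exact (H30.le_centralizer_self_of_isMulCommutative inferInstance).trans
            (Subgroup.centralizer_le (SetLike.coe_subset_coe.2 inf_le_right))
      have hcl : commutator K ≤ M₁ ⊓ M₂ := by
        apply Subgroup.Normal.quotient_commutative_iff_commutator_le.1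
        obtain ⟨j, hj⟩ := hPK.index (M₁ ⊓ M₂)
        have hle : 2 ^ j ≤ 2 * 2 := by
          have := Subgroup.index_inf_le (H := M₁) (K := M₂)
          rwa [hj, (hidx _ hM₁).2, (hidx _ hM₂).2] at this
        have hlt : 2 ^ 1 < 2 ^ j := by
          rw [← hj]
          have hlt' : M₁ ⊓ M₂ < M₁ := inf_le_left.lt_of_ne fun h => hne
            (Subgroup.eq_of_le_of_card_ge (inf_eq_left.1 h) (by rw [(hidx _ hM₁).1, (hidx _ hM₂).1]))
          have := Subgroup.index_strictAnti hlt'
          rw [(hidx _ hM₁).2] at this
          simpa using this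
        have hj2 : j = 2 := by
          have h1 : j ≤ 2 := (Nat.pow_le_pow_iff_right (by norm_num : 1 < 2)).1 (by simpa using hle)
          have h2' := (Nat.pow_lt_pow_iff_right (by norm_num : 1 < 2)).1 hlt
          omega
        exact IsPGroup.isMulCommutative_of_card_eq_prime_sq (p := 2) (by rw [← Subgroup.index, hj, hj2])
      have h3 : (⊤ : Subgroup K).lowerCentralSeries 2 = ⊥ := by
        show ⁅(⊤ : Subgroup K).lowerCentralSeries 1, (⊤ : Subgroup K)⁆ = ⊥
        rw [Subgroup.commutator_eq_bot_iff_le_centralizer, Subgroup.coe_top, Subgroup.centralizer_univ]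
        refine le_trans ?_ hcen
        refine le_trans ?_ hcl
        rw [commutator_def]; exact le_rfl
      exact le_bot_iff.1 (((⊤ : Subgroup K).lowerCentralSeries_antitone (by omega)).trans_eq h3)

end Cfsg.Agent.S3977
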