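import Cfsg.Statements.S3978
import Cfsg.Agent.H26.SchurProjective
import Cfsg.Agent.H26.SchurCovers

set_option autoImplicit false
open Cfsg

namespace Cfsg.Agent.S3978

/-- A finite group `Q` has trivial Schur multiplier if and only if, for every `n`, every homomorphism from `Q` to the projective general linear group (the quotient of `GL n ℂ` by its centre) lifts to a homomorphism into `GL n ℂ`. -/
theorem result {Q : Type*} [Group Q] [Finite Q] : Cfsg.HasCyclicSchurMultiplier Q 1 ↔ ∀ (n : ℕ) (γ : Q →* (GL (Fin n) ℂ ⧸ Subgroup.center (GL (Fin n) ℂ))), ∃ ρ : Q →* GL (Fin n) ℂ, (QuotientGroup.mk' (Subgroup.center (GL (Fin n) ℂ))).comp ρ = γ := by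
  have hf := H26.stdPres_surjective Q
  have hid : Cfsg.IsStemExtension (MonoidHom.id Q) :=
    ⟨Function.surjective_id, by simp, by simp⟩
  constructor
  · intro h n γ
    have h0 := (H26.hasCyclic_one_iff hf).1 h
    obtain ⟨φ, hφ, hs, -, hbot, -⟩ := H26.cover_data hid (by
      rw [MonoidHom.ker_id, Subgroup.card_bot]
      exact (Subgroup.card_eq_one.2 h0).symm)
    obtain ⟨ρ, hρ⟩ := H26.exists_lift_to_cover (MonoidHom.id Q) φ hφ hs hbot n γ
    exact ⟨ρ, hρ.trans (MonoidHom.comp_id γ)⟩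
  · intro h
    refine (H26.hasCyclic_one_iff hf).2 ?_
    obtain ⟨φ, hφ, -, hmap⟩ := H26.exists_lift_stem hf hid
    rw [eq_bot_iff]
    intro z hz
    refine Subgroup.mem_bot.2 (H26.kerComm_injective_of_lifts (MonoidHom.id Q) φ hφ
      (fun n γ => ?_) hz ?_)
    · obtain ⟨ρ, hρ⟩ := h n γ
      exact ⟨ρ, hρ.trans (MonoidHom.comp_id γ).symm⟩
    · have h1 := Subgroup.mem_map_of_mem φ hz
      rw [hmap, MonoidHom.ker_id, Subgroup.mem_bot] at h1
      exact h1

end Cfsg.Agent.S3978
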