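import Cfsg.Statements.S3980
import Cfsg.Agent.H26.SchurProduct

set_option autoImplicit false
universe u v w
open Cfsg

namespace Cfsg.Agent.S3980

/-- Let `Q₁` and `Q₂` be finite groups whose commutator quotients have coprime orders, with Schur multipliers `A` and `B`. Then the Schur multiplier of `Q₁ × Q₂` is isomorphic to `A × B`. -/
theorem result {Q₁ : Type u} {Q₂ : Type v} [Group Q₁] [Group Q₂] [Finite Q₁] [Finite Q₂] {A B : Type w} [CommGroup A] [CommGroup B] (hA : Cfsg.HasSchurMultiplier Q₁ A) (hB : Cfsg.HasSchurMultiplier Q₂ B) (hcop : Nat.Coprime (Nat.card (Abelianization Q₁)) (Nat.card (Abelianization Q₂))) : Cfsg.HasSchurMultiplier (Q₁ × Q₂) (A × B) := by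
  obtain ⟨eA⟩ := H26.hasSchurMultiplier_iff.1 hA
  obtain ⟨eB⟩ := H26.hasSchurMultiplier_iff.1 hB
  obtain ⟨e⟩ := H26.schurMul_prod Q₁ Q₂
  haveI := H26.abTensor_subsingleton hcop
  let e0 : A × B ≃* H26.SchurMul Q₁ × H26.SchurMul Q₂ × H26.AbTensor Q₁ Q₂ :=
    { toFun := fun p => (eA p.1, eB p.2, 1)
      invFun := fun p => (eA.symm p.1, eB.symm p.2.1)
      left_inv := fun p => by simp
      right_inv := fun p => Prod.ext (eA.apply_symm_apply _)
        (Prod.ext (eB.apply_symm_apply _) (Subsingleton.elim _ _))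
      map_mul' := fun p q => by simp }
  exact H26.hasSchurMultiplier_iff.2 ⟨e0.trans e⟩

end Cfsg.Agent.S3980
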