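import Cfsg.Statements.S3982
import Mathlib

set_option autoImplicit false
set_option linter.all false
open Cfsg

namespace Cfsg.Agent.S3982

/-- Let p be an odd prime and G a finite group of even order divisible by p in which the centralizer of every non-identity p-element has odd order. If some nontrivial p-subgroup of G has a normalizer of even order, then the normalizer of every Sylow p-subgroup of G has even order. -/
theorem result {G : Type*} [Group G] [Finite G] (p : ℕ) [Fact p.Prime] (hp2 : p ≠ 2) (hpG : p ∣ Nat.card G) (h2G : 2 ∣ Nat.card G) (hC : ∀ g : G, g ≠ 1 → (∃ k : ℕ, orderOf g = p ^ k) → Odd (Nat.card ↥(Subgroup.centralizer ({g} : Set G)))) (Q : Subgroup G) (hQ : IsPGroup p ↥Q) (hQ1 : Q ≠ ⊥) (hev : Even (Nat.card ↥(Subgroup.normalizer (Q : Set G)))) (P : Sylow p G) : Even (Nat.card ↥(Subgroup.normalizer ((P : Subgroup G) : Set G))) := by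
  obtain ⟨⟨y, hyQ⟩, hy⟩ := exists_prime_orderOf_dvd_card' (G := Subgroup.normalizer (Q : Set G)) 2 hev.two_dvd
  rw [Subgroup.orderOf_mk] at hy
  obtain ⟨R, ⟨hQR, hRp, hyR⟩, hRmax⟩ := (Set.toFinite {R : Subgroup G | Q ≤ R ∧ IsPGroup p R ∧ y ∈ Subgroup.normalizer (R : Set G)}).exists_maximal
    ⟨Q, le_rfl, hQ, hyQ⟩
  have hy2 : y * y = 1 := by rw [← pow_two, ← hy]; exact pow_orderOf_eq_one y
  have hR1 : R ≠ ⊥ := fun h => hQ1 (le_bot_iff.1 (h ▸ hQR))
  have hCodd : ∀ g ∈ R, g ≠ 1 → Odd (Nat.card (Subgroup.centralizer ({g} : Set G))) := by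
    intro g hg hg1
    obtain ⟨k, hk⟩ := IsPGroup.iff_orderOf.1 hRp ⟨g, hg⟩
    exact hC g hg1 ⟨k, by rwa [← Subgroup.orderOf_coe] at hk⟩
  -- y inverts R
  have hfix : ∀ r ∈ R, y * r * y⁻¹ = r → r = 1 := by
    intro r hr h
    by_contra h1
    have hy' : y ∈ Subgroup.centralizer ({r} : Set G) := Subgroup.mem_centralizer_singleton_iff.2 (mul_inv_eq_iff_eq_mul.1 h)
    have h2 := Subgroup.orderOf_dvd_natCard _ hy'
    rw [hy] at h2
    exact Nat.not_even_iff_odd.2 (hCodd r hr h1) (even_iff_two_dvd.2 h2)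
  let φ : R →* R := MonoidHom.mk' (fun r => ⟨y * r * y⁻¹, (Subgroup.mem_normalizer_iff.1 hyR r).1 r.2⟩)
    (fun a b => Subtype.ext (by simp [mul_assoc]))
  have hφ : MonoidHom.FixedPointFree φ := fun r hr => Subtype.ext (hfix r r.2 (congrArg Subtype.val hr))
  have hφ2 : Function.Involutive φ := fun r => Subtype.ext (show y * (y * r * y⁻¹) * y⁻¹ = r by
    have : y⁻¹ = y := inv_eq_of_mul_eq_one_right hy2
    rw [this]; simp [mul_assoc, hy2]; simp [← mul_assoc, hy2])
  have hinv : ∀ r ∈ R, y * r * y⁻¹ = r⁻¹ := by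
    intro r hr
    have := congrFun (hφ.coe_eq_inv_of_involutive hφ2) ⟨r, hr⟩
    exact congrArg Subtype.val this
  -- M = normalizer of R, C = centralizer of R
  set M := Subgroup.normalizer (R : Set G) with hM
  set C := (Subgroup.centralizer (R : Set G)).subgroupOf M with hCdef
  have hCodd' : Odd (Nat.card C) := by
    obtain ⟨r, hr, hr1⟩ := R.bot_or_exists_ne_one.resolve_left hR1
    refine Odd.of_dvd_nat (hCodd r hr hr1) ?_
    rw [hCdef, Nat.card_congr (Subgroup.subgroupOfEquivOfLe (Subgroup.centralizer_le_normalizer _)).toEquiv]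
    exact Subgroup.card_dvd_of_le (Subgroup.centralizer_le (Set.singleton_subset_iff.2 hr))
  haveI : C.Normal := Subgroup.normal_subgroupOf_of_le_normalizer (by
    intro g hg
    refine Subgroup.mem_normalizer_fintype fun c hc => ?_
    rw [SetLike.mem_coe, Subgroup.mem_centralizer_iff] at hc ⊢
    intro r hr
    have h1 := hc (g⁻¹ * r * g) ((Subgroup.mem_normalizer_iff''.1 hg r).1 hr)
    calc r * (g * c * g⁻¹) = g * ((g⁻¹ * r * g) * c) * g⁻¹ := by group
      _ = g * (c * (g⁻¹ * r * g)) * g⁻¹ := by rw [h1]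
      _ = g * c * g⁻¹ * r := by group)
  obtain ⟨T⟩ := (inferInstance : Nonempty (Sylow p M))
  let y' : M := ⟨y, hyR⟩
  have hcen : ∀ g : M, y' * g * y'⁻¹ * g⁻¹ ∈ C := by
    intro g
    rw [hCdef, Subgroup.mem_subgroupOf, Subgroup.mem_centralizer_iff]
    intro r hr
    show r * (y * g * y⁻¹ * (g:G)⁻¹) = y * g * y⁻¹ * (g:G)⁻¹ * r
    set s := (g : G)⁻¹ * r * g with hs
    have hsR : s ∈ R := (Subgroup.mem_normalizer_iff''.1 g.2 r).1 hr
    have h1 : y⁻¹ * s * y = s⁻¹ := by
      have := hinv s hsR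
      rwa [inv_eq_of_mul_eq_one_right hy2] at this ⊢
    have h2 : y * r⁻¹ * y⁻¹ = r := by rw [hinv _ (R.inv_mem hr), inv_inv]
    symm
    calc y * g * y⁻¹ * (g:G)⁻¹ * r = y * g * (y⁻¹ * s * y) * y⁻¹ * (g:G)⁻¹ := by rw [hs]; group
      _ = y * g * s⁻¹ * y⁻¹ * (g:G)⁻¹ := by rw [h1]
      _ = (y * r⁻¹ * y⁻¹) * (y * g * y⁻¹ * (g:G)⁻¹) := by rw [hs]; group
      _ = _ := by rw [h2]
  set M1 := C ⊔ (T : Subgroup M) with hM1
  have hM1odd : Odd (Nat.card M1) := by
    rw [← Nat.not_even_iff_odd, even_iff_two_dvd]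
    intro h2
    obtain ⟨⟨t, ht⟩, ht2⟩ := exists_prime_orderOf_dvd_card' (G := M1) 2 h2
    rw [Subgroup.orderOf_mk] at ht2
    obtain ⟨c, hc, u, hu, hcu⟩ := Subgroup.mem_sup_of_normal_left.1 ht
    obtain ⟨k, hk⟩ := IsPGroup.iff_orderOf.1 T.isPGroup' ⟨u, hu⟩
    rw [← Subgroup.orderOf_coe] at hk
    have himg : ((t : M) : M ⧸ C) = (u : M ⧸ C) := by rw [← hcu, QuotientGroup.mk_mul, (QuotientGroup.eq_one_iff c).2 hc, one_mul]
    have h3 : ((t : M) : M ⧸ C) = 1 := by
      rw [← orderOf_eq_one_iff]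
      refine Nat.eq_one_of_dvd_coprimes (a := 2) (b := p ^ k) (Nat.Coprime.pow_right k ((Nat.coprime_primes Nat.prime_two Fact.out).2 (Ne.symm hp2))) ?_ ?_
      · exact ht2 ▸ orderOf_map_dvd (QuotientGroup.mk' C) t
      · rw [himg, ← hk]; exact orderOf_map_dvd (QuotientGroup.mk' C) u
    have h4 := Subgroup.orderOf_dvd_natCard C ((QuotientGroup.eq_one_iff t).1 h3)
    rw [ht2] at h4
    exact Nat.not_even_iff_odd.2 hCodd' (even_iff_two_dvd.2 h4)
  have hy1 : ∀ g ∈ M1, y' * g * y'⁻¹ ∈ M1 := by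
    intro g hg
    have := M1.mul_mem (Subgroup.mem_sup_left (hcen g)) hg
    rwa [inv_mul_cancel_right] at this
  have hRM : R ≤ M := Subgroup.le_normalizer
  have hyy' : y'⁻¹ = y' := Subtype.ext (inv_eq_of_mul_eq_one_right hy2)
  -- action of y on Sylow subgroups of M1
  let e : M1 ≃* M1 :=
    { toFun := fun g => ⟨y' * g * y'⁻¹, hy1 g g.2⟩
      invFun := fun g => ⟨y' * g * y'⁻¹, hy1 g g.2⟩
      left_inv := fun g => Subtype.ext (Subtype.ext (by simp [y', inv_eq_of_mul_eq_one_right hy2, mul_assoc, hy2]; simp [← mul_assoc, hy2]))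
      right_inv := fun g => Subtype.ext (Subtype.ext (by simp [y', inv_eq_of_mul_eq_one_right hy2, mul_assoc, hy2]; simp [← mul_assoc, hy2]))
      map_mul' := fun a b => Subtype.ext (by simp [mul_assoc]) }
  have he2 : ∀ g, e (e g) = g := e.left_inv
  let f : Sylow p M1 → Sylow p M1 := fun S => S.comapOfInjective e.toMonoidHom e.injective (le_top.trans ((MonoidHom.range_eq_top (f := e.toMonoidHom)).2 e.surjective).ge)
  have hf : Function.Involutive f := by
    intro S
    apply Sylow.ext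
    ext g
    show e (e g) ∈ (S : Subgroup M1) ↔ g ∈ (S : Subgroup M1)
    rw [he2]
  have := Fintype.ofFinite (Sylow p M1)
  have hnS : ¬ 2 ∣ Fintype.card (Sylow p M1) := by
    rw [← Nat.card_eq_fintype_card]
    obtain ⟨S⟩ := (inferInstance : Nonempty (Sylow p M1))
    intro h
    exact Nat.not_even_iff_odd.2 (Odd.of_dvd_nat hM1odd (S.card_dvd_index.trans (Subgroup.index_dvd_card _))) (even_iff_two_dvd.2 h)
  obtain ⟨S, hS⟩ := Equiv.Perm.exists_fixed_point_of_prime (p := 2) (n := 1) hnS (σ := hf.toPerm) (by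
    apply Equiv.ext
    intro S
    simp [pow_two, hf S])
  have hS' : f S = S := hS
  -- R lies in every Sylow subgroup of M1, T is one of them
  set W := ((S : Subgroup M1).map M1.subtype).map M.subtype with hW
  have hWp : IsPGroup p W := (S.isPGroup'.map _).map _
  haveI : (R.subgroupOf M).Normal := Subgroup.normal_subgroupOf_of_le_normalizer le_rfl
  have hRT : R.subgroupOf M ≤ (T : Subgroup M) := by
    have := T.is_maximal' (IsPGroup.to_sup_of_normal_left (H := R.subgroupOf M) hRp.comap_subtype T.isPGroup') le_sup_right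
    exact le_sup_left.trans this.le
  have hRW : R ≤ W := by
    intro r hr
    have hr1 : (⟨r, hRM hr⟩ : M) ∈ M1 := Subgroup.mem_sup_right (hRT (Subgroup.mem_subgroupOf.2 hr))
    haveI : ((R.subgroupOf M).subgroupOf M1).Normal := (Subgroup.normal_subgroupOf_of_le_normalizer (le_refl M)).comap _
    have h1 : IsPGroup p ((R.subgroupOf M).subgroupOf M1) := (hRp.comap_subtype : IsPGroup p (R.subgroupOf M)).comap_subtype
    have h2 := S.is_maximal' (IsPGroup.to_sup_of_normal_left (H := (R.subgroupOf M).subgroupOf M1) h1 S.isPGroup') le_sup_right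
    refine ⟨_, ⟨⟨_, hr1⟩, ?_, rfl⟩, rfl⟩
    exact h2 ▸ Subgroup.mem_sup_left (show (⟨_, hr1⟩ : M1) ∈ (R.subgroupOf M).subgroupOf M1 from Subgroup.mem_subgroupOf.2 (Subgroup.mem_subgroupOf.2 hr))
  have hyW : y ∈ Subgroup.normalizer (W : Set G) := by
    refine Subgroup.mem_normalizer_fintype ?_
    rintro _ ⟨_, ⟨g, hg, rfl⟩, rfl⟩
    refine ⟨_, ⟨e g, ?_, rfl⟩, rfl⟩
    have : g ∈ (f S : Subgroup M1) := by rw [hS']; exact hg
    exact this
  have hWR : W = R := le_antisymm (hRmax ⟨hQR.trans hRW, hWp, hyW⟩ hRW) hRW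
  -- the Sylow subgroup T of M has the same order as S, so T = R
  have hcardT : Nat.card (T : Subgroup M) = Nat.card (S : Subgroup M1) := by
    have h1 := Sylow.card_eq_multiplicity (T.subtype (le_sup_right : (T : Subgroup M) ≤ M1))
    rw [← Sylow.card_eq_multiplicity S] at h1
    rw [← h1]
    exact (Nat.card_congr (Subgroup.subgroupOfEquivOfLe (le_sup_right : (T : Subgroup M) ≤ M1)).toEquiv).symm
  have hcardR : Nat.card R = Nat.card (S : Subgroup M1) := by
    rw [← hWR, hW, Subgroup.card_map_of_injective M.subtype_injective, Subgroup.card_map_of_injective M1.subtype_injective]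
  have hRT' : R.subgroupOf M = (T : Subgroup M) := by
    apply Subgroup.eq_of_le_of_card_ge hRT
    rw [Nat.card_congr (Subgroup.subgroupOfEquivOfLe hRM).toEquiv, hcardR, hcardT]
  -- hence R is a Sylow subgroup of G
  obtain ⟨P', hP'⟩ := hRp.exists_le_sylow
  have hPR : (P' : Subgroup G) = R := by
    by_contra hne
    haveI := P'.isPGroup'.isNilpotent
    have hlt : R.subgroupOf (P' : Subgroup G) < ⊤ := by
      rw [lt_top_iff_ne_top, Ne, Subgroup.subgroupOf_eq_top]
      exact fun h => hne (le_antisymm h hP')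
    obtain ⟨u, hu, huR⟩ := SetLike.exists_of_lt (Group.normalizerCondition_of_isNilpotent (G := (P' : Subgroup G)) _ hlt)
    have huM : (u : G) ∈ M := Subgroup.mem_normalizer_fintype fun r hr =>
      Subgroup.mem_subgroupOf.1 ((Subgroup.mem_normalizer_iff.1 hu ⟨r, hP' hr⟩).1 (Subgroup.mem_subgroupOf.2 hr))
    apply huR
    obtain ⟨k, hk⟩ := IsPGroup.iff_orderOf.1 P'.isPGroup' u
    have hup : IsPGroup p (Subgroup.zpowers (⟨u, huM⟩ : M)) := IsPGroup.of_card (n := k) (by
      rw [Nat.card_zpowers, Subgroup.orderOf_mk, Subgroup.orderOf_coe, hk])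
    have h5 := T.is_maximal' (hup.to_sup_of_normal_right' T.isPGroup' (by
      rw [← hRT', Subgroup.normalizer_eq_top]; exact le_top)) le_sup_right
    have h6 : (⟨u, huM⟩ : M) ∈ (T : Subgroup M) := h5 ▸ Subgroup.mem_sup_left (Subgroup.mem_zpowers _)
    rw [← hRT'] at h6
    exact Subgroup.mem_subgroupOf.2 (Subgroup.mem_subgroupOf.1 h6)
  obtain ⟨g, rfl⟩ := MulAction.exists_smul_eq G P' P
  have hyn : g * y * g⁻¹ ∈ Subgroup.normalizer (((g • P' : Sylow p G) : Subgroup G) : Set G) := by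
    refine Sylow.smul_eq_iff_mem_normalizer.1 ?_
    rw [smul_smul, inv_mul_cancel_right, mul_smul]
    congr 1
    apply Sylow.smul_eq_iff_mem_normalizer.2
    show y ∈ Subgroup.normalizer ((P' : Subgroup G) : Set G)
    rw [hPR]
    exact hyR
  rw [even_iff_two_dvd, ← hy, ← (MulAut.conj g).orderOf_eq y]
  exact Subgroup.orderOf_dvd_natCard _ hyn

end Cfsg.Agent.S3982
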