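import Cfsg.Statements.S3984
import Mathlib
import Cfsg.Agent.H35.Basic

set_option autoImplicit false
open scoped Pointwise
open Cfsg

namespace Cfsg.Agent.S3984

/-- Let P be a Sylow p-subgroup of the finite group G that meets each conjugate g P g⁻¹ with g outside N_G(P) trivially, and let N be a normal subgroup of G of order prime to p. Then every Sylow p-subgroup Q of G ⧸ N meets each conjugate x Q x⁻¹ with x outside its normalizer trivially. -/
theorem result {G : Type*} [Group G] [Finite G] (p : ℕ) [Fact p.Prime] (P : Sylow p G) (hTI : ∀ g : G, g ∉ Subgroup.normalizer ((P : Subgroup G) : Set G) → (P : Subgroup G) ⊓ (MulAut.conj g • (P : Subgroup G)) = ⊥) (N : Subgroup G) [N.Normal] (hN : (Nat.card ↥N).Coprime p) (Q : Sylow p (G ⧸ N)) : ∀ x : G ⧸ N, x ∉ Subgroup.normalizer ((Q : Subgroup (G ⧸ N)) : Set (G ⧸ N)) → (Q : Subgroup (G ⧸ N)) ⊓ (MulAut.conj x • (Q : Subgroup (G ⧸ N))) = ⊥ := by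
  have hsurj : Function.Surjective (QuotientGroup.mk' N) := QuotientGroup.mk'_surjective N
  have key : ∀ Q1 Q2 : Sylow p (G ⧸ N), Q1 ≠ Q2 → (Q1 : Subgroup (G ⧸ N)) ⊓ (Q2 : Subgroup (G ⧸ N)) = ⊥ := by
    intro Q1 Q2 hne
    obtain ⟨R1, rfl⟩ := Sylow.mapSurjective_surjective hsurj p Q1
    obtain ⟨R2, rfl⟩ := Sylow.mapSurjective_surjective hsurj p Q2
    rw [eq_bot_iff]
    intro y hy
    rw [Sylow.coe_mapSurjective, Sylow.coe_mapSurjective] at hy
    obtain ⟨⟨r1, h1, rfl⟩, r2, h2, h21⟩ := hy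
    rw [Subgroup.mem_bot]
    by_contra hy1
    have hle : Subgroup.zpowers r2 ≤ Subgroup.zpowers r1 ⊔ N := by
      rw [Subgroup.zpowers_le]
      have h3 : r1⁻¹ * r2 ∈ N := (QuotientGroup.eq).1 h21.symm
      have := Subgroup.mul_mem_sup (Subgroup.mem_zpowers r1) h3
      rwa [mul_inv_cancel_left] at this
    obtain ⟨n, hn, hconj⟩ := H35.exists_conj_mem_of_le_sup N hN
      (R2.isPGroup'.to_le ((Subgroup.zpowers_le).2 h2)) (R1.isPGroup'.to_le ((Subgroup.zpowers_le).2 h1)) hle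
    have h4 : n * r2 * n⁻¹ ∈ (R1 : Subgroup G) := (Subgroup.zpowers_le).2 h1 (hconj r2 (Subgroup.mem_zpowers r2))
    have h5 : n * r2 * n⁻¹ ∈ ((n • R2 : Sylow p G) : Subgroup G) := by
      rw [Sylow.coe_subgroup_smul]
      exact Subgroup.smul_mem_pointwise_smul _ (MulAut.conj n) _ h2
    have heq : R1 = n • R2 := by
      by_contra hRR
      have h6 : n * r2 * n⁻¹ ∈ (⊥ : Subgroup G) := H35.sylow_inf_eq_bot_of_ti P hTI hRR ▸ ⟨h4, h5⟩
      apply hy1
      rw [← h21, conj_eq_one_iff.1 (Subgroup.mem_bot.1 h6), map_one]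
    apply hne
    apply Sylow.ext
    rw [Sylow.coe_mapSurjective, Sylow.coe_mapSurjective, heq, Sylow.coe_subgroup_smul]
    ext z
    have hn1 : (n : G ⧸ N) = 1 := (QuotientGroup.eq_one_iff n).2 hn
    constructor
    · rintro ⟨a, ⟨b, hb, rfl⟩, rfl⟩
      exact ⟨b, hb, by simp [hn1]⟩
    · rintro ⟨b, hb, rfl⟩
      exact ⟨_, ⟨b, hb, rfl⟩, by simp [hn1]⟩
  intro x hx
  rw [← Sylow.coe_subgroup_smul]
  exact key Q (x • Q) fun h => hx (Sylow.smul_eq_iff_mem_normalizer.1 h.symm)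

end Cfsg.Agent.S3984
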