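import Cfsg.Statements.S3985
import Mathlib
import Cfsg.Agent.H35.Basic

set_option autoImplicit false
set_option linter.all false
open scoped Pointwise
open Cfsg

namespace Cfsg.Agent.S3985

/-- Let P be a cyclic Sylow p-subgroup of the finite group G. Then P meets each conjugate g P g⁻¹ with g outside N_G(P) trivially if and only if P is weakly self-centralizing: C_G(x) = C_G(P) for every non-identity x ∈ P. -/
theorem result {G : Type*} [Group G] [Finite G] (p : ℕ) [Fact p.Prime] (P : Sylow p G) (hcyc : IsCyclic ↥(P : Subgroup G)) : (∀ g : G, g ∉ Subgroup.normalizer ((P : Subgroup G) : Set G) → (P : Subgroup G) ⊓ (MulAut.conj g • (P : Subgroup G)) = ⊥) ↔ ∀ x : G, x ∈ (P : Subgroup G) → x ≠ 1 → Subgroup.centralizer ({x} : Set G) = Subgroup.centralizer ((P : Subgroup G) : Set G) := by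
  have hab : ∀ a ∈ (P : Subgroup G), ∀ b ∈ (P : Subgroup G), a * b = b * a := by
    haveI := hcyc
    letI : CommGroup ↥(P : Subgroup G) := IsCyclic.commGroup
    intro a ha b hb
    exact congrArg Subtype.val (mul_comm (⟨a, ha⟩ : (P : Subgroup G)) ⟨b, hb⟩)
  constructor
  · intro hTI x hxP hx1
    apply le_antisymm
    · intro g hg
      have hgx : g * x * g⁻¹ = x := by
        have := Subgroup.mem_centralizer_singleton_iff.1 hg
        rw [this, mul_inv_cancel_right]
      have hgN : g ∈ Subgroup.normalizer ((P : Subgroup G) : Set G) := by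
        by_contra hgN
        have hmem : x ∈ (P : Subgroup G) ⊓ (MulAut.conj g • (P : Subgroup G)) := by
          refine ⟨hxP, ?_⟩
          have := Subgroup.smul_mem_pointwise_smul x (MulAut.conj g) _ hxP
          rwa [show MulAut.conj g • x = x from hgx] at this
        rw [hTI g hgN] at hmem
        exact hx1 (Subgroup.mem_bot.1 hmem)
      obtain ⟨y, hy⟩ := hcyc.exists_generator
      have hgy : g * (y : G) * g⁻¹ ∈ (P : Subgroup G) := (Subgroup.mem_normalizer_iff.1 hgN y).1 y.2
      obtain ⟨k, hk⟩ := Subgroup.mem_zpowers_iff.1 (hy ⟨_, hgy⟩)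
      obtain ⟨i, hi⟩ := Subgroup.mem_zpowers_iff.1 (hy ⟨x, hxP⟩)
      have hk' : g * (y : G) * g⁻¹ = (y : G) ^ k := by
        have := congrArg Subtype.val hk
        simpa using this.symm
      have hi' : x = (y : G) ^ i := by
        have := congrArg Subtype.val hi
        simpa using this.symm
      have hpow : ∀ n : ℕ, g ^ n * (y : G) * (g ^ n)⁻¹ = (y : G) ^ (k ^ n) := by
        intro n
        induction n with
        | zero => simp
        | succ n ih =>
          calc g ^ (n + 1) * (y : G) * (g ^ (n + 1))⁻¹ = g * (g ^ n * y * (g ^ n)⁻¹) * g⁻¹ := by rw [pow_succ']; group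
            _ = g * (y : G) ^ (k ^ n) * g⁻¹ := by rw [ih]
            _ = (g * (y : G) * g⁻¹) ^ (k ^ n) := conj_zpow.symm
            _ = _ := by rw [hk', ← zpow_mul, pow_succ, mul_comm k]
      obtain ⟨e, he⟩ := IsPGroup.iff_orderOf.1 P.isPGroup' y
      rw [← Subgroup.orderOf_coe] at he
      have hdvd : ((p : ℤ) ^ e) ∣ (k - 1) * i := by
        have h1 : g * x * g⁻¹ = (y : G) ^ (k * i) := by rw [hi', ← conj_zpow, hk', ← zpow_mul]
        rw [hgx, hi'] at h1
        have h2 := orderOf_dvd_sub_iff_zpow_eq_zpow.2 h1.symm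
        rw [he] at h2
        push_cast at h2
        rwa [sub_mul, one_mul]
      have hk1 : (p : ℤ) ∣ k - 1 := by
        by_contra hnd
        apply hx1
        have hcop : IsCoprime ((p : ℤ) ^ e) (k - 1) :=
          ((Nat.prime_iff_prime_int.1 Fact.out).coprime_iff_not_dvd.2 hnd).pow_left
        have h3 : (orderOf (y : G) : ℤ) ∣ i := by rw [he]; push_cast; exact hcop.dvd_of_dvd_mul_left hdvd
        rw [hi']
        exact orderOf_dvd_iff_zpow_eq_one.1 h3
      have hcomm1 : Commute (g ^ (p ^ e)) (y : G) := by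
        have h4 : ((p : ℤ) ^ e) ∣ k ^ (p ^ e) - 1 := by
          have h5 := dvd_sub_pow_of_dvd_sub (k := e) hk1
          rw [one_pow] at h5
          exact (pow_dvd_pow _ (by omega)).trans h5
        have h6 : g ^ (p ^ e) * (y : G) * (g ^ (p ^ e))⁻¹ = y := by
          rw [hpow]
          nth_rw 2 [← zpow_one (y : G)]
          apply orderOf_dvd_sub_iff_zpow_eq_zpow.1
          rw [he]; push_cast; exact h4
        exact mul_inv_eq_iff_eq_mul.1 h6
      obtain ⟨j, m, hm, hord⟩ := Nat.exists_eq_pow_mul_and_not_dvd (orderOf_pos g).ne' p (Fact.out : p.Prime).ne_one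
      have hm0 : m ≠ 0 := by rintro rfl; simp at hm
      have hgm : g ^ m ∈ (P : Subgroup G) := by
        have hpg : IsPGroup p (Subgroup.zpowers (g ^ m)) := by
          refine IsPGroup.of_card (n := j) ?_
          rw [Nat.card_zpowers, orderOf_pow' _ hm0, hord, Nat.gcd_mul_left_left, Nat.mul_div_cancel _ (Nat.pos_of_ne_zero hm0)]
        have hle : Subgroup.zpowers (g ^ m) ≤ Subgroup.normalizer ((P : Subgroup G) : Set G) :=
          (Subgroup.zpowers_le).2 (pow_mem hgN m)
        have h7 := hpg.to_sup_of_normal_right' P.isPGroup' hle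
        have h8 := P.is_maximal' h7 le_sup_right
        exact h8 ▸ Subgroup.mem_sup_left (Subgroup.mem_zpowers _)
      have hcomm2 : Commute (g ^ m) (y : G) := hab _ hgm _ y.2
      have hgy' : Commute g (y : G) := by
        have hcop : IsCoprime ((p ^ e : ℕ) : ℤ) (m : ℤ) :=
          Nat.Coprime.isCoprime (((Fact.out : p.Prime).coprime_iff_not_dvd.2 hm).pow_left e)
        obtain ⟨a, b, hab1⟩ := hcop
        have : g = (g ^ (p ^ e)) ^ a * (g ^ m) ^ b := by
          rw [← zpow_natCast g, ← zpow_natCast g m, ← zpow_mul, ← zpow_mul, ← zpow_add, mul_comm _ a, mul_comm _ b, hab1, zpow_one]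
        rw [this]
        exact (hcomm1.zpow_left a).mul_left (hcomm2.zpow_left b)
      rw [Subgroup.mem_centralizer_iff]
      intro z hz
      obtain ⟨n, hn⟩ := Subgroup.mem_zpowers_iff.1 (hy ⟨z, hz⟩)
      have hn' : z = (y : G) ^ n := by
        have := congrArg Subtype.val hn
        simpa using this.symm
      rw [hn']
      exact ((hgy'.zpow_right n).symm).eq
    · exact Subgroup.centralizer_le (Set.singleton_subset_iff.2 hxP)
  · intro hC g hg
    rw [eq_bot_iff]
    intro x hx
    by_contra hx1
    apply hg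
    have hR : MulAut.conj g • (P : Subgroup G) ≤ Subgroup.centralizer ((P : Subgroup G) : Set G) := by
      rw [← hC x hx.1 hx1]
      intro z hz
      obtain ⟨a, ha, rfl⟩ := hz
      obtain ⟨b, hb, hbx⟩ := hx.2
      rw [Subgroup.mem_centralizer_singleton_iff, ← hbx]
      show (g * a * g⁻¹) * (g * b * g⁻¹) = (g * b * g⁻¹) * (g * a * g⁻¹)
      have := hab a ha b hb
      calc g * a * g⁻¹ * (g * b * g⁻¹) = g * (a * b) * g⁻¹ := by group
        _ = g * (b * a) * g⁻¹ := by rw [this]
        _ = _ := by group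
    have h7 : IsPGroup p ↥((g • P : Sylow p G).1 ⊔ (P : Subgroup G)) :=
      (g • P).isPGroup'.to_sup_of_normal_right' P.isPGroup' ((Sylow.coe_subgroup_smul (g := g) (P := P)).le.trans (hR.trans (Subgroup.centralizer_le_normalizer _)))
    have h8 := P.is_maximal' h7 le_sup_right
    have h9 := (g • P).is_maximal' h7 le_sup_left
    exact Sylow.smul_eq_iff_mem_normalizer.1 (Sylow.ext (h9.symm.trans h8))

end Cfsg.Agent.S3985
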