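import Cfsg.Statements.S3986
import Mathlib
import Cfsg.Agent.H35.Basic

set_option autoImplicit false
open Cfsg

namespace Cfsg.Agent.S3986

/-- Let p be a prime and G a finite group. Then some Sylow p-subgroup of G is a direct factor of G (it is normal and has a normal complement) if and only if every element of p-power order commutes with every element whose order is a power of a prime other than p. -/
theorem result {G : Type*} [Group G] [Finite G] (p : ℕ) [Fact p.Prime] : (∃ (P : Sylow p G) (K : Subgroup G), (P : Subgroup G).Normal ∧ K.Normal ∧ (P : Subgroup G) ⊓ K = ⊥ ∧ (P : Subgroup G) ⊔ K = ⊤) ↔ ∀ x y : G, (∃ a : ℕ, orderOf x = p ^ a) → (∃ q b : ℕ, q.Prime ∧ q ≠ p ∧ orderOf y = q ^ b) → x * y = y * x := by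
  constructor
  · rintro ⟨P, K, hP, hK, hinf, hsup⟩ x y ⟨a, ha⟩ ⟨q, b, hq, hqp, hb⟩
    have hxP : x ∈ (P : Subgroup G) := by
      have hpg : IsPGroup p (Subgroup.zpowers x) := IsPGroup.of_card (n := a) (by rw [Nat.card_zpowers, ha])
      have := P.is_maximal' (hpg.to_sup_of_normal_right P.isPGroup') le_sup_right
      exact this ▸ Subgroup.mem_sup_left (Subgroup.mem_zpowers x)
    have hyK : y ∈ K := by
      have hy : y ∈ (P : Subgroup G) ⊔ K := hsup ▸ Subgroup.mem_top y
      obtain ⟨u, hu, k, hk, rfl⟩ := Subgroup.mem_sup_of_normal_right.1 hy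
      have e : ((u * k : G) : G ⧸ K) = (u : G ⧸ K) := by simp [(QuotientGroup.eq_one_iff k).2 hk]
      have h1 : orderOf ((u * k : G) : G ⧸ K) ∣ q ^ b := hb ▸ orderOf_map_dvd (QuotientGroup.mk' K) _
      obtain ⟨c, hc⟩ := IsPGroup.iff_orderOf.1 P.isPGroup' ⟨u, hu⟩
      have h2 : orderOf ((u * k : G) : G ⧸ K) ∣ p ^ c := by
        rw [e, ← hc, ← Subgroup.orderOf_coe]; exact orderOf_map_dvd (QuotientGroup.mk' K) _
      rw [← QuotientGroup.eq_one_iff, ← orderOf_eq_one_iff]
      exact Nat.eq_one_of_dvd_coprimes (Nat.Coprime.pow b c ((Nat.coprime_primes hq Fact.out).2 hqp)) h1 h2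
    exact (Subgroup.commute_of_normal_of_disjoint _ _ hP hK (disjoint_iff.2 hinf) x y hxP hyK).eq
  · intro h
    obtain ⟨P⟩ := (inferInstance : Nonempty (Sylow p G))
    have hPn : (P : Subgroup G).Normal := by
      have key : ∀ Q : Sylow p G, ∀ (q b : ℕ) (z : G), q.Prime → orderOf z = q ^ b → q ≠ p → z ∈ Subgroup.centralizer ((Q : Subgroup G) : Set G) := by
        intro Q q b z hq hz hqp
        rw [Subgroup.mem_centralizer_iff]
        intro u hu
        obtain ⟨c, hc⟩ := IsPGroup.iff_orderOf.1 Q.isPGroup' ⟨u, hu⟩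
        exact h u z ⟨c, by rwa [← Subgroup.orderOf_coe] at hc⟩ ⟨q, b, hq, hqp, hz⟩
      let H : Subgroup G := (P : Subgroup G) ⊔ Subgroup.centralizer ((P : Subgroup G) : Set G)
      have hH : H ≤ Subgroup.normalizer ((P : Subgroup G) : Set G) := sup_le Subgroup.le_normalizer (Subgroup.centralizer_le_normalizer _)
      have hdvd : Nat.card G ∣ Nat.card H := by
        rw [Nat.dvd_iff_prime_pow_dvd_dvd]
        intro q k hq hk
        haveI := Fact.mk hq
        obtain ⟨K, hK⟩ := Sylow.exists_subgroup_card_pow_prime q hk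
        by_cases hqp : q = p
        · subst hqp
          exact ((hq.pow_dvd_iff_le_factorization Nat.card_pos.ne').1 hk |> pow_dvd_pow q).trans
            (P.card_eq_multiplicity ▸ Subgroup.card_dvd_of_le le_sup_left)
        · rw [← hK]
          refine Subgroup.card_dvd_of_le fun z hz => Subgroup.mem_sup_right ?_
          obtain ⟨b, hb⟩ := (IsPGroup.iff_orderOf.1 (IsPGroup.of_card hK)) ⟨z, hz⟩
          exact key P q b z hq (by rwa [← Subgroup.orderOf_coe] at hb) hqp
      have : H = ⊤ := Subgroup.eq_top_of_card_eq _ (Nat.dvd_antisymm (Subgroup.card_subgroup_dvd_card H) hdvd)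
      exact Subgroup.normalizer_eq_top_iff.1 (eq_top_iff.2 (this.symm.le.trans hH))
    obtain ⟨K, hK⟩ := Subgroup.exists_right_complement'_of_coprime (N := (P : Subgroup G)) P.card_coprime_index
    have hKp : ∀ k ∈ K, ∀ u ∈ (P : Subgroup G), u * k = k * u := by
      intro k hk u hu
      obtain ⟨c, hc⟩ := IsPGroup.iff_orderOf.1 P.isPGroup' ⟨u, hu⟩
      have : (⊤ : Subgroup K) ≤ ((Subgroup.centralizer ({u} : Set G)).subgroupOf K) := by
        apply le_of_eq
        symm
        apply H35.eq_top_of_prime_pow_mem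
        intro q b z hq hz
        rw [Subgroup.mem_subgroupOf, Subgroup.mem_centralizer_singleton_iff]
        rcases Nat.eq_zero_or_pos b with rfl | hb
        · simp [orderOf_eq_one_iff.1 (by simpa using hz)]
        refine (h u z ⟨c, by rwa [← Subgroup.orderOf_coe] at hc⟩ ⟨q, b, hq, ?_, by rwa [Subgroup.orderOf_coe]⟩).symm
        rintro rfl
        have h1 : q ∣ Nat.card K := (dvd_pow_self q hb.ne').trans (hz ▸ orderOf_dvd_natCard z)
        rw [← hK.symm.index_eq_card] at h1
        exact P.not_dvd_index h1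
      exact (Subgroup.mem_centralizer_singleton_iff.1 (this (Subgroup.mem_top (⟨k, hk⟩ : K)))).symm
    refine ⟨P, K, hPn, ?_, hK.disjoint.eq_bot, hK.sup_eq_top⟩
    rw [← Subgroup.normalizer_eq_top_iff, eq_top_iff, ← hK.sup_eq_top, sup_le_iff]
    refine ⟨fun u hu => Subgroup.centralizer_le_normalizer _ (Subgroup.mem_centralizer_iff.2 fun k hk => (hKp k hk u hu).symm), Subgroup.le_normalizer⟩

end Cfsg.Agent.S3986
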