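import Cfsg.Statements.S3987
import Mathlib
import Cfsg.Agent.S3986

set_option autoImplicit false
open Cfsg

namespace Cfsg.Agent.S3987

/-- Let p be a prime and G a finite group. Then some Sylow p-subgroup of G is a direct factor of G (normal with a normal complement) if and only if for every element x of p-power order and every element y whose order is a power of a prime other than p, the conjugacy class of x y has as many elements as the product of the sizes of the classes of x and of y. -/
theorem result {G : Type*} [Group G] [Finite G] (p : ℕ) [Fact p.Prime] : (∃ (P : Sylow p G) (K : Subgroup G), (P : Subgroup G).Normal ∧ K.Normal ∧ (P : Subgroup G) ⊓ K = ⊥ ∧ (P : Subgroup G) ⊔ K = ⊤) ↔ ∀ x y : G, (∃ a : ℕ, orderOf x = p ^ a) → (∃ q b : ℕ, q.Prime ∧ q ≠ p ∧ orderOf y = q ^ b) → (Subgroup.centralizer ({x * y} : Set G)).index = (Subgroup.centralizer ({x} : Set G)).index * (Subgroup.centralizer ({y} : Set G)).index := by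
  constructor
  · intro hd x y hx hy
    have hcomm := (Cfsg.Agent.S3986.result (G := G) p).1 hd
    have hxy := hcomm x y hx hy
    obtain ⟨a, ha⟩ := hx
    obtain ⟨q, b, hq, hqp, hb⟩ := hy
    have hcop : (orderOf x).Coprime (orderOf y) := by
      rw [ha, hb]; exact Nat.Coprime.pow a b ((Nat.coprime_primes Fact.out hq).2 (Ne.symm hqp))
    have hpow : ∀ w : G, Commute w (x * y) → Commute w x := by
      intro w hw
      obtain ⟨u, v, huv⟩ := hcop.isCoprime
      have h1 : (x * y) ^ (v * (orderOf y : ℤ)) = x := by
        rw [Commute.mul_zpow hxy]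
        have e1 : v * (orderOf y : ℤ) = 1 - u * (orderOf x : ℤ) := by linarith
        rw [show y ^ (v * (orderOf y : ℤ)) = 1 by rw [mul_comm, zpow_mul]; simp [pow_orderOf_eq_one], e1, zpow_sub,
          zpow_one, show x ^ (u * (orderOf x : ℤ)) = 1 by rw [mul_comm, zpow_mul]; simp [pow_orderOf_eq_one]]
        simp
      rw [← h1]; exact hw.zpow_right _
    have hinf : Subgroup.centralizer ({x * y} : Set G) = Subgroup.centralizer ({x} : Set G) ⊓ Subgroup.centralizer ({y} : Set G) := by
      ext w
      simp only [Subgroup.mem_inf, Subgroup.mem_centralizer_singleton_iff]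
      constructor
      · intro hw
        have hwx : w * x = x * w := hpow w hw
        refine ⟨hwx, ?_⟩
        have : x * (w * y) = x * (y * w) := by
          rw [← mul_assoc, ← hwx, mul_assoc, hw, mul_assoc]
        exact mul_left_cancel this
      · rintro ⟨h1, h2⟩
        rw [← mul_assoc, h1, mul_assoc, h2, mul_assoc]
    rw [hinf]
    suffices hcp : Nat.Coprime (Subgroup.centralizer ({x} : Set G)).index (Subgroup.centralizer ({y} : Set G)).index by
      refine le_antisymm Subgroup.index_inf_le (Nat.le_of_dvd (Nat.pos_of_ne_zero Subgroup.index_ne_zero_of_finite) ?_)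
      exact hcp.mul_dvd_of_dvd_of_dvd (Subgroup.index_dvd_of_le inf_le_left) (Subgroup.index_dvd_of_le inf_le_right)
    obtain ⟨P, K, hPn, hKn, hPK, hPKt⟩ := hd
    have hKx : K ≤ Subgroup.centralizer ({x} : Set G) := by
      intro k hk
      rw [Subgroup.mem_centralizer_singleton_iff]
      have hxP : x ∈ (P : Subgroup G) := by
        have hpg : IsPGroup p (Subgroup.zpowers x) := IsPGroup.of_card (n := a) (by rw [Nat.card_zpowers, ha])
        exact (P.is_maximal' (hpg.to_sup_of_normal_right P.isPGroup') le_sup_right) ▸ Subgroup.mem_sup_left (Subgroup.mem_zpowers x)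
      exact (Subgroup.commute_of_normal_of_disjoint _ _ hPn hKn (disjoint_iff.2 hPK) x k hxP hk).symm.eq
    have hPy : (P : Subgroup G) ≤ Subgroup.centralizer ({y} : Set G) := by
      intro u hu
      rw [Subgroup.mem_centralizer_singleton_iff]
      obtain ⟨c, hc⟩ := IsPGroup.iff_orderOf.1 P.isPGroup' ⟨u, hu⟩
      exact hcomm u y ⟨c, by rwa [← Subgroup.orderOf_coe] at hc⟩ ⟨q, b, hq, hqp, hb⟩
    have h1 : (Subgroup.centralizer ({x} : Set G)).index ∣ Nat.card (P : Subgroup G) :=
      (Subgroup.index_dvd_of_le hKx).trans (by
        rw [(Subgroup.isComplement'_of_disjoint_and_mul_eq_univ (disjoint_iff.2 hPK) (by rw [← Subgroup.normal_mul, hPKt]; rfl)).index_eq_card])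
    have h2 : (Subgroup.centralizer ({y} : Set G)).index ∣ (P : Subgroup G).index := Subgroup.index_dvd_of_le hPy
    exact Nat.Coprime.coprime_dvd_left h1 (Nat.Coprime.coprime_dvd_right h2 P.card_coprime_index)
  · intro h
    apply (Cfsg.Agent.S3986.result (G := G) p).2
    intro x y hx hy
    have hle : Subgroup.centralizer ({x} : Set G) ⊓ Subgroup.centralizer ({y} : Set G) ≤ Subgroup.centralizer ({x * y} : Set G) := by
      intro w hw
      simp only [Subgroup.mem_inf, Subgroup.mem_centralizer_singleton_iff] at hw ⊢
      rw [← mul_assoc, hw.1, mul_assoc, hw.2, mul_assoc]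
    have hidx := Subgroup.index_inf_le (H := Subgroup.centralizer ({x} : Set G)) (K := Subgroup.centralizer ({y} : Set G))
    rw [← h x y hx hy] at hidx
    have heq : Subgroup.centralizer ({x} : Set G) ⊓ Subgroup.centralizer ({y} : Set G) = Subgroup.centralizer ({x * y} : Set G) := by
      by_contra hne
      have := Subgroup.index_strictAnti (lt_of_le_of_ne hle hne)
      omega
    have hmem : x * y ∈ Subgroup.centralizer ({x * y} : Set G) := Subgroup.mem_centralizer_singleton_iff.2 rfl
    rw [← heq] at hmem
    have := Subgroup.mem_centralizer_singleton_iff.1 hmem.1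
    rw [mul_assoc] at this
    exact (mul_left_cancel this).symm

end Cfsg.Agent.S3987
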