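import Cfsg.Statements.S3989
import Cfsg.Agent.H10.PSolvable
import Cfsg.Agent.H3.MinNormal
import Cfsg.Agent.H33.CyclicSylow
import Cfsg.Agent.H5.Frobenius
import Cfsg.Agent.H35.Basic

set_option autoImplicit false
open Cfsg

namespace Cfsg.Agent.S3989

universe u

/-- If `c * y⁻¹` is conjugate to `y⁻¹` and class products of `c` and `y⁻¹` form one class, then `y`
lies outside the normal closure of `c` unless it is trivial. -/
theorem eq_one_of_mem_normalClosure {G : Type u} [Group G] [Finite G] (c y : G)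
    (hprod : ∀ z : G, IsConj (c * y⁻¹) z ↔ ∃ a b : G, z = a * c * a⁻¹ * (b * y⁻¹ * b⁻¹))
    (hc : IsConj y⁻¹ (c * y⁻¹)) (hy : y ∈ Subgroup.normalClosure ({c} : Set G)) : y = 1 := by
  let H : Submonoid G :=
    { carrier := {n | ∀ b : G, IsConj y⁻¹ (n * (b * y⁻¹ * b⁻¹))}
      one_mem' := fun b => by
        rw [one_mul]
        exact isConj_iff.mpr ⟨b, rfl⟩
      mul_mem' := fun {m n} hm hn b => by
        obtain ⟨d, hd⟩ := isConj_iff.mp (hn b)
        rw [mul_assoc, ← hd]
        exact hm d }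
  have hcl : Group.conjugatesOfSet ({c} : Set G) ⊆ (H : Set G) := by
    intro w hw b
    obtain ⟨c', hc', hcw⟩ := Group.mem_conjugatesOfSet_iff.mp hw
    rw [Set.mem_singleton_iff] at hc'
    subst hc'
    obtain ⟨a, rfl⟩ := isConj_iff.mp hcw
    exact hc.trans ((hprod _).mpr ⟨a, b, rfl⟩)
  have h1 : y ∈ Submonoid.closure (Group.conjugatesOfSet ({c} : Set G)) := by
    rw [← Subgroup.closure_toSubmonoid_of_finite]
    exact hy
  have h2 : y ∈ H := Submonoid.closure_le.mpr hcl h1
  have h3 : IsConj y⁻¹ (y * (1 * y⁻¹ * 1⁻¹)) := h2 1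
  simp only [one_mul, inv_one, mul_one, mul_inv_cancel] at h3
  obtain ⟨d, hd⟩ := isConj_iff.mp h3
  rw [mul_inv_eq_one, mul_eq_left, inv_eq_one] at hd
  exact hd

/-- The class-product condition. -/
def Cond (p : ℕ) (G : Type u) [Group G] : Prop :=
  ∀ x y : G, (∃ a : ℕ, orderOf x = p ^ a) →
    (∃ q b : ℕ, q.Prime ∧ q ≠ p ∧ orderOf y = q ^ b) →
    ∀ z : G, IsConj (x * y) z ↔ ∃ a b : G, z = a * x * a⁻¹ * (b * y * b⁻¹)

theorem cond_quotient {p : ℕ} [Fact p.Prime] {G : Type u} [Group G] [Finite G] (h : Cond p G)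
    (M : Subgroup G) [M.Normal] : Cond p (G ⧸ M) := by
  intro x y hx hy z
  have hp : p.Prime := Fact.out
  have lift : ∀ (q : ℕ) (w : G ⧸ M), q.Prime → (∃ a : ℕ, orderOf w = q ^ a) →
      ∃ g : G, (∃ a : ℕ, orderOf g = q ^ a) ∧ QuotientGroup.mk' M g = w := by
    intro q w hq ⟨a, ha⟩
    have := Fact.mk hq
    obtain ⟨g, rfl⟩ := QuotientGroup.mk'_surjective M w
    obtain ⟨u, v, huv, ⟨k, hu⟩, hv, hu', hv'⟩ := H5.exists_p_decomposition (p := q) g
    obtain ⟨i, -, hi⟩ := (Nat.dvd_prime_pow hq).mp (orderOf_dvd_of_pow_eq_one hu)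
    refine ⟨u, ⟨i, hi⟩, ?_⟩
    have hdvd : orderOf (QuotientGroup.mk' M v) ∣ q ^ a := by
      obtain ⟨j, rfl⟩ := Subgroup.mem_zpowers_iff.mp hv'
      rw [map_zpow, ← ha]
      exact (orderOf_dvd_of_mem_zpowers ⟨j, rfl⟩)
    have h1 : orderOf (QuotientGroup.mk' M v) = 1 :=
      Nat.eq_one_of_dvd_coprimes (hv.pow_right a)
        (orderOf_map_dvd (QuotientGroup.mk' M) v) hdvd
    rw [huv, map_mul, orderOf_eq_one_iff.mp h1, mul_one]
  obtain ⟨x', hx', rfl⟩ := lift p x hp hx
  obtain ⟨q, b, hq, hqp, hb⟩ := hy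
  obtain ⟨y', ⟨b', hb'⟩, rfl⟩ := lift q y hq ⟨b, hb⟩
  have hh := h x' y' hx' ⟨q, b', hq, hqp, hb'⟩
  constructor
  · intro hz
    obtain ⟨d, rfl⟩ := isConj_iff.mp hz
    obtain ⟨d', rfl⟩ := QuotientGroup.mk'_surjective M d
    obtain ⟨a, c, hac⟩ := (hh _).mp (isConj_iff.mpr ⟨d', rfl⟩)
    refine ⟨QuotientGroup.mk' M a, QuotientGroup.mk' M c, ?_⟩
    simpa only [map_mul, map_inv] using congrArg (QuotientGroup.mk' M) hac
  · rintro ⟨a, c, rfl⟩
    obtain ⟨a', rfl⟩ := QuotientGroup.mk'_surjective M a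
    obtain ⟨c', rfl⟩ := QuotientGroup.mk'_surjective M c
    simpa only [map_mul, map_inv] using
      MonoidHom.map_isConj (QuotientGroup.mk' M) ((hh _).mpr ⟨a', c', rfl⟩)

theorem minNormal_pSolvable {p : ℕ} [Fact p.Prime] {G : Type u} [Group G] [Finite G]
    (h : Cond p G) (M : Subgroup G) [M.Normal]
    (hmin : ∀ K : Subgroup G, K.Normal → K ≤ M → K = ⊥ ∨ K = M) : Cfsg.IsPSolvable p M := by
  classical
  let P : Sylow p M := default
  refine H33.isPSolvable_of_hasNormalPComplement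
    (H5.hasNormalPComplement_of_frobenius P fun Q hQP g hg hgc => ?_)
  have key : Subgroup.zpowers g ≤ Subgroup.centralizer (Q : Set M) := by
    rw [← Subgroup.subgroupOf_eq_top]
    refine H35.eq_top_of_prime_pow_mem _ fun q b v hq hv => ?_
    rw [Subgroup.mem_subgroupOf]
    have hvN : (v : M) ∈ Subgroup.normalizer (Q : Set M) := (Subgroup.zpowers_le.mpr hg) v.2
    by_cases hb : b = 0
    · rw [hb, pow_zero, orderOf_eq_one_iff] at hv
      rw [hv]
      exact one_mem _
    have hqp : q ≠ p := by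
      rintro rfl
      have h1 : q ∣ orderOf g := by
        refine (dvd_pow_self q hb).trans ?_
        rw [← hv, ← Subgroup.orderOf_coe]
        exact orderOf_dvd_of_mem_zpowers v.2
      exact hq.ne_one (Nat.eq_one_of_dvd_coprimes hgc h1 dvd_rfl)
    intro x hx
    set c : M := (v : M) * x * (v : M)⁻¹ * x⁻¹ with hc
    by_contra hne
    have hcQ : c ∈ Q := Q.mul_mem ((Subgroup.mem_normalizer_iff.mp hvN x).mp hx) (Q.inv_mem hx)
    have hc1 : c ≠ 1 := by
      intro e
      apply hne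
      rw [hc, mul_inv_eq_one, mul_inv_eq_iff_eq_mul] at e
      exact e.symm
    obtain ⟨k, hk⟩ := (P.isPGroup'.to_le hQP) ⟨c, hcQ⟩
    have hk' : (c : G) ^ p ^ k = 1 := by
      have := congrArg (fun z : Q => ((z : M) : G)) hk
      simpa using this
    obtain ⟨i, -, hi⟩ := (Nat.dvd_prime_pow (Fact.out : p.Prime)).mp (orderOf_dvd_of_pow_eq_one hk')
    have hc1' : (c : G) ≠ 1 := fun e => hc1 (Subtype.ext e)
    have hNM : Subgroup.normalClosure ({(c : G)} : Set G) = M := by
      rcases hmin _ inferInstance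
        (Subgroup.normalClosure_le_normal (Set.singleton_subset_iff.mpr c.2)) with h1 | h1
      · have h2 := Subgroup.subset_normalClosure (Set.mem_singleton (c : G))
        rw [h1, SetLike.mem_coe, Subgroup.mem_bot] at h2
        exact absurd h2 hc1'
      · exact h1
    have hord : orderOf (((v : M) : G))⁻¹ = q ^ b := by
      rw [orderOf_inv, Subgroup.orderOf_coe, Subgroup.orderOf_coe, hv]
    have hv1 : ((v : M) : G) = 1 := by
      refine eq_one_of_mem_normalClosure (c : G) _ (h _ _ ⟨i, hi⟩ ⟨q, b, hq, hqp, hord⟩) ?_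
        (hNM.symm.le (v : M).2)
      refine isConj_iff.mpr ⟨((v : M) : G) * (x : G), ?_⟩
      rw [hc]
      push_cast
      group
    apply hne
    rw [show (v : M) = 1 from Subtype.ext hv1, one_mul, mul_one]
  exact key (Subgroup.mem_zpowers g)

theorem main {p : ℕ} [Fact p.Prime] : ∀ (n : ℕ) (G : Type u) [Group G] [Finite G],
    Nat.card G = n → Cond p G → Cfsg.IsPSolvable p G := by
  intro n
  induction n using Nat.strong_induction_on with
  | _ n ih =>
    intro G _ _ hn h
    rcases subsingleton_or_nontrivial G with hs | hs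
    · exact H10.isPSolvable_of_subsingleton
    obtain ⟨M, hM, hMne, hmin⟩ := H3.exists_minNormal (G := G)
    exact H10.isPSolvable_of_normal M (minNormal_pSolvable h M hmin)
      (ih _ ((H10.card_quotient_lt M hMne).trans_le hn.le) _ rfl (cond_quotient h M))

/-- Let p be a prime and G a finite group such that for every element x of p-power order and every element y whose order is a power of a prime other than p, the conjugacy class of x y is the set of all products of a conjugate of x with a conjugate of y. Then G is p-solvable. -/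
theorem result {G : Type*} [Group G] [Finite G] (p : ℕ) [Fact p.Prime] (h : ∀ x y : G, (∃ a : ℕ, orderOf x = p ^ a) → (∃ q b : ℕ, q.Prime ∧ q ≠ p ∧ orderOf y = q ^ b) → ∀ z : G, IsConj (x * y) z ↔ ∃ a b : G, z = a * x * a⁻¹ * (b * y * b⁻¹)) : Cfsg.IsPSolvable p G :=
  main _ G rfl h

end Cfsg.Agent.S3989
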