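import Cfsg.Statements.S3994
import Cfsg.Agent.H27.SolCount

set_option autoImplicit false
open Cfsg

namespace Cfsg.Agent.S3994

/-- Let G be a finite group and n a positive integer. The number of elements of G whose order is divisible by n is either 0 or divisible by the largest divisor of the order of G that is coprime to n. -/
theorem result {G : Type*} [Group G] [Finite G] (n : ℕ) (hn : 0 < n) :
    Nat.card {g : G // n ∣ orderOf g} = 0 ∨
      (Nat.card G / Nat.gcd (Nat.card G) (n ^ Nat.card G)) ∣ Nat.card {g : G // n ∣ orderOf g} := by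
  refine Or.inr ?_
  set N := Nat.card G
  set D := Nat.gcd N (n ^ N)
  have hN : N ≠ 0 := Nat.card_pos.ne'
  have hDN : D ∣ N := Nat.gcd_dvd_left _ _
  have hNeq : N = D * (N / D) := (Nat.mul_div_cancel' hDN).symm
  have key : ∀ q : ℕ, q.Prime → q ∣ n → ¬ q ∣ N / D := by
    intro q hq hqn hqM
    have hv : q ^ N.factorization q ∣ D :=
      Nat.dvd_gcd (Nat.ordProj_dvd N q)
        ((pow_dvd_pow_of_dvd hqn _).trans (pow_dvd_pow n (Nat.factorization_lt q hN).le))
    have h1 : q ^ (N.factorization q + 1) ∣ N := by
      rw [pow_succ]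
      calc q ^ N.factorization q * q ∣ D * (N / D) := mul_dvd_mul hv hqM
        _ = N := hNeq.symm
    exact Nat.pow_succ_factorization_not_dvd hN hq h1
  refine H27.dvd_card_dvd_orderOf n D (N / D) hNeq ?_ ?_
  · refine Nat.coprime_of_dvd fun q hq hqD => key q hq ?_
    exact hq.dvd_of_dvd_pow (hqD.trans (Nat.gcd_dvd_right _ _))
  · exact Nat.coprime_of_dvd fun q hq hqn => key q hq hqn

end Cfsg.Agent.S3994
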