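import Cfsg.Statements.S3995
import Cfsg.Agent.H26.OrderCount
import Cfsg.Agent.H2.UniqueSubgroup

set_option autoImplicit false
open Cfsg

namespace Cfsg.Agent.S3995

set_option linter.all false
set_option maxHeartbeats 800000

/-- Let G be a finite group such that the numbers of elements of each order that occurs in G (the numbers #{g : o(g) = m}, m ranging over the element orders of G) take exactly two values, 1 and some n ≠ 1. Then either G is a p-group of exponent p and order at least 3 for some prime p, or G is the quaternion group of order 8, or G is cyclic of order 4, or G ≅ Z₂ × P for a p-group P of exponent p with p an odd prime. -/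
theorem result {G : Type*} [Group G] [Finite G] (n : ℕ) (hn : n ≠ 1) (h : ((fun m : ℕ => Nat.card {g : G // orderOf g = m}) '' Set.range (orderOf : G → ℕ)) = {1, n}) :
    (∃ p : ℕ, p.Prime ∧ IsPGroup p G ∧ 3 ≤ Nat.card G ∧ Monoid.exponent G = p) ∨
      Nonempty (G ≃* QuaternionGroup 2) ∨ (IsCyclic G ∧ Nat.card G = 4) ∨
      (∃ (p : ℕ) (P : Type) (_ : Group P) (_ : Finite P), p.Prime ∧ p ≠ 2 ∧ IsPGroup p P ∧ Monoid.exponent P = p ∧
        Nonempty (G ≃* Multiplicative (ZMod 2) × P)) := by
  classical
  haveI h2f : Fact (Nat.Prime 2) := ⟨Nat.prime_two⟩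
  have hval : ∀ g : G, H26.ocnt G (orderOf g) = 1 ∨ H26.ocnt G (orderOf g) = n := by
    intro g
    have : H26.ocnt G (orderOf g) ∈ ((fun m : ℕ => Nat.card {g : G // orderOf g = m}) '' Set.range (orderOf : G → ℕ)) :=
      ⟨orderOf g, ⟨g, rfl⟩, rfl⟩
    rw [h] at this
    simpa using this
  obtain ⟨mN, ⟨gN, rfl⟩, hgN⟩ :
      n ∈ ((fun m : ℕ => Nat.card {g : G // orderOf g = m}) '' Set.range (orderOf : G → ℕ)) := by
    rw [h]; simp
  change H26.ocnt G (orderOf gN) = n at hgN
  have hbig : ∀ g : G, 3 ≤ orderOf g → H26.ocnt G (orderOf g) = n ∧ Even n := by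
    intro g hg
    have he := H26.even_ocnt (G := G) hg
    rcases hval g with h1 | h1
    · rw [h1] at he; exact absurd he (by decide)
    · exact ⟨h1, h1 ▸ he⟩
  have hn0 : 0 < n := hgN ▸ H26.ocnt_pos_iff.2 ⟨gN, rfl⟩
  have hn2 : 2 ≤ n := by omega
  have hgN1 : gN ≠ 1 := by
    rintro rfl
    rw [orderOf_one, H26.ocnt_one] at hgN
    exact hn hgN.symm
  have hcard3 : 3 ≤ Nat.card G := by
    haveI := Fintype.ofFinite G
    have h1 : H26.ocnt G (orderOf gN) + 1 ≤ Nat.card G := by
      rw [H26.ocnt, Nat.card_eq_fintype_card, Fintype.card_subtype, Nat.card_eq_fintype_card,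
        Nat.succ_le_iff, ← Finset.card_univ]
      refine Finset.card_lt_card (Finset.filter_ssubset.2 ⟨1, Finset.mem_univ _, ?_⟩)
      rw [orderOf_one]
      exact fun h1 => hgN1 (orderOf_eq_one_iff.1 h1.symm)
    omega
  -- facts about primes dividing the order
  have hprime : ∀ p, p.Prime → p ∣ Nat.card G → p ≠ 2 → H26.ocnt G p = n ∧ p ∣ 1 + n ∧
      ∀ g : G, orderOf g ≠ p ^ 2 := by
    intro p hp hpd hp2
    haveI := Fact.mk hp
    obtain ⟨x, hx⟩ := exists_prime_orderOf_dvd_card' p hpd
    have h3 : 3 ≤ p := by have := hp.two_le; omega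
    have h1 := (hbig x (hx ▸ h3)).1
    rw [hx] at h1
    have h4 := H26.dvd_one_add (G := G) hp hpd
    rw [h1] at h4
    refine ⟨h1, h4, fun g hg => ?_⟩
    have h5 := H26.dvd_sq (G := G) hp hpd
    rw [← hg, (hbig g (hg ▸ by nlinarith)).1] at h5
    have := (Nat.dvd_add_right h5).1 (add_comm 1 n ▸ h4)
    exact hp.one_lt.ne' (Nat.dvd_one.1 this)
  by_cases hodd : ∃ p, p.Prime ∧ p ∣ Nat.card G ∧ p ≠ 2
  · obtain ⟨p, hp, hpd, hp2⟩ := hodd
    haveI := Fact.mk hp
    obtain ⟨hfp, hpn, hnop⟩ := hprime p hp hpd hp2
    have hp3 : 3 ≤ p := by have := hp.two_le; omega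
    have heven : Even n := by
      obtain ⟨x, hx⟩ := exists_prime_orderOf_dvd_card' p hpd
      exact (hbig x (hx ▸ hp3)).2
    -- no other odd prime
    have honly : ∀ q, q.Prime → q ∣ Nat.card G → q = 2 ∨ q = p := by
      intro q hq hqd
      by_contra hne
      push Not at hne
      obtain ⟨hq2, hqp⟩ := hne
      obtain ⟨hfq, -, -⟩ := hprime q hq hqd hq2
      have h1 := H26.dvd_mul_left' (G := G) hp hq (Ne.symm hqp) hpd
      rw [hfq] at h1
      by_cases hex : 0 < H26.ocnt G (p * q)
      · obtain ⟨g, hg⟩ := H26.ocnt_pos_iff.1 hex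
        have h3 : 3 ≤ p * q := le_trans hp3 (Nat.le_mul_of_pos_right p hq.pos)
        rw [← hg, (hbig g (hg ▸ h3)).1] at h1
        have h4 : p ∣ 2 := (Nat.dvd_add_right h1).1 (by
          have : p ∣ 2 * (1 + n) := hpn.mul_left 2
          rwa [show n + n + 2 = 2 * (1 + n) by ring])
        exact absurd (Nat.le_of_dvd (by norm_num) h4) (by omega)
      · rw [Nat.eq_zero_of_not_pos hex, add_zero] at h1
        exact hp.one_lt.ne' (Nat.dvd_one.1 ((Nat.dvd_add_left h1).1 hpn))
    by_cases h2 : 2 ∣ Nat.card G
    · -- the order is `2 * p ^ a`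
      obtain ⟨z, hz⟩ := exists_prime_orderOf_dvd_card' 2 h2
      have hf2 : H26.ocnt G 2 = 1 := by
        rcases hval z with h1 | h1
        · rwa [hz] at h1
        · rw [hz] at h1
          have h3 := H26.dvd_one_add (G := G) Nat.prime_two h2
          rw [h1] at h3
          obtain ⟨k, rfl⟩ := heven
          omega
      have huz : ∀ y : G, orderOf y = 2 → y = z := by
        intro y hy
        obtain ⟨hs, -⟩ := Nat.card_eq_one_iff_unique.1 hf2
        exact congrArg Subtype.val (@Subsingleton.elim _ hs ⟨y, hy⟩ ⟨z, hz⟩)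
      have hzc : ∀ x : G, Commute z x := by
        intro x
        have h1 := huz (x * z * x⁻¹) (by rw [← MulAut.conj_apply, MulEquiv.orderOf_eq, hz])
        rw [mul_inv_eq_iff_eq_mul] at h1
        exact h1.symm
      have hcop : Nat.Coprime 2 p := (Nat.coprime_primes Nat.prime_two hp).2 (Ne.symm hp2)
      -- no elements of order four
      have h4 : ∀ g : G, orderOf g ≠ 4 := by
        intro g hg
        have hN := H26.dvd_sum_ocnt (G := G) (N := 4 * p) (r := p) (by omega) (dvd_mul_left p 4) hpd
        have hd4 : (4 : ℕ).divisors = {1, 2, 4} := by decide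
        rw [H26.sum_divisors_mul_prime hp (fun hd => hp2 (((Nat.prime_dvd_prime_iff_eq hp Nat.prime_two).1
          (hp.dvd_of_dvd_pow (n := 2) (by simpa using hd))))) (by norm_num), hd4] at hN
        rw [Finset.sum_insert (by decide), Finset.sum_pair (by decide), Finset.sum_insert (by decide),
          Finset.sum_pair (by decide), one_mul, H26.ocnt_one, hf2, hfp] at hN
        obtain ⟨x, hx⟩ := exists_prime_orderOf_dvd_card' p hpd
        have h2p : orderOf (z * x) = 2 * p := by
          rw [(hzc x).orderOf_mul_eq_mul_orderOf_of_coprime (by rw [hz, hx]; exact hcop), hz, hx]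
        rw [← hg, (hbig g (by omega)).1, ← h2p, (hbig (z * x) (by omega)).1] at hN
        by_cases hex : 0 < H26.ocnt G (orderOf g * p)
        · obtain ⟨y, hy⟩ := H26.ocnt_pos_iff.1 hex
          rw [← hy, (hbig y (by rw [hy, hg]; omega)).1] at hN
          have h5 : p ∣ 2 + 4 * n := by convert hN using 1; ring
          have h6 : p ∣ 4 * (1 + n) := hpn.mul_left 4
          have h7 : p ∣ 2 := by
            have := Nat.dvd_sub h6 h5
            rwa [show 4 * (1 + n) - (2 + 4 * n) = 2 by omega] at this
          exact absurd (Nat.le_of_dvd (by norm_num) h7) (by omega)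
        · rw [Nat.eq_zero_of_not_pos hex] at hN
          have h5 : p ∣ 2 + 3 * n := by convert hN using 1; ring
          have h6 : p ∣ 3 * (1 + n) := hpn.mul_left 3
          have h7 : p ∣ 1 := by
            have := Nat.dvd_sub h6 h5
            rwa [show 3 * (1 + n) - (2 + 3 * n) = 1 by omega] at this
          exact hp.one_lt.ne' (Nat.dvd_one.1 h7)
      obtain ⟨P⟩ : Nonempty (Sylow p G) := inferInstance
      have hzP : z ∉ (P : Subgroup G) := by
        intro hzP
        obtain ⟨k, hk⟩ := IsPGroup.iff_orderOf.1 P.2 ⟨z, hzP⟩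
        rw [Subgroup.orderOf_mk, hz] at hk
        exact hp2 ((Nat.prime_dvd_prime_iff_eq Nat.prime_two hp).1
          (Nat.prime_two.dvd_of_dvd_pow (dvd_of_eq hk))).symm
      have hidx : (P : Subgroup G).index = 2 := by
        have hdvd : (P : Subgroup G).index ∣ Nat.card G := (P : Subgroup G).index_dvd_card
        have hnd := P.not_dvd_index
        have hne : (P : Subgroup G).index ≠ 1 := fun h1 => hzP (by
          rw [Subgroup.index_eq_one] at h1; rw [h1]; trivial)
        obtain ⟨j, hj⟩ : ∃ j, (P : Subgroup G).index = 2 ^ j := by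
          refine ⟨_, Nat.eq_prime_pow_of_unique_prime_dvd (p := 2) Subgroup.index_ne_zero_of_finite ?_⟩
          intro q hq hqd
          rcases honly q hq (hqd.trans hdvd) with rfl | rfl
          · rfl
          · exact absurd hqd hnd
        rcases j with _ | _ | j
        · rw [hj, pow_zero] at hne; exact absurd rfl hne
        · rw [hj]; norm_num
        · exfalso
          have hd : 2 ^ 2 ∣ Nat.card G := (Dvd.intro (2 ^ j) (by rw [← pow_add]; congr 1; omega)).trans (hj ▸ hdvd)
          obtain ⟨K, hK⟩ := Sylow.exists_subgroup_card_pow_prime 2 hd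
          have hsub : (K : Set G) ⊆ {1, z} := by
            intro x hx
            have h5 : orderOf x ∣ 2 ^ 2 := by
              rw [← hK, ← Subgroup.orderOf_mk x hx]; exact orderOf_dvd_natCard _
            obtain ⟨i, hi, hxi⟩ := (Nat.dvd_prime_pow Nat.prime_two).1 h5
            interval_cases i
            · exact Or.inl (orderOf_eq_one_iff.1 hxi)
            · exact Or.inr (huz x hxi)
            · exact absurd hxi (h4 x)
          have h5 := Set.ncard_le_ncard hsub (Set.toFinite _)
          rw [← Nat.card_coe_set_eq] at h5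
          have h6 : ({1, z} : Set G).ncard ≤ 2 := le_trans (Set.ncard_insert_le _ _) (by simp)
          change Nat.card ↥K ≤ _ at h5
          rw [hK] at h5
          omega
      haveI : Finite (Shrink.{0} ↥(P : Subgroup G)) :=
        Finite.of_equiv _ (equivShrink.{0} ↥(P : Subgroup G))
      let e' : Shrink.{0} ↥(P : Subgroup G) ≃* ↥(P : Subgroup G) := Shrink.mulEquiv
      have hexpP : Monoid.exponent ↥(P : Subgroup G) = p := by
        have hd : Monoid.exponent ↥(P : Subgroup G) ∣ p := by
          rw [Monoid.exponent_dvd]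
          intro x
          obtain ⟨i, hi⟩ := IsPGroup.iff_orderOf.1 P.2 x
          rcases i with _ | _ | i
          · rw [hi, pow_zero]; exact one_dvd _
          · rw [hi, zero_add, pow_one]
          · exfalso
            refine hnop ((x : G) ^ p ^ i) ?_
            rw [orderOf_pow' _ (pow_ne_zero i hp.ne_zero), Subgroup.orderOf_coe, hi,
              Nat.gcd_eq_right (pow_dvd_pow p (by omega)), Nat.pow_div (by omega) hp.pos]
            congr 1; omega
        rcases (Nat.dvd_prime hp).1 hd with h1 | h1
        · exfalso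
          haveI := Monoid.exp_eq_one_iff.1 h1
          have h5 := (P : Subgroup G).card_mul_index
          rw [Nat.card_eq_one_iff_unique.2 ⟨inferInstance, ⟨1⟩⟩, hidx] at h5
          rw [← h5] at hpd
          exact absurd (Nat.le_of_dvd (by norm_num) hpd) (by omega)
        · exact h1
      refine Or.inr (Or.inr (Or.inr ⟨p, Shrink.{0} ↥(P : Subgroup G), inferInstance, inferInstance, hp, hp2,
        P.2.of_equiv e'.symm, ?_, ?_⟩))
      · rw [Monoid.exponent_eq_of_mulEquiv e', hexpP]
      · have hz2 : z ^ 2 = 1 := hz ▸ pow_orderOf_eq_one z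
        let i : Multiplicative (ZMod 2) →* G :=
          { toFun := fun a => z ^ (Multiplicative.toAdd a).val
            map_one' := by simp
            map_mul' := fun a b => by
              rw [← pow_add, toAdd_mul, ZMod.val_add]; exact (pow_eq_pow_mod _ hz2).symm }
        let f : Multiplicative (ZMod 2) × Shrink.{0} ↥(P : Subgroup G) →* G :=
          i.noncommCoprod (((P : Subgroup G).subtype).comp e'.toMonoidHom)
            (fun a b => (hzc _).pow_left _)
        have hinj : Function.Injective f := by
          rw [← MonoidHom.ker_eq_bot_iff, eq_bot_iff]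
          rintro ⟨a, b⟩ hab
          have hab' : z ^ (Multiplicative.toAdd a).val * ((e' b : ↥(P : Subgroup G)) : G) = 1 := hab
          have ha : (Multiplicative.toAdd a).val = 0 := by
            by_contra ha
            have : (Multiplicative.toAdd a).val = 1 := by
              have := ZMod.val_lt (Multiplicative.toAdd a); omega
            rw [this, pow_one, mul_eq_one_iff_eq_inv] at hab'
            exact hzP (hab' ▸ inv_mem (e' b).2)
          rw [ha, pow_zero, one_mul] at hab'
          have ha' : a = 1 := by
            rw [ZMod.val_eq_zero] at ha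
            exact ha
          have hb : b = 1 := e'.injective (by rw [map_one]; exact Subtype.ext hab')
          rw [Subgroup.mem_bot, ha', hb]; rfl
        refine ⟨(MulEquiv.ofBijective f ((Nat.bijective_iff_injective_and_card _).2 ⟨hinj, ?_⟩)).symm⟩
        rw [Nat.card_prod, ← (P : Subgroup G).card_mul_index, hidx, mul_comm, Nat.card_congr e'.toEquiv]
        simp
    · -- a `p`-group
      refine Or.inl ⟨p, hp, ?_, hcard3, ?_⟩
      · refine IsPGroup.of_card (n := (Nat.card G).primeFactorsList.length) ?_
        refine Nat.eq_prime_pow_of_unique_prime_dvd Nat.card_pos.ne' ?_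
        intro q hq hqd
        rcases honly q hq hqd with rfl | rfl
        · exact absurd hqd h2
        · rfl
      · have hd : Monoid.exponent G ∣ p := by
          rw [Monoid.exponent_dvd]
          intro x
          obtain ⟨i, hi⟩ : ∃ i, orderOf x = p ^ i := ⟨_, Nat.eq_prime_pow_of_unique_prime_dvd (orderOf_pos x).ne'
            (fun {q} hq hqd => (honly q hq (hqd.trans (orderOf_dvd_natCard x))).resolve_left
              (fun h' => h2 (h' ▸ hqd.trans (orderOf_dvd_natCard x))))⟩
          rcases i with _ | _ | i
          · rw [hi, pow_zero]; exact one_dvd _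
          · rw [hi, zero_add, pow_one]
          · exfalso
            refine hnop (x ^ p ^ i) ?_
            rw [orderOf_pow' _ (pow_ne_zero i hp.ne_zero), hi,
              Nat.gcd_eq_right (pow_dvd_pow p (by omega)), Nat.pow_div (by omega) hp.pos]
            congr 1; omega
        rcases (Nat.dvd_prime hp).1 hd with h1 | h1
        · exfalso
          haveI := Monoid.exp_eq_one_iff.1 h1
          exact hgN1 (Subsingleton.elim _ _)
        · exact h1
  · -- a 2-group
    push Not at hodd
    have h2g : IsPGroup 2 G := by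
      refine IsPGroup.of_card (n := (Nat.card G).primeFactorsList.length) ?_
      exact Nat.eq_prime_pow_of_unique_prime_dvd Nat.card_pos.ne' (fun {q} hq hqd => hodd q hq hqd)
    have h2d : 2 ∣ Nat.card G := by
      have hne : Nat.card G ≠ 1 := by omega
      obtain ⟨q, hq, hqd⟩ := Nat.exists_prime_and_dvd hne
      exact hodd q hq hqd ▸ hqd
    by_cases h3 : ∃ g : G, 3 ≤ orderOf g
    · obtain ⟨g, hg⟩ := h3
      have heven := (hbig g hg).2
      obtain ⟨z, hz⟩ := exists_prime_orderOf_dvd_card' 2 h2d
      have hf2 : H26.ocnt G 2 = 1 := by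
        rcases hval z with h1 | h1
        · rwa [hz] at h1
        · rw [hz] at h1
          have h4 := H26.dvd_one_add (G := G) Nat.prime_two h2d
          rw [h1] at h4
          obtain ⟨k, rfl⟩ := heven
          omega
      have h8 : ∀ x : G, orderOf x ∣ 4 := by
        intro x
        obtain ⟨i, hi⟩ := IsPGroup.iff_orderOf.1 h2g x
        rw [hi]
        by_contra hcon
        have hi3 : 3 ≤ i := by
          by_contra hlt
          exact hcon (by interval_cases i <;> norm_num)
        have hd8 : 2 ^ 3 ∣ Nat.card G := (pow_dvd_pow 2 hi3).trans (hi ▸ orderOf_dvd_natCard x)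
        have hN := H26.dvd_sum_ocnt (G := G) (N := 8) (r := 8) (by norm_num) dvd_rfl (by simpa using hd8)
        have hy : orderOf (x ^ 2 ^ (i - 3)) = 8 := by
          rw [orderOf_pow' _ (by positivity), hi, Nat.gcd_eq_right (pow_dvd_pow 2 (by omega)),
            Nat.pow_div (by omega) (by norm_num), show i - (i - 3) = 3 by omega]
        have hw : orderOf ((x ^ 2 ^ (i - 3)) ^ 2) = 4 := by
          rw [orderOf_pow' _ (by norm_num), hy]
          norm_num
        rw [show (8 : ℕ).divisors = {1, 2, 4, 8} by decide, Finset.sum_insert (by decide),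
          Finset.sum_insert (by decide), Finset.sum_pair (by decide), H26.ocnt_one, hf2, ← hy,
          (hbig _ (by omega : 3 ≤ orderOf (x ^ 2 ^ (i - 3)))).1, ← hw,
          (hbig _ (by omega : 3 ≤ orderOf ((x ^ 2 ^ (i - 3)) ^ 2))).1] at hN
        rw [hy] at hN
        obtain ⟨k, rfl⟩ := heven
        omega
      have huniq : ∀ H K : Subgroup G, Nat.card H = 2 → Nat.card K = 2 → H = K := by
        have key : ∀ H : Subgroup G, Nat.card H = 2 → H = Subgroup.zpowers z := by
          intro H hH
          obtain ⟨⟨a, ha⟩, ha'⟩ := exists_prime_orderOf_dvd_card' 2 (dvd_of_eq hH.symm)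
          rw [Subgroup.orderOf_mk] at ha'
          obtain ⟨hs, -⟩ := Nat.card_eq_one_iff_unique.1 hf2
          have haz : a = z := congrArg Subtype.val (@Subsingleton.elim _ hs ⟨a, ha'⟩ ⟨z, hz⟩)
          symm
          exact Subgroup.eq_of_le_of_card_ge (Subgroup.zpowers_le.2 (haz ▸ ha))
            (by rw [hH, Nat.card_zpowers, hz])
        exact fun H K hH hK => (key H hH).trans (key K hK).symm
      rcases H2.cyclic_or_quaternion h2g huniq with hc | ⟨k, ⟨e⟩⟩
      · refine Or.inr (Or.inr (Or.inl ⟨hc, ?_⟩))
        obtain ⟨a, ha⟩ := hc.exists_generator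
        have h1 := orderOf_eq_card_of_forall_mem_zpowers ha
        have h4 := Nat.le_of_dvd (by norm_num) (h8 a)
        have h5 := Nat.le_of_dvd (orderOf_pos g) (dvd_refl (orderOf g))
        have h6 : orderOf g ∣ Nat.card G := orderOf_dvd_natCard g
        have h7 := h8 a
        have := Nat.le_of_dvd (by omega) h6
        rw [h1] at h7 h4
        interval_cases (Nat.card G) <;> simp_all
      · haveI : NeZero (2 ^ k) := ⟨by positivity⟩
        have hcard : Nat.card G = 4 * 2 ^ k := by
          rw [Nat.card_congr e.toEquiv, Nat.card_eq_fintype_card, QuaternionGroup.card]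
        have hk := h8 (e.symm (QuaternionGroup.a 1))
        rw [MulEquiv.orderOf_eq, QuaternionGroup.orderOf_a_one] at hk
        have hk1 : k ≤ 1 := by
          by_contra hcon
          have h5 : 2 ^ 2 ≤ 2 ^ k := Nat.pow_le_pow_right (by norm_num) (by omega)
          have := Nat.le_of_dvd (by norm_num) hk
          omega
        interval_cases k
        · refine Or.inr (Or.inr (Or.inl ⟨?_, by simpa using hcard⟩))
          refine isCyclic_of_orderOf_eq_card (e.symm (QuaternionGroup.xa 0)) ?_
          rw [MulEquiv.orderOf_eq, QuaternionGroup.orderOf_xa, hcard]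
          norm_num
        · exact Or.inr (Or.inl ⟨e.trans (by rw [pow_one])⟩)
    · push Not at h3
      refine Or.inl ⟨2, Nat.prime_two, h2g, hcard3, ?_⟩
      have hd : Monoid.exponent G ∣ 2 := by
        rw [Monoid.exponent_dvd]
        intro x
        have := h3 x
        have := orderOf_pos x
        interval_cases (orderOf x) <;> norm_num
      rcases (Nat.dvd_prime Nat.prime_two).1 hd with h1 | h1
      · exfalso
        haveI := Monoid.exp_eq_one_iff.1 h1
        exact hgN1 (Subsingleton.elim _ _)
      · exact h1

end Cfsg.Agent.S3995
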