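import Cfsg.Statements.S3997
import Cfsg.Agent.H28.OrderType

set_option autoImplicit false
open Cfsg

namespace Cfsg.Agent.S3997

/-- Let G and H be finite groups with the same order type: for every m they have the same number of elements of order m. If G is nilpotent then so is H. -/
theorem result {G H : Type*} [Group G] [Finite G] [Group H] [Finite H] (hT : (∀ m : ℕ, Nat.card {g : G // orderOf g = m} = Nat.card {h : H // orderOf h = m})) (hG : Group.IsNilpotent G) :
    Group.IsNilpotent H := by
  obtain ⟨e, he⟩ := H28.exists_equiv_orderOf hT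
  refine ((Group.isNilpotent_of_finite_tfae (G := H)).out 0 3).mpr ?_
  intro p hp P
  haveI : Fact p.Prime := hp
  have hN : ∀ (q : ℕ) (_hq : Fact q.Prime) (Q : Sylow q G), (Q : Subgroup G).Normal :=
    ((Group.isNilpotent_of_finite_tfae (G := G)).out 0 3).mp hG
  obtain ⟨PG⟩ : Nonempty (Sylow p G) := inferInstance
  haveI := hN p hp PG
  have hG' : ∀ x : G, x ∈ (PG : Subgroup G) ↔ ∃ k, orderOf x = p ^ k := by
    intro x
    refine ⟨H28.exists_orderOf_eq_pow_of_mem_sylow PG, fun ⟨k, hk⟩ => ?_⟩
    obtain ⟨Q, hQ⟩ := (IsPGroup.of_card (n := k) (G := Subgroup.zpowers x) (p := p)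
      (by rw [Nat.card_zpowers, hk])).exists_le_sylow
    letI := Sylow.unique_of_normal PG inferInstance
    have : Q = PG := Subsingleton.elim _ _
    exact this ▸ hQ (Subgroup.mem_zpowers x)
  have hcard : Nat.card (P : Subgroup H) = Nat.card (PG : Subgroup G) := by
    rw [P.card_eq_multiplicity, PG.card_eq_multiplicity, Nat.card_congr e]
  refine H28.normal_of_mem_iff_orderOf _ (fun m => ∃ k, m = p ^ k) ?_
  refine H28.mem_iff_of_card_le _ _ (fun _ hx => H28.exists_orderOf_eq_pow_of_mem_sylow P hx) ?_
  rw [← H28.card_orderOf_pred_congr e he (fun m => ∃ k, m = p ^ k), hcard]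
  exact le_of_eq (Nat.card_congr (Equiv.subtypeEquivRight fun x => (hG' x).symm))

end Cfsg.Agent.S3997
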