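import Cfsg.Statements.S4001
import Cfsg.Agent.H28.TwoFrobenius
import Cfsg.Agent.H28.PowerGraph

set_option autoImplicit false
open Cfsg

namespace Cfsg.Agent.S4001

/-- Let G be a 2-Frobenius group: it has normal subgroups H < K with K a Frobenius group with kernel H and G/H a Frobenius group with kernel K/H. Then G is solvable; K/H has odd order coprime to the order of H and to the order of G/K (it is the image of an odd-order Hall subgroup); G/K is cyclic; and the prime graph of G has exactly two connected components, both complete: for distinct primes p, q dividing the order of G, G has an element of order pq exactly when p and q either both divide the order of K/H or both do not. -/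
theorem result {G : Type*} [Group G] [Finite G] (H K : Subgroup G) [H.Normal] [K.Normal] (hlt : H < K)
    (hK : ∃ C : Subgroup ↥K, Cfsg.IsFrobeniusComplement C ∧ Cfsg.frobeniusKernel C = (H.subgroupOf K : Set ↥K))
    (hGH : ∃ C : Subgroup (G ⧸ H), Cfsg.IsFrobeniusComplement C ∧ Cfsg.frobeniusKernel C = (K.map (QuotientGroup.mk' H) : Set (G ⧸ H))) :
    Group.IsSolvable G ∧ Odd (Nat.card (↥K ⧸ H.subgroupOf K)) ∧
      Nat.Coprime (Nat.card (↥K ⧸ H.subgroupOf K)) (Nat.card ↥H * Nat.card (G ⧸ K)) ∧ IsCyclic (G ⧸ K) ∧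
      ∀ p q : ℕ, p.Prime → q.Prime → p ≠ q → p ∣ Nat.card G → q ∣ Nat.card G →
        ((∃ g : G, orderOf g = p * q) ↔ (p ∣ Nat.card (↥K ⧸ H.subgroupOf K) ↔ q ∣ Nat.card (↥K ⧸ H.subgroupOf K))) := by
  classical
  obtain ⟨C₀, hC₀, hC₀k⟩ := hK
  obtain ⟨D, hD, hDk⟩ := hGH
  set H' := H.subgroupOf K with hH'
  obtain ⟨N₁, hN₁, hN₁n, hc₁⟩ := H2.exists_kernel hC₀
  obtain rfl : N₁ = H' := SetLike.coe_injective (hN₁.trans hC₀k)
  set Kb := K.map (QuotientGroup.mk' H) with hKb
  obtain ⟨N₂, hN₂, hN₂n, hc₂⟩ := H2.exists_kernel hD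
  obtain rfl : N₂ = Kb := SetLike.coe_injective (hN₂.trans hDk)
  haveI := hN₂n
  have hHnil : Group.IsNilpotent H := by
    obtain ⟨N, hN, -, hnil⟩ := Cfsg.Agent.S0042.result C₀ hC₀
    obtain rfl : N = H' := SetLike.coe_injective (hN.trans hC₀k)
    haveI := hnil
    exact Group.nilpotent_of_mulEquiv (Subgroup.subgroupOfEquivOfLe hlt.le)
  have hKbnil : Group.IsNilpotent Kb := by
    obtain ⟨N, hN, -, hnil⟩ := Cfsg.Agent.S0042.result D hD
    obtain rfl : N = Kb := SetLike.coe_injective (hN.trans hDk)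
    exact hnil
  -- the complement inside `G`
  set C := C₀.map K.subtype with hCdef
  have hCK : C ≤ K := Subgroup.map_subtype_le _
  have hfpf₁ : ∀ c ∈ C, c ≠ 1 → H ⊓ Subgroup.centralizer {c} = ⊥ := by
    rintro _ ⟨c, hc, rfl⟩ hc1
    rw [Subgroup.eq_bot_iff_forall]
    rintro h ⟨hh, hhc⟩
    have h1 : (⟨h, hlt.le hh⟩ : K) ∈ H' ⊓ Subgroup.centralizer {c} :=
      ⟨Subgroup.mem_subgroupOf.mpr hh, Subgroup.mem_centralizer_singleton_iff.mpr
        (Subtype.ext (Subgroup.mem_centralizer_singleton_iff.mp hhc))⟩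
    rw [H2.fpf_of_frobenius hc₁ hC₀ c hc (fun e => hc1 (by rw [e]; rfl)), Subgroup.mem_bot] at h1
    exact congrArg Subtype.val h1
  have hCH : ∀ c ∈ C, c ∈ H → c = 1 := by
    rintro _ ⟨c, hc, rfl⟩ hcH
    rw [H2.complement_inf hc₁ (Subgroup.mem_subgroupOf.mpr hcH) hc, map_one]
  have hn : Nat.card (↥K ⧸ H') = Nat.card C := by
    rw [Subgroup.card_map_of_injective K.subtype_injective, ← Subgroup.index_eq_card]
    exact hc₁.symm.index_eq_card
  -- the complement maps onto the kernel of the quotient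
  let f : C →* G ⧸ H := (QuotientGroup.mk' H).comp C.subtype
  have hfinj : Function.Injective f := by
    rw [injective_iff_map_eq_one]
    intro c hc
    exact Subtype.ext (hCH c c.2 ((QuotientGroup.eq_one_iff (c : G)).mp hc))
  have hfr : f.range = Kb := by
    refine Subgroup.eq_of_le_of_card_ge ?_ (le_of_eq ?_)
    · rintro _ ⟨c, rfl⟩
      exact ⟨c, hCK c.2, rfl⟩
    · rw [← Nat.card_congr (MonoidHom.ofInjective hfinj).toEquiv, ← hn,
        ← Subgroup.index_eq_card, hKb]
      have h := Subgroup.index_ker ((QuotientGroup.mk' H).comp K.subtype)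
      rw [MonoidHom.range_comp, Subgroup.range_subtype, ← MonoidHom.comap_ker,
        QuotientGroup.ker_mk'] at h
      exact h.symm
  let eC : C ≃* Kb := (MonoidHom.ofInjective hfinj).trans (MulEquiv.subgroupCongr hfr)
  have hCnil : Group.IsNilpotent C := by
    haveI := hKbnil
    exact Group.nilpotent_of_mulEquiv eC.symm
  -- an abelian normal subgroup of `G` inside `H`
  have hH1 : H ≠ ⊥ := by
    intro h
    refine hC₀.2.1 (eq_top_iff.mpr fun k _ => ?_)
    obtain ⟨a, ha, c, hc, rfl⟩ := H2.complement_decomp hc₁ k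
    have : (a : G) = 1 := by
      have := Subgroup.mem_subgroupOf.mp ha
      rwa [h, Subgroup.mem_bot] at this
    rw [show a = 1 from Subtype.ext this, one_mul]
    exact hc
  haveI : Nontrivial H := (Subgroup.nontrivial_iff_ne_bot H).mpr hH1
  set V := (Subgroup.center H).map H.subtype with hVdef
  haveI : V.Normal := inferInstance
  haveI : IsMulCommutative V := inferInstance
  have hV1 : V ≠ ⊥ := by
    intro h
    haveI := hHnil
    rw [hVdef, Subgroup.map_eq_bot_iff_of_injective _ H.subtype_injective] at h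
    exact Group.IsNilpotent.center_ne_bot (G := H) h
  have hfpfV : ∀ c ∈ C, c ≠ 1 → V ⊓ Subgroup.centralizer {c} = ⊥ := fun c hc hc1 =>
    le_bot_iff.mp ((inf_le_inf_right _ (Subgroup.map_subtype_le _)).trans (hfpf₁ c hc hc1).le)
  have hfpf₂ : ∀ d ∈ D, d ≠ 1 → Kb ⊓ Subgroup.centralizer {d} = ⊥ := H2.fpf_of_frobenius hc₂ hD
  -- odd order
  have hodd : Odd (Nat.card C) := by
    rw [← Nat.not_even_iff_odd, even_iff_two_dvd]
    intro h2
    haveI : Fact (Nat.Prime 2) := ⟨Nat.prime_two⟩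
    obtain ⟨z, hz⟩ := exists_prime_orderOf_dvd_card' (G := C) 2 h2
    have hinv : ∀ t : C, orderOf t = 2 → ∀ v ∈ V, (t : G) * v * (t : G)⁻¹ = v⁻¹ := by
      intro t ht v hv
      have ht2 : (t : G) * t = 1 := by
        rw [← pow_two, ← ht, ← Subgroup.orderOf_coe, pow_orderOf_eq_one]
      have htinv : (t : G)⁻¹ = t := inv_eq_of_mul_eq_one_right ht2
      have hv' : (t : G) * v * (t : G)⁻¹ ∈ V := (inferInstance : V.Normal).conj_mem v hv t
      have hc : v * ((t : G) * v * (t : G)⁻¹) ∈ V ⊓ Subgroup.centralizer {(t : G)} := by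
        refine ⟨V.mul_mem hv hv', Subgroup.mem_centralizer_singleton_iff.mpr ?_⟩
        have hcm : v * ((t : G) * v * (t : G)⁻¹) = (t : G) * v * (t : G)⁻¹ * v :=
          congrArg Subtype.val (mul_comm' (⟨v, hv⟩ : V) ⟨_, hv'⟩)
        rw [htinv] at hcm ⊢
        calc v * (↑t * v * ↑t) * ↑t = v * ↑t * v * (↑t * ↑t) := by group
          _ = v * ↑t * v := by rw [ht2, mul_one]
          _ = (↑t * ↑t) * (v * ↑t * v) := by rw [ht2, one_mul]
          _ = ↑t * (↑t * v * ↑t * v) := by group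
          _ = ↑t * (v * (↑t * v * ↑t)) := by rw [← hcm]
      rw [hfpfV t t.2 (fun e => by
        rw [← Subgroup.orderOf_coe, e, orderOf_one] at ht; exact absurd ht (by norm_num)),
        Subgroup.mem_bot] at hc
      exact eq_inv_of_mul_eq_one_right hc
    have huniq : ∀ t : C, orderOf t = 2 → t = z := by
      intro t ht
      by_contra hne
      obtain ⟨v, hv, hv1⟩ : ∃ v ∈ V, v ≠ 1 :=
        (Subgroup.ne_bot_iff_exists_ne_one.mp hV1).elim fun v hv =>
          ⟨v, v.2, fun e => hv (Subtype.ext e)⟩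
      have h1 : v ∈ V ⊓ Subgroup.centralizer {((t * z : C) : G)} := by
        refine ⟨hv, Subgroup.mem_centralizer_singleton_iff.mpr ?_⟩
        have e : ((t * z : C) : G) * v * ((t * z : C) : G)⁻¹ = v := by
          rw [Subgroup.coe_mul, show (t : G) * z * v * ((t : G) * z)⁻¹ =
            (t : G) * ((z : G) * v * (z : G)⁻¹) * (t : G)⁻¹ by group, hinv z hz v hv,
            hinv t ht _ (V.inv_mem hv), inv_inv]
        exact (mul_inv_eq_iff_eq_mul.mp e).symm
      rw [hfpfV _ (t * z).2 (fun e => hne ?_), Subgroup.mem_bot] at h1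
      · exact hv1 h1
      · have hz2 : z * z = 1 := by rw [← pow_two, ← hz, pow_orderOf_eq_one]
        have e' : t * z = 1 := Subtype.ext e
        exact mul_right_cancel (e'.trans hz2.symm)
    obtain ⟨d, hd, hd1⟩ : ∃ d ∈ D, d ≠ 1 :=
      (Subgroup.ne_bot_iff_exists_ne_one.mp hD.1).elim fun d hd =>
        ⟨d, d.2, fun e => hd (Subtype.ext e)⟩
    set zb : G ⧸ H := (eC z : G ⧸ H)
    have hzb : orderOf zb = 2 := by
      rw [Subgroup.orderOf_coe, MulEquiv.orderOf_eq, hz]
    have hconj : d * zb * d⁻¹ = zb := by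
      have hm : d * zb * d⁻¹ ∈ Kb := hN₂n.conj_mem _ (eC z).2 d
      obtain ⟨t, ht⟩ := eC.surjective ⟨_, hm⟩
      have ho : orderOf t = 2 := by
        rw [← MulEquiv.orderOf_eq eC, ← Subgroup.orderOf_coe, ht]
        show orderOf (d * zb * d⁻¹) = 2
        rw [← MulAut.conj_apply, MulEquiv.orderOf_eq, hzb]
      have := congrArg (fun w : Kb => (w : G ⧸ H)) ht
      rw [huniq t ho] at this
      exact this.symm
    have : zb ∈ Kb ⊓ Subgroup.centralizer {d} :=
      ⟨(eC z).2, Subgroup.mem_centralizer_singleton_iff.mpr (mul_inv_eq_iff_eq_mul.mp hconj).symm⟩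
    rw [hfpf₂ d hd hd1, Subgroup.mem_bot] at this
    rw [this, orderOf_one] at hzb
    exact absurd hzb (by norm_num)
  haveI hCcyc : IsCyclic C := H28.TwoFrob.isCyclic_of_fpf_nilpotent V C hV1 hfpfV hCnil hodd
  haveI hKbcyc : IsCyclic Kb := eC.isCyclic.mp hCcyc
  haveI : IsMulCommutative Kb := ⟨⟨fun a b => (IsCyclic.isMulCommutative.is_comm).comm a b⟩⟩
  have hKb1 : Kb ≠ ⊥ := by
    intro h
    obtain ⟨k, hk, hkH⟩ := SetLike.exists_of_lt hlt
    have : QuotientGroup.mk' H k ∈ Kb := ⟨k, hk, rfl⟩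
    rw [h, Subgroup.mem_bot] at this
    exact hkH ((QuotientGroup.eq_one_iff k).mp this)
  haveI hDcyc : IsCyclic D := by
    have hcomm : IsMulCommutative D := by
      refine ⟨⟨fun a b => ?_⟩⟩
      let φ : D →* MulAut Kb := (MulAut.conjNormal : (G ⧸ H) →* MulAut Kb).comp D.subtype
      have hinj : Function.Injective φ := by
        rw [injective_iff_map_eq_one]
        intro d hd
        by_contra hd1
        obtain ⟨k, hk, hk1⟩ : ∃ k ∈ Kb, k ≠ 1 :=
          (Subgroup.ne_bot_iff_exists_ne_one.mp hKb1).elim fun v hv =>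
            ⟨v, v.2, fun e => hv (Subtype.ext e)⟩
        have h0 : (φ d) ⟨k, hk⟩ = ⟨k, hk⟩ := DFunLike.congr_fun hd ⟨k, hk⟩
        have h1 : (d : G ⧸ H) * k * (d : G ⧸ H)⁻¹ = k := congrArg Subtype.val h0
        have : k ∈ Kb ⊓ Subgroup.centralizer {(d : G ⧸ H)} :=
          ⟨hk, Subgroup.mem_centralizer_singleton_iff.mpr (mul_inv_eq_iff_eq_mul.mp h1).symm⟩
        rw [hfpf₂ d d.2 (fun e => hd1 (Subtype.ext e)), Subgroup.mem_bot] at this
        exact hk1 this
      refine hinj ?_
      rw [map_mul, map_mul]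
      exact MulEquiv.ext fun k => by
        obtain ⟨g, hg⟩ := hKbcyc.exists_generator
        obtain ⟨i, hi⟩ := hg (φ a g)
        obtain ⟨j, hj⟩ := hg (φ b g)
        obtain ⟨m, rfl⟩ := hg k
        simp only [MulAut.mul_apply, map_zpow]
        simp only at hi hj
        rw [← hj, map_zpow, ← hi, map_zpow, ← hj, ← zpow_mul, ← zpow_mul, ← zpow_mul, ← zpow_mul]
        congr 1; ring
    exact H2.isCyclic_of_fpf_subgroup (A := D) (V := Kb)
      (by rw [Subgroup.normalizer_eq_top]; exact le_top) hKb1 hfpf₂ (Or.inl hcomm)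
  let eD : G ⧸ K ≃* D :=
    (QuotientGroup.quotientQuotientEquivQuotient H K hlt.le).symm.trans
      hc₂.symm.QuotientMulEquiv
  haveI hGK : IsCyclic (G ⧸ K) := eD.symm.isCyclic.mp hDcyc
  have hDcard : Nat.card (G ⧸ K) = Nat.card D := Nat.card_congr eD.toEquiv
  have hCco : (Nat.card C).Coprime (Nat.card H) := H3.coprime_card_of_fpf hfpf₁
  have hKbcard : Nat.card Kb = Nat.card C := (Nat.card_congr eC.toEquiv).symm
  have hDco : (Nat.card C).Coprime (Nat.card (G ⧸ K)) := by
    rw [hDcard, ← hKbcard]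
    exact (H3.coprime_card_of_fpf hfpf₂).symm
  have hsolH : Group.IsSolvable H := by haveI := hHnil; infer_instance
  have hsolK : Group.IsSolvable K := by
    refine H1.isSolvable_of_normal H' ?_ ?_
    · haveI := hsolH
      exact Group.isSolvable_of_isSolvable_injective (f := (Subgroup.subgroupOfEquivOfLe hlt.le).toMonoidHom)
        (Subgroup.subgroupOfEquivOfLe hlt.le).injective
    · let eK : ↥K ⧸ H' ≃* C₀ := hc₁.symm.QuotientMulEquiv
      haveI : IsCyclic C₀ := (C₀.equivMapOfInjective _ K.subtype_injective).symm.isCyclic.mp hCcyc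
      haveI : IsCyclic (↥K ⧸ H') := eK.symm.isCyclic.mp inferInstance
      exact Group.isSolvable_of_comm fun a b => (IsCyclic.isMulCommutative.is_comm).comm a b
  have hsol : Group.IsSolvable G := H1.isSolvable_of_normal K hsolK
    (Group.isSolvable_of_comm fun a b => (IsCyclic.isMulCommutative.is_comm).comm a b)
  have hcardG : Nat.card G = Nat.card H * Nat.card C * Nat.card (G ⧸ K) := by
    rw [Subgroup.card_eq_card_quotient_mul_card_subgroup K,
      Subgroup.card_eq_card_quotient_mul_card_subgroup H', hn,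
      Nat.card_congr (Subgroup.subgroupOfEquivOfLe hlt.le).toEquiv]
    ring
  refine ⟨hsol, hn ▸ hodd, hn ▸ Nat.Coprime.mul_right hCco hDco, hGK, ?_⟩
  intro p q hp hq hpq hpG hqG
  rw [hn]
  have hPrimeDvd : ∀ r : ℕ, r.Prime → r ∣ Nat.card C → ¬ r ∣ Nat.card H ∧ ¬ r ∣ Nat.card (G ⧸ K) :=
    fun r hr hrC => ⟨fun h => hr.ne_one (Nat.eq_one_of_dvd_coprimes hCco hrC h),
      fun h => hr.ne_one (Nat.eq_one_of_dvd_coprimes hDco hrC h)⟩
  -- the quotient by `H` maps `K` to `Kb`
  have hKbmem : ∀ g : G, (QuotientGroup.mk g : G ⧸ H) ∈ Kb → g ∈ K := by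
    rintro g ⟨k, hk, hkg⟩
    have := hlt.le (QuotientGroup.eq.mp hkg)
    have h := K.mul_mem hk this
    rwa [mul_inv_cancel_left] at h
  have hmk1 : ∀ g : G, (QuotientGroup.mk g : G ⧸ H) = 1 → g ∈ H := fun g h =>
    (QuotientGroup.eq_one_iff g).mp h
  have hmixed : ∀ {p q : ℕ}, p.Prime → q.Prime → p ≠ q → p ∣ Nat.card C → ¬ q ∣ Nat.card C →
      ¬ ∃ g : G, orderOf g = p * q := by
    rintro p q hp hq hpq hpC hqC ⟨g, hg⟩
    have ha : orderOf (g ^ q) = p := by
      rw [orderOf_pow' g hq.ne_zero, hg, Nat.gcd_mul_left_left, Nat.mul_div_cancel _ hq.pos]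
    have hb : orderOf (g ^ p) = q := by
      rw [orderOf_pow' g hp.ne_zero, hg, Nat.gcd_mul_right_left, Nat.mul_div_cancel_left _ hp.pos]
    have hab : Commute (g ^ q) (g ^ p) := Commute.pow_pow (Commute.refl g) q p
    obtain ⟨hpH, hpD⟩ := hPrimeDvd p hp hpC
    have haK : g ^ q ∈ K := by
      rw [← QuotientGroup.eq_one_iff]
      by_contra h1
      refine hpD ?_
      have h2 : orderOf (QuotientGroup.mk (g ^ q) : G ⧸ K) ∣ p :=
        ha ▸ orderOf_map_dvd (QuotientGroup.mk' K) (g ^ q)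
      rcases (Nat.dvd_prime hp).mp h2 with h3 | h3
      · exact absurd (orderOf_eq_one_iff.mp h3) h1
      · exact h3 ▸ orderOf_dvd_natCard _
    have haH : g ^ q ∉ H := fun h => hpH (ha ▸ Subgroup.orderOf_dvd_natCard H h)
    have hbK : g ^ p ∈ K := hKbmem _ (H28.TwoFrob.mem_kernel_of_commute hc₂ inferInstance hfpf₂
      (a := (QuotientGroup.mk (g ^ q) : G ⧸ H)) ⟨_, haK, rfl⟩ (fun h => haH (hmk1 _ h))
      (hab.map (QuotientGroup.mk' H)))
    have hbH : g ^ p ∈ H := by
      refine hmk1 _ ?_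
      by_contra h1
      refine hqC ?_
      have h2 : orderOf (QuotientGroup.mk (g ^ p) : G ⧸ H) ∣ q :=
        hb ▸ orderOf_map_dvd (QuotientGroup.mk' H) (g ^ p)
      rcases (Nat.dvd_prime hq).mp h2 with h3 | h3
      · exact absurd (orderOf_eq_one_iff.mp h3) h1
      · rw [← hKbcard, ← h3]
        exact Subgroup.orderOf_dvd_natCard Kb ⟨_, hbK, rfl⟩
    -- `g ^ q` lies in a conjugate of the complement
    have hnot : (⟨g ^ q, haK⟩ : K) ∉ Cfsg.frobeniusKernel C₀ := by
      rw [hC₀k]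
      exact fun h => haH (Subgroup.mem_subgroupOf.mp h)
    simp only [Cfsg.frobeniusKernel, Set.mem_setOf_eq, not_or, not_forall, not_not] at hnot
    obtain ⟨-, k, hk⟩ := hnot
    have hc := H2.mem_conj_smul.mp hk
    have h1 : (k : G)⁻¹ * g ^ p * k ∈
        H ⊓ Subgroup.centralizer {(k : G)⁻¹ * g ^ q * k} := by
      refine ⟨by simpa using (inferInstance : H.Normal).conj_mem _ hbH (k : G)⁻¹,
        Subgroup.mem_centralizer_singleton_iff.mpr ?_⟩
      calc (k : G)⁻¹ * g ^ p * k * ((k : G)⁻¹ * g ^ q * k)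
          = (k : G)⁻¹ * (g ^ p * g ^ q) * k := by group
        _ = (k : G)⁻¹ * (g ^ q * g ^ p) * k := by rw [hab.eq]
        _ = (k : G)⁻¹ * g ^ q * k * ((k : G)⁻¹ * g ^ p * k) := by group
    rw [hfpf₁ _ ⟨_, hc, by simp⟩ (fun e => haH (by
      have e' : g ^ q = 1 := by
        rw [show g ^ q = (k : G) * ((k : G)⁻¹ * g ^ q * k) * (k : G)⁻¹ by group, e]; group
      rw [e']; exact H.one_mem)), Subgroup.mem_bot] at h1
    have h2 : g ^ p = 1 := by
      rw [show g ^ p = (k : G) * ((k : G)⁻¹ * g ^ p * k) * (k : G)⁻¹ by group, h1]; group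
    rw [h2, orderOf_one] at hb
    exact hq.ne_one hb.symm
  constructor
  · intro hg
    refine ⟨fun hpC => ?_, fun hqC => ?_⟩
    · by_contra hqC
      exact hmixed hp hq hpq hpC hqC hg
    · by_contra hpC
      exact hmixed hq hp hpq.symm hqC hpC (by rwa [mul_comm])
  intro hiff
  by_cases hpC : p ∣ Nat.card C
  · obtain ⟨g, hg⟩ := hCcyc.exists_generator
    have hd : p * q ∣ orderOf g := by
      rw [orderOf_eq_card_of_forall_mem_zpowers hg]
      exact ((Nat.coprime_primes hp hq).mpr hpq).mul_dvd_of_dvd_of_dvd hpC (hiff.mp hpC)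
    refine ⟨(g : G) ^ (orderOf g / (p * q)), ?_⟩
    rw [← Subgroup.orderOf_coe] at hd
    rw [← Subgroup.orderOf_coe]
    exact orderOf_pow_orderOf_div (orderOf_pos _).ne' hd
  have hqC : ¬ q ∣ Nat.card C := fun h => hpC (hiff.mpr h)
  have hsplit : ∀ r : ℕ, r.Prime → r ∣ Nat.card G → ¬ r ∣ Nat.card C →
      r ∣ Nat.card H ∨ r ∣ Nat.card (G ⧸ K) := by
    intro r hr hrG hrC
    rw [hcardG] at hrG
    rcases hr.dvd_mul.mp hrG with h | h
    · exact Or.inl ((hr.dvd_mul.mp h).resolve_right hrC)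
    · exact Or.inr h
  -- the case of a prime of `H` and a prime of `G / K`
  have hcross : ∀ {p q : ℕ}, p.Prime → q.Prime → p ≠ q → p ∣ Nat.card H → ¬ q ∣ Nat.card H →
      ¬ q ∣ Nat.card C → q ∣ Nat.card (G ⧸ K) → ∃ g : G, orderOf g = p * q := by
    intro p q hp hq hpq hpH hqH hqC hqD
    haveI := Fact.mk hp
    haveI := Fact.mk hq
    by_contra hno
    obtain ⟨r, hr, hrC⟩ := Nat.exists_prime_and_dvd (n := Nat.card C) (by
      intro h
      rw [Subgroup.card_eq_one] at h
      exact hKb1 (Subgroup.card_eq_one.mp (by rw [hKbcard, h, Subgroup.card_bot])))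
    haveI := Fact.mk hr
    obtain ⟨c₀, hc₀⟩ := exists_prime_orderOf_dvd_card' (G := C) r hrC
    rw [← Subgroup.orderOf_coe] at hc₀
    obtain ⟨hrH, hrD⟩ := hPrimeDvd r hr hrC
    have hrp : r ≠ p := fun e => hrH (e ▸ hpH)
    have hrq : r ≠ q := fun e => hrD (e ▸ hqD)
    set R := Subgroup.zpowers (c₀ : G) with hR
    have hRK : R ≤ K := Subgroup.zpowers_le.mpr (hCK c₀.2)
    have hcb : orderOf (QuotientGroup.mk (c₀ : G) : G ⧸ H) = r := by
      refine ((Nat.dvd_prime hr).mp (hc₀ ▸ orderOf_map_dvd (QuotientGroup.mk' H) (c₀ : G))).resolve_left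
        fun h => hrH ?_
      exact hc₀ ▸ Subgroup.orderOf_dvd_natCard H (hmk1 _ (orderOf_eq_one_iff.mp h))
    -- `H R` is normal
    have hmemM : ∀ y : G, y ∈ H ⊔ R ↔ (QuotientGroup.mk y : G ⧸ H) ∈
        Subgroup.zpowers (QuotientGroup.mk (c₀ : G) : G ⧸ H) := by
      intro y
      rw [show Subgroup.zpowers (QuotientGroup.mk (c₀ : G) : G ⧸ H) = R.map (QuotientGroup.mk' H)
        from (MonoidHom.map_zpowers (QuotientGroup.mk' H) (c₀ : G)).symm]
      rw [show ((QuotientGroup.mk y : G ⧸ H) ∈ R.map (QuotientGroup.mk' H)) ↔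
        y ∈ (R.map (QuotientGroup.mk' H)).comap (QuotientGroup.mk' H) from Iff.rfl,
        Subgroup.comap_map_eq, QuotientGroup.ker_mk', sup_comm]
    haveI hMn : (H ⊔ R).Normal := by
      refine ⟨fun y hy g => ?_⟩
      rw [hmemM] at hy ⊢
      obtain ⟨i, hi⟩ := hy
      simp only at hi
      rw [QuotientGroup.mk_mul, QuotientGroup.mk_mul, QuotientGroup.mk_inv, ← hi, ← conj_zpow]
      refine Subgroup.zpow_mem _ ?_ i
      set cb := (QuotientGroup.mk (c₀ : G) : G ⧸ H)
      have hcbK : cb ∈ Kb := ⟨_, hCK c₀.2, rfl⟩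
      obtain ⟨w, hw⟩ := hKbcyc.exists_generator
      have hsame : Subgroup.zpowers (⟨_, hN₂n.conj_mem _ hcbK (QuotientGroup.mk g)⟩ : Kb) =
          Subgroup.zpowers (⟨cb, hcbK⟩ : Kb) :=
        H28.PG.zpowers_eq_of_orderOf_eq (g := w) (hw _) (hw _) (by
          rw [Subgroup.orderOf_mk, Subgroup.orderOf_mk, ← MulAut.conj_apply, MulEquiv.orderOf_eq])
      obtain ⟨j, hj⟩ := (hsame.le (Subgroup.mem_zpowers _))
      exact ⟨j, congrArg Subtype.val hj⟩
    have hRcard : Nat.card R = r := by rw [Nat.card_zpowers, hc₀]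
    have hMcard : Nat.card ↥(H ⊔ R) = Nat.card H * r := by
      rw [H1.card_sup_of_coprime (by rw [Subgroup.normalizer_eq_top]; exact le_top)
        (by rw [hRcard]; exact ((hr.coprime_iff_not_dvd).mpr hrH).symm), hRcard]
    have hP : Nat.card (R.subgroupOf (H ⊔ R)) = r ^ (Nat.card ↥(H ⊔ R)).factorization r := by
      rw [Nat.card_congr (Subgroup.subgroupOfEquivOfLe le_sup_right).toEquiv, hRcard, hMcard,
        Nat.factorization_mul Nat.card_pos.ne' hr.ne_zero, Finsupp.add_apply,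
        Nat.factorization_eq_zero_of_not_dvd hrH, hr.factorization_self, zero_add, pow_one]
    have hFr := Sylow.normalizer_sup_eq_top (Sylow.ofCard (R.subgroupOf (H ⊔ R)) hP)
    rw [Sylow.coe_ofCard, Subgroup.map_subgroupOf_eq_of_le (le_sup_right : R ≤ H ⊔ R)] at hFr
    have hqN : q ∣ Nat.card (Subgroup.normalizer (R : Set G)) := by
      have h1 : Nat.card G ∣ Nat.card (Subgroup.normalizer (R : Set G)) * Nat.card ↥(H ⊔ R) := by
        have h := H1.card_sup_dvd_mul (Subgroup.normalizer (R : Set G)) (H ⊔ R)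
        rwa [hFr, Subgroup.card_top] at h
      refine (hq.dvd_mul.mp ((hqD.trans (Subgroup.card_quotient_dvd_card K)).trans h1)).resolve_right
        fun h => ?_
      rw [hMcard] at h
      rcases hq.dvd_mul.mp h with h | h
      · exact hqH h
      · exact hrq ((Nat.prime_dvd_prime_iff_eq hq hr).mp h).symm
    obtain ⟨x, hx⟩ := exists_prime_orderOf_dvd_card' (G := Subgroup.normalizer (R : Set G)) q hqN
    rw [← Subgroup.orderOf_coe] at hx
    set T := R ⊔ Subgroup.zpowers (x : G)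
    have hTcard : Nat.card T = r * q := by
      rw [H1.card_sup_of_coprime (Subgroup.zpowers_le.mpr x.2)
        (by rw [hRcard, Nat.card_zpowers, hx]; exact (Nat.coprime_primes hr hq).mpr hrq),
        hRcard, Nat.card_zpowers, hx]
    obtain ⟨P⟩ : Nonempty (Sylow p H) := inferInstance
    haveI : (P : Subgroup H).Characteristic := P.characteristic_of_normal (by
      haveI := hHnil; infer_instance)
    set Pg := (P : Subgroup H).map H.subtype
    have hPg1 : Pg ≠ ⊥ := fun h => P.ne_bot_of_dvd_card hpH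
      ((Subgroup.map_eq_bot_iff_of_injective _ H.subtype_injective).mp h)
    obtain ⟨a, ha⟩ := IsPGroup.iff_card.mp (P.isPGroup'.map H.subtype)
    have hfpfT : ∀ t ∈ T, t ≠ 1 → Pg ⊓ Subgroup.centralizer {t} = ⊥ := by
      intro t ht ht1
      rw [Subgroup.eq_bot_iff_forall]
      rintro y ⟨hy, hyt⟩
      by_contra hy1
      obtain ⟨i, -, hi⟩ := (Nat.dvd_prime_pow hp).mp (ha ▸ Subgroup.orderOf_dvd_natCard Pg hy)
      have hpy : p ∣ orderOf y := by
        rcases i with _ | i
        · exact absurd (orderOf_eq_one_iff.mp (by simpa using hi)) hy1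
        · rw [hi, pow_succ']; exact dvd_mul_right _ _
      obtain ⟨l, hl, hlt'⟩ := Nat.exists_prime_and_dvd (n := orderOf t)
        (fun e => ht1 (orderOf_eq_one_iff.mp e))
      have hy' := orderOf_pow_orderOf_div (orderOf_pos y).ne' hpy
      have ht' := orderOf_pow_orderOf_div (orderOf_pos t).ne' hlt'
      have hcm : Commute (y ^ (orderOf y / p)) (t ^ (orderOf t / l)) :=
        Commute.pow_pow (show Commute y t from Subgroup.mem_centralizer_singleton_iff.mp hyt) _ _
      have hl' : l = r ∨ l = q := by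
        have h := (hlt'.trans (Subgroup.orderOf_dvd_natCard T ht))
        rw [hTcard] at h
        rcases hl.dvd_mul.mp h with h | h
        · exact Or.inl ((Nat.prime_dvd_prime_iff_eq hl hr).mp h)
        · exact Or.inr ((Nat.prime_dvd_prime_iff_eq hl hq).mp h)
      rcases hl' with rfl | rfl
      · obtain ⟨w, hw⟩ := H28.TwoFrob.exists_orderOf_eq_mul hp hr hrp.symm hy' ht' hcm
        have hpC' : ¬ p ∣ Nat.card C := fun h => (hPrimeDvd p hp h).1 hpH
        exact hmixed hr hp hrp hrC hpC' ⟨w, by rw [hw, mul_comm]⟩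
      · exact hno (H28.TwoFrob.exists_orderOf_eq_mul hp hq hpq hy' ht' hcm)
    obtain ⟨w, hw⟩ := (H3.isCyclic_of_fpf_card_mul hPg1 hfpfT T le_rfl hr hq hTcard).exists_generator
    -- a cyclic `T` is impossible
    have hc₀T : (c₀ : G) ∈ T := Subgroup.mem_sup_left (Subgroup.mem_zpowers _)
    have hxT : (x : G) ∈ T := Subgroup.mem_sup_right (Subgroup.mem_zpowers _)
    have hcx : Commute (c₀ : G) (x : G) := by
      obtain ⟨i, hi⟩ := hw ⟨_, hc₀T⟩
      obtain ⟨j, hj⟩ := hw ⟨_, hxT⟩
      have h := congrArg Subtype.val ((Commute.zpow_zpow (Commute.refl w) i j).eq)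
      simp only at hi hj
      rw [hi, hj] at h
      exact h
    obtain ⟨g, hg⟩ := H28.TwoFrob.exists_orderOf_eq_mul hr hq hrq hc₀ hx hcx
    exact hmixed hr hq hrq hrC hqC ⟨g, hg⟩
  rcases hsplit p hp hpG hpC with hpH | hpD
  · by_cases hqH : q ∣ Nat.card H
    · haveI := Fact.mk hp
      haveI := Fact.mk hq
      obtain ⟨a, ha⟩ := exists_prime_orderOf_dvd_card' (G := H) p hpH
      obtain ⟨b, hb⟩ := exists_prime_orderOf_dvd_card' (G := H) q hqH
      have hc := H81.commute_of_coprime_orderOf hHnil (x := a) (y := b)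
        (by rw [ha, hb]; exact (Nat.coprime_primes hp hq).mpr hpq)
      rw [← Subgroup.orderOf_coe] at ha hb
      exact H28.TwoFrob.exists_orderOf_eq_mul hp hq hpq ha hb (hc.map H.subtype)
    · exact hcross hp hq hpq hpH hqH hqC ((hsplit q hq hqG hqC).resolve_left hqH)
  · rcases hsplit q hq hqG hqC with hqH | hqD
    · by_cases hpH : p ∣ Nat.card H
      · haveI := Fact.mk hp
        haveI := Fact.mk hq
        obtain ⟨a, ha⟩ := exists_prime_orderOf_dvd_card' (G := H) p hpH
        obtain ⟨b, hb⟩ := exists_prime_orderOf_dvd_card' (G := H) q hqH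
        have hc := H81.commute_of_coprime_orderOf hHnil (x := a) (y := b)
          (by rw [ha, hb]; exact (Nat.coprime_primes hp hq).mpr hpq)
        rw [← Subgroup.orderOf_coe] at ha hb
        exact H28.TwoFrob.exists_orderOf_eq_mul hp hq hpq ha hb (hc.map H.subtype)
      · obtain ⟨g, hg⟩ := hcross hq hp hpq.symm hqH hpH hpC hpD
        exact ⟨g, by rw [hg, mul_comm]⟩
    · obtain ⟨gb, hgb⟩ := hGK.exists_generator
      obtain ⟨g, rfl⟩ := QuotientGroup.mk_surjective gb
      have hd : p * q ∣ orderOf g := by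
        refine dvd_trans ?_ (orderOf_map_dvd (QuotientGroup.mk' K) g)
        rw [QuotientGroup.mk'_apply, orderOf_eq_card_of_forall_mem_zpowers hgb]
        exact ((Nat.coprime_primes hp hq).mpr hpq).mul_dvd_of_dvd_of_dvd hpD hqD
      exact ⟨g ^ (orderOf g / (p * q)), orderOf_pow_orderOf_div (orderOf_pos _).ne' hd⟩

end Cfsg.Agent.S4001
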