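import Cfsg.Statements.S4002
import Cfsg.Agent.H28.ThreePrimes

set_option autoImplicit false
open Cfsg

namespace Cfsg.Agent.S4002

/-- If the set of element orders of a finite group G is {1, 2, …, n} with n ≥ 7, then G is not solvable. -/
theorem result {G : Type*} [Group G] [Finite G] (n : ℕ) (hn : 7 ≤ n) (h : Set.range (orderOf : G → ℕ) = {k : ℕ | 1 ≤ k ∧ k ≤ n}) : ¬ Group.IsSolvable G := by
  intro hsol
  haveI := hsol
  obtain ⟨S, hS, h3, hle, hprod⟩ : ∃ S : Finset ℕ, (∀ p ∈ S, p.Prime) ∧ 3 ≤ S.card ∧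
      (∀ p ∈ S, p ≤ n) ∧ ∀ p ∈ S, ∀ q ∈ S, p ≠ q → n < p * q := by
    rcases Nat.lt_or_ge n 32 with hlt | hge
    · rcases Nat.lt_or_ge n 15 with h15 | h15
      · refine ⟨{3, 5, 7}, ?_, by decide, ?_, ?_⟩
        · intro p hp; fin_cases hp <;> norm_num
        · intro p hp; fin_cases hp <;> omega
        · intro p hp q hq hpq; fin_cases hp <;> fin_cases hq <;> omega
      · refine ⟨{5, 7, 11}, ?_, by decide, ?_, ?_⟩
        · intro p hp; fin_cases hp <;> norm_num
        · intro p hp; fin_cases hp <;> omega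
        · intro p hp q hq hpq; fin_cases hp <;> fin_cases hq <;> omega
    · obtain ⟨a, ha, ha1, ha2⟩ := Nat.exists_prime_lt_and_le_two_mul (n / 8) (by omega)
      obtain ⟨b, hb, hb1, hb2⟩ := Nat.exists_prime_lt_and_le_two_mul (2 * (n / 8)) (by omega)
      obtain ⟨c, hc, hc1, hc2⟩ := Nat.exists_prime_lt_and_le_two_mul (4 * (n / 8)) (by omega)
      have key : ∀ x y : ℕ, n / 8 < x → 2 * (n / 8) < y → n < x * y := by
        intro x y hx hy
        have h1 : (n / 8 + 1) * (2 * (n / 8) + 1) ≤ x * y := Nat.mul_le_mul hx hy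
        have h2 : 4 * (n / 8) ≤ (n / 8) * (n / 8) := Nat.mul_le_mul_right _ (by omega)
        have h3 : n < 8 * (n / 8) + 8 := by omega
        nlinarith
      refine ⟨{a, b, c}, ?_, ?_, ?_, ?_⟩
      · intro p hp
        simp only [Finset.mem_insert, Finset.mem_singleton] at hp
        rcases hp with rfl | rfl | rfl <;> assumption
      · rw [Finset.card_insert_of_notMem (by simp; omega), Finset.card_insert_of_notMem
          (by simp; omega), Finset.card_singleton]
      · intro p hp
        simp only [Finset.mem_insert, Finset.mem_singleton] at hp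
        rcases hp with rfl | rfl | rfl <;> omega
      · intro p hp q hq hpq
        simp only [Finset.mem_insert, Finset.mem_singleton] at hp hq
        rcases hp with rfl | rfl | rfl <;> rcases hq with rfl | rfl | rfl <;>
          first | exact absurd rfl hpq | exact key _ _ (by omega) (by omega) |
            (rw [mul_comm]; exact key _ _ (by omega) (by omega))
  obtain ⟨p, hp, q, hq, hpq, g, hg⟩ := H28.exists_orderOf_eq_mul_of_three_primes (G := G) S hS
    (fun p hp => by
      obtain ⟨x, hx⟩ : p ∈ Set.range (orderOf : G → ℕ) := by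
        rw [h]; exact ⟨(hS p hp).pos, hle p hp⟩
      exact hx ▸ orderOf_dvd_natCard x) h3
  have hmem : p * q ∈ {k : ℕ | 1 ≤ k ∧ k ≤ n} := h ▸ ⟨g, hg⟩
  exact absurd hmem.2 (not_le.mpr (hprod p hp q hq hpq))

end Cfsg.Agent.S4002
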