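import Cfsg.Statements.S4003
import Cfsg.Agent.H28.CountOrder

set_option autoImplicit false
open Cfsg

namespace Cfsg.Agent.S4003

/-- Let G be a finite group, p an odd prime dividing the order of G whose Sylow p-subgroups are not cyclic, and n = p^s·m with s > 1 and m coprime to p. Then the number of elements of G of order n is a multiple of p^s. -/
theorem result {G : Type*} [Group G] [Finite G] (p : ℕ) [Fact p.Prime] (hodd : p ≠ 2) (hpG : p ∣ Nat.card G)
    (P : Sylow p G) (hP : ¬ IsCyclic ↥(P : Subgroup G)) (s m : ℕ) (hs : 1 < s) (hm : Nat.Coprime p m) :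
    p ^ s ∣ Nat.card {g : G // orderOf g = p ^ s * m} := by
  classical
  haveI := Fintype.ofFinite G
  have hp := (Fact.out : p.Prime)
  have hm0 : m ≠ 0 := fun h => by
    rw [h, Nat.coprime_zero_right] at hm
    exact hp.ne_one hm
  have hcop : (p ^ s).Coprime m := hm.pow_left s
  obtain ⟨e, he1, he2⟩ := Nat.chineseRemainder hcop 1 0
  obtain ⟨e', he1', he2'⟩ := Nat.chineseRemainder hcop 0 1
  have hpk : ∀ (x : G) (k r n : ℕ), orderOf x = n → k ≡ r [MOD n] → x ^ k = x ^ r := by
    intro x k r n hx h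
    exact pow_eq_pow_iff_modEq.mpr (hx ▸ h)
  let Y := {y : G // orderOf y = m}
  let X : Y → Type _ := fun y => {x : Subgroup.centralizer ({(y : G)} : Set G) // orderOf x = p ^ s}
  have hox : ∀ (y : Y) (x : X y), orderOf (x.1 : G) = p ^ s := fun y x => by
    rw [Subgroup.orderOf_coe]; exact x.2
  have hcomm : ∀ (y : Y) (x : X y), Commute (x.1 : G) (y : G) := fun y x =>
    Subgroup.mem_centralizer_singleton_iff.mp x.1.2
  -- decomposition into the two coprime parts
  have eT : (Σ y : Y, X y) ≃ {g : G // orderOf g = p ^ s * m} := by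
    refine Equiv.ofBijective (fun q => ⟨(q.2.1 : G) * (q.1 : G), ?_⟩) ⟨?_, ?_⟩
    · rw [(hcomm q.1 q.2).orderOf_mul_eq_mul_orderOf_of_coprime (by rw [hox, q.1.2]; exact hcop),
        hox, q.1.2]
    · rintro ⟨y, x⟩ ⟨y', x'⟩ h
      have h0 : (x.1 : G) * (y : G) = (x'.1 : G) * (y' : G) := congrArg Subtype.val h
      have h1 := congrArg (fun g : G => g ^ e') h0
      simp only [(hcomm y x).mul_pow, (hcomm y' x').mul_pow] at h1
      rw [hpk _ e' 0 _ (hox y x) he1', hpk _ e' 0 _ (hox y' x') he1', hpk _ e' 1 _ y.2 he2',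
        hpk _ e' 1 _ y'.2 he2'] at h1
      simp only [pow_zero, pow_one, one_mul] at h1
      obtain rfl : y = y' := Subtype.ext h1
      have h2 : (x.1 : G) = x'.1 := mul_right_cancel h0
      obtain rfl : x = x' := Subtype.ext (Subtype.ext h2)
      rfl
    · rintro ⟨g, hg⟩
      have hoe : orderOf (g ^ e) = p ^ s ∧ orderOf (g ^ e') = m := by
        have hd1 : orderOf (g ^ e) ∣ p ^ s := by
          rw [orderOf_dvd_iff_pow_eq_one, ← pow_mul, ← orderOf_dvd_iff_pow_eq_one, hg]
          exact mul_comm (p ^ s) m ▸ Nat.mul_dvd_mul (Nat.modEq_zero_iff_dvd.mp he2) dvd_rfl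
        have hd2 : orderOf (g ^ e') ∣ m := by
          rw [orderOf_dvd_iff_pow_eq_one, ← pow_mul, ← orderOf_dvd_iff_pow_eq_one, hg]
          exact Nat.mul_dvd_mul (Nat.modEq_zero_iff_dvd.mp he1') dvd_rfl
        have hg1 : g ^ e * g ^ e' = g := by
          rw [← pow_add]
          have h3 : e + e' ≡ 1 [MOD p ^ s * m] :=
            (Nat.modEq_and_modEq_iff_modEq_mul hcop).mp ⟨by simpa using he1.add he1',
              by simpa using he2.add he2'⟩
          rw [hpk g _ 1 _ hg h3, pow_one]
        have hd3 : p ^ s * m ∣ orderOf (g ^ e) * orderOf (g ^ e') := by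
          rw [← hg]
          conv_lhs => rw [← hg1]
          exact (Commute.pow_pow (Commute.refl g) e e').orderOf_mul_dvd_mul_orderOf
        exact ⟨Nat.dvd_antisymm hd1 ((hcop.coprime_dvd_right hd2).dvd_of_dvd_mul_right
            ((dvd_mul_right _ _).trans hd3)),
          Nat.dvd_antisymm hd2 ((hcop.symm.coprime_dvd_right hd1).dvd_of_dvd_mul_left
            ((dvd_mul_left _ _).trans hd3))⟩
      refine ⟨⟨⟨g ^ e', hoe.2⟩, ⟨⟨g ^ e, Subgroup.mem_centralizer_singleton_iff.mpr
        (Commute.pow_pow (Commute.refl g) e e').eq⟩, by rw [Subgroup.orderOf_mk]; exact hoe.1⟩⟩,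
        Subtype.ext ?_⟩
      show g ^ e * g ^ e' = g
      rw [← pow_add, hpk g _ 1 _ hg ((Nat.modEq_and_modEq_iff_modEq_mul hcop).mp
        ⟨by simpa using he1.add he1', by simpa using he2.add he2'⟩), pow_one]
  rw [← Nat.card_congr eT, Nat.card_sigma]
  -- `P` acts on the elements of order `m`
  letI : MulAction ↥(P : Subgroup G) Y :=
    { smul := fun g y => ⟨MulAut.conj (g : G) y, by rw [MulEquiv.orderOf_eq]; exact y.2⟩
      one_smul := fun y => Subtype.ext (by
        show MulAut.conj ((1 : ↥(P : Subgroup G)) : G) (y : G) = y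
        simp)
      mul_smul := fun a b y => Subtype.ext (by
        show MulAut.conj ((a * b : ↥(P : Subgroup G)) : G) (y : G) =
          MulAut.conj (a : G) (MulAut.conj (b : G) y)
        rw [Subgroup.coe_mul, map_mul]
        rfl) }
  have hconst : ∀ (g : ↥(P : Subgroup G)) (y : Y), Nat.card (X (g • y)) = Nat.card (X y) := by
    intro g y
    have hmem : ∀ x : G, x ∈ Subgroup.centralizer ({((g • y : Y) : G)} : Set G) ↔
        (MulAut.conj (g : G)).symm x ∈ Subgroup.centralizer ({(y : G)} : Set G) := by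
      intro x
      rw [Subgroup.mem_centralizer_singleton_iff, Subgroup.mem_centralizer_singleton_iff,
        ← (MulAut.conj (g : G)).injective.eq_iff (a := _ * (y : G)), map_mul, map_mul,
        MulEquiv.apply_symm_apply]
      rfl
    symm
    exact Nat.card_congr
      { toFun := fun x => ⟨⟨MulAut.conj (g : G) x.1, (hmem _).mpr (by
            rw [MulEquiv.symm_apply_apply]; exact x.1.2)⟩, by
          rw [← Subgroup.orderOf_coe, MulEquiv.orderOf_eq]; exact hox y x⟩
        invFun := fun x => ⟨⟨(MulAut.conj (g : G)).symm x.1, (hmem _).mp x.1.2⟩, by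
          rw [← Subgroup.orderOf_coe, MulEquiv.orderOf_eq]; exact hox _ x⟩
        left_inv := fun x => Subtype.ext (Subtype.ext (MulEquiv.symm_apply_apply _ _))
        right_inv := fun x => Subtype.ext (Subtype.ext (MulEquiv.apply_symm_apply _ _)) }
  rw [← Equiv.sum_comp (MulAction.selfEquivSigmaOrbits ↥(P : Subgroup G) Y).symm,
    Fintype.sum_sigma]
  refine Finset.dvd_sum fun ω _ => ?_
  have hω : ∀ z : MulAction.orbit ↥(P : Subgroup G) ω.out,
      Nat.card (X ((MulAction.selfEquivSigmaOrbits ↥(P : Subgroup G) Y).symm ⟨ω, z⟩)) =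
        Nat.card (X ω.out) := by
    rintro ⟨z, g, rfl⟩
    exact hconst g ω.out
  rw [Finset.sum_congr rfl (fun z _ => hω z), Finset.sum_const, smul_eq_mul, Finset.card_univ,
    ← Nat.card_eq_fintype_card]
  obtain ⟨j, hj⟩ := P.isPGroup'.card_orbit ω.out
  rcases j with _ | j
  · -- fixed point
    rw [hj, pow_zero, one_mul]
    have hsub := (Nat.card_eq_one_iff_unique.mp (by rw [hj, pow_zero])).1
    have hPC : (P : Subgroup G) ≤ Subgroup.centralizer ({((ω.out : Y) : G)} : Set G) := by
      intro g hg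
      have h1 := congrArg (fun z : MulAction.orbit ↥(P : Subgroup G) ω.out => ((z : Y) : G))
        (hsub.elim ⟨_, MulAction.mem_orbit ω.out (⟨g, hg⟩ : ↥(P : Subgroup G))⟩
          ⟨_, MulAction.mem_orbit_self ω.out⟩)
      change g * _ * g⁻¹ = _ at h1
      exact Subgroup.mem_centralizer_singleton_iff.mpr (mul_inv_eq_iff_eq_mul.mp h1)
    exact H28.pow_dvd_card_orderOf_eq_of_sylow hodd (P.subtype hPC)
      (fun h => hP (by
        rw [Sylow.coe_subtype] at h
        exact (Subgroup.subgroupOfEquivOfLe hPC).isCyclic.mp h)) s hs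
  · rw [hj]
    obtain ⟨t, ht⟩ := H28.pow_pred_dvd_card_orderOf_eq (G := Subgroup.centralizer
      ({((ω.out : Y) : G)} : Set G)) hp s
    change p ^ s ∣ p ^ (j + 1) * Nat.card {x : Subgroup.centralizer ({((ω.out : Y) : G)} : Set G) //
      orderOf x = p ^ s}
    rw [ht, ← mul_assoc, ← pow_add]
    exact (Nat.pow_dvd_pow p (by omega)).trans (dvd_mul_right _ _)

end Cfsg.Agent.S4003
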