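import Cfsg.Statements.S4004
import Cfsg.Agent.H26.PrimeOrders
import Cfsg.Agent.H33.TwoPrime

set_option autoImplicit false
open Cfsg

namespace Cfsg.Agent.S4004

set_option linter.all false
set_option maxHeartbeats 800000

/-- Two primes with the same count are impossible. -/
theorem no_equal {G : Type*} [Group G] [Finite G] (hodd : Odd (Nat.card G)) {n m : ℕ} (hn : 0 < n) (hm : 0 < m)
    (hnm : n ≠ m) (hval : ∀ g : G, g ≠ 1 → H26.ocnt G (orderOf g) = n ∨ H26.ocnt G (orderOf g) = m)
    (hbound : 1 + n + m ≤ Nat.card G) {p q : ℕ} (hp : p.Prime) (hq : q.Prime) (hpq : p ≠ q)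
    (hpd : p ∣ Nat.card G) (hqd : q ∣ Nat.card G) (hfp : H26.ocnt G p = n) (hfq : H26.ocnt G q = n) : False := by
  classical
  have h3 : ∀ r, r.Prime → r ∣ Nat.card G → 3 ≤ r := by
    intro r hr hrd
    have h2 := (hodd.of_dvd_nat hrd)
    rcases h2 with ⟨k, hk⟩
    have := hr.two_le
    omega
  have hf : ∀ d, 1 < d → H26.ocnt G d = 0 ∨ H26.ocnt G d = n ∨ H26.ocnt G d = m := by
    intro d hd
    rcases Nat.eq_zero_or_pos (H26.ocnt G d) with h | h
    · exact Or.inl h
    · obtain ⟨g, rfl⟩ := H26.ocnt_pos_iff.1 h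
      exact Or.inr (hval g fun h1 => by rw [h1, orderOf_one] at hd; omega)
  have hne : ∀ r, r.Prime → 3 ≤ r → (2 : ZMod r) ≠ 0 := by
    intro r hr hr3 h
    have h' : ((2 : ℕ) : ZMod r) = 0 := by simpa using h
    have := Nat.le_of_dvd (by norm_num) ((ZMod.natCast_eq_zero_iff 2 r).1 h')
    omega
  have cast : ∀ {r a : ℕ}, r ∣ a → (a : ZMod r) = 0 := fun {r a} h => (ZMod.natCast_eq_zero_iff a r).2 h
  -- a pair of primes with value `n`
  have pair : ∀ a b, a.Prime → b.Prime → a ≠ b → a ∣ Nat.card G → H26.ocnt G a = n → H26.ocnt G b = n →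
      (n : ZMod a) = -1 ∧ (m : ZMod a) = 1 ∧ H26.ocnt G (a * b) = m := by
    intro a b ha hb hab had hfa hfb
    haveI := Fact.mk ha
    have h1 := cast (H26.dvd_one_add (G := G) ha had)
    have h2 := cast (H26.dvd_mul_left' (G := G) ha hb hab had)
    rw [hfa] at h1
    rw [hfb] at h2
    push_cast at h1 h2
    have hn1 : (n : ZMod a) = -1 := by linear_combination h1
    rcases hf (a * b) (one_lt_mul'' ha.one_lt hb.one_lt) with h | h | h
    · rw [h, Nat.cast_zero, hn1] at h2
      exact absurd (by linear_combination -h2 : (1 : ZMod a) = 0) one_ne_zero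
    · rw [h, hn1] at h2
      exact absurd (by linear_combination -h2 : (2 : ZMod a) = 0) (hne a ha (h3 a ha had))
    · rw [h, hn1] at h2
      exact ⟨hn1, by linear_combination h2, h⟩
  obtain ⟨hnp, hmp, hfpq⟩ := pair p q hp hq hpq hpd hfp hfq
  obtain ⟨hnq, hmq, hfqp⟩ := pair q p hq hp hpq.symm hqd hfq hfp
  have hall : ∀ r, r.Prime → r ∣ Nat.card G → H26.ocnt G r = n := by
    intro r hr hrd
    obtain ⟨x, hx⟩ := (haveI := Fact.mk hr; exists_prime_orderOf_dvd_card' r hrd)
    rcases hval x (fun h => by rw [h, orderOf_one] at hx; exact hr.one_lt.ne hx) with h | h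
    · rwa [hx] at h
    exfalso
    rw [hx] at h
    have hrp : r ≠ p := fun e => hnm (by rw [← hfp, ← e, h])
    have hrq : r ≠ q := fun e => hnm (by rw [← hfq, ← e, h])
    haveI := Fact.mk hp; haveI := Fact.mk hq; haveI := Fact.mk hr
    -- mixed orders
    have mixed : ∀ a, a.Prime → a ≠ r → a ∣ Nat.card G → (n : ZMod a) = -1 → (m : ZMod a) = 1 →
        H26.ocnt G (a * r) = n := by
      intro a ha har had hna hma
      haveI := Fact.mk ha
      have h2 := cast (H26.dvd_mul_left' (G := G) ha hr har had)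
      rw [h] at h2
      push_cast at h2
      rcases hf (a * r) (one_lt_mul'' ha.one_lt hr.one_lt) with e | e | e
      · rw [e, Nat.cast_zero, hma] at h2
        exact absurd (by linear_combination h2 : (1 : ZMod a) = 0) one_ne_zero
      · exact e
      · rw [e, hma] at h2
        exact absurd (by linear_combination h2 : (2 : ZMod a) = 0) (hne a ha (h3 a ha had))
    have hpr := mixed p hp (Ne.symm hrp) hpd hnp hmp
    have hqr := mixed q hq (Ne.symm hrq) hqd hnq hmq
    have hmr : (m : ZMod r) = -1 := by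
      have h2 := cast (H26.dvd_one_add (G := G) hr hrd)
      rw [h] at h2; push_cast at h2; linear_combination h2
    have hnr : (n : ZMod r) = 0 := by
      have h2 := cast (H26.dvd_mul_left' (G := G) hr hp hrp hrd)
      rw [hfp, mul_comm, hpr] at h2
      push_cast at h2
      exact mul_left_cancel₀ (hne r hr (h3 r hr hrd)) (by linear_combination h2)
    have hsum : ∑ d ∈ (p * q * r).divisors, H26.ocnt G d = 1 + 4 * n + 2 * m + H26.ocnt G (p * q * r) := by
      rw [H26.sum_divisors_mul_prime hr ?_ (Nat.mul_ne_zero hp.ne_zero hq.ne_zero),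
        H26.sum_divisors_mul_prime hq ?_ hp.ne_zero, H26.sum_divisors_mul_prime hq ?_ hp.ne_zero,
        H26.sum_divisors_prime' hp, H26.sum_divisors_prime' hp, H26.sum_divisors_prime' hp,
        H26.sum_divisors_prime' hp, one_mul, one_mul, H26.ocnt_one, hfp, hfq, hfpq, h, hpr, hqr]
      · ring
      · exact fun hd => hpq ((Nat.prime_dvd_prime_iff_eq hq hp).1 hd).symm
      · exact fun hd => hpq ((Nat.prime_dvd_prime_iff_eq hq hp).1 hd).symm
      · intro hd
        rcases (Nat.Prime.dvd_mul hr).1 hd with hd | hd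
        · exact hrp ((Nat.prime_dvd_prime_iff_eq hr hp).1 hd)
        · exact hrq ((Nat.prime_dvd_prime_iff_eq hr hq).1 hd)
    have hN0 : p * q * r ≠ 0 := Nat.mul_ne_zero (Nat.mul_ne_zero hp.ne_zero hq.ne_zero) hr.ne_zero
    have h5 := cast (H26.dvd_sum_ocnt (G := G) hN0 ((dvd_mul_right p q).trans (dvd_mul_right _ r)) hpd)
    have h6 := cast (H26.dvd_sum_ocnt (G := G) hN0 (dvd_mul_left r _) hrd)
    rw [hsum] at h5 h6
    push_cast at h5 h6
    rw [hnp, hmp] at h5
    rw [hnr, hmr] at h6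
    rcases hf (p * q * r) (one_lt_mul'' (one_lt_mul'' hp.one_lt hq.one_lt) hr.one_lt) with e | e | e
    · rw [e, Nat.cast_zero] at h5
      exact absurd (by linear_combination -h5 : (1 : ZMod p) = 0) one_ne_zero
    · rw [e, hnp] at h5
      exact absurd (by linear_combination -h5 : (2 : ZMod p) = 0) (hne p hp (h3 p hp hpd))
    · rw [e, hmr] at h6
      exact absurd (by linear_combination -h6 : (2 : ZMod r) = 0) (hne r hr (h3 r hr hrd))
  -- no elements of order `r ^ 2`
  have hsq : ∀ r, r.Prime → r ∣ Nat.card G → H26.ocnt G (r ^ 2) = 0 := by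
    intro r hr hrd
    haveI := Fact.mk hr
    obtain ⟨s, hs, hrs, hsd⟩ : ∃ s, s.Prime ∧ r ≠ s ∧ s ∣ Nat.card G := by
      by_cases e : r = p
      · exact ⟨q, hq, e ▸ hpq, hqd⟩
      · exact ⟨p, hp, e, hpd⟩
    obtain ⟨hnr, hmr, -⟩ := pair r s hr hs hrs hrd (hall r hr hrd) (hall s hs hsd)
    have h2 := cast (H26.dvd_sq (G := G) hr hrd)
    rcases hf (r ^ 2) (Nat.one_lt_pow two_ne_zero hr.one_lt) with e | e | e
    · exact e
    · rw [e, hnr] at h2
      exact absurd (by linear_combination -h2 : (1 : ZMod r) = 0) one_ne_zero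
    · rw [e, hmr] at h2
      exact absurd h2 one_ne_zero
  have hdvd : Nat.card G ∣ 1 + n := by
    rw [Nat.dvd_iff_prime_pow_dvd_dvd]
    intro r k hr hrk
    rcases k with _ | k
    · simp
    have hrd : r ∣ Nat.card G := (dvd_pow_self r k.succ_ne_zero).trans hrk
    haveI := Fact.mk hr
    have h1 : r ^ (k + 1) ∣ Nat.card {g : G // g ^ r ^ (k + 1) = 1} :=
      (Nat.dvd_gcd dvd_rfl hrk).trans (H27.gcd_card_dvd_card_pow_eq_one G _)
    refine h1.trans (dvd_of_eq ?_)
    rw [← hall r hr hrd, ← H26.sum_prime hr, ← H26.card_pow_eq_one r hr.ne_zero]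
    refine Nat.card_congr (Equiv.subtypeEquivRight fun g => ⟨fun hg => ?_, fun hg => ?_⟩)
    · obtain ⟨i, -, hi⟩ := (Nat.dvd_prime_pow hr).1 (orderOf_dvd_of_pow_eq_one hg)
      rw [← orderOf_dvd_iff_pow_eq_one, hi]
      rcases i with _ | _ | i
      · rw [pow_zero]; exact one_dvd _
      · rw [zero_add, pow_one]
      · exfalso
        have h4 : 0 < H26.ocnt G (r ^ 2) := H26.ocnt_pos_iff.2 ⟨g ^ r ^ i, by
          rw [orderOf_pow' _ (pow_ne_zero i hr.ne_zero), hi, Nat.gcd_eq_right (pow_dvd_pow r (by omega)),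
            Nat.pow_div (by omega) hr.pos]
          congr 1; omega⟩
        rw [hsq r hr hrd] at h4
        exact lt_irrefl 0 h4
    · rw [pow_succ', pow_mul, hg, one_pow]
  have := Nat.le_of_dvd (by omega) hdvd
  omega

/-- The count at a product differs from the count at the first prime. -/
theorem ne_left {G : Type*} [Group G] [Finite G] {p q : ℕ} (hp : p.Prime) (hq : q.Prime) (hpq : p ≠ q)
    (hq3 : 3 ≤ q) (hpd : p ∣ Nat.card G) : H26.ocnt G (p * q) ≠ H26.ocnt G p := by
  intro e
  haveI := Fact.mk hp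
  obtain ⟨x, hx⟩ := exists_prime_orderOf_dvd_card' p hpd
  have hpos : 0 < H26.ocnt G p := H26.ocnt_pos_iff.2 ⟨x, hx⟩
  obtain ⟨u, hu, hfree⟩ := H26.exists_no_commute (G := G) ((Nat.coprime_primes hp hq).2 hpq) hq3 (by omega)
  have h1 := H26.dvd_ocnt_of_no_commute hp hu (fun x hx => hfree x hx)
  have h2 := H26.dvd_mul_left' (G := G) hp hq hpq hpd
  rw [e] at h2
  have h3 := (Nat.dvd_add_right h1).1 h2
  exact hp.one_lt.ne' (Nat.dvd_one.1 ((Nat.dvd_add_left h3).1 (H26.dvd_one_add (G := G) hp hpd)))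

/-- Let G be a finite group of odd order in which the numbers of elements of each order that occurs (the numbers #{g : o(g) = m}, m ranging over the element orders of G) take exactly three different values. Then the order of G has at most two prime divisors; and if it has exactly two, then every Sylow subgroup of G for a prime dividing its order has prime exponent, G is a Frobenius group, and some Frobenius complement of G has prime order. -/
theorem result {G : Type*} [Group G] [Finite G] (hodd : Odd (Nat.card G)) (h : (((fun m : ℕ => Nat.card {g : G // orderOf g = m}) '' Set.range (orderOf : G → ℕ))).ncard = 3) :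
    (Nat.card G).primeFactors.card ≤ 2 ∧
      ((Nat.card G).primeFactors.card = 2 →
        (∀ (p : ℕ) [Fact p.Prime] (P : Sylow p G), p ∣ Nat.card G → Monoid.exponent ↥(P : Subgroup G) = p) ∧
        ∃ C : Subgroup G, Cfsg.IsFrobeniusComplement C ∧ (Nat.card ↥C).Prime) := by
  classical
  have h3 : ∀ r, r.Prime → r ∣ Nat.card G → 3 ≤ r := by
    intro r hr hrd
    obtain ⟨k, hk⟩ := hodd.of_dvd_nat hrd
    have := hr.two_le
    omega
  set V := ((fun m : ℕ => Nat.card {g : G // orderOf g = m}) '' Set.range (orderOf : G → ℕ)) with hV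
  have hmem : ∀ g : G, H26.ocnt G (orderOf g) ∈ V := fun g => ⟨orderOf g, ⟨g, rfl⟩, rfl⟩
  have h1V : 1 ∈ V := by
    have := hmem 1
    rwa [orderOf_one, H26.ocnt_one] at this
  have hne1 : ∀ g : G, g ≠ 1 → H26.ocnt G (orderOf g) ≠ 1 := by
    intro g hg he
    have h5 : 3 ≤ orderOf g := by
      obtain ⟨k, hk⟩ := hodd.of_dvd_nat (orderOf_dvd_natCard g)
      have : orderOf g ≠ 1 := fun h' => hg (orderOf_eq_one_iff.1 h')
      omega
    have := H26.even_ocnt (G := G) h5
    rw [he] at this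
    exact absurd this (by decide)
  have hV2 : (V \ {1}).ncard = 2 := by rw [Set.ncard_sdiff_singleton_of_mem h1V, h]
  obtain ⟨n, m, hnm, hVnm⟩ := Set.ncard_eq_two.1 hV2
  have hval : ∀ g : G, g ≠ 1 → H26.ocnt G (orderOf g) = n ∨ H26.ocnt G (orderOf g) = m := by
    intro g hg
    have : H26.ocnt G (orderOf g) ∈ ({n, m} : Set ℕ) := hVnm ▸ ⟨hmem g, hne1 g hg⟩
    simpa using this
  have hex : ∀ a ∈ V \ {1}, ∃ g : G, g ≠ 1 ∧ H26.ocnt G (orderOf g) = a := by
    rintro a ⟨⟨_, ⟨g, rfl⟩, ha⟩, ha1⟩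
    refine ⟨g, ?_, ha⟩
    rintro rfl
    refine ha1 ?_
    rw [Set.mem_singleton_iff, ← ha]
    exact (show H26.ocnt G (orderOf (1 : G)) = 1 by rw [orderOf_one, H26.ocnt_one])
  obtain ⟨gn, hgn1, hgn⟩ := hex n (by rw [hVnm]; simp)
  obtain ⟨gm, hgm1, hgm⟩ := hex m (by rw [hVnm]; simp)
  have hn0 : 0 < n := hgn ▸ H26.ocnt_pos_iff.2 ⟨gn, rfl⟩
  have hm0 : 0 < m := hgm ▸ H26.ocnt_pos_iff.2 ⟨gm, rfl⟩
  have hbound : 1 + n + m ≤ Nat.card G := by
    haveI := Fintype.ofFinite G
    have hd : orderOf gn ≠ orderOf gm := fun e => hnm (by rw [← hgn, ← hgm, e])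
    have key : ∑ d ∈ ({1, orderOf gn, orderOf gm} : Finset ℕ), H26.ocnt G d ≤ Nat.card G := by
      simp only [H26.ocnt, Nat.card_eq_fintype_card, Fintype.card_subtype]
      rw [← Finset.card_biUnion]
      · exact Finset.card_le_univ _
      · intro a _ b _ hab
        rw [Function.onFun, Finset.disjoint_filter]
        exact fun x _ h1 h2 => hab (h1.symm.trans h2)
    rw [Finset.sum_insert, Finset.sum_pair hd, H26.ocnt_one, hgn, hgm] at key
    · omega
    · simp only [Finset.mem_insert, Finset.mem_singleton, not_or]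
      exact ⟨fun e => hgn1 (orderOf_eq_one_iff.1 e.symm), fun e => hgm1 (orderOf_eq_one_iff.1 e.symm)⟩
  have hpv : ∀ r, r.Prime → r ∣ Nat.card G → H26.ocnt G r = n ∨ H26.ocnt G r = m := by
    intro r hr hrd
    haveI := Fact.mk hr
    obtain ⟨x, hx⟩ := exists_prime_orderOf_dvd_card' r hrd
    rw [← hx]
    exact hval x fun e => by rw [e, orderOf_one] at hx; exact hr.one_lt.ne hx
  have hinj : ∀ a b, a.Prime → b.Prime → a ∣ Nat.card G → b ∣ Nat.card G →
      H26.ocnt G a = H26.ocnt G b → a = b := by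
    intro a b ha hb had hbd he
    by_contra hab
    rcases hpv a ha had with e | e
    · exact no_equal hodd hn0 hm0 hnm hval hbound ha hb hab had hbd e (he ▸ e)
    · exact no_equal hodd hm0 hn0 hnm.symm (fun g hg => (hval g hg).symm) (by omega) ha hb hab had hbd e
        (he ▸ e)
  refine ⟨?_, fun hcard => ?_⟩
  · refine (Finset.card_le_card_of_injOn (H26.ocnt G) (t := {n, m}) ?_ ?_).trans Finset.card_le_two
    · intro r hr
      obtain ⟨hr1, hr2, -⟩ := Nat.mem_primeFactors.1 hr
      simpa using hpv r hr1 hr2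
    · intro a ha b hb he
      obtain ⟨ha1, ha2, -⟩ := Nat.mem_primeFactors.1 ha
      obtain ⟨hb1, hb2, -⟩ := Nat.mem_primeFactors.1 hb
      exact hinj a b ha1 hb1 ha2 hb2 he
  obtain ⟨p, q, hpq, hpf⟩ := Finset.card_eq_two.1 hcard
  obtain ⟨hp, hpd, -⟩ := Nat.mem_primeFactors.1 (hpf ▸ Finset.mem_insert_self p {q})
  obtain ⟨hq, hqd, -⟩ := Nat.mem_primeFactors.1
    (hpf ▸ Finset.mem_insert_of_mem (Finset.mem_singleton_self q))
  have honly : ∀ r, r.Prime → r ∣ Nat.card G → r = p ∨ r = q := by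
    intro r hr hrd
    have := Nat.mem_primeFactors.2 ⟨hr, hrd, Nat.card_pos.ne'⟩
    rw [hpf] at this
    simpa using this
  have hfne : H26.ocnt G p ≠ H26.ocnt G q := fun e => hpq (hinj p q hp hq hpd hqd e)
  have hval' : ∀ g : G, g ≠ 1 →
      H26.ocnt G (orderOf g) = H26.ocnt G p ∨ H26.ocnt G (orderOf g) = H26.ocnt G q := by
    intro g hg
    rcases hval g hg with e | e <;> rcases hpv p hp hpd with e1 | e1 <;> rcases hpv q hq hqd with e2 | e2 <;>
      first
      | exact absurd (e1.trans e2.symm) hfne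
      | exact Or.inl (e.trans e1.symm)
      | exact Or.inr (e.trans e2.symm)
  have hnc : ∀ u v : G, orderOf u = p → orderOf v = q → ¬ Commute u v := by
    intro u v hu hv hc
    have ho : orderOf (u * v) = p * q := by
      rw [hc.orderOf_mul_eq_mul_orderOf_of_coprime (by rw [hu, hv]; exact (Nat.coprime_primes hp hq).2 hpq),
        hu, hv]
    have hne : u * v ≠ 1 := fun e => by
      rw [e, orderOf_one] at ho
      have := one_lt_mul'' hp.one_lt hq.one_lt
      omega
    rcases hval' _ hne with e | e <;> rw [ho] at e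
    · exact ne_left hp hq hpq (h3 q hq hqd) hpd e
    · rw [mul_comm] at e
      exact ne_left hq hp hpq.symm (h3 p hp hpd) hqd e
  -- orders are primes
  have key : ∀ a b, a.Prime → b.Prime → a ≠ b → a ∣ Nat.card G → b ∣ Nat.card G →
      (∀ g : G, g ≠ 1 → H26.ocnt G (orderOf g) = H26.ocnt G a ∨ H26.ocnt G (orderOf g) = H26.ocnt G b) →
      (∀ u v : G, orderOf u = a → orderOf v = b → ¬ Commute u v) → ∀ x : G, orderOf x ≠ a ^ 2 := by
    intro a b ha hb hab had hbd hv hnab x hx
    haveI := Fact.mk hb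
    obtain ⟨t, ht⟩ := exists_prime_orderOf_dvd_card' b hbd
    have hx1 : x ≠ 1 := fun e => by
      rw [e, orderOf_one] at hx
      exact (Nat.one_lt_pow two_ne_zero ha.one_lt).ne hx
    have hdiv := H26.dvd_sq (G := G) ha had
    rw [← hx] at hdiv
    rcases hv x hx1 with e | e
    · rw [e] at hdiv
      exact ha.one_lt.ne' (Nat.dvd_one.1 ((Nat.dvd_add_left hdiv).1 (H26.dvd_one_add (G := G) ha had)))
    · have hfree : b ∣ H26.ocnt G (orderOf x) := by
        refine H26.dvd_ocnt_of_no_commute hb ht fun y hy hc => ?_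
        refine hnab (y ^ a) t ?_ ht (hc.symm.pow_left a)
        rw [orderOf_pow' _ ha.ne_zero, hy, hx, pow_two, Nat.gcd_eq_right (dvd_mul_right a a),
          Nat.mul_div_cancel _ ha.pos]
      rw [e] at hfree
      exact hb.one_lt.ne' (Nat.dvd_one.1 ((Nat.dvd_add_left hfree).1 (H26.dvd_one_add (G := G) hb hbd)))
  have hnp2 := key p q hp hq hpq hpd hqd hval' hnc
  have hnq2 := key q p hq hp hpq.symm hqd hpd (fun g hg => (hval' g hg).symm)
    (fun u v hu hv hc => hnc v u hv hu hc.symm)
  have hall : ∀ x : G, x ^ p = 1 ∨ x ^ q = 1 := by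
    intro x
    have hd : ∀ d, d ∣ orderOf x → orderOf (x ^ (orderOf x / d)) = d := fun d hd =>
      orderOf_pow_orderOf_div (orderOf_pos x).ne' hd
    by_cases hb : p ∣ orderOf x ∧ q ∣ orderOf x
    · exfalso
      refine hnc (x ^ (orderOf x / p)) (x ^ (orderOf x / q)) (hd p hb.1) (hd q hb.2) ?_
      exact (Commute.refl x).pow_pow _ _
    have one : ∀ a, a.Prime → (∀ y : G, orderOf y ≠ a ^ 2) →
        (∀ r, r.Prime → r ∣ orderOf x → r = a) → x ^ a = 1 := by
      intro a ha hsq hone
      obtain ⟨k, hk⟩ : ∃ k, orderOf x = a ^ k :=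
        ⟨_, Nat.eq_prime_pow_of_unique_prime_dvd (orderOf_pos x).ne' (fun {d} hd1 hd2 => hone d hd1 hd2)⟩
      rw [← orderOf_dvd_iff_pow_eq_one, hk]
      rcases k with _ | _ | k
      · rw [pow_zero]; exact one_dvd _
      · rw [zero_add, pow_one]
      · exact absurd (hd (a ^ 2) (hk ▸ pow_dvd_pow a (by omega))) (hsq _)
    by_cases hb' : p ∣ orderOf x
    · refine Or.inl (one p hp hnp2 fun r hr hrd => ?_)
      rcases honly r hr (hrd.trans (orderOf_dvd_natCard x)) with e | e
      · exact e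
      · exact absurd ⟨hb', e ▸ hrd⟩ hb
    · refine Or.inr (one q hq hnq2 fun r hr hrd => ?_)
      rcases honly r hr (hrd.trans (orderOf_dvd_natCard x)) with e | e
      · exact absurd (e ▸ hrd) hb'
      · exact e
  refine ⟨?_, H26.exists_complement hp hq hpq (H33.isSolvable_of_two_primes hp hq honly) hall hnc hpd hqd⟩
  intro r hrF P hrd
  have hr : r.Prime := hrF.out
  have hexp : ∀ x : (P : Subgroup G), x ^ r = 1 := by
    intro x
    obtain ⟨k, hk⟩ := IsPGroup.iff_orderOf.1 P.2 x
    rcases k with _ | k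
    · rw [pow_zero, orderOf_eq_one_iff] at hk
      rw [hk, one_pow]
    apply Subtype.ext
    rw [Subgroup.coe_pow, Subgroup.coe_one]
    rcases hall (x : G) with e | e
    all_goals
      have h6 := orderOf_dvd_of_pow_eq_one e
      have h6' := h6
      rw [Subgroup.orderOf_coe, hk] at h6'
      have h7 := (dvd_pow_self r k.succ_ne_zero).trans h6'
      refine orderOf_dvd_iff_pow_eq_one.1 (h6.trans (dvd_of_eq ?_))
      first
      | exact ((Nat.prime_dvd_prime_iff_eq hr hp).1 h7).symm
      | exact ((Nat.prime_dvd_prime_iff_eq hr hq).1 h7).symm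
  rcases (Nat.dvd_prime hr).1 (Monoid.exponent_dvd_of_forall_pow_eq_one hexp) with e | e
  · exfalso
    haveI := Monoid.exp_eq_one_iff.1 e
    exact P.ne_bot_of_dvd_card hrd (Subgroup.eq_bot_of_subsingleton _)
  · exact e

end Cfsg.Agent.S4004
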