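import Mathlib
import Cfsg.Statements.S4005

set_option autoImplicit false
open Cfsg

namespace Cfsg.Agent.S4005

variable {G : Type*} [Group G] [Finite G]

theorem order_cases (h : Set.range (orderOf : G → ℕ) = {k : ℕ | 1 ≤ k ∧ k ≤ 3}) (g : G) :
    g = 1 ∨ orderOf g = 2 ∨ orderOf g = 3 := by
  have : orderOf g ∈ {k : ℕ | 1 ≤ k ∧ k ≤ 3} := h ▸ Set.mem_range_self g
  obtain ⟨h1, h3⟩ := this
  rcases (show orderOf g = 1 ∨ orderOf g = 2 ∨ orderOf g = 3 by omega) with e | e | e
  · exact Or.inl (orderOf_eq_one_iff.1 e)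
  · exact Or.inr (Or.inl e)
  · exact Or.inr (Or.inr e)

theorem not_commute (h : Set.range (orderOf : G → ℕ) = {k : ℕ | 1 ≤ k ∧ k ≤ 3}) {t y : G}
    (ht : orderOf t = 2) (hy : orderOf y = 3) : ¬ Commute t y := by
  intro hc
  have e := hc.orderOf_mul_eq_mul_orderOf_of_coprime (by rw [ht, hy]; norm_num)
  rw [ht, hy] at e
  rcases order_cases h (t * y) with h1 | h1 | h1
  · rw [h1, orderOf_one] at e; omega
  all_goals omega

theorem sylow_two_order (h : Set.range (orderOf : G → ℕ) = {k : ℕ | 1 ≤ k ∧ k ≤ 3})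
    {S : Subgroup G} (hS : IsPGroup 2 S) {s : G} (hs : s ∈ S) : s = 1 ∨ orderOf s = 2 := by
  obtain ⟨k, hk⟩ := (IsPGroup.iff_orderOf (p := 2)).1 hS ⟨s, hs⟩
  rw [Subgroup.orderOf_mk] at hk
  rcases order_cases h s with h1 | h1 | h1
  · exact Or.inl h1
  · exact Or.inr h1
  · exfalso
    rcases k with _ | k
    · omega
    · rw [pow_succ] at hk; omega

theorem card_eq (h : Set.range (orderOf : G → ℕ) = {k : ℕ | 1 ≤ k ∧ k ≤ 3}) {p : ℕ} (hp : p.Prime)
    (hd : p ∣ Nat.card G) : p = 2 ∨ p = 3 := by
  have : Fact p.Prime := ⟨hp⟩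
  obtain ⟨x, hx⟩ := exists_prime_orderOf_dvd_card' p hd
  rcases order_cases h x with h1 | h1 | h1
  · rw [h1, orderOf_one] at hx; exact absurd hx.symm hp.ne_one
  · exact Or.inl (hx ▸ h1)
  · exact Or.inr (hx ▸ h1)

/-- Two Sylow 2-subgroups sharing an involution coincide. -/
theorem sylow_ti (h : Set.range (orderOf : G → ℕ) = {k : ℕ | 1 ≤ k ∧ k ≤ 3}) (P Q : Sylow 2 G)
    {w : G} (hwP : w ∈ P) (hwQ : w ∈ Q) (hw : w ≠ 1) : P = Q := by
  set C := Subgroup.centralizer ({w} : Set G)
  have hw2 : orderOf w = 2 := (sylow_two_order h P.isPGroup' hwP).resolve_left hw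
  have hC : IsPGroup 2 C := by
    refine (IsPGroup.iff_orderOf (p := 2)).2 fun c => ?_
    rw [← Subgroup.orderOf_coe]
    rcases order_cases h (c : G) with h1 | h1 | h1
    · exact ⟨0, by rw [h1, orderOf_one, pow_zero]⟩
    · exact ⟨1, by rw [h1, pow_one]⟩
    · exact absurd (Subgroup.mem_centralizer_iff.1 c.2 w rfl) (not_commute h hw2 h1)
  have comm : ∀ (R : Sylow 2 G), ∀ a ∈ R, ∀ b ∈ R, a * b = b * a := by
    intro R a ha b hb
    have e : ∀ c ∈ R, c⁻¹ = c := fun c hc => by
      rcases sylow_two_order h R.isPGroup' hc with h1 | h1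
      · simp [h1]
      · exact inv_eq_of_mul_eq_one_right (by rw [← pow_two, ← h1, pow_orderOf_eq_one])
    calc a * b = (a * b)⁻¹ := (e _ ((R : Subgroup G).mul_mem ha hb)).symm
      _ = b * a := by rw [mul_inv_rev, e a ha, e b hb]
  have key : ∀ R : Sylow 2 G, w ∈ R → C = (R : Subgroup G) := fun R hR =>
    R.is_maximal' hC fun r hr => Subgroup.mem_centralizer_iff.2 fun x hx => by
      rw [Set.mem_singleton_iff.1 hx]; exact comm R w hR r hr
  exact Sylow.ext ((key P hwP).symm.trans (key Q hwQ))

theorem three_case (h : Set.range (orderOf : G → ℕ) = {k : ℕ | 1 ≤ k ∧ k ≤ 3}) (S : Sylow 2 G)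
    (hSn : (S : Subgroup G).Normal) (hS : (S : Subgroup G) ≠ ⊥) :
    Cfsg.IsElementaryAbelian 2 (S : Subgroup G) ∧ (S : Subgroup G).index = 3 := by
  have e2 : ∀ c ∈ (S : Subgroup G), c * c = 1 := fun c hc => by
    rcases sylow_two_order h S.isPGroup' hc with h1 | h1
    · simp [h1]
    · rw [← pow_two, ← h1, pow_orderOf_eq_one]
  have hcomm : IsMulCommutative (S : Subgroup G) := ⟨⟨fun a b => by
    apply Subtype.ext
    show (a : G) * b = b * a
    have e : ∀ c ∈ (S : Subgroup G), c⁻¹ = c := fun c hc => inv_eq_of_mul_eq_one_right (e2 c hc)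
    calc (a : G) * b = ((a : G) * b)⁻¹ := (e _ (mul_mem a.2 b.2)).symm
      _ = b * a := by rw [mul_inv_rev, e a a.2, e b b.2]⟩⟩
  refine ⟨⟨hcomm, fun a ha => by rw [pow_two]; exact e2 a ha⟩, ?_⟩
  -- the Sylow 3-subgroup has order 3
  have h3 : (3 : ℕ).Prime := Nat.prime_three
  have : Fact (Nat.Prime 3) := ⟨h3⟩
  obtain ⟨y0, hy0⟩ : ∃ y : G, orderOf y = 3 := by
    have : (3 : ℕ) ∈ Set.range (orderOf : G → ℕ) := by rw [h]; exact ⟨by omega, le_rfl⟩
    exact this
  obtain ⟨R⟩ : Nonempty (Sylow 3 G) := inferInstance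
  have hR : ∀ y z : G, orderOf y = 3 → orderOf z = 3 → y * z = z * y → y ∈ Subgroup.zpowers z := by
    intro y z hy hz hyz
    by_contra hne
    have hord : ∀ i : ℕ, orderOf (y * z ^ i) = 3 := by
      intro i
      have hne1 : y * z ^ i ≠ 1 := fun e => hne (by
        rw [eq_inv_of_mul_eq_one_left e]
        exact Subgroup.inv_mem _ (Subgroup.npow_mem_zpowers z i))
      refine orderOf_eq_prime ?_ hne1
      rw [(Commute.pow_right hyz i).mul_pow, ← pow_mul, mul_comm, pow_mul, ← hy, pow_orderOf_eq_one,
        hy, ← hz, pow_orderOf_eq_one, one_pow, one_mul]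
    letI : CommGroup (S : Subgroup G) := { (inferInstance : Group (S : Subgroup G)) with
      mul_comm := hcomm.is_comm.comm }
    let c : G →* MulAut (S : Subgroup G) := MulAut.conjNormal
    have hnorm : ∀ x : G, orderOf x = 3 → ∀ s : (S : Subgroup G),
        s * c x s * c (x * x) s = 1 := by
      intro x hx s
      set m := s * c x s * c (x * x) s with hm
      have hfix : c x m = m := by
        rw [hm, map_mul, map_mul, ← MulAut.mul_apply, ← MulAut.mul_apply, ← map_mul, ← map_mul,
          show x * (x * x) = 1 by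
            rw [← pow_two, ← pow_succ', show 2 + 1 = orderOf x from hx.symm, pow_orderOf_eq_one],
          map_one, MulAut.one_apply]
        rw [mul_comm (c x s * c (x * x) s) s, mul_assoc]
      by_contra hm1
      have hm2 : orderOf (m : G) = 2 :=
        (sylow_two_order h S.isPGroup' m.2).resolve_left (by simpa using hm1)
      refine not_commute h hm2 hx ?_
      have := congrArg Subtype.val hfix
      rw [MulAut.conjNormal_apply] at this
      show (m : G) * x = x * m
      conv_lhs => rw [← this]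
      group
    obtain ⟨s0, hs0⟩ : ∃ s : (S : Subgroup G), s ≠ 1 := by
      by_contra hh
      push Not at hh
      exact hS ((Subgroup.eq_bot_iff_forall _).2 fun a ha => congrArg Subtype.val (hh ⟨a, ha⟩))
    apply hs0
    have A := hnorm y hy s0
    have B := hnorm (y * z ^ 1) (hord 1) s0
    have D := hnorm (y * z ^ 2) (hord 2) s0
    have E := hnorm z hz s0
    have A1 := congrArg (c z) A
    have A2 := congrArg (c (z * z)) A
    rw [pow_one] at B
    rw [pow_two z] at D
    simp only [map_mul, MulAut.mul_apply, map_one] at A1 A2 B D E A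
    set a := c y
    set b := c z
    have hab : ∀ s, a (b s) = b (a s) := fun s => by
      show (c y * c z) s = (c z * c y) s
      rw [← map_mul, hyz, map_mul]
    have hb3 : ∀ s, b (b (b s)) = s := fun s => by
      show (c z * c z * c z) s = s
      rw [← map_mul, ← map_mul, ← pow_two, ← pow_succ, show z ^ (2 + 1) = 1 by
        rw [← pow_orderOf_eq_one z, hz], map_one, MulAut.one_apply]
    simp only [hab, hb3] at A1 A2 B D
    have hsq : s0 * s0 = 1 := Subtype.ext (e2 _ s0.2)
    have hnine : (s0 * s0 * s0) * ((s0 * a s0 * a (a s0)) * (b s0 * b (a s0) * b (a (a s0))) *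
        (b (b s0) * b (b (a s0)) * b (b (a (a s0))))) = 1 := by
      have := congrArg₂ (· * ·) (congrArg₂ (· * ·) A B) (congrArg₂ (· * ·) D E)
      simp only [mul_one] at this
      rw [← this]
      ac_rfl
    rwa [A, A1, A2, mul_one, mul_one, mul_one, hsq, one_mul] at hnine
  have hcardR : Nat.card (R : Subgroup G) = 3 := by
    have : Nontrivial (R : Subgroup G) := by
      rw [Subgroup.nontrivial_iff_ne_bot]
      exact R.ne_bot_of_dvd_card (hy0 ▸ orderOf_dvd_natCard y0)
    have := R.isPGroup'.center_nontrivial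
    obtain ⟨z, hz⟩ := exists_ne (1 : Subgroup.center (R : Subgroup G))
    have ho : ∀ r : (R : Subgroup G), r ≠ 1 → orderOf (r : G) = 3 := by
      intro r hr
      obtain ⟨k, hk⟩ := (IsPGroup.iff_orderOf (p := 3)).1 R.isPGroup' r
      rw [← Subgroup.orderOf_coe] at hk
      rcases order_cases h (r : G) with h1 | h1 | h1
      · exact absurd (Subtype.ext h1) hr
      · exfalso
        rcases k with _ | k
        · omega
        · rw [pow_succ] at hk; omega
      · exact h1
    have hz' : (z : (R : Subgroup G)) ≠ 1 := fun e => hz (Subtype.ext e)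
    have hle : (R : Subgroup G) ≤ Subgroup.zpowers ((z : (R : Subgroup G)) : G) := by
      intro r hr
      by_cases hr1 : r = 1
      · rw [hr1]; exact one_mem _
      refine hR r _ (ho ⟨r, hr⟩ (fun e => hr1 (congrArg Subtype.val e))) (ho _ hz') ?_
      exact congrArg Subtype.val (Subgroup.mem_center_iff.1 z.2 ⟨r, hr⟩)
    have := le_antisymm hle (Subgroup.zpowers_le.2 (z : (R : Subgroup G)).2)
    rw [this, Nat.card_zpowers, ho _ hz']
  -- the index of S is the order of R
  have hdvd : ∀ d : ℕ, d ∣ Nat.card G → ¬ 2 ∣ d → ∃ k, d = 3 ^ k := fun d hd h2 =>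
    ⟨_, Nat.eq_prime_pow_of_unique_prime_dvd (fun e => Nat.card_pos.ne' (Nat.eq_zero_of_zero_dvd (e ▸ hd)))
      (fun {q} hq hqd => (card_eq h hq (hqd.trans hd)).resolve_left fun e => h2 (e ▸ hqd))⟩
  obtain ⟨k, hk⟩ := hdvd _ (S : Subgroup G).index_dvd_card S.not_dvd_index
  have hdvd3 : (S : Subgroup G).index ∣ 3 := by
    rw [← hcardR, R.card_eq_multiplicity, hk]
    exact pow_dvd_pow _ ((h3.pow_dvd_iff_le_factorization Nat.card_pos.ne').1
      (hk ▸ (S : Subgroup G).index_dvd_card))
  rcases (Nat.dvd_prime h3).1 hdvd3 with e | e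
  · exfalso
    rw [Subgroup.index_eq_one] at e
    rcases sylow_two_order h S.isPGroup' (show y0 ∈ (S : Subgroup G) from e ▸ Subgroup.mem_top y0) with h1 | h1
    · rw [h1, orderOf_one] at hy0; omega
    · omega
  · exact e

/-- A finite group whose set of element orders is exactly {1, 2, 3} has either a normal elementary abelian 3-subgroup of index 2 or a normal elementary abelian 2-subgroup of index 3. -/
theorem result {G : Type*} [Group G] [Finite G] (h : Set.range (orderOf : G → ℕ) = {k : ℕ | 1 ≤ k ∧ k ≤ 3}) :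
    (∃ N : Subgroup G, N.Normal ∧ Cfsg.IsElementaryAbelian 3 N ∧ N.index = 2) ∨
      (∃ N : Subgroup G, N.Normal ∧ Cfsg.IsElementaryAbelian 2 N ∧ N.index = 3) := by
  obtain ⟨t0, ht0⟩ : ∃ t : G, orderOf t = 2 := by
    have : (2 : ℕ) ∈ Set.range (orderOf : G → ℕ) := by rw [h]; exact ⟨by omega, by omega⟩
    exact this
  obtain ⟨r0, hr0⟩ : ∃ t : G, orderOf t = 3 := by
    have : (3 : ℕ) ∈ Set.range (orderOf : G → ℕ) := by rw [h]; exact ⟨by omega, le_rfl⟩
    exact this
  obtain ⟨S⟩ : Nonempty (Sylow 2 G) := inferInstance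
  have hSbot : (S : Subgroup G) ≠ ⊥ := S.ne_bot_of_dvd_card (ht0 ▸ orderOf_dvd_natCard t0)
  obtain ⟨t, ht, ht1⟩ := (Subgroup.bot_or_exists_ne_one (S : Subgroup G)).resolve_left hSbot
  have ht2 := (sylow_two_order h S.isPGroup' ht).resolve_left ht1
  by_cases hr : ∃ r ∈ Subgroup.normalizer ((S : Subgroup G) : Set G), orderOf r = 3
  · obtain ⟨r, hr, hr3⟩ := hr
    refine Or.inr ?_
    have hSn : (S : Subgroup G).Normal := by
      rw [← Subgroup.normalizer_eq_top_iff, eq_top_iff]
      intro g _
      by_contra hg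
      set S' : Sylow 2 G := g • S with hS'
      have hne : S' ≠ S := fun e => hg (Sylow.smul_eq_iff_mem_normalizer.1 e)
      obtain ⟨u', hu', hu'1⟩ : ∃ u', u' ∈ S' ∧ u' ≠ 1 :=
        ⟨g * t * g⁻¹, Subgroup.smul_mem_pointwise_smul t (MulAut.conj g) _ ht,
          fun e => ht1 (by simpa using e)⟩
      -- a second involution of S', since S has order at least 4
      obtain ⟨u, hu, hu1, huu⟩ : ∃ u, u ∈ S' ∧ u ≠ 1 ∧ u ≠ u' := by
        by_contra hh
        push Not at hh
        have hall : ∀ s ∈ S, s ≠ 1 → s = g⁻¹ * u' * g := fun s hs h1 => by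
          rw [← hh (g * s * g⁻¹) (Subgroup.smul_mem_pointwise_smul s (MulAut.conj g) _ hs)
            (fun e => h1 (by simpa using e))]
          group
        have hrt : r * t * r⁻¹ = t :=
          (hall (r * t * r⁻¹) ((Subgroup.mem_normalizer_iff.1 hr t).1 ht)
            (fun e => ht1 (conj_eq_one_iff.1 e))).trans (hall t ht ht1).symm
        exact not_commute h ht2 hr3 (show t * r = r * t by nth_rw 1 [← hrt]; group)
      have hmove : ∀ v ∈ S', v ≠ 1 → v • S = t • S' := by
        intro v hv hv1
        have hv2 := (sylow_two_order h S'.isPGroup' hv).resolve_left hv1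
        have h3' : orderOf (t * v) = 3 := by
          rcases order_cases h (t * v) with e | e | e
          · exact absurd (sylow_ti h S' S hv (by rw [← inv_eq_of_mul_eq_one_right e]; exact inv_mem ht) hv1) hne
          · exfalso
            have hp : (t * v) ^ 2 = 1 := e ▸ pow_orderOf_eq_one _
            have htt : t * t = 1 := by rw [← pow_two, ← ht2, pow_orderOf_eq_one]
            have hvv : v * v = 1 := by rw [← pow_two, ← hv2, pow_orderOf_eq_one]
            have hcm : Commute v t := by
              show v * t = t * v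
              calc v * t = (t * t) * (v * t) * (v * v) := by rw [htt, hvv]; group
                _ = t * ((t * v) ^ 2) * v := by rw [pow_two]; group
                _ = t * v := by rw [hp, mul_one]
            have hQ : IsPGroup 2 (Subgroup.centralizer ({v} : Set G)) := by
              refine (IsPGroup.iff_orderOf (p := 2)).2 fun c => ?_
              rw [← Subgroup.orderOf_coe]
              rcases order_cases h (c : G) with h1 | h1 | h1
              · exact ⟨0, by rw [h1, orderOf_one, pow_zero]⟩
              · exact ⟨1, by rw [h1, pow_one]⟩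
              · exact absurd (Subgroup.mem_centralizer_iff.1 c.2 v rfl) (not_commute h hv2 h1)
            obtain ⟨P, hP⟩ := hQ.exists_le_sylow
            have hvP : v ∈ P := hP (Subgroup.mem_centralizer_iff.2 fun x hx => by
              rw [Set.mem_singleton_iff.1 hx])
            have htP : t ∈ P := hP (Subgroup.mem_centralizer_iff.2 fun x hx => by
              rw [Set.mem_singleton_iff.1 hx]; exact hcm)
            exact hne ((sylow_ti h S' P hv hvP hv1).trans (sylow_ti h P S htP ht ht1))
          · exact e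
        have hp : (t * v) ^ 3 = 1 := h3' ▸ pow_orderOf_eq_one _
        have htt : t⁻¹ = t := inv_eq_of_mul_eq_one_right (by rw [← pow_two, ← ht2, pow_orderOf_eq_one])
        have hvv : v⁻¹ = v := inv_eq_of_mul_eq_one_right (by rw [← pow_two, ← hv2, pow_orderOf_eq_one])
        have e : t * v * t⁻¹ = v * t * v⁻¹ := by
          rw [htt, hvv, ← mul_inv_eq_one]
          simp only [mul_inv_rev, htt, hvv]
          rw [← hp, pow_succ, pow_two]; group
        refine sylow_ti h (v • S) (t • S') ?_
          (Subgroup.smul_mem_pointwise_smul v (MulAut.conj t) _ hv) (fun e1 => hv1 (conj_eq_one_iff.1 e1))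
        show t * v * t⁻¹ ∈ v • S
        rw [e]
        exact Subgroup.smul_mem_pointwise_smul t (MulAut.conj v) _ ht
      have hn : u'⁻¹ * u ∈ Subgroup.normalizer ((S : Subgroup G) : Set G) := by
        refine Sylow.smul_eq_iff_mem_normalizer.1 ?_
        rw [mul_smul, hmove u hu hu1, ← hmove u' hu' hu'1, inv_smul_smul]
      have hmem : u'⁻¹ * u ∈ (S' : Subgroup G) := mul_mem (inv_mem hu') hu
      have hs : u'⁻¹ * u ∈ (S : Subgroup G) := by
        have : u'⁻¹ * u ∈ (S' : Subgroup G) ⊓ Subgroup.normalizer ((S : Subgroup G) : Set G) :=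
          ⟨hmem, hn⟩
        exact ((IsPGroup.inf_normalizer_sylow S'.isPGroup' S).le this).2
      exact hne (sylow_ti h S' S hmem hs (fun e => huu (inv_mul_eq_one.1 e).symm))
    exact ⟨S, hSn, three_case h S hSn hSbot⟩
  · refine Or.inl ?_
    push Not at hr
    have hN : Subgroup.normalizer ((S : Subgroup G) : Set G) ≤
        Subgroup.centralizer ((S : Subgroup G) : Set G) := by
      intro n hn
      have hnS : n ∈ (S : Subgroup G) := by
        rcases order_cases h n with h1 | h1 | h1
        · rw [h1]; exact one_mem _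
        · have : n ∈ Subgroup.zpowers n ⊓ Subgroup.normalizer ((S : Subgroup G) : Set G) :=
            ⟨Subgroup.mem_zpowers n, hn⟩
          exact ((IsPGroup.inf_normalizer_sylow (IsPGroup.of_card (n := 1)
            (by rw [Nat.card_zpowers, h1, pow_one])) S).le this).2
        · exact absurd h1 (hr n hn)
      have e : ∀ c ∈ (S : Subgroup G), c⁻¹ = c := fun c hc => by
        rcases sylow_two_order h S.isPGroup' hc with h1 | h1
        · simp [h1]
        · exact inv_eq_of_mul_eq_one_right (by rw [← pow_two, ← h1, pow_orderOf_eq_one])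
      refine Subgroup.mem_centralizer_iff.2 fun s hs => ?_
      calc s * n = (s * n)⁻¹ := (e _ (mul_mem hs hnS)).symm
        _ = n * s := by rw [mul_inv_rev, e n hnS, e s hs]
    set K := (MonoidHom.transferSylow S hN).ker
    have hcompl : K.IsComplement' (S : Subgroup G) := MonoidHom.ker_transferSylow_isComplement' S hN
    have hK3 : ∀ k ∈ K, k = 1 ∨ orderOf k = 3 := by
      intro k hk
      rcases order_cases h k with h1 | h1 | h1
      · exact Or.inl h1
      · exfalso
        have hd : (2 : ℕ) ∣ Nat.card K := h1 ▸ Subgroup.orderOf_dvd_natCard K hk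
        rw [← hcompl.index_eq_card] at hd
        exact S.not_dvd_index hd
      · exact Or.inr h1
    have hinv : ∀ v ∈ (S : Subgroup G), v ≠ 1 → ∀ k ∈ K, v * k * v⁻¹ = k⁻¹ := by
      intro v hv hv1 k hk
      have hv2 := (sylow_two_order h S.isPGroup' hv).resolve_left hv1
      have hvv : v * v = 1 := by rw [← pow_two, ← hv2, pow_orderOf_eq_one]
      have hvi : v⁻¹ = v := inv_eq_of_mul_eq_one_right hvv
      have hKn : K.Normal := inferInstance
      let f : K → K := fun a => ⟨(a : G)⁻¹ * (v * a * v⁻¹), mul_mem (inv_mem a.2) (hKn.conj_mem _ a.2 v)⟩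
      have hf : Function.Injective f := by
        intro a b hab
        have e : (a : G)⁻¹ * (v * a * v⁻¹) = (b : G)⁻¹ * (v * b * v⁻¹) := congrArg Subtype.val hab
        have e' : v * ((a : G) * (b : G)⁻¹) * v⁻¹ = (a : G) * (b : G)⁻¹ := by
          calc v * ((a : G) * (b : G)⁻¹) * v⁻¹
              = (a : G) * ((a : G)⁻¹ * (v * a * v⁻¹)) * (v * b * v⁻¹)⁻¹ := by group
            _ = (a : G) * (b : G)⁻¹ := by rw [e]; group
        rcases hK3 _ (mul_mem a.2 (inv_mem b.2)) with h1 | h1
        · exact Subtype.ext (mul_inv_eq_one.1 h1)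
        · refine absurd ?_ (not_commute h hv2 h1)
          show v * ((a : G) * (b : G)⁻¹) = (a : G) * (b : G)⁻¹ * v
          nth_rw 2 [← e']; group
      obtain ⟨a, ha⟩ := Finite.surjective_of_injective hf ⟨k, hk⟩
      have ha' : (a : G)⁻¹ * (v * a * v⁻¹) = k := congrArg Subtype.val ha
      rw [← ha', hvi]
      simp only [mul_inv_rev, hvi, inv_inv]
      calc v * ((a : G)⁻¹ * (v * a * v)) * v = v * (a : G)⁻¹ * v * a * (v * v) := by group
        _ = v * (a : G)⁻¹ * v * a := by rw [hvv, mul_one]
        _ = v * ((a : G)⁻¹ * v) * a := by group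
    have hcomm : IsMulCommutative K := ⟨⟨fun a b => by
      apply Subtype.ext
      show (a : G) * b = b * a
      have e := hinv t ht ht1 _ (mul_mem a.2 b.2)
      rw [← conj_mul, hinv t ht ht1 a a.2, hinv t ht ht1 b b.2, ← mul_inv_rev, inv_inj] at e
      exact e.symm⟩⟩
    refine ⟨K, inferInstance, ⟨hcomm, fun a ha => ?_⟩, ?_⟩
    · rcases hK3 a ha with e | e
      · rw [e, one_pow]
      · rw [← e, pow_orderOf_eq_one]
    · rw [hcompl.symm.index_eq_card]
      have hle : (S : Subgroup G) = Subgroup.zpowers t := by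
        refine le_antisymm (fun s hs => ?_) (Subgroup.zpowers_le.2 ht)
        by_cases hs1 : s = 1
        · rw [hs1]; exact one_mem _
        by_contra hst
        have hne : s * t ≠ 1 := fun e => hst (by
          rw [eq_inv_of_mul_eq_one_left e]; exact inv_mem (Subgroup.mem_zpowers t))
        have hKne : r0 ∈ K := by
          rw [MonoidHom.mem_ker]
          rw [← orderOf_eq_one_iff]
          refine Nat.eq_one_of_dvd_coprimes ?_ (orderOf_dvd_natCard _)
            ((orderOf_map_dvd _ r0).trans hr0.dvd)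
          obtain ⟨k, hk⟩ := S.isPGroup'.exists_card_eq
          rw [hk]; exact Nat.Coprime.pow_left _ (by norm_num)
        have e := hinv (s * t) (mul_mem hs ht) hne r0 hKne
        rw [show s * t * r0 * (s * t)⁻¹ = s * (t * r0 * t⁻¹) * s⁻¹ by group,
          hinv t ht ht1 r0 hKne, ← conj_inv, hinv s hs hs1 r0 hKne, inv_inv] at e
        have h9 : r0 ^ 2 = 1 := by rw [pow_two]; nth_rw 2 [e]; group
        have h8 := orderOf_dvd_of_pow_eq_one h9
        rw [hr0] at h8; norm_num at h8
      rw [hle, Nat.card_zpowers, ht2]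

end Cfsg.Agent.S4005
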