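import Cfsg.Statements.S4006
import Cfsg.Agent.H31.OrdersFour

set_option autoImplicit false
open Cfsg

namespace Cfsg.Agent.S4006

/-- A finite group whose set of element orders is exactly {1, 2, 3, 4} has a normal subgroup N such that either N is a 2-group of exponent 4 and nilpotency class at most 2 with G/N of order 3, or N is an elementary abelian 2-group with G/N isomorphic to the symmetric group of degree 3, or N is an elementary abelian 3-group with G/N cyclic of order 4 or quaternion of order 8. -/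
theorem result {G : Type*} [Group G] [Finite G] (h : Set.range (orderOf : G → ℕ) = {k : ℕ | 1 ≤ k ∧ k ≤ 4}) :
    ∃ (N : Subgroup G) (_ : N.Normal),
      (IsPGroup 2 ↥N ∧ Monoid.exponent ↥N = 4 ∧ Group.nilpotencyClass ↥N ≤ 2 ∧ N.index = 3) ∨
      (Cfsg.IsElementaryAbelian 2 N ∧ Nonempty (G ⧸ N ≃* Equiv.Perm (Fin 3))) ∨
      (Cfsg.IsElementaryAbelian 3 N ∧ ((IsCyclic (G ⧸ N) ∧ N.index = 4) ∨ Nonempty (G ⧸ N ≃* QuaternionGroup 2))) := by
  have hs : H31.OrdersFour.Small G := fun x => by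
    have := h ▸ Set.mem_range_self (f := (orderOf : G → ℕ)) x
    exact this
  have hex : ∀ k : ℕ, 1 ≤ k → k ≤ 4 → ∃ x : G, orderOf x = k := fun k h1 h4 => by
    have : k ∈ Set.range (orderOf : G → ℕ) := by rw [h]; exact ⟨h1, h4⟩
    exact this
  have hprimes : ∀ r : ℕ, r.Prime → r ∣ Nat.card G → r = 2 ∨ r = 3 := by
    intro r hr hd
    haveI : Fact r.Prime := ⟨hr⟩
    obtain ⟨x, hx⟩ := exists_prime_orderOf_dvd_card' r hd
    have := hs x
    rcases (show r = 1 ∨ r = 2 ∨ r = 3 ∨ r = 4 by omega) with h' | h' | h' | h'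
    · exact absurd h' hr.one_lt.ne'
    · exact Or.inl h'
    · exact Or.inr h'
    · rw [h'] at hr; exact absurd hr (by norm_num)
  haveI : Nontrivial G := by
    obtain ⟨x, hx⟩ := hex 2 (by norm_num) (by norm_num)
    exact ⟨x, 1, fun h' => by rw [h', orderOf_one] at hx; omega⟩
  have hsol := H33.isSolvable_of_two_primes Nat.prime_two Nat.prime_three hprimes
  obtain ⟨p, A, hp, hAn, hA, hAc, hAp, -⟩ := H34.exists_normal_elementary hsol
  haveI := hAn
  obtain ⟨a, ha, ha1⟩ : ∃ a ∈ A, a ≠ 1 := by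
    by_contra h'; push Not at h'; exact hA (eq_bot_iff.mpr fun x hx => Subgroup.mem_bot.mpr (h' x hx))
  haveI : Fact p.Prime := ⟨hp⟩
  have hord : orderOf a = p := orderOf_eq_prime (hAp a ha) ha1
  rcases hprimes p hp (hord ▸ orderOf_dvd_natCard a) with rfl | rfl
  · obtain ⟨N, hN, h1 | h1⟩ := H31.OrdersFour.two_case hs (hex 3 (by norm_num) (by norm_num)) (hex 4 (by norm_num) (by norm_num)) hprimes A hA hAc hAp
    · exact ⟨N, hN, Or.inl h1⟩
    · exact ⟨N, hN, Or.inr (Or.inl h1)⟩
  · obtain ⟨N, hN, h1⟩ := H31.OrdersFour.three_case hs (hex 2 (by norm_num) (by norm_num)) (hex 4 (by norm_num) (by norm_num)) A hA hAp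
    exact ⟨N, hN, Or.inr (Or.inr h1)⟩

end Cfsg.Agent.S4006
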