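import Cfsg.Statements.S4009
import Cfsg.Agent.H31.DerivedBound

set_option autoImplicit false
open Cfsg

namespace Cfsg.Agent.S4009

/-- Let P be a finite p-group of order p^n whose derived length is exactly k + 1 (the k-th derived subgroup is nontrivial and the (k+1)-st is trivial). Then n ≥ 2^k + 2k − 2. -/
theorem result {P : Type*} [Group P] [Finite P] (p : ℕ) [Fact p.Prime] (n k : ℕ) (hcard : Nat.card P = p ^ n) (hk : derivedSeries P k ≠ ⊥) (hk' : derivedSeries P (k + 1) = ⊥) : 2 ^ k + 2 * k ≤ n + 2 := by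
  have hp : p.Prime := Fact.out
  have hG : IsPGroup p P := IsPGroup.of_card hcard
  have hpos : 2 ≤ Nat.card (derivedSeries P k) :=
    Finite.one_lt_card_iff_nontrivial.mpr ((Subgroup.nontrivial_iff_ne_bot _).mpr hk)
  obtain ⟨j, hj⟩ := IsPGroup.iff_card.mp (hG.to_subgroup (derivedSeries P k))
  have hj1 : 1 ≤ j := by
    by_contra h
    rw [hj, show j = 0 by omega, pow_zero] at hpos
    omega
  have hb : p ^ (2 ^ k + 2 * k) ≤ (derivedSeries P k).index * p ^ 3 := by
    rcases H31.DerivedBound.derived_bound hG k hk with ⟨-, h⟩ | ⟨-, h, -⟩ | ⟨-, h⟩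
    · exact h.trans (Nat.mul_le_mul_left _ (Nat.le_self_pow (by norm_num) p))
    · exact h.trans (Nat.mul_le_mul_left _ (Nat.pow_le_pow_right hp.pos (by norm_num)))
    · exact h
  have hle : p ^ (2 ^ k + 2 * k + j) ≤ p ^ (n + 3) := by
    rw [pow_add, pow_add _ n, ← hcard, ← Subgroup.card_mul_index (derivedSeries P k), ← hj]
    calc p ^ (2 ^ k + 2 * k) * Nat.card (derivedSeries P k)
        ≤ (derivedSeries P k).index * p ^ 3 * Nat.card (derivedSeries P k) := Nat.mul_le_mul_right _ hb
      _ = _ := by ring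
  have := (Nat.pow_le_pow_iff_right hp.one_lt).mp hle
  omega

end Cfsg.Agent.S4009
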