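import Cfsg.Statements.S4013
import Cfsg.Agent.H31.Basic

set_option autoImplicit false
open Cfsg

namespace Cfsg.Agent.S4013

/-- Let G be a finite p-group (p prime) and N < M normal subgroups of G such that for some g ∈ M ∖ N the conjugacy class of g is exactly M ∖ N. Then p = 2 and N has index 2 in M. -/
theorem result {G : Type*} [Group G] [Finite G] (p : ℕ) [Fact p.Prime] (hG : IsPGroup p G) (N M : Subgroup G) [N.Normal] [M.Normal] (hNM : N < M) (g : G) (hgM : g ∈ M) (hgN : g ∉ N) (hcl : {h : G | IsConj g h} = (M : Set G) \ (N : Set G)) : p = 2 ∧ N.relIndex M = 2 := by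
  have hp : p.Prime := Fact.out
  obtain ⟨a, ha⟩ : ∃ a, (Subgroup.centralizer ({g} : Set G)).index = p ^ a := hG.index _
  obtain ⟨b, hb⟩ : ∃ b, Nat.card N = p ^ b := (IsPGroup.iff_card.mp (hG.to_subgroup N))
  obtain ⟨c, hc⟩ : ∃ c, Nat.card M = p ^ c := (IsPGroup.iff_card.mp (hG.to_subgroup M))
  have hcard : Nat.card {h : G | IsConj g h} = Nat.card M - Nat.card N := by
    rw [hcl, Nat.card_coe_set_eq, Set.ncard_sdiff (by exact hNM.le)]
    rfl
  rw [H31.card_isConj, ha, hb, hc] at hcard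
  have hlt : b < c := by
    have h1 : Nat.card N < Nat.card M := by
      refine lt_of_le_of_ne (Subgroup.card_le_of_le hNM.le) (fun h => hNM.ne ?_)
      exact Subgroup.eq_of_le_of_card_ge hNM.le h.ge
    rw [hb, hc] at h1
    exact (Nat.pow_lt_pow_iff_right hp.one_lt).mp h1
  obtain ⟨d, rfl⟩ : ∃ d, c = b + d + 1 := ⟨c - b - 1, by omega⟩
  have h2 : p ^ a = p ^ b * (p ^ (d + 1) - 1) := by
    rw [hcard, Nat.mul_sub, mul_one, ← pow_add, ← add_assoc]
  have h3 : p ^ (d + 1) - 1 ∣ p ^ a := h2 ▸ dvd_mul_left _ _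
  obtain ⟨e, -, he⟩ := (Nat.dvd_prime_pow hp).mp h3
  have hpos : 0 < p ^ (d + 1) := pow_pos hp.pos _
  have h4 : p ^ (d + 1) = p ^ e + 1 := by omega
  have he0 : e = 0 := by
    by_contra hne
    have h5 : p ∣ p ^ e + 1 := h4 ▸ dvd_pow_self p (Nat.succ_ne_zero d)
    have h6 : p ∣ 1 := (Nat.dvd_add_right (dvd_pow_self p hne)).mp h5
    exact hp.one_lt.ne' (Nat.dvd_one.mp h6)
  rw [he0, pow_zero] at h4
  have hp2 : p = 2 := (Nat.prime_dvd_prime_iff_eq hp Nat.prime_two).mp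
    (by rw [show (2:ℕ) = p ^ (d+1) from h4.symm]; exact dvd_pow_self p (Nat.succ_ne_zero d))
  refine ⟨hp2, ?_⟩
  have hmul : Nat.card N * N.relIndex M = Nat.card M := by
    rw [← Subgroup.relIndex_bot_left, ← Subgroup.relIndex_bot_left, Subgroup.relIndex_mul_relIndex ⊥ N M bot_le hNM.le]
  rw [hb, hc, add_assoc, pow_add, h4] at hmul
  exact Nat.eq_of_mul_eq_mul_left (pow_pos hp.pos b) hmul

end Cfsg.Agent.S4013
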