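import Cfsg.Statements.S4014
import Cfsg.Agent.H35.DerivedPerm
import Mathlib

set_option autoImplicit false
set_option linter.all false
open Cfsg

namespace Cfsg.Agent.S4014

/-- Let p be a prime, n ≥ 1, and P a Sylow p-subgroup of the symmetric group on n letters. Then the derived length of P is exactly k = ⌊log_p n⌋ (the largest k with p^k ≤ n): the k-th derived subgroup of P is trivial and, when k ≥ 1, the (k−1)-st is not. -/
theorem result (p : ℕ) [Fact p.Prime] (n : ℕ) (hn : 1 ≤ n) (P : Sylow p (Equiv.Perm (Fin n))) : derivedSeries ↥(P : Subgroup (Equiv.Perm (Fin n))) (Nat.log p n) = ⊥ ∧ (1 ≤ Nat.log p n → derivedSeries ↥(P : Subgroup (Equiv.Perm (Fin n))) (Nat.log p n - 1) ≠ ⊥) := by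
  have hp := (Fact.out : p.Prime)
  have hlt : n < p ^ (Nat.log p n + 1) := Nat.lt_pow_succ_log_self hp.one_lt n
  haveI : FaithfulSMul ↥(P : Subgroup (Equiv.Perm (Fin n))) (Fin n) :=
    ⟨fun h => Subtype.ext (Equiv.ext h)⟩
  refine ⟨H35.derivedSeries_eq_bot_of_faithful P.isPGroup' (Fin n) (by simpa using hlt), fun hk => ?_⟩
  obtain ⟨j, hj⟩ := Nat.exists_eq_add_of_le' hk
  have hpn : p ^ (j + 1) ≤ n := hj ▸ Nat.pow_log_le_self p (by omega)
  obtain ⟨W, hG, hFin, hW, ⟨f, hf⟩, hne⟩ := H35.exists_perm_pgroup_derived (p := p) j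
  let g : W →* Equiv.Perm (Fin n) :=
    (Equiv.Perm.viaEmbeddingHom (Fin.castLEEmb hpn)).comp f
  have hg : Function.Injective g := (Equiv.Perm.viaEmbeddingHom_injective _).comp hf
  obtain ⟨Q, hQ⟩ := (hW.of_surjective g.rangeRestrict g.rangeRestrict_surjective : IsPGroup p g.range).exists_le_sylow
  let h : W →* ↥(P : Subgroup (Equiv.Perm (Fin n))) :=
    (Q.equiv P).toMonoidHom.comp (g.codRestrict (Q : Subgroup (Equiv.Perm (Fin n))) fun w => hQ ⟨w, rfl⟩)
  have hh : Function.Injective h :=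
    (Q.equiv P).injective.comp fun a b hab => hg (congrArg Subtype.val hab)
  rw [hj, Nat.add_sub_cancel]
  intro hbot
  apply hne
  have h1 := map_derivedSeries_le_derivedSeries h j
  rw [hbot, le_bot_iff, Subgroup.map_eq_bot_iff_of_injective _ hh] at h1
  exact h1

end Cfsg.Agent.S4014
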