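import Cfsg.Statements.S4015
import Cfsg.Agent.H35.DerivedGL
import Mathlib

set_option autoImplicit false
set_option linter.all false
open Cfsg

namespace Cfsg.Agent.S4015

/-- Let p be an odd prime, F a finite field with q elements where p does not divide q, and e the multiplicative order of q modulo p. Let n ≥ e and write w = ⌊n/e⌋ and k = ⌊log_p w⌋. Then a Sylow p-subgroup of GL(n, F) has derived length exactly k + 1: its (k+1)-st derived subgroup is trivial and its k-th is not. -/
theorem result (p : ℕ) [Fact p.Prime] (hp : p ≠ 2) (F : Type*) [Field F] [Fintype F] (q : ℕ) (hq : Fintype.card F = q) (hpq : ¬ p ∣ q) (n : ℕ) (hn : orderOf (q : ZMod p) ≤ n) (P : Sylow p (Matrix.GeneralLinearGroup (Fin n) F)) : derivedSeries ↥(P : Subgroup (Matrix.GeneralLinearGroup (Fin n) F)) (Nat.log p (n / orderOf (q : ZMod p)) + 1) = ⊥ ∧ derivedSeries ↥(P : Subgroup (Matrix.GeneralLinearGroup (Fin n) F)) (Nat.log p (n / orderOf (q : ZMod p))) ≠ ⊥ := by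
  have hp' := (Fact.out : p.Prime)
  set e := orderOf (q : ZMod p) with he
  have hne0 : (q : ZMod p) ≠ 0 := fun h => hpq ((ZMod.natCast_eq_zero_iff q p).1 h)
  have he0 : 0 < e := orderOf_pos_iff.2 (isOfFinOrder_iff_pow_eq_one.2
    ⟨p - 1, by have := hp'.two_le; omega, ZMod.pow_card_sub_one_eq_one hne0⟩)
  refine ⟨H35.derivedSeries_gl_le P.isPGroup' hq hpq (P : Subgroup (Matrix.GeneralLinearGroup (Fin n) F)).subtype (Subgroup.subtype_injective _), ?_⟩
  refine H35.derivedSeries_gl_ne_bot hq he0 (pow_orderOf_eq_one _) ?_ P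
  have hw : 1 ≤ n / e := (Nat.one_le_div_iff he0).2 hn
  exact (Nat.mul_le_mul_right e (Nat.pow_log_le_self p (by omega))).trans (Nat.div_mul_le_self n e)

end Cfsg.Agent.S4015
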