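import Cfsg.Statements.S4018
import Cfsg.Agent.H32.SmallThree
import Cfsg.Agent.H32.InvertedTIFalse
import Cfsg.Agent.H62.Basic

set_option autoImplicit false
open Cfsg

namespace Cfsg.Agent.S4018

/-- Let G be a finite group with an abelian Sylow 3-subgroup P such that the normalizer of P has order 4·#P, the centralizer C of P has order 2·#P, C meets each of its conjugates by elements outside its normalizer trivially, and every proper subgroup of G of even order has order dividing 4·#P. Then G is not simple. -/
theorem result {G : Type*} [Group G] [Finite G]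
    (P : Sylow 3 G) (hab : IsMulCommutative P)
    (hN : Nat.card (Subgroup.normalizer ((P : Subgroup G) : Set G)) = 4 * Nat.card P)
    (hC : Nat.card (Subgroup.centralizer (P : Set G)) = 2 * Nat.card P)
    (hTI : Cfsg.IsTISubset (Subgroup.centralizer (P : Set G) : Set G))
    (heven : ∀ H : Subgroup G, H ≠ ⊤ → 2 ∣ Nat.card H → Nat.card H ∣ 4 * Nat.card P) :
    ¬ IsSimpleGroup G := by
  intro hsimp
  haveI := hsimp
  haveI := Fintype.ofFinite G
  set n := Nat.card P with hn
  have hn3 : ∃ a, n = 3 ^ a := IsPGroup.iff_card.mp P.isPGroup'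
  obtain ⟨a, ha⟩ := hn3
  have hPN : (P : Subgroup G) ≤ Subgroup.normalizer ((P : Subgroup G) : Set G) := Subgroup.le_normalizer
  have hdvdN : 4 * n ∣ Nat.card G := hN ▸ Subgroup.card_subgroup_dvd_card _
  have hna : ¬ IsMulCommutative G := H62.not_comm_of_not_prime (fun hp => by
    rcases hp.eq_one_or_self_of_dvd 2 (dvd_trans (Dvd.intro (2 * n) (by ring)) hdvdN) with h | h
    · omega
    · have := Nat.le_of_dvd Nat.card_pos hdvdN
      have : 0 < n := Nat.card_pos
      omega)
  have hn3' : 3 ≤ n := by
    rcases Nat.eq_zero_or_pos a with rfl | ha0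
    · exfalso
      rw [pow_zero] at ha
      have hP : (P : Subgroup G) = ⊥ := Subgroup.card_eq_one.mp ha
      rw [ha, hP] at hN
      haveI : (⊥ : Subgroup G).Normal := inferInstance
      rw [Subgroup.normalizer_eq_top, Subgroup.card_top] at hN
      haveI : Fact (Nat.Prime 2) := ⟨Nat.prime_two⟩
      exact H62.not_isPGroup_of_simple hna 2 (IsPGroup.of_card (n := 2) (by rw [hN]; norm_num))
    · rw [ha]; exact Nat.le_self_pow ha0.ne' 3
  have hodd : Odd n := by rw [ha]; exact Odd.pow (by decide)
  exact (H32.SmallThree.setup P hab hN hC hTI heven hna hn3').elim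
    fun S hS => H32.InvertedTI.false_of_setup S (hS.symm ▸ hn3') (hS.symm ▸ hodd)

end Cfsg.Agent.S4018
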