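import Cfsg.Statements.S4021
import Cfsg.Agent.H1.EqConj.SmallSylow
import Cfsg.Agent.H35.ConjPSubgroups

set_option autoImplicit false
open Cfsg

namespace Cfsg.Agent.S4021

/-- Let G be a finite group in which any two subgroups of the same order are conjugate. Then G/O(G), O(G) the largest normal subgroup of odd order, is one of: a cyclic 2-group; the one-dimensional affine group over the field with 8 elements; the one-dimensional semi-affine group over the field with 8 or with 32 elements; PSL₂(8); the full automorphism group of PSL₂(32); the alternating group of degree 4 or 5; SL₂(3); or SL₂(5). -/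
theorem result {G : Type*} [Group G] [Finite G]
    (hC : ∀ H K : Subgroup G, Nat.card H = Nat.card K → ∃ g : G, K = H.map (MulAut.conj g).toMonoidHom) :
    (IsCyclic (G ⧸ Cfsg.oddCore G) ∧ IsPGroup 2 (G ⧸ Cfsg.oddCore G)) ∨
    Nonempty (G ⧸ Cfsg.oddCore G ≃* Cfsg.affineGroup (GaloisField 2 3)) ∨
    Nonempty (G ⧸ Cfsg.oddCore G ≃* Cfsg.semiaffineGroup (GaloisField 2 3)) ∨
    Nonempty (G ⧸ Cfsg.oddCore G ≃* Cfsg.semiaffineGroup (GaloisField 2 5)) ∨
    Nonempty (G ⧸ Cfsg.oddCore G ≃* Matrix.ProjectiveSpecialLinearGroup (Fin 2) (GaloisField 2 3)) ∨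
    Nonempty (G ⧸ Cfsg.oddCore G ≃* MulAut (Matrix.ProjectiveSpecialLinearGroup (Fin 2) (GaloisField 2 5))) ∨
    Nonempty (G ⧸ Cfsg.oddCore G ≃* alternatingGroup (Fin 4)) ∨
    Nonempty (G ⧸ Cfsg.oddCore G ≃* alternatingGroup (Fin 5)) ∨
    Nonempty (G ⧸ Cfsg.oddCore G ≃* Matrix.SpecialLinearGroup (Fin 2) (ZMod 3)) ∨
    Nonempty (G ⧸ Cfsg.oddCore G ≃* Matrix.SpecialLinearGroup (Fin 2) (ZMod 5)) := by
  classical
  haveI : Fact (Nat.Prime 2) := ⟨Nat.prime_two⟩
  have hD : H1.EqConj.EqOrderConj (G ⧸ Cfsg.oddCore G) :=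
    H1.EqConj.EqOrderConj.quotient hC (Cfsg.oddCore G)
  have hO := H1.EqConj.oddCore_quotient_oddCore G
  generalize hS : (default : Sylow 2 (G ⧸ Cfsg.oddCore G)) = S
  rcases H35.sylow_types_of_conj (hD.pConj 2) S.isPGroup' with hcyc | ⟨-, ⟨e⟩⟩ | ⟨hexp, -⟩
  · haveI := hcyc
    exact Or.inl (H1.EqConj.isPGroup_of_cyclic S hO)
  · rcases H1.EqConj.quaternion_case hD hO S e with h1 | h1
    · exact Or.inr (Or.inr (Or.inr (Or.inr (Or.inr (Or.inr (Or.inr (Or.inr (Or.inl h1))))))))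
    · exact Or.inr (Or.inr (Or.inr (Or.inr (Or.inr (Or.inr (Or.inr (Or.inr (Or.inr h1))))))))
  · have hel : H1.EqConj.Elem S := ⟨hD, fun s hs => by rw [← pow_two]; exact hexp s hs⟩
    obtain ⟨n, hn⟩ := IsPGroup.iff_card.1 S.isPGroup'
    rcases Nat.lt_or_ge n 2 with h2 | h2
    · haveI : IsCyclic (S : Subgroup (G ⧸ Cfsg.oddCore G)) := by
        interval_cases n
        · haveI : Subsingleton (S : Subgroup (G ⧸ Cfsg.oddCore G)) :=
            (Nat.card_eq_one_iff_unique.1 (by simpa using hn)).1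
          infer_instance
        · exact isCyclic_of_prime_card (p := 2) (by simpa using hn)
      exact Or.inl (H1.EqConj.isPGroup_of_cyclic S hO)
    rcases Nat.eq_or_lt_of_le h2 with rfl | h3
    · rcases hel.four (by rw [hn]; norm_num) hO with h1 | h1
      · exact Or.inr (Or.inr (Or.inr (Or.inr (Or.inr (Or.inr (Or.inl h1))))))
      · exact Or.inr (Or.inr (Or.inr (Or.inr (Or.inr (Or.inr (Or.inr (Or.inl h1)))))))
    · rcases hel.large h3 hn hO with h1 | h1 | h1 | h1 | h1 | h1 | h1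
      · exact Or.inr (Or.inl h1)
      · exact Or.inr (Or.inr (Or.inl h1))
      · exact Or.inr (Or.inr (Or.inr (Or.inl h1)))
      · exact Or.inr (Or.inr (Or.inr (Or.inr (Or.inl h1))))
      · exact Or.inr (Or.inr (Or.inr (Or.inr (Or.inr (Or.inl h1)))))
      · exact Or.inr (Or.inr (Or.inr (Or.inr (Or.inr (Or.inr (Or.inl h1))))))
      · exact Or.inr (Or.inr (Or.inr (Or.inr (Or.inr (Or.inr (Or.inr (Or.inl h1)))))))

end Cfsg.Agent.S4021
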