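import Cfsg.Statements.S4027
import Mathlib
import Cfsg.Agent.S3861

set_option autoImplicit false
set_option linter.all false
open Cfsg

namespace Cfsg.Agent.S4027

/-- Let G be a finite group in which every element x of odd order satisfies N_G(⟨x⟩) = C_G(x). Then the Sylow 2-subgroups of G are normal. -/
theorem result {G : Type*} [Group G] [Finite G]
    (hirr : ∀ x : G, (∀ r : ℕ, r.Prime → r ∣ orderOf x → r ≠ 2) →
      Subgroup.normalizer ((Subgroup.zpowers x : Subgroup G) : Set G) ≤ Subgroup.centralizer {x}) (P : Sylow 2 G) :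
    (P : Subgroup G).Normal := by
  refine (Cfsg.Agent.S3861.result P).1 fun x hx hodd hreal => hx ?_
  obtain ⟨t, ht⟩ := isConj_iff.1 hreal
  have hn : t ∈ Subgroup.normalizer ((Subgroup.zpowers x : Subgroup G) : Set G) := by
    refine Subgroup.mem_normalizer_fintype fun y hy => ?_
    obtain ⟨i, rfl⟩ := Subgroup.mem_zpowers_iff.1 hy
    rw [← conj_zpow, ht, inv_zpow]
    exact Subgroup.inv_mem _ (Subgroup.zpow_mem_zpowers x i)
  have hc := Subgroup.mem_centralizer_singleton_iff.1 (hirr x (fun r hr hd h2 => by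
    subst h2
    exact Nat.not_even_iff_odd.2 hodd (even_iff_two_dvd.2 hd)) hn)
  rw [hc, mul_inv_cancel_right] at ht
  have h2 : x ^ 2 = 1 := by rw [pow_two]; nth_rw 1 [ht]; simp
  rw [← orderOf_eq_one_iff]
  exact Nat.eq_one_of_dvd_coprimes (Nat.coprime_two_left.2 hodd) (orderOf_dvd_of_pow_eq_one h2) dvd_rfl

end Cfsg.Agent.S4027
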