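import Cfsg.Statements.S4028
import Mathlib
import Cfsg.Agent.H35.PElem

set_option autoImplicit false
set_option linter.all false
open Cfsg

namespace Cfsg.Agent.S4028

/-- Let G be a finite group with Sylow 2-subgroup P. Then N_G(⟨x⟩) = C_G(x) holds for every 2-element x of G if and only if N_P(⟨y⟩) = C_P(y) holds for every y ∈ P (computed inside P). -/
theorem result {G : Type*} [Group G] [Finite G] (P : Sylow 2 G) :
    (∀ x : G, (∀ r : ℕ, r.Prime → r ∣ orderOf x → r = 2) →
      Subgroup.normalizer ((Subgroup.zpowers x : Subgroup G) : Set G) ≤ Subgroup.centralizer {x}) ↔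
    (∀ y : ↥(P : Subgroup G), Subgroup.normalizer ((Subgroup.zpowers y : Subgroup ↥(P : Subgroup G)) : Set ↥(P : Subgroup G)) ≤
        Subgroup.centralizer {y}) := by
  constructor
  · intro hall y w hw
    have horder : ∀ r : ℕ, r.Prime → r ∣ orderOf (y : G) → r = 2 := by
      intro r hr hd
      obtain ⟨e, he⟩ := IsPGroup.iff_orderOf.1 P.isPGroup' y
      rw [Subgroup.orderOf_coe, he] at hd
      exact (Nat.prime_dvd_prime_iff_eq hr Nat.prime_two).1 (hr.dvd_of_dvd_pow hd)
    have hwn : (w : G) ∈ Subgroup.normalizer ((Subgroup.zpowers (y : G) : Subgroup G) : Set G) := by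
      have h := Subgroup.le_normalizer_map (P : Subgroup G).subtype (Subgroup.mem_map_of_mem _ hw)
      rw [MonoidHom.map_zpowers] at h
      exact h
    have h2 := Subgroup.mem_centralizer_singleton_iff.1 (hall _ horder hwn)
    exact Subgroup.mem_centralizer_singleton_iff.2 (Subtype.ext h2)
  · intro hP x hx g hg
    rw [Subgroup.mem_centralizer_singleton_iff]
    obtain ⟨e, he⟩ : ∃ e, orderOf x = 2 ^ e :=
      ⟨_, Nat.eq_prime_pow_of_unique_prime_dvd (orderOf_pos x).ne' fun {d} hd hdx => hx d hd hdx⟩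
    rcases Nat.eq_zero_or_pos e with rfl | hepos
    · rw [pow_zero, orderOf_eq_one_iff] at he
      simp [he]
    obtain ⟨k, hk⟩ := Subgroup.mem_zpowers_iff.1 ((Subgroup.mem_normalizer_iff.1 hg x).1 (Subgroup.mem_zpowers x))
    have hk2 : ((2 : ℕ) : ℤ) ∣ k - 1 := by
      push_cast
      rcases Int.even_or_odd k with ⟨c, hc⟩ | ⟨c, hc⟩
      · exfalso
        have h1 : (g * x * g⁻¹) ^ (2 ^ (e - 1)) = 1 := by
          rw [← hk, ← zpow_natCast, ← zpow_mul]
          apply orderOf_dvd_iff_zpow_eq_one.1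
          rw [he, hc]
          obtain ⟨f, rfl⟩ := Nat.exists_eq_add_of_le hepos
          simp only [Nat.add_sub_cancel_left]
          push_cast
          exact ⟨c, by rw [pow_add]; ring⟩
        have h2 : orderOf (g * x * g⁻¹) = 2 ^ e := by rw [← he]; exact (MulAut.conj g).orderOf_eq x
        have h3 := orderOf_dvd_of_pow_eq_one h1
        rw [h2, Nat.pow_dvd_pow_iff_le_right (by norm_num)] at h3
        omega
      · exact ⟨c, by omega⟩
    have hcomm1 := H35.commute_pow_prime_pow he hk.symm hk2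
    obtain ⟨j, m, hm, hord⟩ := Nat.exists_eq_two_pow_mul_odd (orderOf_pos g).ne'
    have hcomm2 : Commute (g ^ m) x := by
      have hp1 : IsPGroup 2 (Subgroup.zpowers (g ^ m)) := IsPGroup.of_card (n := j) (by
        rw [Nat.card_zpowers, orderOf_pow' _ hm.pos.ne', hord, Nat.gcd_mul_left_left, Nat.mul_div_cancel _ hm.pos])
      have hp2 : IsPGroup 2 (Subgroup.zpowers x) := IsPGroup.of_card (n := e) (by rw [Nat.card_zpowers, he])
      obtain ⟨Q, hQ⟩ := (hp1.to_sup_of_normal_right' hp2 ((Subgroup.zpowers_le).2 (pow_mem hg m))).exists_le_sylow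
      obtain ⟨c, hc⟩ := MulAction.exists_smul_eq G Q P
      have mem : ∀ z ∈ (Q : Subgroup G), c * z * c⁻¹ ∈ (P : Subgroup G) := by
        intro z hz
        rw [← hc]
        exact Subgroup.smul_mem_pointwise_smul _ (MulAut.conj c) _ hz
      have hxQ : x ∈ (Q : Subgroup G) := hQ (Subgroup.mem_sup_right (Subgroup.mem_zpowers x))
      have hgQ : g ^ m ∈ (Q : Subgroup G) := hQ (Subgroup.mem_sup_left (Subgroup.mem_zpowers _))
      let y : (P : Subgroup G) := ⟨_, mem x hxQ⟩
      let w : (P : Subgroup G) := ⟨_, mem _ hgQ⟩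
      obtain ⟨k', hk'⟩ := Subgroup.mem_zpowers_iff.1 ((Subgroup.mem_normalizer_iff.1 (pow_mem hg m) x).1 (Subgroup.mem_zpowers x))
      have hw : w ∈ Subgroup.normalizer ((Subgroup.zpowers y : Subgroup (P : Subgroup G)) : Set (P : Subgroup G)) := by
        refine Subgroup.mem_normalizer_fintype ?_
        intro z hz
        obtain ⟨i, rfl⟩ := Subgroup.mem_zpowers_iff.1 hz
        rw [← conj_zpow]
        refine Subgroup.zpow_mem _ (Subgroup.mem_zpowers_iff.2 ⟨k', ?_⟩) i
        apply Subtype.ext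
        show ((y ^ k' : (P : Subgroup G)) : G) = c * g ^ m * c⁻¹ * (c * x * c⁻¹) * (c * g ^ m * c⁻¹)⁻¹
        rw [Subgroup.coe_zpow]
        show (c * x * c⁻¹) ^ k' = _
        rw [conj_zpow, hk']
        group
      have h2 := congrArg Subtype.val (Subgroup.mem_centralizer_singleton_iff.1 (hP y hw))
      change c * g ^ m * c⁻¹ * (c * x * c⁻¹) = c * x * c⁻¹ * (c * g ^ m * c⁻¹) at h2
      show g ^ m * x = x * g ^ m
      have h3 := congrArg (fun z => c⁻¹ * z * c) h2
      simpa [mul_assoc] using h3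
    exact (H35.commute_of_coprime_powers (Nat.Coprime.pow_left e (Nat.coprime_two_left.2 hm)) hcomm1 hcomm2).eq

end Cfsg.Agent.S4028
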