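import Cfsg.Statements.S4029
import Cfsg.Agent.H13.PermutationLemma
import Cfsg.Agent.H12.Linear
import Cfsg.Agent.H6.Basic

set_option autoImplicit false
open Cfsg

namespace Cfsg.Agent.S4029

/-- Let P be a finite 2-group in which N_P(⟨y⟩) = C_P(y) for every y ∈ P. If s is the number of conjugacy classes of involutions of P, then #(P/Φ(P)) ≤ s + 1; in particular the subgroup generated by the involutions of P has order at least #(P/Φ(P)). -/
theorem result {P : Type*} [Group P] [Finite P] (hP : IsPGroup 2 P)
    (hirr : ∀ y : P, Subgroup.normalizer ((Subgroup.zpowers y : Subgroup P) : Set P) ≤ Subgroup.centralizer {y}) :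
    Nat.card (P ⧸ frattini P) ≤ Nat.card {c : ConjClasses P // ∃ y : P, ConjClasses.mk y = c ∧ orderOf y = 2} + 1 ∧
    Nat.card (P ⧸ frattini P) ≤ Nat.card (Subgroup.closure {y : P | orderOf y = 2}) := by
  classical
  haveI := Fintype.ofFinite P
  haveI : Fact (Nat.Prime 2) := ⟨Nat.prime_two⟩
  have hsq : ∀ x : P, IsConj x⁻¹ x → x ^ 2 = 1 := by
    intro x hx
    obtain ⟨c, hc⟩ := isConj_iff.1 hx
    have h1 : c * x * c⁻¹ = x⁻¹ := by
      rw [← inv_inj, inv_inv]
      simpa [mul_assoc] using hc
    have hk : ∀ k : ℤ, c * x ^ k * c⁻¹ = x ^ (-k) := fun k => by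
      rw [← conj_zpow, h1, inv_zpow, zpow_neg]
    have hn : c ∈ Subgroup.normalizer ((Subgroup.zpowers x : Subgroup P) : Set P) := by
      rw [Subgroup.mem_normalizer_iff]
      intro y
      constructor
      · rintro ⟨k, rfl⟩
        exact ⟨-k, (hk k).symm⟩
      · rintro ⟨k, hky⟩
        refine ⟨-k, ?_⟩
        have h2 : c * x ^ (-k) * c⁻¹ = c * y * c⁻¹ := by
          rw [hk, neg_neg]; exact hky
        simpa using h2
    have h3 : c * x = x * c := Subgroup.mem_centralizer_singleton_iff.1 (hirr x hn)
    rw [h3, mul_inv_cancel_right] at h1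
    rw [pow_two]
    nth_rewrite 2 [h1]
    exact mul_inv_cancel x
  -- real characters
  have hirrc : ∀ χ : IrrCharacter P, IsIrrCharacter P ((χ : P → ℂ) ∘ (fun g : P => g⁻¹)) := by
    intro χ
    have he : (χ : P → ℂ) ∘ (fun g : P => g⁻¹) = fun g => (starRingEnd ℂ) ((χ : P → ℂ) g) := by
      funext g
      exact H12.irr_inv χ g
    rw [he]
    exact H12.isIrrCharacter_conj χ.2
  have hperm := H13.card_fixed_irr_eq (fun g : P => g⁻¹) (fun a b h => by
    obtain ⟨c, hc⟩ := isConj_iff.1 h
    exact isConj_iff.2 ⟨c, by rw [← hc]; group⟩) hirrc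
  have hΦ : ∀ a b : P ⧸ frattini P, a * b = b * a := by
    intro a b
    induction a using QuotientGroup.induction_on with | H x =>
    induction b using QuotientGroup.induction_on with | H y =>
    rw [← QuotientGroup.mk_mul, ← QuotientGroup.mk_mul, QuotientGroup.eq]
    have h := H6.commutator_le_frattini hP
    rw [_root_.commutator_def] at h
    have h4 := h (Subgroup.commutator_mem_commutator (Subgroup.mem_top y⁻¹) (Subgroup.mem_top x⁻¹))
    rw [commutatorElement_def] at h4
    convert h4 using 1
    group
  have hexp : ∀ a : P ⧸ frattini P, a⁻¹ = a := by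
    intro a
    induction a using QuotientGroup.induction_on with | H x =>
    rw [inv_eq_iff_mul_eq_one, ← pow_two, ← QuotientGroup.mk_pow, QuotientGroup.eq_one_iff]
    exact H6.pow_prime_mem_frattini hP x
  have hdual : Nat.card ((P ⧸ frattini P) →* ℂˣ) = Nat.card (P ⧸ frattini P) := by
    rw [H12.card_monoidHom_units]
    have : _root_.commutator (P ⧸ frattini P) = ⊥ := by
      rw [_root_.commutator_def, Subgroup.commutator_eq_bot_iff_le_centralizer]
      exact fun a _ => Subgroup.mem_centralizer_iff.2 fun b _ => hΦ b a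
    rw [this, Subgroup.index_bot]
  have hle : Nat.card (P ⧸ frattini P) ≤
      Nat.card {χ : IrrCharacter P // (χ : P → ℂ) ∘ (fun g : P => g⁻¹) = (χ : P → ℂ)} := by
    rw [← hdual]
    refine Nat.card_le_card_of_injective (fun f =>
      ⟨H12.linIrr (f.comp (QuotientGroup.mk' (frattini P))), ?_⟩) ?_
    · funext g
      simp only [Function.comp_apply, H12.linIrr_apply, MonoidHom.comp_apply, QuotientGroup.mk'_apply,
        QuotientGroup.mk_inv, hexp]
    · intro f f' h
      have h2 := H12.linIrr_injective (congrArg Subtype.val h)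
      exact (MonoidHom.cancel_right (QuotientGroup.mk'_surjective _)).1 h2
  rw [hperm] at hle
  have h1 : Nat.card {C : ConjClasses P // IsConj ((H13.classRep C)⁻¹) (H13.classRep C)} ≤
      Nat.card {c : ConjClasses P // ∃ y : P, ConjClasses.mk y = c ∧ orderOf y = 2} + 1 := by
    rw [← Finite.card_option]
    refine Nat.card_le_card_of_injective (fun C => if h : H13.classRep C.1 = 1 then none else
      some ⟨C.1, H13.classRep C.1, H13.mk_classRep C.1,
        orderOf_eq_prime (hsq _ C.2) h⟩) ?_
    intro C C' h
    apply Subtype.ext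
    dsimp only at h
    split_ifs at h with h2 h3 h3
    · rw [← H13.mk_classRep C.1, h2, ← H13.mk_classRep C'.1, h3]
    · have h4 := Option.some.inj h
      exact (Subtype.mk.injEq _ _ _ _).mp h4
  have hA := hle.trans h1
  refine ⟨hA, hA.trans ?_⟩
  rw [← Finite.card_option]
  refine Nat.card_le_card_of_injective (fun o => (o.elim (1 : Subgroup.closure {y : P | orderOf y = 2})
    fun c => ⟨c.2.choose, Subgroup.subset_closure c.2.choose_spec.2⟩)) ?_
  intro o o' h
  rcases o with _ | c <;> rcases o' with _ | c'
  · rfl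
  · exfalso
    have h2 : (1 : P) = c'.2.choose := congrArg Subtype.val h
    have h3 := c'.2.choose_spec.2
    rw [← h2, orderOf_one] at h3
    omega
  · exfalso
    have h2 : c.2.choose = (1 : P) := congrArg Subtype.val h
    have h3 := c.2.choose_spec.2
    rw [h2, orderOf_one] at h3
    omega
  · have h2 : c.2.choose = c'.2.choose := congrArg Subtype.val h
    have : c.1 = c'.1 := by rw [← c.2.choose_spec.1, h2, c'.2.choose_spec.1]
    rw [Subtype.ext this]

end Cfsg.Agent.S4029
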