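import Cfsg.Statements.S4032

set_option autoImplicit false
open Cfsg

namespace Cfsg.Agent.S4032

theorem prime_case {G : Type*} [Group G] [Finite G] (N : Subgroup G) [N.Normal] {p : ℕ}
    [Fact p.Prime] (hN : ¬ p ∣ Nat.card N) (x : G) (hx : ∃ k, orderOf x = p ^ k)
    (hirr : Subgroup.normalizer ((Subgroup.zpowers x : Subgroup G) : Set G) ≤ Subgroup.centralizer {x})
    (g : G) (hg : g * x * g⁻¹ ∈ Subgroup.zpowers x ⊔ N) :
    (g * x * g⁻¹)⁻¹ * x ∈ N := by
  obtain ⟨k, hk⟩ := hx
  set M := Subgroup.zpowers x ⊔ N with hM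
  set X := (Subgroup.zpowers x).subgroupOf M
  set Y := (Subgroup.zpowers (g * x * g⁻¹)).subgroupOf M
  have hcx : Nat.card X = p ^ k := by
    rw [Nat.card_congr (Subgroup.subgroupOfEquivOfLe (le_sup_left : _ ≤ M)).toEquiv,
      Nat.card_zpowers, hk]
  have hcy : Nat.card Y = p ^ k := by
    rw [Nat.card_congr (Subgroup.subgroupOfEquivOfLe
      (Subgroup.zpowers_le.2 hg : Subgroup.zpowers (g * x * g⁻¹) ≤ M)).toEquiv,
      Nat.card_zpowers, ← MulAut.conj_apply, MulEquiv.orderOf_eq, hk]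
  have hd : Disjoint (Subgroup.zpowers x) N :=
    Subgroup.disjoint_of_coprime_natCard
      (by rw [Nat.card_zpowers, hk]; exact Nat.Coprime.pow_left _ ((Fact.out : p.Prime).coprime_iff_not_dvd.2 hN))
  have hcM : Nat.card M = p ^ k * Nat.card N := by
    rw [← hk, ← Nat.card_zpowers, ← Nat.card_prod]
    refine (Nat.card_congr (Equiv.ofBijective
      (fun a => (⟨a.1.1 * a.2.1, Subgroup.mul_mem_sup a.1.2 a.2.2⟩ : M)) ⟨?_, ?_⟩)).symm
    · intro a b h
      exact Subgroup.mul_injective_of_disjoint hd (congrArg Subtype.val h)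
    · rintro ⟨m, hm⟩
      obtain ⟨a, ha, b, hb, rfl⟩ := Subgroup.mem_sup_of_normal_right.1 hm
      exact ⟨(⟨a, ha⟩, ⟨b, hb⟩), rfl⟩
  have hfac : p ^ k = p ^ (Nat.card M).factorization p := by
    rw [hcM, Nat.factorization_mul (pow_ne_zero _ (Fact.out : p.Prime).ne_zero) Nat.card_pos.ne',
      Finsupp.add_apply, Nat.Prime.factorization_pow Fact.out, Finsupp.single_eq_same,
      Nat.factorization_eq_zero_of_not_dvd hN, add_zero]
  obtain ⟨m, hm⟩ := MulAction.exists_smul_eq M (Sylow.ofCard Y (hcy.trans hfac))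
    (Sylow.ofCard X (hcx.trans hfac))
  have hm' := congrArg (fun P : Sylow p M => (P : Subgroup M)) hm
  simp only [Sylow.coe_subgroup_smul, Sylow.coe_ofCard] at hm'
  have hmem : (m : G) * (g * x * g⁻¹) * (m : G)⁻¹ ∈ Subgroup.zpowers x := by
    have hy : (⟨g * x * g⁻¹, hg⟩ : M) ∈ Y :=
      Subgroup.mem_subgroupOf.2 (Subgroup.mem_zpowers _)
    have := Subgroup.smul_mem_pointwise_smul _ (MulAut.conj m) _ hy
    rw [hm'] at this
    exact Subgroup.mem_subgroupOf.1 this
  have hnorm : (m : G) * g ∈ Subgroup.normalizer ((Subgroup.zpowers x : Subgroup G) : Set G) := by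
    apply Subgroup.mem_normalizer_fintype
    intro h hh
    obtain ⟨i, rfl⟩ := Subgroup.mem_zpowers_iff.1 hh
    rw [← conj_zpow]
    refine Subgroup.zpow_mem _ ?_ i
    simpa [mul_assoc] using hmem
  have hcen := Subgroup.mem_centralizer_iff.1 (hirr hnorm) x rfl
  obtain ⟨a, ha, b, hb, hab⟩ := Subgroup.mem_sup_of_normal_right.1 m.2
  obtain ⟨j, rfl⟩ := Subgroup.mem_zpowers_iff.1 ha
  -- modulo `N`
  refine (QuotientGroup.eq_one_iff _).1 ?_
  have hb1 : ((m : G) : G ⧸ N) = (x : G ⧸ N) ^ j := by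
    rw [← hab, QuotientGroup.mk_mul, (QuotientGroup.eq_one_iff b).2 hb, mul_one, QuotientGroup.mk_zpow]
  have h2 := congrArg (QuotientGroup.mk : G → G ⧸ N) hcen
  simp only [QuotientGroup.mk_mul, hb1] at h2
  simp only [QuotientGroup.mk_mul, QuotientGroup.mk_inv]
  generalize (x : G ⧸ N) = a at h2 ⊢
  generalize (g : G ⧸ N) = b at h2 ⊢
  have h3 : a * b = b * a := by
    apply mul_left_cancel (a := a ^ j)
    calc a ^ j * (a * b) = a * (a ^ j * b) := by rw [← mul_assoc, ← mul_assoc]; group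
      _ = a ^ j * b * a := h2
      _ = a ^ j * (b * a) := mul_assoc _ _ _
  rw [← h3]; group

/-- Let π be a set of primes and G a finite group in which N_G(⟨x⟩) = C_G(x) for every π-element x. If N is a normal subgroup of G whose order is divisible by no prime of π, then G/N has the same property: N_{G/N}(⟨y⟩) = C_{G/N}(y) for every π-element y of G/N. -/
theorem result {G : Type*} [Group G] [Finite G] (π : Set ℕ)
    (hirr : ∀ x : G, (∀ r : ℕ, r.Prime → r ∣ orderOf x → r ∈ π) →
      Subgroup.normalizer ((Subgroup.zpowers x : Subgroup G) : Set G) ≤ Subgroup.centralizer {x})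
    (N : Subgroup G) [N.Normal] (hN : ∀ r : ℕ, r.Prime → r ∣ Nat.card N → r ∉ π) :
    ∀ y : G ⧸ N, (∀ r : ℕ, r.Prime → r ∣ orderOf y → r ∈ π) →
      Subgroup.normalizer ((Subgroup.zpowers y : Subgroup (G ⧸ N)) : Set (G ⧸ N)) ≤ Subgroup.centralizer {y} := by
  intro y hy h hh
  refine Subgroup.mem_centralizer_iff.2 ?_
  rintro z rfl
  set C := Subgroup.centralizer ({h} : Set (G ⧸ N))
  suffices hzC : z ∈ C from (Subgroup.mem_centralizer_iff.1 hzC h rfl).symm
  rw [← Subgroup.zpowers_le]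
  have key : ∀ p : ℕ, p.Prime → p ∣ orderOf z →
      z ^ (orderOf z / p ^ (orderOf z).factorization p) ∈ C := by
    intro p hp hpz
    have : Fact p.Prime := ⟨hp⟩
    set w := z ^ (orderOf z / p ^ (orderOf z).factorization p)
    have hw : orderOf w = p ^ (orderOf z).factorization p :=
      orderOf_pow_orderOf_div (orderOf_pos z).ne' (Nat.ordProj_dvd _ _)
    obtain ⟨u, hu⟩ := QuotientGroup.mk_surjective (s := N) w
    obtain ⟨g, hg⟩ := QuotientGroup.mk_surjective (s := N) h
    set e := orderOf w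
    set d := orderOf u / p ^ (orderOf u).factorization p
    have hd : d.Coprime e := by
      rw [hw]
      exact Nat.Coprime.pow_right _ ((hp.coprime_iff_not_dvd.2
        (Nat.not_dvd_ordCompl hp (orderOf_pos u).ne')).symm)
    obtain ⟨t, ht⟩ := exists_pow_eq_self_of_coprime (x := w) hd
    set x := u ^ (d * t) with hxdef
    have hxw : (x : G ⧸ N) = w := by rw [hxdef, QuotientGroup.mk_pow, hu, pow_mul, ht]
    have hxo : ∃ k, orderOf x = p ^ k := by
      have h1 : orderOf (u ^ d) = p ^ (orderOf u).factorization p :=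
        orderOf_pow_of_dvd (Nat.ordCompl_pos p (orderOf_pos u).ne').ne' (Nat.ordCompl_dvd _ _) |>.trans
          (Nat.div_div_self (Nat.ordProj_dvd _ _) (orderOf_pos u).ne')
      obtain ⟨i, -, hi⟩ := (Nat.dvd_prime_pow hp).1
        (h1 ▸ (orderOf_pow_dvd (x := u ^ d) t : _ ∣ _))
      exact ⟨i, by rw [hxdef, pow_mul]; exact hi⟩
    have hpπ : p ∈ π := hy p hp hpz
    have hirrx := hirr x (fun r hr hrd => by
      obtain ⟨k, hk⟩ := hxo
      have := (Nat.prime_dvd_prime_iff_eq hr hp).1 (hr.dvd_of_dvd_pow (hk ▸ hrd))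
      exact this ▸ hpπ)
    have hmem : g * x * g⁻¹ ∈ Subgroup.zpowers x ⊔ N := by
      have h1 : h * w * h⁻¹ ∈ Subgroup.zpowers w := by
        have h2 : h * z * h⁻¹ ∈ Subgroup.zpowers z :=
          (Subgroup.mem_normalizer_iff.1 hh z).1 (Subgroup.mem_zpowers z)
        obtain ⟨i, hi⟩ := Subgroup.mem_zpowers_iff.1 h2
        refine Subgroup.mem_zpowers_iff.2 ⟨i, ?_⟩
        simp only [w]; rw [← conj_pow, ← hi]; simp only [← zpow_natCast, ← zpow_mul]; rw [mul_comm]
      obtain ⟨i, hi⟩ := Subgroup.mem_zpowers_iff.1 h1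
      have h3 : ((x ^ i)⁻¹ * (g * x * g⁻¹) : G) ∈ N := by
        refine QuotientGroup.eq.1 ?_
        simp only [QuotientGroup.mk_zpow, QuotientGroup.mk_mul, QuotientGroup.mk_inv, hxw, hg, hi]
      have := Subgroup.mul_mem_sup (Subgroup.zpow_mem _ (Subgroup.mem_zpowers x) i) h3
      simpa using this
    have := prime_case N (fun hd => hN p hp hd hpπ) x hxo hirrx g hmem
    have e2 := QuotientGroup.eq.2 this
    simp only [QuotientGroup.mk_mul, QuotientGroup.mk_inv, hxw, hg] at e2
    refine Subgroup.mem_centralizer_iff.2 ?_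
    intro a ha
    obtain rfl := Set.mem_singleton_iff.1 ha
    calc a * w = a * w * a⁻¹ * a := by group
      _ = w * a := by rw [e2]
  -- the order of `C ⊓ ⟨z⟩` is divisible by every primary part of the order of `z`
  refine Subgroup.zpowers_le.2 ?_
  have hdvd : orderOf z ∣ Nat.card ↥(Subgroup.zpowers z ⊓ C) := by
    rw [← Nat.factorization_prime_le_iff_dvd (orderOf_pos z).ne' Nat.card_pos.ne']
    intro p hp
    by_cases hpz : p ∣ orderOf z
    · have h1 : p ^ (orderOf z).factorization p ∣ Nat.card ↥(Subgroup.zpowers z ⊓ C) := by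
        rw [← orderOf_pow_orderOf_div (orderOf_pos z).ne' (Nat.ordProj_dvd (orderOf z) p)]
        exact Subgroup.orderOf_dvd_natCard _
          ⟨Subgroup.npow_mem_zpowers z _, key p hp hpz⟩
      exact (hp.pow_dvd_iff_le_factorization Nat.card_pos.ne').1 h1
    · rw [Nat.factorization_eq_zero_of_not_dvd hpz]; exact Nat.zero_le _
  have := Subgroup.eq_of_le_of_card_ge (inf_le_left : Subgroup.zpowers z ⊓ C ≤ _)
    (by rw [Nat.card_zpowers]; exact Nat.le_of_dvd Nat.card_pos hdvd)
  exact (this.symm.le (Subgroup.mem_zpowers z)).2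

end Cfsg.Agent.S4032
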