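import Cfsg.Statements.S4036
import Mathlib

set_option autoImplicit false
open Cfsg

namespace Cfsg.Agent.S4036

/-- Let P be a finite abelian p-group and K a group of automorphisms of P (a subgroup of Aut P) whose order is divisible by p. If all non-identity elements of K have the same fixed-point subgroup on P, then K has no non-trivial normal subgroup of order prime to p. -/
theorem result {P : Type*} [CommGroup P] [Finite P] {p : ℕ}
    [Fact p.Prime] (hP : IsPGroup p P) (K : Subgroup (MulAut P)) (hK : p ∣ Nat.card K)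
    (hfix : ∀ x y : MulAut P, x ∈ K → y ∈ K → x ≠ 1 → y ≠ 1 → ∀ v : P, x v = v ↔ y v = v) :
    ∀ N : Subgroup ↥K, N.Normal → ¬ p ∣ Nat.card N → N = ⊥ := by
  classical
  intro N hN hNp
  by_contra hne
  obtain ⟨m, hmN, hm1⟩ := N.bot_or_exists_ne_one.resolve_left hne
  obtain ⟨x, hx⟩ := exists_prime_orderOf_dvd_card' p hK
  have hx1 : (x : MulAut P) ≠ 1 := by
    intro h
    have : x = 1 := Subtype.ext h
    rw [this, orderOf_one] at hx
    exact (Fact.out : p.Prime).one_lt.ne hx
  haveI : Fintype N := Fintype.ofFinite _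
  -- averaging over `N`
  let σ : P →* P :=
    { toFun := fun v => ∏ n : N, ((n : K) : MulAut P) v
      map_one' := by simp
      map_mul' := fun v w => by simp [Finset.prod_mul_distrib] }
  have hσN : ∀ (n : N) (v : P), ((n : K) : MulAut P) (σ v) = σ v := by
    intro n v
    simp only [σ, MonoidHom.coe_mk, OneHom.coe_mk, map_prod]
    refine Fintype.prod_equiv (Equiv.mulLeft n) _ _ (fun i => ?_)
    simp
  have hσx : ∀ v : P, (x : MulAut P) (σ v) = σ ((x : MulAut P) v) := by
    intro v
    simp only [σ, MonoidHom.coe_mk, OneHom.coe_mk, map_prod]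
    let e : N ≃ N :=
      { toFun := fun n => ⟨x * n * x⁻¹, hN.conj_mem _ n.2 x⟩
        invFun := fun n => ⟨x⁻¹ * n * x, by simpa using hN.conj_mem _ n.2 x⁻¹⟩
        left_inv := fun n => Subtype.ext (by simp [mul_assoc])
        right_inv := fun n => Subtype.ext (by simp [mul_assoc]) }
    refine Fintype.prod_equiv e _ _ (fun i => ?_)
    simp [e]
  have hmx : ∀ v : P, (m : MulAut P) v = v ↔ (x : MulAut P) v = v :=
    hfix _ _ m.2 x.2 (fun h => hm1 (Subtype.ext h)) hx1
  have hcopN : (Nat.card N).Coprime p := by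
    rw [Nat.coprime_comm]; exact (Fact.out : p.Prime).coprime_iff_not_dvd.mpr hNp
  -- `ker σ` has no nontrivial fixed point of `x`
  have hfree : ∀ v : P, σ v = 1 → (x : MulAut P) v = v → v = 1 := by
    intro v hv hxv
    have hall : ∀ n : N, ((n : K) : MulAut P) v = v := by
      intro n
      by_cases h : ((n : K) : MulAut P) = 1
      · simp [h]
      · exact (hfix _ _ (n : K).2 x.2 h hx1 v).mpr hxv
    have h1 : v ^ Nat.card N = 1 := by
      rw [← hv]
      simp [σ, hall, Nat.card_eq_fintype_card]
    obtain ⟨k, hk⟩ := hP v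
    have := pow_gcd_eq_one.mpr ⟨h1, hk⟩
    rw [Nat.Coprime.gcd_eq_one (Nat.Coprime.pow_right k hcopN), pow_one] at this
    exact this
  -- hence `ker σ = ⊥`
  have hker : σ.ker = ⊥ := by
    by_contra hne'
    have hstab : ∀ v : σ.ker, (x : MulAut P) (v : P) ∈ σ.ker := by
      intro v
      rw [MonoidHom.mem_ker, ← hσx, MonoidHom.mem_ker.mp v.2, map_one]
    let H := Subgroup.zpowers x
    have hH : IsPGroup p H := IsPGroup.of_card (by rw [Nat.card_zpowers, hx, pow_one])
    have hHstab : ∀ (h : H) (v : P), σ v = 1 → σ (((h : K) : MulAut P) v) = 1 := by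
      rintro ⟨h, hh⟩ v hv
      obtain ⟨n, rfl⟩ := (mem_powers_iff_mem_zpowers).mpr hh
      dsimp only
      induction n with
      | zero => simpa using hv
      | succ n ih =>
        have := ih ⟨n, by simp⟩
        simp only [pow_succ', Subgroup.coe_mul, MulAut.mul_apply]
        exact hstab ⟨_, MonoidHom.mem_ker.mpr this⟩
    letI : MulAction H σ.ker :=
      { smul := fun h v => ⟨((h : K) : MulAut P) v, MonoidHom.mem_ker.mpr (hHstab h _ (MonoidHom.mem_ker.mp v.2))⟩
        one_smul := fun v => Subtype.ext (by show ((((1:H) : K)) : MulAut P) v = v; simp)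
        mul_smul := fun a b v => Subtype.ext (by
          show (((a * b : H) : K) : MulAut P) v = ((a : K) : MulAut P) (((b : K) : MulAut P) v); simp) }
    have hcard : p ∣ Nat.card σ.ker := by
      obtain ⟨k, hk⟩ := (hP.to_subgroup σ.ker).exists_card_eq
      rcases k with _ | k
      · exact absurd (Subgroup.card_eq_one.mp (by simpa using hk)) hne'
      · rw [hk]; exact dvd_pow_self p (Nat.succ_ne_zero k)
    have h1 : (1 : σ.ker) ∈ MulAction.fixedPoints H σ.ker := fun h => Subtype.ext (map_one _)
    obtain ⟨b, hb, hb1⟩ := hH.exists_fixed_point_of_prime_dvd_card_of_fixed_point _ hcard h1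
    apply hb1
    refine (Subtype.ext ?_).symm
    exact hfree b (MonoidHom.mem_ker.mp b.2) (congrArg Subtype.val (hb ⟨x, Subgroup.mem_zpowers x⟩))
  -- so `N` fixes everything
  have hsur : Function.Surjective σ :=
    Finite.injective_iff_surjective.mp ((MonoidHom.ker_eq_bot_iff σ).mp hker)
  apply hm1
  refine Subtype.ext (MulEquiv.ext fun v => ?_)
  obtain ⟨w, rfl⟩ := hsur v
  simpa using hσN ⟨m, hmN⟩ w

end Cfsg.Agent.S4036
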