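import Cfsg.Statements.S4038
import Cfsg.Agent.H24.NilpInvariantMaximal


set_option autoImplicit false
open Cfsg

namespace Cfsg.Agent.S4038

/-- Let A and G be finite groups of coprime orders with A acting on G by automorphisms. Suppose G has a proper A-invariant subgroup M, maximal among proper A-invariant subgroups, which is nilpotent and whose Sylow 2-subgroups have nilpotency class at most 2. Then G is solvable. -/
theorem result {G A : Type*} [Group G] [Finite G]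
    [Group A] [Finite A] (φ : A →* MulAut G) (hcop : (Nat.card A).Coprime (Nat.card G))
    (M : Subgroup G) (hMtop : M ≠ ⊤) (hMinv : ∀ a : A, ∀ m : G, m ∈ M → φ a m ∈ M)
    (hMmax : ∀ H : Subgroup G, M ≤ H → H ≠ ⊤ → (∀ a : A, ∀ h : G, h ∈ H → φ a h ∈ H) → H = M)
    (hnil : Group.IsNilpotent M) (h2 : ∀ S : Sylow 2 ↥M, Group.nilpotencyClass ↥(S : Subgroup ↥M) ≤ 2) :
    Group.IsSolvable G := by
  by_cases hG : Odd (Nat.card G)
  · exact H16.FT.oddOrder hG
  have hA : Odd (Nat.card A) :=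
    Nat.coprime_two_right.mp (hcop.coprime_dvd_right (even_iff_two_dvd.mp (Nat.not_odd_iff_even.mp hG)))
  haveI : Group.IsSolvable A := H16.FT.oddOrder hA
  refine H24.NilpInvMax.isSolvable_aux hA (Nat.card G) G le_rfl φ hcop M
    ⟨hMtop, hMinv, hMmax, hnil, ?_⟩
  intro a ha b hb c hc ha2 hb2 hc2
  haveI := hnil
  obtain ⟨P⟩ : Nonempty (Sylow 2 ↥M) := inferInstance
  haveI : (P : Subgroup ↥M).Normal := inferInstance
  have hmem : ∀ x (hx : x ∈ M), (∃ i : ℕ, x ^ 2 ^ i = 1) → (⟨x, hx⟩ : M) ∈ P := by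
    rintro x hx ⟨i, hi⟩
    refine H24.NilpInvMax.mem_sylow_of_normalizes P ?_ ?_
    · rw [Subgroup.normalizer_eq_top_iff.mpr ‹(P : Subgroup ↥M).Normal›]
      trivial
    · obtain ⟨j, -, hj⟩ := (Nat.dvd_prime_pow Nat.prime_two).mp (orderOf_dvd_of_pow_eq_one hi)
      exact ⟨j, by rw [Subgroup.orderOf_mk, hj]⟩
  have h3 : Subgroup.upperCentralSeries ↥(P : Subgroup ↥M) 2 = ⊤ :=
    upperCentralSeries_eq_top_iff_nilpotencyClass_le.mpr (h2 P)
  have h4 : (⟨⟨a, ha⟩, hmem a ha ha2⟩ : (P : Subgroup ↥M)) ∈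
      Subgroup.upperCentralSeries ↥(P : Subgroup ↥M) 2 := h3 ▸ Subgroup.mem_top _
  rw [Subgroup.mem_upperCentralSeries_succ_iff] at h4
  have h5 := h4 ⟨⟨b, hb⟩, hmem b hb hb2⟩
  rw [Subgroup.upperCentralSeries_one, Subgroup.mem_center_iff] at h5
  exact congrArg (fun t : (P : Subgroup ↥M) => ((t : M) : G)) (h5 ⟨⟨c, hc⟩, hmem c hc hc2⟩)

end Cfsg.Agent.S4038
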