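import Cfsg.Agent.H33.NilpMaximal
import Cfsg.Agent.S3839
import Cfsg.Agent.H1.FPF
import Cfsg.Statements.S4039
-- import your own Cfsg.Agent.* helpers here

set_option autoImplicit false
open Cfsg

namespace Cfsg.Agent.S4039

/-- A finite group possessing a maximal subgroup that is nilpotent of class at most 2 is solvable. -/
theorem result {G : Type*} [Group G] [Finite G]
    (M : Subgroup G) (hmax : IsCoatom M) (hnil : Group.IsNilpotent M) (hcl : Group.nilpotencyClass ↥M ≤ 2) :
    Group.IsSolvable G := by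
  refine H33.isSolvable_of_nilpotent_maximal
    (fun G _ M => ∀ a ∈ M, ∀ b ∈ M, ∀ c ∈ M, c * (a * b * a⁻¹ * b⁻¹) = (a * b * a⁻¹ * b⁻¹) * c)
    ?_ ?_ (Nat.card G) G le_rfl M hmax hnil ?_
  · intro G _ _ M N _ _ h a ha b hb c hc
    obtain ⟨a', ha', rfl⟩ := ha
    obtain ⟨b', hb', rfl⟩ := hb
    obtain ⟨c', hc', rfl⟩ := hc
    simp only [← map_inv, ← map_mul]
    rw [h a' ha' b' hb' c' hc']
  · intro G _ _ M hmax hnil hcore hC p hp hpd
    haveI : Fact p.Prime := ⟨hp⟩
    obtain ⟨S, hSM, hSne, hNS⟩ := H33.sylow_of_coreFree hmax hnil hcore hpd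
    refine (Cfsg.Agent.S3839.result S (S : Subgroup G)
      ⟨le_rfl, fun _ _ _ hg => hg⟩).mpr fun U hUS hcU => ?_
    have hn : M ≤ Subgroup.normalizer (U : Set G) := by
      intro m hm
      refine Subgroup.mem_normalizer_fintype fun u hu => ?_
      have hmS : m ∈ Subgroup.normalizer ((S : Subgroup G) : Set G) := hNS.symm ▸ hm
      have h1 : m * u * m⁻¹ ∈ (S : Subgroup G) :=
        (Subgroup.mem_normalizer_iff.mp hmS u).mp (hUS hu)
      have h2 : m * u * m⁻¹ * u⁻¹ ∈ U := by
        refine hcU ⟨(S : Subgroup G).mul_mem h1 ((S : Subgroup G).inv_mem (hUS hu)), Subgroup.mem_centralizer_iff.mpr fun c hc => ?_⟩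
        exact hC m hm u (hSM (hUS hu)) c (hSM (hUS hc))
      have h3 := mul_mem h2 hu
      rwa [inv_mul_cancel_right] at h3
    have hUne : U ≠ ⊥ := by
      intro e
      refine hSne (le_bot_iff.mp fun x hx => e ▸ hcU ⟨hx, Subgroup.mem_centralizer_iff.mpr ?_⟩)
      intro c hc
      rw [e] at hc
      have : c = 1 := hc
      rw [this, one_mul, mul_one]
    rw [H33.le_of_coreFree hmax hcore (hUS.trans hSM) hUne hn]
    exact H1.hasNormalPComplement_of_nilpotent p hnil
  · intro a ha b hb c hc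
    haveI := hnil
    have h2 : Subgroup.upperCentralSeries ↥M 2 = ⊤ :=
      upperCentralSeries_eq_top_iff_nilpotencyClass_le.mpr hcl
    have h3 : (⟨a, ha⟩ : M) ∈ Subgroup.upperCentralSeries ↥M 2 := h2 ▸ Subgroup.mem_top _
    rw [Subgroup.mem_upperCentralSeries_succ_iff] at h3
    have h4 := h3 ⟨b, hb⟩
    rw [Subgroup.upperCentralSeries_one, Subgroup.mem_center_iff] at h4
    exact congrArg Subtype.val (h4 ⟨c, hc⟩)

end Cfsg.Agent.S4039
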