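import Cfsg.Statements.S4043
import Cfsg.Agent.H1.SchurZassenhausConj

set_option autoImplicit false
open Cfsg

namespace Cfsg.Agent.S4043

/-- Let G be a finite group that is the semidirect product of a normal p-subgroup N by a subgroup A, and also of N by a subgroup A₁, where p is a prime and A and A₁ both have normal p-complements. If C_N(A) = C_N(A₁) = 1, then A₁ is conjugate to A by an element of N. -/
theorem result {G : Type*} [Group G] [Finite G] {p : ℕ}
    [Fact p.Prime] (N : Subgroup G) [N.Normal] (hN : IsPGroup p N) (A A₁ : Subgroup G)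
    (hA : A.IsComplement' N) (hA₁ : A₁.IsComplement' N)
    (hAp : Cfsg.HasNormalPComplement p A) (hA₁p : Cfsg.HasNormalPComplement p A₁)
    (hC : ∀ n : G, n ∈ N → (∀ a : G, a ∈ A → a * n * a⁻¹ = n) → n = 1)
    (hC₁ : ∀ n : G, n ∈ N → (∀ a : G, a ∈ A₁ → a * n * a⁻¹ = n) → n = 1) :
    ∃ n : G, n ∈ N ∧ A₁ = A.map (MulAut.conj n).toMonoidHom := by
  have ext : ∀ B : Subgroup G, HasNormalPComplement p B → ∃ M P : Subgroup G, M ≤ B ∧
      P ≤ B ∧ IsPGroup p P ∧ B ≤ Subgroup.normalizer (M : Set G) ∧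
      (∀ a ∈ B, ∃ m ∈ M, ∃ x ∈ P, a = m * x) ∧ (Nat.card M).Coprime p ∧
      Nat.card B = Nat.card M * Nat.card P := by
    rintro B ⟨P, M, hMn, hMP⟩
    refine ⟨M.map B.subtype, (P : Subgroup B).map B.subtype, Subgroup.map_subtype_le _,
      Subgroup.map_subtype_le _, P.isPGroup'.map _, ?_, ?_, ?_, ?_⟩
    · intro b hb
      rw [Subgroup.mem_normalizer_iff]
      intro x
      constructor
      · rintro ⟨y, hy, rfl⟩
        exact ⟨⟨b, hb⟩ * y * ⟨b, hb⟩⁻¹, hMn.conj_mem y hy ⟨b, hb⟩, by simp⟩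
      · rintro ⟨y, hy, hyx⟩
        refine ⟨⟨b, hb⟩⁻¹ * y * (⟨b, hb⟩⁻¹)⁻¹, hMn.conj_mem y hy _, ?_⟩
        simp only [Subgroup.coe_subtype] at hyx ⊢
        simp [hyx, mul_assoc]
    · intro a ha
      obtain ⟨⟨m, x⟩, hmx, -⟩ := Subgroup.isComplement_iff_existsUnique.mp hMP ⟨a, ha⟩
      exact ⟨_, ⟨(m : B), m.2, rfl⟩, _, ⟨(x : B), x.2, rfl⟩, (congrArg Subtype.val hmx).symm⟩
    · rw [Subgroup.card_map_of_injective B.subtype_injective]
      have h1 := hMP.card_mul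
      have h2 : ¬ p ∣ Nat.card M := by
        rw [← hMP.index_eq_card]
        exact P.not_dvd_index
      exact ((Fact.out : p.Prime).coprime_iff_not_dvd.mpr h2).symm
    · rw [Subgroup.card_map_of_injective B.subtype_injective,
        Subgroup.card_map_of_injective B.subtype_injective]
      exact hMP.card_mul.symm
  obtain ⟨M, P, hMA, hPA, hP, hAM, hdec, hMcop, hcardA⟩ := ext A hAp
  obtain ⟨M₁, P₁, hMA₁, hPA₁, hP₁, hAM₁, hdec₁, hMcop₁, hcardA₁⟩ := ext A₁ hA₁p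
  have hdecG : ∀ g : G, ∃ a ∈ A, ∃ n ∈ N, g = a * n := fun g => by
    obtain ⟨⟨a, n⟩, hg, -⟩ := Subgroup.isComplement_iff_existsUnique.mp hA g
    exact ⟨a, a.2, n, n.2, hg.symm⟩
  have hdecG₁ : ∀ g : G, ∃ a ∈ A₁, ∃ n ∈ N, g = a * n := fun g => by
    obtain ⟨⟨a, n⟩, hg, -⟩ := Subgroup.isComplement_iff_existsUnique.mp hA₁ g
    exact ⟨a, a.2, n, n.2, hg.symm⟩
  have hAA₁ : Nat.card A₁ = Nat.card A := by
    have h1 := hA.card_mul
    rw [← hA₁.card_mul] at h1
    exact (Nat.eq_of_mul_eq_mul_right Nat.card_pos h1).symm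
  -- every `p'`-element lies in `N M`
  have hP'M : ∀ x : G, (orderOf x).Coprime p → x ∈ N ⊔ M := by
    intro x hx
    set q := QuotientGroup.mk' N with hq
    obtain ⟨k, hk⟩ := IsPGroup.iff_card.mp hP
    have hMn : (N ⊔ M).Normal := ⟨fun y hy g => by
      obtain ⟨a, ha, n, hn, rfl⟩ := hdecG g
      have hn1 : ∀ z ∈ N ⊔ M, n * z * n⁻¹ ∈ N ⊔ M := fun z hz => Subgroup.mul_mem _
        (Subgroup.mul_mem _ (Subgroup.mem_sup_left hn) hz) (Subgroup.mem_sup_left (N.inv_mem hn))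
      obtain ⟨n', hn', m, hm, hyd⟩ := Subgroup.mem_sup_of_normal_left.mp (hn1 y hy)
      rw [show a * n * y * (a * n)⁻¹ = a * (n * y * n⁻¹) * a⁻¹ by group, ← hyd,
        show a * (n' * m) * a⁻¹ = (a * n' * a⁻¹) * (a * m * a⁻¹) by group]
      exact Subgroup.mul_mem _ (Subgroup.mem_sup_left ((inferInstance : N.Normal).conj_mem n' hn' a))
        (Subgroup.mem_sup_right ((Subgroup.mem_normalizer_iff.mp (hAM ha) m).mp hm))⟩
    have hpow : ∀ g : G, g ^ p ^ k ∈ N ⊔ M := by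
      intro g
      obtain ⟨a, ha, n, hn, rfl⟩ := hdecG g
      obtain ⟨m, hm, y, hy, rfl⟩ := hdec a ha
      rw [← QuotientGroup.eq_one_iff (N := N ⊔ M), QuotientGroup.mk_pow]
      have e : (QuotientGroup.mk (m * y * n) : G ⧸ (N ⊔ M)) = QuotientGroup.mk y := by
        rw [QuotientGroup.mk_mul, QuotientGroup.mk_mul,
          (QuotientGroup.eq_one_iff m).mpr (Subgroup.mem_sup_right hm),
          (QuotientGroup.eq_one_iff n).mpr (Subgroup.mem_sup_left hn), one_mul, mul_one]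
      rw [e, ← QuotientGroup.mk_pow, QuotientGroup.eq_one_iff, ← hk]
      rw [orderOf_dvd_iff_pow_eq_one.mp (Subgroup.orderOf_dvd_natCard P hy)]
      exact one_mem _
    obtain ⟨t, ht⟩ := exists_pow_eq_self_of_coprime (x := x) (hx.symm.pow_left k)
    rw [← ht]
    exact (N ⊔ M).pow_mem (hpow x) t
  have hM₁le : M₁ ≤ N ⊔ M := fun x hx => hP'M x
    (Nat.Coprime.coprime_dvd_left (Subgroup.orderOf_dvd_natCard M₁ hx) hMcop₁)
  obtain ⟨b, hb⟩ := IsPGroup.iff_card.mp hP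
  obtain ⟨b₁, hb₁⟩ := IsPGroup.iff_card.mp hP₁
  have hMcard : Nat.card M₁ = Nat.card M := by
    have h1 : Nat.card M * p ^ b = Nat.card M₁ * p ^ b₁ := by
      rw [← hb, ← hb₁, ← hcardA, ← hcardA₁, hAA₁]
    exact Nat.dvd_antisymm ((hMcop₁.pow_right b).dvd_of_dvd_mul_right (h1 ▸ dvd_mul_right _ _))
      ((hMcop.pow_right b₁).dvd_of_dvd_mul_right (h1 ▸ dvd_mul_right _ _))
  obtain ⟨c, hc⟩ := IsPGroup.iff_card.mp hN
  haveI : Group.IsNilpotent N := hN.isNilpotent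
  obtain ⟨d, hd, hdM⟩ := H1.exists_conj_eq_of_coprime (D := N) (H := M) (K := M₁)
    (by rw [Subgroup.normalizer_eq_top]; exact le_top) (by rw [hc]; exact (hMcop.pow_right c).symm)
    (Or.inl inferInstance) hM₁le hMcard
  refine ⟨d, hd, ?_⟩
  -- the normalizer of `M₁` meets `N` trivially
  have hNN : ∀ n ∈ N, n ∈ Subgroup.normalizer (M₁ : Set G) → n = 1 := by
    intro n hn hnM
    set C := N ⊓ Subgroup.centralizer (M₁ : Set G) with hCdef
    have hnC : n ∈ C := ⟨hn, fun m hm => by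
      have h1 : n * m * n⁻¹ * m⁻¹ ∈ N ⊓ M₁ := by
        refine ⟨?_, M₁.mul_mem ((Subgroup.mem_normalizer_iff.mp hnM m).mp hm) (M₁.inv_mem hm)⟩
        rw [show n * m * n⁻¹ * m⁻¹ = n * (m * n⁻¹ * m⁻¹) by group]
        exact N.mul_mem hn ((inferInstance : N.Normal).conj_mem _ (N.inv_mem hn) m)
      have h2 : N ⊓ M₁ = ⊥ := Subgroup.inf_eq_bot_of_coprime
        (by rw [hc]; exact (hMcop₁.pow_right c).symm)
      rw [h2, Subgroup.mem_bot, mul_inv_eq_one, mul_inv_eq_iff_eq_mul] at h1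
      exact h1.symm⟩
    by_contra hn1
    letI : MulAction P₁ G := MulAction.compHom G
      ((MulAut.conj : G →* MulAut G).comp P₁.subtype)
    have hinv : ∀ (x : P₁), ∀ y ∈ C, (x : G) * y * (x : G)⁻¹ ∈ C := by
      intro x y hy
      refine ⟨(inferInstance : N.Normal).conj_mem y hy.1 _, fun m hm => ?_⟩
      have hm' : (x : G)⁻¹ * m * x ∈ M₁ :=
        (Subgroup.mem_normalizer_iff''.mp (hAM₁ (hPA₁ x.2)) m).mp hm
      have hc1 := hy.2 _ hm'
      calc m * ((x : G) * y * (x : G)⁻¹) = x * ((x : G)⁻¹ * m * x * y) * (x : G)⁻¹ := by group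
        _ = x * (y * ((x : G)⁻¹ * m * x)) * (x : G)⁻¹ := by rw [hc1]
        _ = (x : G) * y * (x : G)⁻¹ * m := by group
    letI : MulAction P₁ C :=
      { smul := fun x y => ⟨(x : G) * y * (x : G)⁻¹, hinv x y y.2⟩
        one_smul := fun y => Subtype.ext (by
          show ((1 : P₁) : G) * y * ((1 : P₁) : G)⁻¹ = y
          simp)
        mul_smul := fun x z y => Subtype.ext (by
          show ((x * z : P₁) : G) * y * ((x * z : P₁) : G)⁻¹ =
            (x : G) * ((z : G) * y * (z : G)⁻¹) * (x : G)⁻¹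
          rw [Subgroup.coe_mul]; group) }
    have hCp : IsPGroup p C := hN.to_le inf_le_left
    haveI : Nontrivial C := ⟨⟨⟨n, hnC⟩, 1, fun e => hn1 (congrArg Subtype.val e)⟩⟩
    obtain ⟨w, hw, hw1⟩ := hP₁.exists_fixed_point_of_prime_dvd_card_of_fixed_point (α := C)
      (hCp.card_eq_or_dvd.resolve_left Finite.one_lt_card.ne') (a := 1)
      (fun x => Subtype.ext (by show (x : G) * ((1 : C) : G) * (x : G)⁻¹ = _; simp))
    refine hw1 (Subtype.ext (hC₁ w w.2.1 fun a ha => ?_).symm)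
    obtain ⟨m, hm, x, hx, rfl⟩ := hdec₁ a ha
    have e1 : x * (w : G) * x⁻¹ = w := congrArg Subtype.val (hw ⟨x, hx⟩)
    have e2 : m * (w : G) = w * m := w.2.2 m hm
    calc m * x * (w : G) * (m * x)⁻¹ = m * (x * w * x⁻¹) * m⁻¹ := by group
      _ = w := by rw [e1, e2]; group
  have hle : A.map (MulAut.conj d).toMonoidHom ≤ A₁ := by
    rintro _ ⟨a, ha, rfl⟩
    obtain ⟨a₁, ha₁, n, hn, hx⟩ := hdecG₁ (MulAut.conj d a)
    change MulAut.conj d a ∈ A₁
    have hxM : MulAut.conj d a ∈ Subgroup.normalizer (M₁ : Set G) := by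
      rw [Subgroup.mem_normalizer_iff]
      intro y
      rw [← hdM]
      simp only [SetLike.mem_coe, Subgroup.mem_pointwise_smul_iff_inv_smul_mem, MulAut.smul_def,
        MulAut.inv_apply, MulAut.conj_symm_apply, MulAut.conj_apply]
      rw [Subgroup.mem_normalizer_iff.mp (hAM ha) (d⁻¹ * y * d)]
      group
    have hn1 : n = 1 := hNN n hn (by
      rw [show n = a₁⁻¹ * MulAut.conj d a by rw [hx]; group]
      exact Subgroup.mul_mem _ (Subgroup.inv_mem _ (hAM₁ ha₁)) hxM)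
    rw [hx, hn1, mul_one]
    exact ha₁
  refine (Subgroup.eq_of_le_of_card_ge hle ?_).symm
  rw [Subgroup.card_map_of_injective (MulAut.conj d).injective, hAA₁]

end Cfsg.Agent.S4043
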