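import Cfsg.Statements.S4049
import Mathlib
import Cfsg.Agent.S3861
import Cfsg.Agent.S3863

set_option autoImplicit false
set_option linter.all false
open Cfsg

namespace Cfsg.Agent.S4049

/-- Let G be a finite group such that N_G(H)/C_G(H) has odd order for every nontrivial subgroup H of odd order. Then the Sylow 2-subgroups of G are normal. -/
theorem result {G : Type*} [Group G] [Finite G]
    (hhom : ∀ H : Subgroup G, H ≠ ⊥ → ¬ 2 ∣ Nat.card ↥H →
        ¬ 2 ∣ (Subgroup.centralizer (H : Set G)).relIndex (Subgroup.normalizer (H : Set G))) (P : Sylow 2 G) :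
    (P : Subgroup G).Normal := by
  refine (Cfsg.Agent.S3861.result P).1 fun x hx hodd hreal => hx ?_
  obtain ⟨⟨t, ⟨j, hj⟩, ht⟩, -⟩ := Cfsg.Agent.S3863.result x hreal
  set N := Subgroup.normalizer ((Subgroup.zpowers x : Subgroup G) : Set G) with hN
  set C := Subgroup.centralizer ((Subgroup.zpowers x : Subgroup G) : Set G) with hC
  have hn : t ∈ N := by
    refine Subgroup.mem_normalizer_fintype fun y hy => ?_
    obtain ⟨i, rfl⟩ := Subgroup.mem_zpowers_iff.1 hy
    rw [← conj_zpow, ht, inv_zpow]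
    exact Subgroup.inv_mem _ (Subgroup.zpow_mem_zpowers x i)
  have hodd' := hhom (Subgroup.zpowers x) (by rwa [Ne, Subgroup.zpowers_eq_bot]) (by
    rw [Nat.card_zpowers]; exact fun hd => Nat.not_even_iff_odd.2 hodd (even_iff_two_dvd.2 hd))
  haveI : (C.subgroupOf N).Normal := inferInstance
  have h1 : (⟨t, hn⟩ : N) ∈ C.subgroupOf N := by
    rw [← QuotientGroup.eq_one_iff, ← orderOf_eq_one_iff]
    refine Nat.eq_one_of_dvd_coprimes (a := 2 ^ j) (Nat.Coprime.pow_left j ((Nat.prime_two.coprime_iff_not_dvd).2 hodd')) ?_ (orderOf_dvd_natCard _)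
    rw [← hj]
    exact (orderOf_map_dvd (QuotientGroup.mk' _) _).trans (by rw [Subgroup.orderOf_mk])
  have hc : x * t = t * x := Subgroup.mem_centralizer_iff.1 (Subgroup.mem_subgroupOf.1 h1) x (Subgroup.mem_zpowers x)
  rw [← hc, mul_inv_cancel_right] at ht
  have h2 : x ^ 2 = 1 := by rw [pow_two]; nth_rw 1 [ht]; simp
  rw [← orderOf_eq_one_iff]
  exact Nat.eq_one_of_dvd_coprimes (Nat.coprime_two_left.2 hodd) (orderOf_dvd_of_pow_eq_one h2) dvd_rfl

end Cfsg.Agent.S4049
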