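import Cfsg.Statements.S4050
import Cfsg.Agent.H33.PiClosed

set_option autoImplicit false
open Cfsg

namespace Cfsg.Agent.S4050

open H33

universe u

theorem piClosed_factor {Q : Type u} [Group Q] [Finite Q] {π : Set ℕ}
    (h : (∀ q : ℕ, q.Prime → q ∣ Nat.card Q → q ∈ π) ∨ (∀ q : ℕ, q.Prime → q ∣ Nat.card Q → q ∉ π)) :
    PiClosed π Q := by
  rcases h with h | h
  · exact ⟨⊤, fun x => ⟨fun _ p hp hd => h p hp (hd.trans (orderOf_dvd_natCard x)), fun _ => trivial⟩⟩
  · refine ⟨⊥, fun x => ⟨fun hx => ?_, fun hx => ?_⟩⟩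
    · intro p hp hd
      rw [Subgroup.mem_bot.1 hx, orderOf_one] at hd
      exact absurd (Nat.dvd_one.1 hd) hp.ne_one
    · exact Subgroup.mem_bot.2
        (eq_one_of_both hx fun p hp hd => h p hp (hd.trans (orderOf_dvd_natCard x)))

theorem piClosed_equiv {A B : Type u} [Group A] [Group B] {π : Set ℕ} (e : A ≃* B) (h : PiClosed π A) :
    PiClosed π B := by
  obtain ⟨K, hK⟩ := h
  exact ⟨K.comap e.symm.toMonoidHom, fun x => (hK (e.symm x)).trans
    ⟨fun h => isPiEl_of_dvd h (MulEquiv.orderOf_eq e.symm x).symm.dvd,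
      fun h => isPiEl_of_dvd h (MulEquiv.orderOf_eq e.symm x).dvd⟩⟩

theorem backward {G : Type u} [Group G] [Finite G] (π : Set ℕ) (hom : PiCoHomogeneous π G)
    (n : ℕ) (H : Fin (n + 1) → Subgroup G) (h0 : H 0 = ⊥) (hl : H (Fin.last n) = ⊤) (hm : Monotone H)
    (hn : ∀ i, (H i).Normal)
    (hf : ∀ i : Fin n, (∀ q : ℕ, q.Prime → q ∣ (H i.castSucc).relIndex (H i.succ) → q ∈ π) ∨
        (∀ q : ℕ, q.Prime → q ∣ (H i.castSucc).relIndex (H i.succ) → q ∉ π)) : PiClosed π G := by
  have key : ∀ i : Fin (n + 1), PiClosed π (H i) := by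
    intro i
    induction i using Fin.induction with
    | zero =>
      refine piClosed_factor (Or.inl fun q hq hd => ?_)
      rw [h0, Subgroup.card_bot] at hd
      exact absurd (Nat.dvd_one.1 hd) hq.ne_one
    | succ i ih =>
      have hle : H i.castSucc ≤ H i.succ := hm (Fin.castSucc_lt_succ).le
      have : ((H i.castSucc).subgroupOf (H i.succ)).Normal := (hn _).subgroupOf _
      refine piClosed_extension (piCoHomogeneous_subgroup hom _) ((H i.castSucc).subgroupOf (H i.succ))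
        (piClosed_equiv (Subgroup.subgroupOfEquivOfLe hle).symm ih) (piClosed_factor ?_)
      rw [← Subgroup.index_eq_card]
      exact hf i
  exact piClosed_equiv Subgroup.topEquiv (piClosed_equiv (MulEquiv.subgroupCongr hl) (key _))

theorem forward {G : Type u} [Group G] [Finite G] (π : Set ℕ) (h : PiClosed π G) :
    (∃ (n : ℕ) (H : Fin (n + 1) → Subgroup G), H 0 = ⊥ ∧ H (Fin.last n) = ⊤ ∧ Monotone H ∧ (∀ i, (H i).Normal) ∧
      ∀ i : Fin n, (∀ q : ℕ, q.Prime → q ∣ (H i.castSucc).relIndex (H i.succ) → q ∈ π) ∨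
        (∀ q : ℕ, q.Prime → q ∣ (H i.castSucc).relIndex (H i.succ) → q ∉ π)) ∧
     (∀ H : Subgroup G, H ≠ ⊥ → (∀ p : ℕ, p.Prime → p ∣ Nat.card ↥H → p ∉ π) →
        ∀ p : ℕ, p.Prime → p ∣ (Subgroup.centralizer (H : Set G)).relIndex (Subgroup.normalizer (H : Set G)) → p ∉ π) := by
  obtain ⟨K, hK⟩ := h
  have hKn : K.Normal := piClosed_normal hK
  constructor
  · refine ⟨2, ![⊥, K, ⊤], rfl, rfl, ?_, ?_, ?_⟩
    · rw [Fin.monotone_iff_le_succ]
      intro i
      fin_cases i
      · exact bot_le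
      · exact le_top
    · intro i
      fin_cases i
      · show (⊥ : Subgroup G).Normal; infer_instance
      · exact hKn
      · show (⊤ : Subgroup G).Normal; infer_instance
    · intro i
      fin_cases i
      · refine Or.inl fun q hq hd => ?_
        change q ∣ (⊥ : Subgroup G).relIndex K at hd
        rw [Subgroup.relIndex_bot_left] at hd
        exact (piClosed_card hK).1 q hq hd
      · refine Or.inr fun q hq hd => ?_
        change q ∣ K.relIndex ⊤ at hd
        rw [Subgroup.relIndex_top_right] at hd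
        exact (piClosed_card hK).2 q hq hd
  · intro H _ hH p hp hd hpπ
    have : Fact p.Prime := ⟨hp⟩
    set N := Subgroup.normalizer (H : Set G)
    obtain ⟨P⟩ : Nonempty (Sylow p N) := inferInstance
    refine P.not_dvd_index (hd.trans (Subgroup.index_dvd_of_le ?_))
    intro x hx
    refine Subgroup.mem_subgroupOf.2 (Subgroup.mem_centralizer_iff.2 fun y hy => ?_)
    obtain ⟨k, hk⟩ := (IsPGroup.iff_orderOf (p := p)).1 P.isPGroup' ⟨x, hx⟩
    rw [Subgroup.orderOf_mk, ← Subgroup.orderOf_coe] at hk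
    have hxK : (x : G) ∈ K := (hK _).2 fun q hq hqd => by
      rw [hk] at hqd
      exact (Nat.prime_dvd_prime_iff_eq hq hp).1 (hq.dvd_of_dvd_pow hqd) ▸ hpπ
    have h1 : (x : G) * (y * (x : G)⁻¹ * y⁻¹) ∈ K :=
      mul_mem hxK (hKn.conj_mem _ (inv_mem hxK) y)
    have h2 : (x : G) * (y * (x : G)⁻¹ * y⁻¹) ∈ H := by
      have := mul_mem ((Subgroup.mem_normalizer_iff.1 x.2 y).1 hy) (inv_mem hy)
      simpa [mul_assoc] using this
    have h3 := eq_one_of_both ((hK _).1 h1)
      (fun q hq hqd => hH q hq (hqd.trans (Subgroup.orderOf_dvd_natCard H h2)))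
    calc y * (x : G) = ((x : G) * (y * (x : G)⁻¹ * y⁻¹)) * (y * (x : G)) := by rw [h3, one_mul]
      _ = (x : G) * y := by group

/-- Let π be a set of primes and G a finite group. The π-elements of G (elements whose order is divisible only by primes of π) form a subgroup if and only if G is π-separable (it has a chain of normal subgroups from 1 to G with each successive index divisible only by primes in π or only by primes outside π) and N_G(H)/C_G(H) is a π'-group for every nontrivial π'-subgroup H of G. -/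
theorem result {G : Type*} [Group G] [Finite G] (π : Set ℕ)
    (hπ : ∀ p ∈ π, p.Prime) :
    (∃ K : Subgroup G, ∀ x : G, x ∈ K ↔ ∀ p : ℕ, p.Prime → p ∣ orderOf x → p ∈ π) ↔
    ((∃ (n : ℕ) (H : Fin (n + 1) → Subgroup G), H 0 = ⊥ ∧ H (Fin.last n) = ⊤ ∧ Monotone H ∧ (∀ i, (H i).Normal) ∧
      ∀ i : Fin n, (∀ q : ℕ, q.Prime → q ∣ (H i.castSucc).relIndex (H i.succ) → q ∈ π) ∨
        (∀ q : ℕ, q.Prime → q ∣ (H i.castSucc).relIndex (H i.succ) → q ∉ π)) ∧
     (∀ H : Subgroup G, H ≠ ⊥ → (∀ p : ℕ, p.Prime → p ∣ Nat.card ↥H → p ∉ π) →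
        ∀ p : ℕ, p.Prime → p ∣ (Subgroup.centralizer (H : Set G)).relIndex (Subgroup.normalizer (H : Set G)) → p ∉ π)) := by
  refine ⟨forward π, ?_⟩
  rintro ⟨⟨n, H, h0, hl, hm, hn, hf⟩, hh⟩
  exact backward π (piCoHomogeneous_of_relIndex hh) n H h0 hl hm hn hf

end Cfsg.Agent.S4050
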