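import Cfsg.Statements.S4057
import Cfsg.Agent.H73.NormalRankBound

set_option autoImplicit false
open Cfsg

namespace Cfsg.Agent.S4057

/-- Let p be an odd prime and P a finite p-group in which every normal abelian subgroup can be generated by k elements. Then every subgroup of P can be generated by at most ⌊k(k+4)/4⌋ elements. -/
theorem result {P : Type*} [Group P] [Finite P] {p : ℕ} [Fact p.Prime]
    (hp : p ≠ 2) (hP : IsPGroup p P) (k : ℕ)
    (hab : ∀ A : Subgroup P, A.Normal → IsMulCommutative A → ∃ S : Finset P, S.card ≤ k ∧ Subgroup.closure (S : Set P) = A) :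
    ∀ H : Subgroup P, ∃ S : Finset P, S.card ≤ k * (k + 4) / 4 ∧ Subgroup.closure (S : Set P) = H := by
  classical
  have hbot : Cfsg.IsElementaryAbelian p (⊥ : Subgroup P) := ⟨inferInstance, fun a ha => by
    rw [Subgroup.mem_bot] at ha
    subst ha
    exact one_pow p⟩
  obtain ⟨E, -, hEn, hE, hmax⟩ := H83.exists_maximal_normal_elemAb inferInstance hbot
  haveI := hEn
  obtain ⟨d, hd⟩ := (hP.to_subgroup E).exists_card_eq
  have hdk : d ≤ k := by
    obtain ⟨S, hS, hgen⟩ := hab E hEn hE.1
    let _ : CommGroup E := { (inferInstance : Group E) with mul_comm := hE.1.is_comm.comm }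
    have h1 := H73.NormalRank.card_le_of_gens (A := E) (p := p) (k := k)
      (fun a => Subtype.ext (by simpa using hE.2 _ a.2)) (S.subtype (· ∈ E))
      (le_trans (by rw [Finset.card_subtype]; exact Finset.card_filter_le _ _) hS) ?_
    · rw [hd] at h1
      exact (Nat.pow_le_pow_iff_right (Fact.out : p.Prime).one_lt).1 h1
    · apply Subgroup.map_injective E.subtype_injective
      rw [← MonoidHom.range_eq_map, Subgroup.range_subtype, MonoidHom.map_closure]
      conv_rhs => rw [← hgen]
      congr 1
      ext x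
      simp only [Set.mem_image, Finset.mem_coe, Finset.mem_subtype, Subgroup.coe_subtype]
      exact ⟨fun ⟨y, hy, hyx⟩ => hyx ▸ hy,
        fun hx => ⟨⟨x, hgen ▸ Subgroup.subset_closure hx⟩, hx, rfl⟩⟩
  intro H
  obtain ⟨S, hS, hH⟩ := H73.NormalRank.exists_gens_le hp hP E hE hmax hd H
  refine ⟨S, le_trans hS ?_, hH⟩
  rw [Nat.le_div_iff_mul_le (by norm_num)]
  have h1 := Nat.div_mul_le_self (d * d) 4
  nlinarith

end Cfsg.Agent.S4057
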