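import Cfsg.Statements.S4066
import Mathlib

set_option autoImplicit false
set_option linter.all false
open Cfsg

namespace Cfsg.Agent.S4066

/-- Let G be a finite group in which the centralizer of every element meets each of its conjugates by elements outside its normalizer trivially. Then any two distinct Sylow p-subgroups of G, for any prime p, intersect trivially. -/
theorem result {G : Type*} [Group G] [Finite G] (hTI : ∀ x : G, Cfsg.IsTISubset (Subgroup.centralizer ({x} : Set G) : Set G))
    {p : ℕ} [Fact p.Prime] (P Q : Sylow p G) (hPQ : P ≠ Q) : (P : Subgroup G) ⊓ (Q : Subgroup G) = ⊥ := by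
  -- commuting nontrivial elements: centralizers normalize each other
  have hnorm : ∀ a b : G, a ≠ 1 → a ∈ Subgroup.centralizer ({b} : Set G) →
      Subgroup.centralizer ({a} : Set G) ≤ Subgroup.normalizer ((Subgroup.centralizer ({b} : Set G) : Subgroup G) : Set G) := by
    intro a b ha hab g hg
    by_contra hgn
    refine ha (hTI b g hgn a hab ?_)
    rw [Subgroup.mem_centralizer_singleton_iff.1 hg, mul_inv_cancel_right]
    exact hab
  -- p-elements normalizing the centralizer of a central element of a Sylow subgroup lie in it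
  have hsyl : ∀ (R : Sylow p G) (z : G), (∀ u ∈ (R : Subgroup G), u * z = z * u) →
      ∀ u : G, (∃ k, orderOf u = p ^ k) → u ∈ Subgroup.normalizer ((Subgroup.centralizer ({z} : Set G) : Subgroup G) : Set G) →
        u ∈ Subgroup.centralizer ({z} : Set G) := by
    intro R z hz u ⟨k, hk⟩ hu
    set C := Subgroup.centralizer ({z} : Set G)
    set N := Subgroup.normalizer ((C : Subgroup G) : Set G)
    haveI : (C.subgroupOf N).Normal := Subgroup.normal_subgroupOf_of_le_normalizer le_rfl
    have hRC : (R : Subgroup G) ≤ C := fun r hr => Subgroup.mem_centralizer_singleton_iff.2 (hz r hr)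
    have hidx : ¬ p ∣ (C.subgroupOf N).index := by
      intro hd
      apply R.not_dvd_index
      have h1 : C.relIndex N ∣ C.index := Subgroup.relIndex_dvd_index_of_le Subgroup.le_normalizer
      exact (hd.trans h1).trans (Subgroup.index_dvd_of_le hRC)
    have h1 : ((⟨u, hu⟩ : N) : N ⧸ C.subgroupOf N) = 1 := by
      rw [← orderOf_eq_one_iff]
      refine Nat.eq_one_of_dvd_coprimes (a := p ^ k) (Nat.Coprime.pow_left k ((Fact.out : p.Prime).coprime_iff_not_dvd.2 hidx))
        ?_ (orderOf_dvd_natCard _)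
      rw [← hk]
      exact (orderOf_map_dvd (QuotientGroup.mk' _) _).trans (by rw [Subgroup.orderOf_mk])
    exact Subgroup.mem_subgroupOf.1 ((QuotientGroup.eq_one_iff _).1 h1)
  rw [eq_bot_iff]
  intro x hx
  rw [Subgroup.mem_bot]
  by_contra hx1
  apply hPQ
  have center : ∀ R : Sylow p G, x ∈ (R : Subgroup G) → ∃ z : G, z ≠ 1 ∧ z ∈ (R : Subgroup G) ∧ ∀ u ∈ (R : Subgroup G), u * z = z * u := by
    intro R hxR
    haveI : Nontrivial (R : Subgroup G) := ⟨⟨⟨x, hxR⟩, 1, fun h => hx1 (congrArg Subtype.val h)⟩⟩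
    haveI := R.isPGroup'.center_nontrivial
    obtain ⟨⟨z, hz⟩, hz1⟩ := exists_ne (1 : Subgroup.center (R : Subgroup G))
    refine ⟨z, fun h => hz1 (Subtype.ext (Subtype.ext h)), z.2, fun u hu => ?_⟩
    exact congrArg Subtype.val (Subgroup.mem_center_iff.1 hz ⟨u, hu⟩)
  obtain ⟨z, hz1, hzP, hz⟩ := center P hx.1
  obtain ⟨w, hw1, hwQ, hw⟩ := center Q hx.2
  have hxz : x ∈ Subgroup.centralizer ({z} : Set G) := Subgroup.mem_centralizer_singleton_iff.2 (hz x hx.1)
  have hwx : w ∈ Subgroup.centralizer ({x} : Set G) := Subgroup.mem_centralizer_singleton_iff.2 (hw x hx.2).symm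
  have pel : ∀ (R : Sylow p G), ∀ u ∈ (R : Subgroup G), ∃ k, orderOf u = p ^ k := by
    intro R u hu
    obtain ⟨k, hk⟩ := IsPGroup.iff_orderOf.1 R.isPGroup' ⟨u, hu⟩
    exact ⟨k, by rwa [← Subgroup.orderOf_coe] at hk⟩
  have hwz : w ∈ Subgroup.centralizer ({z} : Set G) := hsyl P z hz w (pel Q w hwQ) (hnorm x z hx1 hxz hwx)
  have hQz : (Q : Subgroup G) ≤ Subgroup.centralizer ({z} : Set G) := fun u hu =>
    hsyl P z hz u (pel Q u hu) (hnorm w z hw1 hwz (Subgroup.mem_centralizer_singleton_iff.2 (hw u hu)))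
  set H := Subgroup.centralizer ({z} : Set G) with hH
  have hPz : (P : Subgroup G) ≤ H := fun u hu => Subgroup.mem_centralizer_singleton_iff.2 (hz u hu)
  -- in H every element centralizer is normal, so every element has a commutative normal closure
  have hnormal : ∀ u ∈ H, ∀ g ∈ H, Commute (g * u * g⁻¹) u := by
    intro u hu g hg
    have hzu : z ∈ Subgroup.centralizer ({u} : Set G) :=
      Subgroup.mem_centralizer_singleton_iff.2 (Subgroup.mem_centralizer_singleton_iff.1 hu).symm
    have hgN := hnorm z u hz1 hzu hg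
    exact Subgroup.mem_centralizer_singleton_iff.1 ((Subgroup.mem_normalizer_iff.1 hgN u).1 (Subgroup.mem_centralizer_singleton_iff.2 rfl))
  have hpcl : ∀ u : H, (∃ k, orderOf u = p ^ k) → IsPGroup p (Subgroup.normalClosure ({u} : Set H)) := by
    rintro u ⟨k, hk⟩
    have hcomm : IsMulCommutative (Subgroup.normalClosure ({u} : Set H)) := by
      rw [Subgroup.normalClosure]
      apply Subgroup.isMulCommutative_closure
      intro a ha b hb
      obtain ⟨_, rfl, hac⟩ := Group.mem_conjugatesOfSet_iff.1 ha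
      obtain ⟨_, rfl, hbc⟩ := Group.mem_conjugatesOfSet_iff.1 hb
      obtain ⟨c, hc⟩ := isConj_iff.1 (hac.symm.trans hbc)
      rw [← hc]
      exact Subtype.ext ((hnormal a a.2 c c.2).eq.symm)
    rintro ⟨a, ha⟩
    refine ⟨k, Subtype.ext ?_⟩
    show a ^ p ^ k = 1
    induction ha using Subgroup.closure_induction with
    | mem b hb =>
      obtain ⟨_, rfl, hbc⟩ := Group.mem_conjugatesOfSet_iff.1 hb
      obtain ⟨c, hc⟩ := isConj_iff.1 hbc
      rw [← hc, conj_pow, ← hk, pow_orderOf_eq_one]; simp
    | one => simp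
    | mul b c hb hc ihb ihc =>
      have : Commute b c := congrArg Subtype.val (mul_comm' (⟨b, hb⟩ : Subgroup.normalClosure ({u} : Set H)) ⟨c, hc⟩)
      rw [this.mul_pow, ihb, ihc, one_mul]
    | inv b _ ih => rw [inv_pow, ih, inv_one]
  have hmem : ∀ u : H, (∃ k, orderOf u = p ^ k) → ∀ T : Sylow p H, u ∈ (T : Subgroup H) := by
    intro u hu T
    exact (T.is_maximal' ((hpcl u hu).to_sup_of_normal_left T.isPGroup') le_sup_right) ▸
      Subgroup.mem_sup_left (Subgroup.subset_normalClosure rfl)
  apply Sylow.ext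
  have hsub : (Q : Subgroup G) ≤ P := by
    intro u hu
    have := hmem ⟨u, hQz hu⟩ (by obtain ⟨k, hk⟩ := pel Q u hu; exact ⟨k, by rw [Subgroup.orderOf_mk]; exact hk⟩) (P.subtype hPz)
    exact this
  exact Q.is_maximal' P.isPGroup' hsub

end Cfsg.Agent.S4066
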