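import Cfsg.Statements.S4064
import Cfsg.Agent.H11.CTI.Final
import Cfsg.Agent.S4066

set_option autoImplicit false
open Cfsg

namespace Cfsg.Agent.S4064

/-- Let G be a finite group in which the centralizer of every element meets each of its conjugates by elements outside its normalizer trivially. Then G is nilpotent; or G is a Frobenius group with a complement that is cyclic or isomorphic to the direct product of a cyclic group of odd order and the quaternion group of order 8; or G is isomorphic to PSL₂(2ⁿ) for some n ≥ 2. -/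
theorem result {G : Type*} [Group G] [Finite G] (hTI : ∀ x : G, Cfsg.IsTISubset (Subgroup.centralizer ({x} : Set G) : Set G)) :
    Group.IsNilpotent G ∨
    (∃ H : Subgroup G, Cfsg.IsFrobeniusComplement H ∧
      (IsCyclic H ∨ ∃ m : ℕ, Odd m ∧ Nonempty (H ≃* Multiplicative (ZMod m) × QuaternionGroup 2))) ∨
    (∃ n : ℕ, 2 ≤ n ∧ Nonempty (G ≃* Matrix.ProjectiveSpecialLinearGroup (Fin 2) (GaloisField 2 n))) := by
  have hG : H11.CTI.TIC G := hTI
  have hS : H11.CTI.SylTI G := fun p _ P Q hne => Cfsg.Agent.S4066.result hTI P Q hne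
  by_cases hnil : Group.IsNilpotent G
  · exact Or.inl hnil
  refine Or.inr ?_
  by_cases hsol : Group.IsSolvable G
  · exact Or.inl (H11.CTI.solvable_case hG
      (fun H p _ P Q hne => Cfsg.Agent.S4066.result (hG.subgroup H) P Q hne) hS hnil)
  · obtain ⟨M, hM, hinv, hse, htwo⟩ := H11.CTI.exists_even_comp hG hS hsol
    have h : H11.CTI.Even' M := ⟨fun g hg ho => H11.CTI.mem_of_dvd hG hS hM hg ho,
      fun K hK hne => H11.CTI.normal_even hG hS hsol K hne, hM, hinv, hse, htwo⟩
    exact Or.inr (h.iso (h.exponent_two hG))

end Cfsg.Agent.S4064
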