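import Cfsg.Statements.S4065
import Mathlib.LinearAlgebra.Matrix.ProjectiveSpecialLinearGroup
import Mathlib.Tactic.LinearCombination
import Mathlib.Tactic.Group
import Mathlib.Algebra.CharP.Two
import Mathlib.LinearAlgebra.Matrix.Notation

set_option autoImplicit false
open Cfsg

namespace Cfsg.Agent.S4065

/-- Two matrices commuting with a non-scalar 2 by 2 matrix commute. -/
theorem commute_of_commute_nonscalar {K : Type*} [Field K] {g h k : Matrix (Fin 2) (Fin 2) K}
    (hg : g 0 1 ≠ 0 ∨ g 1 0 ≠ 0 ∨ g 0 0 ≠ g 1 1) (hh : g * h = h * g) (hk : g * k = k * g) :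
    h * k = k * h := by
  have e : ∀ x : Matrix (Fin 2) (Fin 2) K, g * x = x * g →
      g 0 1 * x 1 0 = g 1 0 * x 0 1 ∧ g 0 1 * (x 0 0 - x 1 1) = x 0 1 * (g 0 0 - g 1 1) ∧
      g 1 0 * (x 0 0 - x 1 1) = x 1 0 * (g 0 0 - g 1 1) := by
    intro x hx
    have h00 := congrFun (congrFun hx 0) 0
    have h01 := congrFun (congrFun hx 0) 1
    have h10 := congrFun (congrFun hx 1) 0
    simp only [Matrix.mul_apply, Fin.sum_univ_two] at h00 h01 h10
    refine ⟨?_, ?_, ?_⟩
    · linear_combination h00
    · linear_combination -h01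
    · linear_combination h10
  obtain ⟨a1, a2, a3⟩ := e h hh
  obtain ⟨b1, b2, b3⟩ := e k hk
  have f1 : h 0 1 * k 1 0 = k 0 1 * h 1 0 := by
    rcases hg with hg | hg | hg
    · apply mul_left_cancel₀ hg
      linear_combination h 0 1 * b1 - k 0 1 * a1
    · apply mul_left_cancel₀ hg
      linear_combination k 1 0 * (-a1) + h 1 0 * b1
    · apply mul_left_cancel₀ (sub_ne_zero.mpr hg)
      apply mul_left_cancel₀ (sub_ne_zero.mpr hg)
      linear_combination -(g 0 0 - g 1 1) * k 1 0 * a2 - g 0 1 * (h 0 0 - h 1 1) * b3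
        + (g 0 0 - g 1 1) * h 1 0 * b2 + g 0 1 * (k 0 0 - k 1 1) * a3
  have f2 : h 0 1 * (k 0 0 - k 1 1) = k 0 1 * (h 0 0 - h 1 1) := by
    rcases hg with hg | hg | hg
    · apply mul_left_cancel₀ hg
      linear_combination h 0 1 * b2 - k 0 1 * a2
    · apply mul_left_cancel₀ hg
      linear_combination h 0 1 * b3 - k 0 1 * a3 + (g 0 0 - g 1 1) * f1
    · apply mul_left_cancel₀ (sub_ne_zero.mpr hg)
      linear_combination (h 0 0 - h 1 1) * b2 - (k 0 0 - k 1 1) * a2
  have f3 : h 1 0 * (k 0 0 - k 1 1) = k 1 0 * (h 0 0 - h 1 1) := by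
    rcases hg with hg | hg | hg
    · apply mul_left_cancel₀ hg
      linear_combination h 1 0 * b2 - k 1 0 * a2 - (g 0 0 - g 1 1) * f1
    · apply mul_left_cancel₀ hg
      linear_combination h 1 0 * b3 - k 1 0 * a3
    · apply mul_left_cancel₀ (sub_ne_zero.mpr hg)
      linear_combination (h 0 0 - h 1 1) * b3 - (k 0 0 - k 1 1) * a3
  ext i j
  fin_cases i <;> fin_cases j <;> simp [Matrix.mul_apply, Fin.sum_univ_two]
  · linear_combination f1
  · linear_combination -f2
  · linear_combination f3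
  · linear_combination -f1

theorem nonscalar_of_ne_one {K : Type*} [Field K] [CharP K 2]
    {g : Matrix.SpecialLinearGroup (Fin 2) K} (hg : g ≠ 1) :
    g.1 0 1 ≠ 0 ∨ g.1 1 0 ≠ 0 ∨ g.1 0 0 ≠ g.1 1 1 := by
  by_contra h
  push Not at h
  obtain ⟨h1, h2, h3⟩ := h
  apply hg
  have hd := g.2
  rw [Matrix.det_fin_two, h1, h2, ← h3] at hd
  have : g.1 0 0 = 1 := by
    rcases mul_self_eq_one_iff.mp (by linear_combination hd : g.1 0 0 * g.1 0 0 = 1) with h | h
    · exact h
    · rw [h, CharTwo.neg_eq]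
  apply Subtype.ext
  ext i j
  fin_cases i <;> fin_cases j <;> simp_all

theorem center_eq_bot {K : Type*} [Field K] [CharP K 2] :
    Subgroup.center (Matrix.SpecialLinearGroup (Fin 2) K) = ⊥ := by
  rw [Subgroup.eq_bot_iff_forall]
  intro g hg
  by_contra hne
  let u : Matrix.SpecialLinearGroup (Fin 2) K := ⟨!![1, 1; 0, 1], by simp [Matrix.det_fin_two]⟩
  let v : Matrix.SpecialLinearGroup (Fin 2) K := ⟨!![1, 0; 1, 1], by simp [Matrix.det_fin_two]⟩
  have hu := congrArg Subtype.val (Subgroup.mem_center_iff.mp hg u)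
  have hv := congrArg Subtype.val (Subgroup.mem_center_iff.mp hg v)
  have := commute_of_commute_nonscalar (nonscalar_of_ne_one hne) hu.symm hv.symm
  have h00 := congrFun (congrFun this 0) 0
  simp [u, v] at h00


/-- Let F be a finite field with 2ⁿ elements, n ≥ 2. In PSL₂(F) the centralizer of every element meets each of its conjugates by elements outside its normalizer trivially. -/
theorem result (n : ℕ) (hn : 2 ≤ n)
    (x : Matrix.ProjectiveSpecialLinearGroup (Fin 2) (GaloisField 2 n)) :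
    Cfsg.IsTISubset (Subgroup.centralizer ({x} : Set (Matrix.ProjectiveSpecialLinearGroup (Fin 2) (GaloisField 2 n))) :
      Set (Matrix.ProjectiveSpecialLinearGroup (Fin 2) (GaloisField 2 n))) := by
  intro g hg y hy hgy
  by_contra hy1
  apply hg
  haveI : CharP (GaloisField 2 n) 2 := inferInstance
  have hbij : Function.Bijective (QuotientGroup.mk' (Subgroup.center (Matrix.SpecialLinearGroup (Fin 2) (GaloisField 2 n)))) := by
    refine ⟨(MonoidHom.ker_eq_bot_iff _).mp ?_, QuotientGroup.mk'_surjective _⟩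
    rw [QuotientGroup.ker_mk', center_eq_bot]
  let e := MulEquiv.ofBijective _ hbij
  -- centralizers of nontrivial elements are abelian
  have hCA : ∀ a b c : Matrix.ProjectiveSpecialLinearGroup (Fin 2) (GaloisField 2 n),
      a ≠ 1 → a * b = b * a → a * c = c * a → b * c = c * b := by
    intro a b c ha hab hac
    obtain ⟨a, rfl⟩ := e.surjective a
    obtain ⟨b, rfl⟩ := e.surjective b
    obtain ⟨c, rfl⟩ := e.surjective c
    rw [← map_mul, ← map_mul, e.injective.eq_iff] at hab hac ⊢
    refine Subtype.ext ?_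
    exact commute_of_commute_nonscalar (nonscalar_of_ne_one (fun h => ha (by rw [h, map_one])))
      (congrArg Subtype.val hab) (congrArg Subtype.val hac)
  rw [SetLike.mem_coe, Subgroup.mem_centralizer_singleton_iff] at hy hgy
  by_cases hx : x = 1
  · subst hx
    rw [Subgroup.mem_normalizer_iff]
    simp [Subgroup.mem_centralizer_singleton_iff]
  rw [Subgroup.mem_normalizer_iff]
  intro z
  rw [Subgroup.mem_centralizer_singleton_iff,
    Subgroup.mem_centralizer_singleton_iff]
  set w := g * y * g⁻¹ with hw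
  have hw1 : w ≠ 1 := fun h => hy1 (conj_eq_one_iff.mp h)
  constructor
  · intro hz
    have h1 : y * z = z * y := hCA x y z hx hy.symm hz.symm
    have h2 : w * (g * z * g⁻¹) = g * z * g⁻¹ * w := by
      rw [hw, show g * y * g⁻¹ * (g * z * g⁻¹) = g * (y * z) * g⁻¹ by group, h1]
      group
    exact hCA w _ x hw1 h2 hgy
  · intro hz
    have h1 : w * (g * z * g⁻¹) = g * z * g⁻¹ * w := hCA x w _ hx hgy.symm hz.symm
    have h2 : y * z = z * y := by
      rw [hw, show g * y * g⁻¹ * (g * z * g⁻¹) = g * (y * z) * g⁻¹ by group,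
        show g * z * g⁻¹ * (g * y * g⁻¹) = g * (z * y) * g⁻¹ by group] at h1
      simpa using h1
    exact hCA y z x hy1 h2 hy

end Cfsg.Agent.S4065
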