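import Cfsg.Statements.S4067
import Cfsg.Agent.H29.OrbitBoundCases

set_option autoImplicit false
open Cfsg

namespace Cfsg.Agent.S4067

/-- Let G be a finite non-abelian group and p the least prime dividing its order. Then the automorphism group of G has at most #G/p orbits on G. -/
theorem result {G : Type*} [Group G] [Finite G] (hna : ¬ IsMulCommutative G) :
    Nat.card (MulAction.orbitRel.Quotient (MulAut G) G) ≤ Nat.card G / (Nat.card G).minFac := by
  classical
  obtain ⟨a, b, hab⟩ : ∃ a b : G, a * b ≠ b * a := by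
    by_contra h
    push Not at h
    exact hna ⟨⟨h⟩⟩
  have hG1 : Nat.card G ≠ 1 := fun h => hab (by
    have := (Nat.card_eq_one_iff_unique.1 h).1
    exact Subsingleton.elim _ _)
  have : Fact (Nat.card G).minFac.Prime := ⟨Nat.minFac_prime hG1⟩
  set p := (Nat.card G).minFac with hpdef
  have hp : ∀ d, d ∣ Nat.card G → d ≠ 1 → p ≤ d := fun d hd hd1 =>
    le_trans (Nat.minFac_le_of_dvd (Nat.minFac_prime hd1).two_le
      ((Nat.minFac_dvd d).trans hd)) (Nat.minFac_le (Nat.pos_of_dvd_of_pos hd Nat.card_pos))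
  by_cases hbig : ∃ x : G, p ^ 2 ≤ (Agent.H29.ocen x).index
  · obtain ⟨x, hx⟩ := hbig
    exact Agent.H29.orbit_case_big hp hx
  push Not at hbig
  by_cases hpr : ∃ y : G, ¬ (Agent.H29.ocen y).index ∣ p
  · obtain ⟨y, hy⟩ := hpr
    exact Agent.H29.orbit_case_prime hpdef hp hbig hy
  push Not at hpr
  exact Agent.H29.orbit_case_p hpdef hp hpr hab

end Cfsg.Agent.S4067
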