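import Cfsg.Statements.S4068
import Cfsg.Agent.S1230
import Cfsg.Agent.H13.CNOdd
import Cfsg.Agent.H33.TwoPrime
import Cfsg.Agent.H37.SmallIso

set_option autoImplicit false
open Cfsg

namespace Cfsg.Agent.S4068

universe u

theorem solvable_ext {G : Type*} [Group G] (N : Subgroup G) [N.Normal] (h1 : Group.IsSolvable N)
    (h2 : Group.IsSolvable (G ⧸ N)) : Group.IsSolvable G :=
  solvable_of_ker_le_range N.subtype (QuotientGroup.mk' N) (by simp)

theorem orders_prime {G : Type u} [Group G] [Finite G] (hns : ¬ Group.IsSolvable G)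
    (h4 : Nat.card (MulAction.orbitRel.Quotient (MulAut G) G) = 4) :
    (∀ x : G, x ≠ 1 → (orderOf x).Prime) ∧ (Nat.card G).primeFactors.card = 3 := by
  classical
  haveI := Fintype.ofFinite G
  set O := (Finset.univ : Finset G).image orderOf with hO
  have hO4 : O.card ≤ 4 := by
    let f : MulAction.orbitRel.Quotient (MulAut G) G → ℕ := Quotient.lift orderOf (fun a b hab => by
      obtain ⟨g, rfl⟩ := hab
      exact MulEquiv.orderOf_eq g b)
    haveI := Fintype.ofFinite (MulAction.orbitRel.Quotient (MulAut G) G)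
    have hsub : O ⊆ (Finset.univ : Finset (MulAction.orbitRel.Quotient (MulAut G) G)).image f := by
      intro n hn
      obtain ⟨x, -, rfl⟩ := Finset.mem_image.mp hn
      exact Finset.mem_image.mpr ⟨Quotient.mk _ x, Finset.mem_univ _, rfl⟩
    refine (Finset.card_le_card hsub).trans (Finset.card_image_le.trans ?_)
    rw [Finset.card_univ, ← Nat.card_eq_fintype_card, h4]
  have hprimes : (Nat.card G).primeFactors ⊆ O := by
    intro r hr
    rw [Nat.mem_primeFactors] at hr
    haveI := Fact.mk hr.1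
    obtain ⟨x, hx⟩ := exists_prime_orderOf_dvd_card' r hr.2.1
    exact Finset.mem_image.mpr ⟨x, Finset.mem_univ _, hx⟩
  have h3 : 3 ≤ (Nat.card G).primeFactors.card := by
    by_contra hlt
    obtain ⟨p, q, hp, hq, h⟩ : ∃ p q : ℕ, p.Prime ∧ q.Prime ∧
        ∀ r ∈ (Nat.card G).primeFactors, r = p ∨ r = q := by
      rcases (Nat.card G).primeFactors.eq_empty_or_nonempty with he | ⟨p, hp⟩
      · exact ⟨2, 2, Nat.prime_two, Nat.prime_two, fun r hr => absurd (he ▸ hr) (Finset.notMem_empty r)⟩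
      rcases ((Nat.card G).primeFactors.erase p).eq_empty_or_nonempty with he | ⟨q, hq⟩
      · refine ⟨p, p, (Nat.mem_primeFactors.mp hp).1, (Nat.mem_primeFactors.mp hp).1, fun r hr => ?_⟩
        by_contra hc
        have : r ∈ (Nat.card G).primeFactors.erase p :=
          Finset.mem_erase.mpr ⟨fun h => hc (Or.inl h), hr⟩
        exact absurd (he ▸ this) (Finset.notMem_empty r)
      · refine ⟨p, q, (Nat.mem_primeFactors.mp hp).1,
          (Nat.mem_primeFactors.mp (Finset.mem_of_mem_erase hq)).1, fun r hr => ?_⟩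
        by_contra hc
        rw [not_or] at hc
        have hsub : ({p, q, r} : Finset ℕ) ⊆ (Nat.card G).primeFactors := by
          simp only [Finset.insert_subset_iff, Finset.singleton_subset_iff]
          exact ⟨hp, Finset.mem_of_mem_erase hq, hr⟩
        have := Finset.card_le_card hsub
        rw [Finset.card_eq_three.mpr ⟨p, q, r, (Finset.ne_of_mem_erase hq).symm, Ne.symm hc.1,
          Ne.symm hc.2, rfl⟩] at this
        omega
    exact hns (H33.isSolvable_of_two_primes hp hq fun r hr hd =>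
      h r (Nat.mem_primeFactors.mpr ⟨hr, hd, Nat.card_pos.ne'⟩))
  have h1 : 1 ∉ (Nat.card G).primeFactors := fun h => Nat.not_prime_one (Nat.mem_primeFactors.mp h).1
  have hsub : insert 1 (Nat.card G).primeFactors ⊆ O :=
    Finset.insert_subset (Finset.mem_image.mpr ⟨1, Finset.mem_univ _, orderOf_one⟩) hprimes
  have hc := Finset.card_le_card hsub
  rw [Finset.card_insert_of_notMem h1] at hc
  have heq := Finset.eq_of_subset_of_card_le hsub (by rw [Finset.card_insert_of_notMem h1]; omega)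
  refine ⟨fun x hx => ?_, by omega⟩
  have : orderOf x ∈ insert 1 (Nat.card G).primeFactors := by
    rw [heq]; exact Finset.mem_image.mpr ⟨x, Finset.mem_univ _, rfl⟩
  rcases Finset.mem_insert.mp this with h | h
  · exact absurd (orderOf_eq_one_iff.mp h) hx
  · exact (Nat.mem_primeFactors.mp h).1

theorem commute_order {G : Type*} [Group G] (hpr : ∀ x : G, x ≠ 1 → (orderOf x).Prime) {g c : G}
    (hg : g ≠ 1) (hc : c ≠ 1) (h : Commute c g) : orderOf c = orderOf g := by
  by_contra hne
  have hcop : (orderOf c).Coprime (orderOf g) :=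
    (Nat.coprime_primes (hpr c hc) (hpr g hg)).mpr hne
  have hmul := h.orderOf_mul_eq_mul_orderOf_of_coprime hcop
  have hp := hpr (c * g) (fun h1 => by
    rw [h1, orderOf_one] at hmul
    exact (hpr c hc).one_lt.ne' (Nat.eq_one_of_mul_eq_one_right hmul.symm))
  rw [hmul] at hp
  exact Nat.not_prime_mul (hpr c hc).one_lt.ne' (hpr g hg).one_lt.ne' hp

open Matrix in
theorem sl_inj_order {F : Type*} [Field F] (h2 : (2 : F) = 0) (A : SpecialLinearGroup (Fin 2) F) :
    orderOf (QuotientGroup.mk A : ProjectiveSpecialLinearGroup (Fin 2) F) = orderOf A := by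
  refine orderOf_injective (QuotientGroup.mk' (Subgroup.center (SpecialLinearGroup (Fin 2) F))) ?_ A
  rw [← MonoidHom.ker_eq_bot_iff, QuotientGroup.ker_mk', Subgroup.eq_bot_iff_forall]
  intro B hB
  obtain ⟨r, hr, hB⟩ := Matrix.SpecialLinearGroup.mem_center_iff.mp hB
  have hr1 : r = 1 := by
    have h : (r - 1) ^ 2 = 0 := by
      simp only [Fintype.card_fin] at hr
      linear_combination hr + (1 - r) * h2
    exact sub_eq_zero.mp (pow_eq_zero_iff two_ne_zero |>.mp h)
  apply Matrix.SpecialLinearGroup.ext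
  intro i j
  rw [← hB, hr1]
  simp

open Matrix in
theorem q_eq_four {F : Type*} [Field F] [Fintype F] {G : Type*} [Group G] [Finite G]
    (e : G ≃* ProjectiveSpecialLinearGroup (Fin 2) F) (hq : ∃ a, 2 ≤ a ∧ Fintype.card F = 2 ^ a)
    (hpr : ∀ x : G, x ≠ 1 → (orderOf x).Prime) (h3 : (Nat.card G).primeFactors.card = 3) :
    Fintype.card F = 4 := by
  obtain ⟨a, ha, hF⟩ := hq
  haveI : Fact (Nat.Prime 2) := ⟨Nat.prime_two⟩
  haveI : CharP F 2 := charP_of_card_eq_prime_pow hF
  have h2 : (2 : F) = 0 := CharTwo.two_eq_zero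
  set q := Fintype.card F with hqdef
  have hq4 : 4 ≤ q := hF ▸ (show 2 ^ 2 ≤ 2 ^ a from Nat.pow_le_pow_right (by norm_num) ha)
  have hsl : ∀ A : SpecialLinearGroup (Fin 2) F, A ≠ 1 → (orderOf A).Prime := by
    intro A hA
    have h := hpr (e.symm (QuotientGroup.mk A)) (fun h1 => hA (by
      rw [← orderOf_eq_one_iff, ← sl_inj_order h2, orderOf_eq_one_iff]
      exact (map_eq_one_iff e.symm e.symm.injective).mp h1))
    rwa [MulEquiv.orderOf_eq, sl_inj_order h2] at h
  -- the split torus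
  obtain ⟨t, ht⟩ := IsCyclic.exists_generator (α := Fˣ)
  have hto : orderOf t = q - 1 := by
    rw [orderOf_eq_card_of_forall_mem_zpowers ht, Nat.card_units, Nat.card_eq_fintype_card]
  let dg : Fˣ →* SpecialLinearGroup (Fin 2) F :=
    { toFun := fun x => ⟨!![(x : F), 0; 0, ((x⁻¹ : Fˣ) : F)], by simp [Matrix.det_fin_two]⟩
      map_one' := by
        apply Matrix.SpecialLinearGroup.ext
        intro i j
        show !![((1 : Fˣ) : F), 0; 0, (((1 : Fˣ)⁻¹ : Fˣ) : F)] i j = (1 : Matrix (Fin 2) (Fin 2) F) i j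
        fin_cases i <;> fin_cases j <;> simp
      map_mul' := fun x y => by
        apply Matrix.SpecialLinearGroup.ext; intro i j
        show !![((x * y : Fˣ) : F), 0; 0, (((x * y : Fˣ)⁻¹ : Fˣ) : F)] i j =
          (!![(x : F), 0; 0, ((x⁻¹ : Fˣ) : F)] * !![(y : F), 0; 0, ((y⁻¹ : Fˣ) : F)] : Matrix (Fin 2) (Fin 2) F) i j
        fin_cases i <;> fin_cases j <;> simp [Matrix.mul_apply, Fin.sum_univ_two, mul_comm] }
  have hdg : Function.Injective dg := fun x y h =>
    Units.ext (show (x : F) = y from congrArg (fun M : SpecialLinearGroup (Fin 2) F => M.1 0 0) h)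
  have hr : (q - 1).Prime := by
    rw [← hto, ← orderOf_injective dg hdg t]
    refine hsl _ fun h => ?_
    have : t = 1 := hdg (h.trans (map_one dg).symm)
    rw [this, orderOf_one] at hto
    omega
  have hcard : Nat.card G = q * (q ^ 2 - 1) := by
    have h := H37.card_PSL_two (F := F)
    rw [Nat.card_eq_fintype_card (α := F), ← hqdef] at h
    have hg : Nat.gcd 2 (q - 1) = 1 := by
      refine (Nat.coprime_two_left).mpr ?_
      rw [hF]
      exact Nat.Even.sub_odd Nat.one_le_two_pow ((Nat.even_pow).mpr ⟨even_two, by omega⟩) odd_one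
    rw [hg, one_mul] at h
    rw [Nat.card_congr e.toEquiv, h]
  have hsq : q ^ 2 - 1 = (q + 1) * (q - 1) := by rw [← Nat.sq_sub_sq q 1, one_pow]
  by_contra hne4
  have hr3 : q - 1 ≠ 3 := by omega
  have hq2 : 2 ∣ q := hF ▸ dvd_pow_self 2 (by omega)
  have h3q : 3 ∣ q + 1 := by
    have h31 : q % 3 ≠ 0 := fun h => by
      have := (Nat.prime_dvd_prime_iff_eq Nat.prime_three Nat.prime_two).mp
        (Nat.prime_three.dvd_of_dvd_pow (hF ▸ Nat.dvd_of_mod_eq_zero h))
      omega
    have h32 : (q - 1) % 3 ≠ 0 := fun h =>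
      hr3 ((Nat.prime_dvd_prime_iff_eq Nat.prime_three hr).mp (Nat.dvd_of_mod_eq_zero h)).symm
    refine Nat.dvd_of_mod_eq_zero ?_
    rcases (show q % 3 = 0 ∨ q % 3 = 1 ∨ q % 3 = 2 by omega) with h | h | h <;> omega
  have hsub : ({2, q - 1, 3} : Finset ℕ) ⊆ (Nat.card G).primeFactors := by
    simp only [Finset.insert_subset_iff, Finset.singleton_subset_iff, Nat.mem_primeFactors]
    refine ⟨⟨Nat.prime_two, ?_, Nat.card_pos.ne'⟩, ⟨hr, ?_, Nat.card_pos.ne'⟩,
      ⟨Nat.prime_three, ?_, Nat.card_pos.ne'⟩⟩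
    · rw [hcard]; exact dvd_mul_of_dvd_left hq2 _
    · rw [hcard, hsq]; exact dvd_mul_of_dvd_right (dvd_mul_left _ _) _
    · rw [hcard, hsq]; exact dvd_mul_of_dvd_right (dvd_mul_of_dvd_left h3q _) _
  have heq := Finset.eq_of_subset_of_card_le hsub (by
    rw [h3, Finset.card_eq_three.mpr ⟨2, q - 1, 3, by omega, by norm_num, hr3, rfl⟩])
  have honly : ∀ p, p.Prime → p ∣ q + 1 → p = 3 := by
    intro p hp hd
    have hmem : p ∈ ({2, q - 1, 3} : Finset ℕ) := by
      rw [heq, Nat.mem_primeFactors, hcard, hsq]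
      exact ⟨hp, dvd_mul_of_dvd_right (dvd_mul_of_dvd_left hd _) _, by
        rw [← hsq, ← hcard]; exact Nat.card_pos.ne'⟩
    simp only [Finset.mem_insert, Finset.mem_singleton] at hmem
    rcases hmem with h | h | h
    · subst h; omega
    · subst h
      have := Nat.le_of_dvd (by omega) (Nat.dvd_sub hd (dvd_refl (q - 1)))
      omega
    · exact h
  obtain ⟨b, hb⟩ : ∃ b, q + 1 = 3 ^ b :=
    ⟨_, Nat.eq_prime_pow_of_unique_prime_dvd (by omega) fun {d} hd hdd => honly d hd hdd⟩
  have h8 : q = 8 := by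
    obtain ⟨c, rfl | rfl⟩ := Nat.even_or_odd' b
    · rw [pow_mul] at hb
      have hb' : 2 ^ a + 1 = (3 ^ c) ^ 2 := by rw [← hF, hb, ← pow_mul, ← pow_mul, mul_comm]
      have hmul : (3 ^ c + 1) * (3 ^ c - 1) = 2 ^ a := by
        rw [← Nat.sq_sub_sq, one_pow]; omega
      obtain ⟨i, -, hi⟩ := (Nat.dvd_prime_pow Nat.prime_two).mp ⟨_, hmul.symm⟩
      obtain ⟨j, -, hj⟩ := (Nat.dvd_prime_pow Nat.prime_two).mp (Dvd.intro_left _ hmul)
      have hodd3 : 3 ^ c % 2 = 1 := by rw [Nat.pow_mod]; norm_num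
      have hj1 : j = 1 := by
        rcases j with _ | _ | j
        · rw [pow_zero] at hj; omega
        · rfl
        · have h4j : 4 ∣ 2 ^ (j + 2) := ⟨2 ^ j, by ring⟩
          have hjpos : 0 < 2 ^ (j + 2) := by positivity
          rcases i with _ | _ | i
          · rw [pow_zero] at hi; omega
          · rw [zero_add, pow_one] at hi
            have h' : 3 ^ c - 1 = 2 ^ (j + 2) := hj
            omega
          · have h4i : 4 ∣ 2 ^ (i + 2) := ⟨2 ^ i, by ring⟩
            have : 3 ^ c - 1 = 2 ^ (j + 2) := hj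
            omega
      subst hj1
      have hc3 : 3 ^ c = 3 := by omega
      have : 2 ^ a = 8 := by rw [← hmul, hc3]
      omega
    · exfalso
      have h4 : 4 ∣ q := hF ▸ (show 2 ^ 2 ∣ 2 ^ a from Nat.pow_dvd_pow 2 ha)
      have : 3 ^ (2 * c + 1) % 4 = 3 := by
        rw [pow_succ, pow_mul, Nat.mul_mod, Nat.pow_mod]; norm_num
      omega
  -- an element of order 9 in the group with `q = 8`
  obtain ⟨t₀, ht0, ht1⟩ : ∃ t₀ : F, t₀ ≠ 0 ∧ t₀ ≠ 1 :=
    ⟨t, t.ne_zero, fun h => by
      rw [Units.ext (h.trans Units.val_one.symm), orderOf_one] at hto; omega⟩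
  obtain ⟨s, hs⟩ : ∃ s : F, s ^ 3 + s + 1 = 0 := by
    have h7 : t₀ ^ 7 = 1 := by
      have := FiniteField.pow_card_sub_one_eq_one t₀ ht0
      rwa [← hqdef, h8] at this
    have hmul : (t₀ - 1) * ((t₀ ^ 3 + t₀ + 1) * (t₀ ^ 3 + t₀ ^ 2 + 1)) = 0 := by
      linear_combination h7 + (t₀ ^ 3 * (t₀ - 1)) * h2
    rcases mul_eq_zero.mp ((mul_eq_zero.mp hmul).resolve_left (sub_ne_zero.mpr ht1)) with h | h
    · exact ⟨t₀, h⟩
    · exact ⟨t₀ + 1, by linear_combination h + (t₀ ^ 2 + 2 * t₀ + 1) * h2⟩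
  let M : SpecialLinearGroup (Fin 2) F :=
    ⟨!![0, 1; 1, s], by simp [Matrix.det_fin_two]; linear_combination (-1 : F) * h2⟩
  have hM3 : ((M ^ 3 : SpecialLinearGroup (Fin 2) F) : Matrix (Fin 2) (Fin 2) F) =
      !![s, 1 + s ^ 2; 1 + s ^ 2, 1 + s] := by
    rw [pow_succ, pow_two, Matrix.SpecialLinearGroup.coe_mul, Matrix.SpecialLinearGroup.coe_mul]
    ext i j
    fin_cases i <;> fin_cases j <;> simp [M, Matrix.mul_apply, Fin.sum_univ_two]
    all_goals first
      | ring1
      | linear_combination hs - h2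
  have hM9 : (M ^ 3) ^ 3 = 1 := by
    have hN : ((M ^ 3 * M ^ 3 : SpecialLinearGroup (Fin 2) F) : Matrix (Fin 2) (Fin 2) F) =
        !![1 + s, 1 + s ^ 2; 1 + s ^ 2, s] := by
      rw [Matrix.SpecialLinearGroup.coe_mul, hM3]
      ext i j
      fin_cases i <;> fin_cases j <;> simp [Matrix.mul_apply, Fin.sum_univ_two]
      · linear_combination s * hs + (s ^ 2 - s) * h2
      · linear_combination (s * (1 + s ^ 2)) * h2
      · linear_combination (s * (1 + s ^ 2)) * h2
      · linear_combination s * hs + (s ^ 2 + 1) * h2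
    apply Matrix.SpecialLinearGroup.ext
    intro i j
    rw [pow_succ (M ^ 3), pow_two, Matrix.SpecialLinearGroup.coe_mul, hN, hM3, Matrix.SpecialLinearGroup.coe_one]
    fin_cases i <;> fin_cases j <;> simp [Matrix.mul_apply, Fin.sum_univ_two]
    · linear_combination s * hs + (s ^ 2) * h2
    · linear_combination (s * (1 + s ^ 2) + (1 + s ^ 2)) * h2
    · linear_combination (s * (1 + s ^ 2)) * h2
    · linear_combination s * hs + (s ^ 2) * h2
  have hM3ne : M ^ 3 ≠ 1 := by
    intro h
    have h01 := congrArg (fun X : Matrix (Fin 2) (Fin 2) F => X 0 0) hM3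
    rw [h] at h01
    simp at h01
    rw [← h01] at hs
    apply one_ne_zero (α := F)
    linear_combination hs - h2
  have hord := orderOf_eq_prime_pow (p := 3) (n := 1) (x := M)
    (by simpa using hM3ne) (by rw [show 3 ^ (1 + 1) = 3 * 3 by norm_num, pow_mul]; exact hM9)
  have hM1 : M ≠ 1 := fun h => hM3ne (by rw [h, one_pow])
  have := hsl M hM1
  rw [hord] at this
  norm_num at this

/-- A finite non-solvable group on which its automorphism group has exactly four orbits is isomorphic to the alternating group of degree 5. -/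
theorem result {G : Type*} [Group G] [Finite G] (hns : ¬ Group.IsSolvable G)
    (h4 : Nat.card (MulAction.orbitRel.Quotient (MulAut G) G) = 4) : Nonempty (G ≃* alternatingGroup (Fin 5)) := by
  obtain ⟨hpr, h3⟩ := orders_prime hns h4
  classical
  haveI h2f : Fact (Nat.Prime 2) := ⟨Nat.prime_two⟩
  have h2G : 2 ∣ Nat.card G := by
    by_contra hodd
    refine hns (H13.CN.solvable_of_odd (Nat.odd_iff.mpr (by omega)) fun g hg => ?_)
    haveI := Fact.mk (hpr g hg)
    refine IsPGroup.isNilpotent (p := orderOf g) fun c => ⟨1, ?_⟩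
    by_cases hc : (c : G) = 1
    · exact Subtype.ext (by simp [hc])
    · refine Subtype.ext ?_
      rw [pow_one, SubmonoidClass.coe_pow, ← commute_order hpr hg hc
        (Subgroup.mem_centralizer_singleton_iff.mp c.2), pow_orderOf_eq_one]
      rfl
  have hC : ∀ t : G, orderOf t = 2 → IsMulCommutative (Subgroup.centralizer ({t} : Set G)) ∧
      ∀ c ∈ Subgroup.centralizer ({t} : Set G), c ^ 2 = 1 := by
    intro t ht
    have ht1 : t ≠ 1 := fun h => by rw [h, orderOf_one] at ht; omega
    have hsq : ∀ c ∈ Subgroup.centralizer ({t} : Set G), c ^ 2 = 1 := fun c hc => by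
      by_cases h1 : c = 1
      · rw [h1, one_pow]
      · rw [← ht, ← commute_order hpr ht1 h1 (Subgroup.mem_centralizer_singleton_iff.mp hc),
          pow_orderOf_eq_one]
    refine ⟨⟨⟨fun a b => Subtype.ext ?_⟩⟩, hsq⟩
    have hinv : ∀ c ∈ Subgroup.centralizer ({t} : Set G), c⁻¹ = c := fun c hc =>
      inv_eq_of_mul_eq_one_right (by rw [← sq]; exact hsq c hc)
    show (a : G) * b = b * a
    rw [← hinv _ (Subgroup.mul_mem _ a.2 b.2), mul_inv_rev, hinv _ a.2, hinv _ b.2]
  let T : Sylow 2 G := default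
  have hT2 : ∀ c ∈ (T : Subgroup G), c ^ 2 = 1 := by
    intro c hc
    by_cases h1 : c = 1
    · rw [h1, one_pow]
    · obtain ⟨k, hk⟩ := T.isPGroup' ⟨c, hc⟩
      have hd : orderOf c ∣ 2 ^ k := orderOf_dvd_of_pow_eq_one (congrArg Subtype.val hk)
      rw [← (Nat.prime_dvd_prime_iff_eq (hpr c h1) Nat.prime_two).mp
        ((hpr c h1).dvd_of_dvd_pow hd), pow_orderOf_eq_one]
  have hTsol : Group.IsSolvable (T : Subgroup G) := Group.isSolvable_of_comm fun a b => by
    have hinv : ∀ c : (T : Subgroup G), c⁻¹ = c := fun c =>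
      inv_eq_of_mul_eq_one_right (Subtype.ext (by
        rw [Subgroup.coe_mul, ← sq]; exact hT2 c c.2))
    rw [← hinv (a * b), mul_inv_rev, hinv, hinv]
  have hidx : ∀ n : ℕ, n ∣ Nat.card G → ¬ 2 ∣ n → ∃ p q : ℕ, p.Prime ∧ q.Prime ∧
      ∀ r : ℕ, r.Prime → r ∣ n → r = p ∨ r = q := by
    intro n hn hn2
    have hmem2 : 2 ∈ (Nat.card G).primeFactors :=
      Nat.mem_primeFactors.mpr ⟨Nat.prime_two, h2G, Nat.card_pos.ne'⟩
    have hc : ((Nat.card G).primeFactors.erase 2).card = 2 := by
      rw [Finset.card_erase_of_mem hmem2, h3]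
    obtain ⟨p, q, hpq, he⟩ := Finset.card_eq_two.mp hc
    have hp : p ∈ (Nat.card G).primeFactors.erase 2 := by rw [he]; simp
    have hq : q ∈ (Nat.card G).primeFactors.erase 2 := by rw [he]; simp
    refine ⟨p, q, (Nat.mem_primeFactors.mp (Finset.mem_of_mem_erase hp)).1,
      (Nat.mem_primeFactors.mp (Finset.mem_of_mem_erase hq)).1, fun r hr hd => ?_⟩
    have : r ∈ (Nat.card G).primeFactors.erase 2 :=
      Finset.mem_erase.mpr ⟨fun h => hn2 (h ▸ hd),
        Nat.mem_primeFactors.mpr ⟨hr, hd.trans hn, Nat.card_pos.ne'⟩⟩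
    simpa [he] using this
  have hTidx : ¬ 2 ∣ (T : Subgroup G).index := T.not_dvd_index
  have hnn : ¬ (T : Subgroup G).Normal := fun hN => by
    haveI := hN
    obtain ⟨p, q, hp, hq, h⟩ := hidx _ (Subgroup.index_dvd_card _) hTidx
    rw [Subgroup.index_eq_card] at h
    exact hns (solvable_ext _ hTsol (H33.isSolvable_of_two_primes hp hq h))
  have hnc : ¬ IsCyclic (T : Subgroup G) := fun hcyc => by
    obtain ⟨g, hg⟩ := (Subgroup.isCyclic_iff_exists_zpowers_eq_top _).1 hcyc
    have hgT : g ∈ (T : Subgroup G) := hg ▸ Subgroup.mem_zpowers g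
    have hgi : g⁻¹ = g := inv_eq_of_mul_eq_one_right (by rw [← sq]; exact hT2 g hgT)
    have hN : Subgroup.normalizer ((T : Subgroup G) : Set G) ≤
        Subgroup.centralizer ((T : Subgroup G) : Set G) := by
      intro n hn
      refine Subgroup.mem_centralizer_iff.2 fun y hy => ?_
      have hng : n * g * n⁻¹ ∈ Subgroup.zpowers g := hg ▸ (Subgroup.mem_normalizer_iff.1 hn g).1 hgT
      have hcases : ∀ z ∈ Subgroup.zpowers g, z = 1 ∨ z = g := by
        rintro z ⟨i, rfl⟩
        rcases Int.even_or_odd' i with ⟨j, rfl | rfl⟩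
        · left; show g ^ (2 * j) = 1
          rw [zpow_mul, zpow_two, ← sq, hT2 g hgT, one_zpow]
        · right; show g ^ (2 * j + 1) = g
          rw [zpow_add, zpow_mul, zpow_two, ← sq, hT2 g hgT, one_zpow, one_mul, zpow_one]
      have hcomm : n * g = g * n := by
        rcases hcases _ hng with h | h
        · rw [conj_eq_one_iff] at h; rw [h, mul_one, one_mul]
        · exact mul_inv_eq_iff_eq_mul.mp h
      rcases hcases y (hg ▸ hy) with rfl | rfl
      · rw [one_mul, mul_one]
      · exact hcomm.symm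
    have hcompl := MonoidHom.ker_transferSylow_isComplement' T hN
    set N := (MonoidHom.transferSylow T hN).ker
    have hNcard : Nat.card N = (T : Subgroup G).index := hcompl.index_eq_card.symm
    obtain ⟨p, q, hp, hq, h⟩ := hidx _ (Subgroup.index_dvd_card _) hTidx
    rw [← hNcard] at h
    refine hns (solvable_ext N (H33.isSolvable_of_two_primes hp hq h) ?_)
    haveI := hTsol
    exact solvable_of_solvable_injective
      (QuotientGroup.kerLift_injective (MonoidHom.transferSylow T hN))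
  obtain ⟨F, iF, iFF, hcard, ⟨e⟩⟩ := Cfsg.Agent.S1230.result T hnc hnn hC
  have hq4 : Fintype.card F = 4 := by
    refine q_eq_four e ?_ hpr h3
    obtain ⟨a, ha⟩ := T.isPGroup'.exists_card_eq
    refine ⟨a, ?_, hcard.trans ha⟩
    by_contra hlt
    refine hnc ?_
    rcases a with _ | a
    · rw [pow_zero] at ha
      haveI := (Nat.card_eq_one_iff_unique.mp ha).1
      exact isCyclic_of_subsingleton
    · obtain rfl : a = 0 := by omega
      exact isCyclic_of_prime_card (p := 2) (by simpa using ha)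
  obtain ⟨f⟩ := H37.PSL2_four_mulEquiv_alternating (F := F)
    (by rw [Nat.card_eq_fintype_card, hq4])
  exact ⟨e.trans f⟩

end Cfsg.Agent.S4068
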