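import Cfsg.Agent.H27.SameClassSizes
import Cfsg.Statements.S4071
-- import your own Cfsg.Agent.* helpers here

set_option autoImplicit false
open Cfsg

namespace Cfsg.Agent.S4071

open Subgroup
open scoped Pointwise

set_option linter.unusedSectionVars false

section
variable {G : Type*} [Group G] [Finite G]

/-- `a ↦ a (x a x⁻¹)⁻¹` on a normal abelian subgroup. -/
def disp (A : Subgroup G) [hA : A.Normal] [IsMulCommutative A] (x : G) : A →* A where
  toFun a := a * ⟨x * (a : G)⁻¹ * x⁻¹, hA.conj_mem _ (inv_mem a.2) x⟩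
  map_one' := Subtype.ext (by simp)
  map_mul' a b := by
    have e : (⟨x * ((a * b : A) : G)⁻¹ * x⁻¹, hA.conj_mem _ (inv_mem (a * b).2) x⟩ : A) =
        ⟨x * (b : G)⁻¹ * x⁻¹, hA.conj_mem _ (inv_mem b.2) x⟩ *
          ⟨x * (a : G)⁻¹ * x⁻¹, hA.conj_mem _ (inv_mem a.2) x⟩ := Subtype.ext (by simp [mul_assoc])
    rw [e]; ac_rfl

theorem disp_coe (A : Subgroup G) [hA : A.Normal] [IsMulCommutative A] (x : G) (a : A) :
    ((disp A x a : A) : G) = (a : G) * (x * (a : G)⁻¹ * x⁻¹) := rfl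

theorem eq_one_of_pow_conj {A : Subgroup G} {p k : ℕ} (hp : p.Prime) (hA : ¬ p ∣ Nat.card A)
    {x b : G} (hx : x ^ p ^ k = 1) {a : G} (ha : a ∈ A) (hb : b ∈ A) (hab : x * a * x⁻¹ = a * b)
    (hxb : x * b * x⁻¹ = b) : b = 1 := by
  have h : ∀ n : ℕ, x ^ n * a * (x ^ n)⁻¹ = a * b ^ n := by
    intro n
    induction n with
    | zero => simp
    | succ n ih =>
      calc x ^ (n + 1) * a * (x ^ (n + 1))⁻¹ = x * (x ^ n * a * (x ^ n)⁻¹) * x⁻¹ := by
            rw [pow_succ']; group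
        _ = (x * a * x⁻¹) * (x * b ^ n * x⁻¹) := by rw [ih]; group
        _ = a * b ^ (n + 1) := by rw [← conj_pow, hab, hxb, pow_succ', mul_assoc]
  have h1 := h (p ^ k)
  rw [hx, one_mul, inv_one, mul_one] at h1
  have h2 : (⟨b, hb⟩ : A) ^ p ^ k = 1 := Subtype.ext (mul_eq_left.mp h1.symm)
  have h3 := Nat.eq_one_of_dvd_coprimes ((hp.coprime_iff_not_dvd.mpr hA).pow_left k)
    (orderOf_dvd_of_pow_eq_one h2) (orderOf_dvd_natCard _)
  exact congrArg Subtype.val (orderOf_eq_one_iff.mp h3)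

theorem forward [Group.IsSolvable G] (hnn : ¬ Group.IsNilpotent G)
    (h : ∀ H : Subgroup G, ¬ IsMulCommutative H → Subgroup.normalizer (H : Set G) = H) :
    ∃ (x : G) (A : Subgroup G) (p : ℕ), p.Prime ∧ A.Normal ∧ IsMulCommutative A ∧
      (∃ k : ℕ, orderOf x = p ^ k) ∧
      ¬ p ∣ Nat.card A ∧ (Subgroup.zpowers x).IsComplement' A ∧ x ^ p ∈ Subgroup.center G ∧
      ∀ a : G, a ∈ A → a ≠ 1 → x * a * x⁻¹ ≠ a := by
  classical
  have hnormal : ∀ H : Subgroup G, H.Normal → H ≠ ⊤ → IsMulCommutative H := fun H hH hne => by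
    by_contra hc
    exact hne ((h H hc).symm.trans (normalizer_eq_top_iff.mpr hH))
  have : Nontrivial G := by
    by_contra hs
    rw [not_nontrivial_iff_subsingleton] at hs
    exact hnn inferInstance
  have hcomm : commutator G < ⊤ := Group.IsSolvable.commutator_lt_top_of_nontrivial G
  obtain ⟨M, hM, hMle⟩ := (eq_top_or_exists_le_coatom (commutator G)).resolve_left hcomm.ne
  have hMn : M.Normal := ⟨fun m hm g => by
    have h1 : g * m * g⁻¹ * m⁻¹ ∈ M := hMle (commutator_mem_commutator (mem_top g) (mem_top m))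
    simpa using mul_mem h1 hm⟩
  have hMc := hnormal M hMn hM.1
  obtain ⟨p, hp, hMi⟩ : ∃ p : ℕ, p.Prime ∧ M.index = p := by
    have : IsSimpleGroup (G ⧸ M) := by
      have : Nontrivial (G ⧸ M) := QuotientGroup.nontrivial_iff.mpr hM.1
      refine ⟨fun K hK => ?_⟩
      rcases eq_or_lt_of_le (show M ≤ K.comap (QuotientGroup.mk' M) from fun g hg => by
        rw [mem_comap, show QuotientGroup.mk' M g = 1 from (QuotientGroup.eq_one_iff g).mpr hg]
        exact one_mem _) with e | e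
      · left
        rw [← map_comap_eq_self_of_surjective (QuotientGroup.mk'_surjective M) K, ← e,
          QuotientGroup.map_mk'_self]
      · right
        rw [← map_comap_eq_self_of_surjective (QuotientGroup.mk'_surjective M) K, hM.2 _ e,
          map_top_of_surjective _ (QuotientGroup.mk'_surjective M)]
    let _ : CommGroup (G ⧸ M) := { (inferInstance : Group (G ⧸ M)) with
      mul_comm := fun a b => by
        induction a using QuotientGroup.induction_on with
        | H a =>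
          induction b using QuotientGroup.induction_on with
          | H b =>
            rw [← QuotientGroup.mk_mul, ← QuotientGroup.mk_mul, QuotientGroup.eq]
            have h1 := hMle (commutator_mem_commutator (mem_top b⁻¹) (mem_top a⁻¹))
            rw [commutatorElement_def] at h1
            simpa [mul_assoc] using h1 }
    exact ⟨M.index, IsSimpleGroup.prime_card, rfl⟩
  have := Fact.mk hp
  have hab : ∀ a ∈ M, ∀ b ∈ M, a * b = b * a := fun a ha b hb =>
    congrArg Subtype.val (hMc.is_comm.comm ⟨a, ha⟩ ⟨b, hb⟩)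
  -- the `p'`-part of `M`
  let A : Subgroup G :=
    { carrier := {a | a ∈ M ∧ ¬ p ∣ orderOf a}
      one_mem' := ⟨one_mem _, by simpa using hp.ne_one⟩
      mul_mem' := fun {a b} ha hb => ⟨mul_mem ha.1 hb.1, fun hd => by
        rcases hp.dvd_mul.mp (hd.trans ((Commute.orderOf_mul_dvd_lcm (hab a ha.1 b hb.1)).trans
          (Nat.lcm_dvd_mul _ _))) with h1 | h1
        · exact ha.2 h1
        · exact hb.2 h1⟩
      inv_mem' := fun {a} ha => ⟨inv_mem ha.1, by rw [orderOf_inv]; exact ha.2⟩ }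
  have hAn : A.Normal := ⟨fun a ha g => ⟨hMn.conj_mem a ha.1 g, by
    rw [← MulAut.conj_apply, MulEquiv.orderOf_eq]; exact ha.2⟩⟩
  have hAc : IsMulCommutative A := ⟨⟨fun a b => Subtype.ext (hab a a.2.1 b b.2.1)⟩⟩
  have hAp : ¬ p ∣ Nat.card A := fun hd => by
    obtain ⟨a, ha⟩ := exists_prime_orderOf_dvd_card' p hd
    exact a.2.2 (by rw [Subgroup.orderOf_coe, ha])
  obtain ⟨P⟩ : Nonempty (Sylow p G) := inferInstance
  obtain ⟨x, hxP, hxM⟩ : ∃ x ∈ (P : Subgroup G), x ∉ M := by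
    by_contra hc
    push Not at hc
    exact P.not_dvd_index (hMi.symm.dvd.trans (index_dvd_of_le hc))
  have htop : A ⊔ (P : Subgroup G) = ⊤ := by
    refine hM.2 _ (lt_of_le_of_ne (fun m hm => ?_) fun e => hxM (e ▸ mem_sup_right hxP))
    obtain ⟨u, v, huv, ⟨j, hu⟩, hv, rfl⟩ := H27.exists_pPart p m
    have hco := H27.coprime_parts p ⟨j, hu⟩ hv
    obtain ⟨i, hi⟩ := exists_pow_eq_self_of_coprime (x := u) hco.symm
    have huM : u ∈ M := by
      rw [← hi, show u ^ orderOf v = (u * v) ^ orderOf v by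
        rw [huv.mul_pow, pow_orderOf_eq_one, mul_one]]
      exact pow_mem (pow_mem hm _) _
    refine mul_mem (mem_sup_right ?_) (mem_sup_left ⟨(mul_mem_cancel_left huM).mp hm, hv⟩)
    obtain ⟨Q, hQ⟩ := (IsPGroup.of_card (n := j) (G := zpowers u)
      (by rw [Nat.card_zpowers, hu])).exists_le_sylow
    -- the `p`-part of `M` is normal, so it lies in every Sylow subgroup
    let Mp : Subgroup G :=
      { carrier := {a | a ∈ M ∧ ∃ k : ℕ, a ^ p ^ k = 1}
        one_mem' := ⟨one_mem _, 0, one_pow _⟩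
        mul_mem' := fun {a b} ha hb => ⟨mul_mem ha.1 hb.1, by
          obtain ⟨k, hk⟩ := ha.2; obtain ⟨l, hl⟩ := hb.2
          exact ⟨k + l, by rw [Commute.mul_pow (hab a ha.1 b hb.1), pow_add, pow_mul, hk, one_pow,
            one_mul, mul_comm (p ^ k), pow_mul, hl, one_pow]⟩⟩
        inv_mem' := fun {a} ha => ⟨inv_mem ha.1, by
          obtain ⟨k, hk⟩ := ha.2; exact ⟨k, by rw [inv_pow, hk, inv_one]⟩⟩ }
    have hMpn : Mp.Normal := ⟨fun a ha g => ⟨hMn.conj_mem a ha.1 g, by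
      obtain ⟨k, hk⟩ := ha.2; exact ⟨k, by rw [conj_pow, hk, mul_one, mul_inv_cancel]⟩⟩⟩
    have hMpP : IsPGroup p Mp := fun a => by
      obtain ⟨k, hk⟩ := a.2.2; exact ⟨k, Subtype.ext hk⟩
    obtain ⟨Q', hQ'⟩ := hMpP.exists_le_sylow
    obtain ⟨c, hc⟩ := MulAction.exists_smul_eq G Q' P
    have h2 : c⁻¹ * u * c ∈ Mp := by
      simpa using hMpn.conj_mem u ⟨huM, j, by rw [← hu, pow_orderOf_eq_one]⟩ c⁻¹
    rw [← hc, Sylow.coe_subgroup_smul]
    exact ⟨_, hQ' h2, by simp [mul_assoc]⟩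
  obtain ⟨k, hk⟩ := P.isPGroup' ⟨x, hxP⟩
  have hxk : x ^ p ^ k = 1 := congrArg Subtype.val hk
  -- `x` does not centralise `A`
  have hne : ∃ a ∈ A, x * a * x⁻¹ ≠ a := by
    by_contra hc
    push Not at hc
    apply hnn
    have hZ : A ≤ center G := fun a ha => by
      rw [← centralizer_univ, ← coe_top, mem_centralizer_iff]
      have : (⊤ : Subgroup G) ≤ centralizer ({a} : Set G) := by
        have h1 : M ≤ centralizer ({a} : Set G) := fun m hm =>
          mem_centralizer_singleton_iff.mpr (hab m hm a ha.1)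
        refine (hM.2 _ (lt_of_le_of_ne h1 fun e => hxM (e ▸ ?_))).ge
        exact mem_centralizer_singleton_iff.mpr (mul_inv_eq_iff_eq_mul.mp (hc a ha))
      exact fun g hg => mem_centralizer_singleton_iff.mp (this hg)
    have hp' : IsPGroup p (G ⧸ center G) := by
      refine P.isPGroup'.of_surjective ((QuotientGroup.mk' (center G)).comp (P : Subgroup G).subtype) ?_
      intro g
      induction g using QuotientGroup.induction_on with
      | H g =>
        obtain ⟨a, ha, y, hy, rfl⟩ : g ∈ (A : Set G) * ((P : Subgroup G) : Set G) := by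
          rw [← normal_mul, htop]; trivial
        exact ⟨⟨y, hy⟩, (QuotientGroup.eq.mpr (by
          show y⁻¹ * (a * y) ∈ center G
          rw [← mul_assoc, mem_center_iff.mp (hZ ha) y⁻¹, mul_assoc, inv_mul_cancel, mul_one]
          exact hZ ha))⟩
    have := hp'.isNilpotent
    exact Group.of_quotient_center_nilpotent this
  let B : Subgroup G := (disp A x).range.map A.subtype
  have hBA : B ≤ A := map_subtype_le _
  have hBmem : ∀ a ∈ A, a * (x * a⁻¹ * x⁻¹) ∈ B := fun a ha =>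
    ⟨disp A x ⟨a, ha⟩, ⟨_, rfl⟩, rfl⟩
  let S : Subgroup G :=
    { carrier := {y | ∀ a ∈ A, a * (y * a⁻¹ * y⁻¹) ∈ B}
      one_mem' := fun a _ => by simp
      mul_mem' := fun {y z} hy hz a ha => by
        have h1 := hz a ha
        have h2 := hy _ (hAn.conj_mem a ha z)
        have e : a * (y * z * a⁻¹ * (y * z)⁻¹) = (a * (z * a⁻¹ * z⁻¹)) * (z * a * z⁻¹ * (y * (z * a * z⁻¹)⁻¹ * y⁻¹)) := by group
        rw [e]; exact mul_mem h1 h2
      inv_mem' := fun {y} hy a ha => by
        have h1 := inv_mem (hy _ (hAn.conj_mem a ha y⁻¹))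
        have e : (y⁻¹ * a * y⁻¹⁻¹ * (y * (y⁻¹ * a * y⁻¹⁻¹)⁻¹ * y⁻¹))⁻¹ = a * (y⁻¹ * a⁻¹ * y⁻¹⁻¹) := by group
        exact e ▸ h1 }
  have hS : ∀ y, y ∈ S := by
    have hMS : M ≤ S := fun m hm a ha => by
      rw [hab m hm _ (inv_mem ha.1), mul_assoc, mul_inv_cancel, mul_one, mul_inv_cancel]
      exact one_mem _
    have : S = ⊤ := hM.2 _ (lt_of_le_of_ne hMS fun e => hxM (e ▸ hBmem))
    exact fun y => this ▸ mem_top y
  have hBn : B.Normal := ⟨fun b hb y => by
    have h1 : b * (y * b⁻¹ * y⁻¹) ∈ B := hS y b (hBA hb)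
    have e : y * b * y⁻¹ = (b * (y * b⁻¹ * y⁻¹))⁻¹ * b := by group
    rw [e]; exact mul_mem (inv_mem h1) hb⟩
  have hJn : (B ⊔ (P : Subgroup G)).Normal := by
    rw [← normalizer_eq_top_iff, eq_top_iff, ← htop, sup_le_iff]
    refine ⟨fun a ha => ?_, le_sup_right.trans le_normalizer⟩
    rw [mem_normalizer_iff]
    have key : ∀ a ∈ A, ∀ g ∈ B ⊔ (P : Subgroup G), a * g * a⁻¹ ∈ B ⊔ (P : Subgroup G) := by
      intro a ha g hg
      have e : a * g * a⁻¹ = (a * (g * a⁻¹ * g⁻¹)) * g := by group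
      rw [e]; exact mul_mem (mem_sup_left (hS g a ha)) hg
    refine fun g => ⟨key a ha g, fun hg => ?_⟩
    have := key a⁻¹ (inv_mem ha) _ hg
    simpa [mul_assoc] using this
  have hJ : B ⊔ (P : Subgroup G) = ⊤ := by
    by_contra hc
    have hJc := hnormal _ hJn hc
    obtain ⟨a, ha, hax⟩ := hne
    have hcx : x * (a⁻¹ * (x * a * x⁻¹)) * x⁻¹ = a⁻¹ * (x * a * x⁻¹) := by
      have hb := hBmem a⁻¹ (inv_mem ha)
      rw [inv_inv] at hb
      rw [mul_inv_eq_iff_eq_mul]
      exact congrArg Subtype.val (hJc.is_comm.comm ⟨x, mem_sup_right hxP⟩ ⟨_, mem_sup_left hb⟩)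
    have := eq_one_of_pow_conj hp hAp hxk ha (mul_mem (inv_mem ha) (hAn.conj_mem a ha x))
      (by group) hcx
    exact hax (inv_mul_eq_one.mp this).symm
  have hAP : ∀ a ∈ A, a ∈ (P : Subgroup G) → a = 1 := fun a ha haP => by
    obtain ⟨i, hi⟩ := P.isPGroup' ⟨a, haP⟩
    obtain ⟨l, -, hl⟩ := (Nat.dvd_prime_pow hp).mp (orderOf_dvd_of_pow_eq_one (congrArg Subtype.val hi : a ^ p ^ i = 1))
    rcases Nat.eq_zero_or_pos l with rfl | hl0
    · rwa [pow_zero, orderOf_eq_one_iff] at hl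
    · exact absurd (hl ▸ dvd_pow_self p hl0.ne') ha.2
  have hfpf : ∀ a : G, a ∈ A → a ≠ 1 → x * a * x⁻¹ ≠ a := by
    intro a ha ha1 hfix
    obtain ⟨b, hb, y, hy, e⟩ : a ∈ (B : Set G) * ((P : Subgroup G) : Set G) := by
      rw [← normal_mul, hJ]; trivial
    have hy1 : y = 1 := hAP y (by
      rw [show y = b⁻¹ * a by rw [← show b * y = a from e, inv_mul_cancel_left]]
      exact mul_mem (inv_mem (hBA hb)) ha) hy
    subst hy1
    simp only [mul_one] at e
    subst e
    obtain ⟨c', ⟨c, rfl⟩, rfl⟩ := hb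
    set d : G := ((disp A x c : A) : G) with hd
    apply ha1
    have h1 : x * (c : G) * x⁻¹ = c * d⁻¹ := by
      have hca := hab _ c.2.1 _ (hAn.conj_mem _ c.2 x).1
      calc x * (c : G) * x⁻¹ = x * (c : G) * x⁻¹ * (c : G) * (c : G)⁻¹ := by group
        _ = (c : G) * (x * (c : G) * x⁻¹) * (c : G)⁻¹ := by rw [hca]
        _ = (c : G) * d⁻¹ := by rw [hd, disp_coe]; group
    exact inv_eq_one.mp (eq_one_of_pow_conj hp hAp hxk c.2 (inv_mem ha) h1
      (by rw [← conj_inv]; exact congrArg Inv.inv hfix))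
  have hPx : (P : Subgroup G) = zpowers x := by
    by_contra hc
    have hlt : (zpowers x).subgroupOf (P : Subgroup G) < ⊤ := lt_top_iff_ne_top.mpr fun e =>
      hc (le_antisymm (subgroupOf_eq_top.mp e) (zpowers_le.mpr hxP))
    have : Group.IsNilpotent (P : Subgroup G) := P.isPGroup'.isNilpotent
    obtain ⟨y, hyn, hy⟩ := SetLike.exists_of_lt (Group.normalizerCondition_of_isNilpotent _ hlt)
    obtain ⟨a, ha, hax⟩ := hne
    have hK : ¬ IsMulCommutative (A ⊔ zpowers x : Subgroup G) := fun hc' => hax (by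
      rw [mul_inv_eq_iff_eq_mul]
      exact congrArg Subtype.val (hc'.is_comm.comm ⟨x, mem_sup_right (mem_zpowers x)⟩ ⟨a, mem_sup_left ha⟩))
    have key : ∀ g : G, g ∈ (A ⊔ zpowers x : Subgroup G) → (y : G) * g * (y : G)⁻¹ ∈ (A ⊔ zpowers x : Subgroup G) := by
      intro g hg
      obtain ⟨a, ha, z, hz, rfl⟩ : g ∈ (A : Set G) * (zpowers x : Set G) := by
        rw [← normal_mul]; exact hg
      have hzP : z ∈ (P : Subgroup G) := zpowers_le.mpr hxP hz
      have h1 := (mem_normalizer_iff.mp hyn ⟨z, hzP⟩).mp (mem_subgroupOf.mpr hz)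
      have e : (y : G) * (a * z) * (y : G)⁻¹ = ((y : G) * a * (y : G)⁻¹) * ((y : G) * z * (y : G)⁻¹) := by group
      rw [e]
      exact mul_mem (mem_sup_left (hAn.conj_mem a ha y)) (mem_sup_right (mem_subgroupOf.mp h1))
    have hyK : (y : G) ∈ normalizer ((A ⊔ zpowers x : Subgroup G) : Set G) := by
      rw [mem_normalizer_iff]
      refine fun g => ⟨key g, fun hg => ?_⟩
      have hinj : Function.Bijective (fun g : (A ⊔ zpowers x : Subgroup G) => (⟨(y : G) * g * (y : G)⁻¹, key g g.2⟩ : (A ⊔ zpowers x : Subgroup G))) :=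
        Finite.injective_iff_bijective.mp fun u v e => Subtype.ext (by simpa using congrArg Subtype.val e)
      obtain ⟨u, hu⟩ := hinj.2 ⟨_, hg⟩
      have : (u : G) = g := by simpa using congrArg Subtype.val hu
      exact this ▸ u.2
    rw [h _ hK] at hyK
    obtain ⟨a, ha, z, hz, e⟩ : (y : G) ∈ (A : Set G) * (zpowers x : Set G) := by
      rw [← normal_mul]; exact hyK
    have : a = 1 := hAP a ha (by
      rw [show a = (y : G) * z⁻¹ by rw [← show a * z = (y : G) from e, mul_inv_cancel_right]]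
      exact mul_mem y.2 (inv_mem (zpowers_le.mpr hxP hz)))
    subst this
    exact hy (mem_subgroupOf.mpr ((show (y : G) = z by rw [← show 1 * z = (y : G) from e, one_mul]) ▸ hz))
  obtain ⟨l, -, hl⟩ := (Nat.dvd_prime_pow hp).mp (orderOf_dvd_of_pow_eq_one hxk)
  refine ⟨x, A, p, hp, hAn, hAc, ⟨l, hl⟩, hAp, ?_, ?_, hfpf⟩
  · refine isComplement'_of_disjoint_and_mul_eq_univ ?_ ?_
    · rw [disjoint_iff_inf_le]
      exact fun g hg => (mem_bot.mpr (hAP g hg.2 (hPx ▸ hg.1)))
    · rw [← mul_normal, sup_comm, ← hPx, htop]; rfl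
  · have hpM : x ^ p ∈ M := by
      rw [← hMi]; exact pow_index_mem M x
    rw [mem_center_iff]
    intro g
    have h1 : M ≤ centralizer ({x ^ p} : Set G) := fun m hm =>
      mem_centralizer_singleton_iff.mpr (hab m hm _ hpM)
    have h2 : centralizer ({x ^ p} : Set G) = ⊤ := hM.2 _ (lt_of_le_of_ne h1 fun e => hxM (e ▸
      mem_centralizer_singleton_iff.mpr ((Commute.refl x).pow_right p).eq))
    exact mem_centralizer_singleton_iff.mp (h2 ▸ mem_top g)

theorem backward {x : G} {A : Subgroup G} {p : ℕ} (hp : p.Prime) [hAn : A.Normal]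
    [hAc : IsMulCommutative A] {k : ℕ} (hk : orderOf x = p ^ k)
    (hcompl : (Subgroup.zpowers x).IsComplement' A) (hxp : x ^ p ∈ Subgroup.center G)
    (hfpf : ∀ a : G, a ∈ A → a ≠ 1 → x * a * x⁻¹ ≠ a)
    (H : Subgroup G) (hH : ¬ IsMulCommutative H) : Subgroup.normalizer (H : Set G) = H := by
  classical
  have hab : ∀ a ∈ A, ∀ b ∈ A, a * b = b * a := fun a ha b hb =>
    congrArg Subtype.val (hAc.is_comm.comm ⟨a, ha⟩ ⟨b, hb⟩)
  have hdec : ∀ g : G, ∃ a ∈ A, ∃ n : ℕ, g = a * x ^ n := by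
    intro g
    obtain ⟨a, ha, z, hz, e⟩ : g ∈ (A : Set G) * (zpowers x : Set G) := by
      rw [← normal_mul, sup_comm, hcompl.sup_eq_top]; trivial
    obtain ⟨n, rfl⟩ := Submonoid.mem_powers_iff _ _ |>.mp (mem_powers_iff_mem_zpowers.mpr hz)
    exact ⟨a, ha, n, e.symm⟩
  have hinj : ∀ n : ℕ, ¬ p ∣ n → ∀ a : G, a ∈ A → x ^ n * a * (x ^ n)⁻¹ = a → a = 1 := by
    intro n hn a ha h1
    by_contra ha1
    apply hfpf a ha ha1
    have hco : n.Coprime (orderOf x) := by
      rw [hk]; exact ((hp.coprime_iff_not_dvd.mpr hn).pow_left k).symm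
    obtain ⟨j, hj⟩ := exists_pow_eq_self_of_coprime hco
    have h2 : Commute ((x ^ n) ^ j) a := (show Commute (x ^ n) a from mul_inv_eq_iff_eq_mul.mp h1).pow_left j
    rw [hj] at h2
    exact mul_inv_eq_iff_eq_mul.mpr h2
  obtain ⟨h0, hh0, a0, ha0, n, hn, e0⟩ : ∃ g ∈ H, ∃ a ∈ A, ∃ n : ℕ, ¬ p ∣ n ∧ g = a * x ^ n := by
    by_contra hc
    apply hH
    refine ⟨⟨fun u v => Subtype.ext ?_⟩⟩
    obtain ⟨a, ha, i, hi⟩ := hdec u
    obtain ⟨b, hb, j, hj⟩ := hdec v
    obtain ⟨i', rfl⟩ : p ∣ i := by by_contra hd; exact hc ⟨u, u.2, a, ha, i, hd, hi⟩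
    obtain ⟨j', rfl⟩ : p ∣ j := by by_contra hd; exact hc ⟨v, v.2, b, hb, j, hd, hj⟩
    have hz : ∀ t : ℕ, x ^ (p * t) ∈ center G := fun t => by rw [pow_mul]; exact pow_mem hxp t
    show (u : G) * v = v * u
    rw [hi, hj]
    exact (((show Commute a b from hab a ha b hb).mul_right (mem_center_iff.mp (hz j') a)).mul_left
      ((show Commute (x ^ (p * i')) b from (mem_center_iff.mp (hz i') b).symm).mul_right
        (mem_center_iff.mp (hz j') (x ^ (p * i'))))).eq
  obtain ⟨c, hc⟩ := (Finite.injective_iff_surjective (f := disp A (x ^ n))).mp ((injective_iff_map_eq_one _).mpr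
    fun a ha => by
      have h1 := congrArg Subtype.val ha
      rw [disp_coe, Subgroup.coe_one, mul_eq_one_iff_inv_eq, ← conj_inv, inv_inj] at h1
      exact Subtype.ext (hinj n hn _ a.2 h1.symm)) ⟨a0, ha0⟩
  have hc' : (c : G) * x ^ n * (c : G)⁻¹ = h0 := by
    have h1 := congrArg Subtype.val hc
    rw [disp_coe] at h1
    rw [e0, ← show _ = a0 from h1]; group
  refine le_antisymm ?_ le_normalizer
  intro g hg
  -- replace `g` by its conjugate under `c`
  let H' : Subgroup G := H.map (MulAut.conj (c : G)⁻¹).toMonoidHom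
  have hmem : ∀ y, y ∈ H' ↔ (c : G) * y * (c : G)⁻¹ ∈ H := fun y => by
    constructor
    · rintro ⟨z, hz, rfl⟩
      simpa [mul_assoc] using hz
    · exact fun hy => ⟨_, hy, by simp [mul_assoc]⟩
  have hxH : x ∈ H' := by
    have h1 : x ^ n ∈ H' := (hmem _).mpr (hc' ▸ hh0)
    have hco : n.Coprime (orderOf x) := by
      rw [hk]; exact ((hp.coprime_iff_not_dvd.mpr hn).pow_left k).symm
    obtain ⟨j, hj⟩ := exists_pow_eq_self_of_coprime hco
    exact hj ▸ pow_mem h1 j
  set g' := (c : G)⁻¹ * g * c with hg'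
  suffices hgH : g' ∈ H' by
    have := (hmem _).mp hgH
    simpa [hg', mul_assoc] using this
  obtain ⟨a, ha, i, hi⟩ := hdec g'
  rw [hi]
  refine mul_mem ?_ (pow_mem hxH i)
  have hnorm : ∀ y ∈ H', a * y * a⁻¹ ∈ H' := by
    intro y hy
    have h1 : x ^ i * ((x ^ i)⁻¹ * y * x ^ i) * (x ^ i)⁻¹ = y := by group
    have h2 : (x ^ i)⁻¹ * y * x ^ i ∈ H' := mul_mem (mul_mem (inv_mem (pow_mem hxH i)) hy) (pow_mem hxH i)
    have h3 := (mem_normalizer_iff.mp hg _).mp ((hmem _).mp h2)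
    rw [hmem]
    have e : (c : G) * (a * y * a⁻¹) * (c : G)⁻¹ =
        g * ((c : G) * ((x ^ i)⁻¹ * y * x ^ i) * (c : G)⁻¹) * g⁻¹ := by
      have : a = g' * (x ^ i)⁻¹ := by rw [hi, mul_inv_cancel_right]
      rw [this, hg']; group
    rw [e]; exact h3
  have hb : a * (x * a⁻¹ * x⁻¹) ∈ H' := by
    have := mul_mem (hnorm x hxH) (inv_mem hxH)
    simpa [mul_assoc] using this
  have hfi : Function.Injective (disp A x) := (injective_iff_map_eq_one _).mpr fun t ht => by
    have h1 := congrArg Subtype.val ht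
    rw [disp_coe, Subgroup.coe_one, mul_eq_one_iff_inv_eq, ← conj_inv, inv_inj] at h1
    by_contra h2
    exact hfpf t t.2 (fun e => h2 (Subtype.ext e)) h1.symm
  let B : Subgroup A := H'.subgroupOf A
  have hBB : ∀ t : B, disp A x (t : A) ∈ B := fun t => mem_subgroupOf.mpr (by
    rw [disp_coe]
    exact mul_mem t.2 (mul_mem (mul_mem hxH (inv_mem t.2)) (inv_mem hxH)))
  obtain ⟨t, ht⟩ := (Finite.injective_iff_surjective (f := fun t : B => (⟨_, hBB t⟩ : B))).mp
    (fun u v e => Subtype.ext (hfi (congrArg Subtype.val e))) ⟨⟨_, mul_mem ha (hAn.conj_mem _ (inv_mem ha) x)⟩, mem_subgroupOf.mpr hb⟩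
  have : (t : A) = ⟨a, ha⟩ := hfi (Subtype.ext (by
    rw [disp_coe]; exact congrArg (fun z : B => ((z : A) : G)) ht))
  have h2 := t.2
  rw [this] at h2
  exact mem_subgroupOf.mp h2

end


/-- Let G be a finite solvable non-nilpotent group. Every non-abelian subgroup of G is self-normalizing if and only if G is a semidirect product ⟨x⟩ ⋉ A in which ⟨x⟩ is a p-group for some prime p, A is a normal abelian subgroup of order prime to p, x^p is central in G, and x acts fixed-point-freely on A (no non-identity element of A commutes with x). -/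
theorem result {G : Type*} [Group G] [Finite G]
    [Group.IsSolvable G] (hnn : ¬ Group.IsNilpotent G) :
    (∀ H : Subgroup G, ¬ IsMulCommutative H → Subgroup.normalizer (H : Set G) = H) ↔
    ∃ (x : G) (A : Subgroup G) (p : ℕ), p.Prime ∧ A.Normal ∧ IsMulCommutative A ∧ (∃ k : ℕ, orderOf x = p ^ k) ∧
      ¬ p ∣ Nat.card A ∧ (Subgroup.zpowers x).IsComplement' A ∧ x ^ p ∈ Subgroup.center G ∧
      ∀ a : G, a ∈ A → a ≠ 1 → x * a * x⁻¹ ≠ a := by
  constructor
  · exact forward hnn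
  · rintro ⟨x, A, p, hp, hAn, hAc, ⟨k, hk⟩, -, hcompl, hxp, hfpf⟩ H hH
    exact backward (hAn := hAn) (hAc := hAc) hp hk hcompl hxp hfpf H hH

end Cfsg.Agent.S4071
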