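import Cfsg.Statements.S4073
import Cfsg.Agent.H71.SelfNormPSL

set_option autoImplicit false
set_option linter.style.haveILetI false
open Cfsg

namespace Cfsg.Agent.S4073

/-- Let G be a finite non-abelian simple group. Every non-abelian subgroup of G is self-normalizing if and only if G is isomorphic to PSL₂(2ⁿ) for some n ≥ 2 with 2ⁿ − 1 prime (this includes the alternating group of degree 5 as PSL₂(4)). -/
theorem result {G : Type*} [Group G] [Finite G] [IsSimpleGroup G]
    (hna : ¬ IsMulCommutative G) :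
    (∀ H : Subgroup G, ¬ IsMulCommutative H → Subgroup.normalizer (H : Set G) = H) ↔
    ∃ n : ℕ, 2 ≤ n ∧ (2 ^ n - 1).Prime ∧ Nonempty (G ≃* Matrix.ProjectiveSpecialLinearGroup (Fin 2) (GaloisField 2 n)) := by
  constructor
  · intro hS
    obtain ⟨F, i1, i2, f, hf, hcard, ⟨e⟩⟩ := H42.ct_iso_PSL hna fun a b c hb hab hbc =>
      H32.SelfNorm.comm_of (H71.SelfNorm.centralizer_comm hna hS hb)
        (Subgroup.mem_centralizer_singleton_iff.mpr hab.eq)
        (Subgroup.mem_centralizer_singleton_iff.mpr hbc.symm.eq)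
    letI := i1
    letI := i2
    refine ⟨f, hf, H71.SelfNorm.prime_of_sn hf hcard (H71.SelfNorm.sn_of_equiv e hS), ?_⟩
    haveI := Fact.mk Nat.prime_two
    letI : Fintype (GaloisField 2 f) := Fintype.ofFinite _
    have hc' : Fintype.card (GaloisField 2 f) = 2 ^ f := by
      rw [← Nat.card_eq_fintype_card, GaloisField.card 2 f (by omega)]
    exact ⟨e.trans (H39.pslCongr (FiniteField.ringEquivOfCardEq (hcard.trans hc'.symm)))⟩
  · rintro ⟨n, hn, hp, ⟨e⟩⟩
    haveI := Fact.mk Nat.prime_two
    letI : Fintype (GaloisField 2 n) := Fintype.ofFinite _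
    have hc' : Fintype.card (GaloisField 2 n) = 2 ^ n := by
      rw [← Nat.card_eq_fintype_card, GaloisField.card 2 n (by omega)]
    exact H71.SelfNorm.sn_of_equiv e.symm (H71.SelfNorm.sn_psl hn hc' hp)

end Cfsg.Agent.S4073
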