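import Cfsg.Statements.S4074
import Mathlib

set_option autoImplicit false
set_option linter.all false
open Cfsg

namespace Cfsg.Agent.S4074

/-- For n > 2, every non-abelian subgroup of the dihedral group of order 2n is self-normalizing if and only if n = 4 or n is odd. -/
theorem result (n : ℕ) (hn : 2 < n) :
    (∀ H : Subgroup (DihedralGroup n), ¬ IsMulCommutative H → Subgroup.normalizer (H : Set (DihedralGroup n)) = H) ↔
    (n = 4 ∨ Odd n) := by
  haveI : NeZero n := ⟨by omega⟩
  constructor
  · intro h
    by_contra hcon
    push Not at hcon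
    obtain ⟨hn4, hnodd⟩ := hcon
    have hev : 2 ∣ n := by rw [← even_iff_two_dvd]; exact Nat.not_odd_iff_even.1 hnodd
    let π : ZMod n →+* ZMod 2 := ZMod.castHom hev (ZMod 2)
    let H : Subgroup (DihedralGroup n) :=
      { carrier := {x | match x with | DihedralGroup.r i => π i = 0 | DihedralGroup.sr i => π i = 0}
        one_mem' := map_zero π
        mul_mem' := by
          rintro (i | i) (j | j) hi hj <;> change π i = 0 at hi <;> change π j = 0 at hj <;> show π _ = 0 <;>
            simp only [map_add, map_sub, hi, hj, add_zero, sub_zero]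
        inv_mem' := by
          rintro (i | i) hi <;> change π i = 0 at hi <;> show π _ = 0 <;>
            simp only [map_neg, hi, neg_zero] }
    have h4 : (4 : ZMod n) ≠ 0 := by
      rw [show (4 : ZMod n) = ((4 : ℕ) : ZMod n) by norm_num, Ne, ZMod.natCast_eq_zero_iff]
      intro hd
      have := Nat.le_of_dvd (by norm_num) hd
      interval_cases n <;> omega
    have hm2 : DihedralGroup.r (2 : ZMod n) ∈ H := by
      show π 2 = 0
      rw [map_ofNat]; decide
    have hs0 : DihedralGroup.sr (0 : ZMod n) ∈ H := by show π 0 = 0; simp
    have hnc : ¬ IsMulCommutative H := by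
      intro hc
      have := congrArg Subtype.val (hc.is_comm.comm ⟨_, hm2⟩ ⟨_, hs0⟩)
      simp only [Subgroup.coe_mul, DihedralGroup.r_mul_sr, DihedralGroup.sr_mul_r, DihedralGroup.sr.injEq] at this
      apply h4
      linear_combination (-1 : ZMod n) * this
    have htop : Subgroup.normalizer (H : Set (DihedralGroup n)) = ⊤ := by
      rw [eq_top_iff]
      intro g _
      refine Subgroup.mem_normalizer_fintype fun x hx => ?_
      rcases g with a | a <;> rcases x with i | i <;>
        simp only [DihedralGroup.inv_r, DihedralGroup.inv_sr, DihedralGroup.r_mul_r, DihedralGroup.r_mul_sr, DihedralGroup.sr_mul_r, DihedralGroup.sr_mul_sr] <;>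
        change π i = 0 at hx <;> show π _ = 0 <;> simp only [map_add, map_sub, map_neg, hx] <;>
        generalize π a = b <;> revert b <;> decide
    have := h H hnc
    rw [htop] at this
    have h1 : DihedralGroup.r (1 : ZMod n) ∈ H := this ▸ Subgroup.mem_top _
    change π 1 = 0 at h1
    rw [map_one] at h1
    exact one_ne_zero h1
  · intro hn' H hnc
    obtain ⟨a, ha⟩ : ∃ a, DihedralGroup.sr a ∈ H := by
      by_contra hcon
      push Not at hcon
      apply hnc
      refine ⟨⟨?_⟩⟩
      rintro ⟨x, hx⟩ ⟨y, hy⟩
      rcases x with i | i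
      · rcases y with j | j
        · exact Subtype.ext (by simp [DihedralGroup.r_mul_r, add_comm])
        · exact absurd hy (hcon j)
      · exact absurd hx (hcon i)
    obtain ⟨b, hb, hb2⟩ : ∃ b, DihedralGroup.r b ∈ H ∧ b + b ≠ 0 := by
      by_contra hcon
      push Not at hcon
      apply hnc
      refine ⟨⟨?_⟩⟩
      rintro ⟨x, hx⟩ ⟨y, hy⟩
      apply Subtype.ext
      show x * y = y * x
      rcases x with i | i <;> rcases y with j | j <;>
        simp only [DihedralGroup.r_mul_r, DihedralGroup.r_mul_sr, DihedralGroup.sr_mul_r, DihedralGroup.sr_mul_sr]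
      · rw [add_comm]
      · congr 1; linear_combination (-1 : ZMod n) * hcon i hx
      · congr 1; linear_combination hcon j hy
      · have h1 : DihedralGroup.r (j - i) ∈ H := by
          have := H.mul_mem hx hy
          rwa [DihedralGroup.sr_mul_sr] at this
        congr 1; linear_combination hcon _ h1
    apply le_antisymm _ Subgroup.le_normalizer
    intro g hg
    have key : ∀ c : ZMod n, DihedralGroup.r c ∈ Subgroup.normalizer (H : Set (DihedralGroup n)) → DihedralGroup.r c ∈ H := by
      intro c hc
      have h1 := (Subgroup.mem_normalizer_iff.1 hc _).1 ha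
      have h2 := H.mul_mem h1 ha
      simp only [DihedralGroup.inv_r, DihedralGroup.r_mul_sr, DihedralGroup.sr_mul_r, DihedralGroup.sr_mul_sr] at h2
      rcases hn' with rfl | hodd
      · revert hb hb2
        have hpow : ∀ k : ℕ, DihedralGroup.r b ∈ H → DihedralGroup.r (b * (k : ZMod 4)) ∈ H := fun k hb => by
          rw [← DihedralGroup.r_pow]; exact H.pow_mem hb k
        intro hb hb2
        have := hpow (b * c).val hb
        rw [ZMod.natCast_zmod_val, ← mul_assoc] at this
        have hb1 : b * b = 1 := (by decide : ∀ b : ZMod 4, b + b ≠ 0 → b * b = 1) b hb2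
        rwa [hb1, one_mul] at this
      · obtain ⟨k, hk⟩ := hodd
        have h3 := H.pow_mem h2 (k + 1)
        rw [DihedralGroup.r_pow] at h3
        convert h3 using 2
        have h0 : ((2 * k + 1 : ℕ) : ZMod n) = 0 := by rw [← hk]; exact ZMod.natCast_self n
        push_cast at h0
        push_cast
        linear_combination (-c) * h0
    rcases g with c | c
    · exact key c hg
    · have h1 := (Subgroup.normalizer (H : Set (DihedralGroup n))).mul_mem (Subgroup.le_normalizer ha) hg
      rw [DihedralGroup.sr_mul_sr] at h1
      have h2 := H.mul_mem ha (key _ h1)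
      rw [DihedralGroup.sr_mul_r] at h2
      convert h2 using 2
      ring

end Cfsg.Agent.S4074
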