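import Cfsg.Statements.S4075
import Cfsg.Agent.H31.Basic

set_option autoImplicit false
open Cfsg

namespace Cfsg.Agent.S4075

/-- Let G be a finite nilpotent group. Every non-abelian subgroup of G is self-normalizing if and only if G is abelian or G is a minimal non-abelian p-group for some prime p (non-abelian of prime-power order with every proper subgroup abelian). -/
theorem result {G : Type*} [Group G] [Finite G]
    [Group.IsNilpotent G] :
    (∀ H : Subgroup G, ¬ IsMulCommutative H → Subgroup.normalizer (H : Set G) = H) ↔
    (IsMulCommutative G ∨ (IsPrimePow (Nat.card G) ∧ ¬ IsMulCommutative G ∧ ∀ H : Subgroup G, H ≠ ⊤ → IsMulCommutative H)) := by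
  constructor
  · intro h
    by_cases hG : IsMulCommutative G
    · exact Or.inl hG
    refine Or.inr ?_
    have hmax : ∀ H : Subgroup G, H ≠ ⊤ → IsMulCommutative H := by
      intro H hH
      by_contra hna
      exact hH (normalizerCondition_iff_only_full_group_self_normalizing.mp
        normalizerCondition_of_isNilpotent H (h H hna))
    refine ⟨?_, hG, hmax⟩
    by_contra hpp
    apply hG
    obtain ⟨e⟩ := ((Group.isNilpotent_of_finite_tfae (G := G)).out 0 4).mp (inferInstance : Group.IsNilpotent G)
    have hall : ∀ (p : {x // x ∈ (Nat.card G).primeFactors}) (P : Sylow p.1 G), IsMulCommutative (P : Subgroup G) := by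
      rintro ⟨p, hp⟩ P
      haveI : Fact p.Prime := ⟨Nat.prime_of_mem_primeFactors hp⟩
      apply hmax
      intro htop
      apply hpp
      obtain ⟨k, hk⟩ := IsPGroup.iff_card.mp P.isPGroup'
      have hcard : Nat.card G = p ^ k := by rw [← hk, htop, Subgroup.card_top]
      refine (isPrimePow_nat_iff _).mpr ⟨p, k, Nat.prime_of_mem_primeFactors hp, ?_, hcard.symm⟩
      by_contra hk0
      have : k = 0 := by omega
      rw [this, pow_zero] at hcard
      rw [hcard] at hp
      simp at hp
    refine IsMulCommutative.of_comm fun a b => e.symm.injective ?_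
    rw [map_mul, map_mul]
    funext p P
    exact (hall p P).is_comm.comm _ _
  · rintro (hG | ⟨-, hG, hmax⟩) H hH
    · exact absurd (inferInstance : IsMulCommutative H) hH
    · by_contra hne
      have : H = ⊤ := by by_contra h; exact hH (hmax H h)
      subst this
      exact hne (top_le_iff.mp Subgroup.le_normalizer)

end Cfsg.Agent.S4075
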