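import Cfsg.Statements.S4079
import Cfsg.Agent.H29.MetacyclicAut
import Cfsg.Agent.H31.MaxClassCrit
import Cfsg.Agent.H11.MaxClass

set_option autoImplicit false
open Cfsg

namespace Cfsg.Agent.S4079

/-- Let p be an odd prime and L a finite metacyclic p-group with no cyclic subgroup of index p, and let a be an automorphism of L of order p. Then a moves some element of order p of L if and only if p = 3 and the semidirect product L ⋊ ⟨a⟩ (of order 3·#L) has maximal class, i.e. nilpotency class m where #L = 3^m. -/
theorem result {L : Type*} [Group L] [Finite L] {p : ℕ} [Fact p.Prime]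
    (hp : p ≠ 2) (hL : IsPGroup p L) (hmc : Cfsg.IsMetacyclic L) (hnc : ∀ C : Subgroup L, IsCyclic C → C.index ≠ p)
    (a : MulAut L) (ha : orderOf a = p) (m : ℕ) (hm : Nat.card L = p ^ m) :
    (∃ x : L, orderOf x = p ∧ a x ≠ x) ↔
    (p = 3 ∧ Group.nilpotencyClass (SemidirectProduct L ↥(Subgroup.zpowers a) (Subgroup.zpowers a).subtype) = m) := by
  classical
  have hpP : p.Prime := Fact.out
  have hnt : 1 < Nat.card L := by
    by_contra h
    have : Subsingleton L := Finite.card_le_one_iff_subsingleton.1 (not_lt.1 h)
    have : a = 1 := MulEquiv.ext fun x => Subsingleton.elim _ _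
    rw [this, orderOf_one] at ha
    exact hpP.one_lt.ne ha
  have hap : a ^ p = 1 := ha ▸ pow_orderOf_eq_one a
  obtain ⟨E, S, hEm, hSm, hEc, hpow, hEnc⟩ :=
    Agent.H29.metacyclic_omega hp hL hmc hnc hnt
  have hm3 : 3 ≤ m := by
    by_contra h3
    have hle : Nat.card E ≤ Nat.card L := Subgroup.card_le_card_group E
    rw [hEc, hm] at hle
    have h2 : 2 ≤ m := (Nat.pow_le_pow_iff_right hpP.one_lt).1 hle
    obtain rfl : m = 2 := by omega
    obtain ⟨e, he, he1⟩ : ∃ e ∈ E, e ≠ 1 := by
      by_contra h
      push Not at h
      rw [(Subgroup.eq_bot_iff_forall _).2 h, Subgroup.card_bot] at hEc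
      exact (Nat.one_lt_pow two_ne_zero hpP.one_lt).ne hEc
    apply hnc (Subgroup.zpowers e) inferInstance
    have h4 := (Subgroup.zpowers e).card_mul_index
    rw [Nat.card_zpowers, orderOf_eq_prime ((hEm e).1 he) he1, hm, pow_two] at h4
    exact Nat.eq_of_mul_eq_mul_left hpP.pos h4
  set M := SemidirectProduct L ↥(Subgroup.zpowers a) (Subgroup.zpowers a).subtype with hMdef
  have : Finite M := Finite.of_equiv _ SemidirectProduct.equivProd.symm
  have hMc : Nat.card M = p ^ (m + 1) := by
    rw [hMdef, SemidirectProduct.card, Nat.card_zpowers, ha, hm, pow_succ]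
  -- fixed by `a` means fixed by its powers
  have hfix : ∀ x : L, a x = x → ∀ g : Subgroup.zpowers a, (g : MulAut L) x = x := by
    intro x hx g
    exact (Subgroup.zpowers_le (H := MulAction.stabilizer (MulAut L) x)).2
      (show a ∈ MulAction.stabilizer (MulAut L) x from hx) g.2
  constructor
  · rintro ⟨x, hxo, hax⟩
    obtain ⟨hp3, z, hzp, hz1, haz, hfz⟩ :=
      Agent.H29.metacyclic_moved hp hL hmc hnc hnt a hap (hxo ▸ pow_orderOf_eq_one x) hax
    refine ⟨hp3, ?_⟩
    let K : Subgroup M :=
      { carrier := {g | g.left ∈ Subgroup.zpowers z}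
        one_mem' := by simp
        mul_mem' := by
          intro g h hg hh
          simp only [Set.mem_ofPred_eq] at hg hh ⊢
          change g.left * (Subgroup.zpowers a).subtype g.right h.left ∈ Subgroup.zpowers z
          obtain ⟨i, hi⟩ := Subgroup.mem_zpowers_iff.1 hh
          refine Subgroup.mul_mem _ hg ?_
          rw [← hi, map_zpow, show ((Subgroup.zpowers a).subtype g.right) z = z from
            hfix z haz g.right]
          exact Subgroup.zpow_mem _ (Subgroup.mem_zpowers z) i
        inv_mem' := by
          intro g hg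
          simp only [Set.mem_ofPred_eq] at hg ⊢
          change (Subgroup.zpowers a).subtype g.right⁻¹ g.left⁻¹ ∈ Subgroup.zpowers z
          obtain ⟨i, hi⟩ := Subgroup.mem_zpowers_iff.1 hg
          rw [← hi, ← zpow_neg, map_zpow, show ((Subgroup.zpowers a).subtype g.right⁻¹) z = z from
            hfix z haz g.right⁻¹]
          exact Subgroup.zpow_mem _ (Subgroup.mem_zpowers z) _ }
    have hKc : Nat.card K = p ^ 2 := by
      let F : K ≃ Subgroup.zpowers z × Subgroup.zpowers a :=
        { toFun := fun g => (⟨g.1.left, g.2⟩, g.1.right)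
          invFun := fun q => ⟨⟨q.1.1, q.2⟩, q.1.2⟩
          left_inv := fun g => rfl
          right_inv := fun q => rfl }
      rw [Nat.card_congr F, Nat.card_prod, Nat.card_zpowers, Nat.card_zpowers, ha,
        orderOf_eq_prime hzp hz1, pow_two]
    have hcen : Subgroup.centralizer (K : Set M) ≤ K := by
      intro g hg
      have hb : (⟨1, ⟨a, Subgroup.mem_zpowers a⟩⟩ : M) ∈ K := (Subgroup.one_mem (Subgroup.zpowers z) : _)
      have h1 := congrArg SemidirectProduct.left (Subgroup.mem_centralizer_iff.1 hg _ hb)
      change (1 : L) * a g.left = g.left * (Subgroup.zpowers a).subtype g.right (1 : L) at h1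
      simp only [one_mul, map_one, mul_one] at h1
      exact hfz g.left h1
    have h := H31.nilpotencyClass_of_self_centralizing_sq (p := p) (m - 1) (X := M)
      (by rw [hMc]; congr 1; omega) K hKc hcen
    rw [h]; omega
  · rintro ⟨hp3, hcl⟩
    by_contra hno
    push Not at hno
    have haE : ∀ e ∈ E, a e = e := by
      intro e he
      by_cases h1 : e = 1
      · rw [h1, map_one]
      · exact hno e (orderOf_eq_prime ((hEm e).1 he) h1)
    have hMg : IsPGroup p M := IsPGroup.of_card hMc
    have hcl' : Group.nilpotencyClass M = m + 1 - 1 := by rw [hcl]; omega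
    have hZ := (H6.maximalClass_center (n := m + 1) (by omega) hMc hcl').1
    have hcyc := H30.isCyclic_commutator_of_isMetacyclic hmc
    -- `|L'| ≤ p`
    have hC : Nat.card (_root_.commutator L) ≤ p := by
      by_contra hbig
      obtain ⟨t, ht⟩ := IsPGroup.iff_card.1 (hL.to_subgroup (_root_.commutator L))
      have ht2 : 2 ≤ t := by
        by_contra h
        rw [ht] at hbig
        exact hbig (le_trans (Nat.pow_le_pow_right hpP.pos (show t ≤ 1 by omega))
          (le_of_eq (pow_one p)))
      set K := _root_.commutator L ⊓ S with hKdef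
      obtain ⟨g, hg⟩ := IsCyclic.exists_ofOrder_eq_natCard (α := _root_.commutator L)
      obtain ⟨d, rfl⟩ := Nat.exists_eq_add_of_le ht2
      rw [ht, ← Subgroup.orderOf_coe] at hg
      set k := (g : L) ^ p ^ d with hkdef
      have hko : orderOf k = p ^ 2 := by
        rw [hkdef, orderOf_pow' _ (pow_ne_zero _ hpP.ne_zero), hg, pow_add,
          Nat.gcd_mul_left_left, Nat.mul_div_cancel _ (pow_pos hpP.pos _)]
      have hkK : k ∈ K := ⟨Subgroup.pow_mem _ g.2 _, (hSm k).2 (by
        rw [← pow_two, ← hko]; exact pow_orderOf_eq_one k)⟩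
      have hKcyc : IsCyclic K :=
        isCyclic_of_injective (Subgroup.inclusion (inf_le_left : K ≤ _root_.commutator L))
          (Subgroup.inclusion_injective _)
      have hKc : Nat.card K = p ^ 2 := by
        obtain ⟨q, hq⟩ := IsCyclic.exists_ofOrder_eq_natCard (α := K)
        refine le_antisymm ?_ ?_
        · rw [← hq]
          refine orderOf_le_of_pow_eq_one (pow_pos hpP.pos 2) (Subtype.ext ?_)
          rw [pow_two]
          exact (hSm _).1 q.2.2
        · rw [← hko, ← Nat.card_zpowers]
          exact Nat.le_of_dvd Nat.card_pos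
            (Subgroup.card_dvd_of_le (Subgroup.zpowers_le.2 hkK))
      -- subgroups of `L` invariant under conjugation and `a` are normal in `M`
      have hnorm : ∀ H : Subgroup L, H.Normal → (∀ x ∈ H, ∀ g : Subgroup.zpowers a,
          (g : MulAut L) x ∈ H) → (H.map (SemidirectProduct.inl : L →* M)).Normal := by
        intro H hH hinv
        constructor
        rintro _ ⟨x, hx, rfl⟩ g
        refine ⟨g.left * ((g.right : MulAut L) x) * g.left⁻¹, hH.conj_mem _ (hinv x hx _) _, ?_⟩
        ext <;> simp [mul_assoc]
      have hn1 : (E.map (SemidirectProduct.inl : L →* M)).Normal := by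
        refine hnorm E ⟨fun x hx g => ?_⟩ (fun x hx g => ?_)
        · rw [hEm, conj_pow, (hEm x).1 hx, mul_one, mul_inv_cancel]
        · rw [hEm, ← map_pow, (hEm x).1 hx, map_one]
      have hn2 : (K.map (SemidirectProduct.inl : L →* M)).Normal := by
        refine hnorm K ⟨fun x hx g => ⟨?_, ?_⟩⟩ (fun x hx g => ⟨?_, ?_⟩)
        · exact (inferInstance : (_root_.commutator L).Normal).conj_mem x hx.1 g
        · exact (hSm _).2 (by rw [conj_pow, (hSm x).1 hx.2, mul_one, mul_inv_cancel])
        · exact (Subgroup.characteristic_iff_comap_eq.1 inferInstance (g : MulAut L)).ge hx.1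
        · exact (hSm _).2 (by rw [← map_pow, (hSm x).1 hx.2, map_one])
      have hidx : ∀ H : Subgroup L, Nat.card H = p ^ 2 →
          (H.map (SemidirectProduct.inl : L →* M)).index = p ^ (m - 1) := by
        intro H hH
        have h := (H.map (SemidirectProduct.inl : L →* M)).card_mul_index
        rw [Subgroup.card_map_of_injective SemidirectProduct.inl_injective, hH, hMc,
          show m + 1 = 2 + (m - 1) by omega, pow_add] at h
        exact Nat.eq_of_mul_eq_mul_left (pow_pos hpP.pos 2) h
      have he1 := H11.maxClass_normal_eq hMc hcl' (by omega) _ (r := m - 1) (by omega)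
        (hidx E hEc)
      have he2 := H11.maxClass_normal_eq hMc hcl' (by omega) _ (r := m - 1) (by omega)
        (hidx K hKc)
      have hEK : E = K :=
        Subgroup.map_injective SemidirectProduct.inl_injective (he1.trans he2.symm)
      exact hEnc 1 (one_pow p) K hKcyc hEK.le
    -- so `E` is central
    have hcomC : _root_.commutator L ≤ Subgroup.center L :=
      H30.le_center_of_card_le hL inferInstance hC
    have hEZ : ∀ e ∈ E, ∀ y : L, y * e = e * y := by
      intro e he y
      obtain ⟨x, rfl⟩ := hpow e he
      set t := y * x * y⁻¹ * x⁻¹ with ht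
      have htc : t ∈ _root_.commutator L :=
        Subgroup.commutator_mem_commutator (Subgroup.mem_top y) (Subgroup.mem_top x)
      have hcomm : Commute t x := (Subgroup.mem_center_iff.1 (hcomC htc) x).symm
      have htp : t ^ p = 1 := by
        rw [← orderOf_dvd_iff_pow_eq_one, ← Nat.card_zpowers]
        have h1 := Subgroup.card_dvd_of_le (Subgroup.zpowers_le.2 htc)
        obtain ⟨i, hi⟩ := IsPGroup.iff_card.1 (hL.to_subgroup (_root_.commutator L))
        rw [hi] at hC h1
        refine h1.trans ((Nat.pow_dvd_pow p ?_).trans (dvd_of_eq (pow_one p)))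
        exact (Nat.pow_le_pow_iff_right hpP.one_lt).1 (hC.trans (le_of_eq (pow_one p).symm))
      have h2 : y * x ^ p * y⁻¹ = x ^ p := by
        rw [← conj_pow, show y * x * y⁻¹ = t * x by rw [ht]; group, hcomm.mul_pow, htp, one_mul]
      exact mul_inv_eq_iff_eq_mul.1 h2
    have hle : E.map (SemidirectProduct.inl : L →* M) ≤ Subgroup.center M := by
      rintro _ ⟨e, he, rfl⟩
      rw [Subgroup.mem_center_iff]
      intro g
      ext
      · simp [hfix e (haE e he) g.right, hEZ e he g.left]
      · simp
    have hd := Subgroup.card_dvd_of_le hle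
    rw [Subgroup.card_map_of_injective SemidirectProduct.inl_injective, hEc, hZ, pow_two] at hd
    have := Nat.le_of_dvd hpP.pos hd
    nlinarith [hpP.two_le]

end Cfsg.Agent.S4079
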