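import Cfsg.Statements.S4080
import Mathlib
import Cfsg.Agent.H29.TruncatedBinomial

set_option autoImplicit false
open Cfsg

namespace Cfsg.Agent.S4080

/-- Let p > 3 be a prime and L the direct product of two cyclic groups of order p². Every automorphism of L of order p fixes every element of order p of L. -/
theorem result {p : ℕ} [Fact p.Prime] (hp : 3 < p)
    (a : MulAut (Multiplicative (ZMod (p ^ 2) × ZMod (p ^ 2)))) (ha : orderOf a = p)
    (x : Multiplicative (ZMod (p ^ 2) × ZMod (p ^ 2))) (hx : orderOf x = p) : a x = x := by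
  classical
  have hp' : p.Prime := Fact.out
  have hdiv1 : ∀ c : ZMod (p ^ 2), p • c = 0 → ∃ n : ℕ, n < p ∧ c = p • (n : ZMod (p ^ 2)) := by
    intro c hc
    haveI : NeZero (p ^ 2) := ⟨pow_ne_zero _ hp'.ne_zero⟩
    obtain ⟨n, hn, rfl⟩ : ∃ n : ℕ, n < p ^ 2 ∧ c = (n : ZMod (p ^ 2)) :=
      ⟨c.val, ZMod.val_lt c, (ZMod.natCast_zmod_val c).symm⟩
    rw [nsmul_eq_mul, ← Nat.cast_mul, ZMod.natCast_eq_zero_iff, pow_two] at hc
    obtain ⟨d, rfl⟩ := Nat.dvd_of_mul_dvd_mul_left hp'.pos hc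
    rw [pow_two] at hn
    exact ⟨d, Nat.lt_of_mul_lt_mul_left hn, by rw [nsmul_eq_mul, Nat.cast_mul]⟩
  have hpp : ∀ y : ZMod (p ^ 2) × ZMod (p ^ 2), p • (p • y) = 0 := by
    intro y
    rw [← mul_smul, ← pow_two]
    have h0 : ∀ c : ZMod (p ^ 2), (p ^ 2) • c = 0 := fun c => by
      rw [nsmul_eq_mul, ZMod.natCast_self, zero_mul]
    exact Prod.ext (h0 _) (h0 _)
  have hdiv : ∀ v : ZMod (p ^ 2) × ZMod (p ^ 2), p • v = 0 → ∃ y, v = p • y := by
    rintro ⟨u, w⟩ hv
    obtain ⟨u', -, hu⟩ := hdiv1 u (congrArg Prod.fst hv)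
    obtain ⟨w', -, hw⟩ := hdiv1 w (congrArg Prod.snd hv)
    exact ⟨((u' : ZMod (p ^ 2)), (w' : ZMod (p ^ 2))), Prod.ext hu hw⟩
  haveI : NeZero (p ^ 2) := ⟨pow_ne_zero _ hp'.ne_zero⟩
  have hcard : Nat.card {v : ZMod (p ^ 2) × ZMod (p ^ 2) // p • v = 0} ≤ p * p := by
    have hsur : Function.Surjective (fun q : Fin p × Fin p =>
        (⟨p • (((q.1 : ℕ) : ZMod (p^2)), ((q.2 : ℕ) : ZMod (p^2))), hpp _⟩ :
          {v : ZMod (p ^ 2) × ZMod (p ^ 2) // p • v = 0})) := by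
      rintro ⟨⟨u, w⟩, hv⟩
      obtain ⟨u', hu', hu⟩ := hdiv1 u (congrArg Prod.fst hv)
      obtain ⟨w', hw', hw⟩ := hdiv1 w (congrArg Prod.snd hv)
      exact ⟨(⟨u', hu'⟩, ⟨w', hw'⟩), Subtype.ext (Prod.ext hu.symm hw.symm)⟩
    simpa using Nat.card_le_card_of_surjective _ hsur
  let e : AddMonoid.End (ZMod (p ^ 2) × ZMod (p ^ 2)) := (MulEquiv.toAdditive a).toAddMonoidHom
  have hepow : ∀ (n : ℕ) (v : ZMod (p ^ 2) × ZMod (p ^ 2)),
      (e ^ n) v = Multiplicative.toAdd ((a ^ n) (Multiplicative.ofAdd v)) := by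
    intro n
    induction n with
    | zero => intro v; rfl
    | succ n ih =>
      intro v
      simp only [pow_succ']
      show e ((e ^ n) v) = _
      rw [ih v]
      rfl
  have hep : e ^ p = 1 := by
    refine AddMonoidHom.ext fun v => (hepow p v).trans ?_
    have := pow_orderOf_eq_one a
    simp only [ha] at this
    simp only [this]
    rfl
  have hx1 : p • Multiplicative.toAdd x = 0 := by
    have := pow_orderOf_eq_one x
    simp only [hx] at this
    exact congrArg Multiplicative.toAdd this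
  obtain ⟨y, hy⟩ := hdiv _ hx1
  have h2 := H29.end_pow_prime_fixes_multiples hp' hp e hep hpp hdiv hcard y
  rw [← hy] at h2
  exact Multiplicative.toAdd.injective h2

end Cfsg.Agent.S4080
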