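import Cfsg.Statements.S4083
import Cfsg.Agent.H36.TwoByCyclic

set_option autoImplicit false
open Cfsg

namespace Cfsg.Agent.S4083

/-- Let G be a finite group with Sylow 2-subgroup P. Every subgroup H of G whose Sylow 2-subgroup is normal in H with cyclic quotient is cyclic, dihedral of 2-power order, or isomorphic to the alternating group of degree 4, if and only if either P is cyclic, or P is dihedral (of order at least 4) and every elementary abelian subgroup K of order 4 of P satisfies C_G(K) = K. -/
theorem result {G : Type*} [Group G] [Finite G] (P : Sylow 2 G) :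
    (∀ H : Subgroup G, (∀ S : Sylow 2 ↥H, (S : Subgroup ↥H).Normal) →
        (∀ (S : Sylow 2 ↥H) [(S : Subgroup ↥H).Normal], IsCyclic (↥H ⧸ (S : Subgroup ↥H))) →
        IsCyclic H ∨ (∃ n : ℕ, Nonempty (H ≃* DihedralGroup (2 ^ n))) ∨ Nonempty (H ≃* alternatingGroup (Fin 4))) ↔
    (IsCyclic P ∨
      ((∃ n : ℕ, 1 ≤ n ∧ Nonempty ((P : Subgroup G) ≃* DihedralGroup (2 ^ n))) ∧
        ∀ K : Subgroup G, K ≤ P → Nat.card K = 4 → (∀ k ∈ K, k ^ 2 = 1) → Subgroup.centralizer (K : Set G) = K)) := by
  classical
  constructor
  · intro hyp
    have hPp : IsPGroup 2 (P : Subgroup G) := P.isPGroup'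
    have hPtop : ∀ S : Sylow 2 ↥(P : Subgroup G), (S : Subgroup ↥(P : Subgroup G)) = ⊤ := fun S =>
      S.3 (hPp.of_equiv Subgroup.topEquiv.symm) le_top |>.symm
    have hP := hyp (P : Subgroup G) (fun S => by rw [hPtop S]; infer_instance) (fun S _ => by
      have : Subsingleton (↥(P : Subgroup G) ⧸ (S : Subgroup ↥(P : Subgroup G))) :=
        ⟨fun a b => QuotientGroup.induction_on a fun x => QuotientGroup.induction_on b fun y =>
          QuotientGroup.eq.mpr (by rw [hPtop S]; trivial)⟩
      exact isCyclic_of_subsingleton)
    rcases hP with hc | ⟨n, ⟨e⟩⟩ | hA4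
    · exact Or.inl hc
    · rcases Nat.eq_zero_or_pos n with rfl | hn
      · refine Or.inl (isCyclic_of_prime_card (p := 2) ?_)
        rw [Nat.card_congr e.toEquiv, DihedralGroup.nat_card]
        norm_num
      refine Or.inr ⟨⟨n, hn, ⟨e⟩⟩, fun K hKP hK4 hK2 => ?_⟩
      have hKcomm : ∀ a ∈ K, ∀ b ∈ K, a * b = b * a := by
        intro a ha b hb
        have h1 : a⁻¹ = a := inv_eq_of_mul_eq_one_right (by rw [← pow_two]; exact hK2 a ha)
        have h2 : b⁻¹ = b := inv_eq_of_mul_eq_one_right (by rw [← pow_two]; exact hK2 b hb)
        have h3 : (a * b)⁻¹ = a * b :=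
          inv_eq_of_mul_eq_one_right (by rw [← pow_two]; exact hK2 _ (K.mul_mem ha hb))
        rw [← h3, mul_inv_rev, h1, h2]
      refine le_antisymm (fun x hx => ?_) (fun k hk => Subgroup.mem_centralizer_iff.mpr
        fun a ha => hKcomm a ha k hk)
      rw [Subgroup.mem_centralizer_iff] at hx
      set H : Subgroup G := Subgroup.closure (insert x (K : Set G)) with hH
      have hKH : K ≤ H := fun k hk => Subgroup.subset_closure (Set.mem_insert_of_mem _ hk)
      have hxH : x ∈ H := Subgroup.subset_closure (Set.mem_insert _ _)
      have hHcomm : ∀ a ∈ H, ∀ b ∈ H, a * b = b * a := by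
        have h1 : H ≤ Subgroup.centralizer (insert x (K : Set G)) := by
          refine (Subgroup.closure_le _).mpr ?_
          intro a ha
          rw [SetLike.mem_coe, Subgroup.mem_centralizer_iff]
          intro b hb
          rcases ha with rfl | ha <;> rcases hb with rfl | hb
          · rfl
          · exact hx b hb
          · exact (hx a ha).symm
          · exact hKcomm b hb a ha
        intro a ha b hb
        have h2 : insert x (K : Set G) ⊆ (Subgroup.centralizer (H : Set G) : Set G) := fun c hc =>
          Subgroup.mem_centralizer_iff.mpr fun d hd =>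
            (Subgroup.mem_centralizer_iff.mp (h1 hd) c hc).symm
        exact (Subgroup.mem_centralizer_iff.mp ((Subgroup.closure_le _).mpr h2 hb) a ha)
      have hnormal : ∀ N : Subgroup H, N.Normal := fun N => ⟨fun m hm g => by
        have hgm : g * m = m * g := Subtype.ext (hHcomm g g.2 m m.2)
        rwa [hgm, mul_inv_cancel_right]⟩
      have hK2grp : IsPGroup 2 (K.subgroupOf H) :=
        IsPGroup.of_card (n := 2) (by rw [Nat.card_congr (Subgroup.subgroupOfEquivOfLe hKH).toEquiv, hK4]; norm_num)
      have hH' := hyp H (fun S => hnormal _) (fun S _ => by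
        have hKS : K.subgroupOf H ≤ (S : Subgroup H) := by
          obtain ⟨Q, hQ⟩ := hK2grp.exists_le_sylow
          have : Subsingleton (Sylow 2 H) := (Sylow.unique_of_normal S (hnormal _)).instSubsingleton
          rwa [Subsingleton.elim S Q]
        refine isCyclic_iff_exists_zpowers_eq_top.mpr ⟨QuotientGroup.mk ⟨x, hxH⟩, ?_⟩
        rw [eq_top_iff]
        rintro q -
        induction q using QuotientGroup.induction_on with
        | H y =>
          obtain ⟨y, hy⟩ := y
          induction hy using Subgroup.closure_induction with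
          | mem a ha =>
            rcases ha with rfl | ha
            · exact Subgroup.mem_zpowers _
            · rw [(QuotientGroup.eq_one_iff (⟨a, hKH ha⟩ : H)).mpr (hKS ha)]
              exact one_mem _
          | one => exact one_mem _
          | mul a b ha hb iha ihb => exact mul_mem iha ihb
          | inv a ha iha => exact inv_mem iha)
      have hHne : ¬ IsCyclic H := by
        intro hc
        have hKc : IsCyclic K := Subgroup.isCyclic_of_le hKH
        obtain ⟨g, hg⟩ := hKc.exists_ofOrder_eq_natCard
        have : orderOf g ∣ 2 := orderOf_dvd_of_pow_eq_one (Subtype.ext (hK2 g g.2))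
        rw [hg, hK4] at this
        norm_num at this
      rcases hH' with hc | ⟨m, ⟨f⟩⟩ | hA4
      · exact absurd hc hHne
      · have hm : m ≤ 1 := by
          by_contra hm
          have hcomm := congrArg f (Subtype.ext (hHcomm _ (f.symm (DihedralGroup.r 1)).2 _
            (f.symm (DihedralGroup.sr 0)).2) : f.symm (DihedralGroup.r 1) * f.symm (DihedralGroup.sr 0)
              = f.symm (DihedralGroup.sr 0) * f.symm (DihedralGroup.r 1))
          simp only [map_mul, MulEquiv.apply_symm_apply, DihedralGroup.r_mul_sr,
            DihedralGroup.sr_mul_r, DihedralGroup.sr.injEq, zero_sub, zero_add] at hcomm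
          have h2 : ((2 : ℕ) : ZMod (2 ^ m)) = 0 := by
            have h3 : (1 : ZMod (2 ^ m)) + 1 = 0 := by
              calc (1 : ZMod (2 ^ m)) + 1 = -1 + 1 := by rw [hcomm]
                _ = 0 := neg_add_cancel _
            norm_num at h3 ⊢
            exact h3
          rw [ZMod.natCast_eq_zero_iff] at h2
          have h4 := Nat.le_of_dvd (by norm_num) h2
          have h5 : 2 ^ 2 ≤ 2 ^ m := Nat.pow_le_pow_right (by norm_num) (by omega)
          omega
        have hle : Nat.card H ≤ 4 := by
          rw [Nat.card_congr f.toEquiv, DihedralGroup.nat_card]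
          calc 2 * 2 ^ m ≤ 2 * 2 ^ 1 := Nat.mul_le_mul_left _ (Nat.pow_le_pow_right (by norm_num) hm)
            _ = 4 := by norm_num
        rw [Subgroup.eq_of_le_of_card_ge hKH (by rw [hK4]; exact hle)]
        exact hxH
      · exfalso
        obtain ⟨f⟩ := hA4
        have hA : ∀ a b : alternatingGroup (Fin 4), a * b = b * a := fun a b => by
          have := congrArg f (Subtype.ext (hHcomm _ (f.symm a).2 _ (f.symm b).2) :
            f.symm a * f.symm b = f.symm b * f.symm a)
          simpa using this
        exact absurd hA (by decide)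
    · exfalso
      obtain ⟨e⟩ := hA4
      obtain ⟨k, hk⟩ := IsPGroup.iff_card.mp hPp
      have h12 : Nat.card (P : Subgroup G) = 12 := by
        rw [Nat.card_congr e.toEquiv, nat_card_alternatingGroup, Nat.card_eq_fintype_card, Fintype.card_fin]
        rfl
      rw [h12] at hk
      have : 3 ∣ 2 ^ k := hk ▸ (by norm_num : 3 ∣ 12)
      exact absurd (Nat.Prime.dvd_of_dvd_pow (by norm_num) this) (by norm_num)
  · intro hP H hN hQ
    let S : Sylow 2 H := default
    have : (S : Subgroup H).Normal := hN S
    have : IsCyclic (H ⧸ (S : Subgroup H)) := hQ S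
    obtain ⟨Q, hSQ⟩ := (S.isPGroup'.map H.subtype).exists_le_sylow
    obtain ⟨g, hg⟩ := MulAction.exists_smul_eq G Q P
    let ι : H →* G := (MulAut.conj g).toMonoidHom.comp H.subtype
    have hι : Function.Injective ι := (MulAut.conj g).injective.comp H.subtype_injective
    have hιS : ∀ s ∈ (S : Subgroup H), ι s ∈ (P : Subgroup G) := by
      intro s hs
      rw [← hg, Sylow.coe_subgroup_smul]
      exact Subgroup.smul_mem_pointwise_smul (H.subtype s) (MulAut.conj g) _ (hSQ ⟨s, hs, rfl⟩)
    let φ : (S : Subgroup H) →* (P : Subgroup G) :=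
      (ι.comp (S : Subgroup H).subtype).codRestrict _ fun s => hιS s s.2
    have hφ : Function.Injective φ := fun a b hab =>
      Subtype.ext (hι (congrArg Subtype.val hab))
    rcases hP with hc | ⟨⟨n, hn, ⟨e⟩⟩, hcent⟩
    · have : IsCyclic (S : Subgroup H) := isCyclic_of_injective φ hφ
      exact Or.inl (H36.isCyclic_of_cyclic_sylow S)
    · let ψ : (S : Subgroup H) →* DihedralGroup (2 ^ n) := e.toMonoidHom.comp φ
      have hψ : Function.Injective ψ := e.injective.comp hφ
      rcases H36.subgroup_dihedral_cases n ψ.range with hc | ⟨j, hj, ⟨e'⟩⟩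
      · have : IsCyclic (S : Subgroup H) :=
          isCyclic_of_injective (MonoidHom.ofInjective hψ).toMonoidHom (MonoidHom.ofInjective hψ).injective
        exact Or.inl (H36.isCyclic_of_cyclic_sylow S)
      · refine Or.inr (H36.dihedral_or_alternating S hj ((MonoidHom.ofInjective hψ).trans e') ?_)
        intro K hKS hK4 hK2
        have hK' := hcent (K.map ι) (by rintro _ ⟨k, hk, rfl⟩; exact hιS k (hKS hk))
          (by rw [Subgroup.card_map_of_injective hι, hK4])
          (by rintro _ ⟨k, hk, rfl⟩; rw [← map_pow, hK2 k hk, map_one])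
        ext x
        constructor
        · intro hx
          rw [Subgroup.mem_centralizer_iff] at hx
          have hx' : ι x ∈ Subgroup.centralizer ((K.map ι : Subgroup G) : Set G) := by
            rw [Subgroup.mem_centralizer_iff]
            rintro _ ⟨k, hk, rfl⟩
            rw [← map_mul, ← map_mul, hx k hk]
          rw [hK', Subgroup.mem_map_iff_mem hι] at hx'
          exact hx'
        · intro hx
          have hx' : ι x ∈ Subgroup.centralizer ((K.map ι : Subgroup G) : Set G) := by
            rw [hK']; exact Subgroup.mem_map_of_mem ι hx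
          rw [Subgroup.mem_centralizer_iff] at hx' ⊢
          intro k hk
          refine hι ?_
          rw [map_mul, map_mul]
          exact hx' _ (Subgroup.mem_map_of_mem ι hk)

end Cfsg.Agent.S4083
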