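import Cfsg.Statements.S4086
import Mathlib.Algebra.IsPrimePow
import Mathlib.GroupTheory.SpecificGroups.Cyclic

set_option autoImplicit false
open Cfsg

namespace Cfsg.Agent.S4086

/-- For a finite group G the following are equivalent: every non-identity element has prime-power order; whenever two elements generate a cyclic subgroup, one of them is a power of the other (the enhanced power graph of G coincides with its power graph). -/
theorem result {G : Type*} [Group G] [Finite G] :
    (∀ g : G, g ≠ 1 → IsPrimePow (orderOf g)) ↔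
    (∀ x y : G, IsCyclic ↥(Subgroup.closure ({x, y} : Set G)) → (x ∈ Subgroup.zpowers y ∨ y ∈ Subgroup.zpowers x)) := by
  classical
  constructor
  · intro h x y hxy
    obtain ⟨⟨z, hz⟩, hgen⟩ := hxy
    have hgen' : ∀ w ∈ Subgroup.closure ({x, y} : Set G), w ∈ Subgroup.zpowers z := by
      intro w hw
      obtain ⟨i, hi⟩ := hgen ⟨w, hw⟩
      exact ⟨i, congrArg Subtype.val hi⟩
    have hx := hgen' x (Subgroup.subset_closure (Or.inl rfl))
    have hy := hgen' y (Subgroup.subset_closure (Or.inr rfl))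
    rcases eq_or_ne z 1 with rfl | hz1
    · left
      rw [Subgroup.zpowers_one_eq_bot, Subgroup.mem_bot] at hx
      subst hx
      exact one_mem _
    obtain ⟨p, n, hp, -, hpn⟩ := h z hz1
    rw [← Nat.prime_iff] at hp
    have key : ∀ u ∈ Subgroup.zpowers z, ∃ i ≤ n, orderOf u = p ^ i := fun u hu =>
      (Nat.dvd_prime_pow hp).mp (hpn ▸ orderOf_dvd_of_mem_zpowers hu)
    have main : ∀ u ∈ Subgroup.zpowers z, ∀ v ∈ Subgroup.zpowers z, orderOf u ∣ orderOf v →
        u ∈ Subgroup.zpowers v := by
      intro u hu v hv hdvd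
      obtain ⟨a, rfl⟩ := (mem_powers_iff_mem_zpowers).mpr hu
      obtain ⟨b, rfl⟩ := (mem_powers_iff_mem_zpowers).mpr hv
      simp only [orderOf_pow] at hdvd
      have hg : Nat.gcd (orderOf z) b ∣ a := by
        have h1 := Nat.gcd_dvd_left (orderOf z) a
        have h2 := Nat.gcd_dvd_left (orderOf z) b
        refine dvd_trans ?_ (Nat.gcd_dvd_right (orderOf z) a)
        obtain ⟨t, ht⟩ := hdvd
        refine ⟨t, ?_⟩
        have e1 := Nat.mul_div_cancel' h1
        have e2 := Nat.mul_div_cancel' h2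
        rw [ht] at e2
        apply Nat.eq_of_mul_eq_mul_left (n := orderOf z / Nat.gcd (orderOf z) a)
          (Nat.div_pos (Nat.le_of_dvd (orderOf_pos z) h1) (Nat.gcd_pos_of_pos_left _ (orderOf_pos z)))
        rw [mul_comm _ (Nat.gcd (orderOf z) a), e1]
        conv_lhs => rw [← e2]
        rw [mul_left_comm]
      obtain ⟨c, hc⟩ := hg
      refine ⟨Nat.gcdB (orderOf z) b * c, ?_⟩
      show (z ^ b) ^ (_ : ℤ) = z ^ a
      rw [← zpow_natCast z a, ← zpow_natCast z b, ← zpow_mul, hc, Nat.cast_mul,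
        Nat.gcd_eq_gcd_ab, add_mul, zpow_add, mul_assoc (orderOf z : ℤ), zpow_mul z (orderOf z : ℤ),
        zpow_natCast, pow_orderOf_eq_one, one_zpow, one_mul, mul_assoc]
    obtain ⟨i, -, hi⟩ := key x hx
    obtain ⟨j, -, hj⟩ := key y hy
    rcases le_total i j with hij | hij
    · exact Or.inl (main x hx y hy (by rw [hi, hj]; exact pow_dvd_pow p hij))
    · exact Or.inr (main y hy x hx (by rw [hi, hj]; exact pow_dvd_pow p hij))
  · intro h g hg
    have h1 : orderOf g ≠ 1 := fun e => hg (orderOf_eq_one_iff.mp e)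
    by_contra hne
    obtain ⟨p, hp, hpd⟩ := Nat.exists_prime_and_dvd h1
    obtain ⟨k, m, hmp, hpm⟩ :=
      Nat.exists_eq_pow_mul_and_not_dvd (orderOf_pos g).ne' p hp.ne_one
    have hm : m ≠ 1 := by
      rintro rfl
      refine hne ⟨p, k, hp.prime, ?_, by rw [hpm, mul_one]⟩
      rcases Nat.eq_zero_or_pos k with rfl | hk
      · simp [h1] at hpm
      · exact hk
    obtain ⟨q, hq, hqd⟩ := Nat.exists_prime_and_dvd hm
    have hpq : p ≠ q := fun e => hmp (e ▸ hqd)
    have hqd' : q ∣ orderOf g := hpm ▸ hqd.mul_left _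
    have hx : orderOf (g ^ (orderOf g / p)) = p :=
      orderOf_pow_orderOf_div (orderOf_pos g).ne' hpd
    have hy : orderOf (g ^ (orderOf g / q)) = q :=
      orderOf_pow_orderOf_div (orderOf_pos g).ne' hqd'
    have hcyc : IsCyclic ↥(Subgroup.closure
        ({g ^ (orderOf g / p), g ^ (orderOf g / q)} : Set G)) := by
      refine Subgroup.isCyclic_of_le (H' := Subgroup.zpowers g) ?_
      rw [Subgroup.closure_le]
      rintro _ (rfl | rfl) <;> exact Subgroup.npow_mem_zpowers g _
    rcases h _ _ hcyc with h2 | h2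
    · have h3 := orderOf_dvd_of_mem_zpowers h2
      rw [hx, hy, Nat.prime_dvd_prime_iff_eq hp hq] at h3
      exact hpq h3
    · have h3 := orderOf_dvd_of_mem_zpowers h2
      rw [hx, hy, Nat.prime_dvd_prime_iff_eq hq hp] at h3
      exact hpq h3.symm

end Cfsg.Agent.S4086
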