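import Cfsg.Statements.S4088
import Cfsg.Agent.H36.Subnormalizer

set_option autoImplicit false
open Cfsg

namespace Cfsg.Agent.S4088

/-- Let G be a finite group, p a prime dividing the order of G, H a p-subgroup of G and P a Sylow p-subgroup of G. Call the subnormalizer of H the set of elements g of G such that H is subnormal in the subgroup generated by H and g. Then the number of elements of the subnormalizer of H equals the number of Sylow p-subgroups of G containing H times the order of N_G(P), and also equals the number of conjugates of H contained in P times the order of N_G(H). -/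
theorem result {G : Type*} [Group G] [Finite G] (p : ℕ) [Fact p.Prime]
    (hp : p ∣ Nat.card G) (H : Subgroup G) (hH : IsPGroup p H) (P : Sylow p G) :
    Nat.card {g : G // ((H).subgroupOf (H ⊔ Subgroup.zpowers g)).IsSubnormal} =
        Nat.card {Q : Sylow p G // H ≤ (Q : Subgroup G)} * Nat.card (Subgroup.normalizer ((P : Subgroup G) : Set G)) ∧
    Nat.card {g : G // ((H).subgroupOf (H ⊔ Subgroup.zpowers g)).IsSubnormal} =
        Nat.card {K : Subgroup G // K ≤ (P : Subgroup G) ∧ ∃ g : G, K = H.map (MulAut.conj g).toMonoidHom} *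
          Nat.card (Subgroup.normalizer (H : Set G)) := by
  classical
  let _ := Fintype.ofFinite G
  let _ := Fintype.ofFinite (Subgroup G)
  let _ := Fintype.ofFinite (Sylow p G)
  have hmain := H36.snCount_eq_sylSum (p := p) H ⊤ le_top
  have hsn : H36.snCount p ⊤ H =
      (Nat.card {g : G // ((H).subgroupOf (H ⊔ Subgroup.zpowers g)).IsSubnormal} : ℤ) := by
    unfold H36.snCount
    rw [Finset.sum_boole, Nat.card_eq_fintype_card, Fintype.card_subtype]
    congr 2
    ext g
    simp [H36.inSN_iff_isSubnormal hH]
  have hnorm : ∀ Q : Sylow p G, Nat.card (Subgroup.normalizer ((Q : Subgroup G) : Set G)) =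
      Nat.card (Subgroup.normalizer ((P : Subgroup G) : Set G)) := by
    intro Q
    have h1 := (Subgroup.normalizer ((Q : Subgroup G) : Set G)).card_mul_index
    have h2 := (Subgroup.normalizer ((P : Subgroup G) : Set G)).card_mul_index
    have hQ : (Subgroup.normalizer ((Q : Subgroup G) : Set G)).index = Nat.card (Sylow p G) :=
      Q.card_eq_index_normalizer.symm
    have hP : (Subgroup.normalizer ((P : Subgroup G) : Set G)).index = Nat.card (Sylow p G) :=
      P.card_eq_index_normalizer.symm
    rw [hQ] at h1
    rw [hP] at h2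
    exact Nat.eq_of_mul_eq_mul_right Nat.card_pos (h1.trans h2.symm)
  have hsyl : H36.sylSum p ⊤ H = ((Nat.card {Q : Sylow p G // H ≤ (Q : Subgroup G)} *
      Nat.card (Subgroup.normalizer ((P : Subgroup G) : Set G)) : ℕ) : ℤ) := by
    unfold H36.sylSum
    rw [Nat.card_eq_fintype_card (α := {Q : Sylow p G // H ≤ (Q : Subgroup G)}),
      Fintype.card_subtype, Nat.cast_mul, ← nsmul_eq_mul, ← Finset.sum_const]
    symm
    refine Finset.sum_bij (fun Q _ => (Q : Subgroup G)) ?_ ?_ ?_ ?_
    · intro Q hQ
      simp only [Finset.mem_filter, Finset.mem_univ, true_and] at hQ ⊢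
      exact ⟨⟨le_top, Q.isPGroup', fun R _ hR hle => Q.3 hR hle⟩, hQ⟩
    · intro Q _ Q' _ h
      exact Sylow.ext h
    · intro Q hQ
      simp only [Finset.mem_filter, Finset.mem_univ, true_and] at hQ
      exact ⟨⟨Q, hQ.1.2.1, fun hR hle => hQ.1.2.2 _ le_top hR hle⟩, by simpa using hQ.2, rfl⟩
    · intro Q _
      rw [show ⊤ ⊓ Subgroup.normalizer ((Q : Subgroup G) : Set G) =
        Subgroup.normalizer ((Q : Subgroup G) : Set G) from top_inf_eq _, hnorm Q]
  have hfirst : Nat.card {g : G // ((H).subgroupOf (H ⊔ Subgroup.zpowers g)).IsSubnormal} =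
      Nat.card {Q : Sylow p G // H ≤ (Q : Subgroup G)} *
        Nat.card (Subgroup.normalizer ((P : Subgroup G) : Set G)) := by
    exact_mod_cast hsn.symm.trans (hmain.trans hsyl)
  refine ⟨hfirst, hfirst.trans ?_⟩
  -- count the `g` with `H` contained in `g • P`
  have h1 := H36.card_smul_mem (G := G) P {Q : Sylow p G | H ≤ (Q : Subgroup G)}
    fun Q _ => MulAction.exists_smul_eq G P Q
  rw [Sylow.stabilizer_eq_normalizer] at h1
  refine h1.symm.trans ?_
  let _ : MulAction G (Subgroup G) :=
  { smul := fun g K => K.map (MulAut.conj g).toMonoidHom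
    one_smul := fun K => by
      show K.map _ = K
      convert Subgroup.map_id K
      ext x
      simp
    mul_smul := fun g h K => by
      show K.map _ = (K.map _).map _
      rw [Subgroup.map_map]
      congr 1
      ext x
      simp [mul_assoc] }
  have hsmul : ∀ g : G, g • H = H.map (MulAut.conj g).toMonoidHom := fun g => rfl
  have h2 := H36.card_smul_mem (G := G) H
    {K : Subgroup G | K ≤ (P : Subgroup G) ∧ ∃ g : G, K = H.map (MulAut.conj g).toMonoidHom}
    fun K hK => by
      obtain ⟨-, g, hg⟩ := hK
      exact ⟨g, hg.symm⟩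
  have hstab : MulAction.stabilizer G H = Subgroup.normalizer (H : Set G) := by
    ext g
    rw [MulAction.mem_stabilizer_iff, hsmul, Subgroup.mem_normalizer_iff_map_conj_eq]
    rfl
  rw [hstab] at h2
  refine Eq.trans ?_ h2
  refine Nat.card_congr (Equiv.subtypeEquiv (Equiv.inv G) fun g => ?_)
  show H ≤ ((g • P : Sylow p G) : Subgroup G) ↔ _ ∧ _
  rw [Equiv.inv_apply, hsmul, Sylow.coe_subgroup_smul]
  constructor
  · intro h
    refine ⟨?_, g⁻¹, rfl⟩
    rintro _ ⟨x, hx, rfl⟩
    have := h hx
    rw [Subgroup.mem_pointwise_smul_iff_inv_smul_mem] at this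
    simpa using this
  · intro h x hx
    rw [Subgroup.mem_pointwise_smul_iff_inv_smul_mem]
    simpa using h.1 ⟨x, hx, rfl⟩

end Cfsg.Agent.S4088
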