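import Cfsg.Statements.S4089
import Cfsg.Agent.H36.Subnormalizer

set_option autoImplicit false
open Cfsg

namespace Cfsg.Agent.S4089

/-- Let G be a finite group, p a prime and H a p-subgroup of G. Then the set of elements g of G such that H is subnormal in the subgroup generated by H and g is the union of the normalizers N_G(R) over the subgroups R of G containing H with R = O_p(N_G(R)); and this set does not change when H is replaced by the intersection of all Sylow p-subgroups of G containing H. -/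
theorem result {G : Type*} [Group G] [Finite G] (p : ℕ) [Fact p.Prime]
    (H : Subgroup G) (hH : IsPGroup p H) :
    {g : G | ((H).subgroupOf (H ⊔ Subgroup.zpowers g)).IsSubnormal} =
      {g : G | ∃ R : Subgroup G, H ≤ R ∧ (Cfsg.pCore p (Subgroup.normalizer (R : Set G))).map (Subgroup.normalizer (R : Set G)).subtype = R ∧ g ∈ Subgroup.normalizer (R : Set G)} ∧
    ∀ g : G, (((H).subgroupOf (H ⊔ Subgroup.zpowers g)).IsSubnormal ↔
      (((sInf {K : Subgroup G | ∃ Q : Sylow p G, H ≤ (Q : Subgroup G) ∧ K = (Q : Subgroup G)})).subgroupOf ((sInf {K : Subgroup G | ∃ Q : Sylow p G, H ≤ (Q : Subgroup G) ∧ K = (Q : Subgroup G)}) ⊔ Subgroup.zpowers g)).IsSubnormal) := by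
  have hfirst : ∀ K : Subgroup G, IsPGroup p K → ∀ g : G,
      ((K.subgroupOf (K ⊔ Subgroup.zpowers g)).IsSubnormal ↔
        ∃ R : Subgroup G, K ≤ R ∧ (Cfsg.pCore p (Subgroup.normalizer (R : Set G))).map
          (Subgroup.normalizer (R : Set G)).subtype = R ∧ g ∈ Subgroup.normalizer (R : Set G)) := by
    intro K hK g
    rw [← H36.inSN_iff_isSubnormal hK]
    refine ⟨H36.exists_radical, ?_⟩
    rintro ⟨R, hKR, hR, hg⟩
    exact ⟨R, hR ▸ (H1.isPGroup_pCore p _).map _, hKR, hg⟩
  refine ⟨Set.ext fun g => hfirst H hH g, fun g => ?_⟩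
  set I := sInf {K : Subgroup G | ∃ Q : Sylow p G, H ≤ (Q : Subgroup G) ∧ K = (Q : Subgroup G)}
    with hI
  have hHI : H ≤ I := le_sInf (by rintro _ ⟨Q, hQ, rfl⟩; exact hQ)
  have hIp : IsPGroup p I := by
    obtain ⟨Q, hQ⟩ := hH.exists_le_sylow
    exact Q.isPGroup'.to_le (sInf_le ⟨Q, hQ, rfl⟩)
  rw [hfirst H hH g, hfirst I hIp g]
  constructor
  · rintro ⟨R, hHR, hR, hg⟩
    exact ⟨R, H36.sylow_inter_le_radical hR fun T hT => sInf_le ⟨T, hHR.trans hT, rfl⟩, hR, hg⟩
  · rintro ⟨R, hIR, hR, hg⟩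
    exact ⟨R, hHI.trans hIR, hR, hg⟩

end Cfsg.Agent.S4089
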