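import Cfsg.Statements.S4092
import Cfsg.Agent.H36.PElements

set_option autoImplicit false
open Cfsg

namespace Cfsg.Agent.S4092

/-- Let G be a finite group, p a prime and P a Sylow p-subgroup of G that is not normal in G. Then G has at least p·#P elements of p-power order (the identity included). -/
theorem result {G : Type*} [Group G] [Finite G] (p : ℕ) [Fact p.Prime]
    (P : Sylow p G) (hP : ¬ (P : Subgroup G).Normal) :
    p * Nat.card (P : Subgroup G) ≤ Nat.card {g : G // ∃ k : ℕ, orderOf g = p ^ k} := by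
  classical
  show p * _ ≤ Nat.card {g : G // H36.IsPEl p g}
  have := Fintype.ofFinite G
  obtain ⟨k, hk⟩ := H36.card_sylow_dvd_card_pEl p P
  have hp := (Fact.out : p.Prime)
  let S := Finset.univ.filter (fun g : G => H36.IsPEl p g ∧ g ≠ 1)
  have hS : Nat.card {g : G // H36.IsPEl p g} = S.card + 1 := by
    rw [Nat.card_eq_fintype_card, Fintype.card_subtype]
    have h1 : (1 : G) ∈ Finset.univ.filter (fun g : G => H36.IsPEl p g) := by
      simp [H36.isPEl_one]
    rw [← Finset.card_erase_add_one h1]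
    congr 2
    ext g
    simp [S, and_comm]
  have hSdvd : (p - 1) ∣ S.card := by
    rw [Finset.card_eq_sum_card_fiberwise (f := fun g => Subgroup.zpowers g)
      (t := S.image (fun g => Subgroup.zpowers g)) (fun g hg => Finset.mem_image_of_mem _ hg)]
    refine Finset.dvd_sum fun C hC => ?_
    obtain ⟨u, hu, rfl⟩ := Finset.mem_image.mp hC
    simp only [S, Finset.mem_filter, Finset.mem_univ, true_and] at hu
    obtain ⟨⟨j, hj⟩, hu1⟩ := hu
    have hj0 : j ≠ 0 := by
      rintro rfl
      exact hu1 (orderOf_eq_one_iff.mp (by simpa using hj))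
    have hfib : (S.filter fun g => Subgroup.zpowers g = Subgroup.zpowers u).card =
        (Finset.univ.filter fun g : Subgroup.zpowers u => orderOf g = orderOf u).card := by
      refine Finset.card_bij' (fun g hg => ⟨g, by
          rw [← (Finset.mem_filter.mp hg).2]; exact Subgroup.mem_zpowers g⟩)
        (fun g _ => g.1) ?_ ?_ (fun _ _ => rfl) (fun _ _ => rfl)
      · intro g hg
        simp only [Finset.mem_filter, Finset.mem_univ, true_and, Subgroup.orderOf_mk]
        rw [← Nat.card_zpowers, (Finset.mem_filter.mp hg).2, Nat.card_zpowers]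
      · intro g hg
        simp only [Finset.mem_filter, Finset.mem_univ, true_and] at hg
        rw [← Subgroup.orderOf_coe] at hg
        refine Finset.mem_filter.mpr ⟨Finset.mem_filter.mpr ⟨Finset.mem_univ _,
          ⟨j, hg.trans hj⟩, fun h => ?_⟩, ?_⟩
        · rw [h, orderOf_one] at hg
          exact hu1 (orderOf_eq_one_iff.mp hg.symm)
        · refine Subgroup.eq_of_le_of_card_ge (Subgroup.zpowers_le.mpr g.2) ?_
          rw [Nat.card_zpowers, Nat.card_zpowers, hg]
    rw [hfib, IsCyclic.card_orderOf_eq_totient (by rw [← Nat.card_eq_fintype_card, Nat.card_zpowers]),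
      hj, Nat.totient_prime_pow hp (Nat.pos_of_ne_zero hj0)]
    exact dvd_mul_left _ _
  obtain ⟨m, hm⟩ := IsPGroup.iff_card.mp P.isPGroup'
  have hone : ∀ i : ℕ, p ^ i ≡ 1 [MOD p - 1] := fun i => by
    have : p ≡ 1 [MOD p - 1] := ((Nat.modEq_iff_dvd' hp.one_le).mpr dvd_rfl).symm
    simpa using this.pow i
  have hk1 : k ≡ 1 [MOD p - 1] := by
    have h1 : p ^ m * k ≡ 1 [MOD p - 1] := by
      rw [← hm, ← hk, hS]
      simpa using (Nat.modEq_zero_iff_dvd.mpr hSdvd).add_right 1
    exact (by simpa using ((hone m).mul_right k).symm : k ≡ p ^ m * k [MOD p - 1]).trans h1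
  have hk0 : k ≠ 1 := by
    intro h
    rw [h, mul_one] at hk
    apply hP
    have hsub : ∀ g : G, H36.IsPEl p g → g ∈ (P : Subgroup G) := by
      intro g hg
      let f : ↥(P : Subgroup G) → {g : G // H36.IsPEl p g} := fun x => ⟨x, by
        obtain ⟨i, hi⟩ := IsPGroup.iff_orderOf.mp P.isPGroup' x
        exact ⟨i, by rw [Subgroup.orderOf_coe]; exact hi⟩⟩
      have hf : Function.Injective f := fun a b h => Subtype.ext (congrArg Subtype.val h :)
      obtain ⟨x, hx⟩ := (Nat.bijective_iff_injective_and_card f).mpr ⟨hf, hk.symm⟩ |>.2 ⟨g, hg⟩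
      rw [show g = (x : G) from (congrArg Subtype.val hx).symm]
      exact x.2
    refine ⟨fun x hx g => hsub _ (H36.isPEl_conj ?_ g)⟩
    obtain ⟨i, hi⟩ := IsPGroup.iff_orderOf.mp P.isPGroup' ⟨x, hx⟩
    exact ⟨i, by rwa [Subgroup.orderOf_mk] at hi⟩
  have hk2 : k ≠ 0 := by
    rintro rfl
    rw [mul_zero] at hk
    omega
  have hpk : p ≤ k := by
    have h := Nat.le_of_dvd (by omega) ((Nat.modEq_iff_dvd' (by omega)).mp hk1.symm)
    omega
  calc p * Nat.card (P : Subgroup G) ≤ k * Nat.card (P : Subgroup G) := Nat.mul_le_mul_right _ hpk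
    _ = _ := by rw [hk, mul_comm]

end Cfsg.Agent.S4092
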