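import Cfsg.Statements.S4093
import Cfsg.Agent.H36.PElementsCoset
import Mathlib.GroupTheory.Complement
import Mathlib.Tactic.Group

set_option autoImplicit false
open scoped BigOperators
open Cfsg

namespace Cfsg.Agent.S4093

/-- Let G be a finite group with a normal subgroup N complementing a Sylow p-subgroup P (a normal p-complement). Then the number of elements of G of p-power order equals the sum over x ∈ P of the index of C_N(x) in N. -/
theorem result {G : Type*} [Group G] [Finite G] (p : ℕ) [Fact p.Prime]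
    (P : Sylow p G) (N : Subgroup G) [N.Normal] (hNP : N.IsComplement' (P : Subgroup G)) :
    Nat.card {g : G // ∃ k : ℕ, orderOf g = p ^ k} =
      ∑ᶠ x : (P : Subgroup G), Nat.card N / Nat.card ↥(N ⊓ Subgroup.centralizer ({(x : G)} : Set G)) := by
  classical
  show Nat.card {g : G // H36.IsPEl p g} = _
  have := Fintype.ofFinite (G ⧸ N)
  have := Fintype.ofFinite (P : Subgroup G)
  have hPel : ∀ x : (P : Subgroup G), H36.IsPEl p (x : G) := by
    intro x
    obtain ⟨i, hi⟩ := IsPGroup.iff_orderOf.mp P.isPGroup' x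
    exact ⟨i, by rw [Subgroup.orderOf_coe]; exact hi⟩
  let π : ↥(P : Subgroup G) → G ⧸ N := fun x => ((x : G) : G ⧸ N)
  have hπ : Function.Bijective π := by
    rw [Fintype.bijective_iff_injective_and_card]
    refine ⟨fun a b h => Subtype.ext ?_, ?_⟩
    · have h1 : (a : G)⁻¹ * b ∈ N := QuotientGroup.eq.mp h
      have h2 : (a : G)⁻¹ * b ∈ (P : Subgroup G) := mul_mem (inv_mem a.2) b.2
      exact inv_mul_eq_one.mp (Subgroup.mem_bot.mp (hNP.disjoint.le_bot ⟨h1, h2⟩))
    · rw [← Nat.card_eq_fintype_card, ← Nat.card_eq_fintype_card]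
      have h1 := hNP.card_mul
      rw [Subgroup.card_eq_card_quotient_mul_card_subgroup N, mul_comm (Nat.card (G ⧸ N))] at h1
      exact Nat.eq_of_mul_eq_mul_left Nat.card_pos h1
  have hpel : ∀ d : G ⧸ N, H36.IsPEl p d := by
    intro d
    obtain ⟨x, rfl⟩ := hπ.2 d
    exact H36.isPEl_map (QuotientGroup.mk' N) (hPel x)
  rw [H36.card_pEl_eq_sum N p, Finset.filter_true_of_mem (fun d _ => hpel d),
    finsum_eq_sum_of_fintype, ← hπ.sum_comp]
  refine Finset.sum_congr rfl fun x _ => ?_
  set C := Subgroup.centralizer ({(x : G)} : Set G) with hC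
  have hNcop : (Nat.card N).Coprime p := by
    have h1 : (P : Subgroup G).index = Nat.card N := hNP.index_eq_card
    exact ((Fact.out : p.Prime).coprime_iff_not_dvd.mpr (h1 ▸ P.not_dvd_index)).symm
  have hmul : C.relIndex N = Nat.card N / Nat.card ↥(N ⊓ C) := by
    have h2 := Subgroup.relIndex_mul_relIndex ⊥ (N ⊓ C) N bot_le inf_le_left
    rw [Subgroup.relIndex_bot_left, Subgroup.relIndex_bot_left, Subgroup.inf_relIndex_left] at h2
    rw [← h2, Nat.mul_div_cancel_left _ Nat.card_pos]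
  rw [← hmul]
  symm
  let f : N ⧸ C.subgroupOf N → {g : G // (g : G ⧸ N) = π x ∧ H36.IsPEl p g} :=
    Quotient.lift (fun n : N => (⟨(n : G) * x * (n : G)⁻¹, by
        rw [QuotientGroup.mk_mul, QuotientGroup.mk_mul, QuotientGroup.mk_inv,
          (QuotientGroup.eq_one_iff (n : G)).mpr n.2, one_mul, inv_one, mul_one],
      H36.isPEl_conj (hPel x) n⟩ : {g : G // (g : G ⧸ N) = π x ∧ H36.IsPEl p g})) (by
      intro a b h
      have h' := QuotientGroup.leftRel_apply.mp h
      simp only [Subgroup.mem_subgroupOf, hC, Subgroup.mem_centralizer_singleton_iff,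
        Subgroup.coe_mul, Subgroup.coe_inv] at h'
      apply Subtype.ext
      show (a : G) * x * (a : G)⁻¹ = b * x * (b : G)⁻¹
      calc (a : G) * x * (a : G)⁻¹ = a * (x * ((a : G)⁻¹ * b)) * (b : G)⁻¹ := by simp [mul_assoc]
        _ = a * ((a : G)⁻¹ * b * x) * (b : G)⁻¹ := by rw [h']
        _ = b * x * (b : G)⁻¹ := by simp [mul_assoc])
  refine Nat.card_congr (Equiv.ofBijective f ⟨?_, ?_⟩)
  · rintro ⟨a⟩ ⟨b⟩ h
    have h1 : (a : G) * x * (a : G)⁻¹ = b * x * (b : G)⁻¹ := congrArg Subtype.val h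
    apply Quotient.sound
    refine QuotientGroup.leftRel_apply.mpr ?_
    simp only [Subgroup.mem_subgroupOf, hC, Subgroup.mem_centralizer_singleton_iff,
      Subgroup.coe_mul, Subgroup.coe_inv]
    calc (a : G)⁻¹ * b * x = (a : G)⁻¹ * (b * x * (b : G)⁻¹) * b := by simp [mul_assoc]
      _ = (a : G)⁻¹ * (a * x * (a : G)⁻¹) * b := by rw [h1]
      _ = x * ((a : G)⁻¹ * b) := by simp [mul_assoc]
  · rintro ⟨y, hyx, hy⟩
    -- Sylow's theorem in the preimage of the subgroup generated by the image of `x`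
    let H := (Subgroup.zpowers (π x)).comap (QuotientGroup.mk' N)
    have hxH : (x : G) ∈ H := Subgroup.mem_zpowers _
    have hyH : y ∈ H := by
      show (y : G ⧸ N) ∈ Subgroup.zpowers (π x)
      rw [hyx]; exact Subgroup.mem_zpowers _
    have hord : ∀ z : G, (z : G ⧸ N) = π x → H36.IsPEl p z → orderOf z = orderOf (π x) := by
      intro z hz hzp
      refine Nat.dvd_antisymm ?_ (hz ▸ orderOf_map_dvd (QuotientGroup.mk' N) z)
      rw [orderOf_dvd_iff_pow_eq_one, ← orderOf_eq_one_iff]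
      have hmem : z ^ orderOf (π x) ∈ N := by
        rw [← QuotientGroup.eq_one_iff, QuotientGroup.mk_pow, hz, pow_orderOf_eq_one]
      obtain ⟨i, hi⟩ := H36.isPEl_pow hzp (orderOf (π x))
      refine Nat.eq_one_of_dvd_coprimes (hNcop.pow_right i) ?_ (dvd_of_eq hi)
      rw [← Subgroup.orderOf_mk _ hmem]
      exact orderOf_dvd_natCard _
    have hcardH : Nat.card H = Nat.card N * orderOf (π x) := by
      have hle : N ≤ H := by
        conv_lhs => rw [← QuotientGroup.ker_mk' N]
        exact Subgroup.ker_le_comap _ _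
      have h2 := Subgroup.relIndex_mul_relIndex ⊥ N H bot_le hle
      rw [Subgroup.relIndex_bot_left, Subgroup.relIndex_bot_left] at h2
      have h3 : Nat.card (H.map (QuotientGroup.mk' N)) = N.relIndex H := by
        rw [← Subgroup.relIndex_ker (K := H), QuotientGroup.ker_mk']
      rw [Subgroup.map_comap_eq_self_of_surjective (QuotientGroup.mk'_surjective N),
        Nat.card_zpowers] at h3
      rw [← h2, ← h3]
    have hsyl : ∀ z : G, ∀ hz : z ∈ H, (z : G ⧸ N) = π x → H36.IsPEl p z →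
        ∃ S : Sylow p H, (S : Subgroup H) = Subgroup.zpowers ⟨z, hz⟩ := by
      intro z hz hz' hzp
      have hzp' : IsPGroup p (Subgroup.zpowers (⟨z, hz⟩ : H)) := by
        obtain ⟨i, hi⟩ := hzp
        exact IsPGroup.of_card (n := i) (by rw [Nat.card_zpowers, Subgroup.orderOf_mk, hi])
      refine ⟨hzp'.toSylow ?_, rfl⟩
      intro hdvd
      have h4 := (Subgroup.zpowers (⟨z, hz⟩ : H)).card_mul_index
      rw [Nat.card_zpowers, Subgroup.orderOf_mk, hord z hz' hzp, hcardH, mul_comm (Nat.card N)] at h4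
      rw [Nat.eq_of_mul_eq_mul_left (orderOf_pos _) h4] at hdvd
      exact (Fact.out : p.Prime).ne_one (Nat.eq_one_of_dvd_coprimes hNcop hdvd dvd_rfl)
    obtain ⟨S, hS⟩ := hsyl x hxH rfl (hPel x)
    obtain ⟨T, hT⟩ := hsyl y hyH hyx hy
    obtain ⟨h, hh⟩ := MulAction.exists_smul_eq H S T
    have hconj : (h : G)⁻¹ * y * h ∈ Subgroup.zpowers (x : G) := by
      have hy' : (⟨y, hyH⟩ : H) ∈ (T : Subgroup H) := by rw [hT]; exact Subgroup.mem_zpowers _
      rw [← hh, Sylow.coe_subgroup_smul, Subgroup.mem_pointwise_smul_iff_inv_smul_mem, hS] at hy'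
      obtain ⟨i, hi⟩ := hy'
      refine ⟨i, ?_⟩
      have := congrArg Subtype.val hi
      simpa using this
    obtain ⟨k, hk⟩ := h.2
    obtain ⟨i, hi : (x : G) ^ i = _⟩ := hconj
    have hn : (h : G) * (x : G) ^ (-k) ∈ N := by
      rw [← QuotientGroup.eq_one_iff, QuotientGroup.mk_mul, QuotientGroup.mk_zpow]
      show _ * π x ^ (-k) = 1
      rw [show ((h : G) : G ⧸ N) = π x ^ k from hk.symm, ← zpow_add, add_neg_cancel, zpow_zero]
    refine ⟨QuotientGroup.mk (⟨(h : G) * (x : G) ^ (-k), hn⟩ : N), Subtype.ext ?_⟩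
    show (h : G) * (x : G) ^ (-k) * x * ((h : G) * (x : G) ^ (-k))⁻¹ = y
    have hyeq : y = (h : G) * (x : G) ^ i * (h : G)⁻¹ := by rw [hi]; simp [mul_assoc]
    have hxi : (x : G) ^ i = x := by
      have h5 : π x ^ i = π x := by
        calc π x ^ i = (((x : G) ^ i : G) : G ⧸ N) := (QuotientGroup.mk_zpow N (x : G) i).symm
          _ = ((h : G) : G ⧸ N)⁻¹ * (y : G ⧸ N) * ((h : G) : G ⧸ N) := by
            rw [hi, QuotientGroup.mk_mul, QuotientGroup.mk_mul, QuotientGroup.mk_inv]
          _ = π x := by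
            rw [hyx, show ((h : G) : G ⧸ N) = π x ^ k from hk.symm]
            group
      have h6 : (((x : G) ^ (i - 1) : G) : G ⧸ N) = 1 := by
        rw [QuotientGroup.mk_zpow, zpow_sub, zpow_one]
        show π x ^ i * (π x)⁻¹ = 1
        rw [h5, mul_inv_cancel]
      have h7 : (x : G) ^ (i - 1) = 1 := Subgroup.mem_bot.mp
        (hNP.disjoint.le_bot ⟨(QuotientGroup.eq_one_iff _).mp h6, zpow_mem x.2 _⟩)
      calc (x : G) ^ i = (x : G) ^ (i - 1) * x := by rw [← zpow_add_one, sub_add_cancel]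
        _ = x := by rw [h7, one_mul]
    rw [hyeq, hxi]
    group

end Cfsg.Agent.S4093
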