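import Cfsg.Statements.S4097
import Cfsg.Agent.S0042
import Cfsg.Agent.H2.FrobeniusKernel

set_option autoImplicit false
open Cfsg

namespace Cfsg.Agent.S4097

universe u

/-- A solvable subgroup central in every solvable overgroup is central. -/
theorem aux : ∀ (n : ℕ) (G : Type u) [Group G] [Finite G], Nat.card G = n →
    ∀ (A : Subgroup G), Group.IsSolvable A →
    (∀ S : Subgroup G, A ≤ S → Group.IsSolvable S → ∀ a ∈ A, ∀ s ∈ S, a * s = s * a) →
    A ≤ Subgroup.center G := by
  intro n
  induction n using Nat.strong_induction_on with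
  | _ n ih =>
  intro G _ _ hn A hA hc
  by_contra hcon
  have hAc : ∀ a ∈ A, ∀ b ∈ A, a * b = b * a := hc A le_rfl hA
  -- every proper overgroup of `A` centralises `A`
  have hprop : ∀ H : Subgroup G, A ≤ H → H ≠ ⊤ → H ≤ Subgroup.centralizer (A : Set G) := by
    intro H hAH hH h hh
    have hlt : Nat.card H < n := by
      refine lt_of_le_of_ne (hn ▸ Subgroup.card_le_card_group H) fun e => hH ?_
      exact Subgroup.eq_top_of_card_eq _ (e.trans hn.symm)
    have hcen := ih _ hlt H rfl (A.subgroupOf H)
      (Group.isSolvable_of_comm fun x y => Subtype.ext (Subtype.ext (hAc _ x.2 _ y.2))) (fun S hAS hS a ha s hs => by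
        have : Group.IsSolvable (S.map H.subtype) :=
          Group.isSolvable_of_surjective (f := H.subtype.subgroupMap S) (H.subtype.subgroupMap_surjective S)
        exact Subtype.ext (hc (S.map H.subtype) (fun b hb => ⟨⟨b, hAH hb⟩, hAS hb, rfl⟩) this _ ha _
          (Subgroup.mem_map_of_mem _ hs)))
    rw [Subgroup.mem_centralizer_iff]
    intro a ha
    exact congrArg Subtype.val (Subgroup.mem_center_iff.mp
      (hcen (show (⟨a, hAH ha⟩ : H) ∈ A.subgroupOf H from ha)) ⟨h, hh⟩).symm
  set M := Subgroup.centralizer (A : Set G) with hMdef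
  have hAM : A ≤ M := fun b hb => Subgroup.mem_centralizer_iff.mpr fun a ha => hAc a ha b hb
  have hMtop : M ≠ ⊤ := fun h => hcon fun a ha => Subgroup.mem_center_iff.mpr fun g =>
    ((Subgroup.mem_centralizer_iff.mp (show g ∈ M from h ▸ Subgroup.mem_top g)) a ha).symm
  -- a conjugate of `A` inside `M` lies in a conjugate `M^g = M`
  have hmap : ∀ g : G, A.map (MulAut.conj g).toMonoidHom ≤ M → M.map (MulAut.conj g).toMonoidHom = M := by
    intro g hg
    have hle : A ≤ M.map (MulAut.conj g).toMonoidHom := by
      intro a ha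
      refine ⟨g⁻¹ * a * g, Subgroup.mem_centralizer_iff.mpr fun b hb => ?_, by simp [mul_assoc]⟩
      have := Subgroup.mem_centralizer_iff.mp (hg (Subgroup.mem_map_of_mem _ hb)) a ha
      simp only [MulEquiv.coe_toMonoidHom, MulAut.conj_apply] at this
      calc b * (g⁻¹ * a * g) = g⁻¹ * (g * b * g⁻¹ * a) * g := by group
        _ = g⁻¹ * (a * (g * b * g⁻¹)) * g := by rw [this]
        _ = g⁻¹ * a * g * b := by group
    have hne : M.map (MulAut.conj g).toMonoidHom ≠ ⊤ := fun h => hMtop
      (Subgroup.map_injective (f := (MulAut.conj g).toMonoidHom) (MulAut.conj g).injective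
        (h.trans (Subgroup.map_top_of_surjective _ (MulAut.conj g).surjective).symm))
    refine Subgroup.eq_of_le_of_card_ge (hprop _ hle hne) (le_of_eq ?_)
    exact (Subgroup.card_map_of_injective (MulAut.conj g).injective).symm
  have hself : ∀ g : G, A.map (MulAut.conj g).toMonoidHom ≤ M → g ∈ M := by
    intro g hg
    have hgN : g ∈ Subgroup.normalizer (M : Set G) :=
      Subgroup.mem_normalizer_iff_map_conj_eq.mpr (hmap g hg)
    by_cases hN : Subgroup.normalizer (M : Set G) = ⊤
    · -- `M` normal: the normal closure of `A` is abelian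
      exfalso
      haveI : M.Normal := Subgroup.normalizer_eq_top_iff.mp hN
      set N := Subgroup.normalClosure (A : Set G) with hNdef
      have hNM : N ≤ M := Subgroup.normalClosure_le_normal hAM
      have hcomm : ∀ u ∈ N, ∀ v ∈ N, u * v = v * u := by
        have hle : N ≤ Subgroup.centralizer (N : Set G) := by
          refine Subgroup.normalClosure_le_normal fun a ha => ?_
          exact Subgroup.mem_centralizer_iff.mpr fun v hv =>
            (Subgroup.mem_centralizer_iff.mp (hNM hv) a ha).symm
        exact fun u hu v hv => (Subgroup.mem_centralizer_iff.mp (hle hu) v hv).symm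
      haveI : Group.IsSolvable N := Group.isSolvable_of_comm fun u v => Subtype.ext (hcomm _ u.2 _ v.2)
      refine hMtop (eq_top_iff.mpr fun x _ => Subgroup.mem_centralizer_iff.mpr fun a ha => ?_)
      set S := (Subgroup.zpowers (QuotientGroup.mk' N x)).comap (QuotientGroup.mk' N) with hS
      have hNS : N ≤ S := fun u hu => Subgroup.mem_comap.mpr (by
        rw [show QuotientGroup.mk' N u = 1 from (QuotientGroup.eq_one_iff u).mpr hu]; exact Subgroup.one_mem _)
      have hsol : Group.IsSolvable S := by
        haveI : Group.IsSolvable (Subgroup.zpowers (QuotientGroup.mk' N x)) :=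
          Group.isSolvable_of_comm fun u v => mul_comm' u v
        refine Group.isSolvable_of_ker_le_range (Subgroup.inclusion hNS)
          ((QuotientGroup.mk' N).subgroupComap (Subgroup.zpowers (QuotientGroup.mk' N x))) ?_
        intro u hu
        have hu' : QuotientGroup.mk' N (u : G) = 1 := congrArg Subtype.val hu
        exact ⟨⟨u, (QuotientGroup.eq_one_iff _).mp hu'⟩, Subtype.ext rfl⟩
      exact hc S ((Subgroup.le_normalClosure.trans le_rfl).trans hNS) hsol a ha x
        (Subgroup.mem_comap.mpr (Subgroup.mem_zpowers _))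
    · exact hprop _ (hAM.trans Subgroup.le_normalizer) hN hgN
  -- intersections of conjugates of `M` are central
  have hcenter : ∀ g y : G, g ∉ M → y ∈ M → y ∈ M.map (MulAut.conj g).toMonoidHom → y ∈ Subgroup.center G := by
    intro g y hg hy hyg
    have h1 : A ≤ Subgroup.centralizer ({y} : Set G) := fun a ha =>
      Subgroup.mem_centralizer_singleton_iff.mpr (Subgroup.mem_centralizer_iff.mp hy a ha)
    have h2 : A.map (MulAut.conj g).toMonoidHom ≤ Subgroup.centralizer ({y} : Set G) := by
      rintro _ ⟨a, ha, rfl⟩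
      obtain ⟨m, hm, rfl⟩ := hyg
      rw [Subgroup.mem_centralizer_singleton_iff, ← map_mul, ← map_mul,
        Subgroup.mem_centralizer_iff.mp hm a ha]
    by_cases htop : Subgroup.centralizer ({y} : Set G) = ⊤
    · exact Subgroup.mem_center_iff.mpr fun x =>
        Subgroup.mem_centralizer_singleton_iff.mp (htop ▸ Subgroup.mem_top x)
    · exact absurd (hself g (h2.trans (hprop _ h1 htop))) hg
  set Z := Subgroup.center G with hZdef
  have hZM : Z ≤ M := fun z hz => Subgroup.mem_centralizer_iff.mpr fun a _ => Subgroup.mem_center_iff.mp hz a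
  set π := QuotientGroup.mk' Z with hπ
  have hsur : Function.Surjective π := QuotientGroup.mk'_surjective Z
  have hpre : (M.map π).comap π = M := by
    rw [Subgroup.comap_map_eq, QuotientGroup.ker_mk', sup_eq_left.mpr hZM]
  have hFrob : Cfsg.IsFrobeniusComplement (M.map π) := by
    refine ⟨fun h => ?_, fun h => hMtop ?_, fun q hq => ?_⟩
    · rw [Subgroup.map_eq_bot_iff, QuotientGroup.ker_mk'] at h
      exact hcon (hAM.trans h)
    · rw [← hpre, h, Subgroup.comap_top]
    · obtain ⟨g, rfl⟩ := hsur q
      have hg : g ∉ M := fun h => hq (Subgroup.mem_map_of_mem _ h)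
      refine eq_bot_iff.mpr fun w hw => ?_
      obtain ⟨m, hm, rfl⟩ := Subgroup.mem_map.mp hw.1
      obtain ⟨m', hm', he⟩ := hw.2
      obtain ⟨v, hv, rfl⟩ := Subgroup.mem_map.mp hm'
      simp only [MulDistribMulAction.toMonoidEnd_apply, MulDistribMulAction.toMonoidHom_apply,
        MulAut.smul_def, MulAut.conj_apply] at he
      rw [← map_inv, ← map_mul, ← map_mul] at he
      have hmem : m ∈ M.map (MulAut.conj g).toMonoidHom := by
        have hz : (g * v * g⁻¹)⁻¹ * m ∈ Z := (QuotientGroup.eq).mp he
        refine ⟨v * ((g * v * g⁻¹)⁻¹ * m), M.mul_mem hv (hZM hz), ?_⟩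
        have hcomm := Subgroup.mem_center_iff.mp hz g
        simp only [MulEquiv.coe_toMonoidHom, MulAut.conj_apply]
        calc g * (v * ((g * v * g⁻¹)⁻¹ * m)) * g⁻¹
            = g * v * g⁻¹ * (g * ((g * v * g⁻¹)⁻¹ * m) * g⁻¹) := by group
          _ = g * v * g⁻¹ * (((g * v * g⁻¹)⁻¹ * m) * g * g⁻¹) := by rw [hcomm]
          _ = m := by group
      rw [Subgroup.mem_bot]
      exact (QuotientGroup.eq_one_iff m).mpr (hcenter g m hg hm hmem)
  obtain ⟨N, hN, hNn, hNnil⟩ := Cfsg.Agent.S0042.result (M.map π) hFrob
  obtain ⟨N', hN', hN'n, hcompl⟩ := H2.exists_kernel hFrob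
  obtain rfl : N' = N := SetLike.coe_injective (hN'.trans hN.symm)
  haveI := hN'n
  set K := N'.comap π with hK
  haveI : K.Normal := Subgroup.Normal.comap hN'n π
  by_cases hAK : A ⊔ K = ⊤
  · -- then the group is solvable
    haveI : Group.IsNilpotent N' := hNnil
    haveI hKs : Group.IsSolvable K := by
      haveI : Group.IsSolvable Z := Group.isSolvable_of_comm fun u v => mul_comm' u v
      have hZK : Z ≤ K := fun u hu => Subgroup.mem_comap.mpr (by
        rw [show π u = 1 from (QuotientGroup.eq_one_iff u).mpr hu]; exact Subgroup.one_mem _)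
      refine Group.isSolvable_of_ker_le_range (Subgroup.inclusion hZK) (π.subgroupComap N') ?_
      intro u hu
      have hu' : π (u : G) = 1 := congrArg Subtype.val hu
      exact ⟨⟨u, (QuotientGroup.eq_one_iff _).mp hu'⟩, Subtype.ext rfl⟩
    haveI : Group.IsSolvable (G ⧸ K) := by
      refine Group.isSolvable_of_surjective (f := (QuotientGroup.mk' K).comp A.subtype) ?_
      rw [← MonoidHom.range_eq_top, MonoidHom.range_comp, Subgroup.range_subtype]
      refine Subgroup.comap_injective (QuotientGroup.mk'_surjective K) ?_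
      rw [Subgroup.comap_map_eq, QuotientGroup.ker_mk', Subgroup.comap_top]
      exact hAK
    haveI : Group.IsSolvable G := (Group.isSolvable_iff_subgroup_quotient K).mpr ⟨hKs, inferInstance⟩
    refine hMtop (eq_top_iff.mpr fun x _ => Subgroup.mem_centralizer_iff.mpr fun a ha => ?_)
    exact hc ⊤ le_top inferInstance a ha x (Subgroup.mem_top x)
  · have hKM : K ≤ M := le_sup_right.trans (hprop _ le_sup_left hAK)
    refine hFrob.2.1 ?_
    have h1 : N' ≤ M.map π := by
      rw [← Subgroup.map_comap_eq_self_of_surjective hsur N']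
      exact Subgroup.map_mono hKM
    rw [← hcompl.sup_eq_top, sup_eq_right.mpr h1]

/-- Let A be a solvable subgroup of a finite group G such that A lies in the centre of every solvable subgroup of G containing A. Then A lies in the centre of G. -/
theorem result {G : Type*} [Group G] [Finite G]
    (A : Subgroup G) (hA : Group.IsSolvable A)
    (hc : ∀ S : Subgroup G, A ≤ S → Group.IsSolvable S → ∀ a ∈ A, ∀ s ∈ S, a * s = s * a) : A ≤ Subgroup.center G := by
  exact aux _ G rfl A hA hc

end Cfsg.Agent.S4097
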