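import Cfsg.Statements.S4100
import Cfsg.Agent.H63.AltCentral.Main
-- import your own Cfsg.Agent.* helpers here

set_option autoImplicit false
open Cfsg

namespace Cfsg.Agent.S4100

/-- Let G be a finite group and p a prime other than 3 such that the centralizer of every non-central element of p-power order is solvable. Then every alternating group of degree at least 5 involved in G (as a section) has degree at most p + 4, or at most p + 6 = 8 when p = 2. -/
theorem result {G : Type*} [Group G] [Finite G] (p : ℕ) [Fact p.Prime] (hp3 : p ≠ 3)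
    (h : ∀ x : G, x ∉ Subgroup.center G → (∃ k : ℕ, orderOf x = p ^ k) → Group.IsSolvable (Subgroup.centralizer ({x} : Set G)))
    (d : ℕ) (hd : 5 ≤ d) (hinv : Cfsg.Involves (alternatingGroup (Fin d)) G) :
    d ≤ p + 4 + (if p = 2 then 2 else 0) := by
  obtain ⟨K, R, _, ⟨e⟩⟩ := hinv
  have key : ∀ {k : ℕ}, k + 5 ≤ d → ∀ σ : alternatingGroup (Fin k), orderOf σ = p →
      (7 ≤ p ∨ H63.AltCentral.ModuleFact (alternatingGroup (Fin (k + 5))) p) → False :=
    fun hk σ hσ hf => H63.AltCentral.no_involvement p h hk σ hσ hf K
      (e.toMonoidHom.comp (QuotientGroup.mk' (R.subgroupOf K)))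
      (e.surjective.comp (QuotientGroup.mk'_surjective _))
  have hp : p.Prime := Fact.out
  by_contra hlt
  rcases eq_or_ne p 2 with rfl | h2
  · simp only [if_true] at hlt
    refine key (k := 4) (by omega) ⟨Equiv.swap 0 1 * Equiv.swap 2 3, by
      rw [Equiv.Perm.mem_alternatingGroup]; decide⟩
      (orderOf_eq_prime (Subtype.ext (by decide)) (fun hh => by
        exact absurd (congrArg Subtype.val hh) (by decide))) (Or.inr H63.AltCentral.moduleFact_two)
  · simp only [h2, if_false] at hlt
    obtain ⟨m, rfl⟩ : ∃ m, p = m + 1 := ⟨p - 1, by have := hp.one_lt; omega⟩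
    have hm : Even m := by
      rcases hp.eq_two_or_odd' with h' | h'
      · exact absurd h' h2
      · rw [Nat.odd_add_one] at h'
        exact Nat.not_odd_iff_even.mp h'
    have hm2 : 1 ≤ m := by have := hp.two_le; omega
    have hmem : finRotate (m + 1) ∈ alternatingGroup (Fin (m + 1)) := by
      rw [Equiv.Perm.mem_alternatingGroup, sign_finRotate, Nat.add_sub_cancel]
      exact hm.neg_one_pow
    refine key (k := m + 1) (by omega) ⟨finRotate (m + 1), hmem⟩ ?_ ?_
    · rw [Subgroup.orderOf_mk, (isCycle_finRotate_of_le (show 2 ≤ m + 1 by omega)).orderOf,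
        support_finRotate_of_le (show 2 ≤ m + 1 by omega), Finset.card_univ, Fintype.card_fin]
    · by_cases h5 : m = 4
      · subst h5
        exact Or.inr H63.AltCentral.moduleFact_five
      · refine Or.inl ?_
        by_contra hc
        have hm6 : m ≤ 5 := by omega
        interval_cases m <;> first | omega | exact absurd hp (by decide)

end Cfsg.Agent.S4100
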