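import Cfsg.Statements.S4106
import Cfsg.Agent.H27.PiClasses

set_option autoImplicit false
open Cfsg

namespace Cfsg.Agent.S4106

/-- Let G be a finite group, π a set of primes and m the π-part of the order of G. Then the number of conjugacy classes of G consisting of π-elements (elements whose order is divisible only by primes in π) is at most m. -/
theorem result {G : Type*} [Group G] [Finite G]
    (π : Set ℕ) (hπ : ∀ q ∈ π, q.Prime)
    (m : ℕ) (hm : m ∣ Nat.card G) (hmπ : ∀ q : ℕ, q.Prime → q ∣ m → q ∈ π)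
    (hm' : ∀ q ∈ π, ¬ q ∣ Nat.card G / m) :
    Nat.card {C : ConjClasses G // ∀ q : ℕ, q.Prime → (∃ g : G, ConjClasses.mk g = C ∧ q ∣ orderOf g) → q ∈ π} ≤ m := by
  have hm0 : m ≠ 0 := fun h => Nat.card_pos.ne' (Nat.eq_zero_of_zero_dvd (h ▸ hm))
  have hG0 : Nat.card G ≠ 0 := Nat.card_pos.ne'
  refine le_trans (Nat.card_le_card_of_injective
    (fun C => (⟨C.1, ?_⟩ : {C : ConjClasses G // ∃ g : G, ConjClasses.mk g = C ∧ g ^ m = 1}))
    fun a b h => Subtype.ext (congrArg (fun t => t.1) h))
    (H27.card_classes_pow_eq_one_le m hm0 G fun q hq hqm => ?_)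
  · obtain ⟨C, hC⟩ := C
    obtain ⟨g, rfl⟩ := ConjClasses.exists_rep C
    refine ⟨g, rfl, orderOf_dvd_iff_pow_eq_one.mp ?_⟩
    rw [← Nat.factorization_le_iff_dvd (orderOf_pos g).ne' hm0]
    intro q
    by_cases hq : q.Prime ∧ q ∣ orderOf g
    · have hqπ := hC q hq.1 ⟨g, rfl, hq.2⟩
      have h1 := (Nat.factorization_le_iff_dvd (orderOf_pos g).ne' hG0).mpr (orderOf_dvd_natCard g) q
      have h2 := Nat.factorization_eq_zero_of_not_dvd (hm' q hqπ)
      rw [Nat.factorization_div hm, Finsupp.tsub_apply] at h2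
      omega
    · rcases not_and_or.mp hq with hq | hq
      · simp [Nat.factorization_eq_zero_of_not_prime _ hq]
      · simp [Nat.factorization_eq_zero_of_not_dvd hq]
  · have h2 := Nat.factorization_eq_zero_of_not_dvd (hm' q (hmπ q hq hqm))
    rw [Nat.factorization_div hm, Finsupp.tsub_apply] at h2
    omega

end Cfsg.Agent.S4106
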