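import Cfsg.Statements.S4107
import Cfsg.Agent.CompLayer
import Cfsg.Agent.H1.CoprimeAction

set_option autoImplicit false
open Cfsg

namespace Cfsg.Agent.S4107

/-- Let G be a finite group and N a proper non-trivial normal subgroup such that for every x outside N all elements of the coset xN have the same order as x. Then N ≤ F(G) or F(G) ≤ N, where F(G) is the Fitting subgroup; and if N is properly contained in F(G) then F(G) has prime-power order. -/
theorem result {G : Type*} [Group G] [Finite G] (N : Subgroup G) [N.Normal] (hN1 : N ≠ ⊥) (hN2 : N ≠ ⊤)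
    (heq : ∀ x : G, x ∉ N → ∀ n ∈ N, orderOf (x * n) = orderOf x) :
    (N ≤ Cfsg.fittingSubgroup G ∨ Cfsg.fittingSubgroup G ≤ N) ∧
    (N < Cfsg.fittingSubgroup G → IsPrimePow (Nat.card (Cfsg.fittingSubgroup G))) := by
  classical
  have hcent : ∀ (p q : ℕ) [Fact p.Prime], q.Prime → q ≠ p → ∀ x : G, x ∉ N → (∃ k, orderOf x = p ^ k) →
      ∀ y ∈ N, x * y = y * x → (∃ j, orderOf y = q ^ j) → y = 1 := by
    intro p q _ hq hne x hx ⟨k, hk⟩ y hy hxy ⟨j, hj⟩
    have hco : (orderOf x).Coprime (orderOf y) := by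
      rw [hk, hj]; exact ((Nat.coprime_primes Fact.out hq).mpr (Ne.symm hne)).pow k j
    have h := heq x hx y hy
    rw [(show Commute x y from hxy).orderOf_mul_eq_mul_orderOf_of_coprime hco] at h
    rw [← orderOf_eq_one_iff]
    exact Nat.eq_of_mul_eq_mul_left (orderOf_pos x) (by rw [h, mul_one])
  by_cases hFN : Cfsg.fittingSubgroup G ≤ N
  · exact ⟨Or.inr hFN, fun h => absurd hFN (not_le_of_gt h)⟩
  have hP' : ∃ p : {p : ℕ // p.Prime}, ¬ Cfsg.pCore (p : ℕ) G ≤ N := by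
    by_contra h
    push Not at h
    exact hFN (by rw [Cfsg.Comp.fitting_eq_iSup_pCore]; exact iSup_le h)
  obtain ⟨⟨p, hp⟩, hP⟩ := hP'
  haveI := Fact.mk hp
  obtain ⟨x, hxP, hxN⟩ := SetLike.not_le_iff_exists.mp hP
  have hNp : IsPGroup p N := by
    rw [IsPGroup.iff_card]
    refine ⟨(Nat.card N).factorization p, Nat.eq_of_factorization_eq Nat.card_pos.ne' (pow_ne_zero _ hp.ne_zero) fun q => ?_⟩
    by_cases hqp : q = p
    · subst hqp; simp [hp.factorization_self]
    rw [hp.factorization_pow, Finsupp.single_eq_of_ne hqp]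
    by_contra hne
    have hq : q.Prime := Nat.prime_of_mem_primeFactors (Nat.support_factorization _ ▸ Finsupp.mem_support_iff.mpr hne)
    haveI := Fact.mk hq
    obtain ⟨Q⟩ : Nonempty (Sylow q N) := inferInstance
    set Q' := (Q : Subgroup N).map N.subtype with hQ'
    set P0 := Cfsg.pCore p G ⊓ N with hP0
    have hn0 : P0.Normal := by rw [hP0]; infer_instance
    have hco : (Nat.card P0).Coprime (Nat.card Q') := by
      obtain ⟨a, ha⟩ := IsPGroup.iff_card.mp ((Cfsg.Comp.pCore_isPGroup (G := G) p).to_le (inf_le_left : P0 ≤ _))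
      obtain ⟨b, hb⟩ := IsPGroup.iff_card.mp (Q.isPGroup'.map N.subtype)
      rw [ha, hb]; exact ((Nat.coprime_primes hp hq).mpr (Ne.symm hqp)).pow a b
    have hsol : Group.IsSolvable P0 ∨ Group.IsSolvable Q' := by
      haveI := ((Cfsg.Comp.pCore_isPGroup (G := G) p).to_le (inf_le_left : P0 ≤ _)).isNilpotent
      exact Or.inl inferInstance
    obtain ⟨c, hc, hxc⟩ := H1.exists_fixed_mem_coset (A := Q') (N := P0)
      (by rw [Subgroup.normalizer_eq_top_iff.mpr hn0]; exact le_top) hco hsol (k := x) (fun a ha => by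
        have haN : a ∈ N := by obtain ⟨w, -, rfl⟩ := ha; exact w.2
        refine ⟨(Cfsg.pCore p G).mul_mem ((Cfsg.pCore p G).inv_mem hxP) ((inferInstance : (Cfsg.pCore p G).Normal).conj_mem x hxP a), ?_⟩
        rw [show x⁻¹ * (a * x * a⁻¹) = (x⁻¹ * a * x) * a⁻¹ by group]
        exact N.mul_mem ((inferInstance : N.Normal).conj_mem' a haN x) (N.inv_mem haN))
    have hcP : c ∈ Cfsg.pCore p G := by simpa using mul_mem hxP hxc.1
    have hcN : c ∉ N := fun h => hxN (by
      have := N.mul_mem h (N.inv_mem hxc.2)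
      simpa using this)
    obtain ⟨k, hk⟩ := IsPGroup.iff_orderOf.mp (Cfsg.Comp.pCore_isPGroup (G := G) p) ⟨c, hcP⟩
    rw [Subgroup.orderOf_mk] at hk
    have hQ1 : ∀ w ∈ (Q : Subgroup N), w = 1 := by
      intro w hw
      obtain ⟨j, hj⟩ := IsPGroup.iff_orderOf.mp Q.isPGroup' ⟨w, hw⟩
      rw [Subgroup.orderOf_mk, ← Subgroup.orderOf_coe] at hj
      exact Subtype.ext (hcent p q hq hqp c hcN ⟨k, hk⟩ w w.2 (hc w ⟨w, hw, rfl⟩).symm ⟨j, hj⟩)
    have hQb : (Q : Subgroup N) = ⊥ := eq_bot_iff.mpr fun w hw => hQ1 w hw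
    have hd := Q.not_dvd_index
    rw [hQb, Subgroup.index_bot] at hd
    exact hd (Nat.dvd_of_factorization_pos hne)
  have hNF : N ≤ Cfsg.fittingSubgroup G :=
    (Cfsg.Comp.le_pCore inferInstance hNp).trans (Cfsg.Comp.pCore_le_fitting p)
  refine ⟨Or.inl hNF, fun _ => ?_⟩
  have hF : Cfsg.fittingSubgroup G ≤ Cfsg.pCore p G := by
    rw [Cfsg.Comp.fitting_eq_iSup_pCore]
    rintro y hy
    revert y
    refine iSup_le (α := Subgroup G) ?_
    rintro ⟨q, hq⟩
    haveI := Fact.mk hq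
    by_cases hqp : q = p
    · subst hqp; exact le_rfl
    intro y hy
    by_cases hy1 : y = 1
    · rw [hy1]; exact one_mem _
    exfalso
    obtain ⟨j, hj⟩ := IsPGroup.iff_orderOf.mp (Cfsg.Comp.pCore_isPGroup (G := G) q) ⟨y, hy⟩
    rw [Subgroup.orderOf_mk] at hj
    have hyN : y ∉ N := by
      intro h
      obtain ⟨i, hi⟩ := IsPGroup.iff_orderOf.mp hNp ⟨y, h⟩
      rw [Subgroup.orderOf_mk, hj] at hi
      rcases Nat.eq_zero_or_pos j with rfl | hj0
      · exact hy1 (orderOf_eq_one_iff.mp (hj.trans (pow_zero q)))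
      · exact hqp ((Nat.prime_dvd_prime_iff_eq hq hp).mp (hq.dvd_of_dvd_pow (hi ▸ dvd_pow_self q hj0.ne')))
    obtain ⟨w, hw, hw1⟩ : ∃ w ∈ N, w ≠ 1 := by
      by_contra h
      push Not at h
      exact hN1 ((Subgroup.eq_bot_iff_forall _).mpr h)
    obtain ⟨i, hi⟩ := IsPGroup.iff_orderOf.mp hNp ⟨w, hw⟩
    rw [Subgroup.orderOf_mk] at hi
    refine hw1 (hcent q p hp (Ne.symm hqp) y hyN ⟨j, hj⟩ w hw ?_ ⟨i, hi⟩)
    exact Cfsg.Comp.commute_of_commutator_eq_bot (Cfsg.Comp.commute_of_isPGroup_of_not_dvd (p := q) (H := Cfsg.pCore q G) (K := Cfsg.pCore p G)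
      (Cfsg.Comp.pCore_isPGroup q) (by
        obtain ⟨a, ha⟩ := IsPGroup.iff_card.mp (Cfsg.Comp.pCore_isPGroup (G := G) p)
        rw [ha]
        exact fun h => hqp ((Nat.prime_dvd_prime_iff_eq hq hp).mp (hq.dvd_of_dvd_pow h)))
      (Cfsg.Comp.le_normalizer_of_normal) (Cfsg.Comp.le_normalizer_of_normal)) hy (Cfsg.Comp.le_pCore inferInstance hNp hw)
  obtain ⟨m, hm⟩ := IsPGroup.iff_card.mp ((Cfsg.Comp.pCore_isPGroup (G := G) p).to_le hF)
  rw [isPrimePow_nat_iff]
  refine ⟨p, m, hp, ?_, hm.symm⟩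
  by_contra h0
  rw [show m = 0 by omega, pow_zero] at hm
  rw [Subgroup.eq_bot_of_card_eq _ hm] at hFN
  exact hFN bot_le

end Cfsg.Agent.S4107
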