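import Cfsg.Statements.S4108
import Cfsg.Agent.H2.FrobeniusBasic

set_option autoImplicit false
open Cfsg

namespace Cfsg.Agent.S4108

/-- Let G be a finite group, p a prime and N a proper non-trivial normal p-subgroup such that for every x outside N all elements of the coset xN have the same order as x. Then every non-trivial subgroup H of G of order prime to p acts fixed-point-freely on N: NH is a Frobenius group with complement H and kernel N. -/
theorem result {G : Type*} [Group G] [Finite G] (N : Subgroup G) [N.Normal] (hN1 : N ≠ ⊥) (hN2 : N ≠ ⊤)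
    (heq : ∀ x : G, x ∉ N → ∀ n ∈ N, orderOf (x * n) = orderOf x)
    (p : ℕ) [Fact p.Prime] (hNp : IsPGroup p N) :
    ∀ H : Subgroup G, H ≠ ⊥ → (Nat.card H).Coprime p →
      Cfsg.IsFrobeniusComplement (H.subgroupOf (N ⊔ H)) ∧ Cfsg.frobeniusKernel (H.subgroupOf (N ⊔ H)) = (N.subgroupOf (N ⊔ H) : Set ↥(N ⊔ H)) := by
  intro H hH1 hHp
  haveI : (N.subgroupOf (N ⊔ H)).Normal := inferInstance
  have hNcard : ∃ k, Nat.card N = p ^ k := IsPGroup.iff_card.mp hNp
  obtain ⟨k, hk⟩ := hNcard
  have hcop : (Nat.card H).Coprime (Nat.card N) := hk ▸ hHp.pow_right k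
  have hdisj : Disjoint N H := by
    rw [disjoint_iff]
    exact Subgroup.inf_eq_bot_of_coprime hcop.symm
  have hfpf : ∀ h ∈ H, h ≠ 1 → ∀ n ∈ N, n * h = h * n → n = 1 := by
    intro h hh hne n hn hc
    have hhN : h ∉ N := fun hN => hne (Subgroup.disjoint_def.mp hdisj hN hh)
    have h1 := heq h hhN n hn
    have hcop' : (orderOf h).Coprime (orderOf n) :=
      (hcop.coprime_dvd_left (Subgroup.orderOf_mk h hh ▸ orderOf_dvd_natCard _)).coprime_dvd_right
        (Subgroup.orderOf_mk n hn ▸ orderOf_dvd_natCard _)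
    rw [(show Commute h n from hc.symm).orderOf_mul_eq_mul_orderOf_of_coprime hcop',
      Nat.mul_eq_left (orderOf_pos h).ne'] at h1
    exact orderOf_eq_one_iff.mp h1
  have hc : Subgroup.IsComplement' (N.subgroupOf (N ⊔ H)) (H.subgroupOf (N ⊔ H)) := by
    refine Subgroup.isComplement'_of_card_mul_and_disjoint ?_ ?_
    · rw [Nat.card_congr (Subgroup.subgroupOfEquivOfLe le_sup_left).toEquiv,
        Nat.card_congr (Subgroup.subgroupOfEquivOfLe le_sup_right).toEquiv,
        ← Subgroup.card_mul_index (N.subgroupOf (N ⊔ H))]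
      congr 1
      · exact (Nat.card_congr (Subgroup.subgroupOfEquivOfLe le_sup_left).toEquiv).symm
      · rw [← Subgroup.relIndex, sup_comm, Subgroup.relIndex_sup_right,
          ← Subgroup.inf_relIndex_right, disjoint_iff.mp hdisj, Subgroup.relIndex_bot_left]
    · rw [Subgroup.disjoint_def]
      intro x hx hy
      exact Subtype.ext (Subgroup.disjoint_def.mp hdisj hx hy)
  have hK : N.subgroupOf (N ⊔ H) ≠ ⊥ := by
    rw [Ne, Subgroup.subgroupOf_eq_bot]
    exact fun h => hN1 (h.eq_bot_of_le le_sup_left)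
  have hH : H.subgroupOf (N ⊔ H) ≠ ⊥ := by
    rw [Ne, Subgroup.subgroupOf_eq_bot]
    exact fun h => hH1 (h.eq_bot_of_le le_sup_right)
  have hF := H2.frobenius_of_fpf hc hK hH (fun h hh hne => by
    rw [eq_bot_iff]
    rintro n ⟨hn, hnc⟩
    have hnc' := congrArg Subtype.val (Subgroup.mem_centralizer_singleton_iff.mp hnc)
    exact Subgroup.mem_bot.mpr (Subtype.ext
      (hfpf h hh (fun e => hne (Subtype.ext e)) n hn hnc')))
  exact ⟨hF, (H2.coe_eq_frobeniusKernel hc hF).symm⟩

end Cfsg.Agent.S4108
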