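import Cfsg.Statements.S4113
import Cfsg.Agent.H1.SchurZassenhausConj
import Mathlib

set_option autoImplicit false
open Cfsg
open Pointwise

namespace Cfsg.Agent.S4113

/-- Let G be a finite group, M ≤ N non-trivial proper normal subgroups, and H a subgroup with HM = G and H ∩ M = 1. Then every element of G outside N acts fixed-point-freely on M (C_G(x) ≤ N for every x ∈ M, x ≠ 1) if and only if H ∩ gHg⁻¹ ≤ H ∩ N for every g outside H, with H proper and non-trivial and H ∩ N proper in H. -/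
theorem result {G : Type*} [Group G] [Finite G] (N M : Subgroup G) [N.Normal] [M.Normal] (hMN : M ≤ N) (hM1 : M ≠ ⊥) (hN2 : N ≠ ⊤)
    (H : Subgroup G) (hHM : H ⊔ M = ⊤) (hHM' : H ⊓ M = ⊥) :
    (∀ x ∈ M, x ≠ 1 → Subgroup.centralizer ({x} : Set G) ≤ N) ↔
      (H ≠ ⊥ ∧ H ≠ ⊤ ∧ H ⊓ N < H ∧ ∀ g : G, g ∉ H → H ⊓ H.map (MulAut.conj g).toMonoidHom ≤ N) := by
  have key : ∀ {g h : G}, h ∈ H → g ∈ M → h * g = g * h → g ≠ 1 → (∀ g : G, g ∉ H →
      H ⊓ H.map (MulAut.conj g).toMonoidHom ≤ N) → h ∈ N := by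
    intro g h hh hg hc hg1 hint
    have hgH : g ∉ H := fun hgH => hg1 (by
      have : g ∈ H ⊓ M := ⟨hgH, hg⟩
      rwa [hHM', Subgroup.mem_bot] at this)
    refine hint g hgH ⟨hh, ⟨h, hh, ?_⟩⟩
    change g * h * g⁻¹ = h
    rw [← hc, mul_inv_cancel_right]
  have hdec : ∀ y : G, ∃ h ∈ H, h⁻¹ * y ∈ M := by
    intro y
    have hy : y ∈ H ⊔ M := hHM ▸ Subgroup.mem_top y
    rw [← SetLike.mem_coe, Subgroup.mul_normal] at hy
    obtain ⟨h, hh, m, hm, rfl⟩ := hy
    exact ⟨h, hh, by simpa using hm⟩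
  constructor
  · intro hcent
    refine ⟨?_, ?_, ?_, ?_⟩
    · rintro rfl
      rw [bot_sup_eq] at hHM
      exact hN2 (top_le_iff.mp (hHM ▸ hMN))
    · rintro rfl
      rw [top_inf_eq] at hHM'
      exact hM1 hHM'
    · refine lt_of_le_of_ne inf_le_left fun h => hN2 (top_le_iff.mp (hHM ▸ sup_le (inf_eq_left.mp h) hMN))
    · intro g hg x hx
      obtain ⟨hxH, h', hh', hhx⟩ := hx
      change g * h' * g⁻¹ = x at hhx
      obtain ⟨h₀, hh₀, hm⟩ := hdec g⁻¹
      set m := (h₀⁻¹ * g⁻¹)⁻¹ with hmdef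
      have hmM : m ∈ M := M.inv_mem hm
      have hg' : g = m * h₀⁻¹ := by rw [hmdef]; group
      have hm1 : m ≠ 1 := fun h => hg (by rw [hg', h, one_mul]; exact H.inv_mem hh₀)
      set k := h₀⁻¹ * h' * h₀
      have hk : k ∈ H := H.mul_mem (H.mul_mem (H.inv_mem hh₀) hh') hh₀
      have hxk : m * k * m⁻¹ = x := by rw [← hhx, hg']; simp only [k]; group
      have h1 : x * k⁻¹ = 1 := by
        have h2 : x * k⁻¹ ∈ H ⊓ M := by
          refine ⟨H.mul_mem hxH (H.inv_mem hk), ?_⟩
          rw [← hxk, show m * k * m⁻¹ * k⁻¹ = m * (k * m⁻¹ * k⁻¹) by group]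
          exact M.mul_mem hmM ((inferInstance : M.Normal).conj_mem _ (M.inv_mem hmM) k)
        rwa [hHM', Subgroup.mem_bot] at h2
      have hxk' : x = k := mul_inv_eq_one.mp h1
      refine hcent m hmM hm1 (Subgroup.mem_centralizer_singleton_iff.mpr ?_)
      rw [hxk'] at hxk ⊢
      calc k * m = m * k * m⁻¹ * m := by rw [hxk]
        _ = m * k := by group
  · rintro ⟨-, -, -, hint⟩ x hxM hx1 y hy
    rw [Subgroup.mem_centralizer_singleton_iff] at hy
    by_contra hyN
    -- a power of prime power order outside N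
    obtain ⟨p, hp, hpd⟩ := Nat.exists_prime_and_dvd
      (n := orderOf (QuotientGroup.mk y : G ⧸ N)) (fun h => hyN ((QuotientGroup.eq_one_iff y).mp
        (orderOf_eq_one_iff.mp h)))
    haveI := Fact.mk hp
    obtain ⟨a, b, hpb, hab⟩ := Nat.exists_eq_pow_mul_and_not_dvd (orderOf_pos y).ne' p hp.ne_one
    set z := y ^ b with hz
    have hzN : z ∉ N := by
      intro h
      rw [hz, ← QuotientGroup.eq_one_iff, QuotientGroup.mk_pow] at h
      exact hpb ((hpd.trans (orderOf_dvd_of_pow_eq_one h)))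
    have hzp : z ^ p ^ a = 1 := by rw [hz, ← pow_mul, mul_comm, ← hab, pow_orderOf_eq_one]
    have hzx : z * x = x * z := (Commute.pow_left (show Commute y x from hy) b).eq
    obtain ⟨h, hh, hm⟩ := hdec z
    have hhN : h ∉ N := fun h' => hzN (by
      have := N.mul_mem h' (hMN hm)
      rwa [mul_inv_cancel_left] at this)
    have hhp : h ^ p ^ a = 1 := by
      have h2 : h ^ p ^ a ∈ H ⊓ M := by
        refine ⟨H.pow_mem hh _, ?_⟩
        change h ^ p ^ a ∈ M
        rw [← QuotientGroup.eq_one_iff, QuotientGroup.mk_pow,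
          show (QuotientGroup.mk h : G ⧸ M) = QuotientGroup.mk z from QuotientGroup.eq.mpr hm,
          ← QuotientGroup.mk_pow, hzp, QuotientGroup.mk_one]
      rwa [hHM', Subgroup.mem_bot] at h2
    by_cases hpM : p ∣ Nat.card M
    · have hP : IsPGroup p (Subgroup.zpowers h) := by
        obtain ⟨j, -, hj⟩ := (Nat.dvd_prime_pow hp).mp (orderOf_dvd_of_pow_eq_one hhp)
        exact IsPGroup.of_card (n := j) (by rw [Nat.card_zpowers, hj])
      letI : MulAction (Subgroup.zpowers h) M :=
        MulAction.compHom M ((MulAut.conjNormal : G →* MulAut M).comp (Subgroup.zpowers h).subtype)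
      obtain ⟨m, hm', hm1⟩ := hP.exists_fixed_point_of_prime_dvd_card_of_fixed_point (α := M) hpM
        (a := 1) (fun s => map_one (MulAut.conjNormal (s : G) : MulAut M))
      have hfix := congrArg Subtype.val (hm' ⟨h, Subgroup.mem_zpowers h⟩)
      change ((MulAut.conjNormal h m : M) : G) = m at hfix
      rw [MulAut.conjNormal_apply] at hfix
      refine hhN (key hh m.2 ?_ (fun e => hm1.symm (Subtype.ext e)) hint)
      calc h * (m : G) = h * m * h⁻¹ * h := by group
        _ = m * h := by rw [hfix]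
    · obtain ⟨j, -, hj⟩ := (Nat.dvd_prime_pow hp).mp (orderOf_dvd_of_pow_eq_one hzp)
      obtain ⟨i, -, hi⟩ := (Nat.dvd_prime_pow hp).mp (orderOf_dvd_of_pow_eq_one hhp)
      have horder : orderOf z = orderOf h := by
        have e1 : (QuotientGroup.mk h : G ⧸ M) = QuotientGroup.mk z := QuotientGroup.eq.mpr hm
        have e2 : ∀ (w : G) (c : ℕ), orderOf w = p ^ c →
            orderOf (QuotientGroup.mk w : G ⧸ M) = orderOf w := by
          intro w c hw
          refine Nat.dvd_antisymm (orderOf_map_dvd (QuotientGroup.mk' M) w) ?_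
          set o := orderOf (QuotientGroup.mk w : G ⧸ M)
          have h3 : w ^ o ∈ M := (QuotientGroup.eq_one_iff _).mp (by
            rw [QuotientGroup.mk_pow]; exact pow_orderOf_eq_one _)
          have h4 : orderOf (w ^ o) = 1 := Nat.eq_one_of_dvd_coprimes
            (((hp.coprime_iff_not_dvd).mpr hpM).pow_left c) (hw ▸ orderOf_pow_dvd o)
            (Subgroup.orderOf_mk (w ^ o) h3 ▸ orderOf_dvd_natCard _)
          exact orderOf_dvd_of_pow_eq_one (orderOf_eq_one_iff.mp h4)
        rw [← e2 z j hj, ← e2 h i hi, e1]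
      haveI : Group.IsSolvable (Subgroup.zpowers h) := inferInstance
      obtain ⟨m₀, hm₀, hmz₀⟩ := H1.exists_conj_eq_of_coprime (D := M) (H := Subgroup.zpowers h)
        (K := Subgroup.zpowers z) (by rw [Subgroup.normalizer_eq_top]; exact le_top)
        (by rw [Nat.card_zpowers, hi]; exact (((hp.coprime_iff_not_dvd).mpr hpM).pow_left i).symm)
        (Or.inr inferInstance)
        (Subgroup.zpowers_le.mpr (by
          have : z = h * (h⁻¹ * z) := by group
          rw [this]
          exact Subgroup.mul_mem _ (Subgroup.mem_sup_right (Subgroup.mem_zpowers h))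
            (Subgroup.mem_sup_left hm)))
        (by rw [Nat.card_zpowers, Nat.card_zpowers, horder])
      obtain ⟨m, hm', hmz⟩ : ∃ m ∈ M,
          MulAut.conj m • Subgroup.zpowers z = Subgroup.zpowers h :=
        ⟨m₀⁻¹, M.inv_mem hm₀, by
          rw [← hmz₀, smul_smul, ← map_mul, inv_mul_cancel, map_one, one_smul]⟩
      have hk : m * z * m⁻¹ ∈ Subgroup.zpowers h := by
        have h1 := Subgroup.smul_mem_pointwise_smul z (MulAut.conj m) (Subgroup.zpowers z)
          (Subgroup.mem_zpowers z)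
        rw [hmz] at h1
        simpa [MulAut.smul_def, MulAut.conj_apply] using h1
      have hkH : m * z * m⁻¹ ∈ H := (Subgroup.zpowers_le.mpr hh) hk
      have hkN : m * z * m⁻¹ ∉ N := fun h' => hzN (by
        simpa [mul_assoc] using (inferInstance : N.Normal).conj_mem _ h' m⁻¹)
      refine hkN (key hkH ((inferInstance : M.Normal).conj_mem x hxM m) ?_ ?_ hint)
      · calc m * z * m⁻¹ * (m * x * m⁻¹) = m * (z * x) * m⁻¹ := by group
          _ = m * x * m⁻¹ * (m * z * m⁻¹) := by rw [hzx]; group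
      · intro e
        exact hx1 (by simpa [mul_assoc] using congrArg (fun t => m⁻¹ * t * m) e)

end Cfsg.Agent.S4113
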