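import Cfsg.Statements.S4115
import Cfsg.Agent.H5.TIHall

set_option autoImplicit false
universe u
open Cfsg

open scoped Pointwise

namespace Cfsg.Agent.S4115

/-- Let G be a finite group and H a subgroup that meets each of its conjugates by elements outside N_G(H) trivially and whose order is coprime to its index in N_G(H). Then H has a normal complement in N_G(H) if and only if H has a normal complement in G. Moreover, if H is not normal in G and has a normal complement in N_G(H), then H is isomorphic to a Frobenius complement of some finite Frobenius group. -/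
theorem result {G : Type u} [Group G] [Finite G] (H : Subgroup G)
    (hTI : Cfsg.IsTISubset (H : Set G)) (hHall : (Nat.card H).Coprime (H.subgroupOf (Subgroup.normalizer (H : Set G))).index) :
    ((∃ K : Subgroup (Subgroup.normalizer (H : Set G)), K.Normal ∧ K.IsComplement' (H.subgroupOf (Subgroup.normalizer (H : Set G)))) ↔
      (∃ N : Subgroup G, N.Normal ∧ N.IsComplement' H)) ∧
    (¬ H.Normal → (∃ K : Subgroup (Subgroup.normalizer (H : Set G)), K.Normal ∧ K.IsComplement' (H.subgroupOf (Subgroup.normalizer (H : Set G)))) →
      ∃ (F : Type u) (_ : Group F) (_ : Finite F) (C : Subgroup F), Cfsg.IsFrobeniusComplement C ∧ Nonempty (H ≃* C)) := by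
  have hH := H5.coprime_index_of_ti hTI hHall
  refine ⟨⟨H5.exists_complement_of_ti hTI hH, ?_⟩, ?_⟩
  · rintro ⟨N, hN, hc⟩
    refine ⟨N.subgroupOf (Subgroup.normalizer (H : Set G)), hN.subgroupOf _, ?_⟩
    have := hN
    refine Subgroup.isComplement'_of_disjoint_and_mul_eq_univ ?_ ?_
    · rw [Subgroup.disjoint_def]
      intro x hx hx'
      exact Subtype.ext (H2.complement_inf hc (Subgroup.mem_subgroupOf.mp hx)
        (Subgroup.mem_subgroupOf.mp hx'))
    · rw [Set.eq_univ_iff_forall]
      intro x
      obtain ⟨n, hn, h, hh, he⟩ := H2.complement_decomp hc (x : G)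
      have hhN : h ∈ Subgroup.normalizer (H : Set G) := Subgroup.le_normalizer hh
      have hnN : n ∈ Subgroup.normalizer (H : Set G) := by
        rw [show n = (x : G) * h⁻¹ by rw [he, mul_inv_cancel_right]]
        exact mul_mem x.2 (inv_mem hhN)
      exact ⟨⟨n, hnN⟩, Subgroup.mem_subgroupOf.mpr hn, ⟨h, hhN⟩, Subgroup.mem_subgroupOf.mpr hh,
        Subtype.ext he.symm⟩
  · intro hnn hK
    obtain ⟨N, hN, hc⟩ := H5.exists_complement_of_ti hTI hH hK
    have := hN
    exact H5.exists_frobenius_of_ti hc hTI hH hnn

end Cfsg.Agent.S4115
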