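import Cfsg.Agent.H60.Basic
import Mathlib.GroupTheory.SpecificGroups.ZGroup
import Cfsg.Statements.S4117
-- import your own Cfsg.Agent.* helpers here

set_option autoImplicit false
open Cfsg

namespace Cfsg.Agent.S4117

/-- Let A be a finite group acting on the finite group G by automorphisms with the orders of A and G coprime, and suppose every Sylow subgroup of G is cyclic. Then the fixed-point subgroup C_G(A) is a Hall subgroup of G (its order is coprime to its index), the subgroup [G, A] generated by the elements g⁻¹·a(g) is cyclic and normal with [G, A] ∩ C_G(A) = 1 and [G, A]·C_G(A) = G. -/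
theorem result {G A : Type*} [Group G] [Finite G] [Group A] [Finite A]
    [MulDistribMulAction A G] (hcop : (Nat.card A).Coprime (Nat.card G))
    (hcyc : ∀ (p : ℕ) [Fact p.Prime] (P : Sylow p G), IsCyclic (P : Subgroup G)) :
    (Nat.card (MulAction.fixedPoints A G : Set G)).Coprime (Nat.card G / Nat.card (MulAction.fixedPoints A G : Set G)) ∧
    IsCyclic (Subgroup.closure {y : G | ∃ (a : A) (g : G), y = g⁻¹ * a • g}) ∧
    (Subgroup.closure {y : G | ∃ (a : A) (g : G), y = g⁻¹ * a • g}).Normal ∧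
    (Subgroup.closure {y : G | ∃ (a : A) (g : G), y = g⁻¹ * a • g} : Set G) ∩ MulAction.fixedPoints A G = {1} ∧
    Subgroup.closure {y : G | ∃ (a : A) (g : G), y = g⁻¹ * a • g} ⊔ Subgroup.closure (MulAction.fixedPoints A G) = ⊤ := by
  classical
  haveI hZ : IsZGroup G := ⟨fun p hp P => @hcyc p ⟨hp⟩ P⟩
  haveI : Fintype A := Fintype.ofFinite A
  -- conjugation on a cyclic normal subgroup is a power map
  have hpow : ∀ (K : Subgroup G) [K.Normal], IsCyclic K → ∀ g : G, ∃ i : ℤ, ∀ z ∈ K,
      g * z * g⁻¹ = z ^ i := by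
    intro K _ hK g
    haveI := hK
    obtain ⟨i, hi⟩ := MonoidHom.map_cyclic ((MulAut.conjNormal g : MulAut K).toMonoidHom)
    exact ⟨i, fun z hz => congrArg Subtype.val (hi ⟨z, hz⟩)⟩
  set Z : Subgroup G := commutator G with hZdef
  haveI hZn : Z.Normal := inferInstanceAs (commutator G).Normal
  have hZc : IsCyclic Z := IsZGroup.isCyclic_commutator G
  set W : Subgroup G := Subgroup.centralizer (Z : Set G) with hW
  haveI hWn : W.Normal := by
    constructor
    intro x hx g
    rw [hW, Subgroup.mem_centralizer_iff] at hx ⊢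
    intro z hz
    have h := hx _ (hZn.conj_mem' z hz g)
    calc z * (g * x * g⁻¹) = g * ((g⁻¹ * z * g) * x) * g⁻¹ := by group
      _ = g * (x * (g⁻¹ * z * g)) * g⁻¹ := by rw [h]
      _ = g * x * g⁻¹ * z := by group
  haveI hWnil : Group.IsNilpotent W := by
    have hker : ∀ x y : W, x * y * x⁻¹ * y⁻¹ ∈ Subgroup.center W := by
      intro x y
      rw [Subgroup.mem_center_iff]
      intro w
      refine Subtype.ext ?_
      have h : ((x : G) * y * (x : G)⁻¹ * (y : G)⁻¹) ∈ (Z : Set G) :=
        Subgroup.commutator_mem_commutator (Subgroup.mem_top _) (Subgroup.mem_top _)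
      exact ((Subgroup.mem_centralizer_iff.mp w.2) _ h).symm
    letI : CommGroup (W ⧸ Subgroup.center W) :=
      { (inferInstance : Group (W ⧸ Subgroup.center W)) with
        mul_comm := by
          intro a b
          induction a using QuotientGroup.induction_on with
          | _ a =>
          induction b using QuotientGroup.induction_on with
          | _ b =>
          rw [← QuotientGroup.mk_mul, ← QuotientGroup.mk_mul, QuotientGroup.eq_iff_div_mem,
            div_eq_mul_inv, mul_inv_rev, ← mul_assoc]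
          simpa [mul_assoc] using hker a b }
    exact Group.of_quotient_center_nilpotent inferInstance
  have hWc : IsCyclic W := inferInstance
  -- the commutator subgroup
  set S : Set G := {y : G | ∃ (a : A) (g : G), y = g⁻¹ * a • g} with hS
  set D : Subgroup G := Subgroup.closure S with hD
  have hmemS : ∀ (a : A) (g : G), g⁻¹ * a • g ∈ D := fun a g =>
    Subgroup.subset_closure ⟨a, g, rfl⟩
  have hSW : D ≤ W := by
    rw [hD, Subgroup.closure_le]
    rintro _ ⟨a, g, rfl⟩
    show g⁻¹ * a • g ∈ W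
    rw [hW, Subgroup.mem_centralizer_iff]
    intro z hz
    obtain ⟨i, hi⟩ := hpow Z hZc g
    have haZ : ∀ b : A, ∀ u ∈ Z, b • u ∈ Z := by
      intro b u hu
      have hle : Z.map (MulDistribMulAction.toMonoidHom G b) ≤ Z := by
        rw [hZdef, commutator_def, Subgroup.map_commutator]
        exact Subgroup.commutator_mono le_top le_top
      exact hle ⟨u, hu, rfl⟩
    have h1 : (a • g) * z * (a • g)⁻¹ = g * z * g⁻¹ := by
      have h2 := congrArg (fun x => a • x) (hi (a⁻¹ • z) (haZ _ z hz))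
      simp only [smul_mul', smul_inv', smul_inv_smul, smul_pow', smul_zpow'] at h2
      rw [h2, hi z hz]
    calc z * (g⁻¹ * a • g) = g⁻¹ * (g * z * g⁻¹) * (a • g) := by group
      _ = g⁻¹ * ((a • g) * z * (a • g)⁻¹) * (a • g) := by rw [h1]
      _ = g⁻¹ * a • g * z := by group
  have hDc : IsCyclic D := Subgroup.isCyclic_of_le hSW
  haveI hDn : D.Normal := by
    refine ⟨fun x hx h => ?_⟩
    induction hx using Subgroup.closure_induction with
    | mem x hx =>
      obtain ⟨a, g, rfl⟩ := hx
      have : h * (g⁻¹ * a • g) * h⁻¹ = ((g * h⁻¹)⁻¹ * a • (g * h⁻¹)) * ((h⁻¹)⁻¹ * a • h⁻¹)⁻¹ := by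
        rw [smul_mul']; group
      rw [this]
      exact mul_mem (hmemS a _) (inv_mem (hmemS a _))
    | one => simp
    | mul x y _ _ hx hy =>
      have : h * (x * y) * h⁻¹ = (h * x * h⁻¹) * (h * y * h⁻¹) := by group
      rw [this]; exact mul_mem hx hy
    | inv x _ hx =>
      have : h * x⁻¹ * h⁻¹ = (h * x * h⁻¹)⁻¹ := by group
      rw [this]; exact inv_mem hx
  have hDA : ∀ (a : A), ∀ x ∈ D, a • x ∈ D := by
    intro a x hx
    have h := mul_mem hx (hmemS a x)
    rwa [mul_inv_cancel_left] at h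
  letI : CommGroup D :=
    { (inferInstance : Group D) with
      mul_comm := hDc.commGroup.mul_comm }
  let φ : A → D →* D := fun a =>
    { toFun := fun x => ⟨a • (x : G), hDA a x x.2⟩
      map_one' := Subtype.ext (smul_one a)
      map_mul' := fun x y => Subtype.ext (smul_mul' a (x : G) (y : G)) }
  have hφ : ∀ (a b : A) (x : D), φ a (φ b x) = φ (a * b) x := fun a b x =>
    Subtype.ext (mul_smul a b (x : G)).symm
  have hDdvd : Nat.card D ∣ Nat.card G := Subgroup.card_subgroup_dvd_card D
  have hcD : (Nat.card A).Coprime (Nat.card D) := hcop.coprime_dvd_right hDdvd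
  -- fixed point lifting
  have hfix : ∀ g : G, ∃ d ∈ D, g * d ∈ MulAction.fixedPoints A G := by
    intro g
    let c : A → D := fun a => ⟨g⁻¹ * a • g, hmemS a g⟩
    have hc : ∀ a b, c (a * b) = c a * φ a (c b) := by
      intro a b
      refine Subtype.ext ?_
      show g⁻¹ * (a * b) • g = (g⁻¹ * a • g) * a • (g⁻¹ * b • g)
      rw [smul_mul', smul_inv', mul_smul]; group
    set P : D := ∏ b : A, c b with hP
    obtain ⟨d, hd⟩ := (powCoprime hcD.symm).surjective P
    refine ⟨d, d.2, fun a => ?_⟩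
    have h1 : P = c a ^ Nat.card A * φ a P := by
      conv_lhs => rw [hP, ← Equiv.prod_comp (Equiv.mulLeft a) c]
      simp only [Equiv.coe_mulLeft, hc]
      rw [Finset.prod_mul_distrib, Finset.prod_const, Finset.card_univ,
        ← Nat.card_eq_fintype_card, hP, map_prod]
    change d ^ Nat.card A = P at hd
    rw [← hd, map_pow, ← mul_pow] at h1
    have h2 : d = c a * φ a d := (powCoprime hcD.symm).injective h1
    show a • (g * (d : G)) = g * d
    have h3 := congrArg Subtype.val h2
    simp only [Subgroup.coe_mul] at h3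
    change (d : G) = g⁻¹ * a • g * a • (d : G) at h3
    conv_rhs => rw [h3]
    rw [smul_mul']; group
  have hdisj : ∀ x ∈ D, x ∈ MulAction.fixedPoints A G → x = 1 := by
    let Nm : D →* D := ∏ b : A, φ b
    have hNm : ∀ x, Nm x = ∏ b : A, φ b x := fun x => MonoidHom.finsetProd_apply _ _ _
    have hDker : D ≤ Nm.ker.map D.subtype := by
      refine (Subgroup.closure_le _).mpr ?_
      rintro _ ⟨a, g, rfl⟩
      obtain ⟨d, hd, hfd⟩ := hfix g
      refine ⟨⟨g⁻¹ * a • g, hmemS a g⟩, ?_, rfl⟩
      have he : (⟨g⁻¹ * a • g, hmemS a g⟩ : D) = ⟨d, hd⟩ * (φ a ⟨d, hd⟩)⁻¹ := by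
        refine Subtype.ext ?_
        show g⁻¹ * a • g = d * (a • d)⁻¹
        have h := hfd a
        rw [smul_mul'] at h
        rw [eq_mul_inv_iff_mul_eq, mul_assoc, h, inv_mul_cancel_left]
      show Nm _ = 1
      rw [he, map_mul, map_inv, mul_inv_eq_one, hNm, hNm]
      conv_rhs => simp only [hφ]
      exact (Equiv.prod_comp (Equiv.mulRight a) (fun b => φ b ⟨d, hd⟩)).symm
    intro x hx hxf
    obtain ⟨y, hy, hyx⟩ := hDker hx
    have h1 : Nm y = y ^ Nat.card A := by
      rw [hNm, Finset.prod_congr rfl (fun b _ => show φ b y = y from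
        Subtype.ext (show b • (y : G) = y by
          rw [show (y : G) = x from hyx]; exact hxf b)),
        Finset.prod_const, Finset.card_univ, Nat.card_eq_fintype_card]
    have h2 : Nm y = 1 := hy
    have h3 : y = 1 := (powCoprime hcD.symm).injective (show y ^ Nat.card A = 1 ^ Nat.card A by
      rw [one_pow, ← h1, h2])
    rw [← hyx, h3]; rfl
  set C : Set G := MulAction.fixedPoints A G with hC
  have hCmul : ∀ x ∈ C, ∀ y ∈ C, x * y ∈ C := fun x hx y hy a => by rw [smul_mul', hx a, hy a]
  have hCinv : ∀ x ∈ C, x⁻¹ ∈ C := fun x hx a => by rw [smul_inv', hx a]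
  have hC1 : (1 : G) ∈ C := fun a => smul_one a
  let Cs : Subgroup G :=
    { carrier := C
      mul_mem' := fun {x y} hx hy => hCmul x hx y hy
      one_mem' := hC1
      inv_mem' := fun {x} hx => hCinv x hx }
  have hcard : Nat.card G = Nat.card C * Nat.card D := by
    rw [← Nat.card_prod]
    refine (Nat.card_congr (Equiv.ofBijective (fun z : C × D => (z.1 : G) * z.2) ⟨?_, ?_⟩)).symm
    · rintro ⟨⟨c₁, h₁⟩, ⟨d₁, e₁⟩⟩ ⟨⟨c₂, h₂⟩, ⟨d₂, e₂⟩⟩ h
      have hq : c₂⁻¹ * c₁ = d₂ * d₁⁻¹ := by
        have h' : c₁ * d₁ = c₂ * d₂ := h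
        rw [eq_mul_inv_iff_mul_eq, mul_assoc, h', inv_mul_cancel_left]
      have h1 : c₂⁻¹ * c₁ = 1 :=
        hdisj _ (hq ▸ mul_mem e₂ (inv_mem e₁)) (hCmul _ (hCinv _ h₂) _ h₁)
      have hc12 : c₁ = c₂ := (inv_mul_eq_one.mp h1).symm
      subst hc12
      simp only at h
      rw [mul_right_inj] at h
      subst h
      rfl
    · intro g
      obtain ⟨d, hd, hf⟩ := hfix g
      exact ⟨(⟨g * d, hf⟩, ⟨d⁻¹, inv_mem hd⟩), mul_inv_cancel_right g d⟩
  refine ⟨?_, hDc, hDn, ?_, ?_⟩
  · rw [hcard, Nat.mul_div_cancel_left _ (Nat.pos_of_ne_zero fun h0 => by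
      rw [h0, zero_mul] at hcard; exact absurd hcard Nat.card_pos.ne')]
    refine Nat.coprime_of_dvd fun p hp hpC hpD => ?_
    haveI := Fact.mk hp
    obtain ⟨c, hc⟩ := exists_prime_orderOf_dvd_card' (G := Cs) p hpC
    obtain ⟨d, hd⟩ := exists_prime_orderOf_dvd_card' (G := D) p hpD
    rw [← Subgroup.orderOf_coe] at hc hd
    have hzp : ∀ x : G, orderOf x = p → IsPGroup p (Subgroup.zpowers x) := fun x hx =>
      IsPGroup.of_card (n := 1) (by rw [Nat.card_zpowers, hx, pow_one])
    obtain ⟨P, hP⟩ := (hzp _ hd).exists_le_sylow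
    obtain ⟨Q, hQ⟩ := (hzp _ hc).exists_le_sylow
    obtain ⟨g, hg⟩ := MulAction.exists_smul_eq G Q P
    have hdP : (d : G) ∈ (P : Subgroup G) := hP (Subgroup.mem_zpowers _)
    have hcP : g * (c : G) * g⁻¹ ∈ (P : Subgroup G) := by
      rw [← hg]
      exact Subgroup.smul_mem_pointwise_smul _ (MulAut.conj g) _ (hQ (Subgroup.mem_zpowers _))
    haveI := @hcyc p ⟨hp⟩ P
    have h1 := H60.mem_zpowers_of_pow_orderOf_eq_one (C := (P : Subgroup G)) inferInstance
      ⟨d, hdP⟩ ⟨_, hcP⟩ (Subtype.ext (by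
        rw [Subgroup.orderOf_mk, hd]
        show (g * (c : G) * g⁻¹) ^ p = 1
        rw [conj_pow, ← hc, pow_orderOf_eq_one, mul_one, mul_inv_cancel]))
    obtain ⟨k, hk⟩ := Subgroup.mem_zpowers_iff.mp h1
    have h2 : g * (c : G) * g⁻¹ ∈ D := by
      have h3 := congrArg Subtype.val hk
      simp only [Subgroup.coe_zpow] at h3
      rw [← h3]
      exact zpow_mem d.2 k
    have h4 : (c : G) ∈ D := by
      have h5 := hDn.conj_mem' _ h2 g
      simpa [mul_assoc] using h5
    rw [hdisj _ h4 c.2, orderOf_one] at hc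
    exact hp.one_lt.ne hc
  · ext x
    constructor
    · rintro ⟨hx1, hx2⟩
      exact hdisj x hx1 hx2
    · rintro rfl
      exact ⟨one_mem D, hC1⟩
  · rw [eq_top_iff]
    intro g _
    obtain ⟨d, hd, hf⟩ := hfix g
    have h := mul_mem (Subgroup.mem_sup_right (S := D) (Subgroup.subset_closure hf))
      (Subgroup.mem_sup_left (T := Subgroup.closure C) (inv_mem hd))
    rwa [mul_inv_cancel_right] at h

end Cfsg.Agent.S4117
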