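import Cfsg.Statements.S4125
import Cfsg.Agent.H34.QBaer

set_option autoImplicit false
open Cfsg

namespace Cfsg.Agent.S4125

/-- Let G be a finite group and q a prime dividing its order such that every element of q-power order has a conjugacy class of prime-power size. Then G is q-solvable of q-length 1: there are normal subgroups K ≤ L of G with K of order prime to q, L/K a q-group and L of index prime to q. Moreover there is a prime p such that every element of q-power order has a class of p-power size (one prime serving for all of them), and for a Sylow q-subgroup Q: if p = q then Q is normal with a normal complement (a direct factor), while if p ≠ q then Q is abelian, the product of Q with the largest normal p-subgroup O_p(G) is normal in G, and G/O_{q'}(G) is solvable, where O_{q'}(G) is the largest normal subgroup of order prime to q. -/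
theorem result {G : Type*} [Group G] [Finite G] (q : ℕ) [Fact q.Prime] (hq : q ∣ Nat.card G)
    (hBaer : ∀ x : G, (∃ k : ℕ, orderOf x = q ^ k) → ∃ (r : ℕ) (a : ℕ), r.Prime ∧ (Subgroup.centralizer ({x} : Set G)).index = r ^ a) (Q : Sylow q G) :
    (∃ K L : Subgroup G, K.Normal ∧ L.Normal ∧ K ≤ L ∧ (Nat.card K).Coprime q ∧ (∃ m : ℕ, K.relIndex L = q ^ m) ∧ L.index.Coprime q) ∧
    ∃ p : ℕ, p.Prime ∧ (∀ x : G, (∃ k : ℕ, orderOf x = q ^ k) → ∃ a : ℕ, (Subgroup.centralizer ({x} : Set G)).index = p ^ a) ∧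
      (p = q → (Q : Subgroup G).Normal ∧ ∃ N : Subgroup G, N.Normal ∧ N.IsComplement' (Q : Subgroup G)) ∧
      (p ≠ q → IsMulCommutative (Q : Subgroup G) ∧ (Cfsg.pCore p G ⊔ (Q : Subgroup G)).Normal ∧
        ∀ _h : (Cfsg.pPrimeCore q G).Normal, Group.IsSolvable (G ⧸ Cfsg.pPrimeCore q G)) := by
  classical
  haveI hqp : Fact q.Prime := inferInstance
  have hB : H34.QBaer.Baer q G := hBaer
  have hcop : (Q : Subgroup G).index.Coprime q :=
    ((Fact.out : q.Prime).coprime_iff_not_dvd.2 Q.not_dvd_index).symm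
  obtain ⟨m, hm⟩ := IsPGroup.iff_card.1 Q.isPGroup'
  by_cases hI : ∀ x ∈ Q, ¬ q ∣ (Subgroup.centralizer ({x} : Set G)).index
  · rcases H34.QBaer.exists_prime hB Q hI with hcen | ⟨p, hp, hpq, hP⟩
    · -- central Sylow subgroup
      haveI hQn : (Q : Subgroup G).Normal := ⟨fun x hx g => by
        rwa [Subgroup.mem_center_iff.1 (hcen x hx) g, mul_inv_cancel_right]⟩
      obtain ⟨P', N, hNn, hN⟩ := H27.hasNormalPComplement_of_normalizer_le Q (fun g _ =>
        Subgroup.mem_centralizer_iff.2 fun x hx => (Subgroup.mem_center_iff.1 (hcen x hx) g).symm)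
      letI := Sylow.unique_of_normal Q hQn
      rw [Subsingleton.elim P' Q] at hN
      refine ⟨⟨⊥, Q, inferInstance, hQn, bot_le, by simp, ⟨m, by
        rw [Subgroup.relIndex_bot_left, hm]⟩, hcop⟩, q, Fact.out, fun x hx => ?_, fun _ =>
        ⟨hQn, N, hNn, hN⟩, fun h => absurd rfl h⟩
      obtain ⟨g, hg⟩ := H34.QBaer.exists_conj_mem Q hx
      refine ⟨0, ?_⟩
      rw [← H27.index_cent_conj g x, pow_zero, H27.index_cent_eq_one_iff]
      exact hcen _ hg
    · haveI := H1.pCore_normal' p G
      have hn := H34.QBaer.sup_normal hp hP Q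
      refine ⟨⟨Cfsg.pCore p G, Cfsg.pCore p G ⊔ (Q : Subgroup G), inferInstance, hn, le_sup_left,
        H34.QBaer.pCore_coprime hp hpq, ?_,
        Nat.Coprime.coprime_dvd_left (Subgroup.index_dvd_of_le le_sup_right) hcop⟩,
        p, hp, hP, fun h => absurd h hpq, fun _ => ⟨H34.QBaer.sylow_comm hp hpq hP Q, hn, fun h' =>
          @H34.QBaer.isSolvable_quotient G _ _ q _ p hp hpq hP Q h'⟩⟩
      rw [sup_comm, Subgroup.relIndex_sup_right]
      obtain ⟨i, -, hi⟩ := (Nat.dvd_prime_pow (Fact.out : q.Prime)).1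
        (hm ▸ (Subgroup.index_dvd_card ((Cfsg.pCore p G).subgroupOf (Q : Subgroup G))))
      exact ⟨i, hi⟩
  · push Not at hI
    obtain ⟨y, hyQ, hy⟩ := hI
    obtain ⟨hQn, N, hNn, hN, hNC⟩ := H34.QBaer.direct_factor hB Q hyQ hy
    refine ⟨⟨⊥, Q, inferInstance, hQn, bot_le, by simp, ⟨m, by
      rw [Subgroup.relIndex_bot_left, hm]⟩, hcop⟩, q, Fact.out, fun x hx => ?_, fun _ =>
      ⟨hQn, N, hNn, hN⟩, fun h => absurd rfl h⟩
    obtain ⟨g, hg⟩ := H34.QBaer.exists_conj_mem Q hx
    rw [← H27.index_cent_conj g x]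
    obtain ⟨i, -, hi⟩ := (Nat.dvd_prime_pow (Fact.out : q.Prime)).1
      (((Subgroup.index_dvd_of_le (hNC _ hg)).trans (dvd_of_eq (hN.symm.index_eq_card.trans hm))))
    exact ⟨i, hi⟩

end Cfsg.Agent.S4125
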