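import Cfsg.Statements.S4133
import Cfsg.Agent.H29.TwoComplement
import Cfsg.Agent.H5.AbelianHall
import Cfsg.Agent.H27.ConjUnion
-- import your own Cfsg.Agent.* helpers here

set_option autoImplicit false
open Cfsg

namespace Cfsg.Agent.S4133

open Subgroup

section

variable {G : Type*} [Group G] [Finite G]

/-- A perfect finite group with abelian Sylow subgroups has trivial centre. -/
theorem center_eq_bot_of_perfect
    (hA : ∀ (p : ℕ) [Fact p.Prime] (P : Sylow p G), IsMulCommutative (P : Subgroup G))
    (hperf : commutator G = ⊤) : center G = ⊥ := by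
  rw [eq_bot_iff]
  intro z hz
  by_contra hz1
  obtain ⟨p, hp, hdvd⟩ := Nat.exists_prime_and_dvd
    (fun h : orderOf z = 1 => hz1 (mem_bot.2 (orderOf_eq_one_iff.1 h)))
  haveI : Fact p.Prime := ⟨hp⟩
  set z' := z ^ (orderOf z / p) with hz'
  have ho : orderOf z' = p := orderOf_pow_orderOf_div (orderOf_pos z).ne' hdvd
  obtain ⟨P, hP⟩ := (IsPGroup.of_card (p := p) (G := zpowers z') (n := 1)
    (by rw [Nat.card_zpowers, ho, pow_one])).exists_le_sylow
  haveI := hA p P
  have hcop : Nat.Coprime (Nat.card (P : Subgroup G)) (P : Subgroup G).index := by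
    obtain ⟨j, hj⟩ := IsPGroup.iff_card.1 P.isPGroup'
    rw [hj]
    exact Nat.Coprime.pow_left j (hp.coprime_iff_not_dvd.2 P.not_dvd_index)
  have h : z' ∈ (P : Subgroup G) ⊓ commutator G ⊓ center G :=
    ⟨⟨hP (mem_zpowers z'), hperf ▸ mem_top _⟩, pow_mem hz _⟩
  rw [H5.inf_commutator_center_eq_bot _ hcop, mem_bot] at h
  rw [h, orderOf_one] at ho
  exact hp.ne_one ho.symm

end

/-- Let G be a finite group all of whose Sylow subgroups are abelian, and let 2^a be the largest power of 2 dividing the size of any conjugacy class of G. If some element has a conjugacy class of size exactly 2^a, then G is solvable. -/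
theorem result {G : Type*} [Group G] [Finite G]
    (hA : ∀ (p : ℕ) [Fact p.Prime] (P : Sylow p G), IsMulCommutative (P : Subgroup G))
    (a : ℕ) (hmax : ∀ y : G, ¬ 2 ^ (a + 1) ∣ (Subgroup.centralizer ({y} : Set G)).index) (hx : ∃ x : G, (Subgroup.centralizer ({x} : Set G)).index = 2 ^ a) :
    Group.IsSolvable G := by
  classical
  haveI : Fact (Nat.Prime 2) := ⟨Nat.prime_two⟩
  obtain ⟨x, hx⟩ := hx
  set C := centralizer ({x} : Set G) with hC
  obtain ⟨Q⟩ : Nonempty (Sylow 2 C) := inferInstance
  obtain ⟨S, hQS⟩ := (IsPGroup.map Q.isPGroup' C.subtype).exists_le_sylow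
  haveI := hA 2 S
  have hQcard : Nat.card ((Q : Subgroup C).map C.subtype) = 2 ^ (Nat.card C).factorization 2 := by
    rw [card_map_of_injective Subtype.coe_injective, Q.card_eq_multiplicity]
  -- S covers the cosets of C
  have hcover : ∀ g : G, ∃ c ∈ C, ∃ s ∈ (S : Subgroup G), g = c * s := by
    have hcard : Nat.card (S : Subgroup G) = 2 ^ ((Nat.card C).factorization 2 + a) := by
      rw [S.card_eq_multiplicity]
      congr 1
      rw [← C.card_mul_index, hx, Nat.factorization_mul Nat.card_pos.ne' (by positivity),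
        Finsupp.add_apply, Nat.Prime.factorization_pow Nat.prime_two, Finsupp.single_eq_same]
    have hinter : C.subgroupOf (S : Subgroup G) = ((Q : Subgroup C).map C.subtype).subgroupOf (S : Subgroup G) := by
      have h1 : C ⊓ (S : Subgroup G) = (Q : Subgroup C).map C.subtype := by
        refine le_antisymm ?_ (le_inf (map_subtype_le _) hQS)
        have hP : IsPGroup 2 (((S : Subgroup G).subgroupOf C)) :=
          S.isPGroup'.comap_of_injective C.subtype Subtype.coe_injective
        have hle : (Q : Subgroup C) ≤ (S : Subgroup G).subgroupOf C := fun q hq =>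
          mem_subgroupOf.2 (hQS (mem_map_of_mem _ hq))
        intro y hy
        obtain ⟨hy1, hy2⟩ := hy
        exact ⟨⟨y, hy1⟩, (Q.is_maximal' hP hle).le (mem_subgroupOf.2 hy2), rfl⟩
      rw [← h1, inf_subgroupOf_right]
    have hidx : C.relIndex (S : Subgroup G) = 2 ^ a := by
      have h1 := ((C.subgroupOf (S : Subgroup G))).card_mul_index
      rw [hcard] at h1
      have h2 : Nat.card (C.subgroupOf (S : Subgroup G)) = 2 ^ (Nat.card C).factorization 2 := by
        rw [hinter, Nat.card_congr (subgroupOfEquivOfLe hQS).toEquiv, hQcard]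
      rw [h2, pow_add] at h1
      exact Nat.eq_of_mul_eq_mul_left (by positivity) h1
    intro g
    let f : (S : Subgroup G) ⧸ C.subgroupOf (S : Subgroup G) → G ⧸ C :=
      Quotient.map' Subtype.val fun u v h => by
        rw [QuotientGroup.leftRel_apply, mem_subgroupOf] at h
        rw [QuotientGroup.leftRel_apply]
        simpa using h
    have hf : Function.Injective f := by
      intro u v
      induction u using Quotient.inductionOn' with
      | h u =>
        induction v using Quotient.inductionOn' with
        | h v =>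
          intro h
          simp only [f, Quotient.map'_mk''] at h
          have h' := Quotient.exact' h
          rw [QuotientGroup.leftRel_apply] at h'
          apply Quotient.sound'
          rw [QuotientGroup.leftRel_apply, mem_subgroupOf]
          simpa using h'
    have hbij : Function.Bijective f := (Nat.bijective_iff_injective_and_card f).2 ⟨hf, by
      rw [← index_eq_card, ← index_eq_card]
      exact hidx.trans hx.symm⟩
    obtain ⟨u, hu⟩ := hbij.2 (QuotientGroup.mk g⁻¹)
    induction u using Quotient.inductionOn' with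
    | h s =>
      have h' : (QuotientGroup.mk (s : G) : G ⧸ C) = QuotientGroup.mk g⁻¹ := hu
      refine ⟨((s : G)⁻¹ * g⁻¹)⁻¹, C.inv_mem (QuotientGroup.eq.1 h'), (s : G)⁻¹, inv_mem s.2, ?_⟩
      group
  set K := C.normalCore with hK
  have hQK : (Q : Subgroup C).map C.subtype ≤ K := by
    intro q hq b
    obtain ⟨c, hc, s, hs, rfl⟩ := hcover b
    have h1 : s * q = q * s :=
      congrArg Subtype.val (mul_comm' (⟨s, hs⟩ : (S : Subgroup G)) ⟨q, hQS hq⟩)
    have h2 : c * s * q * (c * s)⁻¹ = c * q * c⁻¹ := by
      rw [mul_assoc c s q, h1]; group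
    rw [h2]
    exact C.mul_mem (C.mul_mem hc (map_subtype_le _ hq)) (C.inv_mem hc)
  have hKC : K ≤ C := normalCore_le C
  set D := C.map (QuotientGroup.mk' K) with hD
  have hDodd : Odd (Nat.card D) := by
    have h1 : Nat.card D = K.relIndex C := by
      rw [← relIndex_bot_left D, hD, ← map_bot (QuotientGroup.mk' K),
        relIndex_map_map, QuotientGroup.ker_mk', bot_sup_eq, sup_of_le_left hKC]
    rw [h1]
    have h2 : K.relIndex C ∣ ((Q : Subgroup C).map C.subtype).relIndex C :=
      relIndex_dvd_of_le_left C hQK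
    have h3 : ((Q : Subgroup C).map C.subtype).relIndex C = (Q : Subgroup C).index := by
      rw [relIndex, subgroupOf, comap_map_eq_self_of_injective Subtype.coe_injective]
    rw [h3] at h2
    exact Odd.of_dvd_nat (Nat.odd_iff.2 (Nat.two_dvd_ne_zero.1 Q.not_dvd_index)) h2
  have hQsol : Group.IsSolvable (G ⧸ K) := by
    refine H29.isSolvable_of_odd_twoPowIndex D hDodd ⟨a, ?_⟩ (H29.sylow_comm_quotient (hA 2) K)
    rw [hD, index_map_eq _ (QuotientGroup.mk'_surjective K) (by rwa [QuotientGroup.ker_mk']), hx]
  by_contra hns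
  -- the perfect residual
  obtain ⟨n, hn⟩ := (Group.isSolvable_def (G ⧸ K)).1 hQsol
  have hEK : ∀ m, n ≤ m → derivedSeries G m ≤ K := by
    intro m hm
    have h1 : (derivedSeries G n).map (QuotientGroup.mk' K) ≤ ⊥ := by
      rw [← hn]; exact map_derivedSeries_le_derivedSeries _ n
    rw [le_bot_iff, Subgroup.map_eq_bot_iff, QuotientGroup.ker_mk'] at h1
    exact (derivedSeries_antitone G hm).trans h1
  obtain ⟨m, hm, hmfix⟩ : ∃ m, n ≤ m ∧ derivedSeries G (m + 1) = derivedSeries G m := by
    by_contra hno
    push_neg at hno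
    have key : ∀ i, Nat.card (derivedSeries G (n + i)) + i ≤ Nat.card (derivedSeries G n) := by
      intro i
      induction i with
      | zero => simp
      | succ i ih =>
        have hlt : derivedSeries G (n + i + 1) < derivedSeries G (n + i) :=
          lt_of_le_of_ne (derivedSeries_antitone G (Nat.le_succ _)) (hno _ (Nat.le_add_right _ _))
        have h2 : Nat.card (derivedSeries G (n + i + 1)) < Nat.card (derivedSeries G (n + i)) :=
          lt_of_le_of_ne (card_le_of_le hlt.le) fun h =>
            hlt.ne (eq_of_le_of_card_ge hlt.le h.ge)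
        rw [← add_assoc n i 1]
        omega
    have := key (Nat.card (derivedSeries G n) + 1)
    omega
  set E := derivedSeries G m with hE
  haveI hEn : E.Normal := derivedSeries_normal G m
  have hEC : E ≤ C := (hEK m hm).trans hKC
  have hperf : commutator E = ⊤ := by
    apply map_injective E.subtype_injective
    rw [commutator_def, map_commutator, ← MonoidHom.range_eq_map, range_subtype]
    rw [derivedSeries_succ] at hmfix
    exact hmfix
  have hEab : ∀ (p : ℕ) [Fact p.Prime] (P : Sylow p E), IsMulCommutative (P : Subgroup E) := by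
    intro p _ P
    obtain ⟨S', hS'⟩ := (IsPGroup.map P.isPGroup' E.subtype).exists_le_sylow
    refine ⟨⟨fun u v => Subtype.ext (Subtype.ext ?_)⟩⟩
    haveI := hA p S'
    have h1 := congrArg Subtype.val (mul_comm' (⟨_, hS' (mem_map_of_mem _ u.2)⟩ : (S' : Subgroup G))
      ⟨_, hS' (mem_map_of_mem _ v.2)⟩)
    simpa using h1
  have hZE := center_eq_bot_of_perfect hEab hperf
  -- E centralises every conjugate of x
  have hEconj : ∀ (g : G) (y : G), y ∈ E → Commute (g * x * g⁻¹) y := by
    intro g y hy
    have h1 := mem_centralizer_singleton_iff.1 (hEC (hEn.conj_mem y hy g⁻¹))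
    show g * x * g⁻¹ * y = y * (g * x * g⁻¹)
    calc g * x * g⁻¹ * y = g * (x * (g⁻¹ * y * g⁻¹⁻¹)) * g⁻¹ := by group
      _ = g * (g⁻¹ * y * g⁻¹⁻¹ * x) * g⁻¹ := by rw [h1]
      _ = y * (g * x * g⁻¹) := by group
  -- every element of E centralises a Sylow 2-subgroup of E
  have hodd : ∀ y : E, ¬ 2 ∣ (centralizer ({y} : Set E)).index := by
    intro y
    have hle : centralizer ({x * (y : G)} : Set G) ≤ C ⊓ centralizer ({(y : G)} : Set G) := by
      intro g hg
      rw [mem_centralizer_singleton_iff] at hg
      have h1 : g * x * g⁻¹ * (g * (y : G) * g⁻¹) = x * y := by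
        calc g * x * g⁻¹ * (g * (y : G) * g⁻¹) = g * (x * y) * g⁻¹ := by group
          _ = x * y := by rw [hg]; group
      set t := x⁻¹ * (g * x * g⁻¹) with ht
      have hty : t = (y : G) * (g * (y : G) * g⁻¹)⁻¹ := by
        rw [ht, eq_mul_inv_iff_mul_eq, mul_assoc, h1]; group
      have htE : t ∈ E := hty ▸ E.mul_mem y.2 (E.inv_mem (hEn.conj_mem _ y.2 g))
      have htc : (⟨t, htE⟩ : E) ∈ center E := by
        rw [mem_center_iff]
        intro w
        apply Subtype.ext
        have h2 : Commute (g * x * g⁻¹) (w : G) := hEconj g _ w.2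
        have h3 : Commute x (w : G) := (mem_centralizer_singleton_iff.1 (hEC w.2)).symm
        exact (h3.inv_left.mul_left h2).symm
      rw [hZE, mem_bot] at htc
      have ht1 : t = 1 := congrArg Subtype.val htc
      have hgx : g * x * g⁻¹ = x := by rw [ht, inv_mul_eq_one] at ht1; exact ht1.symm
      rw [hgx] at h1
      refine ⟨mem_centralizer_singleton_iff.2 (mul_inv_eq_iff_eq_mul.1 hgx),
        mem_centralizer_singleton_iff.2 (mul_inv_eq_iff_eq_mul.1 (mul_left_cancel h1))⟩
    have hdvd := index_dvd_of_le hle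
    have hprod : (C ⊓ centralizer ({(y : G)} : Set G)).index
        = (centralizer ({(y : G)} : Set G)).relIndex C * 2 ^ a := by
      rw [← hx, ← inf_relIndex_left, relIndex_mul_index inf_le_left]
    have hge : C ⊓ centralizer ({(y : G)} : Set G) ≤ centralizer ({x * (y : G)} : Set G) := by
      rintro g ⟨hgx, hgy⟩
      exact mem_centralizer_singleton_iff.2
        (Commute.mul_right (mem_centralizer_singleton_iff.1 hgx) (mem_centralizer_singleton_iff.1 hgy))
    have heq := le_antisymm hle hge
    have h2 : ¬ 2 ∣ (centralizer ({(y : G)} : Set G)).relIndex C := by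
      intro h
      apply hmax (x * (y : G))
      rw [heq, hprod, pow_succ, mul_comm (2 ^ a) 2]
      exact mul_dvd_mul_right h _
    intro h
    apply h2
    refine h.trans ?_
    haveI : (E.subgroupOf C).Normal := hEn.subgroupOf C
    have h3 := H18.relIndex_dvd_index_of_normal' ((centralizer ({(y : G)} : Set G)).subgroupOf C) (E.subgroupOf C)
    rw [relIndex_subgroupOf hEC] at h3
    have h4 : centralizer ({y} : Set E) = (centralizer ({(y : G)} : Set G)).subgroupOf E := by
      ext w
      rw [mem_subgroupOf, mem_centralizer_singleton_iff, mem_centralizer_singleton_iff, Subtype.ext_iff]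
      rfl
    rw [h4]
    exact h3
  obtain ⟨Q₀⟩ : Nonempty (Sylow 2 E) := inferInstance
  have htop : centralizer ((Q₀ : Subgroup E) : Set E) = ⊤ := by
    refine H27.eq_top_of_forall_conj_mem _ fun y => ?_
    obtain ⟨P⟩ : Nonempty (Sylow 2 (centralizer ({y} : Set E))) := inferInstance
    obtain ⟨P', hP'⟩ := (IsPGroup.map P.isPGroup' (centralizer ({y} : Set E)).subtype).exists_le_sylow
    have hcardP : Nat.card (P : Subgroup (centralizer ({y} : Set E))) = Nat.card (P' : Subgroup E) := by
      rw [P.card_eq_multiplicity, P'.card_eq_multiplicity]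
      congr 1
      rw [← (centralizer ({y} : Set E)).card_mul_index,
        Nat.factorization_mul Nat.card_pos.ne' index_ne_zero_of_finite, Finsupp.add_apply,
        Nat.factorization_eq_zero_of_not_dvd (hodd y)]
      simp
    have heq : (P : Subgroup (centralizer ({y} : Set E))).map (centralizer ({y} : Set E)).subtype = (P' : Subgroup E) :=
      eq_of_le_of_card_ge hP' (by rw [card_map_of_injective Subtype.coe_injective, hcardP])
    obtain ⟨g, hg⟩ := MulAction.exists_smul_eq E Q₀ P'
    refine ⟨g, mem_centralizer_iff.2 fun q hq => ?_⟩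
    have h1 : g * q * g⁻¹ ∈ (P' : Subgroup E) := by
      rw [← hg]
      exact Subgroup.smul_mem_pointwise_smul q (MulAut.conj g) _ hq
    rw [← heq] at h1
    have h2 := mem_centralizer_singleton_iff.1 (map_subtype_le _ h1)
    calc q * (g⁻¹ * y * g) = g⁻¹ * (g * q * g⁻¹ * y) * g := by group
      _ = g⁻¹ * (y * (g * q * g⁻¹)) * g := by rw [h2]
      _ = g⁻¹ * y * g * q := by group
  have hQ0 : (Q₀ : Subgroup E) = ⊥ := by
    rw [eq_bot_iff, ← hZE]
    intro q hq
    exact mem_center_iff.2 fun w =>
      (mem_centralizer_iff.1 (htop ▸ mem_top w : w ∈ centralizer ((Q₀ : Subgroup E) : Set E)) q hq).symm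
  have hEodd : Odd (Nat.card E) := by
    refine Nat.odd_iff.2 (Nat.two_dvd_ne_zero.1 fun h => Q₀.not_dvd_index ?_)
    rwa [hQ0, index_bot]
  haveI : Group.IsSolvable E := H16.FT.oddOrder hEodd
  obtain ⟨j, hj⟩ := (Group.isSolvable_def E).1 inferInstance
  have hEbot : E = ⊥ := by
    have h1 : ∀ i, derivedSeries E i = ⊤ := by
      intro i
      induction i with
      | zero => rfl
      | succ i ih => rw [derivedSeries_succ, ih]; exact hperf
    have h2 : (⊤ : Subgroup E) = ⊥ := by rw [← h1 j, hj]
    rw [eq_bot_iff]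
    intro w hw
    have h3 : (⟨w, hw⟩ : E) ∈ (⊥ : Subgroup E) := h2 ▸ mem_top _
    rw [mem_bot] at h3
    exact mem_bot.2 (congrArg Subtype.val h3)
  exact hns ((Group.isSolvable_def G).2 ⟨m, hEbot⟩)

end Cfsg.Agent.S4133
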