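import Cfsg.Agent.H33.Semiregular
import Cfsg.Agent.H33.FourSizesBasic
import Cfsg.Agent.H27.SameClassSizes
import Cfsg.Statements.S4135
-- import your own Cfsg.Agent.* helpers here

set_option autoImplicit false
open Cfsg

namespace Cfsg.Agent.S4135

open Subgroup H27

section
variable {G : Type*} [Group G] [Finite G] {N : Subgroup G} {m : ℕ}

/-- Every element of `N` has class size `1` or `m`. -/
def TwoSizes (N : Subgroup G) (m : ℕ) : Prop :=
  ∀ x ∈ N, (centralizer ({x} : Set G)).index = 1 ∨ (centralizer ({x} : Set G)).index = m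

theorem index_eq (h : TwoSizes N m) {x : G} (hx : x ∈ N) (hxc : x ∉ center G) :
    (centralizer ({x} : Set G)).index = m :=
  (h x hx).resolve_left fun e => hxc (index_cent_eq_one_iff.mp e)

theorem cent_eq_of_le (h : TwoSizes N m) {x y : G} (hx : x ∈ N) (hxc : x ∉ center G) (hy : y ∈ N)
    (hyc : y ∉ center G) (hle : centralizer ({x} : Set G) ≤ centralizer ({y} : Set G)) :
    centralizer ({x} : Set G) = centralizer ({y} : Set G) := by
  refine Subgroup.eq_of_le_of_card_ge hle (le_of_eq ?_)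
  have h1 := card_cent_mul_index x
  have h2 := card_cent_mul_index y
  rw [index_eq h hx hxc] at h1
  rw [index_eq h hy hyc] at h2
  have hm : 0 < m := index_eq h hx hxc ▸ cent_pos x
  exact Nat.eq_of_mul_eq_mul_right hm (h2.trans h1.symm)

theorem cent_le_of_mem_zpowers {x a : G} (ha : a ∈ zpowers x) :
    centralizer ({x} : Set G) ≤ centralizer ({a} : Set G) := fun g hg => by
  obtain ⟨k, rfl⟩ := mem_zpowers_iff.mp ha
  exact mem_cent_comm.mpr ((mem_cent_comm.mp hg).zpow_left k)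

theorem mem_zpowers_mul {a b : G} (hab : Commute a b) (hco : (orderOf a).Coprime (orderOf b)) :
    a ∈ zpowers (a * b) := by
  obtain ⟨j, hj⟩ := exists_pow_eq_self_of_coprime (x := a) hco.symm
  refine mem_zpowers_iff.mpr ⟨((orderOf b * j : ℕ) : ℤ), ?_⟩
  rw [zpow_natCast, pow_mul, hab.mul_pow, pow_orderOf_eq_one, mul_one, hj]

/-- Commuting non-central elements of coprime orders have the same centralizer. -/
theorem cent_eq_of_coprime (h : TwoSizes N m) {a b : G} (ha : a ∈ N) (hac : a ∉ center G)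
    (hb : b ∈ N) (hbc : b ∉ center G) (hab : Commute a b)
    (hco : (orderOf a).Coprime (orderOf b)) :
    centralizer ({a} : Set G) = centralizer ({b} : Set G) := by
  have h1 := mem_zpowers_mul hab hco
  have h2 : b ∈ zpowers (a * b) := by
    rw [hab.eq]; exact mem_zpowers_mul hab.symm hco.symm
  have habc : a * b ∉ center G := fun hc => hac (zpowers_le.mpr hc h1)
  exact (cent_eq_of_le h (mul_mem ha hb) habc ha hac (cent_le_of_mem_zpowers h1)).symm.trans
    (cent_eq_of_le h (mul_mem ha hb) habc hb hbc (cent_le_of_mem_zpowers h2))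

theorem relIndex_dvd (hN : N.Normal) (C : Subgroup G) : C.relIndex N ∣ C.index := by
  have h1 : C.relIndex (C ⊔ N) * (C ⊔ N).index = C.index := relIndex_mul_index le_sup_left
  have h2 := card_mul_card_inf C N
  have h3 : Nat.card (C ⊓ N : Subgroup G) * C.relIndex N = Nat.card N := by
    rw [← inf_relIndex_right, relIndex,
      ← Nat.card_congr (subgroupOfEquivOfLe (inf_le_right : C ⊓ N ≤ N)).toEquiv, card_mul_index]
  have h4 : Nat.card C * C.relIndex (C ⊔ N) = Nat.card (C ⊔ N : Subgroup G) := by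
    rw [relIndex, ← Nat.card_congr (subgroupOfEquivOfLe (le_sup_left : C ≤ C ⊔ N)).toEquiv,
      card_mul_index]
  have h5 : C.relIndex N = C.relIndex (C ⊔ N) := by
    refine Nat.eq_of_mul_eq_mul_left (Nat.mul_pos (Nat.card_pos (α := C))
      (Nat.card_pos (α := (C ⊓ N : Subgroup G)))) ?_
    calc Nat.card C * Nat.card (C ⊓ N : Subgroup G) * C.relIndex N
        = Nat.card C * Nat.card N := by rw [mul_assoc, h3]
      _ = Nat.card C * Nat.card (C ⊓ N : Subgroup G) * C.relIndex (C ⊔ N) := by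
          rw [← h2, ← h4]; ring
  exact h5 ▸ Dvd.intro _ h1

/-- If `s ∤ m`, the `s`-elements of `N` are central in `N`. -/
theorem commute_of_not_dvd (h : TwoSizes N m) (hN : N.Normal) {s : ℕ} [Fact s.Prime]
    (hsm : ¬ s ∣ m) {y : G} (hy : y ∈ N) (hys : ∃ k, orderOf y = s ^ k) {x : G} (hx : x ∈ N) :
    Commute x y := by
  obtain ⟨k, hk⟩ := hys
  have hyP : IsPGroup s (zpowers (⟨y, hy⟩ : N)) :=
    IsPGroup.of_card (n := k) (by rw [Nat.card_zpowers, Subgroup.orderOf_mk, hk])
  obtain ⟨P, hP⟩ := hyP.exists_le_sylow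
  have hc := sylow_le_center_of_forall_not_dvd P (fun g hd => by
    have e : centralizer ({g} : Set N) = (centralizer ({(g : G)} : Set G)).subgroupOf N := by
      ext u
      rw [mem_subgroupOf, mem_cent, mem_cent, Subtype.ext_iff]
      rfl
    rw [e] at hd
    have h1 := hd.trans (relIndex_dvd hN (centralizer ({(g : G)} : Set G)))
    rcases h g g.2 with e1 | e1 <;> rw [e1] at h1
    · exact (Fact.out : s.Prime).ne_one (Nat.dvd_one.mp h1)
    · exact hsm h1) (hP (mem_zpowers _))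
  exact congrArg Subtype.val (mem_center_iff.mp hc ⟨x, hx⟩)

/-- An `s`-element of `G`, outside `C`, normalising `A := C ⊓ N`. -/
theorem exists_mover (h : TwoSizes N m) (hN : N.Normal) {C : Subgroup G} (hCi : C.index = m)
    (hC : ∀ a ∈ C ⊓ N, a ∉ center G → centralizer ({a} : Set G) = C)
    {s : ℕ} [Fact s.Prime] (hsm : s ∣ m) {a : G} (ha : a ∈ C ⊓ N)
    (has : ∃ k, orderOf a = s ^ k) (hac : a ∉ center G) :
    ∃ v : G, v ∉ C ∧ (∃ k : ℕ, v ^ s ^ k = 1) ∧ v ∈ normalizer ((C ⊓ N : Subgroup G) : Set G) := by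
  obtain ⟨k, hk⟩ := has
  have haP : IsPGroup s (zpowers (⟨a, ha.1⟩ : C)) :=
    IsPGroup.of_card (n := k) (by rw [Nat.card_zpowers, Subgroup.orderOf_mk, hk])
  obtain ⟨U, hU⟩ := haP.exists_le_sylow
  set U' : Subgroup G := (U : Subgroup C).map C.subtype with hU'def
  have hU'p : IsPGroup s U' := U.isPGroup'.map _
  obtain ⟨Q, hQ⟩ := hU'p.exists_le_sylow
  have hU'C : U' ≤ C := map_subtype_le _
  have hmax : (Q : Subgroup G) ⊓ C ≤ U' := by
    intro g hg
    have hle : (U : Subgroup C) ≤ (Q : Subgroup G).subgroupOf C := fun u hu =>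
      mem_subgroupOf.mpr (hQ ⟨u, hu, rfl⟩)
    have e := U.is_maximal' (Q.isPGroup'.comap_of_injective C.subtype C.subtype_injective) hle
    exact ⟨⟨g, hg.2⟩, e ▸ (mem_subgroupOf.mpr hg.1), rfl⟩
  have hne : U'.subgroupOf (Q : Subgroup G) < ⊤ := by
    rw [lt_top_iff_ne_top, Ne, subgroupOf_eq_top]
    intro hle
    refine Q.not_dvd_index (hsm.trans (hCi ▸ index_dvd_of_le (hle.trans hU'C)))
  have : Group.IsNilpotent (Q : Subgroup G) := Q.isPGroup'.isNilpotent
  obtain ⟨v, hvn, hv⟩ := SetLike.exists_of_lt (Group.normalizerCondition_of_isNilpotent _ hne)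
  have hvC : (v : G) ∉ C := fun hc => hv (mem_subgroupOf.mpr (hmax ⟨v.2, hc⟩))
  obtain ⟨j, hj⟩ := Q.isPGroup' v
  refine ⟨v, hvC, ⟨j, by simpa using congrArg Subtype.val hj⟩, ?_⟩
  have haU : a ∈ U' := ⟨⟨a, ha.1⟩, hU (mem_zpowers _), rfl⟩
  have hva : (v : G) * a * (v : G)⁻¹ ∈ U' :=
    mem_subgroupOf.mp ((mem_normalizer_iff.mp hvn ⟨a, hQ haU⟩).mp (mem_subgroupOf.mpr haU))
  have hvN : (v : G) * a * (v : G)⁻¹ ∈ C ⊓ N := ⟨hU'C hva, hN.conj_mem a ha.2 v⟩
  have hvc : (v : G) * a * (v : G)⁻¹ ∉ center G := fun hc => hac (by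
    have e : (v : G)⁻¹ * ((v : G) * a * (v : G)⁻¹) * ((v : G)⁻¹)⁻¹ = a := by group
    exact e ▸ (inferInstance : (center G).Normal).conj_mem _ hc _)
  have hmap : C.map (MulAut.conj (v : G)).toMonoidHom = C := by
    have := cent_conj (v : G) a
    rw [hC _ hvN hvc, hC a ha hac] at this
    exact this.symm
  rw [mem_normalizer_iff]
  intro g
  constructor
  · intro hg
    exact ⟨hmap ▸ mem_map_of_mem _ hg.1, hN.conj_mem g hg.2 v⟩
  · intro hg
    refine ⟨?_, by simpa [mul_assoc] using hN.conj_mem _ hg.2 (v : G)⁻¹⟩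
    obtain ⟨u, hu, e⟩ := hmap.symm ▸ hg.1
    rw [← (MulAut.conj (v : G)).injective e]
    exact hu

theorem contradiction_of_dvd (h : TwoSizes N m) (hN : N.Normal) {r : ℕ} [Fact r.Prime]
    (R : Sylow r G) (hRN : (R : Subgroup G) ≤ N) (hrm : r ∣ m) {y₀ : G}
    (hy₀ : y₀ ∈ (R : Subgroup G)) (hy₀c : y₀ ∉ center G) {w : G} (hw : w ∈ N) (hwc : w ∉ center G)
    {q : ℕ} (hq : q.Prime) (hqr : q ≠ r) (hwq : ∃ k, orderOf w = q ^ k) : False := by
  classical
  have hr : r.Prime := Fact.out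
  haveI := Fact.mk hq
  have hrN : ∀ g : G, (∃ k, orderOf g = r ^ k) → g ∈ N := by
    rintro g ⟨k, hk⟩
    obtain ⟨S, hS⟩ := (IsPGroup.of_card (n := k) (G := zpowers g)
      (by rw [Nat.card_zpowers, hk])).exists_le_sylow
    obtain ⟨c, rfl⟩ := MulAction.exists_smul_eq G R S
    obtain ⟨u, hu, rfl⟩ := (Sylow.coe_subgroup_smul (g := c) (P := R) ▸ hS (mem_zpowers g) :)
    exact hN.conj_mem u (hRN hu) c
  have hcop : ∀ {a b : G}, (∃ k, orderOf a = r ^ k) → ¬ r ∣ orderOf b →
      (orderOf a).Coprime (orderOf b) := fun {a b} ha hb => by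
    obtain ⟨k, hk⟩ := ha
    rw [hk]; exact ((hr.coprime_iff_not_dvd).mpr hb).pow_left k
  have hwr : ¬ r ∣ orderOf w := by
    obtain ⟨k, hk⟩ := hwq
    rw [hk]; exact fun hd => hqr ((Nat.prime_dvd_prime_iff_eq hr hq).1 (hr.dvd_of_dvd_pow hd)).symm
  set C := centralizer ({w} : Set G) with hCdef
  have hCi : C.index = m := index_eq h hw hwc
  -- a non-central `r`-element in `C`
  obtain ⟨y, hyC, hyr, hyc⟩ : ∃ y ∈ C, (∃ k, orderOf y = r ^ k) ∧ y ∉ center G := by
    by_contra hall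
    push Not at hall
    obtain ⟨U⟩ : Nonempty (Sylow r C) := inferInstance
    have h0 : y₀ ∈ centralizer ({y₀} : Set G) := mem_cent.mpr rfl
    let W0 : Subgroup G := zpowers y₀ ⊔ (center G ⊓ (R : Subgroup G))
    have hW0R : W0 ≤ R := sup_le (zpowers_le.mpr hy₀) inf_le_right
    have hW0C : W0 ≤ centralizer ({y₀} : Set G) := sup_le (zpowers_le.mpr h0)
      (inf_le_left.trans (center_le_centralizer _))
    have hUle : (U : Subgroup C).map C.subtype ≤ center G ⊓ (R : Subgroup G) := by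
      rintro _ ⟨u, hu, rfl⟩
      obtain ⟨k, hk⟩ := IsPGroup.iff_orderOf.mp U.isPGroup' ⟨u, hu⟩
      have hk' : orderOf (u : G) = r ^ k :=
        (Subgroup.orderOf_coe u).trans ((Subgroup.orderOf_coe (⟨u, hu⟩ : (U : Subgroup C))).trans hk)
      have hc := hall u u.2 ⟨k, hk'⟩
      refine ⟨hc, ?_⟩
      obtain ⟨S, hS⟩ := (IsPGroup.of_card (n := k) (G := zpowers (u : G))
        (by rw [Nat.card_zpowers, hk'])).exists_le_sylow
      obtain ⟨c, rfl⟩ := MulAction.exists_smul_eq G R S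
      obtain ⟨e, he, he'⟩ := (Sylow.coe_subgroup_smul (g := c) (P := R) ▸ hS (mem_zpowers _) :)
      have : e = (u : G) := by
        have e1 : e = c⁻¹ * (u : G) * c := by
          rw [← show c * e * c⁻¹ = (u : G) from he']; group
        rw [e1, mem_center_iff.mp hc c⁻¹]; group
      show (u : G) ∈ _
      exact this ▸ he
    have h1 : Nat.card (U : Subgroup C) < Nat.card W0 := by
      rw [Nat.card_congr ((U : Subgroup C).equivMapOfInjective _ C.subtype_injective).toEquiv]
      refine lt_of_le_of_lt (Nat.card_le_card_of_injective _ (Subgroup.inclusion_injective hUle)) ?_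
      refine lt_of_le_of_ne (Nat.card_le_card_of_injective _ (Subgroup.inclusion_injective
        (le_sup_right : _ ≤ W0))) fun e => hy₀c ?_
      have := Subgroup.eq_of_le_of_card_ge (le_sup_right : _ ≤ W0) e.ge
      exact (this.ge (mem_sup_left (mem_zpowers y₀))).1
    have h2 : Nat.card W0 ∣ Nat.card C := by
      have e : Nat.card (centralizer ({y₀} : Set G)) = Nat.card C := by
        have a1 := card_cent_mul_index y₀
        have a2 := C.card_mul_index
        rw [index_eq h (hRN hy₀) hy₀c] at a1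
        rw [hCi] at a2
        exact Nat.eq_of_mul_eq_mul_right (hCi ▸ Nat.pos_of_ne_zero index_ne_zero_of_finite)
          (a1.trans a2.symm)
      exact e ▸ card_dvd_of_le hW0C
    obtain ⟨n, hn⟩ := IsPGroup.iff_card.mp (R.isPGroup'.to_le hW0R)
    rw [hn] at h2
    rw [U.card_eq_multiplicity, hn] at h1
    have := (Nat.Prime.pow_dvd_iff_le_factorization hr Nat.card_pos.ne').mp h2
    exact absurd h1 (not_lt.mpr (Nat.pow_le_pow_right hr.pos this))
  have hyN := hrN y hyr
  have hcyw : centralizer ({y} : Set G) = C :=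
    cent_eq_of_coprime h hyN hyc hw hwc (mem_cent_comm.mp hyC).symm (hcop hyr hwr)
  -- all non-central elements of `C ⊓ N` have centralizer `C`
  have hall : ∀ a ∈ C ⊓ N, a ∉ center G → centralizer ({a} : Set G) = C := by
    intro a ha hac
    obtain ⟨u, v, huv, ⟨j, -, hu⟩, hv, hu', hv'⟩ : ∃ u v, u * v = a ∧
        (∃ j, j = j ∧ orderOf u = r ^ j) ∧ ¬ r ∣ orderOf v ∧ u ∈ zpowers a ∧ v ∈ zpowers a := by
      obtain ⟨u, v, hc, ⟨j, hu⟩, hv, rfl⟩ := exists_pPart r a
      exact ⟨u, v, rfl, ⟨j, rfl, hu⟩, hv, mem_zpowers_mul hc (hcop ⟨j, hu⟩ hv),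
        hc.eq ▸ mem_zpowers_mul hc.symm (hcop ⟨j, hu⟩ hv).symm⟩
    have hmem : ∀ b ∈ zpowers a, b ∈ C ⊓ N := fun b hb => zpowers_le.mpr ha hb
    have hone : ∀ b ∈ zpowers a, b ∉ center G → centralizer ({b} : Set G) = C →
        centralizer ({a} : Set G) = C := fun b hb hbc e =>
      (cent_eq_of_le h ha.2 hac (hmem b hb).2 hbc (cent_le_of_mem_zpowers hb)).trans e
    by_cases huc : u ∈ center G
    · have hvc : v ∉ center G := fun hc => hac (huv ▸ mul_mem huc hc)
      refine hone v hv' hvc ?_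
      rw [← hcyw]
      refine cent_eq_of_coprime h (hmem v hv').2 hvc hyN hyc ?_ (hcop hyr hv).symm
      exact (mem_cent_comm.mp (hcyw.symm ▸ (hmem v hv').1)).symm
    · exact hone u hu' huc (cent_eq_of_coprime h (hmem u hu').2 huc hw hwc
        (mem_cent_comm.mp (hmem u hu').1).symm (hcop ⟨j, hu⟩ hwr))
  -- `q` divides `m`
  have hqm : q ∣ m := by
    by_contra hqm
    have hle : (R : Subgroup G) ≤ C := fun g hg =>
      mem_cent_comm.mpr (commute_of_not_dvd h hN hqm hw hwq (hRN hg)).symm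
    exact R.not_dvd_index (hrm.trans (hCi ▸ index_dvd_of_le hle))
  have hwA : w ∈ C ⊓ N := ⟨mem_cent.mpr rfl, hw⟩
  have hyA : y ∈ C ⊓ N := ⟨hyC, hyN⟩
  obtain ⟨v, hvC, hvp, hvn⟩ := exists_mover h hN hCi hall hqm hwA hwq hwc
  obtain ⟨u, huC, hup, hun⟩ := exists_mover h hN hCi hall hrm hyA hyr hyc
  -- the semiregular action
  let M : Subgroup G := normalizer ((C ⊓ N : Subgroup G) : Set G)
  let A : Subgroup M := (C ⊓ N).subgroupOf M
  haveI : A.Normal := Subgroup.normal_in_normalizer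
  have hA : ∀ a b : A, a * b = b * a := fun a b => by
    apply Subtype.ext; apply Subtype.ext
    show ((a : M) : G) * ((b : M) : G) = ((b : M) : G) * ((a : M) : G)
    have ha := mem_subgroupOf.mp a.2
    have hb := mem_subgroupOf.mp b.2
    by_cases hac : ((a : M) : G) ∈ center G
    · exact (mem_center_iff.mp hac _).symm
    · exact (mem_cent_comm.mp (hall _ ha hac ▸ hb.1 : ((b : M) : G) ∈ centralizer ({((a : M) : G)} : Set G))).eq
  letI : CommGroup A := { (inferInstance : Group A) with mul_comm := hA }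
  let ρ : M →* MulAut A := MulAut.conjNormal
  have hρ : ∀ (g : M) (a : A), (((ρ g) a : M) : G) = (g : G) * ((a : M) : G) * (g : G)⁻¹ :=
    fun g a => by simp [ρ]
  let Z₀ : Subgroup A := (center G).comap (M.subtype.comp A.subtype)
  have hsr : H33.SR.Semireg ρ.range Z₀ := by
    constructor
    · rintro ⟨_, g, rfl⟩ z hz
      apply Subtype.ext; apply Subtype.ext
      show (((ρ g) z : M) : G) = _
      have hz' : ((z : M) : G) ∈ center G := hz
      rw [hρ, mem_center_iff.mp hz' (g : G)]; group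
    · rintro ⟨_, g, rfl⟩ a ha
      by_cases hac : a ∈ Z₀
      · exact Or.inl hac
      right
      have h1 : (g : G) * ((a : M) : G) * (g : G)⁻¹ = ((a : M) : G) := by
        rw [← hρ]; exact congrArg (fun t : A => ((t : M) : G)) ha
      have hgC : (g : G) ∈ C := by
        rw [← hall _ (mem_subgroupOf.mp a.2) hac, mem_cent]
        exact mul_inv_eq_iff_eq_mul.mp h1
      apply Subtype.ext
      show ρ g = 1
      apply MulEquiv.ext
      intro b
      apply Subtype.ext; apply Subtype.ext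
      rw [hρ]
      show _ = ((b : M) : G)
      by_cases hbc : ((b : M) : G) ∈ center G
      · rw [mem_center_iff.mp hbc (g : G)]; group
      · have h2 := hgC
        rw [← hall _ (mem_subgroupOf.mp b.2) hbc, mem_cent] at h2
        rw [h2]; group
  have hout : ∀ (g : G) (hg : g ∈ M), g ∉ C → (⟨ρ ⟨g, hg⟩, ⟨g, hg⟩, rfl⟩ : ρ.range) ≠ 1 := by
    intro g hg hgC e
    apply hgC
    have e1 : ρ ⟨g, hg⟩ = 1 := congrArg Subtype.val e
    let wA : A := ⟨⟨w, le_normalizer hwA⟩, mem_subgroupOf.mpr hwA⟩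
    have := hρ ⟨g, hg⟩ wA
    rw [e1] at this
    exact mem_cent.mpr (mul_inv_eq_iff_eq_mul.mp this.symm)
  have hpow : ∀ (s : ℕ) (g : G) (hg : g ∈ M), (∃ k : ℕ, g ^ s ^ k = 1) →
      ∃ k : ℕ, (⟨ρ ⟨g, hg⟩, ⟨g, hg⟩, rfl⟩ : ρ.range) ^ s ^ k = 1 := by
    rintro s g hg ⟨k, hk⟩
    refine ⟨k, Subtype.ext ?_⟩
    show (ρ ⟨g, hg⟩) ^ s ^ k = 1
    rw [← map_pow, show (⟨g, hg⟩ : M) ^ s ^ k = 1 from Subtype.ext hk, map_one]
  have hpr : ∀ (s : ℕ) (g : G) (hgA : g ∈ C ⊓ N), (∃ k, orderOf g = s ^ k) → g ∉ center G →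
      ∃ a ∈ H33.SR.prim s A, a ∉ Z₀ := by
    rintro s g hgA ⟨k, hk⟩ hgc
    exact ⟨⟨⟨g, le_normalizer hgA⟩, mem_subgroupOf.mpr hgA⟩,
      ⟨k, Subtype.ext (Subtype.ext (hk ▸ pow_orderOf_eq_one g))⟩, hgc⟩
  exact H33.SR.not_semireg hsr hq hr hqr ⟨_, hout v hvn hvC, hpow q v hvn hvp⟩
    ⟨_, hout u hun huC, hpow r u hun hup⟩ (hpr q w hwA hwq hwc) (hpr r y hyA hyr hyc)

end


/-- Let G be a finite group, r a prime and R a Sylow r-subgroup of G that is not central, N a normal subgroup of G containing R, and m a natural number such that every element of N has a conjugacy class in G of size 1 or m. Then N is nilpotent. -/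
theorem result {G : Type*} [Group G] [Finite G] (r : ℕ) [Fact r.Prime]
    (R : Sylow r G) (hR : ¬ (R : Subgroup G) ≤ Subgroup.center G) (N : Subgroup G) [N.Normal] (hRN : (R : Subgroup G) ≤ N)
    (m : ℕ) (h : ∀ x ∈ N, (Subgroup.centralizer ({x} : Set G)).index = 1 ∨ (Subgroup.centralizer ({x} : Set G)).index = m) : Group.IsNilpotent N := by
  classical
  have hN : N.Normal := inferInstance
  have ht : TwoSizes N m := h
  obtain ⟨y₀, hy₀, hy₀c⟩ := SetLike.not_le_iff_exists.mp hR
  have hy₀r : ∃ k, orderOf y₀ = r ^ k := by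
    obtain ⟨k, hk⟩ := IsPGroup.iff_orderOf.mp R.isPGroup' ⟨y₀, hy₀⟩
    exact ⟨k, by rw [← hk, ← Subgroup.orderOf_coe]⟩
  by_cases hA : ∀ x ∈ N, ¬ r ∣ orderOf x → x ∈ center G
  · let Z : Subgroup N := center N
    have hp : IsPGroup r (N ⧸ Z) := by
      intro x
      induction x using QuotientGroup.induction_on with
      | H g =>
        obtain ⟨u, v, huv, ⟨j, hj⟩, hv, hg⟩ := exists_pPart r (g : G)
        refine ⟨j, ?_⟩
        rw [← QuotientGroup.mk_pow, QuotientGroup.eq_one_iff, mem_center_iff]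
        intro t
        have hgpow : (g : G) ^ r ^ j = v ^ r ^ j := by
          rw [hg, huv.mul_pow, ← hj, pow_orderOf_eq_one, one_mul]
        have hvN : v ∈ N := by
          have : v ∈ zpowers (g : G) := by
            rw [hg, huv.eq]; exact mem_zpowers_mul huv.symm (coprime_parts r ⟨j, hj⟩ hv).symm
          exact zpowers_le.mpr g.2 this
        apply Subtype.ext
        show (t : G) * (g : G) ^ r ^ j = (g : G) ^ r ^ j * t
        rw [hgpow]
        exact mem_center_iff.mp (pow_mem (hA v hvN hv) _) t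
    have := hp.isNilpotent
    exact Group.of_quotient_center_nilpotent this
  push Not at hA
  obtain ⟨w, hwN, hwr, hwc⟩ := hA
  by_cases hrm : r ∣ m
  · exfalso
    obtain ⟨q, hq, e, he, ⟨k, hek⟩, hec⟩ := H33.FS.exists_part w hwc
    refine contradiction_of_dvd ht hN R hRN hrm hy₀ hy₀c (zpowers_le.mpr hwN he) hec hq ?_ ⟨k, hek⟩
    rintro rfl
    obtain ⟨i, rfl⟩ := mem_zpowers_iff.mp he
    have h1 : orderOf (w ^ i) ∣ orderOf w := orderOf_dvd_of_pow_eq_one (by
      rw [← zpow_natCast, ← zpow_mul, mul_comm, zpow_mul, zpow_natCast, pow_orderOf_eq_one, one_zpow])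
    rcases Nat.eq_zero_or_pos k with rfl | hk0
    · rw [pow_zero, orderOf_eq_one_iff] at hek
      exact hec (hek ▸ one_mem _)
    · exact hwr (((dvd_pow_self _ hk0.ne').trans (hek ▸ dvd_rfl)).trans h1)
  · have hcent : ∀ x ∈ N, Commute x y₀ := fun x hx =>
      commute_of_not_dvd ht hN hrm (hRN hy₀) hy₀r hx
    have hr' : ∀ x ∈ N, ¬ r ∣ orderOf x → ∀ z ∈ N, ¬ r ∣ orderOf z → Commute x z := by
      intro x hx hxr z hz hzr
      by_cases hxc : x ∈ center G
      · exact (mem_center_iff.mp hxc z).symm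
      by_cases hzc : z ∈ center G
      · exact mem_center_iff.mp hzc x
      have e1 := cent_eq_of_coprime ht (hRN hy₀) hy₀c hx hxc (hcent x hx).symm (coprime_parts r hy₀r hxr)
      have e2 := cent_eq_of_coprime ht (hRN hy₀) hy₀c hz hzc (hcent z hz).symm (coprime_parts r hy₀r hzr)
      have : x ∈ centralizer ({z} : Set G) := by rw [← e2, e1]; exact mem_cent.mpr rfl
      exact (mem_cent_comm.mp this).symm
    have hab : ∀ a b : N, a * b = b * a := by
      intro a b
      have hdec : ∀ g : N, ∃ u v : G, u ∈ N ∧ v ∈ N ∧ (∃ k, orderOf u = r ^ k) ∧ ¬ r ∣ orderOf v ∧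
          (g : G) = u * v := by
        intro g
        obtain ⟨u, v, huv, hu, hv, hg⟩ := exists_pPart r (g : G)
        have hco := coprime_parts r hu hv
        refine ⟨u, v, zpowers_le.mpr g.2 (hg ▸ mem_zpowers_mul huv hco),
          zpowers_le.mpr g.2 (hg ▸ huv.eq ▸ mem_zpowers_mul huv.symm hco.symm), hu, hv, hg⟩
      obtain ⟨u, v, hu, hv, hur, hvr, hg⟩ := hdec a
      obtain ⟨u', v', hu', hv', hur', hvr', hg'⟩ := hdec b
      apply Subtype.ext
      show (a : G) * b = b * a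
      rw [hg, hg']
      exact ((commute_of_not_dvd ht hN hrm hu' hur' (mul_mem hu hv)).mul_right
        (((commute_of_not_dvd ht hN hrm hu hur hv').symm).mul_left (hr' v hv hvr v' hv' hvr'))).eq
    letI : CommGroup N := { (inferInstance : Group N) with mul_comm := hab }
    exact CommGroup.isNilpotent

end Cfsg.Agent.S4135
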