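import Cfsg.Statements.S4137
import Cfsg.Agent.H87.ThreeSize.Main
import Cfsg.Agent.H39.Dickson
-- import your own Cfsg.Agent.* helpers here

set_option autoImplicit false
open Cfsg

namespace Cfsg.Agent.S4137

/-- Let G be a finite group with trivial centre and at most three distinct sizes of conjugacy classes other than 1. Then G is solvable or G is isomorphic to PSL₂(2^a) for some a ≥ 1. -/
theorem result {G : Type*} [Group G] [Finite G]
    (hZ : Subgroup.center G = ⊥) (h : Nat.card {n : ℕ | 1 < n ∧ ∃ x : G, (Subgroup.centralizer ({x} : Set G)).index = n} ≤ 3) :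
    Group.IsSolvable G ∨ ∃ a : ℕ, 0 < a ∧ Nonempty (G ≃* Matrix.ProjectiveSpecialLinearGroup (Fin 2) (GaloisField 2 a)) := by
  classical
  by_contra hcon
  rw [not_or] at hcon
  obtain ⟨hns, hno⟩ := hcon
  set V := {n : ℕ | 1 < n ∧ ∃ x : G, (Subgroup.centralizer ({x} : Set G)).index = n} with hV
  have hfin : V.Finite := (Set.finite_Iic (Nat.card G)).subset fun n hn => by
    obtain ⟨-, x, rfl⟩ := hn
    exact Nat.le_of_dvd Nat.card_pos (H27.index_cent_dvd_card x)
  rw [Nat.card_coe_set_eq] at h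
  have hcls : ∀ x : G, x ≠ 1 → H33.FS.cls x ∈ V := fun x hx =>
    ⟨H87.ThreeSize.one_lt_cls hZ hx, x, rfl⟩
  have hinv : ∀ t : G, orderOf t = 2 →
      IsMulCommutative (Subgroup.centralizer ({t} : Set G)) := by
    intro t ht
    by_cases hd : ∀ x y : G, x ≠ 1 → y ≠ 1 → H33.FS.cls x ∣ H33.FS.cls y →
        H33.FS.cls x = H33.FS.cls y
    · exact H87.ThreeSize.invol_comm_of_noDiv hns hd ht
    exfalso
    push Not at hd
    obtain ⟨y, x, hy, hx, hdvd, hne⟩ := hd
    have hothers : ∃ z : G, z ≠ 1 ∧ H33.FS.cls z ≠ H33.FS.cls x ∧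
        H33.FS.cls z ≠ H33.FS.cls y := by
      by_contra hz
      push Not at hz
      refine hns (H87.ThreeSize.isSolvable_of_two (a := H33.FS.cls x) (b := H33.FS.cls y)
        fun z hzc => ?_)
      by_cases he : H33.FS.cls z = H33.FS.cls x
      · exact Or.inl he
      · exact Or.inr (hz z (fun e => hzc (e ▸ one_mem _)) he)
    obtain ⟨z, hz, hzx, hzy⟩ := hothers
    have hsub : ({H33.FS.cls x, H33.FS.cls y, H33.FS.cls z} : Set ℕ) = V := by
      refine Set.eq_of_subset_of_ncard_le ?_ ?_ hfin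
      · rintro w (rfl | rfl | rfl)
        exacts [hcls x hx, hcls y hy, hcls z hz]
      · rw [Set.ncard_eq_three.2 ⟨_, _, _, hne.symm, hzx.symm, hzy.symm, rfl⟩]
        exact h
    refine hns (H87.ThreeSize.div_solvable _ G (H33.FS.cls x) (H33.FS.cls y) (H33.FS.cls z) rfl
      ⟨hZ, hdvd, hne.symm, hzx.symm, hzy.symm, fun w hw => ?_, ⟨x, hx, rfl⟩, ⟨y, hy, rfl⟩,
        ⟨z, hz, rfl⟩⟩)
    have hw' := hcls w hw
    rw [← hsub] at hw'
    simpa using hw'
  obtain ⟨F, iF, iFF, hchar, hq, ⟨e⟩⟩ := H87.ThreeSize.exists_psl hZ hns hinv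
  haveI : Fact (Nat.Prime 2) := ⟨Nat.prime_two⟩
  haveI := hchar
  obtain ⟨n, -, hn⟩ := FiniteField.card F 2
  haveI := Fintype.ofFinite (GaloisField 2 n)
  refine hno ⟨n, n.pos, ⟨e.trans (H39.pslCongr (FiniteField.ringEquivOfCardEq ?_))⟩⟩
  rw [hn, ← Nat.card_eq_fintype_card, GaloisField.card 2 n n.ne_zero]

end Cfsg.Agent.S4137
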