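import Cfsg.Statements.S4139
import Cfsg.Agent.H27.SameClassSizes

set_option autoImplicit false
open Cfsg

namespace Cfsg.Agent.S4139

theorem card_subtype_index {G : Type*} [Group G] [Finite G] (P : ℕ → Prop) :
    Nat.card {x : G // P (Subgroup.centralizer ({x} : Set G)).index} =
      ∑ᶠ k, {k | P k}.indicator (fun k => k * Nat.card {C : ConjClasses G // Nat.card C.carrier = k}) k := by
  classical
  have := Fintype.ofFinite G
  have := Fintype.ofFinite (ConjClasses G)
  rw [finsum_eq_finsetSum_of_support_subset (s := Finset.univ.image fun C : ConjClasses G => Nat.card C.carrier)]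
  swap
  · intro k hk
    rw [Finset.coe_image, Finset.coe_univ, Set.image_univ]
    by_contra hne
    refine hk ?_
    have : IsEmpty {C : ConjClasses G // Nat.card C.carrier = k} := ⟨fun C => hne ⟨C.1, C.2⟩⟩
    show Set.indicator _ _ k = 0
    rw [Set.indicator_apply, Nat.card_of_isEmpty, mul_zero, ite_self]
  have key : ∀ k, {k | P k}.indicator (fun k => k * Nat.card {C : ConjClasses G // Nat.card C.carrier = k}) k =
      ∑ C : ConjClasses G with Nat.card C.carrier = k, if P (Nat.card C.carrier) then Nat.card C.carrier else 0 := by
    intro k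
    rw [Finset.sum_congr rfl (g := fun _ => if P k then k else 0)
      fun C hC => by rw [(Finset.mem_filter.mp hC).2]]
    rw [Finset.sum_const, smul_eq_mul, Set.indicator_apply,
      Nat.subtype_card (Finset.univ.filter fun C : ConjClasses G => Nat.card C.carrier = k)
        (fun C => by simp)]
    by_cases hk : P k <;> simp [hk, mul_comm]
  rw [Finset.sum_congr rfl fun k _ => key k, Finset.sum_fiberwise_of_maps_to
    (fun C _ => Finset.mem_image_of_mem _ (Finset.mem_univ C))]
  rw [Nat.card_eq_fintype_card, Fintype.card_subtype, Finset.card_eq_sum_ones, Finset.sum_filter,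
    ← Finset.sum_fiberwise Finset.univ (ConjClasses.mk : G → ConjClasses G)]
  refine Finset.sum_congr rfl fun C _ => ?_
  rw [Finset.sum_congr rfl (g := fun _ => if P (Nat.card C.carrier) then 1 else 0) fun x hx => by
    rw [← H27.card_carrier_eq_index, (Finset.mem_filter.mp hx).2]]
  rw [Finset.sum_const, smul_eq_mul, mul_ite, mul_one, mul_zero]
  congr 1
  rw [Nat.card_eq_fintype_card, ← Set.toFinset_card]
  exact congrArg Finset.card (by ext x; simp [ConjClasses.mem_carrier_iff_mk_eq])

theorem sum_eq_of_card_eq {G H : Type*} [Group G] [Finite G] [Group H] [Finite H]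
    (h : ∀ k : ℕ, Nat.card {C : ConjClasses G // Nat.card C.carrier = k} =
      Nat.card {C : ConjClasses H // Nat.card C.carrier = k}) (P : ℕ → Prop) :
    (∑ᶠ k, {k | P k}.indicator (fun k => k * Nat.card {C : ConjClasses G // Nat.card C.carrier = k}) k) =
    ∑ᶠ k, {k | P k}.indicator (fun k => k * Nat.card {C : ConjClasses H // Nat.card C.carrier = k}) k := by
  simp only [h]

/-- Let G and H be finite groups such that for every natural number k, G and H have the same number of conjugacy classes of size k. If H is nilpotent then G is nilpotent. -/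
theorem result {G H : Type*} [Group G] [Finite G] [Group H] [Finite H]
    (hH : Group.IsNilpotent H)
    (h : ∀ k : ℕ, Nat.card {C : ConjClasses G // Nat.card C.carrier = k} = Nat.card {C : ConjClasses H // Nat.card C.carrier = k}) :
    Group.IsNilpotent G := by
  classical
  have hc : ∀ P : ℕ → Prop, Nat.card {x : G // P (Subgroup.centralizer ({x} : Set G)).index} =
      Nat.card {x : H // P (Subgroup.centralizer ({x} : Set H)).index} := fun P => by
    rw [card_subtype_index P, card_subtype_index P]
    exact sum_eq_of_card_eq h P
  have hcard : Nat.card G = Nat.card H := by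
    have := hc (fun _ => True)
    rwa [Nat.card_congr (Equiv.subtypeUnivEquiv fun _ => trivial),
      Nat.card_congr (Equiv.subtypeUnivEquiv fun _ => trivial)] at this
  have hcen : Nat.card (Subgroup.center G) = Nat.card (Subgroup.center H) :=
    ((Nat.card_congr (Equiv.subtypeEquivRight fun x => H27.index_cent_eq_one_iff.symm)).trans
      (hc (fun n => n = 1))).trans
      (Nat.card_congr (Equiv.subtypeEquivRight fun x => H27.index_cent_eq_one_iff))
  refine H27.nilpotent_of_class_counts (fun q hq => ?_) (fun q hq => ?_)
  · have := Fact.mk hq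
    rw [hc (fun n => ¬ q ∣ n), hcen]
    exact (H27.nilpotent_class_counts q hH).1
  · have := Fact.mk hq
    rw [hc (fun n => ∃ a, n = q ^ a), hcen, hcard]
    exact (H27.nilpotent_class_counts q hH).2

end Cfsg.Agent.S4139
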