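import Cfsg.Statements.S4140
import Cfsg.Agent.H27.CaminaTrichotomy

set_option autoImplicit false
open Cfsg

namespace Cfsg.Agent.S4140

/-- Let G be a finite group and N a proper non-trivial normal subgroup such that for every g outside N the conjugacy class of g is a union of cosets of N (equivalently gn is conjugate to g for every n ∈ N). Then either every element of G outside N acts fixed-point-freely on N (C_G(x) ≤ N for all x ∈ N, x ≠ 1, so G is a Frobenius group with kernel N), or N has prime-power order, or G/N has prime-power order. -/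
theorem result {G : Type*} [Group G] [Finite G] (N : Subgroup G) [N.Normal] (hN1 : N ≠ ⊥) (hN2 : N ≠ ⊤)
    (hcam : ∀ g : G, g ∉ N → ∀ n ∈ N, ∃ x : G, x * g * x⁻¹ = g * n) :
    (∀ x ∈ N, x ≠ 1 → Subgroup.centralizer ({x} : Set G) ≤ N) ∨ IsPrimePow (Nat.card N) ∨ IsPrimePow N.index := by
  classical
  by_cases hcop : N.index.Coprime (Nat.card N)
  · exact Or.inl ((H27.camina_triple N N le_rfl hN1 hN2 hcam).1.mpr hcop)
  obtain ⟨q, hq, hqi, hqN⟩ := Nat.Prime.not_coprime_iff_dvd.mp hcop
  have := Fact.mk hq
  by_contra hcon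
  push Not at hcon
  obtain ⟨-, hN, hI⟩ := hcon
  have hdiv : ∀ n : ℕ, n ≠ 0 → q ∣ n → ¬ IsPrimePow n → ∃ r : ℕ, r.Prime ∧ r ≠ q ∧ r ∣ n := by
    intro n hn hqn hnp
    by_contra h
    push Not at h
    refine hnp ((isPrimePow_nat_iff n).mpr ⟨q, n.primeFactorsList.length, hq, ?_, ?_⟩)
    · refine List.length_pos_of_mem (a := q) ?_
      exact (Nat.mem_primeFactorsList hn).mpr ⟨hq, hqn⟩
    · refine (Nat.eq_prime_pow_of_unique_prime_dvd hn fun {d} hd hdn => ?_).symm
      by_contra hdq
      exact h d hd hdq hdn
  obtain ⟨r, hr, hrq, hri⟩ := hdiv N.index Subgroup.FiniteIndex.index_ne_zero hqi hI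
  have := Fact.mk hr
  have hKq := H5.hasNormalPComplement_iff_not_dvd.mp (H27.camina_hasNormalPComplement N hcam hqi)
  by_cases hrN : r ∣ Nat.card N
  · -- both primes are common: pass to a nilpotent quotient of `N`
    have hKr := H5.hasNormalPComplement_iff_not_dvd.mp
      (H27.camina_hasNormalPComplement N hcam hri)
    set J' := Cfsg.pResidual q N ⊓ Cfsg.pResidual r N
    set J := J'.map N.subtype with hJ
    have : J.Normal := inferInstance
    set π := QuotientGroup.mk' J
    have hJN : J ≤ N := Subgroup.map_subtype_le _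
    have hnilq : Group.IsNilpotent (N ⧸ J') := by
      let f : N →* (N ⧸ Cfsg.pResidual q N) × (N ⧸ Cfsg.pResidual r N) :=
        (QuotientGroup.mk' _).prod (QuotientGroup.mk' _)
      have hf : f.ker = J' := by
        rw [MonoidHom.ker_prod, QuotientGroup.ker_mk', QuotientGroup.ker_mk']
      have h1 : Group.IsNilpotent (N ⧸ Cfsg.pResidual q N) :=
        H5.isPGroup_quotient_pResidual.isNilpotent
      have h2 : Group.IsNilpotent (N ⧸ Cfsg.pResidual r N) :=
        H5.isPGroup_quotient_pResidual.isNilpotent
      exact Group.nilpotent_of_mulEquiv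
        ((QuotientGroup.quotientMulEquivOfEq hf.symm).trans
          (QuotientGroup.quotientKerEquivRange f)).symm
    have : Group.IsNilpotent (N.map π) := by
      let g : N →* N.map π := π.subgroupMap N
      have hg : J' ≤ g.ker := fun x hx => MonoidHom.mem_ker.mpr (Subtype.ext
        ((QuotientGroup.eq_one_iff _).mpr (Subgroup.mem_map_of_mem N.subtype hx)))
      exact Group.nilpotent_of_surjective (QuotientGroup.lift J' g hg)
        (QuotientGroup.lift_surjective_of_surjective _ _ (π.subgroupMap_surjective N) hg)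
    have hcam' : ∀ a : G ⧸ J, a ∉ N.map π → ∀ n ∈ N.map π, ∃ x, x * a * x⁻¹ = a * n := by
      intro a ha n hn
      obtain ⟨g, rfl⟩ := QuotientGroup.mk'_surjective J a
      obtain ⟨m, hm, rfl⟩ := hn
      obtain ⟨x, hx⟩ := hcam g (fun h => ha (Subgroup.mem_map_of_mem π h)) m hm
      exact ⟨π x, by rw [← map_inv, ← map_mul, ← map_mul, hx, map_mul]⟩
    have hidx : (N.map π).index = N.index := by
      rw [Subgroup.index_map, QuotientGroup.ker_mk', MonoidHom.range_eq_top.mpr
        (QuotientGroup.mk'_surjective J), Subgroup.index_top, mul_one, sup_eq_left.mpr hJN]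
    have hcard : Nat.card N = Nat.card (N.map π) * Nat.card J' := by
      have h1 := J'.card_mul_index
      rw [mul_comm] at h1
      rw [← h1]
      congr 1
      have hk : (π.comp N.subtype).ker = J' := by
        rw [← MonoidHom.comap_ker, QuotientGroup.ker_mk', hJ,
          Subgroup.comap_map_eq_self_of_injective N.subtype_injective]
      rw [← hk, Subgroup.index_ker, MonoidHom.range_comp, Subgroup.range_subtype]
    refine H27.camina_false_of_nilpotent (N.map π) hcam' hr hrq
      (((Nat.Prime.dvd_mul hq).mp (hcard ▸ hqN)).resolve_right fun h => ?_)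
      (((Nat.Prime.dvd_mul hr).mp (hcard ▸ hrN)).resolve_right fun h => ?_) (hidx ▸ hqi)
    · exact hKq (h.trans (Subgroup.card_dvd_of_le inf_le_left))
    · exact hKr (h.trans (Subgroup.card_dvd_of_le inf_le_right))
  · -- an element of order `r` acts fixed-point-freely
    obtain ⟨h, hh⟩ := exists_prime_orderOf_dvd_card' (G := G) r
      (hri.trans N.index_dvd_card)
    have hhN : h ∉ N := fun hm => hrN (hh ▸ Subgroup.orderOf_dvd_natCard N hm)
    set φ : MulAut N := MulAut.conjNormal h
    have hfix : ∀ n : N, φ n = n → n = 1 := by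
      intro n hn
      have h1 : h * (n : G) * h⁻¹ = n := by rw [← MulAut.conjNormal_apply]; exact congrArg _ hn
      refine Subtype.ext (H27.camina_eq_one_of_commute N hcam hhN n.2
        (mul_inv_eq_iff_eq_mul.mp h1) ?_)
      rw [hh, Subgroup.orderOf_coe]
      exact hr.coprime_iff_not_dvd.mpr fun hd => hrN (hd.trans (orderOf_dvd_natCard n))
    have hord : orderOf φ = r := by
      refine orderOf_eq_prime ?_ fun h1 => ?_
      · rw [← map_pow, ← hh, pow_orderOf_eq_one, map_one]
      · exact hN1 ((Subgroup.eq_bot_iff_forall N).mpr fun x hx =>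
          congrArg Subtype.val (hfix ⟨x, hx⟩ (by rw [h1]; rfl)))
    have : Group.IsNilpotent N := Cfsg.Agent.S0033.result φ hfix r hr hord
    obtain ⟨s, hs, hsq, hsN⟩ := hdiv (Nat.card N) Nat.card_pos.ne' hqN hN
    exact H27.camina_false_of_nilpotent N hcam hs hsq hqN hsN hqi

end Cfsg.Agent.S4140
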