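import Cfsg.Statements.S4145
import Cfsg.Agent.H33.CyclicSylow

set_option autoImplicit false
open Cfsg

namespace Cfsg.Agent.S4145

variable {G : Type*} [Group G] [Finite G] {p : ℕ} [Fact p.Prime]

theorem npc_part (P : Sylow p G) (hP : IsCyclic (P : Subgroup G)) (H : Subgroup G) [H.Normal]
    (h2 : p ∣ H.index) : Cfsg.HasNormalPComplement p H := by
  obtain ⟨P₁, hP₁⟩ := (P.isPGroup'.comap_of_injective H.subtype H.subtype_injective :
    IsPGroup p ((P : Subgroup G).subgroupOf H)).exists_le_sylow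
  have hmap : ∀ x : H, x ∈ (P₁ : Subgroup H) ↔ (x : G) ∈ (P : Subgroup G) := by
    -- `P ∩ H` is the Sylow subgroup
    have e : (P : Subgroup G).subgroupOf H = (P₁ : Subgroup H) := by
      obtain ⟨Q, hQ⟩ := (P₁.isPGroup'.map H.subtype).exists_le_sylow
      obtain ⟨g, hg⟩ := MulAction.exists_smul_eq G Q P
      refine Subgroup.eq_of_le_of_card_ge hP₁ ?_
      refine Nat.card_le_card_of_injective (fun r => (⟨⟨g * ((r : H) : G) * g⁻¹,
        (‹H.Normal›).conj_mem _ (r : H).2 g⟩, Subgroup.mem_subgroupOf.2 ?_⟩ :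
          (P : Subgroup G).subgroupOf H)) ?_
      · show g * ((r : H) : G) * g⁻¹ ∈ (P : Subgroup G)
        rw [← hg]
        exact Subgroup.smul_mem_pointwise_smul _ (MulAut.conj g) _ (hQ (Subgroup.mem_map_of_mem _ r.2))
      · intro a b hab
        have := congrArg (fun y : (P : Subgroup G).subgroupOf H => ((y : H) : G)) hab
        exact Subtype.ext (Subtype.ext (mul_left_cancel (mul_right_cancel this)))
    intro x
    rw [← e]
    exact Subgroup.mem_subgroupOf
  obtain ⟨g, hg⟩ := (Subgroup.isCyclic_iff_exists_zpowers_eq_top _).1 hP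
  have hgP : g ∈ (P : Subgroup G) := hg ▸ Subgroup.mem_zpowers g
  have hgk : ∃ k, orderOf g = p ^ k := by
    obtain ⟨j, hj⟩ := P.isPGroup'.exists_card_eq
    rw [← hg, Nat.card_zpowers] at hj
    exact ⟨j, hj⟩
  have hgH : g ∉ H := by
    intro hgH
    have : (P : Subgroup G) ≤ H := hg ▸ Subgroup.zpowers_le.2 hgH
    exact P.not_dvd_index (h2.trans (Subgroup.index_dvd_of_le this))
  have hcyc : IsCyclic (P₁ : Subgroup H) := by
    refine isCyclic_of_injective
      ((H.subtype.comp (P₁ : Subgroup H).subtype).codRestrict (P : Subgroup G) fun r =>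
        (hmap r).1 r.2) ?_
    intro a b hab
    exact Subtype.ext (Subtype.ext (congrArg (fun y : (P : Subgroup G) => (y : G)) hab))
  by_cases hP1bot : (P₁ : Subgroup H) = ⊥
  · refine H5.hasNormalPComplement_of_not_dvd fun hd => ?_
    exact P₁.ne_bot_of_dvd_card hd hP1bot
  obtain ⟨z₀, hz₀, hz₀1⟩ := (Subgroup.bot_or_exists_ne_one (P₁ : Subgroup H)).resolve_left hP1bot
  refine H33.hasNormalPComplement_of_cyclic P₁ hcyc fun v hv hvo => ⟨z₀, hz₀, hz₀1, ?_⟩
  -- centralizer of `P₁` in `H` as a subgroup of `G`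
  set T : Subgroup G := H ⊓ Subgroup.centralizer (((P₁ : Subgroup H).map H.subtype : Subgroup G) : Set G)
  set P₁' := (P₁ : Subgroup H).map H.subtype with hP₁'
  have hP₁'P : P₁' ≤ (P : Subgroup G) := by rintro _ ⟨r, hr, rfl⟩; exact (hmap r).1 hr
  have hgnorm : ∀ y ∈ P₁', g * y = y * g := fun y hy => by
    obtain ⟨i, rfl⟩ := Subgroup.mem_zpowers_iff.1 (hg.symm ▸ hP₁'P hy)
    exact ((Commute.refl g).zpow_right i).eq
  have hvnorm : ∀ y ∈ P₁', (v : G) * y * (v : G)⁻¹ ∈ P₁' := by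
    rintro _ ⟨r, hr, rfl⟩
    exact ⟨v * r * v⁻¹, (Subgroup.mem_normalizer_iff.1 hv r).1 hr, rfl⟩
  -- `v g v⁻¹ ∈ g · T`
  have hy : g⁻¹ * ((v : G) * g * (v : G)⁻¹) ∈ T := by
    refine ⟨?_, Subgroup.mem_centralizer_iff.2 fun y hy => ?_⟩
    · have h3 : g⁻¹ * (v : G) * g ∈ H := by
        simpa using (‹H.Normal›).conj_mem _ v.2 g⁻¹
      have := mul_mem h3 (inv_mem v.2)
      simpa [mul_assoc] using this
    · obtain ⟨w, hw, hwy⟩ : ∃ w ∈ P₁', (v : G) * w * (v : G)⁻¹ = y := by
        refine ⟨(v : G)⁻¹ * y * v, ?_, by group⟩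
        obtain ⟨r, hr, rfl⟩ := hy
        exact ⟨v⁻¹ * r * v, (Subgroup.mem_normalizer_iff''.1 hv r).1 hr, rfl⟩
      have e1 : (v : G) * g * (v : G)⁻¹ * y = y * ((v : G) * g * (v : G)⁻¹) := by
        rw [← hwy]
        calc (v : G) * g * (v : G)⁻¹ * ((v : G) * w * (v : G)⁻¹) = (v : G) * (g * w) * (v : G)⁻¹ := by group
          _ = (v : G) * (w * g) * (v : G)⁻¹ := by rw [hgnorm w hw]
          _ = (v : G) * w * (v : G)⁻¹ * ((v : G) * g * (v : G)⁻¹) := by group
      have e2 : g⁻¹ * y = y * g⁻¹ := ((show Commute g y from hgnorm y hy).inv_left).eq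
      calc y * (g⁻¹ * ((v : G) * g * (v : G)⁻¹)) = y * g⁻¹ * ((v : G) * g * (v : G)⁻¹) := by group
        _ = g⁻¹ * (y * ((v : G) * g * (v : G)⁻¹)) := by rw [← e2]; group
        _ = g⁻¹ * ((v : G) * g * (v : G)⁻¹) * y := by rw [← e1]; group
  set M := (P : Subgroup G) ⊔ T
  have hgM : g ∈ M := Subgroup.mem_sup_left hgP
  have hvgM : (v : G) * g * (v : G)⁻¹ ∈ M := by
    have := mul_mem hgM (Subgroup.mem_sup_right hy : _ ∈ M)
    simpa using this
  set Q : Subgroup G := Subgroup.zpowers ((v : G) * g * (v : G)⁻¹)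
  have hQM : Q ≤ M := Subgroup.zpowers_le.2 hvgM
  have hQp : IsPGroup p (Q.subgroupOf M) := by
    obtain ⟨k, hk⟩ := hgk
    refine IsPGroup.of_card (n := k) ?_
    rw [Nat.card_congr (Subgroup.subgroupOfEquivOfLe hQM).toEquiv, Nat.card_zpowers,
      ← MulAut.conj_apply, MulEquiv.orderOf_eq, hk]
  obtain ⟨R, hR⟩ := hQp.exists_le_sylow
  obtain ⟨m, hm⟩ := MulAction.exists_smul_eq M R (P.subtype (le_sup_left : (P : Subgroup G) ≤ M))
  have hconj : (m : G) * ((v : G) * g * (v : G)⁻¹) * (m : G)⁻¹ ∈ (P : Subgroup G) := by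
    have h3 : m * ⟨_, hvgM⟩ * m⁻¹ ∈ ((m • R : Sylow p M) : Subgroup M) :=
      Subgroup.smul_mem_pointwise_smul _ (MulAut.conj m) _ (hR (Subgroup.mem_subgroupOf.2 (Subgroup.mem_zpowers _)))
    rw [hm] at h3
    exact Subgroup.mem_subgroupOf.1 h3
  -- decompose `m = t · s`
  have hTn : (P : Subgroup G) ≤ Subgroup.normalizer (T : Set G) := by
    intro a ha
    apply Subgroup.mem_normalizer_fintype
    intro t ht
    refine ⟨(‹H.Normal›).conj_mem _ ht.1 a, Subgroup.mem_centralizer_iff.2 fun y hy => ?_⟩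
    have hay : a * y = y * a := by
      obtain ⟨i, rfl⟩ := Subgroup.mem_zpowers_iff.1 (hg.symm ▸ ha)
      exact ((show Commute g y from hgnorm y hy).zpow_left i).eq
    have hty : y * t = t * y := Subgroup.mem_centralizer_iff.1 ht.2 y hy
    calc y * (a * t * a⁻¹) = a * (y * t) * a⁻¹ := by
          rw [← mul_assoc, ← mul_assoc, ← hay]; group
      _ = a * (t * y) * a⁻¹ := by rw [hty]
      _ = a * t * (y * a⁻¹) := by group
      _ = a * t * a⁻¹ * y := by
          rw [((show Commute a y from hay).inv_left).eq.symm]; group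
  obtain ⟨s, hs, t, ht, hst⟩ : ∃ s ∈ (P : Subgroup G), ∃ t ∈ T, s * t = (m : G) := by
    have := m.2
    rw [← SetLike.mem_coe, Subgroup.coe_mul_of_left_le_normalizer_right _ _ hTn] at this
    exact Set.mem_mul.1 this
  set n := t * (v : G) with hn
  have hnH : n ∈ H := mul_mem ht.1 v.2
  have hng : n * g * n⁻¹ ∈ (P : Subgroup G) := by
    have h3 := mul_mem (mul_mem (inv_mem hs) hconj) hs
    rw [← hst] at h3
    simpa [hn, mul_assoc] using h3
  obtain ⟨a, ha⟩ := Subgroup.mem_zpowers_iff.1 (hg.symm ▸ hng)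
  have hmem : g ^ (a - 1) ∈ H := by
    have h4 : n * (g * n⁻¹ * g⁻¹) ∈ H := mul_mem hnH ((‹H.Normal›).conj_mem _ (inv_mem hnH) g)
    rw [zpow_sub, ha, zpow_one]
    simpa [mul_assoc] using h4
  have hpa : (p : ℤ) ∣ a - 1 := by
    by_contra hnd
    apply hgH
    obtain ⟨k, hk⟩ := hgk
    have hcop : IsCoprime ((p ^ k : ℕ) : ℤ) (a - 1) := by
      push_cast
      exact IsCoprime.pow_left ((Nat.prime_iff_prime_int.1 (Fact.out : p.Prime)).coprime_iff_not_dvd.2 hnd)
    obtain ⟨x, y, hxy⟩ := hcop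
    have : g = (g ^ (a - 1)) ^ y := by
      conv_lhs => rw [← zpow_one g, ← hxy, zpow_add, mul_comm x, zpow_mul, zpow_natCast, ← hk,
        pow_orderOf_eq_one, one_zpow, one_mul, mul_comm y, zpow_mul]
    rw [this]; exact zpow_mem hmem y
  obtain ⟨u, w, huw, ⟨k, huk⟩, hw, -, hw'⟩ := H5.exists_p_decomposition (p := p) n
  obtain ⟨j, hj⟩ := Subgroup.mem_zpowers_iff.1 hw'
  -- the `p'`-part `w` of `n` centralizes `g`
  obtain ⟨b, hb⟩ : ∃ b : ℤ, (p : ℤ) ∣ b - 1 ∧ w * g * w⁻¹ = g ^ b := by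
    have hnat : ∀ i : ℕ, n ^ i * g * (n ^ i)⁻¹ = g ^ (a ^ i) := by
      intro i
      induction i with
      | zero => simp
      | succ i ih =>
        calc n ^ (i + 1) * g * (n ^ (i + 1))⁻¹ = n * (n ^ i * g * (n ^ i)⁻¹) * n⁻¹ := by
              rw [pow_succ']; group
          _ = (n * g * n⁻¹) ^ (a ^ i) := by rw [ih, conj_zpow]
          _ = g ^ (a ^ (i + 1)) := by rw [← ha, ← zpow_mul, pow_succ']
    obtain ⟨i, hi⟩ : ∃ i : ℕ, w = n ^ i := by
      obtain ⟨i, hi⟩ := (Submonoid.mem_powers_iff _ _).1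
        ((isOfFinOrder_of_finite n).mem_powers_iff_mem_zpowers.2 hw')
      exact ⟨i, hi.symm⟩
    refine ⟨a ^ i, ?_, hi ▸ hnat i⟩
    have := sub_dvd_pow_sub_pow a 1 i
    rw [one_pow] at this
    exact hpa.trans this
  have hwg : Commute w g := H33.commute_of_conj_eq_zpow hw hgk hb.1 hb.2
  -- hence a `p`-power of `v` centralizes `z₀`
  have hz : ((z₀ : G)) ∈ Subgroup.zpowers g := hg.symm ▸ (hmap z₀).1 hz₀
  obtain ⟨i, hi⟩ := Subgroup.mem_zpowers_iff.1 hz
  have hwz : Commute w (z₀ : G) := hi ▸ hwg.zpow_right i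
  -- `n` and `v` act alike on `P₁'`
  have hpow : ∀ l : ℕ, n ^ l * (z₀ : G) * (n ^ l)⁻¹ = (v : G) ^ l * (z₀ : G) * ((v : G) ^ l)⁻¹ := by
    intro l
    induction l with
    | zero => simp
    | succ l ih =>
      have hmem : (v : G) ^ l * (z₀ : G) * ((v : G) ^ l)⁻¹ ∈ P₁' := by
        clear ih
        induction l with
        | zero => rw [pow_zero, one_mul, inv_one, mul_one]; exact Subgroup.mem_map_of_mem H.subtype hz₀
        | succ l ihl =>
          have := hvnorm _ ihl
          rw [pow_succ']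
          simpa [mul_assoc] using this
      have hfix : t * ((v : G) ^ (l + 1) * (z₀ : G) * ((v : G) ^ (l + 1))⁻¹) * t⁻¹ =
          (v : G) ^ (l + 1) * (z₀ : G) * ((v : G) ^ (l + 1))⁻¹ := by
        have hm2 : (v : G) ^ (l + 1) * (z₀ : G) * ((v : G) ^ (l + 1))⁻¹ ∈ P₁' := by
          have := hvnorm _ hmem
          rw [pow_succ']
          simpa [mul_assoc] using this
        rw [← Subgroup.mem_centralizer_iff.1 ht.2 _ hm2]; group
      calc n ^ (l + 1) * (z₀ : G) * (n ^ (l + 1))⁻¹ = n * (n ^ l * (z₀ : G) * (n ^ l)⁻¹) * n⁻¹ := by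
            rw [pow_succ']; group
        _ = t * ((v : G) ^ (l + 1) * (z₀ : G) * ((v : G) ^ (l + 1))⁻¹) * t⁻¹ := by
            rw [ih, hn, pow_succ' (v : G) l]; group
        _ = _ := hfix
  -- `n ^ (orderOf w)` is a `p`-element
  have hvp : Commute ((v : G) ^ (p ^ k)) (z₀ : G) := by
    have hcomm : Commute u w := by
      have hu0 : u = n * w⁻¹ := by rw [huw]; group
      rw [hu0]
      exact ((show Commute n w by rw [← hj]; exact (Commute.refl n).zpow_right j).mul_left
        ((Commute.refl w).inv_left))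
    have hnk : n ^ (p ^ k) = w ^ (p ^ k) := by rw [huw, hcomm.mul_pow, huk, one_mul]
    have h5 := hpow (p ^ k)
    rw [hnk, ((hwz.pow_left (p ^ k)).eq)] at h5
    refine mul_inv_eq_iff_eq_mul.1 (h5.symm.trans ?_)
    group
  have hvo' : (orderOf (v : G)).Coprime p := by rwa [Subgroup.orderOf_coe]
  obtain ⟨r, hr⟩ := exists_pow_eq_self_of_coprime (x := (v : G)) ((hvo'.pow_right k).symm)
  exact Subtype.ext (show (v : G) * z₀ = z₀ * v by rw [← hr]; exact (hvp.pow_left r).eq)

theorem psolvable_part (P : Sylow p G) (hP : IsCyclic (P : Subgroup G)) (H : Subgroup G) [H.Normal]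
    (h1 : p ∣ Nat.card H) (hH : Cfsg.HasNormalPComplement p H) : Cfsg.IsPSolvable p G := by
  set K := (Cfsg.pResidual p H).map H.subtype with hK
  have hKn : K.Normal := ConjAct.normal_of_characteristic_of_normal
  have hKp : ¬ p ∣ Nat.card K := by
    rw [hK, Subgroup.card_map_of_injective H.subtype_injective]
    exact H5.hasNormalPComplement_iff_not_dvd.1 hH
  refine H10.isPSolvable_of_quotient_of_card K
    (Or.inr ((Nat.Prime.coprime_iff_not_dvd Fact.out).2 hKp).symm) ?_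
  set φ := QuotientGroup.mk' K
  have hφ : Function.Surjective φ := QuotientGroup.mk'_surjective K
  set Z := H.map φ with hZdef
  have hZn : Z.Normal := Subgroup.Normal.map inferInstance φ hφ
  have hZp : IsPGroup p Z := by
    rintro ⟨_, h, hh, rfl⟩
    obtain ⟨k, hk⟩ := H5.isPGroup_quotient_pResidual (G := H) (p := p) (QuotientGroup.mk (⟨h, hh⟩ : H))
    refine ⟨k, Subtype.ext ?_⟩
    rw [← QuotientGroup.mk_pow, QuotientGroup.eq_one_iff] at hk
    show (φ h) ^ p ^ k = 1
    rw [← map_pow]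
    exact (QuotientGroup.eq_one_iff _).2 ⟨_, hk, rfl⟩
  set P' : Sylow p (G ⧸ K) := P.mapSurjective hφ
  have hP'c : (P' : Subgroup (G ⧸ K)) = (P : Subgroup G).map φ := Sylow.coe_mapSurjective hφ P
  have hP'cyc : IsCyclic (P' : Subgroup (G ⧸ K)) := by
    rw [hP'c]
    exact isCyclic_of_surjective _ (φ.subgroupMap_surjective (P : Subgroup G))
  have hZP : Z ≤ (P' : Subgroup (G ⧸ K)) := by
    obtain ⟨Q, hQ⟩ := hZp.exists_le_sylow
    obtain ⟨g, hg⟩ := MulAction.exists_smul_eq (G ⧸ K) Q P'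
    intro z hz
    have h3 : g⁻¹ * z * g ∈ (Q : Subgroup (G ⧸ K)) := hQ (by simpa using hZn.conj_mem z hz g⁻¹)
    have h4 := Subgroup.smul_mem_pointwise_smul _ (MulAut.conj g) _ h3
    rw [← hg, Sylow.coe_subgroup_smul]
    simpa [mul_assoc] using h4
  obtain ⟨z₁, hz₁, hz₁1⟩ : ∃ z ∈ Z, z ≠ 1 := by
    by_contra hh
    push Not at hh
    have hle : H ≤ K := fun h hh' => (QuotientGroup.eq_one_iff h).1 (hh _ ⟨h, hh', rfl⟩)
    exact hKp (h1.trans (Subgroup.card_dvd_of_le hle))
  set C := Subgroup.centralizer (Z : Set (G ⧸ K)) with hC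
  have hP'C : (P' : Subgroup (G ⧸ K)) ≤ C := by
    intro x hx
    refine Subgroup.mem_centralizer_iff.2 fun z hz => ?_
    exact congrArg Subtype.val (IsMulCommutative.is_comm.comm
      (⟨z, hZP hz⟩ : (P' : Subgroup (G ⧸ K))) ⟨x, hx⟩)
  have hZcyc : IsCyclic Z :=
    isCyclic_of_injective (Subgroup.inclusion hZP) (Subgroup.inclusion_injective hZP)
  have hCn : C.Normal := inferInstance
  refine H10.isPSolvable_of_normal C ?_ ?_
  · refine H33.isPSolvable_of_hasNormalPComplement ?_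
    have hcyc : IsCyclic ((P'.subtype hP'C : Sylow p C) : Subgroup C) := by
      refine isCyclic_of_injective ((C.subtype.comp ((P'.subtype hP'C : Sylow p C) : Subgroup C).subtype).codRestrict
        (P' : Subgroup (G ⧸ K)) fun r => Subgroup.mem_subgroupOf.1 r.2) ?_
      intro a b hab
      exact Subtype.ext (Subtype.ext (congrArg (fun y : (P' : Subgroup (G ⧸ K)) => (y : G ⧸ K)) hab))
    refine H33.hasNormalPComplement_of_cyclic (P'.subtype hP'C) hcyc fun v _ _ =>
      ⟨⟨z₁, hP'C (hZP hz₁)⟩, Subgroup.mem_subgroupOf.2 (hZP hz₁), fun e => hz₁1 (congrArg Subtype.val e), ?_⟩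
    exact Subtype.ext (Subgroup.mem_centralizer_iff.1 v.2 z₁ hz₁).symm
  · let f : (G ⧸ K) →* MulAut Z := MulAut.conjNormal
    have hker : f.ker ≤ C := by
      intro x hx
      refine Subgroup.mem_centralizer_iff.2 fun z hz => ?_
      have h3 := congrArg Subtype.val (DFunLike.congr_fun (MonoidHom.mem_ker.1 hx : f x = 1) ⟨z, hz⟩)
      simp only [f, MulAut.conjNormal_apply, MulAut.one_apply] at h3
      exact (mul_inv_eq_iff_eq_mul.1 h3).symm
    have hab : ∀ a b : (G ⧸ K) ⧸ C, a * b = b * a := by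
      intro a b
      obtain ⟨x, rfl⟩ := QuotientGroup.mk_surjective a
      obtain ⟨y, rfl⟩ := QuotientGroup.mk_surjective b
      rw [← QuotientGroup.mk_mul, ← QuotientGroup.mk_mul, QuotientGroup.eq]
      apply hker
      rw [MonoidHom.mem_ker, map_mul, map_inv, map_mul, map_mul]
      have hc : f x * f y = f y * f x := (IsCyclic.mulAutMulEquiv Z).injective.eq_iff.1 (by
        rw [map_mul, map_mul, mul_comm])
      rw [hc, inv_mul_cancel]
    have : Group.IsSolvable ((G ⧸ K) ⧸ C) := Group.isSolvable_of_comm hab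
    exact H10.isPSolvable_of_isSolvable

/-- Let G be a finite group with a cyclic Sylow p-subgroup and H a normal subgroup such that p divides both the order of H and the index of H. Then H has a normal p-complement and G is p-solvable. -/
theorem result {G : Type*} [Group G] [Finite G] (p : ℕ) [Fact p.Prime]
    (P : Sylow p G) (hP : IsCyclic (P : Subgroup G)) (H : Subgroup G) [H.Normal] (h1 : p ∣ Nat.card H) (h2 : p ∣ H.index) :
    Cfsg.HasNormalPComplement p H ∧ Cfsg.IsPSolvable p G :=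
  ⟨npc_part P hP H h2, psolvable_part P hP H h1 (npc_part P hP H h2)⟩

end Cfsg.Agent.S4145
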