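import Cfsg.Statements.S4149
import Mathlib
import Cfsg.Agent.H27.ClassBasic

set_option autoImplicit false
open Cfsg

namespace Cfsg.Agent.S4149

open scoped Classical
open Finset

/-- Let G be a finite group that has a normal p-complement for at most one prime p dividing its order, and let σ be a natural number such that every conjugacy class size of G has at most σ distinct prime divisors. Then the number of primes dividing at least one conjugacy class size of G is at most 2σ. -/
theorem result {G : Type*} [Group G] [Finite G] (σ : ℕ)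
    (hσ : ∀ x : G, ((Subgroup.centralizer ({x} : Set G)).index).primeFactors.card ≤ σ)
    (hnil : ∀ p q : ℕ, p.Prime → q.Prime → p ∣ Nat.card G → q ∣ Nat.card G →
      Cfsg.HasNormalPComplement p G → Cfsg.HasNormalPComplement q G → p = q) :
    Nat.card {p : ℕ | p.Prime ∧ ∃ x : G, p ∣ (Subgroup.centralizer ({x} : Set G)).index} ≤ 2 * σ := by
  cases nonempty_fintype G
  let idx : G → ℕ := fun x => (Subgroup.centralizer ({x} : Set G)).index
  set R : Finset ℕ := (Nat.card G).primeFactors.filter (fun p => ∃ x : G, p ∣ idx x)
  have hcard : Nat.card {p : ℕ | p.Prime ∧ ∃ x : G, p ∣ idx x} = R.card := by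
    rw [Nat.card_coe_set_eq, ← Set.ncard_coe_finset]
    congr 1
    ext p
    simp only [R, Finset.coe_filter, Nat.mem_primeFactors, Set.mem_ofPred_eq]
    constructor
    · rintro ⟨hp, x, hx⟩
      exact ⟨⟨hp, hx.trans (H27.index_cent_dvd_card x), Nat.card_pos.ne'⟩, x, hx⟩
    · rintro ⟨⟨hp, -⟩, hx⟩
      exact ⟨hp, hx⟩
  rw [hcard]
  set R' : Finset ℕ := R.filter (fun p => ¬ Cfsg.HasNormalPComplement p G)
  set E : Finset G := univ.erase 1
  have hE : E.card + 1 = Nat.card G := by
    rw [Nat.card_eq_fintype_card, ← Finset.card_univ]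
    exact Finset.card_erase_add_one (mem_univ _)
  have hhalf : ∀ p ∈ R', Nat.card G ≤ 2 * (E.filter (fun x => p ∣ idx x)).card := by
    intro p hp
    simp only [R', R, Finset.mem_filter, Nat.mem_primeFactors] at hp
    have := Fact.mk hp.1.1.1
    have h1 := H27.two_mul_card_not_dvd_add_two_le (G := G) hp.2
    have h2 := Finset.card_filter_add_card_filter_not (s := E) (fun x => p ∣ idx x)
    have h3 : Nat.card {x : G // x ≠ 1 ∧ ¬ p ∣ (Subgroup.centralizer ({x} : Set G)).index} =
        (E.filter (fun x => ¬ p ∣ idx x)).card := by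
      rw [Nat.card_eq_fintype_card, Fintype.card_subtype]
      congr 1
      ext x
      simp [E, idx]
    omega
  have hupper : ∀ x : G, (R'.filter (fun p => p ∣ idx x)).card ≤ σ := by
    intro x
    refine le_trans (Finset.card_le_card fun p hp => ?_) (hσ x)
    simp only [R', R, Finset.mem_filter, Nat.mem_primeFactors] at hp
    exact Nat.mem_primeFactors.mpr ⟨hp.1.1.1.1, hp.2, (H27.cent_pos x).ne'⟩
  have hsum : R'.card * Nat.card G ≤ 2 * (E.card * σ) := by
    calc R'.card * Nat.card G ≤ ∑ p ∈ R', 2 * (E.filter (fun x => p ∣ idx x)).card := by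
          simpa using Finset.card_nsmul_le_sum R' _ _ hhalf
      _ = 2 * ∑ x ∈ E, (R'.filter (fun p => p ∣ idx x)).card := by
          rw [← Finset.mul_sum]
          congr 1
          simp only [Finset.card_filter]
          exact Finset.sum_comm
      _ ≤ 2 * (E.card * σ) := by
          gcongr
          simpa using Finset.sum_le_card_nsmul E _ σ (fun x _ => hupper x)
  have hsplit : R.card ≤ R'.card + 1 := by
    have h1 := Finset.card_filter_add_card_filter_not (s := R) (fun p => ¬ Cfsg.HasNormalPComplement p G)
    have h2 : (R.filter (fun p => ¬ ¬ Cfsg.HasNormalPComplement p G)).card ≤ 1 := by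
      rw [Finset.card_le_one]
      intro a ha b hb
      simp only [R, Finset.mem_filter, Nat.mem_primeFactors, not_not] at ha hb
      exact hnil a b ha.1.1.1 hb.1.1.1 ha.1.1.2.1 hb.1.1.2.1 ha.2 hb.2
    simp only [R'] at h1 ⊢
    omega
  rcases Nat.eq_zero_or_pos R'.card with h0 | hpos
  · rcases Nat.eq_zero_or_pos σ with hs | hs
    · have : R = ∅ := by
        refine Finset.eq_empty_of_forall_notMem fun p hp => ?_
        simp only [R, Finset.mem_filter, Nat.mem_primeFactors] at hp
        obtain ⟨x, hx⟩ := hp.2
        have hmem : p ∈ (idx x).primeFactors :=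
          Nat.mem_primeFactors.mpr ⟨hp.1.1, hx, (H27.cent_pos x).ne'⟩
        have hx' : (idx x).primeFactors.card ≤ σ := hσ x
        have hpos' := Finset.card_pos.mpr ⟨p, hmem⟩
        omega
      simp [this]
    · omega
  · have h4 : R'.card < 2 * σ := by
      by_contra hle
      have : 2 * σ * Nat.card G ≤ 2 * (E.card * σ) :=
        le_trans (Nat.mul_le_mul_right _ (not_lt.mp hle)) hsum
      rw [← hE] at this
      rcases Nat.eq_zero_or_pos σ with hs | hs
      · subst hs
        have : 0 < R'.card * Nat.card G := Nat.mul_pos hpos Nat.card_pos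
        rw [Nat.mul_zero, Nat.mul_zero] at hsum
        omega
      · nlinarith
    omega

end Cfsg.Agent.S4149
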