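import Cfsg.Statements.S4150
import Cfsg.Agent.H36.CycleGen
import Cfsg.Agent.H36.PrimePairs
import Cfsg.Agent.H36.AltSix

set_option autoImplicit false
open Cfsg

namespace Cfsg.Agent.S4150

/-- Let m ≥ 5. Then there are primes p < q with m/2 ≤ p and q ≤ m such that any two elements x, y of the alternating group of degree m with x of order p and y of order q generate a subgroup isomorphic to an alternating group of some degree d ≥ 5. -/
theorem result (m : ℕ) (hm : 5 ≤ m) :
    ∃ p q : ℕ, p.Prime ∧ q.Prime ∧ m ≤ 2 * p ∧ p < q ∧ q ≤ m ∧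
      ∀ x y : alternatingGroup (Fin m), orderOf x = p → orderOf y = q →
        ∃ d : ℕ, 5 ≤ d ∧ Nonempty (Subgroup.closure ({x, y} : Set (alternatingGroup (Fin m))) ≃* alternatingGroup (Fin d)) := by
  by_cases h6 : m = 6
  · subst h6
    refine ⟨3, 5, by norm_num, by norm_num, le_rfl, by norm_num, by norm_num, fun x y hx hy => ?_⟩
    refine H36.altSix_fifteen _ ?_
    refine Nat.Coprime.mul_dvd_of_dvd_of_dvd (by norm_num : Nat.Coprime 3 5) ?_ ?_
    · exact hx ▸ Subgroup.orderOf_dvd_natCard _ (Subgroup.subset_closure (Or.inl rfl))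
    · exact hy ▸ Subgroup.orderOf_dvd_natCard _ (Subgroup.subset_closure (Or.inr rfl))
  have key : ∃ p q : ℕ, p.Prime ∧ q.Prime ∧ p + 2 ≤ q ∧ q ≤ m ∧ m ≤ 2 * p ∧
      (m = 2 * p → q + 3 ≤ 2 * p) ∧ (q = p + 2 → p = 3 ∨ p = 5 ∨ p = 11) := by
    by_cases h5 : m = 5
    · exact ⟨3, 5, by norm_num, by norm_num, le_rfl, by omega, by omega, by omega, by omega⟩
    by_cases h10 : m ≤ 10
    · exact ⟨5, 7, by norm_num, by norm_num, le_rfl, by omega, by omega, by omega, by omega⟩
    by_cases h14 : m ≤ 14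
    · exact ⟨7, 11, by norm_num, by norm_num, by norm_num, by omega, by omega, by omega, by omega⟩
    by_cases h16 : m ≤ 16
    · exact ⟨11, 13, by norm_num, by norm_num, le_rfl, by omega, by omega, by omega, by omega⟩
    by_cases h17 : m = 17
    · exact ⟨11, 17, by norm_num, by norm_num, by norm_num, by omega, by omega, by omega, by omega⟩
    obtain ⟨p, q, hp, hq, hpq, h1, h2⟩ := H36.exists_primes_gap_double (m / 2) (by omega)
    exact ⟨p, q, hp, hq, by omega, by omega, by omega, by omega, by omega⟩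
  obtain ⟨p, q, hp, hq, hpq, hqm, hmp, hdouble, htwin⟩ := key
  exact ⟨p, q, hp, hq, hmp, by omega, hqm, fun x y hx hy =>
    H36.exists_alternating_closure hp hq hpq hmp hdouble htwin x y hx hy⟩

end Cfsg.Agent.S4150
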