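import Cfsg.Statements.S4152
import Cfsg.Agent.H33.PiClosed

set_option autoImplicit false
open Cfsg

namespace Cfsg.Agent.S4152

open H33

/-- Uniqueness of the decomposition into commuting π- and π'-parts. -/
theorem decomp_unique {G : Type*} [Group G] [Finite G] {π : Set ℕ} {y y' b b' : G}
    (hy : IsPiEl π y) (hy' : IsPiEl π y') (hb : IsPiCoEl π b) (hb' : IsPiCoEl π b')
    (hc : Commute y b) (hc' : Commute y' b') (h : y * b = y' * b') : y = y' ∧ b = b' := by
  have part : ∀ u v : G, IsPiEl π u → IsPiCoEl π v → Commute u v → u ∈ Subgroup.zpowers (u * v) := by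
    intro u v hu hv huv
    have hcop : (orderOf v).Coprime (orderOf u) :=
      Nat.coprime_of_dvd fun p hp h1 h2 => hv p hp h1 (hu p hp h2)
    obtain ⟨m, hm⟩ := exists_pow_eq_self_of_coprime (x := u) hcop
    have e : (u * v) ^ orderOf v = u ^ orderOf v := by rw [huv.mul_pow, pow_orderOf_eq_one, mul_one]
    have h1 : (u ^ orderOf v) ^ m ∈ Subgroup.zpowers (u * v) := by
      rw [← e]; exact Subgroup.pow_mem _ (Subgroup.npow_mem_zpowers _ _) m
    rwa [hm] at h1
  have h1 := part y b hy hb hc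
  have h2 : y' ∈ Subgroup.zpowers (y * b) := h ▸ part y' b' hy' hb' hc'
  obtain ⟨i, hi⟩ := Subgroup.mem_zpowers_iff.1 h1
  obtain ⟨j, hj⟩ := Subgroup.mem_zpowers_iff.1 h2
  have hbz : ∃ k : ℤ, b = (y * b) ^ k := ⟨1 - i, by rw [sub_eq_neg_add, zpow_add, zpow_neg, hi, zpow_one, inv_mul_cancel_left]⟩
  have hbz' : ∃ k : ℤ, b' = (y * b) ^ k := ⟨1 - j, by rw [sub_eq_neg_add, zpow_add, zpow_neg, hj, zpow_one, h, inv_mul_cancel_left]⟩
  obtain ⟨k, hk⟩ := hbz
  obtain ⟨k', hk'⟩ := hbz'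
  have e : y'⁻¹ * y = b' * b⁻¹ := by
    calc y'⁻¹ * y = y'⁻¹ * (y * b) * b⁻¹ := by group
      _ = b' * b⁻¹ := by rw [h]; group
  have cy : Commute y'⁻¹ y := by rw [← hi, ← hj]; exact ((Commute.refl _).zpow_zpow j i).inv_left
  have cb : Commute b' b⁻¹ := by rw [hk, hk']; exact ((Commute.refl _).zpow_zpow k' k).inv_right
  have p1 : IsPiEl π (y'⁻¹ * y) := isPiEl_mul cy (fun p hp hd => hy' p hp (by rwa [orderOf_inv] at hd)) hy
  have p2 : IsPiCoEl π (b' * b⁻¹) := fun p hp hd => by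
    rcases hp.dvd_mul.1 (hd.trans cb.orderOf_mul_dvd_mul_orderOf) with h' | h'
    · exact hb' p hp h'
    · exact hb p hp (by rwa [orderOf_inv] at h')
  have h0 := eq_one_of_both p1 (e ▸ p2)
  exact ⟨(inv_mul_eq_one.1 h0).symm, (mul_inv_eq_one.1 (e ▸ h0)).symm⟩

/-- The number of `N`-classes of π-elements in a coset is at most the number in `N`. -/
theorem fibre_le {G : Type*} [Group G] [Finite G] (N : Subgroup G) [N.Normal] (π : Set ℕ)
    (x : G) (R : Set G) (hR : ∀ y ∈ R, (x⁻¹ * y ∈ N) ∧ IsPiEl π y)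
    (hRinj : ∀ y ∈ R, ∀ z ∈ R, IsConj y z → y = z) :
    Nat.card R ≤ Nat.card {C : ConjClasses N //
      ∀ q : ℕ, q.Prime → (∃ g : N, ConjClasses.mk g = C ∧ q ∣ orderOf g) → q ∈ π} := by
  classical
  let T := {C : ConjClasses N // ∀ q : ℕ, q.Prime → (∃ g : N, ConjClasses.mk g = C ∧ q ∣ orderOf g) → q ∈ π}
  let pairs := {q : G × N // (x⁻¹ * q.1 ∈ N ∧ IsPiEl π q.1) ∧ (q.2 : G) * q.1 = q.1 * (q.2 : G)}
  let comm := {q : N × N // IsPiEl π (q.1 : G) ∧ q.2 * q.1 = q.1 * q.2}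
  -- `R × N` embeds in `pairs`
  have h1 : Nat.card (R × N) ≤ Nat.card pairs := by
    have hs : ∀ y' : G, ∃ n : N, ∀ y ∈ R, (∃ m : N, (m : G) * y * (m : G)⁻¹ = y') →
        (n : G) * y * (n : G)⁻¹ = y' := by
      intro y'
      by_cases h : ∃ y ∈ R, ∃ m : N, (m : G) * y * (m : G)⁻¹ = y'
      · obtain ⟨y, hy, m, hm⟩ := h
        refine ⟨m, fun z hz hz' => ?_⟩
        obtain ⟨m', hm'⟩ := hz'
        have hyz : y = z := hRinj y hy z hz
          ((isConj_iff.2 ⟨_, hm⟩).trans (isConj_iff.2 ⟨_, hm'⟩).symm)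
        rw [← hyz]; exact hm
      · exact ⟨1, fun y hy h' => absurd ⟨y, hy, h'⟩ h⟩
    choose s hs using hs
    let f : R × N → pairs := fun r => ⟨((r.2 : G) * r.1 * (r.2 : G)⁻¹,
        r.2 * (s ((r.2 : G) * r.1 * (r.2 : G)⁻¹))⁻¹), by
      obtain ⟨⟨y, hy⟩, n⟩ := r
      obtain ⟨hy1, hy2⟩ := hR y hy
      refine ⟨⟨?_, isPiEl_of_dvd hy2 (dvd_of_eq (by rw [← MulAut.conj_apply, MulEquiv.orderOf_eq]))⟩, ?_⟩
      · have h3 : y⁻¹ * (n : G) * y ∈ N := by
          simpa using (‹N.Normal›).conj_mem _ n.2 y⁻¹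
        have := mul_mem (mul_mem hy1 h3) (inv_mem n.2)
        simpa [mul_assoc] using this
      · have e := hs ((n : G) * y * (n : G)⁻¹) y hy ⟨n, rfl⟩
        generalize s ((n : G) * y * (n : G)⁻¹) = t at e ⊢
        push_cast
        calc (n : G) * (t : G)⁻¹ * ((n : G) * y * (n : G)⁻¹)
            = (n : G) * (t : G)⁻¹ * ((t : G) * y * (t : G)⁻¹) := by rw [e]
          _ = (n : G) * y * (n : G)⁻¹ * ((n : G) * (t : G)⁻¹) := by group⟩
    refine Nat.card_le_card_of_injective f ?_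
    rintro ⟨⟨y, hy⟩, n⟩ ⟨⟨z, hz⟩, m⟩ h
    have e1 : (n : G) * y * (n : G)⁻¹ = (m : G) * z * (m : G)⁻¹ :=
      congrArg (fun q : pairs => q.1.1) h
    have e2 : n * (s ((n : G) * y * (n : G)⁻¹))⁻¹ = m * (s ((m : G) * z * (m : G)⁻¹))⁻¹ :=
      congrArg (fun q : pairs => q.1.2) h
    rw [e1] at e2
    have hnm := mul_right_cancel e2
    subst hnm
    have hyz : y = z := mul_left_cancel (mul_right_cancel e1)
    subst hyz
    rfl
  -- `pairs` embeds in `comm`
  have h2 : Nat.card pairs ≤ Nat.card comm := by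
    have hdec : ∀ n : N, ∃ a b : N, n = a * b ∧ IsPiEl π (a : G) ∧ IsPiCoEl π (b : G) ∧
        (∃ i : ℤ, a = n ^ i) ∧ ∃ j : ℤ, b = n ^ j := by
      intro n
      obtain ⟨i, j, h, hi, hj⟩ := exists_pi_decomp π (n : G)
      exact ⟨n ^ i, n ^ j, Subtype.ext h, hi, hj, ⟨i, rfl⟩, ⟨j, rfl⟩⟩
    choose a b hab ha hb hai hbj using hdec
    have hc : ∀ w : N, ∃ c : G, ∀ q : pairs, a q.1.2 = w →
        x⁻¹ * c ∈ N ∧ c * (w : G) = (w : G) * c := by
      intro w
      by_cases h : ∃ q : pairs, a q.1.2 = w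
      · obtain ⟨q, hq⟩ := h
        refine ⟨q.1.1, fun q' _ => ⟨q.2.1.1, ?_⟩⟩
        obtain ⟨i, hi⟩ := hai q.1.2
        rw [← hq, hi]
        push_cast
        exact ((show Commute (q.1.2 : G) q.1.1 from q.2.2).symm.zpow_right i).eq
      · exact ⟨1, fun q hq => absurd ⟨q, hq⟩ h⟩
    choose c hc using hc
    have hmem : ∀ q : pairs, (c (a q.1.2))⁻¹ * (q.1.1 * (b q.1.2 : G)) ∈ N := by
      intro q
      obtain ⟨hc1, -⟩ := hc _ q rfl
      have := mul_mem (mul_mem (inv_mem hc1) q.2.1.1) (b q.1.2).2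
      simpa [mul_assoc] using this
    let f : pairs → comm := fun q => ⟨(a q.1.2, ⟨_, hmem q⟩), ha _, by
      apply Subtype.ext
      push_cast
      obtain ⟨-, hc2⟩ := hc _ q rfl
      obtain ⟨i, hi⟩ := hai q.1.2
      obtain ⟨j, hj⟩ := hbj q.1.2
      have c1 : Commute ((c (a q.1.2))⁻¹) (a q.1.2 : G) := (show Commute _ _ from hc2).inv_left
      have c2 : Commute q.1.1 (a q.1.2 : G) := by
        rw [hi]; push_cast
        exact (show Commute (q.1.2 : G) q.1.1 from q.2.2).symm.zpow_right i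
      have c3 : Commute (b q.1.2 : G) (a q.1.2 : G) := by
        rw [hi, hj]; push_cast
        exact (Commute.refl _).zpow_zpow j i
      exact (c1.mul_left (c2.mul_left c3)).eq⟩
    refine Nat.card_le_card_of_injective f ?_
    intro q q' h
    have e1 : a q.1.2 = a q'.1.2 := congrArg (fun w : comm => w.1.1) h
    have e2 : (c (a q.1.2))⁻¹ * (q.1.1 * (b q.1.2 : G)) = (c (a q'.1.2))⁻¹ * (q'.1.1 * (b q'.1.2 : G)) :=
      congrArg (fun w : comm => (w.1.2 : G)) h
    rw [e1] at e2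
    have cy : ∀ r : pairs, Commute r.1.1 (b r.1.2 : G) := by
      intro r
      obtain ⟨j, hj⟩ := hbj r.1.2
      rw [hj]; push_cast
      exact (show Commute (r.1.2 : G) r.1.1 from r.2.2).symm.zpow_right j
    obtain ⟨hy, hb'⟩ := decomp_unique q.2.1.2 q'.2.1.2 (hb _) (hb _) (cy q) (cy q') (mul_left_cancel e2)
    refine Subtype.ext (Prod.ext hy ?_)
    rw [hab q.1.2, hab q'.1.2, e1, Subtype.ext hb']
  -- `comm` embeds in `T × N`
  have h3 : Nat.card comm ≤ Nat.card (T × N) := by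
    have hs : ∀ u : N, ∃ s : N, s * Quotient.out (ConjClasses.mk u) * s⁻¹ = u := by
      intro u
      obtain ⟨s, hs⟩ := isConj_iff.1 (ConjClasses.mk_eq_mk_iff_isConj.1
        (Quotient.out_eq (ConjClasses.mk u)))
      exact ⟨s, hs⟩
    choose s hs using hs
    let f : comm → T × N := fun q => (⟨ConjClasses.mk q.1.1, by
      rintro r hr ⟨g, hg, hrd⟩
      obtain ⟨k, hk⟩ := isConj_iff.1 (ConjClasses.mk_eq_mk_iff_isConj.1 hg)
      refine q.2.1 r hr ?_
      rw [← hk, Subgroup.orderOf_coe, ← MulAut.conj_apply, MulEquiv.orderOf_eq]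
      exact hrd⟩, q.1.2 * s q.1.1)
    refine Nat.card_le_card_of_injective f ?_
    rintro ⟨⟨u, m⟩, hu, hum⟩ ⟨⟨u', m'⟩, hu', hum'⟩ h
    have e1 : ConjClasses.mk u = ConjClasses.mk u' := congrArg (fun w : T × N => w.1.1) h
    have e2 : m * s u = m' * s u' := congrArg (fun w : T × N => w.2) h
    have back : ∀ v l : N, l * v = v * l → (l * s v) * Quotient.out (ConjClasses.mk v) * (l * s v)⁻¹ = v := by
      intro v l hl
      calc (l * s v) * Quotient.out (ConjClasses.mk v) * (l * s v)⁻¹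
          = l * (s v * Quotient.out (ConjClasses.mk v) * (s v)⁻¹) * l⁻¹ := by group
        _ = v := by rw [hs v, hl, mul_inv_cancel_right]
    have e3 : u = u' := by rw [← back u m hum, ← back u' m' hum', e1, e2]
    subst e3
    have := mul_right_cancel e2
    subst this
    rfl
  have := (h1.trans h2).trans h3
  rw [Nat.card_prod, Nat.card_prod] at this
  exact Nat.le_of_mul_le_mul_right this Nat.card_pos

/-- Let G be a finite group, N a normal subgroup and π a set of primes. Then the number of conjugacy classes of π-elements of G (elements whose order is divisible only by primes in π) is at most the number of conjugacy classes of π-elements of N (under conjugation by N) times the number of conjugacy classes of π-elements of G/N. -/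
theorem result {G : Type*} [Group G] [Finite G] (N : Subgroup G) [N.Normal] (π : Set ℕ) :
    Nat.card {C : ConjClasses G // ∀ q : ℕ, q.Prime → (∃ g : G, ConjClasses.mk g = C ∧ q ∣ orderOf g) → q ∈ π} ≤ Nat.card {C : ConjClasses N // ∀ q : ℕ, q.Prime → (∃ g : N, ConjClasses.mk g = C ∧ q ∣ orderOf g) → q ∈ π} * Nat.card {C : ConjClasses (G ⧸ N) // ∀ q : ℕ, q.Prime → (∃ g : (G ⧸ N), ConjClasses.mk g = C ∧ q ∣ orderOf g) → q ∈ π} := by
  classical
  let S := {C : ConjClasses G // ∀ q : ℕ, q.Prime → (∃ g : G, ConjClasses.mk g = C ∧ q ∣ orderOf g) → q ∈ π}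
  let U := {C : ConjClasses (G ⧸ N) // ∀ q : ℕ, q.Prime → (∃ g : (G ⧸ N), ConjClasses.mk g = C ∧ q ∣ orderOf g) → q ∈ π}
  have hrep : ∀ C : S, IsPiEl π (Quotient.out C.1) := fun C q hq hd =>
    C.2 q hq ⟨_, Quotient.out_eq C.1, hd⟩
  let φ : S → U := fun C => ⟨ConjClasses.mk ((Quotient.out C.1 : G) : G ⧸ N), by
    rintro r hr ⟨g, hg, hrd⟩
    obtain ⟨k, hk⟩ := isConj_iff.1 (ConjClasses.mk_eq_mk_iff_isConj.1 hg)
    refine hrep C r hr (hrd.trans ((dvd_of_eq ?_).trans (orderOf_map_dvd (QuotientGroup.mk' N) _)))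
    show orderOf g = orderOf ((Quotient.out C.1 : G) : G ⧸ N)
    rw [← hk, ← MulAut.conj_apply, MulEquiv.orderOf_eq]⟩
  rw [mul_comm]
  calc Nat.card S = Nat.card (Σ u : U, {C : S // φ C = u}) :=
        Nat.card_congr (Equiv.sigmaFiberEquiv φ).symm
    _ ≤ _ := ?_
  have := Fintype.ofFinite U
  rw [Nat.card_sigma, Nat.card_eq_fintype_card (α := U)]
  refine (Finset.sum_le_card_nsmul Finset.univ _ _ fun u _ => ?_).trans_eq rfl
  obtain ⟨x, hx⟩ := QuotientGroup.mk_surjective (Quotient.out u.1)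
  -- representatives in the coset `x N`
  have hr : ∀ C : {C : S // φ C = u}, ∃ y : G, ConjClasses.mk y = C.1.1 ∧ x⁻¹ * y ∈ N := by
    rintro ⟨C, hC⟩
    have e : ConjClasses.mk ((Quotient.out C.1 : G) : G ⧸ N) = ConjClasses.mk (x : G ⧸ N) :=
      ((congrArg Subtype.val hC).trans (Quotient.out_eq u.1).symm).trans (congrArg ConjClasses.mk hx).symm
    obtain ⟨k, hk⟩ := isConj_iff.1 (ConjClasses.mk_eq_mk_iff_isConj.1 e)
    obtain ⟨g, rfl⟩ := QuotientGroup.mk_surjective k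
    refine ⟨g * Quotient.out C.1 * g⁻¹, ?_, ?_⟩
    · refine Eq.trans ?_ (Quotient.out_eq C.1)
      exact ConjClasses.mk_eq_mk_iff_isConj.2 (isConj_iff.2 ⟨g⁻¹, by group⟩)
    · rw [← QuotientGroup.eq, QuotientGroup.mk_mul, QuotientGroup.mk_mul, QuotientGroup.mk_inv, hk]
  choose r hr1 hr2 using hr
  have hrinj : Function.Injective r := fun C D h =>
    Subtype.ext (Subtype.ext ((hr1 C).symm.trans ((congrArg ConjClasses.mk h).trans (hr1 D))))
  refine le_trans (le_of_eq (Nat.card_congr (Equiv.ofInjective r hrinj))) (fibre_le N π x _ ?_ ?_)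
  · rintro _ ⟨C, rfl⟩
    exact ⟨hr2 C, fun q hq hd => C.1.2 q hq ⟨_, hr1 C, hd⟩⟩
  · rintro _ ⟨C, rfl⟩ _ ⟨D, rfl⟩ h
    exact congrArg r (Subtype.ext (Subtype.ext
      ((hr1 C).symm.trans ((ConjClasses.mk_eq_mk_iff_isConj.2 h).trans (hr1 D)))))

end Cfsg.Agent.S4152
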