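import Cfsg.Statements.S4153
import Cfsg.Agent.H36.PElementsCoset

set_option autoImplicit false
open Cfsg

namespace Cfsg.Agent.S4153

/-- Let G be a finite group, p a prime, N a normal subgroup, P a Sylow p-subgroup of G and P̄ a Sylow p-subgroup of G/N. Count the elements of p-power order, the identity included. Then (number of such elements of G/N)/#P̄ ≤ (number of such elements of G)/#P, stated as a cross-multiplied inequality, with equality when N is central. -/
theorem result {G : Type*} [Group G] [Finite G] (p : ℕ) [Fact p.Prime] (N : Subgroup G) [N.Normal]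
    (P : Sylow p G) (Pbar : Sylow p (G ⧸ N)) :
    Nat.card {g : (G ⧸ N) // ∃ k : ℕ, orderOf g = p ^ k} * Nat.card (P : Subgroup G) ≤ Nat.card {g : G // ∃ k : ℕ, orderOf g = p ^ k} * Nat.card (Pbar : Subgroup (G ⧸ N)) ∧
    (N ≤ Subgroup.center G → Nat.card {g : (G ⧸ N) // ∃ k : ℕ, orderOf g = p ^ k} * Nat.card (P : Subgroup G) = Nat.card {g : G // ∃ k : ℕ, orderOf g = p ^ k} * Nat.card (Pbar : Subgroup (G ⧸ N))) := by
  classical
  have := Fintype.ofFinite (G ⧸ N)
  show Nat.card {g : G ⧸ N // H36.IsPEl p g} * _ ≤ Nat.card {g : G // H36.IsPEl p g} * _ ∧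
    (_ → Nat.card {g : G ⧸ N // H36.IsPEl p g} * _ = Nat.card {g : G // H36.IsPEl p g} * _)
  have hcard : Nat.card G = Nat.card (G ⧸ N) * Nat.card N :=
    Subgroup.card_eq_card_quotient_mul_card_subgroup N
  have hP : Nat.card (P : Subgroup G) =
      p ^ (Nat.card N).factorization p * Nat.card (Pbar : Subgroup (G ⧸ N)) := by
    rw [P.card_eq_multiplicity, Pbar.card_eq_multiplicity, hcard,
      Nat.factorization_mul Nat.card_pos.ne' Nat.card_pos.ne', Finsupp.add_apply, pow_add, mul_comm]
  have hsum := H36.card_pEl_eq_sum N p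
  have hcnt : Nat.card {g : G ⧸ N // H36.IsPEl p g} =
      (Finset.univ.filter (fun d : G ⧸ N => H36.IsPEl p d)).card := by
    rw [← Nat.card_eq_finsetCard]
    exact Nat.card_congr (Equiv.subtypeEquivRight (by simp))
  rw [hsum, hcnt, hP, ← mul_assoc]
  refine ⟨Nat.mul_le_mul_right _ ?_, fun hc => congrArg (· * _) ?_⟩
  · rw [← smul_eq_mul]
    refine Finset.card_nsmul_le_sum _ _ _ fun d hd => ?_
    have hd' := (Finset.mem_filter.mp hd).2
    exact Nat.le_of_dvd (H36.pFibre_pos N p hd')
      (H36.pow_dvd_pFibre N p hd' (Nat.ordProj_dvd _ _))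
  · rw [Finset.sum_congr rfl (g := fun _ => p ^ (Nat.card N).factorization p), Finset.sum_const,
      smul_eq_mul]
    intro d hd
    rw [H36.pFibre_of_center N p hc (Finset.mem_filter.mp hd).2]
    exact H36.card_pEl_of_comm p N fun a b =>
      Subtype.ext ((Subgroup.mem_center_iff.mp (hc a.2) b).symm)

end Cfsg.Agent.S4153
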