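import Cfsg.Statements.S4154


set_option autoImplicit false
open Cfsg

namespace Cfsg.Agent.S4154

/-- Let G be a finite group and α an automorphism of G such that every element of G is the product of an element fixed by α and an element of the form g⁻¹α(g). If N is a normal α-invariant subgroup, then the automorphism ᾱ induced on G/N has the same property, and every coset fixed by ᾱ contains an element fixed by α (so the fixed points of ᾱ are the images of the fixed points of α). -/
theorem result {G : Type*} [Group G] [Finite G] (α : MulAut G)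
    (hccp : ∀ x : G, ∃ c g : G, α c = c ∧ x = c * (g⁻¹ * α g))
    (N : Subgroup G) [N.Normal] (hN : ∀ n ∈ N, α n ∈ N) :
    (∀ x : G, ∃ c g : G, c⁻¹ * α c ∈ N ∧ x⁻¹ * (c * (g⁻¹ * α g)) ∈ N) ∧
    (∀ x : G, x⁻¹ * α x ∈ N → ∃ c : G, α c = c ∧ c⁻¹ * x ∈ N) := by
  classical
  refine ⟨fun x => ?_, ?_⟩
  · obtain ⟨c, g, hc, hx⟩ := hccp x
    exact ⟨c, g, by rw [hc, inv_mul_cancel]; exact one_mem N, by
      rw [← hx, inv_mul_cancel]; exact one_mem N⟩
  -- counting: `G = C * T` with `#T ≤ [G : C]`, and the same in `G / N`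
  let C : Subgroup G :=
  { carrier := {c | α c = c}
    one_mem' := map_one α
    mul_mem' := fun {a b} ha hb => by simp only [Set.mem_ofPred_eq] at *; rw [map_mul, ha, hb]
    inv_mem' := fun {a} ha => by simp only [Set.mem_ofPred_eq] at *; rw [map_inv, ha] }
  let D : Subgroup G :=
  { carrier := {c | c⁻¹ * α c ∈ N}
    one_mem' := by simp
    mul_mem' := fun {a b} ha hb => by
      simp only [Set.mem_ofPred_eq] at *
      have e : (a * b)⁻¹ * α (a * b) = (b⁻¹ * (a⁻¹ * α a) * b⁻¹⁻¹) * (b⁻¹ * α b) := by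
        simp [mul_assoc]
      rw [e]
      exact mul_mem (Subgroup.Normal.conj_mem inferInstance _ ha _) hb
    inv_mem' := fun {a} ha => by
      simp only [Set.mem_ofPred_eq] at *
      have e : a⁻¹⁻¹ * α a⁻¹ = a * (a⁻¹ * α a)⁻¹ * a⁻¹ := by simp [mul_assoc]
      rw [e]
      exact Subgroup.Normal.conj_mem inferInstance _ (inv_mem ha) _ }
  let π := QuotientGroup.mk' N
  have hND : N ≤ D := fun n hn => mul_mem (inv_mem hn) (hN n hn)
  -- the map `g ↦ g⁻¹ α g` modulo `N` factors through the right cosets of `D`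
  let T : Set (G ⧸ N) := Set.range fun g : G => π (g⁻¹ * α g)
  have hT : Nat.card T ≤ D.index := by
    let f : G ⧸ D → T := Quotient.lift (fun g : G =>
      (⟨π (g⁻¹⁻¹ * α g⁻¹), g⁻¹, rfl⟩ : T)) (by
        intro a b h
        have h' : a⁻¹ * b ∈ D := QuotientGroup.leftRel_apply.mp h
        apply Subtype.ext
        show π _ = π _
        simp only [π, QuotientGroup.mk'_apply, QuotientGroup.eq]
        have h'' : (a⁻¹ * b)⁻¹ * α (a⁻¹ * b) ∈ N := h'
        have h3 := Subgroup.Normal.conj_mem inferInstance _ (inv_mem h'') (α (a⁻¹ * b))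
        have e : (a⁻¹⁻¹ * α a⁻¹)⁻¹ * (b⁻¹⁻¹ * α b⁻¹) =
          α a * (a⁻¹ * b * (α (a⁻¹ * b))⁻¹) * (α a)⁻¹ := by simp [mul_assoc]
        rw [e]
        refine Subgroup.Normal.conj_mem inferInstance _ ?_ _
        have h4 := Subgroup.Normal.conj_mem inferInstance _ (inv_mem h'') (a⁻¹ * b)
        convert h4 using 1
        simp [mul_assoc])
    have hf : Function.Surjective f := by
      rintro ⟨_, g, rfl⟩
      exact ⟨QuotientGroup.mk g⁻¹, Subtype.ext (show π _ = π _ by simp only [inv_inv])⟩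
    exact Nat.card_le_card_of_surjective f hf
  -- `G / N` is covered by the image of `C` times `T`
  have hcov : Nat.card (G ⧸ N) ≤ Nat.card (C.map π) * Nat.card T := by
    rw [← Nat.card_prod]
    refine Nat.card_le_card_of_surjective (fun q => (q.1 : G ⧸ N) * (q.2 : G ⧸ N)) fun x => ?_
    obtain ⟨x, rfl⟩ := QuotientGroup.mk_surjective x
    obtain ⟨c, g, hc, hx⟩ := hccp x
    refine ⟨(⟨π c, c, hc, rfl⟩, ⟨π (g⁻¹ * α g), g, rfl⟩), ?_⟩
    show π c * π (g⁻¹ * α g) = _
    rw [← map_mul, ← hx]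
    rfl
  have hle : C.map π ≤ D.map π := Subgroup.map_mono fun c hc => by
    show c⁻¹ * α c ∈ N
    rw [show α c = c from hc, inv_mul_cancel]
    exact one_mem N
  have hidx : (D.map π).index = D.index := by
    rw [Subgroup.index_map_eq _ (QuotientGroup.mk'_surjective N)]
    rw [QuotientGroup.ker_mk']
    exact hND
  have heq : C.map π = D.map π := by
    refine Subgroup.eq_of_le_of_card_ge hle ?_
    have h1 := (D.map π).card_mul_index
    rw [hidx] at h1
    refine Nat.le_of_mul_le_mul_right ?_ (Nat.pos_of_ne_zero D.index_ne_zero_of_finite)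
    rw [h1]
    exact hcov.trans (Nat.mul_le_mul_left _ hT)
  intro x hx
  have : π x ∈ C.map π := heq ▸ ⟨x, hx, rfl⟩
  obtain ⟨c, hc, hcx⟩ := this
  exact ⟨c, hc, QuotientGroup.eq.mp hcx⟩

end Cfsg.Agent.S4154
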