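import Cfsg.Agent.H33.Basic
import Cfsg.Agent.H33.PiClosed
import Cfsg.Agent.H35.Basic
import Cfsg.Agent.H1.Fitting
import Cfsg.Agent.H2.FPFAction
import Cfsg.Agent.H2.UniqueSubgroup
import Cfsg.Statements.S4155
-- import your own Cfsg.Agent.* helpers here

set_option autoImplicit false
open Cfsg

namespace Cfsg.Agent.S4155

open Subgroup

set_option linter.style.haveILetI false

/-- For `r ∣ |N|`, `N` nilpotent normal, an abelian normal `r`-subgroup of `G` centralised by `N`. -/
theorem exists_central_elementary {G : Type*} [Group G] [Finite G] (N : Subgroup G) [N.Normal]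
    (hnil : Group.IsNilpotent N) {r : ℕ} [Fact r.Prime] (hr : r ∣ Nat.card N) :
    ∃ M : Subgroup G, M.Normal ∧ M ≠ ⊥ ∧ M ≤ N ∧ (∀ m ∈ M, ∀ n ∈ N, m * n = n * m) ∧
      ∀ m ∈ M, m ^ r = 1 := by
  haveI := hnil
  let M : Subgroup G :=
    { carrier := {m | m ∈ N ∧ (∀ n ∈ N, m * n = n * m) ∧ m ^ r = 1}
      mul_mem' := fun {a b} ha hb => ⟨mul_mem ha.1 hb.1, fun n hn => by
        rw [mul_assoc, hb.2.1 n hn, ← mul_assoc, ha.2.1 n hn, mul_assoc], by
        rw [(show Commute a b from ha.2.1 b hb.1).mul_pow, ha.2.2, hb.2.2, one_mul]⟩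
      one_mem' := ⟨one_mem N, fun n _ => by simp, one_pow r⟩
      inv_mem' := fun {a} ha => ⟨inv_mem ha.1, fun n hn => by
        exact (show Commute a n from ha.2.1 n hn).inv_left, by rw [inv_pow, ha.2.2, inv_one]⟩ }
  have hMn : M.Normal := ⟨fun m hm g => ⟨(inferInstance : N.Normal).conj_mem m hm.1 g,
    fun n hn => by
      have h := hm.2.1 _ ((inferInstance : N.Normal).conj_mem' n hn g)
      calc g * m * g⁻¹ * n = g * (m * (g⁻¹ * n * g)) * g⁻¹ := by group
        _ = g * (g⁻¹ * n * g * m) * g⁻¹ := by rw [h]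
        _ = n * (g * m * g⁻¹) := by group,
    by rw [conj_pow, hm.2.2]; group⟩⟩
  refine ⟨M, hMn, fun hb => ?_, fun m hm => hm.1, fun m hm => hm.2.1, fun m hm => hm.2.2⟩
  obtain ⟨R⟩ : Nonempty (Sylow r N) := inferInstance
  haveI : Nontrivial (R : Subgroup N) :=
    (nontrivial_iff_ne_bot _).mpr (R.ne_bot_of_dvd_card hr)
  haveI := R.isPGroup'.center_nontrivial
  obtain ⟨j, hj, hjc⟩ :=
    (R.isPGroup'.to_subgroup (center (R : Subgroup N))).nontrivial_iff_card.mp inferInstance
  obtain ⟨⟨⟨z, hzR⟩, hzc⟩, hzo⟩ :=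
    exists_prime_orderOf_dvd_card' (G := center (R : Subgroup N)) r (hjc ▸ dvd_pow_self r hj.ne')
  rw [Subgroup.orderOf_mk, Subgroup.orderOf_mk] at hzo
  have hcent : centralizer ({z} : Set N) = ⊤ := by
    refine H35.eq_top_of_prime_pow_mem _ fun q b u hq hu => ?_
    rw [mem_centralizer_singleton_iff]
    by_cases hqr : q = r
    · subst hqr
      have hpg : IsPGroup q (zpowers u) := IsPGroup.of_card (n := b) (by rw [Nat.card_zpowers, hu])
      haveI : (R : Subgroup N).Normal := inferInstance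
      have huR : u ∈ (R : Subgroup N) :=
        (R.is_maximal' (hpg.to_sup_of_normal_right R.isPGroup') le_sup_right) ▸
          mem_sup_left (mem_zpowers u)
      exact congrArg Subtype.val (mem_center_iff.mp hzc ⟨u, huR⟩)
    · haveI := Fact.mk hq
      exact (H33.commute_of_nilpotent (p := q) ⟨b, hu⟩ (by
        rw [hzo]; exact fun h => hqr ((Nat.prime_dvd_prime_iff_eq hq Fact.out).mp h))).eq
  have hzn : ∀ n : N, (z : G) * (n : G) = (n : G) * (z : G) := by
    intro n
    have h : n * z = z * n :=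
      mem_centralizer_singleton_iff.mp (hcent.symm ▸ mem_top n : n ∈ centralizer ({z} : Set N))
    exact (congrArg (Subtype.val (p := fun g : G => g ∈ N)) h).symm
  have hzr : (z : G) ^ r = 1 := by
    rw [← hzo, ← Subgroup.orderOf_coe]; exact pow_orderOf_eq_one _
  have hzM : (z : G) ∈ M := ⟨z.2, fun n hn => hzn ⟨n, hn⟩, hzr⟩
  rw [hb, mem_bot] at hzM
  rw [show z = 1 from Subtype.ext hzM, orderOf_one] at hzo
  exact (Fact.out : r.Prime).one_lt.ne hzo

/-- Let G be a finite group and N a proper non-trivial normal nilpotent subgroup whose order is not a prime power, such that for every x outside N all elements of the coset xN have the same order as x. Then N is the Fitting subgroup of G, and for every prime q every Sylow q-subgroup of G/N is cyclic or generalized quaternion. -/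
theorem result {G : Type*} [Group G] [Finite G] (N : Subgroup G) [N.Normal] (hN1 : N ≠ ⊥) (hN2 : N ≠ ⊤)
    (heq : ∀ x : G, x ∉ N → ∀ n ∈ N, orderOf (x * n) = orderOf x)
    (hnil : Group.IsNilpotent N) (hnpp : ¬ IsPrimePow (Nat.card N)) :
    N = Cfsg.fittingSubgroup G ∧
    ∀ (q : ℕ) [Fact q.Prime] (Q : Sylow q (G ⧸ N)), IsCyclic (Q : Subgroup (G ⧸ N)) ∨ ∃ n : ℕ, Nonempty ((Q : Subgroup (G ⧸ N)) ≃* QuaternionGroup (2 ^ n)) := by
  have hN1' : 1 < Nat.card N := N.one_lt_card_iff_ne_bot.mpr hN1
  have hother : ∀ q : ℕ, ∃ r, r.Prime ∧ r ∣ Nat.card N ∧ r ≠ q := by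
    intro q
    by_contra h
    push Not at h
    obtain ⟨r, hr, hrd⟩ := Nat.exists_prime_and_dvd hN1'.ne'
    have hrq : r = q := h r hr hrd
    subst hrq
    have h2 := Nat.eq_prime_pow_of_unique_prime_dvd (p := r) (by omega : Nat.card N ≠ 0)
      (fun {d} hd hdd => h d hd hdd)
    refine hnpp ⟨r, _, hr.prime, ?_, h2.symm⟩
    by_contra h0
    rw [Nat.le_zero.mp (not_lt.mp h0), pow_zero] at h2
    omega
  -- an element of `q`-power order outside `N` commutes with no nontrivial `r`-element of `N`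
  have hfree : ∀ {q r : ℕ}, q.Prime → r.Prime → r ≠ q → ∀ x : G, (∃ k, orderOf x = q ^ k) →
      x ∉ N → ∀ m ∈ N, m ^ r = 1 → x * m = m * x → m = 1 := by
    intro q r hq hr hrq x hx hxN m hm hmr hcomm
    obtain ⟨k, hk⟩ := hx
    have hcop : (orderOf x).Coprime (orderOf m) := by
      rw [hk]
      exact (((Nat.coprime_primes hq hr).mpr hrq.symm).pow_left k).coprime_dvd_right
        (orderOf_dvd_of_pow_eq_one hmr)
    have h := (show Commute x m from hcomm).orderOf_mul_eq_mul_orderOf_of_coprime hcop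
    rw [heq x hxN m hm] at h
    rw [← orderOf_eq_one_iff]
    exact Nat.eq_of_mul_eq_mul_left (orderOf_pos x) (by rw [mul_one]; exact h.symm)
  refine ⟨le_antisymm (H1.le_fittingSubgroup hnil) ?_, fun q _ Q => ?_⟩
  · set F := Cfsg.fittingSubgroup G
    haveI hF := H1.isNilpotent_fittingSubgroup G
    intro x hx
    suffices h : N.subgroupOf F = ⊤ from
      (mem_subgroupOf.mp (h ▸ mem_top (⟨x, hx⟩ : F)) : x ∈ N)
    refine H35.eq_top_of_prime_pow_mem _ fun q b u hq hu => ?_
    rw [mem_subgroupOf]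
    by_contra huN
    obtain ⟨r, hr, hrd, hrq⟩ := hother q
    haveI := Fact.mk hr
    obtain ⟨M, -, hM, hMN, -, hMr⟩ := exists_central_elementary N hnil hrd
    obtain ⟨⟨m, hm⟩, hm1⟩ := ne_bot_iff_exists_ne_one.mp hM
    haveI := Fact.mk hq
    have hmF : m ∈ F := H1.le_fittingSubgroup hnil (hMN hm)
    have hcomm : Commute u (⟨m, hmF⟩ : F) := H33.commute_of_nilpotent ⟨b, hu⟩ (by
      rw [Subgroup.orderOf_mk]
      intro h
      exact hrq ((Nat.prime_dvd_prime_iff_eq hq hr).mp
        (h.trans (orderOf_dvd_of_pow_eq_one (hMr m hm)))).symm)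
    exact hm1 (Subtype.ext (hfree hq hr hrq (u : G) ⟨b, by rw [Subgroup.orderOf_coe]; exact hu⟩
      huN m (hMN hm) (hMr m hm) (congrArg Subtype.val hcomm.eq)))
  · obtain ⟨r, hr, hrd, hrq⟩ := hother q
    haveI := Fact.mk hr
    obtain ⟨M, hMn, hM, hMN, hMc, hMr⟩ := exists_central_elementary N hnil hrd
    haveI : Nontrivial M := (nontrivial_iff_ne_bot M).mpr hM
    letI : CommGroup M :=
      { (inferInstance : Group M) with
        mul_comm := fun a b => Subtype.ext (hMc a a.2 b (hMN b.2)) }
    let c : G ⧸ N →* MulAut M := QuotientGroup.lift N (MulAut.conjNormal (H := M)) (fun n hn => by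
      rw [MonoidHom.mem_ker]
      refine MulEquiv.ext fun m => Subtype.ext ?_
      rw [MulAut.conjNormal_apply, MulAut.one_apply, ← hMc m m.2 n hn, mul_inv_cancel_right])
    have hlift : ∀ y : G ⧸ N, (∃ k, orderOf y = q ^ k) → y ≠ 1 → ∀ m : M, c y m = m → m = 1 := by
      intro y hy hy1 m hm
      obtain ⟨k, hk⟩ := hy
      have hyp : H33.IsPiEl ({q} : Set ℕ) y := by
        intro s hs hsd
        rw [hk] at hsd
        exact (Nat.prime_dvd_prime_iff_eq hs Fact.out).mp (hs.dvd_of_dvd_pow hsd)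
      obtain ⟨x, rfl, hx⟩ := H33.exists_pi_lift ({q} : Set ℕ) N hyp
      have hx' : ∃ j, orderOf x = q ^ j := ⟨_, Nat.eq_prime_pow_of_unique_prime_dvd
        (orderOf_pos x).ne' (fun {d} hd hdd => hx d hd hdd)⟩
      refine Subtype.ext (hfree (Fact.out : q.Prime) hr hrq x hx'
        (fun h => hy1 ((QuotientGroup.eq_one_iff x).mpr h)) m (hMN m.2) (hMr m m.2) ?_)
      have h2 : x * (m : G) * x⁻¹ = m := congrArg Subtype.val hm
      exact mul_inv_eq_iff_eq_mul.mp h2
    have huniq : ∀ H K : Subgroup (Q : Subgroup (G ⧸ N)), Nat.card H = q → Nat.card K = q →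
        H = K := by
      intro H K hH hK
      by_contra hne
      haveI : Nontrivial (Q : Subgroup (G ⧸ N)) := by
        rw [← Finite.one_lt_card_iff_nontrivial]
        have h1 := (Fact.out : q.Prime).one_lt
        rw [← hH] at h1
        exact lt_of_lt_of_le h1 (Nat.card_le_card_of_injective _ H.subtype_injective)
      haveI := Q.isPGroup'.center_nontrivial
      obtain ⟨j, hj, hjc⟩ := (Q.isPGroup'.to_subgroup
        (center (Q : Subgroup (G ⧸ N)))).nontrivial_iff_card.mp inferInstance
      obtain ⟨⟨z, hzc⟩, hzo⟩ := exists_prime_orderOf_dvd_card'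
        (G := center (Q : Subgroup (G ⧸ N))) q (hjc ▸ dvd_pow_self q hj.ne')
      rw [Subgroup.orderOf_mk] at hzo
      have hZc : Nat.card (zpowers z) = q := by rw [Nat.card_zpowers, hzo]
      obtain ⟨L, hLc, hLne⟩ : ∃ L : Subgroup (Q : Subgroup (G ⧸ N)),
          Nat.card L = q ∧ L ≠ zpowers z := by
        by_cases h : H = zpowers z
        · exact ⟨K, hK, fun e => hne (h.trans e.symm)⟩
        · exact ⟨H, hH, h⟩
      haveI : (zpowers z).Normal := by
        refine ⟨fun w hw g => ?_⟩
        obtain ⟨i, rfl⟩ := mem_zpowers_iff.mp hw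
        have hc : Commute g (z ^ i) := (show Commute g z from mem_center_iff.mp hzc g).zpow_right i
        rw [hc.eq, mul_inv_cancel_right]
        exact zpow_mem (mem_zpowers z) i
      have hdis : zpowers z ⊓ L = ⊥ := by
        have hd := card_dvd_of_le (inf_le_left : zpowers z ⊓ L ≤ zpowers z)
        rw [hZc] at hd
        rcases (Nat.dvd_prime Fact.out).mp hd with h1 | h1
        · exact card_eq_one.mp h1
        · exfalso
          exact hLne ((eq_of_le_of_card_ge inf_le_right (by rw [h1, hLc])).symm.trans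
            (eq_of_le_of_card_ge inf_le_left (by rw [h1, hZc])))
      set E : Subgroup (Q : Subgroup (G ⧸ N)) := zpowers z ⊔ L with hE
      have hEc : Nat.card E = q ^ 2 := by
        have h1 := relIndex_mul_relIndex ⊥ (zpowers z) E bot_le le_sup_left
        rw [relIndex_bot_left, relIndex_bot_left, hE, sup_comm, relIndex_sup_right,
          ← inf_relIndex_right, hdis, relIndex_bot_left, hLc, hZc] at h1
        rw [hE, sup_comm, ← h1, pow_two]
      let ψ : E →* MulAut M := c.comp ((Q : Subgroup (G ⧸ N)).subtype.comp E.subtype)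
      letI : MulDistribMulAction E M := MulDistribMulAction.compHom M ψ
      haveI : IsCyclic E := H2.isCyclic_of_fpf_prime_sq (F := E) (M := M) (p := q) (fun e he m hm => by
        refine hlift ((e : (Q : Subgroup (G ⧸ N))) : G ⧸ N) ?_ ?_ m hm
        · rw [Subgroup.orderOf_coe]; exact IsPGroup.iff_orderOf.mp Q.isPGroup' _
        · exact fun h => he (Subtype.ext (Subtype.ext h))) hEc
      obtain ⟨a, ha⟩ := IsCyclic.exists_generator (α := E)
      have ha' : orderOf a = q ^ 2 := (orderOf_eq_card_of_forall_mem_zpowers ha).trans hEc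
      have hexp : ∀ e ∈ E, e ^ q = 1 := by
        intro e he
        rw [hE, ← SetLike.mem_coe, normal_mul] at he
        obtain ⟨u, hu, v, hv, rfl⟩ := he
        have h1 : u ^ q = 1 := by
          exact orderOf_dvd_iff_pow_eq_one.mp ((Subgroup.orderOf_dvd_natCard _ hu).trans (dvd_of_eq hZc))
        have h2 : v ^ q = 1 := by
          exact orderOf_dvd_iff_pow_eq_one.mp ((Subgroup.orderOf_dvd_natCard _ hv).trans (dvd_of_eq hLc))
        obtain ⟨i, rfl⟩ := mem_zpowers_iff.mp hu
        have hc : Commute (z ^ i) v :=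
          ((show Commute v z from mem_center_iff.mp hzc v).symm).zpow_left i
        rw [hc.mul_pow, h1, h2, one_mul]
      have h3 : orderOf a ∣ q :=
        orderOf_dvd_of_pow_eq_one (Subtype.ext (hexp a a.2))
      rw [ha'] at h3
      have h4 := Nat.le_of_dvd (Fact.out : q.Prime).pos h3
      have h5 := (Fact.out : q.Prime).two_le
      nlinarith
    exact (H2.cyclic_or_quaternion_of_unique Q.isPGroup' huniq).imp_right fun h => h.2

end Cfsg.Agent.S4155
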