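import Cfsg.Statements.S4156
import Mathlib.GroupTheory.SpecificGroups.Alternating.Simple
import Mathlib.LinearAlgebra.Matrix.SpecialLinearGroup
import Mathlib.LinearAlgebra.Matrix.ProjectiveSpecialLinearGroup

set_option autoImplicit false
open Cfsg
open scoped commutatorElement

namespace Cfsg.Agent.S4156

/-- The matrix of a permutation on the sum-zero module in the basis `e_i - e_n`. -/
noncomputable def delHom (n : ℕ) (F : Type*) [Field F] :
    Equiv.Perm (Fin (n + 1)) →* Matrix (Fin n) (Fin n) F where
  toFun σ i j := (if σ j.castSucc = i.castSucc then 1 else 0) - (if σ (Fin.last n) = i.castSucc then 1 else 0)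
  map_one' := by
    ext i j
    simp [Matrix.one_apply, (Fin.castSucc_lt_last i).ne', eq_comm]
  map_mul' σ τ := by
    ext i j
    refine Eq.trans ?_ Matrix.mul_apply.symm
    show (if σ (τ j.castSucc) = i.castSucc then (1 : F) else 0) -
      (if σ (τ (Fin.last n)) = i.castSucc then 1 else 0) = _
    have key : ∀ a : Fin (n + 1), (∑ k : Fin n,
        ((if σ k.castSucc = i.castSucc then (1 : F) else 0) - (if σ (Fin.last n) = i.castSucc then 1 else 0)) *
          (if τ a = k.castSucc then 1 else 0)) =
        (if σ (τ a) = i.castSucc then 1 else 0) - (if σ (Fin.last n) = i.castSucc then 1 else 0) := by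
      intro a
      rcases Fin.eq_castSucc_or_eq_last (τ a) with ⟨b, hb⟩ | hb
      · rw [hb, Finset.sum_eq_single b]
        · simp
        · intro k _ hk; simp [Ne.symm hk]
        · simp
      · rw [hb]; simp [(Fin.castSucc_lt_last _).ne']
    simp only [mul_sub, Finset.sum_sub_distrib]
    simp only [sub_mul, Finset.sum_sub_distrib] at key ⊢
    rw [key, key]
    ring

theorem delHom_ne_one (n : ℕ) (hn : 3 ≤ n) (F : Type*) [Field F] :
    ∃ σ : alternatingGroup (Fin (n + 1)), delHom n F σ ≠ 1 := by
  let a : Fin n := ⟨0, by omega⟩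
  let b : Fin n := ⟨1, by omega⟩
  let c : Fin n := ⟨2, by omega⟩
  have hmem : Equiv.swap a.castSucc b.castSucc * Equiv.swap a.castSucc c.castSucc ∈
      alternatingGroup (Fin (n + 1)) := by
    rw [Equiv.Perm.mem_alternatingGroup, map_mul, Equiv.Perm.sign_swap (by simp [a, b, Fin.ext_iff]),
      Equiv.Perm.sign_swap (by simp [a, c, Fin.ext_iff])]
    simp
  refine ⟨⟨_, hmem⟩, fun h => ?_⟩
  have := congrFun (congrFun h c) c
  rw [Matrix.one_apply_eq] at this
  change (if (Equiv.swap a.castSucc b.castSucc * Equiv.swap a.castSucc c.castSucc) c.castSucc =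
      c.castSucc then (1 : F) else 0) -
    (if (Equiv.swap a.castSucc b.castSucc * Equiv.swap a.castSucc c.castSucc) (Fin.last n) =
      c.castSucc then 1 else 0) = 1 at this
  have h1 : (Equiv.swap a.castSucc b.castSucc * Equiv.swap a.castSucc c.castSucc) c.castSucc = b.castSucc := by
    simp
  have h2 : (Equiv.swap a.castSucc b.castSucc * Equiv.swap a.castSucc c.castSucc) (Fin.last n) = Fin.last n := by
    simp [Equiv.swap_apply_of_ne_of_ne, (Fin.castSucc_lt_last _).ne']
  rw [h1, h2, if_neg (by simp [b, c, Fin.ext_iff]), if_neg (Fin.castSucc_lt_last _).ne'] at this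
  simp at this

theorem alternatingGroup_not_comm (n : ℕ) (hn : 5 ≤ n) :
    ∃ a b : alternatingGroup (Fin (n + 1)), a * b ≠ b * a := by
  by_contra h
  push Not at h
  haveI : Nontrivial (alternatingGroup (Fin (n + 1))) := alternatingGroup.nontrivial_of_three_le_card (by simp; omega)
  have hc : Subgroup.center (alternatingGroup (Fin (n + 1))) = ⊤ :=
    eq_top_iff.mpr fun x _ => Subgroup.mem_center_iff.mpr fun y => h y x
  rw [alternatingGroup.center_eq_bot (by simp; omega)] at hc
  exact bot_ne_top hc


/-- Let n ≥ 5 and F a finite field. Then the projective special linear group PSL_n(F) contains a subgroup isomorphic to the alternating group of degree n + 1. -/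
theorem result (n : ℕ) (hn : 5 ≤ n) (F : Type*) [Field F] [Finite F] :
    ∃ f : alternatingGroup (Fin (n + 1)) →* Matrix.ProjectiveSpecialLinearGroup (Fin n) F, Function.Injective f := by
  classical
  let A := alternatingGroup (Fin (n + 1))
  haveI : IsSimpleGroup A := alternatingGroup.isSimpleGroup (by simp; omega)
  have hnab : commutator A = ⊤ := by
    rcases IsSimpleGroup.eq_bot_or_eq_top_of_normal (commutator A) inferInstance with h | h
    · exfalso
      have hc : IsMulCommutative A := by
        refine ⟨⟨fun a b => ?_⟩⟩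
        have : ⁅a, b⁆ ∈ commutator A := Subgroup.commutator_mem_commutator trivial trivial
        rw [h, Subgroup.mem_bot, commutatorElement_eq_one_iff_mul_comm] at this
        exact this
      obtain ⟨a, b, hab⟩ := alternatingGroup_not_comm n hn
      exact hab (hc.is_comm.comm a b)
    · exact h
  let φ : A →* (Matrix (Fin n) (Fin n) F)ˣ := ((delHom n F).comp A.subtype).toHomUnits
  let d : A →* Fˣ := (Units.map (Matrix.detMonoidHom : Matrix (Fin n) (Fin n) F →* F)).comp φ
  have hd : ∀ σ, d σ = 1 := fun σ => by
    have h1 : commutator A ≤ d.ker := Abelianization.commutator_subset_ker _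
    exact h1 (hnab ▸ Subgroup.mem_top σ)
  let ψ : A →* Matrix.SpecialLinearGroup (Fin n) F :=
    { toFun := fun σ => ⟨delHom n F σ, congrArg Units.val (hd σ)⟩
      map_one' := Subtype.ext (map_one _)
      map_mul' := fun a b => Subtype.ext (map_mul (delHom n F) a.1 b.1) }
  let f : A →* Matrix.ProjectiveSpecialLinearGroup (Fin n) F := (QuotientGroup.mk' _).comp ψ
  refine ⟨f, (MonoidHom.ker_eq_bot_iff f).mp ?_⟩
  rcases IsSimpleGroup.eq_bot_or_eq_top_of_normal f.ker inferInstance with h | h
  · exact h
  exfalso
  have hz : ∀ σ, ψ σ ∈ Subgroup.center (Matrix.SpecialLinearGroup (Fin n) F) := fun σ =>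
    (QuotientGroup.eq_one_iff _).mp (MonoidHom.mem_ker.mp (h ▸ Subgroup.mem_top σ) : f σ = 1)
  have hone : ψ.ker = ⊤ := by
    rw [eq_top_iff, ← hnab, commutator_def, Subgroup.commutator_le]
    intro a _ b _
    rw [MonoidHom.mem_ker, map_commutatorElement, commutatorElement_eq_one_iff_mul_comm]
    exact Subgroup.mem_center_iff.mp (hz b) (ψ a)
  obtain ⟨σ, hσ⟩ := delHom_ne_one n (by omega) F
  exact hσ (congrArg Subtype.val (MonoidHom.mem_ker.mp (hone ▸ Subgroup.mem_top σ) : ψ σ = 1))

end Cfsg.Agent.S4156
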