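import Cfsg.Statements.S4161
import Cfsg.Agent.H8.ClassGraphDiam.Main

set_option autoImplicit false
open Cfsg

namespace Cfsg.Agent.S4161

/-- Let G be a finite non-solvable group and p ≠ q primes each dividing the size of some conjugacy class of G. Then either some class size is divisible by pq, or there is a prime r, different from p and q, such that some class size is divisible by pr and some class size is divisible by rq. -/
theorem result {G : Type*} [Group G] [Finite G] (hG : ¬ Group.IsSolvable G)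
    (p q : ℕ) (hp : p.Prime) (hq : q.Prime) (hpq : p ≠ q) (hp' : ∃ x : G, p ∣ (Subgroup.centralizer ({x} : Set G)).index) (hq' : ∃ x : G, q ∣ (Subgroup.centralizer ({x} : Set G)).index) :
    (∃ x : G, p * q ∣ (Subgroup.centralizer ({x} : Set G)).index) ∨ ∃ r : ℕ, r.Prime ∧ r ≠ p ∧ r ≠ q ∧ (∃ x : G, p * r ∣ (Subgroup.centralizer ({x} : Set G)).index) ∧ (∃ y : G, r * q ∣ (Subgroup.centralizer ({y} : Set G)).index) := by
  haveI := Fact.mk hp
  haveI := Fact.mk hq
  by_cases h : H8.ClassGraphDiam.Adj G p q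
  · obtain ⟨x, hx, hx'⟩ := h
    exact Or.inl ⟨x, ((Nat.coprime_primes hp hq).mpr hpq).mul_dvd_of_dvd_of_dvd hx hx'⟩
  · obtain ⟨r, hr, h1, h2, ⟨x, hx, hx'⟩, ⟨y, hy, hy'⟩⟩ :=
      H8.ClassGraphDiam.exists_common hG hpq h hp' hq'
    exact Or.inr ⟨r, hr, h1, h2,
      ⟨x, ((Nat.coprime_primes hp hr).mpr h1.symm).mul_dvd_of_dvd_of_dvd hx hx'⟩,
      ⟨y, ((Nat.coprime_primes hr hq).mpr h2).mul_dvd_of_dvd_of_dvd hy' hy⟩⟩

end Cfsg.Agent.S4161
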