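import Cfsg.Statements.S4168


set_option autoImplicit false
open Cfsg

namespace Cfsg.Agent.S4168

/-- Let L be a finite quasisimple group (perfect with L/Z(L) simple). Then every prime dividing the order of the centre Z(L) also divides the order of L/Z(L). -/
theorem result {L : Type*} [Group L] [Finite L] (hL : Cfsg.IsQuasisimple L)
    (p : ℕ) (hp : p.Prime) (hdiv : p ∣ Nat.card (Subgroup.center L)) : p ∣ (Subgroup.center L).index := by
  haveI := hL.1
  haveI := Fact.mk hp
  by_contra hnd
  obtain ⟨z, hz⟩ := exists_prime_orderOf_dvd_card' (G := Subgroup.center L) p hdiv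
  open scoped IsMulCommutative in
  have htriv : ∀ g : L, g ^ (Subgroup.center L).index = 1 := fun g => by
    have h1 : commutator L ≤ (MonoidHom.transferCenterPow L).ker :=
      Abelianization.commutator_subset_ker _
    rw [Group.IsPerfect.commutator_eq_top] at h1
    have h2 : MonoidHom.transferCenterPow L g = 1 := h1 (Subgroup.mem_top g)
    rw [← MonoidHom.transferCenterPow_apply, h2, Subgroup.coe_one]
  have : orderOf (z : L) ∣ (Subgroup.center L).index := orderOf_dvd_of_pow_eq_one (htriv _)
  rw [Subgroup.orderOf_coe, hz] at this
  exact hnd this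

end Cfsg.Agent.S4168
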