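import Cfsg.Statements.S4169
import Cfsg.Agent.H27.SmallClasses
import Cfsg.Agent.H6.Basic

set_option autoImplicit false
open Cfsg

namespace Cfsg.Agent.S4169

/-- Let P be a finite p-group whose conjugacy classes have exactly two sizes (1 and one other value). Then P has nilpotency class at most 3. -/
theorem result {P : Type*} [Group P] [Finite P] {p : ℕ} [Fact p.Prime] (hP : IsPGroup p P)
    (m : ℕ) (hm : 1 < m) (h : ∀ x : P, (Subgroup.centralizer ({x} : Set P)).index = 1 ∨ (Subgroup.centralizer ({x} : Set P)).index = m) :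
    upperCentralSeries P 3 = ⊤ := by
  obtain ⟨A, -, hAn, hAc, hmax⟩ :=
    H6.exists_maximal_normal_abelian (B := (⊥ : Subgroup P)) inferInstance inferInstance
  have h3 := H27.upperCentralSeries_smallClasses A hAc
    (H6.centralizer_eq_of_maximal_normal_abelian hP hAc hmax).le m
    (fun x hx => ((h x).resolve_left hx.ne').ge) (⊤ : Subgroup P)
    (fun x _ => Subgroup.subset_closure (h x))
  refine top_le_iff.mp fun x _ => ?_
  have hs : Function.Surjective (⊤ : Subgroup P).subtype := fun y => ⟨⟨y, trivial⟩, rfl⟩
  exact Subgroup.upperCentralSeries.map hs 3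
    ⟨⟨x, trivial⟩, by rw [SetLike.mem_coe, h3]; trivial, rfl⟩

end Cfsg.Agent.S4169
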