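import Cfsg.Statements.S4403
import Cfsg.Agent.CompLayer
import Cfsg.Agent.H33.CyclicSylow
import Cfsg.Agent.H1.Fitting
import Cfsg.Agent.H18.Basic
import Cfsg.Agent.H10.Basic
import Cfsg.Agent.H5.PResidual
import Cfsg.Agent.H32.FreeAbelian

set_option autoImplicit false
open Cfsg

namespace Cfsg.Agent.S4403

open scoped Pointwise

variable {K : Type*} [Group K] [Finite K] {p : ℕ} [Fact p.Prime]

theorem fitting_le_pCore (hO : Cfsg.pPrimeCore p K = ⊥) : Cfsg.fittingSubgroup K ≤ Cfsg.pCore p K := by
  rw [H1.fittingSubgroup_eq_iSup_pCore]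
  refine iSup_le fun r => ?_
  haveI := Fact.mk r.2
  by_cases hr : (r : ℕ) = p
  · rw [hr]
  · have hle : Cfsg.pCore (r : ℕ) K ≤ Cfsg.pPrimeCore p K := by
      refine H10.le_pPrimeCore H10.pCore_normal ?_
      obtain ⟨k, hk⟩ := (H10.pCore_isPGroup (G := K) (p := (r : ℕ))).exists_card_eq
      rw [hk]
      exact ((Nat.coprime_primes r.2 Fact.out).mpr hr).pow_left k
    exact (hle.trans hO.le).trans bot_le

/-- Two subgroups of order `p` of a group with cyclic Sylow `p`-subgroups which commute are equal. -/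
theorem zpowers_eq_of_commute (P : Sylow p K) (hP : IsCyclic (P : Subgroup K)) {x y : K}
    (hx : orderOf x = p) (hy : orderOf y = p) (hxy : Commute x y) :
    Subgroup.zpowers x = Subgroup.zpowers y := by
  have hn : Subgroup.zpowers y ≤ Subgroup.normalizer (Subgroup.zpowers x : Set K) :=
    (Subgroup.zpowers_le.mpr (Subgroup.mem_centralizer_iff.mpr fun w hw => by
      obtain ⟨i, rfl⟩ := Subgroup.mem_zpowers_iff.mp hw
      exact (hxy.zpow_left i).eq)).trans (Subgroup.centralizer_le_normalizer _)
  have hpx : IsPGroup p (Subgroup.zpowers x) :=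
    IsPGroup.of_card (n := 1) (by rw [Nat.card_zpowers, hx, pow_one])
  have hpy : IsPGroup p (Subgroup.zpowers y) :=
    IsPGroup.of_card (n := 1) (by rw [Nat.card_zpowers, hy, pow_one])
  obtain ⟨R, hR⟩ := (hpx.to_sup_of_normal_left' hpy hn).exists_le_sylow
  haveI : IsCyclic (R : Subgroup K) := isCyclic_of_surjective _ (P.equiv R).surjective
  have h1 : Subgroup.zpowers x ≤ (R : Subgroup K) := le_sup_left.trans hR
  have h2 : Subgroup.zpowers y ≤ (R : Subgroup K) := le_sup_right.trans hR
  have := H18.cyclic_subgroup_eq_of_card_eq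
    (A := (Subgroup.zpowers x).subgroupOf (R : Subgroup K))
    (B := (Subgroup.zpowers y).subgroupOf (R : Subgroup K))
    (by rw [Nat.card_congr (Subgroup.subgroupOfEquivOfLe h1).toEquiv,
      Nat.card_congr (Subgroup.subgroupOfEquivOfLe h2).toEquiv, Nat.card_zpowers, Nat.card_zpowers, hx, hy])
  rw [← Subgroup.map_subgroupOf_eq_of_le h1, this, Subgroup.map_subgroupOf_eq_of_le h2]

theorem exists_orderOf_eq (hO : Cfsg.pPrimeCore p K = ⊥) {L : Subgroup K} (hL : L.IsSubnormal)
    (hne : L ≠ ⊥) : ∃ x ∈ L, orderOf x = p := by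
  have hdvd : p ∣ Nat.card L := by
    by_contra h
    exact hne (le_bot_iff.mp ((Cfsg.Comp.le_pPrimeCore_of_subnormal hL h).trans hO.le))
  obtain ⟨x, hx⟩ := exists_prime_orderOf_dvd_card' p hdvd
  exact ⟨x, x.2, by rw [Subgroup.orderOf_coe, hx]⟩

/-- The components have trivial centre. -/
theorem center_component_eq_bot (hO : Cfsg.pPrimeCore p K = ⊥) (P : Sylow p K)
    (hP : IsCyclic (P : Subgroup K)) {L : Subgroup K} (hL : Cfsg.IsComponent L) :
    Subgroup.center L = ⊥ := by
  by_contra hne
  have hsub : ((Subgroup.center L).map L.subtype).IsSubnormal :=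
    (inferInstance : (Subgroup.center L).Normal).isSubnormal.trans' hL.1
  obtain ⟨z, ⟨z, hzc, rfl⟩, hzo⟩ := exists_orderOf_eq hO hsub (fun h => hne (by
    rwa [Subgroup.map_eq_bot_iff_of_injective _ L.subtype_injective] at h))
  obtain ⟨Q⟩ := (inferInstance : Nonempty (Sylow p L))
  have hQc : IsCyclic (Q : Subgroup L) := by
    obtain ⟨R, hR⟩ := (Q.isPGroup'.map L.subtype).exists_le_sylow
    haveI : IsCyclic (R : Subgroup K) := isCyclic_of_surjective _ (P.equiv R).surjective
    haveI : IsCyclic ((Q : Subgroup L).map L.subtype) :=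
      isCyclic_of_injective (Subgroup.inclusion hR) (Subgroup.inclusion_injective hR)
    exact isCyclic_of_injective ((Q : Subgroup L).equivMapOfInjective _ L.subtype_injective).toMonoidHom
      (MulEquiv.injective _)
  have hzord : orderOf z = p := by rw [← Subgroup.orderOf_coe]; exact hzo
  have hzQ : z ∈ (Q : Subgroup L) := by
    haveI : (Subgroup.zpowers z).Normal := ⟨fun a ha g => by
      have hc : a ∈ Subgroup.center L := (Subgroup.zpowers_le.mpr hzc) ha
      rw [Subgroup.mem_center_iff.mp hc g, mul_inv_cancel_right]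
      exact ha⟩
    exact (IsPGroup.of_card (n := 1) (by rw [Nat.card_zpowers, hzord, pow_one])).le_sylow_of_normal Q
      (Subgroup.mem_zpowers z)
  have hz1 : z ≠ 1 := fun h => by
    rw [h, orderOf_one] at hzord
    exact (Fact.out : p.Prime).ne_one hzord.symm
  have hcomp := H33.hasNormalPComplement_of_cyclic Q hQc
    (fun v _ _ => ⟨z, hzQ, hz1, (Subgroup.mem_center_iff.mp hzc v)⟩)
  have hn : ¬ p ∣ Nat.card (Cfsg.pResidual p L) := H5.hasNormalPComplement_iff_not_dvd.1 hcomp
  haveI hperf : Group.IsPerfect L := hL.2.1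
  have htop : Cfsg.pResidual p L = ⊤ := by
    by_contra htop
    haveI : Nontrivial (L ⧸ Cfsg.pResidual p L) := QuotientGroup.nontrivial_iff.mpr htop
    haveI : Group.IsNilpotent (L ⧸ Cfsg.pResidual p L) := H5.isPGroup_quotient_pResidual.isNilpotent
    have hlt := IsSolvable.commutator_lt_top_of_nontrivial (L ⧸ Cfsg.pResidual p L)
    apply hlt.ne
    rw [← Subgroup.map_top_of_surjective (QuotientGroup.mk' (Cfsg.pResidual p L))
      (QuotientGroup.mk'_surjective _), ← Group.IsPerfect.commutator_eq_top, commutator_def,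
      commutator_def, Subgroup.map_commutator, Subgroup.map_top_of_surjective _
        (QuotientGroup.mk'_surjective _)]
  rw [htop, Subgroup.card_top] at hn
  exact hn (hzord ▸ orderOf_dvd_natCard z)

/-- The Sylow subgroup lies in the simple normal subgroup. -/
theorem sylow_le (hO : Cfsg.pPrimeCore p K = ⊥) (P : Sylow p K) (hP : IsCyclic (P : Subgroup K))
    {L : Subgroup K} [L.Normal] (hL : Cfsg.IsComponent L) : (P : Subgroup K) ≤ L := by
  set QS : Sylow p L := default with hQS
  obtain ⟨g, hg⟩ : ∃ g : K, (QS : Subgroup L).map L.subtype ≤ MulAut.conj g • (P : Subgroup K) := by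
    obtain ⟨R, hR⟩ := (QS.isPGroup'.map L.subtype).exists_le_sylow
    obtain ⟨g, hg⟩ := MulAction.exists_smul_eq K P R
    exact ⟨g, by rw [← Sylow.coe_subgroup_smul, hg]; exact hR⟩
  set R := g • P with hR
  suffices hRL : (R : Subgroup K) ≤ L by
    intro x hx
    have h1 : g * x * g⁻¹ ∈ L := hRL (by
      rw [hR, Sylow.coe_subgroup_smul]; exact ⟨x, hx, rfl⟩)
    simpa [mul_assoc] using (inferInstance : L.Normal).conj_mem _ h1 g⁻¹
  haveI hRc : IsCyclic (R : Subgroup K) := isCyclic_of_surjective _ (P.equiv R).surjective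
  rw [← Sylow.coe_subgroup_smul, ← hR] at hg
  set Q := (QS : Subgroup L).map L.subtype with hQ
  have hQL : Q ≤ L := Subgroup.map_subtype_le _
  have hQne : Q ≠ ⊥ := by
    intro h
    obtain ⟨x, hx, hxo⟩ := exists_orderOf_eq hO hL.1 (Cfsg.Comp.isComponent_ne_bot hL)
    refine QS.ne_bot_of_dvd_card (hxo ▸ Subgroup.orderOf_dvd_natCard _ hx) ?_
    rwa [hQ, Subgroup.map_eq_bot_iff_of_injective _ L.subtype_injective] at h
  have hQSc : IsCyclic (QS : Subgroup L) := by
    haveI : IsCyclic Q := isCyclic_of_injective (Subgroup.inclusion hg) (Subgroup.inclusion_injective hg)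
    exact isCyclic_of_injective ((QS : Subgroup L).equivMapOfInjective _ L.subtype_injective).toMonoidHom
      (MulEquiv.injective _)
  -- an element of `N_L(Q)` of order prime to `p` fixing no nontrivial element of `Q`
  obtain ⟨v, hvL, hvQ, hvo, hvfix⟩ : ∃ v ∈ L, v ∈ Subgroup.normalizer (Q : Set K) ∧
      (orderOf v).Coprime p ∧ ∀ z ∈ Q, Commute v z → z = 1 := by
    by_contra hcon
    have hcomp : Cfsg.HasNormalPComplement p L := by
      refine H33.hasNormalPComplement_of_cyclic QS hQSc fun v hv hvo => ?_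
      by_contra hz
      apply hcon
      refine ⟨v, v.2, ?_, by rwa [Subgroup.orderOf_coe], fun z hz' hvz => ?_⟩
      · exact Subgroup.le_normalizer_map L.subtype (Subgroup.mem_map_of_mem L.subtype hv)
      · obtain ⟨z, hz2, rfl⟩ := hz'
        by_contra hz1
        exact hz ⟨z, hz2, fun h => hz1 (by rw [h]; rfl), Subtype.ext hvz⟩
    have hn : ¬ p ∣ Nat.card (Cfsg.pResidual p L) := H5.hasNormalPComplement_iff_not_dvd.1 hcomp
    haveI hperf : Group.IsPerfect L := hL.2.1
    have htop : Cfsg.pResidual p L = ⊤ := by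
      by_contra htop
      haveI : Nontrivial (L ⧸ Cfsg.pResidual p L) := QuotientGroup.nontrivial_iff.mpr htop
      haveI : Group.IsNilpotent (L ⧸ Cfsg.pResidual p L) := H5.isPGroup_quotient_pResidual.isNilpotent
      have hlt := IsSolvable.commutator_lt_top_of_nontrivial (L ⧸ Cfsg.pResidual p L)
      apply hlt.ne
      rw [← Subgroup.map_top_of_surjective (QuotientGroup.mk' (Cfsg.pResidual p L))
        (QuotientGroup.mk'_surjective _), ← Group.IsPerfect.commutator_eq_top, commutator_def,
        commutator_def, Subgroup.map_commutator, Subgroup.map_top_of_surjective _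
          (QuotientGroup.mk'_surjective _)]
    rw [htop, Subgroup.card_top] at hn
    obtain ⟨x, hx, hxo⟩ := exists_orderOf_eq hO hL.1 (Cfsg.Comp.isComponent_ne_bot hL)
    exact hn (hxo ▸ Subgroup.orderOf_dvd_natCard _ hx)
  -- Frattini inside `C(Q)`
  set C := Subgroup.centralizer (Q : Set K) ⊓ (L ⊔ (R : Subgroup K)) with hC
  have hcommR : ∀ x ∈ (R : Subgroup K), ∀ y ∈ (R : Subgroup K), x * y = y * x := by
    intro x hx y hy
    haveI := hRc
    exact congrArg Subtype.val ((IsCyclic.commutative (α := (R : Subgroup K))).1.1 ⟨x, hx⟩ ⟨y, hy⟩)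
  have hRC : (R : Subgroup K) ≤ C := by
    refine le_inf (fun r hr => ?_) le_sup_right
    rw [Subgroup.mem_centralizer_iff]
    exact fun y hy => hcommR y (hg hy) r hr
  have hconjR : MulAut.conj v • (R : Subgroup K) ≤ C := by
    rintro _ ⟨r, hr, rfl⟩
    refine Subgroup.mem_inf.mpr ⟨?_, ?_⟩
    · rw [Subgroup.mem_centralizer_iff]
      intro y hy
      have h1 : v⁻¹ * y * v ∈ Q := by
        simpa using (Subgroup.mem_normalizer_iff.mp (inv_mem hvQ) y).mp hy
      have h2 : (v⁻¹ * y * v) * r = r * (v⁻¹ * y * v) := hcommR _ (hg h1) r hr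
      show y * (v * r * v⁻¹) = (v * r * v⁻¹) * y
      calc y * (v * r * v⁻¹) = v * ((v⁻¹ * y * v) * r) * v⁻¹ := by group
        _ = v * (r * (v⁻¹ * y * v)) * v⁻¹ := by rw [h2]
        _ = _ := by group
    · exact mul_mem (mul_mem (Subgroup.mem_sup_left hvL) (Subgroup.mem_sup_right hr))
        (inv_mem (Subgroup.mem_sup_left hvL))
  set R1 : Sylow p C := R.subtype hRC
  set R2 : Sylow p C := (v • R).subtype (by rw [Sylow.coe_subgroup_smul]; exact hconjR)
  obtain ⟨c, hc⟩ := MulAction.exists_smul_eq C R2 R1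
  set n := (c : K) * v with hn
  have hnR : n ∈ Subgroup.normalizer ((R : Subgroup K) : Set K) := by
    refine Sylow.smul_eq_iff_mem_normalizer.mp ?_
    have h1 : ((c : K) • (v • R) : Sylow p K).subtype (by
        rw [Sylow.coe_subgroup_smul, Sylow.coe_subgroup_smul]
        rintro _ ⟨x, hx, rfl⟩
        exact mul_mem (mul_mem c.2 (hconjR hx)) (inv_mem c.2)) = c • R2 :=
      (Sylow.smul_subtype _ _).symm
    rw [hn, mul_smul]
    exact Sylow.subtype_injective (h1.trans hc)
  have hnLR : n ∈ L ⊔ (R : Subgroup K) := mul_mem c.2.2 (Subgroup.mem_sup_left hvL)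
  obtain ⟨e, m, hm, hnm⟩ := Nat.exists_eq_pow_mul_and_not_dvd (orderOf_pos n).ne' p
    (Fact.out : p.Prime).ne_one
  set n' := n ^ p ^ e with hn'
  have hn'o : (orderOf n').Coprime p := by
    rw [hn', orderOf_pow_of_dvd (pow_ne_zero _ (Fact.out : p.Prime).ne_zero) (hnm ▸ dvd_mul_right _ _),
      hnm, Nat.mul_div_cancel_left _ (pow_pos (Fact.out : p.Prime).pos e)]
    exact ((Fact.out : p.Prime).coprime_iff_not_dvd.mpr hm).symm
  have hn'L : n' ∈ L := by
    set π := QuotientGroup.mk' L
    have h1 : π n' ∈ (R : Subgroup K).map π := by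
      have h := Subgroup.mem_map_of_mem π (pow_mem hnLR (p ^ e))
      rw [Subgroup.map_sup, QuotientGroup.map_mk'_self, bot_sup_eq] at h
      exact h
    obtain ⟨a, ha⟩ := (R.isPGroup'.map π) ⟨_, h1⟩
    have h2 := Nat.dvd_gcd ((orderOf_map_dvd π n')) (orderOf_dvd_of_pow_eq_one (congrArg Subtype.val ha))
    rw [(hn'o.pow_right a : Nat.Coprime _ _), Nat.dvd_one, orderOf_eq_one_iff] at h2
    exact (QuotientGroup.eq_one_iff n').mp h2
  -- `n'` acts on `Q` as a power of `v`
  have hact : ∀ j : ℕ, ∀ z ∈ Q, n ^ j * z * (n ^ j)⁻¹ = v ^ j * z * (v ^ j)⁻¹ := by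
    intro j
    induction j with
    | zero => simp
    | succ j ih =>
      intro z hz
      have hz' : v ^ j * z * (v ^ j)⁻¹ ∈ Q :=
        (Subgroup.mem_normalizer_iff.mp (pow_mem hvQ j) z).mp hz
      have hv' : v * (v ^ j * z * (v ^ j)⁻¹) * v⁻¹ ∈ Q :=
        (Subgroup.mem_normalizer_iff.mp hvQ _).mp hz'
      calc n ^ (j + 1) * z * (n ^ (j + 1))⁻¹ = n * (n ^ j * z * (n ^ j)⁻¹) * n⁻¹ := by
            rw [pow_succ']; group
        _ = (c : K) * (v * (v ^ j * z * (v ^ j)⁻¹) * v⁻¹) * (c : K)⁻¹ := by rw [ih z hz, hn]; group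
        _ = v * (v ^ j * z * (v ^ j)⁻¹) * v⁻¹ := by
            rw [← Subgroup.mem_centralizer_iff.mp c.2.1 _ hv', mul_inv_cancel_right]
        _ = _ := by rw [pow_succ']; group
  have hfpf : ∀ z ∈ Q, Commute n' z → z = 1 := by
    intro z hz hcz
    refine hvfix z hz ?_
    have h1 : v ^ p ^ e ∈ Subgroup.centralizer ({z} : Set K) := by
      rw [Subgroup.mem_centralizer_singleton_iff, ← mul_inv_eq_iff_eq_mul, ← hact _ z hz, ← hn', hcz.eq]
      group
    have hcop : (orderOf v).Coprime (p ^ e) := hvo.pow_right e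
    obtain ⟨j, hj⟩ := exists_pow_eq_self_of_coprime hcop.symm
    have h2 : v ∈ Subgroup.centralizer ({z} : Set K) := hj ▸ pow_mem h1 j
    exact Subgroup.mem_centralizer_singleton_iff.mp h2
  -- the displacement map of `n'` on `R`
  have hn'R : n' ∈ Subgroup.normalizer ((R : Subgroup K) : Set K) := pow_mem hnR _
  intro x hx
  obtain ⟨u, hu, hux⟩ := H32.FreeAbelian.exists_displacement (Q := (R : Subgroup K)) (x := n') hcommR
    (fun r hr => (Subgroup.mem_normalizer_iff.mp hn'R r).mp hr) (fun r hr hrn => by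
      by_contra hr1
      obtain ⟨y, hy⟩ := exists_prime_orderOf_dvd_card' (G := Subgroup.zpowers r) p (by
        rw [Nat.card_zpowers]
        obtain ⟨a, ha⟩ := (Nat.dvd_prime_pow Fact.out).mp
          (orderOf_dvd_of_pow_eq_one (congrArg Subtype.val (R.isPGroup' ⟨r, hr⟩).choose_spec))
        rcases Nat.eq_zero_or_pos a with rfl | hpos
        · exact absurd (orderOf_eq_one_iff.mp (by simpa using ha.2)) hr1
        · exact ha.2 ▸ dvd_pow_self p hpos.ne')
      have hyo : orderOf (y : K) = p := by rw [Subgroup.orderOf_coe, hy]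
      obtain ⟨z, hz⟩ := exists_prime_orderOf_dvd_card' (G := Q) p (by
        obtain ⟨a, ha⟩ := (QS.isPGroup'.map L.subtype).exists_card_eq
        rcases Nat.eq_zero_or_pos a with rfl | hpos
        · exact absurd (Subgroup.card_eq_one.mp (by rw [ha, pow_zero] : Nat.card Q = 1)) hQne
        · exact ha ▸ dvd_pow_self p hpos.ne')
      have hzo : orderOf (z : K) = p := by rw [Subgroup.orderOf_coe, hz]
      have hyR : (y : K) ∈ (R : Subgroup K) := (Subgroup.zpowers_le.mpr hr) y.2
      have heq := zpowers_eq_of_commute P hP hyo hzo (hcommR _ hyR _ (hg z.2))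
      have hyQ : (y : K) ∈ Q :=
        (Subgroup.zpowers_le.mpr z.2) (heq ▸ Subgroup.mem_zpowers (y : K))
      obtain ⟨i, hi⟩ := Subgroup.mem_zpowers_iff.mp y.2
      have hy1 := hfpf _ hyQ (hi ▸ (show Commute n' r from hrn).zpow_right i)
      rw [hy1, orderOf_one] at hyo
      exact (Fact.out : p.Prime).ne_one hyo.symm) hx
  rw [hux, show u⁻¹ * (n' * u * n'⁻¹) = (u⁻¹ * n' * u) * n'⁻¹ by group]
  exact mul_mem (by simpa using (inferInstance : L.Normal).conj_mem _ hn'L u⁻¹) (inv_mem hn'L)

/-- Let K be a finite group, p a prime dividing its order with O_{p'}(K) = 1 (no nontrivial normal subgroup of order prime to p), and P a cyclic Sylow p-subgroup of K. Then either P is normal and self-centralizing in K with K/P cyclic of order dividing p − 1 (so K is the semidirect product of P by a group of automorphisms of P of order dividing p − 1), or the generalized Fitting subgroup F*(K) is a non-abelian simple group and p does not divide the index of F*(K) in K. -/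
theorem result {K : Type*} [Group K] [Finite K] (p : ℕ) [Fact p.Prime] (hp : p ∣ Nat.card K) (hO : Cfsg.pPrimeCore p K = ⊥)
    (P : Sylow p K) (hP : IsCyclic ↥(P : Subgroup K)) :
    ((P : Subgroup K).Normal ∧ Subgroup.centralizer ((P : Subgroup K) : Set K) = (P : Subgroup K) ∧
      (∀ (_ : (P : Subgroup K).Normal), IsCyclic (K ⧸ (P : Subgroup K))) ∧ (P : Subgroup K).index ∣ p - 1) ∨
    (IsSimpleGroup ↥(Cfsg.generalizedFittingSubgroup K) ∧ ¬ IsMulCommutative ↥(Cfsg.generalizedFittingSubgroup K) ∧
      ¬ p ∣ (Cfsg.generalizedFittingSubgroup K).index) := by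
  classical
  haveI := hP
  by_cases hlay : Cfsg.layer K = ⊥
  · left
    have hF : Cfsg.generalizedFittingSubgroup K ≤ Cfsg.pCore p K := by
      rw [Cfsg.generalizedFittingSubgroup, hlay, bot_sup_eq]
      exact fitting_le_pCore hO
    have hVP : Cfsg.pCore p K ≤ (P : Subgroup K) := H10.pCore_le_sylow P
    have hCP : ∀ x ∈ Subgroup.centralizer ((P : Subgroup K) : Set K), x ∈ Cfsg.pCore p K := fun x hx =>
      hF (Cfsg.Comp.centralizer_fStar_le (Subgroup.centralizer_le (hF.trans hVP) hx))
    have hself : (P : Subgroup K) ≤ Subgroup.centralizer ((P : Subgroup K) : Set K) :=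
      Subgroup.le_centralizer_iff_isMulCommutative.2 inferInstance
    have hPV : (P : Subgroup K) = Cfsg.pCore p K := le_antisymm (fun x hx => hCP x (hself hx)) hVP
    have hn : (P : Subgroup K).Normal := hPV ▸ H10.pCore_normal
    have hC : Subgroup.centralizer ((P : Subgroup K) : Set K) = (P : Subgroup K) :=
      le_antisymm (fun x hx => hPV ▸ hCP x hx) hself
    haveI := hn
    let φ : K →* MulAut (P : Subgroup K) := MulAut.conjNormal
    have hker : φ.ker = (P : Subgroup K) := by
      ext g
      have hmem : g ∈ (P : Subgroup K) ↔ g ∈ Subgroup.centralizer ((P : Subgroup K) : Set K) := by rw [hC]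
      rw [MonoidHom.mem_ker, hmem, Subgroup.mem_centralizer_iff]
      constructor
      · intro h y hy
        have := congrArg (fun f : MulAut (P : Subgroup K) => ((f ⟨y, hy⟩ : (P : Subgroup K)) : K)) h
        simp [φ, MulAut.conjNormal_apply] at this
        exact (mul_inv_eq_iff_eq_mul.mp this).symm
      · intro h
        apply MulEquiv.ext
        intro y
        apply Subtype.ext
        simp [φ, MulAut.conjNormal_apply, ← h y.1 y.2]
    let ψ : K ⧸ (P : Subgroup K) →* MulAut (P : Subgroup K) :=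
      QuotientGroup.lift _ φ hker.ge
    have hψ : Function.Injective ψ := by
      rw [← MonoidHom.ker_eq_bot_iff, QuotientGroup.ker_lift, hker]
      exact QuotientGroup.map_mk'_self _
    obtain ⟨a, ha⟩ := P.isPGroup'.exists_card_eq
    have hidx : ¬ p ∣ (P : Subgroup K).index := P.not_dvd_index
    have hdiv : (P : Subgroup K).index ∣ Nat.totient (p ^ a) := by
      have := Subgroup.card_dvd_of_injective ψ hψ
      rwa [IsCyclic.card_mulAut, ha] at this
    have ha0 : 0 < a := by
      rcases Nat.eq_zero_or_pos a with rfl | h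
      · exact absurd (Subgroup.card_eq_one.mp (by simpa using ha)) (P.ne_bot_of_dvd_card hp)
      · exact h
    have hd1 : (P : Subgroup K).index ∣ p - 1 := by
      rw [Nat.totient_prime_pow Fact.out ha0] at hdiv
      exact ((((Fact.out : p.Prime).coprime_iff_not_dvd.mpr hidx).symm).pow_right _).dvd_of_dvd_mul_left hdiv
    refine ⟨hn, hC, fun _ => ?_, hd1⟩
    by_cases hp2 : p = 2
    · subst hp2
      have h1 : (P : Subgroup K).index = 1 := Nat.dvd_one.mp hd1
      haveI : Subsingleton (K ⧸ (P : Subgroup K)) := (Nat.card_eq_one_iff_unique.mp h1).1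
      infer_instance
    · haveI : IsCyclic (ZMod (Nat.card (P : Subgroup K)))ˣ := by
        rw [ha]; exact ZMod.isCyclic_units_of_prime_pow p Fact.out hp2 a
      exact isCyclic_of_injective ((IsCyclic.mulAutMulEquiv (P : Subgroup K)).toMonoidHom.comp ψ)
        ((IsCyclic.mulAutMulEquiv (P : Subgroup K)).injective.comp hψ)
  · right
    obtain ⟨L, hL⟩ : ∃ L : Subgroup K, Cfsg.IsComponent L := by
      by_contra h
      exact hlay (le_bot_iff.mp (Cfsg.Comp.layer_le_iff.mpr fun L hL => absurd ⟨L, hL⟩ h))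
    obtain ⟨x, hxL, hx⟩ := exists_orderOf_eq hO hL.1 (Cfsg.Comp.isComponent_ne_bot hL)
    have hzc := center_component_eq_bot hO P hP hL
    -- no element of `L` of order `p` commutes with all of `L`
    have hno : ∀ H : Subgroup K, (∀ a ∈ L, ∀ b ∈ H, Commute a b) → ∀ y ∈ H, orderOf y ≠ p := by
      intro H hcomm y hy hyo
      have heq := zpowers_eq_of_commute P hP hx hyo (hcomm x hxL y hy)
      have hxH : x ∈ H := (Subgroup.zpowers_le.mpr hy) (heq ▸ Subgroup.mem_zpowers x)
      have hxc : (⟨x, hxL⟩ : L) ∈ Subgroup.center L :=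
        Subgroup.mem_center_iff.mpr fun g => Subtype.ext (hcomm g g.2 x hxH)
      rw [hzc, Subgroup.mem_bot] at hxc
      have : x = 1 := congrArg Subtype.val hxc
      rw [this, orderOf_one] at hx
      exact (Fact.out : p.Prime).ne_one hx.symm
    have huniq : ∀ M : Subgroup K, Cfsg.IsComponent M → M = L := by
      intro M hM
      rcases Cfsg.Comp.component_eq_or_commute hL hM with h | h
      · exact h.symm
      · exfalso
        obtain ⟨y, hy, hyo⟩ := exists_orderOf_eq hO hM.1 (Cfsg.Comp.isComponent_ne_bot hM)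
        exact hno M (fun a ha b hb => Cfsg.Comp.commute_of_commutator_eq_bot h ha hb) y hy hyo
    have hlayer : Cfsg.layer K = L :=
      le_antisymm (Cfsg.Comp.layer_le_iff.mpr fun M hM => (huniq M hM).le) (Cfsg.Comp.le_layer hL)
    have hFbot : Cfsg.fittingSubgroup K = ⊥ := by
      by_contra hne
      haveI := H1.fittingSubgroup_normal K
      obtain ⟨y, hy, hyo⟩ := exists_orderOf_eq hO (inferInstance : (Cfsg.fittingSubgroup K).Normal).isSubnormal hne
      exact hno _ (fun a ha b hb =>
        Cfsg.Comp.commute_of_commutator_eq_bot (Cfsg.Comp.commutator_component_fitting hL) ha hb) y hy hyo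
    have hFS : Cfsg.generalizedFittingSubgroup K = L := by
      rw [Cfsg.generalizedFittingSubgroup, hlayer, hFbot, sup_bot_eq]
    haveI hLn : L.Normal := by
      refine ⟨fun a ha g => ?_⟩
      have hconj := huniq _ (Cfsg.Comp.isComponent_conj hL g)
      exact hconj ▸ Subgroup.mem_map_of_mem _ ha
    rw [hFS]
    have hLs : IsSimpleGroup L := by
      haveI := hL.2.2
      exact (((QuotientGroup.quotientMulEquivOfEq hzc).trans QuotientGroup.quotientBot).symm).isSimpleGroup
    refine ⟨hLs, Cfsg.Comp.not_isMulCommutative_of_quasisimple hL.2, fun hd => ?_⟩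
    exact P.not_dvd_index (hd.trans (Subgroup.index_dvd_of_le (sylow_le hO P hP hL)))

end Cfsg.Agent.S4403
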