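import Cfsg.Statements.S4172
import Cfsg.Agent.CompLayer
import Cfsg.Agent.H1.Fitting
import Cfsg.Agent.H10.Basic
import Cfsg.Agent.H5.TateCor
import Cfsg.Agent.H6.Basic
import Cfsg.Agent.H7.FStar
import Cfsg.Agent.H68.FStar
import Cfsg.Agent.H2.Gaschutz
import Cfsg.Agent.S4403

set_option autoImplicit false
open Cfsg

namespace Cfsg.Agent.S4172

open scoped commutatorElement

theorem exists_sup_zpowers {Q : Type*} [Group Q] [Finite Q] {p : ℕ} (hp : p.Prime)
    (hidx : (frattini Q).index = p ^ 2) (M : Subgroup Q) (hM : ¬ M ≤ frattini Q) :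
    ∃ z : Q, M ⊔ Subgroup.zpowers z = ⊤ := by
  obtain ⟨x, hxM, hx⟩ := SetLike.not_le_iff_exists.mp hM
  set A := frattini Q ⊔ Subgroup.zpowers x with hA
  by_cases hAt : A = ⊤
  · have h1 := frattini_nongenerating (K := Subgroup.zpowers x) (by rw [sup_comm]; exact hAt)
    exact ⟨1, eq_top_iff.mpr ((h1.ge.trans (Subgroup.zpowers_le.mpr hxM)).trans le_sup_left)⟩
  obtain ⟨z, -, hz⟩ := SetLike.not_le_iff_exists.mp (show ¬ (⊤ : Subgroup Q) ≤ A from fun h => hAt (top_le_iff.mp h))
  refine ⟨z, frattini_nongenerating (eq_top_iff.mpr ?_)⟩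
  set B := A ⊔ Subgroup.zpowers z with hB
  have hFA : frattini Q < A := lt_of_le_of_ne le_sup_left fun h =>
    hx (h ▸ Subgroup.mem_sup_right (Subgroup.mem_zpowers x))
  have hAB : A < B := lt_of_le_of_ne le_sup_left fun h =>
    hz (h ▸ Subgroup.mem_sup_right (Subgroup.mem_zpowers z))
  have hBtop : B = ⊤ := by
    rw [← Subgroup.index_eq_one]
    have h1 : A.index ∣ p ^ 2 := hidx ▸ Subgroup.index_dvd_of_le hFA.le
    have h2 : B.index ∣ A.index := Subgroup.index_dvd_of_le hAB.le
    obtain ⟨a, ha2, ha⟩ := (Nat.dvd_prime_pow hp).mp h1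
    obtain ⟨b, hba, hb⟩ := (Nat.dvd_prime_pow hp).mp (ha ▸ h2)
    have l1 : A.index < p ^ 2 := hidx ▸ Subgroup.index_strictAnti hFA
    have l2 : B.index < A.index := Subgroup.index_strictAnti hAB
    rw [ha] at l1 l2
    rw [hb] at l2 ⊢
    have := (Nat.pow_lt_pow_iff_right hp.one_lt).mp l1
    have := (Nat.pow_lt_pow_iff_right hp.one_lt).mp l2
    simp [show b = 0 by omega]
  rw [← hBtop]
  refine sup_le (sup_le le_sup_right ?_) ((le_sup_right (a := M)).trans le_sup_left)
  exact Subgroup.zpowers_le.mpr (Subgroup.mem_sup_left (Subgroup.mem_sup_left hxM))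

variable {G : Type*} [Group G] [Finite G] {p : ℕ} [Fact p.Prime] (P : Sylow p G)

/-- `Φ(P)` as a subgroup of `G`. -/
def phi : Subgroup G := (frattini (P : Subgroup G)).map (P : Subgroup G).subtype

/-- A subgroup `K` normalised by `P` with `K ∩ P ≰ Φ(P)` has cyclic "quotient" in `P`. -/
theorem exists_gen (hgen : (frattini ↥(P : Subgroup G)).index = p ^ 2) (K : Subgroup G)
    (hK : ¬ K ⊓ (P : Subgroup G) ≤ phi P) :
    ∃ z ∈ (P : Subgroup G), (P : Subgroup G) ≤ (K ⊓ (P : Subgroup G)) ⊔ Subgroup.zpowers z := by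
  obtain ⟨z, hz⟩ := exists_sup_zpowers Fact.out hgen (K.subgroupOf (P : Subgroup G)) (by
    intro h
    apply hK
    rw [← Subgroup.subgroupOf_map_subtype]
    exact Subgroup.map_mono h)
  refine ⟨z, z.2, ?_⟩
  have h := congrArg (Subgroup.map (P : Subgroup G).subtype) hz
  rw [Subgroup.map_sup, MonoidHom.map_zpowers, ← MonoidHom.range_eq_map, Subgroup.range_subtype,
    Subgroup.subgroupOf_map_subtype] at h
  exact h.ge

theorem commutator_le_of_gen {K : Subgroup G} (hnK : (P : Subgroup G) ≤ Subgroup.normalizer (K : Set G))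
    {z : G} (hz : z ∈ (P : Subgroup G)) (h : (P : Subgroup G) ≤ (K ⊓ (P : Subgroup G)) ⊔ Subgroup.zpowers z) :
    ⁅(P : Subgroup G), (P : Subgroup G)⁆ ≤ K := by
  set M := K.subgroupOf (P : Subgroup G) with hM
  haveI : M.Normal := Subgroup.normal_subgroupOf_of_le_normalizer hnK
  have htop : M ⊔ Subgroup.zpowers (⟨z, hz⟩ : (P : Subgroup G)) = ⊤ := by
    apply Subgroup.map_injective (P : Subgroup G).subtype_injective
    rw [Subgroup.map_sup, MonoidHom.map_zpowers, ← MonoidHom.range_eq_map, Subgroup.range_subtype,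
      hM, Subgroup.subgroupOf_map_subtype]
    exact le_antisymm (sup_le inf_le_right (Subgroup.zpowers_le.mpr hz)) h
  have h1 : commutator (P : Subgroup G) ≤ M := by
    have hc := congrArg (Subgroup.map (QuotientGroup.mk' M)) htop
    rw [Subgroup.map_sup, QuotientGroup.map_mk'_self, bot_sup_eq, MonoidHom.map_zpowers,
      Subgroup.map_top_of_surjective _ (QuotientGroup.mk'_surjective _)] at hc
    haveI : IsCyclic ((P : Subgroup G) ⧸ M) :=
      isCyclic_of_surjective (Subgroup.topEquiv.toMonoidHom.comp (MulEquiv.subgroupCongr hc).toMonoidHom)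
        (Subgroup.topEquiv.surjective.comp (MulEquiv.subgroupCongr hc).surjective)
    exact Subgroup.Normal.quotient_commutative_iff_commutator_le.mp inferInstance
  have h2 := Subgroup.map_mono (f := (P : Subgroup G).subtype) h1
  rw [commutator_def, Subgroup.map_commutator, ← MonoidHom.range_eq_map, Subgroup.range_subtype,
    hM, Subgroup.subgroupOf_map_subtype] at h2
  exact h2.trans inf_le_left

/-- Tate: a `P`-invariant subgroup meeting `P` in `Φ(P)` has a normal `p`-complement. -/
theorem complement_of_le_phi {K : Subgroup G} (hnK : (P : Subgroup G) ≤ Subgroup.normalizer (K : Set G))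
    (h : K ⊓ (P : Subgroup G) ≤ phi P) : Cfsg.HasNormalPComplement p K := by
  set H := Subgroup.normalizer (K : Set G) with hH
  set Q := P.subtype hnK with hQ
  let e : ↥(Q : Subgroup H) ≃* ↥(P : Subgroup G) := Subgroup.subgroupOfEquivOfLe hnK
  have hKH : K ≤ H := Subgroup.le_normalizer
  haveI : (K.subgroupOf H).Normal := Subgroup.normal_subgroupOf_of_le_normalizer le_rfl
  have hle : K.subgroupOf H ⊓ (Q : Subgroup H) ≤ (frattini Q).map (Q : Subgroup H).subtype := by
    intro x hx
    obtain ⟨y, hy, hyx⟩ := h ⟨hx.1, hx.2⟩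
    have h3 : e.symm y ∈ frattini (Q : Subgroup H) :=
      frattini_le_comap_frattini_of_surjective (φ := e.symm.toMonoidHom) e.symm.surjective hy
    exact ⟨e.symm y, h3, Subtype.ext hyx⟩
  exact (H5.hasNormalPComplement_congr (Subgroup.subgroupOfEquivOfLe hKH)).mp
    (H5.hasNormalPComplement_of_le_frattini Q (K.subgroupOf H) hle)

/-- A nontrivial normal subgroup does not meet `P` inside `Φ(P)`. -/
theorem not_le_phi (hcore : Cfsg.pPrimeCore p G = ⊥) (hfrat : (phi P).normalCore = ⊥)
    {K : Subgroup G} [hn : K.Normal] (hK : K ≠ ⊥) : ¬ K ⊓ (P : Subgroup G) ≤ phi P := by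
  intro h
  have hc := complement_of_le_phi P (Subgroup.normalizer_eq_top_iff.mpr hn ▸ le_top) h
  have hres : Cfsg.pResidual p K = ⊥ := by
    rw [← Subgroup.map_eq_bot_iff_of_injective _ K.subtype_injective, ← le_bot_iff, ← hcore]
    refine Cfsg.Comp.le_pPrimeCore inferInstance ?_
    rw [Subgroup.card_map_of_injective K.subtype_injective]
    exact Cfsg.Comp.coprime_iff_not_dvd.mpr (H5.hasNormalPComplement_iff_not_dvd.1 hc)
  have hp : IsPGroup p K := by
    intro k
    obtain ⟨i, hi⟩ := H5.isPGroup_quotient_pResidual (p := p) ((k : K) : K ⧸ Cfsg.pResidual p K)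
    refine ⟨i, ?_⟩
    rw [← QuotientGroup.mk_pow, QuotientGroup.eq_one_iff, hres, Subgroup.mem_bot] at hi
    exact hi
  have hKP : K ≤ (P : Subgroup G) := hp.le_sylow_of_normal P
  have := Subgroup.normal_le_normalCore.mpr ((le_inf le_rfl hKP).trans h)
  exact hK (le_bot_iff.mp (this.trans hfrat.le))

/-- In a perfect normal subgroup, central elements of `p`-power order in `P` lie in `Φ(P)`. -/
theorem central_mem_phi {E : Subgroup G} [E.Normal] (hE : ⁅E, E⁆ = E) {a : G} (haE : a ∈ E)
    (haP : a ∈ (P : Subgroup G)) (hc : ∀ x ∈ E, Commute x a) : a ∈ phi P := by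
  set Φ := frattini (P : Subgroup G)
  have hab : IsMulCommutative ((P : Subgroup G) ⧸ Φ) :=
    Subgroup.Normal.quotient_commutative_iff_commutator_le.mpr (H6.commutator_le_frattini P.isPGroup')
  letI : CommGroup ((P : Subgroup G) ⧸ Φ) :=
    { (inferInstance : Group ((P : Subgroup G) ⧸ Φ)) with mul_comm := fun a b => hab.is_comm.comm a b }
  set S := (P : Subgroup G).subgroupOf E with hS
  let j : S →* (P : Subgroup G) :=
    ((E.subtype.comp S.subtype).codRestrict _ fun s => s.2)
  let ψ : S →* (P : Subgroup G) ⧸ Φ := (QuotientGroup.mk' Φ).comp j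
  have hperf : commutator E = ⊤ := by
    apply Subgroup.map_injective E.subtype_injective
    rw [commutator_def, Subgroup.map_commutator, ← MonoidHom.range_eq_map, Subgroup.range_subtype, hE]
  have htriv : MonoidHom.transfer ψ ⟨a, haE⟩ = 1 :=
    MonoidHom.mem_ker.mp (Abelianization.commutator_subset_ker _ (hperf ▸ Subgroup.mem_top _))
  rw [MonoidHom.transfer_eq_pow] at htriv
  swap
  · intro k g _
    have h1 : Commute (g : E) ⟨a, haE⟩ := Subtype.ext (hc g g.2)
    rw [mul_assoc, ← (h1.pow_right k).eq, inv_mul_cancel_left]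
  have h2 : ψ ⟨⟨a, haE⟩, haP⟩ ^ S.index = 1 := by
    rw [← map_pow]; exact htriv
  have hcop : (S.index).Coprime p := by
    refine Cfsg.Comp.coprime_iff_not_dvd.mpr fun hd => P.not_dvd_index (hd.trans ?_)
    rw [hS]
    exact H5.relIndex_dvd_index_of_normal_right' _ _
  have h3 : ψ ⟨⟨a, haE⟩, haP⟩ = 1 := by
    obtain ⟨k, hk⟩ := (P.isPGroup'.to_quotient Φ) (ψ ⟨⟨a, haE⟩, haP⟩)
    exact orderOf_eq_one_iff.mp (Nat.eq_one_of_dvd_coprimes (hcop.pow_right k)
      (orderOf_dvd_of_pow_eq_one h2) (orderOf_dvd_of_pow_eq_one hk))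
  exact ⟨⟨a, haP⟩, (QuotientGroup.eq_one_iff _).mp h3, rfl⟩

/-- Let p be a prime and G a finite group with a non-commutative Sylow p-subgroup P whose Frattini subgroup has index p² in P (P is generated by two elements). Suppose G has no nontrivial normal subgroup of order prime to p and the Frattini subgroup of P contains no nontrivial normal subgroup of G. Then the generalized Fitting subgroup F*(G) is the unique minimal normal subgroup of G, the image of P in G/F*(G) is cyclic, and if F*(G) is not commutative then P permutes the components of G transitively by conjugation. -/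
theorem result {G : Type*} [Group G] [Finite G] (p : ℕ) [Fact p.Prime] (P : Sylow p G) (hna : ¬ IsMulCommutative (P : Subgroup G)) (hgen : (frattini ↥(P : Subgroup G)).index = p ^ 2) (hcore : Cfsg.pPrimeCore p G = ⊥) (hfrat : ((frattini ↥(P : Subgroup G)).map (P : Subgroup G).subtype).normalCore = ⊥) [hFn : (Cfsg.generalizedFittingSubgroup G).Normal] :
    (Cfsg.generalizedFittingSubgroup G ≠ ⊥ ∧ ∀ K : Subgroup G, K.Normal → K ≠ ⊥ → Cfsg.generalizedFittingSubgroup G ≤ K) ∧
      IsCyclic ↥((P : Subgroup G).map (QuotientGroup.mk' (Cfsg.generalizedFittingSubgroup G))) ∧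
      (¬ IsMulCommutative (Cfsg.generalizedFittingSubgroup G) → ∀ K L : Subgroup G, Cfsg.IsComponent K → Cfsg.IsComponent L → ∃ x ∈ (P : Subgroup G), L = K.map (MulAut.conj x).toMonoidHom) := by
  classical
  change (phi P).normalCore = ⊥ at hfrat
  set F := Cfsg.generalizedFittingSubgroup G with hFdef
  set P' := ⁅(P : Subgroup G), (P : Subgroup G)⁆ with hP'
  have hP'ne : P' ≠ ⊥ := fun h => hna (Subgroup.le_centralizer_iff_isMulCommutative.mp
    (Subgroup.commutator_eq_bot_iff_le_centralizer.mp h))
  have hnormal : ∀ K : Subgroup G, K.Normal → K ≠ ⊥ → P' ≤ K := by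
    intro K hK hne
    obtain ⟨z, hz, h⟩ := exists_gen P hgen K (not_le_phi P hcore hfrat hne)
    exact commutator_le_of_gen P (Subgroup.normalizer_eq_top_iff.mpr hK ▸ le_top) hz h
  -- the least nontrivial normal subgroup
  set N := ⨅ K ∈ {K : Subgroup G | K.Normal ∧ K ≠ ⊥}, K with hNdef
  have hNle : ∀ K : Subgroup G, K.Normal → K ≠ ⊥ → N ≤ K := fun K h1 h2 => iInf₂_le K ⟨h1, h2⟩
  have hNn : N.Normal := Subgroup.normal_iInf_normal fun K => Subgroup.normal_iInf_normal fun h => h.1
  have hNne : N ≠ ⊥ := fun h => hP'ne (le_bot_iff.mp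
    (h ▸ le_iInf₂ fun K hK => hnormal K hK.1 hK.2))
  have hFne : F ≠ ⊥ := by
    intro h
    apply hP'ne
    have h1 := Cfsg.Comp.centralizer_fStar_le (G := G)
    rw [← hFdef, h, Subgroup.coe_bot] at h1
    have hbot : ∀ x : G, x = 1 := fun x => Subgroup.mem_bot.mp (h1 (by simp [Subgroup.mem_centralizer_iff]))
    exact (Subgroup.eq_bot_iff_forall _).mpr fun x _ => hbot x
  have hcyc : ∀ K : Subgroup G, [K.Normal] → K ≠ ⊥ →
      IsCyclic ((P : Subgroup G).map (QuotientGroup.mk' K)) := by
    intro K _ hne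
    obtain ⟨z, hz, h⟩ := exists_gen P hgen K (not_le_phi P hcore hfrat hne)
    have heq : (P : Subgroup G).map (QuotientGroup.mk' K) = Subgroup.zpowers (QuotientGroup.mk' K z) := by
      refine le_antisymm ((Subgroup.map_mono h).trans ?_)
        (Subgroup.zpowers_le.mpr (Subgroup.mem_map_of_mem _ hz))
      rw [Subgroup.map_sup, MonoidHom.map_zpowers]
      refine sup_le (((Subgroup.map_mono inf_le_left).trans ?_).trans bot_le) le_rfl
      rw [QuotientGroup.map_mk'_self]
    rw [heq]; infer_instance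
  -- `P` permutes the components transitively
  have hFit : Cfsg.fittingSubgroup G ≤ Cfsg.pCore p G := Cfsg.Agent.S4403.fitting_le_pCore hcore
  haveI := H1.fittingSubgroup_normal G
  haveI : (Cfsg.layer G).Normal := H68.layer_normal G
  have hEperf : ⁅Cfsg.layer G, Cfsg.layer G⁆ = Cfsg.layer G := Cfsg.Comp.layer_perfect
  have hFbot : Cfsg.layer G ≠ ⊥ → Cfsg.fittingSubgroup G = ⊥ := by
    intro hE
    by_contra hF
    refine not_le_phi P hcore hfrat (hn := hNn) hNne fun a ha => ?_
    refine central_mem_phi P hEperf (hNle _ inferInstance hE ha.1) ha.2 fun x hx => ?_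
    exact Cfsg.Comp.commute_of_commutator_eq_bot Cfsg.Comp.commutator_layer_fitting hx
      (hNle _ inferInstance hF ha.1)
  have htrans : ∀ K L : Subgroup G, Cfsg.IsComponent K → Cfsg.IsComponent L →
      ∃ x ∈ (P : Subgroup G), L = K.map (MulAut.conj x).toMonoidHom := by
    intro K L hK hL
    by_contra hcon
    have hF0 := hFbot fun h => Cfsg.Comp.isComponent_ne_bot hK
      (le_bot_iff.mp (h ▸ Cfsg.Comp.le_layer hK))
    have key : ∀ S : Set (Subgroup G), (∀ M ∈ S, Cfsg.IsComponent M) → S.Nonempty →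
        (∀ M ∈ S, ∀ x ∈ (P : Subgroup G), M.map (MulAut.conj x).toMonoidHom ∈ S) → P' ≤ sSup S := by
      intro S hS ⟨M, hM⟩ hinv
      have hnorm : (P : Subgroup G) ≤ Subgroup.normalizer ((sSup S : Subgroup G) : Set G) := by
        intro x hx
        have hle : ∀ y ∈ (P : Subgroup G), (sSup S).map (MulAut.conj y).toMonoidHom ≤ sSup S := by
          intro y hy
          rw [Subgroup.map_le_iff_le_comap]
          exact sSup_le fun M hM => Subgroup.map_le_iff_le_comap.mp (le_sSup (hinv M hM y hy))
        refine Cfsg.Comp.mem_normalizer_of_map_conj_eq (le_antisymm (hle x hx) fun y hy => ?_)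
        refine ⟨x⁻¹ * y * x, ?_, by simp [mul_assoc]⟩
        have := hle x⁻¹ (inv_mem hx) ⟨y, hy, rfl⟩
        simpa [mul_assoc] using this
      by_cases hle : sSup S ⊓ (P : Subgroup G) ≤ phi P
      · exfalso
        have hc := complement_of_le_phi P hnorm hle
        have hperf : commutator ↥(sSup S) = ⊤ := by
          apply Subgroup.map_injective (sSup S).subtype_injective
          rw [commutator_def, Subgroup.map_commutator, ← MonoidHom.range_eq_map, Subgroup.range_subtype,
            Cfsg.Comp.sSup_perfect S fun T hT => Cfsg.Comp.isComponent_perfect (hS T hT)]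
        have hres : Cfsg.pResidual p ↥(sSup S) = ⊤ := by
          by_contra htop
          haveI : Nontrivial (↥(sSup S) ⧸ Cfsg.pResidual p ↥(sSup S)) := QuotientGroup.nontrivial_iff.mpr htop
          haveI : Group.IsNilpotent (↥(sSup S) ⧸ Cfsg.pResidual p ↥(sSup S)) :=
            H5.isPGroup_quotient_pResidual.isNilpotent
          apply (IsSolvable.commutator_lt_top_of_nontrivial (↥(sSup S) ⧸ Cfsg.pResidual p ↥(sSup S))).ne
          have := congrArg (Subgroup.map (QuotientGroup.mk' (Cfsg.pResidual p ↥(sSup S)))) hperf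
          rwa [commutator_def, Subgroup.map_commutator, Subgroup.map_top_of_surjective _
            (QuotientGroup.mk'_surjective _)] at this
        have hn := H5.hasNormalPComplement_iff_not_dvd.1 hc
        rw [hres, Subgroup.card_top] at hn
        have hdM : ¬ p ∣ Nat.card M := fun hd => hn (hd.trans (Subgroup.card_dvd_of_le (le_sSup hM)))
        exact Cfsg.Comp.isComponent_ne_bot (hS M hM)
          (le_bot_iff.mp ((Cfsg.Comp.le_pPrimeCore_of_subnormal (hS M hM).1 hdM).trans hcore.le))
      · obtain ⟨z, hz, h⟩ := exists_gen P hgen _ hle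
        exact commutator_le_of_gen P hnorm hz h
    let S1 : Set (Subgroup G) := {M | ∃ x ∈ (P : Subgroup G), M = K.map (MulAut.conj x).toMonoidHom}
    let S2 : Set (Subgroup G) := {M | Cfsg.IsComponent M ∧ M ∉ S1}
    have hmul : ∀ (x y : G) (M : Subgroup G), (M.map (MulAut.conj x).toMonoidHom).map
        (MulAut.conj y).toMonoidHom = M.map (MulAut.conj (y * x)).toMonoidHom := by
      intro x y M
      rw [Subgroup.map_map, map_mul]; rfl
    have hS1 : ∀ M ∈ S1, Cfsg.IsComponent M := by
      rintro _ ⟨x, -, rfl⟩; exact Cfsg.Comp.isComponent_conj hK x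
    have h1 := key S1 hS1 ⟨_, 1, one_mem _, rfl⟩ (by
      rintro _ ⟨x, hx, rfl⟩ y hy
      exact ⟨y * x, mul_mem hy hx, hmul x y K⟩)
    have h2 := key S2 (fun M hM => hM.1) ⟨L, hL, hcon⟩ (by
      rintro M ⟨hM, hM1⟩ y hy
      refine ⟨Cfsg.Comp.isComponent_conj hM y, fun ⟨x, hx, hxe⟩ => hM1 ⟨y⁻¹ * x, mul_mem (inv_mem hy) hx, ?_⟩⟩
      rw [← hmul, ← hxe, hmul, inv_mul_cancel, map_one]
      exact (Subgroup.map_id M).symm)
    apply hP'ne
    have hcen : P' ≤ (Subgroup.center (Cfsg.layer G)).map (Cfsg.layer G).subtype := by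
      intro a ha
      have haE : a ∈ Cfsg.layer G :=
        (sSup_le fun M hM => Cfsg.Comp.le_layer (hS1 M hM)) (h1 ha)
      refine ⟨⟨a, haE⟩, Subgroup.mem_center_iff.mpr fun g => Subtype.ext ?_, rfl⟩
      have hgc : (g : G) ∈ Subgroup.centralizer ({a} : Set G) := by
        refine (Cfsg.Comp.layer_le_iff.mpr fun M hM => ?_) g.2
        intro m hm
        rw [Subgroup.mem_centralizer_singleton_iff]
        by_cases hM1 : M ∈ S1
        · refine (Subgroup.mem_centralizer_iff.mp ((sSup_le ?_ : sSup S2 ≤ Subgroup.centralizer (M : Set G)) (h2 ha)) m hm)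
          intro T hT
          rcases Cfsg.Comp.component_eq_or_commute hT.1 hM with h | h
          · exact absurd (h ▸ hM1) hT.2
          · exact Subgroup.commutator_eq_bot_iff_le_centralizer.mp h
        · refine (Subgroup.mem_centralizer_iff.mp ((sSup_le ?_ : sSup S1 ≤ Subgroup.centralizer (M : Set G)) (h1 ha)) m hm)
          intro T hT
          rcases Cfsg.Comp.component_eq_or_commute (hS1 T hT) hM with h | h
          · exact absurd (h ▸ hT) hM1
          · exact Subgroup.commutator_eq_bot_iff_le_centralizer.mp h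
      exact Subgroup.mem_centralizer_singleton_iff.mp hgc
    exact le_bot_iff.mp ((hcen.trans H7.center_layer_le_fitting).trans hF0.le)
  -- `F*(G) = N`
  have hFN : F = N := by
    refine le_antisymm ?_ (hNle F hFn hFne)
    haveI := hNn
    by_cases hlay : Cfsg.layer G = ⊥
    · set R := Cfsg.pCore p G with hR
      have hFR : F ≤ R := by
        rw [hFdef, Cfsg.generalizedFittingSubgroup, hlay, bot_sup_eq]; exact hFit
      refine hFR.trans ?_
      by_contra hRN
      haveI : R.Normal := H10.pCore_normal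
      have hRP : R ≤ (P : Subgroup G) := H10.pCore_le_sylow P
      have hNR : N ≤ R := hNle R inferInstance fun h => hRN (h.le.trans bot_le)
      have hRc : ∀ x ∈ R, ∀ y ∈ R, Commute x y := by
        have h1 : ⁅R, R⁆ = ⊥ := by
          refine le_bot_iff.mp ((Subgroup.normal_le_normalCore.mpr ?_).trans hfrat.le)
          refine (Subgroup.commutator_mono hRP hRP).trans ?_
          have h := Subgroup.map_mono (f := (P : Subgroup G).subtype) (H6.commutator_le_frattini P.isPGroup')
          rw [commutator_def, Subgroup.map_commutator, ← MonoidHom.range_eq_map, Subgroup.range_subtype] at h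
          exact h
        exact fun x hx y hy => Cfsg.Comp.commute_of_commutator_eq_bot h1 hx hy
      have hRe : ∀ r ∈ R, r ^ p = 1 := by
        intro r hr
        set A := Subgroup.normalClosure ({r ^ p} : Set G)
        have hA : A ≤ phi P := by
          rw [show A = Subgroup.closure (Group.conjugatesOfSet ({r ^ p} : Set G)) from rfl, Subgroup.closure_le]
          intro y hy
          obtain ⟨s, hs, hsy⟩ := Group.mem_conjugatesOfSet_iff.mp hy
          obtain ⟨g, hg⟩ := isConj_iff.mp hsy
          rw [Set.mem_singleton_iff] at hs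
          have hgr : g * r * g⁻¹ ∈ R := (inferInstance : R.Normal).conj_mem r hr g
          rw [← hg, hs, ← conj_pow]
          exact ⟨⟨_, hRP hgr⟩ ^ p, H6.pow_prime_mem_frattini P.isPGroup' _, rfl⟩
        have := (Subgroup.normal_le_normalCore.mpr hA).trans hfrat.le (Subgroup.subset_normalClosure rfl)
        exact Subgroup.mem_bot.mp this
      haveI hcycP := hcyc N hNne
      set π := QuotientGroup.mk' N
      obtain ⟨⟨_, z, hzP, rfl⟩, hzgen⟩ := IsCyclic.exists_generator (α := (P : Subgroup G).map π)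
      have hPz : ∀ x ∈ (P : Subgroup G), ∃ i : ℤ, x * (z ^ i)⁻¹ ∈ N := by
        intro x hx
        obtain ⟨i, hi⟩ := Subgroup.mem_zpowers_iff.mp (hzgen ⟨π x, x, hx, rfl⟩)
        refine ⟨i, (QuotientGroup.eq_one_iff _).mp ?_⟩
        have h := congrArg Subtype.val hi
        simp only [SubgroupClass.coe_zpow, ← map_zpow] at h
        show π (x * (z ^ i)⁻¹) = 1
        rw [map_mul, map_inv, h, mul_inv_cancel]
      -- an element of `R \ N` gives `z` the right order
      obtain ⟨r, hrR, hrN⟩ := SetLike.not_le_iff_exists.mp hRN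
      have hpz : π z ^ orderOf (π z) = 1 := pow_orderOf_eq_one _
      have hrz : orderOf (π z) ≠ 0 := (orderOf_pos _).ne'
      obtain ⟨i, hi⟩ := hPz r (hRP hrR)
      have hri : π r = π z ^ i := by
        have h := (QuotientGroup.eq_one_iff _).mpr hi
        rw [← map_zpow, ← mul_inv_eq_one, ← map_inv, ← map_mul]
        exact h
      obtain ⟨a, hord⟩ : ∃ a, orderOf (π z) = p ^ a := by
        obtain ⟨k, hk⟩ := P.isPGroup' ⟨z, hzP⟩
        obtain ⟨a, -, ha⟩ := (Nat.dvd_prime_pow Fact.out).mp
          (orderOf_dvd_of_pow_eq_one (show π z ^ p ^ k = 1 by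
            rw [← map_pow, show z ^ p ^ k = 1 from congrArg Subtype.val hk, map_one]))
        exact ⟨a, ha⟩
      have hzord : z ^ p ^ a = 1 := by
        rcases Nat.eq_zero_or_pos a with rfl | ha
        · exfalso
          apply hrN
          rw [pow_zero, orderOf_eq_one_iff] at hord
          rw [hord, one_zpow] at hri
          exact (QuotientGroup.eq_one_iff _).mp hri
        · have hdi : ((p ^ a : ℕ) : ℤ) ∣ i * p := by
            rw [← hord, orderOf_dvd_iff_zpow_eq_one, zpow_mul, ← hri, zpow_natCast, ← map_pow, hRe r hrR, map_one]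
          obtain ⟨b, rfl⟩ : ∃ b, a = b + 1 := ⟨a - 1, by omega⟩
          have hp0 : (p : ℤ) ≠ 0 := by exact_mod_cast (Fact.out : p.Prime).ne_zero
          push_cast at hdi
          rw [pow_succ, mul_dvd_mul_iff_right hp0] at hdi
          obtain ⟨j, rfl⟩ := hdi
          -- `r = n * (z ^ p ^ b) ^ j` with `p ∤ j`
          have hzb : z ^ p ^ b ∈ R := by
            have hj : IsCoprime j (p : ℤ) := by
              rw [isCoprime_comm, Prime.coprime_iff_not_dvd (Nat.prime_iff_prime_int.mp Fact.out)]
              rintro ⟨c, rfl⟩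
              apply hrN
              rw [show (p : ℤ) ^ b * ((p : ℤ) * c) = ((p ^ (b + 1) : ℕ) : ℤ) * c by push_cast; ring,
                ← hord, zpow_mul, zpow_natCast, pow_orderOf_eq_one, one_zpow] at hri
              exact (QuotientGroup.eq_one_iff _).mp hri
            obtain ⟨u, v, huv⟩ := hj
            have hzRN : (z ^ ((p : ℤ) ^ b * j)) ∈ R := by
              have := mul_mem (inv_mem (hNR hi)) hrR
              simpa [mul_assoc] using this
            have h1 : z ^ ((p : ℤ) ^ (b + 1)) ∈ R := hNR ((QuotientGroup.eq_one_iff _).mp (by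
              show π (z ^ ((p : ℤ) ^ (b + 1))) = 1
              rw [map_zpow, show (p : ℤ) ^ (b + 1) = ((p ^ (b + 1) : ℕ) : ℤ) by push_cast; rfl,
                ← hord, zpow_natCast, pow_orderOf_eq_one]))
            have := mul_mem (R.zpow_mem hzRN u) (R.zpow_mem h1 v)
            rw [← zpow_mul, ← zpow_mul, ← zpow_add] at this
            rw [← zpow_natCast]
            convert this using 2
            push_cast
            linear_combination (-((p : ℤ) ^ b)) * huv
          rw [pow_succ, pow_mul]
          exact hRe _ hzb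
      set A := Subgroup.zpowers z with hA
      have hAN : A ⊓ N = ⊥ := by
        rw [eq_bot_iff]
        rintro _ ⟨⟨k, rfl⟩, hk⟩
        have : π z ^ k = 1 := by rw [← map_zpow]; exact (QuotientGroup.eq_one_iff _).mpr hk
        rw [← orderOf_dvd_iff_zpow_eq_one, hord] at this
        obtain ⟨c, rfl⟩ := this
        show z ^ (_ * c) ∈ (⊥ : Subgroup G)
        rw [Subgroup.mem_bot, zpow_mul, zpow_natCast, hzord, one_zpow]
      have hNA : N ⊔ A = (P : Subgroup G) := by
        refine le_antisymm (sup_le (hNR.trans hRP) (Subgroup.zpowers_le.mpr hzP)) fun x hx => ?_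
        obtain ⟨k, hk⟩ := hPz x hx
        have := mul_mem (Subgroup.mem_sup_left hk : _ ∈ N ⊔ A) (Subgroup.mem_sup_right (Subgroup.zpow_mem_zpowers z k))
        simpa using this
      haveI : IsMulCommutative N := ⟨⟨fun x y => Subtype.ext (hRc x (hNR x.2) y (hNR y.2)).eq⟩⟩
      obtain ⟨H, hH⟩ := H2.gaschutz_exists (K := N) (hNR.trans hRP) (by
        obtain ⟨k, hk⟩ := (P.isPGroup'.to_le (hNR.trans hRP)).exists_card_eq
        rw [hk]
        exact ((Fact.out : p.Prime).coprime_iff_not_dvd.mpr P.not_dvd_index).pow_left k) A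
        (Subgroup.zpowers_le.mpr hzP) hAN hNA
      have hdec : ∀ g : G, ∃ n ∈ N, ∃ h ∈ H, n * h = g := fun g => by
        obtain ⟨⟨n, h⟩, hnh⟩ := hH.2 g
        exact ⟨n, n.2, h, h.2, hnh⟩
      have hRH : (R ⊓ H).Normal := by
        refine ⟨fun x hx g => ?_⟩
        obtain ⟨n, hn, h, hh, rfl⟩ := hdec g
        have h1 : h * x * h⁻¹ ∈ R ⊓ H :=
          ⟨(inferInstance : R.Normal).conj_mem x hx.1 h, H.mul_mem (H.mul_mem hh hx.2) (H.inv_mem hh)⟩
        rwa [show n * h * x * (n * h)⁻¹ = n * (h * x * h⁻¹) * n⁻¹ by group,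
          (hRc n (hNR hn) _ h1.1).eq, mul_inv_cancel_right]
      obtain ⟨n, hn, h, hh, hnh⟩ := hdec r
      have hhR : h ∈ R := by
        have := mul_mem (inv_mem (hNR hn)) hrR
        rwa [← hnh, inv_mul_cancel_left] at this
      have hne : R ⊓ H ≠ ⊥ := fun hb => hrN (by
        have hm : h ∈ R ⊓ H := ⟨hhR, hh⟩
        rw [hb] at hm
        have := Subgroup.mem_bot.mp hm
        rw [← hnh, this, mul_one]; exact hn)
      exact hNne (le_bot_iff.mp ((le_inf le_rfl ((hNle _ hRH hne).trans inf_le_right)).trans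
        (disjoint_iff.mp hH.disjoint).le))
    · rw [hFdef, Cfsg.generalizedFittingSubgroup, hFbot hlay, sup_bot_eq]
      obtain ⟨L, hL, hLN⟩ : ∃ L, Cfsg.IsComponent L ∧ L ≤ N := by
        by_contra hcon
        apply hNne
        have hcen : N ≤ (Subgroup.center (Cfsg.layer G)).map (Cfsg.layer G).subtype := by
          intro a ha
          have haE := hNle _ inferInstance hlay ha
          refine ⟨⟨a, haE⟩, Subgroup.mem_center_iff.mpr fun g => Subtype.ext ?_, rfl⟩
          have hg : (g : G) ∈ Subgroup.centralizer (N : Set G) := by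
            refine (Cfsg.Comp.layer_le_iff.mpr fun M hM => ?_) g.2
            rcases Cfsg.Comp.component_le_or_commute hM hNn.isSubnormal with h | h
            · exact absurd ⟨M, hM, h⟩ hcon
            · exact Subgroup.commutator_eq_bot_iff_le_centralizer.mp h
          exact (Subgroup.mem_centralizer_iff.mp hg a ha).symm
        exact le_bot_iff.mp ((hcen.trans H7.center_layer_le_fitting).trans (hFbot hlay).le)
      refine Cfsg.Comp.layer_le_iff.mpr fun M hM => ?_
      obtain ⟨x, -, rfl⟩ := htrans L M hL hM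
      rintro _ ⟨y, hy, rfl⟩
      exact hNn.conj_mem y (hLN hy) x
  exact ⟨⟨hFne, fun K hK hne => hFN.le.trans (hNle K hK hne)⟩, hcyc _ hFne, fun _ => htrans⟩

end Cfsg.Agent.S4172
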