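import Cfsg.Statements.S4176
import Cfsg.Agent.H29.SpanningOrbit

set_option autoImplicit false
open Cfsg

namespace Cfsg.Agent.S4176

open scoped Classical in
/-- Let k be a field of prime characteristic p, H a finite p-soluble group and ρ a k-linear representation of H on V. Let a be a vector that is fixed by some Sylow p-subgroup of H and whose H-orbit spans V. Then the space of H-fixed vectors has dimension at most 1, and every vector b whose H-orbit has size coprime to the size of the orbit of a is fixed by H. -/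
theorem result {k V H : Type*} [Field k] (p : ℕ) [Fact p.Prime] [CharP k p] [AddCommGroup V] [Module k V]
    [Group H] [Finite H] (hsol : Cfsg.IsPSolvable p H) (ρ : Representation k H V) (a : V)
    (hfix : ∃ P : Sylow p H, ∀ x : H, x ∈ (P : Subgroup H) → ρ x a = a)
    (hspan : Submodule.span k {u : V | ∃ h : H, ρ h a = u} = ⊤) :
    Module.finrank k ρ.invariants ≤ 1 ∧
    ∀ b : V, (Nat.card {u : V | ∃ h : H, ρ h a = u}).Coprime (Nat.card {u : V | ∃ h : H, ρ h b = u}) → ∀ h : H, ρ h b = b := by
  haveI := Fintype.ofFinite H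
  obtain ⟨P, hP⟩ := hfix
  have hset : {u : V | ∃ h : H, ρ h a = u} = (H29.vecOrbit ρ a : Set V) := by
    ext u; simp [H29.vecOrbit]
  rw [hset] at hspan
  have hcard : ¬ p ∣ (H29.vecOrbit ρ a).card := by
    rw [← H29.index_vecStab]
    exact fun hd => P.not_dvd_index (hd.trans (Subgroup.index_dvd_of_le hP))
  have key := H29.fixed_mem_span_orbit_sum hsol ρ a hcard hspan
  constructor
  · refine le_trans (Submodule.finrank_mono (t := Submodule.span k {∑ u ∈ H29.vecOrbit ρ a, u})
      fun v hv => key v hv) ?_
    refine (finrank_span_le_card _).trans ?_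
    simp
  · intro b hb h
    rw [H29.card_vecOrbit, H29.card_vecOrbit, ← H29.index_vecStab, ← H29.index_vecStab] at hb
    set B := H29.vecStab ρ b with hBdef
    haveI : Fintype B := Fintype.ofFinite _
    let ρB : Representation k B V := MonoidHom.comp ρ B.subtype
    have horb : H29.vecOrbit ρB a = H29.vecOrbit ρ a := by
      ext u
      rw [H29.mem_vecOrbit, H29.mem_vecOrbit]
      constructor
      · rintro ⟨g, rfl⟩; exact ⟨(g : H), rfl⟩
      · rintro ⟨g, rfl⟩
        have huniv := H29.coe_mul_coe_eq_univ_of_coprime_index B (H29.vecStab ρ a) hb.symm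
        obtain ⟨x, hx, y, hy, rfl⟩ := Set.mem_mul.mp (huniv.symm ▸ Set.mem_univ g)
        refine ⟨⟨x, hx⟩, ?_⟩
        show ρ x a = ρ (x * y) a
        rw [map_mul, Module.End.mul_apply, (hy : ρ y a = a)]
    have h1 := H29.fixed_mem_span_orbit_sum (H10.isPSolvable_subgroup hsol B) ρB a
      (by rw [horb]; exact hcard) (by rw [horb]; exact hspan) b (fun g => g.2)
    rw [horb, Submodule.mem_span_singleton] at h1
    obtain ⟨r, rfl⟩ := h1
    rw [map_smul, map_sum]
    congr 1
    refine Finset.sum_bij' (fun w _ => ρ h w) (fun w _ => ρ h⁻¹ w) ?_ ?_ ?_ ?_ (fun w _ => rfl)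
    · intro w hw
      obtain ⟨g, rfl⟩ := H29.mem_vecOrbit.mp hw
      exact H29.mem_vecOrbit.mpr ⟨h * g, by rw [map_mul, Module.End.mul_apply]⟩
    · intro w hw
      obtain ⟨g, rfl⟩ := H29.mem_vecOrbit.mp hw
      exact H29.mem_vecOrbit.mpr ⟨h⁻¹ * g, by rw [map_mul, Module.End.mul_apply]⟩
    · intro w _
      rw [← Module.End.mul_apply, ← map_mul, inv_mul_cancel, map_one, Module.End.one_apply]
    · intro w _
      rw [← Module.End.mul_apply, ← map_mul, mul_inv_cancel, map_one, Module.End.one_apply]

end Cfsg.Agent.S4176
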