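import Cfsg.Statements.S4177
import Mathlib
import Cfsg.Agent.H29.Basic

set_option autoImplicit false
open Cfsg
open scoped Pointwise

namespace Cfsg.Agent.S4177

/-- Let k be a field whose characteristic does not divide the order of the finite group H (for instance a field of characteristic zero), and ρ a k-linear representation of H on V. Let a be a vector whose H-orbit spans V. Then the space of H-fixed vectors has dimension at most 1, and every vector b whose H-orbit has size coprime to the size of the orbit of a is fixed by H. -/
theorem result {k V H : Type*} [Field k] [AddCommGroup V] [Module k V] [Group H] [Finite H]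
    (hchar : ¬ ringChar k ∣ Nat.card H) (ρ : Representation k H V) (a : V)
    (hspan : Submodule.span k {u : V | ∃ h : H, ρ h a = u} = ⊤) :
    Module.finrank k ρ.invariants ≤ 1 ∧
    ∀ b : V, (Nat.card {u : V | ∃ h : H, ρ h a = u}).Coprime (Nat.card {u : V | ∃ h : H, ρ h b = u}) → ∀ h : H, ρ h b = b := by
  classical
  haveI : Fintype H := Fintype.ofFinite H
  have hcardk : ∀ K : Subgroup H, (Nat.card K : k) ≠ 0 := by
    intro K h
    rw [ringChar.spec] at h
    exact hchar (h.trans (Subgroup.card_subgroup_dvd_card K))
  -- averaging over the whole group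
  let av : V →ₗ[k] V := ∑ h : H, ρ h
  have hav : ∀ (g : H) (v : V), av (ρ g v) = av v := by
    intro g v
    simp only [av, LinearMap.sum_apply, ← Module.End.mul_apply, ← map_mul]
    exact Fintype.sum_equiv (Equiv.mulRight g) _ _ (fun _ => rfl)
  have hinv : ∀ (g : H) (v : V), ρ g (av v) = av v := by
    intro g v
    simp only [av, LinearMap.sum_apply, map_sum, ← Module.End.mul_apply, ← map_mul]
    exact Fintype.sum_equiv (Equiv.mulLeft g) _ _ (fun _ => rfl)
  constructor
  · have hle : ρ.invariants ≤ Submodule.span k {av a} := by
      intro v hv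
      have h1 : av v = (Nat.card H : k) • v := by
        simp only [av, LinearMap.sum_apply, (Representation.mem_invariants ρ v).mp hv]
        rw [Finset.sum_const, Finset.card_univ, Nat.card_eq_fintype_card, Nat.cast_smul_eq_nsmul]
      have hH : (Nat.card H : k) ≠ 0 := by simpa using hcardk ⊤
      have h2 : av v ∈ Submodule.span k {av a} := by
        have hsub : Submodule.span k {u : V | ∃ h : H, ρ h a = u} ≤ (Submodule.span k {av a}).comap av := by
          rw [Submodule.span_le]
          rintro _ ⟨g, rfl⟩
          simp only [SetLike.mem_coe, Submodule.mem_comap, hav]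
          exact Submodule.mem_span_singleton_self _
        rw [hspan] at hsub
        exact hsub Submodule.mem_top
      have := Submodule.smul_mem _ (Nat.card H : k)⁻¹ h2
      rwa [h1, inv_smul_smul₀ hH] at this
    refine (Submodule.finrank_mono hle).trans ?_
    exact (finrank_span_le_card _).trans (by simp)
  · intro b hcop
    letI : MulAction H V :=
      { smul := fun h v => ρ h v
        one_smul := fun v => by show ρ 1 v = v; simp
        mul_smul := fun g h v => by show ρ (g * h) v = ρ g (ρ h v); simp }
    have horb : ∀ v : V, {u : V | ∃ h : H, ρ h v = u} = MulAction.orbit H v := fun v => rfl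
    rw [horb, horb] at hcop
    set Ka := MulAction.stabilizer H a
    set Kb := MulAction.stabilizer H b
    have hindex : ∀ v : V, Nat.card (MulAction.orbit H v) = (MulAction.stabilizer H v).index := by
      intro v; rw [MulAction.index_stabilizer]; exact Nat.card_coe_set_eq _
    rw [hindex, hindex] at hcop
    -- the stabilizer of `b` is transitive on the orbit of `a`
    have htrans : ∀ g : H, ∃ x ∈ Kb, ρ x a = ρ g a := by
      have hprod : (Kb : Set H) * (Ka : Set H) = Set.univ :=
        H29.coe_mul_coe_eq_univ_of_coprime_index Kb Ka hcop.symm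
      intro g
      obtain ⟨x, hx, y, hy, rfl⟩ := (Set.eq_univ_iff_forall.mp hprod g)
      exact ⟨x, hx, by rw [map_mul]; exact (congrArg (ρ x) (hy : ρ y a = a)).symm⟩
    let bv : V →ₗ[k] V := ∑ x : Kb, ρ (x : H)
    have hbv : ∀ (x : Kb) (v : V), bv (ρ x v) = bv v := by
      intro x v
      simp only [bv, LinearMap.sum_apply, ← Module.End.mul_apply, ← map_mul]
      exact Fintype.sum_equiv (Equiv.mulRight x) _ _ (fun _ => rfl)
    have hbinv : ∀ (x : Kb) (v : V), ρ x (bv v) = bv v := by
      intro x v
      simp only [bv, LinearMap.sum_apply, map_sum, ← Module.End.mul_apply, ← map_mul]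
      exact Fintype.sum_equiv (Equiv.mulLeft x) _ _ (fun _ => rfl)
    -- `bv a` is fixed by the whole group
    have hbva : ∀ (v : V), bv v ∈ Submodule.span k {bv a} := by
      intro v
      have hsub : Submodule.span k {u : V | ∃ h : H, ρ h a = u} ≤ (Submodule.span k {bv a}).comap bv := by
        rw [Submodule.span_le]
        rintro _ ⟨g, rfl⟩
        obtain ⟨x, hx, hxg⟩ := htrans g
        simp only [SetLike.mem_coe, Submodule.mem_comap, ← hxg, hbv ⟨x, hx⟩]
        exact Submodule.mem_span_singleton_self _
      rw [hspan] at hsub
      exact hsub Submodule.mem_top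
    have hava : av a = (Kb.index : k) • bv a := by
      have h1 : bv (av a) = (Nat.card H : k) • bv a := by
        simp only [av, LinearMap.sum_apply, map_sum]
        rw [Finset.sum_congr rfl (fun g _ => by
          obtain ⟨x, hx, hxg⟩ := htrans g
          rw [← hxg, hbv ⟨x, hx⟩])]
        rw [Finset.sum_const, Finset.card_univ, Nat.card_eq_fintype_card, Nat.cast_smul_eq_nsmul]
      have h2 : bv (av a) = (Nat.card Kb : k) • av a := by
        simp only [bv, LinearMap.sum_apply, hinv]
        rw [Finset.sum_const, Finset.card_univ, Nat.card_eq_fintype_card, Nat.cast_smul_eq_nsmul]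
      rw [h2, ← Subgroup.card_mul_index Kb, Nat.cast_mul, mul_smul] at h1
      exact smul_right_injective V (hcardk Kb) h1
    have hidx : (Kb.index : k) ≠ 0 := by
      intro h
      rw [ringChar.spec] at h
      exact hchar (h.trans (Subgroup.index_dvd_card Kb))
    intro g
    have hb : bv b = (Nat.card Kb : k) • b := by
      simp only [bv, LinearMap.sum_apply]
      rw [Finset.sum_congr rfl (fun (x : Kb) _ => show ρ (x:H) b = b from x.2)]
      rw [Finset.sum_const, Finset.card_univ, Nat.card_eq_fintype_card, Nat.cast_smul_eq_nsmul]
    obtain ⟨c, hc⟩ := Submodule.mem_span_singleton.mp (hbva b)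
    have hb2 : b = (Nat.card Kb : k)⁻¹ • c • (Kb.index : k)⁻¹ • av a := by
      rw [hava, inv_smul_smul₀ hidx, hc, hb, inv_smul_smul₀ (hcardk Kb)]
    rw [hb2]
    simp [hinv]

end Cfsg.Agent.S4177
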