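import Cfsg.Statements.S4178
import Mathlib.FieldTheory.Finiteness
import Mathlib.LinearAlgebra.FiniteDimensional.Lemmas
import Mathlib.GroupTheory.GroupAction.Quotient
import Mathlib.Analysis.Real.Sqrt
import Mathlib.Tactic

set_option autoImplicit false
open Cfsg

namespace Cfsg.Agent.S4178

/-- Let F be a finite field with q elements, V a non-zero finite-dimensional F-space of dimension d, H a group of invertible linear maps of V, and R the subgroup of H generated by the elements of H that fix some non-zero vector (have eigenvalue 1). Then the index of R in H is at most q^d − 1; and if H leaves invariant some proper non-zero subspace, the index is at most q^(d/2) − 1. -/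
theorem result {F V : Type*} [Field F] [Fintype F] [AddCommGroup V] [Module F V] [FiniteDimensional F V] [Nontrivial V]
    (H : Subgroup (V ≃ₗ[F] V)) :
    (Subgroup.closure {h : ↥H | ∃ v : V, v ≠ 0 ∧ (h : V ≃ₗ[F] V) v = v}).index ≤ Fintype.card F ^ Module.finrank F V - 1 ∧
    ((∃ W : Submodule F V, W ≠ ⊥ ∧ W ≠ ⊤ ∧ ∀ h ∈ H, ∀ w ∈ W, h w ∈ W) →
      ((Subgroup.closure {h : ↥H | ∃ v : V, v ≠ 0 ∧ (h : V ≃ₗ[F] V) v = v}).index : ℝ) ≤ Real.sqrt ((Fintype.card F : ℝ) ^ Module.finrank F V) - 1) := by
  classical
  have : Finite V := Module.finite_of_finite F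
  have : Finite (V ≃ₗ[F] V) := Finite.of_injective (fun e => (e : V → V)) DFunLike.coe_injective
  set R := Subgroup.closure {h : ↥H | ∃ v : V, v ≠ 0 ∧ (h : V ≃ₗ[F] V) v = v} with hR
  have hcard : Fintype.card F = Nat.card F := Nat.card_eq_fintype_card.symm
  -- the generic bound from an action on the nonzero vectors of a module
  have gen : ∀ (U : Type _) [AddCommGroup U] [Module F U] [Finite U] [MulAction ↥H U] (u : U),
      u ≠ 0 → (∀ h : ↥H, h • (0 : U) = 0) → MulAction.stabilizer (↥H) u ≤ R →
      R.index ≤ Fintype.card F ^ Module.finrank F U - 1 := by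
    intro U _ _ _ _ u hu hzero hle
    have h1 : R.index ≤ (MulAction.stabilizer (↥H) u).index :=
      Nat.le_of_dvd (Nat.pos_of_ne_zero Subgroup.index_ne_zero_of_finite)
        (Subgroup.index_dvd_of_le hle)
    refine h1.trans ?_
    rw [MulAction.index_stabilizer]
    have hsub : MulAction.orbit (↥H) u ⊆ ({0}ᶜ : Set U) := by
      rintro _ ⟨h, rfl⟩
      intro hc
      apply hu
      have h2 := congrArg (h⁻¹ • ·) (show h • u = 0 from hc)
      simpa [hzero] using h2
    refine (Set.ncard_le_ncard hsub).trans (le_of_eq ?_)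
    rw [Set.ncard_compl, Set.ncard_singleton, Module.natCard_eq_pow_finrank (K := F) (V := U), hcard]
  have : Module.Free F V := Module.Free.of_divisionRing F V
  constructor
  · obtain ⟨v, hv⟩ := exists_ne (0 : V)
    let _ : MulAction ↥H V :=
    { smul := fun h w => (h : V ≃ₗ[F] V) w
      one_smul := fun _ => rfl
      mul_smul := fun _ _ _ => rfl }
    exact gen V v hv (fun h => map_zero (h : V ≃ₗ[F] V))
      fun h hh => Subgroup.subset_closure ⟨v, hv, hh⟩
  · rintro ⟨W, hW0, hWtop, hW⟩
    have hq : (2 : ℕ) ≤ Fintype.card F := Fintype.one_lt_card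
    have key : ∀ k : ℕ, 2 * k ≤ Module.finrank F V → R.index ≤ Fintype.card F ^ k - 1 →
        (R.index : ℝ) ≤ Real.sqrt ((Fintype.card F : ℝ) ^ Module.finrank F V) - 1 := by
      intro k hk hb
      have h1 : ((R.index + 1 : ℕ) : ℝ) ≤ (Fintype.card F : ℝ) ^ k := by
        have : 1 ≤ Fintype.card F ^ k := Nat.one_le_pow _ _ (by omega)
        exact_mod_cast (show R.index + 1 ≤ Fintype.card F ^ k by omega)
      have hq1 : (1 : ℝ) ≤ Fintype.card F := by exact_mod_cast (by omega : 1 ≤ Fintype.card F)
      have h2 : (Fintype.card F : ℝ) ^ k ≤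
          Real.sqrt ((Fintype.card F : ℝ) ^ Module.finrank F V) := by
        refine Real.le_sqrt_of_sq_le ?_
        rw [← pow_mul, mul_comm]
        exact pow_le_pow_right₀ hq1 hk
      push_cast at h1
      linarith
    have hsum := W.finrank_quotient_add_finrank
    rcases le_total (Module.finrank F W) (Module.finrank F (V ⧸ W)) with hle | hle
    · refine key (Module.finrank F W) (by omega) ?_
      obtain ⟨w, hwW, hw⟩ := (Submodule.ne_bot_iff W).mp hW0
      let _ : MulAction ↥H W :=
      { smul := fun h w => ⟨(h : V ≃ₗ[F] V) w, hW h h.2 w w.2⟩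
        one_smul := fun _ => rfl
        mul_smul := fun _ _ _ => rfl }
      exact gen W ⟨w, hwW⟩ (fun h => hw (congrArg Subtype.val h))
        (fun h => Subtype.ext (map_zero (h : V ≃ₗ[F] V)))
        fun h hh => Subgroup.subset_closure ⟨w, hw, congrArg Subtype.val hh⟩
    · refine key (Module.finrank F (V ⧸ W)) (by omega) ?_
      obtain ⟨v, -, hv⟩ := SetLike.exists_of_lt hWtop.lt_top
      have hmap : ∀ h : ↥H, W ≤ W.comap ((h : V ≃ₗ[F] V) : V →ₗ[F] V) :=
        fun h w hw => hW h h.2 w hw
      let _ : MulAction ↥H (V ⧸ W) :=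
      { smul := fun h u => W.mapQ W ((h : V ≃ₗ[F] V) : V →ₗ[F] V) (hmap h) u
        one_smul := fun u => by
          induction u using Submodule.Quotient.induction_on
          rfl
        mul_smul := fun a b u => by
          induction u using Submodule.Quotient.induction_on
          rfl }
      have : Finite (V ⧸ W) := Finite.of_surjective _ (Submodule.Quotient.mk_surjective W)
      refine gen (V ⧸ W) (Submodule.Quotient.mk v)
        (fun h => hv ((Submodule.Quotient.mk_eq_zero W).mp h))
        (fun h => map_zero (W.mapQ W ((h : V ≃ₗ[F] V) : V →ₗ[F] V) (hmap h))) fun h hh => ?_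
      -- `h - 1` maps `W + ⟨v⟩` into `W`, so it has a kernel there
      have hfix : (h : V ≃ₗ[F] V) v - v ∈ W := (Submodule.Quotient.eq W).mp hh
      let W' := W ⊔ Submodule.span F {v}
      let f : W' →ₗ[F] V := (((h : V ≃ₗ[F] V) : V →ₗ[F] V) - LinearMap.id) ∘ₗ W'.subtype
      have hrange : LinearMap.range f ≤ W := by
        rintro _ ⟨⟨z, hz⟩, rfl⟩
        obtain ⟨w, hw, z', hz', rfl⟩ := Submodule.mem_sup.mp hz
        obtain ⟨c, rfl⟩ := Submodule.mem_span_singleton.mp hz'
        show (h : V ≃ₗ[F] V) (w + c • v) - (w + c • v) ∈ W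
        rw [map_add, map_smul, show (h : V ≃ₗ[F] V) w + c • (h : V ≃ₗ[F] V) v - (w + c • v) =
          ((h : V ≃ₗ[F] V) w - w) + c • ((h : V ≃ₗ[F] V) v - v) by rw [smul_sub]; abel]
        exact W.add_mem (W.sub_mem (hW h h.2 w hw) hw) (W.smul_mem c hfix)
      have hlt : W < W' := lt_of_le_of_ne le_sup_left fun e => hv (by
        rw [e]; exact Submodule.mem_sup_right (Submodule.mem_span_singleton_self v))
      have hnk : LinearMap.ker f ≠ ⊥ := by
        intro hk
        have h3 := f.finrank_range_add_finrank_ker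
        rw [hk, finrank_bot] at h3
        have h4 := Submodule.finrank_mono hrange
        have h5 := Submodule.finrank_lt_finrank_of_lt hlt
        omega
      obtain ⟨⟨z, hz⟩, hzk, hz0⟩ := (Submodule.ne_bot_iff _).mp hnk
      refine Subgroup.subset_closure ⟨z, fun e => hz0 (Subtype.ext e), sub_eq_zero.mp ?_⟩
      exact hzk

end Cfsg.Agent.S4178
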