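import Cfsg.Statements.S4181
import Cfsg.Agent.H67.SylowFix

set_option autoImplicit false
open Cfsg

namespace Cfsg.Agent.S4181

/-- Let p be a prime and G a finite group generated by its elements of p-power order, and let H be a proper subgroup of G containing a Sylow p-subgroup of G. Then 2p − 1 times the number of Sylow p-subgroups of H is at most p − 1 times the number of Sylow p-subgroups of G. -/
theorem result {G : Type*} [Group G] [Finite G] (p : ℕ) [Fact p.Prime] (hgen : Subgroup.closure {g : G | ∃ k : ℕ, orderOf g = p ^ k} = ⊤)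
    (H : Subgroup G) (hH : H ≠ ⊤) (P : Sylow p G) (hP : (P : Subgroup G) ≤ H) :
    (2 * p - 1) * Nat.card (Sylow p ↥H) ≤ (p - 1) * Nat.card (Sylow p G) := by
  classical
  have hp := (Fact.out : p.Prime)
  have hn : 2 ≤ Nat.card (G ⧸ H) := by
    rcases Nat.lt_or_ge (Nat.card (G ⧸ H)) 2 with h | h
    · exact absurd (H.index_eq_one.mp (by
        have := Nat.card_pos (α := G ⧸ H)
        rw [Subgroup.index]; omega)) hH
    · exact h
  have hmv : ∀ z : G ⧸ H, ∃ g : G, g • z ≠ z := fun z => by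
    by_contra! h
    haveI : Subsingleton (G ⧸ H) := ⟨fun a b => by
      obtain ⟨u, rfl⟩ := MulAction.exists_smul_eq G z a
      obtain ⟨w, rfl⟩ := MulAction.exists_smul_eq G z b
      rw [h, h]⟩
    have := Finite.card_le_one_iff_subsingleton.mpr ‹Subsingleton (G ⧸ H)›
    omega
  have key := H67.SylowFix.sylow_fix_le (Z := G ⧸ H) hgen hmv P
  set f := (H67.SylowFix.fixSet P (G ⧸ H)).ncard with hf
  set z0 : G ⧸ H := ((1 : G) : G ⧸ H) with hz0
  set s := (H67.SylowFix.fixSyl p G z0).ncard with hs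
  have e1 : Nat.card {x : Sylow p G × (G ⧸ H) // x.2 ∈ H67.SylowFix.fixSet x.1 (G ⧸ H)} =
      Nat.card (Sylow p G) * f := by
    haveI := Fintype.ofFinite (Sylow p G)
    rw [Nat.card_congr
      ⟨fun x => (⟨x.1.1, x.1.2, x.2⟩ : Σ Q : Sylow p G, H67.SylowFix.fixSet Q (G ⧸ H)),
        fun x => ⟨(x.1, x.2.1), x.2.2⟩, fun _ => rfl, fun _ => rfl⟩, Nat.card_sigma]
    simp [Nat.card_coe_set_eq, H67.SylowFix.fixSet_ncard_eq P, Nat.card_eq_fintype_card, hf]
  have e2 : Nat.card {x : Sylow p G × (G ⧸ H) // x.2 ∈ H67.SylowFix.fixSet x.1 (G ⧸ H)} =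
      Nat.card (G ⧸ H) * s := by
    haveI := Fintype.ofFinite (G ⧸ H)
    rw [Nat.card_congr
      ⟨fun x => (⟨x.1.2, x.1.1, x.2⟩ : Σ z : G ⧸ H, H67.SylowFix.fixSyl p G z),
        fun x => ⟨(x.2.1, x.1), x.2.2⟩, fun _ => rfl, fun _ => rfl⟩, Nat.card_sigma]
    have : ∀ z : G ⧸ H, (H67.SylowFix.fixSyl p G z).ncard = s := fun z => by
      obtain ⟨g, rfl⟩ := MulAction.exists_smul_eq G z0 z
      rw [H67.SylowFix.ncard_fixSyl_smul]
    simp [Nat.card_coe_set_eq, this, Nat.card_eq_fintype_card]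
  have hmem : ∀ Q : Sylow p G, Q ∈ H67.SylowFix.fixSyl p G z0 ↔ (Q : Subgroup G) ≤ H := by
    intro Q
    refine forall₂_congr fun g hg => ?_
    rw [hz0, ← MulAction.mem_stabilizer_iff, MulAction.stabilizer_quotient]
  have e3 : s = Nat.card (Sylow p ↥H) := by
    rw [hs, ← Nat.card_coe_set_eq]
    refine Nat.card_congr (Equiv.ofBijective (fun Q => Q.1.subtype ((hmem Q.1).mp Q.2)) ⟨?_, ?_⟩)
    · intro Q Q' h
      refine Subtype.ext (Sylow.ext ?_)
      have := congrArg (fun R : Sylow p ↥H => (R : Subgroup ↥H).map H.subtype) h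
      simpa [Sylow.coe_subtype, Subgroup.map_subgroupOf_eq_of_le ((hmem Q.1).mp Q.2),
        Subgroup.map_subgroupOf_eq_of_le ((hmem Q'.1).mp Q'.2)] using this
    · intro R
      obtain ⟨h, rfl⟩ := MulAction.exists_smul_eq ↥H (P.subtype hP) R
      have hle : (((h : G) • P : Sylow p G) : Subgroup G) ≤ H := fun x hx => by
        rw [H67.SylowFix.mem_smul_sylow] at hx
        simpa [mul_assoc] using mul_mem (mul_mem h.2 (hP hx)) (inv_mem h.2)
      refine ⟨⟨(h : G) • P, (hmem _).mpr hle⟩, Sylow.ext ?_⟩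
      ext x
      rw [H67.SylowFix.mem_smul_sylow]
      show (x : G) ∈ (((h : G) • P : Sylow p G) : Subgroup G) ↔ _
      rw [H67.SylowFix.mem_smul_sylow]
      rfl
  rw [← e3]
  refine Nat.le_of_mul_le_mul_left (c := Nat.card (G ⧸ H)) ?_ (by omega)
  calc Nat.card (G ⧸ H) * ((2 * p - 1) * s) = (2 * p - 1) * f * Nat.card (Sylow p G) := by
        rw [mul_left_comm, ← e2, e1]; ring
    _ ≤ (p - 1) * Nat.card (G ⧸ H) * Nat.card (Sylow p G) := Nat.mul_le_mul_right _ key
    _ = _ := by ring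

end Cfsg.Agent.S4181
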