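import Cfsg.Statements.S4186
import Mathlib

set_option autoImplicit false
open Cfsg

namespace Cfsg.Agent.S4186

/-- Let T and X be subgroups of a group with T a finite 2-group normalizing X but not centralizing it. Then some element of T inverts some non-identity element of X under conjugation. -/
theorem result {G : Type*} [Group G] (T X : Subgroup G) [Finite ↥T] (hT : IsPGroup 2 ↥T) (hTN : T ≤ Subgroup.normalizer (X : Set G)) (hTC : ¬ T ≤ Subgroup.centralizer (X : Set G)) : ∃ t ∈ T, ∃ x ∈ X, x ≠ 1 ∧ t * x * t⁻¹ = x⁻¹ := by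
  classical
  -- some element of `T` acts nontrivially while its square acts trivially
  have key : ∃ t ∈ T, (∃ x ∈ X, t * x * t⁻¹ ≠ x) ∧ ∀ x ∈ X, t * t * x * (t * t)⁻¹ = x := by
    obtain ⟨t, htT, htC⟩ : ∃ t ∈ T, t ∉ Subgroup.centralizer (X : Set G) := by
      by_contra h; push Not at h; exact hTC h
    obtain ⟨k, hk⟩ := hT ⟨t, htT⟩
    have hk' : t ^ (2 ^ k) = 1 := by simpa using congrArg Subtype.val hk
    clear hk
    induction k generalizing t with
    | zero => simp at hk'; exact absurd (hk' ▸ one_mem _) htC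
    | succ k ih =>
      by_cases h2 : t ^ 2 ∈ Subgroup.centralizer (X : Set G)
      · refine ⟨t, htT, ?_, ?_⟩
        · by_contra h; push Not at h
          apply htC
          rw [Subgroup.mem_centralizer_iff]
          intro x hx
          exact (mul_inv_eq_iff_eq_mul.mp (h x hx)).symm
        · intro x hx
          rw [Subgroup.mem_centralizer_iff] at h2
          have := h2 x hx
          rw [pow_two] at this
          rw [← this]; group
      · refine ih (t ^ 2) (pow_mem htT 2) h2 ?_
        rw [← pow_mul, ← pow_succ']; exact hk'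
  obtain ⟨t, htT, ⟨x, hx, hne⟩, h2⟩ := key
  have htx : t * x * t⁻¹ ∈ X := ((Subgroup.mem_normalizer_iff.mp (hTN htT)) x).mp hx
  refine ⟨t, htT, x⁻¹ * (t * x * t⁻¹), mul_mem (inv_mem hx) htx, ?_, ?_⟩
  · intro h; exact hne (inv_mul_eq_one.mp h).symm
  · calc t * (x⁻¹ * (t * x * t⁻¹)) * t⁻¹ = (t * x * t⁻¹)⁻¹ * (t * t * x * (t * t)⁻¹) := by group
      _ = (t * x * t⁻¹)⁻¹ * x := by rw [h2 x hx]
      _ = (x⁻¹ * (t * x * t⁻¹))⁻¹ := by group

end Cfsg.Agent.S4186
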