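import Cfsg.Statements.S4187
import Cfsg.Agent.H3.RealGraph.Main

set_option autoImplicit false
open Cfsg

namespace Cfsg.Agent.S4187

/-- Let G be a finite group. Call an element real when it is conjugate to its inverse, and consider the graph whose vertices are the primes dividing the size of some conjugacy class of real elements, two distinct primes being adjacent when their product divides such a class size. If this graph is disconnected — its vertex set splits into two non-empty parts such that no real class size is divisible by a prime from each part — then G is solvable. -/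
theorem result {G : Type*} [Group G] [Finite G] (π₁ π₂ : Set ℕ) (h₁ : π₁.Nonempty) (h₂ : π₂.Nonempty) (hcover : ∀ q : ℕ, q.Prime → (∃ n ∈ {n : ℕ | ∃ x : G, IsConj x x⁻¹ ∧ (Subgroup.centralizer ({x} : Set G)).index = n}, q ∣ n) → q ∈ π₁ ∨ q ∈ π₂) (hsub : ∀ q ∈ π₁ ∪ π₂, q.Prime ∧ ∃ n ∈ {n : ℕ | ∃ x : G, IsConj x x⁻¹ ∧ (Subgroup.centralizer ({x} : Set G)).index = n}, q ∣ n) (hdisj : Disjoint π₁ π₂) (hnoedge : ∀ a ∈ π₁, ∀ b ∈ π₂, ∀ n ∈ {n : ℕ | ∃ x : G, IsConj x x⁻¹ ∧ (Subgroup.centralizer ({x} : Set G)).index = n}, ¬ (a ∣ n ∧ b ∣ n)) : Group.IsSolvable G := by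
  have hset : ∀ x : G, IsConj x x⁻¹ → (Subgroup.centralizer ({x} : Set G)).index ∈
      {n : ℕ | ∃ x : G, IsConj x x⁻¹ ∧ (Subgroup.centralizer ({x} : Set G)).index = n} :=
    fun x hx => ⟨x, hx, rfl⟩
  -- the solvable case without nontrivial real elements of odd order
  by_cases hodd : ∀ x : G, x ≠ 1 → Odd (orderOf x) → ¬ IsConj x x⁻¹
  · haveI : Group.IsSolvable (⊤ : Subgroup G) :=
      H3.RealGraph.TwoClosed.isSolvable fun x _ hx g _ hinv => by
        by_contra hx1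
        exact hodd x hx1 hx (isConj_iff.2 ⟨g, hinv⟩)
    exact Group.isSolvable_of_surjective (f := (⊤ : Subgroup G).subtype)
      fun x => ⟨⟨x, Subgroup.mem_top x⟩, rfl⟩
  push Not at hodd
  obtain ⟨x, hx1, hxo, hxreal⟩ := hodd
  obtain ⟨g, hg⟩ := isConj_iff.1 hxreal
  have h2 : 2 ∈ π₁ ∨ 2 ∈ π₂ :=
    hcover 2 Nat.prime_two ⟨_, hset x hxreal, H3.RealGraph.two_dvd_ind hxo hx1 hg⟩
  have main : ∀ (σ τ : Set ℕ), 2 ∈ σ → τ.Nonempty →
      (∀ q : ℕ, q.Prime → ∀ y : G, IsConj y y⁻¹ →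
        q ∣ (Subgroup.centralizer ({y} : Set G)).index → q ∈ σ ∨ q ∈ τ) →
      (∀ q ∈ τ, q.Prime ∧ ∃ y : G, IsConj y y⁻¹ ∧
        q ∣ (Subgroup.centralizer ({y} : Set G)).index) →
      (∀ a ∈ σ, ∀ b ∈ τ, ∀ y : G, IsConj y y⁻¹ →
        ¬ (a ∣ (Subgroup.centralizer ({y} : Set G)).index ∧
          b ∣ (Subgroup.centralizer ({y} : Set G)).index)) →
      Group.IsSolvable G := by
    intro σ τ hσ hτ hcov hex hno
    have hτσ : ∀ q ∈ τ, q ∉ σ := by
      intro q hq hq'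
      obtain ⟨-, y, hy, hd⟩ := hex q hq
      exact hno q hq' q hq y hy ⟨hd, hd⟩
    refine H3.RealGraph.isSolvable_of_pure hσ (fun g y hy => ?_) ?_
    · have hy' : IsConj y y⁻¹ := isConj_iff.2 ⟨g, hy⟩
      by_cases h : ∃ q : ℕ, q.Prime ∧ q ∣ (Subgroup.centralizer ({y} : Set G)).index ∧ q ∈ σ
      · obtain ⟨q, hq, hqd, hqσ⟩ := h
        exact Or.inl fun p hp hpd => (hcov p hp y hy' hpd).resolve_right
          fun hpτ => hno q hqσ p hpτ y hy' ⟨hqd, hpd⟩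
      · exact Or.inr fun p hp hpd hpσ => h ⟨p, hp, hpd, hpσ⟩
    · obtain ⟨b, hb⟩ := hτ
      obtain ⟨hbp, y, hy, hbd⟩ := hex b hb
      obtain ⟨g', hg'⟩ := isConj_iff.1 hy
      refine ⟨g', y, hg', fun e => hbp.ne_one (Nat.dvd_one.1 (e ▸ hbd)), fun p hp hpd hpσ => ?_⟩
      exact hno p hpσ b hb y hy ⟨hpd, hbd⟩
  have hex : ∀ q ∈ π₁ ∪ π₂, q.Prime ∧ ∃ y : G, IsConj y y⁻¹ ∧
      q ∣ (Subgroup.centralizer ({y} : Set G)).index := by
    intro q hq
    obtain ⟨hp, n, ⟨y, hy, rfl⟩, hd⟩ := hsub q hq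
    exact ⟨hp, y, hy, hd⟩
  rcases h2 with h2 | h2
  · exact main π₁ π₂ h2 h₂ (fun q hq y hy hd => hcover q hq ⟨_, hset y hy, hd⟩)
      (fun q hq => hex q (Or.inr hq)) fun a ha b hb y hy => hnoedge a ha b hb _ (hset y hy)
  · exact main π₂ π₁ h2 h₁ (fun q hq y hy hd => (hcover q hq ⟨_, hset y hy, hd⟩).symm)
      (fun q hq => hex q (Or.inl hq)) fun a ha b hb y hy hab =>
        hnoedge b hb a ha _ (hset y hy) ⟨hab.2, hab.1⟩

end Cfsg.Agent.S4187
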