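import Cfsg.Agent.H27.KGV.ClassLower
import Cfsg.Statements.S4190
-- import your own Cfsg.Agent.* helpers here

set_option autoImplicit false
open Cfsg

namespace Cfsg.Agent.S4190

theorem three_le_classes {G : Type*} [Group G] [Finite G] (h : ¬ IsMulCommutative G) :
    3 ≤ Nat.card (ConjClasses G) := by
  classical
  by_contra hc
  push Not at hc
  haveI := Fintype.ofFinite G
  haveI := Fintype.ofFinite (ConjClasses G)
  -- all nontrivial elements are conjugate
  have hconj : ∀ x y : G, x ≠ 1 → y ≠ 1 → IsConj x y := by
    intro x y hx hy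
    rw [← ConjClasses.mk_eq_mk_iff_isConj]
    by_contra hne
    have h3 : ({ConjClasses.mk 1, ConjClasses.mk x, ConjClasses.mk y} : Finset (ConjClasses G)).card = 3 := by
      rw [Finset.card_insert_of_notMem, Finset.card_pair hne]
      simp only [Finset.mem_insert, Finset.mem_singleton, ConjClasses.mk_eq_mk_iff_isConj,
        isConj_one_right]
      rintro (h | h)
      · exact hx h
      · exact hy h
    have := Finset.card_le_univ ({ConjClasses.mk 1, ConjClasses.mk x, ConjClasses.mk y} : Finset (ConjClasses G))
    rw [h3, ← Nat.card_eq_fintype_card] at this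
    omega
  obtain ⟨x, hx⟩ : ∃ x : G, x ≠ 1 := by
    by_contra hall
    push Not at hall
    exact h ⟨⟨fun a b => by rw [hall a, hall b]⟩⟩
  -- the class of `x` has `|G| - 1` elements, dividing `|G|`
  have hdvd : (ConjClasses.mk x).carrier.toFinset.card ∣ Fintype.card G := by
    rw [← Nat.card_eq_fintype_card, ← Nat.card_eq_card_toFinset, ← ConjAct.orbit_eq_carrier_conjClasses,
      Nat.card_coe_set_eq, ← MulAction.index_stabilizer]
    exact Subgroup.index_dvd_card _
  have hcar : (ConjClasses.mk x).carrier.toFinset = Finset.univ.erase 1 := by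
    ext y
    simp only [Set.mem_toFinset, ConjClasses.mem_carrier_iff_mk_eq, ConjClasses.mk_eq_mk_iff_isConj,
      Finset.mem_erase, Finset.mem_univ, and_true]
    refine ⟨fun hy hy1 => hx ?_, fun hy => hconj y x hy hx⟩
    subst hy1
    exact isConj_one_right.1 hy
  rw [hcar, Finset.card_erase_of_mem (Finset.mem_univ _), Finset.card_univ] at hdvd
  have hle : Fintype.card G ≤ 2 := by
    by_contra hgt
    have h2 : Fintype.card G - 1 ∣ Fintype.card G - (Fintype.card G - 1) := Nat.dvd_sub hdvd dvd_rfl
    rw [show Fintype.card G - (Fintype.card G - 1) = 1 by omega, Nat.dvd_one] at h2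
    omega
  apply h
  rcases Nat.lt_or_ge (Fintype.card G) 2 with h2 | h2
  · haveI : Subsingleton G := Fintype.card_le_one_iff_subsingleton.1 (by omega)
    exact ⟨⟨fun a b => Subsingleton.elim _ _⟩⟩
  · haveI : Fact (Nat.Prime 2) := ⟨Nat.prime_two⟩
    haveI : IsCyclic G := isCyclic_of_prime_card (p := 2) (by rw [Nat.card_eq_fintype_card]; omega)
    exact ⟨⟨fun a b => (IsCyclic.commGroup (α := G)).mul_comm a b⟩⟩


/-- Let G be a finite solvable group and p a prime dividing the index of the Fitting subgroup of G. Then the number of conjugacy classes of G is at least p/(3·log₂ p). -/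
theorem result {G : Type*} [Group G] [Finite G] (hG : Group.IsSolvable G) (p : ℕ) [Fact p.Prime] (hp : p ∣ (Cfsg.fittingSubgroup G).index) : (p : ℝ) / (3 * Real.logb 2 p) ≤ Nat.card (ConjClasses G) := by
  classical
  haveI := hG
  have hp2 := (Fact.out : p.Prime).two_le
  set k := Nat.card (ConjClasses G)
  have hL1 : (1 : ℝ) ≤ Real.logb 2 p := by
    rw [Real.le_logb_iff_rpow_le (by norm_num) (by positivity), Real.rpow_one]
    exact_mod_cast hp2
  have hlog : ∀ j : ℕ, 2 ^ j ≤ p → (j : ℝ) ≤ Real.logb 2 p := fun j hj => by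
    rw [Real.le_logb_iff_rpow_le (by norm_num) (by positivity), Real.rpow_natCast]
    exact_mod_cast hj
  rw [div_le_iff₀ (by linarith)]
  rcases Nat.lt_or_ge p 37 with h37 | h37
  · -- small primes
    have hk : 3 ≤ k := by
      have hnc : ¬ IsMulCommutative G := fun h => by
        haveI := h
        haveI : Group.IsNilpotent G := Subgroup.isNilpotent_of_ker_le_center (1 : G →* PUnit.{1})
          fun x _ => Subgroup.mem_center_iff.2 fun y => mul_comm' y x
        haveI : Group.IsNilpotent (⊤ : Subgroup G) :=
          Group.nilpotent_of_mulEquiv (Subgroup.topEquiv (G := G)).symm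
        have htop : Cfsg.fittingSubgroup G = ⊤ :=
          top_le_iff.1 (H81.le_fittingSubgroup (N := (⊤ : Subgroup G)) inferInstance)
        rw [htop, Subgroup.index_top, Nat.dvd_one] at hp
        omega
      exact three_le_classes hnc
    have hk' : (3 : ℝ) ≤ k := by exact_mod_cast hk
    have h9 : (p : ℝ) ≤ 9 * Real.logb 2 p := by
      rcases Nat.lt_or_ge p 10 with h | h
      · have : (p : ℝ) ≤ 9 := by exact_mod_cast (show p ≤ 9 by omega)
        linarith
      rcases Nat.lt_or_ge p 28 with h' | h'
      · have h3 := hlog 3 (by omega)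
        have : (p : ℝ) ≤ 27 := by exact_mod_cast (show p ≤ 27 by omega)
        push_cast at h3
        linarith
      · have h3 := hlog 4 (by omega)
        have : (p : ℝ) ≤ 36 := by exact_mod_cast (show p ≤ 36 by omega)
        push_cast at h3
        linarith
    nlinarith
  · rcases H27.KGV.solvable_class_bound p h37 hp with ⟨m, hm, hsmall, hk⟩ | hk
    · have hm' : (m : ℝ) ≤ 3 * Real.logb 2 p := by
        rw [show 3 * Real.logb 2 p = Real.logb 2 ((p : ℝ) ^ 3) by rw [Real.logb_pow]; norm_num,
          Real.le_logb_iff_rpow_le (by norm_num) (by positivity), Real.rpow_natCast]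
        exact_mod_cast hsmall.le
      have hk' : (p : ℝ) ≤ (k : ℝ) * m := by exact_mod_cast hk
      exact hk'.trans (mul_le_mul_of_nonneg_left hm' (Nat.cast_nonneg _))
    · have h5 := hlog 5 (by omega)
      push_cast at h5
      have hk' : (p : ℝ) ≤ 15 * (k : ℝ) := by exact_mod_cast hk
      nlinarith [Nat.cast_nonneg (α := ℝ) k]

end Cfsg.Agent.S4190
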