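import Cfsg.Statements.S4192
import Cfsg.Agent.H3.RealGraph.Structure

set_option autoImplicit false
open Cfsg

namespace Cfsg.Agent.S4192

/-- Let G be a finite group; call an element real when it is conjugate to its inverse, and say that the real-class-size graph of a group is disconnected when the primes dividing its real class sizes split into two non-empty disjoint parts with no real class size divisible by a prime from each part. If the real-class-size graph of G is disconnected, then some real class size of G is even, and either the Sylow 2-subgroups of G are normal, or the subgroup K generated by the 2-elements of G (the smallest normal subgroup of odd index) again has a disconnected real-class-size graph and every real class size of K is odd or a power of 2. -/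
theorem result {G : Type*} [Group G] [Finite G] (h : (∃ π₁ π₂ : Set ℕ, π₁.Nonempty ∧ π₂.Nonempty ∧ Disjoint π₁ π₂ ∧ (∀ q ∈ π₁ ∪ π₂, q.Prime ∧ ∃ n ∈ {n : ℕ | ∃ x : G, IsConj x x⁻¹ ∧ (Subgroup.centralizer ({x} : Set G)).index = n}, q ∣ n) ∧ (∀ q : ℕ, q.Prime → (∃ n ∈ {n : ℕ | ∃ x : G, IsConj x x⁻¹ ∧ (Subgroup.centralizer ({x} : Set G)).index = n}, q ∣ n) → q ∈ π₁ ∨ q ∈ π₂) ∧ ∀ a ∈ π₁, ∀ b ∈ π₂, ∀ n ∈ {n : ℕ | ∃ x : G, IsConj x x⁻¹ ∧ (Subgroup.centralizer ({x} : Set G)).index = n}, ¬ (a ∣ n ∧ b ∣ n))) : (∃ n ∈ {n : ℕ | ∃ x : G, IsConj x x⁻¹ ∧ (Subgroup.centralizer ({x} : Set G)).index = n}, 2 ∣ n) ∧ ((∀ P : Sylow 2 G, (P : Subgroup G).Normal) ∨ ((∃ π₁ π₂ : Set ℕ, π₁.Nonempty ∧ π₂.Nonempty ∧ Disjoint π₁ π₂ ∧ (∀ q ∈ π₁ ∪ π₂, q.Prime ∧ ∃ n ∈ {n : ℕ | ∃ x : ↥(Subgroup.closure {g : G | ∃ k : ℕ, orderOf g = 2 ^ k}), IsConj x x⁻¹ ∧ (Subgroup.centralizer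 ({x} : Set ↥(Subgroup.closure {g : G | ∃ k : ℕ, orderOf g = 2 ^ k}))).index = n}, q ∣ n) ∧ (∀ q : ℕ, q.Prime → (∃ n ∈ {n : ℕ | ∃ x : ↥(Subgroup.closure {g : G | ∃ k : ℕ, orderOf g = 2 ^ k}), IsConj x x⁻¹ ∧ (Subgroup.centralizer ({x} : Set ↥(Subgroup.closure {g : G | ∃ k : ℕ, orderOf g = 2 ^ k}))).index = n}, q ∣ n) → q ∈ π₁ ∨ q ∈ π₂) ∧ ∀ a ∈ π₁, ∀ b ∈ π₂, ∀ n ∈ {n : ℕ | ∃ x : ↥(Subgroup.closure {g : G | ∃ k : ℕ, orderOf g = 2 ^ k}), IsConj x x⁻¹ ∧ (Subgroup.centralizer ({x} : Set ↥(Subgroup.closure {g : G | ∃ k : ℕ, orderOf g = 2 ^ k}))).index = n}, ¬ (a ∣ n ∧ b ∣ n)) ∧ ∀ n ∈ {n : ℕ | ∃ x : ↥(Subgroup.closure {g : G | ∃ k : ℕ, orderOf g = 2 ^ k}), IsConj x x⁻¹ ∧ (Subgroup.centralizer ({x} : Set ↥(Subgroup.closure {g : G | ∃ k : ℕ, orderOf g = 2 ^ k}))).index = n}, Odd n ∨ ∃ j : ℕ, n = 2 ^ j)) := by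
  haveI : Fact (Nat.Prime 2) := ⟨Nat.prime_two⟩
  obtain ⟨π₁, π₂, h₁, h₂, -, hsub, hcover, hnoedge⟩ := h
  have hmem : ∀ g x : G, H3.RealGraph.Inv g x → H3.RealGraph.ind x ∈
      {n : ℕ | ∃ x : G, IsConj x x⁻¹ ∧ (Subgroup.centralizer ({x} : Set G)).index = n} :=
    fun g x hx => ⟨x, isConj_iff.2 ⟨g, hx⟩, rfl⟩
  have hpure : ∀ g x : G, H3.RealGraph.Inv g x →
      (H3.RealGraph.PiNum π₁ (H3.RealGraph.ind x) ∧ H3.RealGraph.CoNum π₂ (H3.RealGraph.ind x)) ∨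
      (H3.RealGraph.PiNum π₂ (H3.RealGraph.ind x) ∧ H3.RealGraph.CoNum π₁ (H3.RealGraph.ind x)) := by
    intro g x hx
    by_cases hq : ∃ q : ℕ, q.Prime ∧ q ∣ H3.RealGraph.ind x ∧ q ∈ π₁
    · obtain ⟨q, -, hqd, hqπ⟩ := hq
      have hco : ∀ p : ℕ, p.Prime → p ∣ H3.RealGraph.ind x → p ∉ π₂ := fun p _ hpd hpπ =>
        hnoedge q hqπ p hpπ _ (hmem g x hx) ⟨hqd, hpd⟩
      exact Or.inl ⟨fun p hp hpd =>
        (hcover p hp ⟨_, hmem g x hx, hpd⟩).resolve_right (hco p hp hpd), hco⟩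
    · exact Or.inr ⟨fun p hp hpd => (hcover p hp ⟨_, hmem g x hx, hpd⟩).resolve_left
        fun hπ => hq ⟨p, hp, hpd, hπ⟩, fun p hp hpd hπ => hq ⟨p, hp, hpd, hπ⟩⟩
  have hex : ∀ (σ τ : Set ℕ), σ.Nonempty → (∀ q ∈ σ, q ∈ π₁ ∪ π₂) →
      (∀ a ∈ σ, ∀ b ∈ τ, ∀ g x : G, H3.RealGraph.Inv g x →
        ¬ (a ∣ H3.RealGraph.ind x ∧ b ∣ H3.RealGraph.ind x)) →
      (∀ p : ℕ, p.Prime → ∀ g x : G, H3.RealGraph.Inv g x → p ∣ H3.RealGraph.ind x →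
        p ∈ σ ∨ p ∈ τ) →
      ∃ g x : G, H3.RealGraph.Inv g x ∧ H3.RealGraph.ind x ≠ 1 ∧
        H3.RealGraph.PiNum σ (H3.RealGraph.ind x) ∧ H3.RealGraph.CoNum τ (H3.RealGraph.ind x) := by
    rintro σ τ ⟨q, hq⟩ hσ hno hcov
    obtain ⟨hqp, n, ⟨x, hx, rfl⟩, hqd⟩ := hsub q (hσ q hq)
    obtain ⟨g, hg⟩ := isConj_iff.1 hx
    have hco : ∀ p : ℕ, p.Prime → p ∣ H3.RealGraph.ind x → p ∉ τ := fun p _ hpd hpτ =>
      hno q hq p hpτ g x hg ⟨hqd, hpd⟩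
    exact ⟨g, x, hg, fun e => hqp.ne_one (Nat.dvd_one.1 (e ▸ hqd)),
      fun p hp hpd => (hcov p hp g x hg hpd).resolve_right (hco p hp hpd), hco⟩
  obtain ⟨g₁, x₁, hx₁, hx₁1, hx₁π, hx₁co⟩ := hex π₁ π₂ h₁ (fun q => Or.inl)
    (fun a ha b hb g x hx => hnoedge a ha b hb _ (hmem g x hx))
    fun p hp g x hx hd => hcover p hp ⟨_, hmem g x hx, hd⟩
  obtain ⟨g₂, x₂, hx₂, hx₂1, hx₂π, hx₂co⟩ := hex π₂ π₁ h₂ (fun q => Or.inr)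
    (fun a ha b hb g x hx hab => hnoedge b hb a ha _ (hmem g x hx) ⟨hab.2, hab.1⟩)
    fun p hp g x hx hd => (hcover p hp ⟨_, hmem g x hx, hd⟩).symm
  obtain ⟨ge, xe, hxe, hxe2⟩ := H3.RealGraph.exists_even_ind π₁ π₂ hpure
    ⟨g₁, x₁, hx₁, hx₁1, hx₁π⟩ ⟨g₂, x₂, hx₂, hx₂1, hx₂π⟩
  refine ⟨⟨_, hmem ge xe hxe, hxe2⟩, ?_⟩
  by_cases hno : ∀ x : G, x ≠ 1 → Odd (orderOf x) → ¬ IsConj x x⁻¹
  · exact Or.inl fun P => (Cfsg.Agent.S3861.result P).1 hno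
  right
  push Not at hno
  obtain ⟨x, hx1, hxo, hxr⟩ := hno
  obtain ⟨g, hg⟩ := isConj_iff.1 hxr
  obtain ⟨hall, ⟨g', u, hu, hu2⟩, ⟨g'', v, hv, hvodd, hv1⟩⟩ :
      (∀ g x : H3.RealGraph.twoGen G, H3.RealGraph.Inv g x →
        Odd (H3.RealGraph.ind x) ∨ ∃ j : ℕ, H3.RealGraph.ind x = 2 ^ j) ∧
      (∃ g x : H3.RealGraph.twoGen G, H3.RealGraph.Inv g x ∧ 2 ∣ H3.RealGraph.ind x) ∧
      (∃ g x : H3.RealGraph.twoGen G, H3.RealGraph.Inv g x ∧ Odd (H3.RealGraph.ind x) ∧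
        H3.RealGraph.ind x ≠ 1) := by
    rcases hcover 2 Nat.prime_two ⟨_, hmem ge xe hxe, hxe2⟩ with h2 | h2
    · exact H3.RealGraph.twoGen_classes h2
        (fun g x hx => (hpure g x hx).imp And.left And.right)
        ⟨g₂, x₂, hx₂, hx₂1, hx₂co⟩ ⟨g, x, hg, hx1, hxo⟩
    · exact H3.RealGraph.twoGen_classes h2
        (fun g x hx => (hpure g x hx).symm.imp And.left And.right)
        ⟨g₁, x₁, hx₁, hx₁1, hx₁co⟩ ⟨g, x, hg, hx1, hxo⟩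
  have hall' : ∀ n ∈ {n : ℕ | ∃ x : ↥(H3.RealGraph.twoGen G), IsConj x x⁻¹ ∧
      (Subgroup.centralizer ({x} : Set ↥(H3.RealGraph.twoGen G))).index = n},
      Odd n ∨ ∃ j : ℕ, n = 2 ^ j := by
    rintro n ⟨z, hz, rfl⟩
    obtain ⟨c, hc⟩ := isConj_iff.1 hz
    exact hall c z hc
  refine ⟨⟨{2}, {q | q.Prime ∧ q ≠ 2 ∧ ∃ n ∈ {n : ℕ | ∃ x : ↥(H3.RealGraph.twoGen G),
      IsConj x x⁻¹ ∧ (Subgroup.centralizer ({x} : Set ↥(H3.RealGraph.twoGen G))).index = n}, q ∣ n},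
    ⟨2, rfl⟩, ?_, ?_, ?_, ?_, ?_⟩, hall'⟩
  · obtain ⟨q, hq, hqd⟩ := Nat.exists_prime_and_dvd hv1
    exact ⟨q, hq, fun e => (Nat.not_even_iff_odd.2 hvodd) (even_iff_two_dvd.2 (e ▸ hqd)),
      _, ⟨v, isConj_iff.2 ⟨g'', hv⟩, rfl⟩, hqd⟩
  · rw [Set.disjoint_singleton_left]
    exact fun h => h.2.1 rfl
  · rintro q (hq | ⟨hq, -, hq'⟩)
    · rw [Set.mem_singleton_iff] at hq
      subst hq
      exact ⟨Nat.prime_two, _, ⟨u, isConj_iff.2 ⟨g', hu⟩, rfl⟩, hu2⟩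
    · exact ⟨hq, hq'⟩
  · intro q hq hqn
    by_cases h : q = 2
    · exact Or.inl h
    · exact Or.inr ⟨hq, h, hqn⟩
  · rintro a ha b ⟨hb, hb2, -⟩ n hn ⟨han, hbn⟩
    rw [Set.mem_singleton_iff] at ha
    subst ha
    rcases hall' n hn with hodd | ⟨j, rfl⟩
    · exact Nat.not_even_iff_odd.2 hodd (even_iff_two_dvd.2 han)
    · exact hb2 ((Nat.prime_dvd_prime_iff_eq hb Nat.prime_two).1 (hb.dvd_of_dvd_pow hbn))

end Cfsg.Agent.S4192
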