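import Cfsg.Statements.S4194
import Cfsg.Agent.H3.TwoCentral

set_option autoImplicit false
open Cfsg

namespace Cfsg.Agent.S4194

/-- A finite group G has commutative Sylow 2-subgroups if and only if every 2-element of G (element of order a power of 2) is 2-central, that is, its centralizer contains a Sylow 2-subgroup of G. -/
theorem result {G : Type*} [Group G] [Finite G] (P : Sylow 2 G) :
    IsMulCommutative (P : Subgroup G) ↔ ∀ x : G, (∃ k : ℕ, orderOf x = 2 ^ k) → (∃ Q : Sylow 2 G, (Q : Subgroup G) ≤ Subgroup.centralizer ({x} : Set G)) := by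
  haveI : Fact (Nat.Prime 2) := ⟨Nat.prime_two⟩
  constructor
  · rintro ⟨⟨hP⟩⟩ x ⟨k, hk⟩
    obtain ⟨Q, hQ⟩ := (IsPGroup.of_card (n := k) (by rw [Nat.card_zpowers, hk]) :
      IsPGroup 2 (Subgroup.zpowers x)).exists_le_sylow
    refine ⟨Q, fun y hy => ?_⟩
    obtain ⟨g, rfl⟩ := MulAction.exists_smul_eq G P Q
    have hx := hQ (Subgroup.mem_zpowers x)
    rw [Sylow.coe_subgroup_smul, Subgroup.mem_pointwise_smul_iff_inv_smul_mem] at hx hy
    simp only [MulAut.smul_def, MulAut.inv_def, MulAut.conj_symm_apply] at hx hy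
    have h := congrArg Subtype.val (hP ⟨_, hy⟩ ⟨_, hx⟩)
    simp only [Subgroup.coe_mul] at h
    rw [Subgroup.mem_centralizer_singleton_iff]
    calc y * x = g * ((g⁻¹ * y * g) * (g⁻¹ * x * g)) * g⁻¹ := by group
      _ = g * ((g⁻¹ * x * g) * (g⁻¹ * y * g)) * g⁻¹ := by rw [h]
      _ = x * y := by group
  · intro h
    refine H3.TwoCentral.isMulCommutative_of_hyp (fun x hx => ?_) P
    obtain ⟨k, hk⟩ := hx
    obtain ⟨i, -, hi⟩ := (Nat.dvd_prime_pow Nat.prime_two).1 (orderOf_dvd_of_pow_eq_one hk)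
    exact h x ⟨i, hi⟩

end Cfsg.Agent.S4194
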