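import Cfsg.Statements.S4195
import Mathlib.GroupTheory.Sylow
import Mathlib.Tactic.NormNum

set_option autoImplicit false
open Cfsg

namespace Cfsg.Agent.S4195

/-- Let x be a non-identity element of a finite group G whose centralizer contains a Sylow 2-subgroup of G. If x is conjugate to its inverse, then x has order 2. -/
theorem result {G : Type*} [Group G] [Finite G] (x : G) (hx : x ≠ 1) (P : Sylow 2 G) (hP : (P : Subgroup G) ≤ Subgroup.centralizer ({x} : Set G)) (hreal : IsConj x x⁻¹) : orderOf x = 2 := by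
  have hmain : x⁻¹ = x := by
    obtain ⟨g, hg⟩ := isConj_iff.mp hreal
    obtain ⟨k, m, hm, hord⟩ :=
      Nat.exists_eq_pow_mul_and_not_dvd (orderOf_pos g).ne' 2 (by norm_num)
    -- the 2-element `t = g ^ m` inverts `x`
    have hodd : Odd m := Nat.not_even_iff_odd.mp fun h => hm h.two_dvd
    have hpow : ∀ n : ℕ, g ^ (2 * n + 1) * x * (g ^ (2 * n + 1))⁻¹ = x⁻¹ := by
      intro n
      induction n with
      | zero => simpa using hg
      | succ n ih =>
        have e : g ^ (2 * (n + 1) + 1) * x * (g ^ (2 * (n + 1) + 1))⁻¹ =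
            g * (g * (g ^ (2 * n + 1) * x * (g ^ (2 * n + 1))⁻¹) * g⁻¹) * g⁻¹ := by
          rw [show 2 * (n + 1) + 1 = 2 * n + 1 + 1 + 1 by omega, pow_succ', pow_succ' g (2 * n + 1)]
          simp [mul_assoc]
        rw [e, ih]
        have h2 : g * x⁻¹ * g⁻¹ = x := by
          have h := congrArg (·⁻¹) hg
          simpa [mul_assoc] using h
        rw [h2, hg]
    obtain ⟨n, rfl⟩ := hodd
    set t := g ^ (2 * n + 1) with ht
    have htx : t * x * t⁻¹ = x⁻¹ := hpow n
    set N := Subgroup.normalizer ((Subgroup.zpowers x : Subgroup G) : Set G) with hN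
    have hxN : ∀ u : G, u * x * u⁻¹ ∈ Subgroup.zpowers x → u ∈ N := by
      intro u hu
      refine Subgroup.mem_normalizer_iff_map_conj_eq.mpr
        (Subgroup.eq_of_le_of_card_ge ?_ (le_of_eq ?_))
      · rw [MonoidHom.map_zpowers, Subgroup.zpowers_le]
        simpa using hu
      · exact (Nat.card_congr
          ((Subgroup.zpowers x).equivMapOfInjective _ (MulAut.conj u).injective).toEquiv)
    have htN : t ∈ N := hxN t (htx ▸ inv_mem (Subgroup.mem_zpowers x))
    have hPN : (P : Subgroup G) ≤ N := fun u hu => hxN u (by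
      have := Subgroup.mem_centralizer_singleton_iff.mp (hP hu)
      rw [this, mul_inv_cancel_right]
      exact Subgroup.mem_zpowers x)
    have htp : IsPGroup 2 (Subgroup.zpowers (⟨t, htN⟩ : N)) := by
      refine IsPGroup.of_card_dvd_pow (n := k) ?_
      rw [Nat.card_zpowers, Subgroup.orderOf_mk, orderOf_dvd_iff_pow_eq_one, ← pow_mul,
        mul_comm, ← hord, pow_orderOf_eq_one]
    obtain ⟨Q, hQ⟩ := htp.exists_le_sylow
    obtain ⟨u, hu⟩ := MulAction.exists_smul_eq N (P.subtype hPN) Q
    have htQ : (⟨t, htN⟩ : N) ∈ (Q : Subgroup N) := hQ (Subgroup.mem_zpowers _)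
    rw [← hu, Sylow.coe_subgroup_smul, Subgroup.mem_pointwise_smul_iff_inv_smul_mem] at htQ
    have hmem : (u : G)⁻¹ * t * u ∈ (P : Subgroup G) := by
      rw [Sylow.coe_subtype, Subgroup.mem_subgroupOf] at htQ
      simpa using htQ
    have hc := Subgroup.mem_centralizer_singleton_iff.mp (hP hmem)
    -- `u` maps `x` to a power of itself, so `t` centralises `u x u⁻¹` and hence `x`
    have hu' := Subgroup.mem_normalizer_iff_map_conj_eq.mp u.2
    have hx' : x ∈ (Subgroup.zpowers x).map (MulAut.conj (u : G)).toMonoidHom :=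
      hu'.symm ▸ Subgroup.mem_zpowers x
    rw [MonoidHom.map_zpowers] at hx'
    obtain ⟨i, hi⟩ := hx'
    have hc' : Commute t ((u : G) * x * (u : G)⁻¹) := by
      show t * _ = _ * t
      calc t * ((u : G) * x * (u : G)⁻¹) = u * ((u : G)⁻¹ * t * u * x) * (u : G)⁻¹ := by
            simp [mul_assoc]
        _ = u * (x * ((u : G)⁻¹ * t * u)) * (u : G)⁻¹ := by rw [hc]
        _ = _ := by simp [mul_assoc]
    have hct : Commute t x := by
      rw [← hi]
      exact Commute.zpow_right (by simpa using hc') i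
    rw [← htx, hct.eq, mul_inv_cancel_right]
  refine orderOf_eq_prime ?_ hx
  rw [pow_two, mul_eq_one_iff_eq_inv, hmain]

end Cfsg.Agent.S4195
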