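import Cfsg.Statements.S4196
import Cfsg.Agent.S4195

set_option autoImplicit false
open Cfsg

namespace Cfsg.Agent.S4196

/-- A finite group G has elementary abelian Sylow 2-subgroups (commutative with every element squaring to the identity) if and only if every 2-element of G has a Sylow 2-subgroup in its centralizer and is conjugate to its inverse. -/
theorem result {G : Type*} [Group G] [Finite G] (P : Sylow 2 G) :
    (IsMulCommutative (P : Subgroup G) ∧ ∀ x ∈ (P : Subgroup G), x ^ 2 = 1) ↔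
      ∀ x : G, (∃ k : ℕ, orderOf x = 2 ^ k) → (∃ Q : Sylow 2 G, (Q : Subgroup G) ≤ Subgroup.centralizer ({x} : Set G)) ∧ IsConj x x⁻¹ := by
  constructor
  · rintro ⟨hab, h2⟩ x ⟨k, hk⟩
    have hx : IsPGroup 2 (Subgroup.zpowers x) :=
      IsPGroup.of_card (n := k) (by rw [Nat.card_zpowers, hk])
    obtain ⟨Q, hQ⟩ := hx.exists_le_sylow
    obtain ⟨g, hg⟩ := MulAction.exists_smul_eq G P Q
    have hconj : ∀ y ∈ (Q : Subgroup G), g⁻¹ * y * g ∈ (P : Subgroup G) := fun y hy => by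
      rw [← hg, Sylow.coe_subgroup_smul, Subgroup.mem_pointwise_smul_iff_inv_smul_mem] at hy
      simpa using hy
    have hxQ := hconj x (hQ (Subgroup.mem_zpowers x))
    refine ⟨⟨Q, fun y hy => Subgroup.mem_centralizer_singleton_iff.mpr ?_⟩, ?_⟩
    · have h := setLike_mul_comm (s := (P : Subgroup G)) (hconj y hy) hxQ
      calc y * x = g * ((g⁻¹ * y * g) * (g⁻¹ * x * g)) * g⁻¹ := by simp [mul_assoc]
        _ = g * ((g⁻¹ * x * g) * (g⁻¹ * y * g)) * g⁻¹ := by rw [h]
        _ = x * y := by simp [mul_assoc]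
    · have hsq : x ^ 2 = 1 := by
        have e : g * (g⁻¹ * x * g) ^ 2 * g⁻¹ = x ^ 2 := by simp [pow_two, mul_assoc]
        rw [← e, h2 _ hxQ, mul_one, mul_inv_cancel]
      rw [← eq_inv_of_mul_eq_one_left (by rwa [← pow_two] : x * x = 1)]
  · intro h
    have h2 : ∀ x ∈ (P : Subgroup G), x ^ 2 = 1 := by
      intro x hx
      rcases eq_or_ne x 1 with rfl | hx1
      · simp
      obtain ⟨k, hk⟩ := IsPGroup.iff_orderOf.mp P.isPGroup' ⟨x, hx⟩
      obtain ⟨⟨Q, hQ⟩, hreal⟩ := h x ⟨k, by rwa [Subgroup.orderOf_mk] at hk⟩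
      rw [← Cfsg.Agent.S4195.result x hx1 Q hQ hreal]
      exact pow_orderOf_eq_one x
    refine ⟨⟨⟨fun a b => Subtype.ext ?_⟩⟩, h2⟩
    have inv : ∀ c ∈ (P : Subgroup G), c⁻¹ = c := fun c hc =>
      inv_eq_of_mul_eq_one_left (by rw [← pow_two]; exact h2 c hc)
    show (a : G) * b = b * a
    calc (a : G) * b = ((a : G) * b)⁻¹ := (inv _ (mul_mem a.2 b.2)).symm
      _ = b * a := by rw [mul_inv_rev, inv _ a.2, inv _ b.2]

end Cfsg.Agent.S4196
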