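import Cfsg.Statements.S4198
import Mathlib.GroupTheory.SpecificGroups.Alternating.Centralizer
import Mathlib.GroupTheory.Perm.Cycle.PossibleTypes
import Mathlib.Combinatorics.Enumerative.Partition.Basic

set_option autoImplicit false
open Cfsg

namespace Cfsg.Agent.S4198

open Equiv

theorem partition_succ_le (n : ℕ) :
    Nat.card (Nat.Partition (n + 1)) ≤ 2 * Nat.card (Nat.Partition n) := by
  classical
  have hmin : ∀ p : Nat.Partition (n + 1), p.parts.toFinset.Nonempty := by
    intro p
    rw [Multiset.toFinset_nonempty]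
    intro h
    have := p.parts_sum
    rw [h, Multiset.sum_zero] at this
    omega
  let s : Nat.Partition (n + 1) → ℕ := fun p => p.parts.toFinset.min' (hmin p)
  have hs : ∀ p, s p ∈ p.parts := fun p => Multiset.mem_toFinset.mp (Finset.min'_mem _ _)
  have hsle : ∀ p, ∀ a ∈ p.parts, s p ≤ a := fun p a ha =>
    Finset.min'_le _ _ (Multiset.mem_toFinset.mpr ha)
  let f : Nat.Partition (n + 1) → Bool × Nat.Partition n := fun p =>
    if h1 : 1 ∈ p.parts then (true, ⟨p.parts.erase 1, fun {i} hi => p.parts_pos
      (Multiset.mem_of_mem_erase hi), by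
        have := Multiset.sum_erase h1
        have := p.parts_sum
        omega⟩)
    else (false, ⟨(s p - 1) ::ₘ p.parts.erase (s p), fun {i} hi => by
        rcases Multiset.mem_cons.mp hi with rfl | hi
        · have := p.parts_pos (hs p)
          have : s p ≠ 1 := fun h => by have := hs p; rw [h] at this; exact h1 this
          omega
        · exact p.parts_pos (Multiset.mem_of_mem_erase hi), by
        rw [Multiset.sum_cons]
        have := Multiset.sum_erase (hs p)
        have := p.parts_sum
        have := p.parts_pos (hs p)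
        omega⟩)
  have hf : Function.Injective f := by
    intro p q hpq
    apply Nat.Partition.ext
    simp only [f] at hpq
    by_cases hp : 1 ∈ p.parts <;> by_cases hq : 1 ∈ q.parts <;>
      simp only [hp, hq, dite_true, dite_false, Prod.mk.injEq, Bool.false_eq_true,
        Bool.true_eq_false, false_and, true_and, Nat.Partition.ext_iff] at hpq
    · rw [← Multiset.cons_erase hp, ← Multiset.cons_erase hq, hpq]
    · have hp0 := p.parts_pos (hs p)
      have hq0 := q.parts_pos (hs q)
      have hss : s p = s q := by
        have h1 : s p - 1 ∈ (s q - 1) ::ₘ q.parts.erase (s q) := hpq ▸ Multiset.mem_cons_self _ _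
        have h2 : s q - 1 ∈ (s p - 1) ::ₘ p.parts.erase (s p) := hpq ▸ Multiset.mem_cons_self _ _
        rcases Multiset.mem_cons.mp h1 with h1 | h1
        · omega
        · rcases Multiset.mem_cons.mp h2 with h2 | h2
          · omega
          · have := hsle q _ (Multiset.mem_of_mem_erase h1)
            have := hsle p _ (Multiset.mem_of_mem_erase h2)
            omega
      rw [hss, Multiset.cons_inj_right] at hpq
      rw [← Multiset.cons_erase (hs p), ← Multiset.cons_erase (hs q), hss, hpq]
  have := Nat.card_le_card_of_injective f hf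
  simpa [Nat.card_prod, Nat.card_eq_fintype_card] using this

theorem partition_five_le : Nat.card (Nat.Partition 5) ≤ 7 := by
  classical
  have hsum : ∀ p : Nat.Partition 5, p.parts.count 1 + 2 * p.parts.count 2 + 3 * p.parts.count 3 +
      4 * p.parts.count 4 + 5 * p.parts.count 5 = 5 := by
    intro p
    have h1 : ∑ i ∈ Finset.range 6, p.parts.count i • i = p.parts.sum := by
      rw [Finset.sum_multiset_count]
      refine (Finset.sum_subset (fun i hi => ?_) fun i _ hi => ?_).symm
      · have := Nat.Partition.le_of_mem_parts (Multiset.mem_toFinset.mp hi)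
        exact Finset.mem_range.mpr (by omega)
      · rw [Multiset.count_eq_zero.mpr (fun h => hi (Multiset.mem_toFinset.mpr h)), zero_smul]
    rw [p.parts_sum] at h1
    simp only [Finset.sum_range_succ, Finset.sum_range_zero, smul_eq_mul] at h1
    omega
  let t : Finset (ℕ × ℕ × ℕ × ℕ) := {(0, 0, 0, 0), (1, 0, 0, 0), (2, 0, 0, 0), (0, 1, 0, 0),
    (1, 1, 0, 0), (0, 0, 1, 0), (0, 0, 0, 1)}
  let f : Nat.Partition 5 → t := fun p =>
    ⟨(p.parts.count 2, p.parts.count 3, p.parts.count 4, p.parts.count 5), by
      have h := hsum p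
      simp only [t, Finset.mem_insert, Finset.mem_singleton, Prod.mk.injEq]
      omega⟩
  have hf : Function.Injective f := by
    intro p q h
    simp only [f, Subtype.mk.injEq, Prod.mk.injEq] at h
    obtain ⟨h2, h3, h4, h5⟩ := h
    have := hsum p
    have := hsum q
    refine Nat.Partition.ext (Multiset.ext.mpr fun i => ?_)
    by_cases hi : 1 ≤ i ∧ i ≤ 5
    · obtain ⟨_, _⟩ := hi
      interval_cases i <;> omega
    · have h0 : ∀ r : Nat.Partition 5, r.parts.count i = 0 := fun r =>
        Multiset.count_eq_zero.mpr fun hm => hi ⟨r.parts_pos hm, Nat.Partition.le_of_mem_parts hm⟩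
      rw [h0, h0]
  refine (Nat.card_le_card_of_injective f hf).trans ?_
  rw [Nat.card_eq_fintype_card, Fintype.card_coe]
  decide

theorem partition_le (n : ℕ) (hn : 5 ≤ n) : Nat.card (Nat.Partition n) ≤ 2 ^ (n - 2) := by
  induction n, hn using Nat.le_induction with
  | base =>
    exact partition_five_le.trans (by norm_num)
  | succ k hk ih =>
    refine (partition_succ_le k).trans ?_
    rw [show k + 1 - 2 = (k - 2) + 1 by omega, pow_succ, mul_comm]
    exact Nat.mul_le_mul_right 2 ih

/-- The cycle type obtained by shrinking the largest part by one. -/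
theorem exists_odd_type {n : ℕ} (hn : 5 ≤ n) (m : Multiset ℕ) (hodd : ∀ c ∈ m, Odd c)
    (h2 : ∀ c ∈ m, 2 ≤ c) (hle : n ≤ m.sum + 1) (hge : m.sum ≤ n) (hnd : m.Nodup) :
    ∃ a ∈ m, 5 ≤ a := by
  by_contra h
  push Not at h
  have hsub : m ⊆ {3} := fun c hc => by
    obtain ⟨k, rfl⟩ := hodd c hc
    have := h _ hc
    have := h2 _ hc
    simp only [Multiset.mem_singleton]
    omega
  have := Multiset.sum_le_card_nsmul m 3 fun c hc => by
    rw [Multiset.mem_singleton.mp (hsub hc)]
  have hc : m.card ≤ 1 := by
    simpa using Multiset.card_le_card ((Multiset.le_iff_subset hnd).mpr hsub)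
  simp only [smul_eq_mul] at this
  omega

/-- For n ≥ 5 the alternating group of degree n has strictly fewer conjugacy classes than the symmetric group of degree n, and the symmetric group of degree n (whose classes correspond to the partitions of n) has at most 2^(n−2) conjugacy classes. -/
theorem result (n : ℕ) (hn : 5 ≤ n) : Nat.card (ConjClasses (alternatingGroup (Fin n))) < Nat.card (ConjClasses (Equiv.Perm (Fin n))) ∧ Nat.card (ConjClasses (Equiv.Perm (Fin n))) ≤ 2 ^ (n - 2) := by
  classical
  constructor
  swap
  · refine le_trans (Nat.card_le_card_of_injective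
      (fun C : ConjClasses (Perm (Fin n)) => Quotient.liftOn C (fun g => g.partition)
        fun a b h => Equiv.Perm.partition_eq_of_isConj.mp h) ?_) ?_
    · intro C D
      induction C using Quotient.ind with | _ a => ?_
      induction D using Quotient.ind with | _ b => ?_
      intro h
      exact Quotient.sound (Equiv.Perm.partition_eq_of_isConj.mpr h)
    · rw [Fintype.card_fin]
      exact partition_le n hn
  -- the classes of the symmetric group
  let A := alternatingGroup (Fin n)
  let T : ConjClasses (Perm (Fin n)) → Multiset ℕ := fun C => Quotient.liftOn C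
    (fun g => g.cycleType) fun a b h => Equiv.Perm.isConj_iff_cycleType_eq.mp h
  have hT : Function.Injective T := by
    intro C D
    induction C using Quotient.ind with | _ a => ?_
    induction D using Quotient.ind with | _ b => ?_
    intro h
    exact Quotient.sound (Equiv.Perm.isConj_iff_cycleType_eq.mpr h)
  let Odd' : Set (ConjClasses (Perm (Fin n))) := {C | ¬ Even ((T C).sum + (T C).card)}
  let Split : Set (ConjClasses (Perm (Fin n))) :=
    {C | (∀ c ∈ T C, Odd c) ∧ n ≤ (T C).sum + 1 ∧ (T C).Nodup}
  -- splitting classes inject non-surjectively into odd classes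
  have hsplit : Nat.card Split < Nat.card Odd' := by
    have hex : ∀ C : Split, ∃ D : Odd', ∃ a ∈ T C.1, (∀ c ∈ T C.1, c ≤ a) ∧ 5 ≤ a ∧
        T D.1 = (a - 1) ::ₘ (T C.1).erase a := by
      rintro ⟨C, hodd, hle, hnd⟩
      obtain ⟨g, rfl⟩ := ConjClasses.exists_rep C
      have hTg : T (ConjClasses.mk g) = g.cycleType := rfl
      simp only [hTg] at hodd hle hnd ⊢
      have hge : g.cycleType.sum ≤ n := by simpa using Equiv.Perm.sum_cycleType_le g
      obtain ⟨b, hb, hb5⟩ := exists_odd_type hn _ hodd
        (fun c hc => Equiv.Perm.two_le_of_mem_cycleType hc) hle hge hnd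
      have hne : g.cycleType.toFinset.Nonempty := ⟨b, Multiset.mem_toFinset.mpr hb⟩
      set a := g.cycleType.toFinset.max' hne
      have ha : a ∈ g.cycleType := Multiset.mem_toFinset.mp (Finset.max'_mem _ hne)
      have hmax : ∀ c ∈ g.cycleType, c ≤ a := fun c hc =>
        Finset.le_max' _ _ (Multiset.mem_toFinset.mpr hc)
      have ha5 := hb5.trans (hmax b hb)
      have hsum := Multiset.sum_erase ha
      obtain ⟨h, hh⟩ := (Equiv.Perm.exists_with_cycleType_iff (Fin n)
        (m := (a - 1) ::ₘ g.cycleType.erase a)).mpr ⟨by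
          rw [Multiset.sum_cons, Fintype.card_fin]; omega, fun c hc => by
          rcases Multiset.mem_cons.mp hc with rfl | hc
          · omega
          · exact Equiv.Perm.two_le_of_mem_cycleType (Multiset.mem_of_mem_erase hc)⟩
      refine ⟨⟨ConjClasses.mk h, ?_⟩, a, ha, hmax, ha5, hh⟩
      show ¬ Even (h.cycleType.sum + h.cycleType.card)
      rw [hh, Multiset.sum_cons, Multiset.card_cons]
      have hpar : ∀ m : Multiset ℕ, (∀ c ∈ m, Odd c) → Even (m.sum + m.card) := by
        intro m
        induction m using Multiset.induction_on with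
        | empty => simp
        | cons c m ih =>
          intro hm
          have h1 := ih fun d hd => hm d (Multiset.mem_cons_of_mem hd)
          obtain ⟨k, rfl⟩ := hm c (Multiset.mem_cons_self c m)
          obtain ⟨r, hr⟩ := h1
          exact ⟨k + r + 1, by rw [Multiset.sum_cons, Multiset.card_cons]; omega⟩
      obtain ⟨r, hr⟩ := hpar (g.cycleType.erase a) fun c hc => hodd c (Multiset.mem_of_mem_erase hc)
      obtain ⟨k, hk⟩ := hodd a ha
      rintro ⟨s, hs⟩
      omega
    choose F a ha hmax ha5 hF using hex
    have hinj : Function.Injective F := by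
      intro C D h
      have h1 : (a C - 1) ::ₘ (T C.1).erase (a C) = (a D - 1) ::ₘ (T D.1).erase (a D) := by
        rw [← hF, ← hF, h]
      have haa : a C = a D := by
        have h2 : a C - 1 ∈ (a D - 1) ::ₘ (T D.1).erase (a D) := h1 ▸ Multiset.mem_cons_self _ _
        rcases Multiset.mem_cons.mp h2 with h2 | h2
        · have := ha5 C
          have := ha5 D
          omega
        · obtain ⟨k, hk⟩ := D.2.1 _ (Multiset.mem_of_mem_erase h2)
          obtain ⟨l, hl⟩ := C.2.1 _ (ha C)
          omega
      rw [haa, Multiset.cons_inj_right] at h1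
      refine Subtype.ext (hT ?_)
      rw [← Multiset.cons_erase (ha C), ← Multiset.cons_erase (ha D), haa, h1]
    obtain ⟨t, ht⟩ := (Equiv.Perm.exists_with_cycleType_iff (Fin n) (m := {2})).mpr
      ⟨by simp only [Multiset.sum_singleton, Fintype.card_fin]; omega, by simp⟩
    rw [Nat.card_eq_fintype_card, Nat.card_eq_fintype_card]
    refine Fintype.card_lt_of_injective_of_notMem F hinj (b := ⟨ConjClasses.mk t, ?_⟩) ?_
    · show ¬ Even (t.cycleType.sum + t.cycleType.card)
      rw [ht, Multiset.sum_singleton, Multiset.card_singleton]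
      decide
    · rintro ⟨C, hC⟩
      have h1 : T (F C).1 = {2} := by rw [hC]; exact ht
      rw [hF] at h1
      have h2 : a C - 1 ∈ ({2} : Multiset ℕ) := h1 ▸ Multiset.mem_cons_self _ _
      rw [Multiset.mem_singleton] at h2
      have := ha5 C
      omega
  -- the classes of the alternating group
  let f : ConjClasses A → ConjClasses (Perm (Fin n)) := ConjClasses.map A.subtype
  have hrep : ∀ C : ConjClasses (Perm (Fin n)), (∃ D, f D = C) →
      ∃ D, f D = C := fun C h => h
  let r : ConjClasses A → ConjClasses A := fun D => Classical.choose (hrep (f D) ⟨D, rfl⟩)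
  have hr : ∀ D, f (r D) = f D := fun D => Classical.choose_spec (hrep (f D) ⟨D, rfl⟩)
  have hreq : ∀ D E, f D = f E → r D = r E := fun D E h => by
    simp only [r]
    congr 1
    exact funext fun x => by rw [h]
  have heven : ∀ D, Even ((T (f D)).sum + (T (f D)).card) := by
    intro D
    obtain ⟨⟨g, hg⟩, rfl⟩ := ConjClasses.exists_rep D
    show Even (g.cycleType.sum + g.cycleType.card)
    have h1 : Equiv.Perm.sign g = 1 := Equiv.Perm.mem_alternatingGroup.mp hg
    rw [Equiv.Perm.sign_of_cycleType] at h1
    exact (neg_one_pow_eq_one_iff_even (by decide)).mp h1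
  -- two classes with the same image differ by an odd conjugation
  have key : ∀ D E : ConjClasses A, f D = f E → D ≠ E → f D ∈ Split ∧
      ∀ F, f F = f E → F = D ∨ F = E := by
    intro D E h hne
    obtain ⟨x, rfl⟩ := ConjClasses.exists_rep D
    obtain ⟨y, rfl⟩ := ConjClasses.exists_rep E
    obtain ⟨g, hg⟩ := isConj_iff.mp (ConjClasses.mk_eq_mk_iff_isConj.mp
      (h : ConjClasses.mk (x : Perm (Fin n)) = ConjClasses.mk (y : Perm (Fin n))))
    have hgA : g ∉ A := fun hgA => hne (ConjClasses.mk_eq_mk_iff_isConj.mpr
      (isConj_iff.mpr ⟨⟨g, hgA⟩, Subtype.ext hg⟩))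
    have hidx : A.index = 2 := by
      have : Nontrivial (Fin n) := Fin.nontrivial_iff_two_le.mpr (by omega)
      exact alternatingGroup.index_eq_two
    refine ⟨?_, fun F hF => ?_⟩
    · have hc : Subgroup.centralizer {(x : Perm (Fin n))} ≤ A := by
        intro c hc
        by_contra hcA
        refine hne (ConjClasses.mk_eq_mk_iff_isConj.mpr (isConj_iff.mpr
          ⟨⟨g * c, (Subgroup.mul_mem_iff_of_index_two hidx).mpr (iff_of_false hgA hcA)⟩,
            Subtype.ext ?_⟩))
        show g * c * (x : Perm (Fin n)) * (g * c)⁻¹ = y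
        rw [mul_assoc g c, Subgroup.mem_centralizer_singleton_iff.mp hc,
          show ((y : A) : Perm (Fin n)) = g * (x : Perm (Fin n)) * g⁻¹ from hg.symm]
        group
      obtain ⟨h1, h2, h3⟩ := Equiv.Perm.centralizer_le_alternating_iff.mp hc
      rw [Fintype.card_fin] at h2
      exact ⟨h1, h2, Multiset.nodup_iff_count_le_one.mpr h3⟩
    · obtain ⟨z, rfl⟩ := ConjClasses.exists_rep F
      obtain ⟨k, hk⟩ := isConj_iff.mp (ConjClasses.mk_eq_mk_iff_isConj.mp
        (hF.symm : ConjClasses.mk (y : Perm (Fin n)) = ConjClasses.mk (z : Perm (Fin n))))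
      by_cases hkA : k ∈ A
      · exact Or.inr (ConjClasses.mk_eq_mk_iff_isConj.mpr
          (isConj_iff.mpr ⟨⟨k, hkA⟩, Subtype.ext hk⟩ : IsConj y z).symm)
      · refine Or.inl (ConjClasses.mk_eq_mk_iff_isConj.mpr (isConj_iff.mpr
          ⟨⟨k * g, (Subgroup.mul_mem_iff_of_index_two hidx).mpr (iff_of_false hkA hgA)⟩,
            Subtype.ext ?_⟩ : IsConj x z).symm)
        show k * g * (x : Perm (Fin n)) * (k * g)⁻¹ = z
        rw [show ((z : A) : Perm (Fin n)) = k * (y : Perm (Fin n)) * k⁻¹ from hk.symm,
          show ((y : A) : Perm (Fin n)) = g * (x : Perm (Fin n)) * g⁻¹ from hg.symm]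
        group
  let h : ConjClasses A → {C // C ∉ Odd'} ⊕ Split := fun D =>
    if hD : D = r D then Sum.inl ⟨f D, fun h => h (heven D)⟩
    else Sum.inr ⟨f D, (key D (r D) (hr D).symm hD).1⟩
  have hinj : Function.Injective h := by
    intro D E hDE
    simp only [h] at hDE
    by_cases hD : D = r D <;> by_cases hE : E = r E
    · rw [dif_pos hD, dif_pos hE, Sum.inl.injEq, Subtype.mk.injEq] at hDE
      exact hD.trans ((hreq D E hDE).trans hE.symm)
    · rw [dif_pos hD, dif_neg hE] at hDE
      exact absurd hDE Sum.inl_ne_inr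
    · rw [dif_neg hD, dif_pos hE] at hDE
      exact absurd hDE Sum.inr_ne_inl
    · rw [dif_neg hD, dif_neg hE, Sum.inr.injEq, Subtype.mk.injEq] at hDE
      rcases (key D (r D) (hr D).symm hD).2 E ((hr D).trans hDE).symm with h1 | h1
      · exact h1.symm
      · exact absurd (h1.trans (hreq D E hDE)) hE
  calc Nat.card (ConjClasses A) ≤ Nat.card ({C // C ∉ Odd'} ⊕ Split) :=
        Nat.card_le_card_of_injective h hinj
    _ = Nat.card {C // C ∉ Odd'} + Nat.card Split := Nat.card_sum
    _ < Nat.card {C // C ∉ Odd'} + Nat.card Odd' := by omega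
    _ = Nat.card (ConjClasses (Perm (Fin n))) := by
      rw [add_comm, ← Nat.card_sum]
      exact Nat.card_congr (Equiv.sumCompl (· ∈ Odd'))

end Cfsg.Agent.S4198
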