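import Cfsg.Statements.S4203
import Cfsg.Agent.H33.TwoPrime

set_option autoImplicit false
open Cfsg

namespace Cfsg.Agent.S4203

universe u

theorem aux : ∀ (n : ℕ) (G : Type u) [Group G] [Finite G], Nat.card G ≤ n →
    (∀ M : Subgroup G, IsCoatom M → ∃ p : ℕ, p.Prime ∧ (M.index = p ∨ M.index = p ^ 2)) →
    Group.IsSolvable G := by
  intro n
  induction n with
  | zero => intro G _ _ h; exact absurd h (by have := Nat.card_pos (α := G); omega)
  | succ n ih =>
  intro G _ _ hn h
  by_cases h1 : Nat.card G = 1
  · have : Subsingleton G := (Nat.card_eq_one_iff_unique.1 h1).1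
    infer_instance
  have hne : (Nat.card G).primeFactors.Nonempty :=
    Nat.nonempty_primeFactors.2 (by have := Nat.card_pos (α := G); omega)
  obtain ⟨p, hpmem, hmax⟩ := Finset.exists_max_image _ id hne
  obtain ⟨hp, hpd, -⟩ := Nat.mem_primeFactors.1 hpmem
  have hmax' : ∀ r : ℕ, r.Prime → r ∣ Nat.card G → r ≤ p := fun r hr hrd =>
    hmax r (Nat.mem_primeFactors.2 ⟨hr, hrd, Nat.card_pos.ne'⟩)
  have : Fact p.Prime := ⟨hp⟩
  obtain ⟨Q⟩ : Nonempty (Sylow p G) := inferInstance
  by_cases hQ : (Q : Subgroup G).Normal
  · have hQs : Group.IsSolvable (Q : Subgroup G) := by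
      have := Q.isPGroup'.isNilpotent
      infer_instance
    have hquot : Group.IsSolvable (G ⧸ (Q : Subgroup G)) := by
      refine ih _ ?_ fun M hM => ?_
      · have e := Subgroup.card_mul_index (Q : Subgroup G)
        rw [← Subgroup.index_eq_card]
        have h2 : 1 < Nat.card (Q : Subgroup G) :=
          (Subgroup.one_lt_card_iff_ne_bot _).2 (Q.ne_bot_of_dvd_card hpd)
        have h3 : 0 < (Q : Subgroup G).index := Nat.pos_of_ne_zero Subgroup.index_ne_zero_of_finite
        nlinarith
      · have hs := QuotientGroup.mk'_surjective (Q : Subgroup G)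
        have hM' : IsCoatom (M.comap (QuotientGroup.mk' (Q : Subgroup G))) := by
          refine ⟨fun e => hM.1 ?_, fun L hL => ?_⟩
          · rw [← Subgroup.map_comap_eq_self_of_surjective hs M, e, Subgroup.map_top_of_surjective _ hs]
          · have hker : (QuotientGroup.mk' (Q : Subgroup G)).ker ≤ L :=
              (Subgroup.ker_le_comap _ M).trans hL.le
            have e : (L.map (QuotientGroup.mk' (Q : Subgroup G))).comap (QuotientGroup.mk' (Q : Subgroup G)) = L := by
              rw [Subgroup.comap_map_eq, sup_eq_left.2 hker]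
            have hlt : M < L.map (QuotientGroup.mk' (Q : Subgroup G)) := by
              refine lt_of_le_of_ne ?_ fun e2 => hL.ne (by rw [e2, e])
              rw [← Subgroup.map_comap_eq_self_of_surjective hs M]
              exact Subgroup.map_mono hL.le
            rw [← e, hM.2 _ hlt, Subgroup.comap_top]
        obtain ⟨r, hr, hr'⟩ := h _ hM'
        rw [Subgroup.index_comap_of_surjective _ hs] at hr'
        exact ⟨r, hr, hr'⟩
    exact Group.isSolvable_of_ker_le_range (Q : Subgroup G).subtype
      (QuotientGroup.mk' (Q : Subgroup G)) (by simp)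
  · have hN : Subgroup.normalizer ((Q : Subgroup G) : Set G) ≠ ⊤ := fun e =>
      hQ (Subgroup.normalizer_eq_top_iff.1 e)
    obtain ⟨M, hM, hle⟩ := (eq_top_or_exists_le_coatom _).resolve_left hN
    have hQM : (Q : Subgroup G) ≤ M := Subgroup.le_normalizer.trans hle
    have hmod : M.index ≡ 1 [MOD p] := by
      have e1 := card_sylow_modEq_one p G
      rw [Q.card_eq_index_normalizer] at e1
      replace e1 : (Subgroup.normalizer ((Q : Subgroup G) : Set G)).index ≡ 1 [MOD p] := e1
      rw [← Subgroup.relIndex_mul_index hle] at e1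
      have e2 := card_sylow_modEq_one p M
      rw [(Q.subtype hQM).card_eq_index_normalizer] at e2
      replace e2 : (Subgroup.normalizer (((Q.subtype hQM : Sylow p M) : Subgroup M) : Set M)).index
        ≡ 1 [MOD p] := e2
      have e3 : (Subgroup.normalizer ((Q : Subgroup G) : Set G)).relIndex M =
          (Subgroup.normalizer (((Q.subtype hQM : Sylow p M) : Subgroup M) : Set M)).index := by
        rw [Subgroup.relIndex]
        congr 1
        ext m
        constructor
        · intro hm
          apply Subgroup.mem_normalizer_fintype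
          intro y hy
          exact Subgroup.mem_subgroupOf.2
            ((Subgroup.mem_normalizer_iff.1 (Subgroup.mem_subgroupOf.1 hm) y).1 (Subgroup.mem_subgroupOf.1 hy))
        · intro hm
          refine Subgroup.mem_subgroupOf.2 ?_
          apply Subgroup.mem_normalizer_fintype
          intro y hy
          exact Subgroup.mem_subgroupOf.1
            ((Subgroup.mem_normalizer_iff.1 hm ⟨y, hQM hy⟩).1 (Subgroup.mem_subgroupOf.2 hy))
      rw [e3] at e1
      have e4 := (e2.mul_right M.index).symm.trans e1
      rwa [one_mul] at e4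
    obtain ⟨r, hr, hr'⟩ := h M hM
    have hrd : r ∣ M.index := by
      rcases hr' with e | e <;> rw [e]
      exact dvd_pow_self r two_ne_zero
    have hrp : r ≠ p := by
      rintro rfl
      exact Q.not_dvd_index (hrd.trans (Subgroup.index_dvd_of_le hQM))
    have hlt : r < p := lt_of_le_of_ne (hmax' r hr (hrd.trans M.index_dvd_card)) hrp
    have h23 : r = 2 ∧ p = 3 := by
      have hp2 : 2 < p := lt_of_le_of_lt hr.two_le hlt
      rcases hr' with e | e
      · rw [e, Nat.ModEq, Nat.mod_eq_of_lt hlt, Nat.one_mod_eq_one.2 (by omega)] at hmod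
        exact absurd hmod hr.ne_one
      · rw [e] at hmod
        have hd := (Nat.modEq_iff_dvd' (Nat.one_le_pow _ _ hr.pos)).1 hmod.symm
        rw [show r ^ 2 - 1 = (r + 1) * (r - 1) from Nat.sq_sub_sq r 1] at hd
        rcases hp.dvd_mul.1 hd with hd' | hd'
        · have e1 : p = r + 1 := le_antisymm (Nat.le_of_dvd (by omega) hd') (by omega)
          rcases hr.eq_two_or_odd with e2 | e2 <;> rcases hp.eq_two_or_odd with e3 | e3 <;>
            first | omega | exact ⟨e2, by omega⟩
        · have := Nat.le_of_dvd (by have := hr.two_le; omega) hd'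
          omega
    refine H33.isSolvable_of_two_primes Nat.prime_two Nat.prime_three fun s hs hsd => ?_
    have := hmax' s hs hsd
    have := hs.two_le
    omega

/-- A finite group in which every maximal subgroup has index a prime or the square of a prime is solvable. -/
theorem result {G : Type*} [Group G] [Finite G] (h : ∀ M : Subgroup G, IsCoatom M → ∃ p : ℕ, p.Prime ∧ (M.index = p ∨ M.index = p ^ 2)) : Group.IsSolvable G :=
  aux (Nat.card G) G le_rfl h

end Cfsg.Agent.S4203
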