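import Cfsg.Statements.S4206
import Mathlib.GroupTheory.Nilpotent

set_option autoImplicit false
open Cfsg

namespace Cfsg.Agent.S4206

/-- Let `H 0 ≥ H 1 ≥ H 2 ≥ ⋯` be normal subgroups of a finite group and `L` a subgroup with `⁅H i, L⁆ ≤ H (i+1)` for all `i`. Then `⁅H i, γ⁆ ≤ H (i + j + 1)` where `γ` is the `j`-th term of the lower central series of `L` (indexed from `0`, so the term with index `j` is the `(j+1)`-fold commutator). -/
theorem result {G : Type*} [Group G] [Finite G] (H : ℕ → Subgroup G) (hN : ∀ i, (H i).Normal) (hdesc : ∀ i, H (i + 1) ≤ H i) (L : Subgroup G) (hL : ∀ i, ⁅H i, L⁆ ≤ H (i + 1)) (i j : ℕ) : ⁅H i, L.lowerCentralSeries j⁆ ≤ H (i + j + 1) := by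
  induction j generalizing i with
  | zero =>
    rw [Subgroup.lowerCentralSeries_zero]
    exact hL i
  | succ j ih =>
    rw [Subgroup.lowerCentralSeries_succ, Subgroup.commutator_comm]
    set X := L.lowerCentralSeries j with hX
    have := hN (i + (j + 1) + 1)
    let π := QuotientGroup.mk' (H (i + (j + 1) + 1))
    have key : ∀ A B : Subgroup G, ⁅A, B⁆ ≤ H (i + (j + 1) + 1) → ⁅A.map π, B.map π⁆ = ⊥ := by
      intro A B h
      rw [← Subgroup.map_commutator, Subgroup.map_eq_bot_iff, QuotientGroup.ker_mk']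
      exact h
    suffices h : ⁅⁅X.map π, L.map π⁆, (H i).map π⁆ = ⊥ by
      rw [← Subgroup.map_commutator, ← Subgroup.map_commutator, Subgroup.map_eq_bot_iff,
        QuotientGroup.ker_mk'] at h
      exact h
    refine Subgroup.commutator_commutator_eq_bot_of_rotate ?_ ?_
    · -- `⁅⁅L, H i⁆, X⁆`
      rw [← Subgroup.map_commutator]
      refine key _ _ (le_trans (Subgroup.commutator_mono ?_ le_rfl) ((ih (i + 1)).trans (le_of_eq ?_)))
      · rw [Subgroup.commutator_comm]; exact hL i
      · exact congrArg H (by omega)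
    · -- `⁅⁅H i, X⁆, L⁆`
      rw [← Subgroup.map_commutator]
      refine key _ _ (le_trans (Subgroup.commutator_mono (ih i) le_rfl) ((hL _).trans (le_of_eq ?_)))
      exact congrArg H (by omega)

end Cfsg.Agent.S4206
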