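import Cfsg.Statements.S4212
import Cfsg.Agent.H5.RootCount
-- import your own Cfsg.Agent.* helpers here

set_option autoImplicit false
open Cfsg

namespace Cfsg.Agent.S4212

/-- Let `G` be a finite group of order `g`, `c` an element whose conjugacy class has `h` elements, and `n` a natural number. Then the number of elements `x` of `G` with `x^n` conjugate to `c` is a multiple of `gcd(hn, g)`. -/
theorem result {G : Type*} [Group G] [Finite G] (c : G) (n : ℕ) : Nat.gcd (Nat.card {y : G // IsConj c y} * n) (Nat.card G) ∣ Nat.card {x : G // IsConj c (x ^ n)} := by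
  classical
  cases nonempty_fintype G
  set C := Subgroup.centralizer ({c} : Set G) with hC
  have hroots : ∀ y : G, IsConj c y →
      Nat.card {x : G // x ^ n = y} = Nat.card {x : G // x ^ n = c} := by
    intro y hy
    obtain ⟨g, rfl⟩ := isConj_iff.mp hy
    refine (Nat.card_congr ((MulAut.conj g).toEquiv.subtypeEquiv fun z => ?_)).symm
    show z ^ n = c ↔ (g * z * g⁻¹) ^ n = g * c * g⁻¹
    rw [conj_pow, mul_right_cancel_iff, mul_left_cancel_iff]
  have hcount : Nat.card {x : G // IsConj c (x ^ n)} =
      Nat.card {y : G // IsConj c y} * Nat.card {x : G // x ^ n = c} := by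
    rw [← Nat.card_congr (Equiv.sigmaFiberEquiv
      (fun x : {x : G // IsConj c (x ^ n)} => (⟨x.1 ^ n, x.2⟩ : {y : G // IsConj c y}))),
      Nat.card_sigma]
    have : ∀ y : {y : G // IsConj c y}, Nat.card {x : {x : G // IsConj c (x ^ n)} //
        (⟨x.1 ^ n, x.2⟩ : {y : G // IsConj c y}) = y} = Nat.card {x : G // x ^ n = c} := by
      intro y
      rw [← hroots y.1 y.2]
      exact Nat.card_congr
        { toFun := fun x => ⟨x.1.1, congrArg Subtype.val x.2⟩
          invFun := fun x => ⟨⟨x.1, by rw [x.2]; exact y.2⟩, Subtype.ext x.2⟩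
          left_inv := fun _ => rfl
          right_inv := fun _ => rfl }
    rw [Finset.sum_congr rfl fun y _ => this y, Finset.sum_const, smul_eq_mul, Finset.card_univ,
      Nat.card_eq_fintype_card (α := {y : G // IsConj c y})]
  have hclass : Nat.card {y : G // IsConj c y} = C.index := by
    rw [← H27.card_carrier_eq_index c]
    exact Nat.card_congr (Equiv.subtypeEquivRight fun y => by
      rw [ConjClasses.mem_carrier_iff_mk_eq, ConjClasses.mk_eq_mk_iff_isConj, isConj_comm])
  have hcC : c ∈ C := Subgroup.mem_centralizer_singleton_iff.mpr rfl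
  have hrootsC : Nat.card {x : G // x ^ n = c} = Nat.card {x : C // x ^ n = ⟨c, hcC⟩} :=
    Nat.card_congr
      { toFun := fun x => ⟨⟨x.1, Subgroup.mem_centralizer_singleton_iff.mpr (by
          obtain ⟨v, hv⟩ := x
          subst hv
          exact (Commute.self_pow v n).eq)⟩, Subtype.ext x.2⟩
        invFun := fun x => ⟨x.1.1, congrArg Subtype.val x.2⟩
        left_inv := fun _ => rfl
        right_inv := fun _ => rfl }
  rw [hcount, hclass, hrootsC, ← Subgroup.card_mul_index C, mul_comm (Nat.card C),
    Nat.gcd_mul_left]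
  refine Nat.mul_dvd_mul_left _ (H5.gcd_dvd_card_roots (fun g => Subtype.ext ?_) n)
  exact (Subgroup.mem_centralizer_singleton_iff.mp g.2).symm
end Cfsg.Agent.S4212
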