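import Cfsg.Agent.H1.Hall
import Cfsg.Agent.H3.MinNormal
import Cfsg.Agent.H27.SolCount
import Cfsg.Statements.S4213
-- import your own Cfsg.Agent.* helpers here

set_option autoImplicit false
open Cfsg

namespace Cfsg.Agent.S4213

universe u

open Subgroup in
theorem aux : ∀ (N : ℕ) (G : Type u) [Group G] [Finite G] [Group.IsSolvable G],
    Nat.card G ≤ N → ∀ n : ℕ, n ∣ Nat.card G → Nat.card {x : G // x ^ n = 1} = n →
    ∃ H : Subgroup G, (H : Set G) = {x : G | x ^ n = 1} := by
  intro N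
  induction N with
  | zero => intro G _ _ _ hN; exact absurd (Nat.card_pos (α := G)) (by omega)
  | succ N ih =>
  intro G _ _ _ hN n hn hcount
  rcases subsingleton_or_nontrivial G with hs | hs
  · exact ⟨⊤, Set.ext fun x => iff_of_true trivial (by simp [Subsingleton.elim x 1])⟩
  have hn0 : 0 < n := Nat.pos_of_dvd_of_pos hn Nat.card_pos
  obtain ⟨V, hV, hV0, hVmin⟩ := H3.exists_minNormal (G := G)
  obtain ⟨hVc, p, hp, hVp, -, a, ha, hVcard⟩ := H3.minNormal_elementary V hV0 hVmin
  have hQ := card_eq_card_quotient_mul_card_subgroup V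
  have hQpos : 0 < Nat.card (G ⧸ V) := Nat.card_pos
  have hlt : Nat.card (G ⧸ V) ≤ N := by
    have h2 : 1 < Nat.card V := V.one_lt_card_iff_ne_bot.mpr hV0
    nlinarith
  haveI : Group.IsSolvable (G ⧸ V) := Group.isSolvable_of_surjective (QuotientGroup.mk'_surjective V)
  have hfrob : ∀ m, m ∣ Nat.card (G ⧸ V) → m ≤ Nat.card {y : G ⧸ V // y ^ m = 1} := by
    intro m hm
    haveI : Nonempty {y : G ⧸ V // y ^ m = 1} := ⟨⟨1, one_pow m⟩⟩
    refine Nat.le_of_dvd Nat.card_pos ?_
    have h := H27.gcd_card_dvd_card_pow_eq_one (G ⧸ V) m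
    rwa [Nat.gcd_eq_left hm] at h
  have hkerQ : ∀ x : G, QuotientGroup.mk' V x = 1 ↔ x ∈ V := fun x => QuotientGroup.eq_one_iff x
  by_cases hpn : p ∣ n
  · set d := Nat.gcd n (p ^ a) with hd
    set m := n / d with hm
    have hd0 : 0 < d := Nat.gcd_pos_of_pos_left _ hn0
    have hmd : m * d = n := Nat.div_mul_cancel (Nat.gcd_dvd_left _ _)
    have hed : p ^ a / d * d = p ^ a := Nat.div_mul_cancel (Nat.gcd_dvd_right _ _)
    have hmQ : m ∣ Nat.card (G ⧸ V) := by
      have hcop : Nat.Coprime m (p ^ a / d) := Nat.coprime_div_gcd_div_gcd hd0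
      refine hcop.dvd_of_dvd_mul_right ?_
      refine Nat.dvd_of_mul_dvd_mul_right hd0 ?_
      rw [hmd, mul_assoc, hed, ← hVcard, ← hQ]
      exact hn
    have hpd : p ∣ d := Nat.dvd_gcd hpn (dvd_pow_self p (by omega))
    have hlift : ∀ x : G, (QuotientGroup.mk' V x) ^ m = 1 → x ^ n = 1 := by
      intro x hx
      rw [← map_pow, hkerQ] at hx
      obtain ⟨c, hc⟩ := hpd
      rw [← hmd, pow_mul, hc, pow_mul, hVp _ hx, one_pow]
    set T : Set G := {x : G | (QuotientGroup.mk' V x) ^ m = 1} with hT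
    have hTcard : Nat.card T = Nat.card {y : G ⧸ V // y ^ m = 1} * Nat.card V := by
      rw [mul_comm, ← Nat.card_prod]
      exact Nat.card_congr
        (QuotientGroup.preimageMkEquivSubgroupProdSet V {y : G ⧸ V | y ^ m = 1})
    have hTle : Nat.card T ≤ n := by
      refine le_of_le_of_eq (Nat.card_le_card_of_injective
        (fun x : T => (⟨x.1, hlift x.1 x.2⟩ : {x : G // x ^ n = 1})) ?_) hcount
      exact fun x y h => Subtype.ext (by simpa using h)
    have hm1 := hfrob m hmQ
    have hmpos : 0 < m := Nat.pos_of_dvd_of_pos hmQ hQpos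
    have hdle : d ≤ p ^ a := Nat.le_of_dvd (pow_pos hp.pos a) (Nat.gcd_dvd_right _ _)
    rw [hTcard, hVcard] at hTle
    have hcm : Nat.card {y : G ⧸ V // y ^ m = 1} = m := by nlinarith
    have hda : p ^ a = d := by nlinarith
    obtain ⟨H, hH⟩ := ih (G ⧸ V) hlt m hmQ hcm
    refine ⟨H.comap (QuotientGroup.mk' V), ?_⟩
    refine Set.eq_of_subset_of_ncard_le (fun x hx => hlift x ((Set.ext_iff.mp hH _).mp hx)) ?_
      (Set.toFinite _)
    have hpre : ((H.comap (QuotientGroup.mk' V) : Subgroup G) : Set G) = T := by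
      ext x
      exact Set.ext_iff.mp hH (QuotientGroup.mk' V x)
    rw [hpre, ← Nat.card_coe_set_eq, ← Nat.card_coe_set_eq, hTcard, hcm, hVcard, hda, hmd]
    exact hcount.le
  · have hcop : n.Coprime (p ^ a) := ((hp.coprime_iff_not_dvd.mpr hpn).symm).pow_right a
    have hnQ : n ∣ Nat.card (G ⧸ V) := hcop.dvd_of_dvd_mul_right (hVcard ▸ hQ ▸ hn)
    let f : {x : G // x ^ n = 1} → {y : G ⧸ V // y ^ n = 1} :=
      fun x => ⟨QuotientGroup.mk' V x.1, by rw [← map_pow, x.2, map_one]⟩
    have hf : Function.Surjective f := by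
      rintro ⟨y, hy⟩
      obtain ⟨x, rfl⟩ := QuotientGroup.mk'_surjective V y
      rw [← map_pow, hkerQ] at hy
      obtain ⟨k, hk⟩ := exists_pow_eq_self_of_coprime
        (hcop.symm.coprime_dvd_right (orderOf_dvd_of_pow_eq_one
          (show (QuotientGroup.mk' V x) ^ n = 1 by rw [← map_pow, hkerQ]; exact hy)))
      have hx : x ^ (p ^ a * n) = 1 := by
        rw [mul_comm, pow_mul]
        have h1 := pow_card_eq_one' (x := (⟨x ^ n, hy⟩ : V))
        rw [hVcard] at h1
        exact congrArg Subtype.val h1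
      refine ⟨⟨(x ^ p ^ a) ^ k, ?_⟩, Subtype.ext ?_⟩
      · rw [← pow_mul, ← pow_mul, mul_comm k n, ← mul_assoc, pow_mul, hx, one_pow]
      · simp only [f, map_pow]
        exact hk
    have hle : Nat.card {y : G ⧸ V // y ^ n = 1} ≤ n :=
      le_of_le_of_eq (Nat.card_le_card_of_surjective f hf) hcount
    have hcn : Nat.card {y : G ⧸ V // y ^ n = 1} = n := le_antisymm hle (hfrob n hnQ)
    obtain ⟨H, hH⟩ := ih (G ⧸ V) hlt n hnQ hcn
    have hHc : Nat.card H = n := by
      refine Eq.trans ?_ hcn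
      exact Nat.card_congr (Equiv.subtypeEquivRight fun y => Set.ext_iff.mp hH y)
    set M : Subgroup G := H.comap (QuotientGroup.mk' V) with hM
    have hVM : V ≤ M := fun x hx => by
      show QuotientGroup.mk' V x ∈ H
      rw [(hkerQ x).mpr hx]
      exact one_mem H
    have hi : (V.subgroupOf M).index = n := by
      have h := (V.subgroupOf M).card_mul_index
      have hc : Nat.card M = Nat.card V * n := by
        rw [hM, H1.card_comap_mk', hHc]
      rw [Nat.card_congr (subgroupOfEquivOfLe hVM).toEquiv, hc] at h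
      exact Nat.eq_of_mul_eq_mul_left Nat.card_pos h
    obtain ⟨B, hB⟩ := exists_right_complement'_of_coprime (N := V.subgroupOf M)
      (by rw [Nat.card_congr (subgroupOfEquivOfLe hVM).toEquiv, hVcard, hi]; exact hcop.symm)
    have hBc : Nat.card B = n := by rw [← hB.symm.index_eq_card, hi]
    refine ⟨B.map M.subtype, Set.eq_of_subset_of_ncard_le ?_ ?_ (Set.toFinite _)⟩
    · rintro _ ⟨x, hx, rfl⟩
      have h1 := pow_card_eq_one' (x := (⟨x, hx⟩ : B))
      rw [hBc] at h1
      exact congrArg (fun z : B => ((z : M) : G)) h1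
    · rw [← Nat.card_coe_set_eq, ← Nat.card_coe_set_eq]
      refine le_of_eq_of_le hcount (le_of_eq ?_)
      exact (hBc.symm.trans (Nat.card_congr (B.equivMapOfInjective _ M.subtype_injective).toEquiv))

/-- If `G` is a finite solvable group and `n` divides the order of `G` and exactly `n` elements `x` of `G` satisfy `x^n = 1`, then these elements form a normal subgroup. -/
theorem result {G : Type*} [Group G] [Finite G] [Group.IsSolvable G] (n : ℕ) (hn : n ∣ Nat.card G) (hcount : Nat.card {x : G // x ^ n = 1} = n) : ∃ H : Subgroup G, H.Normal ∧ (H : Set G) = {x : G | x ^ n = 1} := by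
  obtain ⟨H, hH⟩ := aux (Nat.card G) G le_rfl n hn hcount
  refine ⟨H, ⟨fun x hx g => ?_⟩, hH⟩
  have hx' : x ^ n = 1 := (Set.ext_iff.mp hH x).mp hx
  refine (Set.ext_iff.mp hH _).mpr ?_
  show (g * x * g⁻¹) ^ n = 1
  rw [conj_pow, hx', mul_one, mul_inv_cancel]

end Cfsg.Agent.S4213
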