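import Cfsg.Agent.H1.Hall
import Cfsg.Agent.H3.MinNormal
import Cfsg.Statements.S4214
-- import your own Cfsg.Agent.* helpers here

set_option autoImplicit false
open Cfsg

namespace Cfsg.Agent.S4214

universe u

open Subgroup
open scoped Pointwise

set_option linter.style.haveILetI false

/-- The index of the fixed points of a solvable group acting coprimely on a `q`-group is a product
of powers of `q` that are `1` modulo primes dividing the order of the acting group. -/
theorem fixed_index {G : Type u} [Group G] [Finite G] (H : Subgroup G) [Group.IsSolvable H]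
    {q : ℕ} (hq : q.Prime) :
    ∀ (n : ℕ) (W : Subgroup G), Nat.card W ≤ n → H ≤ normalizer (W : Set G) →
      IsPGroup q W → (Nat.card H).Coprime (Nat.card W) →
      ∃ l : List ℕ, (centralizer (H : Set G)).relIndex W = l.prod ∧
        ∀ f ∈ l, (∃ e, f = q ^ e) ∧ f ∣ Nat.card W ∧
          ∃ r : ℕ, r.Prime ∧ r ∣ Nat.card H ∧ f ≡ 1 [MOD r] := by
  intro n
  induction n with
  | zero => intro W hn; exact absurd (Nat.card_pos (α := W)) (by omega)
  | succ n ih =>
  intro W hn hHW hWq hcop
  haveI := Fact.mk hq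
  by_cases hc : W ≤ centralizer (H : Set G)
  · exact ⟨[], by rw [relIndex_eq_one.mpr hc, List.prod_nil], by simp⟩
  let φ : H →* MulAut W := W.normalizerMonoidHom.comp (inclusion hHW)
  have hφ : ∀ (h : H) (w : W), ((φ h w : W) : G) = (h : G) * w * (h : G)⁻¹ := fun h w => rfl
  haveI : Nontrivial φ.range := by
    rw [nontrivial_iff_ne_bot]
    intro hb
    refine hc fun w hw => ?_
    rw [mem_centralizer_iff]
    intro h hh
    have h1 : φ ⟨h, hh⟩ = 1 := (mem_bot (x := φ ⟨h, hh⟩)).mp (hb ▸ ⟨_, rfl⟩)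
    have h2 := congrArg (fun ψ : MulAut W => ((ψ ⟨w, hw⟩ : W) : G)) h1
    simp only [hφ, MulAut.one_apply] at h2
    exact mul_inv_eq_iff_eq_mul.mp h2
  haveI : Group.IsSolvable φ.range :=
    Group.isSolvable_of_surjective φ.rangeRestrict_surjective
  haveI : Finite (MulAut W) := inferInstance
  obtain ⟨r, V, hr, hVn, hV0, hVr⟩ := H1.exists_normal_pgroup_ne_bot φ.range
  haveI := Fact.mk hr
  have hrH : r ∣ Nat.card H := by
    have h1 : r ∣ Nat.card φ.range := by
      obtain ⟨k, hk⟩ := IsPGroup.iff_card.mp hVr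
      refine dvd_trans ?_ (card_subgroup_dvd_card V)
      rw [hk]
      refine dvd_pow_self r fun h0 => hV0 ?_
      exact card_eq_one.mp (by rw [hk, h0, pow_zero])
    exact h1.trans (card_range_dvd φ)
  let ι : V →* MulAut W := φ.range.subtype.comp V.subtype
  letI : MulAction V W := MulAction.compHom W ι
  let F : Subgroup W :=
    { carrier := {w | ∀ v : V, ι v w = w}
      mul_mem' := fun {a b} ha hb v => by rw [map_mul, ha v, hb v]
      one_mem' := fun v => map_one _
      inv_mem' := fun {a} ha v => by rw [map_inv, ha v] }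
  have hmod : Nat.card W ≡ Nat.card F [MOD r] :=
    hVr.card_modEq_card_fixedPoints W
  have hF : F ≠ ⊤ := by
    intro hF
    refine hV0 (le_bot_iff.mp fun v hv => mem_bot.mpr (Subtype.ext (MulEquiv.ext fun w => ?_)))
    exact (hF ▸ mem_top w : w ∈ F) ⟨v, hv⟩
  set W' : Subgroup G := F.map W.subtype with hW'
  have hW'le : W' ≤ W := map_subtype_le F
  have hW'c : Nat.card W' = Nat.card F :=
    (Nat.card_congr (F.equivMapOfInjective _ W.subtype_injective).toEquiv).symm
  have hlt : Nat.card W' ≤ n := by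
    rw [hW'c]
    have h1 := card_subgroup_dvd_card F
    have h2 : Nat.card F ≠ Nat.card W := fun e => hF (eq_top_of_card_eq F e)
    have h3 := Nat.le_of_dvd Nat.card_pos h1
    omega
  have hHW' : H ≤ normalizer (W' : Set G) := by
    intro h hh
    refine mem_normalizer_fintype ?_
    rintro _ ⟨w, hw, rfl⟩
    refine ⟨φ ⟨h, hh⟩ w, fun v => ?_, rfl⟩
    have hv : (⟨φ ⟨h, hh⟩, ⟨_, rfl⟩⟩ : φ.range)⁻¹ * v * ⟨φ ⟨h, hh⟩, ⟨_, rfl⟩⟩ ∈ V :=
      hVn.conj_mem' v v.2 _
    have h1 : (φ ⟨h, hh⟩)⁻¹ (ι v (φ ⟨h, hh⟩ w)) = w := hw ⟨_, hv⟩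
    have h2 := congrArg (φ ⟨h, hh⟩) h1
    rwa [MulAut.apply_inv_self] at h2
  have hcopW' : (Nat.card H).Coprime (Nat.card W') :=
    hcop.coprime_dvd_right (card_dvd_of_le hW'le)
  obtain ⟨l, hl, hlp⟩ := ih W' hlt hHW' (hWq.to_le hW'le) hcopW'
  refine ⟨W'.relIndex W :: l, ?_, ?_⟩
  · rw [List.prod_cons, ← hl, ← inf_relIndex_right, ← inf_relIndex_right (K := W'),
      mul_comm, show centralizer (H : Set G) ⊓ W = centralizer (H : Set G) ⊓ W' from ?_]
    · exact (relIndex_mul_relIndex _ _ _ inf_le_right hW'le).symm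
    refine le_antisymm (le_inf inf_le_left ?_) (inf_le_inf_left _ hW'le)
    intro w hw
    refine ⟨⟨w, hw.2⟩, fun v => Subtype.ext ?_, rfl⟩
    obtain ⟨h, hh⟩ := MonoidHom.mem_range.mp ((v : φ.range).2)
    show (((v : φ.range) : MulAut W) ⟨w, hw.2⟩ : W).1 = w
    rw [← hh, hφ, mem_centralizer_iff.mp hw.1 _ h.2, mul_inv_cancel_right]
  · intro f hf
    rcases List.mem_cons.mp hf with rfl | hf
    · obtain ⟨e, he⟩ := IsPGroup.iff_card.mp hWq
      have hd : W'.relIndex W ∣ Nat.card W := relIndex_dvd_card W' W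
      refine ⟨?_, hd, r, hr, hrH, ?_⟩
      · obtain ⟨e', -, he'⟩ := (Nat.dvd_prime_pow hq).mp (he ▸ hd)
        exact ⟨e', he'⟩
      · have hmul : Nat.card W' * W'.relIndex W = Nat.card W := by
          rw [← relIndex_bot_left, relIndex_mul_relIndex _ _ _ bot_le hW'le, relIndex_bot_left]
        have hg : Nat.gcd r (Nat.card F) = 1 :=
          (hcop.coprime_dvd_left hrH).coprime_dvd_right (hW'c ▸ card_dvd_of_le hW'le)
        refine Nat.ModEq.cancel_left_of_coprime hg ?_
        rw [mul_one]
        calc Nat.card F * W'.relIndex W = Nat.card W := by rw [← hW'c, hmul]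
          _ ≡ Nat.card F [MOD r] := hmod
    · obtain ⟨h1, h2, h3⟩ := hlp f hf
      exact ⟨h1, h2.trans (card_dvd_of_le hW'le), h3⟩

/-- The number of conjugates of a subgroup `H` of order `m`, all such being conjugate. -/
theorem card_eq_index_normalizer {G : Type u} [Group G] [Finite G] {m : ℕ} (H : Subgroup G)
    (hH : Nat.card H = m)
    (hconj : ∀ K : Subgroup G, Nat.card K = m → ∃ g : G, MulAut.conj g • H = K) :
    Nat.card {K : Subgroup G // Nat.card K = m} = (normalizer (H : Set G)).index := by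
  have key : ∀ a b : G, MulAut.conj a • H = MulAut.conj b • H ↔
      a⁻¹ * b ∈ normalizer (H : Set G) := by
    intro a b
    rw [mem_normalizer_iff]
    constructor
    · intro h y
      have h1 := SetLike.ext_iff.mp h (b * y * b⁻¹)
      rw [H1.mem_conj_smul_iff, H1.mem_conj_smul_iff] at h1
      simp only [← mul_assoc, inv_mul_cancel, one_mul, inv_mul_cancel_right] at h1
      rw [← h1]
      simp [mul_assoc]
    · intro h
      ext x
      rw [H1.mem_conj_smul_iff, H1.mem_conj_smul_iff, h (b⁻¹ * x * b)]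
      simp [mul_assoc]
  let f : G ⧸ normalizer (H : Set G) → {K : Subgroup G // Nat.card K = m} := Quotient.lift
    (fun a : G => (⟨MulAut.conj a • H, by rw [H1.card_conj_smul, hH]⟩ :
      {K : Subgroup G // Nat.card K = m}))
    (fun a b hab => Subtype.ext ((key a b).mpr (QuotientGroup.leftRel_apply.mp hab)))
  refine (Nat.card_congr (Equiv.ofBijective f ⟨?_, ?_⟩)).symm
  · intro a b hab
    induction a using QuotientGroup.induction_on with
    | _ a =>
    induction b using QuotientGroup.induction_on with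
    | _ b =>
    exact QuotientGroup.eq.mpr ((key a b).mp (congrArg Subtype.val hab))
  · rintro ⟨K, hK⟩
    obtain ⟨g, hg⟩ := hconj K hK
    exact ⟨(g : G ⧸ normalizer (H : Set G)), Subtype.ext hg⟩

theorem relIndex_sup_eq {G : Type u} [Group G] [Finite G] (A V : Subgroup G) [V.Normal] :
    A.relIndex (A ⊔ V) = A.relIndex V := by
  have h1 := relIndex_mul_relIndex ⊥ A (A ⊔ V) bot_le le_sup_left
  have h2 := relIndex_mul_relIndex ⊥ V (A ⊔ V) bot_le le_sup_right
  have h3 := relIndex_mul_relIndex ⊥ (A ⊓ V) A bot_le inf_le_left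
  have h4 := relIndex_mul_relIndex ⊥ (A ⊓ V) V bot_le inf_le_right
  rw [inf_relIndex_left] at h3
  rw [inf_relIndex_right] at h4
  rw [relIndex_sup_right] at h2
  simp only [relIndex_bot_left] at h1 h2 h3 h4
  refine Nat.eq_of_mul_eq_mul_left (Nat.card_pos (α := A)) ?_
  rw [h1, ← h2, ← h4, ← h3]
  ring

/-- The properties of the factors. -/
def Good (G : Type u) [Group G] (m f : ℕ) : Prop :=
  (∃ q e : ℕ, q.Prime ∧ f = q ^ e) ∧
    (∃ K L : Subgroup G, K.Normal ∧ L.Normal ∧ K < L ∧
      (∀ M : Subgroup G, M.Normal → K ≤ M → M ≤ L → M = K ∨ M = L) ∧ f ∣ K.relIndex L) ∧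
    (∃ q : ℕ, q.Prime ∧ q ∣ m ∧ f ≡ 1 [MOD q])

theorem good_of_quotient {G : Type u} [Group G] (V : Subgroup G) [V.Normal] {m m' f : ℕ}
    (hm : m' ∣ m) (h : Good (G ⧸ V) m' f) : Good G m f := by
  obtain ⟨h1, ⟨K, L, hK, hL, hKL, hmin, hd⟩, ⟨r, hr, hrm, hmod⟩⟩ := h
  set π := QuotientGroup.mk' V with hπ
  have hs : Function.Surjective π := QuotientGroup.mk'_surjective V
  refine ⟨h1, ⟨K.comap π, L.comap π, hK.comap π, hL.comap π,
    (comap_lt_comap_of_surjective hs).mpr hKL, fun M hM h2 h3 => ?_, ?_⟩,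
    ⟨r, hr, hrm.trans hm, hmod⟩⟩
  · have hVM : π.ker ≤ M := le_trans (ker_le_comap π K) h2
    have hMc : (M.map π).comap π = M := comap_map_eq_self hVM
    rcases hmin (M.map π) (hM.map π hs)
      (by have := map_mono (f := π) h2; rwa [map_comap_eq_self_of_surjective hs] at this)
      (by have := map_mono (f := π) h3; rwa [map_comap_eq_self_of_surjective hs] at this) with e | e
    · exact Or.inl (by rw [← hMc, e])
    · exact Or.inr (by rw [← hMc, e])
  · rw [relIndex_comap, map_comap_eq_self_of_surjective hs]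
    exact hd

theorem aux : ∀ (N : ℕ) (G : Type u) [Group G] [Finite G] [Group.IsSolvable G], Nat.card G ≤ N →
    ∀ m n : ℕ, Nat.card G = m * n → Nat.Coprime m n →
    ∃ l : List ℕ, Nat.card {H : Subgroup G // Nat.card H = m} = l.prod ∧ ∀ f ∈ l, Good G m f := by
  intro N
  induction N with
  | zero => intro G _ _ _ hN; exact absurd (Nat.card_pos (α := G)) (by omega)
  | succ N ih =>
  intro G _ _ _ hN m n hG hmn
  obtain ⟨H, hH⟩ := H1.hall_exists m n hG hmn
  rcases subsingleton_or_nontrivial G with hs | hs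
  · refine ⟨[], ?_, by simp⟩
    rw [List.prod_nil]
    exact Nat.card_eq_one_iff_unique.mpr ⟨⟨fun a b => Subsingleton.elim _ _⟩, ⟨⟨H, hH⟩⟩⟩
  obtain ⟨V, hV, hV0, hVmin⟩ := H3.exists_minNormal (G := G)
  obtain ⟨-, q, hq, -, hVq, a, ha, hVcard⟩ := H3.minNormal_elementary V hV0 hVmin
  have hQ := card_eq_card_quotient_mul_card_subgroup V
  have hQpos : 0 < Nat.card (G ⧸ V) := Nat.card_pos
  have hV1 : 1 < Nat.card V := V.one_lt_card_iff_ne_bot.mpr hV0
  have hlt : Nat.card (G ⧸ V) ≤ N := by nlinarith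
  haveI : Group.IsSolvable (G ⧸ V) :=
    Group.isSolvable_of_surjective (QuotientGroup.mk'_surjective V)
  have hs' := QuotientGroup.mk'_surjective V
  have hdvd : q ^ a ∣ m * n := by rw [← hG, ← hVcard]; exact card_subgroup_dvd_card V
  by_cases hqm : q ∣ m
  · have hcn : (q ^ a).Coprime n := (hmn.coprime_dvd_left hqm).pow_left a
    have hVH : ∀ K : Subgroup G, Nat.card K = m → V ≤ K := fun K hK =>
      H1.le_of_card_coprime hG hmn (hVcard.symm ▸ hcn) hK
    obtain ⟨m', hm'⟩ := hcn.dvd_of_dvd_mul_right hdvd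
    have hQc : Nat.card (G ⧸ V) = m' * n :=
      H1.card_quotient_of_card_eq V hVcard (by rw [hG, hm', mul_assoc])
    obtain ⟨l, hl, hlp⟩ := ih (G ⧸ V) hlt m' n hQc
      (hmn.coprime_dvd_left (hm' ▸ dvd_mul_left _ _))
    refine ⟨l, Eq.trans ?_ hl, fun f hf => good_of_quotient V (hm' ▸ dvd_mul_left _ _) (hlp f hf)⟩
    have hcm : ∀ K : Subgroup (G ⧸ V),
        Nat.card (K.comap (QuotientGroup.mk' V)) = m ↔ Nat.card K = m' := by
      intro K
      rw [H1.card_comap_mk', hVcard, hm']
      exact ⟨fun e => Nat.eq_of_mul_eq_mul_left (pow_pos hq.pos a) e, fun e => by rw [e]⟩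
    refine (Nat.card_congr (Equiv.ofBijective
      (fun K : {K : Subgroup (G ⧸ V) // Nat.card K = m'} =>
        (⟨K.1.comap (QuotientGroup.mk' V), (hcm K.1).mpr K.2⟩ :
          {K : Subgroup G // Nat.card K = m})) ⟨?_, ?_⟩)).symm
    · intro K L h
      exact Subtype.ext (comap_injective hs' (congrArg Subtype.val h))
    · rintro ⟨K, hK⟩
      have hc : (K.map (QuotientGroup.mk' V)).comap (QuotientGroup.mk' V) = K :=
        comap_map_eq_self (by rw [QuotientGroup.ker_mk']; exact hVH K hK)
      exact ⟨⟨K.map (QuotientGroup.mk' V), (hcm _).mp (by rw [hc]; exact hK)⟩, Subtype.ext hc⟩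
  · have hcm : (q ^ a).Coprime m := ((hq.coprime_iff_not_dvd).mpr hqm).pow_left a
    obtain ⟨n', hn'⟩ := hcm.dvd_of_dvd_mul_left hdvd
    have hQc : Nat.card (G ⧸ V) = m * n' :=
      H1.card_quotient_of_card_eq V hVcard (by rw [hG, hn']; ring)
    have hmn' : m.Coprime n' := hmn.coprime_dvd_right (hn' ▸ dvd_mul_left _ _)
    obtain ⟨l, hl, hlp⟩ := ih (G ⧸ V) hlt m n' hQc hmn'
    set π := QuotientGroup.mk' V with hπ
    have hcopHV : (Nat.card V).Coprime (Nat.card H) := by rw [hVcard, hH]; exact hcm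
    have hHb : Nat.card (H.map π) = m := by
      rw [H1.card_map_of_disjoint, hH]
      rw [hπ, QuotientGroup.ker_mk']
      exact (disjoint_of_coprime_natCard hcopHV).symm
    have hidx : (normalizer (H : Set G)).index =
        (normalizer ((H.map π : Subgroup (G ⧸ V)) : Set (G ⧸ V))).index *
          (centralizer (H : Set G)).relIndex V := by
      rw [← relIndex_mul_index (le_sup_left : normalizer (H : Set G) ≤ normalizer (H : Set G) ⊔ V),
        relIndex_sup_eq, mul_comm]
      congr 1
      · rw [← index_comap_of_surjective _ hs']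
        congr 1
        apply le_antisymm
        · refine sup_le (fun g hg => ?_) (fun v hv => ?_)
          · exact (le_normalizer_map π) (mem_map_of_mem π hg)
          · refine mem_comap.mpr ?_
            rw [show π v = 1 from (QuotientGroup.eq_one_iff v).mpr hv]
            exact one_mem _
        · intro g hg
          have hX : MulAut.conj g • H ≤ V ⊔ H := by
            intro x hx
            rw [H1.mem_conj_smul_iff] at hx
            have h1 : π x ∈ H.map π := by
              have h2 := (mem_normalizer_iff.mp hg (π (g⁻¹ * x * g))).mp (mem_map_of_mem π hx)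
              simpa [mul_assoc] using h2
            have h3 : x ∈ (H.map π).comap π := h1
            rwa [comap_map_eq, hπ, QuotientGroup.ker_mk', sup_comm] at h3
          obtain ⟨d, hd, hd'⟩ := H1.exists_conj_eq_of_coprime
            (le_normalizer_of_normal (H := V) (K := H)) hcopHV
            (Or.inl (by infer_instance)) hX (by rw [H1.card_conj_smul])
          have hdg : d⁻¹ * g ∈ normalizer (H : Set G) := by
            refine mem_normalizer_fintype fun y hy => ?_
            have h4 : MulAut.conj g y ∈ MulAut.conj d • H :=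
              hd' ▸ Subgroup.smul_mem_pointwise_smul _ (MulAut.conj g) _ hy
            rw [H1.mem_conj_smul_iff, MulAut.conj_apply] at h4
            show d⁻¹ * g * y * (d⁻¹ * g)⁻¹ ∈ H
            simpa [mul_assoc] using h4
          have h5 := mul_mem (mem_sup_right (S := normalizer (H : Set G)) hd)
            (mem_sup_left (T := V) hdg)
          rwa [mul_inv_cancel_left] at h5
      · rw [← inf_relIndex_right, ← inf_relIndex_right (centralizer (H : Set G))]
        congr 1
        refine le_antisymm (le_inf (fun v hv => ?_) inf_le_right)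
          (inf_le_inf_right _ (centralizer_le_normalizer _))
        rw [mem_centralizer_iff]
        intro h hh
        obtain ⟨hvN, hvV⟩ := mem_inf.mp hv
        have h1 : v * h * v⁻¹ * h⁻¹ ∈ H := mul_mem ((mem_normalizer_iff.mp hvN h).mp hh) (inv_mem hh)
        have h2 : v * h * v⁻¹ * h⁻¹ ∈ V := by
          have h2' := mul_mem hvV (hV.conj_mem _ (inv_mem hvV) h)
          simpa [mul_assoc] using h2'
        have h3 : v * h * v⁻¹ * h⁻¹ = 1 :=
          Subgroup.disjoint_def.mp (disjoint_of_coprime_natCard hcopHV) h2 h1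
        rw [mul_inv_eq_one, mul_inv_eq_iff_eq_mul] at h3
        exact h3.symm
    obtain ⟨l', hl', hlp'⟩ := fixed_index H hq (Nat.card V) V le_rfl
      le_normalizer_of_normal hVq hcopHV.symm
    refine ⟨l ++ l', ?_, fun f hf => ?_⟩
    · rw [card_eq_index_normalizer H hH (fun K hK => H1.hall_conj m n hG hmn H K hH hK), hidx,
        List.prod_append, hl', ← hl, card_eq_index_normalizer (H.map π) hHb
          (fun K hK => H1.hall_conj m n' hQc hmn' _ K hHb hK)]
    rcases List.mem_append.mp hf with hf | hf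
    · exact good_of_quotient V dvd_rfl (hlp f hf)
    · obtain ⟨⟨e, he⟩, h2, r, hr, hrd, hmod⟩ := hlp' f hf
      refine ⟨⟨q, e, hq, he⟩, ⟨⊥, V, inferInstance, hV, bot_lt_iff_ne_bot.mpr hV0,
        fun M hM _ hM2 => hVmin M hM hM2, by rwa [relIndex_bot_left]⟩, ⟨r, hr, hH ▸ hrd, hmod⟩⟩

/-- Let `G` be a finite solvable group of order `mn` with `gcd(m, n) = 1`. Then the number of subgroups of order `m` is a product of natural numbers each of which is a power of a prime, divides the order of some chief factor of `G` (a quotient `L/K` of normal subgroups `K < L` of `G` with no normal subgroup of `G` strictly between them), and is congruent to `1` modulo some prime divisor of `m`. -/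
theorem result {G : Type*} [Group G] [Finite G] [Group.IsSolvable G] (m n : ℕ) (hG : Nat.card G = m * n) (hmn : Nat.Coprime m n) : ∃ (k : ℕ) (f : Fin k → ℕ), Nat.card {H : Subgroup G // Nat.card H = m} = ∏ i, f i ∧ ∀ i, (∃ q e : ℕ, q.Prime ∧ f i = q ^ e) ∧ (∃ K L : Subgroup G, K.Normal ∧ L.Normal ∧ K < L ∧ (∀ M : Subgroup G, M.Normal → K ≤ M → M ≤ L → M = K ∨ M = L) ∧ f i ∣ K.relIndex L) ∧ (∃ q : ℕ, q.Prime ∧ q ∣ m ∧ f i ≡ 1 [MOD q]) := by
  obtain ⟨l, hl, hlp⟩ := aux (Nat.card G) G le_rfl m n hG hmn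
  exact ⟨l.length, fun i => l[i.val], by rw [hl, ← Fin.prod_univ_getElem], fun i => hlp _ (l.getElem_mem _)⟩

end Cfsg.Agent.S4214
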