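import Cfsg.Statements.S4217
import Cfsg.Agent.H36.GaschutzLocal

set_option autoImplicit false
open Cfsg

namespace Cfsg.Agent.S4217

/-- Let `A` be an abelian normal subgroup of the finite group `G`. Then `A` has a complement in `G` if and only if, for every prime `p` dividing the index of `A`, there are a Sylow `p`-subgroup `S` of `G/A` and a subgroup `K` of `G` with `K ∩ A = 1` and `KA` equal to the preimage of `S` (that is, `A` has a complement in the preimage of a Sylow `p`-subgroup of `G/A`). -/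
theorem result {G : Type*} [Group G] [Finite G] (A : Subgroup G) [A.Normal] (hA : IsMulCommutative A) : (∃ K : Subgroup G, K.IsComplement' A) ↔ ∀ p : ℕ, p.Prime → p ∣ A.index → ∃ (S : Sylow p (G ⧸ A)) (K : Subgroup G), K ⊓ A = ⊥ ∧ K ⊔ A = (S : Subgroup (G ⧸ A)).comap (QuotientGroup.mk' A) := by
  refine ⟨?_, H36.exists_complement_of_local A hA⟩
  rintro ⟨K, hK⟩ p hp -
  have := Fact.mk hp
  obtain ⟨S⟩ := (inferInstance : Nonempty (Sylow p (G ⧸ A)))
  set U := (S : Subgroup (G ⧸ A)).comap (QuotientGroup.mk' A) with hU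
  have hAU : A ≤ U := by
    conv_lhs => rw [← QuotientGroup.ker_mk' A]
    exact Subgroup.ker_le_comap _ _
  refine ⟨S, K ⊓ U, ?_, le_antisymm (sup_le inf_le_right hAU) fun u hu => ?_⟩
  · rw [inf_right_comm, hK.disjoint.eq_bot, bot_inf_eq]
  · have hu' := Subgroup.mem_top u
    rw [← hK.sup_eq_top, ← SetLike.mem_coe, Subgroup.mul_normal] at hu'
    obtain ⟨k, hk, a, ha, rfl⟩ := hu'
    refine Subgroup.mul_mem_sup ⟨hk, ?_⟩ ha
    have := U.mul_mem hu (U.inv_mem (hAU ha))
    simpa [mul_assoc] using this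

end Cfsg.Agent.S4217
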