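import Cfsg.Statements.S4218
import Mathlib
import Cfsg.Agent.H10.PSolvable
import Cfsg.Agent.H29.FrattiniBasis

set_option autoImplicit false
open Cfsg

namespace Cfsg.Agent.S4218

/-- With trivial p'-core only elements of `O_p` act trivially on its Frattini quotient. -/
theorem mem_pCore_of_trivial_mod_frattini {Q : Type*} [Group Q] [Finite Q] {p : ℕ} [Fact p.Prime]
    (hQ : Cfsg.IsPSolvable p Q) (h0 : Cfsg.pPrimeCore p Q = ⊥) (q : Q)
    (hq : ∀ x : ↥(Cfsg.pCore p Q), q * x * q⁻¹ * (x : Q)⁻¹ ∈ (frattini ↥(Cfsg.pCore p Q)).map (Cfsg.pCore p Q).subtype) :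
    q ∈ Cfsg.pCore p Q := by
  set P := Cfsg.pCore p Q with hPdef
  haveI : P.Normal := H10.pCore_normal
  have hPp : IsPGroup p P := H10.pCore_isPGroup
  let f : Q →* MulAut P := MulAut.conjNormal
  obtain ⟨n, hn⟩ := hPp.exists_card_eq
  obtain ⟨r, -, hr⟩ := (Nat.dvd_prime_pow (Fact.out : p.Prime)).mp (hn ▸ Subgroup.index_dvd_card (frattini ↥P))
  let A : Subgroup (MulAut P) :=
    { carrier := {α | ∀ x : P, α x * x⁻¹ ∈ frattini ↥P}
      one_mem' := fun x => by simp
      mul_mem' := fun {a b} ha hb x => by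
        have := mul_mem (ha (b x)) (hb x)
        simpa [mul_assoc] using this
      inv_mem' := fun {a} ha x => by
        have := inv_mem (ha (a⁻¹ x))
        simpa [mul_assoc] using this }
  have hA : IsPGroup p A := by
    obtain ⟨i, -, hi⟩ := (Nat.dvd_prime_pow (Fact.out : p.Prime)).mp
      (Cfsg.Agent.H29.card_dvd_of_trivial_mod_frattini hn hr A (fun α hα => hα))
    exact IsPGroup.of_card hi
  have hAn : ∀ (g : Q) (α : MulAut P), α ∈ A → f g * α * (f g)⁻¹ ∈ A := by
    intro g α hα x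
    have h1 := hα ((f g)⁻¹ x)
    haveI : (frattini ↥P).Characteristic := inferInstance
    have h2 : f g (α ((f g)⁻¹ x) * ((f g)⁻¹ x)⁻¹) ∈ frattini ↥P := by
      have := Subgroup.characteristic_iff_comap_eq.mp ‹(frattini ↥P).Characteristic› (f g)
      rw [← this] at h1
      exact h1
    simpa using h2
  have hKn : (A.comap f).Normal := ⟨fun n hn g => by
    rw [Subgroup.mem_comap, map_mul, map_mul, map_inv]
    exact hAn g _ hn⟩
  have hker : f.ker ≤ P := by
    intro g hg
    refine H10.centralizer_pCore_le hQ h0 ?_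
    rw [Subgroup.mem_centralizer_iff]
    intro x hx
    have h1 := congrArg (fun e : MulAut P => ((e ⟨x, hx⟩ : P) : Q)) (MonoidHom.mem_ker.mp hg)
    simp only [f, MulAut.conjNormal_apply, MulAut.one_apply] at h1
    exact (mul_inv_eq_iff_eq_mul.mp h1).symm
  have hKp : IsPGroup p (A.comap f) := hA.comap_of_ker_isPGroup f (hPp.to_le hker)
  refine H10.le_pCore hKn hKp ?_
  intro x
  obtain ⟨y, hy, hy'⟩ := hq x
  have : f q x * x⁻¹ = y := Subtype.ext (by
    simp only [f, Subgroup.coe_mul, MulAut.conjNormal_apply, InvMemClass.coe_inv]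
    exact hy'.symm)
  rw [this]; exact hy

/-- Let `G` be a finite `p`-solvable group, `N₀ = O_{p'}(G)`, `P₁ = O_{p',p}(G)`, and let `F ≤ P₁` be the preimage of the Frattini subgroup of `P₁/N₀`. Then an element `g` of `G` induces the identity on `P₁/F` by conjugation (that is, `g x g⁻¹ x⁻¹ ∈ F` for all `x ∈ P₁`) if and only if `g ∈ P₁`: the group `G/P₁` acts faithfully on `P₁/F`. -/
theorem result {G : Type*} [Group G] [Finite G] {p : ℕ} [Fact p.Prime] (hG : Cfsg.IsPSolvable p G) (g : G) : (∀ x ∈ Cfsg.pPrimePCore p G, g * x * g⁻¹ * x⁻¹ ∈ ((frattini (↥(Cfsg.pPrimePCore p G) ⧸ (Cfsg.pPrimeCore p G).subgroupOf (Cfsg.pPrimePCore p G))).comap (QuotientGroup.mk' ((Cfsg.pPrimeCore p G).subgroupOf (Cfsg.pPrimePCore p G)))).map (Cfsg.pPrimePCore p G).subtype) ↔ g ∈ Cfsg.pPrimePCore p G := by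
  classical
  set U := Cfsg.pPrimePCore p G with hU
  set N := Cfsg.pPrimeCore p G with hN
  haveI hNn : N.Normal := H10.pPrimeCore_normal
  set P := Cfsg.pCore p (G ⧸ N) with hP
  haveI : P.Normal := H10.pCore_normal
  set π := QuotientGroup.mk' N with hπ
  set ρ := QuotientGroup.mk' (N.subgroupOf U) with hρ
  -- identification of the two quotients
  let φ : U →* P := (π.comp U.subtype).codRestrict P fun x => x.2
  have hφs : Function.Surjective φ := by
    rintro ⟨y, hy⟩
    obtain ⟨g, rfl⟩ := QuotientGroup.mk'_surjective N y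
    exact ⟨⟨g, hy⟩, rfl⟩
  have hφk : φ.ker = N.subgroupOf U := by
    ext x
    rw [MonoidHom.mem_ker, Subgroup.mem_subgroupOf, ← Subtype.coe_inj]
    exact QuotientGroup.eq_one_iff (x : G)
  let e : (U ⧸ N.subgroupOf U) ≃* P :=
    (QuotientGroup.quotientMulEquivOfEq hφk.symm).trans (QuotientGroup.quotientKerEquivOfSurjective φ hφs)
  have he : ∀ x : U, e (ρ x) = φ x := fun x => rfl
  have hfr : ∀ z : U ⧸ N.subgroupOf U, z ∈ frattini (U ⧸ N.subgroupOf U) ↔ e z ∈ frattini P := by
    intro z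
    constructor
    · exact fun h => frattini_le_comap_frattini_of_surjective (φ := e.toMonoidHom) e.surjective h
    · intro h
      have h2 := frattini_le_comap_frattini_of_surjective (φ := e.symm.toMonoidHom) e.symm.surjective h
      rw [Subgroup.mem_comap] at h2
      simpa using h2
  have hmem : ∀ y : G, y ∈ ((frattini (U ⧸ N.subgroupOf U)).comap ρ).map U.subtype ↔
      y ∈ U ∧ π y ∈ (frattini P).map P.subtype := by
    intro y
    constructor
    · rintro ⟨x, hx, rfl⟩
      exact ⟨x.2, φ x, (he x) ▸ (hfr _).mp hx, rfl⟩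
    · rintro ⟨hy, z, hz, hzy⟩
      refine ⟨⟨y, hy⟩, (hfr _).mpr ?_, rfl⟩
      rw [he]
      have : φ ⟨y, hy⟩ = z := Subtype.ext hzy.symm
      rw [this]; exact hz
  have hPp : IsPGroup p P := H10.pCore_isPGroup
  constructor
  · intro h
    show π g ∈ P
    refine mem_pCore_of_trivial_mod_frattini (H10.isPSolvable_quotient hG N) H10.pPrimeCore_quotient_pPrimeCore _ ?_
    intro x
    obtain ⟨⟨u, hu⟩, rfl⟩ := hφs x
    obtain ⟨-, h2⟩ := (hmem _).mp (h u hu)
    rw [map_mul, map_mul, map_mul, map_inv, map_inv] at h2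
    exact h2
  · intro hg x hx
    rw [hmem]
    refine ⟨mul_mem (mul_mem (mul_mem hg hx) (inv_mem hg)) (inv_mem hx), ?_⟩
    refine ⟨φ ⟨g, hg⟩ * φ ⟨x, hx⟩ * (φ ⟨g, hg⟩)⁻¹ * (φ ⟨x, hx⟩)⁻¹, ?_, by simp only [map_mul, map_inv, Subgroup.coe_subtype, Subgroup.coe_mul, InvMemClass.coe_inv]; rfl⟩
    exact H6.commutator_le_frattini hPp (by
      rw [commutator_def]
      exact Subgroup.commutator_mem_commutator (Subgroup.mem_top _) (Subgroup.mem_top _))

end Cfsg.Agent.S4218
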