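import Cfsg.Statements.S4219
import Mathlib

set_option autoImplicit false
open Cfsg

namespace Cfsg.Agent.S4219

/-- Let a finite group `G` act `t`-fold transitively on a finite set, let `H` be the stabilizer of `t` distinct points and `P` a Sylow `p`-subgroup of `H`. Then the normalizer of `P` in `G` is `t`-fold transitive on the fixed points of `P`: any `t` distinct fixed points of `P` can be carried to any other `t` distinct fixed points of `P` by an element normalizing `P`. -/
theorem result {G : Type*} [Group G] [Finite G] {α : Type*} [Fintype α] [MulAction G α] {t : ℕ} (hG : MulAction.IsMultiplyPretransitive G α t) (x : Fin t ↪ α) {p : ℕ} [Fact p.Prime] (P : Sylow p (MulAction.stabilizer G x)) (a b : Fin t ↪ α) (ha : ∀ i, a i ∈ MulAction.fixedPoints ((P : Subgroup (MulAction.stabilizer G x)).map (MulAction.stabilizer G x).subtype) α) (hb : ∀ i, b i ∈ MulAction.fixedPoints ((P : Subgroup (MulAction.stabilizer G x)).map (MulAction.stabilizer G x).subtype) α) : ∃ g ∈ Subgroup.normalizer ((((P : Subgroup (MulAction.stabilizer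 G x)).map (MulAction.stabilizer G x).subtype) : Subgroup G) : Set G), g • a = b := by
  classical
  obtain ⟨Q, hQ⟩ : ∃ Q : Subgroup G,
      Q = (P : Subgroup (MulAction.stabilizer G x)).map (MulAction.stabilizer G x).subtype := ⟨_, rfl⟩
  rw [← hQ] at ha hb ⊢
  haveI := hG
  obtain ⟨g, hg⟩ := MulAction.exists_smul_eq G a b
  obtain ⟨d, hd⟩ := MulAction.exists_smul_eq G x b
  have hmem : ∀ c : Fin t ↪ α, (∀ i, c i ∈ MulAction.fixedPoints Q α) → Q ≤ MulAction.stabilizer G c := by
    intro c hc q hq
    rw [MulAction.mem_stabilizer_iff]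
    ext i
    exact hc i ⟨q, hq⟩
  have hQb : Q ≤ MulAction.stabilizer G b := hmem b hb
  have hQa : Q ≤ MulAction.stabilizer G a := hmem a ha
  set S := MulAction.stabilizer G b with hS
  have hQb' : Q.map (MulAut.conj g).toMonoidHom ≤ S := by
    rw [hS, ← hg, MulAction.stabilizer_smul_eq_stabilizer_map_conj]
    exact Subgroup.map_mono hQa
  have hcardS : Nat.card S = Nat.card (MulAction.stabilizer G x) := by
    rw [hS, ← hd, MulAction.stabilizer_smul_eq_stabilizer_map_conj]
    exact Nat.card_congr ((MulAction.stabilizer G x).equivMapOfInjective _ (MulAut.conj d).injective).toEquiv.symm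
  have hcardQ : Nat.card Q = p ^ (Nat.card S).factorization p := by
    rw [hcardS, ← P.card_eq_multiplicity, hQ]
    exact (Nat.card_congr ((P : Subgroup (MulAction.stabilizer G x)).equivMapOfInjective _ (Subgroup.subtype_injective _)).toEquiv).symm
  have hcardQ' : Nat.card (Q.map (MulAut.conj g).toMonoidHom) = p ^ (Nat.card S).factorization p := by
    rw [← hcardQ]
    exact (Nat.card_congr (Q.equivMapOfInjective _ (MulAut.conj g).injective).toEquiv).symm
  let P₁ : Sylow p S := Sylow.ofCard ((Q.map (MulAut.conj g).toMonoidHom).subgroupOf S)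
    (by rw [Nat.card_congr (Subgroup.subgroupOfEquivOfLe hQb').toEquiv, hcardQ'])
  let P₂ : Sylow p S := Sylow.ofCard (Q.subgroupOf S)
    (by rw [Nat.card_congr (Subgroup.subgroupOfEquivOfLe hQb).toEquiv, hcardQ])
  obtain ⟨h, hh⟩ := MulAction.exists_smul_eq S P₁ P₂
  refine ⟨(h : G) * g, ?_, ?_⟩
  · have key : ∀ q ∈ Q, ((h : G) * g) * q * ((h : G) * g)⁻¹ ∈ Q := by
      intro q hq
      have hq1 : (⟨g * q * g⁻¹, hQb' ⟨q, hq, rfl⟩⟩ : S) ∈ (P₁ : Subgroup S) := ⟨q, hq, rfl⟩
      have h2 := Subgroup.smul_mem_pointwise_smul _ (MulAut.conj h) _ hq1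
      rw [← Sylow.pointwise_smul_def] at h2
      change _ ∈ ((h • P₁ : Sylow p S) : Subgroup S) at h2
      rw [hh] at h2
      simpa [P₂, Subgroup.mem_subgroupOf, mul_assoc] using h2
    rw [Subgroup.mem_normalizer_iff_map_conj_eq]
    refine Subgroup.eq_of_le_of_card_ge ?_ ?_
    · rintro _ ⟨q, hq, rfl⟩
      exact key q hq
    · exact le_of_eq (Nat.card_congr (Q.equivMapOfInjective _ (MulAut.conj _).injective).toEquiv)
  · rw [mul_smul, hg]
    exact h.2

end Cfsg.Agent.S4219
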