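import Cfsg.Statements.S4220
import Cfsg.Agent.H32.JordanR
import Cfsg.Agent.H18.Basic

set_option autoImplicit false
open Cfsg

namespace Cfsg.Agent.S4220

open Equiv MulAction H32.JordanR
open scoped commutatorElement

variable {α : Type*} [Fintype α] [DecidableEq α]

/-- Elements normalising a cyclic group act on it commutatively. -/
theorem commutator_commute {Γ : Type*} [Group Γ] {c : Γ} (S : Subgroup Γ)
    (hS : ∀ n ∈ S, ∃ a : ℤ, n * c * n⁻¹ = c ^ a) {n n' : Γ} (hn : n ∈ S) (hn' : n' ∈ S) :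
    Commute ⁅n, n'⁆ c := by
  obtain ⟨a, ha⟩ := hS n hn
  obtain ⟨b, hb⟩ := hS n' hn'
  obtain ⟨a', ha'⟩ := hS n⁻¹ (inv_mem hn)
  obtain ⟨b', hb'⟩ := hS n'⁻¹ (inv_mem hn')
  have key : ∀ (m : Γ) (e : ℤ), m * c * m⁻¹ = c ^ e → ∀ j : ℤ, m * c ^ j * m⁻¹ = c ^ (e * j) :=
    fun m e he j => by rw [← conj_zpow, he, zpow_mul]
  have hab : c ^ (a * a') = c := by
    rw [← key n a ha, ← ha']; group
  have hbb : c ^ (b * b') = c := by
    rw [← key n' b hb, ← hb']; group
  have h : ⁅n, n'⁆ * c * ⁅n, n'⁆⁻¹ = c := by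
    rw [commutatorElement_def,
      show n * n' * n⁻¹ * n'⁻¹ * c * (n * n' * n⁻¹ * n'⁻¹)⁻¹ =
        n * (n' * (n⁻¹ * (n'⁻¹ * c * n'⁻¹⁻¹) * n⁻¹⁻¹) * n'⁻¹) * n⁻¹ by group,
      hb', key _ _ ha', key _ _ hb, key _ _ ha, show a * (b * (a' * b')) = (a * a') * (b * b') by ring,
      zpow_mul, hab, hbb]
  exact mul_inv_eq_iff_eq_mul.mp h

theorem exists_three (β : Type*) [Fintype β] [DecidableEq β] (h3 : 3 ≤ Fintype.card β) :
    ∃ τ ∈ derivedSeries (Perm β) 1, τ.support.card = 3 ∧ orderOf τ = 3 := by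
  obtain ⟨e⟩ : Nonempty (Fin 3 ↪ β) := Function.Embedding.nonempty_of_card_le (by simpa using h3)
  have h01 : e 0 ≠ e 1 := e.injective.ne (by decide)
  have h12 : e 1 ≠ e 2 := e.injective.ne (by decide)
  have h02 : e 0 ≠ e 2 := e.injective.ne (by decide)
  refine ⟨⁅swap (e 0) (e 1), swap (e 0) (e 2)⁆,
    Subgroup.commutator_mem_commutator (Subgroup.mem_top _) (Subgroup.mem_top _), ?_⟩
  have h : (⁅swap (e 0) (e 1), swap (e 0) (e 2)⁆).IsThreeCycle := by
    rw [commutatorElement_def, swap_inv, swap_inv,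
      show swap (e 0) (e 1) * swap (e 0) (e 2) * swap (e 0) (e 1) =
        swap (swap (e 0) (e 1) (e 0)) (swap (e 0) (e 1) (e 2)) by
          rw [swap_apply_apply]; simp [swap_inv],
      swap_apply_left, swap_apply_of_ne_of_ne h02.symm h12.symm, swap_comm (e 0) (e 2), swap_comm (e 1) (e 2)]
    exact Perm.isThreeCycle_swap_mul_swap_same h12.symm h02.symm h01.symm
  exact ⟨h.card_support, h.orderOf⟩

theorem fin_four :
    ∃ τ₁ τ₂ : Perm (Fin 4), τ₁ ∈ derivedSeries (Perm (Fin 4)) 2 ∧ τ₂ ∈ derivedSeries (Perm (Fin 4)) 2 ∧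
      τ₁ ≠ 1 ∧ τ₂ ≠ 1 ∧ τ₁ ≠ τ₂ ∧ τ₁ * τ₁ = 1 ∧ τ₂ * τ₂ = 1 :=
  ⟨⁅⁅swap 0 1, swap 1 2⁆, ⁅swap 0 1, swap 1 3⁆⁆, ⁅⁅swap 0 1, swap 1 2⁆, ⁅swap 0 2, swap 2 3⁆⁆,
    Subgroup.commutator_mem_commutator
      (Subgroup.commutator_mem_commutator (Subgroup.mem_top _) (Subgroup.mem_top _))
      (Subgroup.commutator_mem_commutator (Subgroup.mem_top _) (Subgroup.mem_top _)),
    Subgroup.commutator_mem_commutator
      (Subgroup.commutator_mem_commutator (Subgroup.mem_top _) (Subgroup.mem_top _))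
      (Subgroup.commutator_mem_commutator (Subgroup.mem_top _) (Subgroup.mem_top _)),
    by decide +kernel, by decide +kernel, by decide +kernel, by decide +kernel, by decide +kernel⟩

theorem exists_klein (β : Type*) [Fintype β] [DecidableEq β] (h4 : Fintype.card β = 4) :
    ∃ τ₁ τ₂ : Perm β, τ₁ ∈ derivedSeries (Perm β) 2 ∧ τ₂ ∈ derivedSeries (Perm β) 2 ∧
      τ₁ ≠ τ₂ ∧ orderOf τ₁ = 2 ∧ orderOf τ₂ = 2 := by
  obtain ⟨τ₁, τ₂, h1, h2, n1, n2, hne, q1, q2⟩ := fin_four
  let e : Fin 4 ≃ β := (Fintype.equivFinOfCardEq h4).symm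
  let φ := e.permCongrHom
  have hφ : ∀ τ ∈ derivedSeries (Perm (Fin 4)) 2, φ τ ∈ derivedSeries (Perm β) 2 := fun τ hτ =>
    map_derivedSeries_le_derivedSeries φ.toMonoidHom 2 ⟨τ, hτ, rfl⟩
  haveI := Fact.mk Nat.prime_two
  refine ⟨φ τ₁, φ τ₂, hφ _ h1, hφ _ h2, φ.injective.ne hne, ?_, ?_⟩ <;>
    rw [MulEquiv.orderOf_eq]
  · exact orderOf_eq_prime (by rw [pow_two]; exact q1) n1
  · exact orderOf_eq_prime (by rw [pow_two]; exact q2) n2

theorem derived_two_bot (β : Type*) [Fintype β] [DecidableEq β] (h : Fintype.card β ≤ 3) :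
    derivedSeries (Perm β) 2 = ⊥ := by
  haveI := alternatingGroup.isMulCommutative_of_card_le_three (α := β) (by rwa [Nat.card_eq_fintype_card])
  rw [derivedSeries_succ, derivedSeries_one, Subgroup.commutator_eq_bot_iff_le_centralizer]
  exact (Abelianization.commutator_subset_ker Perm.sign).trans
    ((Subgroup.le_centralizer (alternatingGroup β)).trans
      (Subgroup.centralizer_le (Abelianization.commutator_subset_ker Perm.sign)))

theorem derived_one_bot (β : Type*) [Fintype β] [DecidableEq β] (h : Fintype.card β ≤ 2) :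
    derivedSeries (Perm β) 1 = ⊥ := by
  have hfin : ∀ n ≤ 2, ∀ g g' : Perm (Fin n), g * g' = g' * g := by decide +kernel
  let φ := (Fintype.equivFin β).permCongrHom
  rw [derivedSeries_one, commutator_def, eq_bot_iff, Subgroup.commutator_le]
  intro g _ g' _
  rw [Subgroup.mem_bot, commutatorElement_eq_one_iff_mul_comm]
  apply φ.injective
  rw [map_mul, map_mul, hfin _ h]

/-- A nontrivial element of `P` supported in one orbit is a `p`-cycle. -/
theorem cycle_of_single {p : ℕ} [hp : Fact p.Prime] {Δ : Finset α} {P : Subgroup (Perm α)}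
    (hP : Orbits p Δ P) {h : Perm α} (hh : h ∈ P) (h1 : h ≠ 1) {x : α} (hx : x ∉ Δ)
    (hoff : ∀ y ∉ Δ, y ∉ orbit P x → h y = y) : h.IsCycle ∧ h.support.card = p := by
  classical
  haveI := Fintype.ofFinite (orbit P x)
  have ho : orderOf h = p := orderOf_eq_prime (hP.pow_prime hh) h1
  have hsub : h.support ⊆ (orbit P x).toFinset := by
    intro y hy
    rw [Set.mem_toFinset]
    by_contra hno
    refine Perm.mem_support.mp hy ?_
    by_cases hyΔ : y ∈ Δ
    · exact hP.fix h hh y hyΔ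
    · exact hoff y hyΔ hno
  have hle : h.support.card ≤ p := by
    refine (Finset.card_le_card hsub).trans ?_
    rw [Set.toFinset_card, ← Nat.card_eq_fintype_card, hP.card_orbit x hx]
  have hc := Perm.isCycle_of_prime_order (σ := h) (by rw [ho]; exact hp.out) (by
    rw [ho]; have := hp.out.pos; omega)
  exact ⟨hc, by rw [← hc.orderOf, ho]⟩

theorem S4220_nine {G : Subgroup (Perm α)} (hG : IsMultiplyPretransitive G α (3 + 1))
    (hn : Fintype.card α = 2 * 3 + 3) {p : ℕ} [Fact p.Prime] (hp3 : p = 3) {Δ : Finset α} (hΔ : Δ.card = 3) {H : Subgroup (Perm α)}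
    (hH : ∀ g, g ∈ H ↔ g ∈ G ∧ ∀ a ∈ Δ, g a = a)
    (htrans : ∀ x ∉ Δ, ∀ y ∉ Δ, ∃ h ∈ H, h x = y) (P0 : Sylow p H) {P : Subgroup (Perm α)}
    (hPdef : P = (P0 : Subgroup H).map H.subtype) (hOrb : Orbits p Δ P) (hcard : Nat.card P = 3)
    {g : Perm α} (hgG : g ∈ G) (hgΔ : ∀ a, g a ∈ Δ ↔ a ∈ Δ) (hgN : g ∈ Subgroup.normalizer (P : Set (Perm α)))
    (hgO : g ∈ orbitFixer Δ P) (hgc : g ∈ Subgroup.centralizer (P : Set (Perm α)))
    (hgne : ¬ ∀ a ∈ Δ, g a = a)
    (small : ∀ g ∈ G, g ≠ 1 → g.support.card ≤ 4 → False)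
    (nocycle : ∀ (q : ℕ), q.Prime → q + 3 ≤ Fintype.card α → ∀ c ∈ G, c.IsCycle → c.support.card = q → False) :
    False := by
  classical
  subst hp3
  haveI := hG
  have hPH : P ≤ H := hPdef ▸ Subgroup.map_subtype_le _
  obtain ⟨a, b, d, hab, had, hbd, rfl⟩ := Finset.card_eq_three.mp hΔ
  have hout : ({a, b, d} : Finset α)ᶜ.card = 6 := by rw [Finset.card_compl, hn, hΔ]
  obtain ⟨x, hx⟩ := Finset.card_pos.mp (show 0 < ({a, b, d} : Finset α)ᶜ.card by omega)
  rw [Finset.mem_compl] at hx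
  have hHout : ∀ h ∈ H, ∀ z, z ∉ ({a, b, d} : Finset α) → h z ∉ ({a, b, d} : Finset α) :=
    fun h hh z hz hm => hz (h.injective (((hH h).mp hh).2 _ hm) ▸ hm)
  have hsupp : ∀ h ∈ H, h.support.card ≤ 6 := fun h hh => hout ▸ Finset.card_le_card fun z hz =>
    Finset.mem_compl.mpr fun hm => Perm.mem_support.mp hz (((hH h).mp hh).2 z hm)
  -- the order of `H`
  have h720 : Nat.card H ∣ 720 := by
    let res : H →* Perm {z // z ∉ ({a, b, d} : Finset α)} :=
      { toFun := fun h => (h : Perm α).subtypePerm (fun z => ⟨fun h1 hm => h1 (by rwa [((hH h).mp h.2).2 z hm]),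
          hHout h h.2 z⟩)
        map_one' := by ext; rfl
        map_mul' := fun _ _ => by ext; rfl }
    have hinj : Function.Injective res := by
      intro u v huv
      apply Subtype.ext
      ext z
      by_cases hz : z ∈ ({a, b, d} : Finset α)
      · rw [((hH u).mp u.2).2 z hz, ((hH v).mp v.2).2 z hz]
      · exact congrArg Subtype.val (Equiv.congr_fun huv ⟨z, hz⟩)
    have h := Subgroup.card_dvd_of_injective res hinj
    have e : Nat.card {z // z ∉ ({a, b, d} : Finset α)} = 6 := by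
      rw [Nat.card_eq_fintype_card, Fintype.card_of_subtype ({a, b, d} : Finset α)ᶜ (fun z => Finset.mem_compl)]
      exact hout
    rw [Nat.card_perm, e] at h
    exact h
  have h6 : 6 ∣ Nat.card H := by
    have horb : orbit H x = ↑(({a, b, d} : Finset α)ᶜ) := by
      ext z
      rw [Finset.coe_compl, Set.mem_compl_iff, Finset.mem_coe]
      refine ⟨?_, fun hz => ?_⟩
      · rintro ⟨⟨h, hh⟩, rfl⟩; exact hHout h hh x hx
      · obtain ⟨h, hh, hxz⟩ := htrans x hx z hz; exact ⟨⟨h, hh⟩, hxz⟩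
    have h := (stabilizer H x).index_dvd_card
    rwa [index_stabilizer, horb, Set.ncard_coe_finset, hout] at h
  have h9 : ¬ 9 ∣ Nat.card H := by
    intro h
    have hc : Nat.card (P0 : Subgroup H) = 3 := by
      have e : Nat.card P = Nat.card (P0 : Subgroup H) := by
        rw [hPdef, Subgroup.card_map_of_injective H.subtype_injective]
      exact e.symm.trans hcard
    have hd : 3 ^ 2 ∣ Nat.card (P0 : Subgroup H) := P0.pow_dvd_card_of_pow_dvd_card (show 3 ^ 2 ∣ Nat.card H from h)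
    rw [hc] at hd
    norm_num at hd
  have h5 : ¬ 5 ∣ Nat.card H := by
    intro h
    haveI := Fact.mk (show Nat.Prime 5 by norm_num)
    obtain ⟨u, hu⟩ := exists_prime_orderOf_dvd_card' 5 h
    have hu' : orderOf (u : Perm α) = 5 := by rw [Subgroup.orderOf_coe, hu]
    have hc := Perm.isCycle_of_prime_order (σ := (u : Perm α)) (by rw [hu']; norm_num)
      (by rw [hu']; have := hsupp u u.2; omega)
    exact nocycle 5 (by norm_num) (by omega) u ((hH u).mp u.2).1 hc (hc.orderOf.symm.trans hu')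
  have h4 : ¬ 4 ∣ Nat.card H := by
    intro h
    haveI := Fact.mk Nat.prime_two
    let sg : H →* ℤˣ := Perm.sign.comp H.subtype
    have he : 2 ∣ Nat.card sg.ker := by
      have h1 : Nat.card H = Nat.card sg.ker * Nat.card sg.range := by
        rw [← Subgroup.index_ker, Subgroup.card_mul_index]
      have h2 : Nat.card sg.range ∣ 2 := by
        have := Subgroup.card_subgroup_dvd_card sg.range
        simpa [Nat.card_eq_fintype_card] using this
      by_contra hodd
      rw [h1] at h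
      have h3 := (((Nat.prime_two.coprime_iff_not_dvd).mpr hodd).pow_left 2).dvd_of_dvd_mul_left h
      have := Nat.le_of_dvd (by norm_num) (h3.trans h2)
      norm_num at this
    obtain ⟨u, hu⟩ := exists_prime_orderOf_dvd_card' 2 he
    have hu' : orderOf ((u : H) : Perm α) = 2 := by rw [Subgroup.orderOf_coe, Subgroup.orderOf_coe, hu]
    obtain ⟨n, hn'⟩ := Perm.cycleType_prime_order (σ := ((u : H) : Perm α)) (by rw [hu']; exact Nat.prime_two)
    have hs : ((u : H) : Perm α).support.card = (n + 1) * 2 := by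
      rw [← Perm.sum_cycleType, hn', hu', Multiset.sum_replicate, smul_eq_mul]
    have hsign : Perm.sign ((u : H) : Perm α) = 1 := u.2
    rw [Perm.sign_of_cycleType, hn', hu', Multiset.sum_replicate, Multiset.card_replicate, smul_eq_mul] at hsign
    have := hsupp _ (u : H).2
    have hn3 : n ≤ 2 := by omega
    interval_cases n
    · exact absurd hsign (by decide)
    · refine small _ ((hH _).mp (u : H).2).1 (fun e => ?_) (by rw [hs])
      rw [e, orderOf_one] at hu'; norm_num at hu'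
    · exact absurd hsign (by decide)
  have hH6 : Nat.card H = 6 := by
    obtain ⟨t, ht⟩ := h6
    have ht120 : t ∣ 120 := Nat.dvd_of_mul_dvd_mul_left (show 0 < 6 by norm_num) (ht ▸ h720)
    have hc : t.Coprime 120 := by
      have e : ∀ q, q.Prime → ¬ q ∣ t → t.Coprime q := fun q hq hnd => (hq.coprime_iff_not_dvd.mpr hnd).symm
      rw [show 120 = 2 ^ 3 * 3 * 5 by norm_num]
      refine Nat.Coprime.mul_right (Nat.Coprime.mul_right (Nat.Coprime.pow_right 3 ?_) ?_) ?_
      · exact e 2 Nat.prime_two fun hd => h4 (ht ▸ (show 4 ∣ 6 * t from (show 4 ∣ 6 * 2 by norm_num).trans (Nat.mul_dvd_mul_left 6 hd)))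
      · exact e 3 Nat.prime_three fun hd => h9 (ht ▸ (show 9 ∣ 6 * t from (show 9 ∣ 6 * 3 by norm_num).trans (Nat.mul_dvd_mul_left 6 hd)))
      · exact e 5 (by norm_num) fun hd => h5 (ht ▸ hd.mul_left 6)
    rw [ht, hc.eq_one_of_dvd ht120]
  -- the stabiliser of two points
  let L : Subgroup (Perm α) :=
    { carrier := {u | u ∈ G ∧ u a = a ∧ u b = b}
      one_mem' := ⟨one_mem _, rfl, rfl⟩
      mul_mem' := fun {u v} hu hv => ⟨mul_mem hu.1 hv.1, by rw [Perm.mul_apply, hv.2.1, hu.2.1],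
        by rw [Perm.mul_apply, hv.2.2, hu.2.2]⟩
      inv_mem' := fun {u} hu => ⟨inv_mem hu.1, by conv_lhs => rw [← hu.2.1]; simp,
        by conv_lhs => rw [← hu.2.2]; simp⟩ }
  have hHL : H ≤ L := fun u hu => ⟨((hH u).mp hu).1, ((hH u).mp hu).2 a (by simp), ((hH u).mp hu).2 b (by simp)⟩
  have horbL : orbit L d = ↑(({a, b} : Finset α)ᶜ) := by
    ext z
    simp only [Finset.coe_compl, Set.mem_compl_iff, Finset.mem_coe, Finset.mem_insert, Finset.mem_singleton, not_or]
    constructor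
    · rintro ⟨⟨u, hu⟩, rfl⟩
      exact ⟨fun e => had (u.injective (show u d = u a from e.trans hu.2.1.symm)).symm,
        fun e => hbd (u.injective (show u d = u b from e.trans hu.2.2.symm)).symm⟩
    · rintro ⟨hza, hzb⟩
      have hu : Function.Injective ![a, b, d] := by
        intro i j h; fin_cases i <;> fin_cases j <;> simp_all
      have hv : Function.Injective ![a, b, z] := by
        intro i j h; fin_cases i <;> fin_cases j <;> simp_all
      obtain ⟨u, huG, hu'⟩ := exists_map hG (by omega) (ι := Fin 3) (by simp) ⟨_, hu⟩ ⟨_, hv⟩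
      exact ⟨⟨u, huG, hu' 0, hu' 1⟩, hu' 2⟩
  have hstab : Nat.card (stabilizer L d) = 6 := by
    rw [← hH6]
    refine Nat.card_congr ⟨fun u => ⟨((u : L) : Perm α), (hH _).mpr ⟨(u : L).2.1, ?_⟩⟩,
      fun u => ⟨⟨u, hHL u.2⟩, ((hH u).mp u.2).2 d (by simp)⟩, fun _ => rfl, fun _ => rfl⟩
    intro z hz
    simp only [Finset.mem_insert, Finset.mem_singleton] at hz
    rcases hz with rfl | rfl | rfl
    · exact (u : L).2.2.1
    · exact (u : L).2.2.2
    · exact u.2
  have hL42 : Nat.card L = 42 := by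
    rw [← Subgroup.card_mul_index (stabilizer L d), hstab, index_stabilizer, horbL, Set.ncard_coe_finset,
      Finset.card_compl, hn, Finset.card_pair hab]
  haveI := Fact.mk (show Nat.Prime 7 by norm_num)
  obtain ⟨T⟩ : Nonempty (Sylow 7 L) := inferInstance
  have hT7 : Nat.card (T : Subgroup L) = 7 := by
    have h1 : 7 ^ 1 ∣ Nat.card (T : Subgroup L) := T.pow_dvd_card_of_pow_dvd_card (by rw [hL42]; norm_num)
    obtain ⟨e, he⟩ := T.isPGroup'.exists_card_eq
    have h2 : 7 ^ e ∣ 42 := by rw [← he, ← hL42]; exact Subgroup.card_subgroup_dvd_card _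
    have : e ≤ 1 := by
      by_contra hlt
      have := Nat.le_of_dvd (by norm_num) ((pow_dvd_pow 7 (show 2 ≤ e by omega)).trans h2)
      norm_num at this
    rw [he] at h1 ⊢
    interval_cases e <;> norm_num at h1 <;> norm_num
  haveI hTn : (T : Subgroup L).Normal := by
    have h1 := card_sylow_modEq_one 7 L
    have h2 := T.card_dvd_index
    have hidx : (T : Subgroup L).index = 6 := by
      have := Subgroup.card_mul_index (T : Subgroup L)
      rw [hT7, hL42] at this
      omega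
    rw [hidx] at h2
    have h3 : Nat.card (Sylow 7 L) = 1 := by
      have := Nat.le_of_dvd (by norm_num) h2
      have h1' : Nat.card (Sylow 7 L) % 7 = 1 := h1
      omega
    haveI : Subsingleton (Sylow 7 L) := (Nat.card_eq_one_iff_unique.mp h3).1
    exact Sylow.normal_of_subsingleton T
  obtain ⟨t, ht⟩ := exists_prime_orderOf_dvd_card' (G := (T : Subgroup L)) 7 (by rw [hT7])
  have hto : orderOf ((t : L) : Perm α) = 7 := by rw [Subgroup.orderOf_coe, Subgroup.orderOf_coe, ht]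
  have hLc : ∀ u ∈ L, ∃ i : ℤ, u * ((t : L) : Perm α) * u⁻¹ = ((t : L) : Perm α) ^ i := by
    intro u hu
    have h1 : (⟨u, hu⟩ : L) * (t : L) * (⟨u, hu⟩ : L)⁻¹ ∈ (T : Subgroup L) := hTn.conj_mem _ t.2 _
    have h2 : (T : Subgroup L) = Subgroup.zpowers (t : L) := by
      refine (Subgroup.eq_of_le_of_card_ge (Subgroup.zpowers_le.mpr t.2) ?_).symm
      rw [hT7, Nat.card_zpowers, Subgroup.orderOf_coe, ht]
    obtain ⟨i, hi⟩ := Subgroup.mem_zpowers_iff.mp (h2.le h1)
    exact ⟨i, (congrArg Subtype.val hi).symm⟩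
  have htd : ((t : L) : Perm α) d ≠ d := by
    intro e
    have h1 := Subgroup.orderOf_dvd_natCard (stabilizer L d) (show (t : L) ∈ stabilizer L d from e)
    rw [Subgroup.orderOf_coe, ht, hstab] at h1
    norm_num at h1
  have habel : ∀ u ∈ H, ∀ v ∈ H, u * v = v * u := by
    intro u hu v hv
    have hc := commutator_commute L hLc (hHL hu) (hHL hv)
    have hw : ⁅u, v⁆ ∈ H := mul_mem (mul_mem (mul_mem hu hv) (inv_mem hu)) (inv_mem hv)
    have hwd : ⁅u, v⁆ d = d := ((hH _).mp hw).2 d (by simp)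
    have hper : Function.minimalPeriod ((t : L) : Perm α) d = 7 := by
      have hp7 : Function.IsPeriodicPt ((t : L) : Perm α) 7 d := by
        show (⇑((t : L) : Perm α))^[7] d = d
        have e := pow_orderOf_eq_one ((t : L) : Perm α)
        rw [hto] at e
        rw [← Perm.coe_pow, e]; rfl
      rcases (Nat.dvd_prime (by norm_num)).mp hp7.minimalPeriod_dvd with h | h
      · exact absurd (Function.minimalPeriod_eq_one_iff_isFixedPt.mp h) htd
      · exact h
    let F : Fin 7 → ↑(orbit L d) := fun i => ⟨(((t : L) : Perm α) ^ (i : ℕ)) d, ⟨(t : L) ^ (i : ℕ), by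
      show ((((t : L) ^ (i : ℕ) : L) : Perm α)) d = _
      rw [SubgroupClass.coe_pow]⟩⟩
    have hF : Function.Bijective F := by
      haveI := Fintype.ofFinite ↑(orbit L d)
      refine (Fintype.bijective_iff_injective_and_card F).mpr ⟨fun i j hij => ?_, ?_⟩
      · have h' := congrArg Subtype.val hij
        simp only [F, Perm.coe_pow] at h'
        exact Fin.ext (Function.iterate_injOn_Iio_minimalPeriod (by rw [hper]; exact i.2)
          (by rw [hper]; exact j.2) h')
      · rw [Fintype.card_fin, ← Nat.card_eq_fintype_card, Nat.card_coe_set_eq, horbL, Set.ncard_coe_finset,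
          Finset.card_compl, hn, Finset.card_pair hab]
    have hw1 : ⁅u, v⁆ = 1 := by
      ext z
      show ⁅u, v⁆ z = z
      by_cases hz : z ∈ ({a, b} : Finset α)
      · exact ((hH _).mp hw).2 z (by simp only [Finset.mem_insert, Finset.mem_singleton] at hz ⊢; tauto)
      · obtain ⟨i, hi⟩ := hF.2 ⟨z, horbL ▸ Finset.mem_coe.mpr (Finset.mem_compl.mpr hz)⟩
        have hiz : (((t : L) : Perm α) ^ (i : ℕ)) d = z := congrArg Subtype.val hi
        rw [← hiz, ← Perm.mul_apply, (hc.pow_right i).eq, Perm.mul_apply, hwd]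
    exact commutatorElement_eq_one_iff_mul_comm.mp hw1
  -- the second orbit
  haveI := Fintype.ofFinite (orbit P x)
  have hOx : (orbit P x).toFinset.card = 3 := by
    rw [Set.toFinset_card, ← Nat.card_eq_fintype_card, hOrb.card_orbit x hx]
  obtain ⟨y, hy, hyx⟩ := Finset.exists_mem_notMem_of_card_lt_card (s := (orbit P x).toFinset)
    (t := ({a, b, d} : Finset α)ᶜ) (by omega)
  rw [Finset.mem_compl] at hy
  rw [Set.mem_toFinset] at hyx
  haveI := Fintype.ofFinite (orbit P y)
  have htwo : ∀ z, z ∉ ({a, b, d} : Finset α) → z ∈ orbit P x ∨ z ∈ orbit P y := by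
    intro z hz
    have hdis : Disjoint (orbit P x).toFinset (orbit P y).toFinset := by
      rw [Finset.disjoint_left]
      intro w h1 h2
      rw [Set.mem_toFinset] at h1 h2
      exact hyx (by rw [← orbit_eq_iff.mpr h1, orbit_eq_iff.mpr h2]; exact mem_orbit_self y)
    have hu : (orbit P x).toFinset ∪ (orbit P y).toFinset = ({a, b, d} : Finset α)ᶜ := by
      refine Finset.eq_of_subset_of_card_le (fun w hw => ?_) ?_
      · rw [Finset.mem_union, Set.mem_toFinset, Set.mem_toFinset] at hw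
        exact Finset.mem_compl.mpr (hw.elim (hOrb.not_mem hx) (hOrb.not_mem hy))
      · rw [Finset.card_union_of_disjoint hdis, hOx, Set.toFinset_card, ← Nat.card_eq_fintype_card,
          hOrb.card_orbit y hy, hout]
    have := hu.ge (Finset.mem_compl.mpr hz)
    rwa [Finset.mem_union, Set.mem_toFinset, Set.mem_toFinset] at this
  obtain ⟨h, hh, hxy⟩ := htrans x hx y hy
  have hhP : ∀ q ∈ P, h * q = q * h := fun q hq => habel h hh q (hPH hq)
  have hhC : h ∈ Subgroup.centralizer (P : Set (Perm α)) :=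
    Subgroup.mem_centralizer_iff.mpr fun q hq => (hhP q hq).symm
  have hmap : ∀ z w, w ∈ orbit P z → h w ∈ orbit P (h z) := by
    rintro z _ ⟨⟨q, hq⟩, rfl⟩
    exact ⟨⟨q, hq⟩, (Equiv.congr_fun (hhP q hq) z).symm⟩
  have hyo : h y ∈ orbit P x := by
    refine (htwo _ (hHout h hh y hy)).resolve_right fun hm => hyx ?_
    obtain ⟨⟨q, hq⟩, hqy⟩ := hm
    replace hqy : q y = h y := hqy
    have e : h (q x) = h y := by rw [← hqy, ← hxy]; exact Equiv.congr_fun (hhP q hq) x
    exact ⟨⟨q, hq⟩, h.injective e⟩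
  have hswap : ∀ z, z ∉ ({a, b, d} : Finset α) → h z ∉ orbit P z := by
    intro z hz hm
    rcases htwo z hz with h1 | h1
    · have h2 := hmap x z h1
      rw [hxy] at h2
      rw [orbit_eq_iff.mpr h1] at hm
      exact hyx (by rw [← orbit_eq_iff.mpr hm, orbit_eq_iff.mpr h2]; exact mem_orbit_self y)
    · have h2 := hmap y z h1
      rw [orbit_eq_iff.mpr h1] at hm
      have h3 : h z ∈ orbit P x := by rw [← orbit_eq_iff.mpr hyo]; exact h2
      exact hyx (by rw [← orbit_eq_iff.mpr h3, orbit_eq_iff.mpr hm]; exact mem_orbit_self y)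
  have htwice : ∀ z w, z ∉ ({a, b, d} : Finset α) → w ∉ ({a, b, d} : Finset α) → z ∉ orbit P w →
      ∀ v, v ∉ ({a, b, d} : Finset α) → v ∉ orbit P w → orbit P v = orbit P z := by
    intro z w hz hw hzw v hv hvw
    rw [← orbit_eq_iff] at hzw hvw
    rcases htwo z hz with h1 | h1 <;> rcases htwo w hw with h2 | h2 <;> rcases htwo v hv with h3 | h3 <;>
      rw [orbit_eq_iff.mpr h1, orbit_eq_iff.mpr h2] at hzw <;>
      rw [orbit_eq_iff.mpr h3, orbit_eq_iff.mpr h2] at hvw <;>
      rw [orbit_eq_iff.mpr h1, orbit_eq_iff.mpr h3] <;>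
      first | exact absurd rfl hzw | exact absurd rfl hvw | rfl
  have hinP : ∀ u ∈ H, u ∈ Subgroup.centralizer (P : Set (Perm α)) →
      u ∈ orbitFixer ({a, b, d} : Finset α) P → u ∈ P := by
    intro u hu huc huo
    have h3 : u ^ 3 = 1 := by
      ext z
      show (u ^ 3) z = z
      by_cases hz : z ∈ ({a, b, d} : Finset α)
      · exact ((hH _).mp (pow_mem hu 3)).2 z hz
      · exact hOrb.pow_prime_apply huo huc hz
    haveI : (P0 : Subgroup H).Normal := ⟨fun q hq v => by
      rw [show v * q = q * v from Subtype.ext (habel v v.2 q q.2), mul_inv_cancel_right]; exact hq⟩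
    haveI : (Subgroup.zpowers (⟨u, hu⟩ : H)).Normal := ⟨fun q hq v => by
      rw [show v * q = q * v from Subtype.ext (habel v v.2 q q.2), mul_inv_cancel_right]; exact hq⟩
    have hz : IsPGroup 3 (Subgroup.zpowers (⟨u, hu⟩ : H)) := fun ⟨q, hq⟩ => ⟨1, by
      obtain ⟨i, rfl⟩ := Subgroup.mem_zpowers_iff.mp hq
      apply Subtype.ext
      apply Subtype.ext
      show ((u ^ i) ^ (3 ^ 1) : Perm α) = 1
      rw [pow_one, ← zpow_natCast, zpow_comm, zpow_natCast, h3, one_zpow]⟩
    rw [hPdef]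
    exact ⟨⟨u, hu⟩, hz.le_sylow_of_normal P0 (Subgroup.mem_zpowers _), rfl⟩
  set c := h * g * h⁻¹ * g⁻¹ with hc
  have hcH : c ∈ H := (hH c).mpr ⟨mul_mem (mul_mem (mul_mem ((hH h).mp hh).1 hgG) (inv_mem ((hH h).mp hh).1))
    (inv_mem hgG), fun z hz => by
    have h1 : g⁻¹ z ∈ ({a, b, d} : Finset α) := (hgΔ _).mp (by simpa using hz)
    show h (g (h⁻¹ (g⁻¹ z))) = z
    rw [((hH _).mp (inv_mem hh)).2 _ h1]
    simp [((hH h).mp hh).2 z hz]⟩
  have hhi : ∀ z, z ∈ ({a, b, d} : Finset α) ↔ h z ∈ ({a, b, d} : Finset α) := fun z =>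
    ⟨fun hz => by rwa [((hH h).mp hh).2 z hz], fun hz => by_contra fun hno => hHout h hh z hno hz⟩
  have hcO : c ∈ orbitFixer ({a, b, d} : Finset α) P := by
    refine ⟨fun z => ⟨fun hm => by_contra fun hno => hHout c hcH z hno hm,
      fun hm => by rwa [((hH c).mp hcH).2 z hm]⟩, ?_, fun z hz => ?_⟩
    · exact Subgroup.centralizer_le_normalizer _ (mul_mem (mul_mem (mul_mem hhC hgc) (inv_mem hhC)) (inv_mem hgc))
    · set z' := g⁻¹ z with hz'
      set w := h⁻¹ z' with hw'
      have hz'Δ : z' ∉ ({a, b, d} : Finset α) := fun hm => hz (by simpa [hz'] using (hgΔ z').mpr hm)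
      have hwΔ : w ∉ ({a, b, d} : Finset α) := fun hm => hz'Δ (by simpa [hw'] using (hhi w).mp hm)
      have h1 : orbit P z' = orbit P z := by
        have := hgO.2.2 z' hz'Δ
        rw [hz'] at this ⊢
        simpa using this.symm
      have h2 : z' ∉ orbit P w := by simpa [hw'] using hswap w hwΔ
      have h3 : orbit P (g w) = orbit P w := hgO.2.2 w hwΔ
      have hgwΔ : g w ∉ ({a, b, d} : Finset α) := fun hm => hwΔ ((hgΔ w).mp hm)
      have h4 : h (g w) ∉ orbit P w := h3 ▸ hswap (g w) hgwΔ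
      show orbit P (h (g w)) = orbit P z
      rw [← h1]
      exact htwice z' w hz'Δ hwΔ h2 _ (fun hm => hgwΔ ((hhi _).mpr hm)) h4
  have hcP := hinP c hcH (mul_mem (mul_mem (mul_mem hhC hgc) (inv_mem hhC)) (inv_mem hgc)) hcO
  have hhhP : h * h ∈ P := by
    refine hinP _ (mul_mem hh hh) (mul_mem hhC hhC) ⟨fun z => ((hhi z).trans (hhi (h z))).symm,
      Subgroup.centralizer_le_normalizer _ (mul_mem hhC hhC), fun z hz => ?_⟩
    show orbit P (h (h z)) = orbit P z
    have h1 := hswap z hz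
    have h2 := hswap (h z) (hHout h hh z hz)
    exact htwice z (h z) hz (hHout h hh z hz) (fun hm => h1 (by rw [orbit_eq_iff.mpr hm]; exact mem_orbit_self _))
      _ (hHout h hh _ (hHout h hh z hz)) h2
  have hc1 : c = 1 := by
    have e1 : h * g * h⁻¹ = c * g := by rw [hc]; group
    have e2 : (h * h) * g * (h * h)⁻¹ = c * c * g := by
      have e0 : h * c * h⁻¹ = c := mul_inv_eq_iff_eq_mul.mpr (hhP c hcP)
      calc (h * h) * g * (h * h)⁻¹ = h * (h * g * h⁻¹) * h⁻¹ := by simp only [mul_inv_rev, mul_assoc]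
        _ = h * (c * g) * h⁻¹ := by rw [e1]
        _ = (h * c * h⁻¹) * (h * g * h⁻¹) := conj_mul.symm
        _ = c * (c * g) := by rw [e0, e1]
        _ = c * c * g := (mul_assoc _ _ _).symm
    have e3 : (h * h) * g * (h * h)⁻¹ = g := by
      rw [Subgroup.mem_centralizer_iff.mp hgc _ hhhP, mul_inv_cancel_right]
    have e4 : c * c = 1 := by
      have := e2.symm.trans e3
      rwa [mul_eq_right] at this
    have e5 := hOrb.pow_prime hcP
    rw [show (3 : ℕ) = 2 + 1 from rfl, pow_succ, pow_two, e4, one_mul] at e5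
    exact e5
  have hgh : h * g = g * h := by
    have : h * g * h⁻¹ = g := mul_inv_eq_one.mp hc1
    exact mul_inv_eq_iff_eq_mul.mp this
  obtain ⟨⟨q, hq⟩, hqx⟩ := hOrb.orbitFixer_apply hgO hx (mem_orbit_self (M := P) x)
  replace hqx : q x = g x := hqx
  refine small (q⁻¹ * g) (mul_mem (inv_mem ((hH q).mp (hPH hq)).1) hgG) (fun e => hgne fun z hz => ?_) ?_
  · have := (inv_mul_eq_one.mp e)
    rw [← this]; exact hOrb.fix q hq z hz
  · refine (Finset.card_le_card (t := ({a, b, d} : Finset α)) fun z hz => ?_).trans (by omega)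
    by_contra hzΔ
    refine Perm.mem_support.mp hz ?_
    show q⁻¹ (g z) = z
    have hgq : ∀ r ∈ P, ∀ w, g (r w) = r (g w) := fun r hr w =>
      (Equiv.congr_fun (Subgroup.mem_centralizer_iff.mp hgc r hr) w).symm
    have hqr : ∀ r ∈ P, ∀ w, q (r w) = r (q w) := fun r hr w => Equiv.congr_fun (hOrb.commute hq hr).eq w
    have hfin : g z = q z := by
      rcases htwo z hzΔ with ⟨⟨r, hr⟩, rfl⟩ | ⟨⟨r, hr⟩, rfl⟩
      · show g (r x) = q (r x)
        rw [hgq r hr, ← hqx, hqr r hr]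
      · show g (r y) = q (r y)
        rw [hgq r hr, hqr r hr, ← hxy, show g (h x) = h (g x) from (Equiv.congr_fun hgh x).symm, ← hqx,
          show h (q x) = q (h x) from Equiv.congr_fun (hhP q hq) x]
    rw [hfin]; simp

/-- Let `n = kp + r` with `p` prime, `1 ≤ k < p` and `r > k`, excluding the case `k = 1, r = 2`. Then a permutation group of degree `n` that is `(r + 1)`-fold transitive contains the alternating group. -/
theorem result {α : Type*} [Fintype α] [DecidableEq α] (G : Subgroup (Equiv.Perm α)) {k p r : ℕ} (hp : p.Prime) (hn : Fintype.card α = k * p + r) (hk : 1 ≤ k) (hpk : k < p) (hrk : k < r) (hex : ¬ (k = 1 ∧ r = 2)) (hG : MulAction.IsMultiplyPretransitive G α (r + 1)) : alternatingGroup α ≤ G := by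
  classical
  haveI := Fact.mk hp
  have hp2 := hp.two_le
  have hr3 : 3 ≤ r := by
    by_contra h
    exact hex ⟨by omega, by omega⟩
  have hkp : 2 ≤ k * p := by nlinarith
  have hrn : r + 1 ≤ Fintype.card α := by omega
  have h5 : 5 ≤ Fintype.card α := by omega
  have h4t : IsMultiplyPretransitive G α 4 :=
    haveI := hG
    isMultiplyPretransitive_of_le (n := r + 1) (by omega) (by rwa [Nat.card_eq_fintype_card])
  have hprim : IsPreprimitive G α := isPreprimitive_of_is_two_pretransitive (haveI := hG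
    isMultiplyPretransitive_of_le (n := r + 1) (by omega) (by rwa [Nat.card_eq_fintype_card]))
  by_contra hcon
  -- the two criteria
  have nocycle : ∀ (q : ℕ), q.Prime → q + 3 ≤ Fintype.card α → ∀ c ∈ G, c.IsCycle → c.support.card = q → False :=
    fun q hq hqn c hcG hc hcq => hcon (H58.alternating_le_of_prime_cycle G hprim hq hqn hc hcq hcG)
  have hp3n : p + 3 ≤ Fintype.card α := by nlinarith
  have small : ∀ g ∈ G, g ≠ 1 → g.support.card ≤ 4 → False :=
    fun g hg h1 hs => hcon (alternating_le_of_small_support h4t hprim h5 hg h1 hs)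
  -- `Δ`, its pointwise stabiliser, a Sylow subgroup
  obtain ⟨Δ, -, hΔ⟩ := Finset.exists_subset_card_eq (s := (Finset.univ : Finset α)) (n := r)
    (by rw [Finset.card_univ]; omega)
  let H : Subgroup (Perm α) :=
    { carrier := {g | g ∈ G ∧ ∀ a ∈ Δ, g a = a}
      one_mem' := ⟨one_mem _, fun _ _ => rfl⟩
      mul_mem' := fun {g h} hg hh => ⟨mul_mem hg.1 hh.1, fun a ha => by
        rw [Perm.mul_apply, hh.2 a ha, hg.2 a ha]⟩
      inv_mem' := fun {g} hg => ⟨inv_mem hg.1, fun a ha => by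
        conv_lhs => rw [← hg.2 a ha]
        simp⟩ }
  have hHmem : ∀ g, g ∈ H ↔ g ∈ G ∧ ∀ a ∈ Δ, g a = a := fun g => Iff.rfl
  have hfixout : ∀ h ∈ H, ∀ x, x ∉ Δ → h x ∉ Δ := fun h hh x hx hm => hx (h.injective (hh.2 _ hm) ▸ hm)
  have htrans : ∀ x ∉ Δ, ∀ y ∉ Δ, ∃ h ∈ H, h x = y := by
    intro x hx y hy
    have hinj : ∀ z ∉ Δ, Function.Injective (fun o : Option Δ => o.elim z Subtype.val) := by
      rintro z hz (_ | a) (_ | b) h
      · rfl
      · exact absurd (show z = (b : α) from h) (fun e => hz (e ▸ b.2))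
      · exact absurd (show (a : α) = z from h) (fun e => hz (e ▸ a.2))
      · exact congrArg some (Subtype.ext h)
    obtain ⟨g, hgG, hg⟩ := exists_map hG hrn (ι := Option Δ) (by simp [hΔ]) ⟨_, hinj x hx⟩ ⟨_, hinj y hy⟩
    exact ⟨g, ⟨hgG, fun a ha => hg (some ⟨a, ha⟩)⟩, hg none⟩
  have hcompl : Δᶜ.card = k * p := by rw [Finset.card_compl, hΔ, hn]; omega
  obtain ⟨P0⟩ : Nonempty (Sylow p H) := inferInstance
  set P := (P0 : Subgroup H).map H.subtype with hPdef
  have hPH : P ≤ H := Subgroup.map_subtype_le _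
  have hPG : P ≤ G := fun g hg => (hPH hg).1
  have horbH : ∀ x ∉ Δ, orbit H x = ↑(Δᶜ) := by
    intro x hx
    ext y
    rw [Finset.coe_compl, Set.mem_compl_iff, Finset.mem_coe]
    constructor
    · rintro ⟨⟨h, hh⟩, rfl⟩
      exact hfixout h hh x hx
    · intro hy
      obtain ⟨h, hh, hxy⟩ := htrans x hx y hy
      exact ⟨⟨h, hh⟩, hxy⟩
  have hOrb : Orbits p Δ P := by
    refine ⟨P0.isPGroup'.map H.subtype, fun h hh => (hPH hh).2, fun x hx => ?_⟩
    obtain ⟨e, he⟩ := (P0.isPGroup'.map H.subtype).card_orbit x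
    have hle : Nat.card (orbit P x) ≤ k * p := by
      rw [← hcompl, Nat.card_coe_set_eq, ← Set.ncard_coe_finset]
      refine Set.ncard_le_ncard ?_
      rintro y ⟨⟨h, hh⟩, rfl⟩
      rw [Finset.coe_compl, Set.mem_compl_iff, Finset.mem_coe]
      exact hfixout h (hPH hh) x hx
    have he2 : e < 2 := by
      by_contra h
      have : p ^ 2 ≤ p ^ e := Nat.pow_le_pow_right hp.pos (not_lt.mp h)
      rw [he] at hle
      nlinarith
    interval_cases e
    · exfalso
      rw [pow_zero, Nat.card_eq_one_iff_unique] at he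
      have hfix : ∀ h ∈ P, h x = x := fun h hh =>
        congrArg Subtype.val (he.1.elim ⟨h x, ⟨h, hh⟩, rfl⟩ ⟨x, mem_orbit_self x⟩)
      have hle' : (P0 : Subgroup H) ≤ stabilizer H x := fun h hh => hfix h ⟨h, hh, rfl⟩
      refine P0.not_dvd_index (Dvd.dvd.trans ?_ (Subgroup.index_dvd_of_le hle'))
      rw [index_stabilizer, horbH x hx, Set.ncard_coe_finset, hcompl]
      exact dvd_mul_left p k
    · rw [he, pow_one]
  -- the normaliser
  let N : Subgroup (Perm α) :=
    { carrier := {g | g ∈ G ∧ (∀ a, g a ∈ Δ ↔ a ∈ Δ) ∧ g ∈ Subgroup.normalizer (P : Set (Perm α))}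
      one_mem' := ⟨one_mem _, fun _ => Iff.rfl, one_mem _⟩
      mul_mem' := fun {g h} hg hh => ⟨mul_mem hg.1 hh.1, fun a => (hg.2.1 (h a)).trans (hh.2.1 a),
        mul_mem hg.2.2 hh.2.2⟩
      inv_mem' := fun {g} hg => ⟨inv_mem hg.1, fun a => by simpa using (hg.2.1 (g⁻¹ a)).symm,
        inv_mem hg.2.2⟩ }
  let π : N →* Perm Δ :=
    { toFun := fun g => (g : Perm α).subtypePerm (fun a => g.2.2.1 a)
      map_one' := by ext; rfl
      map_mul' := fun g h => by ext; rfl }
  have hπ_apply : ∀ (g : N) (a : Δ), ((π g a : Δ) : α) = (g : Perm α) a := fun _ _ => rfl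
  have hπsurj : Function.Surjective π := by
    intro σ
    obtain ⟨g0, hg0G, hg0⟩ := exists_map hG hrn (ι := Δ) (by simp [hΔ])
      (Function.Embedding.subtype _) (σ.toEmbedding.trans (Function.Embedding.subtype _))
    have hg0Δ : ∀ a ∈ Δ, g0 a ∈ Δ := fun a ha => by
      have : g0 a = (σ ⟨a, ha⟩ : Δ) := hg0 ⟨a, ha⟩
      rw [this]; exact (σ ⟨a, ha⟩).2
    have hg0' : ∀ a, g0 a ∈ Δ ↔ a ∈ Δ := by
      refine fun a => ⟨fun ha => ?_, hg0Δ a⟩
      have h0 : g0 (σ.symm ⟨g0 a, ha⟩ : Δ) = (σ (σ.symm ⟨g0 a, ha⟩) : Δ) := hg0 _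
      rw [Equiv.apply_symm_apply] at h0
      rw [← g0.injective h0]
      exact (σ.symm ⟨g0 a, ha⟩).2
    set Q := P.map (MulAut.conj g0).toMonoidHom with hQ
    have hQH : Q ≤ H := by
      rintro _ ⟨h, hh, rfl⟩
      refine ⟨mul_mem (mul_mem hg0G (hPG hh)) (inv_mem hg0G), fun a ha => ?_⟩
      show g0 (h (g0⁻¹ a)) = a
      have : g0⁻¹ a ∈ Δ := (hg0' _).mp (by simpa using ha)
      rw [(hPH hh).2 _ this]
      simp
    obtain ⟨R, hR⟩ := ((((P0.isPGroup'.map H.subtype).map (MulAut.conj g0).toMonoidHom)).of_equiv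
      (Subgroup.subgroupOfEquivOfLe hQH).symm).exists_le_sylow
    obtain ⟨h, hh⟩ := MulAction.exists_smul_eq H P0 R
    have hQeq : Q.subgroupOf H = (R : Subgroup H) := by
      refine Subgroup.eq_of_le_of_card_ge hR (le_of_eq ?_)
      rw [Nat.card_congr (P0.equiv R).symm.toEquiv, Nat.card_congr (Subgroup.subgroupOfEquivOfLe hQH).toEquiv,
        hQ, Subgroup.card_map_of_injective (MulEquiv.injective _), hPdef,
        Subgroup.card_map_of_injective H.subtype_injective]
    have hN1 : ((h : Perm α))⁻¹ * g0 ∈ Subgroup.normalizer (P : Set (Perm α)) := by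
      refine Subgroup.mem_normalizer_fintype fun x hx => ?_
      have hxQ : g0 * x * g0⁻¹ ∈ Q := ⟨x, hx, rfl⟩
      have h1 : (⟨_, hQH hxQ⟩ : H) ∈ (R : Subgroup H) := hQeq ▸ hxQ
      rw [← hh, Sylow.coe_subgroup_smul] at h1
      obtain ⟨z, hz, hzx⟩ := h1
      refine ⟨z, hz, ?_⟩
      have hzx' : (h : Perm α) * (z : Perm α) * (h : Perm α)⁻¹ = g0 * x * g0⁻¹ := congrArg Subtype.val hzx
      show (z : Perm α) = _
      rw [show (h : Perm α)⁻¹ * g0 * x * ((h : Perm α)⁻¹ * g0)⁻¹ = (h : Perm α)⁻¹ * (g0 * x * g0⁻¹) * h by group,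
        ← hzx']
      group
    have hinv : (h : Perm α)⁻¹ ∈ H := inv_mem h.2
    refine ⟨⟨(h : Perm α)⁻¹ * g0, mul_mem hinv.1 hg0G, fun a => ?_, hN1⟩, ?_⟩
    · show (h : Perm α)⁻¹ (g0 a) ∈ Δ ↔ a ∈ Δ
      refine Iff.trans ⟨fun hm => ?_, fun hm => ?_⟩ (hg0' a)
      · by_contra hno; exact hfixout _ hinv _ hno hm
      · rw [hinv.2 _ hm]; exact hm
    · ext a
      show (h : Perm α)⁻¹ (g0 a) = _
      rw [show g0 a = (σ a : Δ) from hg0 a, hinv.2 _ (σ a).2]
  -- the action on the orbits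
  let Orb := {s : Set α // ∃ x, x ∉ Δ ∧ orbit P x = s}
  have himage : ∀ g ∈ N, ∀ x, g '' orbit P x = orbit P (g x) := by
    intro g hg x
    ext y
    constructor
    · rintro ⟨_, ⟨⟨h, hh⟩, rfl⟩, rfl⟩
      exact ⟨⟨_, (Subgroup.mem_normalizer_iff.mp hg.2.2 h).mp hh⟩, by
        show (g * h * g⁻¹) (g x) = g (h x); simp⟩
    · rintro ⟨⟨h, hh⟩, rfl⟩
      exact ⟨(g⁻¹ * h * g) x, ⟨⟨_, (Subgroup.mem_normalizer_iff''.mp hg.2.2 h).mp hh⟩, rfl⟩, by
        show g ((g⁻¹ * h * g) x) = h (g x); simp⟩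
  letI : MulAction N Orb :=
    { smul := fun g s => ⟨(g : Perm α) '' s.1, by
        obtain ⟨x, hx, hs⟩ := s.2
        exact ⟨(g : Perm α) x, fun hm => hx ((g.2.2.1 x).mp hm), by rw [← hs, himage g g.2 x]⟩⟩
      one_smul := fun s => Subtype.ext (by show ((1 : Perm α) : α → α) '' s.1 = s.1; simp)
      mul_smul := fun g g' s => Subtype.ext (by
        show (((g : Perm α) * (g' : Perm α) : Perm α) : α → α) '' s.1 = (g : Perm α) '' ((g' : Perm α) '' s.1)
        rw [Perm.coe_mul, Set.image_comp]) }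
  let ψ : N →* Perm Orb := MulAction.toPermHom N Orb
  have hker : ∀ g : N, ψ g = 1 → (g : Perm α) ∈ orbitFixer Δ P := by
    intro g hg
    refine ⟨g.2.2.1, g.2.2.2, fun a ha => ?_⟩
    have := congrArg Subtype.val (Equiv.congr_fun hg ⟨orbit P a, a, ha, rfl⟩)
    rw [show (ψ g ⟨orbit P a, a, ha, rfl⟩).1 = (g : Perm α) '' orbit P a from rfl, himage g g.2] at this
    exact this
  haveI : Fintype Orb := Fintype.ofFinite _
  have hcardOrb : Fintype.card Orb = k := by
    have hs : Δᶜ.card = ∑ s ∈ Finset.univ (α := Orb), (Δᶜ.filter fun x => x ∈ s.1).card := by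
      rw [← Finset.card_biUnion]
      · congr 1
        ext x
        simp only [Finset.mem_biUnion, Finset.mem_univ, true_and, Finset.mem_filter, Finset.mem_compl]
        exact ⟨fun hx => ⟨⟨orbit P x, x, hx, rfl⟩, hx, mem_orbit_self x⟩, fun ⟨_, hx, _⟩ => hx⟩
      · intro s _ t _ hne
        rw [Function.onFun, Finset.disjoint_left]
        intro y hy hy'
        apply hne
        obtain ⟨x, -, hs⟩ := s.2
        obtain ⟨x', -, ht⟩ := t.2
        apply Subtype.ext
        have e1 : y ∈ orbit P x := hs ▸ (Finset.mem_filter.mp hy).2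
        have e2 : y ∈ orbit P x' := ht ▸ (Finset.mem_filter.mp hy').2
        rw [← hs, ← ht, ← orbit_eq_iff.mpr e1, ← orbit_eq_iff.mpr e2]
    rw [Finset.sum_const_nat (m := p) (fun s _ => ?_), Finset.card_univ, hcompl] at hs
    · exact (Nat.eq_of_mul_eq_mul_right hp.pos hs).symm
    · obtain ⟨x, hx, hsx⟩ := s.2
      rw [← hOrb.card_orbit x hx, ← Set.ncard_coe_finset, Nat.card_coe_set_eq]
      congr 1
      ext y
      simp only [Finset.coe_filter, Finset.mem_compl, Set.mem_setOf_eq, ← hsx]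
      exact ⟨fun h => h.2, fun h => ⟨hOrb.not_mem hx h, h⟩⟩
  -- an element fixing everything off `Δ`
  have finish0 : ∀ g : N, (∀ x, x ∉ Δ → (g : Perm α) x = x) → π g ≠ 1 → (π g).support.card ≤ 4 → False := by
    intro g hoff hne hs
    refine small g g.2.1 (fun h1 => hne ?_) (le_trans ?_ hs)
    · ext a
      show (g : Perm α) a = a
      rw [h1]; rfl
    · rw [← Finset.card_map (Function.Embedding.subtype fun a => a ∈ Δ) (s := (π g).support)]
      refine Finset.card_le_card fun y hy => ?_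
      have hyΔ : y ∈ Δ := by by_contra h; exact Perm.mem_support.mp hy (hoff y h)
      exact Finset.mem_map.mpr ⟨⟨y, hyΔ⟩, Perm.mem_support.mpr fun h =>
        Perm.mem_support.mp hy (congrArg Subtype.val h), rfl⟩
  -- commutation off `Δ` inside the centraliser
  have hC_comm : ∀ u v : Perm α, u ∈ orbitFixer Δ P → u ∈ Subgroup.centralizer (P : Set (Perm α)) →
      v ∈ orbitFixer Δ P → v ∈ Subgroup.centralizer (P : Set (Perm α)) → ∀ y, y ∉ Δ → u (v y) = v (u y) := by
    intro u v hu huc hv hvc y hy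
    obtain ⟨⟨a, ha⟩, hau⟩ := hOrb.orbitFixer_apply hu hy (mem_orbit_self (M := P) y)
    obtain ⟨⟨b, hb⟩, hbv⟩ := hOrb.orbitFixer_apply hv hy (mem_orbit_self (M := P) y)
    replace hau : a y = u y := hau
    replace hbv : b y = v y := hbv
    have e1 : u (b y) = b (u y) := (Equiv.congr_fun (Subgroup.mem_centralizer_iff.mp huc b hb) y).symm
    have e2 : v (a y) = a (v y) := (Equiv.congr_fun (Subgroup.mem_centralizer_iff.mp hvc a ha) y).symm
    have e3 : b (a y) = a (b y) := Equiv.congr_fun (hOrb.commute hb ha).eq y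
    rw [← hbv, e1, ← hau, e3, hbv, ← e2, hau]
  have hπd : ∀ n, ∀ τ ∈ derivedSeries (Perm Δ) n, ∃ g ∈ derivedSeries N n, π g = τ := by
    intro n τ hτ
    rw [← map_derivedSeries_eq hπsurj n] at hτ
    exact hτ
  have hcardΔ : Fintype.card Δ = r := by simp [hΔ]
  rcases Nat.lt_or_ge r 5 with hr5 | hr5
  swap
  · -- `r ≥ 5`
    set M := ψ.ker
    haveI hMn : (M.map π).Normal := (inferInstance : M.Normal).map π hπsurj
    have hne : M.map π ≠ ⊥ := by
      intro h
      have hle : M ≤ π.ker := by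
        rw [← Subgroup.map_eq_bot_iff]; exact h
      have h1 := Nat.le_of_dvd (Nat.pos_of_ne_zero Subgroup.index_ne_zero_of_finite) (Subgroup.index_dvd_of_le hle)
      rw [Subgroup.index_ker, MonoidHom.range_eq_top.mpr hπsurj, Subgroup.card_top, Nat.card_perm,
        Nat.card_eq_fintype_card, hcardΔ, Subgroup.index_ker] at h1
      have h2 : Nat.card ψ.range ≤ k.factorial := by
        rw [← hcardOrb, ← Nat.card_eq_fintype_card, ← Nat.card_perm]
        exact Nat.card_le_card_of_injective _ Subtype.val_injective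
      exact absurd (h1.trans h2) (not_le.mpr ((Nat.factorial_lt (by omega)).mpr hrk))
    have hA : alternatingGroup Δ ≤ M.map π :=
      Perm.alternatingGroup_le_of_normal (by rw [Nat.card_eq_fintype_card, hcardΔ]; exact hr5)
        ((Subgroup.nontrivial_iff_ne_bot _).mpr hne)
    have hA2 : alternatingGroup Δ ≤ ⁅⁅M, M⁆, ⁅M, M⁆⁆.map π := by
      have h5' : 5 ≤ Nat.card Δ := by rw [Nat.card_eq_fintype_card, hcardΔ]; exact hr5
      rw [Subgroup.map_commutator, Subgroup.map_commutator]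
      have := Subgroup.commutator_mono (Subgroup.commutator_mono hA hA) (Subgroup.commutator_mono hA hA)
      rwa [commutator_alternatingGroup_eq_self h5', commutator_alternatingGroup_eq_self h5'] at this
    obtain ⟨τ, hτ, hτ3, hτo⟩ := exists_three Δ (by omega)
    have hτA : τ ∈ alternatingGroup Δ := Abelianization.commutator_subset_ker Perm.sign hτ
    obtain ⟨g, hg, hgτ⟩ := hA2 hτA
    have hoff : ∀ x, x ∉ Δ → (g : Perm α) x = x := by
      have hM' : ∀ u ∈ ⁅M, M⁆, (u : Perm α) ∈ orbitFixer Δ P ∧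
          (u : Perm α) ∈ Subgroup.centralizer (P : Set (Perm α)) := by
        intro u hu
        refine ⟨hker u (Subgroup.commutator_le_left M M hu), ?_⟩
        have hle : ⁅M, M⁆.map N.subtype ≤ Subgroup.centralizer (P : Set (Perm α)) := by
          rw [Subgroup.map_commutator]
          have hM : M.map N.subtype ≤ orbitFixer Δ P := by
            rintro _ ⟨v, hv, rfl⟩; exact hker v hv
          exact (Subgroup.commutator_mono hM hM).trans hOrb.commutator_centralizes
        exact hle ⟨u, hu, rfl⟩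
      let K : Subgroup N :=
        { carrier := {g | ∀ x, x ∉ Δ → (g : Perm α) x = x}
          one_mem' := fun _ _ => rfl
          mul_mem' := fun {a b} ha hb x hx => by
            show (a : Perm α) ((b : Perm α) x) = x
            rw [hb x hx, ha x hx]
          inv_mem' := fun {a} ha x hx => by
            show (a : Perm α)⁻¹ x = x
            conv_lhs => rw [← ha x hx]
            simp }
      have hK : ⁅⁅M, M⁆, ⁅M, M⁆⁆ ≤ K := by
        rw [Subgroup.commutator_le]
        intro u hu v hv x hx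
        obtain ⟨hu1, hu2⟩ := hM' u hu
        obtain ⟨hv1, hv2⟩ := hM' v hv
        show (u : Perm α) ((v : Perm α) ((u : Perm α)⁻¹ ((v : Perm α)⁻¹ x))) = x
        have hy : (u : Perm α)⁻¹ ((v : Perm α)⁻¹ x) ∉ Δ := fun hm =>
          hx ((v⁻¹).2.2.1 x |>.mp ((u⁻¹).2.2.1 _ |>.mp hm))
        rw [hC_comm _ _ hu1 hu2 hv1 hv2 _ hy]
        simp
      exact hK hg
    refine finish0 g hoff ?_ ?_
    · rw [hgτ]; intro h; rw [h, orderOf_one] at hτo; exact absurd hτo (by norm_num)
    · rw [hgτ, hτ3]; norm_num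
  -- `r ≤ 4`, so `k ≤ 3`
  have hk3 : k ≤ 3 := by omega
  have nosingle : ∀ h ∈ P, ∀ x, x ∉ Δ → (∀ y ∉ Δ, y ∉ orbit P x → h y = y) → h = 1 := by
    intro h hh x hx hoff
    by_contra h1
    obtain ⟨hc, hcard⟩ := cycle_of_single hOrb hh h1 hx hoff
    exact nocycle p hp hp3n h (hPG hh) hc hcard
  obtain ⟨x₁, hx₁⟩ : ∃ x, x ∉ Δ := by
    obtain ⟨x, hx⟩ := Finset.card_pos.mp (show 0 < Δᶜ.card by omega)
    exact ⟨x, Finset.mem_compl.mp hx⟩
  -- final step from a centralising orbit fixer of image of order prime to `p`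
  have finishP : ∀ g : N, (g : Perm α) ∈ orbitFixer Δ P → (g : Perm α) ∈ Subgroup.centralizer (P : Set (Perm α)) →
      π g ≠ 1 → (π g).support.card ≤ 4 → (orderOf (π g)).Coprime p → False := by
    intro g hg hgc hne hs hco
    refine finish0 (g ^ p) (fun x hx => ?_) ?_ ?_
    · rw [SubgroupClass.coe_pow]; exact hOrb.pow_prime_apply hg hgc hx
    · rw [map_pow]
      intro h1
      exact hne (orderOf_eq_one_iff.mp (Nat.eq_one_of_dvd_coprimes hco dvd_rfl (orderOf_dvd_of_pow_eq_one h1)))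
    · rw [map_pow]
      exact (Finset.card_le_card (Perm.support_pow_le _ _)).trans hs
  have hsupp_le : ∀ τ : Perm Δ, τ.support.card ≤ 4 := fun τ =>
    (Finset.card_le_univ _).trans (by omega)
  obtain rfl | hk2 | hk3' : k = 1 ∨ k = 2 ∨ k = 3 := by omega
  · -- `k = 1`
    have hψ : ∀ g, ψ g = 1 := fun g => by
      haveI : Subsingleton Orb := Fintype.card_le_one_iff_subsingleton.mp hcardOrb.le
      exact Equiv.ext fun s => Subsingleton.elim _ _
    obtain ⟨τ, hτ, hτ3, hτo⟩ := exists_three Δ (by omega)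
    obtain ⟨g, hg, hgτ⟩ := hπd 1 τ hτ
    rw [derivedSeries_one, commutator_def] at hg
    have hgc : (g : Perm α) ∈ Subgroup.centralizer (P : Set (Perm α)) := by
      have hle : Subgroup.map N.subtype ⁅(⊤ : Subgroup N), ⊤⁆ ≤ Subgroup.centralizer (P : Set (Perm α)) := by
        rw [Subgroup.map_commutator]
        have hM : (⊤ : Subgroup N).map N.subtype ≤ orbitFixer Δ P := by
          rintro _ ⟨v, -, rfl⟩; exact hker v (hψ v)
        exact (Subgroup.commutator_mono hM hM).trans hOrb.commutator_centralizes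
      exact hle ⟨g, hg, rfl⟩
    obtain ⟨⟨h, hh⟩, hhx⟩ := hOrb.orbitFixer_apply (hker g (hψ g)) hx₁ (mem_orbit_self (M := P) x₁)
    replace hhx : h x₁ = (g : Perm α) x₁ := hhx
    have hhN : h⁻¹ ∈ N := ⟨inv_mem (hPG hh), (hOrb.le_orbitFixer (inv_mem hh)).1,
      (hOrb.le_orbitFixer (inv_mem hh)).2.1⟩
    have hπh : π ⟨h⁻¹, hhN⟩ = 1 := by
      ext a
      exact hOrb.fix _ (inv_mem hh) a a.2
    refine finish0 (⟨h⁻¹, hhN⟩ * g) (fun y hy => ?_) ?_ ?_
    · have hsub : Subsingleton Orb := Fintype.card_le_one_iff_subsingleton.mp hcardOrb.le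
      have : orbit P y = orbit P x₁ := congrArg Subtype.val
        (hsub.elim (⟨_, y, hy, rfl⟩ : Orb) ⟨_, x₁, hx₁, rfl⟩)
      obtain ⟨⟨a, ha⟩, hay⟩ := (this ▸ mem_orbit_self y : y ∈ orbit P x₁)
      replace hay : a x₁ = y := hay
      show h⁻¹ ((g : Perm α) y) = y
      rw [← hay, show (g : Perm α) (a x₁) = a ((g : Perm α) x₁) from
        (Equiv.congr_fun (Subgroup.mem_centralizer_iff.mp hgc a ha) x₁).symm, ← hhx,
        show a (h x₁) = h (a x₁) from Equiv.congr_fun (hOrb.commute ha hh).eq x₁]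
      simp
    · rw [map_mul, hπh, one_mul, hgτ]; intro e; rw [e, orderOf_one] at hτo; exact absurd hτo (by norm_num)
    · exact hsupp_le _
  · -- `k = 2`
    obtain ⟨c, hc, hcx⟩ := hOrb.exists_moving hx₁
    have hcyc : ∀ h ∈ P, ∃ i : ℕ, h = c ^ i := by
      intro h hh
      obtain ⟨i, hi⟩ := hOrb.exists_pow_eq hc hx₁ hcx hh
      refine ⟨i, ?_⟩
      have hq : (c ^ i)⁻¹ * h ∈ P := mul_mem (inv_mem (pow_mem hc i)) hh
      have hfix : ∀ y ∈ orbit P x₁, ((c ^ i)⁻¹ * h) y = y := fun y hy => by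
        rw [Perm.mul_apply, hi y hy]; simp
      have h1 : (c ^ i)⁻¹ * h = 1 := by
        by_contra hne
        obtain ⟨y, hy⟩ : ∃ y, ((c ^ i)⁻¹ * h) y ≠ y := by
          by_contra e; push Not at e; exact hne (Equiv.ext e)
        have hyΔ : y ∉ Δ := fun hm => hy (hOrb.fix _ hq y hm)
        have hy1 : y ∉ orbit P x₁ := fun hm => hy (hfix y hm)
        refine hne (nosingle _ hq y hyΔ fun z hz hz' => hfix z ?_)
        by_contra hz1
        have h3 : ({⟨_, x₁, hx₁, rfl⟩, ⟨_, y, hyΔ, rfl⟩, ⟨_, z, hz, rfl⟩} : Finset Orb).card = 3 := by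
          have ne1 : orbit P x₁ ≠ orbit P y := fun e => hy1 (e ▸ mem_orbit_self y)
          have ne2 : orbit P x₁ ≠ orbit P z := fun e => hz1 (e ▸ mem_orbit_self z)
          have ne3 : orbit P y ≠ orbit P z := fun e => hz' (e ▸ mem_orbit_self z)
          exact Finset.card_eq_three.mpr ⟨_, _, _, fun e => ne1 (congrArg Subtype.val e),
            fun e => ne2 (congrArg Subtype.val e), fun e => ne3 (congrArg Subtype.val e), rfl⟩
        have := Finset.card_le_univ ({⟨_, x₁, hx₁, rfl⟩, ⟨_, y, hyΔ, rfl⟩, ⟨_, z, hz, rfl⟩} : Finset Orb)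
        omega
      exact (inv_mul_eq_one.mp h1).symm
    have hnorm : ∀ n ∈ N, ∃ a : ℤ, n * c * n⁻¹ = c ^ a := by
      intro n hn
      obtain ⟨i, hi⟩ := hcyc _ ((Subgroup.mem_normalizer_iff.mp hn.2.2 c).mp hc)
      exact ⟨i, by rw [hi, zpow_natCast]⟩
    have hd1 : ∀ g ∈ derivedSeries N 1, (g : Perm α) ∈ orbitFixer Δ P ∧
        (g : Perm α) ∈ Subgroup.centralizer (P : Set (Perm α)) := by
      intro g hg
      refine ⟨hker g ?_, ?_⟩
      · have := map_derivedSeries_le_derivedSeries ψ 1 ⟨g, hg, rfl⟩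
        rwa [derived_one_bot Orb (by omega), Subgroup.mem_bot] at this
      · have hle : (derivedSeries N 1).map N.subtype ≤ Subgroup.centralizer (P : Set (Perm α)) := by
          rw [derivedSeries_one, commutator_def, Subgroup.map_commutator, ← MonoidHom.range_eq_map,
            Subgroup.range_subtype, Subgroup.commutator_le]
          intro n hn n' hn'
          rw [Subgroup.mem_centralizer_iff]
          intro h hh
          obtain ⟨i, rfl⟩ := hcyc h hh
          exact ((commutator_commute N hnorm hn hn').pow_right i).eq.symm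
        exact hle ⟨g, hg, rfl⟩
    -- an element of `Δ`-image a three-cycle
    obtain ⟨τ, hτ, hτ3, hτo⟩ := exists_three Δ (by omega)
    by_cases hp3 : p = 3
    swap
    · obtain ⟨g, hg, hgτ⟩ := hπd 1 τ hτ
      refine finishP g (hd1 g hg).1 (hd1 g hg).2 ?_ (hsupp_le _) ?_
      · rw [hgτ]; intro e; rw [e, orderOf_one] at hτo; exact absurd hτo (by norm_num)
      · rw [hgτ, hτo]; exact (Nat.coprime_primes Nat.prime_three hp).mpr (Ne.symm hp3)
    rcases (show r = 3 ∨ r = 4 by omega) with hr | hr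
    swap
    · obtain ⟨τ₁, τ₂, h1, -, -, ho1, -⟩ := exists_klein Δ (by omega)
      obtain ⟨g, hg, hgτ⟩ := hπd 2 τ₁ h1
      have hg1 := derivedSeries_antitone N (show 1 ≤ 2 by norm_num) hg
      refine finishP g (hd1 g hg1).1 (hd1 g hg1).2 ?_ (hsupp_le _) ?_
      · rw [hgτ]; intro e; rw [e, orderOf_one] at ho1; exact absurd ho1 (by norm_num)
      · rw [hgτ, ho1, hp3]; norm_num
    -- degree nine
    obtain ⟨g, hg, hgτ⟩ := hπd 1 τ hτ
    obtain ⟨hgO, hgc⟩ := hd1 g hg
    have hcard : Nat.card P = 3 := by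
      have hPz : P = Subgroup.zpowers c := by
        refine le_antisymm (fun h hh => ?_) (Subgroup.zpowers_le.mpr hc)
        obtain ⟨i, rfl⟩ := hcyc h hh
        exact Subgroup.npow_mem_zpowers c i
      rw [hPz, Nat.card_zpowers, ← hp3]
      exact orderOf_eq_prime (hOrb.pow_prime hc) (fun e => hcx (by rw [e]; rfl))
    exact S4220_nine (hr ▸ hG) (by rw [hn, hp3, hr, hk2]) hp3 (hΔ.trans hr) (H := H) hHmem htrans P0 hPdef
      hOrb hcard g.2.1 g.2.2.1 g.2.2.2 hgO hgc
      (fun h1 => by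
        have : π g = 1 := by ext a; exact h1 a a.2
        rw [hgτ] at this; rw [this, orderOf_one] at hτo; exact absurd hτo (by norm_num))
      small nocycle
  · -- `k = 3`

    have hr : r = 4 := by omega
    have hp5 : 5 ≤ p := by
      by_contra h
      exact absurd (show p = 4 by omega) (fun e => absurd (e ▸ hp : Nat.Prime 4) (by norm_num))
    obtain ⟨τ₁, τ₂, h1, h2, hne, ho1, ho2⟩ := exists_klein Δ (by omega)
    obtain ⟨g1, hg1, hgτ1⟩ := hπd 2 τ₁ h1
    obtain ⟨g2, hg2, hgτ2⟩ := hπd 2 τ₂ h2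
    have hO : ∀ g ∈ derivedSeries N 2, (g : Perm α) ∈ orbitFixer Δ P := fun g hg => by
      refine hker g ?_
      have := map_derivedSeries_le_derivedSeries ψ 2 ⟨g, hg, rfl⟩
      rwa [derived_two_bot Orb (by omega), Subgroup.mem_bot] at this
    obtain ⟨χ, hχ⟩ := hOrb.exists_character hx₁
    let ι : derivedSeries N 2 →* orbitFixer Δ P :=
      { toFun := fun g => ⟨((g : N) : Perm α), hO g g.2⟩
        map_one' := rfl
        map_mul' := fun _ _ => rfl }
    let χ' := χ.comp ι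
    let π' := π.comp (derivedSeries N 2).subtype
    have key : ¬ χ'.ker ≤ π'.ker := by
      intro hle
      obtain ⟨⟨_, g0, rfl⟩, hw⟩ := IsCyclic.exists_generator (α := χ'.range)
      have hin : ∀ g, π' g ∈ Subgroup.zpowers (π' g0) := by
        intro g
        obtain ⟨i, hi⟩ := Subgroup.mem_zpowers_iff.mp (hw ⟨χ' g, g, rfl⟩)
        have hi' : χ' g0 ^ i = χ' g := congrArg Subtype.val hi
        have : g * (g0 ^ i)⁻¹ ∈ χ'.ker := by
          rw [MonoidHom.mem_ker, map_mul, map_inv, map_zpow, hi', mul_inv_cancel]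
        have h := hle this
        rw [MonoidHom.mem_ker, map_mul, map_inv, map_zpow, mul_inv_eq_one] at h
        exact ⟨i, h.symm⟩
      have e1 : τ₁ ∈ Subgroup.zpowers (π' g0) := hgτ1 ▸ hin ⟨g1, hg1⟩
      have e2 : τ₂ ∈ Subgroup.zpowers (π' g0) := hgτ2 ▸ hin ⟨g2, hg2⟩
      have := H18.cyclic_subgroup_eq_of_card_eq
        (A := Subgroup.zpowers (⟨τ₁, e1⟩ : Subgroup.zpowers (π' g0))) (B := Subgroup.zpowers ⟨τ₂, e2⟩)
        (by rw [Nat.card_zpowers, Nat.card_zpowers, Subgroup.orderOf_mk, Subgroup.orderOf_mk, ho1, ho2])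
      obtain ⟨j, hj⟩ := Subgroup.mem_zpowers_iff.mp (this ▸ Subgroup.mem_zpowers (⟨τ₁, e1⟩ : Subgroup.zpowers (π' g0)))
      have hj' : τ₂ ^ j = τ₁ := congrArg Subtype.val hj
      rcases Int.even_or_odd j with ⟨t, ht⟩ | ⟨t, ht⟩ <;> rw [ht] at hj'
      · rw [show t + t = ((2 : ℕ) : ℤ) * t by push_cast; ring, zpow_mul, zpow_natCast, ← ho2, pow_orderOf_eq_one, one_zpow] at hj'
        rw [← hj', orderOf_one] at ho1
        exact absurd ho1 (by norm_num)
      · rw [zpow_add, zpow_one, show (2 : ℤ) * t = ((2 : ℕ) : ℤ) * t from rfl, zpow_mul, zpow_natCast, ← ho2,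
          pow_orderOf_eq_one, one_zpow, one_mul] at hj'
        exact hne hj'.symm
    obtain ⟨g, hgχ, hgπ⟩ := SetLike.not_le_iff_exists.mp key
    have hgO := hO g g.2
    have hcomm1 := hχ (ι g) (MonoidHom.mem_ker.mp hgχ)
    have hgc : ((g : N) : Perm α) ∈ Subgroup.centralizer (P : Set (Perm α)) := by
      rw [Subgroup.mem_centralizer_iff]
      intro h hh
      set u := ((g : N) : Perm α) with hu
      have hconj : ∀ q ∈ P, u * q * u⁻¹ * q⁻¹ ∈ P := fun q hq =>
        mul_mem (orbitFixer_conj hgO hq) (inv_mem hq)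
      have hfix1 : ∀ q ∈ P, ∀ y ∈ orbit P x₁, (u * q * u⁻¹ * q⁻¹) y = y := by
        intro q hq y hy
        have hy' : u⁻¹ (q⁻¹ y) ∈ orbit P x₁ := hOrb.orbitFixer_apply (inv_mem hgO) hx₁ (by
          rw [← orbit_eq_iff.mpr hy]; exact ⟨⟨q⁻¹, inv_mem hq⟩, rfl⟩)
        have h := hcomm1 q hq _ hy'
        show u (q (u⁻¹ (q⁻¹ y))) = y
        rw [show u (q (u⁻¹ (q⁻¹ y))) = q (u (u⁻¹ (q⁻¹ y))) from h]
        simp
      have hthree : ∀ y, y ∉ Δ → y ∉ orbit P x₁ → ∀ z, z ∉ Δ → z ∉ orbit P x₁ → z ∉ orbit P y →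
          ∀ w, w ∉ Δ → w ∉ orbit P x₁ → w ∉ orbit P z → w ∈ orbit P y := by
        intro y hy hy1 z hz hz1 hzy w hw hw1 hwz
        by_contra hwy
        have h4 : ({⟨_, x₁, hx₁, rfl⟩, ⟨_, y, hy, rfl⟩, ⟨_, z, hz, rfl⟩, ⟨_, w, hw, rfl⟩} : Finset Orb).card = 4 := by
          have ne1 : orbit P x₁ ≠ orbit P y := fun e => hy1 (e ▸ mem_orbit_self y)
          have ne2 : orbit P x₁ ≠ orbit P z := fun e => hz1 (e ▸ mem_orbit_self z)
          have ne3 : orbit P y ≠ orbit P z := fun e => hzy (e ▸ mem_orbit_self z)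
          have ne4 : orbit P x₁ ≠ orbit P w := fun e => hw1 (e ▸ mem_orbit_self w)
          have ne5 : orbit P y ≠ orbit P w := fun e => hwy (e ▸ mem_orbit_self w)
          have ne6 : orbit P z ≠ orbit P w := fun e => hwz (e ▸ mem_orbit_self w)
          rw [Finset.card_insert_of_notMem, Finset.card_eq_three.mpr ⟨_, _, _, fun e => ne3 (congrArg Subtype.val e),
            fun e => ne5 (congrArg Subtype.val e), fun e => ne6 (congrArg Subtype.val e), rfl⟩]
          simp only [Finset.mem_insert, Finset.mem_singleton, not_or]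
          exact ⟨fun e => ne1 (congrArg Subtype.val e), fun e => ne2 (congrArg Subtype.val e),
            fun e => ne4 (congrArg Subtype.val e)⟩
        have := Finset.card_le_univ ({⟨_, x₁, hx₁, rfl⟩, ⟨_, y, hy, rfl⟩, ⟨_, z, hz, rfl⟩, ⟨_, w, hw, rfl⟩} : Finset Orb)
        omega
      set e := u * h * u⁻¹ * h⁻¹ with he
      have heP := hconj h hh
      by_contra hne
      have he1 : e ≠ 1 := fun e1 => hne (by
        have := mul_inv_eq_one.mp e1
        rw [mul_inv_eq_iff_eq_mul] at this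
        exact this.symm)
      obtain ⟨y, hy⟩ : ∃ y, e y ≠ y := by
        by_contra hh'; push Not at hh'; exact he1 (Equiv.ext hh')
      have hyΔ : y ∉ Δ := fun hm => hy (hOrb.fix _ heP y hm)
      have hy1 : y ∉ orbit P x₁ := fun hm => hy (hfix1 h hh y hm)
      obtain ⟨z, hzΔ, hzy, hz⟩ : ∃ z, z ∉ Δ ∧ z ∉ orbit P y ∧ e z ≠ z := by
        by_contra hh'; push Not at hh'
        exact he1 (nosingle e heP y hyΔ fun w hw hw' => hh' w hw hw')
      have hz1 : z ∉ orbit P x₁ := fun hm => hz (hfix1 h hh z hm)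
      obtain ⟨q0, hq0, hq0x⟩ := hOrb.exists_moving hx₁
      obtain ⟨m, hm⟩ := hOrb.exists_pow_eq heP hzΔ hz hq0
      set q := (e ^ m)⁻¹ * q0 with hq
      have hqP : q ∈ P := mul_mem (inv_mem (pow_mem heP m)) hq0
      have hqz : ∀ w ∈ orbit P z, q w = w := fun w hw => by
        rw [hq, Perm.mul_apply, hm w hw]; exact Equiv.symm_apply_apply _ _
      have hqx : q x₁ ≠ x₁ := by
        intro hqx
        apply hq0x
        have hem : ∀ w ∈ orbit P x₁, (e ^ m) w = w := fun w hw => by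
          clear hm hqz hqx hqP hq
          induction m with
          | zero => rfl
          | succ m ih => rw [pow_succ, Perm.mul_apply, hfix1 h hh w hw, ih]
        have h1 : (e ^ m) (q x₁) = q0 x₁ := by rw [hq, Perm.mul_apply]; simp
        rw [hqx, hem _ (mem_orbit_self _)] at h1
        exact h1.symm
      have hqu : u * q * u⁻¹ * q⁻¹ = 1 := by
        refine nosingle _ (hconj q hqP) y hyΔ fun w hw hwy => ?_
        by_cases hw1 : w ∈ orbit P x₁
        · exact hfix1 q hqP w hw1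
        · have hwz : w ∈ orbit P z := by
            by_contra hwz; exact hwy (hthree y hyΔ hy1 z hzΔ hz1 hzy w hw hw1 hwz)
          have e1 : q⁻¹ w = w := by
            conv_lhs => rw [← hqz w hwz]
            simp
          show u (q (u⁻¹ (q⁻¹ w))) = w
          rw [e1, hqz _ (hOrb.orbitFixer_apply (inv_mem hgO) hzΔ hwz)]
          simp
      have hqy : q y ≠ y := by
        intro hqy
        have hq1 : q = 1 := by
          refine nosingle q hqP x₁ hx₁ fun w hw hw1 => ?_
          by_cases hwz : w ∈ orbit P z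
          · exact hqz w hwz
          · exact hOrb.fix_orbit hqP hyΔ hqy (hthree y hyΔ hy1 z hzΔ hz1 hzy w hw hw1 hwz)
        exact hqx (by rw [hq1]; rfl)
      apply hy
      obtain ⟨i, hi⟩ := hOrb.exists_pow_eq hqP hyΔ hqy hh
      have hcommq : Commute u q := mul_inv_eq_iff_eq_mul.mp (mul_inv_eq_one.mp hqu)
      have h' : u⁻¹ (h⁻¹ y) ∈ orbit P y := hOrb.orbitFixer_apply (inv_mem hgO) hyΔ ⟨⟨h⁻¹, inv_mem hh⟩, rfl⟩
      show u (h (u⁻¹ (h⁻¹ y))) = y
      rw [hi _ h', show u ((q ^ i) (u⁻¹ (h⁻¹ y))) = (q ^ i) (u (u⁻¹ (h⁻¹ y))) from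
        Equiv.congr_fun (hcommq.pow_right i).eq _, Perm.inv_def u, Equiv.apply_symm_apply,
        ← hi (h⁻¹ y) ⟨⟨h⁻¹, inv_mem hh⟩, rfl⟩]
      simp
    refine finishP (g : N) hgO hgc (fun e => hgπ (MonoidHom.mem_ker.mpr e)) (hsupp_le _) ?_
    refine Nat.Coprime.coprime_dvd_left (orderOf_dvd_natCard _) ?_
    rw [Nat.card_perm, Nat.card_eq_fintype_card, hcardΔ, hr]
    refine ((hp.coprime_iff_not_dvd).mpr fun hd => ?_).symm
    have := (Nat.Prime.dvd_factorial hp).mp hd
    omega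

end Cfsg.Agent.S4220
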