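import Cfsg.Statements.S4221
import Cfsg.Agent.H64.FourTransOdd
import Cfsg.Agent.H91.Jordan

set_option autoImplicit false
open Cfsg

namespace Cfsg.Agent.S4221

theorem card_eq_stab_mul {H β : Type*} [Group H] [MulAction H β] [Fintype β] {k : ℕ}
    (hk : MulAction.IsMultiplyPretransitive H β k) (y : Fin k ↪ β) :
    Nat.card H = Nat.card (MulAction.stabilizer H y) * (Fintype.card β).descFactorial k := by
  classical
  have h1 := MulAction.index_stabilizer_of_transitive (G := H) y
  rw [Nat.card_eq_fintype_card (α := Fin k ↪ β), Fintype.card_embedding_eq, Fintype.card_fin] at h1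
  rw [← h1, Subgroup.card_mul_index]

/-- Let `G` be a `4`-fold transitive permutation group on a finite set of `n` points in which the pointwise stabilizer of some four distinct points has odd order. Then `n = 4` or `n = 5` with `G` the full symmetric group, or `n = 6` or `n = 7` with `G` the alternating group, or `n = 11` and `G` has order `7920`. -/
theorem result {α : Type*} [Fintype α] [DecidableEq α] (G : Subgroup (Equiv.Perm α)) (hG : MulAction.IsMultiplyPretransitive G α 4) (x : Fin 4 ↪ α) (hodd : Odd (Nat.card (MulAction.stabilizer G x))) : ((Fintype.card α = 4 ∨ Fintype.card α = 5) ∧ G = ⊤) ∨ ((Fintype.card α = 6 ∨ Fintype.card α = 7) ∧ G = alternatingGroup α) ∨ (Fintype.card α = 11 ∧ Nat.card G = 7920) := by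
  classical
  haveI := hG
  have hn : 4 ≤ Fintype.card α := by
    simpa using Fintype.card_le_of_embedding x
  -- all four-point stabilisers have the order of that of `x`
  have hcard : ∀ y : Fin 4 ↪ α, Nat.card G =
      Nat.card (MulAction.stabilizer G y) * (Fintype.card α).descFactorial 4 :=
    fun y => card_eq_stab_mul hG y
  have hpos : 0 < (Fintype.card α).descFactorial 4 :=
    Nat.pos_of_ne_zero (by simp [Nat.descFactorial_eq_zero_iff_lt]; omega)
  have hsame : ∀ y : Fin 4 ↪ α, Nat.card (MulAction.stabilizer G y) =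
      Nat.card (MulAction.stabilizer G x) := fun y =>
    Nat.eq_of_mul_eq_mul_right hpos ((hcard y).symm.trans (hcard x))
  set h := Nat.card (MulAction.stabilizer G x) with hh
  have hdvd : h ∣ (Fintype.card α - 4).factorial := by
    have h1 : Nat.card G ∣ Nat.card (Equiv.Perm α) := Subgroup.card_subgroup_dvd_card G
    rw [Nat.card_perm, Nat.card_eq_fintype_card (α := α), hcard x, ← hh,
      ← Nat.factorial_mul_descFactorial hn] at h1
    exact (Nat.mul_dvd_mul_iff_right hpos).1 h1
  have hindex : G.index * Nat.card G = (Fintype.card α).factorial := by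
    rw [Subgroup.index_mul_card, Nat.card_perm, Nat.card_eq_fintype_card]
  have hsharp : h = 1 → ∀ y : Fin 4 ↪ α, MulAction.stabilizer G y = ⊥ := fun e y =>
    Subgroup.card_eq_one.1 ((hsame y).trans e)
  have hle : ∀ {m : ℕ}, Nat.card G = m → (Fintype.card α).factorial = m → G = ⊤ := by
    intro m e1 e2
    refine Subgroup.card_eq_iff_eq_top G |>.1 ?_
    rw [e1, Nat.card_perm, Nat.card_eq_fintype_card, e2]
  have halt : ∀ {m : ℕ}, Nat.card G = m → (Fintype.card α).factorial = 2 * m → 0 < m →
      G = alternatingGroup α := by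
    intro m e1 e2 hm
    refine Equiv.Perm.eq_alternatingGroup_of_index_eq_two ?_
    rw [e1, e2] at hindex
    exact Nat.eq_of_mul_eq_mul_right hm hindex
  obtain h4 | h5 | h6 | h7 | h8 : Fintype.card α = 4 ∨ Fintype.card α = 5 ∨ Fintype.card α = 6 ∨
      Fintype.card α = 7 ∨ 8 ≤ Fintype.card α := by omega
  · rw [h4] at hdvd
    have e : h = 1 := Nat.dvd_one.1 hdvd
    exact Or.inl ⟨Or.inl h4, hle (hcard x) (by rw [← hh, e, h4]; rfl)⟩
  · rw [h5] at hdvd
    have e : h = 1 := Nat.dvd_one.1 hdvd
    exact Or.inl ⟨Or.inr h5, hle (hcard x) (by rw [← hh, e, h5]; rfl)⟩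
  · rw [h6] at hdvd
    have hle2 : h ≤ 2 := Nat.le_of_dvd (by norm_num) hdvd
    have e : h = 1 := by obtain ⟨k, hk⟩ := hodd; omega
    exact Or.inr (Or.inl ⟨Or.inl h6, halt (hcard x) (by rw [← hh, e, h6]; rfl)
      (by rw [← hh, e]; omega)⟩)
  · rw [h7] at hdvd
    have hle6 : h ≤ 6 := Nat.le_of_dvd (by norm_num [Nat.factorial]) hdvd
    have h5' : h ≠ 5 := fun e => by rw [e] at hdvd; norm_num [Nat.factorial] at hdvd
    have h1 : h ≠ 1 := fun e => by
      rcases H91.jordan_four hG (hsharp e) hn with j | j | j | j <;> omega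
    have e : h = 3 := by obtain ⟨k, hk⟩ := hodd; omega
    exact Or.inr (Or.inl ⟨Or.inr h7, halt (hcard x) (by rw [← hh, e, h7]; rfl)
      (by rw [← hh, e]; omega)⟩)
  · have C : H64.FourOdd.Ctx G := ⟨hG, h8, fun g hg hfx => by
      obtain ⟨f⟩ : Nonempty (Fin 4 ↪ {a // a ∈ H64.FourOdd.fx g}) :=
        Function.Embedding.nonempty_of_card_le (by simpa using hfx)
      have hm : (⟨g, hg⟩ : G) ∈ MulAction.stabilizer G (f.trans (Function.Embedding.subtype _)) := by
        rw [MulAction.mem_stabilizer_iff]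
        ext i
        exact H64.FourOdd.mem_fx.1 (f i).2
      rw [← Subgroup.orderOf_mk g hg]
      exact hodd.of_dvd_nat ((hsame _) ▸ Subgroup.orderOf_dvd_natCard _ hm)⟩
    have hs : ∀ y : Fin 4 ↪ α, MulAction.stabilizer G y = ⊥ := by
      intro y
      rw [Subgroup.eq_bot_iff_forall]
      intro g hg
      rw [MulAction.mem_stabilizer_iff] at hg
      have hi : ∀ i, (g : Equiv.Perm α) (y i) = y i := fun i =>
        congrArg (fun f : Fin 4 ↪ α => f i) hg
      have hd : H64.FourOdd.D4 (y 0) (y 1) (y 2) (y 3) := by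
        refine ⟨?_, ?_, ?_, ?_, ?_, ?_⟩ <;> exact fun e => absurd (y.injective e) (by decide)
      have hmem : (g : Equiv.Perm α) ∈ H64.FourOdd.fixG G {y 0, y 1, y 2, y 3} :=
        ⟨g.2, H64.FourOdd.forall_four.2 ⟨hi 0, hi 1, hi 2, hi 3⟩⟩
      rw [C.trivial_stab hd, Subgroup.mem_bot] at hmem
      exact Subtype.ext hmem
    have e11 : Fintype.card α = 11 := by
      rcases H91.jordan_four hG hs hn with j | j | j | j <;> omega
    refine Or.inr (Or.inr ⟨e11, ?_⟩)
    rw [H91.card_eq_descFactorial hn hs, e11]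
    rfl

end Cfsg.Agent.S4221
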