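import Cfsg.Statements.S4222
import Mathlib

set_option autoImplicit false
open Cfsg

namespace Cfsg.Agent.S4222

/-- If a normal subgroup `N` of a finite group is complete (its centre is trivial and every automorphism of `N` is inner), then the group is the internal direct product of `N` and the centralizer of `N`: the centralizer is a complement to `N`. -/
theorem result {T : Type*} [Group T] [Finite T] (N : Subgroup T) [N.Normal] (hz : Subgroup.center ↥N = ⊥) (ha : Function.Surjective (MulAut.conj : ↥N →* MulAut ↥N)) : (Subgroup.centralizer (N : Set T)).IsComplement' N := by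
  set C := Subgroup.centralizer (N : Set T) with hC
  have hdisj : Disjoint C N := by
    rw [Subgroup.disjoint_def]
    intro x hxC hxN
    have : (⟨x, hxN⟩ : ↥N) ∈ Subgroup.center ↥N := by
      rw [Subgroup.mem_center_iff]
      intro y
      exact Subtype.ext (Subgroup.mem_centralizer_iff.mp hxC y y.2)
    rw [hz, Subgroup.mem_bot] at this
    exact congrArg Subtype.val this
  refine Subgroup.isComplement'_of_disjoint_and_mul_eq_univ hdisj ?_
  rw [Set.eq_univ_iff_forall]
  intro t
  obtain ⟨n, hn⟩ := ha (MulAut.conjNormal t)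
  refine ⟨t * (n : T)⁻¹, ?_, n, n.2, by simp⟩
  rw [SetLike.mem_coe, hC, Subgroup.mem_centralizer_iff]
  intro y hy
  have h1 := congrArg (fun (e : MulAut ↥N) => ((e ((MulAut.conjNormal t : MulAut ↥N).symm ⟨y, hy⟩) : ↥N) : T)) hn
  simp at h1
  -- n (t⁻¹ y t) n⁻¹ = y
  have h3 : t * (n:T)⁻¹ * ((n:T) * (t⁻¹ * y * t) * (n:T)⁻¹) = y * (t * (n:T)⁻¹) := by group
  rw [h1] at h3
  exact h3.symm

end Cfsg.Agent.S4222
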