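import Cfsg.Statements.S4230
import Mathlib.RingTheory.Polynomial.Cyclotomic.Expand
import Mathlib.FieldTheory.Finite.Basic
import Mathlib.Tactic.Ring

set_option autoImplicit false
open Cfsg

namespace Cfsg.Agent.S4230

/-- Let p be an odd prime, q a natural number not divisible by p, and e the multiplicative order of q modulo p. For a natural number f, p divides the value at q of the f-th cyclotomic polynomial if and only if f = e·p^j for some j ≥ 0. -/
theorem result (p q f : ℕ) (hp : p.Prime) (hp2 : p ≠ 2) (hpq : ¬ p ∣ q) :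
    ((p : ℤ) ∣ (Polynomial.cyclotomic f ℤ).eval (q : ℤ)) ↔ ∃ j : ℕ, f = orderOf (q : ZMod p) * p ^ j := by
  have : Fact p.Prime := ⟨hp⟩
  have hq : (q : ZMod p) ≠ 0 := fun h => hpq ((ZMod.natCast_eq_zero_iff q p).mp h)
  have hiff : ((p : ℤ) ∣ (Polynomial.cyclotomic f ℤ).eval (q : ℤ)) ↔
      (Polynomial.cyclotomic f (ZMod p)).IsRoot (q : ZMod p) := by
    rw [← ZMod.intCast_zmod_eq_zero_iff_dvd, Polynomial.IsRoot.def,
      ← Polynomial.map_cyclotomic_int f (ZMod p), Polynomial.eval_map,
      ← eq_intCast (Int.castRingHom (ZMod p)) ((Polynomial.cyclotomic f ℤ).eval (q : ℤ)),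
      ← Polynomial.eval₂_at_apply, eq_intCast, Int.cast_natCast]
  rw [hiff]
  have he0 : orderOf (q : ZMod p) ≠ 0 :=
    (orderOf_pos_iff.mpr (isOfFinOrder_iff_pow_eq_one.mpr
      ⟨p - 1, by have := hp.two_le; omega, ZMod.pow_card_sub_one_eq_one hq⟩)).ne'
  rcases eq_or_ne f 0 with rfl | hf
  · simp [he0, hp.ne_zero]
  obtain ⟨k, m, hm, rfl⟩ := Nat.exists_eq_pow_mul_and_not_dvd hf p hp.ne_one
  have : NeZero (m : ZMod p) := ⟨fun h => hm ((ZMod.natCast_eq_zero_iff m p).mp h)⟩
  rw [Polynomial.isRoot_cyclotomic_prime_pow_mul_iff_of_charP]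
  constructor
  · intro h
    exact ⟨k, by rw [h.eq_orderOf]; ring⟩
  · rintro ⟨j, hj⟩
    have hep : ¬ p ∣ orderOf (q : ZMod p) := by
      intro h
      have hdvd : orderOf (q : ZMod p) ∣ p - 1 :=
        orderOf_dvd_of_pow_eq_one (ZMod.pow_card_sub_one_eq_one hq)
      have := Nat.le_of_dvd (by have := hp.two_le; omega) (h.trans hdvd)
      have := hp.two_le
      omega
    have hkj : k = j := by
      have h1 := congrArg (fun n => n.factorization p) hj
      have hm0 : m ≠ 0 := fun h => hm (h ▸ dvd_zero p)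
      rw [Nat.factorization_mul (pow_ne_zero _ hp.ne_zero) hm0,
        Nat.factorization_mul he0 (pow_ne_zero _ hp.ne_zero)] at h1
      simpa [Nat.factorization_eq_zero_of_not_dvd hm, Nat.factorization_eq_zero_of_not_dvd hep,
        hp.factorization_self] using h1
    subst hkj
    rw [mul_comm (orderOf _)] at hj
    rw [Nat.eq_of_mul_eq_mul_left (pow_pos hp.pos k) hj]
    exact IsPrimitiveRoot.orderOf (q : ZMod p)

end Cfsg.Agent.S4230
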