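import Cfsg.Statements.S4231
import Cfsg.Agent.H32.AltAut

set_option autoImplicit false
open Cfsg

namespace Cfsg.Agent.S4231

open Equiv Equiv.Perm

/-- An element of order `q` of the alternating group fixing all points outside `[s, s+q)`. -/
lemma exists_cycle_elt (n s q : ℕ) (hq : Odd q) (hq1 : 1 < q) (hle : s + q ≤ n) :
    ∃ b : Perm (Fin n), orderOf b = q ∧ sign b = 1 ∧
      ∀ x : Fin n, b x ≠ x → s ≤ (x : ℕ) ∧ (x : ℕ) < s + q := by
  let ι : Fin q ↪ Fin n := ⟨fun i => ⟨s + i, by omega⟩, fun i j h => by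
    simp [Fin.ext_iff] at h; exact Fin.ext h⟩
  refine ⟨Equiv.Perm.viaEmbeddingHom ι (finRotate q), ?_, ?_, ?_⟩
  · rw [orderOf_injective _ (Equiv.Perm.viaEmbeddingHom_injective ι), ← lcm_cycleType,
      cycleType_finRotate_of_le hq1, Multiset.lcm_singleton, normalize_eq]
  · have h1 : orderOf (Equiv.Perm.viaEmbeddingHom ι (finRotate q)) = q := by
      rw [orderOf_injective _ (Equiv.Perm.viaEmbeddingHom_injective ι), ← lcm_cycleType,
        cycleType_finRotate_of_le hq1, Multiset.lcm_singleton, normalize_eq]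
    generalize Equiv.Perm.viaEmbeddingHom ι (finRotate q) = b at h1 ⊢
    have h2 : sign b ^ q = 1 := by rw [← map_pow, ← h1, pow_orderOf_eq_one, map_one]
    rcases Int.units_eq_one_or (sign b) with h | h
    · exact h
    · rw [h, hq.neg_one_pow] at h2; simp at h2
  · intro x hx
    by_contra hcon
    apply hx
    rw [Equiv.Perm.viaEmbeddingHom_apply]
    apply Equiv.Perm.viaEmbedding_apply_of_notMem
    rintro ⟨i, rfl⟩
    have : (ι i : ℕ) = s + i := rfl
    omega

/-- In `S_n`, `n < r ^ 2`, `r`-subgroups are abelian. -/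
lemma commute_of_pgroup (n r : ℕ) [Fact r.Prime] (hn : n < r ^ 2) (A : Subgroup (Perm (Fin n)))
    (hA : IsPGroup r A) : ∀ x ∈ A, ∀ y ∈ A, x * y = y * x := by
  have hr := (Fact.out : r.Prime)
  haveI : NeZero r := ⟨hr.ne_zero⟩
  set k := n / r with hk
  have hkr : k * r ≤ n := Nat.div_mul_le_self n r
  let ι : Fin k × ZMod r ↪ Fin n :=
    ((Equiv.prodCongr (Equiv.refl (Fin k)) (ZMod.finEquiv r).symm.toEquiv).trans
      finProdFinEquiv).toEmbedding.trans (Fin.castLEEmb hkr)
  let act : Multiplicative (Fin k → ZMod r) →* Perm (Fin k × ZMod r) :=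
    { toFun := fun v =>
        { toFun := fun z => (z.1, z.2 + Multiplicative.toAdd v z.1)
          invFun := fun z => (z.1, z.2 - Multiplicative.toAdd v z.1)
          left_inv := fun z => by simp
          right_inv := fun z => by simp }
      map_one' := by ext z <;> simp
      map_mul' := fun v w => by ext z <;> simp [add_assoc, add_comm (Multiplicative.toAdd w z.1)] }
  let f := (Equiv.Perm.viaEmbeddingHom ι).comp act
  have hf : Function.Injective f := by
    refine (Equiv.Perm.viaEmbeddingHom_injective ι).comp ?_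
    intro v w h
    apply Multiplicative.toAdd.injective
    funext i
    have := congrArg (fun g : Perm (Fin k × ZMod r) => (g (i, 0)).2) h
    simpa [act] using this
  have hcard : Nat.card f.range = r ^ k := by
    rw [← Nat.card_congr (MonoidHom.ofInjective hf).toEquiv,
      Nat.card_congr Multiplicative.toAdd, Nat.card_fun, Nat.card_zmod, Nat.card_fin]
  obtain ⟨Q, hQ⟩ := (IsPGroup.of_card hcard).exists_le_sylow
  have hQc : Nat.card (Q : Subgroup (Perm (Fin n))) = r ^ k := by
    rw [Q.card_eq_multiplicity, Nat.card_perm, Nat.card_fin]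
    congr 1
    have hlog : Nat.log r n < 2 := by
      rcases Nat.eq_zero_or_pos n with rfl | hn0
      · simp
      · exact (Nat.log_lt_iff_lt_pow hr.one_lt (by omega)).mpr hn
    rw [Nat.factorization_def _ hr, padicValNat_factorial hlog]
    simp [hk]
  have hQeq : f.range = (Q : Subgroup (Perm (Fin n))) :=
    Subgroup.eq_of_le_of_card_ge hQ (by rw [hQc, hcard])
  obtain ⟨P, hP⟩ := hA.exists_le_sylow
  obtain ⟨g, hg⟩ := MulAction.exists_smul_eq (Perm (Fin n)) Q P
  intro x hx y hy
  have hx' : x ∈ (g • Q : Sylow r (Perm (Fin n))) := hg ▸ hP hx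
  have hy' : y ∈ (g • Q : Sylow r (Perm (Fin n))) := hg ▸ hP hy
  change x ∈ ((g • Q : Sylow r (Perm (Fin n))) : Subgroup (Perm (Fin n))) at hx'
  change y ∈ ((g • Q : Sylow r (Perm (Fin n))) : Subgroup (Perm (Fin n))) at hy'
  rw [Sylow.coe_subgroup_smul, Subgroup.mem_pointwise_smul_iff_inv_smul_mem, ← hQeq] at hx' hy'
  obtain ⟨a, ha⟩ := hx'
  obtain ⟨b, hb⟩ := hy'
  apply MulAction.injective ((MulAut.conj g)⁻¹)
  simp only [smul_mul']
  rw [← ha, ← hb, ← map_mul, ← map_mul, mul_comm]

lemma sylow_abelian (n : ℕ) (hn : 5 ≤ n) (G : Subgroup (MulAut (alternatingGroup (Fin n))))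
    (r : ℕ) [Fact r.Prime] (hr2 : r ≠ 2) (hnr : n < r ^ 2) (R : Sylow r G) :
    IsMulCommutative (R : Subgroup G) := by
  have h4 : 4 ≤ Fintype.card (Fin n) := by simp; omega
  let c : alternatingGroup (Fin n) →* MulAut (alternatingGroup (Fin n)) := MulAut.conj
  have hc : Function.Injective c := H32.AltAut.conj_injective h4
  have hodd : Odd r := (Fact.out : r.Prime).odd_of_ne_two hr2
  set R' := (R : Subgroup G).map G.subtype with hR'
  have hR'p : IsPGroup r R' := R.2.map _
  have hin : R' ≤ c.range := by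
    intro z hz
    apply H32.AltAut.inner_of_odd_order h4
    obtain ⟨k, hk⟩ := hR'p ⟨z, hz⟩
    have hd : orderOf z ∣ r ^ k := by
      rw [orderOf_dvd_iff_pow_eq_one]
      exact congrArg Subtype.val hk
    exact (hodd.pow).of_dvd_nat hd
  set A := (R'.comap c).map (alternatingGroup (Fin n)).subtype with hA
  have hAp : IsPGroup r A := (hR'p.comap_of_injective c hc).map _
  refine ⟨⟨fun x y => ?_⟩⟩
  apply Subtype.ext
  apply Subtype.ext
  have hx : ((x : G) : MulAut (alternatingGroup (Fin n))) ∈ R' := ⟨x, x.2, rfl⟩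
  have hy : ((y : G) : MulAut (alternatingGroup (Fin n))) ∈ R' := ⟨y, y.2, rfl⟩
  obtain ⟨a, ha⟩ := hin hx
  obtain ⟨b, hb⟩ := hin hy
  have haA : (a : Perm (Fin n)) ∈ A := ⟨a, show c a ∈ R' by rw [ha]; exact hx, rfl⟩
  have hbA : (b : Perm (Fin n)) ∈ A := ⟨b, show c b ∈ R' by rw [hb]; exact hy, rfl⟩
  have hab : a * b = b * a := Subtype.ext (commute_of_pgroup n r hnr A hAp _ haA _ hbA)
  simp only [Subgroup.coe_mul]
  rw [← ha, ← hb, ← map_mul, hab, map_mul]

/-- Two disjointly supported elements give an element of product order. -/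
lemma exists_order (n : ℕ) (hn : 5 ≤ n) (G : Subgroup (MulAut (alternatingGroup (Fin n))))
    (hG : (MulAut.conj : alternatingGroup (Fin n) →* MulAut (alternatingGroup (Fin n))).range ≤ G)
    {a b : Perm (Fin n)} (ha : sign a = 1) (hb : sign b = 1) (hd : a.Disjoint b)
    (hc : Nat.Coprime (orderOf a) (orderOf b)) :
    ∃ g : G, orderOf g = orderOf a * orderOf b := by
  have h4 : 4 ≤ Fintype.card (Fin n) := by simp; omega
  refine ⟨⟨MulAut.conj ⟨a * b, ?_⟩, hG ⟨_, rfl⟩⟩, ?_⟩
  · rw [mem_alternatingGroup, map_mul, ha, hb, one_mul]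
  · rw [← Subgroup.orderOf_coe, orderOf_injective _ (H32.AltAut.conj_injective h4),
      ← Subgroup.orderOf_coe]
    exact hd.commute.orderOf_mul_eq_mul_orderOf_of_coprime hc

lemma two_case (n : ℕ) (hn : 5 ≤ n) (G : Subgroup (MulAut (alternatingGroup (Fin n))))
    (hG : (MulAut.conj : alternatingGroup (Fin n) →* MulAut (alternatingGroup (Fin n))).range ≤ G)
    (q : ℕ) [Fact q.Prime] (hq2 : q ≠ 2) (h : ∀ g : G, orderOf g ≠ 2 * q) :
    ∀ Q : Sylow q G, IsMulCommutative (Q : Subgroup G) := by
  have hq := (Fact.out : q.Prime)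
  by_cases hnq : n < q ^ 2
  · exact fun Q => sylow_abelian n hn G q hq2 hnq Q
  exfalso
  have hq3 : 3 ≤ q := by have := hq.two_le; omega
  have hq4 : q + 4 ≤ n := by nlinarith
  obtain ⟨b, hb, hbs, hbsupp⟩ := exists_cycle_elt n 4 q (hq.odd_of_ne_two hq2) (by omega) (by omega)
  let i : Fin 4 → Fin n := fun j => ⟨j, by omega⟩
  set a : Perm (Fin n) := swap (i 0) (i 1) * swap (i 2) (i 3) with ha
  have hne : ∀ {j l : Fin 4}, j ≠ l → i j ≠ i l := by
    intro j l hjl hh
    exact hjl (Fin.ext (by simpa [i] using hh))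
  have has : sign a = 1 := by
    rw [ha, map_mul, sign_swap (hne (by decide)), sign_swap (hne (by decide))]
    decide
  have hao : orderOf a = 2 := by
    apply orderOf_eq_prime
    · ext x
      simp only [ha, pow_two, Perm.mul_apply, Perm.one_apply]
      by_cases h0 : x = i 0
      · subst h0; simp [swap_apply_of_ne_of_ne, hne]
      by_cases h1 : x = i 1
      · subst h1; simp [swap_apply_of_ne_of_ne, hne]
      by_cases h2 : x = i 2
      · subst h2; simp [swap_apply_of_ne_of_ne, hne]
      by_cases h3 : x = i 3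
      · subst h3; simp [swap_apply_of_ne_of_ne, hne]
      · simp [swap_apply_of_ne_of_ne, h0, h1, h2, h3]
    · intro hh
      have := congrArg (fun g : Perm (Fin n) => g (i 0)) hh
      simp only [ha, Perm.mul_apply, Perm.one_apply] at this
      rw [swap_apply_of_ne_of_ne (hne (by decide)) (hne (by decide)), swap_apply_left] at this
      exact hne (by decide) this
  have hdis : a.Disjoint b := by
    intro x
    by_cases hx : b x = x
    · exact Or.inr hx
    have hx4 := (hbsupp x hx).1
    refine Or.inl ?_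
    have hxi : ∀ j, x ≠ i j := by
      intro j hh
      have h' : (x : ℕ) = (j : ℕ) := by rw [hh]
      omega
    simp [ha, swap_apply_of_ne_of_ne, hxi]
  obtain ⟨g, hg⟩ := exists_order n hn G hG has hbs hdis
    (by rw [hao, hb]; exact (Nat.coprime_primes Nat.prime_two hq).mpr (Ne.symm hq2))
  exact h g (by rw [hg, hao, hb])

/-- Let n ≥ 5 and let G be a group of automorphisms of the alternating group of degree n containing all inner automorphisms. If p ≠ q are primes and G has no element of order pq, then every Sylow p-subgroup of G is abelian or every Sylow q-subgroup of G is abelian. -/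
theorem result (n : ℕ) (hn : 5 ≤ n) (G : Subgroup (MulAut (alternatingGroup (Fin n))))
    (hG : (MulAut.conj : alternatingGroup (Fin n) →* MulAut (alternatingGroup (Fin n))).range ≤ G)
    (p q : ℕ) [Fact p.Prime] [Fact q.Prime] (hpq : p ≠ q) (h : ∀ g : G, orderOf g ≠ p * q) :
    (∀ P : Sylow p G, IsMulCommutative (P : Subgroup G)) ∨ (∀ Q : Sylow q G, IsMulCommutative (Q : Subgroup G)) := by
  by_cases hp2 : p = 2
  · subst hp2
    exact Or.inr (two_case n hn G hG q (fun h2 => hpq h2.symm) h)
  by_cases hq2 : q = 2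
  · subst hq2
    exact Or.inl (two_case n hn G hG p hp2 (fun g hg => h g (by rw [hg, mul_comm])))
  by_cases hnp : n < p ^ 2
  · exact Or.inl (fun P => sylow_abelian n hn G p hp2 hnp P)
  by_cases hnq : n < q ^ 2
  · exact Or.inr (fun Q => sylow_abelian n hn G q hq2 hnq Q)
  exfalso
  have hp := (Fact.out : p.Prime)
  have hq := (Fact.out : q.Prime)
  have hp3 : 3 ≤ p := by have := hp.two_le; omega
  have hq3 : 3 ≤ q := by have := hq.two_le; omega
  have hsum : p + q ≤ n := by nlinarith
  obtain ⟨a, ha, has, hasupp⟩ := exists_cycle_elt n 0 p (hp.odd_of_ne_two hp2) (by omega) (by omega)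
  obtain ⟨b, hb, hbs, hbsupp⟩ := exists_cycle_elt n p q (hq.odd_of_ne_two hq2) (by omega) hsum
  have hdis : a.Disjoint b := by
    intro x
    by_cases hx : b x = x
    · exact Or.inr hx
    refine Or.inl ?_
    by_contra hx'
    have := (hasupp x hx').2
    have := (hbsupp x hx).1
    omega
  obtain ⟨g, hg⟩ := exists_order n hn G hG has hbs hdis
    (by rw [ha, hb]; exact (Nat.coprime_primes hp hq).mpr hpq)
  exact h g (by rw [hg, ha, hb])

end Cfsg.Agent.S4231
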