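import Cfsg.Statements.S4234
import Cfsg.Agent.H29.PSL13

set_option autoImplicit false
open Cfsg

namespace Cfsg.Agent.S4234

lemma coatom_comap {G Q : Type*} [Group G] [Group Q] (f : G →* Q) (hf : Function.Surjective f)
    {M : Subgroup Q} (hM : IsCoatom M) : IsCoatom (M.comap f) := by
  refine ⟨fun h => hM.1 (Subgroup.comap_injective hf (h.trans (Subgroup.comap_top f).symm)),
    fun L hL => ?_⟩
  have hker : f.ker ≤ L := le_trans (fun x hx => show f x ∈ M by
    rw [MonoidHom.mem_ker.1 hx]; exact M.one_mem) hL.le
  have e : (L.map f).comap f = L := Subgroup.comap_map_eq_self hker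
  have hlt : M < L.map f := by
    refine lt_of_le_of_ne ?_ (fun h => hL.ne (by rw [h, e]))
    intro m hm
    obtain ⟨x, rfl⟩ := hf m
    exact Subgroup.mem_map_of_mem f (hL.le hm)
  rw [← e, hM.2 _ hlt, Subgroup.comap_top]

/-- Maximal normalisers pass to isomorphic groups. -/
lemma transfer {G Q : Type*} [Group G] [Group Q] (e : G ≃* Q)
    (h : ∀ A : Subgroup Q, ¬ A.Normal → IsCoatom (Subgroup.normalizer (A : Set Q)))
    (A : Subgroup G) (hA : ¬ A.Normal) : IsCoatom (Subgroup.normalizer (A : Set G)) := by
  have hs : Function.Surjective e.toMonoidHom := e.surjective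
  have h1 : A = (A.map e.toMonoidHom).comap e.toMonoidHom :=
    (Subgroup.comap_map_eq_self_of_injective e.injective A).symm
  have hn : ¬ (A.map e.toMonoidHom).Normal := fun hn => hA (h1 ▸ hn.comap _)
  rw [h1, ← Subgroup.comap_normalizer_eq_of_surjective _ hs]
  exact coatom_comap _ hs (h _ hn)

lemma neg_fix : ∀ u : ZMod 13, -u = u → u = 0 := by decide

lemma sl13 (A : Subgroup (Matrix.SpecialLinearGroup (Fin 2) (ZMod 13))) (hA : ¬ A.Normal) :
    IsCoatom (Subgroup.normalizer (A : Set (Matrix.SpecialLinearGroup (Fin 2) (ZMod 13)))) := by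
  have : Fact (Nat.Prime 13) := ⟨by norm_num⟩
  let π : Matrix.SpecialLinearGroup (Fin 2) (ZMod 13) →* Agent.H29.P13 := H39.proj
  have hs : Function.Surjective π := H39.proj_surjective
  set B := (A.map π).comap π with hB
  -- elements of `B` lie in `± A`
  have hmem : ∀ x ∈ B, x ∈ A ∨ -x ∈ A := by
    intro x hx
    obtain ⟨a, ha, he⟩ := hx
    rcases H39.proj_eq_proj_iff.1 he with h | h
    · exact Or.inl (h ▸ ha)
    · refine Or.inr ?_
      rw [h, neg_neg]; exact ha
  have hkey : Subgroup.normalizer (B : Set (Matrix.SpecialLinearGroup (Fin 2) (ZMod 13))) ≤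
      Subgroup.normalizer (A : Set (Matrix.SpecialLinearGroup (Fin 2) (ZMod 13))) := by
    by_cases hm : (-1 : Matrix.SpecialLinearGroup (Fin 2) (ZMod 13)) ∈ A
    · have : B = A := by
        refine le_antisymm (fun x hx => ?_) (Subgroup.le_comap_map π A)
        rcases hmem x hx with h | h
        · exact h
        · simpa using A.mul_mem hm h
      rw [this]
    · -- `A` has odd order
      have hodd : Odd (Nat.card A) := by
        by_contra heven
        rw [Nat.not_odd_iff_even, even_iff_two_dvd] at heven
        obtain ⟨a, ha⟩ := exists_prime_orderOf_dvd_card' 2 heven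
        have h2 : (a : Matrix.SpecialLinearGroup (Fin 2) (ZMod 13)) ^ 2 = 1 := by
          exact congrArg Subtype.val (orderOf_dvd_iff_pow_eq_one.1 (dvd_of_eq ha) : a ^ 2 = 1)
        have hne : (a : Matrix.SpecialLinearGroup (Fin 2) (ZMod 13)) ≠ 1 := fun h => by
          rw [Subtype.ext (a1 := a) (a2 := 1) h, orderOf_one] at ha
          norm_num at ha
        have hi : (a : Matrix.SpecialLinearGroup (Fin 2) (ZMod 13))⁻¹ = a :=
          inv_eq_of_mul_eq_one_right (by rw [← pow_two]; exact h2)
        set g := (a : Matrix.SpecialLinearGroup (Fin 2) (ZMod 13)) with hg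
        have hc := congrArg Subtype.val hi
        rw [Matrix.SpecialLinearGroup.coe_inv, Matrix.adjugate_fin_two] at hc
        have h00 : g.1 1 1 = g.1 0 0 := by simpa using congrFun (congrFun hc 0) 0
        have h01 : -g.1 0 1 = g.1 0 1 := by simpa using congrFun (congrFun hc 0) 1
        have h10 : -g.1 1 0 = g.1 1 0 := by simpa using congrFun (congrFun hc 1) 0
        have z01 : g.1 0 1 = 0 := by
          exact neg_fix _ h01
        have z10 : g.1 1 0 = 0 := by
          exact neg_fix _ h10
        have hd := g.2
        rw [Matrix.det_fin_two, z01, z10, h00, mul_zero, sub_zero] at hd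
        rcases mul_self_eq_one_iff.1 hd with h | h
        · apply hne
          apply Subtype.ext
          ext i j
          fin_cases i <;> fin_cases j <;> simp [h, h00, z01, z10]
        · apply hm
          have : g = -1 := by
            apply Subtype.ext
            ext i j
            fin_cases i <;> fin_cases j <;> simp [h, h00, z01, z10]
          rw [← this]; exact a.2
      intro g hg
      refine Subgroup.mem_normalizer_fintype fun x hx => ?_
      rcases hmem _ ((Subgroup.mem_normalizer_iff.1 hg x).1 (Subgroup.le_comap_map π A hx)) with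
        h | h
      · exact h
      · exfalso
        apply hm
        have hx1 : (g * x * g⁻¹) ^ Nat.card A = 1 := by
          rw [conj_pow]
          have : (⟨x, hx⟩ : A) ^ Nat.card A = 1 := pow_card_eq_one'
          rw [show x ^ Nat.card A = 1 from congrArg Subtype.val this]
          simp
        have hy1 : (-(g * x * g⁻¹)) ^ Nat.card A = 1 := by
          have : (⟨_, h⟩ : A) ^ Nat.card A = 1 := pow_card_eq_one'
          exact congrArg Subtype.val this
        rw [hodd.neg_pow, hx1] at hy1
        rw [hy1]; exact A.one_mem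
  have hn : ¬ (A.map π).Normal := by
    intro hn
    apply hA
    have : Subgroup.normalizer (B : Set (Matrix.SpecialLinearGroup (Fin 2) (ZMod 13))) = ⊤ := by
      rw [Subgroup.normalizer_eq_top_iff]; exact hn.comap π
    rw [← Subgroup.normalizer_eq_top_iff]
    exact eq_top_iff.2 (this ▸ hkey)
  have hco := coatom_comap π hs (Agent.H29.p13_normalizer _ hn)
  rw [Subgroup.comap_normalizer_eq_of_surjective _ hs, ← hB] at hco
  rcases hkey.lt_or_eq with h | h
  · exact absurd (Subgroup.normalizer_eq_top_iff.1 (hco.2 _ h)) hA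
  · rw [← h]; exact hco

/-- Let K be isomorphic to PSL(2, 13) or to SL(2, 13) and let S be a finite abelian group of order coprime to the order of K. Then in the direct product K × S every subgroup that is not normal has a normalizer that is a maximal subgroup. -/
theorem result {K S : Type*} [Group K] [CommGroup S] [Finite K] [Finite S]
    (hK : Nonempty (K ≃* Matrix.ProjectiveSpecialLinearGroup (Fin 2) (ZMod 13)) ∨
      Nonempty (K ≃* Matrix.SpecialLinearGroup (Fin 2) (ZMod 13)))
    (hKS : (Nat.card K).Coprime (Nat.card S)) (H : Subgroup (K × S)) (hH : ¬ H.Normal) :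
    IsCoatom (Subgroup.normalizer (H : Set (K × S))) := by
  classical
  have hK' : ∀ A : Subgroup K, ¬ A.Normal → IsCoatom (Subgroup.normalizer (A : Set K)) := by
    rcases hK with ⟨⟨e⟩⟩ | ⟨⟨e⟩⟩
    · exact transfer e (fun A hA => Agent.H29.p13_normalizer A hA)
    · exact transfer e sl13
  set f := MonoidHom.fst K S with hf
  have hs : Function.Surjective f := fun k => ⟨(k, 1), rfl⟩
  set A := H.map f with hAdef
  -- components of an element of `H` lie in `H`
  have hsplit : ∀ h ∈ H, ((h.1, 1) : K × S) ∈ H := by
    intro h hh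
    obtain ⟨i, hi⟩ := exists_pow_eq_self_of_coprime (x := h.1)
      (hKS.symm.coprime_dvd_right (orderOf_dvd_natCard h.1))
    have := H.pow_mem (H.pow_mem hh (Nat.card S)) i
    rwa [show ((h ^ Nat.card S) ^ i : K × S) = (h.1, 1) from by
      ext
      · simpa using hi
      · simp [pow_card_eq_one']] at this
  have hsplit2 : ∀ h ∈ H, ((1, h.2) : K × S) ∈ H := by
    intro h hh
    have := H.mul_mem (H.inv_mem (hsplit h hh)) hh
    rwa [show (h.1, 1)⁻¹ * h = ((1, h.2) : K × S) from by ext <;> simp] at this
  have hN : Subgroup.normalizer (H : Set (K × S)) = (Subgroup.normalizer (A : Set K)).comap f := by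
    ext g
    simp only [Subgroup.mem_comap, Subgroup.mem_normalizer_iff]
    have key : ∀ h : K × S, h ∈ H ↔ h.1 ∈ A ∧ ((1, h.2) : K × S) ∈ H := by
      intro h
      refine ⟨fun hh => ⟨⟨h, hh, rfl⟩, hsplit2 h hh⟩, fun ⟨⟨y, hy, hy1⟩, h2⟩ => ?_⟩
      have := H.mul_mem (hsplit y hy) h2
      rwa [show ((y.1, 1) : K × S) * (1, h.2) = h from by
        ext
        · simpa [hf] using hy1
        · simp] at this
    constructor
    · intro hg k
      have h1 := hg (k, 1)
      rw [key, key (g * (k, 1) * g⁻¹)] at h1
      simpa [hf, show ((1 : K), (1 : S)) = 1 from rfl, H.one_mem] using h1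
    · intro hg h
      have h1 := hg h.1
      rw [key, key (g * h * g⁻¹)]
      simp only [Prod.fst_mul, Prod.fst_inv, Prod.snd_mul, Prod.snd_inv]
      rw [show g.2 * h.2 * g.2⁻¹ = h.2 by rw [mul_comm g.2, mul_inv_cancel_right]]
      exact and_congr_left fun _ => h1
  rw [hN]
  refine coatom_comap f hs (hK' A fun hn => hH ?_)
  rw [← Subgroup.normalizer_eq_top_iff, hN, Subgroup.normalizer_eq_top_iff.2 hn, Subgroup.comap_top]

end Cfsg.Agent.S4234
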