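import Cfsg.Statements.S4235
import Cfsg.Agent.H11.FrobSys.Main

set_option autoImplicit false
open scoped Pointwise
open Cfsg

namespace Cfsg.Agent.S4235

/-- Let G be a finite group. Call a subgroup maximal solvable if it is solvable and not properly contained in a solvable subgroup. Suppose F assigns to each maximal solvable subgroup M a normal subgroup F(M) of M such that: every element of M outside F(M) centralizes no non-identity element of F(M); F(M) meets each conjugate g F(M) g⁻¹ with g outside M trivially; and F(M) is nontrivial unless M is abelian. Then G is solvable, or G is isomorphic to SL(2, K) for a finite field K of characteristic 2 with at least 4 elements, or G is isomorphic to a Suzuki group. -/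
theorem result {G : Type*} [Group G] [Finite G] (F : Subgroup G → Subgroup G)
    (h : ∀ M : Subgroup G, (Group.IsSolvable M ∧ ∀ M' : Subgroup G, M < M' → ¬ Group.IsSolvable M') →
      F M ≤ M ∧ M ≤ Subgroup.normalizer (F M : Set G) ∧
      (∀ a ∈ M, a ∉ F M → ∀ x ∈ F M, x * a = a * x → x = 1) ∧
      (∀ g : G, g ∉ M → F M ⊓ (MulAut.conj g • F M) = ⊥) ∧
      (F M ≠ ⊥ ∨ IsMulCommutative M)) :
    Group.IsSolvable G ∨
      (∃ (K : Type) (_ : Field K) (_ : Fintype K), (∃ n : ℕ, 2 ≤ n ∧ Fintype.card K = 2 ^ n) ∧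
        Nonempty (G ≃* Matrix.SpecialLinearGroup (Fin 2) K)) ∨
      Cfsg.Lie.IsoSuzuki G := by
  by_cases hsol : Group.IsSolvable G
  · exact Or.inl hsol
  refine Or.inr ?_
  have hF : H11.FrobSys.FSys F := h
  obtain ⟨M, hM⟩ := H11.FrobSys.exists_even hF hsol
  by_cases hab : ∀ x ∈ M, ∀ y ∈ M, x * y = y * x
  · refine Or.inl ?_
    haveI : Fact (Nat.Prime 2) := ⟨Nat.prime_two⟩
    obtain ⟨n, hn, ⟨e⟩⟩ := hM.iso (hM.exponent_two_of_comm hab)
    letI : Fintype (GaloisField 2 n) := Fintype.ofFinite _
    have hc : Subgroup.center (Matrix.SpecialLinearGroup (Fin 2) (GaloisField 2 n)) = ⊥ := by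
      rw [eq_bot_iff]
      intro A hA
      obtain ⟨r, hr, hrA⟩ := Matrix.SpecialLinearGroup.mem_center_iff.1 hA
      have h1 : r = 1 := by
        rw [Fintype.card_fin, sq] at hr
        rcases mul_self_eq_one_iff.1 hr with h1 | h1
        · exact h1
        · rw [h1, CharTwo.neg_eq]
      rw [Subgroup.mem_bot]
      exact Subtype.ext (by rw [← hrA, h1, map_one]; rfl)
    refine ⟨GaloisField 2 n, inferInstance, inferInstance, ⟨n, hn, ?_⟩, ⟨e.trans
      ((QuotientGroup.quotientMulEquivOfEq hc).trans QuotientGroup.quotientBot)⟩⟩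
    rw [← Nat.card_eq_fintype_card, GaloisField.card 2 n (by omega)]
  · push Not at hab
    obtain ⟨u, v, -, -, hC, -⟩ := hM.exists_ctx
    exact Or.inr (H11.SzUniq.ctx_isoSuzuki hC hab)

end Cfsg.Agent.S4235
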