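import Cfsg.Statements.S4237
import Cfsg.Agent.H36.HallCount

set_option autoImplicit false
open Cfsg

namespace Cfsg.Agent.S4237

/-- Let G be a finite group, p a prime and a a natural number such that p^(a+1) divides the order of G. Then the number of subgroups of G of order p^a is congruent to 1 or to 1 + p modulo p². -/
theorem result {G : Type*} [Group G] [Finite G] (p a : ℕ) (hp : p.Prime) (hdvd : p ^ (a + 1) ∣ Nat.card G) :
    Nat.card {H : Subgroup G // Nat.card H = p ^ a} ≡ 1 [MOD p ^ 2] ∨
      Nat.card {H : Subgroup G // Nat.card H = p ^ a} ≡ 1 + p [MOD p ^ 2] := by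
  have : Fact p.Prime := ⟨hp⟩
  obtain ⟨P⟩ : Nonempty (Sylow p G) := inferInstance
  obtain ⟨n, hn⟩ := IsPGroup.iff_card.mp P.isPGroup'
  have ha : a < n := by
    have h := P.dvd_card_of_dvd_card (p := p) (G := G)
    have h1 : p ^ (a + 1) ∣ Nat.card (P : Subgroup G) := by
      rw [P.card_eq_multiplicity]
      exact Nat.pow_dvd_pow p ((hp.pow_dvd_iff_le_factorization Nat.card_pos.ne').mp hdvd)
    rw [hn] at h1
    exact (Nat.pow_dvd_pow_iff_le_right hp.one_lt).mp h1
  by_cases h2 : p = 2
  · subst h2
    have h := H35.card_subgroups_prime_pow_modEq_one G 2 a hp ((pow_dvd_pow 2 (Nat.le_succ a)).trans hdvd)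
    unfold Nat.ModEq at h ⊢
    omega
  · have h := H36.card_subgroups_modEq_sylow P hn ha
    rcases H36.kulakoff h2 P.isPGroup' hn ha with h' | h'
    · exact Or.inl (h.trans h')
    · exact Or.inr (h.trans h')

end Cfsg.Agent.S4237
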