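import Cfsg.Statements.S4242
import Cfsg.Agent.H5.Frobenius
import Cfsg.Agent.H5.PResidual
import Cfsg.Agent.H81.Fitting
import Cfsg.Agent.H84.Invariant
import Cfsg.Agent.CompBasic

set_option autoImplicit false
open Cfsg

namespace Cfsg.Agent.S4242

/-- Let G be a finite group and p a prime dividing its order. Every maximal subgroup of G of order divisible by p is nilpotent if and only if G is nilpotent, or G is a minimal non-nilpotent group, or G is the internal direct product of a normal subgroup of order p and a normal minimal non-nilpotent subgroup of order prime to p. -/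
theorem result {G : Type*} [Group G] [Finite G] (p : ℕ) (hp : p.Prime) (hpG : p ∣ Nat.card G) :
    (∀ M : Subgroup G, IsCoatom M → p ∣ Nat.card M → Group.IsNilpotent M) ↔
      (Group.IsNilpotent G ∨ Cfsg.IsMinimalNonNilpotent G ∨
        ∃ Z K : Subgroup G, Z.Normal ∧ K.Normal ∧ Z ⊓ K = ⊥ ∧ Z ⊔ K = ⊤ ∧ Nat.card Z = p ∧
          Cfsg.IsMinimalNonNilpotent K ∧ ¬ p ∣ Nat.card K) := by
  classical
  haveI := Fact.mk hp
  have hnilsub : ∀ {A B : Subgroup G}, A ≤ B → Group.IsNilpotent B → Group.IsNilpotent A := by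
    intro A B hAB hB
    haveI := hB
    haveI : Group.IsNilpotent ↥(A.subgroupOf B) := inferInstance
    exact Group.nilpotent_of_mulEquiv (Subgroup.subgroupOfEquivOfLe hAB)
  constructor
  · intro h
    by_cases hnil : Group.IsNilpotent G
    · exact Or.inl hnil
    by_cases hmin : Cfsg.IsMinimalNonNilpotent G
    · exact Or.inr (Or.inl hmin)
    refine Or.inr (Or.inr ?_)
    obtain ⟨H, hHtop, hHn⟩ : ∃ H : Subgroup G, H ≠ ⊤ ∧ ¬ Group.IsNilpotent H := by
      by_contra hc
      push Not at hc
      exact hmin ⟨hnil, hc⟩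
    obtain ⟨M, hM, hHM⟩ := (eq_top_or_exists_le_coatom H).resolve_left hHtop
    have hMn : ¬ Group.IsNilpotent M := fun hn => hHn (hnilsub hHM hn)
    have hpM : ¬ p ∣ Nat.card M := fun hd => hMn (h M hM hd)
    have hsub : ∀ L : Subgroup G, L ≠ ⊤ → p ∣ Nat.card L → Group.IsNilpotent L := by
      intro L hL hd
      obtain ⟨X, hX, hLX⟩ := (eq_top_or_exists_le_coatom L).resolve_left hL
      exact hnilsub hLX (h X hX (hd.trans (Subgroup.card_dvd_of_le hLX)))
    have hcomm : ∀ L : Subgroup G, Group.IsNilpotent L → ∀ a ∈ L, ∀ b ∈ L,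
        (orderOf a).Coprime (orderOf b) → a * b = b * a := by
      intro L hL a ha b hb hab
      have := H81.commute_of_coprime_orderOf hL (x := (⟨a, ha⟩ : L)) (y := ⟨b, hb⟩)
        (by rwa [Subgroup.orderOf_mk, Subgroup.orderOf_mk])
      exact congrArg Subtype.val this
    have hinter : ∀ (O : Subgroup G), IsPGroup p O → ∀ y, y ∈ O → y ∈ M → y = 1 := by
      intro O hO y hyO hyM
      obtain ⟨k, hk⟩ := hO ⟨y, hyO⟩
      have h1 : orderOf y ∣ p ^ k := orderOf_dvd_of_pow_eq_one (by simpa using congrArg Subtype.val hk)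
      have h2 : orderOf y ∣ Nat.card M := Subgroup.orderOf_mk y hyM ▸ orderOf_dvd_natCard _
      exact orderOf_eq_one_iff.1 (Nat.eq_one_of_dvd_coprimes
        (((hp.coprime_iff_not_dvd.2 hpM)).pow_left k) h1 h2)
    have hmeetA : ∀ (O A : Subgroup G), IsPGroup p O → A ≤ M → A ≠ M →
        A ≤ Subgroup.normalizer (O : Set G) ∨ O ≤ Subgroup.normalizer (A : Set G) → O ⊔ A ≠ ⊤ := by
      intro O A hO hAM hne hN htop
      refine hne (le_antisymm hAM fun y hy => ?_)
      have hy' : y ∈ ((O ⊔ A : Subgroup G) : Set G) := by rw [htop]; trivial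
      rcases hN with hN | hN
      · rw [sup_comm, Subgroup.coe_mul_of_left_le_normalizer_right A O hN] at hy'
        obtain ⟨a, ha, o, ho, rfl⟩ := hy'
        have : o = 1 := hinter O hO o ho (by simpa using M.mul_mem (M.inv_mem (hAM ha)) hy)
        simpa [this] using ha
      · rw [Subgroup.coe_mul_of_left_le_normalizer_right O A hN] at hy'
        obtain ⟨o, ho, a, ha, rfl⟩ := hy'
        have : o = 1 := hinter O hO o ho (by simpa using M.mul_mem hy (M.inv_mem (hAM ha)))
        simpa [this] using ha
    have hO : Cfsg.pCore p G ≠ ⊥ := by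
      intro hO
      obtain ⟨P⟩ : Nonempty (Sylow p G) := inferInstance
      have hnpc : Cfsg.HasNormalPComplement p G := by
        refine H5.hasNormalPComplement_of_frobenius P fun Q hQP g hg hgp => ?_
        rw [Subgroup.mem_centralizer_iff]
        intro y hy
        by_cases hy1 : y = 1
        · simp [hy1]
        have hQ : IsPGroup p Q := P.2.to_le hQP
        have hNtop : Subgroup.normalizer (Q : Set G) ≠ ⊤ := by
          intro htop
          haveI := Subgroup.normalizer_eq_top_iff.mp htop
          have := Cfsg.Comp.le_pCore ‹Q.Normal› hQ hy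
          rw [hO, Subgroup.mem_bot] at this
          exact hy1 this
        obtain ⟨k, hk⟩ := hQ ⟨y, hy⟩
        have h1 : orderOf y ∣ p ^ k := orderOf_dvd_of_pow_eq_one (by simpa using congrArg Subtype.val hk)
        obtain ⟨i, -, hi⟩ := (Nat.dvd_prime_pow hp).1 h1
        have hdvd : p ∣ Nat.card ↥(Subgroup.normalizer (Q : Set G)) := by
          refine dvd_trans ?_ (Subgroup.orderOf_mk y (Subgroup.le_normalizer hy) ▸ orderOf_dvd_natCard _)
          rw [hi]
          refine dvd_pow_self p fun hi0 => hy1 ?_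
          rw [hi0, pow_zero] at hi
          exact orderOf_eq_one_iff.1 hi
        exact hcomm _ (hsub _ hNtop hdvd) y (Subgroup.le_normalizer hy) g hg
          (hi ▸ (Nat.Coprime.pow_left i hgp.symm))
      set N := Cfsg.pResidual p G with hN
      have hMN : M ≤ N := fun x hx => H5.mem_pResidual_of_coprime (Nat.Coprime.coprime_dvd_left
        (Subgroup.orderOf_mk x hx ▸ orderOf_dvd_natCard _) (hp.coprime_iff_not_dvd.2 hpM).symm)
      have hpN : ¬ p ∣ Nat.card N := H5.hasNormalPComplement_iff_not_dvd.1 hnpc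
      have hMeq : M = N := by
        by_contra hne
        have := hM.2 N (lt_of_le_of_ne hMN hne)
        rw [this, Subgroup.card_top] at hpN
        exact hpN hpG
      haveI : M.Normal := hMeq ▸ (inferInstance : N.Normal)
      obtain ⟨x, hx⟩ := exists_prime_orderOf_dvd_card' (G := G) p hpG
      set E := Subgroup.zpowers x with hE
      have hEp : IsPGroup p E := IsPGroup.of_card (n := 1) (by rw [hE, Nat.card_zpowers, hx, pow_one])
      have hEM : E ≤ Subgroup.normalizer (M : Set G) := le_of_le_of_eq le_top (Subgroup.normalizer_eq_top (H := _)).symm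
      have hcard : Nat.card M ∣ Nat.card ↥(Subgroup.centralizer (E : Set G) ⊓ M : Subgroup G) := by
        refine (Nat.dvd_iff_prime_pow_dvd_dvd _ _).2 fun q k hq hqk => ?_
        haveI := Fact.mk hq
        obtain ⟨S, ⟨hSM, hSq, hSi⟩, hES⟩ := H84.exists_inv_sylow (q := q) hEp hpM hEM
        have hSne : S ≠ M := fun he => hMn (IsPGroup.isNilpotent (he ▸ hSq))
        have hqS : q ^ k ∣ Nat.card S := by
          refine Nat.Coprime.dvd_of_dvd_mul_right ((hq.coprime_iff_not_dvd.2 hSi).pow_left k) ?_
          rw [← Subgroup.relIndex_bot_left, Subgroup.relIndex_mul_relIndex _ _ _ bot_le hSM, Subgroup.relIndex_bot_left]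
          exact hqk
        refine hqS.trans (Subgroup.card_dvd_of_le (le_inf (fun s hs => ?_) hSM))
        rw [Subgroup.mem_centralizer_iff]
        intro e he
        have hd : p ∣ Nat.card ↥(E ⊔ S) := by
          refine dvd_trans ?_ (Subgroup.card_dvd_of_le le_sup_left)
          rw [hE, Nat.card_zpowers, hx]
        refine hcomm _ (hsub _ (hmeetA E S hEp hSM hSne (Or.inr hES)) hd) e (Subgroup.mem_sup_left he) s
          (Subgroup.mem_sup_right hs) ?_
        obtain ⟨i, hi⟩ := hEp ⟨e, he⟩
        refine Nat.Coprime.of_dvd (orderOf_dvd_of_pow_eq_one (by simpa using congrArg Subtype.val hi))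
          (Subgroup.orderOf_mk s (hSM hs) ▸ orderOf_dvd_natCard _) ((hp.coprime_iff_not_dvd.2 hpM).pow_left i)
      have hMC : M ≤ Subgroup.centralizer (E : Set G) := by
        have := Subgroup.eq_of_le_of_card_ge (inf_le_right : Subgroup.centralizer (E : Set G) ⊓ M ≤ M)
          (Nat.le_of_dvd Nat.card_pos hcard)
        exact this ▸ inf_le_left
      have hx1 : x ≠ 1 := fun he => by rw [he, orderOf_one] at hx; exact hp.one_lt.ne hx
      have htop : E ⊔ M = ⊤ := hM.2 _ (lt_of_le_of_ne le_sup_right fun he =>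
        hx1 (hinter E hEp x (Subgroup.mem_zpowers x) (by rw [he]; exact Subgroup.mem_sup_left (Subgroup.mem_zpowers x))))
      have hnorm : E.Normal := by
        rw [← Subgroup.normalizer_eq_top_iff, eq_top_iff, ← htop]
        exact sup_le Subgroup.le_normalizer (hMC.trans (Subgroup.centralizer_le_normalizer _))
      have := Cfsg.Comp.le_pCore hnorm hEp (Subgroup.mem_zpowers x)
      rw [hO, Subgroup.mem_bot] at this
      exact hx1 this
    set O := Cfsg.pCore p G with hOdef
    have hOp : IsPGroup p O := Cfsg.Comp.pCore_isPGroup p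
    have hOnorm : O.Normal := inferInstance
    obtain ⟨k, hk⟩ := IsPGroup.iff_card.1 hOp
    have hpO : p ∣ Nat.card O := by
      rw [hk]
      refine dvd_pow_self p fun hk0 => hO ?_
      rw [hk0, pow_zero] at hk
      exact Subgroup.eq_bot_of_card_eq O hk
    have key : ∀ A : Subgroup G, A ≤ M → A ≠ M → Group.IsNilpotent A ∧ A ≤ Subgroup.centralizer (O : Set G) := by
      intro A hA hne
      have hne' := hmeetA O A hOp hA hne (Or.inl (le_of_le_of_eq le_top (Subgroup.normalizer_eq_top (H := _)).symm))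
      have hn := hsub _ hne' (hpO.trans (Subgroup.card_dvd_of_le le_sup_left))
      refine ⟨hnilsub le_sup_right hn, fun a ha => Subgroup.mem_centralizer_iff.2 fun o ho => ?_⟩
      refine hcomm _ hn o (Subgroup.mem_sup_left ho) a (Subgroup.mem_sup_right ha) ?_
      obtain ⟨i, hi⟩ := hOp ⟨o, ho⟩
      exact Nat.Coprime.of_dvd (orderOf_dvd_of_pow_eq_one (by simpa using congrArg Subtype.val hi))
        (Subgroup.orderOf_mk a (hA ha) ▸ orderOf_dvd_natCard _) ((hp.coprime_iff_not_dvd.2 hpM).pow_left i)
    have hMC : M ≤ Subgroup.centralizer (O : Set G) := fun m hm => by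
      refine (key (Subgroup.zpowers m) (Subgroup.zpowers_le.2 hm) fun he => hMn ?_).2 (Subgroup.mem_zpowers m)
      rw [← he]
      letI := IsCyclic.commGroup (α := Subgroup.zpowers m)
      infer_instance
    obtain ⟨⟨x, hxO⟩, hx⟩ := exists_prime_orderOf_dvd_card' (G := O) p hpO
    rw [Subgroup.orderOf_mk] at hx
    set Z := Subgroup.zpowers x with hZ
    have hx1 : x ≠ 1 := fun he => by rw [he, orderOf_one] at hx; exact hp.one_lt.ne hx
    have htop : Z ⊔ M = ⊤ := hM.2 _ (lt_of_le_of_ne le_sup_right fun he =>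
      hx1 (hinter O hOp x hxO (by rw [he]; exact Subgroup.mem_sup_left (Subgroup.mem_zpowers x))))
    have hMcomm : M ≤ Subgroup.centralizer (Z : Set G) :=
      hMC.trans (Subgroup.centralizer_le (SetLike.coe_subset_coe.2 (Subgroup.zpowers_le.2 hxO)))
    refine ⟨Z, M, ?_, ?_, ?_, htop, by rw [hZ, Nat.card_zpowers, hx], ⟨hMn, fun B hB => ?_⟩, hpM⟩
    · rw [← Subgroup.normalizer_eq_top_iff, eq_top_iff, ← htop]
      exact sup_le Subgroup.le_normalizer (hMcomm.trans (Subgroup.centralizer_le_normalizer _))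
    · rw [← Subgroup.normalizer_eq_top_iff, eq_top_iff, ← htop]
      exact sup_le ((Subgroup.le_centralizer_iff.1 hMcomm).trans (Subgroup.centralizer_le_normalizer _))
        Subgroup.le_normalizer
    · exact (eq_bot_iff.2 fun y hy => Subgroup.mem_bot.2
        (hinter O hOp y ((Subgroup.zpowers_le.2 hxO) hy.1) hy.2))
    · haveI := (key (B.map M.subtype) (Subgroup.map_subtype_le B) fun he => hB (by
        apply Subgroup.map_injective M.subtype_injective
        rw [he, ← MonoidHom.range_eq_map, Subgroup.range_subtype])).1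
      exact Group.nilpotent_of_mulEquiv (B.equivMapOfInjective M.subtype M.subtype_injective).symm
  · rintro (hn | hmin | ⟨Z, K, hZn, hKn, hbot, htop, hZc, hKmin, hpK⟩) M hM hd
    · haveI := hn; infer_instance
    · exact hmin.2 M hM.1
    · obtain ⟨⟨x, hxM⟩, hx⟩ := exists_prime_orderOf_dvd_card' (G := M) p hd
      rw [Subgroup.orderOf_mk] at hx
      have hxZ : x ∈ Z := by
        obtain ⟨z, hz, k, hk, hzk⟩ := Subgroup.mem_sup_of_normal_left.1 (htop.symm ▸ Subgroup.mem_top x : x ∈ Z ⊔ K)
        have hc : Commute z k := Subgroup.commute_of_normal_of_disjoint _ _ hZn hKn (disjoint_iff.2 hbot) z k hz hk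
        have h1 : k ^ p = 1 := by
          have := pow_orderOf_eq_one x
          rw [hx, ← hzk, hc.mul_pow] at this
          have hz1 : z ^ p = 1 := by
            rw [← hZc]
            exact congrArg Subtype.val (pow_card_eq_one' (x := (⟨z, hz⟩ : Z)))
          rwa [hz1, one_mul] at this
        have hk1 : k = 1 := orderOf_eq_one_iff.1 (Nat.eq_one_of_dvd_coprimes (hp.coprime_iff_not_dvd.2 hpK)
          (orderOf_dvd_of_pow_eq_one h1) (Subgroup.orderOf_mk k hk ▸ orderOf_dvd_natCard _))
        rw [← hzk, hk1, mul_one]; exact hz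
      have hZx : Subgroup.zpowers x = Z := Subgroup.eq_of_le_of_card_ge (Subgroup.zpowers_le.2 hxZ)
        (by rw [Nat.card_zpowers, hx, hZc])
      have hZM : Z ≤ M := hZx ▸ Subgroup.zpowers_le.2 hxM
      haveI : Group.IsNilpotent Z := by
        rw [← hZx]
        letI := IsCyclic.commGroup (α := Subgroup.zpowers x)
        infer_instance
      have hne : M ⊓ K ≠ K := fun he => hM.1 (eq_top_iff.2 (htop ▸ sup_le hZM (he ▸ inf_le_left)))
      haveI : Group.IsNilpotent ↥(M ⊓ K) := by
        haveI := hKmin.2 ((M ⊓ K).subgroupOf K) (fun he => hne (inf_eq_right.2 (Subgroup.subgroupOf_eq_top.1 he |>.trans inf_le_left)))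
        exact Group.nilpotent_of_mulEquiv (Subgroup.subgroupOfEquivOfLe inf_le_right)
      let f : Z × ↥(M ⊓ K) →* M := MonoidHom.noncommCoprod (Subgroup.inclusion hZM) (Subgroup.inclusion inf_le_left)
        fun a b => Subtype.ext (Subgroup.commute_of_normal_of_disjoint _ _ hZn hKn (disjoint_iff.2 hbot) a b a.2 b.2.2).eq
      refine Group.nilpotent_of_surjective f fun m => ?_
      obtain ⟨z, hz, k, hk, hzk⟩ := Subgroup.mem_sup_of_normal_left.1 (htop.symm ▸ Subgroup.mem_top (m : G) : (m : G) ∈ Z ⊔ K)
      have hkM : k ∈ M := by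
        have := M.mul_mem (M.inv_mem (hZM hz)) m.2
        rwa [← hzk, inv_mul_cancel_left] at this
      exact ⟨(⟨z, hz⟩, ⟨k, hkM, hk⟩), Subtype.ext hzk⟩

end Cfsg.Agent.S4242
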