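import Cfsg.Statements.S4244
import Cfsg.Agent.H36.Subnormal

set_option autoImplicit false
open Cfsg

namespace Cfsg.Agent.S4244

/-- Let H be a subnormal subgroup of a finite group G. Then for every subgroup K of G the index of H ∩ K in H divides the index of K in G. -/
theorem result {G : Type*} [Group G] [Finite G] (H : Subgroup G) (hH : H.IsSubnormal) (K : Subgroup G) :
    (H ⊓ K).relIndex H ∣ K.index := by
  rw [Subgroup.inf_relIndex_left]
  suffices h : ∀ L : Subgroup G, L.IsSubnormal → K.relIndex L ∣ K.index from h H hH
  intro L hL
  induction hL with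
  | top => simp [Subgroup.relIndex_top_right]
  | step L M hle _ hn ih =>
    refine dvd_trans ?_ ih
    have h1 : K.relIndex L = (K.subgroupOf M).relIndex (L.subgroupOf M) :=
      (Subgroup.relIndex_subgroupOf hle).symm
    rw [h1, ← H36.relIndex_sup_of_normal]
    exact Subgroup.relIndex_dvd_index_of_le le_sup_left

end Cfsg.Agent.S4244
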