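import Cfsg.Statements.S4249
import Cfsg.Agent.H56.Kegel

set_option autoImplicit false
open Cfsg

namespace Cfsg.Agent.S4249

open H56

/-- Let G be a finite group and p a prime such that G is not a p-group, and suppose the Hughes subgroup H_p(G), generated by all elements g with g^p ≠ 1, is a proper subgroup. Then H_p(G) is nilpotent and has index p in G. -/
theorem result {G : Type*} [Group G] [Finite G] (p : ℕ) (hp : p.Prime) (hG : ¬ IsPGroup p G)
    (hH : Subgroup.closure {g : G | g ^ p ≠ 1} ≠ ⊤) :
    Group.IsNilpotent (Subgroup.closure {g : G | g ^ p ≠ 1}) ∧ (Subgroup.closure {g : G | g ^ p ≠ 1}).index = p := by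
  have : (Subgroup.closure {g : G | g ^ p ≠ 1}).Normal := by
    refine ⟨fun n hn g => ?_⟩
    have hm : Subgroup.closure {g : G | g ^ p ≠ 1} ≤
        (Subgroup.closure {g : G | g ^ p ≠ 1}).comap (MulAut.conj g).toMonoidHom := by
      rw [Subgroup.closure_le]
      intro x hx
      refine Subgroup.subset_closure (show (g * x * g⁻¹) ^ p ≠ 1 from ?_)
      rw [conj_pow]
      exact fun h => hx (conj_eq_one_iff.1 h)
    exact hm hn
  exact hughes hp hG _ hH fun g hg => by
    by_contra h
    exact hg (Subgroup.subset_closure h)

end Cfsg.Agent.S4249
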