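import Cfsg.Statements.S4251
import Cfsg.Agent.H5.OmegaFusion
-- import your own Cfsg.Agent.* helpers here

set_option autoImplicit false
open Cfsg

namespace Cfsg.Agent.S4251

/-- Let P be a Sylow p-subgroup of a finite group G. Call an intersection H = P ∩ Q with a Sylow p-subgroup Q tame when N_P(H) and N_Q(H) are Sylow p-subgroups of N_G(H). If N_G(H)/C_G(H) is a p-group for every nontrivial tame intersection H = P ∩ Q, then G has a normal p-complement. -/
theorem result {G : Type*} [Group G] [Finite G] (p : ℕ) [Fact p.Prime] (P : Sylow p G)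
    (h : ∀ Q : Sylow p G, (P : Subgroup G) ⊓ (Q : Subgroup G) ≠ ⊥ → (¬ p ∣ ((P : Subgroup G) ⊓ Subgroup.normalizer (((P : Subgroup G) ⊓ (Q : Subgroup G) : Subgroup G) : Set G)).relIndex (Subgroup.normalizer (((P : Subgroup G) ⊓ (Q : Subgroup G) : Subgroup G) : Set G)) ∧ ¬ p ∣ ((Q : Subgroup G) ⊓ Subgroup.normalizer (((P : Subgroup G) ⊓ (Q : Subgroup G) : Subgroup G) : Set G)).relIndex (Subgroup.normalizer (((P : Subgroup G) ⊓ (Q : Subgroup G) : Subgroup G) : Set G))) →
      IsPGroup p (Subgroup.normalizer (((P : Subgroup G) ⊓ (Q : Subgroup G) : Subgroup G) : Set G) ⧸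
        (Subgroup.centralizer (((P : Subgroup G) ⊓ (Q : Subgroup G) : Subgroup G) : Set G)).subgroupOf
          (Subgroup.normalizer (((P : Subgroup G) ⊓ (Q : Subgroup G) : Subgroup G) : Set G)))) :
    Cfsg.HasNormalPComplement p G := by
  have hkey : ∀ Q : Sylow p G, let D := (P : Subgroup G) ⊓ (Q : Subgroup G)
      let N := Subgroup.normalizer (D : Set G)
      D ≠ ⊥ → (¬ p ∣ ((P : Subgroup G) ⊓ N).relIndex N ∧ ¬ p ∣ ((Q : Subgroup G) ⊓ N).relIndex N) →
        ∀ g ∈ N, Nat.Coprime (orderOf g) p → g ∈ Subgroup.centralizer (D : Set G) := by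
    intro Q D N hD ht g hg hgo
    haveI := H5.centralizer_subgroupOf_normalizer_normal D
    have h1 := H5.pResidual_le_of_isPGroup_quotient (h Q hD ht)
    exact h1 (H5.mem_pResidual_of_coprime (g := (⟨g, hg⟩ : N)) (by rw [Subgroup.orderOf_mk]; exact hgo))
  refine H5.hasNormalPComplement_of_fusion P fun x hx g hy => ?_
  obtain ⟨c, hc, hc'⟩ := H5.sylow_conj_centralizer_inf_of_tame P hkey (g • P)
  have hmem : g * x * g⁻¹ ∈ ((g • P : Sylow p G) : Subgroup G) := ⟨x, hx, rfl⟩
  have hcy : c * (g * x * g⁻¹) = (g * x * g⁻¹) * c := (hc _ ⟨hy, hmem⟩).symm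
  rw [← mul_smul] at hc'
  have hn : c * g ∈ Subgroup.normalizer (P : Set G) := Sylow.smul_eq_iff_mem_normalizer.mp hc'
  obtain ⟨u, v, huv, ⟨k, hu⟩, hv, hu', hv'⟩ := H5.exists_p_decomposition (p := p) (c * g)
  have huN := (Subgroup.zpowers_le.mpr hn) hu'
  have hvN := (Subgroup.zpowers_le.mpr hn) hv'
  have hcalc : ∀ w : G, w * x * w⁻¹ = c * (g * x * g⁻¹) * c⁻¹ → w * x * w⁻¹ = g * x * g⁻¹ := by
    intro w hw
    rw [hw, hcy, mul_inv_cancel_right]
  by_cases hP : (P : Subgroup G) = ⊥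
  · have hx1 : x = 1 := by
      have hx' : x ∈ (P : Subgroup G) := hx
      rwa [hP, Subgroup.mem_bot] at hx'
    exact ⟨1, Subgroup.one_mem _, by simp [hx1]⟩
  have huP : u ∈ P := by
    have hpu : IsPGroup p (Subgroup.zpowers u) := by
      intro a
      obtain ⟨a, i, rfl⟩ := a
      refine ⟨k, Subtype.ext ?_⟩
      show (u ^ i) ^ p ^ k = 1
      rw [← zpow_natCast, ← zpow_mul, mul_comm, zpow_mul, zpow_natCast, hu, one_zpow]
    exact ((hpu.inf_normalizer_sylow P).le ⟨Subgroup.mem_zpowers u, huN⟩).2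
  have hvC : v ∈ Subgroup.centralizer ((P : Subgroup G) : Set G) := by
    have := hkey P
    simp only [inf_idem] at this
    refine this hP ?_ v hvN hv
    rw [inf_eq_left.mpr Subgroup.le_normalizer, and_self]
    exact fun hd => P.not_dvd_index (hd.trans (Subgroup.relIndex_dvd_index_of_le Subgroup.le_normalizer))
  refine ⟨u, huP, hcalc u ?_⟩
  calc u * x * u⁻¹ = u * (v * x * v⁻¹) * u⁻¹ := by
        rw [← hvC x hx, mul_inv_cancel_right]
    _ = (c * g) * x * (c * g)⁻¹ := by rw [huv]; group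
    _ = c * (g * x * g⁻¹) * c⁻¹ := by group
end Cfsg.Agent.S4251
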