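import Cfsg.Statements.S4253
import Cfsg.Agent.H2.FrobeniusBasic

set_option autoImplicit false
open Cfsg
open Pointwise

namespace Cfsg.Agent.S4253

/-- Let H be a Frobenius complement in a finite group G (a nontrivial proper subgroup meeting each conjugate gHg⁻¹ with g outside H trivially). Then in the action of G on the left cosets of H by left multiplication, no non-identity element of G fixes two distinct cosets. -/
theorem result {G : Type*} [Group G] [Finite G] (H : Subgroup G) (hH : Cfsg.IsFrobeniusComplement H)
    (g : G) (hg : g ≠ 1) (a b : G ⧸ H) (ha : g • a = a) (hb : g • b = b) : a = b := by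
  obtain ⟨x, rfl⟩ := QuotientGroup.mk_surjective a
  obtain ⟨y, rfl⟩ := QuotientGroup.mk_surjective b
  have key : ∀ z : G, g • ((z : G) : G ⧸ H) = z → g ∈ MulAut.conj z • H := by
    intro z hz
    rw [H2.mem_conj_smul]
    have h1 : (g * z)⁻¹ * z ∈ H := QuotientGroup.eq.mp hz
    simpa [mul_assoc] using H.inv_mem h1
  exact QuotientGroup.eq.mpr (H2.conj_smul_eq_of_mem hH hg (key x ha) (key y hb))

end Cfsg.Agent.S4253
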