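import Cfsg.Statements.S4258
import Cfsg.Agent.H51.Bryu.Bound

set_option autoImplicit false
open Cfsg

namespace Cfsg.Agent.S4258

/-- Let G be a finite 2-soluble group whose Sylow 2-subgroups have exponent dividing 2^e. Then the 2-length of G is at most e. -/
theorem result {G : Type*} [Group G] [Finite G] (hG : Cfsg.IsPSolvable 2 G) (e : ℕ)
    (hexp : ∀ (P : Sylow 2 G), ∀ x ∈ (P : Subgroup G), x ^ 2 ^ e = 1) : Cfsg.PLengthLE 2 e G := by
  haveI : Fact (Nat.Prime 2) := ⟨Nat.prime_two⟩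
  have hz : ∀ (z : G) (b : ℕ), z ^ 2 ^ b = 1 → z ^ 2 ^ e = 1 := fun z b hz => by
    obtain ⟨k, -, hk⟩ := (Nat.dvd_prime_pow Nat.prime_two).mp (orderOf_dvd_of_pow_eq_one hz)
    have hp : IsPGroup 2 (Subgroup.zpowers z) :=
      IsPGroup.of_card (n := k) (by rw [Nat.card_zpowers, hk])
    obtain ⟨P, hP⟩ := hp.exists_le_sylow
    exact hexp P z (hP (Subgroup.mem_zpowers z))
  rcases e with _ | m
  · refine H32.PSeries.pLengthLE_zero_of_coprime ?_
    rw [Nat.coprime_two_right, ← Nat.not_even_iff_odd, even_iff_two_dvd]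
    intro h2
    obtain ⟨x, hx⟩ := exists_prime_orderOf_dvd_card' 2 h2
    have h := hz x 1 (by rw [pow_one, ← hx, pow_orderOf_eq_one])
    rw [pow_zero, pow_one] at h
    rw [h, orderOf_one] at hx
    exact absurd hx (by norm_num)
  · exact H51.Bryu.length_le m G (H51.Bryu.isSolvable_of_twoSolvable hG) hz

end Cfsg.Agent.S4258
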