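import Cfsg.Statements.S4259
import Cfsg.Agent.H51.Derived.Bound
import Cfsg.Agent.H51.DL.Local

set_option autoImplicit false
open Cfsg

namespace Cfsg.Agent.S4259

/-- Let G be a finite 2-soluble group whose Sylow 2-subgroups have derived length at most d. Then the 2-length of G is at most d. -/
theorem result {G : Type*} [Group G] [Finite G] (hG : Cfsg.IsPSolvable 2 G) (d : ℕ)
    (hd : ∀ P : Sylow 2 G, derivedSeries (P : Subgroup G) d = ⊥) : Cfsg.PLengthLE 2 d G := by
  obtain ⟨P⟩ : Nonempty (Sylow 2 G) := inferInstance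
  exact H51.Derived.length_le (fun r _ hr n E _ _ _ _ G' _ _ hG' H e he V hV =>
    H51.DL.local_core hr hG' H e he V hV) d G (H51.Bryu.isSolvable_of_twoSolvable hG) P (hd P)

end Cfsg.Agent.S4259
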