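import Cfsg.Statements.S4261
import Cfsg.Agent.H34.Solv

set_option autoImplicit false
open Cfsg

namespace Cfsg.Agent.S4261

/-- Let M be a maximal subgroup of a finite solvable group G such that x^[G : M] lies in M for every x in G. Then M is normal in G. -/
theorem result {G : Type*} [Group G] [Finite G] (hG : Group.IsSolvable G) (M : Subgroup G) (hM : IsCoatom M)
    (hexp : ∀ x : G, x ^ M.index ∈ M) : M.Normal := by
  obtain ⟨p, k, hp, hk⟩ := H34.isPrimePow_index_of_isCoatom hG M hM
  haveI := Fact.mk hp
  -- every element of order prime to `p` lies in the core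
  have hmem : ∀ x : G, (orderOf x).Coprime p → x ∈ M.normalCore := by
    intro x hx g
    refine H34.mem_of_pow_mem_coprime M (hexp _) ?_
    have ho : orderOf (g * x * g⁻¹) = orderOf x :=
      orderOf_injective (MulAut.conj g).toMonoidHom (MulAut.conj g).injective x
    rw [ho, hk]
    exact hx.pow_right k
  have hpg : IsPGroup p (G ⧸ M.normalCore) := by
    intro q
    obtain ⟨x, rfl⟩ := QuotientGroup.mk'_surjective M.normalCore q
    refine ⟨(orderOf x).factorization p, ?_⟩
    rw [← map_pow]
    refine (QuotientGroup.eq_one_iff _).2 (hmem _ ?_)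
    have hne : orderOf x ≠ 0 := (orderOf_pos x).ne'
    rw [orderOf_pow_of_dvd (pow_ne_zero _ hp.ne_zero) (Nat.ordProj_dvd (orderOf x) p)]
    exact (Nat.coprime_ordCompl hp hne).symm
  have hnil : Group.IsNilpotent (G ⧸ M.normalCore) := hpg.isNilpotent
  let f := QuotientGroup.mk' M.normalCore
  have hs : Function.Surjective f := QuotientGroup.mk'_surjective _
  have hcomap : (M.map f).comap f = M := by
    rw [Subgroup.comap_map_eq, QuotientGroup.ker_mk', sup_eq_left]; exact M.normalCore_le
  have hco : IsCoatom (M.map f) := by
    refine ⟨fun h => hM.1 ?_, fun K hK => ?_⟩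
    · rw [← hcomap, h, Subgroup.comap_top]
    · have h : M < K.comap f := hcomap.ge.trans_lt ((Subgroup.comap_lt_comap_of_surjective hs).2 hK)
      rw [← Subgroup.map_comap_eq_self_of_surjective hs K, hM.2 _ h, Subgroup.map_top_of_surjective f hs]
  have hn : (M.map f).Normal :=
    Subgroup.NormalizerCondition.normal_of_coatom _ Group.normalizerCondition_of_isNilpotent hco
  rw [← hcomap]
  exact hn.comap f

end Cfsg.Agent.S4261
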