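import Cfsg.Statements.S4263
import Cfsg.Agent.H36.Subnormal

set_option autoImplicit false
open Cfsg

namespace Cfsg.Agent.S4263

/-- Let G be a finite group. An element x lies in the Fitting subgroup F(G) if and only if, for every subgroup H of G, the power x^[G : H] lies in H. -/
theorem result {G : Type*} [Group G] [Finite G] (x : G) :
    x ∈ Cfsg.fittingSubgroup G ↔ ∀ H : Subgroup G, x ^ H.index ∈ H := by
  have hFn := H36.fittingSubgroup_normal' (G := G)
  have := H36.isNilpotent_fittingSubgroup (G := G)
  refine ⟨fun hx H => H36.pow_index_mem_of_isNilpotent_normal _ hx H, fun h => ?_⟩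
  rw [← QuotientGroup.eq_one_iff, ← orderOf_eq_one_iff]
  by_contra hne
  obtain ⟨p, hp, hdvd⟩ := Nat.exists_prime_and_dvd hne
  have hpF : Fact p.Prime := ⟨hp⟩
  let P0 : Sylow p G := Classical.arbitrary _
  set m := (P0 : Subgroup G).index with hm
  have hmP : ∀ P : Sylow p G, x ^ m ∈ (P : Subgroup G) := by
    intro P
    have hidx : (P : Subgroup G).index = m := by
      have h1 := (P : Subgroup G).card_mul_index
      have h2 := (P0 : Subgroup G).card_mul_index
      rw [P.card_eq_multiplicity] at h1
      rw [P0.card_eq_multiplicity] at h2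
      exact Nat.eq_of_mul_eq_mul_left (pow_pos hp.pos _) (h1.trans h2.symm)
    exact hidx ▸ h P
  have hxF : x ^ m ∈ Cfsg.fittingSubgroup G := by
    apply H36.pCore_le_fitting p
    rw [H1.pCore_eq_iInf_sylow p, Subgroup.mem_iInf]
    exact hmP
  have h1 : (QuotientGroup.mk x : G ⧸ Cfsg.fittingSubgroup G) ^ m = 1 := by
    rw [← QuotientGroup.mk_pow, QuotientGroup.eq_one_iff]
    exact hxF
  exact P0.not_dvd_index (hdvd.trans (orderOf_dvd_of_pow_eq_one h1))

end Cfsg.Agent.S4263
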