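import Cfsg.Statements.S4265
import Cfsg.Agent.H33.SolvLin.Complex

set_option autoImplicit false
open Cfsg

namespace Cfsg.Agent.S4265

/-- Let G be a finite solvable subgroup of GL_r(ℂ), r ≥ 1, with Fitting subgroup F(G) normal in G. Then for every subgroup H of G the quotient H/(H ∩ F(G)) has at most 3^{r−1} conjugacy classes. -/
theorem result (r : ℕ) (hr : 1 ≤ r) (G : Subgroup (GL (Fin r) ℂ)) [Finite ↥G] (hsolv : Group.IsSolvable ↥G) [hF : (Cfsg.fittingSubgroup ↥G).Normal] (H : Subgroup ↥G) : Nat.card (ConjClasses (↥H ⧸ (Cfsg.fittingSubgroup ↥G).subgroupOf H)) ≤ 3 ^ (r - 1) := by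
  let ρ : ↥G →* Module.End ℂ (Fin r → ℂ) :=
    ((Matrix.toLinAlgEquiv' : Matrix (Fin r) (Fin r) ℂ ≃ₐ[ℂ] _).toMonoidHom.comp
      (Units.coeHom _)).comp G.subtype
  have hρ : Function.Injective ρ := fun a b h =>
    Subtype.ext (Units.ext (Matrix.toLinAlgEquiv'.injective h))
  have hcb := H33.SolvLin.complex_bound r (Fin r → ℂ) ↥G ρ (by simp) hρ hsolv
  let f : ↥H →* ↥G ⧸ Cfsg.fittingSubgroup ↥G := (QuotientGroup.mk' (Cfsg.fittingSubgroup ↥G)).comp H.subtype
  have hker : (Cfsg.fittingSubgroup ↥G).subgroupOf H = f.ker := by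
    ext x
    exact (QuotientGroup.eq_one_iff (N := Cfsg.fittingSubgroup ↥G) (x : ↥G)).symm
  let g : ↥H ⧸ (Cfsg.fittingSubgroup ↥G).subgroupOf H →* ↥G ⧸ Cfsg.fittingSubgroup ↥G :=
    QuotientGroup.lift ((Cfsg.fittingSubgroup ↥G).subgroupOf H) f hker.le
  have hg : Function.Injective g := by
    rw [← MonoidHom.ker_eq_bot_iff, QuotientGroup.ker_lift, ← hker, QuotientGroup.map_mk'_self]
  exact (hcb.of_injective g hg).self

end Cfsg.Agent.S4265
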