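import Cfsg.Statements.S4273
import Cfsg.Agent.H19.J1Order.Cent
import Cfsg.Agent.H16.Janko1.Uniq.Unique
-- import your own Cfsg.Agent.* helpers here

set_option autoImplicit false
open Cfsg

namespace Cfsg.Agent.S4273

/-- Uniqueness of the simple group of order 175560: any two finite simple groups of order 175560 are isomorphic. -/
theorem result {G : Type*} {H : Type*} [Group G] [Finite G] [IsSimpleGroup G] [Group H] [Finite H] [IsSimpleGroup H] (hG : Nat.card G = 175560) (hH : Nat.card H = 175560) : Nonempty (G ≃* H) := by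
  obtain ⟨t, ht, ⟨e⟩⟩ := H19.J1Order.exists_janko_involution hG
  obtain ⟨u, hu, ⟨f⟩⟩ := H19.J1Order.exists_janko_involution hH
  obtain ⟨α⟩ := H16.J1.Uniq.iso_tableGroup_of_equiv t ht e
  obtain ⟨β⟩ := H16.J1.Uniq.iso_tableGroup_of_equiv u hu f
  exact ⟨α.trans β.symm⟩

end Cfsg.Agent.S4273
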