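import Cfsg.Statements.S4274
import Cfsg.Agent.H32.ExactSieve

set_option autoImplicit false
universe u
open Cfsg

namespace Cfsg.Agent.S4274

open Subgroup
open scoped Pointwise
open H32.ExactSieve

/-- The divisors of `175560`. -/
def dlist : List ℕ := divList [2, 2, 2, 3, 5, 7, 11, 19]

/-- The odd primes dividing `d`. -/
def plist (d : ℕ) : List ℕ := [19, 11, 7, 5, 3].filter fun p => d % p == 0

theorem check : dlist.all (fun d =>
    (d % 19 != 0) || (d == 175560) || dead dlist d (plist d) []) = true := by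
  decide +kernel

theorem mem_dlist {d : ℕ} (h : d ∣ 175560) : d ∈ dlist := by
  refine mem_divList _ ?_ d (by simpa using h)
  intro p hp
  simp only [List.mem_cons, List.not_mem_nil, or_false] at hp
  rcases hp with rfl | rfl | rfl | rfl | rfl | rfl | rfl | rfl <;> norm_num

theorem small_pow : ∀ r ≤ 11, ∀ e : ℕ, r.Prime → r ^ e ∣ 9240 → r ^ e ≤ 11 := by
  intro r hr e hr2 hd
  have he : e < 4 := by
    by_contra h
    have h4 : r ^ 4 ∣ 9240 := (pow_dvd_pow r (not_lt.mp h)).trans hd
    interval_cases r <;> (revert h4 hr2; norm_num)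
  interval_cases r <;> interval_cases e <;> (revert hd hr2; norm_num)

/-- A normal subgroup of order divisible by `19` with a normal Sylow `19`-subgroup. -/
theorem normal_of_normal {G : Type*} [Group G] [Finite G] [Fact (Nat.Prime 19)]
    (N : Subgroup G) [N.Normal] (hd : Nat.card G ∣ 175560) (h19 : 19 ∣ Nat.card N)
    (hN : ∀ R : Sylow 19 N, (R : Subgroup N).Normal) :
    ∀ P : Sylow 19 G, (P : Subgroup G).Normal := by
  intro P
  set R : Sylow 19 N := default
  have := hN R
  have hchar := R.characteristic_of_normal (hN R)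
  have hnorm : ((R : Subgroup N).map N.subtype).Normal := inferInstance
  have hsq : ∀ m, m ∣ 175560 → ¬ 19 ^ 2 ∣ m := fun m hm h => absurd (h.trans hm) (by norm_num)
  have hcard : ∀ {H : Type _} [Group H] [Finite H] (S : Sylow 19 H), 19 ∣ Nat.card H →
      Nat.card H ∣ 175560 → Nat.card (S : Subgroup H) = 19 := by
    intro H _ _ S h hdiv
    obtain ⟨k, hk⟩ := S.isPGroup'.exists_card_eq
    have h1 := S.dvd_card_of_dvd_card h
    have h2 : 19 ^ k ∣ 175560 := hk ▸ (Subgroup.card_subgroup_dvd_card _).trans hdiv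
    rw [hk] at h1 ⊢
    rcases k with _ | _ | k
    · norm_num at h1
    · rfl
    · exact absurd (dvd_trans (pow_dvd_pow 19 (by omega : 2 ≤ k + 1 + 1)) h2) (by norm_num)
  have hNd : Nat.card N ∣ 175560 := (Subgroup.card_subgroup_dvd_card N).trans hd
  have hR : Nat.card ((R : Subgroup N).map N.subtype) = 19 := by
    rw [Subgroup.card_map_of_injective N.subtype_injective]
    exact hcard R h19 hNd
  have hle : (R : Subgroup N).map N.subtype ≤ (P : Subgroup G) :=
    IsPGroup.le_sylow_of_normal (R.isPGroup'.map _) P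
  rwa [← Subgroup.eq_of_le_of_card_ge hle
    (by rw [hR, hcard P (h19.trans (Subgroup.card_subgroup_dvd_card N)) hd])]

theorem key : ∀ (d : ℕ) {G : Type u} [Group G] [Finite G], Nat.card G = d → d ∣ 175560 →
    19 ∣ d → (IsSimpleGroup G ∧ d = 175560) ∨ ∀ P : Sylow 19 G, (P : Subgroup G).Normal := by
  intro d
  induction d using Nat.strong_induction_on with
  | _ d ih =>
  intro G _ _ hcard hd h19
  haveI : Fact (Nat.Prime 19) := ⟨by norm_num⟩
  by_cases hs : IsSimpleGroup G
  · by_cases hd' : d = 175560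
    · exact Or.inl ⟨hs, hd'⟩
    refine Or.inr fun P => ?_
    by_cases hc : IsMulCommutative G
    · exact Subgroup.normal_of_comm _
    exfalso
    have hchk := (List.all_eq_true.mp check) d (mem_dlist hd)
    simp only [bne_iff_ne, Bool.or_eq_true, beq_iff_eq, ne_eq] at hchk
    rcases hchk with (h | h) | h
    · exact h (Nat.mod_eq_zero_of_dvd h19)
    · exact hd' h
    · refine false_of_dead hc dlist (fun e he => mem_dlist ((hcard ▸ he).trans hd)) (plist d)
        (List.Nodup.filter _ (by decide)) ?_ (hcard ▸ h)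
      intro p hp
      simp only [plist, List.mem_filter, List.mem_cons, List.not_mem_nil, or_false,
        beq_iff_eq] at hp
      obtain ⟨hp, hpd⟩ := hp
      have hsq : ∀ q : ℕ, ¬ q * q ∣ 175560 → d % (q * q) ≠ 0 := fun q hq h =>
        hq ((Nat.dvd_of_mod_eq_zero h).trans hd)
      rw [hcard]
      have hpd' := Nat.dvd_of_mod_eq_zero hpd
      rcases hp with rfl | rfl | rfl | rfl | rfl <;>
        exact ⟨by norm_num, by norm_num, hpd', hsq _ (by norm_num)⟩
  refine Or.inr ?_
  have hnt : Nontrivial G := by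
    rw [← Finite.one_lt_card_iff_nontrivial, hcard]
    have := Nat.le_of_dvd (Nat.pos_of_ne_zero (by rintro rfl; simp at hd)) h19
    omega
  obtain ⟨N, hNn, hN1, hN2⟩ : ∃ N : Subgroup G, N.Normal ∧ N ≠ ⊥ ∧ N ≠ ⊤ := by
    by_contra hcon
    apply hs
    exact ⟨fun H hH => or_iff_not_imp_left.mpr fun h1 =>
      by_contra fun h2 => hcon ⟨H, hH, h1, h2⟩⟩
  have step : ∀ (M : Subgroup G), M.Normal → M ≠ ⊤ → 19 ∣ Nat.card M →
      ∀ P : Sylow 19 G, (P : Subgroup G).Normal := by
    intro M hMn hM hM19
    have hlt : Nat.card M < d := hcard ▸ lt_of_le_of_ne (Subgroup.card_le_card_group M)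
      (fun h => hM (Subgroup.card_eq_iff_eq_top M |>.mp h))
    have hMd : Nat.card M ∣ d := hcard ▸ Subgroup.card_subgroup_dvd_card M
    refine normal_of_normal M (hcard ▸ hd) hM19 ?_
    refine (ih _ hlt rfl (hMd.trans hd) hM19).resolve_left ?_
    rintro ⟨-, h⟩
    have := Nat.le_of_dvd (by norm_num : 0 < 175560) hd
    omega
  by_cases hN19 : 19 ∣ Nat.card N
  · exact step N hNn hN2 hN19
  have hmul : Nat.card (G ⧸ N) * Nat.card N = d := by
    rw [← hcard]; exact (Subgroup.card_eq_card_quotient_mul_card_subgroup N).symm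
  have hN0 : 1 < Nat.card N := (Subgroup.one_lt_card_iff_ne_bot N).mpr hN1
  have hQd : Nat.card (G ⧸ N) ∣ d := ⟨_, hmul.symm⟩
  have hQ19 : 19 ∣ Nat.card (G ⧸ N) :=
    ((Nat.Prime.dvd_mul (by norm_num)).mp (hmul.symm ▸ h19)).resolve_right hN19
  have hQlt : Nat.card (G ⧸ N) < d := by
    rw [← hmul]
    exact lt_mul_of_one_lt_right Nat.card_pos hN0
  have hQn := (ih _ hQlt rfl (hQd.trans hd) hQ19).resolve_left (by
    rintro ⟨-, h⟩
    have := Nat.le_of_dvd (by norm_num : 0 < 175560) hd
    omega)
  set R : Sylow 19 (G ⧸ N) := default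
  have := hQn R
  set M := (R : Subgroup (G ⧸ N)).comap (QuotientGroup.mk' N) with hM
  have hRc : Nat.card (R : Subgroup (G ⧸ N)) = 19 := by
    obtain ⟨k, hk⟩ := R.isPGroup'.exists_card_eq
    have h1 := R.dvd_card_of_dvd_card hQ19
    have h2 : 19 ^ k ∣ 175560 :=
      hk ▸ (Subgroup.card_subgroup_dvd_card _).trans (hQd.trans hd)
    rw [hk] at h1 ⊢
    rcases k with _ | _ | k
    · norm_num at h1
    · rfl
    · exact absurd (dvd_trans (pow_dvd_pow 19 (by omega : 2 ≤ k + 1 + 1)) h2) (by norm_num)
  have hMi : M.index = (R : Subgroup (G ⧸ N)).index :=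
    Subgroup.index_comap_of_surjective _ (QuotientGroup.mk'_surjective N)
  have hMc : Nat.card M = 19 * Nat.card N := by
    have h1 := M.card_mul_index
    rw [hcard, ← hmul, ← (R : Subgroup (G ⧸ N)).card_mul_index, hMi, hRc] at h1
    have hpos : 0 < (R : Subgroup (G ⧸ N)).index :=
      Nat.pos_of_ne_zero Subgroup.index_ne_zero_of_finite
    exact Nat.eq_of_mul_eq_mul_right hpos (by rw [h1]; ring)
  by_cases hMtop : M = ⊤
  swap
  · exact step M inferInstance hMtop (hMc ▸ dvd_mul_right 19 _)
  rw [hMtop, Subgroup.card_top, hcard] at hMc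
  have hNd : Nat.card N ∣ 9240 :=
    Nat.dvd_of_mul_dvd_mul_left (by norm_num : 0 < 19) (hMc ▸ hd)
  have hNidx : N.index = 19 := by
    have := N.card_mul_index
    rw [hcard, hMc, mul_comm 19] at this
    exact Nat.eq_of_mul_eq_mul_left Nat.card_pos this
  have hd19 : ¬ 19 ^ 2 ∣ d := fun h => absurd (h.trans hd) (by norm_num)
  have hP19 : ∀ P : Sylow 19 G, Nat.card (P : Subgroup G) = 19 := by
    intro P
    obtain ⟨k, hk⟩ := P.isPGroup'.exists_card_eq
    have h1 := P.dvd_card_of_dvd_card (hcard ▸ h19)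
    have h2 : 19 ^ k ∣ 175560 := hk ▸ (Subgroup.card_subgroup_dvd_card _).trans (hcard ▸ hd)
    rw [hk] at h1 ⊢
    rcases k with _ | _ | k
    · norm_num at h1
    · rfl
    · exact absurd (dvd_trans (pow_dvd_pow 19 (by omega : 2 ≤ k + 1 + 1)) h2) (by norm_num)
  intro P
  suffices hC : centralizer ((P : Subgroup G) : Set G) = ⊤ by
    rw [← Subgroup.normalizer_eq_top_iff, ← top_le_iff, ← hC]
    exact centralizer_le_normalizer _
  rw [← Subgroup.card_eq_iff_eq_top]
  apply Nat.dvd_antisymm (Subgroup.card_subgroup_dvd_card _)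
  rw [← Nat.factorization_le_iff_dvd Nat.card_pos.ne' Nat.card_pos.ne']
  intro q
  by_cases hq : q.Prime
  swap
  · simp [Nat.factorization_eq_zero_of_not_prime _ hq]
  haveI := Fact.mk hq
  rw [← hq.pow_dvd_iff_le_factorization Nat.card_pos.ne']
  set Q : Sylow q N := default
  by_cases hq19 : q = 19
  · subst hq19
    rw [← Sylow.card_eq_multiplicity P]
    exact Subgroup.card_dvd_of_le (le_centralizer_self P (hP19 P))
  -- the Sylow `q`-subgroup is centralised by a Sylow `19`-subgroup of its normalizer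
  set QG := (Q : Subgroup N).map N.subtype with hQG
  have hQGc : Nat.card QG = q ^ (Nat.card G).factorization q := by
    rw [hQG, Subgroup.card_map_of_injective N.subtype_injective, Q.card_eq_multiplicity, hcard,
      hMc, Nat.factorization_mul (by norm_num) Nat.card_pos.ne',
      Nat.Prime.factorization (by norm_num : Nat.Prime 19)]
    simp [hq19]
  have hsup : normalizer (QG : Set G) ⊔ N = ⊤ := Sylow.normalizer_sup_eq_top Q
  have h19N : 19 ∣ Nat.card (normalizer (QG : Set G)) := by
    have h1 := Subgroup.relIndex_sup_right (normalizer (QG : Set G)) N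
    rw [hsup, Subgroup.relIndex_top_right, hNidx] at h1
    exact h1 ▸ Subgroup.relIndex_dvd_card N _
  obtain ⟨x, hx⟩ := exists_prime_orderOf_dvd_card' 19 h19N
  have hxo : orderOf (x : G) = 19 := by rw [Subgroup.orderOf_coe, hx]
  obtain ⟨P', hP'⟩ := (IsPGroup.of_card (p := 19) (n := 1)
    (by rw [Nat.card_zpowers, hxo, pow_one] : Nat.card (zpowers (x : G)) = 19 ^ 1)).exists_le_sylow
  have hP'e : zpowers (x : G) = (P' : Subgroup G) :=
    Subgroup.eq_of_le_of_card_ge hP' (by rw [hP19 P', Nat.card_zpowers, hxo])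
  rw [card_centralizer_sylow P P', ← hQGc]
  apply Subgroup.card_dvd_of_le
  have hsmall : Nat.card QG ≤ 11 := by
    rw [hQGc]
    have hqd : q ^ (Nat.card G).factorization q ∣ 9240 := by
      rw [← hQGc, hQG, Subgroup.card_map_of_injective N.subtype_injective]
      exact (Subgroup.card_subgroup_dvd_card _).trans hNd
    generalize he : (Nat.card G).factorization q = e at hqd ⊢
    rcases Nat.eq_zero_or_pos e with rfl | hepos
    · simp
    have hq' : q ∣ 9240 := (dvd_pow_self q hepos.ne').trans hqd
    have hqle : q ≤ 11 := by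
      by_contra hlt
      have : q ∣ 2 ^ 3 * (3 * (5 * (7 * 11))) := by simpa using hq'
      rcases hq.dvd_mul.mp this with h | h
      · have := Nat.le_of_dvd (by norm_num) (hq.dvd_of_dvd_pow h); omega
      rcases hq.dvd_mul.mp h with h | h
      · have := Nat.le_of_dvd (by norm_num) h; omega
      rcases hq.dvd_mul.mp h with h | h
      · have := Nat.le_of_dvd (by norm_num) h; omega
      rcases hq.dvd_mul.mp h with h | h <;>
      · have := Nat.le_of_dvd (by norm_num) h; omega
    exact small_pow q hqle e hq hqd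
  intro z hz
  rw [Subgroup.mem_centralizer_iff, ← hP'e]
  intro w hw
  obtain ⟨i, rfl⟩ := Subgroup.mem_zpowers_iff.mp hw
  have hcomm : Commute (x : G) z := by
    set g : normalizer (QG : Set G) := x
    let f : Equiv.Perm QG :=
      { toFun := fun y => ⟨g * y * (g : G)⁻¹, (Subgroup.mem_normalizer_iff.mp g.2 y).mp y.2⟩
        invFun := fun y => ⟨(g : G)⁻¹ * y * g, (Subgroup.mem_normalizer_iff''.mp g.2 y).mp y.2⟩
        left_inv := fun y => by apply Subtype.ext; simp [mul_assoc]
        right_inv := fun y => by apply Subtype.ext; simp [mul_assoc] }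
    have hf : ∀ n : ℕ, ∀ y : QG, ((f ^ n) y : G) = (g : G) ^ n * y * ((g : G) ^ n)⁻¹ := by
      intro n
      induction n with
      | zero => simp
      | succ n ihn =>
        intro y
        rw [pow_succ', Equiv.Perm.mul_apply, pow_succ']
        show (g : G) * ((f ^ n) y : G) * (g : G)⁻¹ = _
        rw [ihn]; group
    have hf1 : f ^ 19 = 1 := by
      apply Equiv.ext
      intro y
      apply Subtype.ext
      rw [hf, ← hxo, pow_orderOf_eq_one]
      simp
    have hfe : f = 1 := by
      classical
      have := Fintype.ofFinite QG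
      by_contra hne
      have hof : orderOf f = 19 := orderOf_eq_prime hf1 hne
      have h19f : 19 ∣ (Fintype.card QG).factorial := by
        rw [← hof, ← Fintype.card_perm]; exact orderOf_dvd_card
      rw [Nat.Prime.dvd_factorial (by norm_num : Nat.Prime 19), ← Nat.card_eq_fintype_card] at h19f
      omega
    have := congrArg (fun e : Equiv.Perm QG => (e ⟨z, hz⟩ : G)) hfe
    simp only [Equiv.Perm.one_apply] at this
    change (x : G) * z * (x : G)⁻¹ = z at this
    exact mul_inv_eq_iff_eq_mul.mp this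
  exact (hcomm.zpow_left i).eq

/-- A finite group of order 175560 = 2³·3·5·7·11·19 is either simple or has a normal Sylow 19-subgroup. -/
theorem result {G : Type*} [Group G] [Finite G] (hG : Nat.card G = 175560) : IsSimpleGroup G ∨ ∀ P : Sylow 19 G, (P : Subgroup G).Normal := by
  rcases key 175560 hG dvd_rfl (by norm_num) with h | h
  · exact Or.inl h.1
  · exact Or.inr h

end Cfsg.Agent.S4274
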