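import Cfsg.Statements.S4275


set_option autoImplicit false
open Cfsg

namespace Cfsg.Agent.S4275

/-- Let G be a transitive group of permutations of a finite set Ω, let o ∈ Ω, and let α be an automorphism of G. Then α is induced by conjugation by a permutation of Ω normalizing G if and only if the image under α of the stabilizer of o fixes some point of Ω. -/
theorem result {Ω : Type*} [Fintype Ω] (G : Subgroup (Equiv.Perm Ω)) (htr : MulAction.IsPretransitive G Ω) (o : Ω) (α : G ≃* G) : (∃ σ : Equiv.Perm Ω, σ ∈ Subgroup.normalizer (G : Set (Equiv.Perm Ω)) ∧ ∀ g : G, ((α g : G) : Equiv.Perm Ω) = σ * (g : Equiv.Perm Ω) * σ⁻¹) ↔ ∃ ω : Ω, ∀ g ∈ (MulAction.stabilizer G o).map α.toMonoidHom, g • ω = ω := by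
  classical
  constructor
  · rintro ⟨σ, -, hσ⟩
    refine ⟨σ o, fun g hg => ?_⟩
    obtain ⟨k, hk, rfl⟩ := Subgroup.mem_map.1 hg
    have hk' : (k : Equiv.Perm Ω) o = o := hk
    show ((α k : G) : Equiv.Perm Ω) (σ o) = σ o
    rw [hσ k]
    simp [hk']
  · rintro ⟨ω, hω⟩
    have hsub : (MulAction.stabilizer G o).map α.toMonoidHom = MulAction.stabilizer G ω := by
      refine Subgroup.eq_of_le_of_card_ge (fun g hg => hω g hg) ?_
      rw [Subgroup.card_map_of_injective α.injective]
      have h1 := (MulAction.stabilizer G o).card_mul_index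
      have h2 := (MulAction.stabilizer G ω).card_mul_index
      rw [MulAction.index_stabilizer_of_transitive] at h1 h2
      have hpos : 0 < Nat.card Ω := by
        haveI : Nonempty Ω := ⟨o⟩
        exact Nat.card_pos
      exact le_of_eq (Nat.eq_of_mul_eq_mul_right hpos (h2.trans h1.symm))
    have hiff : ∀ g h : G, g • o = h • o ↔ α g • ω = α h • ω := by
      intro g h
      rw [eq_comm, ← inv_smul_eq_iff, eq_comm (a := α g • ω), ← inv_smul_eq_iff, smul_smul, smul_smul,
        ← map_inv, ← map_mul]
      constructor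
      · intro hh
        exact hω _ (Subgroup.mem_map_of_mem _ hh)
      · intro hh
        have hmem : α (g⁻¹ * h) ∈ (MulAction.stabilizer G o).map α.toMonoidHom := by
          rw [hsub]; exact hh
        obtain ⟨k, hk, hke⟩ := Subgroup.mem_map.1 hmem
        rw [← α.injective hke]
        exact hk
    choose rep hrep using fun x : Ω => MulAction.exists_smul_eq G o x
    let f : Ω → Ω := fun x => α (rep x) • ω
    have hf : ∀ g : G, f (g • o) = α g • ω := fun g => (hiff _ _).1 (hrep _)
    have hinj : Function.Injective f := by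
      intro x y hxy
      rw [← hrep x, ← hrep y]
      exact (hiff _ _).2 hxy
    let σ : Equiv.Perm Ω := Equiv.ofBijective f (Finite.injective_iff_bijective.1 hinj)
    have hcomm : ∀ g : G, ((α g : G) : Equiv.Perm Ω) = σ * (g : Equiv.Perm Ω) * σ⁻¹ := by
      intro g
      rw [eq_mul_inv_iff_mul_eq]
      ext x
      show α g • f x = f (g • x)
      rw [← hrep x, hf, smul_smul, smul_smul, hf, map_mul]
    refine ⟨σ, ?_, hcomm⟩
    rw [Subgroup.mem_normalizer_iff]
    intro x
    constructor
    · intro hx
      have := hcomm ⟨x, hx⟩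
      exact this ▸ (α ⟨x, hx⟩).2
    · intro hx
      have := hcomm (α.symm ⟨_, hx⟩)
      rw [α.apply_symm_apply] at this
      have h3 : x = ((α.symm ⟨_, hx⟩ : G) : Equiv.Perm Ω) :=
        mul_left_cancel (mul_right_cancel this)
      rw [h3]
      exact (α.symm ⟨_, hx⟩).2

end Cfsg.Agent.S4275
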