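import Cfsg.Statements.S4278
import Cfsg.Agent.H55.G2Inv

set_option autoImplicit false
open Cfsg

namespace Cfsg.Agent.S4278

/-- In the Chevalley group of type G₂ over a finite field of odd order, any two involutions are conjugate. -/
theorem result {F : Type*} [Field F] [Fintype F] (hF : Odd (Fintype.card F)) (s t : ↥(Cfsg.Lie.chevG2.group F)) (hs : orderOf s = 2) (ht : orderOf t = 2) : IsConj s t := by
  obtain ⟨e⟩ := H55.G2.nonempty_equiv_G2 hF
  have h2 := H55.G2.two_ne_zero_of_odd hF
  obtain ⟨c, hc⟩ := isConj_iff.1 (H55.G2.isConj_invol h2 (s := e s) (t := e t) (by rw [MulEquiv.orderOf_eq, hs])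
    (by rw [MulEquiv.orderOf_eq, ht]))
  exact isConj_iff.2 ⟨e.symm c, e.injective (by simpa using hc)⟩

end Cfsg.Agent.S4278
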