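import Cfsg.Statements.S4279
import Cfsg.Agent.H55.G2Cent

set_option autoImplicit false
open Cfsg

namespace Cfsg.Agent.S4279

/-- In the Chevalley group G of type G₂ over a finite field F of odd order q, the centralizer of an involution t has order q²(q² − 1)² and contains two elementwise commuting subgroups, each isomorphic to SL(2, F), which meet exactly in the subgroup generated by t and whose join has index 2 in the centralizer. -/
theorem result {F : Type*} [Field F] [Fintype F] (hF : Odd (Fintype.card F)) (t : ↥(Cfsg.Lie.chevG2.group F)) (ht : orderOf t = 2) : Nat.card (Subgroup.centralizer ({t} : Set ↥(Cfsg.Lie.chevG2.group F))) = Fintype.card F ^ 2 * (Fintype.card F ^ 2 - 1) ^ 2 ∧ ∃ L₁ L₂ : Subgroup ↥(Cfsg.Lie.chevG2.group F), Nonempty (L₁ ≃* Matrix.SpecialLinearGroup (Fin 2) F) ∧ Nonempty (L₂ ≃* Matrix.SpecialLinearGroup (Fin 2) F) ∧ (∀ x ∈ L₁, ∀ y ∈ L₂, x * y = y * x) ∧ L₁ ⊓ L₂ = Subgroup.zpowers t ∧ L₁ ⊔ L₂ ≤ Subgroup.centralizer ({t} : Set ↥(Cfsg.Lie.chevG2.group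 F)) ∧ (L₁ ⊔ L₂).relIndex (Subgroup.centralizer ({t} : Set ↥(Cfsg.Lie.chevG2.group F))) = 2 := by
  classical
  obtain ⟨e₀⟩ := H55.G2.nonempty_equiv_G2 hF
  have h2 := H55.G2.two_ne_zero_of_odd hF
  obtain ⟨c, hc⟩ := isConj_iff.1 (H55.G2.isConj_invol h2 (s := e₀ t) (t := H55.G2.quatInv F)
    (by rw [MulEquiv.orderOf_eq, ht]) (H55.G2.orderOf_quatInv h2))
  -- an isomorphism carrying `t` to the standard involution
  let e := e₀.trans (MulAut.conj c)
  have het : e t = H55.G2.quatInv F := hc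
  have hcent : (Subgroup.centralizer ({t} : Set ↥(Cfsg.Lie.chevG2.group F))) =
      ((H18.pairHom (F := F)).range).map e.symm.toMonoidHom := by
    rw [← H55.G2.centralizer_quatInv h2]
    ext x
    rw [Subgroup.mem_map_equiv, MulEquiv.symm_symm, Subgroup.mem_centralizer_singleton_iff,
      Subgroup.mem_centralizer_singleton_iff, ← het, ← map_mul, ← map_mul, e.injective.eq_iff]
  have hcard : Nat.card (Subgroup.centralizer ({t} : Set ↥(Cfsg.Lie.chevG2.group F))) =
      Fintype.card F ^ 2 * (Fintype.card F ^ 2 - 1) ^ 2 := by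
    rw [hcent, Subgroup.card_map_of_injective e.symm.injective, H18.card_range_pairHom, H55.G2.card_sl2]
    ring
  refine ⟨hcard, (H55.G2.sl2Left (F := F)).range.map e.symm.toMonoidHom,
    (H55.G2.sl2Right (F := F)).range.map e.symm.toMonoidHom, ?_, ?_, ?_, ?_, ?_, ?_⟩
  · exact ⟨((Subgroup.equivMapOfInjective _ e.symm.toMonoidHom e.symm.injective).symm).trans
      (MonoidHom.ofInjective H55.G2.sl2Left_injective).symm⟩
  · exact ⟨((Subgroup.equivMapOfInjective _ e.symm.toMonoidHom e.symm.injective).symm).trans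
      (MonoidHom.ofInjective H55.G2.sl2Right_injective).symm⟩
  · rintro _ ⟨_, ⟨a, rfl⟩, rfl⟩ _ ⟨_, ⟨b, rfl⟩, rfl⟩
    rw [← map_mul, ← map_mul, H55.G2.sl2_commute]
  · rw [← Subgroup.map_inf _ _ _ e.symm.injective, H55.G2.range_inf, MonoidHom.map_zpowers, ← het]
    congr 1
    exact e.symm_apply_apply t
  · rw [← Subgroup.map_sup, hcent]
    refine Subgroup.map_mono ?_
    rw [H55.G2.range_sup]
    rintro _ ⟨x, rfl⟩
    exact ⟨_, rfl⟩
  · rw [← Subgroup.map_sup, hcent, Subgroup.relIndex_map_map_of_injective _ _ e.symm.injective]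
    exact H55.G2.quat_relIndex h2

end Cfsg.Agent.S4279
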