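import Cfsg.Statements.S4282
import Cfsg.Agent.H31.HallHigmanCritical

set_option autoImplicit false
open Cfsg

namespace Cfsg.Agent.S4282

/-- A critical case behind the Hall–Higman theorem. Let p ≠ q be primes and G a finite group generated by a normal q-subgroup Q and a cyclic p-subgroup generated by x, such that the centralizer of every non-identity element of that cyclic subgroup is its product with the centre of G. Let K be an algebraically closed field of characteristic p and ρ a faithful representation of G on a nonzero finite-dimensional K-space whose restriction to Q is irreducible. If s is the least exponent with (ρ(x) − 1)^s = 0, then |⟨x⟩| − 1 ≤ s ≤ |⟨x⟩|; and if s = |⟨x⟩| − 1 then |⟨x⟩| − 1 is a power of q and Q is non-abelian. -/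
theorem result {G : Type*} [Group G] [Finite G] (p q : ℕ) [Fact p.Prime] [Fact q.Prime] (hpq : p ≠ q) (Q : Subgroup G) [Q.Normal] (hQ : IsPGroup q Q) (x : G) (hx : IsPGroup p (Subgroup.zpowers x)) (hgen : Q ⊔ Subgroup.zpowers x = ⊤) (hC : ∀ y ∈ Subgroup.zpowers x, y ≠ 1 → Subgroup.centralizer ({y} : Set G) = Subgroup.zpowers x ⊔ Subgroup.center G) {K : Type*} [Field K] [IsAlgClosed K] [CharP K p] {V : Type*} [AddCommGroup V] [Module K V] [FiniteDimensional K V] [Nontrivial V] (ρ : Representation K G V) (hfaith : Function.Injective ρ) (hirr : ∀ W : Submodule K V, (∀ g ∈ Q, Submodule.map (ρ g) W ≤ W) → W = ⊥ ∨ W = ⊤) (s : ℕ) (hs : (ρ x - 1) ^ s = 0) (hmin : ∀ k < s, (ρ x - 1) ^ k ≠ 0) : Nat.card (Subgroup.zpowers x) - 1 ≤ s ∧ s ≤ Nat.card (Subgroup.zpowers x) ∧ (s = Nat.card (Subgroup.zpowers x) - 1 → (∃ b : ℕ, Nat.card (Subgroup.zpowers x) - 1 = q ^ b) ∧ ¬ IsMulCommutative Q) := by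
  have hp := (Fact.out : p.Prime)
  have hq := (Fact.out : q.Prime)
  obtain ⟨n, hn⟩ := IsPGroup.iff_card.mp hx
  rw [hn]
  have hord : orderOf x = p ^ n := by rw [← Nat.card_zpowers]; exact hn
  have hxN : x ^ (p ^ n) = 1 := hord ▸ pow_orderOf_eq_one x
  have hN : (ρ x - 1) ^ (p ^ n) = 0 := by
    rw [H11.HB.sub_one_pow_eq (K := K) p, ← map_pow, hxN, map_one, sub_self]
  have hup : s ≤ p ^ n := not_lt.mp fun h => hmin _ h hN
  rcases Nat.eq_zero_or_pos n with rfl | hn1
  · rw [pow_zero] at hup ⊢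
    have h0 : s ≠ 0 := fun h => by rw [h, pow_zero] at hs; exact one_ne_zero hs
    exact ⟨by omega, by omega, fun h => absurd h (by omega)⟩
  have hC' : ∀ y ∈ Subgroup.zpowers x, y ≠ 1 → ∀ g ∈ Q, Commute g y → g ∈ Subgroup.center G := by
    intro y hy hy1 g hg hgy
    have h1 : g ∈ Subgroup.centralizer ({y} : Set G) := Subgroup.mem_centralizer_singleton_iff.mpr hgy
    rw [hC y hy hy1] at h1
    obtain ⟨a, ha, z, hz, rfl⟩ := Subgroup.mem_sup_of_normal_right.mp h1
    obtain ⟨e, he⟩ := hQ ⟨a * z, hg⟩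
    have he' : (a * z) ^ q ^ e = 1 := congrArg Subtype.val he
    have hza : Commute a z := (Subgroup.mem_center_iff.mp hz a)
    rw [hza.mul_pow] at he'
    refine Subgroup.mul_mem _ (Subgroup.mem_center_iff.mpr fun w => ?_) hz
    obtain ⟨k, hk⟩ := hx ⟨a, ha⟩
    have hk' : a ^ p ^ k = 1 := congrArg Subtype.val hk
    refine (H31.HHCrit.commute_of_coprime_pow (a := q ^ e) ?_ ?_).eq.symm
    · exact (((Nat.coprime_primes hq hp).mpr (Ne.symm hpq)).pow e k).coprime_dvd_right (orderOf_dvd_of_pow_eq_one hk')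
    · rw [eq_inv_of_mul_eq_one_left he']
      exact ((Subgroup.mem_center_iff.mp ((Subgroup.center G).inv_mem ((Subgroup.center G).pow_mem hz _)) w).symm : _)
  obtain ⟨h1, h2'⟩ := H31.HHCrit.critical hpq Q inferInstance hQ x hn1 hord hC' ρ hfaith
    (fun U hU => hirr U fun g hg => by
      rintro _ ⟨v, hv, rfl⟩
      exact hU g hg v hv)
  have hlow : p ^ n - 1 ≤ s := by
    by_contra hlt
    exact h1 (pow_eq_zero_of_le (by omega) hs)
  exact ⟨hlow, hup, fun h => h2' (h ▸ hs)⟩

end Cfsg.Agent.S4282
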