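import Cfsg.Statements.S4283
import Cfsg.Agent.H2.FrobeniusKernel

set_option autoImplicit false
open Cfsg

namespace Cfsg.Agent.S4283

/-- Let G be a finite group with centre Z and let K, H be abelian subgroups of G containing Z such that G/Z is a Frobenius group with complement H/Z and kernel K/Z. Then the conjugacy class sizes of G are exactly 1, [G : K] and [G : H], and these two indices are coprime. (This is the converse half of the characterization of finite groups whose conjugacy class sizes are exactly 1, m and n with m and n coprime.) -/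
theorem result {G : Type*} [Group G] [Finite G] (K H : Subgroup G) (hZK : Subgroup.center G ≤ K) (hZH : Subgroup.center G ≤ H) (hK : IsMulCommutative K) (hH : IsMulCommutative H) (hFrob : Cfsg.IsFrobeniusComplement (H.map (QuotientGroup.mk' (Subgroup.center G)))) (hker : Cfsg.frobeniusKernel (H.map (QuotientGroup.mk' (Subgroup.center G))) = (K.map (QuotientGroup.mk' (Subgroup.center G)) : Set (G ⧸ Subgroup.center G))) : Set.range (fun x : G => (Subgroup.centralizer ({x} : Set G)).index) = ({1, K.index, H.index} : Set ℕ) ∧ K.index.Coprime H.index := by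
  have hKc : ∀ a ∈ K, ∀ b ∈ K, a * b = b * a := fun a ha b hb =>
    congrArg Subtype.val (hK.is_comm.comm ⟨a, ha⟩ ⟨b, hb⟩)
  have hHc : ∀ a ∈ H, ∀ b ∈ H, a * b = b * a := fun a ha b hb =>
    congrArg Subtype.val (hH.is_comm.comm ⟨a, ha⟩ ⟨b, hb⟩)
  set π := QuotientGroup.mk' (Subgroup.center G) with hπ
  have hsurj : Function.Surjective π := QuotientGroup.mk'_surjective _
  have hKpre : (K.map π).comap π = K := by
    rw [Subgroup.comap_map_eq, QuotientGroup.ker_mk', sup_eq_left.mpr hZK]
  have hHpre : (H.map π).comap π = H := by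
    rw [Subgroup.comap_map_eq, QuotientGroup.ker_mk', sup_eq_left.mpr hZH]
  obtain ⟨N, hN, hNn, hc⟩ := H2.exists_kernel hFrob
  have hNK : N = K.map π := SetLike.coe_injective (hN.trans hker)
  subst hNK
  have hKidx : K.index = Nat.card (H.map π) := by
    rw [← hKpre, Subgroup.index_comap_of_surjective _ hsurj, hc.symm.index_eq_card]
  have hHidx : H.index = (H.map π).index := by
    conv_lhs => rw [← hHpre, Subgroup.index_comap_of_surjective _ hsurj]
  have hcop : K.index.Coprime H.index := by
    rw [hKidx, hHidx]; exact H2.coprime_card_index hFrob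
  have hone : ∀ x : G, π x = 1 ↔ x ∈ Subgroup.center G := fun x => QuotientGroup.eq_one_iff x
  -- the three kinds of centralizers
  have hcZ : ∀ x ∈ Subgroup.center G, (Subgroup.centralizer ({x} : Set G)).index = 1 := by
    intro x hx
    rw [Subgroup.index_eq_one, eq_top_iff]
    intro g _
    rw [Subgroup.mem_centralizer_singleton_iff]
    exact Subgroup.mem_center_iff.mp hx g
  have hcK : ∀ x ∈ K, x ∉ Subgroup.center G → Subgroup.centralizer ({x} : Set G) = K := by
    intro x hx hxZ
    refine le_antisymm (fun g hg => ?_) (fun g hg => ?_)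
    · by_contra hgK
      rw [Subgroup.mem_centralizer_singleton_iff] at hg
      have h1 : π g ∉ (K.map π : Set (G ⧸ Subgroup.center G)) := fun h => hgK (hKpre ▸ h)
      rw [← hker] at h1
      simp only [Cfsg.frobeniusKernel, Set.mem_setOf_eq, not_or, not_forall, not_not] at h1
      obtain ⟨hg1, y, hy⟩ := h1
      have hy' := H2.mem_conj_smul.mp hy
      have hxy : y⁻¹ * π x * y ∈ H.map π := by
        refine H2.mem_of_commute hFrob hy' (fun h => hg1 ?_) ?_
        · simpa [mul_assoc] using congrArg (fun t => y * t * y⁻¹) h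
        · calc y⁻¹ * π x * y * (y⁻¹ * π g * y) = y⁻¹ * π (x * g) * y := by rw [map_mul]; group
            _ = y⁻¹ * π (g * x) * y := by rw [hg]
            _ = y⁻¹ * π g * y * (y⁻¹ * π x * y) := by rw [map_mul]; group
      have h2 := H2.complement_inf hc
        (by simpa [mul_assoc] using hNn.conj_mem _ (Subgroup.mem_map_of_mem π hx) y⁻¹) hxy
      exact hxZ ((hone x).mp (by simpa [mul_assoc] using congrArg (fun t => y * t * y⁻¹) h2))
    · rw [Subgroup.mem_centralizer_singleton_iff]
      exact hKc g hg x hx
  have hcH : ∀ x ∈ H, x ∉ Subgroup.center G → Subgroup.centralizer ({x} : Set G) = H := by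
    intro x hx hxZ
    refine le_antisymm (fun g hg => ?_) (fun g hg => ?_)
    · rw [Subgroup.mem_centralizer_singleton_iff] at hg
      rw [← hHpre, Subgroup.mem_comap]
      refine H2.mem_of_commute hFrob (Subgroup.mem_map_of_mem π hx) (fun h => hxZ ((hone x).mp h)) ?_
      rw [← map_mul, ← map_mul, hg]
    · rw [Subgroup.mem_centralizer_singleton_iff]
      exact hHc g hg x hx
  have hcOut : ∀ x, x ∉ K → (Subgroup.centralizer ({x} : Set G)).index = H.index := by
    intro x hx
    have h1 : π x ∉ (K.map π : Set (G ⧸ Subgroup.center G)) := fun h => hx (hKpre ▸ h)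
    rw [← hker] at h1
    simp only [Cfsg.frobeniusKernel, Set.mem_setOf_eq, not_or, not_forall, not_not] at h1
    obtain ⟨hx1, y, hy⟩ := h1
    obtain ⟨y, rfl⟩ := hsurj y
    have hy' := H2.mem_conj_smul.mp hy
    rw [← map_inv, ← map_mul, ← map_mul] at hy'
    set x' := y⁻¹ * x * y with hx'
    have hxH : x' ∈ H := hHpre ▸ hy'
    have hxZ : x' ∉ Subgroup.center G := fun h => hx1 ((hone x).mpr (by
      simpa [hx', mul_assoc] using (inferInstance : (Subgroup.center G).Normal).conj_mem _ h y))
    have hxx : x = MulAut.conj y x' := by simp [hx', mul_assoc]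
    have hmap : Subgroup.centralizer ({x} : Set G) =
        (Subgroup.centralizer ({x'} : Set G)).map (MulAut.conj y).toMonoidHom := by
      ext g
      rw [Subgroup.mem_map_equiv, Subgroup.mem_centralizer_singleton_iff,
        Subgroup.mem_centralizer_singleton_iff, hxx]
      constructor
      · intro h
        rw [MulAut.conj_symm_apply]
        calc y⁻¹ * g * y * x' = y⁻¹ * (g * MulAut.conj y x') * y := by simp [mul_assoc]
          _ = y⁻¹ * (MulAut.conj y x' * g) * y := by rw [h]
          _ = x' * (y⁻¹ * g * y) := by simp [mul_assoc]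
      · intro h
        rw [MulAut.conj_symm_apply] at h
        calc g * MulAut.conj y x' = y * (y⁻¹ * g * y * x') * y⁻¹ := by simp [mul_assoc]
          _ = y * (x' * (y⁻¹ * g * y)) * y⁻¹ := by rw [h]
          _ = MulAut.conj y x' * g := by simp [mul_assoc]
    rw [hmap, Subgroup.index_map_of_bijective (f := (MulAut.conj y).toMonoidHom) (MulAut.conj y).bijective, hcH x' hxH hxZ]
  refine ⟨?_, hcop⟩
  refine Set.eq_of_subset_of_subset ?_ ?_
  · rintro _ ⟨x, rfl⟩
    by_cases hxZ : x ∈ Subgroup.center G
    · left; exact hcZ x hxZ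
    · right
      by_cases hxK : x ∈ K
      · left; exact congrArg Subgroup.index (hcK x hxK hxZ)
      · right; exact hcOut x hxK
  · rintro n (rfl | rfl | rfl)
    · exact ⟨1, hcZ 1 (Subgroup.one_mem _)⟩
    · have hne : K.map π ≠ ⊥ := fun h => by
        have h1 := hc
        rw [h, Subgroup.isComplement'_bot_left] at h1
        exact hFrob.2.1 h1
      obtain ⟨_, ⟨x, hx, rfl⟩, hne'⟩ := (Subgroup.bot_or_exists_ne_one _).resolve_left hne
      exact ⟨x, congrArg Subgroup.index (hcK x hx fun h => hne' ((hone x).mpr h))⟩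
    · obtain ⟨_, ⟨x, hx, rfl⟩, hne'⟩ := (Subgroup.bot_or_exists_ne_one _).resolve_left hFrob.1
      refine ⟨x, hcOut x fun h => hne' ?_⟩
      exact H2.complement_inf hc (Subgroup.mem_map_of_mem π h) (Subgroup.mem_map_of_mem π hx)


end Cfsg.Agent.S4283
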