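import Cfsg.Statements.S4292
import Cfsg.Agent.H28.FCBasic

set_option autoImplicit false
open Cfsg

namespace Cfsg.Agent.S4292

/-- Let A and B be nontrivial finite groups. Then the direct product A × B occurs as a Frobenius complement if and only if A and B both occur as Frobenius complements and the orders of A and B are coprime. -/
theorem result {A B : Type*} [Group A] [Finite A] [Nontrivial A] [Group B] [Finite B] [Nontrivial B] :
    (∃ (L : Type) (_ : Group L) (_ : Finite L) (H : Subgroup L), Cfsg.IsFrobeniusComplement H ∧ Nonempty ((A × B) ≃* H)) ↔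
    ((∃ (L : Type) (_ : Group L) (_ : Finite L) (H : Subgroup L), Cfsg.IsFrobeniusComplement H ∧ Nonempty (A ≃* H)) ∧
     (∃ (L : Type) (_ : Group L) (_ : Finite L) (H : Subgroup L), Cfsg.IsFrobeniusComplement H ∧ Nonempty (B ≃* H)) ∧
     (Nat.card A).Coprime (Nat.card B)) := by
  constructor
  · rintro ⟨L, _, _, H, hH, ⟨e⟩⟩
    have hAB : H28.FCInt (A × B) := H28.fcInt_congr e.symm (H28.fcInt_of_isFC hH)
    refine ⟨H28.isFC_of_fcInt (H28.fcInt_of_injective (MonoidHom.inl A B)
        (fun a b h => congrArg Prod.fst h) hAB),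
      H28.isFC_of_fcInt (H28.fcInt_of_injective (MonoidHom.inr A B)
        (fun a b h => congrArg Prod.snd h) hAB), ?_⟩
    refine Nat.coprime_of_dvd fun p hp h1 h2 => ?_
    haveI := Fact.mk hp
    obtain ⟨a, ha⟩ := exists_prime_orderOf_dvd_card' p h1
    obtain ⟨b, hb⟩ := exists_prime_orderOf_dvd_card' p h2
    obtain ⟨k, hk⟩ := H28.fcInt_mem_zpowers hAB (p := p) (a := (a, (1 : B))) (b := ((1 : A), b))
      (by simp [Commute, SemiconjBy]) (by simp [Prod.orderOf_mk, ha])
      (by rw [Prod.pow_mk, one_pow, ← hb, pow_orderOf_eq_one]; rfl)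
    have h3 := congrArg Prod.snd hk
    simp at h3
    rw [← h3, orderOf_one] at hb
    exact hp.one_lt.ne hb
  · rintro ⟨⟨L, _, _, H, hH, ⟨eA⟩⟩, ⟨L', _, _, H', hH', ⟨eB⟩⟩, hcop⟩
    exact H28.isFC_of_fcInt (H28.fcInt_prod (H28.fcInt_congr eA.symm (H28.fcInt_of_isFC hH))
      (H28.fcInt_congr eB.symm (H28.fcInt_of_isFC hH')) hcop)

end Cfsg.Agent.S4292
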