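import Cfsg.Statements.S4294
import Mathlib
import Cfsg.Agent.H8.DivRingSplit
import Cfsg.Agent.H28.FCUnits
import Cfsg.Agent.H58.Zass.Main
import Cfsg.Agent.H2.NonsolvableComplement

set_option autoImplicit false
set_option linter.style.haveILetI false
set_option maxHeartbeats 1000000
open Cfsg

namespace Cfsg.Agent.S4294

/-- An element of order five of `SL(2,5)`. -/
def slU : Matrix.SpecialLinearGroup (Fin 2) (ZMod 5) := ⟨!![1, 1; 0, 1], by decide⟩

/-- An element of order four inverting `slU`. -/
def slC : Matrix.SpecialLinearGroup (Fin 2) (ZMod 5) := ⟨!![2, 0; 0, 3], by decide⟩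

theorem sl_facts : slU ^ 5 = 1 ∧ slU ≠ 1 ∧ ¬ slC ^ 2 ^ 1 = 1 ∧ slC ^ 2 ^ (1 + 1) = 1 ∧
    slC * slU = slU ^ 4 * slC := by decide +kernel

theorem sl_centralizer : ∀ a : Matrix.SpecialLinearGroup (Fin 2) (ZMod 5),
    Commute a slU → a ^ 10 = 1 := by
  intro a
  change a * slU = slU * a → a ^ 10 = 1
  revert a
  decide +kernel

theorem perm_five_commute (τ σ : Equiv.Perm (Fin 5)) (hτ : orderOf τ = 5) (h : Commute σ τ) :
    σ ^ 5 = 1 := by
  haveI : Fact (Nat.Prime 5) := ⟨by norm_num⟩
  have hc : τ.IsCycle := Equiv.Perm.isCycle_of_prime_order' (by rw [hτ]; norm_num) (by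
    rw [Fintype.card_fin, hτ]; norm_num)
  have hs : τ.support = Finset.univ := Finset.eq_univ_of_card _ (by
    rw [← hc.orderOf, hτ, Fintype.card_fin])
  have hmem : ∀ x, τ x ≠ x := fun x => Equiv.Perm.mem_support.mp (hs ▸ Finset.mem_univ x)
  obtain ⟨i, hi⟩ := hc.exists_pow_eq (hmem 0) (hmem (σ 0))
  have hστ : σ = τ ^ i := by
    refine Equiv.ext fun x => ?_
    obtain ⟨j, rfl⟩ := hc.exists_pow_eq (hmem 0) (hmem x)
    have h1 := Equiv.Perm.congr_fun (h.pow_right j).eq 0
    simp only [Equiv.Perm.mul_apply] at h1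
    rw [h1, ← hi, ← Equiv.Perm.mul_apply, ← pow_add, add_comm, pow_add, Equiv.Perm.mul_apply]
  have h5 := pow_orderOf_eq_one τ
  rw [hτ] at h5
  rw [hστ, ← pow_mul, mul_comm, pow_mul, h5, one_pow]

/-- A finite non-solvable subgroup of the multiplicative group of a division ring is isomorphic to the binary icosahedral group SL(2,5). -/
theorem result {D : Type*} [DivisionRing D] (H : Subgroup Dˣ) [Finite H] (hH : ¬ Group.IsSolvable H) :
    Nonempty (H ≃* Matrix.SpecialLinearGroup (Fin 2) (ZMod 5)) := by
  classical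
  haveI hf2 : Fact (Nat.Prime 2) := ⟨Nat.prime_two⟩
  let φ : H →* D := (Units.coeHom D).comp H.subtype
  have hφ : Function.Injective φ := fun a b hab => Subtype.ext (Units.ext hab)
  obtain ⟨p, hp⟩ := CharP.exists D
  rcases CharP.char_is_prime_or_zero D p with hpp | rfl
  · -- finite subgroups in positive characteristic are commutative
    haveI := Fact.mk hpp
    exfalso
    apply hH
    let S := Subring.closure (Set.range φ)
    letI : Algebra (ZMod p) D := ZMod.algebra D p
    let A := Submodule.span (ZMod p) (Set.range φ)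
    haveI : Module.Finite (ZMod p) A := Module.Finite.span_of_finite _ (Set.finite_range φ)
    haveI : Finite A := Module.finite_of_finite (ZMod p)
    have h1 : (1 : D) ∈ A := Submodule.subset_span ⟨1, map_one φ⟩
    have hmul : ∀ a ∈ A, ∀ b ∈ A, a * b ∈ A := by
      intro a ha b hb
      have h2 := Submodule.mul_mem_mul ha hb
      rw [Submodule.span_mul_span] at h2
      refine Submodule.span_mono ?_ h2
      rintro _ ⟨_, ⟨x, rfl⟩, _, ⟨y, rfl⟩, rfl⟩
      exact ⟨x * y, map_mul φ x y⟩
    let B : Subalgebra (ZMod p) D := A.toSubalgebra h1 fun a b ha hb => hmul a ha b hb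
    haveI : Finite B := ‹Finite A›
    haveI : IsDomain B := NoZeroDivisors.to_isDomain B
    have hB : IsField B := Finite.isDomain_to_isField B
    refine Group.isSolvable_of_comm fun a b => hφ ?_
    rw [map_mul, map_mul]
    exact congrArg Subtype.val (hB.mul_comm ⟨φ a, Submodule.subset_span ⟨a, rfl⟩⟩
      ⟨φ b, Submodule.subset_span ⟨b, rfl⟩⟩)
  · haveI : CharZero D := CharP.charP_to_charZero D
    have hFC : H28.FCInt H := H28.fcInt_of_units H.subtype H.subtype_injective
    obtain ⟨P, hPn, hPne, hperf⟩ := H2.exists_perfect_normal hH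
    haveI := hPn
    haveI : Nontrivial P := (Subgroup.nontrivial_iff_ne_bot P).mpr hPne
    obtain ⟨eP⟩ := H58.perfect_fpf_iso_sl25
      (H28.fcInt_of_units (H.subtype.comp P.subtype)
        (H.subtype_injective.comp P.subtype_injective)) hperf
    obtain ⟨f, M, hker, halt, -, hsup, hinf, hMC, -, hcop, hidx⟩ :=
      H2.exists_hom_perm_five hFC hperf eP
    have hinv : ∀ y : H, orderOf y = 2 → φ y = -1 := by
      intro y hy
      have h2 : φ y ^ 2 = 1 := by rw [← map_pow, ← hy, pow_orderOf_eq_one, map_one]
      rcases sq_eq_one_iff.mp h2 with h | h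
      · rw [hφ (h.trans (map_one φ).symm), orderOf_one] at hy
        omega
      · exact h
    have hlift : ∀ y : P, orderOf (y : H) = orderOf y := fun y => Subgroup.orderOf_coe y
    have hord : orderOf slU = 5 ∧ orderOf slC = 4 ∧ slC * slU = slU ^ 4 * slC := by
      haveI : Fact (Nat.Prime 5) := ⟨by norm_num⟩
      refine ⟨orderOf_eq_prime sl_facts.1 sl_facts.2.1, ?_, sl_facts.2.2.2.2⟩
      exact orderOf_eq_prime_pow (p := 2) (n := 1) sl_facts.2.2.1 sl_facts.2.2.2.1
    set g : H := ((eP.symm slU : P) : H) with hgdef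
    set c : H := ((eP.symm slC : P) : H) with hcdef
    have hg5 : orderOf g = 5 := by rw [hgdef, hlift, MulEquiv.orderOf_eq]; exact hord.1
    have hc4 : orderOf c = 4 := by rw [hcdef, hlift, MulEquiv.orderOf_eq]; exact hord.2.1
    have hcg : c * g = g ^ 4 * c := by
      have h := congrArg (fun w => ((eP.symm w : P) : H)) hord.2.2
      simpa using h
    have hgφ5 : φ g ^ 5 = 1 := by rw [← map_pow, ← hg5, pow_orderOf_eq_one, map_one]
    have hgφ1 : φ g ≠ 1 := fun h => by
      rw [hφ (h.trans (map_one φ).symm), orderOf_one] at hg5; omega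
    have hcφ : φ c * φ c = -1 := by
      rw [← map_mul, hinv]
      rw [← pow_two, orderOf_pow_of_dvd two_ne_zero (by rw [hc4]; norm_num), hc4]
    -- the odd part of the centralizer is trivial
    have hM : M = ⊥ := by
      rw [eq_bot_iff]
      intro x hx
      by_contra hx1
      rw [Subgroup.mem_bot] at hx1
      have hxC : x ∈ Subgroup.centralizer (P : Set H) := hker ▸ hMC hx
      refine H8.DivSplit.no_dicyclic_times_cyclic (g := φ g) (c := φ c) (x := φ x) (m := orderOf x)
        hgφ5 hgφ1 hcφ (by rw [← map_mul, hcg, map_mul, map_pow]) ?_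
        (by rw [← map_pow, pow_orderOf_eq_one, map_one]) (fun h => hx1 (hφ (h.trans (map_one φ).symm))) ?_ ?_
      · have h30 : (orderOf x).Coprime 30 :=
          Nat.Coprime.coprime_dvd_left (Subgroup.orderOf_dvd_natCard M hx) hcop
        exact Nat.Coprime.coprime_dvd_right (by norm_num) h30
      · exact (show Commute g x from Subgroup.mem_centralizer_iff.mp hxC g (SetLike.coe_mem _)).symm.map φ
      · exact (show Commute c x from Subgroup.mem_centralizer_iff.mp hxC c (SetLike.coe_mem _)).symm.map φ
    rw [hM, sup_bot_eq] at hsup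
    rw [← hsup] at hidx
    rcases hidx with hidx | hidx
    · rw [Subgroup.index_eq_one] at hidx
      exact ⟨((MulEquiv.subgroupCongr hidx).trans Subgroup.topEquiv).symm.trans eP⟩
    · exfalso
      have hkerP : f.ker ≤ P := by rw [hsup]; exact le_sup_right
      have hsq : ∀ y : H, y ^ 2 ∈ P := fun y => by
        have := Subgroup.pow_index_mem P y
        rwa [hidx] at this
      -- elements of the image commuting with a five-cycle
      have hfg : orderOf (f g) = 5 := by
        haveI : Fact (Nat.Prime 5) := ⟨by norm_num⟩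
        have hg5' : g ^ 5 = 1 := by rw [← hg5, pow_orderOf_eq_one]
        refine orderOf_eq_prime (by rw [← map_pow, hg5', map_one]) fun h => ?_
        have h1 : g ∈ Subgroup.centralizer (P : Set H) := hker ▸ (MonoidHom.mem_ker.mpr h)
        have h2 := (Subgroup.mem_centralizer_iff.mp h1 c (SetLike.coe_mem _))
        rw [hcg] at h2
        have h4 : g ^ 4 = g := mul_right_cancel h2
        have h3 : g ^ 3 = 1 := by
          rw [pow_succ' g 3] at h4; exact mul_eq_left.mp h4
        have := orderOf_dvd_of_pow_eq_one h3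
        rw [hg5] at this
        norm_num at this
      have hcent : ∀ y : H, Commute y g → (∃ n, orderOf y = 2 ^ n) → y ∈ f.ker := by
        intro y hy ⟨n, hn⟩
        rw [MonoidHom.mem_ker]
        have h5 : f y ^ 5 = 1 := perm_five_commute (f g) (f y) hfg (hy.map f)
        refine orderOf_eq_one_iff.mp (Nat.eq_one_of_dvd_coprimes (a := 5) (b := 2 ^ n) ?_
          (orderOf_dvd_of_pow_eq_one h5) (hn ▸ orderOf_map_dvd f y))
        exact Nat.Coprime.pow_right _ (by norm_num)
      -- Frattini argument
      obtain ⟨y, hyP, hyN⟩ : ∃ y : H, y ∉ P ∧ y * g * y⁻¹ ∈ Subgroup.zpowers g := by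
        haveI : Fact (Nat.Prime 5) := ⟨by norm_num⟩
        obtain ⟨hcard, -, -⟩ := H2.perfect_sl25_facts hperf eP
        set g' : P := eP.symm slU
        let S : Sylow 5 P := Sylow.ofCard (Subgroup.zpowers g') (by
          rw [Nat.card_zpowers, MulEquiv.orderOf_eq, hord.1, hcard,
            show (120 : ℕ) = 5 ^ 1 * 24 by norm_num, Nat.factorization_mul (by norm_num) (by norm_num),
            Finsupp.add_apply, Nat.Prime.factorization_pow (by norm_num), Finsupp.single_eq_same,
            Nat.factorization_eq_zero_of_not_dvd (by norm_num : ¬ 5 ∣ 24), add_zero, pow_one])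
        have hfr := Sylow.normalizer_sup_eq_top S
        by_contra hno
        push Not at hno
        have hle : Subgroup.normalizer (((S : Subgroup P).map P.subtype : Subgroup H) : Set H) ≤ P := by
          intro y hy
          by_contra hyP
          refine hno y hyP ?_
          have h1 : g ∈ (S : Subgroup P).map P.subtype :=
            Subgroup.mem_map_of_mem _ (Subgroup.mem_zpowers g')
          have h2 := (Subgroup.mem_normalizer_iff.mp hy g).mp h1
          rw [show (S : Subgroup P) = Subgroup.zpowers g' from rfl, MonoidHom.map_zpowers] at h2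
          exact h2
        rw [sup_eq_right.mpr hle] at hfr
        rw [hfr] at hidx
        simp at hidx
      -- replace by a power of two-power order
      obtain ⟨n, k, hk, hnk⟩ : ∃ n k, ¬ 2 ∣ k ∧ orderOf y = 2 ^ n * k :=
        Nat.exists_eq_pow_mul_and_not_dvd (orderOf_pos y).ne' 2 (by norm_num)
      set z : H := y ^ k with hzdef
      have hzord : orderOf z = 2 ^ n := by
        rw [hzdef, orderOf_pow_of_dvd (fun h => hk (by rw [h]; exact dvd_zero 2)) (hnk ▸ dvd_mul_left _ _), hnk,
          Nat.mul_div_cancel _ (Nat.pos_of_ne_zero fun h => hk (by rw [h]; exact dvd_zero 2))]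
      have hzP : z ∉ P := by
        obtain ⟨l, hl⟩ : ∃ l, k = 2 * l + 1 := ⟨k / 2, by omega⟩
        intro hz
        rw [hzdef, hl, pow_succ, pow_mul] at hz
        exact hyP ((Subgroup.mul_mem_cancel_left P (P.pow_mem (hsq y) l)).mp hz)
      have hzN : z * g * z⁻¹ ∈ Subgroup.zpowers g := by
        have hmapN : ∀ m : ℕ, y ^ m * g * (y ^ m)⁻¹ ∈ Subgroup.zpowers g := by
          intro m
          induction m with
          | zero => simp
          | succ m ih =>
            obtain ⟨i, hi⟩ := Subgroup.mem_zpowers_iff.mp ih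
            rw [pow_succ', show y * y ^ m * g * (y * y ^ m)⁻¹ = y * (y ^ m * g * (y ^ m)⁻¹) * y⁻¹ by
              group, ← hi, ← conj_zpow]
            exact Subgroup.zpow_mem _ hyN i
        exact hmapN k
      obtain ⟨i, hi5, hi⟩ : ∃ i < 5, z * g = g ^ i * z := by
        obtain ⟨i, hi, hi'⟩ := Finset.mem_image.mp (mem_zpowers_iff_mem_range_orderOf.mp hzN)
        exact ⟨i, hg5 ▸ Finset.mem_range.mp hi, mul_inv_eq_iff_eq_mul.mp hi'.symm⟩
      have hzcomm : ¬ Commute z g := fun h => hzP (hkerP (hcent z h ⟨n, hzord⟩))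
      -- an element inducing squaring
      obtain ⟨h, m, hhord, hhg, hhP⟩ : ∃ (h : H) (m : ℕ), orderOf h = 2 ^ m ∧
          h * g = g ^ 2 * h ∧ h ∉ P := by
        have hg5' : g ^ 5 = 1 := by rw [← hg5, pow_orderOf_eq_one]
        interval_cases i
        · exfalso
          rw [pow_zero, one_mul] at hi
          apply hgφ1
          rw [mul_eq_left.mp hi, map_one]
        · exact absurd (by simpa using hi : z * g = g * z) hzcomm
        · exact ⟨z, n, hzord, hi, hzP⟩
        · refine ⟨z⁻¹, n, by rw [orderOf_inv, hzord], ?_, fun h => hzP (inv_mem_iff.mp h)⟩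
          have h2 : z * g ^ 2 = g * z := by
            calc z * g ^ 2 = z * g * g := by rw [pow_two, mul_assoc]
              _ = g ^ 6 * z := by rw [hi, mul_assoc, hi, ← mul_assoc, ← pow_add]
              _ = g * z := by rw [pow_succ g 5, hg5', one_mul]
          rw [eq_mul_inv_iff_mul_eq, mul_assoc, ← h2, inv_mul_cancel_left]
        · exfalso
          have hcz : Commute (c * z) g := by
            change c * z * g = g * (c * z)
            rw [mul_assoc, hi, ← mul_assoc]
            have h4 : c * g ^ 4 = g * c := by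
              rw [(SemiconjBy.pow_right (show SemiconjBy c g (g ^ 4) from hcg) 4).eq, ← pow_mul,
                show 4 * 4 = 5 * 3 + 1 from rfl, pow_succ, pow_mul, hg5', one_pow, one_mul]
            rw [h4, mul_assoc]
          have hczP : c * z ∉ P := fun h =>
            hzP ((Subgroup.mul_mem_cancel_left P (SetLike.coe_mem _)).mp h)
          obtain ⟨n', k', hk', hnk'⟩ : ∃ n k, ¬ 2 ∣ k ∧ orderOf (c * z) = 2 ^ n * k :=
            Nat.exists_eq_pow_mul_and_not_dvd (orderOf_pos _).ne' 2 (by norm_num)
          obtain ⟨l, hl⟩ : ∃ l, k' = 2 * l + 1 := ⟨k' / 2, by omega⟩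
          apply hczP
          have hmem : (c * z) ^ k' ∈ P := hkerP (hcent _ (hcz.pow_left k') ⟨n', by
            rw [orderOf_pow_of_dvd (fun h => hk' (by rw [h]; exact dvd_zero 2)) (hnk' ▸ dvd_mul_left _ _), hnk',
              Nat.mul_div_cancel _ (Nat.pos_of_ne_zero fun h => hk' (by rw [h]; exact dvd_zero 2))]⟩)
          rw [hl, pow_succ, pow_mul] at hmem
          exact (Subgroup.mul_mem_cancel_left P (P.pow_mem (hsq _) l)).mp hmem
      set d : H := h * h with hd
      have hdP : d ∈ P := by rw [hd, ← pow_two]; exact hsq h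
      have hd2g : Commute (d * d) g := by
        have h5 := (SemiconjBy.mul_left (SemiconjBy.mul_left
          (show SemiconjBy h (g ^ 8) (g ^ 16) from by
            rw [show g ^ 16 = (g ^ 2) ^ 8 by rw [← pow_mul]]
            exact SemiconjBy.pow_right hhg 8)
          (show SemiconjBy h (g ^ 4) (g ^ 8) from by
            rw [show g ^ 8 = (g ^ 2) ^ 4 by rw [← pow_mul]]
            exact SemiconjBy.pow_right hhg 4))
          (SemiconjBy.mul_left (show SemiconjBy h (g ^ 2) (g ^ 4) from by
            rw [show g ^ 4 = (g ^ 2) ^ 2 by rw [← pow_mul]]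
            exact SemiconjBy.pow_right hhg 2) (show SemiconjBy h g (g ^ 2) from hhg)))
        have h16 : g ^ 16 = g := by
          rw [show 16 = 5 * 3 + 1 from rfl, pow_succ, pow_mul, ← hg5, pow_orderOf_eq_one, one_pow, one_mul]
        rw [h16] at h5
        exact h5
      have hdg : d * g = g ^ 4 * d :=
        ((SemiconjBy.pow_right (show SemiconjBy h g (g ^ 2) from hhg) 2).mul_left
          (show SemiconjBy h g (g ^ 2) from hhg)).eq.trans (by rw [← pow_mul])
      have hd1 : d * d ≠ 1 := by
        intro h1
        have hdne : d ≠ 1 := by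
          intro hd'
          rw [hd', one_mul, mul_one] at hdg
          have h3 : g ^ 3 = 1 := by
            rw [pow_succ' g 3] at hdg; exact mul_eq_left.mp hdg.symm
          have := orderOf_dvd_of_pow_eq_one h3
          rw [hg5] at this
          norm_num at this
        have hcz : c * c = d := H2.fcInt_involution_unique hFC
          (by rw [← pow_two, orderOf_pow_of_dvd two_ne_zero (by rw [hc4]; norm_num), hc4])
          (orderOf_eq_prime (by rw [pow_two]; exact h1) hdne)
        have hh : φ d = -1 := by rw [← hcz, map_mul, hcφ]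
        have h4 := congrArg φ hdg
        rw [map_mul φ d g, map_mul φ (g ^ 4) d, hh, map_pow] at h4
        simp only [neg_mul, one_mul, mul_neg, mul_one, neg_inj] at h4
        apply hgφ1
        have h6 : φ g ^ 3 = 1 := by
          rw [pow_succ' (φ g) 3] at h4
          exact mul_left_cancel₀ (a := φ g) (fun e => by rw [e, zero_pow (by norm_num)] at hgφ5; exact zero_ne_one hgφ5) (by rw [← h4, mul_one])
        calc φ g = (φ g ^ 3) ^ 2 / φ g ^ 5 := by rw [hgφ5, div_one, ← pow_mul, pow_succ, hgφ5, one_mul]
          _ = 1 := by rw [h6, hgφ5, one_pow, div_one]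
      have hd22 : orderOf (d * d) = 2 := by
        refine orderOf_eq_prime ?_ hd1
        have hpw : ∃ l, orderOf (d * d) = 2 ^ l := by
          have h1 : d * d ∈ Subgroup.zpowers h :=
            Subgroup.mul_mem _ (Subgroup.mul_mem _ (Subgroup.mem_zpowers h) (Subgroup.mem_zpowers h))
              (Subgroup.mul_mem _ (Subgroup.mem_zpowers h) (Subgroup.mem_zpowers h))
          obtain ⟨l, -, hl⟩ := (Nat.dvd_prime_pow Nat.prime_two).mp
            (hhord ▸ orderOf_dvd_of_mem_zpowers h1)
          exact ⟨l, hl⟩
        have h1 := sl_centralizer (eP ⟨d * d, P.mul_mem hdP hdP⟩) (by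
          have h2 : Commute (⟨d * d, P.mul_mem hdP hdP⟩ : P) (eP.symm slU) := Subtype.ext hd2g.eq
          have h3 := h2.map eP
          rwa [MulEquiv.apply_symm_apply] at h3)
        have h2 : (⟨d * d, P.mul_mem hdP hdP⟩ : P) ^ 10 = 1 := eP.injective (by rw [map_pow, h1, map_one])
        have h3 : (d * d) ^ 10 = 1 := congrArg Subtype.val h2
        obtain ⟨l, hl⟩ := hpw
        have h5 : orderOf (d * d) ∣ 2 := by
          have h6 : Nat.gcd (orderOf (d * d)) 10 ∣ 2 := by
            have : Nat.Coprime (Nat.gcd (orderOf (d * d)) 10) 5 := by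
              refine Nat.Coprime.coprime_dvd_left (Nat.gcd_dvd_left _ _) ?_
              rw [hl]; exact Nat.Coprime.pow_left _ (by norm_num)
            exact this.dvd_of_dvd_mul_right (Nat.gcd_dvd_right (orderOf (d * d)) 10)
          rwa [Nat.gcd_eq_left (orderOf_dvd_of_pow_eq_one h3)] at h6
        exact orderOf_dvd_iff_pow_eq_one.mp h5
      refine H8.DivSplit.no_order_four_outer (g := φ g) (h := φ h) hgφ5 hgφ1
        (by rw [← map_mul, hhg, map_mul, map_pow]) ?_
      rw [← map_mul, ← hd, ← map_mul]
      exact hinv _ hd22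

end Cfsg.Agent.S4294
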