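import Cfsg.Statements.S4295
import Cfsg.Agent.H2.AnticommutingSquare
import Cfsg.Agent.H2.QuaternionComplement
import Cfsg.Agent.H2.FrobeniusKernel

set_option autoImplicit false
open Cfsg

namespace Cfsg.Agent.S4295

/-- For a natural number m the following are equivalent: (a) some finite group has a Frobenius complement isomorphic to the quaternion group of order 8 whose Frobenius kernel (the identity together with the elements lying in no conjugate of the complement) has exactly m elements; (b) m is an odd perfect square greater than 1. -/
theorem result (m : ℕ) :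
    (∃ (L : Type) (_ : Group L) (_ : Finite L) (H : Subgroup L), Cfsg.IsFrobeniusComplement H ∧
        Nonempty (H ≃* QuaternionGroup 2) ∧ Nat.card (Cfsg.frobeniusKernel H) = m) ↔
    (Odd m ∧ IsSquare m ∧ 1 < m) := by
  constructor
  · rintro ⟨L, _, _, H, hF, ⟨e⟩, rfl⟩
    obtain ⟨K, hK, hKn, hc⟩ := H2.exists_kernel hF
    haveI := hKn
    have hcard : Nat.card (Cfsg.frobeniusKernel H) = Nat.card K := by rw [← hK]; rfl
    let ι : QuaternionGroup 2 →* L := H.subtype.comp e.symm.toMonoidHom
    have hι : Function.Injective ι := Subtype.val_injective.comp e.symm.injective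
    have hmem : ∀ q, ι q ∈ H := fun q => SetLike.coe_mem _
    obtain ⟨h1, h2⟩ := H2.odd_isSquare_card_of_anticomm hc hF (hmem (QuaternionGroup.a 1))
      (hmem (QuaternionGroup.xa 0)) (hmem (QuaternionGroup.a 2))
      (by
        rw [orderOf_injective ι hι]
        exact orderOf_eq_prime (by decide) (by decide))
      (by
        rw [← map_mul, ← map_mul, ← map_mul]
        exact congrArg ι (by decide))
    rw [hcard]
    refine ⟨h1, h2, ?_⟩
    rw [← hcard, H2.card_frobeniusKernel hF]
    exact H.one_lt_index_of_ne_top hF.2.1
  · rintro ⟨hodd, ⟨r, rfl⟩, h1⟩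
    refine H2.exists_quaternion_complement (Nat.Odd.of_mul_left hodd) ?_
    rcases Nat.lt_or_ge 1 r with h | h
    · exact h
    · interval_cases r <;> omega


end Cfsg.Agent.S4295
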