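import Cfsg.Statements.S4296
import Cfsg.Agent.H2.AnticommutingSquare
import Cfsg.Agent.H2.FPFSylow
import Cfsg.Agent.H2.UniqueSubgroup
import Cfsg.Agent.H2.FrobeniusKernel

set_option autoImplicit false
open Cfsg

namespace Cfsg.Agent.S4296

/-- Let H be a Frobenius complement in a finite group, and suppose some Sylow subgroup of H is not cyclic. Then the number of elements of the Frobenius kernel (the identity together with the elements lying in no conjugate of H) is an odd perfect square. -/
theorem result {L : Type*} [Group L] [Finite L] (H : Subgroup L) (hF : Cfsg.IsFrobeniusComplement H)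
    (hZ : ∃ (p : ℕ) (_ : Fact p.Prime) (P : Sylow p H), ¬ IsCyclic P) :
    Odd (Nat.card (Cfsg.frobeniusKernel H)) ∧ IsSquare (Nat.card (Cfsg.frobeniusKernel H)) := by
  obtain ⟨p, hp, P, hP⟩ := hZ
  haveI := hp
  obtain ⟨K, hK, hKn, hc⟩ := H2.exists_kernel hF
  haveI := hKn
  rw [show Nat.card (Cfsg.frobeniusKernel H) = Nat.card K by rw [← hK]; rfl]
  obtain ⟨-, n, ⟨e⟩⟩ := (H2.cyclic_or_quaternion_of_unique P.isPGroup'
    (H2.complement_sylow_unique hc hF P)).resolve_left hP
  rcases n with _ | k
  · exfalso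
    apply hP
    rw [e.isCyclic]
    haveI : NeZero (2 ^ 0) := ⟨one_ne_zero⟩
    exact isCyclic_of_orderOf_eq_card (QuaternionGroup.xa 0) (by rw [QuaternionGroup.orderOf_xa, Nat.card_eq_fintype_card, QuaternionGroup.card, pow_zero, mul_one])
  · set N : ℕ := 2 ^ (k + 1) with hN
    let X : QuaternionGroup N := QuaternionGroup.a ((2 ^ k : ℕ) : ZMod (2 * N))
    let Y : QuaternionGroup N := QuaternionGroup.xa 0
    let Z : QuaternionGroup N := QuaternionGroup.a ((N : ℕ) : ZMod (2 * N))
    have h2N : ((N : ℕ) : ZMod (2 * N)) + (N : ℕ) = 0 := by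
      rw [← Nat.cast_add, ← two_mul, ZMod.natCast_self]
    have hZ2 : orderOf Z = 2 := by
      refine orderOf_eq_prime ?_ ?_
      · rw [pow_two, QuaternionGroup.a_mul_a, h2N]; rfl
      · intro h
        have h1 : ((N : ℕ) : ZMod (2 * N)) = 0 := QuaternionGroup.a.inj h
        rw [ZMod.natCast_eq_zero_iff] at h1
        have hpos : 0 < N := by positivity
        have := Nat.le_of_dvd hpos h1
        omega
    have hXY : X * Y = Z * (Y * X) := by
      simp only [X, Y, Z, QuaternionGroup.a_mul_xa, QuaternionGroup.xa_mul_a, zero_add, zero_sub]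
      congr 1
      have h : ((2 ^ k : ℕ) : ZMod (2 * N)) + (2 ^ k : ℕ) = (N : ℕ) := by
        rw [← Nat.cast_add, hN, pow_succ, mul_two]
      rw [← h]; abel
    let ι : QuaternionGroup N →* L :=
      H.subtype.comp ((P : Subgroup H).subtype.comp e.symm.toMonoidHom)
    have hι : Function.Injective ι :=
      Subtype.val_injective.comp (Subtype.val_injective.comp e.symm.injective)
    have hmem : ∀ q, ι q ∈ H := fun q => SetLike.coe_mem _
    refine H2.odd_isSquare_card_of_anticomm hc hF (hmem X) (hmem Y) (hmem Z) ?_ ?_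
    · rw [orderOf_injective ι hι, hZ2]
    · rw [← map_mul, ← map_mul, ← map_mul, hXY]


end Cfsg.Agent.S4296
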