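import Cfsg.Statements.S4298
import Cfsg.Agent.H28.FCUnits

set_option autoImplicit false
open Cfsg

namespace Cfsg.Agent.S4298

/-- The group SL(2,3) of order 24 (the binary tetrahedral group) occurs as a Frobenius complement of some finite Frobenius group. -/
theorem result :
    ∃ (L : Type) (_ : Group L) (_ : Finite L) (H : Subgroup L), Cfsg.IsFrobeniusComplement H ∧ Nonempty (H ≃* Matrix.SpecialLinearGroup (Fin 2) (ZMod 3)) := by
  haveI : Nontrivial (Matrix.SpecialLinearGroup (Fin 2) (ZMod 3)) :=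
    ⟨⟨⟨!![1, 1; 0, 1], by decide⟩, 1, fun h => by
      have h1 := congrArg (fun x : Matrix.SpecialLinearGroup (Fin 2) (ZMod 3) => x.1 0 1) h
      simp at h1⟩⟩
  haveI : Fact (1 < 5) := ⟨by norm_num⟩
  obtain ⟨L, i1, i2, H, hH, ⟨e⟩⟩ := H28.isFC_of_action H28.sl23Act H28.sl23Act_free
  exact ⟨L, i1, i2, H, hH, ⟨e.symm⟩⟩

end Cfsg.Agent.S4298
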