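import Cfsg.Statements.S4300
import Mathlib.GroupTheory.GroupAction.Primitive
import Mathlib.Tactic.Group

set_option autoImplicit false
open Cfsg

namespace Cfsg.Agent.S4300

/-- Let G act faithfully and primitively on a set X, and suppose the stabilizer of some point is a simple group. Then either G is simple, or G has a normal subgroup, neither trivial nor the whole group, that acts regularly on X (transitively with trivial point stabilizers). -/
theorem result {G : Type*} [Group G] {X : Type*} [MulAction G X] [FaithfulSMul G X]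
    (hprim : MulAction.IsPreprimitive G X) (x : X) (hsimple : IsSimpleGroup (MulAction.stabilizer G x)) :
    IsSimpleGroup G ∨ ∃ N : Subgroup G, N.Normal ∧ N ≠ ⊥ ∧ N ≠ ⊤ ∧
      MulAction.IsPretransitive N X ∧ ∀ y : X, MulAction.stabilizer N y = ⊥ := by
  haveI := hprim
  set H := MulAction.stabilizer G x with hHdef
  haveI : Nontrivial H := hsimple.toNontrivial
  haveI : Nontrivial X := by
    by_contra hX
    rw [not_nontrivial_iff_subsingleton] at hX
    obtain ⟨a, b, hab⟩ := exists_pair_ne H
    exact hab (Subtype.ext (FaithfulSMul.eq_of_smul_eq_smul (α := X) fun y => Subsingleton.elim _ _))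
  haveI : Nontrivial G := Subtype.coe_injective.nontrivial (α := H)
  by_cases hG : ∀ N : Subgroup G, N.Normal → N = ⊥ ∨ N = ⊤
  · exact Or.inl ⟨fun N hN => hG N hN⟩
  push Not at hG
  obtain ⟨N, hN, hb, ht⟩ := hG
  right
  haveI := hN
  have htrans : MulAction.IsPretransitive N X := by
    refine MulAction.IsQuasiPreprimitive.isPretransitive_of_normal (G := G) ?_
    intro hfix
    apply hb
    rw [Subgroup.eq_bot_iff_forall]
    intro n hn
    refine FaithfulSMul.eq_of_smul_eq_smul (α := X) fun y => ?_
    rw [one_smul]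
    have : y ∈ MulAction.fixedPoints N X := by rw [hfix]; trivial
    exact this ⟨n, hn⟩
  have hdisj : N ⊓ H = ⊥ := by
    rcases hsimple.eq_bot_or_eq_top_of_normal (N.subgroupOf H) inferInstance with h | h
    · rwa [Subgroup.subgroupOf_eq_bot, disjoint_iff] at h
    · rw [Subgroup.subgroupOf_eq_top] at h
      exfalso
      apply ht
      rw [eq_top_iff]
      intro g _
      obtain ⟨n, hn⟩ := htrans.exists_smul_eq x (g • x)
      have hmem : (n : G)⁻¹ * g ∈ H := by
        rw [hHdef, MulAction.mem_stabilizer_iff, mul_smul, ← hn, Subgroup.smul_def, inv_smul_smul]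
      have := N.mul_mem n.2 (h hmem)
      rwa [mul_inv_cancel_left] at this
  refine ⟨N, hN, hb, ht, htrans, fun y => ?_⟩
  obtain ⟨n, rfl⟩ := htrans.exists_smul_eq x y
  rw [Subgroup.eq_bot_iff_forall]
  intro m hm
  have h1 : ((n⁻¹ * m * n : N) : G) ∈ N ⊓ H := by
    refine ⟨SetLike.coe_mem _, ?_⟩
    show _ • x = x
    rw [← Subgroup.smul_def, mul_smul, mul_smul, MulAction.mem_stabilizer_iff.mp hm, inv_smul_smul]
  rw [hdisj, Subgroup.mem_bot, OneMemClass.coe_eq_one] at h1
  calc m = n * (n⁻¹ * m * n) * n⁻¹ := by group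
    _ = 1 := by rw [h1]; group

end Cfsg.Agent.S4300
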