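import Cfsg.Statements.S4301


set_option autoImplicit false
open Cfsg

namespace Cfsg.Agent.S4301

/-- One-point extension of a multiply transitive group. Let X be a set and G a group of permutations of Option X (the set X with one extra point ∗ = none) all of whose elements fix ∗, such that G is k-transitive on the points of X for some k ≥ 2, X having at least k points. Suppose a permutation h of Option X and an element g of G satisfy: h interchanges ∗ with a point x of X and fixes a point y of X; g interchanges x and y; (g h)³ and h² lie in G; and for every f in G fixing x, the product h f h lies in G and fixes x. Then an element of the group generated by G and h fixes ∗ exactly when it lies in G, and that group acts (k+1)-transitively on Option X. -/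
theorem result {X : Type*} (G : Subgroup (Equiv.Perm (Option X))) (hfix : ∀ f ∈ G, f none = none)
    (k : ℕ) (hk : 2 ≤ k) (hkX : Nonempty (Fin k ↪ X))
    (htrans : ∀ a b : Fin k ↪ X, ∃ f ∈ G, ∀ i, f (some (a i)) = some (b i))
    (h g : Equiv.Perm (Option X)) (hg : g ∈ G) (x y : X)
    (h1 : h none = some x) (h2 : h (some x) = none) (h3 : h (some y) = some y)
    (h4 : g (some x) = some y) (h5 : g (some y) = some x)
    (h6 : (g * h) ^ 3 ∈ G) (h7 : h ^ 2 ∈ G)
    (h8 : ∀ f ∈ G, f (some x) = some x → h * f * h ∈ G ∧ (h * f * h) (some x) = some x) :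
    (∀ f ∈ Subgroup.closure ((G : Set (Equiv.Perm (Option X))) ∪ {h}), f none = none ↔ f ∈ G) ∧
      MulAction.IsMultiplyPretransitive (Subgroup.closure ((G : Set (Equiv.Perm (Option X))) ∪ {h})) (Option X) (k + 1) := by
  classical
  have hsome : ∀ f ∈ G, ∀ z : X, ∃ w : X, f (some z) = some w := by
    intro f hf z
    cases hfz : f (some z) with
    | none => exact absurd (f.injective (hfz.trans (hfix f hf).symm)) (by simp)
    | some w => exact ⟨w, rfl⟩
  have hxy : x ≠ y := fun e => by subst e; exact absurd (h2.symm.trans h3) (by simp)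
  -- `h⁻¹ = (h ^ 2)⁻¹ * h` and `h ^ 2` fixes `x`
  have hh2x : (h ^ 2) (some x) = some x := by rw [pow_two, Equiv.Perm.mul_apply, h2, h1]
  have hh2ix : ((h ^ 2)⁻¹ : Equiv.Perm (Option X)) (some x) = some x := by
    rw [Equiv.Perm.inv_eq_iff_eq, hh2x]
  -- transitivity of the stabiliser of `x` in `G`
  have hstab : ∀ u v : X, u ≠ x → v ≠ x → ∃ a ∈ G, a (some x) = some x ∧ a (some u) = some v := by
    intro u v hu hv
    obtain ⟨em⟩ := hkX
    have : ∀ w : X, w ≠ x → ∃ e : Fin k ↪ X, e ⟨0, by omega⟩ = x ∧ e ⟨1, by omega⟩ = w := by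
      intro w hw
      let e1 := em.trans (Equiv.swap (em ⟨0, by omega⟩) x).toEmbedding
      have h0 : e1 ⟨0, by omega⟩ = x := by simp [e1]
      have hne : e1 ⟨1, by omega⟩ ≠ x := fun h => by
        have := e1.injective (h.trans h0.symm); simp [Fin.ext_iff] at this
      refine ⟨e1.trans (Equiv.swap (e1 ⟨1, by omega⟩) w).toEmbedding, ?_, ?_⟩
      · show Equiv.swap _ _ (e1 ⟨0, by omega⟩) = x
        rw [h0]; exact Equiv.swap_apply_of_ne_of_ne hne.symm hw.symm
      · show Equiv.swap _ _ (e1 ⟨1, by omega⟩) = w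
        exact Equiv.swap_apply_left _ _
    obtain ⟨e, he0, he1⟩ := this u hu
    obtain ⟨e', he0', he1'⟩ := this v hv
    obtain ⟨a, ha, hae⟩ := htrans e e'
    exact ⟨a, ha, by have := hae ⟨0, by omega⟩; rwa [he0, he0'] at this,
      by have := hae ⟨1, by omega⟩; rwa [he1, he1'] at this⟩
  let inK : Equiv.Perm (Option X) → Prop := fun f => f ∈ G ∨ ∃ a ∈ G, ∃ b ∈ G, f = a * h * b
  have hinv : h⁻¹ = (h ^ 2)⁻¹ * h := by rw [pow_two]; group
  have hinv' : h⁻¹ = h * (h ^ 2)⁻¹ := by rw [pow_two]; group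
  have Kl : ∀ a ∈ G, ∀ f, inK f → inK (a * f) := by
    rintro a ha f (hf | ⟨c, hc, d, hd, rfl⟩)
    · exact Or.inl (mul_mem ha hf)
    · exact Or.inr ⟨a * c, mul_mem ha hc, d, hd, by group⟩
  have Kr : ∀ a ∈ G, ∀ f, inK f → inK (f * a) := by
    rintro a ha f (hf | ⟨c, hc, d, hd, rfl⟩)
    · exact Or.inl (mul_mem hf ha)
    · exact Or.inr ⟨c, hc, d * a, mul_mem hd ha, by group⟩
  have hhgh : inK (h * g * h) := by
    refine Or.inr ⟨g⁻¹ * (g * h) ^ 3 * (h ^ 2)⁻¹, mul_mem (mul_mem (inv_mem hg) h6) (inv_mem h7),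
      g⁻¹, inv_mem hg, ?_⟩
    rw [mul_assoc _ (h ^ 2)⁻¹ h, ← hinv, pow_succ, pow_two]; group
  have hKh : ∀ f ∈ G, inK (h * f * h) := by
    intro f hf
    by_cases hfx : f (some x) = some x
    · exact Or.inl (h8 f hf hfx).1
    obtain ⟨z, hz⟩ := hsome f hf x
    have hzx : z ≠ x := fun e => hfx (e ▸ hz)
    obtain ⟨a, ha, hax, hay⟩ := hstab y z hxy.symm hzx
    have hbG : (a * g)⁻¹ * f ∈ G := mul_mem (inv_mem (mul_mem ha hg)) hf
    have hbx : ((a * g)⁻¹ * f) (some x) = some x := by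
      rw [Equiv.Perm.mul_apply, hz, Equiv.Perm.inv_eq_iff_eq, Equiv.Perm.mul_apply, h4, hay]
    obtain ⟨ha1, -⟩ := h8 a ha hax
    obtain ⟨hb1, -⟩ := h8 _ hbG hbx
    have e : h * f * h = (h * a * h) * ((h ^ 2)⁻¹ * (h * g * h) * (h ^ 2)⁻¹) * (h * ((a * g)⁻¹ * f) * h) := by
      rw [show (h ^ 2)⁻¹ * (h * g * h) * (h ^ 2)⁻¹ = ((h ^ 2)⁻¹ * h) * g * (h * (h ^ 2)⁻¹) by group,
        ← hinv, ← hinv']
      group
    rw [e]
    exact Kr _ hb1 _ (Kl _ ha1 _ (Kr _ (inv_mem h7) _ (Kl _ (inv_mem h7) _ hhgh)))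
  have hK : ∀ f ∈ Subgroup.closure ((G : Set (Equiv.Perm (Option X))) ∪ {h}), inK f := by
    intro f hf
    induction hf using Subgroup.closure_induction with
    | mem f hf =>
      rcases hf with hf | hf
      · exact Or.inl hf
      · exact Or.inr ⟨1, one_mem _, 1, one_mem _, by simpa using hf⟩
    | one => exact Or.inl (one_mem _)
    | mul f f' _ _ ihf ihf' =>
      rcases ihf with hf | ⟨a, ha, b, hb, rfl⟩
      · exact Kl f hf f' ihf'
      · rcases ihf' with hf' | ⟨c, hc, d, hd, rfl⟩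
        · exact Kr f' hf' _ (Or.inr ⟨a, ha, b, hb, rfl⟩)
        · have e : a * h * b * (c * h * d) = a * (h * (b * c) * h) * d := by group
          rw [e]; exact Kr _ hd _ (Kl _ ha _ (hKh _ (mul_mem hb hc)))
    | inv f _ ihf =>
      rcases ihf with hf | ⟨a, ha, b, hb, rfl⟩
      · exact Or.inl (inv_mem hf)
      · refine Or.inr ⟨b⁻¹ * (h ^ 2)⁻¹, mul_mem (inv_mem hb) (inv_mem h7), a⁻¹, inv_mem ha, ?_⟩
        rw [mul_assoc b⁻¹, ← hinv]; group
  refine ⟨fun f hf => ⟨fun hfn => ?_, hfix f⟩, ?_⟩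
  · rcases hK f hf with hf' | ⟨a, ha, b, hb, rfl⟩
    · exact hf'
    · rw [Equiv.Perm.mul_apply, Equiv.Perm.mul_apply, hfix b hb, h1] at hfn
      obtain ⟨w, hw⟩ := hsome a ha x
      rw [hw] at hfn; simp at hfn
  · have hGK : ∀ f ∈ G, f ∈ Subgroup.closure ((G : Set (Equiv.Perm (Option X))) ∪ {h}) :=
      fun f hf => Subgroup.subset_closure (Or.inl hf)
    have hhK : h ∈ Subgroup.closure ((G : Set (Equiv.Perm (Option X))) ∪ {h}) :=
      Subgroup.subset_closure (Or.inr rfl)
    have tonone : ∀ o : Option X, ∃ f ∈ Subgroup.closure ((G : Set (Equiv.Perm (Option X))) ∪ {h}),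
        f o = none := by
      rintro (_ | z)
      · exact ⟨1, one_mem _, rfl⟩
      obtain ⟨em⟩ := hkX
      obtain ⟨a, ha, hae⟩ := htrans (em.trans (Equiv.swap (em ⟨0, by omega⟩) z).toEmbedding)
        (em.trans (Equiv.swap (em ⟨0, by omega⟩) x).toEmbedding)
      refine ⟨h * a, mul_mem hhK (hGK a ha), ?_⟩
      have := hae ⟨0, by omega⟩
      simp only [Function.Embedding.trans_apply, Equiv.coe_toEmbedding, Equiv.swap_apply_left] at this
      rw [Equiv.Perm.mul_apply, this, h2]
    rw [MulAction.isMultiplyPretransitive_iff]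
    intro p q
    obtain ⟨f, hf, hf0⟩ := tonone (p 0)
    obtain ⟨f', hf', hf0'⟩ := tonone (q 0)
    have low : ∀ (p : Fin (k + 1) ↪ Option X) (f : Equiv.Perm (Option X)), f (p 0) = none →
        ∃ e : Fin k ↪ X, ∀ i, f (p i.succ) = some (e i) := by
      intro p f hf0
      have hne : ∀ i : Fin k, (f (p i.succ)).isSome := by
        intro i
        rw [Option.isSome_iff_ne_none, ← hf0]
        exact fun e => Fin.succ_ne_zero i (p.injective (f.injective e))
      refine ⟨⟨fun i => (f (p i.succ)).get (hne i), fun i j e => ?_⟩, fun i => (Option.some_get _).symm⟩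
      have := congrArg some e
      rw [Option.some_get, Option.some_get] at this
      exact Fin.succ_injective _ (p.injective (f.injective this))
    obtain ⟨e, he⟩ := low p f hf0
    obtain ⟨e', he'⟩ := low q f' hf0'
    obtain ⟨a, ha, hae⟩ := htrans e e'
    refine ⟨⟨f'⁻¹ * a * f, mul_mem (mul_mem (inv_mem hf') (hGK a ha)) hf⟩, ?_⟩
    ext1 i
    show (f'⁻¹ * a * f) (p i) = q i
    rw [Equiv.Perm.mul_apply, Equiv.Perm.mul_apply, Equiv.Perm.inv_eq_iff_eq]
    refine Fin.cases ?_ (fun j => ?_) i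
    · rw [hf0, hf0', hfix a ha]
    · rw [he, he', hae]

end Cfsg.Agent.S4301
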