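import Cfsg.Statements.S4314
import Mathlib
import Cfsg.Agent.H27.ClassBasic

set_option autoImplicit false
open Cfsg

namespace Cfsg.Agent.S4314

open Subgroup
open scoped commutatorElement

/-- Let `G` be a finite group every conjugacy class of which has size 1 or a prime. Then either `G` is nilpotent of class at most 2, or `G/Z(G)` is a non-abelian group of order `pq` for distinct primes `p, q` (a Frobenius group of order `pq`). -/
theorem result {G : Type*} [Group G] [Finite G]
    (h : ∀ x : G, (Subgroup.centralizer ({x} : Set G)).index = 1 ∨ ((Subgroup.centralizer ({x} : Set G)).index).Prime) :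
    Subgroup.upperCentralSeries G 2 = ⊤ ∨
      ∃ p q : ℕ, p.Prime ∧ q.Prime ∧ p ≠ q ∧ Nat.card (G ⧸ Subgroup.center G) = p * q ∧ ¬ IsMulCommutative (G ⧸ Subgroup.center G) := by
  by_cases hall : ∀ x : G, (centralizer ({x} : Set G)).Normal
  · -- all centralisers are normal of prime index, so they contain the derived subgroup
    left
    rw [eq_top_iff]
    intro g _
    rw [Subgroup.mem_upperCentralSeries_succ_iff]
    intro y
    rw [Subgroup.upperCentralSeries_one, mem_center_iff]
    intro z
    set C := centralizer ({z} : Set G) with hCdef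
    have hcomm : ⁅g, y⁆ ∈ C := by
      have hn : C.Normal := hall z
      rcases h z with h1 | h1
      · rw [index_eq_one] at h1
        rw [hCdef, h1]
        exact mem_top _
      · have : Fact (Nat.Prime C.index) := ⟨h1⟩
        have : IsCyclic (G ⧸ C) := isCyclic_of_prime_card (p := C.index) rfl
        rw [← QuotientGroup.eq_one_iff, ← QuotientGroup.mk'_apply, map_commutatorElement,
          commutatorElement_eq_one_iff_mul_comm]
        exact IsCyclic.commutative.is_comm.comm _ _
    have := H27.mem_cent.mp hcomm
    exact this.symm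
  · right
    push Not at hall
    obtain ⟨x, hx⟩ := hall
    set H := centralizer ({x} : Set G)
    have hHp : H.index.Prime := by
      rcases h x with h1 | h1
      · exact absurd (show H.Normal by
          rw [show H = ⊤ from index_eq_one.mp h1]; infer_instance) hx
      · exact h1
    set p := H.index
    have := Fact.mk hHp
    set K := H.normalCore
    have hKH : K ≤ H := normalCore_le H
    have hidxK : H.relIndex ⊤ * 1 = p := by rw [relIndex_top_right, mul_one]
    -- an element of order `p` in the quotient, outside the image of `H`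
    set Hb := H.map (QuotientGroup.mk' K)
    have hHb : Hb.index = p := by
      rw [← index_comap_of_surjective _ (QuotientGroup.mk'_surjective K),
        comap_map_eq_self (by rw [QuotientGroup.ker_mk']; exact hKH)]
    obtain ⟨a₀, ha₀⟩ := exists_prime_orderOf_dvd_card' (G := G ⧸ K) p (hHb ▸ index_dvd_card Hb)
    have hconj : ∃ t : G ⧸ K, t * a₀ * t⁻¹ ∉ Hb := by
      by_contra hcon
      push Not at hcon
      obtain ⟨g, rfl⟩ := QuotientGroup.mk'_surjective K a₀
      have hgK : g ∈ K := by
        intro t
        have h1 := hcon (QuotientGroup.mk' K t)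
        rw [← map_inv, ← map_mul, ← map_mul, ← mem_comap,
          comap_map_eq_self (by rw [QuotientGroup.ker_mk']; exact hKH)] at h1
        exact h1
      rw [QuotientGroup.mk'_apply, (QuotientGroup.eq_one_iff g).mpr hgK, orderOf_one] at ha₀
      exact hHp.one_lt.ne ha₀
    obtain ⟨t, ht⟩ := hconj
    set a := t * a₀ * t⁻¹
    have ha : orderOf a = p := by
      rw [show a = MulAut.conj t a₀ from rfl, MulEquiv.orderOf_eq, ha₀]
    -- the centraliser of `a` meets the image of `H` trivially
    have hCH : centralizer ({a} : Set (G ⧸ K)) ⊓ Hb = ⊥ := by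
      rw [eq_bot_iff]
      rintro c ⟨hc, hcH⟩
      have hsurj : Function.Surjective (fun i : zpowers a => ((i : G ⧸ K) : (G ⧸ K) ⧸ Hb)) := by
        have hinj : Function.Injective (fun i : zpowers a => ((i : G ⧸ K) : (G ⧸ K) ⧸ Hb)) := by
          intro i j hij
          have hmem : ((i⁻¹ * j : zpowers a) : G ⧸ K) ∈ Hb := QuotientGroup.eq.mp hij
          by_contra hne
          have h1 : (i⁻¹ * j : zpowers a) ≠ 1 := fun h => hne (inv_mul_eq_one.mp h)
          have htop := zpowers_eq_top_of_prime_card (G := zpowers a) (p := p)
            (by rw [Nat.card_zpowers, ha]) h1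
          have hle : zpowers a ≤ Hb := by
            intro u hu
            obtain ⟨k, hk⟩ : (⟨u, hu⟩ : zpowers a) ∈ zpowers (i⁻¹ * j) := htop ▸ mem_top _
            rw [← show ((⟨u, hu⟩ : zpowers a) : G ⧸ K) = u from rfl, ← hk]
            simpa using Hb.zpow_mem hmem k
          exact ht (hle (mem_zpowers a))
        refine (Function.Injective.bijective_of_nat_card_le hinj ?_).2
        rw [Nat.card_zpowers, ha]
        exact hHb.le
      obtain ⟨g, rfl⟩ := QuotientGroup.mk'_surjective K c
      show QuotientGroup.mk' K g = 1
      rw [QuotientGroup.mk'_apply, QuotientGroup.eq_one_iff]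
      intro u
      obtain ⟨⟨i, hi⟩, hiu⟩ := hsurj ((QuotientGroup.mk' K u⁻¹ : G ⧸ K) : (G ⧸ K) ⧸ Hb)
      obtain ⟨k, rfl⟩ := hi
      have hci : Commute (QuotientGroup.mk' K g) (a ^ k) :=
        ((H27.mem_cent_comm.mp hc).symm).zpow_right k
      have hm : (a ^ k)⁻¹ * QuotientGroup.mk' K u⁻¹ ∈ Hb := QuotientGroup.eq.mp hiu
      set b := (a ^ k)⁻¹ * QuotientGroup.mk' K u⁻¹
      have h1 : QuotientGroup.mk' K (u * g * u⁻¹) ∈ Hb := by
        have h2 : QuotientGroup.mk' K (u * g * u⁻¹) =
            b⁻¹ * ((a ^ k)⁻¹ * QuotientGroup.mk' K g * a ^ k) * b := by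
          simp only [b, map_mul, map_inv]; group
        have h3 : (a ^ k)⁻¹ * QuotientGroup.mk' K g * a ^ k = QuotientGroup.mk' K g := by
          rw [mul_assoc, hci.eq, inv_mul_cancel_left]
        rw [h2, h3]
        exact Hb.mul_mem (Hb.mul_mem (Hb.inv_mem hm) hcH) hm
      rw [← mem_comap, comap_map_eq_self (by rw [QuotientGroup.ker_mk']; exact hKH)] at h1
      exact h1
    have hCa : Nat.card (centralizer ({a} : Set (G ⧸ K))) = p := by
      refine le_antisymm ?_ ?_
      · have h1 : Hb.relIndex (centralizer ({a} : Set (G ⧸ K))) ≤ p := by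
          rw [← hHb, ← relIndex_top_right Hb]
          exact relIndex_le_of_le_right le_top index_ne_zero_of_finite
        rwa [← inf_relIndex_right, inf_comm, hCH, relIndex_bot_left] at h1
      · rw [← ha, ← Nat.card_zpowers]
        exact card_le_of_le (zpowers_le.mpr (H27.mem_cent.mpr rfl))
    have hquot : ∀ g : G, ((centralizer ({(g : G ⧸ K)} : Set (G ⧸ K))).index = 1 ∨
        ((centralizer ({(g : G ⧸ K)} : Set (G ⧸ K))).index).Prime) := by
      intro g
      have hd := H27.index_cent_quot_dvd K g
      rcases h g with h1 | h1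
      · rw [h1] at hd; exact Or.inl (Nat.dvd_one.mp hd)
      · rcases h1.eq_one_or_self_of_dvd _ hd with h2 | h2
        · exact Or.inl h2
        · exact Or.inr (h2 ▸ h1)
    obtain ⟨ga, hga⟩ := QuotientGroup.mk'_surjective K a
    have hcardQ : p * (centralizer ({a} : Set (G ⧸ K))).index = Nat.card (G ⧸ K) := by
      rw [← hCa]; exact card_mul_index _
    have hq : ((centralizer ({a} : Set (G ⧸ K))).index).Prime := by
      have hqa := hquot ga
      rw [show (ga : G ⧸ K) = a from hga] at hqa
      refine hqa.resolve_left fun h1 => hx ?_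
      rw [h1, mul_one] at hcardQ
      have hbot : Hb = ⊥ := by
        refine eq_bot_of_card_eq _ ?_
        have := Hb.card_mul_index
        rw [hHb, ← hcardQ] at this
        exact Nat.eq_of_mul_eq_mul_right hHp.pos (this.trans (one_mul p).symm)
      have heq : H = K := by
        refine le_antisymm ?_ hKH
        intro y hy
        rw [← QuotientGroup.eq_one_iff]
        exact mem_bot.mp (hbot ▸ mem_map_of_mem (QuotientGroup.mk' K) hy)
      rw [heq]
      infer_instance
    set q := (centralizer ({a} : Set (G ⧸ K))).index
    have hpq : p ≠ q := by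
      intro hpq
      rw [← hpq, ← sq] at hcardQ
      have hab := IsPGroup.commutative_of_card_eq_prime_sq (p := p) hcardQ.symm
      have htop : centralizer ({a} : Set (G ⧸ K)) = ⊤ :=
        (eq_top_iff' _).mpr fun z => H27.mem_cent.mpr (hab z a)
      have : q = 1 := by simp only [q, htop, index_top]
      exact hq.one_lt.ne' this
    -- elements outside `K` centralise `K`
    have hcQ : ∀ g : G, g ∉ K → (K : Subgroup G) ≤ centralizer ({g} : Set G) := by
      intro g hg
      set C := centralizer ({g} : Set G)
      set Cb := centralizer ({(g : G ⧸ K)} : Set (G ⧸ K))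
      have hCb : Cb.index ≠ 1 := by
        intro h1
        rw [H27.index_cent_eq_one_iff, mem_center_iff] at h1
        have hgC : (g : G ⧸ K) ∈ centralizer ({a} : Set (G ⧸ K)) := H27.mem_cent.mpr (h1 a).symm
        have heq : zpowers a = centralizer ({a} : Set (G ⧸ K)) :=
          eq_of_le_of_card_ge (zpowers_le.mpr (H27.mem_cent.mpr rfl))
            (by rw [Nat.card_zpowers, ha, hCa])
        rw [← heq] at hgC
        obtain ⟨k, hk⟩ := hgC
        have hgne : (g : G ⧸ K) ≠ 1 := fun h => hg ((QuotientGroup.eq_one_iff g).mp h)
        have htop : centralizer ({a} : Set (G ⧸ K)) = ⊤ := by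
          refine (eq_top_iff' _).mpr fun z => ?_
          have hgen : a ∈ zpowers (g : G ⧸ K) := by
            have hz := zpowers_eq_top_of_prime_card (G := zpowers a) (p := p)
              (g := ⟨(g : G ⧸ K), k, hk⟩) (by rw [Nat.card_zpowers, ha])
              (fun h => hgne (congrArg Subtype.val h))
            obtain ⟨i, hi⟩ : (⟨a, mem_zpowers a⟩ : zpowers a) ∈ zpowers ⟨(g : G ⧸ K), k, hk⟩ :=
              hz ▸ mem_top _
            exact ⟨i, congrArg Subtype.val hi⟩
          exact H27.cent_le_cent_of_mem_zpowers hgen (H27.mem_cent.mpr (h1 z))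
        exact hq.one_lt.ne' (by simp only [q, htop, index_top])
      have hd := H27.index_cent_quot_dvd K g
      have hCC : C.index = Cb.index := by
        rcases h g with h1 | h1
        · rw [h1] at hd; exact absurd (Nat.dvd_one.mp hd) hCb
        · exact ((h1.eq_one_or_self_of_dvd _ hd).resolve_left hCb).symm
      have hle : C ≤ Cb.comap (QuotientGroup.mk' K) := by
        intro y hy
        refine H27.mem_cent.mpr ?_
        simp only [QuotientGroup.mk'_apply, ← QuotientGroup.mk_mul, H27.mem_cent.mp hy]
      have heq : C = Cb.comap (QuotientGroup.mk' K) := by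
        refine eq_of_le_of_card_ge hle (le_of_eq ?_)
        have h1 := C.card_mul_index
        have h2 := (Cb.comap (QuotientGroup.mk' K)).card_mul_index
        rw [index_comap_of_surjective _ (QuotientGroup.mk'_surjective K), ← hCC] at h2
        exact Nat.eq_of_mul_eq_mul_right (H27.cent_pos g) (h2.trans h1.symm)
      rw [heq]
      intro k hk
      rw [mem_comap, QuotientGroup.mk'_apply, (QuotientGroup.eq_one_iff k).mpr hk]
      exact one_mem _
    have hK : K = Subgroup.center G := by
      refine le_antisymm (fun k hk => mem_center_iff.mpr fun g => ?_) fun z hz => ?_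
      · by_cases hg : g ∈ K
        · have hgaK : ga ∉ K := fun h1 => by
            rw [← hga, QuotientGroup.mk'_apply, (QuotientGroup.eq_one_iff ga).mpr h1, orderOf_one] at ha
            exact hHp.one_lt.ne ha
          have h1 : Commute ga k := H27.mem_cent_comm.mp (hcQ ga hgaK hk)
          have h2 : g * ga ∉ K := fun h2 => hgaK (by simpa using K.mul_mem (K.inv_mem hg) h2)
          have h3 : Commute (g * ga) k := H27.mem_cent_comm.mp (hcQ _ h2 hk)
          have h4 : Commute (g * ga * ga⁻¹) k := h3.mul_left h1.inv_left
          rw [mul_inv_cancel_right] at h4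
          exact h4.eq
        · exact (H27.mem_cent.mp (hcQ g hg hk)).symm
      · intro u
        rw [mem_center_iff.mp hz u, mul_inv_cancel_right]
        exact H27.mem_cent.mpr (mem_center_iff.mp hz x).symm
    let e : G ⧸ K ≃* G ⧸ Subgroup.center G := QuotientGroup.quotientMulEquivOfEq hK
    refine ⟨p, q, hHp, hq, hpq, (Nat.card_congr e.toEquiv).symm.trans hcardQ.symm,
      fun hab => hq.one_lt.ne' ?_⟩
    have htop : centralizer ({a} : Set (G ⧸ K)) = ⊤ :=
      (eq_top_iff' _).mpr fun z => H27.mem_cent.mpr (e.injective (by
        exact (map_mul e z a).trans ((hab.is_comm.comm (e z) (e a)).trans (map_mul e a z).symm)))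
    simp only [q, htop, index_top]

end Cfsg.Agent.S4314
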