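import Cfsg.Statements.S4316
import Cfsg.Agent.H51.FixDer.Main

set_option autoImplicit false
universe u
open Cfsg

namespace Cfsg.Agent.S4316

/-- There is a function `f` of two natural-number arguments with the following property. Let `q` be a prime and `A` an elementary abelian group of order `q³` acting by automorphisms on a finite group `G` of order prime to `q`, and suppose that for every non-identity `a ∈ A` the derived subgroup of the fixed-point subgroup `C_G(a)` has order at most `m`. Then the derived subgroup of `G` has order at most `f(q, m)`. -/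
theorem result :
    ∃ f : ℕ → ℕ → ℕ, ∀ (q m : ℕ) (A G : Type u) [Group A] [Finite A] [Group G] [Finite G] [MulDistribMulAction A G],
      q.Prime → Nat.card A = q ^ 3 → (∀ a b : A, a * b = b * a) → (∀ a : A, a ^ q = 1) → ¬ q ∣ Nat.card G →
      (∀ a : A, a ≠ 1 → Nat.card ↥(commutator ↥(FixedPoints.subgroup (Subgroup.zpowers a) G)) ≤ m) →
      Nat.card ↥(commutator G) ≤ f q m := by
  refine ⟨H51.FixDer.derBound, ?_⟩
  intro q m A G _ _ _ _ _ hq hcard hcomm hexp hcop hm
  haveI := Fact.mk hq
  haveI : Finite (G ⋊[MulDistribMulAction.toMulAut A G] A) :=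
    Finite.of_equiv _ SemidirectProduct.equivProd.symm
  set ι : G →* G ⋊[MulDistribMulAction.toMulAut A G] A := SemidirectProduct.inl with hι
  set κ : A →* G ⋊[MulDistribMulAction.toMulAut A G] A := SemidirectProduct.inr with hκ
  have hinjι : Function.Injective ι := SemidirectProduct.inl_injective
  have hinjκ : Function.Injective κ := SemidirectProduct.inr_injective
  have hconj : ∀ (a : A) (g : G), κ a * ι g * (κ a)⁻¹ = ι (a • g) := by
    intro a g
    rw [hι, hκ, ← map_inv, ← SemidirectProduct.inl_aut]
    rfl
  have hA : Cfsg.IsElementaryAbelian q κ.range := by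
    refine ⟨⟨⟨?_⟩⟩, ?_⟩
    · rintro ⟨_, a, rfl⟩ ⟨_, b, rfl⟩
      apply Subtype.ext
      show κ a * κ b = κ b * κ a
      rw [← map_mul, hcomm a b, map_mul]
    · rintro _ ⟨a, rfl⟩
      rw [← map_pow, hexp a, map_one]
  have hnorm : κ.range ≤ Subgroup.normalizer (ι.range : Set _) := by
    intro a _
    exact (Subgroup.normalizer_eq_top (H := ι.range)
      (h := by rw [hι, SemidirectProduct.range_inl_eq_ker_rightHom]; infer_instance)).symm ▸
        Subgroup.mem_top a
  have hcardG : Nat.card ι.range = Nat.card G := Nat.card_congr (MonoidHom.ofInjective hinjι).symm.toEquiv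
  have hcardA : Nat.card κ.range = q ^ 3 := by
    rw [← hcard]; exact Nat.card_congr (MonoidHom.ofInjective hinjκ).symm.toEquiv
  have hfix : ∀ a : A, ι.range ⊓ Subgroup.centralizer {κ a} =
      (FixedPoints.subgroup (Subgroup.zpowers a) G).map ι := by
    intro a
    ext x
    constructor
    · rintro ⟨⟨g, rfl⟩, hx⟩
      refine ⟨g, ?_, rfl⟩
      have hx' : κ a * ι g = ι g * κ a := Subgroup.mem_centralizer_iff.1 hx _ rfl
      have hag : a • g = g := by
        apply hinjι
        rw [← hconj a g, hx', mul_inv_cancel_right]
      have hstab : Subgroup.zpowers a ≤ MulAction.stabilizer A g :=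
        Subgroup.zpowers_le.2 hag
      intro b
      exact hstab b.2
    · rintro ⟨g, hg, rfl⟩
      refine ⟨⟨g, rfl⟩, ?_⟩
      have hag : a • g = g := hg ⟨a, Subgroup.mem_zpowers a⟩
      refine Subgroup.mem_centralizer_iff.2 fun y hy => ?_
      rw [Set.mem_singleton_iff.1 hy]
      exact mul_inv_eq_iff_eq_mul.1 ((hconj a g).trans (congrArg ι hag))
  have key := H51.FixDer.card_commutator_le (q := q) (m := m) hA hcardA hnorm (by rwa [hcardG])
    (fun x hx hx1 => by
      obtain ⟨a, rfl⟩ := hx
      have ha1 : a ≠ 1 := fun e => hx1 (by rw [e, map_one])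
      rw [hfix a, ← Subgroup.map_commutator, Subgroup.card_map_of_injective hinjι,
        ← Subgroup.map_subtype_commutator, Subgroup.card_map_of_injective (Subgroup.subtype_injective _)]
      exact hm a ha1)
  rw [MonoidHom.range_eq_map, ← Subgroup.map_commutator, Subgroup.card_map_of_injective hinjι,
    ← commutator_def] at key
  exact key

end Cfsg.Agent.S4316
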