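import Cfsg.Statements.S4321
import Cfsg.Agent.H27.SingularGraph

set_option autoImplicit false
open Cfsg

namespace Cfsg.Agent.S4321

/-- Let `G` be a finite group and `p` a prime not dividing the order of the centre of `G`. Consider the primes dividing the size of some conjugacy class of a `p`-singular element (an element of order divisible by `p`), two of them adjacent when their product divides such a class size. Then any two distinct such primes are joined by a path with at most 3 edges (the graph is connected of diameter at most 3). -/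
theorem result {G : Type*} [Group G] [Finite G] (p : ℕ) [Fact p.Prime]
    (hZ : ¬ p ∣ Nat.card ↥(Subgroup.center G)) (r s : ℕ) (hr : (r.Prime ∧ ∃ x : G, p ∣ orderOf x ∧ r ∣ (Subgroup.centralizer ({x} : Set G)).index)) (hs : (s.Prime ∧ ∃ x : G, p ∣ orderOf x ∧ s ∣ (Subgroup.centralizer ({x} : Set G)).index)) (hrs : r ≠ s) :
    (∃ x : G, p ∣ orderOf x ∧ r * s ∣ (Subgroup.centralizer ({x} : Set G)).index) ∨ (∃ t : ℕ, (t.Prime ∧ ∃ x : G, p ∣ orderOf x ∧ t ∣ (Subgroup.centralizer ({x} : Set G)).index) ∧ t ≠ r ∧ t ≠ s ∧ (∃ x : G, p ∣ orderOf x ∧ r * t ∣ (Subgroup.centralizer ({x} : Set G)).index) ∧ (∃ x : G, p ∣ orderOf x ∧ t * s ∣ (Subgroup.centralizer ({x} : Set G)).index)) ∨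
      (∃ t u : ℕ, (t.Prime ∧ ∃ x : G, p ∣ orderOf x ∧ t ∣ (Subgroup.centralizer ({x} : Set G)).index) ∧ (u.Prime ∧ ∃ x : G, p ∣ orderOf x ∧ u ∣ (Subgroup.centralizer ({x} : Set G)).index) ∧ t ≠ r ∧ u ≠ s ∧ t ≠ u ∧ (∃ x : G, p ∣ orderOf x ∧ r * t ∣ (Subgroup.centralizer ({x} : Set G)).index) ∧ (∃ x : G, p ∣ orderOf x ∧ t * u ∣ (Subgroup.centralizer ({x} : Set G)).index) ∧ (∃ x : G, p ∣ orderOf x ∧ u * s ∣ (Subgroup.centralizer ({x} : Set G)).index)) := by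
  obtain ⟨hrp, x₁, hx₁, hrx⟩ := hr
  obtain ⟨hsp, x₂, hx₂, hsx⟩ := hs
  obtain ⟨a, b, ha, hb, hax, hbx, hab⟩ := H27.exists_walk hZ hx₁ hx₂
  have hmul : ∀ u v : ℕ, u.Prime → v.Prime → u ≠ v → ∀ x : G,
      u ∣ (Subgroup.centralizer ({x} : Set G)).index → v ∣ (Subgroup.centralizer ({x} : Set G)).index →
      u * v ∣ (Subgroup.centralizer ({x} : Set G)).index := fun u v hu hv huv x h1 h2 =>
    ((Nat.coprime_primes hu hv).mpr huv).mul_dvd_of_dvd_of_dvd h1 h2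
  by_cases hra : r = a
  · subst hra
    rcases hab with rfl | ⟨g, hg, hga, hgb⟩
    · exact Or.inl ⟨x₂, hx₂, hmul r s hrp hsp hrs x₂ hbx hsx⟩
    by_cases hbs : b = s
    · subst hbs
      exact Or.inl ⟨g, hg, hmul r b hrp hb hrs g hga hgb⟩
    by_cases hbr : b = r
    · subst hbr
      exact Or.inl ⟨x₂, hx₂, hmul b s hb hsp hrs x₂ hbx hsx⟩
    exact Or.inr (Or.inl ⟨b, ⟨hb, x₂, hx₂, hbx⟩, hbr, hbs,
      ⟨g, hg, hmul r b hrp hb (Ne.symm hbr) g hga hgb⟩, ⟨x₂, hx₂, hmul b s hb hsp hbs x₂ hbx hsx⟩⟩)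
  · have hra' : ∃ x : G, p ∣ orderOf x ∧ r * a ∣ (Subgroup.centralizer ({x} : Set G)).index :=
      ⟨x₁, hx₁, hmul r a hrp ha hra x₁ hrx hax⟩
    by_cases has : a = s
    · subst has
      exact Or.inl hra'
    rcases hab with rfl | ⟨g, hg, hga, hgb⟩
    · exact Or.inr (Or.inl ⟨a, ⟨ha, x₁, hx₁, hax⟩, Ne.symm hra, has, hra',
        ⟨x₂, hx₂, hmul a s ha hsp has x₂ hbx hsx⟩⟩)
    by_cases hba : a = b
    · subst hba
      exact Or.inr (Or.inl ⟨a, ⟨ha, x₁, hx₁, hax⟩, Ne.symm hra, has, hra',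
        ⟨x₂, hx₂, hmul a s ha hsp has x₂ hbx hsx⟩⟩)
    by_cases hbs : b = s
    · subst hbs
      exact Or.inr (Or.inl ⟨a, ⟨ha, x₁, hx₁, hax⟩, Ne.symm hra, has, hra',
        ⟨g, hg, hmul a b ha hb hba g hga hgb⟩⟩)
    by_cases hbr : b = r
    · subst hbr
      exact Or.inl ⟨x₂, hx₂, hmul b s hb hsp hbs x₂ hbx hsx⟩
    exact Or.inr (Or.inr ⟨a, b, ⟨ha, x₁, hx₁, hax⟩, ⟨hb, x₂, hx₂, hbx⟩, Ne.symm hra, hbs, hba, hra',
      ⟨g, hg, hmul a b ha hb hba g hga hgb⟩, ⟨x₂, hx₂, hmul b s hb hsp hbs x₂ hbx hsx⟩⟩)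

end Cfsg.Agent.S4321
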