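import Cfsg.Statements.S4323
import Cfsg.Agent.H72.AbelianFour.Main
import Cfsg.Agent.S0205

set_option autoImplicit false
open Cfsg

namespace Cfsg.Agent.S4323

/-- Let `q` be a prime and `A` a non-cyclic group of order `q²` acting by automorphisms on a finite group `G` of order prime to `q`, such that the fixed-point subgroup `C_G(a)` is abelian for every non-identity `a ∈ A`. Then `G` is solvable. -/
theorem result {A G : Type*} [Group A] [Finite A]
    [Group G] [Finite G] [MulDistribMulAction A G] (q : ℕ) (hq : q.Prime) (hA : Nat.card A = q ^ 2) (hnc : ¬ IsCyclic A)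
    (hcop : ¬ q ∣ Nat.card G) (h : ∀ a : A, a ≠ 1 → IsMulCommutative ↥(FixedPoints.subgroup (Subgroup.zpowers a) G)) :
    Group.IsSolvable G := by
  haveI := Fact.mk hq
  by_cases h2 : q = 2
  · subst h2
    exact Cfsg.Agent.S0205.result (Nat.not_even_iff_odd.mp fun he => hcop he.two_dvd)
  · refine H72.AbelianFour.solvable_of_action (A := A) (G := G) q
      (by have := hq.two_le; omega) hA hnc hcop fun a ha x y hx hy => ?_
    have hmem : ∀ z : G, a • z = z → z ∈ FixedPoints.subgroup (Subgroup.zpowers a) G := by
      intro z hz b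
      have : b.1 ∈ MulAction.stabilizer A z :=
        (Subgroup.zpowers_le.mpr (MulAction.mem_stabilizer_iff.mpr hz)) b.2
      exact MulAction.mem_stabilizer_iff.mp this
    exact congrArg Subtype.val ((h a ha).is_comm.comm ⟨x, hmem x hx⟩ ⟨y, hmem y hy⟩)

end Cfsg.Agent.S4323
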