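import Cfsg.Statements.S4330
import Cfsg.Agent.H34.CoverOdd
import Cfsg.Agent.H32.Subnormal
import Cfsg.Agent.H3.MinNormal

set_option autoImplicit false
open Pointwise
open Cfsg

namespace Cfsg.Agent.S4330

universe u in
theorem aux (p : ℕ) [Fact p.Prime] (hp : p ≠ 2) :
    ∀ (n : ℕ) (G : Type u) [Group G] [Finite G], Group.IsSolvable G → ∀ a : G,
      (∃ k : ℕ, a ^ p ^ k = 1) → Nat.card G = n →
      (∀ c : G, ∃ g : G, IsConj c g ∧
        IsPGroup p ↥(Subgroup.zpowers a ⊔ Subgroup.zpowers (g * a * g⁻¹))) →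
      a ∈ Cfsg.pCore p G := by
  intro n
  induction n using Nat.strong_induction_on with
  | _ n ih =>
    intro G _ _ hG a hak hn h
    classical
    haveI : Group.IsSolvable G := hG
    by_cases hGt : Subsingleton G
    · rw [Subsingleton.elim a 1]; exact one_mem _
    haveI : Nontrivial G := not_subsingleton_iff_nontrivial.1 hGt
    -- the image in a proper quotient
    have quot : ∀ N : Subgroup G, N.Normal → N ≠ ⊥ → ∀ [N.Normal],
        (QuotientGroup.mk' N a) ∈ Cfsg.pCore p (G ⧸ N) := by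
      intro N _ hN _
      obtain ⟨k, hk⟩ := hak
      refine ih (Nat.card (G ⧸ N)) ?_ (G ⧸ N) inferInstance _ ⟨k, by rw [← map_pow, hk, map_one]⟩ rfl ?_
      · rw [← hn, Subgroup.card_eq_card_quotient_mul_card_subgroup N]
        exact lt_mul_of_one_lt_right Nat.card_pos (Finite.one_lt_card_iff_nontrivial.2
          ((Subgroup.nontrivial_iff_ne_bot N).2 hN))
      intro c
      obtain ⟨c, rfl⟩ := QuotientGroup.mk'_surjective N c
      obtain ⟨g, hg, hgp⟩ := h c
      refine ⟨QuotientGroup.mk' N g, (QuotientGroup.mk' N).map_isConj hg, ?_⟩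
      have h1 := hgp.map (QuotientGroup.mk' N)
      rwa [Subgroup.map_sup, MonoidHom.map_zpowers, MonoidHom.map_zpowers, map_mul, map_mul,
        map_inv] at h1
    haveI hOn : (Cfsg.pCore p G).Normal := H1.pCore_normal' p G
    by_cases hO : Cfsg.pCore p G = ⊥
    swap
    · -- the preimage of the core of the quotient is a `p`-group
      have h1 := quot _ hOn hO
      haveI : (Cfsg.pCore p (G ⧸ Cfsg.pCore p G)).Normal := H1.pCore_normal' p _
      have h2 : IsPGroup p ↥((Cfsg.pCore p (G ⧸ Cfsg.pCore p G)).comap (QuotientGroup.mk' (Cfsg.pCore p G))) :=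
        (H1.isPGroup_pCore p _).comap_of_ker_isPGroup _ (by
          rw [QuotientGroup.ker_mk']; exact H1.isPGroup_pCore p G)
      exact H1.le_pCore h2 h1
    -- a minimal normal subgroup
    obtain ⟨N, ⟨hNn, hN⟩, hmin⟩ := (Set.toFinite {N : Subgroup G | N.Normal ∧ N ≠ ⊥}).exists_minimal
      ⟨⊤, ⟨inferInstance, bot_ne_top.symm⟩⟩
    haveI := hNn
    obtain ⟨hNc, q, hq, -, hNq, d, hd, hNcard⟩ := H3.minNormal_elementary N hN (fun K hK hKN => by
      by_cases hK0 : K = ⊥
      · exact Or.inl hK0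
      · exact Or.inr (le_antisymm hKN (hmin ⟨hK, hK0⟩ hKN)))
    haveI := Fact.mk hq
    have hqp : q ≠ p := fun hqp => hN (le_bot_iff.1 (hO ▸ H1.le_pCore (hqp ▸ hNq)))
    have hco : ¬ p ∣ Nat.card N := fun hdiv => by
      rw [hNcard] at hdiv
      exact hqp ((Nat.prime_dvd_prime_iff_eq (Fact.out) hq).1 ((Fact.out : p.Prime).dvd_of_dvd_pow hdiv)).symm
    have haK := quot N hNn hN
    haveI : (Cfsg.pCore p (G ⧸ N)).Normal := H1.pCore_normal' p _
    set K := (Cfsg.pCore p (G ⧸ N)).comap (QuotientGroup.mk' N)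
    haveI : K.Normal := Subgroup.normal_comap _
    have hKp : ∀ x ∈ K, ∃ k : ℕ, x ^ p ^ k ∈ N := by
      intro x hx
      obtain ⟨k, hk⟩ := H1.isPGroup_pCore p (G ⧸ N) ⟨_, hx⟩
      refine ⟨k, (QuotientGroup.eq_one_iff _).1 ?_⟩
      rw [QuotientGroup.mk_pow]
      exact congrArg Subtype.val hk
    -- conjugation on `N`
    haveI hWf : Finite (Additive N) := Additive.ofMul.finite_iff.1 inferInstance
    letI : CommGroup N := { (inferInstance : Group N) with mul_comm := fun x y => hNc.is_comm.comm x y }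
    let φ : G →* AddMonoid.End (Additive N) :=
      { toFun := fun g => (MulAut.conjNormal (H := N) g).toMonoidHom.toAdditive
        map_one' := AddMonoidHom.ext fun w => by
          show Additive.ofMul (MulAut.conjNormal (1 : G) w.toMul) = w
          rw [map_one]; rfl
        map_mul' := fun x y => AddMonoidHom.ext fun w => by
          show Additive.ofMul (MulAut.conjNormal (x * y) w.toMul) = _
          rw [map_mul]; rfl }
    have hφ : ∀ (g : G) (v : N), φ g (Additive.ofMul v) = Additive.ofMul v ↔ g * v = v * g := by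
      intro g v
      show Additive.ofMul (MulAut.conjNormal g v) = _ ↔ _
      rw [Additive.ofMul.injective.eq_iff, Subtype.ext_iff, MulAut.conjNormal_apply, mul_inv_eq_iff_eq_mul]
    set M := φ.toHomUnits.ker with hM
    let ψ : (G ⧸ M) →* AddMonoid.End (Additive N) := (Units.coeHom _).comp (QuotientGroup.kerLift φ.toHomUnits)
    have hψinj : Function.Injective ψ :=
      fun x y hxy => QuotientGroup.kerLift_injective φ.toHomUnits (Units.ext hxy)
    set P := K.map (QuotientGroup.mk' M)
    haveI : P.Normal := (inferInstance : K.Normal).map _ (QuotientGroup.mk'_surjective _)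
    have hNM : N ≤ M := by
      intro v hv
      rw [hM, MonoidHom.mem_ker]
      refine Units.ext (AddMonoidHom.ext fun w => ?_)
      exact (hφ v w.toMul).2 (congrArg Subtype.val (hNc.is_comm.comm ⟨v, hv⟩ w.toMul))
    have hP : IsPGroup p P := by
      rintro ⟨_, x, hx, rfl⟩
      obtain ⟨k, hk⟩ := hKp x hx
      exact ⟨k, Subtype.ext ((map_pow (QuotientGroup.mk' M) x _).symm.trans
        ((QuotientGroup.eq_one_iff _).2 (hNM hk)))⟩
    -- covering
    have hcover : ∀ v : N, ∃ x : G, x * a * x⁻¹ * v = v * (x * a * x⁻¹) := by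
      intro v
      obtain ⟨g, hg, hgp⟩ := h v
      obtain ⟨x, rfl⟩ := isConj_iff.1 hg
      set g := x * (v : G) * x⁻¹
      have hgN : g ∈ N := hNn.conj_mem v v.2 x
      have h1 : g * a * g⁻¹ * a⁻¹ = 1 := by
        have hmemJ : g * a * g⁻¹ * a⁻¹ ∈ Subgroup.zpowers a ⊔ Subgroup.zpowers (g * a * g⁻¹) :=
          mul_mem (le_sup_right (α := Subgroup G) (Subgroup.mem_zpowers _))
            (inv_mem (le_sup_left (α := Subgroup G) (Subgroup.mem_zpowers _)))
        have hmemN : g * a * g⁻¹ * a⁻¹ ∈ N := by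
          rw [mul_assoc, mul_assoc, ← mul_assoc a]
          exact mul_mem hgN (hNn.conj_mem _ (inv_mem hgN) a)
        obtain ⟨k, hk⟩ := hgp ⟨_, hmemJ⟩
        rw [← orderOf_eq_one_iff]
        refine Nat.eq_one_of_dvd_coprimes (a := p ^ k) (b := Nat.card N)
          (((Fact.out : p.Prime).coprime_iff_not_dvd.2 hco).pow_left k)
          (orderOf_dvd_of_pow_eq_one (congrArg Subtype.val hk)) ?_
        exact Subgroup.orderOf_coe (⟨_, hmemN⟩ : N) ▸ orderOf_dvd_natCard _
      refine ⟨x⁻¹, ?_⟩
      have h2 : g * a = a * g := by rwa [mul_inv_eq_one, mul_inv_eq_iff_eq_mul] at h1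
      calc x⁻¹ * a * x⁻¹⁻¹ * v = x⁻¹ * (a * g) * x := by simp only [g]; group
        _ = x⁻¹ * (g * a) * x := by rw [h2]
        _ = v * (x⁻¹ * a * x⁻¹⁻¹) := by simp only [g]; group
    -- `a` cannot act non-trivially
    have haM : QuotientGroup.mk' M a = 1 := by
      by_contra hne
      obtain ⟨v, hv⟩ := H34.exists_moved_by_conjugates hp
        (show ¬ p ∣ Nat.card (Additive N) by rwa [Nat.card_congr Additive.toMul]) ψ hψinj P hP
        (a := QuotientGroup.mk' M a) ⟨a, haK, rfl⟩ hne
      obtain ⟨x, hx⟩ := hcover v.toMul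
      refine hv (QuotientGroup.mk' M x) ?_
      rw [← map_inv, ← map_mul, ← map_mul]
      exact (hφ (x * a * x⁻¹) v.toMul).2 hx
    -- hence it lies in the nilpotent group `C = K ∩ C(N)`
    set C := K ⊓ M
    haveI : C.Normal := Subgroup.normal_inf_normal K M
    have hNK : N ≤ K := fun v hv => by
      show QuotientGroup.mk' N v ∈ Cfsg.pCore p (G ⧸ N)
      rw [show QuotientGroup.mk' N v = 1 from (QuotientGroup.eq_one_iff v).2 hv]
      exact one_mem _
    have hCnil : Group.IsNilpotent C := by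
      haveI : Group.IsNilpotent (C ⧸ N.subgroupOf C) := by
        refine IsPGroup.isNilpotent (p := p) ?_
        intro t
        obtain ⟨t, rfl⟩ := QuotientGroup.mk_surjective t
        obtain ⟨k, hk⟩ := hKp t t.2.1
        exact ⟨k, (QuotientGroup.mk_pow _ t _).symm.trans ((QuotientGroup.eq_one_iff _).2
          (show ((t ^ p ^ k : C) : G) ∈ N by simpa using hk))⟩
      refine isNilpotent_of_ker_le_center (QuotientGroup.mk' (N.subgroupOf C)) ?_
      rw [QuotientGroup.ker_mk']
      intro v hv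
      refine Subgroup.mem_center_iff.2 fun t => Subtype.ext ?_
      have ht : φ.toHomUnits t = 1 := MonoidHom.mem_ker.1 t.2.2
      exact (hφ t ⟨v, hv⟩).1 (DFunLike.congr_fun (congrArg Units.val ht) _)
    have haC : a ∈ C := ⟨haK, (QuotientGroup.eq_one_iff a).1 haM⟩
    obtain ⟨k, hk⟩ := hak
    have hz : IsPGroup p (Subgroup.zpowers (⟨a, haC⟩ : C)) := by
      rintro ⟨_, m, rfl⟩
      refine ⟨k, Subtype.ext ?_⟩
      show ((⟨a, haC⟩ : C) ^ m) ^ p ^ k = 1
      rw [← zpow_natCast, zpow_comm, zpow_natCast, show (⟨a, haC⟩ : C) ^ p ^ k = 1 from Subtype.ext hk, one_zpow]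
    obtain ⟨T, hT⟩ := hz.exists_le_sylow
    have hTn : (T : Subgroup C).Normal :=
      ((Group.isNilpotent_of_finite_tfae (G := C)).out 0 3 rfl rfl).mp hCnil p inferInstance T
    exact H32.map_pCore_le_of_subnormal p (Subgroup.Normal.isSubnormal (inferInstance : C.Normal))
      ⟨⟨a, haC⟩, H1.le_pCore T.2 (hT (Subgroup.mem_zpowers _)), rfl⟩

/-- Let G be a finite solvable group, p an odd prime and A a p-subgroup of G such that every conjugacy class of G contains an element g for which A is subnormal in the subgroup generated by A and its conjugate by g. Then A is contained in O_p(G). (The hypothesis that p is odd is needed.) -/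
theorem result {G : Type*} [Group G] [Finite G]
    (hG : Group.IsSolvable G) (p : ℕ) [Fact p.Prime] (hp : p ≠ 2) (A : Subgroup G) (hA : IsPGroup p A)
    (h : ∀ c : G, ∃ g : G, IsConj c g ∧ (A.subgroupOf (A ⊔ MulAut.conj g • A)).IsSubnormal) :
    A ≤ Cfsg.pCore p G := by
  classical
  have h' : ∀ a ∈ A, ∀ c : G, ∃ g : G, IsConj c g ∧
      IsPGroup p ↥(Subgroup.zpowers a ⊔ Subgroup.zpowers (g * a * g⁻¹)) := by
    intro a ha c
    obtain ⟨g, hg, hsub⟩ := h c
    refine ⟨g, hg, ?_⟩
    set J := A ⊔ MulAut.conj g • A with hJ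
    have hAg : IsPGroup p ↥(MulAut.conj g • A : Subgroup G) :=
      hA.map (MulDistribMulAction.toMonoidEnd _ G (MulAut.conj g))
    have hAJ : IsPGroup p (A.subgroupOf J) :=
      hA.of_equiv (Subgroup.subgroupOfEquivOfLe le_sup_left).symm
    have hle : A.subgroupOf J ≤ Cfsg.pCore p J := H32.isPGroup_le_pCore_of_subnormal hsub hAJ
    haveI : (Cfsg.pCore p J).Normal := H1.pCore_normal' p J
    have hJp : IsPGroup p J := by
      have h1 : IsPGroup p ↥(Cfsg.pCore p J ⊔ (MulAut.conj g • A).subgroupOf J) :=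
        (H1.isPGroup_pCore p J).to_sup_of_normal_left
          (hAg.of_equiv (Subgroup.subgroupOfEquivOfLe le_sup_right).symm)
      have h2 : Cfsg.pCore p J ⊔ (MulAut.conj g • A).subgroupOf J = ⊤ := by
        rw [eq_top_iff, ← Subgroup.subgroupOf_self J]
        show (A ⊔ MulAut.conj g • A).subgroupOf J ≤ _
        rw [Subgroup.subgroupOf_sup le_sup_left le_sup_right]
        exact sup_le_sup hle le_rfl
      rw [h2] at h1
      exact h1.of_equiv Subgroup.topEquiv
    refine hJp.to_le (sup_le (Subgroup.zpowers_le.2 (le_sup_left (α := Subgroup G) ha))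
      (Subgroup.zpowers_le.2 (le_sup_right (α := Subgroup G) ?_)))
    exact Subgroup.mem_smul_pointwise_iff_exists _ _ _ |>.2 ⟨a, ha, rfl⟩
  intro a ha
  obtain ⟨k, hk⟩ := hA ⟨a, ha⟩
  exact aux p hp (Nat.card G) G hG a ⟨k, congrArg Subtype.val hk⟩ rfl (h' a ha)

end Cfsg.Agent.S4330
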