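import Cfsg.Statements.S4332
import Cfsg.Agent.H36.ThreeCycleFusion

set_option autoImplicit false
open Pointwise
open Cfsg

namespace Cfsg.Agent.S4332

/-- In the symmetric group of degree 8, let A be the subgroup generated by a 3-cycle. Then every conjugacy class contains an element g for which A is subnormal in the subgroup generated by A and its conjugate by g, although O_3 of the symmetric group of degree 8 is trivial. -/
theorem result
    (σ : Equiv.Perm (Fin 8)) (hσ : σ.IsThreeCycle) :
    (∀ c : Equiv.Perm (Fin 8), ∃ g : Equiv.Perm (Fin 8), IsConj c g ∧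
      ((Subgroup.zpowers σ).subgroupOf (Subgroup.zpowers σ ⊔ MulAut.conj g • Subgroup.zpowers σ)).IsSubnormal) ∧
    Cfsg.pCore 3 (Equiv.Perm (Fin 8)) = ⊥ := by
  constructor
  · intro c
    obtain ⟨τ, hτ, hcomm⟩ := H36.exists_threeCycle_comm c
    obtain ⟨π, hπ⟩ := isConj_iff.mp
      (Equiv.Perm.isConj_iff_cycleType_eq.mpr (hτ.cycleType.trans hσ.cycleType.symm))
    refine ⟨π * c * π⁻¹, isConj_iff.mpr ⟨π, rfl⟩, ?_⟩
    have hs : Commute σ ((π * c * π⁻¹) * σ * (π * c * π⁻¹)⁻¹) := by
      rw [← hπ]
      have := hcomm.map (MulAut.conj π)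
      simpa [mul_assoc] using this
    have hle : MulAut.conj (π * c * π⁻¹) • Subgroup.zpowers σ =
        Subgroup.zpowers ((π * c * π⁻¹) * σ * (π * c * π⁻¹)⁻¹) := by
      exact MonoidHom.map_zpowers (MulAut.conj (π * c * π⁻¹)).toMonoidHom σ
    rw [hle]
    refine Subgroup.Normal.isSubnormal ((Subgroup.normal_subgroupOf_iff_le_normalizer le_sup_left).mpr ?_)
    refine sup_le Subgroup.le_normalizer ?_
    refine le_trans ?_ (Subgroup.centralizer_le_normalizer _)
    rw [Subgroup.zpowers_le, Subgroup.mem_centralizer_iff]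
    rintro _ ⟨i, rfl⟩
    exact (hs.zpow_left i).eq
  · have hn := H1.pCore_normal' 3 (Equiv.Perm (Fin 8))
    have hp := H1.isPGroup_pCore 3 (Equiv.Perm (Fin 8))
    have : Fact (Nat.Prime 3) := ⟨by norm_num⟩
    set N := Cfsg.pCore 3 (Equiv.Perm (Fin 8))
    have hle : N ≤ alternatingGroup (Fin 8) := by
      intro x hx
      obtain ⟨k, hk⟩ := IsPGroup.iff_orderOf.mp hp ⟨x, hx⟩
      rw [Subgroup.orderOf_mk] at hk
      rw [Equiv.Perm.mem_alternatingGroup]
      rcases Int.units_eq_one_or (Equiv.Perm.sign x) with h | h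
      · exact h
      · exfalso
        have h2 : orderOf (Equiv.Perm.sign x) ∣ 3 ^ k := hk ▸ orderOf_map_dvd _ x
        rw [h, show orderOf (-1 : ℤˣ) = 2 from orderOf_eq_prime (by decide) (by decide)] at h2
        exact absurd (Nat.Prime.dvd_of_dvd_pow Nat.prime_two h2) (by norm_num)
    have hsimple : IsSimpleGroup (alternatingGroup (Fin 8)) :=
      alternatingGroup.isSimpleGroup (by simp)
    rcases hsimple.eq_bot_or_eq_top_of_normal (N.subgroupOf (alternatingGroup (Fin 8)))
      inferInstance with h | h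
    · exact le_bot_iff.mp fun x hx => by
        have : (⟨x, hle hx⟩ : alternatingGroup (Fin 8)) ∈ N.subgroupOf _ := hx
        rw [h, Subgroup.mem_bot] at this
        exact Subgroup.mem_bot.mpr (congrArg Subtype.val this)
    · exfalso
      have h2 : IsPGroup 3 (alternatingGroup (Fin 8)) :=
        hp.to_le (Subgroup.subgroupOf_eq_top.mp h)
      obtain ⟨k, hk⟩ := IsPGroup.iff_card.mp h2
      rw [nat_card_alternatingGroup, Nat.card_eq_fintype_card, Fintype.card_fin] at hk
      have h3 : 2 ∣ 3 ^ k := hk ▸ (by decide : 2 ∣ Nat.factorial 8 / 2)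
      exact absurd (Nat.Prime.dvd_of_dvd_pow Nat.prime_two h3) (by norm_num)

end Cfsg.Agent.S4332
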