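import Cfsg.Statements.S4334
import Cfsg.Agent.H4.NilpotentHall
import Cfsg.Agent.H1.SchurZassenhausConj
import Cfsg.Agent.H5.PResidual

set_option autoImplicit false
open Cfsg
open scoped Pointwise

namespace Cfsg.Agent.S4334

/-- Let σ and τ be disjoint sets of primes with union π. Suppose a finite group G has a Hall π-subgroup H which is the direct product of a nilpotent σ-subgroup and a τ-subgroup (two elementwise-commuting subgroups generating H), and that the maximal τ-subgroups of G are pairwise conjugate. Then the maximal π-subgroups of G are pairwise conjugate. -/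
theorem result {G : Type*} [Group G] [Finite G]
    (σ τ π : Set ℕ) (hπ : π = σ ∪ τ) (hd : Disjoint σ τ) (H Hs Ht : Subgroup G) (hH : Cfsg.IsPiHall π H)
    (hs : Cfsg.IsPiSubgroup σ Hs) (ht : Cfsg.IsPiSubgroup τ Ht) (hsn : Group.IsNilpotent Hs)
    (hjoin : Hs ⊔ Ht = H) (hcomm : ∀ a ∈ Hs, ∀ b ∈ Ht, a * b = b * a) (hD : Cfsg.IsDPiGroup τ G) :
    Cfsg.IsDPiGroup π G := by
  classical
  subst hπ
  have hd' : ∀ {q : ℕ}, q ∈ σ → q ∈ τ → False := fun h1 h2 => Set.disjoint_left.1 hd h1 h2
  have hdisj : Disjoint Hs Ht := Subgroup.disjoint_of_coprime_natCard (Nat.coprime_of_dvd fun q hq h1 h2 =>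
    hd' (hs q hq h1) (ht q hq h2))
  have hst : Hs ≤ Subgroup.centralizer (Ht : Set G) := fun a ha =>
    Subgroup.mem_centralizer_iff.2 fun b hb => (hcomm a ha b hb).symm
  have hcard : Nat.card H = Nat.card Hs * Nat.card Ht := by
    rw [← hjoin, sup_comm, H1.card_sup_of_coprime (hst.trans (Subgroup.centralizer_le_normalizer _))
      (Nat.coprime_of_dvd fun q hq h1 h2 => hd' (hs q hq h2) (ht q hq h1)), mul_comm]
  have hindex : ∀ X : Subgroup G, ∀ n, Nat.card H = Nat.card X * n → X.index = n * H.index := by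
    intro X n hX
    refine Nat.eq_of_mul_eq_mul_left (Nat.card_pos (α := X)) ?_
    rw [Subgroup.card_mul_index, ← Subgroup.card_mul_index H, hX, mul_assoc]
  have hHsHall : (Nat.card Hs).Coprime Hs.index := Nat.coprime_of_dvd fun q hq h1 h2 => by
    rw [hindex Hs _ hcard] at h2
    rcases hq.dvd_mul.1 h2 with h3 | h3
    · exact hd' (hs q hq h1) (ht q hq h3)
    · exact hH.2 q hq (Or.inl (hs q hq h1)) h3
  have hHtHall : ∀ q : ℕ, q.Prime → q ∈ τ → ¬ q ∣ Ht.index := fun q hq hqt h2 => by
    rw [hindex Ht _ (hcard.trans (mul_comm _ _))] at h2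
    rcases hq.dvd_mul.1 h2 with h3 | h3
    · exact hd' (hs q hq h3) hqt
    · exact hH.2 q hq (Or.inr hqt) h3
  have hprimesH : ∀ q : ℕ, q.Prime → q ∈ σ → q ∣ Nat.card G → q ∣ Nat.card Hs := fun q hq hqs hqG => by
    rw [← Hs.card_mul_index, hindex Hs _ hcard] at hqG
    rcases hq.dvd_mul.1 hqG with h3 | h3
    · exact h3
    · rcases hq.dvd_mul.1 h3 with h4 | h4
      · exact (hd' hqs (ht q hq h4)).elim
      · exact absurd h4 (hH.2 q hq (Or.inl hqs))
  -- τ-subgroups go into a conjugate of `Ht`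
  have htau : ∀ Q : Subgroup G, Cfsg.IsPiSubgroup τ Q → ∃ x : G, Q ≤ MulAut.conj x • Ht := by
    intro Q hQ
    obtain ⟨X, hQX, hX⟩ := (Set.toFinite {X : Subgroup G | Cfsg.IsPiSubgroup τ X}).exists_le_maximal hQ
    obtain ⟨Y, hY0, hY⟩ := (Set.toFinite {X : Subgroup G | Cfsg.IsPiSubgroup τ X}).exists_le_maximal ht
    have hYeq : Y = Ht := by
      refine (Subgroup.eq_of_le_of_card_ge hY0 (Nat.le_of_dvd Nat.card_pos ?_)).symm
      have hcop : (Nat.card Y).Coprime Ht.index := Nat.coprime_of_dvd fun q hq h1 h2 =>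
        hHtHall q hq (hY.prop q hq h1) h2
      exact hcop.dvd_of_dvd_mul_right (Ht.card_mul_index.symm ▸ Subgroup.card_subgroup_dvd_card Y)
    obtain ⟨g, hg⟩ := hD Ht X (hYeq ▸ hY) hX
    exact ⟨g, hQX.trans hg.le⟩
  -- every π-subgroup is conjugate into `H`
  have main : ∀ K : Subgroup G, Cfsg.IsPiSubgroup (σ ∪ τ) K → ∃ x : G, K ≤ MulAut.conj x • H := by
    intro K hK
    -- normal p-complements for p in σ
    have hnpc : ∀ (p : ℕ) [Fact p.Prime], p ∈ σ → Cfsg.HasNormalPComplement p K := by
      intro p hp hps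
      refine H5.hasNormalPComplement_of_frobenius (Classical.arbitrary (Sylow p K)) fun Q hQ g hg hgc => ?_
      have hQp : IsPGroup p (Q.map K.subtype) := ((Classical.arbitrary (Sylow p K)).2.to_le hQ).map _
      by_cases hQ1 : Q = ⊥
      · subst hQ1
        rw [Subgroup.mem_centralizer_iff]
        intro h hh
        rw [Subgroup.mem_bot.1 hh, one_mul, mul_one]
      have hpG : p ∣ Nat.card G := by
        obtain ⟨k, hk⟩ := IsPGroup.iff_card.1 hQp
        refine dvd_trans ?_ (Subgroup.card_subgroup_dvd_card (Q.map K.subtype))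
        rw [hk]
        refine dvd_pow_self p fun h0 => hQ1 ?_
        rw [h0, pow_zero] at hk
        exact (Subgroup.map_eq_bot_iff_of_injective _ K.subtype_injective).1 (Subgroup.eq_bot_of_card_eq _ hk)
      obtain ⟨x, hx⟩ := H4.exists_conj_ge_pGroup hHsHall (hprimesH p hp.out hps hpG) hQp
      set Q' := Q.map K.subtype with hQ'
      set C := Subgroup.centralizer (Q' : Set G)
      set N := Subgroup.normalizer (Q' : Set G)
      haveI : (C.subgroupOf N).Normal := H5.centralizer_subgroupOf_normalizer_normal Q'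
      have hgn : (g : G) ∈ N := Subgroup.le_normalizer_map K.subtype ⟨g, hg, rfl⟩
      set γ := QuotientGroup.mk' (C.subgroupOf N) ⟨g, hgn⟩
      suffices hone : γ = 1 by
        have h1 : (g : G) ∈ C :=
          Subgroup.mem_subgroupOf.mp ((QuotientGroup.eq_one_iff (⟨(g : G), hgn⟩ : ↥N)).mp hone)
        rw [Subgroup.mem_centralizer_iff] at h1 ⊢
        exact fun z hz => Subtype.ext (h1 (z : G) ⟨z, hz, rfl⟩)
      apply orderOf_eq_one_iff.mp
      refine Nat.eq_one_iff_not_exists_prime_dvd.mpr fun r hr hrd => ?_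
      haveI := Fact.mk hr
      have hrg : r ∣ orderOf g := by
        refine hrd.trans ((orderOf_map_dvd _ _).trans ?_)
        rw [Subgroup.orderOf_mk, Subgroup.orderOf_coe]
      have hrp : r ≠ p := fun h => hp.out.coprime_iff_not_dvd.mp hgc.symm (h ▸ hrg)
      have hrG : r ∣ Nat.card G := hrg.trans ((orderOf_dvd_natCard g).trans (Subgroup.card_subgroup_dvd_card K))
      -- a full Sylow r-subgroup centralises `Q'`
      obtain ⟨T, hT⟩ : ∃ T : Sylow r G, (T : Subgroup G) ≤ C := by
        rcases hK r hr (hrg.trans (orderOf_dvd_natCard g)) with hrs | hrt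
        · obtain ⟨T, hT⟩ := H4.exists_sylow_le_of_hall (H4.hall_conj_smul hHsHall x)
            ((H4.card_conj_smul Hs x).symm ▸ hprimesH r hr hrs hrG)
          refine ⟨T, fun t htT => ?_⟩
          show t ∈ Subgroup.centralizer (Q' : Set G)
          rw [Subgroup.mem_centralizer_iff]
          intro y hy
          obtain ⟨k, hk⟩ := H4.exists_orderOf_eq_pow T.2 htT
          refine H4.commute_of_mem_nilpotent (H4.isNilpotent_conj_smul hsn x) (hx hy) (hT htT)
            (H4.exists_orderOf_eq_pow hQp hy) ?_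
          rw [hk]
          exact fun h => hrp ((Nat.prime_dvd_prime_iff_eq hp.out hr).1 (hp.out.dvd_of_dvd_pow h)).symm
        · have hHtx : MulAut.conj x • Ht ≤ C := by
            intro b hb
            show b ∈ Subgroup.centralizer (Q' : Set G)
            rw [Subgroup.mem_centralizer_iff]
            intro y hy
            obtain ⟨b0, hb0, rfl⟩ := hb
            obtain ⟨a0, ha0, rfl⟩ := hx hy
            exact ((Commute.map (hcomm a0 ha0 b0 hb0) (MulAut.conj x).toMonoidHom)).eq
          obtain ⟨P0⟩ := (inferInstance : Nonempty (Sylow r ↥(MulAut.conj x • Ht)))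
          obtain ⟨T, hT⟩ := (P0.2.map (MulAut.conj x • Ht).subtype).exists_le_sylow
          refine ⟨T, le_trans ?_ ((Subgroup.map_subtype_le (P0 : Subgroup ↥(MulAut.conj x • Ht))).trans hHtx)⟩
          refine (Subgroup.eq_of_le_of_card_ge hT ?_).ge
          rw [Subgroup.card_map_of_injective (Subgroup.subtype_injective _), P0.card_eq_multiplicity,
            T.card_eq_multiplicity, H4.card_conj_smul, ← Ht.card_mul_index,
            Nat.factorization_mul Nat.card_pos.ne' Subgroup.index_ne_zero_of_finite, Finsupp.add_apply,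
            Nat.factorization_eq_zero_of_not_dvd (n := Ht.index) (hHtHall r hr hrt), add_zero]
      refine T.not_dvd_index (dvd_trans ?_ (Subgroup.index_dvd_of_le hT))
      refine dvd_trans ?_ (Subgroup.relIndex_dvd_index_of_le (Subgroup.centralizer_le_normalizer _))
      exact hrd.trans ((orderOf_dvd_natCard γ).trans (by rw [Subgroup.relIndex, Subgroup.index_eq_card]))
    -- the normal τ-part of `K`
    let Sτ : Set K := {k | ∀ q : ℕ, q.Prime → q ∣ orderOf k → q ∈ τ}
    set T0 := Subgroup.normalClosure Sτ with hT0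
    have hT0τ : ∀ q : ℕ, q.Prime → q ∣ Nat.card T0 → q ∈ τ := by
      intro q hq hqd
      haveI := Fact.mk hq
      rcases hK q hq (hqd.trans (Subgroup.card_subgroup_dvd_card T0)) with hqs | hqt
      swap
      · exact hqt
      exfalso
      refine H5.hasNormalPComplement_iff_not_dvd.1 (hnpc q hqs) (hqd.trans (Subgroup.card_dvd_of_le ?_))
      refine Subgroup.normalClosure_le_normal fun k hk => H5.mem_pResidual_of_coprime ?_
      exact (hq.coprime_iff_not_dvd.2 fun h => hd' hqs (hk q hq h)).symm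
    have hT0index : ∀ q : ℕ, q.Prime → q ∣ T0.index → q ∈ σ := by
      intro q hq hqd
      haveI := Fact.mk hq
      rcases hK q hq (hqd.trans (Subgroup.index_dvd_card T0)) with hqs | hqt
      · exact hqs
      exfalso
      obtain ⟨P⟩ := (inferInstance : Nonempty (Sylow q K))
      refine P.not_dvd_index (hqd.trans (Subgroup.index_dvd_of_le fun y hy => Subgroup.subset_normalClosure ?_))
      intro r hr hrd
      obtain ⟨k, hk⟩ := H4.exists_orderOf_eq_pow P.2 hy
      rw [hk] at hrd
      exact (Nat.prime_dvd_prime_iff_eq hr hq).1 (hr.dvd_of_dvd_pow hrd) ▸ hqt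
    obtain ⟨S, hS⟩ := Subgroup.exists_right_complement'_of_coprime (N := T0)
      (Nat.coprime_of_dvd fun q hq h1 h2 => hd' (hT0index q hq h2) (hT0τ q hq h1))
    set T1 := T0.map K.subtype with hT1
    set S1 := S.map K.subtype with hS1
    have hT1τ : Cfsg.IsPiSubgroup τ T1 := fun q hq hqd =>
      hT0τ q hq (by rwa [Subgroup.card_map_of_injective K.subtype_injective] at hqd)
    have hS1σ : ∀ q : ℕ, q.Prime → q ∣ Nat.card S1 → q ∈ σ := fun q hq hqd => by
      rw [Subgroup.card_map_of_injective K.subtype_injective, ← hS.symm.index_eq_card] at hqd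
      exact hT0index q hq hqd
    obtain ⟨x, hx⟩ := htau T1 hT1τ
    set C := Subgroup.centralizer (T1 : Set G) with hC
    set A := MulAut.conj x • Hs with hA
    have hAC : A ≤ C := by
      rintro _ ⟨a0, ha0, rfl⟩
      show _ ∈ Subgroup.centralizer (T1 : Set G)
      rw [Subgroup.mem_centralizer_iff]
      intro y hy
      obtain ⟨b0, hb0, rfl⟩ := hx hy
      exact ((Commute.map (hcomm a0 ha0 b0 hb0) (MulAut.conj x).toMonoidHom)).symm.eq
    have hSC : S1 ≤ C := by
      intro g hg
      have hgn : g ∈ Subgroup.normalizer (T1 : Set G) := by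
        obtain ⟨g', -, rfl⟩ := hg
        refine Subgroup.le_normalizer_map K.subtype ⟨g', ?_, rfl⟩
        rw [Subgroup.normalizer_eq_top]; trivial
      haveI : (C.subgroupOf (Subgroup.normalizer (T1 : Set G))).Normal :=
        H5.centralizer_subgroupOf_normalizer_normal T1
      set γ := QuotientGroup.mk' (C.subgroupOf (Subgroup.normalizer (T1 : Set G))) ⟨g, hgn⟩
      suffices hone : γ = 1 from Subgroup.mem_subgroupOf.mp ((QuotientGroup.eq_one_iff _).mp hone)
      apply orderOf_eq_one_iff.mp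
      refine Nat.eq_one_iff_not_exists_prime_dvd.mpr fun r hr hrd => ?_
      haveI := Fact.mk hr
      have hrS : r ∣ Nat.card S1 := by
        refine (hrd.trans ((orderOf_map_dvd _ _).trans ?_))
        rw [Subgroup.orderOf_mk]
        exact Subgroup.orderOf_mk g hg ▸ orderOf_dvd_natCard _
      obtain ⟨T, hT⟩ := H4.exists_sylow_le_of_hall (H4.hall_conj_smul hHsHall x)
        ((H4.card_conj_smul Hs x).symm ▸ hprimesH r hr (hS1σ r hr hrS) (hrS.trans (Subgroup.card_subgroup_dvd_card S1)))
      refine T.not_dvd_index (dvd_trans ?_ (Subgroup.index_dvd_of_le (hT.trans hAC)))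
      refine dvd_trans ?_ (Subgroup.relIndex_dvd_index_of_le (Subgroup.centralizer_le_normalizer _))
      exact hrd.trans ((orderOf_dvd_natCard γ).trans (by rw [Subgroup.relIndex, Subgroup.index_eq_card]))
    have hnA : Group.IsNilpotent (A.subgroupOf C) :=
      (Group.isNilpotent_congr (Subgroup.subgroupOfEquivOfLe hAC).symm).mp (H4.isNilpotent_conj_smul hsn x)
    have hcA : Nat.card (A.subgroupOf C) = Nat.card A := Nat.card_congr (Subgroup.subgroupOfEquivOfLe hAC).toEquiv
    have hcS : Nat.card (S1.subgroupOf C) = Nat.card S1 := Nat.card_congr (Subgroup.subgroupOfEquivOfLe hSC).toEquiv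
    obtain ⟨c, hc⟩ := H4.wielandt_aux _ (A.subgroupOf C) (S1.subgroupOf C) rfl hnA
      (by
        rw [hcA]
        exact (H4.hall_conj_smul hHsHall x).coprime_dvd_right (Subgroup.relIndex_dvd_index_of_le hAC))
      (fun q hq hqd => by
        rw [hcS] at hqd
        rw [hcA, H4.card_conj_smul]
        exact hprimesH q hq (hS1σ q hq hqd) (hqd.trans (Subgroup.card_subgroup_dvd_card S1)))
    refine ⟨(c : G) * x, ?_⟩
    rw [← H4.conj_smul_conj_smul, ← hjoin]
    intro z hz
    obtain ⟨⟨⟨a, ha⟩, ⟨b, hb⟩⟩, hab⟩ := (hS.existsUnique ⟨z, hz⟩).exists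
    rw [show z = (a : G) * b from (congrArg Subtype.val hab).symm]
    refine Subgroup.mul_mem _ ?_ ?_
    · rw [H4.mem_conj_smul_iff]
      have h1 := Subgroup.mem_centralizer_iff.1 c.2 a ⟨a, ha, rfl⟩
      rw [mul_assoc, h1, inv_mul_cancel_left]
      exact Subgroup.pointwise_smul_le_pointwise_smul_iff.mpr le_sup_right (hx ⟨a, ha, rfl⟩)
    · have hbC : (b : G) ∈ C := hSC ⟨b, hb, rfl⟩
      have h1 := hc (show (⟨(b : G), hbC⟩ : C) ∈ S1.subgroupOf C from ⟨b, hb, rfl⟩)
      rw [H4.mem_conj_smul_iff, Subgroup.mem_subgroupOf] at h1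
      rw [H4.mem_conj_smul_iff]
      exact Subgroup.pointwise_smul_le_pointwise_smul_iff.mpr le_sup_left h1
  have hconj : ∀ X : Subgroup G, Maximal (Cfsg.IsPiSubgroup (σ ∪ τ)) X → ∃ x : G, X = MulAut.conj x • H := by
    intro X hX
    obtain ⟨x, hx⟩ := main X hX.prop
    refine ⟨x, le_antisymm hx (hX.le_of_ge (fun q hq hqd => hH.1 q hq ?_) hx)⟩
    rwa [H4.card_conj_smul] at hqd
  intro X Y hX hY
  obtain ⟨x, rfl⟩ := hconj X hX
  obtain ⟨y, rfl⟩ := hconj Y hY
  refine ⟨y * x⁻¹, ?_⟩
  show MulAut.conj y • H = MulAut.conj (y * x⁻¹) • MulAut.conj x • H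
  rw [← mul_smul, ← map_mul, inv_mul_cancel_right]

end Cfsg.Agent.S4334
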