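import Cfsg.Statements.S4337
import Cfsg.Agent.H34.Swaps

set_option autoImplicit false
open Cfsg

namespace Cfsg.Agent.S4337

/-- In a finite symmetric group, any three transpositions generate a solvable subgroup. -/
theorem result (n : ℕ) (a b c : Equiv.Perm (Fin n))
    (ha : a.IsSwap) (hb : b.IsSwap) (hc : c.IsSwap) :
    Group.IsSolvable (Subgroup.closure ({a, b, c} : Set (Equiv.Perm (Fin n)))) := by
  classical
  have hset : ({a, b, c} : Set (Equiv.Perm (Fin n))) = Set.range ![a, b, c] := by
    rw [Matrix.range_cons, Matrix.range_cons, Matrix.range_cons, Matrix.range_empty, Set.union_empty, Set.insert_eq, Set.insert_eq]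
  have ht : ∀ i, (![a, b, c] i).IsSwap := by intro i; fin_cases i <;> assumption
  rw [hset]
  choose T hxT hcard hst using H34.Swaps.exists_small_stable ![a, b, c] ht
  set K := Subgroup.closure (Set.range ![a, b, c])
  let f : K →* ∀ x : Fin n, Equiv.Perm ↥(T x) :=
    { toFun := fun g x => (g : Equiv.Perm (Fin n)).subtypePerm fun y => hst x g g.2 y
      map_one' := by funext x; ext y; rfl
      map_mul' := fun g g' => by funext x; ext y; rfl }
  have hf : Function.Injective f := by
    intro g g' h
    ext x
    have := congrArg Subtype.val (Equiv.congr_fun (congrFun h x) ⟨x, hxT x⟩)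
    exact congrArg Fin.val this
  haveI : ∀ x, Group.IsSolvable (Equiv.Perm ↥(T x)) := fun x =>
    H34.Swaps.isSolvable_perm_le_four (by rw [Nat.card_eq_fintype_card, Fintype.card_coe]; exact hcard x)
  haveI : Group.IsSolvable (∀ x : Fin n, Equiv.Perm ↥(T x)) := by
    choose d hd using fun x => (isSolvable_def _).1 (this x)
    rw [isSolvable_def]
    refine ⟨Finset.univ.sup d, ?_⟩
    rw [Subgroup.eq_bot_iff_forall]
    intro w hw
    funext x
    have h1 : w x ∈ derivedSeries (Equiv.Perm ↥(T x)) (Finset.univ.sup d) :=
      map_derivedSeries_le_derivedSeries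
        (Pi.evalMonoidHom (fun x : Fin n => Equiv.Perm ↥(T x)) x) _ ⟨w, hw, rfl⟩
    have h2 := derivedSeries_antitone _ (Finset.le_sup (f := d) (Finset.mem_univ x)) h1
    rw [hd x] at h2
    exact h2
  exact Group.isSolvable_of_isSolvable_injective hf

end Cfsg.Agent.S4337
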