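import Cfsg.Statements.S4342
import Cfsg.Agent.H28.SylowCenter

set_option autoImplicit false
open Cfsg

namespace Cfsg.Agent.S4342

/-- Let H be a normal subgroup of a finite group G and p a prime not dividing the index of H. Then the number of Sylow p-subgroups of H/Z(H) equals the number of Sylow p-subgroups of G. -/
theorem result {G : Type*} [Group G] [Finite G]
    (p : ℕ) [Fact p.Prime] (H : Subgroup G) [H.Normal] (hp : ¬ p ∣ H.index) :
    Nat.card (Sylow p (H ⧸ Subgroup.center H)) = Nat.card (Sylow p G) := by
  have hle : ∀ Q : Sylow p G, (Q : Subgroup G) ≤ H := by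
    intro Q
    haveI : (Q : Subgroup G).FiniteIndex := inferInstance
    have h1 : Nat.Coprime (Nat.card (Q : Subgroup G)) H.index := by
      rw [Q.card_eq_multiplicity]
      exact Nat.Coprime.pow_left _ ((Fact.out : p.Prime).coprime_iff_not_dvd.mpr hp)
    have h2 : H.relIndex (Q : Subgroup G) = 1 :=
      Nat.eq_one_of_dvd_coprimes h1 (Subgroup.relIndex_dvd_card _ _)
        (Subgroup.relIndex_dvd_index_of_normal _ _)
    exact Subgroup.relIndex_eq_one.mp h2
  have e : Nat.card (Sylow p G) = Nat.card (Sylow p H) := by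
    refine Nat.card_congr (Equiv.ofBijective (fun Q => Q.subtype (hle Q)) ⟨?_, ?_⟩)
    · intro Q R hQR
      have h1 := congrArg (fun S : Sylow p H => (S : Subgroup H).map H.subtype) hQR
      simp only [Sylow.coe_subtype, Subgroup.map_subgroupOf_eq_of_le (hle Q),
        Subgroup.map_subgroupOf_eq_of_le (hle R)] at h1
      exact Sylow.ext h1
    · intro R
      obtain ⟨Q, hQ⟩ := (R.isPGroup'.map H.subtype).exists_le_sylow
      refine ⟨Q, Sylow.ext (R.is_maximal' (Q.subtype (hle Q)).isPGroup' ?_)⟩
      rw [Sylow.coe_subtype]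
      exact Subgroup.map_le_iff_le_comap.mp hQ
  rw [e]
  exact H28.card_sylow_quotient_center (G := H) p

end Cfsg.Agent.S4342
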