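import Cfsg.Statements.S4344
import Mathlib

set_option autoImplicit false
open Cfsg

namespace Cfsg.Agent.S4344

/-- Let S be a finite non-abelian simple group, M a maximal subgroup of S and C a cyclic normal subgroup of M. If a Sylow p-subgroup P of S (for a prime p dividing the order of S) is contained in C, then the number of Sylow p-subgroups of S equals the index of M. -/
theorem result {S : Type*} [Group S] [Finite S]
    [IsSimpleGroup S] (hS : ¬ IsMulCommutative S) (p : ℕ) [Fact p.Prime] (hp : p ∣ Nat.card S)
    (M : Subgroup S) (hM : IsCoatom M) (C : Subgroup S) (hCM : C ≤ M) (hCn : (C.subgroupOf M).Normal)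
    (hC : IsCyclic C) (P : Sylow p S) (hP : (P : Subgroup S) ≤ C) :
    Nat.card (Sylow p S) = M.index := by
  have hPM : (P : Subgroup S) ≤ M := hP.trans hCM
  have hP1 : (P : Subgroup S) ≠ ⊥ := P.ne_bot_of_dvd_card hp
  haveI := hC
  have hMN : M ≤ Subgroup.normalizer ((P : Subgroup S) : Set S) := by
    intro m hm
    have hconj : ∀ c ∈ C, m * c * m⁻¹ ∈ C := fun c hc => hCn.conj_mem ⟨c, hCM hc⟩ hc ⟨m, hm⟩
    have hunique : (P : Subgroup S).map (MulAut.conj m).toMonoidHom = (P : Subgroup S) := by
      have hle : (P : Subgroup S).map (MulAut.conj m).toMonoidHom ≤ C := by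
        rintro _ ⟨x, hx, rfl⟩
        exact hconj x (hP hx)
      have hcomm : ∀ a ∈ C, ∀ b ∈ C, a * b = b * a := fun a ha b hb =>
        congrArg Subtype.val ((IsCyclic.isMulCommutative (α := C)).is_comm.comm ⟨a, ha⟩ ⟨b, hb⟩)
      have hnorm : (P : Subgroup S).map (MulAut.conj m).toMonoidHom ≤
          Subgroup.normalizer ((P : Subgroup S) : Set S) := by
        intro x hx
        rw [Subgroup.mem_normalizer_iff]
        intro y
        constructor
        · intro hy
          rw [hcomm x (hle hx) y (hP hy), mul_inv_cancel_right]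
          exact hy
        · intro hy
          have := hcomm x⁻¹ (C.inv_mem (hle hx)) _ (hP hy)
          have h2 : x⁻¹ * (x * y * x⁻¹) = y * x⁻¹ := by group
          rw [h2] at this
          have h3 : y = x * y * x⁻¹ := by
            calc y = (y * x⁻¹) * x := by group
              _ = x * y * x⁻¹ := by rw [this]; group
          rw [h3]; exact hy
      have hpg := IsPGroup.to_sup_of_normal_right' (P.isPGroup'.map (MulAut.conj m).toMonoidHom)
        P.isPGroup' hnorm
      have h1 := P.is_maximal' hpg le_sup_right
      exact Subgroup.eq_of_le_of_card_ge (le_sup_left.trans h1.le) (le_of_eq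
        (Subgroup.card_map_of_injective (MulEquiv.injective (MulAut.conj m))).symm)
    rwa [Subgroup.mem_normalizer_iff_map_conj_eq]
  have hne : Subgroup.normalizer ((P : Subgroup S) : Set S) ≠ ⊤ := by
    intro h
    haveI : (P : Subgroup S).Normal := Subgroup.normalizer_eq_top_iff.mp h
    rcases IsSimpleGroup.eq_bot_or_eq_top_of_normal (P : Subgroup S) inferInstance with h' | h'
    · exact hP1 h'
    · apply hS
      have hpg : IsPGroup p S := P.isPGroup'.of_equiv ((MulEquiv.subgroupCongr h').trans Subgroup.topEquiv)
      haveI := hpg.isNilpotent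
      exact ⟨⟨fun a b => (IsSimpleGroup.comm_iff_isSolvable.mpr inferInstance) a b⟩⟩
  rw [Sylow.card_eq_index_normalizer P, ← P.coe_coe,
    (hM.le_iff.mp hMN).resolve_left hne]

end Cfsg.Agent.S4344
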