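import Cfsg.Statements.S4347
import Mathlib.GroupTheory.Sylow

set_option autoImplicit false
open Cfsg

namespace Cfsg.Agent.S4347

/-- Let G be a finite group and p a prime. Say a Sylow p-subgroup Q is redundant when every element of p-power order lies in some Sylow p-subgroup other than Q. Then G has no redundant Sylow p-subgroup if and only if some element of p-power order lies in exactly one Sylow p-subgroup. -/
theorem result {G : Type*} [Group G] [Finite G]
    (p : ℕ) [Fact p.Prime] :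
    (¬ ∃ Q : Sylow p G, ∀ x : G, (∃ k : ℕ, orderOf x = p ^ k) → ∃ P : Sylow p G, P ≠ Q ∧ x ∈ P) ↔
      ∃ x : G, (∃ k : ℕ, orderOf x = p ^ k) ∧ ∃! P : Sylow p G, x ∈ P := by
  constructor
  · intro h
    by_contra hc
    apply h
    let Q : Sylow p G := Classical.arbitrary _
    refine ⟨Q, fun x hx => ?_⟩
    obtain ⟨k, hk⟩ := hx
    obtain ⟨P, hP⟩ := (IsPGroup.of_card (n := k)
      (by rw [Nat.card_zpowers, hk]) : IsPGroup p (Subgroup.zpowers x)).exists_le_sylow
    rcases eq_or_ne P Q with rfl | hne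
    · by_contra hall
      exact hc ⟨x, ⟨k, hk⟩, Q, hP (Subgroup.mem_zpowers x), fun R hR => by
        by_contra hne
        exact hall ⟨R, hne, hR⟩⟩
    · exact ⟨P, hne, hP (Subgroup.mem_zpowers x)⟩
  · rintro ⟨x, ⟨k, hk⟩, P, hxP, huniq⟩ ⟨Q, hQ⟩
    obtain ⟨g, hg⟩ := MulAction.exists_smul_eq G P Q
    have hord : orderOf (g * x * g⁻¹) = p ^ k :=
      hk ▸ orderOf_injective (MulAut.conj g).toMonoidHom (MulAut.conj g).injective x
    obtain ⟨R, hne, hR⟩ := hQ (g * x * g⁻¹) ⟨k, hord⟩
    refine hne ?_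
    have hx : x ∈ g⁻¹ • R := by
      show x ∈ ((g⁻¹ • R : Sylow p G) : Subgroup G)
      rw [Sylow.coe_subgroup_smul, Subgroup.mem_pointwise_smul_iff_inv_smul_mem]
      simpa using (show g * x * g⁻¹ ∈ (R : Subgroup G) from hR)
    rw [← hg, ← huniq _ hx, smul_inv_smul]

end Cfsg.Agent.S4347
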