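import Cfsg.Statements.S4348
import Cfsg.Agent.H1.Cores

set_option autoImplicit false
open Cfsg

namespace Cfsg.Agent.S4348

/-- Let G be a finite group, p a prime and P a Sylow p-subgroup of G, and let O_p(G) be the largest normal p-subgroup of G. If P/O_p(G) is cyclic, then some element of p-power order of G lies in exactly one Sylow p-subgroup. -/
theorem result {G : Type*} [Group G] [Finite G]
    (p : ℕ) [Fact p.Prime] (P : Sylow p G)
    [hn : ((Cfsg.pCore p G).subgroupOf (P : Subgroup G)).Normal]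
    (hc : IsCyclic ((P : Subgroup G) ⧸ (Cfsg.pCore p G).subgroupOf (P : Subgroup G))) :
    ∃ x : G, (∃ k : ℕ, orderOf x = p ^ k) ∧ ∃! Q : Sylow p G, x ∈ Q := by
  have hO := H1.pCore_le_sylow P
  obtain ⟨z, hz⟩ := hc.exists_generator
  obtain ⟨⟨x, hx⟩, rfl⟩ := QuotientGroup.mk_surjective z
  obtain ⟨k, hk⟩ := IsPGroup.iff_orderOf.mp P.isPGroup' ⟨x, hx⟩
  refine ⟨x, ⟨k, by rwa [Subgroup.orderOf_mk] at hk⟩, P, hx, fun Q hQ => ?_⟩
  have hle : (P : Subgroup G) ≤ (Q : Subgroup G) := by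
    intro y hy
    obtain ⟨i, hi⟩ := hz (QuotientGroup.mk ⟨y, hy⟩)
    simp only at hi
    rw [← QuotientGroup.mk_zpow, QuotientGroup.eq, Subgroup.mem_subgroupOf] at hi
    have h1 : (x ^ i)⁻¹ * y ∈ (Q : Subgroup G) := H1.pCore_le_sylow Q (by simpa using hi)
    have h2 := (Q : Subgroup G).mul_mem ((Q : Subgroup G).zpow_mem hQ i) h1
    rwa [mul_inv_cancel_left] at h2
  exact Sylow.ext (P.3 Q.2 hle)

end Cfsg.Agent.S4348
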