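import Cfsg.Statements.S4349
import Cfsg.Agent.H30.UniqueSylow

set_option autoImplicit false
open Cfsg

namespace Cfsg.Agent.S4349

/-- Let n ≥ 2 and let x be an element of 2-power order of the symmetric group of degree n. Then x lies in exactly one Sylow 2-subgroup if and only if x has at most two fixed points and the nontrivial cycles of x have pairwise different lengths. -/
theorem result (n : ℕ) (hn : 2 ≤ n)
    (x : Equiv.Perm (Fin n)) (hx : ∃ k : ℕ, orderOf x = 2 ^ k) :
    (∃! P : Sylow 2 (Equiv.Perm (Fin n)), x ∈ P) ↔ (n ≤ x.support.card + 2 ∧ x.cycleType.Nodup) := by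
  obtain ⟨k, hk⟩ := hx
  have h := H30.existsUnique_sylow_two_iff x (k := k) (hk ▸ pow_orderOf_eq_one x)
  rwa [Fintype.card_fin] at h

end Cfsg.Agent.S4349
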