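import Cfsg.Statements.S4354
import Cfsg.Agent.H27.SylowLift

set_option autoImplicit false
open Cfsg

namespace Cfsg.Agent.S4354

open Subgroup

/-- Let G be a finite group and p a prime such that the Sylow p-subgroups of G are non-abelian while every element of p-power order has conjugacy class size prime to p, and suppose no nontrivial proper normal subgroup N of G has this property and no quotient G/N by such an N has it. Then G is simple. -/
theorem result {G : Type*} [Group G] [Finite G]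
    (p : ℕ) [Fact p.Prime] (h : ((∃ P : Sylow p G, ¬ IsMulCommutative P) ∧ ∀ x : G, (∃ k : ℕ, orderOf x = p ^ k) → ¬ p ∣ (Subgroup.centralizer ({x} : Set G)).index))
    (hmin : ∀ (N : Subgroup G) [N.Normal], N ≠ ⊥ → N ≠ ⊤ →
      ¬ ((∃ P : Sylow p N, ¬ IsMulCommutative P) ∧ ∀ x : N, (∃ k : ℕ, orderOf x = p ^ k) → ¬ p ∣ (Subgroup.centralizer ({x} : Set N)).index) ∧
      ¬ ((∃ P : Sylow p (G ⧸ N), ¬ IsMulCommutative P) ∧ ∀ x : (G ⧸ N), (∃ k : ℕ, orderOf x = p ^ k) → ¬ p ∣ (Subgroup.centralizer ({x} : Set (G ⧸ N))).index)) :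
    IsSimpleGroup G := by
  obtain ⟨⟨P, hP⟩, hcl⟩ := h
  have hnt : Nontrivial G := by
    by_contra hn
    rw [not_nontrivial_iff_subsingleton] at hn
    exact hP ⟨⟨fun a b => Subsingleton.elim _ _⟩⟩
  refine ⟨fun N hN => ?_⟩
  by_contra hne
  rw [not_or] at hne
  obtain ⟨hbot, htop⟩ := hne
  obtain ⟨hA, hB⟩ := hmin N hbot htop
  -- the Sylow subgroups of `N` and of `G ⧸ N` are abelian
  have habN : ∀ Q : Sylow p N, IsMulCommutative Q := by
    intro Q
    by_contra hQ
    refine hA ⟨⟨Q, hQ⟩, fun x hx hd => hcl (x : G) ?_ (hd.trans (H27.index_cent_normal_dvd N x))⟩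
    obtain ⟨k, hk⟩ := hx
    exact ⟨k, by rw [Subgroup.orderOf_coe, hk]⟩
  have habQ : ∀ Q : Sylow p (G ⧸ N), IsMulCommutative Q := by
    intro Q
    by_contra hQ
    refine hB ⟨⟨Q, hQ⟩, fun a ha hd => ?_⟩
    obtain ⟨k, hk⟩ := ha
    obtain ⟨x, rfl, hx⟩ := H27.exists_lift_pElement N hk
    exact hcl x hx (hd.trans (H27.index_cent_quot_dvd N x))
  -- elements of `P ⊓ N` commute
  have hT : ∀ s ∈ (P : Subgroup G) ⊓ N, ∀ t ∈ (P : Subgroup G) ⊓ N, Commute s t := by
    intro s hs t ht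
    obtain ⟨Q, hQ⟩ := IsPGroup.exists_le_sylow
      (P.isPGroup'.comap_subtype (H := (P : Subgroup G)) (K := N))
    have := habN Q
    have hc := setLike_mul_comm (s := (Q : Subgroup N))
      (hQ (show (⟨s, hs.2⟩ : N) ∈ (P : Subgroup G).subgroupOf N from hs.1))
      (hQ (show (⟨t, ht.2⟩ : N) ∈ (P : Subgroup G).subgroupOf N from ht.1))
    exact congrArg Subtype.val hc
  -- every element of `P` is central times an element of `P ⊓ N`
  let Pb : Sylow p (G ⧸ N) := P.mapSurjective (QuotientGroup.mk'_surjective N)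
  have hPb : (Pb : Subgroup (G ⧸ N)) = (P : Subgroup G).map (QuotientGroup.mk' N) := rfl
  have := habQ Pb
  have key : ∀ x ∈ (P : Subgroup G), ∃ c ∈ centralizer ((P : Subgroup G) : Set G),
      c ∈ (P : Subgroup G) ∧ c⁻¹ * x ∈ N := by
    intro x hx
    have hxord : ∃ k : ℕ, orderOf x = p ^ k := by
      obtain ⟨k, hk⟩ := IsPGroup.iff_orderOf.mp P.isPGroup' ⟨x, hx⟩
      exact ⟨k, by rw [← hk, Subgroup.orderOf_mk]⟩
    obtain ⟨Q, hQ⟩ := H27.not_dvd_index_cent_iff.mp (hcl x hxord)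
    obtain ⟨g, rfl⟩ := MulAction.exists_smul_eq G P Q
    set c := g⁻¹ * x * g with hcdef
    have hc : c ∈ centralizer ((P : Subgroup G) : Set G) := by
      rw [mem_centralizer_iff]
      intro a ha
      have hga : g * a * g⁻¹ ∈ ((g • P : Sylow p G) : Subgroup G) := by
        rw [Sylow.coe_subgroup_smul]
        exact Subgroup.mem_map_of_mem (MulAut.conj g).toMonoidHom ha
      have := congrArg (fun t => g⁻¹ * t * g) (mem_centralizer_iff.mp hQ _ hga)
      simpa [hcdef, mul_assoc] using this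
    have hcord : ∃ k : ℕ, orderOf c = p ^ k := by
      obtain ⟨k, hk⟩ := hxord
      refine ⟨k, ?_⟩
      have : c = MulAut.conj g⁻¹ x := by simp [hcdef, mul_assoc]
      rw [this, MulEquiv.orderOf_eq, hk]
    have hcP := H27.mem_sylow_of_centralizes P hcord hc
    obtain ⟨a, ha, hconj⟩ := Pb.conj_eq_normalizer_conj_of_mem (x : G ⧸ N) (g : G ⧸ N)
      (show (x : G ⧸ N) ∈ (Pb : Subgroup (G ⧸ N)) from ⟨x, hx, rfl⟩)
      (show _ ∈ (Pb : Subgroup (G ⧸ N)) from ⟨c, hcP, by simp [hcdef]⟩)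
    obtain ⟨b, hb, n, hn, hbn⟩ := H27.exists_normalizer_lift N P (a := a⁻¹) (inv_mem ha)
    -- `n x n⁻¹` is congruent to `c`
    have hcong : ((n * x * n⁻¹ : G) : G ⧸ N) = (c : G ⧸ N) := by
      have hcb : (c : G ⧸ N) * b = b * (c : G ⧸ N) :=
        setLike_mul_comm (s := (Pb : Subgroup (G ⧸ N)))
          (show _ ∈ (Pb : Subgroup (G ⧸ N)) from ⟨c, hcP, rfl⟩) hb
      have hca : (c : G ⧸ N) = a⁻¹ * (x : G ⧸ N) * a := by
        rw [← hconj]; simp [hcdef]
      calc ((n * x * n⁻¹ : G) : G ⧸ N) = b * (a⁻¹ * (x : G ⧸ N) * a) * b⁻¹ := by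
            simp only [QuotientGroup.mk_mul, QuotientGroup.mk_inv, ← hbn]
            group
        _ = (c : G ⧸ N) := by rw [← hca, ← hcb]; group
    refine ⟨n⁻¹ * c * n, ?_, ?_, ?_⟩
    · rw [mem_centralizer_iff]
      intro z hz
      have hnz : n * z * n⁻¹ ∈ (P : Subgroup G) := (mem_normalizer_iff.mp hn z).mp hz
      have := congrArg (fun t => n⁻¹ * t * n) (mem_centralizer_iff.mp hc _ hnz)
      simpa [mul_assoc] using this
    · rw [← H27.conj_mem_iff_of_normalizer hn]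
      simpa [mul_assoc] using hcP
    · have h1 : c⁻¹ * (n * x * n⁻¹) ∈ N := QuotientGroup.eq.mp hcong.symm
      have h2 := (inferInstance : N.Normal).conj_mem _ h1 n⁻¹
      simpa [mul_assoc] using h2
  refine hP (.of_setLike_mul_comm fun x hx y hy => ?_)
  obtain ⟨c, hc, hcP, hcx⟩ := key x hx
  obtain ⟨d, hd, hdP, hdy⟩ := key y hy
  set s := c⁻¹ * x
  set t := d⁻¹ * y
  have hs : s ∈ (P : Subgroup G) ⊓ N := ⟨(P : Subgroup G).mul_mem ((P : Subgroup G).inv_mem hcP) hx, hcx⟩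
  have ht : t ∈ (P : Subgroup G) ⊓ N := ⟨(P : Subgroup G).mul_mem ((P : Subgroup G).inv_mem hdP) hy, hdy⟩
  have hxe : x = c * s := by simp [s]
  have hye : y = d * t := by simp [t]
  have cc : Commute c d := (mem_centralizer_iff.mp hc d hdP).symm
  have ct : Commute c t := (mem_centralizer_iff.mp hc t ht.1).symm
  have ds : Commute d s := (mem_centralizer_iff.mp hd s hs.1).symm
  rw [hxe, hye]
  exact ((cc.mul_right ct).mul_left (ds.symm.mul_right (hT s hs t ht))).eq

end Cfsg.Agent.S4354
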