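import Cfsg.Statements.S4355
import Cfsg.Agent.H3.TwoCentral

set_option autoImplicit false
open Cfsg

namespace Cfsg.Agent.S4355

/-- If every element of 2-power order of a finite group has a conjugacy class of odd size, then the Sylow 2-subgroups of the group are abelian. -/
theorem result {G : Type*} [Group G] [Finite G]
    (h : ∀ x : G, (∃ k : ℕ, orderOf x = 2 ^ k) → ¬ 2 ∣ (Subgroup.centralizer ({x} : Set G)).index) (P : Sylow 2 G) :
    IsMulCommutative P := by
  haveI : Fact (Nat.Prime 2) := ⟨Nat.prime_two⟩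
  refine H3.TwoCentral.isMulCommutative_of_hyp (fun x hx => ?_) P
  obtain ⟨k, hk⟩ := hx
  obtain ⟨i, -, hi⟩ := (Nat.dvd_prime_pow Nat.prime_two).1 (orderOf_dvd_of_pow_eq_one hk)
  obtain ⟨S⟩ := (inferInstance : Nonempty (Sylow 2 (Subgroup.centralizer ({x} : Set G))))
  set T := (S : Subgroup (Subgroup.centralizer ({x} : Set G))).map
    (Subgroup.centralizer ({x} : Set G)).subtype
  have hT : ¬ 2 ∣ T.index := by
    rw [Subgroup.index_map_subtype]
    exact Nat.Prime.not_dvd_mul Nat.prime_two S.not_dvd_index (h x ⟨i, hi⟩)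
  exact ⟨(S.isPGroup'.map _).toSylow hT, Subgroup.map_subtype_le _⟩

end Cfsg.Agent.S4355
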