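import Cfsg.Statements.S4356
import Cfsg.Agent.H41.PSL2ClassSize

set_option autoImplicit false
open Cfsg

namespace Cfsg.Agent.S4356

open H39
open scoped MatrixGroups

variable {F : Type*} [Field F] [Fintype F]

local notation "G2" => Matrix.ProjectiveSpecialLinearGroup (Fin 2) F

/-- An element of central type whose centraliser is abelian lies in only one Sylow subgroup. -/
theorem unique_of_abelian {G : Type*} [Group G] [Finite G] {r : ℕ} [Fact r.Prime] {Q P : Sylow r G}
    {x : G} (hxQ : ∀ y ∈ (Q : Subgroup G), Commute y x) (hxP : x ∈ (P : Subgroup G))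
    (hab : ∀ y z : G, Commute y x → Commute z x → Commute y z) : P = Q := by
  set C := Subgroup.centralizer ({x} : Set G) with hC
  have hQC : (Q : Subgroup G) ≤ C := fun y hy =>
    Subgroup.mem_centralizer_singleton_iff.mpr (hxQ y hy).eq
  have hQab : ∀ a ∈ (Q : Subgroup G), ∀ b ∈ (Q : Subgroup G), Commute a b := fun a ha b hb =>
    hab a b (hxQ a ha) (hxQ b hb)
  have hPab : ∀ a ∈ (P : Subgroup G), ∀ b ∈ (P : Subgroup G), Commute a b := by
    intro a ha b hb
    let e := P.equiv Q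
    have h := hQab _ (e ⟨a, ha⟩).2 _ (e ⟨b, hb⟩).2
    have h' : e ⟨a, ha⟩ * e ⟨b, hb⟩ = e ⟨b, hb⟩ * e ⟨a, ha⟩ := Subtype.ext h.eq
    rw [← map_mul, ← map_mul] at h'
    exact congrArg Subtype.val (e.injective h')
  have hPC : (P : Subgroup G) ≤ C := fun y hy =>
    Subgroup.mem_centralizer_singleton_iff.mpr (hPab y hy x hxP).eq
  haveI : ((P.subtype hPC : Sylow r C) : Subgroup C).Normal := ⟨fun a ha g => by
    have h : g * a = a * g := Subtype.ext (hab g a (Subgroup.mem_centralizer_singleton_iff.mp g.2)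
      (Subgroup.mem_centralizer_singleton_iff.mp a.2)).eq
    rw [h, mul_inv_cancel_right]; exact ha⟩
  haveI := Sylow.unique_of_normal (P.subtype hPC) inferInstance
  exact Sylow.subtype_injective (Subsingleton.elim (P.subtype hPC) (Q.subtype hQC))

theorem pow_two_iff {q : ℕ} (hq : Odd q) (hq1 : 1 < q) :
    (∃ j, evenHalf q = 2 ^ j) ↔ ((∃ k, q + 1 = 2 ^ k) ∨ (∃ k, q = 2 ^ k) ∨ ∃ k, q = 2 ^ k + 1) := by
  obtain ⟨m, hm⟩ := hq
  unfold evenHalf
  constructor
  · rintro ⟨j, hj⟩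
    split_ifs at hj with h
    · exact Or.inr (Or.inr ⟨j + 1, by rw [pow_succ]; omega⟩)
    · exact Or.inl ⟨j + 1, by rw [pow_succ]; omega⟩
  · have hpow : ∀ k, 2 ≤ k → ∃ i, k = i + 2 := fun k hk => ⟨k - 2, by omega⟩
    rintro (⟨k, hk⟩ | ⟨k, hk⟩ | ⟨k, hk⟩)
    · obtain ⟨i, rfl⟩ := hpow k (by
        by_contra h; interval_cases k <;> omega)
      refine ⟨i + 1, ?_⟩
      rw [pow_succ, pow_succ] at hk
      rw [pow_succ]
      split_ifs <;> omega
    · rcases k with _ | k
      · omega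
      · rw [pow_succ] at hk; omega
    · rcases Nat.lt_or_ge k 2 with h | h
      · interval_cases k
        · omega
        · exact ⟨1, by split_ifs <;> omega⟩
      · obtain ⟨i, rfl⟩ := hpow k h
        refine ⟨i + 1, ?_⟩
        rw [pow_succ, pow_succ] at hk
        rw [pow_succ]
        split_ifs <;> omega

variable (ℓ : ℕ) [Fact ℓ.Prime] [CharP F ℓ]

include ℓ in
/-- Centralisers of elements other than semisimple involutions are abelian. -/
theorem commute_of_centralized {x : G2} (hx1 : x ≠ 1) (hx : x ^ ℓ = 1 ∨ x ^ 2 ≠ 1) {y z : G2}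
    (hy : Commute y x) (hz : Commute z x) : Commute y z := by
  have hmem : ∀ u : G2, Commute u x → u ∈ tor x := by
    intro u hu
    by_cases hxl : x ^ ℓ = 1
    · exact mem_tor_of_commute ℓ hxl hu
    · rw [← H41.centralizer_ss ℓ hxl (hx.resolve_left hxl), Subgroup.mem_centralizer_singleton_iff]
      exact hu.eq
  exact tor_comm hx1 (hmem y hy) (hmem z hz)

theorem exists_central {r : ℕ} [Fact r.Prime] (Q : Sylow r G2) (hne : (Q : Subgroup G2) ≠ ⊥) :
    ∃ x ∈ (Q : Subgroup G2), orderOf x = r ∧ ∀ y ∈ (Q : Subgroup G2), Commute y x := by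
  haveI : Nontrivial (Q : Subgroup G2) := (Subgroup.nontrivial_iff_ne_bot _).mpr hne
  haveI := Q.isPGroup'.center_nontrivial
  obtain ⟨n, hn, hn'⟩ := (Q.isPGroup'.to_subgroup (Subgroup.center (Q : Subgroup G2))).nontrivial_iff_card.mp inferInstance
  obtain ⟨z, hz⟩ := exists_prime_orderOf_dvd_card' r (G := Subgroup.center (Q : Subgroup G2))
    (hn' ▸ dvd_pow_self r (by omega))
  refine ⟨((z : (Q : Subgroup G2)) : G2), (z : (Q : Subgroup G2)).2, by
    rw [Subgroup.orderOf_coe, Subgroup.orderOf_coe, hz], fun y hy => ?_⟩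
  exact congrArg Subtype.val (Subgroup.mem_center_iff.mp z.2 ⟨y, hy⟩)

section two

variable (hodd : Odd (Fintype.card F))

include ℓ hodd in
theorem sylow_card_eq {t : G2} (ht : orderOf t = 2) (Q : Sylow 2 G2)
    (S : Sylow 2 (Subgroup.centralizer ({t} : Set G2))) :
    Nat.card (Q : Subgroup G2) = Nat.card (S : Subgroup (Subgroup.centralizer ({t} : Set G2))) := by
  have hG : ∃ m, Odd m ∧ Nat.card G2 = m * (2 * evenHalf (Fintype.card F)) := by
    obtain ⟨k, hk⟩ := id hodd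
    have hG := card_G2_eq (F := F)
    rw [gcd_eq_two hodd] at hG
    unfold evenHalf
    have hkpos : 1 < Fintype.card F := Fintype.one_lt_card
    split_ifs with h
    · refine ⟨Fintype.card F * ((Fintype.card F + 1) / 2), Odd.mul hodd ?_, ?_⟩
      · rw [Nat.odd_iff]; omega
      · rw [hG, show 2 * ((Fintype.card F - 1) / 2) = Fintype.card F - 1 by omega]
        have e1 : Fintype.card F + 1 = 2 * ((Fintype.card F + 1) / 2) := by omega
        have e2 : Fintype.card F - 1 = 2 * ((Fintype.card F - 1) / 2) := by omega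
        conv_lhs => rw [e1]
        conv_rhs => rw [e2]
        ring
    · refine ⟨Fintype.card F * ((Fintype.card F - 1) / 2), Odd.mul hodd ?_, ?_⟩
      · rw [Nat.odd_iff]; omega
      · rw [hG, show 2 * ((Fintype.card F + 1) / 2) = Fintype.card F + 1 by omega]
  obtain ⟨m, hm, hG⟩ := hG
  have hC := card_centralizer_invol ℓ hodd ht
  have hne : 2 * evenHalf (Fintype.card F) ≠ 0 := by rw [← hC]; exact Nat.card_pos.ne'
  rw [Q.card_eq_multiplicity, S.card_eq_multiplicity, hC, hG,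
    Nat.factorization_mul (by obtain ⟨a, rfl⟩ := hm; omega) hne, Finsupp.add_apply,
    Nat.factorization_eq_zero_of_not_dvd (show ¬ 2 ∣ m by rw [Nat.odd_iff] at hm; omega), zero_add]

include ℓ hodd in
theorem exists_invol_mem {x : G2} (hx1 : x ≠ 1) (hx : ∃ k, orderOf x = 2 ^ k) :
    ∃ t, orderOf t = 2 ∧ x ∈ tor t ∧ t ∈ Subgroup.zpowers x := by
  obtain ⟨k, hk⟩ := hx
  obtain ⟨j, rfl⟩ : ∃ j, k = j + 1 := ⟨k - 1, by
    rcases k with _ | k
    · rw [pow_zero, orderOf_eq_one_iff] at hk; exact absurd hk hx1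
    · omega⟩
  set t := x ^ 2 ^ j with ht
  have hto : orderOf t = 2 := by
    rw [ht, orderOf_pow' _ (by positivity), hk, Nat.gcd_eq_right (pow_dvd_pow 2 (by omega)),
      Nat.pow_div (by omega) two_pos]
    simp
  have ht1 : t ≠ 1 := fun h => by rw [h, orderOf_one] at hto; norm_num at hto
  have htx : t ∈ tor x := pow_mem (self_mem_tor x) _
  exact ⟨t, hto, (tor_eq_of_mem hx1 htx ht1).symm ▸ self_mem_tor x, Subgroup.npow_mem_zpowers x _⟩

include ℓ hodd in
/-- If `(q - ε)/2` is not a power of `2`, each `2`-element lies in two Sylow subgroups. -/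
theorem exists_other (hh : ¬ ∃ j, evenHalf (Fintype.card F) = 2 ^ j) (Q : Sylow 2 G2) {x : G2}
    (hx : ∃ k, orderOf x = 2 ^ k) : ∃ P : Sylow 2 G2, P ≠ Q ∧ x ∈ (P : Subgroup G2) := by
  suffices key : ∀ x : G2, x ≠ 1 → (∃ k, orderOf x = 2 ^ k) → ∃ P : Sylow 2 G2, P ≠ Q ∧ x ∈ (P : Subgroup G2) by
    rcases eq_or_ne x 1 with rfl | hx1
    · obtain ⟨t, ht⟩ := exists_invol (F := F) hodd
      obtain ⟨P, hP, -⟩ := key t (fun h => by rw [h, orderOf_one] at ht; norm_num at ht) ⟨1, by simpa using ht⟩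
      exact ⟨P, hP, one_mem _⟩
    · exact key x hx1 hx
  intro x hx1 hx
  obtain ⟨t, ht, hxt, -⟩ := exists_invol_mem ℓ hodd hx1 hx
  have htl := invol_ss ℓ hodd ht
  set N := Subgroup.centralizer ({t} : Set G2) with hN
  have hNn : N = Subgroup.normalizer (tor t : Set G2) := centralizer_invol ℓ hodd ht
  have hTN : tor t ≤ N := hNn ▸ Subgroup.le_normalizer
  have hxN : x ∈ N := hTN hxt
  have ht1 : t ≠ 1 := fun h => by rw [h, orderOf_one] at ht; norm_num at ht
  have hact : ∀ g ∈ N, ∀ c ∈ tor t, g * c * g⁻¹ = c ∨ g * c * g⁻¹ = c⁻¹ := by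
    intro g hg c hc
    by_cases hgT : g ∈ tor t
    · exact Or.inl (by rw [(tor_comm ht1 hgT hc).eq, mul_inv_cancel_right])
    · exact Or.inr ((normalizer_outside ℓ htl (hNn ▸ hg) hgT).2.2 c hc)
  haveI hZn : (Subgroup.zpowers (⟨x, hxN⟩ : N)).Normal := ⟨fun a ha g => by
    obtain ⟨i, rfl⟩ := Subgroup.mem_zpowers_iff.mp ha
    rw [← conj_zpow]
    refine Subgroup.zpow_mem _ ?_ _
    rcases hact g g.2 x hxt with h | h
    · rw [show g * ⟨x, hxN⟩ * g⁻¹ = (⟨x, hxN⟩ : N) from Subtype.ext h]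
      exact Subgroup.mem_zpowers _
    · rw [show g * ⟨x, hxN⟩ * g⁻¹ = (⟨x, hxN⟩ : N)⁻¹ from Subtype.ext h]
      exact inv_mem (Subgroup.mem_zpowers _)⟩
  have hZp : IsPGroup 2 (Subgroup.zpowers (⟨x, hxN⟩ : N)) := by
    obtain ⟨k, hk⟩ := hx
    refine IsPGroup.of_card (n := k) ?_
    rw [Nat.card_zpowers, ← Subgroup.orderOf_coe, hk]
  obtain ⟨S⟩ : Nonempty (Sylow 2 N) := inferInstance
  have hnot : ¬ (S : Subgroup N).Normal := by
    intro hS
    apply hh
    -- the odd part of the torus is trivial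
    have hcardT := card_tor_invol ℓ hodd ht
    rw [← hcardT]
    by_contra hpow
    obtain ⟨q, hq, hqd, hq2⟩ : ∃ q, q.Prime ∧ q ∣ Nat.card (tor t) ∧ q ≠ 2 := by
      by_contra hcon
      push Not at hcon
      exact hpow ⟨_, Nat.eq_prime_pow_of_unique_prime_dvd Nat.card_pos.ne' fun {d} hd hdd => hcon d hd hdd⟩
    haveI := Fact.mk hq
    obtain ⟨u, hu⟩ := exists_prime_orderOf_dvd_card' q hqd
    obtain ⟨s, hs, hsT⟩ := exists_outside ℓ htl
    have hsN : s ∈ N := hNn ▸ hs
    obtain ⟨hs2, -, hinv⟩ := normalizer_outside ℓ htl hs hsT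
    obtain ⟨R, hR⟩ := (IsPGroup.of_card (p := 2) (n := 1) (G := Subgroup.zpowers (⟨s, hsN⟩ : N)) (by
      rw [Nat.card_zpowers, pow_one]
      exact orderOf_eq_prime (Subtype.ext hs2) (fun h => hsT (by
        rw [show s = 1 from congrArg Subtype.val h]; exact one_mem _)))).exists_le_sylow
    have hRS : R = S := by
      haveI := Sylow.unique_of_normal S hS
      exact Subsingleton.elim _ _
    have hsS : (⟨s, hsN⟩ : N) ∈ (S : Subgroup N) := hRS ▸ hR (Subgroup.mem_zpowers _)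
    have huN : (u : G2) ∈ N := hTN u.2
    have h2 : (⟨u, huN⟩ : N) * ⟨s, hsN⟩ * (⟨u, huN⟩ : N)⁻¹ * (⟨s, hsN⟩ : N)⁻¹ ∈ (S : Subgroup N) :=
      mul_mem (hS.conj_mem _ hsS _) (inv_mem hsS)
    have e : ((⟨u, huN⟩ : N) * ⟨s, hsN⟩ * (⟨u, huN⟩ : N)⁻¹ * (⟨s, hsN⟩ : N)⁻¹) = (⟨u, huN⟩ : N) ^ 2 := by
      apply Subtype.ext
      show (u : G2) * s * (u : G2)⁻¹ * s⁻¹ = (u : G2) ^ 2
      rw [show (u : G2) * s * (u : G2)⁻¹ * s⁻¹ = (u : G2) * (s * (u : G2)⁻¹ * s⁻¹) by group,
        hinv _ (inv_mem u.2), inv_inv, pow_two]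
    rw [e] at h2
    obtain ⟨k, hk⟩ := S.isPGroup' ⟨_, h2⟩
    have hk' : (u : G2) ^ (2 * 2 ^ k) = 1 := by
      rw [pow_mul]; exact congrArg (fun a : (S : Subgroup N) => ((a : N) : G2)) hk
    have hd := orderOf_dvd_of_pow_eq_one hk'
    rw [Subgroup.orderOf_coe, hu, ← pow_succ'] at hd
    exact hq2 ((Nat.prime_dvd_prime_iff_eq hq Nat.prime_two).mp (hq.dvd_of_dvd_pow hd))
  obtain ⟨g, hg⟩ : ∃ g : N, g • S ≠ S := by
    by_contra h
    push Not at h
    exact hnot (Subgroup.normalizer_eq_top_iff.mp (eq_top_iff.mpr fun g _ =>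
      Sylow.smul_eq_iff_mem_normalizer.mp (h g)))
  -- Sylow subgroups of `N` are Sylow subgroups of `G`
  have up : ∀ R : Sylow 2 N, ∃ P : Sylow 2 G2, (R : Subgroup N) = (P : Subgroup G2).subgroupOf N ∧
      (R : Subgroup N).map N.subtype = (P : Subgroup G2) := by
    intro R
    obtain ⟨P, hP⟩ := (R.isPGroup'.map N.subtype).exists_le_sylow
    have heq : (R : Subgroup N).map N.subtype = (P : Subgroup G2) := by
      refine Subgroup.eq_of_le_of_card_ge hP (le_of_eq ?_)
      rw [Subgroup.card_map_of_injective N.subtype_injective]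
      exact sylow_card_eq ℓ hodd ht P R
    refine ⟨P, ?_, heq⟩
    rw [← heq, Subgroup.subgroupOf, Subgroup.comap_map_eq_self_of_injective N.subtype_injective]
  obtain ⟨P1, hP1, hP1'⟩ := up S
  obtain ⟨P2, hP2, hP2'⟩ := up (g • S)
  have hne : P1 ≠ P2 := fun h => hg (Sylow.ext (by rw [hP1, hP2, h]))
  have hxmem : ∀ R : Sylow 2 N, (⟨x, hxN⟩ : N) ∈ (R : Subgroup N) := fun R =>
    hZp.le_sylow_of_normal R (Subgroup.mem_zpowers _)
  rcases eq_or_ne P1 Q with h | h
  · exact ⟨P2, fun e => hne (h.trans e.symm), hP2' ▸ ⟨_, hxmem (g • S), rfl⟩⟩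
  · exact ⟨P1, h, hP1' ▸ ⟨_, hxmem S, rfl⟩⟩

include ℓ hodd in
/-- If `(q - ε)/2` is a power of `2`, some element lies in one Sylow subgroup only. -/
theorem exists_unique_elt (hh : ∃ j, evenHalf (Fintype.card F) = 2 ^ j) (Q : Sylow 2 G2) :
    ∃ x : G2, (∃ k, orderOf x = 2 ^ k) ∧ ∀ P : Sylow 2 G2, x ∈ (P : Subgroup G2) → P = Q := by
  obtain ⟨t0, ht0⟩ := exists_invol (F := F) hodd
  have h2G : 2 ∣ Nat.card G2 := by
    have := orderOf_dvd_natCard t0
    rwa [ht0] at this
  have hne : (Q : Subgroup G2) ≠ ⊥ := Q.ne_bot_of_dvd_card h2G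
  obtain ⟨j, hj⟩ := hh
  -- every Sylow subgroup is the centraliser of its central involution
  have hcen : ∀ P : Sylow 2 G2, ∀ t ∈ (P : Subgroup G2), orderOf t = 2 → (∀ y ∈ (P : Subgroup G2), Commute y t) →
      (P : Subgroup G2) = Subgroup.centralizer ({t} : Set G2) := by
    intro P t _ ht hc
    have hCp : IsPGroup 2 (Subgroup.centralizer ({t} : Set G2)) :=
      IsPGroup.of_card (n := j + 1) (by rw [card_centralizer_invol ℓ hodd ht, hj, pow_succ']; )
    exact (P.is_maximal' hCp fun y hy => Subgroup.mem_centralizer_singleton_iff.mpr (hc y hy).eq).symm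
  obtain ⟨t, htQ, ht, htc⟩ := exists_central Q hne
  have hQC := hcen Q t htQ ht htc
  have ht1 : t ≠ 1 := fun h => by rw [h, orderOf_one] at ht; norm_num at ht
  have htl := invol_ss ℓ hodd ht
  haveI := tor_isCyclic ℓ htl
  obtain ⟨⟨x, hxT⟩, hxg⟩ := IsCyclic.exists_generator (α := tor t)
  have hxo : orderOf x = 2 ^ j := by
    rw [← hj, ← card_tor_invol ℓ hodd ht, ← orderOf_eq_card_of_forall_mem_zpowers hxg]
    exact Subgroup.orderOf_coe ⟨x, hxT⟩
  rcases Nat.lt_or_ge j 2 with hj2 | hj2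
  · -- Sylow subgroups of order four
    refine ⟨t, ⟨1, by simpa using ht⟩, fun P htP => ?_⟩
    have hj1 : 2 * evenHalf (Fintype.card F) ≤ 4 := by rw [hj]; interval_cases j <;> norm_num
    have hab : ∀ P : Sylow 2 G2, ∀ a ∈ (P : Subgroup G2), ∀ b ∈ (P : Subgroup G2), Commute a b := by
      intro P a ha b hb
      haveI : Fintype (P : Subgroup G2) := Fintype.ofFinite _
      obtain ⟨s, hsP, hs, hsc⟩ := exists_central P (P.ne_bot_of_dvd_card h2G)
      have hcard : Nat.card (P : Subgroup G2) ≤ 4 := by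
        rw [hcen P s hsP hs hsc, card_centralizer_invol ℓ hodd hs]; exact hj1
      have hc : IsMulCommutative (P : Subgroup G2) := by
        obtain ⟨k, hk⟩ := P.isPGroup'.exists_card_eq
        have hk2 : k ≤ 2 := by
          by_contra h
          have := Nat.pow_le_pow_right (show 0 < 2 by norm_num) (show 3 ≤ k by omega)
          omega
        interval_cases k
        · haveI := (Nat.card_eq_one_iff_unique.mp hk).1
          exact ⟨⟨fun a b => Subsingleton.elim _ _⟩⟩
        · haveI := isCyclic_of_prime_card (p := 2) (hk.trans (pow_one 2))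
          exact IsCyclic.commutative
        · exact IsPGroup.isMulCommutative_of_card_eq_prime_sq hk
      exact congrArg Subtype.val (hc.is_comm.comm ⟨a, ha⟩ ⟨b, hb⟩)
    apply Sylow.ext
    rw [hQC, hcen P t htP ht fun y hy => hab P y hy t htP]
  · refine ⟨x, ⟨j, hxo⟩, fun P hxP => ?_⟩
    have hx2 : x ^ 2 ≠ 1 := by
      intro h
      have := Nat.le_of_dvd two_pos (hxo ▸ orderOf_dvd_of_pow_eq_one h)
      have := Nat.pow_le_pow_right (show 0 < 2 by norm_num) hj2
      omega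
    have hx1 : x ≠ 1 := fun h => hx2 (by rw [h, one_pow])
    have hxl : x ^ ℓ ≠ 1 := fun h => htl (tor_pow_char ℓ hx1 h ((tor_eq_of_mem ht1 hxT hx1).symm ▸ self_mem_tor t))
    obtain ⟨s, hsP, hs, hsc⟩ := exists_central P (P.ne_bot_of_dvd_card h2G)
    have hsT : s ∈ tor x := by
      rw [← H41.centralizer_ss ℓ hxl hx2, Subgroup.mem_centralizer_singleton_iff]
      exact (hsc x hxP).symm.eq
    rw [tor_eq_of_mem ht1 hxT hx1] at hsT
    have hst : s = t := tor_invol_unique ℓ htl hsT (self_mem_tor t) hs ht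
    apply Sylow.ext
    rw [hQC, hcen P s hsP hs hsc, hst]

end two

/-- Let F be a finite field with q elements, p a prime and G = PSL(2, F). Say a Sylow p-subgroup Q of G is redundant when every element of p-power order lies in some Sylow p-subgroup other than Q. Then G has a redundant Sylow p-subgroup if and only if p = 2 and q is not of any of the forms 2ᵏ - 1, 2ᵏ, 2ᵏ + 1. -/
theorem result {F : Type*} [Field F] [Fintype F] (p : ℕ) [Fact p.Prime] :
    (∃ Q : Sylow p (Matrix.ProjectiveSpecialLinearGroup (Fin 2) F), ∀ x : Matrix.ProjectiveSpecialLinearGroup (Fin 2) F,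
        (∃ k : ℕ, orderOf x = p ^ k) → ∃ P : Sylow p (Matrix.ProjectiveSpecialLinearGroup (Fin 2) F), P ≠ Q ∧ x ∈ P) ↔
      (p = 2 ∧ (¬ ∃ k : ℕ, Fintype.card F + 1 = 2 ^ k) ∧ (¬ ∃ k : ℕ, Fintype.card F = 2 ^ k) ∧
        ¬ ∃ k : ℕ, Fintype.card F = 2 ^ k + 1) := by
  classical
  obtain ⟨ℓ, hℓ'⟩ := CharP.exists F
  haveI := Fact.mk (CharP.char_is_prime F ℓ)
  have hodd : ℓ ≠ 2 → Odd (Fintype.card F) := by
    intro h
    obtain ⟨n, hp', hn⟩ := FiniteField.card F ℓ
    rw [hn]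
    exact (hp'.odd_of_ne_two h).pow
  -- no redundant Sylow subgroup for odd `p` or in characteristic two
  have generic : (p ≠ 2 ∨ ℓ = 2) → ¬ ∃ Q : Sylow p (Matrix.ProjectiveSpecialLinearGroup (Fin 2) F),
      ∀ x : Matrix.ProjectiveSpecialLinearGroup (Fin 2) F,
        (∃ k : ℕ, orderOf x = p ^ k) → ∃ P : Sylow p (Matrix.ProjectiveSpecialLinearGroup (Fin 2) F), P ≠ Q ∧ x ∈ P := by
    rintro hcase ⟨Q, hQ⟩
    by_cases hne : (Q : Subgroup (Matrix.ProjectiveSpecialLinearGroup (Fin 2) F)) = ⊥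
    · obtain ⟨P, hP, -⟩ := hQ 1 ⟨0, by simp⟩
      refine hP (Sylow.ext ?_)
      rw [hne, ← Subgroup.card_eq_one, Nat.card_congr (P.equiv Q).toEquiv, Subgroup.card_eq_one, hne]
    · obtain ⟨x, hxQ, hxo, hxc⟩ := exists_central Q hne
      obtain ⟨P, hP, hxP⟩ := hQ x ⟨1, by simpa using hxo⟩
      have hx1 : x ≠ 1 := fun h => by
        rw [h, orderOf_one] at hxo; exact (Fact.out : p.Prime).ne_one hxo.symm
      have hxx : x ^ ℓ = 1 ∨ x ^ 2 ≠ 1 := by
        rcases hcase with h | h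
        · refine Or.inr fun h2 => h ?_
          have := orderOf_dvd_of_pow_eq_one h2
          rw [hxo] at this
          exact (Nat.prime_dvd_prime_iff_eq Fact.out Nat.prime_two).mp this
        · by_cases h2 : x ^ 2 = 1
          · exact Or.inl (h ▸ h2)
          · exact Or.inr h2
      exact hP (unique_of_abelian hxc hxP fun y z hy hz => commute_of_centralized ℓ hx1 hxx hy hz)
  constructor
  · intro hred
    have hp2 : p = 2 := by_contra fun h => generic (Or.inl h) hred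
    have hl : ℓ ≠ 2 := fun h => generic (Or.inr h) hred
    subst hp2
    obtain ⟨Q, hQ⟩ := hred
    have hnp : ¬ ∃ j, evenHalf (Fintype.card F) = 2 ^ j := by
      intro hh
      obtain ⟨x, hx, huniq⟩ := exists_unique_elt ℓ (hodd hl) hh Q
      obtain ⟨P, hP, hxP⟩ := hQ x hx
      exact hP (huniq P hxP)
    rw [pow_two_iff (hodd hl) Fintype.one_lt_card] at hnp
    push Not at hnp
    exact ⟨rfl, by simpa using hnp.1, by simpa using hnp.2.1, by simpa using hnp.2.2⟩
  · rintro ⟨rfl, h1, h2, h3⟩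
    have hl : ℓ ≠ 2 := by
      rintro rfl
      obtain ⟨n, -, hn⟩ := FiniteField.card F 2
      exact h2 ⟨n, hn⟩
    obtain ⟨Q⟩ : Nonempty (Sylow 2 (Matrix.ProjectiveSpecialLinearGroup (Fin 2) F)) := inferInstance
    refine ⟨Q, fun x hx => exists_other ℓ (hodd hl) ?_ Q hx⟩
    rw [pow_two_iff (hodd hl) Fintype.one_lt_card]
    rintro (h | h | h) <;> contradiction

end Cfsg.Agent.S4356
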