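import Cfsg.Statements.S4358
import Cfsg.Agent.H36.MonomialSylow

set_option autoImplicit false
open Cfsg

namespace Cfsg.Agent.S4358

/-- Let p be an odd prime and F a finite field with q elements such that p divides q - 1 but p² does not. Then GL(p, F) has a Sylow p-subgroup Q such that every element of p-power order lies in some Sylow p-subgroup other than Q (a redundant Sylow p-subgroup). -/
theorem result {F : Type*} [Field F] [Fintype F] (p : ℕ) [Fact p.Prime]
    (hp : p ≠ 2) (h1 : p ∣ Fintype.card F - 1) (h2 : ¬ p ^ 2 ∣ Fintype.card F - 1) :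
    ∃ Q : Sylow p (Matrix.GeneralLinearGroup (Fin p) F), ∀ x : Matrix.GeneralLinearGroup (Fin p) F,
      (∃ k : ℕ, orderOf x = p ^ k) → ∃ P : Sylow p (Matrix.GeneralLinearGroup (Fin p) F), P ≠ Q ∧ x ∈ P := by
  exact H36.gl_redundant_sylow p hp h1 h2

end Cfsg.Agent.S4358
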