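import Cfsg.Statements.S4359
import Cfsg.Agent.H73.ShiftBound

set_option autoImplicit false
open Pointwise
open Cfsg

namespace Cfsg.Agent.S4359

/-- Let P be a subgroup of a finite group G and g an element such that P ∩ g⁻¹Pg is a normal subgroup of prime index p in g⁻¹Pg. Let n ≥ 1 and let K be the subgroup generated by P and its conjugates g⁻ⁱPgⁱ for i ≤ n. Suppose that g normalizes no non-identity normal subgroup of P and that P meets the center of K trivially. Then the order of P is pᵗ for some t with 1 ≤ t ≤ 3n and t ≠ 3n - 1. -/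
theorem result {G : Type*} [Group G] [Finite G]
    (P : Subgroup G) (g : G) (p : ℕ) (hp : p.Prime)
    (hN : ((P ⊓ MulAut.conj g⁻¹ • P).subgroupOf (MulAut.conj g⁻¹ • P)).Normal)
    (hidx : (P ⊓ MulAut.conj g⁻¹ • P).relIndex (MulAut.conj g⁻¹ • P) = p)
    (n : ℕ) (hn : 1 ≤ n) (K : Subgroup G) (hK : K = ⨆ i ∈ Finset.range (n + 1), MulAut.conj (g ^ i)⁻¹ • P)
    (h1 : ∀ Q : Subgroup G, Q ≤ P → (Q.subgroupOf P).Normal → MulAut.conj g • Q = Q → Q = ⊥)
    (h2 : P ⊓ (Subgroup.center K).map K.subtype = ⊥) :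
    ∃ t : ℕ, Nat.card P = p ^ t ∧ 1 ≤ t ∧ t ≤ 3 * n ∧ t ≠ 3 * n - 1 := by
  haveI : Fact p.Prime := ⟨hp⟩
  set c : MulAut G := MulAut.conj g⁻¹ with hc
  have hsmul : ∀ (a : G) (H : Subgroup G), MulAut.conj a • H = H.map (MulAut.conj a).toMonoidHom :=
    fun a H => rfl
  have hc1 : H73.Shift.cz c 1 P = MulAut.conj g⁻¹ • P := by
    rw [H73.Shift.cz, zpow_one, hsmul]
  have d : H73.Shift.Data c P p := by
    refine ⟨fun h hh z hz => ?_, by rw [hc1]; exact hidx, fun Q hQP hQn hQc => h1 Q hQP hQn ?_⟩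
    · rw [hc1] at hh hz ⊢
      have := hN.conj_mem ⟨z, hz.2⟩ (Subgroup.mem_subgroupOf.2 hz) ⟨h, hh⟩
      exact Subgroup.mem_subgroupOf.1 this
    · have := H73.Shift.cz_fixed hQc (-1)
      rwa [H73.Shift.cz, zpow_neg_one, hc, map_inv, inv_inv, ← hsmul] at this
  obtain ⟨t, y, ht, hcard, hg⟩ := H73.Shift.exists_gens d
  refine ⟨t, hcard, ht, hg.bound hn ht fun w hw hcomm => ?_⟩
  have hci : ∀ i : ℕ, H73.Shift.cz c i P = MulAut.conj (g ^ i)⁻¹ • P := fun i => by
    rw [H73.Shift.cz, hsmul, zpow_natCast, hc, ← map_pow, inv_pow]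
  have hKeq : K = ⨆ i ∈ Finset.range (n + 1), H73.Shift.cz c i P := by
    simp only [hK, hci]
  have hle : K ≤ Subgroup.centralizer {w} := by
    rw [hKeq]
    exact iSup₂_le fun i hi u hu => Subgroup.mem_centralizer_singleton_iff.2
      (hcomm i (by have := Finset.mem_range.1 hi; omega) u hu).symm
  have hwK : w ∈ K := by
    rw [hKeq]
    refine le_iSup₂ (f := fun i (_ : i ∈ Finset.range (n + 1)) => H73.Shift.cz c (i : ℕ) P) 0
      (Finset.mem_range.2 (by omega)) ?_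
    rw [Nat.cast_zero, H73.Shift.cz_zero]
    exact hw
  exact Subgroup.mem_bot.1 (h2 ▸ ⟨hw, ⟨w, hwK⟩, Subgroup.mem_center_iff.2 fun u =>
    Subtype.ext (Subgroup.mem_centralizer_singleton_iff.1 (hle u.2)), rfl⟩)

end Cfsg.Agent.S4359
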