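import Cfsg.Statements.S4363
import Cfsg.Agent.H1.Turull.Main

set_option autoImplicit false
open Cfsg

namespace Cfsg.Agent.S4363

/-- Let G be a finite solvable group and σ an automorphism of G of prime order r not dividing the order of G, with fixed-point subgroup C. Then the Fitting height of G exceeds that of C by at most 2: if C has a chain of normal subgroups 1 = C₀ ≤ ⋯ ≤ Cₙ = C with nilpotent factors, then G has such a chain of length n + 2. -/
theorem result {G : Type*} [Group G] [Finite G]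
    (hG : Group.IsSolvable G) (σ : MulAut G) (r : ℕ) (hr : r.Prime) (hσ : orderOf σ = r) (hcop : ¬ r ∣ Nat.card G)
    (C : Subgroup G) (hC : ∀ g : G, g ∈ C ↔ σ g = g) (n : ℕ) (hn : (∃ F : Fin (n + 1) → Subgroup ↥C, F 0 = ⊥ ∧ F (Fin.last n) = ⊤ ∧ Monotone F ∧ (∀ i, (F i).Normal) ∧ ∀ i : Fin n, ∃ k : ℕ, (F i.succ).lowerCentralSeries k ≤ F i.castSucc)) :
    (∃ F : Fin ((n + 2) + 1) → Subgroup G, F 0 = ⊥ ∧ F (Fin.last (n + 2)) = ⊤ ∧ Monotone F ∧ (∀ i, (F i).Normal) ∧ ∀ i : Fin (n + 2), ∃ k : ℕ, (F i.succ).lowerCentralSeries k ≤ F i.castSucc) := by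
  haveI := Fact.mk hr
  obtain ⟨F, hF0, hFn, -, -, hF⟩ := hn
  have hbot : H31.FitLen.res n C = ⊥ := by
    have h1 := H31.FitLen.map_res C.subtype (⊤ : Subgroup C) n
    rw [H31.FitLen.res_eq_bot_of_chain F hF0 hFn hF, Subgroup.map_bot, ← MonoidHom.range_eq_map,
      Subgroup.range_subtype] at h1
    exact h1.symm
  exact H31.FitLen.chain_of_res_eq_bot
    (H1.Turull.res_add_two_eq_bot hG σ (hσ ▸ pow_orderOf_eq_one σ) hcop C hC hbot)

end Cfsg.Agent.S4363
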