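import Cfsg.Statements.S4377
import Cfsg.Agent.H28.OrderType

set_option autoImplicit false
open Cfsg

namespace Cfsg.Agent.S4377

/-- Two finite groups have the same number of elements of each order if and only if, for every n, they have the same number of elements g with gⁿ = 1. -/
theorem result {G H : Type*} [Group G] [Finite G] [Group H] [Finite H] :
    (∀ n : ℕ, Nat.card {g : G // orderOf g = n} = Nat.card {h : H // orderOf h = n}) ↔
      ∀ n : ℕ, Nat.card {g : G // g ^ n = 1} = Nat.card {h : H // h ^ n = 1} := by
  constructor
  · intro hT n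
    obtain ⟨e, he⟩ := H28.exists_equiv_orderOf hT
    exact Nat.card_congr (e.subtypeEquiv fun g => by
      rw [← orderOf_dvd_iff_pow_eq_one, ← orderOf_dvd_iff_pow_eq_one, he])
  · intro hf n
    induction n using Nat.strong_induction_on with
    | _ n ih =>
    rcases Nat.eq_zero_or_pos n with rfl | hn
    · have h1 : IsEmpty {g : G // orderOf g = 0} :=
        ⟨fun g => (orderOf_pos g.1).ne' g.2⟩
      have h2 : IsEmpty {g : H // orderOf g = 0} :=
        ⟨fun g => (orderOf_pos g.1).ne' g.2⟩
      rw [Nat.card_of_isEmpty, Nat.card_of_isEmpty]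
    · have key := hf n
      rw [H28.card_pow_eq_one_eq_sum G hn.ne', H28.card_pow_eq_one_eq_sum H hn.ne',
        ← Nat.cons_self_properDivisors hn.ne', Finset.sum_cons, Finset.sum_cons,
        Finset.sum_congr rfl (fun d hd => ih d (Nat.mem_properDivisors.mp hd).2)] at key
      omega

end Cfsg.Agent.S4377
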