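import Cfsg.Statements.S4378
import Cfsg.Agent.H34.PLengthTwo

set_option autoImplicit false
open Cfsg

namespace Cfsg.Agent.S4378

/-- Let G be a finite solvable group in which every maximal subgroup either has a normal 2-complement or has prime index. Then G has a chain of normal subgroups 1 ≤ A ≤ B ≤ C ≤ G in which A and C/B have odd order and B/A and G/C are 2-groups (so the 2-length of G is at most 2). -/
theorem result {G : Type*} [Group G] [Finite G]
    (hG : Group.IsSolvable G)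
    (hmax : ∀ M : Subgroup G, IsCoatom M → (∃ K : Subgroup ↥M, K.Normal ∧ ¬ 2 ∣ Nat.card K ∧ ∃ k : ℕ, K.index = 2 ^ k) ∨ (M.index).Prime) :
    ∃ A B C : Subgroup G, A.Normal ∧ B.Normal ∧ C.Normal ∧ A ≤ B ∧ B ≤ C ∧ Odd (Nat.card A) ∧
      (∃ k : ℕ, A.relIndex B = 2 ^ k) ∧ Odd (B.relIndex C) ∧ ∃ k : ℕ, C.index = 2 ^ k := by
  haveI := Fact.mk Nat.prime_two
  obtain ⟨A, B, C, D, hA, hB, hC, hD, -, a2, a3, a4, x1, x2, x3, x4, x5⟩ :=
    H34.PLenTwo.exists_chain (p := 2) (t := (∅ : Set ℕ)) (fun q hq h => absurd (Nat.dvd_one.1 h) hq.ne_one) _ G le_rfl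
      H10.isPSolvable_of_isSolvable hmax
  have hD1 : D.index = 1 := by
    by_contra h
    obtain ⟨q, hq, hd⟩ := Nat.exists_prime_and_dvd h
    exact (x5 q hq hd).elim
  refine ⟨A, B, C, hA, hB, hC, a2, a3, ?_, x2.exists_pow Subgroup.index_ne_zero_of_finite, ?_, ?_⟩
  · rw [← Nat.not_even_iff_odd, even_iff_two_dvd, ← Subgroup.relIndex_bot_left]
    exact x1.not_dvd Nat.prime_two
  · rw [← Nat.not_even_iff_odd, even_iff_two_dvd]
    exact x3.not_dvd Nat.prime_two
  · rw [← Subgroup.relIndex_mul_index a4, hD1, mul_one]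
    exact x4.exists_pow Subgroup.index_ne_zero_of_finite

end Cfsg.Agent.S4378
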