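import Cfsg.Statements.S4381
import Cfsg.Agent.H31.InvariantMax

set_option autoImplicit false
open Pointwise
open Cfsg

namespace Cfsg.Agent.S4381

/-- Let the finite group A act by automorphisms on the finite group G with the orders of A and G coprime, and assume that A or G is solvable. Call a proper A-invariant subgroup of G maximal A-invariant when no A-invariant subgroup lies strictly between it and G. Then all maximal A-invariant subgroups of G are conjugate under elements of the fixed-point subgroup C_G(A) if and only if G is a p-group for some prime p and A leaves invariant no subgroup strictly between the Frattini subgroup of G and G. In that case, if G is nontrivial, the Frattini subgroup is the only maximal A-invariant subgroup (a trivial G has none). -/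
theorem result {A G : Type*} [Group A] [Finite A]
    [Group G] [Finite G] [MulDistribMulAction A G] (hcop : (Nat.card A).Coprime (Nat.card G)) (hsol : Group.IsSolvable A ∨ Group.IsSolvable G) :
    ((∀ M N : Subgroup G, (M ≠ ⊤ ∧ (∀ a : A, ∀ x ∈ M, a • x ∈ M) ∧ ∀ L : Subgroup G, M < L → (∀ a : A, ∀ x ∈ L, a • x ∈ L) → L = ⊤) → (N ≠ ⊤ ∧ (∀ a : A, ∀ x ∈ N, a • x ∈ N) ∧ ∀ L : Subgroup G, N < L → (∀ a : A, ∀ x ∈ L, a • x ∈ L) → L = ⊤) →
        ∃ c : G, (∀ a : A, a • c = c) ∧ N = MulAut.conj c • M) ↔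
      ((∃ p : ℕ, p.Prime ∧ IsPGroup p G) ∧ ∀ L : Subgroup G, frattini G < L → (∀ a : A, ∀ x ∈ L, a • x ∈ L) → L = ⊤)) ∧
    (((∃ p : ℕ, p.Prime ∧ IsPGroup p G) ∧ ∀ L : Subgroup G, frattini G < L → (∀ a : A, ∀ x ∈ L, a • x ∈ L) → L = ⊤) →
      ∀ M : Subgroup G, (M ≠ ⊤ ∧ (∀ a : A, ∀ x ∈ M, a • x ∈ M) ∧ ∀ L : Subgroup G, M < L → (∀ a : A, ∀ x ∈ L, a • x ∈ L) → L = ⊤) ↔ (M = frattini G ∧ M ≠ ⊤)) := by
  have key : ((∃ p : ℕ, p.Prime ∧ IsPGroup p G) ∧ ∀ L : Subgroup G, frattini G < L → (∀ a : A, ∀ x ∈ L, a • x ∈ L) → L = ⊤) →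
      ∀ M : Subgroup G, (M ≠ ⊤ ∧ (∀ a : A, ∀ x ∈ M, a • x ∈ M) ∧ ∀ L : Subgroup G, M < L → (∀ a : A, ∀ x ∈ L, a • x ∈ L) → L = ⊤) ↔ (M = frattini G ∧ M ≠ ⊤) := by
    rintro ⟨-, hmin⟩ M
    have hΦi : ∀ a : A, ∀ x ∈ frattini G, a • x ∈ frattini G := fun a x hx =>
      (Subgroup.characteristic_iff_comap_eq.mp (inferInstance : (frattini G).Characteristic)
        (MulDistribMulAction.toMulEquiv G a)).ge hx
    constructor
    · rintro ⟨hne, hi, hmax⟩
      refine ⟨?_, hne⟩
      have hsi : ∀ a : A, ∀ x ∈ M ⊔ frattini G, a • x ∈ M ⊔ frattini G := by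
        intro a x hx
        obtain ⟨m, hm, f, hf, rfl⟩ := Subgroup.mem_sup_of_normal_right.mp hx
        rw [smul_mul']
        exact mul_mem (Subgroup.mem_sup_left (hi a m hm)) (Subgroup.mem_sup_right (hΦi a f hf))
      rcases (le_sup_left : M ≤ M ⊔ frattini G).eq_or_lt with h | h
      · have hle : frattini G ≤ M := h ▸ le_sup_right
        by_contra hne'
        exact hne (hmin M (lt_of_le_of_ne hle (Ne.symm hne')) hi)
      · exact absurd (frattini_nongenerating (hmax _ h hsi)) hne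
    · rintro ⟨rfl, hne⟩
      exact ⟨hne, hΦi, hmin⟩
  refine ⟨⟨fun h => H31.pgroup_of_invariant_maximals_conj hcop hsol h, fun h M N hM hN => ⟨1, fun a => smul_one a, ?_⟩⟩, key⟩
  rw [((key h M).mp hM).1, ((key h N).mp hN).1, map_one, one_smul]

end Cfsg.Agent.S4381
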