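import Cfsg.Statements.S4387
import Mathlib.GroupTheory.Nilpotent
import Mathlib.GroupTheory.Sylow
import Mathlib.Algebra.IsPrimePow
import Mathlib.Algebra.Group.Subgroup.Order

set_option autoImplicit false
open Pointwise
open Cfsg

namespace Cfsg.Agent.S4387

/-- Let G be a non-trivial finite group in which any two maximal subgroups are conjugate. Then G is cyclic of prime-power order. -/
theorem result {G : Type*} [Group G] [Finite G] [Nontrivial G]
    (h : ∀ M N : Subgroup G, IsCoatom M → IsCoatom N → ∃ g : G, N = MulAut.conj g • M) :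
    IsCyclic G ∧ IsPrimePow (Nat.card G) := by
  classical
  obtain ⟨M, hM⟩ : ∃ M : Subgroup G, IsCoatom M := by
    obtain ⟨M, hM, -⟩ := (eq_top_or_exists_le_coatom (⊥ : Subgroup G)).resolve_left bot_ne_top
    exact ⟨M, hM⟩
  have hidx : ∀ N : Subgroup G, IsCoatom N → N.index = M.index := by
    intro N hN
    obtain ⟨g, rfl⟩ := h M N hM hN
    exact Subgroup.index_map_equiv M (MulAut.conj g)
  have hne : M.index ≠ 1 := fun h1 => hM.1 (Subgroup.index_eq_one.mp h1)
  obtain ⟨p, hp, hpd⟩ := Nat.exists_prime_and_dvd hne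
  have := Fact.mk hp
  let P : Sylow p G := Classical.arbitrary _
  have hPtop : (P : Subgroup G) = ⊤ := by
    by_contra hP
    obtain ⟨N, hN, hle⟩ := (eq_top_or_exists_le_coatom (P : Subgroup G)).resolve_left hP
    exact P.not_dvd_index ((hidx N hN ▸ hpd).trans (Subgroup.index_dvd_of_le hle))
  have hG : IsPGroup p G := by
    have h1 := P.isPGroup'
    rw [hPtop] at h1
    exact h1.of_equiv Subgroup.topEquiv
  have := hG.isNilpotent
  have hMn : M.Normal :=
    Subgroup.NormalizerCondition.normal_of_coatom M Group.normalizerCondition_of_isNilpotent hM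
  have huniq : ∀ N : Subgroup G, IsCoatom N → N = M := by
    intro N hN
    obtain ⟨g, rfl⟩ := h M N hM hN
    exact Subgroup.Normal.conj_smul_eq_self g M
  obtain ⟨x, hx⟩ : ∃ x, x ∉ M := by
    by_contra hc
    push Not at hc
    exact hM.1 (eq_top_iff.mpr fun x _ => hc x)
  have hgen : Subgroup.zpowers x = ⊤ := by
    by_contra hne
    obtain ⟨N, hN, hle⟩ := (eq_top_or_exists_le_coatom _).resolve_left hne
    exact hx (huniq N hN ▸ hle (Subgroup.mem_zpowers x))
  refine ⟨⟨x, fun y => Subgroup.mem_zpowers_iff.mp (hgen ▸ Subgroup.mem_top y)⟩, ?_⟩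
  obtain ⟨n, hn⟩ := IsPGroup.iff_card.mp hG
  rw [hn]
  refine hp.isPrimePow.pow ?_
  rintro rfl
  rw [pow_zero] at hn
  exact (Finite.one_lt_card (α := G)).ne' hn

end Cfsg.Agent.S4387
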