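import Cfsg.Statements.S4394
import Cfsg.Agent.H34.SchmidtType
import Cfsg.Agent.H34.SchmidtPLength
import Cfsg.Agent.H82.PLength

set_option autoImplicit false
open Cfsg

namespace Cfsg.Agent.S4394

/-- Let X be a finite minimal non-nilpotent group (not nilpotent, every proper subgroup nilpotent) with a nontrivial normal Sylow p-subgroup P. If G is a finite p-solvable group whose Sylow p-subgroups are isomorphic to P, then G has p-length at most 1. -/
theorem result {G X : Type*} [Group G] [Finite G] [Group X] [Finite X] (p : ℕ) [Fact p.Prime]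
    (hX : Cfsg.IsMinimalNonNilpotent X) (P : Sylow p X) (hPn : (P : Subgroup X).Normal) (hP1 : (P : Subgroup X) ≠ ⊥)
    (hG : Cfsg.IsPSolvable p G) (Q : Sylow p G) (hQ : Nonempty (↥(Q : Subgroup G) ≃* ↥(P : Subgroup X))) : Cfsg.PLengthLE p 1 G := by
  classical
  have hp : p.Prime := Fact.out
  haveI hR : (Cfsg.pPrimeCore p G).Normal := H1.pPrimeCore_normal' p G
  set f := QuotientGroup.mk' (Cfsg.pPrimeCore p G) with hfdef
  have hfsurj : Function.Surjective f := QuotientGroup.mk'_surjective _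
  let P' : Sylow p (G ⧸ Cfsg.pPrimeCore p G) := Q.mapSurjective hfsurj
  have hP' : (P' : Subgroup (G ⧸ Cfsg.pPrimeCore p G)) = (Q : Subgroup G).map f := rfl
  have hinj : Function.Injective (f.subgroupMap (Q : Subgroup G)) := by
    rw [← MonoidHom.ker_eq_bot_iff, eq_bot_iff]
    intro x hx
    have hx' : (x : G) ∈ Cfsg.pPrimeCore p G :=
      (QuotientGroup.eq_one_iff (x : G)).1 (congrArg Subtype.val (MonoidHom.mem_ker.1 hx))
    obtain ⟨k, hk⟩ := Q.2 x
    have h1 : orderOf (x : G) ∣ p ^ k := orderOf_dvd_of_pow_eq_one (congrArg Subtype.val hk)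
    have h2 : orderOf (x : G) ∣ Nat.card (Cfsg.pPrimeCore p G) :=
      Subgroup.orderOf_mk _ hx' ▸ orderOf_dvd_natCard _
    exact Subgroup.mem_bot.2 (Subtype.ext (orderOf_eq_one_iff.1
      (Nat.eq_one_of_dvd_coprimes ((H1.card_pPrimeCore_coprime p G).symm.pow_left k) h1 h2)))
  let e : ↥(Q : Subgroup G) ≃* ↥(P' : Subgroup (G ⧸ Cfsg.pPrimeCore p G)) :=
    MulEquiv.ofBijective (f.subgroupMap (Q : Subgroup G)) ⟨hinj, f.subgroupMap_surjective _⟩
  have hsolv := H10.isPSolvable_quotient hG (Cfsg.pPrimeCore p G)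
  have h0 : Cfsg.pPrimeCore p (G ⧸ Cfsg.pPrimeCore p G) = ⊥ := H1.pPrimeCore_quotient_pPrimeCore p
  have hle : (P' : Subgroup (G ⧸ Cfsg.pPrimeCore p G)) ≤ Cfsg.pCore p (G ⧸ Cfsg.pPrimeCore p G) := by
    by_cases hab : ∀ a b : ↥(P' : Subgroup (G ⧸ Cfsg.pPrimeCore p G)), a * b = b * a
    · intro x hx
      refine H10.centralizer_pCore_le hsolv h0 (Subgroup.mem_centralizer_iff.2 fun y hy => ?_)
      exact congrArg Subtype.val (hab ⟨y, H1.pCore_le_sylow P' hy⟩ ⟨x, hx⟩)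
    have hirr := H34.SchmidtType.irrAut_congr (hQ.some.symm.trans e)
      (H34.SchmidtType.exists_irrAut p hX P hPn hP1)
    obtain ⟨h1, h2, h3, h4⟩ := H34.SchmidtType.structure_of_irrAut P'.2 hirr hab
    set S := (P' : Subgroup (G ⧸ Cfsg.pPrimeCore p G))
    have hmem : ∀ x : ↥S, x ∈ commutator ↥S ↔ (x : G ⧸ Cfsg.pPrimeCore p G) ∈ ⁅S, S⁆ := fun x => by
      rw [← Subgroup.map_subtype_commutator]
      exact (Subgroup.mem_map_iff_mem S.subtype_injective).symm
    have hsub : ∀ c ∈ ⁅S, S⁆, c ∈ S := fun c hc => Subgroup.commutator_le_self _ hc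
    refine H34.SchmidtPL.sylow_le_pCore hsolv h0 P' ⁅S, S⁆ rfl ?_ ?_ ?_ ?_
    · intro c hc y hy
      exact congrArg Subtype.val (h1 ⟨c, hsub c hc⟩ ((hmem ⟨c, hsub c hc⟩).2 hc) ⟨y, hy⟩)
    · intro x hx hxD c hc
      obtain ⟨y, hy⟩ := h2 ⟨x, hx⟩ (fun h => hxD ((hmem _).1 h)) ⟨c, hsub c hc⟩ ((hmem ⟨c, hsub c hc⟩).2 hc)
      exact ⟨y, y.2, congrArg Subtype.val hy⟩
    · exact fun x hx => (hmem _).1 (h3 ⟨x, hx⟩)
    · intro hcard
      obtain ⟨a, b⟩ := h4 hcard
      refine ⟨a, fun hp2 x hx hxD hx2 => b hp2 ⟨x, hx⟩ (fun h => hxD ((hmem _).1 h)) (Subtype.ext ?_)⟩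
      exact hx2
  refine H82.pLengthLE_one_of_coprime_index ?_
  have hQle : (Q : Subgroup G) ≤ Cfsg.pPrimePCore p G := fun x hx => hle (hP' ▸ Subgroup.mem_map_of_mem f hx)
  exact (hp.coprime_iff_not_dvd.2 fun h => Q.not_dvd_index (h.trans (Subgroup.index_dvd_of_le hQle))).symm

end Cfsg.Agent.S4394
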