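import Cfsg.Statements.S4396
import Cfsg.Agent.H2.FrobeniusFree
import Cfsg.Agent.H2.FrobeniusKernel
import Cfsg.Agent.H1.FPF
import Cfsg.Agent.H5.PResidual

set_option autoImplicit false
open Cfsg

namespace Cfsg.Agent.S4396

/-- Let the finite group A act faithfully and linearly on a finite-dimensional vector space V over a field k, and suppose A is a Frobenius group with nilpotent kernel F (every Frobenius kernel is nilpotent) and complement H such that F fixes no nonzero vector. Then V is free as a module for H: there is a subspace W with V the direct sum of the translates hW, h ∈ H. (No assumption on the characteristic of k.) -/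
theorem result {k V A : Type*} [Field k] [AddCommGroup V] [Module k V] [FiniteDimensional k V] [Group A] [Finite A] [DecidableEq A]
    (ρ : Representation k A V) (hρ : Function.Injective ρ)
    (Fk Hc : Subgroup A) [Fk.Normal] (hHc : Cfsg.IsFrobeniusComplement Hc) (hker : Cfsg.frobeniusKernel Hc = (Fk : Set A)) (hnil : Group.IsNilpotent ↥Fk)
    (hCF : ∀ v : V, (∀ f ∈ Fk, ρ f v = v) → v = 0) :
    ∃ W : Submodule k V, DirectSum.IsInternal (fun h : ↥Hc => W.map (ρ (h : A))) := by
  classical
  haveI : Fintype A := Fintype.ofFinite A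
  obtain ⟨K, hK, -, hc⟩ := H2.exists_kernel hHc
  have hKF : K = Fk := SetLike.coe_injective (hK.trans hker)
  subst hKF
  -- a normal subgroup of order invertible in `k` without nonzero fixed vectors
  obtain ⟨Q, hQn, hQK, hQk, hQfix⟩ : ∃ Q : Subgroup A, Q.Normal ∧ Q ≤ K ∧ (Nat.card Q : k) ≠ 0 ∧
      ∀ v : V, (∀ f ∈ Q, ρ f v = v) → v = 0 := by
    obtain ⟨p, hchar⟩ := CharP.exists k
    rcases CharP.char_is_prime_or_zero k p with hp | rfl
    swap
    · haveI := CharP.charP_to_charZero k
      exact ⟨K, inferInstance, le_rfl, Nat.cast_ne_zero.mpr Nat.card_pos.ne', hCF⟩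
    haveI := Fact.mk hp
    let P : Sylow p K := Classical.arbitrary _
    set Q₀ := Cfsg.pResidual p K with hQ₀
    haveI : Q₀.Characteristic :=
      Subgroup.characteristic_iff_map_le.mpr fun φ => H5.pResidual_map_le φ.toMonoidHom
    have hsup : (P : Subgroup K) ⊔ Q₀ = ⊤ := by
      rw [sup_comm]; exact H5.pResidual_sup_sylow P
    refine ⟨Q₀.map K.subtype, inferInstance, Subgroup.map_subtype_le _, ?_, ?_⟩
    · rw [Subgroup.card_map_of_injective K.subtype_injective, Ne, CharP.cast_eq_zero_iff k p]
      exact H5.hasNormalPComplement_iff_not_dvd.mp (H1.hasNormalPComplement_of_nilpotent p hnil)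
    intro v hv
    by_contra hv0
    have hT : ∀ g h : A, ∀ w, ρ g (ρ h w) = ρ (g * h) w := fun g h w => by rw [map_mul]; rfl
    -- the finite group of sums of the orbit of `v` under `P`
    let O : Set V := Set.range fun x : (P : Subgroup K) => ρ ((x : K) : A) v
    let M : AddSubgroup V := AddSubgroup.closure O
    have hVp : ∀ w : V, p • w = 0 := fun w => by
      rw [← Nat.cast_smul_eq_nsmul k, CharP.cast_eq_zero, zero_smul]
    have hMfin : Finite M := by
      haveI : AddGroup.FG M :=
        (AddGroup.fg_iff_addSubgroup_fg M).mpr ((AddSubgroup.fg_iff M).mpr ⟨O, rfl, Set.finite_range _⟩)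
      exact AddCommGroup.finite_of_fg_torsion M fun w => by
        rw [isOfFinAddOrder_iff_nsmul_eq_zero]
        exact ⟨p, hp.pos, Subtype.ext (hVp _)⟩
    have hMinv : ∀ x : (P : Subgroup K), ∀ w ∈ M, ρ ((x : K) : A) w ∈ M := by
      intro x w hw
      induction hw using AddSubgroup.closure_induction with
      | mem w hw =>
        obtain ⟨y, rfl⟩ := hw
        refine AddSubgroup.subset_closure ⟨x * y, ?_⟩
        change ρ (((x * y : (P : Subgroup K)) : K) : A) v = _
        rw [hT]; rfl
      | zero => rw [map_zero]; exact M.zero_mem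
      | add a b _ _ ha hb => rw [map_add]; exact M.add_mem ha hb
      | neg a _ ha => rw [map_neg]; exact M.neg_mem ha
    letI : MulAction (P : Subgroup K) M :=
      { smul := fun x w => ⟨ρ ((x : K) : A) w, hMinv x w w.2⟩
        one_smul := fun w => Subtype.ext (by
          change ρ (((1 : (P : Subgroup K)) : K) : A) w = w
          simp)
        mul_smul := fun x y w => Subtype.ext (by
          change ρ (((x * y : (P : Subgroup K)) : K) : A) w = ρ ((x : K) : A) (ρ ((y : K) : A) w)
          rw [hT]; rfl) }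
    have hdvd : p ∣ Nat.card M := by
      have h1 : addOrderOf (⟨v, AddSubgroup.subset_closure ⟨1, by simp⟩⟩ : M) = p :=
        addOrderOf_eq_prime (Subtype.ext (hVp v)) (fun h => hv0 (congrArg Subtype.val h))
      exact h1 ▸ addOrderOf_dvd_natCard _
    obtain ⟨⟨w, hwM⟩, hw, hw0⟩ := P.2.exists_fixed_point_of_prime_dvd_card_of_fixed_point M hdvd
      (a := 0) (fun x => Subtype.ext (map_zero _))
    have hwQ : ∀ f ∈ Q₀.map K.subtype, ρ f w = w := by
      intro f hf
      have hle : M ≤ AddSubgroup.mk (AddSubmonoid.mk (AddSubsemigroup.mk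
          {u : V | ∀ g ∈ Q₀.map K.subtype, ρ g u = u}
          (fun {a b} ha hb g hg => by rw [map_add, ha g hg, hb g hg]))
          (fun g _ => map_zero _)) (fun {a} ha g hg => by rw [map_neg, ha g hg]) := by
        rw [AddSubgroup.closure_le]
        rintro _ ⟨x, rfl⟩ g hg
        have hn : (Q₀.map K.subtype).Normal := inferInstance
        have h1 := hv _ (by simpa using hn.conj_mem g hg (((x : K) : A))⁻¹)
        calc ρ g (ρ ((x : K) : A) v)
            = ρ ((x : K) : A) (ρ (((x : K) : A)⁻¹ * g * ((x : K) : A)) v) := by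
              rw [hT, hT]; congr 2; group
          _ = ρ ((x : K) : A) v := by rw [h1]
      exact hle hwM f hf
    refine hw0 (Subtype.ext (hCF w fun f hf => ?_).symm)
    let Stab : Subgroup K :=
      { carrier := {x | ρ (x : A) w = w}
        one_mem' := by simp
        mul_mem' := fun {a b} ha hb => by
          change ρ ((a : A) * (b : A)) w = w
          rw [← hT, hb, ha]
        inv_mem' := fun {a} ha => by
          change ρ ((a : A)⁻¹) w = w
          conv_lhs => rw [← ha]
          rw [hT, inv_mul_cancel, map_one]; rfl }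
    have hstab : (⊤ : Subgroup K) ≤ Stab := by
      rw [← hsup]
      exact sup_le (fun x hx => congrArg Subtype.val (hw ⟨x, hx⟩))
        (fun x hx => hwQ _ ⟨x, hx, rfl⟩)
    exact hstab (Subgroup.mem_top ⟨f, hf⟩)
  haveI := hQn
  have hsol : Group.IsSolvable Q := by
    haveI : Group.IsSolvable K := by haveI := hnil; infer_instance
    exact Group.isSolvable_of_isSolvable_injective (Subgroup.inclusion_injective hQK)
  obtain ⟨W, hW⟩ : H2.IsFreeRep ((ρ : A →* Module.End k V).comp Hc.subtype) := by
    refine H2.isFreeRep_aux _ V Q ((ρ : A →* Module.End k V).comp Q.subtype) _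
      ((MulAut.conjNormal (H := Q)).comp Hc.subtype) le_rfl ?_ ?_ hsol hQk
      (fun v hv => hQfix v fun f hf => hv ⟨f, hf⟩)
    · intro h x
      change ρ (h : A) * ρ (x : A) * ρ (((h⁻¹ : Hc)) : A) = ρ ((MulAut.conjNormal (h : A) x : Q) : A)
      rw [← map_mul, ← map_mul, MulAut.conjNormal_apply]
      rfl
    · intro h hne x hx
      have h1 : (h : A) * (x : A) * (h : A)⁻¹ = x := by
        simpa using congrArg Subtype.val hx
      have h2 : (x : A) ∈ K ⊓ Subgroup.centralizer {(h : A)} :=
        ⟨hQK x.2, Subgroup.mem_centralizer_singleton_iff.mpr (mul_inv_eq_iff_eq_mul.mp h1).symm⟩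
      rw [H2.fpf_of_frobenius hc hHc h h.2 (fun e => hne (Subtype.ext e)), Subgroup.mem_bot] at h2
      exact Subtype.ext h2
  refine ⟨W, ?_⟩
  rw [DirectSum.isInternal_submodule_iff_iSupIndep_and_iSup_eq_top]
  refine ⟨fun i => ?_, ?_⟩
  · rw [Submodule.disjoint_def]
    rintro _ ⟨w, hw, rfl⟩ hsum
    let Φ : (↥Hc → W) →ₗ[k] V := ∑ h : ↥Hc, ((ρ (h : A)).comp W.subtype).comp (LinearMap.proj (φ := fun _ : ↥Hc => ↥W) h)
    have hΦ : ∀ f, Φ f = ∑ h : ↥Hc, ρ (h : A) (f h : V) := fun f => by
      simp [Φ, LinearMap.sum_apply]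
    have hle : (⨆ (j : ↥Hc) (_ : j ≠ i), W.map (ρ (j : A))) ≤
        (LinearMap.ker (LinearMap.proj (R := k) (φ := fun _ : ↥Hc => W) i)).map Φ := by
      refine iSup₂_le fun j hj => ?_
      rintro _ ⟨u, hu, rfl⟩
      refine ⟨Pi.single j ⟨u, hu⟩, Pi.single_eq_of_ne (Ne.symm hj) _, ?_⟩
      rw [hΦ, Finset.sum_eq_single j]
      · rw [Pi.single_eq_same]
      · intro b _ hb
        rw [Pi.single_eq_of_ne hb]; simp
      · exact fun h => absurd (Finset.mem_univ _) h
    obtain ⟨f, hf, hfeq⟩ := hle hsum
    have hsingle : f = Pi.single i ⟨w, hw⟩ := by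
      refine hW.1 ?_
      change ∑ h : ↥Hc, ρ (h : A) (f h : V) = ∑ h : ↥Hc, ρ (h : A) _
      rw [← hΦ, hfeq, Finset.sum_eq_single i]
      · rw [Pi.single_eq_same]
      · intro b _ hb
        rw [Pi.single_eq_of_ne hb]; simp
      · exact fun h => absurd (Finset.mem_univ _) h
    have h0 : (⟨w, hw⟩ : W) = 0 := by
      have : f i = 0 := hf
      rwa [hsingle, Pi.single_eq_same] at this
    rw [show w = 0 from congrArg Subtype.val h0, map_zero]
  · rw [eq_top_iff]
    intro v _
    obtain ⟨f, rfl⟩ := hW.2 v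
    exact Submodule.sum_mem _ fun h _ =>
      Submodule.mem_iSup_of_mem (p := fun h : ↥Hc => W.map (ρ (h : A))) h ⟨_, (f h).2, rfl⟩


end Cfsg.Agent.S4396
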