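import Cfsg.Statements.S4400
import Cfsg.Agent.H31.TwoCentres

set_option autoImplicit false
open Cfsg

namespace Cfsg.Agent.S4400

/-- Let S be a finite 2-group of sectional 2-rank at most 4, and let P and Q be normal non-abelian subgroups of S whose centres have order 2 and are different. Then P and Q commute elementwise and intersect trivially, and PQ contains its own centralizer in S. -/
theorem result {S : Type*} [Group S] [Finite S] (h2 : IsPGroup 2 S) (hr : Cfsg.SectionalPRankLE 2 4 S)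
    (P Q : Subgroup S) [P.Normal] [Q.Normal] (hP : ¬ IsMulCommutative ↥P) (hQ : ¬ IsMulCommutative ↥Q)
    (hZP : Nat.card ↥(Subgroup.center ↥P) = 2) (hZQ : Nat.card ↥(Subgroup.center ↥Q) = 2)
    (hne : (Subgroup.center ↥P).map P.subtype ≠ (Subgroup.center ↥Q).map Q.subtype) :
    ⁅P, Q⁆ = ⊥ ∧ P ⊓ Q = ⊥ ∧ Subgroup.centralizer ((P ⊔ Q : Subgroup S) : Set S) ≤ P ⊔ Q := by
  obtain ⟨z, hz⟩ := H31.TwoCentres.cen_of_card hZP
  obtain ⟨z', hz'⟩ := H31.TwoCentres.cen_of_card hZQ
  have hzz : z ≠ z' := fun e => hne (SetLike.ext fun x => by rw [hz.mem_map, hz'.mem_map, e])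
  obtain ⟨h1, h3, h4⟩ := H31.TwoCentres.two_normal h2 hr P Q hz hz' hzz
    (H31.TwoCentres.exists_noncomm hP) (H31.TwoCentres.exists_noncomm hQ)
  refine ⟨?_, h1, ?_⟩
  · rw [Subgroup.commutator_eq_bot_iff_le_centralizer]
    exact fun a ha => fun b hb => (h3 a ha b hb).eq.symm
  · intro c hc
    have hc' := Subgroup.mem_centralizer_iff.mp hc
    rcases h4 c (fun a ha => (hc' a (Subgroup.mem_sup_left ha)).symm) (fun b hb => (hc' b (Subgroup.mem_sup_right hb)).symm)
      with e | e | e | e <;> rw [e]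
    · exact Subgroup.one_mem _
    · exact Subgroup.mem_sup_left hz.1
    · exact Subgroup.mem_sup_right hz'.1
    · exact Subgroup.mul_mem _ (Subgroup.mem_sup_left hz.1) (Subgroup.mem_sup_right hz'.1)

end Cfsg.Agent.S4400
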