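import Cfsg.Statements.S4402
import Cfsg.Agent.H31.WreathSect

set_option autoImplicit false
open Cfsg

namespace Cfsg.Agent.S4402

/-- Let S be a finite 2-group of sectional 2-rank at most 4 and P a proper subgroup isomorphic to the wreath product of the dihedral group of order 8 by a group of order 2 (equivalently, to a Sylow 2-subgroup of the symmetric group of degree 8; order 128). Then Z(S) = Z(P) has order 2, P has index 2 in its normalizer N_S(P), N_S(P)/Z(S) is again isomorphic to that wreath product, and every elementary abelian subgroup V of order 16 that is normal in P satisfies N_S(V) = P. -/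
theorem result {S : Type*} [Group S] [Finite S] (h2 : IsPGroup 2 S) (hr : Cfsg.SectionalPRankLE 2 4 S)
    (P : Subgroup S) (hPlt : P ≠ ⊤) (hP : ∃ T : Sylow 2 (Equiv.Perm (Fin 8)), Nonempty (↥P ≃* ↥(T : Subgroup (Equiv.Perm (Fin 8))))) :
    Subgroup.center S = (Subgroup.center ↥P).map P.subtype ∧ Nat.card ↥(Subgroup.center S) = 2 ∧
    P.relIndex (Subgroup.normalizer (P : Set S)) = 2 ∧
    (∃ (_ : ((Subgroup.center S).subgroupOf (Subgroup.normalizer (P : Set S))).Normal) (T : Sylow 2 (Equiv.Perm (Fin 8))),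
      Nonempty (↥(Subgroup.normalizer (P : Set S)) ⧸ (Subgroup.center S).subgroupOf (Subgroup.normalizer (P : Set S)) ≃*
        ↥(T : Subgroup (Equiv.Perm (Fin 8))))) ∧
    ∀ V : Subgroup S, V ≤ P → (∀ g ∈ P, ∀ v ∈ V, g * v * g⁻¹ ∈ V) → Cfsg.IsElementaryAbelian 2 V → Nat.card ↥V = 16 →
      Subgroup.normalizer (V : Set S) = P := by
  obtain ⟨T, ⟨θ⟩⟩ := hP
  obtain ⟨θW⟩ := H31.DWr.sylow_perm_eight T
  let ι : H31.DWr.W →* S := P.subtype.comp (θW.trans θ.symm).toMonoidHom
  have hι : Function.Injective ι := P.subtype_injective.comp (θW.trans θ.symm).injective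
  have hrange : ι.range = P := by
    ext x
    refine ⟨?_, fun hx => ⟨(θW.trans θ.symm).symm ⟨x, hx⟩, ?_⟩⟩
    · rintro ⟨w, rfl⟩
      exact SetLike.coe_mem _
    · show (((θW.trans θ.symm) ((θW.trans θ.symm).symm ⟨x, hx⟩)) : S) = x
      rw [MulEquiv.apply_symm_apply]
  clear_value ι
  subst hrange
  have hcS := H31.DWr.center_eq h2 hr hι
  have hz0P : ∀ x, x ∈ (Subgroup.center ι.range).map ι.range.subtype ↔ (x = 1 ∨ x = ι H31.DWr.z0) := by
    intro x
    constructor
    · rintro ⟨⟨_, w, rfl⟩, hw, rfl⟩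
      have h : ∀ u, w * u = u * w := fun u => hι (by
        rw [map_mul, map_mul]
        exact (congrArg Subtype.val (Subgroup.mem_center_iff.mp hw ⟨ι u, u, rfl⟩)).symm)
      rcases (H31.DWr.center_W w).mp ⟨h _, h _, h _⟩ with rfl | rfl
      exacts [Or.inl (map_one ι), Or.inr rfl]
    · intro hx
      have hxc := (hcS x).mpr hx
      have hxr : x ∈ ι.range := by
        rcases hx with rfl | rfl
        exacts [one_mem _, ⟨_, rfl⟩]
      exact ⟨⟨x, hxr⟩, Subgroup.mem_center_iff.mpr fun y => Subtype.ext (Subgroup.mem_center_iff.mp hxc y), rfl⟩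
  refine ⟨Subgroup.ext fun x => (hcS x).trans (hz0P x).symm, ?_, H31.DWr.relIndex_two h2 hr hι hPlt, ?_, ?_⟩
  · rw [Nat.card_eq_two_iff]
    refine ⟨1, ⟨ι H31.DWr.z0, (hcS _).mpr (Or.inr rfl)⟩, fun h => ?_, Set.eq_univ_of_forall fun x => ?_⟩
    · exact H31.DWr.gen_rel.2.2.2.2.2.2.2.2.2.2.2.2.1 (hι ((congrArg Subtype.val h.symm).trans (map_one ι).symm))
    · rcases (hcS _).mp x.2 with h | h
      · exact Or.inl (Subtype.ext h)
      · exact Or.inr (Subtype.ext h)
  · haveI hn : ((Subgroup.center S).subgroupOf (Subgroup.normalizer (ι.range : Set S))).Normal :=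
      ⟨fun c hc g => by
        rw [Subgroup.mem_subgroupOf] at hc ⊢
        have h := Subgroup.mem_center_iff.mp hc g
        rw [Subgroup.coe_mul, Subgroup.coe_mul, Subgroup.coe_inv, h, mul_inv_cancel_right]
        exact hc⟩
    obtain ⟨Θ⟩ := H31.DWr.quotient_iso h2 hr hι hPlt
    exact ⟨hn, T, ⟨Θ.symm.trans θW⟩⟩
  · intro V hV hVn hVe h16
    have hVeq : (V.comap ι).map ι = V := Subgroup.map_comap_eq_self hV
    have hU : V.comap ι = H31.DWr.V1 ∨ V.comap ι = H31.DWr.V2 := by
      refine H31.DWr.V_unique _ ?_ ?_ ?_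
      · rw [← h16, ← Subgroup.card_map_of_injective hι, hVeq]
      · intro w hw
        exact hι (by rw [map_mul, map_one, ← pow_two]; exact hVe.2 _ hw)
      · intro w hw u
        refine hι ?_
        have hc : ι (u * w * u⁻¹) ∈ V := by
          rw [map_mul, map_mul, map_inv]; exact hVn _ ⟨u, rfl⟩ _ hw
        rw [map_mul, map_mul ι (u * w * u⁻¹)]
        exact congrArg Subtype.val (hVe.1.is_comm.comm ⟨_, hw⟩ ⟨_, hc⟩)
    have := H31.DWr.normalizer_map_eq h2 hr hι _ hU
    rwa [hVeq] at this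

end Cfsg.Agent.S4402
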