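import Cfsg.Statements.S4406
import Mathlib.GroupTheory.SpecificGroups.Alternating
import Mathlib.Tactic

set_option autoImplicit false
open Cfsg

namespace Cfsg.Agent.S4406

/-- In the direct product P = A₄ × A₄, let X be the Sylow 2-subgroup, X₁ and X₂ its intersections with the two direct factors, Q a Sylow 3-subgroup and Q₁, Q₂ its intersections with the two factors. Then every subgroup B of X of order 4 either meets X₁ or X₂ nontrivially, or is normalized by one of the two subgroups of Q of order 3 other than Q₁ and Q₂. -/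
theorem result
    (X : Sylow 2 (↥(alternatingGroup (Fin 4)) × ↥(alternatingGroup (Fin 4))))
    (Q : Sylow 3 (↥(alternatingGroup (Fin 4)) × ↥(alternatingGroup (Fin 4))))
    (B : Subgroup (↥(alternatingGroup (Fin 4)) × ↥(alternatingGroup (Fin 4)))) (hBX : B ≤ (X : Subgroup _)) (hB4 : Nat.card ↥B = 4) :
    B ⊓ ((X : Subgroup _) ⊓ Subgroup.prod ⊤ ⊥) ≠ ⊥ ∨ B ⊓ ((X : Subgroup _) ⊓ Subgroup.prod ⊥ ⊤) ≠ ⊥ ∨
      ∃ R : Subgroup (↥(alternatingGroup (Fin 4)) × ↥(alternatingGroup (Fin 4))), R ≤ (Q : Subgroup _) ∧ Nat.card ↥R = 3 ∧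
        R ≠ (Q : Subgroup _) ⊓ Subgroup.prod ⊤ ⊥ ∧ R ≠ (Q : Subgroup _) ⊓ Subgroup.prod ⊥ ⊤ ∧ R ≤ Subgroup.normalizer (B : Set _) := by
  have hA1 : ∀ a v : alternatingGroup (Fin 4), a ^ 3 = 1 → a ≠ 1 → v ^ 2 = 1 →
      a * a * v * (a * a)⁻¹ = v * (a * v * a⁻¹) ∧
      ∀ w : alternatingGroup (Fin 4), w ^ 2 = 1 → v ≠ 1 →
        w = 1 ∨ w = v ∨ w = a * v * a⁻¹ ∨ w = v * (a * v * a⁻¹) := by decide +kernel
  have hA2 : ∀ b w w' : alternatingGroup (Fin 4), (b ^ 3 = 1 ∧ b ≠ 1) → (w ^ 2 = 1 ∧ w ≠ 1) →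
      (w' ^ 2 = 1 ∧ w' ≠ 1 ∧ w' ≠ w) → w' = b * w * b⁻¹ ∨ w' = b⁻¹ * w * b⁻¹⁻¹ := by decide +kernel
  have h4 : ∀ x : alternatingGroup (Fin 4), x ^ 4 = 1 → x ^ 2 = 1 := by decide +kernel
  have hcardA : Nat.card (alternatingGroup (Fin 4)) = 12 := by
    rw [nat_card_alternatingGroup, Nat.card_eq_fintype_card, Fintype.card_fin]
    decide
  -- every element of `B` squares to one
  have hB2 : ∀ e ∈ B, e.1 ^ 2 = 1 ∧ e.2 ^ 2 = 1 := by
    intro e he
    have h : e ^ 4 = 1 := by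
      rw [← orderOf_dvd_iff_pow_eq_one]
      have h := orderOf_dvd_natCard (⟨e, he⟩ : B)
      rwa [Subgroup.orderOf_mk, hB4] at h
    exact ⟨h4 _ (congrArg Prod.fst h), h4 _ (congrArg Prod.snd h)⟩
  by_contra hcon
  push Not at hcon
  obtain ⟨hB1, hB1', hR⟩ := hcon
  have hinj : ∀ e ∈ B, e.1 = 1 → e = 1 := by
    intro e he h
    have : e ∈ B ⊓ ((X : Subgroup _) ⊓ Subgroup.prod ⊥ ⊤) :=
      ⟨he, hBX he, Subgroup.mem_prod.mpr ⟨Subgroup.mem_bot.mpr h, Subgroup.mem_top _⟩⟩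
    rwa [hB1', Subgroup.mem_bot] at this
  have hinj' : ∀ e ∈ B, e.2 = 1 → e = 1 := by
    intro e he h
    have : e ∈ B ⊓ ((X : Subgroup _) ⊓ Subgroup.prod ⊤ ⊥) :=
      ⟨he, hBX he, Subgroup.mem_prod.mpr ⟨Subgroup.mem_top _, Subgroup.mem_bot.mpr h⟩⟩
    rwa [hB1, Subgroup.mem_bot] at this
  -- the two factors of `Q`
  have hQcard : Nat.card (Q : Subgroup (↥(alternatingGroup (Fin 4)) × ↥(alternatingGroup (Fin 4)))) = 9 := by
    rw [Q.card_eq_multiplicity, Nat.card_prod, hcardA]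
    have : (12 * 12).factorization 3 = 2 := by
      rw [show 12 * 12 = 3 ^ 2 * 16 by norm_num, Nat.factorization_mul (by norm_num) (by norm_num),
        Finsupp.add_apply, Nat.Prime.factorization_pow (by norm_num : Nat.Prime 3),
        Finsupp.single_eq_same, Nat.factorization_eq_zero_of_not_dvd (by norm_num : ¬ 3 ∣ 16)]
    rw [this]
    norm_num
  have hthree : ∀ K : Subgroup (alternatingGroup (Fin 4)), IsPGroup 3 K → Nat.card K ≤ 3 := by
    intro K hK
    obtain ⟨n, hn⟩ := IsPGroup.iff_card.mp hK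
    rw [hn]
    have hdvd := hn ▸ Subgroup.card_subgroup_dvd_card K
    rw [hcardA] at hdvd
    have : n ≤ 1 := by
      by_contra hlt
      exact absurd ((pow_dvd_pow 3 (show 2 ≤ n by omega)).trans hdvd) (by norm_num)
    calc 3 ^ n ≤ 3 ^ 1 := Nat.pow_le_pow_right (by norm_num) this
      _ = 3 := by norm_num
  have hQp : IsPGroup 3 (Q : Subgroup (↥(alternatingGroup (Fin 4)) × ↥(alternatingGroup (Fin 4)))) :=
    Q.isPGroup'
  have haux : ∀ f k : (↥(alternatingGroup (Fin 4)) × ↥(alternatingGroup (Fin 4))) →*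
      ↥(alternatingGroup (Fin 4)), (∀ e, f e = 1 → k e = 1 → e = 1) →
      ∃ e ∈ (Q : Subgroup (↥(alternatingGroup (Fin 4)) × ↥(alternatingGroup (Fin 4)))),
        f e ≠ 1 ∧ k e = 1 := by
    intro f k hfk
    by_contra hno
    push Not at hno
    have hinjQ : Function.Injective (k.comp (Q : Subgroup _).subtype) := by
      rw [injective_iff_map_eq_one]
      intro e he
      refine Subtype.ext (hfk e ?_ he)
      by_contra hne
      exact hno e e.2 hne he
    have h1 := hthree _ (hQp.map k)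
    have h2 : Nat.card (Subgroup.map k (Q : Subgroup _)) = 9 := by
      rw [← hQcard]
      have hrange : (k.comp (Q : Subgroup _).subtype).range = Subgroup.map k (Q : Subgroup _) := by
        rw [MonoidHom.range_comp, Subgroup.range_subtype]
      rw [← hrange]
      exact (Nat.card_congr (MonoidHom.ofInjective hinjQ).toEquiv).symm
    omega
  obtain ⟨⟨a, a'⟩, haQ, ha1, ha'⟩ := haux (MonoidHom.fst _ _) (MonoidHom.snd _ _)
    (fun e h1 h2 => Prod.ext h1 h2)
  obtain ⟨⟨b', b⟩, hbQ, hb1, hb'⟩ := haux (MonoidHom.snd _ _) (MonoidHom.fst _ _)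
    (fun e h1 h2 => Prod.ext h2 h1)
  simp only [MonoidHom.coe_fst, MonoidHom.coe_snd] at ha1 ha' hb1 hb'
  subst ha' hb'
  have h3 : ∀ e ∈ (Q : Subgroup (↥(alternatingGroup (Fin 4)) × ↥(alternatingGroup (Fin 4)))),
      e.1 ^ 3 = 1 ∧ e.2 ^ 3 = 1 := by
    have key : ∀ x : alternatingGroup (Fin 4), x ^ 9 = 1 → x ^ 3 = 1 := by decide +kernel
    intro e he
    have h : e ^ 9 = 1 := by
      rw [← orderOf_dvd_iff_pow_eq_one]
      have h := orderOf_dvd_natCard (⟨e, he⟩ : (Q : Subgroup (↥(alternatingGroup (Fin 4)) × ↥(alternatingGroup (Fin 4)))))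
      rwa [Subgroup.orderOf_mk, hQcard] at h
    exact ⟨key _ (congrArg Prod.fst h), key _ (congrArg Prod.snd h)⟩
  have ha3 : a ^ 3 = 1 := (h3 _ haQ).1
  have hb3 : b ^ 3 = 1 := (h3 _ hbQ).2
  -- a non-trivial element of `B` and its companion
  obtain ⟨⟨v, w⟩, he, hne⟩ : ∃ e ∈ B, e ≠ 1 := by
    refine (Subgroup.bot_or_exists_ne_one B).resolve_left fun h => ?_
    rw [h, Subgroup.card_bot] at hB4
    omega
  have hv2 : v ^ 2 = 1 := (hB2 _ he).1
  have hw2 : w ^ 2 = 1 := (hB2 _ he).2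
  have hv1 : v ≠ 1 := fun h => hne (hinj _ he h)
  have hw1 : w ≠ 1 := fun h => hne (hinj' _ he h)
  obtain ⟨hav, hVall⟩ := hA1 a v ha3 ha1 hv2
  obtain ⟨⟨u, w'⟩, he', hu⟩ : ∃ e ∈ B, e.1 = a * v * a⁻¹ := by
    by_contra hno
    push Not at hno
    -- otherwise the projection of `B` misses one of four values
    have hsurj : ∀ e : ↥B, e.1.1 = 1 ∨ e.1.1 = v ∨ e.1.1 = v * (a * v * a⁻¹) := by
      intro e
      rcases hVall _ (hB2 _ e.2).1 hv1 with h | h | h | h
      · exact Or.inl h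
      · exact Or.inr (Or.inl h)
      · exact absurd h (hno _ e.2)
      · exact Or.inr (Or.inr h)
    have hle : Nat.card ↥B ≤ Nat.card
        ↥({1, v, v * (a * v * a⁻¹)} : Finset (alternatingGroup (Fin 4))) := by
      refine Nat.card_le_card_of_injective (fun e => ⟨e.1.1, by
        simpa using hsurj e⟩) fun e e' h => ?_
      have h' := congrArg Subtype.val h
      simp only at h'
      have := hinj _ (B.mul_mem (B.inv_mem e.2) e'.2) (by
        rw [Prod.fst_mul, Prod.fst_inv, h', inv_mul_cancel])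
      exact Subtype.ext (inv_mul_eq_one.mp this)
    rw [hB4, Nat.card_eq_finsetCard] at hle
    exact absurd (hle.trans Finset.card_le_three) (by norm_num)
  simp only at hu
  subst hu
  have hu1 : a * v * a⁻¹ ≠ 1 := fun h => hv1 (by simpa using h)
  have hw'1 : w' ≠ 1 := fun h => hu1 (congrArg Prod.fst (hinj' _ he' h) :)
  have hw'w : w' ≠ w := by
    intro h
    have h1 := hinj' _ (B.mul_mem he (B.inv_mem he')) (by
      rw [Prod.snd_mul, Prod.snd_inv]; simp [h])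
    have h2 : v = a * v * a⁻¹ := by
      have := congrArg Prod.fst h1
      simpa using mul_inv_eq_one.mp this
    have key : ∀ a v : alternatingGroup (Fin 4), a ^ 3 = 1 → a ≠ 1 → v ^ 2 = 1 → v ≠ 1 →
        v ≠ a * v * a⁻¹ := by decide +kernel
    exact key a v ha3 ha1 hv2 hv1 h2
  obtain ⟨c, hc3, hc1, hcQ, hcw⟩ : ∃ c : alternatingGroup (Fin 4), c ^ 3 = 1 ∧ c ≠ 1 ∧
      (a, c) ∈ (Q : Subgroup (↥(alternatingGroup (Fin 4)) × ↥(alternatingGroup (Fin 4)))) ∧
      w' = c * w * c⁻¹ := by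
    rcases hA2 b w w' ⟨hb3, hb1⟩ ⟨hw2, hw1⟩ ⟨(hB2 _ he').2, hw'1, hw'w⟩ with h | h
    · exact ⟨b, hb3, hb1, by simpa using Subgroup.mul_mem _ haQ hbQ, h⟩
    · exact ⟨b⁻¹, by rw [inv_pow, hb3, inv_one], inv_ne_one.mpr hb1,
        by simpa using Subgroup.mul_mem _ haQ (Subgroup.inv_mem _ hbQ), h⟩
  subst hcw
  set r : ↥(alternatingGroup (Fin 4)) × ↥(alternatingGroup (Fin 4)) := (a, c) with hr
  refine hR (Subgroup.zpowers r) (Subgroup.zpowers_le.mpr hcQ) ?_ ?_ ?_ ?_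
  · rw [Nat.card_zpowers]
    refine orderOf_eq_prime (by ext1 <;> simp [hr, ha3, hc3]) fun h => ha1 (congrArg Prod.fst h :)
  · intro h
    have h1 : r ∈ ((Q : Subgroup _) ⊓ Subgroup.prod ⊤ ⊥ :
      Subgroup (↥(alternatingGroup (Fin 4)) × ↥(alternatingGroup (Fin 4)))) := h ▸ Subgroup.mem_zpowers r
    exact hc1 (Subgroup.mem_bot.mp (Subgroup.mem_prod.mp h1.2).2)
  · intro h
    have h1 : r ∈ ((Q : Subgroup _) ⊓ Subgroup.prod ⊥ ⊤ :
      Subgroup (↥(alternatingGroup (Fin 4)) × ↥(alternatingGroup (Fin 4)))) := h ▸ Subgroup.mem_zpowers r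
    exact ha1 (Subgroup.mem_bot.mp (Subgroup.mem_prod.mp h1.2).1)
  · rw [Subgroup.zpowers_le, Subgroup.mem_normalizer_iff_map_conj_eq]
    refine Subgroup.eq_of_le_of_card_ge ?_ (Nat.card_congr
      (B.equivMapOfInjective _ (MulAut.conj r).injective).toEquiv).le
    rintro _ ⟨e, heB, rfl⟩
    obtain ⟨hcw2, -⟩ := hA1 c w hc3 hc1 hw2
    have hid : ∀ x : ↥(alternatingGroup (Fin 4)) × ↥(alternatingGroup (Fin 4)),
        x ∈ B → x.1 = e.1 → x = e := by
      intro x hx h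
      have := hinj _ (B.mul_mem (B.inv_mem hx) heB) (by
        rw [Prod.fst_mul, Prod.fst_inv, h, inv_mul_cancel])
      exact inv_mul_eq_one.mp this
    show r * e * r⁻¹ ∈ B
    rcases hVall _ (hB2 _ heB).1 hv1 with h | h | h | h
    · rw [← hid 1 B.one_mem h.symm]
      simp
    · rw [← hid (v, w) he h.symm]
      simpa [hr] using he'
    · rw [← hid _ he' h.symm]
      have h2 := B.mul_mem he he'
      convert h2 using 1
      ext1
      · simp only [hr, Prod.fst_mul, Prod.fst_inv]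
        rw [← hav]; group
      · simp only [hr, Prod.snd_mul, Prod.snd_inv]
        rw [← hcw2]; group
    · rw [← hid _ (B.mul_mem he he') h.symm]
      convert he using 1
      have hmul : ∀ (a v : alternatingGroup (Fin 4)), a ^ 3 = 1 → a ≠ 1 → v ^ 2 = 1 →
          a * (v * (a * v * a⁻¹)) * a⁻¹ = v := by decide +kernel
      ext1
      · simpa [hr] using hmul a v ha3 ha1 hv2
      · simpa [hr] using hmul c w hc3 hc1 hw2

end Cfsg.Agent.S4406
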