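import Cfsg.Statements.S4407
import Mathlib.GroupTheory.SpecificGroups.Dihedral
import Mathlib.GroupTheory.OrderOfElement
import Mathlib.Tactic.Group
import Mathlib.Tactic.Abel

set_option autoImplicit false
open Cfsg

namespace Cfsg.Agent.S4407

theorem h36_dihedral_four_groups : ∀ T : Finset (DihedralGroup 4), T.card = 4 →
    (∀ b ∈ T, b * b = 1) → (∀ a ∈ T, ∀ b ∈ T, a * b ∈ T) →
    T = {1, DihedralGroup.r 2, DihedralGroup.sr 0, DihedralGroup.sr 2} ∨
      T = {1, DihedralGroup.r 2, DihedralGroup.sr 1, DihedralGroup.sr 3} := by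
  decide +kernel

/-- The two four-groups of `D₈`. -/
def h36Four (i : ZMod 4) : Finset (DihedralGroup 4) :=
  {1, DihedralGroup.r 2, DihedralGroup.sr i, DihedralGroup.sr i * DihedralGroup.r 2}

theorem h36_dihedral_closed : ∀ i : ZMod 4, (h36Four i).card = 4 ∧
    (∀ a ∈ h36Four i, a * a = 1) ∧
    (∀ a ∈ h36Four i, ∀ b ∈ h36Four i, a * b ∈ h36Four i) := by
  decide +kernel

theorem h36_four_cases (T : Finset (DihedralGroup 4)) (h1 : T.card = 4)
    (h2 : ∀ b ∈ T, b * b = 1) (h3 : ∀ a ∈ T, ∀ b ∈ T, a * b ∈ T) :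
    T = h36Four 0 ∨ T = h36Four 3 := by
  have e0 : h36Four 0 = {1, DihedralGroup.r 2, DihedralGroup.sr 0, DihedralGroup.sr 2} := by
    decide +kernel
  have e3 : h36Four 3 = {1, DihedralGroup.r 2, DihedralGroup.sr 1, DihedralGroup.sr 3} := by
    decide +kernel
  rw [e0, e3]
  exact h36_dihedral_four_groups T h1 h2 h3

/-- The subgroup given by one of the two four-groups. -/
def h36FourSub (i : ZMod 4) : Subgroup (DihedralGroup 4) where
  carrier := h36Four i
  one_mem' := by simp [h36Four]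
  mul_mem' := fun {a b} ha hb => (h36_dihedral_closed i).2.2 a ha b hb
  inv_mem' := fun {a} ha => by
    have h := (h36_dihedral_closed i).2.1 a ha
    rwa [inv_eq_of_mul_eq_one_right h]

section Normal

variable {S : Type*} [Group S] [Finite S] {A : Subgroup S} [A.Normal]

/-- A dihedral group of order `8` acting faithfully on a group of order `9` is monomial. -/
theorem h36_normal_form (hA : Cfsg.IsElementaryAbelian 3 A) (hA9 : Nat.card ↥A = 9)
    (hAC : Subgroup.centralizer (A : Set S) = A) {r s z : S} (hz : z = r * r) (hz1 : z * z = 1)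
    (hzne : z ≠ 1) (hs : s * s = 1) (hsz : s ≠ z) (hsr : s * r = r * z * s) :
    ∃ u w : S, u ∈ A ∧ w ∈ A ∧ u * w = w * u ∧ u ^ 3 = 1 ∧ w ^ 3 = 1 ∧
      r * u * r⁻¹ = w ∧ r * w * r⁻¹ = u⁻¹ ∧ s * u * s⁻¹ = u ∧ s * w * s⁻¹ = w⁻¹ ∧
      z * u * z⁻¹ = u⁻¹ ∧ z * w * z⁻¹ = w⁻¹ ∧ A = Subgroup.closure {u, w} := by
  classical
  have hcomm : ∀ a ∈ A, ∀ b ∈ A, a * b = b * a := fun a ha b hb =>
    congrArg Subtype.val (hA.1.is_comm.comm (⟨a, ha⟩ : A) ⟨b, hb⟩)
  have h3 : ∀ a ∈ A, a ^ 3 = 1 := hA.2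
  have hcj : ∀ (x : S), ∀ a ∈ A, x * a * x⁻¹ ∈ A := fun x a ha =>
    (inferInstance : A.Normal).conj_mem a ha x
  have hinv : ∀ a ∈ A, z * a * z⁻¹ = a⁻¹ := by
    let I : Subgroup S :=
      { carrier := {a | a ∈ A ∧ z * a * z⁻¹ = a⁻¹}
        one_mem' := ⟨one_mem A, by simp⟩
        mul_mem' := fun {a b} ha hb => ⟨mul_mem ha.1 hb.1, by
          rw [show z * (a * b) * z⁻¹ = (z * a * z⁻¹) * (z * b * z⁻¹) by group, ha.2, hb.2,
            hcomm a ha.1 b hb.1, mul_inv_rev]⟩
        inv_mem' := fun {a} ha => ⟨inv_mem ha.1, by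
          rw [show z * a⁻¹ * z⁻¹ = (z * a * z⁻¹)⁻¹ by group, ha.2]⟩ }
    have hIA : I ≤ A := fun a ha => ha.1
    obtain ⟨k, hk2, hk⟩ := (Nat.dvd_prime_pow Nat.prime_three).mp
      (show Nat.card I ∣ 3 ^ 2 by
        rw [show 3 ^ 2 = Nat.card A by rw [hA9]; rfl]
        exact Subgroup.card_dvd_of_le hIA)
    have hmemI : ∀ a ∈ A, a⁻¹ * (z * a * z⁻¹) ∈ I := fun a ha => ⟨mul_mem (inv_mem ha) (hcj z a ha), by
      rw [show z * (a⁻¹ * (z * a * z⁻¹)) * z⁻¹ = (z * a * z⁻¹)⁻¹ * ((z * z) * a * (z * z)⁻¹) by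
        group, hz1]
      group⟩
    interval_cases k
    · exfalso
      have hzC : z ∈ Subgroup.centralizer (A : Set S) := fun a ha => by
        have h1 : a⁻¹ * (z * a * z⁻¹) = 1 := by
          have h2 := hmemI a ha
          rw [Subgroup.card_eq_one.mp (show Nat.card I = 1 by rw [hk]; rfl)] at h2
          exact h2
        rw [inv_mul_eq_one, eq_mul_inv_iff_mul_eq] at h1
        exact h1
      rw [hAC] at hzC
      apply hzne
      have h1 := h3 z hzC
      rwa [pow_succ, pow_two, hz1, one_mul] at h1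
    · exfalso
      have : Nontrivial I := Finite.one_lt_card_iff_nontrivial.mp (by rw [hk]; norm_num)
      obtain ⟨⟨i, hiA, hi⟩, hine⟩ := exists_ne (1 : I)
      have hi1 : i ≠ 1 := fun h => hine (Subtype.ext h)
      have hzr : r * z = z * r := by rw [hz]; group
      have hri : r * i * r⁻¹ ∈ I := ⟨hcj r i hiA, by
        rw [show z * (r * i * r⁻¹) * z⁻¹ = (z * r) * i * (z * r)⁻¹ by group, ← hzr,
          show (r * z) * i * (r * z)⁻¹ = r * (z * i * z⁻¹) * r⁻¹ by group, hi]
        group⟩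
      have hgen : ∀ b : S, b ∈ I → b = 1 ∨ b = i ∨ b = i⁻¹ := by
        intro b hb
        have ho : orderOf (⟨i, hiA, hi⟩ : I) = 3 := by
          have := Fact.mk Nat.prime_three
          exact orderOf_eq_prime (Subtype.ext (h3 i hiA)) hine
        have htop : Subgroup.zpowers (⟨i, hiA, hi⟩ : I) = ⊤ :=
          Subgroup.eq_top_of_card_eq _ (by rw [Nat.card_zpowers, ho, hk, pow_one])
        have hb' : (⟨b, hb⟩ : I) ∈ Subgroup.zpowers (⟨i, hiA, hi⟩ : I) := htop ▸ Subgroup.mem_top _
        rw [← mem_powers_iff_mem_zpowers] at hb'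
        obtain ⟨j, hj⟩ := hb'
        have hj' : i ^ (j % 3) = b := by
          have hj2 : i ^ j = b := by simpa using congrArg Subtype.val hj
          rw [← hj2]
          conv_rhs => rw [← Nat.div_add_mod j 3, pow_add, pow_mul, h3 i hiA, one_pow, one_mul]
        have : j % 3 < 3 := Nat.mod_lt _ (by norm_num)
        interval_cases (j % 3)
        · exact Or.inl (by simpa using hj'.symm)
        · exact Or.inr (Or.inl (by simpa using hj'.symm))
        · refine Or.inr (Or.inr ?_)
          rw [← hj', eq_inv_iff_mul_eq_one, ← pow_succ]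
          exact h3 i hiA
      have hfix : z * i * z⁻¹ = i := by
        have h2 : z * i * z⁻¹ = r * (r * i * r⁻¹) * r⁻¹ := by rw [hz]; group
        rcases hgen _ hri with h | h | h
        · exact absurd (by simpa using h) hi1
        · rw [h2, h, h]
        · rw [h2, h, show r * i⁻¹ * r⁻¹ = (r * i * r⁻¹)⁻¹ by group, h, inv_inv]
      have h1 : i⁻¹ = i := hi.symm.trans hfix
      apply hi1
      have h4 := h3 i hiA
      rwa [pow_succ, pow_two, show i * i = 1 by nth_rewrite 1 [← h1]; exact inv_mul_cancel i,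
        one_mul] at h4
    · intro a ha
      have heq : I = A := Subgroup.eq_of_le_of_card_ge hIA (by rw [hk, hA9]; norm_num)
      have h1 : a ∈ I := heq ▸ ha
      exact h1.2
  obtain ⟨a, ha, hau⟩ : ∃ a ∈ A, a * (s * a * s⁻¹) ≠ 1 := by
    by_contra hall
    push Not at hall
    have hC : s * z ∈ Subgroup.centralizer (A : Set S) := fun a ha => by
      have h1 : s * z * a * (s * z)⁻¹ = a := by
        rw [show s * z * a * (s * z)⁻¹ = s * (z * a * z⁻¹) * s⁻¹ by group, hinv a ha,
          eq_comm, ← inv_mul_eq_one, show a⁻¹ * (s * a⁻¹ * s⁻¹) = a⁻¹ * (s * a * s⁻¹)⁻¹ by group,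
          ← mul_inv_rev, inv_eq_one, hcomm _ (hcj s a ha) _ ha]
        exact hall a ha
      exact (mul_inv_eq_iff_eq_mul.mp h1).symm
    rw [hAC] at hC
    have h1 := h3 _ hC
    have hszc : s * z = z * s := by
      have e1 : s * z = r * z * (r * z) * s := by
        rw [hz, ← mul_assoc, hsr, mul_assoc (r * z), hsr, ← mul_assoc, hz]
      rw [e1, show r * z * (r * z) = z by
        rw [show r * z * (r * z) = r * (z * r) * z by group, show z * r = r * z by rw [hz]; group,
          show r * (r * z) * z = (r * r) * (z * z) by group, hz1, ← hz, mul_one]]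
    have h2 : (s * z) ^ 2 = 1 := by
      rw [pow_two, show s * z * (s * z) = s * (z * s) * z by group, ← hszc,
        show s * (s * z) * z = (s * s) * (z * z) by group, hs, hz1, one_mul]
    rw [pow_succ, h2, one_mul] at h1
    apply hsz
    exact (mul_eq_one_iff_eq_inv.mp h1).trans (mul_eq_one_iff_eq_inv.mp hz1).symm
  set u := a * (s * a * s⁻¹) with hu
  have huA : u ∈ A := mul_mem ha (hcj s a ha)
  have hsu : s * u * s⁻¹ = u := by
    rw [hu, show s * (a * (s * a * s⁻¹)) * s⁻¹ = (s * a * s⁻¹) * ((s * s) * a * (s * s)⁻¹) by group,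
      hs, one_mul, inv_one, mul_one, hcomm _ (hcj s a ha) _ ha]
  set w := r * u * r⁻¹ with hw
  have hwA : w ∈ A := hcj r u huA
  have hrw : r * w * r⁻¹ = u⁻¹ := by
    rw [hw, show r * (r * u * r⁻¹) * r⁻¹ = (r * r) * u * (r * r)⁻¹ by group, ← hz, hinv u huA]
  have hsw : s * w * s⁻¹ = w⁻¹ := by
    rw [hw, show s * (r * u * r⁻¹) * s⁻¹ = (s * r) * u * (s * r)⁻¹ by group, hsr,
      show r * z * s * u * (r * z * s)⁻¹ = r * (z * (s * u * s⁻¹) * z⁻¹) * r⁻¹ by group, hsu,
      hinv u huA]
    group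
  refine ⟨u, w, huA, hwA, hcomm u huA w hwA, h3 u huA, h3 w hwA, rfl, hrw, hsu, hsw,
    hinv u huA, hinv w hwA, ?_⟩
  have hle : Subgroup.closure {u, w} ≤ A := by
    rw [Subgroup.closure_le]
    rintro x (rfl | rfl)
    · exact huA
    · exact hwA
  obtain ⟨k, hk2, hk⟩ := (Nat.dvd_prime_pow Nat.prime_three).mp
    (show Nat.card (Subgroup.closure {u, w}) ∣ 3 ^ 2 by
      rw [show 3 ^ 2 = Nat.card A by rw [hA9]; rfl]; exact Subgroup.card_dvd_of_le hle)
  refine (Subgroup.eq_of_le_of_card_ge hle ?_).symm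
  rw [hk, hA9]
  by_contra hlt
  have hk1 : k ≤ 1 := by
    by_contra hk1
    apply hlt
    rw [show k = 2 by omega]
    norm_num
  have hcard : Nat.card (Subgroup.closure {u, w}) ≤ Nat.card (Subgroup.zpowers u) := by
    have := Fact.mk Nat.prime_three
    rw [Nat.card_zpowers, orderOf_eq_prime (h3 u huA) hau, hk]
    calc 3 ^ k ≤ 3 ^ 1 := Nat.pow_le_pow_right (by norm_num) hk1
      _ = 3 := pow_one 3
  have heq : Subgroup.zpowers u = Subgroup.closure {u, w} := Subgroup.eq_of_le_of_card_ge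
    (Subgroup.zpowers_le.mpr (Subgroup.subset_closure (Set.mem_insert _ _))) hcard
  have hwu : w ∈ Subgroup.zpowers u := heq ▸ Subgroup.subset_closure (Set.mem_insert_of_mem _ rfl)
  obtain ⟨j, hj⟩ := hwu
  have h1 : s * w * s⁻¹ = w := by
    simp only [← hj]
    rw [← conj_zpow, hsu]
  have h2 : w = 1 := by
    have h4 := h3 w hwA
    have h5 : w * w = 1 := by nth_rewrite 1 [← h1]; rw [hsw, inv_mul_cancel]
    rwa [pow_succ, pow_two, h5, one_mul] at h4
  exact hau (by rw [hw] at h2; simpa using h2)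

end Normal

section Module

open Subgroup

variable {S : Type*} [Group S] [Finite S] {M : Type*} [AddCommGroup M] [Module (ZMod 2) M]
  (ρ : Representation (ZMod 2) S M)

theorem h36_add_self (m : M) : m + m = 0 := by
  rw [← two_smul (ZMod 2) m, show (2 : ZMod 2) = 0 from rfl, zero_smul]

theorem h36_mul_apply (g h : S) (m : M) : ρ g (ρ h m) = ρ (g * h) m := by
  rw [map_mul, Module.End.mul_apply]

theorem h36_zmod_cases (c : ZMod 2) : c = 0 ∨ c = 1 := by
  revert c; decide

/-- The shape of the module in a normal form basis. -/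
theorem h36_core {u w r s z : S} (hz : z = r * r) (hs2 : s * s = 1) (hr4 : r * r * (r * r) = 1)
    (huw : u * w = w * u) (hu3 : u ^ 3 = 1) (hw3 : w ^ 3 = 1)
    (hru : r * u * r⁻¹ = w) (hrw : r * w * r⁻¹ = u⁻¹) (hsu : s * u * s⁻¹ = u)
    (hsw : s * w * s⁻¹ = w⁻¹) (hzu : z * u * z⁻¹ = u⁻¹) (hzw : z * w * z⁻¹ = w⁻¹)
    (hsr : s * r = r * z * s)
    (hgen : Subgroup.closure {u, w, r, s} = ⊤)
    (hfix : ∀ m : M, ρ u m = m → ρ w m = m → m = 0)
    (hirr : ∀ N : Submodule (ZMod 2) M, (∀ x : S, ∀ m ∈ N, ρ x m ∈ N) → N = ⊥ ∨ N = ⊤)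
    {m : M} (hm : m ≠ 0) (hum : ρ u m = m) :
    Nat.card M = 16 ∧
      Nat.card {x : M // ρ z x = x ∧ ρ s x = x} = 4 ∧
      Nat.card {x : M // ρ z x = x ∧ ρ (r * s) x = x} = 2 := by
  classical
  have happ := h36_mul_apply ρ
  have h22 := h36_add_self (M := M)
  have hone : ∀ x : M, ρ 1 x = x := fun x => by rw [map_one, Module.End.one_apply]
  have hz2 : z * z = 1 := by rw [hz]; exact hr4
  have hszc : s * z = z * s := by
    have e1 : s * z = r * z * (r * z) * s := by
      rw [hz, ← mul_assoc, hsr, mul_assoc (r * z), hsr, ← mul_assoc, hz]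
    rw [e1, show r * z * (r * z) = z by
      rw [show r * z * (r * z) = r * (z * r) * z by group, show z * r = r * z by rw [hz]; group,
        show r * (r * z) * z = (r * r) * (z * z) by group, hz2, ← hz, mul_one]]
  -- a vector fixed by `u`, `z` and `s`
  have hinv_fix : ∀ g : S, g * g = 1 → ∀ x : M, ρ g (x + ρ g x) = x + ρ g x := fun g hg x => by
    rw [map_add, happ, hg, hone, add_comm]
  have hmove : ∀ g : S, ∀ x : M, g * u * g⁻¹ = u ∨ g * u * g⁻¹ = u⁻¹ → ρ u x = x →
      ρ u (ρ g x) = ρ g x := by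
    intro g x hg hx
    have hx' : ρ u⁻¹ x = x := by
      nth_rewrite 1 [← hx]; rw [happ, inv_mul_cancel, hone]
    rcases hg with h | h
    · rw [happ, show u * g = g * u by nth_rewrite 1 [← h]; group, ← happ, hx]
    · rw [happ, show u * g = g * u⁻¹ by
        calc u * g = (g * u * g⁻¹)⁻¹ * g := by rw [h, inv_inv]
          _ = g * u⁻¹ := by group, ← happ, hx']
  obtain ⟨m1, hm1, hum1, hzm1⟩ : ∃ x : M, x ≠ 0 ∧ ρ u x = x ∧ ρ z x = x := by
    by_cases h0 : m + ρ z m = 0
    · refine ⟨m, hm, hum, ?_⟩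
      have := add_eq_zero_iff_eq_neg.mp h0
      rw [this, map_neg, happ, hz2, hone]
      rw [neg_eq_of_add_eq_zero_right (h22 m)]
      exact this
    · exact ⟨_, h0, by rw [map_add, hum, hmove z m (Or.inr hzu) hum], hinv_fix z hz2 m⟩
  obtain ⟨v, hv, huv, hzv, hsv⟩ : ∃ x : M, x ≠ 0 ∧ ρ u x = x ∧ ρ z x = x ∧ ρ s x = x := by
    by_cases h0 : m1 + ρ s m1 = 0
    · refine ⟨m1, hm1, hum1, hzm1, ?_⟩
      rw [← sub_eq_zero, sub_eq_add_neg, neg_eq_of_add_eq_zero_right (h22 m1), add_comm]
      exact h0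
    · refine ⟨_, h0, by rw [map_add, hum1, hmove s m1 (Or.inl hsu) hum1], ?_, hinv_fix s hs2 m1⟩
      rw [map_add, hzm1, happ, ← hszc, ← happ, hzm1]
  set a := ρ w v with ha
  have huwv : ρ u a = a := by rw [ha, happ, huw, ← happ, huv]
  have hwa : ρ w a = v + a := by
    have h0 : v + a + ρ w a = 0 := by
      apply hfix
      · rw [map_add, map_add, huv, huwv, happ, huw, ← happ, huwv]
      · rw [map_add, map_add, ← ha, ha, happ, happ, show w * (w * w) = 1 by
          rw [← pow_three, hw3], hone]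
        abel
    rw [add_eq_zero_iff_neg_eq.mp h0 |>.symm, neg_eq_of_add_eq_zero_right (h22 _)]
  have hw2 : ρ w⁻¹ v = v + a := by
    rw [← hwa, ha, happ, show w⁻¹ = w * w by
      rw [inv_eq_iff_mul_eq_one, ← pow_three, hw3]]
  have hwinv_a : ρ w⁻¹ a = v := by rw [ha, happ, inv_mul_cancel, hone]
  have hza : ρ z a = v + a := by
    rw [ha, happ, show z * w = w⁻¹ * z by rw [← hzw]; group, ← happ, hzv, hw2]
  have hsa : ρ s a = v + a := by
    rw [ha, happ, show s * w = w⁻¹ * s by rw [← hsw]; group, ← happ, hsv, hw2]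
  set b := ρ r v with hb
  set c := ρ r a with hc
  have hur : u * r = r * w⁻¹ := by
    rw [show u = (r * w * r⁻¹)⁻¹ by rw [hrw, inv_inv]]; group
  have hwr : w * r = r * u := by rw [← hru]; group
  have hub : ρ u b = b + c := by rw [hb, happ, hur, ← happ, hw2, map_add]
  have huc : ρ u c = b := by rw [hc, happ, hur, ← happ, hwinv_a, ← hb]
  have hwb : ρ w b = b := by rw [hb, happ, hwr, ← happ, huv]
  have hwc : ρ w c = c := by rw [hc, happ, hwr, ← happ, huwv]
  have hrb : ρ r b = v := by rw [hb, happ, ← hz, hzv]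
  have hrc : ρ r c = v + a := by rw [hc, happ, ← hz, hza]
  have hzr : z * r = r * z := by rw [hz]; group
  have hsb : ρ s b = b := by rw [hb, happ, hsr, ← happ, hsv, ← happ, hzv]
  have hsc : ρ s c = c := by
    rw [hc, happ, hsr, ← happ, hsa, ← happ, map_add, hzv, hza, ← add_assoc, h22, zero_add]
  have hzb : ρ z b = b := by rw [hb, happ, hzr, ← happ, hzv]
  have hzc : ρ z c = b + c := by rw [hc, happ, hzr, ← happ, hza, map_add]
  let f : (Fin 4 → ZMod 2) →ₗ[ZMod 2] M := Fintype.linearCombination (ZMod 2) ![v, a, b, c]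
  have hf : ∀ x : Fin 4 → ZMod 2, f x = x 0 • v + x 1 • a + x 2 • b + x 3 • c := fun x => by
    simp [f, Fintype.linearCombination_apply, Fin.sum_univ_four]
  have hinj : Function.Injective f := by
    rw [injective_iff_map_eq_zero]
    intro x hx
    rw [hf] at hx
    have hp : x 0 • v + x 1 • a = x 2 • b + x 3 • c := by
      have h0 : (x 0 • v + x 1 • a) + (x 2 • b + x 3 • c) = 0 := by rw [← hx]; abel
      rw [add_eq_zero_iff_eq_neg.mp h0, neg_eq_of_add_eq_zero_right (h22 _)]
    have h1 : x 0 • v + x 1 • a = 0 := by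
      apply hfix
      · simp only [map_add, map_smul, huv, huwv]
      · rw [hp]; simp only [map_add, map_smul, hwb, hwc]
    have h2 : x 0 = 0 ∧ x 1 = 0 := by
      rcases h36_zmod_cases (x 0) with e0 | e0 <;> rcases h36_zmod_cases (x 1) with e1 | e1 <;>
        simp only [e0, e1, zero_smul, one_smul, zero_add, add_zero] at h1
      · exact ⟨e0, e1⟩
      · exact absurd (by rw [← hwinv_a, h1, map_zero]) hv
      · exact absurd h1 hv
      · exfalso
        have hav : a = v := by
          rw [add_eq_zero_iff_eq_neg'.mp h1, neg_eq_of_add_eq_zero_right (h22 v)]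
        exact hv (hfix v huv hav)
    have h3 : x 2 • v + x 3 • a = 0 := by
      have h4 : ρ r (x 2 • v + x 3 • a) = 0 := by
        rw [map_add, map_smul, map_smul, ← hb, ← hc, ← hp, h1]
      have h5 := congrArg (ρ r⁻¹) h4
      rwa [happ, inv_mul_cancel, hone, map_zero] at h5
    have h4 : x 2 = 0 ∧ x 3 = 0 := by
      rcases h36_zmod_cases (x 2) with e0 | e0 <;> rcases h36_zmod_cases (x 3) with e1 | e1 <;>
        simp only [e0, e1, zero_smul, one_smul, zero_add, add_zero] at h3
      · exact ⟨e0, e1⟩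
      · exact absurd (by rw [← hwinv_a, h3, map_zero]) hv
      · exact absurd h3 hv
      · exfalso
        have hav : a = v := by
          rw [add_eq_zero_iff_eq_neg'.mp h3, neg_eq_of_add_eq_zero_right (h22 v)]
        exact hv (hfix v huv hav)
    ext i
    fin_cases i <;> simp [h2.1, h2.2, h4.1, h4.2]
  have hact : ∀ g : S, ∀ x : M, x ∈ LinearMap.range f → ρ g x ∈ LinearMap.range f := by
    let K : Submonoid S :=
      { carrier := {g | ∀ x ∈ LinearMap.range f, ρ g x ∈ LinearMap.range f}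
        one_mem' := fun x hx => by rwa [hone]
        mul_mem' := fun {g h} hg hh x hx => by rw [← happ]; exact hg _ (hh x hx) }
    intro g
    have hg : g ∈ Submonoid.closure ({u, w, r, s} : Set S) := by
      rw [← Subgroup.closure_toSubmonoid_of_finite, hgen]; trivial
    refine (Submonoid.closure_le.mpr ?_ : Submonoid.closure ({u, w, r, s} : Set S) ≤ K) hg
    rintro k hk x ⟨y, rfl⟩
    rw [hf, map_add, map_add, map_add, map_smul, map_smul, map_smul, map_smul]
    have hbasis : ∀ i : Fin 4, (![v, a, b, c]) i ∈ LinearMap.range f := fun i =>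
      ⟨Pi.single i 1, by simp [f]⟩
    have mv : v ∈ LinearMap.range f := hbasis 0
    have ma : a ∈ LinearMap.range f := hbasis 1
    have mb : b ∈ LinearMap.range f := hbasis 2
    have mc : c ∈ LinearMap.range f := hbasis 3
    rcases hk with rfl | rfl | rfl | rfl
    · rw [huv, huwv, hub, huc]
      exact add_mem (add_mem (add_mem (Submodule.smul_mem _ _ mv) (Submodule.smul_mem _ _ ma))
        (Submodule.smul_mem _ _ (add_mem mb mc))) (Submodule.smul_mem _ _ mb)
    · rw [← ha, hwa, hwb, hwc]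
      exact add_mem (add_mem (add_mem (Submodule.smul_mem _ _ ma)
        (Submodule.smul_mem _ _ (add_mem mv ma)))
        (Submodule.smul_mem _ _ mb)) (Submodule.smul_mem _ _ mc)
    · rw [← hb, ← hc, hrb, hrc]
      exact add_mem (add_mem (add_mem (Submodule.smul_mem _ _ mb) (Submodule.smul_mem _ _ mc))
        (Submodule.smul_mem _ _ mv)) (Submodule.smul_mem _ _ (add_mem mv ma))
    · rw [hsv, hsa, hsb, hsc]
      exact add_mem (add_mem (add_mem (Submodule.smul_mem _ _ mv)
        (Submodule.smul_mem _ _ (add_mem mv ma)))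
        (Submodule.smul_mem _ _ mb)) (Submodule.smul_mem _ _ mc)
  have htop : LinearMap.range f = ⊤ := by
    refine (hirr _ hact).resolve_left fun h => hv ?_
    have h1 : f (Pi.single 0 1) ∈ LinearMap.range f := LinearMap.mem_range_self _ _
    rw [h, Submodule.mem_bot] at h1
    simpa [f] using h1
  let e : (Fin 4 → ZMod 2) ≃ M :=
    Equiv.ofBijective f ⟨hinj, LinearMap.range_eq_top.mp htop⟩
  have hzf : ∀ x, ρ z (f x) = f ![x 0 + x 1, x 1, x 2 + x 3, x 3] := fun x => by
    rw [hf, hf]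
    simp only [map_add, map_smul, hzv, hza, hzb, hzc, smul_add, add_smul, Matrix.cons_val]
    abel
  have hsf : ∀ x, ρ s (f x) = f ![x 0 + x 1, x 1, x 2, x 3] := fun x => by
    rw [hf, hf]
    simp only [map_add, map_smul, hsv, hsa, hsb, hsc, smul_add, add_smul, Matrix.cons_val]
    abel
  have hrsf : ∀ x, ρ (r * s) (f x) = f ![x 2 + x 3, x 3, x 0 + x 1, x 1] := fun x => by
    rw [← happ, hsf, hf, hf]
    simp only [map_add, map_smul, ← hb, ← hc, hrb, hrc, smul_add, add_smul, Matrix.cons_val]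
    abel
  refine ⟨?_, ?_, ?_⟩
  · rw [← Nat.card_congr e, Nat.card_eq_fintype_card]
    rfl
  · rw [← Nat.card_congr (e.subtypeEquiv (p := fun x =>
      (![x 0 + x 1, x 1, x 2 + x 3, x 3] : Fin 4 → ZMod 2) = x ∧
        (![x 0 + x 1, x 1, x 2, x 3] : Fin 4 → ZMod 2) = x) (fun x => by
      show _ ↔ ρ z (f x) = f x ∧ ρ s (f x) = f x
      rw [hzf, hsf, hinj.eq_iff, hinj.eq_iff])), Nat.card_eq_fintype_card]
    decide +kernel
  · rw [← Nat.card_congr (e.subtypeEquiv (p := fun x =>
      (![x 0 + x 1, x 1, x 2 + x 3, x 3] : Fin 4 → ZMod 2) = x ∧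
        (![x 2 + x 3, x 3, x 0 + x 1, x 1] : Fin 4 → ZMod 2) = x) (fun x => by
      show _ ↔ ρ z (f x) = f x ∧ ρ (r * s) (f x) = f x
      rw [hzf, hrsf, hinj.eq_iff, hinj.eq_iff])), Nat.card_eq_fintype_card]
    decide +kernel

end Module

/-- Let S be a finite group with a normal elementary abelian subgroup A of order 9 that is self-centralizing (C_S(A) = A), and a dihedral subgroup X of order 8 with S = AX. Let M be a finite-dimensional module for S over the field with two elements that is faithful and irreducible. Then M has 16 elements, and X contains exactly one subgroup B of order 4 and exponent 2 whose fixed points on M form a subspace with exactly 2 elements (equivalently, M is free of rank one over the group algebra of B). -/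
theorem result {S : Type*} [Group S] [Finite S]
    (A : Subgroup S) [A.Normal] (hA : Cfsg.IsElementaryAbelian 3 A) (hA9 : Nat.card ↥A = 9)
    (hAC : Subgroup.centralizer (A : Set S) = A) (X : Subgroup S) (hX : Nonempty (↥X ≃* DihedralGroup 4)) (hAX : A ⊔ X = ⊤)
    {M : Type*} [AddCommGroup M] [Module (ZMod 2) M] [Finite M] (ρ : Representation (ZMod 2) S M)
    (hfaith : Function.Injective ρ)
    (hirr : ∀ N : Submodule (ZMod 2) M, (∀ s : S, ∀ m ∈ N, ρ s m ∈ N) → N = ⊥ ∨ N = ⊤) (hM : Nontrivial M) :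
    Nat.card M = 16 ∧
      ∃! B : Subgroup S, B ≤ X ∧ Nat.card ↥B = 4 ∧ (∀ b ∈ B, b ^ 2 = 1) ∧
        Nat.card {m : M // ∀ b ∈ B, ρ b m = m} = 2 := by
  classical
  obtain ⟨e⟩ := hX
  let ψ : DihedralGroup 4 →* S := X.subtype.comp e.symm.toMonoidHom
  have hψinj : Function.Injective ψ := X.subtype_injective.comp e.symm.injective
  have hψX : ∀ x : S, x ∈ X ↔ ∃ d, ψ d = x := fun x =>
    ⟨fun hx => ⟨e ⟨x, hx⟩, by simp [ψ]⟩, by rintro ⟨d, rfl⟩; exact (e.symm d).2⟩
  set r := ψ (DihedralGroup.r 1) with hr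
  set s := ψ (DihedralGroup.sr 0) with hs
  set z := r * r with hz
  have hzψ : z = ψ (DihedralGroup.r 2) := by
    rw [hz, hr, ← map_mul, DihedralGroup.r_mul_r]; rfl
  have hs2 : s * s = 1 := by rw [hs, ← map_mul, DihedralGroup.sr_mul_self, map_one]
  have hr4 : r * r * (r * r) = 1 := by
    rw [hr, ← map_mul, ← map_mul,
      show DihedralGroup.r 1 * DihedralGroup.r 1 * (DihedralGroup.r 1 * DihedralGroup.r 1) =
        (1 : DihedralGroup 4) by decide +kernel, map_one]
  have hzne : z ≠ 1 := by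
    rw [hzψ, Ne, map_eq_one_iff ψ hψinj]; decide
  have hsz : s ≠ z := by
    rw [hzψ, hs, hψinj.ne_iff]; decide
  have hsr : s * r = r * z * s := by
    rw [hz, hr, hs, ← map_mul, ← map_mul, ← map_mul, ← map_mul,
      show DihedralGroup.sr 0 * DihedralGroup.r 1 =
        DihedralGroup.r 1 * (DihedralGroup.r 1 * DihedralGroup.r 1) * (DihedralGroup.sr 0 :
          DihedralGroup 4) by decide +kernel]
  obtain ⟨u, w, huA, hwA, huw, hu3, hw3, hru, hrw, hsu, hsw, hzu, hzw, hAcl⟩ :=
    h36_normal_form hA hA9 hAC hz hr4 hzne hs2 hsz hsr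
  -- generation
  have hgen : Subgroup.closure {u, w, r, s} = ⊤ := by
    rw [eq_top_iff, ← hAX, sup_le_iff]
    refine ⟨?_, fun x hx => ?_⟩
    · rw [hAcl]
      refine Subgroup.closure_mono ?_
      rintro x (rfl | rfl) <;> simp
    · obtain ⟨d, rfl⟩ := (hψX x).mp hx
      have hrm : r ∈ Subgroup.closure {u, w, r, s} := Subgroup.subset_closure (by simp)
      have hsm : s ∈ Subgroup.closure {u, w, r, s} := Subgroup.subset_closure (by simp)
      rcases d with i | i
      · rw [show DihedralGroup.r i = (DihedralGroup.r 1 : DihedralGroup 4) ^ i.val by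
          rw [DihedralGroup.r_one_pow, ZMod.natCast_zmod_val], map_pow]
        exact pow_mem hrm _
      · rw [show DihedralGroup.sr i =
            DihedralGroup.sr 0 * (DihedralGroup.r 1 : DihedralGroup 4) ^ i.val by
          rw [DihedralGroup.r_one_pow, ZMod.natCast_zmod_val, DihedralGroup.sr_mul_r, zero_add],
          map_mul, map_pow]
        exact mul_mem hsm (pow_mem hrm _)
  -- no fixed points of `A`
  let C : Submodule (ZMod 2) M :=
    { carrier := {m | ∀ a ∈ A, ρ a m = m}
      zero_mem' := fun a _ => map_zero _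
      add_mem' := fun {x y} hx hy a ha => by rw [map_add, hx a ha, hy a ha]
      smul_mem' := fun c x hx a ha => by rw [map_smul, hx a ha] }
  have hC : C = ⊥ := by
    refine (hirr C fun x m hm a ha => ?_).resolve_right fun htop => ?_
    · rw [h36_mul_apply, show a * x = x * (x⁻¹ * a * x) by group, ← h36_mul_apply, hm]
      simpa using (inferInstance : A.Normal).conj_mem a ha x⁻¹
    · haveI : Nontrivial A := Finite.one_lt_card_iff_nontrivial.mp (by omega)
      obtain ⟨⟨a, ha⟩, hane⟩ := exists_ne (1 : A)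
      refine hane (Subtype.ext (hfaith ?_))
      show ρ a = ρ 1
      rw [map_one]
      refine LinearMap.ext fun m => ?_
      have hm : m ∈ C := htop ▸ Submodule.mem_top
      exact hm a ha
  have hfix : ∀ u' w' : S, A ≤ Subgroup.closure {u', w'} → ∀ m : M, ρ u' m = m → ρ w' m = m →
      m = 0 := by
    intro u' w' hcl m hum hwm
    have hm : m ∈ C := by
      intro a ha
      refine Subgroup.closure_induction (p := fun g _ => ρ g m = m) ?_ ?_ ?_ ?_ (hcl ha)
      · rintro x (rfl | rfl)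
        · exact hum
        · exact hwm
      · rw [map_one, Module.End.one_apply]
      · intro x y _ _ hx hy; rw [← h36_mul_apply, hy, hx]
      · intro x _ hx
        nth_rewrite 1 [← hx]
        rw [h36_mul_apply, inv_mul_cancel, map_one, Module.End.one_apply]
    rw [hC] at hm
    exact hm
  have hfix0 := hfix u w hAcl.le
  -- some generator of a line has a nonzero fixed point
  have hline : ∃ m : M, m ≠ 0 ∧ (ρ u m = m ∨ ρ (u * w) m = m) := by
    obtain ⟨m, hm⟩ := exists_ne (0 : M)
    by_contra hno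
    push Not at hno
    have happ := h36_mul_apply ρ
    have h3fix : ∀ g : S, g ^ 3 = 1 → ∀ x : M, ρ g (x + ρ g x + ρ g (ρ g x)) =
        x + ρ g x + ρ g (ρ g x) := fun g hg x => by
      rw [map_add, map_add]
      nth_rewrite 3 [happ]
      rw [happ g g, happ g (g * g), ← pow_three, hg, map_one, Module.End.one_apply]
      abel
    have hr' : ∀ g : S, ∀ x : M, ρ (r * g * r⁻¹) x = x → ρ g (ρ r⁻¹ x) = ρ r⁻¹ x := fun g x hx => by
      rw [happ, show g * r⁻¹ = r⁻¹ * (r * g * r⁻¹) by group, ← happ, hx]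
    have hrne : ∀ x : M, x ≠ 0 → ρ r⁻¹ x ≠ 0 := fun x hx h0 => hx (by
      have := congrArg (ρ r) h0
      rwa [happ, mul_inv_cancel, map_one, Module.End.one_apply, map_zero] at this)
    have hnw : ∀ x : M, ρ w x = x → x = 0 := fun x hx => by
      by_contra hx0
      exact (hno _ (hrne x hx0)).1 (hr' u x (by rw [hru]; exact hx))
    have hnuw : ∀ x : M, ρ (u * w⁻¹) x = x → x = 0 := fun x hx => by
      by_contra hx0
      refine (hno _ (hrne x hx0)).2 (hr' (u * w) x ?_)
      rw [show r * (u * w) * r⁻¹ = (r * u * r⁻¹) * (r * w * r⁻¹) by group, hru, hrw,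
        show w * u⁻¹ = (u * w⁻¹)⁻¹ by group]
      nth_rewrite 1 [← hx]
      rw [happ, inv_mul_cancel, map_one, Module.End.one_apply]
    have hnu : ∀ x : M, ρ u x = x → x = 0 := fun x hx => by
      by_contra hx0; exact (hno x hx0).1 hx
    have hnu' : ∀ x : M, ρ (u * w) x = x → x = 0 := fun x hx => by
      by_contra hx0; exact (hno x hx0).2 hx
    have hcuw : Commute u w := huw
    have h1 := hnu _ (h3fix u hu3 m)
    have h2 := hnw _ (h3fix w hw3 m)
    have h3 := hnu' _ (h3fix (u * w) (by rw [hcuw.mul_pow, hu3, hw3, one_mul]) m)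
    have h4 := hnuw _ (h3fix (u * w⁻¹) (by
      rw [hcuw.inv_right.mul_pow, inv_pow, hu3, hw3, inv_one, one_mul]) m)
    set S9 := m + ρ u m + ρ (u * u) m + (ρ w m + ρ (w * w) m) + (ρ (u * w) m + ρ (u * w * (u * w)) m)
      + (ρ (u * w⁻¹) m + ρ (u * w⁻¹ * (u * w⁻¹)) m) with hS9
    have hw' : w⁻¹ = w * w := by rw [inv_eq_iff_mul_eq_one, ← pow_three, hw3]
    have hu' : u⁻¹ = u * u := by rw [inv_eq_iff_mul_eq_one, ← pow_three, hu3]
    have e1 : u * w * (u * w) = u * u * (w * w) := by
      rw [show u * w * (u * w) = u * (w * u) * w by group, ← huw]; group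
    have e2 : u * w⁻¹ * (u * w⁻¹) = u * u * w := by
      rw [show u * w⁻¹ * (u * w⁻¹) = u * (w⁻¹ * u) * w⁻¹ by group, ← hcuw.inv_right.eq,
        show u * (u * w⁻¹) * w⁻¹ = u * u * (w⁻¹ * w⁻¹) by group, hw',
        show w * w * (w * w) = (w * (w * w)) * w by group, ← pow_three, hw3, one_mul]
    rw [e1, e2, hw'] at hS9
    have hu3' : u * (u * u) = 1 := by rw [← pow_three, hu3]
    have hw3' : w * (w * w) = 1 := by rw [← pow_three, hw3]
    have hS0 : S9 = 0 := by
      apply hfix0
      · rw [hS9]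
        simp only [map_add, happ, ← mul_assoc]
        simp only [show u * u * u = 1 by rw [mul_assoc, hu3'], one_mul, map_one,
          Module.End.one_apply, mul_assoc]
        abel
      · have c1 : w * u = u * w := huw.symm
        have c2 : w * (u * u) = u * u * w := ((hcuw.mul_left hcuw).eq).symm
        have c3 : w * (u * w) = u * (w * w) := by rw [← mul_assoc, c1, mul_assoc]
        have c4 : w * (u * u * (w * w)) = u * u := by
          rw [← mul_assoc, c2, mul_assoc, hw3', mul_one]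
        have c5 : w * (u * (w * w)) = u := by rw [← mul_assoc, c1, mul_assoc, hw3', mul_one]
        have c6 : w * (u * u * w) = u * u * (w * w) := by rw [← mul_assoc, c2, mul_assoc]
        rw [hS9]
        simp only [map_add, happ, c1, c2, c3, c4, c5, c6, hw3', map_one, Module.End.one_apply]
        abel
    apply hm
    simp only [happ] at h1 h2 h3 h4
    rw [e1] at h3
    rw [e2, hw'] at h4
    have q := h36_add_self (M := M)
    calc m = m + ((m + m) + (S9 + S9)) := by rw [q, q, add_zero, add_zero]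
      _ = (m + ρ u m + ρ (u * u) m) + (m + ρ w m + ρ (w * w) m)
          + (m + ρ (u * w) m + ρ (u * u * (w * w)) m)
          + (m + ρ (u * (w * w)) m + ρ (u * u * w) m) + S9 := by
          rw [hS9]
          abel
      _ = 0 := by rw [h1, h2, h3, h4, hS0]; simp
  -- the two fixed point counts
  have hcounts : Nat.card M = 16 ∧
      ((Nat.card {x : M // ρ z x = x ∧ ρ s x = x} = 4 ∧
        Nat.card {x : M // ρ z x = x ∧ ρ (r * s) x = x} = 2) ∨
      (Nat.card {x : M // ρ z x = x ∧ ρ s x = x} = 2 ∧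
        Nat.card {x : M // ρ z x = x ∧ ρ (r * s) x = x} = 4)) := by
    obtain ⟨m, hm, hum | hum⟩ := hline
    · obtain ⟨c0, c1, c2⟩ := h36_core ρ hz hs2 hr4 huw hu3 hw3 hru hrw hsu hsw hzu hzw hsr hgen
        hfix0 hirr hm hum
      exact ⟨c0, Or.inl ⟨c1, c2⟩⟩
    · have hcuw : Commute u w := huw
      set u' := u * w with hu'
      set w' := w * u⁻¹ with hw'
      set s' := r * s with hs'
      have hru' : r * u' * r⁻¹ = w' := by
        rw [hu', show r * (u * w) * r⁻¹ = (r * u * r⁻¹) * (r * w * r⁻¹) by group, hru, hrw]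
      have hrw' : r * w' * r⁻¹ = u'⁻¹ := by
        rw [hw', show r * (w * u⁻¹) * r⁻¹ = (r * w * r⁻¹) * (r * u * r⁻¹)⁻¹ by group, hru, hrw,
          hu', hcuw.eq, mul_inv_rev]
      have hsu' : s' * u' * s'⁻¹ = u' := by
        rw [hs', hu', show r * s * (u * w) * (r * s)⁻¹ =
          r * ((s * u * s⁻¹) * (s * w * s⁻¹)) * r⁻¹ by group, hsu, hsw,
          show r * (u * w⁻¹) * r⁻¹ = (r * u * r⁻¹) * (r * w * r⁻¹)⁻¹ by group, hru, hrw, inv_inv,
          hcuw.eq]
      have hsw' : s' * w' * s'⁻¹ = w'⁻¹ := by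
        rw [hs', hw', show r * s * (w * u⁻¹) * (r * s)⁻¹ =
          r * ((s * w * s⁻¹) * (s * u * s⁻¹)⁻¹) * r⁻¹ by group, hsu, hsw,
          show r * (w⁻¹ * u⁻¹) * r⁻¹ = (r * w * r⁻¹)⁻¹ * (r * u * r⁻¹)⁻¹ by group, hru, hrw,
          inv_inv, mul_inv_rev, inv_inv]
      have hzu' : z * u' * z⁻¹ = u'⁻¹ := by
        rw [hu', show z * (u * w) * z⁻¹ = (z * u * z⁻¹) * (z * w * z⁻¹) by group, hzu, hzw,
          hcuw.inv_inv.eq, ← mul_inv_rev]
      have hzw' : z * w' * z⁻¹ = w'⁻¹ := by
        rw [hw', show z * (w * u⁻¹) * z⁻¹ = (z * w * z⁻¹) * (z * u * z⁻¹)⁻¹ by group, hzu, hzw,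
          inv_inv, mul_inv_rev, inv_inv, hcuw.inv_right.eq]
      have hzz : z * z = 1 := hr4
      have hrr : r * r = z := hz.symm
      have hs'2 : s' * s' = 1 := by
        rw [hs', show r * s * (r * s) = r * (s * r) * s by group, hsr,
          show r * (r * z * s) * s = (r * r) * z * (s * s) by group, hrr, hzz, hs2, one_mul]
      have hsr' : s' * r = r * z * s' := by
        rw [hs', mul_assoc r s r, hsr, show r * (r * z * s) = (r * r) * z * s by group, hrr, hzz,
          one_mul]
        have hzr : z * r = r * z := by rw [hz]; group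
        rw [show r * z * (r * s) = r * (z * r) * s by group, hzr,
          show r * (r * z) * s = (r * r) * z * s by group, hrr, hzz, one_mul]
      have hu'3 : u' ^ 3 = 1 := by rw [hu', hcuw.mul_pow, hu3, hw3, one_mul]
      have hw'3 : w' ^ 3 = 1 := by
        rw [hw', hcuw.symm.inv_right.mul_pow, inv_pow, hu3, hw3, inv_one, one_mul]
      have hcomm' : u' * w' = w' * u' :=
        ((hcuw.mul_left (Commute.refl w)).mul_right
          (((Commute.refl u).mul_left hcuw.symm).inv_right)).eq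
      have hcl' : ({u, w} : Set S) ⊆ Subgroup.closure ({u', w'} : Set S) := by
        have h1 : u' ∈ Subgroup.closure {u', w'} := Subgroup.subset_closure (by simp)
        have h2 : w' ∈ Subgroup.closure {u', w'} := Subgroup.subset_closure (by simp)
        have hw2 : u' * w' = w * w := by
          rw [hu', hw', show u * w * (w * u⁻¹) = u * (w * w) * u⁻¹ by group,
            (hcuw.mul_right hcuw).eq, mul_inv_cancel_right]
        have hwm : w ∈ Subgroup.closure {u', w'} := by
          have h3 : w = u' * w' * (u' * w') := by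
            rw [hw2, show w * w * (w * w) = w ^ 3 * w by rw [pow_three]; group, hw3, one_mul]
          rw [h3]; exact mul_mem (mul_mem h1 h2) (mul_mem h1 h2)
        rintro x (rfl | rfl)
        · have h4 : x = u' * w⁻¹ := by rw [hu', mul_inv_cancel_right]
          rw [h4]; exact mul_mem h1 (inv_mem hwm)
        · exact hwm
      have hA' : A ≤ Subgroup.closure {u', w'} := hAcl.le.trans ((Subgroup.closure_le _).mpr hcl')
      have hgen' : Subgroup.closure {u', w', r, s'} = ⊤ := by
        rw [eq_top_iff, ← hgen, Subgroup.closure_le]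
        have h1 : r ∈ Subgroup.closure {u', w', r, s'} := Subgroup.subset_closure (by simp)
        have h2 : s' ∈ Subgroup.closure {u', w', r, s'} := Subgroup.subset_closure (by simp)
        have h3 : Subgroup.closure {u', w'} ≤ Subgroup.closure {u', w', r, s'} :=
          Subgroup.closure_mono (by rintro x (rfl | rfl) <;> simp)
        rintro x (rfl | rfl | rfl | rfl)
        · exact h3 (hA' huA)
        · exact h3 (hA' hwA)
        · exact h1
        · have h4 : s = r⁻¹ * s' := by rw [hs', inv_mul_cancel_left]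
          rw [h4]; exact mul_mem (inv_mem h1) h2
      obtain ⟨c0, c1, c2⟩ := h36_core ρ hz hs'2 hr4 hcomm' hu'3 hw'3 hru' hrw' hsu' hsw' hzu'
        hzw' hsr' hgen' (hfix u' w' hA') hirr hm hum
      refine ⟨c0, Or.inr ⟨?_, c1⟩⟩
      refine Eq.trans ?_ c2
      refine Nat.card_congr (Equiv.subtypeEquivRight fun x => ?_)
      have hrs : r * s' = z * s := by rw [hs', ← mul_assoc, ← hz]
      refine and_congr_right fun hzx => ?_
      rw [hrs, ← h36_mul_apply]
      constructor
      · intro h; rw [h, hzx]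
      · intro h
        have h5 := congrArg (ρ z) h
        rwa [h36_mul_apply ρ z z, hzz, map_one, Module.End.one_apply, hzx] at h5
  refine ⟨hcounts.1, ?_⟩
  -- the four-groups
  let Bs : ZMod 4 → Subgroup S := fun i => (h36FourSub i).map ψ
  have hBfix : ∀ i : ZMod 4, Nat.card {m : M // ∀ b ∈ Bs i, ρ b m = m} =
      Nat.card {x : M // ρ z x = x ∧ ρ (ψ (DihedralGroup.sr i)) x = x} := fun i => by
    refine Nat.card_congr (Equiv.subtypeEquivRight fun x => ⟨fun h => ⟨?_, ?_⟩, ?_⟩)
    · rw [hzψ]; exact h _ ⟨_, by simp [h36FourSub, h36Four], rfl⟩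
    · exact h _ ⟨_, by simp [h36FourSub, h36Four], rfl⟩
    · rintro ⟨h1, h2⟩ b ⟨d, hd, rfl⟩
      rw [hzψ] at h1
      have hd' : d ∈ h36Four i := hd
      simp only [h36Four, Finset.mem_insert, Finset.mem_singleton] at hd'
      rcases hd' with rfl | rfl | rfl | rfl
      · rw [map_one, map_one, Module.End.one_apply]
      · exact h1
      · exact h2
      · rw [map_mul, ← h36_mul_apply, h1, h2]
  have hrs : ψ (DihedralGroup.sr 3) = r * s := by
    rw [hr, hs, ← map_mul,
      show DihedralGroup.r 1 * DihedralGroup.sr 0 = (DihedralGroup.sr 3 : DihedralGroup 4) by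
        decide +kernel]
  have hBprop : ∀ i : ZMod 4, Bs i ≤ X ∧ Nat.card (Bs i) = 4 ∧ ∀ b ∈ Bs i, b ^ 2 = 1 := fun i => by
    refine ⟨?_, ?_, ?_⟩
    · rintro b ⟨d, -, rfl⟩; exact (hψX _).mpr ⟨d, rfl⟩
    · rw [Subgroup.card_map_of_injective hψinj]
      show Nat.card (h36Four i : Set (DihedralGroup 4)) = 4
      rw [Nat.card_coe_set_eq, Set.ncard_coe_finset, (h36_dihedral_closed i).1]
    · rintro b ⟨d, hd, rfl⟩
      rw [pow_two, ← map_mul, (h36_dihedral_closed i).2.1 d hd, map_one]
  have hclass : ∀ B : Subgroup S, B ≤ X → Nat.card B = 4 → (∀ b ∈ B, b ^ 2 = 1) →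
      B = Bs 0 ∨ B = Bs 3 := by
    intro B hBX hB4 hB2
    let T : Finset (DihedralGroup 4) := Finset.univ.filter fun d => ψ d ∈ B
    have hBT : ∀ x, x ∈ B ↔ ∃ d ∈ T, ψ d = x := fun x =>
      ⟨fun hx => by
        obtain ⟨d, rfl⟩ := (hψX x).mp (hBX hx)
        exact ⟨d, by simpa [T] using hx, rfl⟩,
       by rintro ⟨d, hd, rfl⟩; simpa [T] using hd⟩
    have hT : T.card = 4 := by
      have himg : (T.image ψ : Set S) = (B : Set S) := by
        ext x
        rw [Finset.coe_image, Set.mem_image]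
        simp only [Finset.mem_coe, SetLike.mem_coe]
        exact (hBT x).symm
      rw [← Finset.card_image_of_injective T hψinj, ← Set.ncard_coe_finset, himg,
        ← Nat.card_coe_set_eq]
      exact hB4
    have h2 : ∀ d ∈ T, d * d = 1 := fun d hd => hψinj (by
      rw [map_mul, map_one, ← pow_two]; exact hB2 _ ((hBT _).mpr ⟨d, hd, rfl⟩))
    have h3 : ∀ a ∈ T, ∀ b ∈ T, a * b ∈ T := fun a ha b hb => by
      simp only [T, Finset.mem_filter, Finset.mem_univ, true_and] at ha hb ⊢
      rw [map_mul]; exact mul_mem ha hb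
    rcases h36_four_cases T hT h2 h3 with hT' | hT'
    · left
      ext x
      rw [hBT, hT']
      rfl
    · right
      ext x
      rw [hBT, hT']
      rfl
  rcases hcounts.2 with ⟨c1, c2⟩ | ⟨c1, c2⟩
  · refine ⟨Bs 3, ⟨(hBprop 3).1, (hBprop 3).2.1, (hBprop 3).2.2, by rw [hBfix, hrs]; exact c2⟩, ?_⟩
    rintro B ⟨hBX, hB4, hB2, hBf⟩
    rcases hclass B hBX hB4 hB2 with rfl | rfl
    · rw [hBfix 0, ← hs, c1] at hBf; omega
    · rfl
  · refine ⟨Bs 0, ⟨(hBprop 0).1, (hBprop 0).2.1, (hBprop 0).2.2, by rw [hBfix, ← hs]; exact c1⟩, ?_⟩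
    rintro B ⟨hBX, hB4, hB2, hBf⟩
    rcases hclass B hBX hB4 hB2 with rfl | rfl
    · rfl
    · rw [hBfix 3, hrs, c2] at hBf; omega

end Cfsg.Agent.S4407
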