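import Cfsg.Statements.S4408
import Cfsg.Agent.H9.Thompson
import Cfsg.Agent.H1.Fitting
import Cfsg.Agent.CompLayer

set_option autoImplicit false
open Cfsg

namespace Cfsg.Agent.S4408

/-- Let S be a finite solvable group whose Fitting subgroup F(S) has odd order, and let I be an elementary abelian 2-subgroup of S of order 2ⁿ with n ≥ 1. Then F(S) contains subgroups A₁, …, Aₙ of prime order, each normalized by I, pairwise commuting and generating a subgroup A of order |A₁|⋯|Aₙ| (their internal direct product), such that no non-identity element of I centralizes A. -/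
theorem result {S : Type*} [Group S] [Finite S]
    [Group.IsSolvable S] (hF : Odd (Nat.card ↥(Cfsg.fittingSubgroup S)))
    (I : Subgroup S) (hI : Cfsg.IsElementaryAbelian 2 I) (n : ℕ) (hn : 1 ≤ n) (hIn : Nat.card ↥I = 2 ^ n) :
    ∃ f : Fin n → Subgroup S, (∀ i, (Nat.card ↥(f i)).Prime) ∧ (∀ i, f i ≤ Cfsg.fittingSubgroup S) ∧
      (∀ i, I ≤ Subgroup.normalizer ((f i) : Set S)) ∧ (∀ i j, i ≠ j → ∀ a ∈ f i, ∀ b ∈ f j, a * b = b * a) ∧
      Nat.card ↥(⨆ i, f i) = ∏ i, Nat.card ↥(f i) ∧ I ⊓ Subgroup.centralizer ((⨆ i, f i : Subgroup S) : Set S) = ⊥ := by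
  classical
  set F := Cfsg.fittingSubgroup S with hFdef
  haveI hFn : F.Normal := Subgroup.sSup_normal _ fun _ h => h.1
  haveI hFnil : Group.IsNilpotent ↥F := Cfsg.Comp.fitting_isNilpotent
  have hI2 : ∀ a ∈ I, a * a = 1 := fun a ha => by rw [← pow_two]; exact hI.2 a ha
  have hIc : ∀ a ∈ I, ∀ b ∈ I, a * b = b * a := fun a ha b hb =>
    congrArg Subtype.val (hI.1.is_comm.comm (⟨a, ha⟩ : ↥I) ⟨b, hb⟩)
  have hCF : Subgroup.centralizer (F : Set S) ≤ F :=
    H1.centralizer_fitting_le_of_isSolvable inferInstance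
  have hfaith : I ⊓ Subgroup.centralizer (F : Set S) = ⊥ := by
    rw [eq_bot_iff]
    refine (inf_le_inf le_rfl hCF).trans ?_
    have h := Subgroup.disjoint_of_coprime_natCard (H := I) (K := F)
      (by rw [hIn]; exact (Nat.coprime_two_left.2 hF).pow_left n)
    exact le_of_eq h.eq_bot
  obtain ⟨a, v, hav, hall, hcom, hgen⟩ := H9.exists_dihedral_family I hIc hI2 n I F le_rfl hIn hFnil hF
    (fun x _ => by rw [Subgroup.normalizer_eq_top_iff.2 hFn]; trivial) hfaith
  choose p hp hpv using fun i => Nat.exists_prime_and_dvd (n := orderOf (v i))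
    (fun h => (hav i).2.2.1 (orderOf_eq_one_iff.1 h))
  let w : Fin n → S := fun i => v i ^ (orderOf (v i) / p i)
  have hw : ∀ i, orderOf (w i) = p i := fun i => orderOf_pow_orderOf_div (orderOf_pos (v i)).ne' (hpv i)
  have hp2 : ∀ i, p i ≠ 2 := fun i h => by
    have h1 : p i ∣ Nat.card ↥F := (hpv i).trans (Subgroup.orderOf_dvd_natCard F (hav i).2.1)
    rw [h] at h1
    exact (Nat.not_even_iff_odd.2 hF) (even_iff_two_dvd.2 h1)
  have hwc : ∀ i j, i ≠ j → Commute (w i) (w j) := fun i j hij =>
    (show Commute (v i) (v j) from (hcom i j hij).2).pow_pow _ _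
  have haw : ∀ i j, i ≠ j → Commute (a i) (w j) := fun i j hij =>
    (show Commute (a i) (v j) from (hcom i j hij).1).pow_right _
  have hainv : ∀ i, a i * w i * (a i)⁻¹ = (w i)⁻¹ := fun i => by
    show a i * v i ^ (orderOf (v i) / p i) * (a i)⁻¹ = _
    rw [← conj_pow, (hav i).2.2.2, inv_pow]
  have hnc : ∀ (i : Fin n) (k : ℤ), Commute (a i) (w i ^ k) → w i ^ k = 1 := by
    intro i k hk
    have h1 : a i * w i ^ k * (a i)⁻¹ = w i ^ k := by rw [hk.eq]; group
    rw [← conj_zpow, hainv, inv_zpow] at h1
    have h2 : (w i ^ k) ^ 2 = 1 := by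
      rw [pow_two]; nth_rewrite 1 [← h1]; exact inv_mul_cancel _
    have h3 : orderOf (w i ^ k) ∣ p i := hw i ▸ by
      refine orderOf_dvd_of_pow_eq_one ?_
      rw [← zpow_natCast, ← zpow_mul, mul_comm, zpow_mul, zpow_natCast, pow_orderOf_eq_one, one_zpow]
    rw [← orderOf_eq_one_iff]
    refine Nat.eq_one_of_dvd_coprimes ((Nat.coprime_primes Nat.prime_two (hp i)).2 (hp2 i).symm)
      (orderOf_dvd_of_pow_eq_one h2) h3
  have hcomm : Pairwise fun i j : Fin n => ∀ x y : S, x ∈ Subgroup.zpowers (w i) →
      y ∈ Subgroup.zpowers (w j) → Commute x y := by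
    rintro i j hij x y ⟨k, rfl⟩ ⟨l, rfl⟩
    exact (hwc i j hij).zpow_zpow k l
  refine ⟨fun i => Subgroup.zpowers (w i), fun i => by rw [Nat.card_zpowers, hw]; exact hp i,
    fun i => Subgroup.zpowers_le.2 (pow_mem (hav i).2.1 _), fun i c hc => ?_,
    fun i j hij x hx y hy => (hcomm hij x y hx hy).eq, ?_, ?_⟩
  · -- every element of `I` fixes or inverts each generator
    rw [Subgroup.mem_normalizer_iff_map_conj_eq, MonoidHom.map_zpowers]
    show Subgroup.zpowers (c * v i ^ (orderOf (v i) / p i) * c⁻¹) = _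
    rw [← conj_pow]
    rcases hall i c hc with h | h <;> rw [h]
    rw [inv_pow, Subgroup.zpowers_inv]
  · have hind : iSupIndep fun i => Subgroup.zpowers (w i) := by
      intro i
      rw [disjoint_iff, eq_bot_iff]
      rintro x ⟨hx, hxj⟩
      obtain ⟨k, rfl⟩ := hx
      refine hnc i k ?_
      have hle : (⨆ j, ⨆ (_ : j ≠ i), Subgroup.zpowers (w j)) ≤ Subgroup.centralizer {a i} :=
        iSup₂_le fun j hj => Subgroup.zpowers_le.2
          (Subgroup.mem_centralizer_singleton_iff.2 (haw i j hj.symm).symm.eq)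
      exact (show Commute _ (a i) from Subgroup.mem_centralizer_singleton_iff.1 (hle hxj)).symm
    have hinj := Subgroup.injective_noncommPiCoprod_of_iSupIndep (hcomm := hcomm) hind
    rw [← Subgroup.noncommPiCoprod_range (hcomm := hcomm),
      ← Nat.card_congr (MonoidHom.ofInjective hinj).toEquiv, Nat.card_pi]
  · rw [eq_bot_iff]
    rintro c ⟨hcI, hc⟩
    have key : ∀ s : Finset (Fin n), c ∈ ⨆ j ∈ (Finset.univ \ s), Subgroup.zpowers (a j) := by
      intro s
      induction s using Finset.induction_on with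
      | empty => simpa [← hgen] using hcI
      | insert i s his ih =>
        have hle : (⨆ j ∈ (Finset.univ \ s), Subgroup.zpowers (a j)) ≤
            Subgroup.zpowers (a i) ⊔ ⨆ j ∈ (Finset.univ \ insert i s), Subgroup.zpowers (a j) := by
          refine iSup₂_le fun j hj => ?_
          by_cases hji : j = i
          · subst hji; exact le_sup_left
          · refine le_sup_of_le_right (le_iSup₂_of_le j ?_ le_rfl)
            simp at hj ⊢
            exact ⟨hji, hj⟩
        set D := ⨆ j ∈ (Finset.univ \ insert i s), Subgroup.zpowers (a j) with hDdef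
        have hDI : D ≤ I := iSup₂_le fun j _ => Subgroup.zpowers_le.2 (hav j).1
        have hnorm : Subgroup.zpowers (a i) ≤ Subgroup.normalizer (D : Set S) :=
          le_trans (Subgroup.le_centralizer_iff.1 fun d hd => Subgroup.mem_centralizer_iff.2 fun x hx => by
            obtain ⟨m, rfl⟩ := hx
            exact hIc _ (I.zpow_mem (hav i).1 m) d (hDI hd)) (Subgroup.centralizer_le_normalizer _)
        have hmem : c ∈ ((Subgroup.zpowers (a i) ⊔ D : Subgroup S) : Set S) := hle ih
        rw [Subgroup.coe_mul_of_left_le_normalizer_right _ _ hnorm] at hmem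
        obtain ⟨_, ⟨m, rfl⟩, d, hd, rfl⟩ := hmem
        have hDw : D ≤ Subgroup.centralizer {w i} := iSup₂_le fun j hj => Subgroup.zpowers_le.2
          (Subgroup.mem_centralizer_singleton_iff.2 (haw j i (fun h => by subst h; simp at hj)).eq)
        have hcw : Commute (a i ^ m * d) (w i) :=
          (Subgroup.mem_centralizer_iff.1 hc (w i)
            (le_iSup (fun i => Subgroup.zpowers (w i)) i (Subgroup.mem_zpowers _))).symm
        have hd' : Commute d (w i) := Subgroup.mem_centralizer_singleton_iff.1 (hDw hd)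
        have ham : Commute (a i ^ m) (w i) := by
          have := hcw.mul_left hd'.inv_left
          simpa using this
        have hone : a i ^ m = 1 := by
          rcases Int.even_or_odd m with ⟨t, rfl⟩ | ⟨t, rfl⟩
          · rw [zpow_add, ← (Commute.refl (a i)).mul_zpow, hI2 _ (hav i).1, one_zpow]
          · exfalso
            rw [zpow_add, zpow_one, two_mul, zpow_add, ← (Commute.refl (a i)).mul_zpow,
              hI2 _ (hav i).1, one_zpow, one_mul] at ham
            have := hnc i 1 (by rwa [zpow_one])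
            rw [zpow_one] at this
            have h := hw i
            rw [this, orderOf_one] at h
            exact (hp i).one_lt.ne h
        show a i ^ m * d ∈ D
        rw [hone, one_mul]; exact hd
    simpa using key Finset.univ

end Cfsg.Agent.S4408
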