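import Cfsg.Statements.S4410
import Cfsg.Agent.H32.Subnormal
import Cfsg.Agent.H1.Fitting

set_option autoImplicit false
open Cfsg

namespace Cfsg.Agent.S4410

/-- Let V be a finite-dimensional vector space over the field with two elements and S a solvable group of linear automorphisms of V with O₂(S) = 1. If P ∈ S has order 4 and (P − 1)³ = 0 on V, then the image of (P − 1)² has at least 4 elements; equivalently, in the decomposition of V into indecomposable modules for the cyclic group generated by P, at least two summands have dimension 3. -/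
theorem result
    {V : Type*} [AddCommGroup V] [Module (ZMod 2) V] [Finite V]
    (S : Subgroup (V ≃ₗ[ZMod 2] V)) (hS : Group.IsSolvable ↥S) (hO2 : Cfsg.pCore 2 ↥S = ⊥)
    (P : V ≃ₗ[ZMod 2] V) (hPS : P ∈ S) (hP4 : orderOf P = 4)
    (hcub : ((P : V →ₗ[ZMod 2] V) - LinearMap.id) ^ 3 = 0) :
    4 ≤ Nat.card ↥(LinearMap.range (((P : V →ₗ[ZMod 2] V) - LinearMap.id) ^ 2)) := by
  classical
  haveI : Finite (V ≃ₗ[ZMod 2] V) := Finite.of_injective _ DFunLike.coe_injective
  haveI : Group.IsSolvable ↥S := hS
  haveI := Fintype.ofFinite V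
  set Pm : ↥S := ⟨P, hPS⟩ with hPm
  have hneg : ∀ v : V, v + v = 0 := fun v => by
    have : ((2 : ℕ) : ZMod 2) • v = 0 := by rw [ZMod.natCast_self, zero_smul]
    rwa [Nat.cast_smul_eq_nsmul, two_nsmul] at this
  have hsub : ∀ a b : V, a - b = a + b := fun a b => by
    rw [sub_eq_add_neg, neg_eq_of_add_eq_zero_left (hneg b)]
  let f : ↥S → V → V := fun g v => (g : V ≃ₗ[ZMod 2] V) v
  have fmul : ∀ (g h : ↥S) (v : V), f (g * h) v = f g (f h v) := fun g h v => rfl
  have fone : ∀ v : V, f 1 v = v := fun v => rfl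
  have fadd : ∀ (g : ↥S) (a b : V), f g (a + b) = f g a + f g b := fun g a b => map_add _ a b
  have f0 : ∀ (g : ↥S), f g 0 = 0 := fun g => map_zero _
  have finv : ∀ (g : ↥S) (v : V), f g (f g⁻¹ v) = v := fun g v => by rw [← fmul, mul_inv_cancel, fone]
  have finv' : ∀ (g : ↥S) (v : V), f g⁻¹ (f g v) = v := fun g v => by rw [← fmul, inv_mul_cancel, fone]
  have finj : ∀ (g : ↥S), Function.Injective (f g) := fun g a b h => by
    simpa [finv'] using congrArg (f g⁻¹) h
  have fext : ∀ g : ↥S, (∀ v, f g v = v) → g = 1 := fun g h => Subtype.ext (LinearEquiv.ext h)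
  set t : ↥S := Pm ^ 2 with ht
  have ht1 : t ≠ 1 := fun h => by
    have h1 : P ^ 2 = 1 := congrArg Subtype.val h
    have := Nat.le_of_dvd (by norm_num) (orderOf_dvd_of_pow_eq_one h1)
    omega
  have htt : t * t = 1 := Subtype.ext (by
    show P ^ 2 * P ^ 2 = 1
    rw [← pow_add, show 2 + 2 = orderOf P by rw [hP4]]; exact pow_orderOf_eq_one P)
  have hrange : ∀ v, f t v + v ∈ LinearMap.range (((P : V →ₗ[ZMod 2] V) - LinearMap.id) ^ 2) := by
    intro v
    refine ⟨v, ?_⟩
    show P (P v - v) - (P v - v) = P (P v) + v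
    simp only [hsub, map_add]
    rw [show P (P v) + P v + (P v + v) = P (P v) + (P v + P v) + v by abel, hneg, add_zero]
  by_contra hlt
  push Not at hlt
  obtain ⟨v0, hv0⟩ : ∃ v, f t v ≠ v := by
    by_contra hcon
    push Not at hcon
    exact ht1 (fext t hcon)
  set c := f t v0 + v0 with hc
  have hc0 : c ≠ 0 := fun h => hv0 (by
    rw [← add_zero (f t v0), ← hneg v0, ← add_assoc, ← hc, h, zero_add])
  -- `t` is a transvection with centre `c`
  have hline : ∀ v, f t v + v = 0 ∨ f t v + v = c := by
    intro v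
    by_contra hcon
    push Not at hcon
    set w := f t v + v
    have hw : w ∈ LinearMap.range (((P : V →ₗ[ZMod 2] V) - LinearMap.id) ^ 2) := hrange v
    have hcR : c ∈ LinearMap.range (((P : V →ₗ[ZMod 2] V) - LinearMap.id) ^ 2) := hrange v0
    have h4 : ({0, c, w, c + w} : Finset V).card = 4 := by
      have h1 : c ≠ w := fun h => hcon.2 h.symm
      have h2 : c + w ≠ 0 := fun h => h1 (by
        rw [← add_zero c, ← hneg w, ← add_assoc, h, zero_add])
      have h3 : c + w ≠ c := fun h => hcon.1 (by simpa using h)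
      have h5 : c + w ≠ w := fun h => hc0 (by simpa using h)
      rw [Finset.card_insert_of_notMem (by simp [hc0.symm, Ne.symm hcon.1, h2.symm]),
        Finset.card_insert_of_notMem (by simp [h1, h3.symm]),
        Finset.card_pair h5.symm]
    have h6 := Nat.card_le_card_of_injective
      (fun x : ({0, c, w, c + w} : Finset V) =>
        (⟨x.1, by
          have := x.2
          simp only [Finset.mem_insert, Finset.mem_singleton] at this
          rcases this with h | h | h | h <;> rw [h]
          · exact Submodule.zero_mem _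
          · exact hcR
          · exact hw
          · exact Submodule.add_mem _ hcR hw⟩ :
          LinearMap.range (((P : V →ₗ[ZMod 2] V) - LinearMap.id) ^ 2)))
      (fun a b h => Subtype.ext (congrArg Subtype.val h :))
    rw [Nat.card_eq_fintype_card, Fintype.card_coe, h4] at h6
    omega
  have htc : f t c = c := by
    rw [hc, fadd, ← fmul, htt, fone, add_comm]
  have hPc : f Pm c = c := by
    have hcomm : ∀ v, f t (f Pm v) = f Pm (f t v) := fun v => by
      rw [← fmul, ← fmul, ht, ← pow_succ, ← pow_succ']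
    rcases hline (f Pm v0) with h | h
    · rw [hcomm, ← fadd, ← hc, ← f0 Pm] at h
      exact absurd (finj _ h) hc0
    · rwa [hcomm, ← fadd, ← hc] at h
  -- the Fitting subgroup has odd order
  set F := Cfsg.fittingSubgroup ↥S with hF
  haveI hFn : F.Normal := H1.fittingSubgroup_normal ↥S
  haveI hFnil : Group.IsNilpotent F := H1.isNilpotent_fittingSubgroup ↥S
  have hsyl : ∀ (q : ℕ) [Fact q.Prime] (T : Sylow q F), (T : Subgroup F).Normal := fun q hq T =>
    ((Group.isNilpotent_of_finite_tfae (G := F)).out 0 3 rfl rfl).mp hFnil q hq T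
  haveI : Fact (Nat.Prime 2) := ⟨Nat.prime_two⟩
  haveI : Fact (Nat.Prime 3) := ⟨Nat.prime_three⟩
  have hodd : ∀ a ∈ F, a ^ 2 = 1 → a = 1 := by
    intro a ha ha2
    have hz : IsPGroup 2 (Subgroup.zpowers (⟨a, ha⟩ : F)) := by
      rintro ⟨_, m, rfl⟩
      refine ⟨1, Subtype.ext ?_⟩
      show ((⟨a, ha⟩ : F) ^ m) ^ 2 ^ 1 = 1
      rw [← zpow_natCast, zpow_comm, zpow_natCast, pow_one,
        show (⟨a, ha⟩ : F) ^ 2 = 1 from Subtype.ext ha2, one_zpow]
    obtain ⟨T, hT⟩ := hz.exists_le_sylow
    haveI := hsyl 2 T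
    have h1 := H32.map_pCore_le_of_subnormal 2 (Subgroup.Normal.isSubnormal hFn)
      ⟨⟨a, ha⟩, H1.le_pCore T.2 (hT (Subgroup.mem_zpowers _)), rfl⟩
    rw [hO2] at h1
    exact h1
  -- some element of `F` does not commute with `t`
  obtain ⟨s, hsF, hst⟩ : ∃ s ∈ F, s * t ≠ t * s := by
    by_contra hcon
    push Not at hcon
    exact ht1 (hodd t (H1.centralizer_fitting_le_of_isSolvable inferInstance
      (Subgroup.mem_centralizer_iff.2 hcon)) (by rw [pow_two, htt]))
  set t' := s * t * s⁻¹ with ht'
  set x := t * t' with hx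
  have hxF : x ∈ F := by
    rw [hx, ht', show t * (s * t * s⁻¹) = (t * s * t⁻¹) * s⁻¹ * (s * (t * t) * s⁻¹) by group, htt]
    simpa using F.mul_mem (hFn.conj_mem s hsF t) (inv_mem hsF)
  have hx1 : x ≠ 1 := fun h => hst (by
    have h2 : t' = t := by
      rw [← mul_right_inj t, ← hx, h, htt]
    calc s * t = t' * s := by rw [ht', inv_mul_cancel_right]
      _ = t * s := by rw [h2])
  set d := f s c with hd
  have hneg2 : ∀ a b : V, a + (a + b) = b := fun a b => by rw [← add_assoc, hneg, zero_add]
  have hline' : ∀ v, f t' v + v = 0 ∨ f t' v + v = d := by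
    intro v
    have h1 : f t' v + v = f s (f t (f s⁻¹ v) + f s⁻¹ v) := by rw [fadd, finv, ht', fmul, fmul]
    rcases hline (f s⁻¹ v) with h | h <;> rw [h1, h]
    · exact Or.inl (f0 s)
    · exact Or.inr rfl
  have hex : ∀ g : ↥S, ∀ v, f g v = v + (f g v + v) := fun g v => by
    rw [add_left_comm, hneg, add_zero]
  -- the plane `U`
  let U : V → Prop := fun v => v = 0 ∨ v = c ∨ v = d ∨ v = c + d
  have hUadd : ∀ a b, U a → U b → U (a + b) := by
    intro a b ha hb
    rcases ha with rfl | rfl | rfl | rfl <;> rcases hb with rfl | rfl | rfl | rfl <;>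
      simp only [U, zero_add, add_zero, hneg, true_or, or_true] <;>
      first
        | (rw [← add_assoc, hneg, zero_add]; simp)
        | (rw [add_comm d c]; simp)
        | (rw [add_assoc, hneg, add_zero]; simp)
        | (rw [add_left_comm, hneg, add_zero]; simp)
        | (rw [add_right_comm, hneg, zero_add]; simp)
  have htd : f t d = d ∨ f t d = c + d := by
    rcases hline d with h | h
    · left; rw [hex t d, h, add_zero]
    · right; rw [hex t d, h, add_comm]
  have hxU : ∀ v, U (f x v + v) := by
    intro v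
    have h1 : f x v + v = (f t (f t' v) + f t' v) + (f t' v + v) := by
      rw [hx, fmul, add_assoc, ← add_assoc (f t' v), hneg, zero_add]
    rw [h1]
    refine hUadd _ _ ?_ ?_
    · rcases hline (f t' v) with h | h <;> rw [h] <;> simp [U]
    · rcases hline' v with h | h <;> rw [h] <;> simp [U]
  -- an element of odd order trivial on `U` and on `V/U` is trivial
  have hunip : ∀ g : ↥S, g ∈ F → (∀ u, U u → f g u = u) → (∀ v, U (f g v + v)) → g = 1 := by
    intro g hg h1 h2
    refine hodd g hg (fext _ fun v => ?_)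
    have h3 := h1 _ (h2 v)
    rw [fadd, add_comm (f g v) v] at h3
    rw [pow_two, fmul]
    exact add_right_cancel h3
  have hUx : ∀ u, U u → U (f x u) := fun u hu => by
    rw [hex x u]; exact hUadd _ _ hu (hxU u)
  have hx2U : ∀ v, U (f (x ^ 2) v + v) := fun v => by
    have h1 : f (x ^ 2) v + v = (f x (f x v) + f x v) + (f x v + v) := by
      rw [pow_two, fmul, add_assoc, ← add_assoc (f x v), hneg, zero_add]
    rw [h1]; exact hUadd _ _ (hxU _) (hxU _)
  have hx2 : x ^ 2 ≠ 1 := fun h => hx1 (hodd x hxF h)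
  -- `d` is outside the line of `c`
  have hdc : d ≠ c := by
    intro h
    have hU2 : ∀ v, f x v + v = 0 ∨ f x v + v = c := by
      intro v
      have h1 : f x v + v = (f t (f t' v) + f t' v) + (f t' v + v) := by
        rw [hx, fmul, add_assoc, ← add_assoc (f t' v), hneg, zero_add]
      rw [h1]
      rcases hline (f t' v) with h2 | h2 <;> rcases hline' v with h3 | h3 <;>
        simp [h2, h3, h, hneg]
    have hxc : f x c = c := by
      rcases hU2 c with h1 | h1
      · rw [hex x c, h1, add_zero]
      · exact absurd (finj x ((show f x c = 0 from by rw [hex x c, h1, hneg]).trans (f0 x).symm)) hc0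
    refine hx2 (fext _ fun v => ?_)
    rw [pow_two, fmul]
    rcases hU2 v with h1 | h1
    · rw [hex x v, h1, add_zero, hex x v, h1, add_zero]
    · rw [hex x v, h1, fadd, hxc, hex x v, h1, add_assoc, hneg, add_zero]
  have hd0 : d ≠ 0 := fun h => hc0 (finj s (h.trans (f0 s).symm))
  have hcd0 : c + d ≠ 0 := fun h => hdc (by
    rw [← zero_add d, ← hneg c, add_assoc, h, add_zero])
  have hcdc : c + d ≠ c := fun h => hd0 (by simpa using h)
  have hUelim : ∀ u, U u → u ≠ 0 → u = c ∨ u = d ∨ u = c + d := fun u hu h0 =>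
    hu.resolve_left h0
  have hxne : ∀ u, U u → u ≠ 0 → f x u ≠ u := by
    intro u hu hu0 hfix
    refine hx2 (hunip _ (pow_mem hxF 2) ?_ hx2U)
    intro w hw
    by_cases hw0 : w = 0
    · rw [hw0, f0]
    by_cases hwu : w = u
    · rw [hwu, pow_two, fmul, hfix, hfix]
    by_cases hwx : f x w = w
    · rw [pow_two, fmul, hwx, hwx]
    -- `x` fixes `0` and `u`, so it interchanges the two other elements
    have key : ∀ a, U a → a ≠ 0 → a ≠ u → a = w ∨ a = u + w := by
      intro a ha ha0 hau
      rcases hUelim a ha ha0 with rfl | rfl | rfl <;> rcases hUelim u hu hu0 with rfl | rfl | rfl <;>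
        rcases hUelim w hw hw0 with rfl | rfl | rfl <;>
        first
          | exact absurd rfl hau
          | exact absurd rfl hwu
          | exact Or.inl rfl
          | (right; rw [add_comm c d]; simp [add_comm, add_left_comm, hneg]; done)
          | (right; rw [← add_assoc, hneg, zero_add]; done)
          | (right; simp [add_comm, hneg2]; done)
          | (right; rw [add_right_comm, hneg, zero_add]; done)
          | (right; rw [add_comm, ← add_assoc, hneg, zero_add]; done)
          | (right; rw [← add_assoc, add_right_comm, hneg, zero_add]; done)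
          | (right; rw [add_comm c d, ← add_assoc, hneg, zero_add]; done)
          | (right; rw [add_comm, ← add_assoc, add_right_comm, hneg, zero_add]; done)
    have h1 := key (f x w) (hUx w hw) (fun h => hw0 (finj x (h.trans (f0 x).symm)))
      (fun h => hwu (finj x (h.trans hfix.symm)))
    rw [pow_two, fmul]
    rcases h1 with h1 | h1
    · exact absurd h1 hwx
    · rw [h1, fadd, hfix, h1, ← add_assoc, hneg, zero_add]
  have htd' : f t d ≠ d := by
    intro h
    -- then `x` fixes `c`
    have hddd : f t' d = d := by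
      rw [ht', hd, fmul, fmul, finv', htc]
    exact hxne d (by simp [U]) hd0 (by rw [hx, fmul, hddd, h])
  have htd2 : f t d = c + d := htd.resolve_left htd'
  -- `x` has order three
  have hx3 : x ^ 3 = 1 := by
    refine hunip _ (pow_mem hxF 3) (fun u hu => ?_) fun v => ?_
    · by_cases hu0 : u = 0
      · rw [hu0, f0]
      set a := f x u
      set b := f x a
      have ha : U a := hUx u hu
      have ha0 : a ≠ 0 := fun h => hu0 (finj x (h.trans (f0 x).symm))
      have hb : U b := hUx a ha
      have hb0 : b ≠ 0 := fun h => ha0 (finj x (h.trans (f0 x).symm))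
      have hbu : b ≠ u := fun h => by
        have h2 : f x (u + a) = u + a := by
          rw [fadd]; show a + b = u + a; rw [h, add_comm]
        exact hxne (u + a) (hUadd _ _ hu ha) (fun h0 => hxne u hu hu0 (show a = u by
          rw [← zero_add a, ← hneg u, add_assoc, h0, add_zero])) h2
      have e0 : U (f x b) := hUx b hb
      have e1 : f x b ≠ a := fun h => hbu (finj x h)
      have e2 : f x b ≠ b := fun h => hxne b hb hb0 h
      have e3 : f x b ≠ 0 := fun h => hb0 (finj x (h.trans (f0 x).symm))
      rw [show x ^ 3 = x * (x * x) by rw [pow_succ', pow_two], fmul, fmul]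
      show f x b = u
      have hau : a ≠ u := hxne u hu hu0
      have hba : b ≠ a := hxne a ha ha0
      rcases hUelim _ e0 e3 with h1 | h1 | h1 <;> rcases hUelim u hu hu0 with h2 | h2 | h2 <;>
        rcases hUelim a ha ha0 with h3 | h3 | h3 <;> rcases hUelim b hb hb0 with h4 | h4 | h4 <;>
        first
          | exact h1.trans h2.symm
          | exact absurd (h1.trans h3.symm) e1
          | exact absurd (h1.trans h4.symm) e2
          | exact absurd (h3.trans h2.symm) hau
          | exact absurd (h4.trans h3.symm) hba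
          | exact absurd (h4.trans h2.symm) hbu
    · have h1 : f (x ^ 3) v + v = (f x (f (x ^ 2) v) + f (x ^ 2) v) + (f (x ^ 2) v + v) := by
        rw [show x ^ 3 = x * x ^ 2 by rw [← pow_succ'], fmul, add_assoc, ← add_assoc (f (x ^ 2) v), hneg, zero_add]
      rw [h1]; exact hUadd _ _ (hxU _) (hx2U v)
  -- the conjugate by `P`
  set y := Pm * x * Pm⁻¹ with hy
  have hyF : y ∈ F := hFn.conj_mem x hxF Pm
  have hy3 : y ^ 3 = 1 := by rw [hy, conj_pow, hx3, mul_one, mul_inv_cancel]
  set e := f Pm d with he
  have hyU : ∀ v, f y v + v = 0 ∨ f y v + v = c ∨ f y v + v = e ∨ f y v + v = c + e := by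
    intro v
    have h1 : f y v + v = f Pm (f x (f Pm⁻¹ v) + f Pm⁻¹ v) := by rw [fadd, finv, hy, fmul, fmul]
    rw [h1]
    rcases hxU (f Pm⁻¹ v) with h | h | h | h <;> rw [h]
    · exact Or.inl (f0 _)
    · exact Or.inr (Or.inl hPc)
    · exact Or.inr (Or.inr (Or.inl rfl))
    · refine Or.inr (Or.inr (Or.inr ?_)); rw [fadd, hPc]
  have heU : ¬ U e := by
    intro hUe
    have he0 : e ≠ 0 := fun h => hd0 (finj Pm (h.trans (f0 _).symm))
    have hec : e ≠ c := fun h => hdc (finj Pm (h.trans hPc.symm))
    have h2 : f t d = d := by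
      rw [ht, pow_two, fmul]
      show f Pm e = d
      rcases hUelim e hUe he0 with h | h | h
      · exact absurd h hec
      · rw [h]; show e = d; exact h
      · rw [h, fadd, hPc]; show c + e = d
        rw [h, ← add_assoc, hneg, zero_add]
    exact htd' h2
  -- the space `W = U + P U`
  let W : V → Prop := fun v => U v ∨ U (v + e)
  have hWadd : ∀ a b, W a → W b → W (a + b) := by
    intro a b ha hb
    rcases ha with ha | ha <;> rcases hb with hb | hb
    · exact Or.inl (hUadd a b ha hb)
    · exact Or.inr (by rw [add_assoc]; exact hUadd _ _ ha hb)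
    · exact Or.inr (by rw [add_right_comm]; exact hUadd _ _ ha hb)
    · refine Or.inl ?_
      have := hUadd _ _ ha hb
      rwa [add_add_add_comm, hneg, add_zero] at this
  have hyW : ∀ v, W (f y v + v) := by
    intro v
    rcases hyU v with h | h | h | h <;> rw [h]
    · exact Or.inl (Or.inl rfl)
    · exact Or.inl (Or.inr (Or.inl rfl))
    · exact Or.inr (Or.inl (hneg e))
    · exact Or.inr (Or.inr (Or.inl (by rw [add_assoc, hneg, add_zero])))
  let K : Subgroup ↥S := Subgroup.closure {x, y}
  have hKW : ∀ g ∈ K, ∀ w, W w → W (f g w) := by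
    have hone : ∀ g : ↥S, (g = x ∨ g = y) → ∀ w, W w → W (f g w) := by
      intro g hg w hw
      rw [hex g w]
      rcases hg with rfl | rfl
      · exact hWadd _ _ hw (Or.inl (hxU w))
      · exact hWadd _ _ hw (hyW w)
    intro g hg
    induction hg using Subgroup.closure_induction with
    | mem a ha => exact hone a ha
    | one => intro w hw; rwa [fone]
    | mul a b _ _ iha ihb => intro w hw; rw [fmul]; exact iha _ (ihb _ hw)
    | inv a _ iha =>
      intro w hw
      let g0 : {v // W v} → {v // W v} := fun v => ⟨f a v.1, iha _ v.2⟩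
      obtain ⟨v, hv⟩ := Finite.surjective_of_injective
        (f := g0) (fun u v h => Subtype.ext (finj a (congrArg Subtype.val h :))) ⟨w, hw⟩
      rw [← show f a v.1 = w from congrArg Subtype.val hv, finv']
      exact v.2
  let ρ : K →* Equiv.Perm {v // W v} :=
    { toFun := fun g =>
        { toFun := fun v => ⟨f g v.1, hKW g g.2 _ v.2⟩
          invFun := fun v => ⟨f (g : ↥S)⁻¹ v.1, hKW _ (inv_mem g.2) _ v.2⟩
          left_inv := fun v => Subtype.ext (finv' _ _)
          right_inv := fun v => Subtype.ext (finv _ _) }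
      map_one' := Equiv.ext fun v => Subtype.ext rfl
      map_mul' := fun a b => Equiv.ext fun v => Subtype.ext rfl }
  -- `K` is a 3-group
  have hK3 : IsPGroup 3 K := by
    have hmem : ∀ a : ↥S, a ∈ F → a ^ 3 = 1 → a ∈ (Cfsg.pCore 3 F).map F.subtype := by
      intro a ha ha3
      have hz : IsPGroup 3 (Subgroup.zpowers (⟨a, ha⟩ : F)) := by
        rintro ⟨_, m, rfl⟩
        refine ⟨1, Subtype.ext ?_⟩
        show ((⟨a, ha⟩ : F) ^ m) ^ 3 ^ 1 = 1
        rw [← zpow_natCast, zpow_comm, zpow_natCast, pow_one,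
          show (⟨a, ha⟩ : F) ^ 3 = 1 from Subtype.ext ha3, one_zpow]
      obtain ⟨T, hT⟩ := hz.exists_le_sylow
      haveI := hsyl 3 T
      exact ⟨_, H1.le_pCore T.2 (hT (Subgroup.mem_zpowers _)), rfl⟩
    refine ((H1.isPGroup_pCore 3 F).map F.subtype).to_le ((Subgroup.closure_le _).2 ?_)
    rintro a (rfl | rfl)
    · exact hmem _ hxF hx3
    · exact hmem _ hyF hy3
  have hρ : IsMulCommutative ρ.range := by
    have h3 : IsPGroup 3 ρ.range := hK3.of_surjective ρ.rangeRestrict ρ.rangeRestrict_surjective
    obtain ⟨k, hk⟩ := IsPGroup.iff_card.1 h3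
    have hW8 : Nat.card {v // W v} ≤ 8 := by
      have hcov : ∀ v : {v // W v}, v.1 ∈ ({0, c, d, c + d, e, c + e, d + e, c + d + e} : Finset V) := by
        rintro ⟨v, hv⟩
        simp only [Finset.mem_insert, Finset.mem_singleton]
        rcases hv with hv | hv
        · rcases hv with h | h | h | h <;> simp [h]
        · have hve : v = (v + e) + e := by rw [add_assoc, hneg, add_zero]
          rcases hv with h | h | h | h <;> rw [h] at hve <;> simp [hve]
      refine le_trans (Nat.card_le_card_of_injective (fun v => (⟨v.1, hcov v⟩ :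
        ({0, c, d, c + d, e, c + e, d + e, c + d + e} : Finset V))) fun a b h =>
          Subtype.ext (congrArg Subtype.val h :)) ?_
      rw [Nat.card_eq_fintype_card, Fintype.card_coe]
      iterate 7 refine le_trans (Finset.card_insert_le _ _) (Nat.add_le_add_right ?_ 1)
      simp
    have hdvd : 3 ^ k ∣ Nat.factorial 8 := by
      rw [← hk]
      refine (Subgroup.card_subgroup_dvd_card _).trans ?_
      rw [Nat.card_perm]
      exact Nat.factorial_dvd_factorial hW8
    have hk2 : k ≤ 2 := by
      by_contra h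
      have : 3 ^ 3 ∣ Nat.factorial 8 := (pow_dvd_pow 3 (by omega)).trans hdvd
      norm_num [Nat.factorial] at this
    rcases Nat.lt_or_ge k 2 with h | h
    · interval_cases k
      · haveI := (Nat.card_eq_one_iff_unique.1 (hk.trans (pow_zero 3))).1
        exact ⟨⟨fun a b => Subsingleton.elim _ _⟩⟩
      · haveI := isCyclic_of_prime_card (hk.trans (pow_one 3))
        exact ⟨⟨fun a b => (IsCyclic.commGroup (α := ρ.range)).mul_comm a b⟩⟩
    · exact IsPGroup.isMulCommutative_of_card_eq_prime_sq (p := 3) (hk.trans (by rw [show k = 2 by omega]))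
  have hWc : W c := Or.inl (Or.inr (Or.inl rfl))
  have hcomm : ∀ w, W w → f x (f y w) = f y (f x w) := by
    intro w hw
    have h1 := hρ.is_comm.comm ⟨ρ ⟨x, Subgroup.subset_closure (Or.inl rfl)⟩, _, rfl⟩
      ⟨ρ ⟨y, Subgroup.subset_closure (Or.inr rfl)⟩, _, rfl⟩
    exact congrArg (fun σ : ρ.range => ((σ.1 ⟨w, hw⟩ : {v // W v}) : V)) h1
  -- `y` moves `c` inside `{0, c, e, c + e}`, and `x` fixes `c`: absurd
  refine hxne c (Or.inr (Or.inl rfl)) hc0 ?_
  have hey : ∀ u, u = c ∨ u = e → ∃ w, W w ∧ f y w + w = u := by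
    have hyne : ∀ u, U u → u ≠ 0 → f y (f Pm u) + f Pm u ≠ 0 := fun u hu hu0 h => by
      refine hxne u hu hu0 (finj Pm ?_)
      have h1 : f y (f Pm u) = f Pm (f x u) := by rw [hy, fmul, fmul, finv']
      rw [h1] at h
      rw [← zero_add (f Pm u), ← h, add_assoc, hneg, add_zero]
    have hxsurj : ∀ u, U u → ∃ w, U w ∧ f x w + w = u := by
      intro u hu
      let g0 : {v // U v} → {v // U v} := fun v => ⟨f x v.1 + v.1, hxU _⟩
      obtain ⟨v, hv⟩ := Finite.surjective_of_injective (f := g0) (fun a b h => by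
        have h1 : f x a.1 + a.1 = f x b.1 + b.1 := congrArg Subtype.val h
        by_contra hab
        refine hxne (a.1 + b.1) (hUadd _ _ a.2 b.2) (fun h0 => hab (Subtype.ext ?_)) ?_
        · rw [← add_zero a.1, ← hneg b.1, ← add_assoc, h0, zero_add]
        · have h2 : f x a.1 + a.1 + (f x b.1 + b.1) = 0 := by rw [h1, hneg]
          rw [add_add_add_comm, ← fadd] at h2
          rw [← add_zero (f x (a.1 + b.1)), ← hneg (a.1 + b.1), ← add_assoc, h2, zero_add]) ⟨u, hu⟩
      exact ⟨v.1, v.2, congrArg Subtype.val hv⟩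
    intro u hu
    obtain ⟨u', hu', rfl⟩ : ∃ u', U u' ∧ f Pm u' = u := by
      rcases hu with rfl | rfl
      · exact ⟨c, Or.inr (Or.inl rfl), hPc⟩
      · exact ⟨d, Or.inr (Or.inr (Or.inl rfl)), rfl⟩
    obtain ⟨w, hw, rfl⟩ := hxsurj u' hu'
    refine ⟨f Pm w, ?_, ?_⟩
    · rcases hw with rfl | rfl | rfl | rfl
      · rw [f0]; exact Or.inl (Or.inl rfl)
      · rw [hPc]; exact hWc
      · exact Or.inr (Or.inl (hneg e))
      · rw [fadd, hPc]; exact Or.inr (Or.inr (Or.inl (by rw [add_assoc, hneg, add_zero])))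
    · rw [fadd, hy, fmul, fmul, finv']
  -- so `x` preserves `P U`
  have hpres : U (f x c) ∧ (f x c = 0 ∨ f x c = c ∨ f x c = e ∨ f x c = c + e) := by
    refine ⟨hUx c (Or.inr (Or.inl rfl)), ?_⟩
    obtain ⟨w, hw, hwc⟩ := hey c (Or.inl rfl)
    have h1 : f x c = f y (f x w) + f x w := by rw [← hwc, fadd, hcomm w hw]
    rw [h1]
    exact hyU (f x w)
  obtain ⟨hU', h | h | h | h⟩ := hpres
  · exact absurd (finj x (h.trans (f0 x).symm)) hc0
  · exact h
  · exact absurd (h ▸ hU') heU
  · exfalso
    refine heU ?_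
    have := hUadd c _ (Or.inr (Or.inl rfl)) (h ▸ hU')
    rwa [← add_assoc, hneg, zero_add] at this

end Cfsg.Agent.S4410
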