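import Cfsg.Statements.S4414
import Cfsg.Agent.H26.WeightFixed

set_option autoImplicit false
open Cfsg

namespace Cfsg.Agent.S4414

set_option linter.all false

open scoped TensorProduct commutatorElement

/-- Let S be a finite solvable group whose order is divisible only by the primes 2, p, q (p, q distinct odd primes), with a Sylow system S₂, S_p, S_q (pairwise permutable Sylow subgroups) such that: S_p is a minimal normal subgroup of S of order p or p²; S_q has order q and [S_p, S_q] = S_p; and O₂(S) = 1. Let E be an irreducible module for S over the field with two elements on which S_p acts faithfully, and E₀ the subspace of fixed points of S₂. Then either E₀ has at least 8 elements, or E₀ has exactly 4 elements and S_q does not leave E₀ invariant. -/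
theorem result {S : Type*} [Group S] [Finite S]
    [Group.IsSolvable S] (p q : ℕ) (hp : p.Prime) (hq : q.Prime) (hp2 : p ≠ 2) (hq2 : q ≠ 2) (hpq : p ≠ q)
    (hπ : ∀ r : ℕ, r.Prime → r ∣ Nat.card S → r = 2 ∨ r = p ∨ r = q)
    (S₂ : Sylow 2 S) (Sp : Sylow p S) (Sq : Sylow q S)
    (h2q : Nat.card ↥((S₂ : Subgroup S) ⊔ (Sq : Subgroup S)) = Nat.card ↥S₂ * Nat.card ↥Sq)
    (h2p : Nat.card ↥((S₂ : Subgroup S) ⊔ (Sp : Subgroup S)) = Nat.card ↥S₂ * Nat.card ↥Sp)
    (hpq' : Nat.card ↥((Sp : Subgroup S) ⊔ (Sq : Subgroup S)) = Nat.card ↥Sp * Nat.card ↥Sq)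
    (hSpN : (Sp : Subgroup S).Normal) (hSpmin : ∀ N : Subgroup S, N.Normal → N ≤ (Sp : Subgroup S) → N = ⊥ ∨ N = (Sp : Subgroup S))
    (hSpcard : Nat.card ↥Sp = p ∨ Nat.card ↥Sp = p ^ 2)
    (hSq : Nat.card ↥Sq = q) (hcomm : ⁅(Sp : Subgroup S), (Sq : Subgroup S)⁆ = (Sp : Subgroup S))
    (hO2 : Cfsg.pCore 2 S = ⊥)
    {E : Type*} [AddCommGroup E] [Module (ZMod 2) E] [Finite E] (ρ : Representation (ZMod 2) S E) (hE : Nontrivial E)
    (hirr : ∀ N : Submodule (ZMod 2) E, (∀ s : S, ∀ m ∈ N, ρ s m ∈ N) → N = ⊥ ∨ N = ⊤)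
    (hfaith : ∀ x ∈ (Sp : Subgroup S), ρ x = 1 → x = 1) :
    8 ≤ Nat.card {v : E // ∀ s ∈ (S₂ : Subgroup S), ρ s v = v} ∨
      (Nat.card {v : E // ∀ s ∈ (S₂ : Subgroup S), ρ s v = v} = 4 ∧
        ∃ x ∈ (Sq : Subgroup S), ∃ v : E, (∀ s ∈ (S₂ : Subgroup S), ρ s v = v) ∧ ¬ ∀ s ∈ (S₂ : Subgroup S), ρ s (ρ x v) = ρ x v) := by
  classical
  haveI : Fact (Nat.Prime 2) := ⟨Nat.prime_two⟩
  haveI := Fact.mk hp
  haveI := Fact.mk hq
  set A : Subgroup S := (Sp : Subgroup S) with hA
  haveI : A.Normal := hSpN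
  haveI := Fintype.ofFinite A
  have hcomA : ∀ a b : A, a * b = b * a := by
    rcases hSpcard with h | h
    · haveI := isCyclic_of_prime_card (α := A) h
      exact fun a b => mul_comm' a b
    · haveI := IsPGroup.isMulCommutative_of_card_eq_prime_sq (p := p) (G := A) h
      exact fun a b => mul_comm' a b
  letI : CommGroup A := { (inferInstance : Group A) with mul_comm := hcomA }
  have hSpcard' : Nat.card A = p ∨ Nat.card A = p ^ 2 := hSpcard
  have hSq' : Nat.card (Sq : Subgroup S) = q := hSq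
  obtain ⟨k, hk⟩ : ∃ k, Nat.card A = p ^ k := by
    rcases hSpcard' with h | h
    · exact ⟨1, by rw [h, pow_one]⟩
    · exact ⟨2, h⟩
  have hk0 : k ≠ 0 := by
    rintro rfl
    rw [pow_zero] at hk
    rcases hSpcard' with h | h
    · exact hp.one_lt.ne (hk.symm.trans h)
    · exact (Nat.one_lt_pow two_ne_zero hp.one_lt).ne (hk.symm.trans h)
  let K := AlgebraicClosure (ZMod 2)
  haveI : CharP K 2 := charP_of_injective_algebraMap (algebraMap (ZMod 2) K).injective 2
  have hne : ∀ m : ℕ, Odd m → ((m : ZMod 2)) ≠ 0 := fun m hm h0 =>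
    Nat.two_dvd_ne_zero.2 (Nat.odd_iff.1 hm) ((ZMod.natCast_eq_zero_iff m 2).1 h0)
  have hoddA : Odd (Nat.card A) := hk ▸ (hp.odd_of_ne_two hp2).pow
  have hexp : ((Monoid.exponent A : ℕ) : ZMod 2) ≠ 0 :=
    hne _ (hoddA.of_dvd_nat Group.exponent_dvd_nat_card)
  haveI : NeZero ((Monoid.exponent A : ℕ) : ZMod 2) := ⟨hexp⟩
  haveI : HasEnoughRootsOfUnity K (Monoid.exponent A) := AlgebraicClosure.hasEnoughRootsOfUnity (F := ZMod 2) _
  haveI : Module.Finite (ZMod 2) E := Module.Finite.of_finite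
  let σ : S →* Module.End K (K ⊗[ZMod 2] E) :=
    ((Module.End.baseChangeHom (ZMod 2) K E : Module.End (ZMod 2) E →ₐ[ZMod 2] _).toMonoidHom).comp ρ
  have hσ : ∀ s (c : K) (e : E), σ s (c ⊗ₜ[ZMod 2] e) = c ⊗ₜ[ZMod 2] ρ s e := fun s c e => rfl
  let b := Module.Basis.ofVectorSpace (ZMod 2) K
  let Φ := TensorProduct.equivFinsuppOfBasisLeft (N := E) b
  have hΦ : ∀ s (v : K ⊗[ZMod 2] E) i, Φ (σ s v) i = ρ s (Φ v i) := by
    intro s v i
    induction v using TensorProduct.induction_on with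
    | zero => simp
    | tmul c e =>
      rw [hσ, TensorProduct.equivFinsuppOfBasisLeft_apply_tmul_apply,
        TensorProduct.equivFinsuppOfBasisLeft_apply_tmul_apply, map_smul]
    | add x y hx hy => simp only [map_add, Finsupp.add_apply, hx, hy]
  -- no fixed vectors of the normal subgroup
  have hfixE : ∀ e : E, (∀ a ∈ A, ρ a e = e) → e = 0 := by
    let N : Submodule (ZMod 2) E :=
      { carrier := {e | ∀ a ∈ A, ρ a e = e}
        add_mem' := fun {u v} hu hv a ha => by rw [map_add, hu a ha, hv a ha]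
        zero_mem' := fun a _ => map_zero _
        smul_mem' := fun c u hu a ha => by rw [map_smul, hu a ha] }
    have hinv : ∀ s : S, ∀ m ∈ N, ρ s m ∈ N := by
      intro s m hm a ha
      have h1 := hm (s⁻¹ * a * s) (by simpa using hSpN.conj_mem a ha s⁻¹)
      rw [← Module.End.mul_apply, ← map_mul, show a * s = s * (s⁻¹ * a * s) by group, map_mul,
        Module.End.mul_apply, h1]
    rcases hirr N hinv with h | h
    · intro e he
      exact (Submodule.mem_bot (ZMod 2)).1 (h ▸ (show e ∈ N from he))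
    · exfalso
      have hne1 : Nontrivial A := by
        rw [← Finite.one_lt_card_iff_nontrivial, hk]
        exact Nat.one_lt_pow hk0 hp.one_lt
      obtain ⟨a, ha⟩ := exists_ne (1 : A)
      refine ha (Subtype.ext (hfaith a.1 a.2 (LinearMap.ext fun e => ?_)))
      exact (show e ∈ N from h ▸ Submodule.mem_top) a.1 a.2
  have hfix0 : ∀ v : K ⊗[ZMod 2] E, (∀ a ∈ A, σ a v = v) → v = 0 := by
    intro v hv
    refine Φ.injective (Finsupp.ext fun i => ?_)
    rw [map_zero, Finsupp.zero_apply]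
    exact hfixE _ fun a ha => by rw [← hΦ, hv a ha]
  -- fixed spaces
  let E0 : Submodule (ZMod 2) E :=
    { carrier := {e | ∀ s ∈ (S₂ : Subgroup S), ρ s e = e}
      add_mem' := fun {u v} hu hv a ha => by rw [map_add, hu a ha, hv a ha]
      zero_mem' := fun a _ => map_zero _
      smul_mem' := fun c u hu a ha => by rw [map_smul, hu a ha] }
  let F : Submodule K (K ⊗[ZMod 2] E) :=
    { carrier := {v | ∀ s ∈ (S₂ : Subgroup S), σ s v = v}
      add_mem' := fun {u v} hu hv a ha => by rw [map_add, hu a ha, hv a ha]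
      zero_mem' := fun a _ => map_zero _
      smul_mem' := fun c u hu a ha => by rw [map_smul, hu a ha] }
  set W : Submodule K (K ⊗[ZMod 2] E) := LinearMap.range (E0.subtype.baseChange K) with hW
  have hFW : F ≤ W := by
    intro v hv
    rw [← Φ.symm_apply_apply v, TensorProduct.equivFinsuppOfBasisLeft_symm_apply]
    refine Submodule.sum_mem _ fun i _ => ?_
    have hmem : Φ v i ∈ E0 := fun s hs => by rw [← hΦ, hv s hs]
    exact ⟨b i ⊗ₜ[ZMod 2] (⟨Φ v i, hmem⟩ : E0), LinearMap.baseChange_tmul _ _ _⟩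
  have hWF : W ≤ F := by
    rintro _ ⟨u, rfl⟩ s hs
    induction u using TensorProduct.induction_on with
    | zero => simp
    | tmul c e => rw [LinearMap.baseChange_tmul, hσ]; exact congrArg _ (e.2 s hs)
    | add x y hx hy => rw [map_add, map_add, hx, hy]
  have hdim : Module.finrank K F ≤ Module.finrank (ZMod 2) E0 := by
    refine (Submodule.finrank_mono hFW).trans ((LinearMap.finrank_range_le _).trans (le_of_eq ?_))
    exact Module.finrank_baseChange
  have hcardE0 : Nat.card {v : E // ∀ s ∈ (S₂ : Subgroup S), ρ s v = v} = 2 ^ Module.finrank (ZMod 2) E0 := by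
    have h := Module.natCard_eq_pow_finrank (K := ZMod 2) (V := E0)
    rw [Nat.card_zmod] at h
    exact h
  rw [hcardE0]
  -- the element of order q
  obtain ⟨x, hxq, hxord⟩ : ∃ x ∈ (Sq : Subgroup S), orderOf x = q := by
    obtain ⟨x, hx⟩ := exists_prime_orderOf_dvd_card' (G := (Sq : Subgroup S)) q (dvd_of_eq hSq'.symm)
    exact ⟨x, x.2, by rw [Subgroup.orderOf_coe, hx]⟩
  have hgen : Subgroup.zpowers x = (Sq : Subgroup S) :=
    Subgroup.eq_of_le_of_card_ge (Subgroup.zpowers_le.2 hxq) (by rw [hSq', Nat.card_zpowers, hxord])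
  have hfree : ∀ χ : A →* Kˣ, H26.ctw A x χ = χ → χ = 1 := by
    intro χ hχ
    let Fx : Subgroup S :=
      { carrier := {y | ∀ a : A, χ (MulAut.conjNormal y a) = χ a}
        one_mem' := fun a => by rw [map_one, MulAut.one_apply]
        mul_mem' := fun {u v} hu hv a => by rw [map_mul, MulAut.mul_apply, hu, hv]
        inv_mem' := fun {u} hu a => by
          rw [map_inv, MulAut.inv_def]
          have h1 := hu ((MulAut.conjNormal u).symm a)
          rw [MulEquiv.apply_symm_apply] at h1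
          exact h1.symm }
    have hxF : x⁻¹ ∈ Fx := fun a => congrArg (fun f : A →* Kˣ => f a) hχ
    have hle : (Sq : Subgroup S) ≤ Fx := by
      rw [← hgen, Subgroup.zpowers_le]
      exact inv_inv x ▸ inv_mem hxF
    have hker : ⁅A, (Sq : Subgroup S)⁆ ≤ χ.ker.map A.subtype := by
      rw [Subgroup.commutator_le]
      intro a ha y hy
      have hy' := hle hy
      refine ⟨⟨a, ha⟩ * (MulAut.conjNormal y ⟨a, ha⟩)⁻¹, ?_, ?_⟩
      · show χ _ = 1
        rw [map_mul, map_inv, hy' ⟨a, ha⟩, mul_inv_cancel]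
      · show a * ((MulAut.conjNormal y ⟨a, ha⟩ : A) : S)⁻¹ = ⁅a, y⁆
        rw [MulAut.conjNormal_apply, commutatorElement_def]
        group
    rw [hcomm] at hker
    ext a
    obtain ⟨a', ha', haa⟩ := hker a.2
    rw [← Subtype.ext (haa : (a' : S) = a), ha']
    rfl
  haveI : Nontrivial (K ⊗[ZMod 2] E) := by
    obtain ⟨e, he⟩ := exists_ne (0 : E)
    refine ⟨⟨(1 : K) ⊗ₜ[ZMod 2] e, 0, fun h => he ?_⟩⟩
    obtain ⟨i, hi⟩ : ∃ i, b.repr 1 i ≠ 0 := by
      by_contra hc
      push Not at hc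
      exact one_ne_zero (b.repr.map_eq_zero_iff.1 (Finsupp.ext hc))
    have h2 := congrArg (fun z => Φ z i) h
    simp only [map_zero, Finsupp.zero_apply, Φ, TensorProduct.equivFinsuppOfBasisLeft_apply_tmul_apply] at h2
    exact (smul_eq_zero.1 h2).resolve_left hi
  have hcardK : (Fintype.card A : K) ≠ 0 := by
    rw [← Nat.card_eq_fintype_card, ← map_natCast (algebraMap (ZMod 2) K)]
    exact fun h0 => hne _ hoddA ((algebraMap (ZMod 2) K).injective (h0.trans (map_zero _).symm))
  rcases H26.weight_fixed σ A hcardK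
    (fun a ha => CommGroup.exists_apply_ne_one_of_hasEnoughRootsOfUnity A K ha)
    (CommGroup.card_monoidHom_of_hasEnoughRootsOfUnity A K) hfix0 (S₂ : Subgroup S) S₂.2 x hq hq2 hxord hfree
    F (fun v => Iff.rfl) with h | ⟨h2, hmove⟩
  · left
    calc 8 = 2 ^ 3 := by norm_num
      _ ≤ _ := Nat.pow_le_pow_right two_pos (h.trans hdim)
  · rcases Nat.lt_or_ge (Module.finrank (ZMod 2) E0) 3 with hlt | hge
    swap
    · exact Or.inl (le_trans (by norm_num : 8 ≤ 2 ^ 3) (Nat.pow_le_pow_right two_pos hge))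
    right
    refine ⟨by rw [show Module.finrank (ZMod 2) E0 = 2 by omega]; norm_num, x, hxq, ?_⟩
    by_contra hcon
    push Not at hcon
    obtain ⟨v, hv, hvx⟩ := hmove
    refine hvx (hWF ?_)
    obtain ⟨u, rfl⟩ := hFW hv
    clear hv hvx
    induction u using TensorProduct.induction_on with
    | zero => simp
    | tmul c e =>
      rw [LinearMap.baseChange_tmul, hσ]
      exact ⟨c ⊗ₜ[ZMod 2] (⟨ρ x e.1, hcon e.1 e.2⟩ : E0), LinearMap.baseChange_tmul _ _ _⟩
    | add u1 u2 h1 h2 =>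
      rw [map_add, map_add]
      exact add_mem h1 h2

end Cfsg.Agent.S4414
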