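import Cfsg.Statements.S4420


set_option autoImplicit false
open Cfsg

namespace Cfsg.Agent.S4420

/-- Structure of groups in which every element outside some proper subgroup has square 1. Let H be a finite group with a proper subgroup A such that every element outside A has square 1. Then H has an abelian normal subgroup B of index 2 such that every element outside B is an involution inverting every element of B; and if H is not an elementary abelian 2-group, B is the only abelian normal subgroup of index 2 with this property. -/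
theorem result {H : Type*} [Group H] [Finite H] (A : Subgroup H) (hA : A ≠ ⊤) (hD : ∀ x : H, x ∉ A → x ^ 2 = 1) :
    ∃ B : Subgroup H, B.Normal ∧ IsMulCommutative ↥B ∧ B.index = 2 ∧
      (∀ x : H, x ∉ B → x ^ 2 = 1 ∧ ∀ b ∈ B, x * b * x⁻¹ = b⁻¹) ∧
      (¬ (IsMulCommutative H ∧ ∀ x : H, x ^ 2 = 1) →
        ∀ B' : Subgroup H, B'.Normal → IsMulCommutative ↥B' → B'.index = 2 →
          (∀ x : H, x ∉ B' → x ^ 2 = 1 ∧ ∀ b ∈ B', x * b * x⁻¹ = b⁻¹) → B' = B) := by
  classical
  have hinv : ∀ x, x ∉ A → ∀ a ∈ A, x * a * x⁻¹ = a⁻¹ := by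
    intro x hx a ha
    have h1 : (x * a) * (x * a) = 1 := by
      rw [← pow_two]
      exact hD _ fun h => hx (by simpa using A.mul_mem h (A.inv_mem ha))
    have h2 : x⁻¹ = x := inv_eq_of_mul_eq_one_left (by rw [← pow_two]; exact hD x hx)
    rw [h2]
    exact eq_inv_of_mul_eq_one_left (by simpa [mul_assoc] using h1)
  obtain ⟨x₀, hx₀⟩ : ∃ x, x ∉ A := by
    by_contra hc
    push Not at hc
    exact hA (eq_top_iff.mpr fun x _ => hc x)
  have habA : ∀ a ∈ A, ∀ b ∈ A, a * b = b * a := by
    intro a ha b hb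
    have h1 := hinv x₀ hx₀ (a * b) (A.mul_mem ha hb)
    have h2 : x₀ * (a * b) * x₀⁻¹ = (x₀ * a * x₀⁻¹) * (x₀ * b * x₀⁻¹) := by simp [mul_assoc]
    rw [h2, hinv x₀ hx₀ a ha, hinv x₀ hx₀ b hb, ← mul_inv_rev, inv_inj] at h1
    exact h1.symm
  -- any two abelian subgroups of index two with the property coincide unless `H` is elementary
  have huniq : ∀ B B' : Subgroup H, IsMulCommutative ↥B → B.index = 2 →
      (∀ x : H, x ∉ B → x ^ 2 = 1 ∧ ∀ b ∈ B, x * b * x⁻¹ = b⁻¹) → B'.index = 2 →
      (∀ x : H, x ∉ B' → x ^ 2 = 1 ∧ ∀ b ∈ B', x * b * x⁻¹ = b⁻¹) →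
      ¬ (IsMulCommutative H ∧ ∀ x : H, x ^ 2 = 1) → B' = B := by
    intro B B' hc hi hp hi' hp' hne
    by_contra hBB
    obtain ⟨y, hyB, hyB'⟩ : ∃ y ∈ B, y ∉ B' := by
      by_contra hcon
      push Not at hcon
      have hle : B ≤ B' := hcon
      refine hBB (Subgroup.eq_of_le_of_card_ge hle ?_).symm
      have h1 := B.card_mul_index
      have h2 := B'.card_mul_index
      rw [hi] at h1
      rw [hi'] at h2
      omega
    have hyy : y * y = 1 := by rw [← pow_two]; exact (hp' y hyB').1
    have hcomm : ∀ b ∈ B, y * b = b * y := fun b hb => setLike_mul_comm (s := B) hyB hb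
    have hB2 : ∀ b ∈ B, b ^ 2 = 1 := by
      have hin : ∀ b ∈ B, b ∈ B' → b ^ 2 = 1 := by
        intro b hb hb'
        have h := (hp' y hyB').2 b hb'
        rw [hcomm b hb, mul_inv_cancel_right] at h
        rw [pow_two]
        conv_lhs => arg 2; rw [h]
        exact mul_inv_cancel b
      intro b hb
      by_cases hb' : b ∈ B'
      · exact hin b hb hb'
      · exact (hp' b hb').1
    apply hne
    have hall : ∀ z : H, z ^ 2 = 1 := fun z => by
      by_cases hz : z ∈ B
      · exact hB2 z hz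
      · exact (hp z hz).1
    refine ⟨⟨⟨fun a b => ?_⟩⟩, hall⟩
    have inv : ∀ c : H, c⁻¹ = c := fun c =>
      inv_eq_of_mul_eq_one_left (by rw [← pow_two]; exact hall c)
    calc a * b = (a * b)⁻¹ := (inv _).symm
      _ = b * a := by rw [mul_inv_rev, inv, inv]
  by_cases hcase : ∀ x, x ∉ A → ∀ y, y ∉ A → x * y ∈ A
  · have hidx : A.index = 2 := by
      rw [Subgroup.index_eq_two_iff]
      refine ⟨x₀, fun b => ?_⟩
      by_cases hb : b ∈ A
      · refine Or.inr ⟨hb, fun h => hx₀ ?_⟩
        simpa using A.mul_mem (A.inv_mem hb) h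
      · exact Or.inl ⟨hcase b hb x₀ hx₀, hb⟩
    have hcA : IsMulCommutative ↥A :=
      ⟨⟨fun a b => Subtype.ext (habA a a.2 b b.2)⟩⟩
    exact ⟨A, Subgroup.normal_of_index_eq_two hidx, hcA, hidx,
      fun x hx => ⟨hD x hx, hinv x hx⟩,
      fun hne B' _ _ hi' hp' => huniq A B' hcA hidx (fun x hx => ⟨hD x hx, hinv x hx⟩) hi' hp' hne⟩
  · push Not at hcase
    obtain ⟨x, hx, y, hy, hxy⟩ := hcase
    have hA2 : ∀ a ∈ A, a⁻¹ = a := by
      intro a ha
      have h1 := hinv (x * y) hxy a ha
      have h2 : x * y * a * (x * y)⁻¹ = x * (y * a * y⁻¹) * x⁻¹ := by simp [mul_assoc]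
      rw [h2, hinv y hy a ha, hinv x hx a⁻¹ (A.inv_mem ha), inv_inv] at h1
      exact h1.symm
    have hall : ∀ z : H, z ^ 2 = 1 := fun z => by
      by_cases hz : z ∈ A
      · rw [pow_two]
        conv_lhs => arg 1; rw [← hA2 z hz]
        exact inv_mul_cancel z
      · exact hD z hz
    have inv : ∀ c : H, c⁻¹ = c := fun c =>
      inv_eq_of_mul_eq_one_left (by rw [← pow_two]; exact hall c)
    have hcomm : ∀ a b : H, a * b = b * a := fun a b => by
      calc a * b = (a * b)⁻¹ := (inv _).symm
        _ = b * a := by rw [mul_inv_rev, inv, inv]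
    have hH : IsMulCommutative H := ⟨⟨hcomm⟩⟩
    obtain ⟨M, hM, -⟩ := (eq_top_or_exists_le_coatom A).resolve_left hA
    obtain ⟨z, hz⟩ : ∃ z, z ∉ M := by
      by_contra hc
      push Not at hc
      exact hM.1 (eq_top_iff.mpr fun x _ => hc x)
    let T : Subgroup H :=
    { carrier := {b | b * z ∈ M ∨ b ∈ M}
      one_mem' := Or.inr M.one_mem
      inv_mem' := fun {b} hb => by rw [inv b]; exact hb
      mul_mem' := fun {a b} ha hb => by
        rcases ha with ha | ha <;> rcases hb with hb | hb
        · right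
          have := M.mul_mem ha hb
          rwa [show a * z * (b * z) = a * b from by
            rw [hcomm b z, mul_assoc, ← mul_assoc z z, ← pow_two, hall, one_mul]] at this
        · left
          have := M.mul_mem ha hb
          rwa [mul_assoc, hcomm z b, ← mul_assoc] at this
        · left
          have := M.mul_mem ha hb
          rwa [← mul_assoc] at this
        · right; exact M.mul_mem ha hb }
    have hT : T = ⊤ := hM.2 T (lt_of_le_of_ne (fun b hb => Or.inr hb) fun h => hz (by
      rw [h]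
      exact Or.inl (by rw [← pow_two, hall]; exact M.one_mem)))
    have hidx : M.index = 2 := by
      rw [Subgroup.index_eq_two_iff]
      refine ⟨z, fun b => ?_⟩
      rcases (hT.symm ▸ Subgroup.mem_top b : b ∈ T) with h | h
      · exact Or.inl ⟨h, fun hb => hz (by simpa using M.mul_mem (M.inv_mem hb) h)⟩
      · exact Or.inr ⟨h, fun hb => hz (by simpa using M.mul_mem (M.inv_mem h) hb)⟩
    refine ⟨M, Subgroup.normal_of_index_eq_two hidx, ⟨⟨fun a b => Subtype.ext (hcomm a b)⟩⟩, hidx,
      fun u _ => ⟨hall u, fun b _ => ?_⟩, fun hne => absurd ⟨hH, hall⟩ hne⟩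
    rw [hcomm u b, mul_inv_cancel_right, inv b]

end Cfsg.Agent.S4420
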