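import Cfsg.Statements.S4422


set_option autoImplicit false
open Cfsg

namespace Cfsg.Agent.S4422

/-- Primitive divisors of `q^e - 1` are congruent to 1 modulo `e`. Let `q ≥ 2` and `e ≥ 1` be natural numbers and let `m` be a divisor of `q^e - 1` that is coprime to `q^i - 1` for every `1 ≤ i < e` (so `m` divides the primitive part of `q^e - 1`, the largest such divisor). Then `m ≡ 1 (mod e)`. -/
theorem result (q e m : ℕ) (hq : 2 ≤ q) (he : 1 ≤ e)
    (hm : m ∣ q ^ e - 1) (hcop : ∀ i : ℕ, 1 ≤ i → i < e → Nat.Coprime m (q ^ i - 1)) :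
    m % e = 1 % e := by
  have h1q : 1 ≤ q ^ e := Nat.one_le_pow _ _ (by omega)
  have hm0 : m ≠ 0 := by
    rintro rfl
    have h2 : q ^ e - 1 = 0 := by simpa using hm
    have h3 : q ≤ q ^ e := Nat.le_self_pow (by omega) q
    omega
  have key : ∀ r : ℕ, r.Prime → r ∣ m → r % e = 1 % e := by
    intro r hr hrm
    haveI : Fact r.Prime := ⟨hr⟩
    have hre : r ∣ q ^ e - 1 := hrm.trans hm
    have hqe : (q : ZMod r) ^ e = 1 := by
      have := (ZMod.natCast_eq_zero_iff (q ^ e - 1) r).2 hre
      rw [Nat.cast_sub h1q, Nat.cast_pow, Nat.cast_one, sub_eq_zero] at this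
      exact this
    have hq0 : (q : ZMod r) ≠ 0 := by
      intro h
      rw [h, zero_pow (by omega : e ≠ 0)] at hqe
      exact zero_ne_one hqe
    have hord : orderOf (q : ZMod r) = e := by
      rw [orderOf_eq_iff (by omega)]
      refine ⟨hqe, fun i hi hi0 hcon => ?_⟩
      have h1i : 1 ≤ q ^ i := Nat.one_le_pow _ _ (by omega)
      have hdvd : r ∣ q ^ i - 1 := by
        rw [← ZMod.natCast_eq_zero_iff, Nat.cast_sub h1i, Nat.cast_pow, Nat.cast_one, hcon, sub_self]
      have := Nat.dvd_gcd hrm hdvd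
      rw [hcop i hi0 hi] at this
      exact hr.one_lt.ne' (Nat.dvd_one.1 this)
    have hdvd := ZMod.orderOf_dvd_card_sub_one hq0
    rw [hord] at hdvd
    obtain ⟨c, hc⟩ := hdvd
    have : r = 1 + e * c := by have := hr.two_le; omega
    rw [this, Nat.add_mul_mod_self_left]
  have gen : ∀ k : ℕ, k ≠ 0 → k ∣ m → k % e = 1 % e := by
    intro k
    induction k using induction_on_primes with
    | zero => simp
    | one => simp
    | prime_mul r a hr ih =>
      intro hk hd
      rw [Nat.mul_mod, key r hr (dvd_of_mul_right_dvd hd), ih (right_ne_zero_of_mul hk) (dvd_of_mul_left_dvd hd), ← Nat.mul_mod]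
  exact gen m hm0 dvd_rfl

end Cfsg.Agent.S4422
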