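import Cfsg.Statements.S4425
import Cfsg.Agent.H21.RegCongr

set_option autoImplicit false
open Cfsg

namespace Cfsg.Agent.S4425

/-- Let χ be an irreducible character of the finite group G, p a prime, p^a the p-part of the order of G and p^b the p-part of the degree χ(1). Let χ̃ be the class function equal to p^a · χ on p-regular elements and zero on p-singular elements. Then p^(−b) · χ̃ is a generalized character of G, while p^(−(b+1)) · χ̃ is not. -/
theorem result {G : Type*} [Group G] [Finite G] (p : ℕ) [Fact p.Prime] (χ : Cfsg.IrrCharacter G) : Cfsg.IsGeneralizedCharacter G (fun x : G => if p ∣ orderOf x then (0 : ℂ) else ((p ^ ((Nat.card G).factorization p - (Cfsg.charDegree (χ : G → ℂ)).factorization p) : ℕ) : ℂ) * (χ : G → ℂ) x) ∧ ¬ Cfsg.IsGeneralizedCharacter G (fun x : G => if p ∣ orderOf x then (0 : ℂ) else ((p ^ (Nat.card G).factorization p : ℕ) : ℂ) / ((p ^ ((Cfsg.charDegree (χ : G → ℂ)).factorization p + 1) : ℕ) : ℂ) * (χ : G → ℂ) x) := by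
  classical
  haveI : Fintype G := Fintype.ofFinite G
  set a := (Nat.card G).factorization p
  set b := (Cfsg.charDegree (χ : G → ℂ)).factorization p
  have hp0 : (p : ℂ) ≠ 0 := Nat.cast_ne_zero.2 (Fact.out : p.Prime).ne_zero
  have hba : b ≤ a := by
    have hdvd : Cfsg.charDegree (χ : G → ℂ) ∣ Nat.card G := H12.irr_degree_dvd_card χ
    exact (Nat.factorization_le_iff_dvd (H21.charDegree_pos χ).ne' Nat.card_pos.ne').2 hdvd p
  constructor
  · have h := H21.isGeneralized_scaled_tilde χ b
      (fun ξ n hn => H21.pow_factorization_dvd_inner χ ξ n hn)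
    convert h using 1
    funext x
    simp only [H21.tilde]
    split_ifs
    · simp
    · push_cast
      rw [← pow_mul_pow_sub (p : ℂ) hba, ← mul_assoc, ← mul_assoc,
        inv_mul_cancel₀ (pow_ne_zero _ hp0), one_mul]
  · intro h
    refine H21.not_isGeneralized_scaled_tilde χ (b + 1) (Nat.lt_succ_self _) ?_
    convert h using 1
    funext x
    simp only [H21.tilde]
    split_ifs
    · simp
    · push_cast
      ring

end Cfsg.Agent.S4425
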