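import Cfsg.Statements.S4426
import Cfsg.Agent.H21.RegCongr

set_option autoImplicit false
open Cfsg

namespace Cfsg.Agent.S4426

/-- Let χ be an irreducible character in the p-block B of the finite group G (relative to a maximal ideal M of the algebraic integers containing p), let p^a be the p-part of the order of G, and let χ̃ be the class function equal to p^a · χ on p-regular elements and zero elsewhere. For ξ ∈ B the inner product [χ̃, ξ] is an integer. The following are equivalent: (a) χ has height zero in B; (b) for some ξ ∈ B the integer [χ̃, ξ] is nonzero and the exact power of p dividing it equals the exact power of p dividing ξ(1); (c) the same holds for every ξ ∈ B. -/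
theorem result {G : Type*} [Group G] [Fintype G] (p : ℕ) [Fact p.Prime] (M : Ideal Cfsg.AlgInt) (hM : Cfsg.IsPModular p M) (B : Set (Cfsg.IrrCharacter G)) (hB : Cfsg.IsPBlock M B) (χ : Cfsg.IrrCharacter G) (hχ : χ ∈ B) : (Cfsg.blockHeight p B (χ : G → ℂ) = 0 ↔ ∃ ξ ∈ B, ∃ n : ℤ, Cfsg.classInner (fun x : G => if p ∣ orderOf x then (0 : ℂ) else ((p ^ (Nat.card G).factorization p : ℕ) : ℂ) * (χ : G → ℂ) x) (ξ : G → ℂ) = (n : ℂ) ∧ n ≠ 0 ∧ padicValInt p n = (Cfsg.charDegree (ξ : G → ℂ)).factorization p) ∧ (Cfsg.blockHeight p B (χ : G → ℂ) = 0 ↔ ∀ ξ ∈ B, ∃ n : ℤ, Cfsg.classInner (fun x : G => if p ∣ orderOf x then (0 : ℂ) else ((p ^ (Nat.card G).factorization p : ℕ) : ℂ) * (χ : G → ℂ) x) (ξ : G → ℂ) = (n : ℂ) ∧ n ≠ 0 ∧ padicValInt p n = (Cfsg.charDegree (ξ : G → ℂ)).factorization p) := by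
  classical
  haveI : M.IsPrime := hM.2.1.isPrime
  have key : ∀ ξ ∈ B, (∃ n : ℤ, Cfsg.classInner (H21.tilde p (χ : G → ℂ)) (ξ : G → ℂ) = (n : ℂ) ∧
      n ≠ 0 ∧ padicValInt p n = (Cfsg.charDegree (ξ : G → ℂ)).factorization p) ↔
      Cfsg.blockHeight p B (χ : G → ℂ) = 0 := by
    intro ξ hξ
    obtain ⟨n, z, hn, hz, heq⟩ := H21.exists_int_avgChar (p := p) χ ξ
    rw [← H21.redC_avgChar_ne_zero_iff hM hB hχ hξ, hz, Ne, H21.redC_int_eq_zero_iff hM,
      ← (H21.factorization_int_of_eq (Nat.not_dvd_ordCompl Fact.out Nat.card_pos.ne')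
        (H21.charDegree_pos ξ).ne' heq).2]
    constructor
    · rintro ⟨n', h1, h2⟩
      have : n' = n := by exact_mod_cast h1.symm.trans hn
      subst this
      exact h2
    · exact fun h => ⟨n, hn, h⟩
  constructor
  · exact ⟨fun h => ⟨χ, hχ, (key χ hχ).2 h⟩, fun ⟨ξ, hξ, hh⟩ => (key ξ hξ).1 hh⟩
  · exact ⟨fun h ξ hξ => (key ξ hξ).2 h, fun h => (key χ hχ).1 (h χ hχ)⟩

end Cfsg.Agent.S4426
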