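import Cfsg.Statements.S4430
import Cfsg.Agent.H21.RegCongr
import Cfsg.Agent.H12.Induction

set_option autoImplicit false
open Cfsg

namespace Cfsg.Agent.S4430

/-- Let H be a subgroup of the finite group G, b a block of H whose induced block B₀ in G is defined (relative to a maximal ideal M of the algebraic integers containing p), and ξ ∈ b. For a block B of G let n_B be the value at 1 of the B-part of the induced character ξ^G (a natural number: the sum over χ ∈ B of the multiplicity of χ in ξ^G times χ(1)). Then for B = B₀ the exact power of p dividing n_B equals the exact power of p dividing ξ^G(1), while for every other block B either n_B = 0 or n_B is divisible by a strictly higher power of p than ξ^G(1). -/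
theorem result {G : Type*} [Group G] [Fintype G] (p : ℕ) [Fact p.Prime] (M : Ideal Cfsg.AlgInt) (hM : Cfsg.IsPModular p M) (H : Subgroup G) [Fintype H] (b : Set (Cfsg.IrrCharacter H)) (B₀ : Set (Cfsg.IrrCharacter G)) (hind : Cfsg.IsInducedBlock M H b B₀) (ξ : Cfsg.IrrCharacter H) (hξ : ξ ∈ b) : (∃ n : ℕ, Cfsg.blockPart B₀ (Cfsg.indFun H (ξ : H → ℂ)) 1 = (n : ℂ) ∧ n ≠ 0 ∧ n.factorization p = (Cfsg.charDegree (Cfsg.indFun H (ξ : H → ℂ))).factorization p) ∧ ∀ B : Set (Cfsg.IrrCharacter G), Cfsg.IsPBlock M B → B ≠ B₀ → ∃ n : ℕ, Cfsg.blockPart B (Cfsg.indFun H (ξ : H → ℂ)) 1 = (n : ℂ) ∧ (n = 0 ∨ (Cfsg.charDegree (Cfsg.indFun H (ξ : H → ℂ))).factorization p < n.factorization p) := by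
  classical
  haveI : M.IsPrime := hM.2.1.isPrime
  obtain ⟨χ₀, hχ₀⟩ := H20.block_nonempty hind.2.1
  set D : ℕ := Cfsg.charDegree (Cfsg.indFun H (ξ : H → ℂ)) with hDdef
  have hI : Cfsg.IsCharacter G (Cfsg.indFun H (ξ : H → ℂ)) :=
    H21.indFun_isCharacter H (H12.isCharacter_irr ξ)
  have hI1 : Cfsg.indFun H (ξ : H → ℂ) 1 = (D : ℂ) := H12.IsCharacter.apply_one_eq_degree hI
  have hval : (D : ℂ) = (Nat.card G : ℂ) * (Nat.card H : ℂ)⁻¹ * (ξ : H → ℂ) 1 := by
    rw [← hI1, H12.indFun_one]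
    have : (Nat.card H : ℂ) ≠ 0 := Nat.cast_ne_zero.2 Nat.card_pos.ne'
    rw [← Subgroup.card_mul_index H]
    push_cast
    field_simp
  have hD0 : D ≠ 0 := by
    intro h
    rw [h, Nat.cast_zero, eq_comm, mul_eq_zero] at hval
    rcases hval with h' | h'
    · simp [Nat.card_pos.ne'] at h'
    · exact H12.irr_apply_one_ne_zero ξ h'
  have main : ∀ B : Set (Cfsg.IrrCharacter G), Cfsg.IsPBlock M B → ∃ n : ℕ,
      Cfsg.blockPart B (Cfsg.indFun H (ξ : H → ℂ)) 1 = (n : ℂ) ∧
      MemLocalRing M ((n : ℂ) / (D : ℂ)) ∧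
      H20.redC M ((n : ℂ) / (D : ℂ)) = if χ₀ ∈ B then 1 else 0 := by
    intro B hB
    choose f hf using fun χ : Cfsg.IrrCharacter G =>
      H12.IsCharacter.classInner_nat hI (H12.isCharacter_irr χ)
    refine ⟨∑ χ : Cfsg.IrrCharacter G,
      if χ ∈ B then f χ * Cfsg.charDegree (χ : G → ℂ) else 0, ?_⟩
    have hn : Cfsg.blockPart B (Cfsg.indFun H (ξ : H → ℂ)) 1 = ((∑ χ : Cfsg.IrrCharacter G,
        if χ ∈ B then f χ * Cfsg.charDegree (χ : G → ℂ) else 0 : ℕ) : ℂ) := by
      rw [Cfsg.blockPart, finsum_mem_eq_finite_toFinset_sum _ (Set.toFinite _)]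
      push_cast
      rw [← Finset.sum_filter]
      refine Finset.sum_congr (by ext; simp) fun χ _ => ?_
      rw [← H21.charDegree_eq, ← hf χ]
      congr 1
      unfold Cfsg.classInner
      congr 2
      exact congrArg (fun i : Fintype G => @Finset.univ G i) (Subsingleton.elim _ _)
    obtain ⟨hmem, hred⟩ := H21.redC_avgChar_induced hind hξ hχ₀ (Cfsg.blockCoeff B)
      (fun g y => (H20.blockCoeff_of_isConj B (isConj_iff.2 ⟨y, rfl⟩)).symm)
      (H20.memRing_blockCoeff hB)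
    have hw : ((∑ χ : Cfsg.IrrCharacter G,
        if χ ∈ B then f χ * Cfsg.charDegree (χ : G → ℂ) else 0 : ℕ) : ℂ) / (D : ℂ) =
        (∑ h : H, Cfsg.blockCoeff B h * (ξ : H → ℂ) h) / (ξ : H → ℂ) 1 := by
      rw [← hn, H21.blockPart_indFun_one, hval, mul_div_mul_left]
      exact mul_ne_zero H12.card_ne_zero' (inv_ne_zero (Nat.cast_ne_zero.2 Nat.card_pos.ne'))
    refine ⟨hn, hw ▸ hmem, ?_⟩
    rw [hw, hred]
    have he := H20.omega_eIdem B χ₀
    simp only [H20.omega, H20.eIdem, H20.coeff_ofFun] at he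
    rw [H21.avgChar, he]
    split_ifs <;> simp [H20.redC_one, H20.redC_zero]
  constructor
  · obtain ⟨n, hn, hmem, hred⟩ := main B₀ hind.2.1
    rw [if_pos hχ₀] at hred
    obtain ⟨h1, h2⟩ := (H21.factorization_of_memRing_div hM hD0 hmem).1 (hred ▸ one_ne_zero)
    exact ⟨n, hn, h1, h2⟩
  · intro B hB hne
    obtain ⟨n, hn, hmem, hred⟩ := main B hB
    rw [if_neg fun h => hne (H20.block_eq_of_mem hB hind.2.1 h hχ₀)] at hred
    exact ⟨n, hn, (H21.factorization_of_memRing_div hM hD0 hmem).2 hred⟩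

end Cfsg.Agent.S4430
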