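import Cfsg.Statements.S4431
import Cfsg.Agent.H21.RegCongr

set_option autoImplicit false
open Cfsg

namespace Cfsg.Agent.S4431

/-- Let H be a subgroup of the finite group G and b a block of H whose induced block B₀ in G is defined (relative to a maximal ideal M of the algebraic integers containing p). Let χ be an irreducible character of G, ψ ∈ b, and let η be the class function on H equal to p^a · χ on the p-regular elements of H and zero elsewhere, p^a being the p-part of the order of H. Then (a) if χ ∉ B₀, the number [η, ψ]/ψ(1) lies in the local ideal at M; (b) if χ ∈ B₀ has height zero, it does not. -/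
theorem result {G : Type*} [Group G] [Fintype G] (p : ℕ) [Fact p.Prime] (M : Ideal Cfsg.AlgInt) (hM : Cfsg.IsPModular p M) (H : Subgroup G) [Fintype H] (b : Set (Cfsg.IrrCharacter H)) (B₀ : Set (Cfsg.IrrCharacter G)) (hind : Cfsg.IsInducedBlock M H b B₀) (χ : Cfsg.IrrCharacter G) (ψ : Cfsg.IrrCharacter H) (hψ : ψ ∈ b) : (χ ∉ B₀ → Cfsg.MemLocalIdeal M (Cfsg.classInner (fun h : H => if p ∣ orderOf h then (0 : ℂ) else ((p ^ (Nat.card H).factorization p : ℕ) : ℂ) * (χ : G → ℂ) h) (ψ : H → ℂ) / (ψ : H → ℂ) 1)) ∧ (χ ∈ B₀ → Cfsg.blockHeight p B₀ (χ : G → ℂ) = 0 → ¬ Cfsg.MemLocalIdeal M (Cfsg.classInner (fun h : H => if p ∣ orderOf h then (0 : ℂ) else ((p ^ (Nat.card H).factorization p : ℕ) : ℂ) * (χ : G → ℂ) h) (ψ : H → ℂ) / (ψ : H → ℂ) 1)) := by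
  classical
  haveI : M.IsPrime := hM.2.1.isPrime
  obtain ⟨χ₀, hχ₀⟩ := H20.block_nonempty hind.2.1
  set φ : H → ℂ := fun h => (χ : G → ℂ) h with hφdef
  have hφ : Cfsg.IsCharacter H φ := H12.IsCharacter.res (H12.isCharacter_irr χ) H
  set m : ℕ := ordCompl[p] (Nat.card H)
  set W := Cfsg.classInner (H21.tilde p φ) (ψ : H → ℂ) / (ψ : H → ℂ) 1
  have hmul : W * (m : ℂ) = H21.avgChar ψ (H21.regConj p φ) := by
    have h := H21.classInner_tilde_mul (p := p) hφ ψ
    rw [div_mul_eq_mul_div, h, mul_div_cancel_right₀ _ (H12.irr_apply_one_ne_zero ψ)]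
  have havg : H21.avgChar ψ (H21.regConj p φ) =
      (∑ h : H, H21.regConj p (χ : G → ℂ) h * (ψ : H → ℂ) h) / (ψ : H → ℂ) 1 := by
    unfold H21.avgChar
    congr 1
    refine Finset.sum_congr rfl fun h _ => ?_
    simp only [H21.regConj, hφdef, Subgroup.orderOf_coe]
  obtain ⟨hmem, hred⟩ := H21.redC_avgChar_induced hind hψ hχ₀ _
    (H21.isClassFunction_regConj p (H12.irr_isClassFunction χ))
    (H21.memRing_regConj (H12.isCharacter_irr χ))
  rw [← havg] at hmem hred
  have hm : ¬ p ∣ m := Nat.not_dvd_ordCompl Fact.out Nat.card_pos.ne'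
  have hm0 : (m : ℂ) ≠ 0 := Nat.cast_ne_zero.2 fun h => hm (h ▸ dvd_zero p)
  have hW : MemLocalRing M W ∧ (Cfsg.MemLocalIdeal M W ↔
      H20.redC M (H21.avgChar χ₀ (H21.regConj p (χ : G → ℂ))) = 0) := by
    have hW' : W = H21.avgChar ψ (H21.regConj p φ) * (m : ℂ)⁻¹ := by
      rw [← hmul, mul_assoc, mul_inv_cancel₀ hm0, mul_one]
    have hinv := H20.inv_natCast_memRing hM hm
    have hWm : MemLocalRing M W := hW' ▸ H20.memRing_mul hmem hinv
    refine ⟨hWm, ?_⟩
    rw [← H20.redC_eq_zero_iff hWm, hW', H20.redC_mul hmem hinv, hred, mul_eq_zero]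
    refine ⟨fun h => h.resolve_right fun h0 => ?_, Or.inl⟩
    have h1 := H20.redC_mul (H20.memRing_natCast (M := M) m) hinv
    rw [mul_inv_cancel₀ hm0, H20.redC_one, h0, mul_zero] at h1
    exact one_ne_zero h1
  refine ⟨fun hnot => hW.2.2 ?_, fun hin hzero hid => ?_⟩
  · obtain ⟨n, z, hn, hz, heq⟩ := H21.exists_int_avgChar (p := p) χ χ₀
    rw [H21.classInner_tilde_comm,
      H21.classInner_tilde_eq_zero hM hind.2.1 hχ₀ hnot] at hn
    have hn0 : n = 0 := by exact_mod_cast hn.symm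
    rw [hn0, zero_mul, eq_comm, mul_eq_zero] at heq
    rcases heq with hz0 | hd
    · rw [hz, hz0, Int.cast_zero, H20.redC_zero]
    · exact absurd (by exact_mod_cast hd) (H21.charDegree_pos χ₀).ne'
  · exact (H21.redC_avgChar_ne_zero_iff hM hind.2.1 hin hχ₀).2 hzero (hW.2.1 hid)

end Cfsg.Agent.S4431
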