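import Cfsg.Statements.S4442
import Cfsg.Agent.H85.D1.Final

set_option autoImplicit false
open Cfsg

namespace Cfsg.Agent.S4442

/-- Blocks of defect one. Let p be an odd prime and G a finite group whose Sylow p-subgroup P has order p; let C = C_G(P) and N = N_G(P), and fix a maximal ideal M of the algebraic integers containing p. Let B be a block of G with defect group P, b a block of C inducing B, and θ the member of b having P in its kernel (there is exactly one). Let T be the stabilizer of θ in N (the elements g ∈ N with θ(g c g⁻¹) = θ(c) for all c ∈ C) and e the index of C in T. Then e divides p − 1 and B contains exactly e + (p − 1)/e irreducible characters. Moreover B is the disjoint union of a set X of e characters and a set Y of (p − 1)/e characters such that, with f the index of C in N: every χ ∈ X has χ(1) ≡ ±(f/e)·θ(1) (mod p), there is one sign ε with ψ(1) ≡ ε f θ(1) (mod p) for all ψ ∈ Y, and all members of Y agree on the p-regular elements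 of G. -/
theorem result {G : Type*} [Group G] [Finite G] (p : ℕ) [Fact p.Prime] (M : Ideal Cfsg.AlgInt) (hM : Cfsg.IsPModular p M) (hodd : p ≠ 2) (P : Sylow p G) (hP : Nat.card P = p) (B : Set (Cfsg.IrrCharacter G)) (hB : Cfsg.IsPBlock M B) (hBP : Cfsg.IsDefectGroup p M B P) (b : Set (Cfsg.IrrCharacter (Subgroup.centralizer ((P : Subgroup G) : Set G)))) (hind : Cfsg.IsInducedBlock M (Subgroup.centralizer ((P : Subgroup G) : Set G)) b B) (θ : Cfsg.IrrCharacter (Subgroup.centralizer ((P : Subgroup G) : Set G))) (hθ : θ ∈ b) (hθP : ∀ x : Subgroup.centralizer ((P : Subgroup G) : Set G), (x : G) ∈ (P : Subgroup G) → (θ : Subgroup.centralizer ((P : Subgroup G) : Set G) → ℂ) x = (θ : Subgroup.centralizer ((P : Subgroup G) : Set G) → ℂ) 1) (T : Subgroup G) (hT : ∀ g : G, g ∈ T ↔ (g ∈ Subgroup.normalizer ((P : Subgroup G) : Set G) ∧ ∀ c c' : Subgroup.centralizer ((P : Subgroup G) : Set G), (c' : G) = g * c * g⁻¹ → (θ : Subgroup.centralizer ((P : Subgroup G)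 : Set G) → ℂ) c' = (θ : Subgroup.centralizer ((P : Subgroup G) : Set G) → ℂ) c)) (e f : ℕ) (he : (Subgroup.centralizer ((P : Subgroup G) : Set G)).relIndex T = e) (hf : (Subgroup.centralizer ((P : Subgroup G) : Set G)).relIndex (Subgroup.normalizer ((P : Subgroup G) : Set G)) = f) : e ∣ p - 1 ∧ Nat.card B = e + (p - 1) / e ∧ ∃ X Y : Set (Cfsg.IrrCharacter G), B = X ∪ Y ∧ Disjoint X Y ∧ Nat.card X = e ∧ Nat.card Y = (p - 1) / e ∧ (∀ χ ∈ X, (Cfsg.charDegree (χ : G → ℂ) : ℤ) ≡ ((f / e * Cfsg.charDegree (θ : Subgroup.centralizer ((P : Subgroup G) : Set G) → ℂ) : ℕ) : ℤ) [ZMOD p] ∨ (Cfsg.charDegree (χ : G → ℂ) : ℤ) ≡ -((f / e * Cfsg.charDegree (θ : Subgroup.centralizer ((P : Subgroup G) : Set G) → ℂ) : ℕ) : ℤ) [ZMOD p]) ∧ (∃ ε : ℤ, (ε = 1 ∨ ε = -1) ∧ ∀ ψ ∈ Y, (Cfsg.charDegree (ψ : G → ℂ) : ℤ) ≡ ε * ((f * Cfsg.charDegree (θ : Subgroup.centralizer ((P : Subgroup G) : Set G) → ℂ) : ℕ) : ℤ) [ZMOD p]) ∧ ∀ ψ ∈ Y, ∀ ψ' ∈ Y, ∀ g : G, ¬ p ∣ orderOf g → (ψ : G →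 ℂ) g = (ψ' : G → ℂ) g := by
  classical
  haveI : Fintype G := Fintype.ofFinite _
  haveI : M.IsPrime := H20.isPrime_of_modular hM
  obtain ⟨u, a, H, D⟩ := H85.D1.exists_setting hP
  haveI : Fintype H := Fintype.ofFinite _
  haveI : Fintype (P : Subgroup G) := Fintype.ofFinite _
  obtain ⟨φ, hφ, hker⟩ := D.exists_restrict θ hθP
  haveI : Fintype (D.aut φ) := Fintype.ofFinite _
  have hTeq : T = D.stab φ := SetLike.ext fun g => by rw [hT, D.stab_iff θ hker]
  have hB' := D.block_eq_supp_of_induced hM hB (D.blockDefect_pos hM hB hBP) hind hθ hφ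
  obtain ⟨S⟩ := D.exists_shape hM φ
  rw [← D.union_eq_supp S] at hB'
  have hee : e = Nat.card (D.aut φ) := by rw [← he, hTeq, D.relIndex_stab]
  have hff : f = Nat.card (D.orbit φ) * e := by rw [← hf, D.relIndex_normalizer φ, hee]
  have he0 : 0 < e := hee ▸ Nat.card_pos
  have hte := S.card_Y
  have hY : Nat.card S.Y = (p - 1) / e := by
    rw [← hee] at hte
    rw [show p - 1 = Nat.card S.Y * e by omega, Nat.mul_div_cancel _ he0]
  have hX : Nat.card S.X = e := S.card_X.trans hee.symm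
  have hdeg : Cfsg.charDegree
      (θ : Subgroup.centralizer ((P : Subgroup G) : Set G) → ℂ) = H12.degree (φ : H → ℂ) := by
    rw [H20.charDegree_eq_degree]
    have h1 := hφ 1
    rw [H12.irr_apply_one, map_one, H12.irr_apply_one] at h1
    exact_mod_cast h1.symm
  have hmemX : ∀ χ ∈ S.X, χ ∈ D.supp φ := fun χ hχ => D.union_eq_supp S ▸ Or.inl hχ
  have hmemY : ∀ χ ∈ S.Y, χ ∈ D.supp φ := fun χ hχ => D.union_eq_supp S ▸ Or.inr hχ
  refine ⟨?_, ?_, S.X, S.Y, hB', S.disj, hX, hY, fun χ hχ => ?_, ⟨S.ε, S.ε_eq, fun ψ hψ => ?_⟩,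
    fun ψ hψ ψ' hψ' g hg => congrFun (S.regY ψ hψ ψ' hψ') ⟨g, hg⟩⟩
  · rw [← hee] at hte
    exact ⟨Nat.card S.Y, by rw [mul_comm e]; omega⟩
  · rw [hB', Nat.card_coe_set_eq, Set.ncard_union_eq S.disj, ← Nat.card_coe_set_eq,
      ← Nat.card_coe_set_eq, hX, hY]
  · have h1 := D.degree_modEq hM (hmemX χ hχ) (c := S.εX χ) (fun x hx hx1 => by
      have h2 := S.colX χ hχ ⟨x, hx⟩ (fun h3 => hx1 (congrArg Subtype.val h3))
      rw [show D.col φ χ x = (S.εX χ : ℂ) from h2, sub_self]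
      exact H20.memIdeal_zero)
    rw [hdeg, hff, Nat.mul_div_cancel _ he0, H20.charDegree_eq_degree]
    rcases S.εX_eq χ hχ with h2 | h2 <;> rw [h2] at h1
    · left; simpa using h1
    · right; simpa using h1
  · obtain ⟨ξ, hξ, hcol⟩ := S.colY ψ hψ
    have h1 := D.degree_modEq hM (hmemY ψ hψ) (c := S.ε * (e : ℤ)) (fun x hx hx1 => by
      have h2 := hcol ⟨x, hx⟩ (fun h3 => hx1 (congrArg Subtype.val h3))
      rw [show D.col φ ψ x = _ from h2]
      have h3 : ((S.ε * (e : ℤ) : ℤ) : ℂ) = ∑ _α : D.aut φ, (S.ε : ℂ) := by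
        rw [Finset.sum_const, Finset.card_univ, ← Nat.card_eq_fintype_card, ← hee, nsmul_eq_mul]
        push_cast; ring
      rw [h3, Finset.mul_sum, ← Finset.sum_sub_distrib]
      refine Finset.sum_induction _ (Cfsg.MemLocalIdeal M) (fun _ _ => H20.memIdeal_add)
        H20.memIdeal_zero fun α _ => ?_
      rw [← mul_sub_one]
      refine H20.memIdeal_mul (H20.memRing_intCast _) ?_
      set y := (α : MulAut (P : Subgroup G)) ⟨x, hx⟩
      obtain ⟨k, hk⟩ := IsPGroup.iff_orderOf.1 P.isPGroup' y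
      have hval : (ξ y : ℂ) ^ p ^ k = 1 := by
        rw [← Units.val_pow_eq_pow_val, ← map_pow, ← hk, pow_orderOf_eq_one, map_one,
          Units.val_one]
      let w : H20.O M := ⟨(ξ y : ℂ),
        H20.memRing_of_pow_eq_one (pow_pos (Fact.out : p.Prime).pos k) hval⟩
      have h4 := H20.red_eq_one_of_pow_p_pow hM (w := w) (Subtype.ext hval)
      rwa [← map_one (H20.red M), H20.red_eq_red_iff] at h4)
    rw [hdeg, hff, H20.charDegree_eq_degree]
    convert h1 using 1
    push_cast; ring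

end Cfsg.Agent.S4442
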