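import Cfsg.Statements.S4444
import Cfsg.Agent.H12.Glauberman

set_option autoImplicit false
open Cfsg

namespace Cfsg.Agent.S4444

/-- The Glauberman correspondence for a p-group of operators. Inside a finite group Γ let S normalise G with the orders of G and S coprime, S a p-group, and let C = G ⊓ C(S) be the fixed points. Call an irreducible character χ of G S-invariant when χ(s g s⁻¹) = χ(g) for s ∈ S, g ∈ G. Then: (i) for every S-invariant χ there is exactly one irreducible character β of C whose multiplicity [χ_C, β] in the restriction of χ is not divisible by p; (ii) that multiplicity is ≡ 1 or ≡ −1 (mod p); (iii) distinct S-invariant χ give distinct β; (iv) every irreducible character of C arises in this way. So χ ↦ β is a bijection from the S-invariant irreducible characters of G onto the irreducible characters of C. -/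
theorem result {Γ : Type*} [Group Γ] [Fintype Γ] (G S : Subgroup Γ) [Fintype G] (hnorm : ∀ s ∈ S, ∀ g ∈ G, s * g * s⁻¹ ∈ G) (hcop : (Nat.card G).Coprime (Nat.card S)) (p : ℕ) (hp : p.Prime) (hS : IsPGroup p S) (C : Subgroup Γ) [Fintype C] (hC : C = G ⊓ Subgroup.centralizer (S : Set Γ)) (hCG : C ≤ G) : (∀ χ : Cfsg.IrrCharacter G, (∀ s ∈ S, ∀ g g' : G, (g' : Γ) = s * g * s⁻¹ → (χ : G → ℂ) g' = (χ : G → ℂ) g) → ∃! β : Cfsg.IrrCharacter C, ∃ m : ℕ, Cfsg.classInner (fun c : C => (χ : G → ℂ) ⟨c, hCG c.2⟩) (β : C → ℂ) = (m : ℂ) ∧ ¬ p ∣ m) ∧ (∀ χ : Cfsg.IrrCharacter G, (∀ s ∈ S, ∀ g g' : G, (g' : Γ) = s * g * s⁻¹ → (χ : G → ℂ) g' = (χ : G → ℂ) g) → ∀ β : Cfsg.IrrCharacter C, ∀ m : ℕ, Cfsg.classInner (fun c : C => (χ : G → ℂ) ⟨c, hCG c.2⟩) (β : C → ℂ) = (m : ℂ) → ¬ p ∣ m → ((m : ℤ) ≡ 1 [ZMOD p] ∨ (m : ℤ) ≡ -1 [ZMOD p])) ∧ (∀ χ χ' : Cfsg.IrrCharacter G, (∀ s ∈ S, ∀ g g' : G, (g' : Γ) = s * g * s⁻¹ → (χ : G → ℂ) g' = (χ : G →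 ℂ) g) → (∀ s ∈ S, ∀ g g' : G, (g' : Γ) = s * g * s⁻¹ → (χ' : G → ℂ) g' = (χ' : G → ℂ) g) → ∀ β : Cfsg.IrrCharacter C, ∀ m m' : ℕ, Cfsg.classInner (fun c : C => (χ : G → ℂ) ⟨c, hCG c.2⟩) (β : C → ℂ) = (m : ℂ) → ¬ p ∣ m → Cfsg.classInner (fun c : C => (χ' : G → ℂ) ⟨c, hCG c.2⟩) (β : C → ℂ) = (m' : ℂ) → ¬ p ∣ m' → χ = χ') ∧ (∀ β : Cfsg.IrrCharacter C, ∃ χ : Cfsg.IrrCharacter G, (∀ s ∈ S, ∀ g g' : G, (g' : Γ) = s * g * s⁻¹ → (χ : G → ℂ) g' = (χ : G → ℂ) g) ∧ ∃ m : ℕ, Cfsg.classInner (fun c : C => (χ : G → ℂ) ⟨c, hCG c.2⟩) (β : C → ℂ) = (m : ℂ) ∧ ¬ p ∣ m) := by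
  classical
  haveI := Fact.mk hp
  let φ := H12.Glauberman.conjHom G S hnorm
  let C' : Subgroup G := C.subgroupOf G
  have hC' : ∀ g : G, g ∈ C' ↔ ∀ s : S, φ s g = g := by
    intro g
    have h0 : ((g : Γ) ∈ C) ↔ ∀ h ∈ (S : Set Γ), h * (g : Γ) = g * h := by
      rw [hC, Subgroup.mem_inf, Subgroup.mem_centralizer_iff]
      exact and_iff_right g.2
    show (g : Γ) ∈ C ↔ _
    rw [h0]
    constructor
    · intro h s
      apply Subtype.ext
      rw [H12.Glauberman.conjHom_coe, h s s.2]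
      simp [mul_assoc]
    · intro h s hs
      have h1 := congrArg Subtype.val (h ⟨s, hs⟩)
      rw [H12.Glauberman.conjHom_coe] at h1
      exact mul_inv_eq_iff_eq_mul.1 h1
  have hG : ∀ (hne : Nontrivial S), ¬ p ∣ Nat.card G := by
    intro hne hd
    obtain ⟨k, hk⟩ := hS.exists_card_eq
    have hk0 : k ≠ 0 := by
      rintro rfl
      exact absurd (Finite.one_lt_card (α := S)) (by rw [hk]; simp)
    exact hp.not_dvd_one (hcop ▸ Nat.dvd_gcd hd (hk ▸ dvd_pow_self p hk0))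
  let e := Subgroup.subgroupOfEquivOfLe hCG
  let T := H12.Glauberman.irrSubgroupOf hCG
  have hci : ∀ (χ : Cfsg.IrrCharacter G) (β : Cfsg.IrrCharacter C),
      Cfsg.classInner (fun c : C => (χ : G → ℂ) ⟨c, hCG c.2⟩) (β : C → ℂ) =
        (H12.Glauberman.mult C' χ (T β) : ℂ) := by
    intro χ β
    rw [← H12.Glauberman.classInner_eq_mult, ← H12.classInner_comp_equiv e]
    rfl
  have hmult : ∀ (χ : Cfsg.IrrCharacter G) (β : Cfsg.IrrCharacter C) (m : ℕ),
      Cfsg.classInner (fun c : C => (χ : G → ℂ) ⟨c, hCG c.2⟩) (β : C → ℂ) = (m : ℂ) →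
        H12.Glauberman.mult C' χ (T β) = m := by
    intro χ β m h
    rw [hci] at h
    exact_mod_cast h
  simp only [← H12.Glauberman.inv_conjHom_iff G S hnorm]
  rcases subsingleton_or_nontrivial S with hS1 | hS1
  · have htop : C' = ⊤ := (Subgroup.eq_top_iff' _).2 fun g => (hC' g).2 fun s => by
      rw [Subsingleton.elim s 1, map_one]; rfl
    have hCG' : C = G := le_antisymm hCG (Subgroup.subgroupOf_eq_top.1 htop)
    subst hCG'
    have hk : ∀ {_ : Fintype C} (χ β : Cfsg.IrrCharacter C),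
        Cfsg.classInner (fun c : C => (χ : C → ℂ) ⟨c, hCG c.2⟩) (β : C → ℂ) =
          (((if χ = β then 1 else 0 : ℕ)) : ℂ) := by
      intro inst χ β
      rw [show Cfsg.classInner (fun c : C => (χ : C → ℂ) ⟨c, hCG c.2⟩) (β : C → ℂ) =
        Cfsg.classInner (χ : C → ℂ) (β : C → ℂ) from by
          convert rfl using 3, H12.classInner_irr]
      split_ifs <;> simp
    have hval : ∀ {_ : Fintype C} (χ β : Cfsg.IrrCharacter C) (m : ℕ),
        Cfsg.classInner (fun c : C => (χ : C → ℂ) ⟨c, hCG c.2⟩) (β : C → ℂ) = (m : ℂ) →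
          ¬ p ∣ m → m = 1 ∧ χ = β := by
      intro inst χ β m h hm
      rw [hk] at h
      have h' : (if χ = β then 1 else 0) = m := by exact_mod_cast h
      by_cases hb : χ = β
      · exact ⟨by simpa [hb] using h'.symm, hb⟩
      · exact absurd (by simp [← h', hb]) hm
    have hinv : ∀ χ : Cfsg.IrrCharacter C, H12.Glauberman.Inv φ (χ : C → ℂ) := fun χ s g => by
      rw [Subsingleton.elim s 1, map_one]; rfl
    refine ⟨fun χ _ => ⟨χ, ⟨1, by simp [hk], hp.not_dvd_one⟩,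
      fun β ⟨m, h, hm⟩ => (hval χ β m h hm).2.symm⟩,
      fun χ _ β m h hm => Or.inl (by rw [(hval χ β m h hm).1]; rfl),
      fun χ χ' _ _ β m m' h hm h' hm' => (hval χ β m h hm).2.trans (hval χ' β m' h' hm').2.symm,
      fun β => ⟨β, hinv β, 1, by simp [hk], hp.not_dvd_one⟩⟩
  have hG' := hG hS1
  refine ⟨fun χ hχ => ?_, fun χ hχ β m h hm => ?_,
    fun χ χ' hχ hχ' β m m' h hm h' hm' => ?_, fun β => ?_⟩
  · obtain ⟨γ, hγ, huniq⟩ := H12.Glauberman.existsUnique_mult hS hG' hC' hχ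
    refine ⟨T.symm γ, ⟨_, hci χ (T.symm γ), by rw [Equiv.apply_symm_apply]; exact hγ⟩, ?_⟩
    rintro β ⟨m, h, hm⟩
    rw [← huniq (T β) (by dsimp only; rw [hmult χ β m h]; exact hm), Equiv.symm_apply_apply]
  · have := H12.Glauberman.mult_eq_one_or_neg_one hS hG' hC' hχ (β := T β)
      (by rw [hmult χ β m h]; exact hm)
    rw [hmult χ β m h] at this
    rcases this with h1 | h1
    · left; rw [← ZMod.intCast_eq_intCast_iff]; push_cast; exact h1
    · right; rw [← ZMod.intCast_eq_intCast_iff]; push_cast; exact h1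
  · exact H12.Glauberman.mult_injective hS hG' hC' hχ hχ' (β := T β)
      (by rw [hmult χ β m h]; exact hm) (by rw [hmult χ' β m' h']; exact hm')
  · obtain ⟨χ, hχ, hm⟩ := H12.Glauberman.mult_surjective hS hG' hC' (T β)
    exact ⟨χ, hχ, _, hci χ β, hm⟩

end Cfsg.Agent.S4444
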