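import Cfsg.Statements.S4446
import Cfsg.Agent.H12.CyclicCorr

set_option autoImplicit false
open Cfsg

namespace Cfsg.Agent.S4446

/-- Let the finite group Γ be generated by a normal subgroup G and a cyclic subgroup S of coprime orders, C = G ⊓ C(S), and let χ be an S-invariant irreducible character of G with canonical extension χ̂ to Γ (the extension whose determinantal order is coprime to the order of S). Then there are exactly one irreducible character β of C and one sign ε such that χ̂(c s) = ε β(c) for every c ∈ C and every generator s of S; this β is a constituent of the restriction of χ to C; distinct S-invariant χ give distinct β; and every irreducible character of C arises in this way. -/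
theorem result {Γ : Type*} [Group Γ] [Fintype Γ] (G S : Subgroup Γ) [Fintype G] (hnorm : ∀ s ∈ S, ∀ g ∈ G, s * g * s⁻¹ ∈ G) (hcop : (Nat.card G).Coprime (Nat.card S)) (htop : G ⊔ S = ⊤) (hcyc : IsCyclic S) (C : Subgroup Γ) [Fintype C] (hC : C = G ⊓ Subgroup.centralizer (S : Set Γ)) (hCG : C ≤ G) : (∀ (χ : Cfsg.IrrCharacter G) (χh : Cfsg.IrrCharacter Γ), (∀ s ∈ S, ∀ g g' : G, (g' : Γ) = s * g * s⁻¹ → (χ : G → ℂ) g' = (χ : G → ℂ) g) → (∀ g : G, (χh : Γ → ℂ) g = (χ : G → ℂ) g) → (Cfsg.detOrder (χh : Γ → ℂ)).Coprime (Nat.card S) → (∃! βε : Cfsg.IrrCharacter C × ℤ, (βε.2 = 1 ∨ βε.2 = -1) ∧ ∀ c : C, ∀ s : Γ, Subgroup.zpowers s = S → (χh : Γ → ℂ) ((c : Γ) * s) = (βε.2 : ℂ) * (βε.1 : C → ℂ) c) ∧ ∀ β : Cfsg.IrrCharacter C, ∀ ε : ℤ, (ε = 1 ∨ ε = -1) → (∀ c : C, ∀ s : Γ, Subgroup.zpowers s = S → (χh : Γ → ℂ) ((c : Γ) * s) = (ε : ℂ) * (β : C → ℂ) c) → Cfsg.classInner (fun c : C => (χ : G → ℂ) ⟨c,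 hCG c.2⟩) (β : C → ℂ) ≠ 0) ∧ (∀ (χ χ' : Cfsg.IrrCharacter G) (χh χh' : Cfsg.IrrCharacter Γ), (∀ s ∈ S, ∀ g g' : G, (g' : Γ) = s * g * s⁻¹ → (χ : G → ℂ) g' = (χ : G → ℂ) g) → (∀ s ∈ S, ∀ g g' : G, (g' : Γ) = s * g * s⁻¹ → (χ' : G → ℂ) g' = (χ' : G → ℂ) g) → (∀ g : G, (χh : Γ → ℂ) g = (χ : G → ℂ) g) → (∀ g : G, (χh' : Γ → ℂ) g = (χ' : G → ℂ) g) → (Cfsg.detOrder (χh : Γ → ℂ)).Coprime (Nat.card S) → (Cfsg.detOrder (χh' : Γ → ℂ)).Coprime (Nat.card S) → ∀ β : Cfsg.IrrCharacter C, ∀ ε ε' : ℤ, (ε = 1 ∨ ε = -1) → (ε' = 1 ∨ ε' = -1) → (∀ c : C, ∀ s : Γ, Subgroup.zpowers s = S → (χh : Γ → ℂ) ((c : Γ) * s) = (ε : ℂ) * (β : C → ℂ) c) → (∀ c : C, ∀ s : Γ, Subgroup.zpowers s = S → (χh' : Γ → ℂ) ((c : Γ) * s) = (ε' : ℂ) * (β : C → ℂ) c) → χ = χ') ∧ (∀ β : Cfsg.IrrCharacter C, ∃ (χ : Cfsg.IrrCharacter G) (χh : Cfsg.IrrCharacter Γ) (ε : ℤ), (∀ s ∈ S, ∀ g g' : G, (g' : Γ) = s * g * s⁻¹ → (χ : G → ℂ) g'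 = (χ : G → ℂ) g) ∧ (∀ g : G, (χh : Γ → ℂ) g = (χ : G → ℂ) g) ∧ (Cfsg.detOrder (χh : Γ → ℂ)).Coprime (Nat.card S) ∧ (ε = 1 ∨ ε = -1) ∧ ∀ c : C, ∀ s : Γ, Subgroup.zpowers s = S → (χh : Γ → ℂ) ((c : Γ) * s) = (ε : ℂ) * (β : C → ℂ) c) := by
  classical
  have hn : G.Normal := H12.Cyclic.normal_of_sup_eq_top G S hnorm htop
  obtain ⟨s₀, hs₀⟩ := S.isCyclic_iff_exists_zpowers_eq_top.1 hcyc
  have hirr : ∀ (χ : Cfsg.IrrCharacter G) (χh : Cfsg.IrrCharacter Γ),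
      (∀ g : G, (χh : Γ → ℂ) g = (χ : G → ℂ) g) →
      Cfsg.IsIrrCharacter G (fun g : G => (χh : Γ → ℂ) g) := fun χ χh h => by
    rw [show (fun g : G => (χh : Γ → ℂ) g) = (χ : G → ℂ) from funext h]; exact χ.2
  have hone : ∀ (β β' : Cfsg.IrrCharacter C) (ε ε' : ℤ) (f : Γ → ℂ), (ε = 1 ∨ ε = -1) →
      (∀ c : C, ∀ s : Γ, Subgroup.zpowers s = S → f ((c : Γ) * s) = (ε : ℂ) * (β : C → ℂ) c) →
      (∀ c : C, ∀ s : Γ, Subgroup.zpowers s = S → f ((c : Γ) * s) = (ε' : ℂ) * (β' : C → ℂ) c) →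
      β = β' ∧ ε = ε' := fun β β' ε ε' f hε h h' =>
    H12.Cyclic.sign_irr_unique hε fun c => (h c s₀ hs₀).symm.trans (h' c s₀ hs₀)
  have hinj : ∀ (χ χ' : Cfsg.IrrCharacter G) (χh χh' : Cfsg.IrrCharacter Γ),
      (∀ g : G, (χh : Γ → ℂ) g = (χ : G → ℂ) g) → (∀ g : G, (χh' : Γ → ℂ) g = (χ' : G → ℂ) g) →
      ∀ β : Cfsg.IrrCharacter C, ∀ ε ε' : ℤ, (ε = 1 ∨ ε = -1) → (ε' = 1 ∨ ε' = -1) →
      (∀ c : C, ∀ s : Γ, Subgroup.zpowers s = S →
        (χh : Γ → ℂ) ((c : Γ) * s) = (ε : ℂ) * (β : C → ℂ) c) →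
      (∀ c : C, ∀ s : Γ, Subgroup.zpowers s = S →
        (χh' : Γ → ℂ) ((c : Γ) * s) = (ε' : ℂ) * (β : C → ℂ) c) → χ = χ' := by
    intro χ χ' χh χh' he he' β ε ε' hε hε' h h'
    by_contra hne
    have hres : (fun g : G => (χh : Γ → ℂ) g) ≠ fun g : G => (χh' : Γ → ℂ) g := by
      rw [show (fun g : G => (χh : Γ → ℂ) g) = (χ : G → ℂ) from funext he,
        show (fun g : G => (χh' : Γ → ℂ) g) = (χ' : G → ℂ) from funext he']
      exact fun e => hne (Subtype.ext e)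
    have hne' : χh ≠ χh' := fun e => hres (by rw [e])
    have hord : orderOf s₀ = Nat.card S := by rw [← Nat.card_zpowers, hs₀]
    have hsum := H12.Cyclic.sum_value_mul_conj (G := G) (s := s₀) (j := C.subtype)
      (by rw [hord]; exact hcop) (by rw [hs₀]; exact htop) C.subtype_injective
      (by rw [Subgroup.range_subtype, hC, H12.Cyclic.centralizer_eq_singleton hs₀]) χh χh'
      (hirr χ χh he) (fun _ => hres)
    rw [if_neg hne', show (fun c : C => (χh : Γ → ℂ) (C.subtype c * s₀)) = (ε : ℂ) • (β : C → ℂ) from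
      funext fun c => h c s₀ hs₀,
      show (fun c : C => (χh' : Γ → ℂ) (C.subtype c * s₀)) = (ε' : ℂ) • (β : C → ℂ) from
      funext fun c => h' c s₀ hs₀, H12.classInner_smul_left, H12.classInner_smul_right,
      H12.classInner_irr_self] at hsum
    rcases hε with rfl | rfl <;> rcases hε' with rfl | rfl <;> norm_num at hsum
  refine ⟨fun χ χh hinv hext hdet => ?_, fun χ χ' χh χh' _ _ he he' _ _ β ε ε' hε hε' h h' =>
    hinj χ χ' χh χh' he he' β ε ε' hε hε' h h', fun β => ?_⟩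
  · obtain ⟨β, ε, hε, hval, hcon⟩ := H12.Cyclic.exists_value_generators G S hnorm hcop htop hcyc C hC
      χh (hirr χ χh hext) hdet
    have hcon' : Cfsg.classInner (fun c : C => (χ : G → ℂ) ⟨c, hCG c.2⟩) (β : C → ℂ) ≠ 0 := by
      rw [show (fun c : C => (χ : G → ℂ) ⟨c, hCG c.2⟩) = fun c : C => (χh : Γ → ℂ) c from
        funext fun c => (hext ⟨c, hCG c.2⟩).symm]
      exact hcon
    refine ⟨⟨(β, ε), ⟨hε, hval⟩, fun βε h => ?_⟩, fun β' ε' hε' h => ?_⟩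
    · obtain ⟨h1, h2⟩ := hone _ _ _ _ (χh : Γ → ℂ) hε hval h.2
      exact Prod.ext h1.symm h2.symm
    · obtain ⟨h1, -⟩ := hone _ _ _ _ (χh : Γ → ℂ) hε hval h
      rw [← h1]; exact hcon'
  · let φ := H12.Glauberman.conjHom G S hnorm
    have hex : ∀ χ : {χ : Cfsg.IrrCharacter G // H12.Glauberman.Inv φ (χ : G → ℂ)},
        ∃ (χh : Cfsg.IrrCharacter Γ) (β : Cfsg.IrrCharacter C) (ε : ℤ),
          (∀ g : G, (χh : Γ → ℂ) g = (χ.1 : G → ℂ) g) ∧
          (Cfsg.detOrder (χh : Γ → ℂ)).Coprime (Nat.card S) ∧ (ε = 1 ∨ ε = -1) ∧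
          ∀ c : C, ∀ s : Γ, Subgroup.zpowers s = S →
            (χh : Γ → ℂ) ((c : Γ) * s) = (ε : ℂ) * (β : C → ℂ) c := fun χ => by
      obtain ⟨χh, he, hd⟩ := H12.Cyclic.exists_extension G S hnorm hcop htop χ.1 χ.2
      obtain ⟨β, ε, hε, hval, -⟩ := H12.Cyclic.exists_value_generators G S hnorm hcop htop hcyc C hC
        χh (hirr χ.1 χh he) hd
      exact ⟨χh, β, ε, he, hd, hε, hval⟩
    choose χhF βF εF heF hdF hεF hvalF using hex
    have hbij : Function.Bijective βF := by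
      refine (Nat.bijective_iff_injective_and_card βF).2 ⟨fun χ χ' h => Subtype.ext ?_, ?_⟩
      · exact hinj χ.1 χ'.1 _ _ (heF χ) (heF χ') (βF χ) _ _ (hεF χ) (hεF χ') (hvalF χ)
          (h ▸ hvalF χ')
      · haveI := hcyc
        rw [H12.CoprimeCount.card_inv_eq_card_irr_fixed φ (C.subgroupOf G)
          (Group.isSolvable_of_comm fun a b => IsCyclic.commutative.is_comm.comm a b) hcop fun g => ?_]
        · exact Nat.card_congr (H12.Glauberman.irrSubgroupOf hCG).symm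
        · show (g : Γ) ∈ C ↔ _
          rw [hC, Subgroup.mem_inf, and_iff_right g.2, Subgroup.mem_centralizer_iff]
          constructor
          · intro h s
            refine Subtype.ext ?_
            rw [H12.Glauberman.conjHom_coe, h s s.2, mul_inv_cancel_right]
          · intro h s hs
            have h1 := congrArg Subtype.val (h ⟨s, hs⟩)
            rw [H12.Glauberman.conjHom_coe] at h1
            exact mul_inv_eq_iff_eq_mul.1 h1
    obtain ⟨χ, rfl⟩ := hbij.2 β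
    exact ⟨χ.1, χhF χ, εF χ, (H12.Glauberman.inv_conjHom_iff G S hnorm _).1 χ.2, heF χ, hdF χ,
      hεF χ, hvalF χ⟩

end Cfsg.Agent.S4446
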