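import Cfsg.Statements.S4447
import Cfsg.Agent.H12.InvConstituents

set_option autoImplicit false
open Cfsg

namespace Cfsg.Agent.S4447

/-- Inside a finite group Γ let S normalise G and also normalise a normal subgroup N of G, with the order of S coprime to the index of N in G and S or G/N solvable. Then for every S-invariant irreducible character χ of G, the restriction of χ to N has an S-invariant irreducible constituent. -/
theorem result {Γ : Type*} [Group Γ] [Fintype Γ] (G S N : Subgroup Γ) [Fintype G] [Fintype N] (hnorm : ∀ s ∈ S, ∀ g ∈ G, s * g * s⁻¹ ∈ G) (hNG : N ≤ G) [hNn : (N.subgroupOf G).Normal] (hNS : ∀ s ∈ S, ∀ n ∈ N, s * n * s⁻¹ ∈ N) (hcop : (N.relIndex G).Coprime (Nat.card S)) (hsolv : Group.IsSolvable S ∨ Group.IsSolvable (G ⧸ N.subgroupOf G)) (χ : Cfsg.IrrCharacter G) (hinv : (∀ s ∈ S, ∀ g g' : G, (g' : Γ) = s * g * s⁻¹ → (χ : G → ℂ) g' = (χ : G → ℂ) g)) : ∃ θ : Cfsg.IrrCharacter N, Cfsg.classInner (fun n : N => (χ : G → ℂ) ⟨n, hNG n.2⟩) (θ : N → ℂ) ≠ 0 ∧ (∀ s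 ∈ S, ∀ g g' : N, (g' : Γ) = s * g * s⁻¹ → (θ : N → ℂ) g' = (θ : N → ℂ) g) := by
  classical
  let L : Subgroup Γ := G ⊔ S
  have hGL : G ≤ L := le_sup_left
  have hSL : S ≤ L := le_sup_right
  have hNL : N ≤ L := hNG.trans hGL
  have hGnorm : L ≤ Subgroup.normalizer (G : Set Γ) :=
    sup_le Subgroup.le_normalizer
      (Subgroup.le_normalizer_iff.2 fun s hs g hg => hnorm s hs g hg)
  have hNnorm : L ≤ Subgroup.normalizer (N : Set Γ) :=
    sup_le ((Subgroup.normal_subgroupOf_iff_le_normalizer hNG).1 hNn)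
      (Subgroup.le_normalizer_iff.2 fun s hs n hn => hNS s hs n hn)
  let G' : Subgroup L := G.subgroupOf L
  let S' : Subgroup L := S.subgroupOf L
  let N' : Subgroup L := N.subgroupOf L
  haveI : G'.Normal := (Subgroup.normal_subgroupOf_iff_le_normalizer hGL).2 hGnorm
  haveI : N'.Normal := (Subgroup.normal_subgroupOf_iff_le_normalizer hNL).2 hNnorm
  let eG : G' ≃* G := Subgroup.subgroupOfEquivOfLe hGL
  let eS : S' ≃* S := Subgroup.subgroupOfEquivOfLe hSL
  let eN : N'.subgroupOf G' ≃* N :=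
    { toFun := fun x => ⟨((x : G') : L), x.2⟩
      invFun := fun n => ⟨⟨⟨n, hNL n.2⟩, hNG n.2⟩, n.2⟩
      left_inv := fun x => rfl
      right_inv := fun x => rfl
      map_mul' := fun x y => rfl }
  have hsol : Group.IsSolvable (G'.map (QuotientGroup.mk' N')) ∨ Group.IsSolvable S' := by
    rcases hsolv.symm with h | h
    · let q : G ⧸ N.subgroupOf G →* L ⧸ N' :=
        QuotientGroup.lift (N.subgroupOf G)
          ((QuotientGroup.mk' N').comp (Subgroup.inclusion hGL)) fun x hx => by
            show ((Subgroup.inclusion hGL x : L) : L ⧸ N') = 1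
            exact (QuotientGroup.eq_one_iff _).2 hx
      have hle : G'.map (QuotientGroup.mk' N') ≤ q.range := by
        rintro _ ⟨x, hx, rfl⟩
        exact ⟨((⟨x.1, hx⟩ : G) : G ⧸ N.subgroupOf G), rfl⟩
      haveI := h
      haveI : Group.IsSolvable q.range := Group.isSolvable_of_surjective q.rangeRestrict_surjective
      exact Or.inl (Group.isSolvable_of_isSolvable_injective (Subgroup.inclusion_injective hle))
    · haveI := h
      exact Or.inr (Group.isSolvable_of_isSolvable_injective (f := eS.toMonoidHom) eS.injective)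
  obtain ⟨θ, hθ, hθinv⟩ := H12.InvConst.exists_inv_under G' S' N' (fun x hx => hNG hx)
    (by rw [← Subgroup.subgroupOf_sup hGL hSL, Subgroup.subgroupOf_self])
    (by
      rw [Subgroup.relIndex_subgroupOf hGL, Nat.card_congr eS.toEquiv]
      exact hcop)
    hsol (H12.irrCongr eG χ)
    (fun s g => hinv s.1 s.2 (eG g) (eG (H12.Glauberman.conjHom G' S' _ s g)) rfl)
  refine ⟨H12.irrCongr eN.symm θ, ?_, fun s hs g g' hg =>
    hθinv ⟨s, hSL hs⟩ hs (eN.symm g) (eN.symm g') (Subtype.ext hg)⟩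
  rw [H12.InvConst.mult_ne_zero_iff] at hθ
  rw [← H12.classInner_comp_equiv eN]
  convert hθ using 2
  all_goals funext x
  all_goals first
    | rfl
    | exact congrArg (θ : N'.subgroupOf G' → ℂ) (eN.symm_apply_apply x)

end Cfsg.Agent.S4447
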