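import Cfsg.Statements.S4449
import Cfsg.Agent.H12.InvConstituents

set_option autoImplicit false
open Cfsg

namespace Cfsg.Agent.S4449

/-- Inside a finite group Γ let the solvable subgroup S normalise G with the orders of G and S coprime, and let N be a normal subgroup of G normalised by S. Then for every S-invariant irreducible character ϑ of N, the induced character ϑ^G has an S-invariant irreducible constituent. -/
theorem result {Γ : Type*} [Group Γ] [Fintype Γ] (G S N : Subgroup Γ) [Fintype G] [Fintype N] (hnorm : ∀ s ∈ S, ∀ g ∈ G, s * g * s⁻¹ ∈ G) (hNG : N ≤ G) (hNnormal : ∀ g ∈ G, ∀ n ∈ N, g * n * g⁻¹ ∈ N) (hNS : ∀ s ∈ S, ∀ n ∈ N, s * n * s⁻¹ ∈ N) (hcop : (Nat.card G).Coprime (Nat.card S)) (hsolv : Group.IsSolvable S) (θ : Cfsg.IrrCharacter N) (hinv : (∀ s ∈ S, ∀ g g' : N, (g' : Γ) = s * g * s⁻¹ → (θ : N → ℂ) g' = (θ : N → ℂ) g)) : ∃ χ : Cfsg.IrrCharacter G, Cfsg.classInner (fun n : N => (χ :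 G → ℂ) ⟨n, hNG n.2⟩) (θ : N → ℂ) ≠ 0 ∧ (∀ s ∈ S, ∀ g g' : G, (g' : Γ) = s * g * s⁻¹ → (χ : G → ℂ) g' = (χ : G → ℂ) g) := by
  classical
  let φ := H12.Glauberman.conjHom G S hnorm
  let N' : Subgroup G := N.subgroupOf G
  haveI : N'.Normal := ⟨fun n hn g => hNnormal g g.2 n hn⟩
  have hNS' : ∀ s, ∀ x ∈ N', φ s x ∈ N' := fun s x hx => hNS s s.2 (x : Γ) hx
  let e : N' ≃* N := Subgroup.subgroupOfEquivOfLe hNG
  obtain ⟨χ, hχ, hχinv⟩ := H12.InvConst.exists_inv_over_coprime_aux _ φ N' hNS' rfl hsolv hcop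
    (H12.irrCongr e θ)
    (fun s x => hinv s s.2 (e x) (e (H12.InvConst.resHom φ N' hNS' s x)) rfl)
  refine ⟨χ, ?_, (H12.Glauberman.inv_conjHom_iff G S hnorm _).1 hχinv⟩
  rw [H12.InvConst.mult_ne_zero_iff] at hχ
  rw [← H12.classInner_comp_equiv e]
  exact hχ

end Cfsg.Agent.S4449
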