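import Cfsg.Statements.S4452
import Cfsg.Agent.H12.CoprimeCount

set_option autoImplicit false
open Cfsg

namespace Cfsg.Agent.S4452

/-- Let the finite group G be the product of a normal subgroup K and a solvable subgroup H of coprime orders, and let N = N_G(H). Then the number of irreducible characters of G of degree coprime to the order of H equals the number of irreducible characters of N of degree coprime to the order of H. (The two sets are in fact in a canonical bijection; only the equality of their sizes is stated here.) -/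
theorem result {G : Type*} [Group G] [Finite G] (K H : Subgroup G) [K.Normal] (hKH : K ⊔ H = ⊤) (hcop : (Nat.card K).Coprime (Nat.card H)) (hsolv : Group.IsSolvable H) : Nat.card {χ : Cfsg.IrrCharacter G // (Cfsg.charDegree (χ : G → ℂ)).Coprime (Nat.card H)} = Nat.card {η : Cfsg.IrrCharacter (Subgroup.normalizer (H : Set G)) // (Cfsg.charDegree (η : Subgroup.normalizer (H : Set G) → ℂ)).Coprime (Nat.card H)} := by
  classical
  have : Fintype G := Fintype.ofFinite G
  let N : Subgroup G := Subgroup.normalizer (H : Set G)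
  have : Fintype N := Fintype.ofFinite N
  have hHN : H ≤ N := Subgroup.le_normalizer
  let K' : Subgroup N := K.subgroupOf N
  let H' : Subgroup N := H.subgroupOf N
  have hdisj : K ⊓ H = ⊥ := disjoint_iff.1 (Subgroup.disjoint_of_coprime_natCard hcop)
  have hcompl : Subgroup.IsComplement' K H :=
    Subgroup.isComplement'_of_disjoint_and_mul_eq_univ (disjoint_iff.2 hdisj)
      (by rw [← Subgroup.normal_mul, hKH, Subgroup.coe_top])
  have hKn : K'.Normal := Subgroup.normal_subgroupOf
  have hdisj' : Disjoint K' H' := by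
    rw [disjoint_iff]
    exact le_bot_iff.1 fun x hx => Subgroup.mem_bot.2 (Subtype.ext
      (Subgroup.mem_bot.1 (hdisj ▸ ⟨hx.1, hx.2⟩ : (x : G) ∈ (⊥ : Subgroup G))))
  have hsup' : K' ⊔ H' = ⊤ := by
    refine (Subgroup.eq_top_iff' _).2 fun n => ?_
    obtain ⟨k, hk, h, hh, hkh⟩ := Subgroup.mem_sup_of_normal_left.1
      (show (n : G) ∈ K ⊔ H by rw [hKH]; exact Subgroup.mem_top _)
    have hkN : k ∈ N := by
      rw [show k = (n : G) * h⁻¹ by rw [← hkh]; group]
      exact mul_mem n.2 (hHN (inv_mem hh))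
    rw [show n = (⟨k, hkN⟩ : N) * ⟨h, hHN hh⟩ from Subtype.ext hkh.symm]
    exact mul_mem (Subgroup.mem_sup_left hk) (Subgroup.mem_sup_right hh)
  have hcompl' : Subgroup.IsComplement' K' H' :=
    Subgroup.isComplement'_of_disjoint_and_mul_eq_univ hdisj'
      (by rw [← Subgroup.normal_mul, hsup', Subgroup.coe_top])
  have hcardH' : Nat.card H' = Nat.card H :=
    Nat.card_congr (Subgroup.subgroupOfEquivOfLe hHN).toEquiv
  have hiK : K.index = Nat.card H := hcompl.symm.index_eq_card
  have hiK' : K'.index = Nat.card H := hcompl'.symm.index_eq_card.trans hcardH'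
  have hcK' : Nat.card K' ∣ Nat.card K := by
    rw [← (Subgroup.card_map_of_injective N.subtype_injective :
      Nat.card (K'.map N.subtype) = Nat.card K')]
    exact Subgroup.card_dvd_of_le (by rintro _ ⟨y, hy, rfl⟩; exact hy)
  have h1 := H12.CoprimeCount.card_coprime_degree K (hiK.symm ▸ hcop)
  have h2 := H12.CoprimeCount.card_coprime_degree K' (hiK'.symm ▸ hcop.coprime_dvd_left hcK')
  rw [hiK] at h1
  rw [hiK'] at h2
  rw [h1, h2]
  have hhom : Nat.card (G ⧸ K →* ℂˣ) = Nat.card (N ⧸ K' →* ℂˣ) := by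
    let e : N ⧸ K' ≃* G ⧸ K :=
      ((hcompl'.symm.QuotientMulEquiv).trans (Subgroup.subgroupOfEquivOfLe hHN)).trans
        (hcompl.symm.QuotientMulEquiv).symm
    exact Nat.card_congr
      { toFun := fun f => f.comp e.toMonoidHom
        invFun := fun f => f.comp e.symm.toMonoidHom
        left_inv := fun f => MonoidHom.ext fun x => by simp
        right_inv := fun f => MonoidHom.ext fun x => by simp }
  have hcent : ∀ k : K, ∀ n : G, n = k → (n ∈ N ↔ ∀ h ∈ H, h * (k : G) * h⁻¹ = k) := by
    rintro k n rfl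
    constructor
    · intro hn h hh
      have ha : h * (k : G) * h⁻¹ * (k : G)⁻¹ ∈ K ⊓ H :=
        ⟨K.mul_mem (‹K.Normal›.conj_mem _ k.2 h) (K.inv_mem k.2), by
          rw [show h * (k : G) * h⁻¹ * (k : G)⁻¹ = h * ((k : G) * h⁻¹ * (k : G)⁻¹) by group]
          exact H.mul_mem hh ((Subgroup.mem_normalizer_iff.1 hn h⁻¹).1 (H.inv_mem hh))⟩
      rw [hdisj, Subgroup.mem_bot, mul_inv_eq_one] at ha
      exact ha
    · intro hk
      rw [Subgroup.mem_normalizer_iff]
      intro h
      have hc : ∀ h ∈ H, (k : G) * h * (k : G)⁻¹ = h := fun h hh => by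
        have := hk h hh
        rw [mul_inv_eq_iff_eq_mul] at this ⊢
        exact this.symm
      refine ⟨fun hh => by rw [hc h hh]; exact hh, fun hh => ?_⟩
      have h5 := hc _ hh
      have h6 : (k : G) * h * (k : G)⁻¹ = h := by
        have := congrArg (fun x => (k : G)⁻¹ * x * (k : G)) h5
        simpa [mul_assoc] using this
      rw [← h6]; exact hh
  let φ : H →* MulAut K := MulAut.conjNormal.comp H.subtype
  let F : Subgroup K := N.subgroupOf K
  have hF : ∀ k, k ∈ F ↔ ∀ s, φ s k = k := by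
    intro k
    rw [show k ∈ F ↔ (k : G) ∈ N from Iff.rfl, hcent k k rfl]
    exact ⟨fun h s => Subtype.ext ((MulAut.conjNormal_apply (s : G) k).trans (h s s.2)),
      fun h s hs => (MulAut.conjNormal_apply s k).symm.trans (congrArg Subtype.val (h ⟨s, hs⟩))⟩
  have hinvK : ∀ θ : Cfsg.IrrCharacter K,
      (∀ g : G, H13.twist K g (θ : K → ℂ) = (θ : K → ℂ)) ↔
        H12.Glauberman.Inv φ (θ : K → ℂ) := by
    intro θ
    constructor
    · intro h s k
      rw [← congrFun (h (s : G)) k, H13.twist_apply]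
      exact congrArg (θ : K → ℂ) (Subtype.ext (MulAut.conjNormal_apply (s : G) k))
    · intro h g
      obtain ⟨k, hk, s, hs, rfl⟩ := Subgroup.mem_sup_of_normal_left.1
        (show g ∈ K ⊔ H by rw [hKH]; exact Subgroup.mem_top _)
      funext n
      rw [H13.twist_apply, ← h ⟨s, hs⟩ n,
        show (⟨k * s * n * (k * s)⁻¹, _⟩ : K) = ⟨k, hk⟩ * φ ⟨s, hs⟩ n * (⟨k, hk⟩ : K)⁻¹ from
          Subtype.ext (by
            show k * s * n * (k * s)⁻¹ = k * (φ ⟨s, hs⟩ n : G) * k⁻¹
            rw [show (φ ⟨s, hs⟩ n : G) = s * n * s⁻¹ from MulAut.conjNormal_apply s n]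
            group)]
      exact H12.irr_isClassFunction θ _ _
  have hinvK' : ∀ θ : Cfsg.IrrCharacter K', ∀ g : N,
      H13.twist K' g (θ : K' → ℂ) = (θ : K' → ℂ) := by
    intro θ g
    obtain ⟨k, hk, s, hs, rfl⟩ := Subgroup.mem_sup_of_normal_left.1
      (show g ∈ K' ⊔ H' by rw [hsup']; exact Subgroup.mem_top _)
    funext n
    have h3 : s * (n : N) * s⁻¹ = (n : N) :=
      Subtype.ext ((hcent ⟨((n : N) : G), n.2⟩ _ rfl).1 (n : N).2 (s : G) hs)
    rw [H13.twist_apply]
    have h4 : (⟨k * s * n * (k * s)⁻¹, hKn.conj_mem n n.2 (k * s)⟩ : K') =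
        (⟨k, hk⟩ : K') * n * (⟨k, hk⟩ : K')⁻¹ := by
      apply Subtype.ext
      show k * s * (n : N) * (k * s)⁻¹ = k * (n : N) * k⁻¹
      conv_rhs => rw [← h3]
      group
    rw [h4]
    exact H12.irr_isClassFunction θ _ _
  rw [hhom, Nat.card_congr (Equiv.subtypeUnivEquiv hinvK'),
    Nat.card_congr (Equiv.subtypeEquivRight hinvK),
    H12.CoprimeCount.card_inv_eq_card_irr_fixed φ F hsolv hcop hF]
  congr 1
  exact Nat.card_congr (H12.irrCongr
    ({ toFun := fun x => ⟨⟨((x : N) : G), x.2⟩, (x : N).2⟩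
       invFun := fun x => ⟨⟨((x : K) : G), x.2⟩, (x : K).2⟩
       left_inv := fun x => rfl
       right_inv := fun x => rfl
       map_mul' := fun x y => rfl } : K' ≃* F))

end Cfsg.Agent.S4452
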