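import Cfsg.Statements.S4453
import Cfsg.Agent.H20.Magic.Main
import Cfsg.Agent.H20.Knorr
import Cfsg.Agent.H1.CoprimeAction

set_option autoImplicit false
open Cfsg

namespace Cfsg.Agent.S4453

/-- Inside a finite group Γ let S normalise the solvable subgroup G of odd order with the orders of G and S coprime, let C = G ⊓ C(S), and let L ≤ K be S-invariant normal subgroups of G with K/L abelian, G = KC and H = LC (so C ≤ H ≤ G). Then for each S-invariant irreducible character χ of G there is exactly one S-invariant irreducible character ψ of H whose multiplicity in the restriction of χ to H is odd, and χ ↦ ψ is a bijection from the S-invariant irreducible characters of G onto those of H (distinct χ give distinct ψ, and every S-invariant ψ arises). -/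
theorem result {Γ : Type*} [Group Γ] [Fintype Γ] (G S : Subgroup Γ) [Fintype G] (hnorm : ∀ s ∈ S, ∀ g ∈ G, s * g * s⁻¹ ∈ G) (hcop : (Nat.card G).Coprime (Nat.card S)) (hGsolv : Group.IsSolvable G) (hodd : Odd (Nat.card G)) (C : Subgroup Γ) [Fintype C] (hC : C = G ⊓ Subgroup.centralizer (S : Set Γ)) (hCG : C ≤ G) (K L H : Subgroup Γ) [Fintype H] (hLK : L ≤ K) (hKG : K ≤ G) (hKn : ∀ g ∈ G, ∀ k ∈ K, g * k * g⁻¹ ∈ K) (hLn : ∀ g ∈ G, ∀ l ∈ L, g * l * g⁻¹ ∈ L) (hKS : ∀ s ∈ S, ∀ k ∈ K, s * k * s⁻¹ ∈ K) (hLS : ∀ s ∈ S, ∀ l ∈ L, s * l * s⁻¹ ∈ L) (hab : ∀ a ∈ K, ∀ b ∈ K, a * b * a⁻¹ * b⁻¹ ∈ L) (hGKC : K ⊔ C = G) (hH : H = L ⊔ C) (hHG : H ≤ G) : (∀ χ : Cfsg.IrrCharacter G, (∀ s ∈ S, ∀ g g' : G, (g' : Γ) = s * g * s⁻¹ → (χ : G → ℂ) g' = (χ : G → ℂ) g) → ∃! ψ : Cfsg.IrrCharacter H, (∀ s ∈ S, ∀ g g' : H, (g' : Γ) = s * g * s⁻¹ → (ψ : H → ℂ) g' = (ψ : H → ℂ) g) ∧ ∃ m : ℕ, Cfsg.classInner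 (fun h : H => (χ : G → ℂ) ⟨h, hHG h.2⟩) (ψ : H → ℂ) = (m : ℂ) ∧ Odd m) ∧ (∀ χ χ' : Cfsg.IrrCharacter G, (∀ s ∈ S, ∀ g g' : G, (g' : Γ) = s * g * s⁻¹ → (χ : G → ℂ) g' = (χ : G → ℂ) g) → (∀ s ∈ S, ∀ g g' : G, (g' : Γ) = s * g * s⁻¹ → (χ' : G → ℂ) g' = (χ' : G → ℂ) g) → ∀ ψ : Cfsg.IrrCharacter H, (∀ s ∈ S, ∀ g g' : H, (g' : Γ) = s * g * s⁻¹ → (ψ : H → ℂ) g' = (ψ : H → ℂ) g) → ∀ m m' : ℕ, Cfsg.classInner (fun h : H => (χ : G → ℂ) ⟨h, hHG h.2⟩) (ψ : H → ℂ) = (m : ℂ) → Odd m → Cfsg.classInner (fun h : H => (χ' : G → ℂ) ⟨h, hHG h.2⟩) (ψ : H → ℂ) = (m' : ℂ) → Odd m' → χ = χ') ∧ (∀ ψ : Cfsg.IrrCharacter H, (∀ s ∈ S, ∀ g g' : H, (g' : Γ) = s * g * s⁻¹ → (ψ : H → ℂ) g' = (ψ : H → ℂ) g) → ∃ χ : Cfsg.IrrCharacter G, (∀ s ∈ S, ∀ g g' : G, (g' : Γ) = s * g * s⁻¹ → (χ : G → ℂ) g' = (χ : G → ℂ) g) ∧ ∃ m : ℕ, Cfsg.classInner (fun h : H => (χ : G → ℂ) ⟨h, hHG h.2⟩) (ψ : H → ℂ) = (m : ℂ) ∧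 Odd m) := by
  classical
  obtain ⟨M, hM⟩ := H20.exists_isPModular Nat.prime_two
  haveI := hM.2.1.isPrime
  let φ : S →* MulAut G := H12.Glauberman.conjHom G S hnorm
  have hφ : ∀ (s : S) (g : G), (φ s g : Γ) = s * g * (s : Γ)⁻¹ := fun _ _ => rfl
  have hLG : L ≤ G := hLK.trans hKG
  let K' : Subgroup G := K.subgroupOf G
  let C' : Subgroup G := C.subgroupOf G
  let L' : Subgroup G := L.subgroupOf G ⊔ (C' ⊓ K')
  let H' : Subgroup G := H.subgroupOf G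
  haveI : Fintype L' := Fintype.ofFinite _
  haveI : Fintype H' := Fintype.ofFinite _
  haveI hKN : K'.Normal := ⟨fun k hk g => hKn g g.2 k hk⟩
  haveI hL0N : (L.subgroupOf G).Normal := ⟨fun l hl g => hLn g g.2 l hl⟩
  have hCmem : ∀ g : G, g ∈ C' ↔ ∀ s, φ s g = g := fun g => by
    show (g : Γ) ∈ C ↔ _
    rw [hC, Subgroup.mem_inf, Subgroup.mem_centralizer_iff]
    constructor
    · intro h s
      apply Subtype.ext
      rw [hφ, h.2 s s.2, mul_inv_cancel_right]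
    · intro h
      refine ⟨g.2, fun s hs => ?_⟩
      have := congrArg Subtype.val (h ⟨s, hs⟩)
      rw [hφ] at this
      exact mul_inv_eq_iff_eq_mul.1 this
  have hKC : K' ⊔ C' = ⊤ := by
    rw [← Subgroup.subgroupOf_sup hKG hCG, hGKC, Subgroup.subgroupOf_self]
  have hdec : ∀ g : G, ∃ x ∈ K', ∃ c ∈ C', g = x * c := fun g => by
    obtain ⟨x, hx, c, hc, h⟩ := Subgroup.mem_sup_of_normal_left.1
      (show g ∈ K' ⊔ C' by rw [hKC]; exact Subgroup.mem_top g)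
    exact ⟨x, hx, c, hc, h.symm⟩
  have hL'K : L' ≤ K' := sup_le (fun x hx => hLK hx) inf_le_right
  have hab' : ∀ a ∈ K', ∀ b ∈ K', a * b * a⁻¹ * b⁻¹ ∈ L' := fun a ha b hb =>
    Subgroup.mem_sup_left (hab a ha b hb)
  haveI hLN : L'.Normal := by
    refine ⟨fun n hn g => ?_⟩
    obtain ⟨x, hx, c, hc, rfl⟩ := hdec g
    have h1 : L' ≤ L'.comap (MulAut.conj c).toMonoidHom := by
      refine sup_le (fun l hl => Subgroup.mem_sup_left (hL0N.conj_mem l hl c)) fun y hy => ?_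
      exact Subgroup.mem_sup_right ⟨C'.mul_mem (C'.mul_mem hc hy.1) (C'.inv_mem hc),
        hKN.conj_mem y hy.2 c⟩
    have h2 : c * n * c⁻¹ ∈ L' := h1 hn
    have h3 := L'.mul_mem (hab' x hx _ (hL'K h2)) h2
    convert h3 using 1
    group
  have hLinv : ∀ (s : S), ∀ x ∈ L', φ s x ∈ L' := by
    intro s
    have h : L' ≤ L'.comap (φ s).toMonoidHom := by
      refine sup_le (fun l hl => Subgroup.mem_sup_left ?_) fun y hy => ?_
      · show ((φ s l : G) : Γ) ∈ L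
        exact hLS s s.2 _ hl
      · show φ s y ∈ L'
        rw [(hCmem y).1 hy.1 s]
        exact Subgroup.mem_sup_right hy
    exact fun x hx => h hx
  have hKinv : ∀ (s : S), ∀ x ∈ K', φ s x ∈ K' := fun s x hx => hKS s s.2 _ hx
  have hcard : Nat.card (L'.map G.subtype) = Nat.card L' :=
    Subgroup.card_map_of_injective G.subtype_injective
  have hfree : ∀ x ∈ K', (∀ s : S, x⁻¹ * φ s x ∈ L') → x ∈ L' := by
    intro x hx hfix
    have hN : S ≤ Subgroup.normalizer ((L'.map G.subtype : Subgroup Γ) : Set Γ) := by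
      refine Subgroup.le_normalizer_iff.mpr ?_
      rintro s hs _ ⟨l, hl, rfl⟩
      exact ⟨φ ⟨s, hs⟩ l, hLinv _ l hl, rfl⟩
    haveI := hGsolv
    have hsol : Group.IsSolvable (L'.map G.subtype : Subgroup Γ) :=
      H1.isSolvable_mono hGsolv (Subgroup.map_subtype_le L')
    obtain ⟨c, hc, hcx⟩ := H1.exists_fixed_mem_coset hN
      (hcop.coprime_dvd_left (hcard ▸ Subgroup.card_subgroup_dvd_card L')) (Or.inl hsol)
      (k := (x : Γ)) fun s hs => ⟨x⁻¹ * φ ⟨s, hs⟩ x, hfix _, by simp [hφ]⟩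
    obtain ⟨l, hl, hlc⟩ := hcx
    have e : c = ((x * l : G) : Γ) := by
      rw [Subgroup.coe_mul, show (l : Γ) = G.subtype l from rfl, hlc, mul_inv_cancel_left]
    have hcC : x * l ∈ C' := by
      show ((x * l : G) : Γ) ∈ C
      rw [hC]; exact ⟨(x * l).2, e ▸ hc⟩
    have h1 : x * l ∈ L' := Subgroup.mem_sup_right ⟨hcC, K'.mul_mem hx (hL'K hl)⟩
    simpa using L'.mul_mem h1 (L'.inv_mem hl)
  have hH' : H' = L' ⊔ C' := by
    show H.subgroupOf G = _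
    rw [sup_assoc, show (C' ⊓ K') ⊔ C' = C' from sup_eq_right.2 inf_le_left, hH,
      Subgroup.subgroupOf_sup hLG hCG]
  have hodd' : Odd (Nat.card G) := hodd
  have hs : H20.Magic.Setting M φ C' K' L' H' :=
    ⟨hM, hodd', hGsolv, hcop, hCmem, hL'K, hKinv, hLinv, hab', hfree, hdec, hH'⟩
  obtain ⟨h1, h2, h3⟩ := hs.correspondence
  -- translation
  let e : H' ≃* H := Subgroup.subgroupOfEquivOfLe hHG
  have hoddH : Odd (Nat.card H') := hodd'.of_dvd_nat (Subgroup.card_subgroup_dvd_card _)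
  let tr' : IrrCharacter H ≃ IrrCharacter H' := H12.irrCongr e
  have hG : ∀ χ : IrrCharacter G,
      (∀ s ∈ S, ∀ g g' : G, (g' : Γ) = s * g * s⁻¹ → (χ : G → ℂ) g' = (χ : G → ℂ) g) ↔
        ∀ s, H20.Magic.autA M (φ s) (H20.Magic.cid M χ) = H20.Magic.cid M χ := by
    intro χ
    rw [← H12.Glauberman.inv_conjHom_iff G S hnorm]
    constructor
    · intro h s
      rw [H20.Magic.autA_cid, ← map_inv]
      exact congrArg _ (Subtype.ext (funext fun g => h s⁻¹ g))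
    · intro h s g
      have h' := h s⁻¹
      rw [H20.Magic.autA_cid, map_inv, inv_inv] at h'
      exact congrArg (fun ψ : IrrCharacter G => (ψ : G → ℂ) g)
        (H20.Magic.cid_injective hM hodd' h')
  have hHinv : ∀ ψ : IrrCharacter H,
      (∀ s ∈ S, ∀ g g' : H, (g' : Γ) = s * g * s⁻¹ → (ψ : H → ℂ) g' = (ψ : H → ℂ) g) ↔
        ∀ s, H20.Magic.compIrr (tr' ψ) (hs.phiH s) = tr' ψ := by
    intro ψ
    constructor
    · intro h s
      exact Subtype.ext (funext fun x => h s s.2 (e x) (e (hs.phiH s x)) rfl)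
    · intro h s hs' g g' hg
      have h' := congrArg (fun x : IrrCharacter H' => (x : H' → ℂ) (e.symm g)) (h ⟨s, hs'⟩)
      have e1 : e (hs.phiH ⟨s, hs'⟩ (e.symm g)) = g' := Subtype.ext hg.symm
      have e2 : (ψ : H → ℂ) (e (hs.phiH ⟨s, hs'⟩ (e.symm g))) = (ψ : H → ℂ) (e (e.symm g)) := h'
      rwa [e1, e.apply_symm_apply] at e2
  have hm : ∀ (χ : IrrCharacter G) (ψ : IrrCharacter H) (m : ℕ),
      classInner (fun h : H => (χ : G → ℂ) ⟨h, hHG h.2⟩) (ψ : H → ℂ) = (m : ℂ) ↔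
        H12.Glauberman.mult H' χ (tr' ψ) = m := by
    intro χ ψ m
    have hc : classInner (fun h : H' => (χ : G → ℂ) h) (tr' ψ : H' → ℂ) =
        classInner (fun h : H => (χ : G → ℂ) ⟨h, hHG h.2⟩) (ψ : H → ℂ) :=
      H12.classInner_comp_equiv e (fun h : H => (χ : G → ℂ) ⟨h, hHG h.2⟩) (ψ : H → ℂ)
    rw [← hc, H12.Glauberman.classInner_eq_mult, Nat.cast_inj]
  refine ⟨fun χ hχ => ?_, fun χ χ' hχ hχ' ψ hψ m m' hmm hmo hmm' hmo' => ?_, fun ψ hψ => ?_⟩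
  · obtain ⟨ψ', ⟨hψ', hodd1⟩, huniq⟩ := h1 χ ((hG χ).1 hχ)
    refine ⟨tr'.symm ψ', ⟨(hHinv _).2 (by rw [Equiv.apply_symm_apply]; exact hψ'), _,
      (hm χ _ _).2 rfl, by rw [Equiv.apply_symm_apply]; exact hodd1⟩, ?_⟩
    rintro ψ ⟨hψ, m, hmm, hmo⟩
    rw [Equiv.eq_symm_apply]
    exact huniq _ ⟨(hHinv ψ).1 hψ, ((hm χ ψ m).1 hmm) ▸ hmo⟩
  · exact h2 χ χ' ((hG χ).1 hχ) ((hG χ').1 hχ') (tr' ψ) ((hHinv ψ).1 hψ)
      (((hm χ ψ m).1 hmm) ▸ hmo) (((hm χ' ψ m').1 hmm') ▸ hmo')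
  · obtain ⟨χ, hχ, hodd1⟩ := h3 (tr' ψ) ((hHinv ψ).1 hψ)
    exact ⟨χ, (hG χ).2 hχ, _, (hm χ ψ _).2 rfl, hodd1⟩

end Cfsg.Agent.S4453
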