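import Cfsg.Statements.S4460
import Cfsg.Agent.H4.ThreeDegrees.Main

set_option autoImplicit false
open Cfsg

namespace Cfsg.Agent.S4460

/-- A finite group with exactly three distinct irreducible character degrees is solvable of derived length at most 3: its third derived subgroup is trivial. -/
theorem result {G : Type*} [Group G] [Finite G] (hcd : Nat.card {n : ℕ // ∃ χ : Cfsg.IrrCharacter G, Cfsg.charDegree (χ : G → ℂ) = n} = 3) : derivedSeries G 3 = ⊥ := by
  classical
  set S : Set ℕ := {n : ℕ | ∃ χ : Cfsg.IrrCharacter G, Cfsg.charDegree (χ : G → ℂ) = n} with hS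
  have h3 : S.ncard = 3 := by rw [← Nat.card_coe_set_eq]; exact hcd
  obtain ⟨x, y, z, -, -, -, he⟩ := Set.ncard_eq_three.1 h3
  have hmem : ∀ χ : Cfsg.IrrCharacter G, Cfsg.charDegree (χ : G → ℂ) = x ∨
      Cfsg.charDegree (χ : G → ℂ) = y ∨ Cfsg.charDegree (χ : G → ℂ) = z := by
    intro χ
    have : Cfsg.charDegree (χ : G → ℂ) ∈ S := ⟨χ, rfl⟩
    rw [he] at this
    simpa using this
  have h1 : H12.degree (H12.oneIrr G : G → ℂ) = 1 := by
    have h := H12.irr_apply_one (H12.oneIrr G)
    rw [H12.oneIrr_apply] at h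
    exact_mod_cast h.symm
  have hone := hmem (H12.oneIrr G)
  rw [← H21.degree_eq_charDegree, h1] at hone
  simp only [← H21.degree_eq_charDegree] at hmem
  rcases hone with rfl | rfl | rfl
  · exact H4.ThreeDeg.derived_three _ G rfl y z hmem
  · exact H4.ThreeDeg.derived_three _ G rfl x z fun χ => by
      rcases hmem χ with h | h | h <;> simp [h]
  · exact H4.ThreeDeg.derived_three _ G rfl x y fun χ => by
      rcases hmem χ with h | h | h <;> simp [h]

end Cfsg.Agent.S4460
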