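import Cfsg.Statements.S4466
import Cfsg.Agent.H19.PrimeDegreesAll
import Cfsg.Agent.H14.DegreeIndex
-- import your own Cfsg.Agent.* helpers here

set_option autoImplicit false
open Cfsg

namespace Cfsg.Agent.S4466

theorem aux : ∀ (n : ℕ) (H : Type*) [Group H] [Finite H], Nat.card H < n →
    (∀ χ : Cfsg.IrrCharacter H, H12.degree (χ : H → ℂ) = 1 ∨ (H12.degree (χ : H → ℂ)).Prime) →
    Group.IsSolvable H := by
  intro n
  induction n with
  | zero => intro H _ _ h; simp at h
  | succ n ih =>
    intro H _ _ hn hdeg
    have habel : commutator H = ⊥ → Group.IsSolvable H := fun h =>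
      ⟨⟨1, by rw [derivedSeries_one]; exact h⟩⟩
    by_cases htop : commutator H = ⊤
    · exact habel (H19.PrimeDeg.derived_eq_bot_of_perfect hdeg (by rw [htop]; exact htop))
    · have hlt : Nat.card (commutator H) < n := by
        have h1 := (commutator H).card_mul_index
        have h2 : (commutator H).index ≠ 1 := fun h => htop (Subgroup.index_eq_one.mp h)
        have h3 : (commutator H).index ≠ 0 := Subgroup.index_ne_zero_of_finite
        have h4 : Nat.card (commutator H) * 2 ≤ Nat.card (commutator H) * (commutator H).index :=
          Nat.mul_le_mul_left _ (by omega)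
        have h5 := Nat.card_pos (α := commutator H)
        omega
      have hs := ih (commutator H) hlt fun θ => by
        obtain ⟨χ, hχ⟩ := H14.exists_degree_dvd (commutator H) θ
        rcases hdeg χ with h | h
        · exact Or.inl (Nat.dvd_one.mp (h ▸ hχ))
        · rcases (Nat.dvd_prime h).mp hχ with h' | h'
          · exact Or.inl h'
          · exact Or.inr (h' ▸ h)
      haveI := hs
      exact Group.isSolvable_of_ker_le_range (commutator H).subtype
        (Abelianization.of : H →* Abelianization H) (by
          rw [Subgroup.range_subtype]; exact (QuotientGroup.ker_mk' _).le)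

/-- If every irreducible character of the finite group G of degree greater than one has prime degree, then G is solvable. -/
theorem result {G : Type*} [Group G] [Finite G] (h : ∀ χ : Cfsg.IrrCharacter G, Cfsg.charDegree (χ : G → ℂ) ≠ 1 → (Cfsg.charDegree (χ : G → ℂ)).Prime) : Group.IsSolvable G := by
  refine aux _ G (Nat.lt_succ_self _) fun χ => ?_
  by_cases h1 : Cfsg.charDegree (χ : G → ℂ) = 1
  · exact Or.inl h1
  · exact Or.inr (h χ h1)

end Cfsg.Agent.S4466
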