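import Cfsg.Statements.S4471
import Cfsg.Agent.H17.SevenBound

set_option autoImplicit false
open Cfsg

namespace Cfsg.Agent.S4471

/-- Let p ≥ 7 be a prime and let the finite group G have a faithful irreducible character of degree n with n < 2p and n ≠ p. If the Sylow p-subgroups of G are non-abelian then p² does not divide the index of O_p(G) in G; consequently, in every case G/O_p(G) has abelian Sylow p-subgroups. -/
theorem result {G : Type*} [Group G] [Finite G] (χ : Cfsg.IrrCharacter G) (hfaith : ∀ g : G, (χ : G → ℂ) g = (χ : G → ℂ) 1 → g = 1) (n : ℕ) (hn : Cfsg.charDegree (χ : G → ℂ) = n) (p : ℕ) (hp : p.Prime) (h7 : 7 ≤ p) (hn2 : n < 2 * p) (hnp : n ≠ p) : ((∃ P : Sylow p G, ∃ x ∈ (P : Subgroup G), ∃ y ∈ (P : Subgroup G), x * y ≠ y * x) → ¬ p ^ 2 ∣ (Cfsg.pCore p G).index) ∧ ∀ Q : Sylow p (G ⧸ Cfsg.pCore p G), ∀ x ∈ (Q : Subgroup (G ⧸ Cfsg.pCore p G)), ∀ y ∈ (Q : Subgroup (G ⧸ Cfsg.pCore p G)), x * y = y * x := by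
  have : Fintype G := Fintype.ofFinite G
  have : Fact p.Prime := ⟨hp⟩
  subst hn
  refine ⟨fun ⟨P, hnc⟩ => H17.SevenBound.main hp h7 χ hfaith hn2 hnp P hnc, fun Q x hx y hy => ?_⟩
  obtain ⟨P⟩ : Nonempty (Sylow p G) := inferInstance
  by_cases hnc : ∃ x ∈ (P : Subgroup G), ∃ y ∈ (P : Subgroup G), x * y ≠ y * x
  · have hd := H17.SevenBound.main hp h7 χ hfaith hn2 hnp P hnc
    obtain ⟨e, he⟩ := IsPGroup.iff_card.1 Q.2
    have he1 : e ≤ 1 := by
      by_contra h
      apply hd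
      rw [Subgroup.index_eq_card]
      exact dvd_trans (he ▸ pow_dvd_pow p (show 2 ≤ e by omega)) (Subgroup.card_subgroup_dvd_card _)
    have : IsCyclic (Q : Subgroup (G ⧸ Cfsg.pCore p G)) := by
      rcases Nat.le_one_iff_eq_zero_or_eq_one.1 he1 with h | h
      · rw [h, pow_zero, Nat.card_eq_one_iff_unique] at he
        have := he.1
        infer_instance
      · rw [h, pow_one] at he
        exact isCyclic_of_prime_card he
    let _ := IsCyclic.commGroup (α := (Q : Subgroup (G ⧸ Cfsg.pCore p G)))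
    exact congrArg Subtype.val (mul_comm (⟨x, hx⟩ : (Q : Subgroup (G ⧸ Cfsg.pCore p G))) ⟨y, hy⟩)
  · simp only [not_exists, not_and, not_not] at hnc
    let f := QuotientGroup.mk' (Cfsg.pCore p G)
    obtain ⟨g, hg⟩ := MulAction.exists_smul_eq (G ⧸ Cfsg.pCore p G)
      (P.mapSurjective (QuotientGroup.mk'_surjective (Cfsg.pCore p G))) Q
    rw [← hg] at hx hy
    obtain ⟨a, ⟨a', ha', rfl⟩, rfl⟩ := hx
    obtain ⟨b, ⟨b', hb', rfl⟩, rfl⟩ := hy
    refine (map_mul _ _ _).symm.trans (Eq.trans (congrArg _ ?_) (map_mul _ _ _))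
    rw [← map_mul, ← map_mul, hnc a' ha' b' hb']

end Cfsg.Agent.S4471
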