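import Cfsg.Statements.S4474
import Cfsg.Agent.H17.RealForm

set_option autoImplicit false
open Cfsg

namespace Cfsg.Agent.S4474

/-- Let χ be an irreducible character of the finite group G. Then the Frobenius–Schur indicator of χ (the average over s ∈ G of χ(s²)) equals 1 if and only if χ is afforded by a real representation: there is a representation of G on a real coordinate space whose trace function, viewed in ℂ, is χ. -/
theorem result {G : Type*} [Group G] [Fintype G] (χ : Cfsg.IrrCharacter G) : ((Nat.card G : ℂ)⁻¹ * ∑ s : G, (χ : G → ℂ) (s * s)) = 1 ↔ ∃ (n : ℕ) (ρ : Representation ℝ G (Fin n → ℝ)), ∀ g : G, ((LinearMap.trace ℝ (Fin n → ℝ) (ρ g) : ℝ) : ℂ) = (χ : G → ℂ) g := by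
  have hdef : ((Nat.card G : ℂ)⁻¹ * ∑ s : G, (χ : G → ℂ) (s * s)) = H17.fsInd (χ : G → ℂ) := rfl
  rw [hdef]
  constructor
  · intro h
    obtain ⟨n, Y, hY⟩ := H17.exists_real_of_fsInd_eq_one χ h
    refine ⟨n, (Matrix.toLinAlgEquiv' : Matrix (Fin n) (Fin n) ℝ ≃ₐ[ℝ] _).toMonoidHom.comp Y, fun g => ?_⟩
    rw [← hY g, LinearMap.trace_eq_matrix_trace ℝ (Pi.basisFun ℝ (Fin n))]
    congr 2
    exact LinearMap.toMatrix'_toLin' (Y g)
  · rintro ⟨n, ρ, hρ⟩
    let Y : G →* Matrix (Fin n) (Fin n) ℝ :=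
      { toFun := fun g => LinearMap.toMatrix' (ρ g)
        map_one' := by simp [Module.End.one_eq_id]
        map_mul' := fun a b => by rw [map_mul, Module.End.mul_eq_comp, LinearMap.toMatrix'_comp] }
    refine H17.fsInd_eq_one_of_real χ Y fun g => ?_
    rw [← hρ g, LinearMap.trace_eq_matrix_trace ℝ (Pi.basisFun ℝ (Fin n))]
    rfl

end Cfsg.Agent.S4474
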