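import Cfsg.Statements.S4480
import Cfsg.Agent.H22.KleinPSL

set_option autoImplicit false
open Cfsg

namespace Cfsg.Agent.S4480

/-- Same setting as the Klein-four order formula: G of order 4·g₀ (g₀ odd) with no normal 2-complement, P a Sylow 2-subgroup, J an involution of P, M over 2, principal 2-block {1, χ₁, χ₂, χ₃} with χ_i(J) = ε_i = ±1. Suppose ε₁ε₂ε₃ = −1 and ε₃ = −1, and put q = x₃ = χ₃(1). Then there is a natural number m with 4·c(J) = m·c(P)·(q + 1), and the order of G equals (m³·c(P)/4)·(q³ − q)/2, that is 8·#G = m³·c(P)·(q³ − q). -/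
theorem result {G : Type*} [Group G] [Finite G] (M : Ideal Cfsg.AlgInt) (hM : Cfsg.IsPModular 2 M) (g₀ : ℕ) (hg₀ : Odd g₀) (hG : Nat.card G = 4 * g₀) (hnc : ¬ ∃ N : Subgroup G, N.Normal ∧ Nat.card N = g₀) (P : Sylow 2 G) (J : G) (hJ : J ∈ (P : Subgroup G)) (hJ2 : orderOf J = 2) (χ₁ χ₂ χ₃ : Cfsg.IrrCharacter G) (ε₁ ε₂ ε₃ : ℤ) (hB : Cfsg.principalBlock M G = {χ : Cfsg.IrrCharacter G | (χ : G → ℂ) = (fun _ => 1) ∨ χ = χ₁ ∨ χ = χ₂ ∨ χ = χ₃}) (hdist : (χ₁ : G → ℂ) ≠ (fun _ => 1) ∧ (χ₂ : G → ℂ) ≠ (fun _ => 1) ∧ (χ₃ : G → ℂ) ≠ (fun _ => 1) ∧ χ₁ ≠ χ₂ ∧ χ₁ ≠ χ₃ ∧ χ₂ ≠ χ₃) (hε : (ε₁ = 1 ∨ ε₁ = -1) ∧ (ε₂ = 1 ∨ ε₂ = -1) ∧ (ε₃ = 1 ∨ ε₃ = -1)) (hval : (χ₁ : G → ℂ) J = ε₁ ∧ (χ₂ : G → ℂ) J = ε₂ ∧ (χ₃ : G → ℂ) J = ε₃) (hprod : ε₁ * ε₂ * ε₃ = -1) (hε₃ : ε₃ = -1) : ∃ m : ℕ, 4 * Nat.card (Subgroup.centralizer ({J} : Set G)) = m * Nat.card (Subgroup.centralizer ((P : Subgroup G) : Set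 G)) * (Cfsg.charDegree (χ₃ : G → ℂ) + 1) ∧ 8 * Nat.card G = m ^ 3 * Nat.card (Subgroup.centralizer ((P : Subgroup G) : Set G)) * (Cfsg.charDegree (χ₃ : G → ℂ) ^ 3 - Cfsg.charDegree (χ₃ : G → ℂ)) := by
  classical
  have := Fintype.ofFinite G
  have := hM.2.1.isPrime
  obtain ⟨hP, hexp, hone, hF, hrel, h⟩ :=
    H22.Klein.order_setup hM hg₀ hG hnc P hJ hJ2 hB hdist hε hval
  have hp1 := H22.charDegree_pos χ₁
  have hp2 := H22.charDegree_pos χ₂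
  have hp3 := H22.charDegree_pos χ₃
  obtain ⟨rfl, rfl⟩ : ε₁ = 1 ∧ ε₂ = 1 := by
    subst hε₃
    obtain ⟨h1, h2, -⟩ := hε
    rcases h1 with rfl | rfl <;> rcases h2 with rfl | rfl <;> omega
  subst hε₃
  obtain ⟨d1, d2, d3, d12, d13, d23⟩ := hdist
  have hx : Cfsg.charDegree (χ₁ : G → ℂ) = Cfsg.charDegree (χ₂ : G → ℂ) :=
    H22.Klein.degree_eq_of_signs hM P hP hexp hone hJ hJ2 hF
      ⟨fun e => d1 (by rw [e]; rfl), fun e => d2 (by rw [e]; rfl), fun e => d3 (by rw [e]; rfl),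
        d12, d13, d23⟩
      (by rw [hval.1]; simp) (by rw [hval.2.1]; simp) (by rw [hval.2.2]; simp)
  have hmod := H22.Klein.four_dvd_degree_sub P hP hone hexp χ₁ hJ2 (e := 1) hval.1
  set x := Cfsg.charDegree (χ₁ : G → ℂ)
  set q := Cfsg.charDegree (χ₃ : G → ℂ)
  rw [← hx] at hrel h
  have hq : q = 2 * x + 1 := by omega
  obtain ⟨r, hr⟩ : ∃ r, x + 1 = 2 * r := ⟨(x + 1) / 2, by omega⟩
  have hle : Subgroup.centralizer ((P : Subgroup G) : Set G) ≤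
      Subgroup.centralizer ({J} : Set G) :=
    Subgroup.centralizer_le (Set.singleton_subset_iff.2 hJ)
  obtain ⟨n, hn⟩ := Subgroup.card_dvd_of_le hle
  obtain ⟨k, hk⟩ := Subgroup.card_subgroup_dvd_card (Subgroup.centralizer ({J} : Set G))
  set c := Nat.card ↥(Subgroup.centralizer ({J} : Set G)) with hcdef
  set cP := Nat.card ↥(Subgroup.centralizer ((P : Subgroup G) : Set G)) with hcPdef
  have hc0 : 0 < c := Nat.card_pos
  have hcP0 : 0 < cP := Nat.card_pos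
  have hxQ : (x : ℚ) ≠ 0 := by exact_mod_cast hp1.ne'
  have hqQ : (q : ℚ) ≠ 0 := by exact_mod_cast hp3.ne'
  have key : k * r ^ 2 = n ^ 2 * (x * q) := by
    have hr' : (x : ℚ) + 1 = 2 * (r : ℚ) := by exact_mod_cast hr
    have hq' : (q : ℚ) = 2 * (x : ℚ) + 1 := by exact_mod_cast hq
    have hGQ : (Nat.card G : ℚ) = (c : ℚ) * k := by exact_mod_cast hk
    have hcQ : (c : ℚ) = (cP : ℚ) * n := by exact_mod_cast hn
    have hc3 : (c : ℚ) * (cP : ℚ) ^ 2 ≠ 0 := by positivity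
    have : (c : ℚ) * (cP : ℚ) ^ 2 * (8 * ((k : ℚ) * (r : ℚ) ^ 2)) =
        (c : ℚ) * (cP : ℚ) ^ 2 * (8 * ((n : ℚ) ^ 2 * ((x : ℚ) * q))) := by
      rw [hGQ] at h
      push_cast at h
      field_simp at h
      rw [hcQ] at h ⊢
      rw [hq'] at h ⊢
      rw [show (r : ℚ) = ((x : ℚ) + 1) / 2 by linarith]
      linear_combination ((cP : ℚ) * n) * h
    have h2 : (k : ℚ) * (r : ℚ) ^ 2 = (n : ℚ) ^ 2 * ((x : ℚ) * q) := by
      have := mul_left_cancel₀ hc3 this; linarith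
    exact_mod_cast h2
  have hrx : Nat.Coprime r x := by
    refine Nat.coprime_of_dvd' fun d _ hdr hdx => ?_
    have : d ∣ 2 * r - x := Nat.dvd_sub (hdr.mul_left 2) hdx
    rwa [show 2 * r - x = 1 by omega] at this
  have hrq : Nat.Coprime r q := by
    refine Nat.coprime_of_dvd' fun d _ hdr hdq => ?_
    have : d ∣ 4 * r - q := Nat.dvd_sub (hdr.mul_left 4) hdq
    rwa [show 4 * r - q = 1 by omega] at this
  have hrn : r ∣ n := (Nat.pow_dvd_pow_iff two_ne_zero).1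
    (((hrx.mul_right hrq).pow_left 2).dvd_of_dvd_mul_right ⟨k, by rw [← key, mul_comm]⟩)
  obtain ⟨m, hm⟩ := hrn
  refine ⟨m, ?_, ?_⟩
  · rw [hn, hm, hq, show 2 * x + 1 + 1 = 4 * r by omega]; ring
  · have hk' : k = m ^ 2 * (x * q) := by
      have hr0 : 0 < r ^ 2 := by have : 0 < r := (by omega); positivity
      apply Nat.eq_of_mul_eq_mul_right hr0
      rw [key, hm]; ring
    have hcube : q ^ 3 - q = q * (2 * x) * (4 * r) := by
      rw [Nat.sub_eq_iff_eq_add (Nat.le_self_pow (by norm_num) q), hq,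
        show 4 * r = 2 * x + 2 by omega]
      ring
    rw [hcube, hk, hk', hn, hm]; ring

end Cfsg.Agent.S4480
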