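import Cfsg.Statements.S4483
import Cfsg.Agent.H22.DeltaInt

set_option autoImplicit false
open Cfsg

namespace Cfsg.Agent.S4483

/-- Let G be a finite group of order 2^n·g₀ with g₀ odd, and M a maximal ideal of the algebraic integers containing 2. Every real-valued irreducible character of G of odd degree lies in the principal 2-block; consequently G has at most 2^(2n) real-valued irreducible characters of odd degree. -/
theorem result {G : Type*} [Group G] [Finite G] (M : Ideal Cfsg.AlgInt) (hM : Cfsg.IsPModular 2 M) : (∀ χ : Cfsg.IrrCharacter G, (∀ g : G, ((χ : G → ℂ) g).im = 0) → Odd (Cfsg.charDegree (χ : G → ℂ)) → χ ∈ Cfsg.principalBlock M G) ∧ Nat.card {χ : Cfsg.IrrCharacter G // (∀ g : G, ((χ : G → ℂ) g).im = 0) ∧ Odd (Cfsg.charDegree (χ : G → ℂ))} ≤ 2 ^ (2 * (Nat.card G).factorization 2) := by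
  classical
  have := H20.isPrime_of_modular hM
  have := Fintype.ofFinite G
  have hmem : ∀ χ : Cfsg.IrrCharacter G, (∀ g : G, ((χ : G → ℂ) g).im = 0) →
      Odd (Cfsg.charDegree (χ : G → ℂ)) → χ ∈ Cfsg.principalBlock M G := by
    intro χ hreal hodd
    have hB := H20.isPBlock_blockOf (M := M) χ
    have hχ := H20.mem_blockOf_self (M := M) χ
    have hconj : ∀ g : G, (χ : G → ℂ) g⁻¹ = (χ : G → ℂ) g := fun g => by
      rw [H12.irr_inv, Complex.conj_eq_iff_im]
      exact hreal g
    have hidx : ∀ g : G, Subgroup.centralizer ({g⁻¹} : Set G) =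
        Subgroup.centralizer ({g} : Set G) := fun g => by
      ext x
      simp only [Subgroup.mem_centralizer_singleton_iff]
      exact ⟨fun h => by simpa using (show Commute x g⁻¹ from h).inv_right.eq,
        fun h => (show Commute x g from h).inv_right.eq⟩
    have hfull : Cfsg.blockDefect 2 (Cfsg.blockOf M (χ : G → ℂ)) =
        (Nat.card G).factorization 2 := by
      have h1 := H22.blockExp_le (p := 2) hχ
      rw [Nat.factorization_eq_zero_of_not_dvd hodd.not_two_dvd_nat] at h1
      have h2 := H22.blockDefect_add_blockExp (p := 2) hχ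
      omega
    have heq := H22.eq_principalBlock_of_twist hM hB hfull (fun g => g⁻¹)
      inv_involutive.bijective inv_one (fun g _ => rfl) fun ψ hψ => ⟨H12.conjIrr ψ, fun g => ?_,
        fun g => by rw [H12.conjIrr_apply, H12.irr_inv]⟩
    · rw [← heq]; exact hχ
    · have hcc : ∀ (φ : Cfsg.IrrCharacter G), Cfsg.centralChar (φ : G → ℂ) g⁻¹ =
          Cfsg.centralChar (H12.conjIrr φ : G → ℂ) g := fun φ => by
        rw [Cfsg.centralChar, Cfsg.centralChar, H12.conjIrr_apply, H12.conjIrr_apply, hidx,
          H12.irr_inv, H12.irr_apply_one, Complex.conj_natCast]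
      have h := hψ g⁻¹
      rw [hcc ψ, Cfsg.centralChar, hidx, hconj g, ← Cfsg.centralChar] at h
      exact h
  refine ⟨hmem, le_trans (Nat.card_le_card_of_injective
    (fun χ => (⟨χ.1, hmem χ.1 χ.2.1 χ.2.2⟩ : Cfsg.principalBlock M G)) ?_) ?_⟩
  · intro a b hab
    exact Subtype.ext (congrArg Subtype.val hab :)
  · have h := H22.four_mul_card_le (p := 2) hM (H20.isPBlock_principalBlock (M := M) (G := G))
    rw [H22.blockDefect_principalBlock] at h
    have : 0 < 2 ^ (2 * (Nat.card G).factorization 2) := by positivity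
    show Nat.card (Cfsg.principalBlock M G) ≤ _
    omega

end Cfsg.Agent.S4483
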