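import Cfsg.Statements.S4487
import Cfsg.Agent.H20.Defect
import Cfsg.Agent.H1.Cores

set_option autoImplicit false
open Cfsg

namespace Cfsg.Agent.S4487

/-- Let G be a finite group and p a prime such that G has no non-trivial normal subgroup of order prime to p and C_G(O_p(G)) ≤ O_p(G). Then G has a single p-block: any two irreducible characters lie in the same block relative to every maximal ideal M of the algebraic integers containing p. -/
theorem result {G : Type*} [Group G] [Finite G] (p : ℕ) [Fact p.Prime] (M : Ideal Cfsg.AlgInt) (hM : Cfsg.IsPModular p M) (hcore : Cfsg.pPrimeCore p G = ⊥) (hconstr : Subgroup.centralizer ((Cfsg.pCore p G) : Set G) ≤ Cfsg.pCore p G) (χ ψ : Cfsg.IrrCharacter G) : Cfsg.SameBlock M (χ : G → ℂ) (ψ : G → ℂ) := by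
  classical
  have := H20.isPrime_of_modular hM
  have := Fintype.ofFinite G
  have := H20.k_charP hM
  set Q := Cfsg.pCore p G
  have hQ : IsPGroup p Q := H1.isPGroup_pCore p G
  have : Q.Normal := H1.pCore_normal' p G
  rw [H20.sameBlock_iff]
  intro g
  by_cases hg : g ∈ Subgroup.centralizer (Q : Set G)
  · -- the class lies in `Q`
    have hmem : ∀ x : G, IsConj g x → x ∈ Q := by
      intro x hx
      obtain ⟨c, rfl⟩ := isConj_iff.1 hx
      exact (inferInstance : Q.Normal).conj_mem g (hconstr hg) c
    set c : H20.k M := ∑ x : G, (H20.clSum (H20.k M) g).coeff x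
    have h0 : MonoidAlgebra.mapDomainRingHom (H20.k M) (QuotientGroup.mk' Q)
        (H20.clSum (H20.k M) g - c • 1) = 0 := by
      have hexp : H20.clSum (H20.k M) g =
          ∑ x : G, MonoidAlgebra.single x ((H20.clSum (H20.k M) g).coeff x) := by
        ext y; simp [Finsupp.single_apply]
      have hterm : ∀ x : G, MonoidAlgebra.mapDomainRingHom (H20.k M) (QuotientGroup.mk' Q)
          (MonoidAlgebra.single x ((H20.clSum (H20.k M) g).coeff x)) =
          MonoidAlgebra.single (1 : G ⧸ Q) ((H20.clSum (H20.k M) g).coeff x) := by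
        intro x
        by_cases hx : IsConj g x
        · have h1 : (QuotientGroup.mk' Q) x = 1 := (QuotientGroup.eq_one_iff x).2 (hmem x hx)
          simp [MonoidAlgebra.mapDomainRingHom, (QuotientGroup.eq_one_iff x).2 (hmem x hx)]
        · simp [H20.coeff_clSum, if_neg hx, -isConj_iff]
      have hone : MonoidAlgebra.mapDomainRingHom (H20.k M) (QuotientGroup.mk' Q) (c • 1) =
          MonoidAlgebra.single (1 : G ⧸ Q) c := by
        rw [MonoidAlgebra.one_def, MonoidAlgebra.smul_single, smul_eq_mul, mul_one]
        simp [MonoidAlgebra.mapDomainRingHom]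
      rw [map_sub, hone, hexp, map_sum, Finset.sum_congr rfl fun x _ => hterm x]
      ext y
      simp [c, Finsupp.single_apply]
    have hn : IsNilpotent (H20.clSum (H20.k M) g - c • 1) :=
      H20.isNilpotent_of_mapDomain_eq_zero (p := p) hQ h0
    have key : ∀ φ : Cfsg.IrrCharacter G, H20.lam M φ (H20.clSum (H20.k M) g) = c := fun φ => by
      have h := H20.lam_eq_zero_of_isNilpotent φ
        ((H20.isCl_clSum _ g).sub (H20.isCl_one.smul _)) hn
      rwa [H20.lam_sub, H20.lam_smul, H20.lam_one, mul_one, sub_eq_zero] at h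
    rw [key, key]
  · -- the class misses `C(Q)`
    have key : ∀ φ : Cfsg.IrrCharacter G, H20.lam M φ (H20.clSum (H20.k M) g) = 0 := fun φ => by
      by_contra h
      exact hg (H20.mem_centralizer_of_lam_ne_zero hM hQ h)
    rw [key, key]

end Cfsg.Agent.S4487
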