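import Cfsg.Statements.S4495
import Cfsg.Agent.H18.SelfCentralizing


set_option autoImplicit false
open scoped commutatorElement
open Cfsg

namespace Cfsg.Agent.S4495

/-- Let the finite group G contain an element x of prime order p with C_G(x) = ⟨x⟩, and let t be the number of conjugacy classes of elements of order p. If t ≠ p − 1 then the commutator subgroup has index at most (p − 1)/t; if t = p − 1 it has index exactly p. -/
theorem result {G : Type*} [Group G] [Finite G] (p : ℕ) (hp : p.Prime) (x : G) (hx : orderOf x = p) (hC : Subgroup.centralizer ({x} : Set G) = Subgroup.zpowers x) (t : ℕ) (ht : Nat.card {C : ConjClasses G // ∃ g ∈ C.carrier, orderOf g = p} = t) : (t ≠ p - 1 → (commutator G).index * t ≤ p - 1) ∧ (t = p - 1 → (commutator G).index = p) := by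
  haveI : Fact p.Prime := ⟨hp⟩
  have hcl := H18.sc_classes_mul hx hC
  rw [ht] at hcl
  constructor
  · intro hne
    have he : (Subgroup.zpowers x).relIndex
        (Subgroup.normalizer ((Subgroup.zpowers x : Subgroup G) : Set G)) ≠ 1 := fun h1 =>
      hne (by rw [← hcl, h1, mul_one])
    have hd := H18.sc_index_commutator_dvd hx hC (H18.sc_dvd_commutator_of_relIndex_ne_one hx hC he)
    have he0 : (Subgroup.zpowers x).relIndex
        (Subgroup.normalizer ((Subgroup.zpowers x : Subgroup G) : Set G)) ≠ 0 :=
      Subgroup.index_ne_zero_of_finite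
    rw [← hcl, mul_comm t]
    exact Nat.mul_le_mul_right t (Nat.le_of_dvd (Nat.pos_of_ne_zero he0) hd)
  · intro heq
    rw [heq] at hcl
    have hp1 : p - 1 ≠ 0 := by have := hp.two_le; omega
    exact (H18.sc_index_commutator_of_relIndex_eq_one hx hC
      (mul_left_cancel₀ hp1 (hcl.trans (mul_one _).symm))).1

end Cfsg.Agent.S4495
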