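import Cfsg.Statements.S4496
import Cfsg.Agent.H18.SelfCentralizing


set_option autoImplicit false
open scoped commutatorElement
open Cfsg

namespace Cfsg.Agent.S4496

/-- Let the finite group G contain an element x of prime order p with C_G(x) = ⟨x⟩. Then: (a) every normal subgroup of order divisible by p contains the commutator subgroup; (b) every normal subgroup S of order prime to p has order dividing the number of subgroups of order p of G and congruent to 1 modulo p, and in G/S the image of x again has prime order p and commutes only with its own powers. -/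
theorem result {G : Type*} [Group G] [Finite G] (p : ℕ) (hp : p.Prime) (x : G) (hx : orderOf x = p) (hC : Subgroup.centralizer ({x} : Set G) = Subgroup.zpowers x) (S : Subgroup G) [S.Normal] : (p ∣ Nat.card S → commutator G ≤ S) ∧ (¬ p ∣ Nat.card S → Nat.card S ∣ Nat.card {H : Subgroup G // Nat.card H = p} ∧ Nat.card S % p = 1 ∧ orderOf (QuotientGroup.mk x : G ⧸ S) = p ∧ Subgroup.centralizer ({(QuotientGroup.mk x : G ⧸ S)} : Set (G ⧸ S)) = Subgroup.zpowers (QuotientGroup.mk x : G ⧸ S)) := by
  haveI : Fact p.Prime := ⟨hp⟩
  refine ⟨fun h => H18.sc_commutator_le hx hC h, fun h => ⟨?_, H18.sc_card_mod hx hC h, ?_, ?_⟩⟩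
  · rw [H18.sc_card_subgroups_order_p hx hC]
    exact H18.sc_card_dvd hx hC h
  · have hd : orderOf (QuotientGroup.mk x : G ⧸ S) ∣ p := hx ▸ orderOf_map_dvd (QuotientGroup.mk' S) x
    refine (hp.eq_one_or_self_of_dvd _ hd).resolve_left fun h1 => ?_
    rw [orderOf_eq_one_iff, QuotientGroup.eq_one_iff] at h1
    have : x ∈ S ⊓ Subgroup.zpowers x := ⟨h1, Subgroup.mem_zpowers x⟩
    rw [H18.sc_inf_eq_bot hx hC h, Subgroup.mem_bot] at this
    exact H18.sc_ne_one hx this
  · apply le_antisymm
    · intro g hg
      induction g using QuotientGroup.induction_on with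
      | H g =>
        rw [Subgroup.mem_centralizer_singleton_iff] at hg
        have h1 : ⁅g, x⁆ ∈ S := by
          rw [← QuotientGroup.eq_one_iff]
          change QuotientGroup.mk' S ⁅g, x⁆ = 1
          rw [map_commutatorElement, commutatorElement_eq_one_iff_commute]
          exact hg
        have h2 := H18.sc_centralizer_mod hx hC h h1
        have h3 : (S ⊔ Subgroup.zpowers x).map (QuotientGroup.mk' S) =
            Subgroup.zpowers (QuotientGroup.mk x : G ⧸ S) := by
          rw [Subgroup.map_sup, QuotientGroup.map_mk'_self, bot_sup_eq, MonoidHom.map_zpowers]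
          rfl
        rw [← h3]
        exact ⟨g, h2, rfl⟩
    · rw [Subgroup.zpowers_le, Subgroup.mem_centralizer_singleton_iff]

end Cfsg.Agent.S4496
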