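import Cfsg.Statements.S4497
import Cfsg.Agent.H18.SelfCentralizing
import Cfsg.Agent.H1.Cores


set_option autoImplicit false
open scoped commutatorElement
open Cfsg

namespace Cfsg.Agent.S4497

/-- Let the finite group G contain an element x of prime order p with C_G(x) = ⟨x⟩, let t be the number of conjugacy classes of elements of order p, and let S* = O_{p′}(G) be the largest normal subgroup of order prime to p. Then S* ≤ G′; if t ≠ p − 1 the quotient G′/S* is simple (in particular non-trivial); if t = p − 1 then G′ = S*. -/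
theorem result {G : Type*} [Group G] [Finite G] (p : ℕ) (hp : p.Prime) (x : G) (hx : orderOf x = p) (hC : Subgroup.centralizer ({x} : Set G) = Subgroup.zpowers x) (t : ℕ) (ht : Nat.card {C : ConjClasses G // ∃ g ∈ C.carrier, orderOf g = p} = t) : Cfsg.pPrimeCore p G ≤ commutator G ∧ (t ≠ p - 1 → ∀ h : ((Cfsg.pPrimeCore p G).subgroupOf (commutator G)).Normal, IsSimpleGroup (↥(commutator G) ⧸ (Cfsg.pPrimeCore p G).subgroupOf (commutator G))) ∧ (t = p - 1 → commutator G = Cfsg.pPrimeCore p G) := by
  haveI : Fact p.Prime := ⟨hp⟩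
  haveI hSn := H1.pPrimeCore_normal' p G
  have hS : ¬ p ∣ Nat.card (Cfsg.pPrimeCore p G) :=
    hp.coprime_iff_not_dvd.mp (H1.card_pPrimeCore_coprime p G).symm
  have hle := H18.sc_le_commutator hx hC hS
  have hcl := H18.sc_classes_mul hx hC
  rw [ht] at hcl
  refine ⟨hle, fun hne hn => ?_, fun heq => ?_⟩
  · have he : (Subgroup.zpowers x).relIndex
        (Subgroup.normalizer ((Subgroup.zpowers x : Subgroup G) : Set G)) ≠ 1 := fun h1 =>
      hne (by rw [← hcl, h1, mul_one])
    have hd := H18.sc_dvd_commutator_of_relIndex_ne_one hx hC he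
    set D := commutator G with hD
    set S := (Cfsg.pPrimeCore p G).subgroupOf D with hSdef
    have hxD : x ∈ D := H18.sc_mem_of_dvd hx hC hd
    haveI : Nontrivial (↥D ⧸ S) := by
      refine ⟨⟨QuotientGroup.mk ⟨x, hxD⟩, 1, ?_⟩⟩
      rw [Ne, QuotientGroup.eq_one_iff, hSdef, Subgroup.mem_subgroupOf]
      intro hxS
      exact hS (hx ▸ (Cfsg.pPrimeCore p G).orderOf_dvd_natCard hxS)
    refine ⟨fun H hH => ?_⟩
    set M := H.comap (QuotientGroup.mk' S) with hM
    have hMH : M.map (QuotientGroup.mk' S) = H :=
      Subgroup.map_comap_eq_self_of_surjective (QuotientGroup.mk'_surjective S) H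
    by_cases hpM : p ∣ Nat.card M
    · right
      obtain ⟨y, hy⟩ := exists_prime_orderOf_dvd_card' p hpM
      let W : Subgroup G := Subgroup.normalClosure {g : G | orderOf g = p}
      have hW : W ≤ M.map D.subtype := by
        change Subgroup.closure (Group.conjugatesOfSet {g : G | orderOf g = p}) ≤ _
        rw [Subgroup.closure_le]
        intro g hg'
        have hg : orderOf g = p := by
          obtain ⟨a, ha, hag⟩ := Group.mem_conjugatesOfSet_iff.mp hg'
          obtain ⟨c, hc⟩ := isConj_iff.mp hag
          rw [← hc]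
          exact (orderOf_injective (MulAut.conj c).toMonoidHom (MulAut.conj c).injective a).trans ha
        have hgD : g ∈ D := by
          obtain ⟨P, hP⟩ := H18.sc_exists_sylow hx hC
          obtain ⟨Q, hQ⟩ := (IsPGroup.of_card (n := 1)
            (by rw [Nat.card_zpowers, hg, pow_one] :
              Nat.card (Subgroup.zpowers g) = p ^ 1)).exists_le_sylow
          obtain ⟨c, hc⟩ := MulAction.exists_smul_eq G P Q
          have h1 := hQ (Subgroup.mem_zpowers g)
          rw [← hc, Sylow.coe_subgroup_smul, H18.mem_conj_smul, hP] at h1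
          have h2 := (Subgroup.zpowers_le.mpr hxD) h1
          have := Subgroup.Normal.conj_mem (inferInstance : D.Normal) _ h2 c
          simpa [mul_assoc] using this
        haveI : Fact p.Prime := ⟨hp⟩
        obtain ⟨R, hR⟩ := (IsPGroup.of_card (n := 1)
          (by rw [Nat.card_zpowers, Subgroup.orderOf_coe, hy, pow_one] :
            Nat.card (Subgroup.zpowers (y : D)) = p ^ 1)).exists_le_sylow
        obtain ⟨R', hR'⟩ := (IsPGroup.of_card (n := 1)
          (by rw [Nat.card_zpowers, ← Subgroup.orderOf_coe, hg, pow_one] :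
            Nat.card (Subgroup.zpowers (⟨g, hgD⟩ : D)) = p ^ 1)).exists_le_sylow
        have hcard : ∀ T : Sylow p D, Nat.card T ≤ p := by
          intro T
          obtain ⟨P, hP⟩ := H18.sc_exists_sylow hx hC
          obtain ⟨U, hU⟩ := (T.isPGroup'.map D.subtype).exists_le_sylow
          have h1 := Subgroup.card_le_of_le hU
          rw [← Nat.card_congr ((T : Subgroup D).equivMapOfInjective _ Subtype.val_injective).toEquiv]
            at h1
          refine h1.trans (le_of_eq ?_)
          rw [U.card_eq_multiplicity, ← P.card_eq_multiplicity]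
          change Nat.card (P : Subgroup G) = p
          rw [hP, H18.sc_card_zpowers hx]
        have hRM : (R : Subgroup D) ≤ M := by
          have : Subgroup.zpowers (y : D) = R := Subgroup.eq_of_le_of_card_ge hR (by
            rw [Nat.card_zpowers, Subgroup.orderOf_coe, hy]; exact hcard R)
          rw [← this]
          exact Subgroup.zpowers_le.mpr y.2
        obtain ⟨c, hc⟩ := MulAction.exists_smul_eq D R R'
        have h3 := hR' (Subgroup.mem_zpowers (⟨g, hgD⟩ : D))
        rw [← hc, Sylow.coe_subgroup_smul, H18.mem_conj_smul] at h3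
        have hMn : M.Normal := hH.comap _
        have h4 := hMn.conj_mem _ (hRM h3) c
        exact ⟨⟨g, hgD⟩, by simpa [mul_assoc] using h4, rfl⟩
      have hpW : p ∣ Nat.card W :=
        hx ▸ Subgroup.orderOf_dvd_natCard _ (Subgroup.subset_normalClosure hx : x ∈ W)
      have hDM : D ≤ M.map D.subtype := (H18.sc_commutator_le hx hC hpW).trans hW
      rw [← hMH]
      have : M = ⊤ := by
        rw [eq_top_iff]
        intro z _
        obtain ⟨z', hz', hzz⟩ := hDM z.2
        rwa [Subtype.val_injective hzz] at hz'
      rw [this, Subgroup.map_top_of_surjective _ (QuotientGroup.mk'_surjective S)]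
    · left
      haveI : M.Normal := hH.comap _
      have h1 : M ≤ Cfsg.pPrimeCore p D := H1.le_pPrimeCore ((Nat.Prime.coprime_iff_not_dvd hp).mpr hpM).symm
      have h2 := (Subgroup.map_mono h1).trans ((H1.pPrimeCore_subgroup_map_eq p D).le.trans inf_le_left)
      rw [← hMH, Subgroup.map_eq_bot_iff, QuotientGroup.ker_mk', hSdef]
      intro z hz
      exact h2 ⟨z, hz, rfl⟩
  · rw [heq] at hcl
    have hp1 : p - 1 ≠ 0 := by have := hp.two_le; omega
    obtain ⟨_, hnd⟩ := H18.sc_index_commutator_of_relIndex_eq_one hx hC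
      (mul_left_cancel₀ hp1 (hcl.trans (mul_one _).symm))
    exact le_antisymm (H1.le_pPrimeCore ((Nat.Prime.coprime_iff_not_dvd hp).mpr hnd).symm) hle

end Cfsg.Agent.S4497
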