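import Cfsg.Statements.S4498
import Cfsg.Agent.H22.Subsections
import Cfsg.Agent.H22.BlockClasses

set_option autoImplicit false
set_option linter.style.haveILetI false
set_option linter.unusedSectionVars false
open Cfsg

namespace Cfsg.Agent.S4498

/-- Let p and q be distinct primes dividing the order of the finite group G, and suppose G has no element of order p·q. Fix maximal ideals M_p over p and M_q over q of the algebraic integers. Then the principal p-block and the principal q-block of G have a non-principal irreducible character in common. -/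
theorem result {G : Type*} [Group G] [Finite G] (p q : ℕ) [Fact p.Prime] [Fact q.Prime] (hpq : p ≠ q) (hp : p ∣ Nat.card G) (hq : q ∣ Nat.card G) (hno : ∀ g : G, orderOf g ≠ p * q) (Mp Mq : Ideal Cfsg.AlgInt) (hMp : Cfsg.IsPModular p Mp) (hMq : Cfsg.IsPModular q Mq) : ∃ χ : Cfsg.IrrCharacter G, (χ : G → ℂ) ≠ (fun _ => 1) ∧ χ ∈ Cfsg.principalBlock Mp G ∧ χ ∈ Cfsg.principalBlock Mq G := by
  classical
  haveI := Fintype.ofFinite G
  haveI := H20.isPrime_of_modular hMp
  haveI := H20.isPrime_of_modular hMq
  have hsing : ∀ g : G, q ∣ orderOf g → ¬ p ∣ orderOf g := fun g h1 h2 => by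
    have hco : Nat.Coprime p q := (Nat.coprime_primes Fact.out Fact.out).2 hpq
    have h3 : p * q ∣ orderOf g := hco.mul_dvd_of_dvd_of_dvd h2 h1
    exact hno (g ^ (orderOf g / (p * q))) (orderOf_pow_orderOf_div (orderOf_pos g).ne' h3)
  by_contra hcon
  push Not at hcon
  obtain ⟨x, hx⟩ := exists_prime_orderOf_dvd_card' p hp
  obtain ⟨y, hy⟩ := exists_prime_orderOf_dvd_card' q hq
  let A := H22.blockFinset (principalBlock Mp G)
  let B := principalBlock Mq G
  let F : G → ℂ := ∑ χ ∈ A, starRingEnd ℂ ((χ : G → ℂ) x) • (χ : G → ℂ)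
  have hF : ∀ g, ¬ p ∣ orderOf g → F g = 0 := by
    intro g hg
    simp only [F, Finset.sum_apply, Pi.smul_apply, smul_eq_mul]
    rw [← H22.weakOrth_of_block hMp (H20.isPBlock_principalBlock) g x hg (hx ▸ dvd_rfl)]
    exact Finset.sum_congr rfl fun χ _ => mul_comm _ _
  have h1 : ∀ {r : ℕ} {N : Ideal AlgInt} [Fact r.Prime] [N.IsPrime],
      H12.oneIrr G ∈ principalBlock N G := fun {_ N} _ _ => H20.mem_blockOf_self (M := N) (H12.oneIrr G)
  have hP : H22.Sub.partMap B F = fun _ => 1 := by
    simp only [F, map_sum, map_smul, H22.Sub.partMap_apply, H22.Sub.blockPart_irr]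
    rw [Finset.sum_eq_single (H12.oneIrr G)]
    · rw [if_pos (h1 (r := q))]
      funext g
      simp [H12.oneIrr_apply]
    · intro χ hχ hne
      rw [if_neg fun h => hcon χ (fun h' => hne (Subtype.ext h')) (H22.mem_blockFinset.1 hχ) h,
        smul_zero]
    · exact fun h => absurd (H22.mem_blockFinset.2 (h1 (r := p))) h
  have h0 : H22.Sub.partMap B F y = 0 := by
    rw [H22.Sub.partMap_apply, H22.Sub.blockPart_eq_smul_sum]
    simp only [Finset.sum_apply, Pi.smul_apply, smul_eq_mul, H12.classInner_def, Finset.mul_sum,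
      Finset.sum_mul]
    rw [Finset.sum_comm]
    refine Finset.sum_eq_zero fun w _ => ?_
    by_cases hw : q ∣ orderOf w
    · refine Finset.sum_eq_zero fun χ _ => ?_
      rw [hF w (hsing w hw)]
      ring
    · have h := congrArg (starRingEnd ℂ)
        (H22.weakOrth_of_block hMq (H20.isPBlock_principalBlock) w y hw (hy ▸ dvd_rfl))
      simp only [map_sum, map_mul, Complex.conj_conj, map_zero] at h
      calc _ = (Nat.card G : ℂ)⁻¹ * F w * ∑ χ ∈ H22.blockFinset B,
            starRingEnd ℂ ((χ : G → ℂ) w) * (χ : G → ℂ) y := by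
              rw [Finset.mul_sum]; exact Finset.sum_congr rfl fun χ _ => by ring
        _ = 0 := by rw [h, mul_zero]
  rw [hP] at h0
  exact one_ne_zero h0

end Cfsg.Agent.S4498
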