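import Cfsg.Statements.S4507
import Cfsg.Agent.H85.D1.Final
import Cfsg.Agent.H25.Galois

set_option autoImplicit false
open Cfsg

namespace Cfsg.Agent.S4507

/-- Let G be a finite group whose order g is divisible by the prime p exactly once, g′ = g/p, and fix a maximal ideal M of the algebraic integers containing p. Call two irreducible characters p-conjugate when a field automorphism of ℂ fixing the g′-th roots of unity carries one to the other. Let B be a p-block of positive defect (its defect group is a Sylow p-subgroup). Then B contains a subset Y (the exceptional family) such that: Y is a full p-conjugacy class (its members are pairwise p-conjugate and every p-conjugate of a member of Y lies in Y); every member of B outside Y is p-conjugate only to itself; the size t of Y divides p − 1 and B has exactly t + (p − 1)/t members; and there are signs δ_χ = ±1 (χ ∈ B) such that for every p-regular element x and every θ ∈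 Y, Σ_{χ ∈ B ∖ Y} δ_χ χ(x) + δ_θ θ(x) = 0. -/
theorem result {G : Type*} [Group G] [Finite G] (p : ℕ) [Fact p.Prime] (M : Ideal Cfsg.AlgInt) (hM : Cfsg.IsPModular p M) (hdiv : p ∣ Nat.card G) (hsq : ¬ p ^ 2 ∣ Nat.card G) (B : Set (Cfsg.IrrCharacter G)) (hB : Cfsg.IsPBlock M B) (hd : 0 < Cfsg.blockDefect p B) : ∃ Y : Set (Cfsg.IrrCharacter G), Y ⊆ B ∧ Y.Nonempty ∧ (∀ θ ∈ Y, ∀ ψ : Cfsg.IrrCharacter G, (∃ σ : ℂ ≃+* ℂ, σ (Complex.exp (2 * Real.pi * Complex.I / ((Nat.card G / p ^ (Nat.card G).factorization p) : ℕ))) = Complex.exp (2 * Real.pi * Complex.I / ((Nat.card G / p ^ (Nat.card G).factorization p) : ℕ)) ∧ (ψ : G → ℂ) = fun g => σ ((θ : G → ℂ) g)) ↔ ψ ∈ Y) ∧ (∀ χ ∈ B, χ ∉ Y → ∀ ψ : Cfsg.IrrCharacter G, (∃ σ : ℂ ≃+* ℂ, σ (Complex.exp (2 * Real.pi * Complex.I / ((Nat.card G / p ^ (Nat.card G).factorization p) : ℕ))) = Complex.exp (2 * Real.pi * Complex.I / ((Nat.card G / p ^ (Nat.card G).factorization p) : ℕ)) ∧ (ψ : G →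 ℂ) = fun g => σ ((χ : G → ℂ) g)) → ψ = χ) ∧ Nat.card Y ∣ p - 1 ∧ Nat.card B = Nat.card Y + (p - 1) / Nat.card Y ∧ ∃ δ : Cfsg.IrrCharacter G → ℤ, (∀ χ ∈ B, δ χ = 1 ∨ δ χ = -1) ∧ ∀ x : G, ¬ p ∣ orderOf x → ∀ θ ∈ Y, (∑ᶠ χ ∈ B \ Y, (δ χ : ℂ) * (χ : G → ℂ) x) + (δ θ : ℂ) * (θ : G → ℂ) x = 0 := by
  classical
  haveI : Fintype G := Fintype.ofFinite _
  haveI : M.IsPrime := H20.isPrime_of_modular hM
  have hp := (Fact.out : p.Prime)
  obtain ⟨P⟩ : Nonempty (Sylow p G) := inferInstance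
  have hfac : (Nat.card G).factorization p = 1 := by
    have h1 := (hp.dvd_iff_one_le_factorization Nat.card_pos.ne').1 hdiv
    have h2 : ¬ 2 ≤ (Nat.card G).factorization p := fun h =>
      hsq ((hp.pow_dvd_iff_le_factorization Nat.card_pos.ne').2 h)
    omega
  have hP : Nat.card P = p := by rw [P.card_eq_multiplicity, hfac, pow_one]
  obtain ⟨u, a, H, D⟩ := H85.D1.exists_setting hP
  haveI : Fintype H := Fintype.ofFinite _
  haveI : Fintype (P : Subgroup G) := Fintype.ofFinite _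
  obtain ⟨χ₀, hχ₀⟩ := H20.block_nonempty hB
  obtain ⟨φ, hφ⟩ := D.exists_mem_supp hM (χ := χ₀) (by rwa [← H20.block_eq_blockOf hB hχ₀])
  have hB' := D.block_eq_supp hM hB hχ₀ hφ
  haveI : Fintype (D.aut φ) := Fintype.ofFinite _
  obtain ⟨S⟩ := D.exists_shape hM φ
  rw [← D.union_eq_supp S] at hB'
  have hmemX : ∀ χ ∈ S.X, χ ∈ D.supp φ := fun χ hχ => D.union_eq_supp S ▸ Or.inl hχ
  have hmemY : ∀ χ ∈ S.Y, χ ∈ D.supp φ := fun χ hχ => D.union_eq_supp S ▸ Or.inr hχ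
  have hpow : ∀ x : (P : Subgroup G), x ^ p = 1 := fun x => by
    have h1 := pow_card_eq_one' (x := x)
    rwa [hP] at h1
  have he0 : 0 < Nat.card (D.aut φ) := Nat.card_pos
  have hte := S.card_Y
  have hY0 : 0 < Nat.card S.Y := by
    by_contra h0
    rw [Nat.eq_zero_of_not_pos h0, zero_mul, zero_add] at hte
    exact hp.one_lt.ne hte
  set g' := Nat.card G / p ^ (Nat.card G).factorization p with hg'
  have hg'p : g' = Nat.card G / p := by rw [hg', hfac, pow_one]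
  have hg'0 : 0 < g' := by
    rw [hg'p]; exact Nat.div_pos (Nat.le_of_dvd Nat.card_pos hdiv) hp.pos
  have hprim := Complex.isPrimitiveRoot_exp g' hg'0.ne'
  have hfix : ∀ σ : ℂ ≃+* ℂ,
      σ (Complex.exp (2 * Real.pi * Complex.I / (g' : ℕ))) =
        Complex.exp (2 * Real.pi * Complex.I / (g' : ℕ)) →
      ∀ z : ℂ, z ^ (Nat.card G / p) = 1 → σ z = z := fun σ hσ z hz => by
    rw [← hg'p] at hz
    rw [H85.D1.map_root_of_fixed hg'0 hprim (k := 1) (by rw [pow_one]; exact hσ) hz, pow_one]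
  have hexists : ∀ σ : ℂ ≃+* ℂ, ∃ k : ℕ, ¬ p ∣ k ∧ ∀ z : ℂ, z ^ p = 1 → σ z = z ^ k := fun σ => by
    have hz : IsPrimitiveRoot (H85.D1.zeta p) p := H85.D1.isPrimitiveRoot_zeta
    haveI : NeZero p := ⟨hp.ne_zero⟩
    obtain ⟨k, -, hk⟩ := hz.eq_pow_of_pow_eq_one
      (show σ (H85.D1.zeta p) ^ p = 1 by rw [← map_pow, hz.pow_eq_one, map_one])
    refine ⟨k, fun hd => ?_, fun z hz' => H85.D1.map_root_of_fixed hp.pos hz hk.symm hz'⟩
    have h1 : σ (H85.D1.zeta p) = σ 1 := by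
      rw [← hk, map_one, (hz.pow_eq_one_iff_dvd k).2 hd]
    exact hz.ne_one hp.one_lt (σ.injective h1)
  refine ⟨S.Y, hB' ▸ Set.subset_union_right, Set.nonempty_coe_sort.1 (Nat.card_pos_iff.1 hY0).1,
    fun θ hθ ψ => ⟨?_, fun hψ => ?_⟩, ?_, ⟨Nat.card (D.aut φ), by omega⟩, ?_, ?_⟩
  · rintro ⟨σ, hσ, hψ⟩
    have hσ' := hfix σ hσ
    obtain ⟨k, hk, hkz⟩ := hexists σ
    obtain ⟨ξ, hξ, hcol⟩ := S.colY θ hθ
    have hξk : ξ ^ k ≠ 1 := by
      intro h1
      apply hξ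
      refine MonoidHom.ext fun x => Units.ext ?_
      have h2 : (ξ x : ℂ) ^ k = 1 := by
        rw [← Units.val_pow_eq_pow_val, ← MonoidHom.pow_apply, h1]; rfl
      have h3 : (ξ x : ℂ) ^ p = 1 := by
        rw [← Units.val_pow_eq_pow_val, ← map_pow, hpow, map_one, Units.val_one]
      have h4 := (pow_gcd_eq_one (a := (ξ x : ℂ))).2 ⟨h2, h3⟩
      rwa [Nat.Coprime.gcd_eq_one (Nat.Coprime.symm (hp.coprime_iff_not_dvd.2 hk)), pow_one] at h4
    obtain ⟨i, hi, hicol⟩ := S.surjY (ξ ^ k) hξk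
    have hψcol : ∀ x : (P : Subgroup G), x ≠ 1 → D.col φ ψ x = D.col φ i x := fun x hx => by
      rw [D.col_map φ hσ' hψ, show D.col φ θ x = _ from hcol x hx,
        H85.D1.map_colY hkz hP, show D.col φ i x = _ from hicol x hx]
    have hmem : ψ ∈ D.supp φ := by
      obtain ⟨x, hx, hne⟩ := hmemY i hi
      exact ⟨x, hx, by rw [hψcol x hx]; exact hne⟩
    have : ψ = i := D.eq_of_col hM hmem (hmemY i hi) (fun g hg => by
      rw [hψ]
      show σ _ = _
      rw [D.map_regular hσ' θ hg]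
      exact congrFun (S.regY θ hθ i hi) ⟨g, hg⟩)
      fun x hx hx1 => hψcol ⟨x, hx⟩ fun h3 => hx1 (congrArg Subtype.val h3)
    rw [this]; exact hi
  · obtain ⟨ξ, hξ, hcol⟩ := S.colY θ hθ
    obtain ⟨η, hη, hηcol⟩ := S.colY ψ hψ
    haveI : NeZero p := ⟨hp.ne_zero⟩
    have huP : (⟨u, D.u_mem⟩ : (P : Subgroup G)) ≠ 1 := fun h1 => hp.ne_one (by
      have h2 : u = 1 := congrArg Subtype.val h1
      rw [← D.frame.orderOf_u, h2, orderOf_one])
    set uu : (P : Subgroup G) := ⟨u, D.u_mem⟩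
    have hroot : ∀ χ : (P : Subgroup G) →* ℂˣ, (χ uu : ℂ) ^ p = 1 := fun χ => by
      rw [← Units.val_pow_eq_pow_val, ← map_pow, hpow, map_one, Units.val_one]
    have hξu : IsPrimitiveRoot (ξ uu : ℂ) p := by
      refine IsPrimitiveRoot.iff_orderOf.2 (orderOf_eq_prime (hroot ξ) fun h1 => ?_)
      exact huP (H85.D1.lin_injective hP hξ ((Units.ext h1).trans (map_one ξ).symm))
    obtain ⟨k, -, hk⟩ := hξu.eq_pow_of_pow_eq_one (hroot η)
    have hηξ : η = ξ ^ k := by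
      refine MonoidHom.ext fun x => ?_
      obtain ⟨i, rfl⟩ := H85.D1.zpowers_top hP huP x
      rw [map_zpow, map_zpow]
      congr 1
      exact Units.ext (by rw [MonoidHom.pow_apply, Units.val_pow_eq_pow_val, hk])
    have hkp : ¬ p ∣ k := fun hd => by
      refine hη (hηξ.trans (MonoidHom.ext fun x => ?_))
      obtain ⟨c, rfl⟩ := hd
      rw [MonoidHom.pow_apply, pow_mul, ← map_pow, hpow, map_one, one_pow,
        MonoidHom.one_apply]
    have hpg : ¬ p ∣ g' := fun hd => hsq (by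
      rw [pow_two]
      have h1 := mul_dvd_mul hd (dvd_refl p)
      rwa [hg'p, Nat.div_mul_cancel hdiv] at h1)
    obtain ⟨σ, hσR, hσz, -⟩ := H85.D1.exists_sigma (M := M) hpg hg'0 k hkp
    have hσexp : σ (Complex.exp (2 * Real.pi * Complex.I / (g' : ℕ))) =
        Complex.exp (2 * Real.pi * Complex.I / (g' : ℕ)) :=
      hσR _ (H85.D1.Z0_le_R (Subring.subset_closure hprim.pow_eq_one))
    have hσ' := hfix σ hσexp
    have hkz : ∀ z : ℂ, z ^ p = 1 → σ z = z ^ k := fun z hz =>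
      H85.D1.map_root_of_fixed hp.pos H85.D1.isPrimitiveRoot_zeta hσz hz
    obtain ⟨θσ, hθσ⟩ : ∃ θσ : Cfsg.IrrCharacter G,
        (θσ : G → ℂ) = fun g => σ ((θ : G → ℂ) g) :=
      ⟨⟨_, H25.isIrrCharacter_ringEquiv_comp θ.2 σ⟩, rfl⟩
    refine ⟨σ, hσexp, ?_⟩
    have hcolσ : ∀ x : (P : Subgroup G), x ≠ 1 → D.col φ θσ x = D.col φ ψ x := fun x hx => by
      rw [D.col_map φ hσ' hθσ, show D.col φ θ x = _ from hcol x hx, H85.D1.map_colY hkz hP,
        show D.col φ ψ x = _ from hηcol x hx, hηξ]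
    have hmem : θσ ∈ D.supp φ := by
      obtain ⟨x, hx, hne⟩ := hmemY ψ hψ
      exact ⟨x, hx, by rw [hcolσ x hx]; exact hne⟩
    have : θσ = ψ := D.eq_of_col hM hmem (hmemY ψ hψ) (fun g hg => by
      rw [hθσ]
      show σ _ = _
      rw [D.map_regular hσ' θ hg]
      exact congrFun (S.regY θ hθ ψ hψ) ⟨g, hg⟩)
      fun x hx hx1 => hcolσ ⟨x, hx⟩ fun h3 => hx1 (congrArg Subtype.val h3)
    rw [← this, hθσ]
  · intro χ hχ hχY ψ
    rintro ⟨σ, hσ, hψ⟩
    have hσ' := hfix σ hσ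
    have hχX : χ ∈ S.X := by
      rw [hB'] at hχ
      exact hχ.resolve_right hχY
    have hψcol : ∀ x : (P : Subgroup G), x ≠ 1 → D.col φ ψ x = D.col φ χ x := fun x hx => by
      rw [D.col_map φ hσ' hψ, show D.col φ χ x = _ from S.colX χ hχX x hx, map_intCast]
    have hmem : ψ ∈ D.supp φ := by
      obtain ⟨x, hx, hne⟩ := hmemX χ hχX
      exact ⟨x, hx, by rw [hψcol x hx]; exact hne⟩
    exact D.eq_of_col hM hmem (hmemX χ hχX) (fun g hg => by
      rw [hψ]
      exact D.map_regular hσ' χ hg)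
      fun x hx hx1 => hψcol ⟨x, hx⟩ fun h3 => hx1 (congrArg Subtype.val h3)
  · rw [hB', Nat.card_coe_set_eq, Set.ncard_union_eq S.disj, ← Nat.card_coe_set_eq,
      ← Nat.card_coe_set_eq, S.card_X, add_comm (Nat.card (D.aut φ))]
    congr 1
    rw [show p - 1 = Nat.card (D.aut φ) * Nat.card S.Y by rw [mul_comm]; omega,
      Nat.mul_div_cancel _ hY0]
  · refine ⟨fun χ => if χ ∈ S.Y then -S.ε else S.εX χ, fun χ hχ => ?_, fun x hx θ hθ => ?_⟩
    · show (if χ ∈ S.Y then -S.ε else S.εX χ) = 1 ∨ (if χ ∈ S.Y then -S.ε else S.εX χ) = -1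
      by_cases hχY : χ ∈ S.Y
      · rw [if_pos hχY]; rcases S.ε_eq with h | h <;> omega
      · rw [if_neg hχY]
        rw [hB'] at hχ
        exact S.εX_eq χ (hχ.resolve_right hχY)
    · have hrel := S.rel θ hθ ⟨x, hx⟩
      have hdiff : B \ S.Y = S.X := by rw [hB', Set.union_sdiff_cancel_right
        (fun χ hχ => Set.disjoint_left.1 S.disj hχ.1 hχ.2)]
      rw [hdiff, finsum_mem_congr rfl (g := fun χ => (S.εX χ : ℂ) * (χ : G → ℂ) x) fun χ hχ => by
        simp only [if_neg (Set.disjoint_left.1 S.disj hχ)]]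
      simp only [if_pos hθ]
      rw [← hrel]
      push_cast; ring

end Cfsg.Agent.S4507
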