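import Cfsg.Statements.S4509
import Cfsg.Agent.H18.SelfCentralizing
import Cfsg.Agent.H1.Cores


set_option autoImplicit false
open scoped commutatorElement
open Cfsg

namespace Cfsg.Agent.S4509

/-- Let the finite group G contain an element x of prime order p with C_G(x) = ⟨x⟩; let t be the number of conjugacy classes of elements of order p and 1 + n·p the number of subgroups of order p. Then G has a normal subgroup of order 1 + n·p if and only if either t = p − 1, or t < p − 1 and G″ ≠ G′. Moreover, if t = p − 1 then G′ has order 1 + n·p and G/G′ is cyclic of order p; and if t < p − 1 and G″ ≠ G′ then G″ has order 1 + n·p and G′ has order p·(1 + n·p). -/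
theorem result {G : Type*} [Group G] [Finite G] (p : ℕ) (hp : p.Prime) (x : G) (hx : orderOf x = p) (hC : Subgroup.centralizer ({x} : Set G) = Subgroup.zpowers x) (t : ℕ) (ht : Nat.card {C : ConjClasses G // ∃ g ∈ C.carrier, orderOf g = p} = t) (n : ℕ) (hn : Nat.card {H : Subgroup G // Nat.card H = p} = 1 + n * p) : ((∃ S : Subgroup G, S.Normal ∧ Nat.card S = 1 + n * p) ↔ (t = p - 1 ∨ (t < p - 1 ∧ derivedSeries G 2 ≠ derivedSeries G 1))) ∧ (t = p - 1 → Nat.card (commutator G) = 1 + n * p ∧ IsCyclic (G ⧸ commutator G) ∧ (commutator G).index = p) ∧ (t < p - 1 → derivedSeries G 2 ≠ derivedSeries G 1 → Nat.card (derivedSeries G 2) = 1 + n * p ∧ Nat.card (commutator G) = p * (1 + n * p)) := by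
  haveI : Fact p.Prime := ⟨hp⟩
  have hp1 : p - 1 ≠ 0 := by have := hp.two_le; omega
  have hcl := H18.sc_classes_mul hx hC
  rw [ht] at hcl
  set N := Subgroup.normalizer ((Subgroup.zpowers x : Subgroup G) : Set G) with hN
  rw [H18.sc_card_subgroups_order_p hx hC] at hn
  set e := (Subgroup.zpowers x).relIndex N with he
  have he0 : e ≠ 0 := Subgroup.index_ne_zero_of_finite
  have hd2 : derivedSeries G 1 = commutator G := derivedSeries_one G
  rw [hd2]
  have hcardG : Nat.card G = p * e * (1 + n * p) := by
    rw [← N.card_mul_index, hn]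
    congr 1
    rw [← Subgroup.relIndex_bot_left N, ← Subgroup.relIndex_mul_relIndex ⊥ (Subgroup.zpowers x) N
      bot_le Subgroup.le_normalizer, Subgroup.relIndex_bot_left, H18.sc_card_zpowers hx]
  have hnd : ∀ S : Subgroup G, Nat.card S = 1 + n * p → ¬ p ∣ Nat.card S := by
    intro S hS h
    rw [hS] at h
    exact hp.not_dvd_one ((Nat.dvd_add_right (dvd_mul_left p n)).mp (by rwa [add_comm]))
  have case1 : t = p - 1 → Nat.card (commutator G) = 1 + n * p ∧
      IsCyclic (G ⧸ commutator G) ∧ (commutator G).index = p := by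
    intro h1
    rw [h1] at hcl
    have he1 : e = 1 := mul_left_cancel₀ hp1 (hcl.trans (mul_one _).symm)
    obtain ⟨hidx, _⟩ := H18.sc_index_commutator_of_relIndex_eq_one hx hC he1
    refine ⟨?_, ?_, hidx⟩
    · have := (commutator G).card_mul_index
      rw [hidx, hcardG, he1, mul_one, mul_comm p] at this
      exact mul_right_cancel₀ hp.ne_zero this
    · exact isCyclic_of_prime_card (p := p) (by rw [← Subgroup.index_eq_card, hidx])
  have hsecond : ∀ D : Subgroup G, D.Normal → ¬ p ∣ Nat.card D →
      commutator G ≤ D ⊔ Subgroup.zpowers x → derivedSeries G 2 ≤ D := by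
    intro D _ _ hle
    rw [show (2 : ℕ) = 1 + 1 from rfl, derivedSeries_succ, hd2, Subgroup.commutator_le]
    intro a ha b hb
    rw [← QuotientGroup.eq_one_iff]
    change QuotientGroup.mk' D ⁅a, b⁆ = 1
    rw [map_commutatorElement, commutatorElement_eq_one_iff_commute]
    have hm : ∀ c ∈ commutator G,
        QuotientGroup.mk' D c ∈ Subgroup.zpowers (QuotientGroup.mk' D x) := by
      intro c hc
      rw [← MonoidHom.map_zpowers]
      have : (D ⊔ Subgroup.zpowers x).map (QuotientGroup.mk' D) =
          (Subgroup.zpowers x).map (QuotientGroup.mk' D) := by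
        rw [Subgroup.map_sup, QuotientGroup.map_mk'_self, bot_sup_eq]
      rw [← this]
      exact ⟨c, hle hc, rfl⟩
    obtain ⟨i, hi⟩ := hm a ha
    obtain ⟨j, hj⟩ := hm b hb
    rw [← hi, ← hj]
    exact Commute.zpow_zpow (Commute.refl _) i j
  have hder : ∀ D : Subgroup G, D.Normal → ¬ p ∣ Nat.card D → derivedSeries G 2 ≤ D →
      p ∣ Nat.card (commutator G) → commutator G ≤ D ⊔ Subgroup.zpowers x := by
    intro D _ hDp hDle hpd a ha
    apply H18.sc_centralizer_mod hx hC hDp
    apply hDle
    rw [show (2 : ℕ) = 1 + 1 from rfl, derivedSeries_succ, hd2]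
    exact Subgroup.commutator_mem_commutator ha (H18.sc_mem_of_dvd hx hC hpd)
  have case2 : t < p - 1 → derivedSeries G 2 ≠ commutator G →
      Nat.card (derivedSeries G 2) = 1 + n * p ∧
        Nat.card (commutator G) = p * (1 + n * p) := by
    intro h1 h2
    have hne : e ≠ 1 := fun h => by rw [h, mul_one] at hcl; omega
    have hpd := H18.sc_dvd_commutator_of_relIndex_ne_one hx hC hne
    set D := derivedSeries G 2 with hD
    have hDle : D ≤ commutator G := hd2 ▸ derivedSeries_antitone G (by norm_num)
    have hDp : ¬ p ∣ Nat.card D := fun h =>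
      h2 (le_antisymm hDle (H18.sc_commutator_le hx hC h))
    have hG' : commutator G = D ⊔ Subgroup.zpowers x :=
      le_antisymm (hder D inferInstance hDp le_rfl hpd)
        (sup_le hDle (Subgroup.zpowers_le.mpr (H18.sc_mem_of_dvd hx hC hpd)))
    obtain ⟨P, hP⟩ := H18.sc_exists_sylow hx hC
    have htop : D ⊔ N = ⊤ := by
      have h3 : N ⊔ commutator G = ⊤ := by
        rw [hN, ← hP]
        exact Sylow.normalizer_sup_eq_top' P
          (hP ▸ Subgroup.zpowers_le.mpr (H18.sc_mem_of_dvd hx hC hpd))
      rw [eq_top_iff, ← h3, hG']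
      exact sup_le le_sup_right (sup_le le_sup_left (Subgroup.le_normalizer.trans le_sup_right))
    have hcomp : D.IsComplement' N := Subgroup.isComplement'_of_disjoint_and_mul_eq_univ
      (disjoint_iff.mpr (H18.sc_inf_normalizer_eq_bot hx hC hDp))
      (by rw [← Subgroup.normal_mul, htop, Subgroup.coe_top])
    have hcD : Nat.card D = 1 + n * p := by rw [← hcomp.index_eq_card, hn]
    refine ⟨hcD, ?_⟩
    have h4 := Subgroup.relIndex_mul_relIndex ⊥ D (commutator G) bot_le hDle
    rw [Subgroup.relIndex_bot_left, Subgroup.relIndex_bot_left] at h4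
    have h5 : D.relIndex (commutator G) = p := by
      rw [hG', Subgroup.relIndex_sup_left, ← Subgroup.inf_relIndex_right,
        H18.sc_inf_eq_bot hx hC hDp, Subgroup.relIndex_bot_left, H18.sc_card_zpowers hx]
    rw [← h4, hcD, h5, mul_comm]
  refine ⟨⟨?_, ?_⟩, case1, case2⟩
  · rintro ⟨S, hSn, hS⟩
    have hSp := hnd S hS
    by_cases he1 : e = 1
    · left; rw [he1, mul_one] at hcl; exact hcl
    · right
      have hte : t < p - 1 := by
        rw [← hcl]
        have : 2 ≤ e := by omega
        have htpos : 0 < t := by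
          rcases Nat.eq_zero_or_pos t with h | h
          · rw [h, zero_mul] at hcl; omega
          · exact h
        nlinarith
      refine ⟨hte, fun heq => ?_⟩
      have hpd := H18.sc_dvd_commutator_of_relIndex_ne_one hx hC he1
      have hcomp : S.IsComplement' N := Subgroup.isComplement'_of_card_mul_and_disjoint
        (by
          rw [hS, ← N.card_mul_index, hn, mul_comm])
        (disjoint_iff.mpr (H18.sc_inf_normalizer_eq_bot hx hC hSp))
      have htop : S ⊔ N = ⊤ := hcomp.sup_eq_top
      have hle : commutator G ≤ S ⊔ Subgroup.zpowers x := by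
        haveI : (S ⊔ Subgroup.zpowers x).Normal := by
          refine Subgroup.normalizer_eq_top_iff.mp (top_le_iff.mp ?_)
          rw [← htop]
          refine sup_le (Subgroup.le_normalizer.trans' le_sup_left) ?_
          exact (le_inf le_top le_rfl).trans (H18.le_normalizer_sup S _)
        refine H18.commutator_le_of_generators (s := (N : Set G) ∪ S)
          (by rw [Subgroup.closure_union, Subgroup.closure_eq, Subgroup.closure_eq, sup_comm, htop]) ?_
        have hSc : ∀ a ∈ S, ∀ b : G, ⁅a, b⁆ ∈ S ⊔ Subgroup.zpowers x := fun a ha b =>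
          Subgroup.mem_sup_left (by
            simpa [commutatorElement_def, mul_assoc] using
              S.mul_mem ha (hSn.conj_mem a⁻¹ (S.inv_mem ha) b))
        rintro u (hu | hu) v (hv | hv)
        · exact Subgroup.mem_sup_right (H18.sc_commutator_normalizer hx hC hu hv)
        · rw [← commutatorElement_inv]; exact Subgroup.inv_mem _ (hSc v hv u)
        · exact hSc u hu v
        · exact hSc u hu v
      have := hsecond S hSn hSp hle
      rw [heq] at this
      exact hSp (hpd.trans (Subgroup.card_dvd_of_le this))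
  · rintro (h | ⟨h1, h2⟩)
    · exact ⟨commutator G, inferInstance, (case1 h).1⟩
    · exact ⟨_, inferInstance, (case2 h1 h2).1⟩

end Cfsg.Agent.S4509
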