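import Cfsg.Statements.S4518
import Cfsg.Agent.H13.Clifford
import Cfsg.Agent.H25.Galois


set_option autoImplicit false
open Cfsg

namespace Cfsg.Agent.S4518

/-- Let N be a normal subgroup of the finite group G whose index is not divisible by the prime p, and let k be coprime to the order of G with k ^ (p ^ e) ≡ 1 modulo the order of G for some e (so g ↦ g ^ k induces a field automorphism of p-power order on character values). If an irreducible character χ of G satisfies χ (g ^ k) = χ g for all g, then every irreducible constituent θ of the restriction of χ to N satisfies θ (n ^ k) = θ n for all n. -/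
theorem result {G : Type*} [Group G] [Fintype G] (p : ℕ) [Fact p.Prime] (N : Subgroup G) [N.Normal] [Fintype N] (hidx : ¬ p ∣ N.index) (k e : ℕ) (hk : Nat.Coprime k (Nat.card G)) (hke : k ^ (p ^ e) ≡ 1 [MOD Nat.card G]) (χ : Cfsg.IrrCharacter G) (hχ : ∀ g : G, (χ : G → ℂ) (g ^ k) = (χ : G → ℂ) g) (θ : Cfsg.IrrCharacter N) (hθ : Cfsg.classInner (fun n : N => (χ : G → ℂ) n) (θ : N → ℂ) ≠ 0) : ∀ n : N, (θ : N → ℂ) (n ^ k) = (θ : N → ℂ) n := by
  classical
  have hp := (Fact.out : p.Prime)
  have hkN : Nat.Coprime k (Nat.card N) := hk.coprime_dvd_right (Subgroup.card_subgroup_dvd_card N)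
  let σ : Cfsg.IrrCharacter N → Cfsg.IrrCharacter N := fun φ =>
    ⟨fun n => (φ : N → ℂ) (n ^ k), H25.isIrrCharacter_comp_pow φ.2 hkN⟩
  let O := {φ : Cfsg.IrrCharacter N // ∃ x : G, H13.twist N x (θ : N → ℂ) = (φ : N → ℂ)}
  have hO : ∀ φ : Cfsg.IrrCharacter N,
      Cfsg.classInner (fun n : N => (χ : G → ℂ) n) (φ : N → ℂ) ≠ 0 →
        ∃ x : G, H13.twist N x (θ : N → ℂ) = (φ : N → ℂ) := by
    intro φ hφ
    by_contra h
    exact hφ (H13.classInner_res_eq_zero_of_not_conj N χ.2 θ.2 φ.2 hθ (not_exists.mp h))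
  have hmem : ∀ φ : O, ∃ x : G, H13.twist N x (θ : N → ℂ) = (σ φ.1 : N → ℂ) := by
    intro φ
    obtain ⟨x, hx⟩ := φ.2
    apply hO
    have h1 : (fun n : N => (χ : G → ℂ) n) = fun n : N => (χ : G → ℂ) ((n ^ k : N) : G) :=
      funext fun n => by rw [Subgroup.coe_pow, hχ]
    rw [h1]
    change Cfsg.classInner (fun n : N => (fun m : N => (χ : G → ℂ) m) (n ^ k))
      (fun n : N => (φ.1 : N → ℂ) (n ^ k)) ≠ 0
    refine ne_of_eq_of_ne (H25.classInner_comp_pow (fun m : N => (χ : G → ℂ) m)
      (φ.1 : N → ℂ) hkN) ?_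
    rw [← hx, H13.classInner_res_twist N (H12.irr_isClassFunction χ)]
    exact hθ
  let σO : O → O := fun φ => ⟨σ φ.1, hmem φ⟩
  have hiter : ∀ (j : ℕ) (φ : O), ((σO^[j] φ).1 : N → ℂ) = fun n => (φ.1 : N → ℂ) (n ^ (k ^ j)) := by
    intro j
    induction j with
    | zero => intro φ; funext n; simp
    | succ j ih =>
      intro φ
      rw [Function.iterate_succ_apply', pow_succ]
      funext n
      change ((σO^[j] φ).1 : N → ℂ) (n ^ k) = _
      rw [ih]
      dsimp only
      rw [← pow_mul, mul_comm]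
  have hper : ∀ φ : O, σO^[p ^ e] φ = φ := by
    intro φ
    apply Subtype.ext
    apply Subtype.ext
    rw [hiter]
    funext n
    have hd : k ^ (p ^ e) ≡ 1 [MOD orderOf n] :=
      hke.of_dvd ((orderOf_dvd_natCard n).trans (Subgroup.card_subgroup_dvd_card N))
    rw [pow_eq_pow_iff_modEq.mpr hd, pow_one]
  let perm : Equiv.Perm O :=
    { toFun := σO
      invFun := σO^[p ^ e - 1]
      left_inv := fun φ => by
        rw [← Function.iterate_succ_apply σO, Nat.succ_eq_add_one,
          Nat.sub_add_cancel (Nat.one_le_pow _ _ hp.pos)]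
        exact hper φ
      right_inv := fun φ => by
        rw [← Function.iterate_succ_apply' σO, Nat.succ_eq_add_one,
          Nat.sub_add_cancel (Nat.one_le_pow _ _ hp.pos)]
        exact hper φ }
  have hOcard : ¬ p ∣ Nat.card O := by
    intro hd
    apply hidx
    refine hd.trans ?_
    let I := H13.inertia N (θ : N → ℂ)
    have hI : N ≤ I := H13.le_inertia N (H12.irr_isClassFunction θ)
    refine dvd_trans (dvd_of_eq ?_) (Subgroup.index_dvd_of_le hI)
    rw [Subgroup.index_eq_card]
    symm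
    let f : G → O := fun x => ⟨⟨H13.twist N x⁻¹ (θ : N → ℂ), H13.isIrrCharacter_twist N x⁻¹ θ.2⟩,
      x⁻¹, rfl⟩
    have hrel : ∀ a b : G, f a = f b ↔ a⁻¹ * b ∈ I := by
      intro a b
      rw [H13.mem_inertia]
      constructor
      · intro h
        have := congrArg (fun z : O => H13.twist N b (z.1 : N → ℂ)) h
        simp only [f] at this
        simp only [H13.twist_twist, inv_mul_cancel, H13.twist_one] at this
        exact this
      · intro h
        have := congrArg (H13.twist N b⁻¹) h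
        rw [H13.twist_twist, mul_assoc, mul_inv_cancel, mul_one] at this
        exact Subtype.ext (Subtype.ext this)
    refine Nat.card_eq_of_bijective (Quotient.lift f (fun a b h => (hrel a b).mpr
      (QuotientGroup.leftRel_apply.mp h))) ⟨?_, ?_⟩
    · intro a b
      induction a using Quotient.inductionOn
      induction b using Quotient.inductionOn
      intro h
      exact Quotient.sound (QuotientGroup.leftRel_apply.mpr ((hrel _ _).mp h))
    · rintro ⟨φ, x, hx⟩
      exact ⟨QuotientGroup.mk x⁻¹, Subtype.ext (Subtype.ext (by simpa [f] using hx))⟩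
  have hperm : ∀ j : ℕ, ((perm ^ j : Equiv.Perm O) : O → O) = σO^[j] := fun j => by
    rw [Equiv.Perm.coe_pow]; rfl
  have hpg : IsPGroup p (Subgroup.zpowers perm) := by
    have hpe : perm ^ (p ^ e) = 1 :=
      Equiv.ext fun φ => (congrFun (hperm _) φ).trans (hper φ)
    obtain ⟨j, -, hj⟩ := (Nat.dvd_prime_pow hp).mp (orderOf_dvd_of_pow_eq_one hpe)
    exact IsPGroup.of_card (n := j) (by rw [Nat.card_zpowers, hj])
  obtain ⟨φ, hφ⟩ := hpg.nonempty_fixed_point_of_prime_not_dvd_card O hOcard
  have hfix : σO φ = φ := hφ ⟨perm, Subgroup.mem_zpowers perm⟩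
  intro n
  obtain ⟨x, hx⟩ := φ.2
  have hf : ∀ m : N, (φ.1 : N → ℂ) (m ^ k) = (φ.1 : N → ℂ) m := fun m =>
    congrFun (congrArg (fun z : O => (z.1 : N → ℂ)) hfix) m
  have hθφ : ∀ m : N, (θ : N → ℂ) m = H13.twist N x⁻¹ (φ.1 : N → ℂ) m := by
    intro m
    rw [← hx, H13.twist_twist, mul_inv_cancel, H13.twist_one]
  rw [hθφ, hθφ]
  have hc : ∀ m : N, H13.twist N x⁻¹ (φ.1 : N → ℂ) m =
      (φ.1 : N → ℂ) ((MulAut.conjNormal x⁻¹ : MulAut N) m) := fun m => by
    rw [H13.twist_apply]; congr 1
  rw [hc, hc, map_pow, hf]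

end Cfsg.Agent.S4518
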