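import Cfsg.Statements.S4520
import Cfsg.Agent.H25.Galois
import Cfsg.Agent.H22.BlockClasses
import Cfsg.Agent.H21.CoverAll
import Cfsg.Agent.H24.Quot

set_option autoImplicit false
set_option linter.style.haveILetI false
open Cfsg

namespace Cfsg.Agent.S4520

universe u

theorem centralChar_comp_pow {G : Type u} [Group G] [Finite G] (φ : G → ℂ) {k : ℕ}
    (hk : Nat.Coprime k (Nat.card G)) (g : G) :
    centralChar (fun x => φ (x ^ k)) g = centralChar φ (g ^ k) := by
  obtain ⟨m, hm⟩ := exists_pow_eq_self_of_coprime (x := g)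
    (Nat.Coprime.coprime_dvd_right (orderOf_dvd_natCard g) hk)
  have hc : Subgroup.centralizer ({g} : Set G) = Subgroup.centralizer ({g ^ k} : Set G) := by
    ext y
    simp only [Subgroup.mem_centralizer_singleton_iff]
    constructor
    · intro h
      exact ((show Commute y g from h).pow_right k).eq
    · intro h
      have := ((show Commute y (g ^ k) from h).pow_right m).eq
      rwa [hm] at this
  unfold centralChar
  simp only [one_pow, hc]

/-- Let N be a normal subgroup of odd index in the finite group G, M a maximal ideal of the algebraic integers containing 2, and k coprime to the order of G with k ^ (2 ^ e) ≡ 1 modulo the order of G for some e and g ^ k = g⁻¹ for every element g of odd order. Let θ be an irreducible character of N and χ an irreducible character of G over θ, both unchanged by composing with g ↦ g ^ k. Then χ lies in the principal 2-block of G if and only if θ lies in the principal 2-block of N. -/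
theorem result {G : Type*} [Group G] [Fintype G] (M : Ideal Cfsg.AlgInt) (hM : Cfsg.IsPModular 2 M) (N : Subgroup G) [N.Normal] [Fintype N] (hidx : Odd N.index) (k e : ℕ) (hk : Nat.Coprime k (Nat.card G)) (hke : k ^ (2 ^ e) ≡ 1 [MOD Nat.card G]) (hk₂ : ∀ g : G, Odd (orderOf g) → g ^ k = g⁻¹) (θ : Cfsg.IrrCharacter N) (hθ : ∀ n : N, (θ : N → ℂ) (n ^ k) = (θ : N → ℂ) n) (χ : Cfsg.IrrCharacter G) (hχ : ∀ g : G, (χ : G → ℂ) (g ^ k) = (χ : G → ℂ) g) (hover : Cfsg.classInner (fun n : N => (χ : G → ℂ) n) (θ : N → ℂ) ≠ 0) : χ ∈ Cfsg.principalBlock M G ↔ θ ∈ Cfsg.principalBlock M N := by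
  classical
  haveI := Fact.mk Nat.prime_two
  haveI := H20.isPrime_of_modular hM
  have hb0 : IsPBlock M (principalBlock M N) := H20.isPBlock_principalBlock
  have h1N : H12.oneIrr N ∈ principalBlock M N := by
    rw [H20.principalBlock_eq]; exact H20.mem_blockOf_self (H12.oneIrr N)
  have h1G : H12.oneIrr G ∈ principalBlock M G := by
    rw [H20.principalBlock_eq]; exact H20.mem_blockOf_self (H12.oneIrr G)
  have hBG : IsPBlock M (principalBlock M G) := H20.isPBlock_principalBlock
  constructor
  · intro h
    have hres : classInner (fun n : N => (H12.oneIrr G : G → ℂ) n) (H12.oneIrr N : N → ℂ) ≠ 0 := by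
      have : (fun n : N => (H12.oneIrr G : G → ℂ) n) = (H12.oneIrr N : N → ℂ) := by
        funext n; rw [H12.oneIrr_apply, H12.oneIrr_apply]
      rw [this, H12.classInner_irr_self]
      exact one_ne_zero
    obtain ⟨g, hg⟩ := H21.covered_conj N hBG hb0 (H12.oneIrr G)
      h1G (H12.oneIrr N) h1N hres χ h θ hover
    have h2 := H21.sameBlock_conjChar N g⁻¹ ((H20.mem_block_iff hb0 h1N _).1 hg)
    rw [H21.conjChar_inv_cancel] at h2
    have h3 : H21.conjChar N g⁻¹ (H12.oneIrr N) = H12.oneIrr N :=
      Subtype.ext (funext fun n => by rw [H21.conjChar_apply, H12.oneIrr_apply, H12.oneIrr_apply])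
    rw [h3] at h2
    exact (H20.mem_block_iff hb0 h1N θ).2 h2
  · intro h
    have hB : IsPBlock M (blockOf M (χ : G → ℂ)) := H20.isPBlock_blockOf χ
    obtain ⟨χ₁, hχ₁, hc₁⟩ := H21.cover_all N hB hb0 (H20.mem_blockOf_self χ) h hover h1N
    have hker : N ≤ H24.kerChar χ₁ := by
      by_contra hle
      apply hc₁
      rw [H12.classInner_def]
      have hz := H24.sum_normal_eq_zero χ₁ N hle
      simp only [H12.oneIrr_apply, map_one, mul_one]
      rw [hz, mul_zero]
    obtain ⟨ψ, hψ⟩ := H24.exists_deflate N χ₁ hker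
    have hdeg : ¬ 2 ∣ charDegree (χ₁ : G → ℂ) := by
      rw [← hψ, H24.charDegree_inflate]
      intro h2
      have h3 : H12.degree (ψ : G ⧸ N → ℂ) ∣ Nat.card (G ⧸ N) := H12.irr_degree_dvd_card ψ
      rw [← Subgroup.index_eq_card] at h3
      exact (Nat.not_even_iff_odd.2 hidx) (even_iff_two_dvd.2 (h2.trans h3))
    have hfull : blockDefect 2 (blockOf M (χ : G → ℂ)) = (Nat.card G).factorization 2 := by
      unfold blockDefect
      have h0 : sInf ((fun ξ : IrrCharacter G => (charDegree (ξ : G → ℂ)).factorization 2) ''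
          blockOf M (χ : G → ℂ)) = 0 := by
        apply Nat.eq_zero_of_le_zero
        exact Nat.sInf_le ⟨χ₁, hχ₁, Nat.factorization_eq_zero_of_not_dvd hdeg⟩
      rw [h0, Nat.sub_zero]
    have hB0 : blockOf M (χ : G → ℂ) = principalBlock M G := by
      refine H22.eq_principalBlock_of_twist hM hB hfull (fun g => g ^ k)
        (powCoprime hk.symm).bijective (one_pow k) (fun g hg => hk₂ g ?_) ?_
      · exact Nat.odd_iff.2 (Nat.two_dvd_ne_zero.1 hg)
      · intro ξ hξ
        refine ⟨⟨fun g => (ξ : G → ℂ) (g ^ k), H25.isIrrCharacter_comp_pow ξ.2 hk⟩, ?_, fun g => rfl⟩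
        intro g
        have h4 := hξ (g ^ k)
        rw [← centralChar_comp_pow _ hk, ← centralChar_comp_pow _ hk] at h4
        have h5 : (fun x => (χ : G → ℂ) (x ^ k)) = (χ : G → ℂ) := funext hχ
        rw [h5] at h4
        exact h4
    rw [← hB0]
    exact H20.mem_blockOf_self χ

end Cfsg.Agent.S4520
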