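import Cfsg.Statements.S4521
import Cfsg.Agent.H21.CoverAll
import Cfsg.Agent.H22.Klein
import Cfsg.Agent.H23.Covering

set_option autoImplicit false
set_option linter.style.haveILetI false
set_option linter.unusedSectionVars false
open Cfsg H23
open scoped Pointwise

namespace Cfsg.Agent.S4521

section
universe u
variable {G : Type u} [Group G] [Fintype G] {p : ℕ} [hp : Fact p.Prime] {M : Ideal AlgInt}
  [M.IsPrime]

theorem one_mem {K : Type u} [Group K] [Fintype K] : H12.oneIrr K ∈ principalBlock M K := by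
  rw [H20.principalBlock_eq]; exact H20.mem_blockOf_self _

/-- a constituent on a normal subgroup of a member of the principal block is principal -/
theorem principal_of_constituent (hM : IsPModular p M) (N : Subgroup G) [N.Normal] [Fintype N]
    {χ : IrrCharacter G} (hχ : χ ∈ principalBlock M G) (θ : IrrCharacter N)
    (hθ : classInner (fun n : N => (χ : G → ℂ) n) (θ : N → ℂ) ≠ 0) :
    θ ∈ principalBlock M N := by
  haveI : Fact p.Prime := ⟨hM.1⟩
  have h1 : classInner (fun n : N => (H12.oneIrr G : G → ℂ) n) (H12.oneIrr N : N → ℂ) ≠ 0 := by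
    rw [show (fun n : N => (H12.oneIrr G : G → ℂ) n) = (H12.oneIrr N : N → ℂ) from rfl,
      H12.classInner_irr_self]
    exact one_ne_zero
  obtain ⟨g, hg⟩ := H21.covered_conj N H20.isPBlock_principalBlock H20.isPBlock_principalBlock
    (H12.oneIrr G) one_mem (H12.oneIrr N) one_mem h1 χ hχ θ hθ
  refine (H22.Klein.mem_principalBlock_irrCongr (MulAut.conjNormal g : N ≃* N) θ).1 ?_
  have heq : H12.irrCongr (MulAut.conjNormal g : N ≃* N) θ = H21.conjChar N g θ :=
    Subtype.ext (funext fun n => by rw [H12.irrCongr_apply]; rfl)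
  rw [heq]
  exact hg

theorem normal_of_commute {U V : Subgroup G} (hc : ∀ u ∈ U, ∀ v ∈ V, u * v = v * u)
    (hgen : U ⊔ V = ⊤) : U.Normal :=
  Subgroup.normalizer_eq_top_iff.1 (top_le_iff.1 (hgen ▸ sup_le Subgroup.le_normalizer
    ((show V ≤ Subgroup.centralizer (U : Set G) from fun v hv u hu => hc u hu v hv).trans
      (Subgroup.centralizer_le_normalizer (U : Set G)))))

omit [M.IsPrime] in
theorem supp_clSum [M.IsPrime] {N : Subgroup G} [hN : N.Normal] {u : G} (hu : u ∈ N) :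
    Supp N (H20.clSum (H20.k M) u) := by
  intro x hx
  rw [H20.coeff_clSum, if_neg]
  intro h
  obtain ⟨c, hc⟩ := isConj_iff.1 h
  exact hx (hc ▸ hN.conj_mem u hu c)

theorem lam_clSum_eq_one (hM : IsPModular p M) {N : Subgroup G} [N.Normal] [Fintype N]
    {u : G} (hu : u ∈ N) (χ : IrrCharacter G) (θ : IrrCharacter N)
    (hθ : classInner (fun n : N => (χ : G → ℂ) n) (θ : N → ℂ) ≠ 0)
    (hmem : θ ∈ principalBlock M N) :
    H20.lam M χ (H20.clSum (H20.k M) u) = H20.lam M (H12.oneIrr G) (H20.clSum (H20.k M) u) := by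
  haveI := H20.k_charP hM
  haveI := isAlgClosed_k (M := M) hM.2.1
  have hfix : IsFix ⊤ (H20.clSum (H20.k M) u) := fun x _ y => H20.isCl_clSum _ u y x
  have h1 : classInner (fun n : N => (H12.oneIrr G : G → ℂ) n) (H12.oneIrr N : N → ℂ) ≠ 0 := by
    rw [show (fun n : N => (H12.oneIrr G : G → ℂ) n) = (H12.oneIrr N : N → ℂ) from rfl,
      H12.classInner_irr_self]
    exact one_ne_zero
  rw [lam_eq_constituent (supp_clSum hu) hfix χ θ hθ,
    lam_eq_constituent (supp_clSum hu) hfix _ _ h1]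
  exact H20.lam_eq_of_sameBlock (H20.sameBlock_of_mem H20.isPBlock_principalBlock hmem
    one_mem) _

variable {U V : Subgroup G}

theorem clSum_mul (hc : ∀ u ∈ U, ∀ v ∈ V, u * v = v * u) (hgen : U ⊔ V = ⊤)
    (hZ : IsPGroup p ↥(U ⊓ V)) {u v : G} (hu : u ∈ U) (hv : v ∈ V) (hu' : ¬ p ∣ orderOf u)
    (hv' : ¬ p ∣ orderOf v) :
    H20.clSum (H20.k M) u * H20.clSum (H20.k M) v = H20.clSum (H20.k M) (u * v) := by
  classical
  haveI hUn := normal_of_commute hc hgen
  haveI hVn : V.Normal := normal_of_commute (fun v hv u hu => (hc u hu v hv).symm) (sup_comm U V ▸ hgen)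
  have hsplit : ∀ c : G, ∃ a ∈ U, ∃ b ∈ V, c = a * b := fun c => by
    obtain ⟨a, ha, b, hb, h⟩ : c ∈ (U : Set G) * (V : Set G) := by
      rw [← Subgroup.normal_mul, hgen]; trivial
    exact ⟨a, ha, b, hb, h.symm⟩
  have hreg : ∀ {g x : G}, IsConj g x → ¬ p ∣ orderOf g → ¬ p ∣ orderOf x := fun {g x} h hg => by
    obtain ⟨d, rfl⟩ := isConj_iff.1 h
    rwa [H22.orderOf_conj_eq]
  ext w
  rw [H20.coeff_mul_group, H20.coeff_clSum]
  simp only [H20.coeff_clSum, ← ite_and, mul_ite, mul_one, mul_zero]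
  refine Eq.trans (b := (((Finset.univ.filter fun x : G =>
    IsConj v (x⁻¹ * w) ∧ IsConj u x).card : ℕ) : H20.k M)) ?_ ?_
  · rw [Finset.natCast_card_filter]
    exact Finset.sum_congr rfl fun x _ => by congr
  split_ifs with hw
  · obtain ⟨d, rfl⟩ := isConj_iff.1 hw
    suffices h : (Finset.univ.filter fun x : G => IsConj v (x⁻¹ * (d * (u * v) * d⁻¹)) ∧ IsConj u x)
        = {d * u * d⁻¹} by rw [h, Finset.card_singleton, Nat.cast_one]
    refine Finset.eq_singleton_iff_unique_mem.2 ⟨Finset.mem_filter.2 ⟨Finset.mem_univ _,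
      isConj_iff.2 ⟨d, by group⟩, isConj_iff.2 ⟨d, rfl⟩⟩, fun x hx => ?_⟩
    obtain ⟨-, hxv, hxu⟩ := Finset.mem_filter.1 hx
    have hxU : x ∈ U := by
      obtain ⟨e, rfl⟩ := isConj_iff.1 hxu; exact hUn.conj_mem u hu e
    have hyV : x⁻¹ * (d * (u * v) * d⁻¹) ∈ V := by
      obtain ⟨e, he⟩ := isConj_iff.1 hxv; rw [← he]; exact hVn.conj_mem v hv e
    have hduU := hUn.conj_mem u hu d
    set z := x⁻¹ * (d * u * d⁻¹) with hz
    have hzU : z ∈ U := U.mul_mem (U.inv_mem hxU) hduU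
    have hzV : z ∈ V := by
      have h := V.mul_mem hyV (V.inv_mem (hVn.conj_mem v hv d))
      rwa [show x⁻¹ * (d * (u * v) * d⁻¹) * (d * v * d⁻¹)⁻¹ = z by rw [hz]; group] at h
    have hdu : d * u * d⁻¹ = x * z := by rw [hz]; group
    obtain ⟨j, hj⟩ := IsPGroup.iff_orderOf.1 hZ ⟨z, (⟨hzU, hzV⟩ : z ∈ U ⊓ V)⟩
    rw [← Subgroup.orderOf_coe] at hj
    have hcz : Commute z x := (hc x hxU z hzV).symm
    have h1 := (H20.isPPart_unique' (p := p) (g := d * u * d⁻¹) (x := z) (y := x)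
      (by rw [hdu, hcz.eq]) hcz ⟨j, hj⟩ (hreg hxu hu')).1
    rw [H20.pPart_eq_one_iff.2 (by rwa [H22.orderOf_conj_eq])] at h1
    rw [hdu, h1, mul_one]
  · rw [Finset.filter_eq_empty_iff.2 fun x _ h => hw ?_, Finset.card_empty, Nat.cast_zero]
    obtain ⟨hxv, hxu⟩ := h
    obtain ⟨c, hc'⟩ := isConj_iff.1 hxu
    obtain ⟨c', hc''⟩ := isConj_iff.1 hxv
    obtain ⟨a, ha, b, hb, rfl⟩ := hsplit c
    obtain ⟨a', ha', b', hb', rfl⟩ := hsplit c'
    have e1 : a * u * a⁻¹ = x := by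
      rw [← hc']
      have hb1 : b * u = u * b := (hc u hu b hb).symm
      calc a * u * a⁻¹ = a * (u * b) * b⁻¹ * a⁻¹ := by group
        _ = a * (b * u) * b⁻¹ * a⁻¹ := by rw [hb1]
        _ = _ := by group
    have e2 : b' * v * b'⁻¹ = x⁻¹ * w := by
      rw [← hc'']
      have ha1 : a' * (b' * v * b'⁻¹) = (b' * v * b'⁻¹) * a' :=
        hc a' ha' _ (hVn.conj_mem v hv b')
      calc b' * v * b'⁻¹ = (b' * v * b'⁻¹ * a') * a'⁻¹ := by group
        _ = (a' * (b' * v * b'⁻¹)) * a'⁻¹ := by rw [ha1]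
        _ = _ := by group
    refine isConj_iff.2 ⟨a * b', ?_⟩
    have hu1 : b' * u = u * b' := (hc u hu b' hb').symm
    have hva : a⁻¹ * (b' * v * b'⁻¹) = (b' * v * b'⁻¹) * a⁻¹ :=
      hc _ (U.inv_mem ha) _ (hVn.conj_mem v hv b')
    calc a * b' * (u * v) * (a * b')⁻¹ = a * (b' * u) * v * b'⁻¹ * a⁻¹ := by group
      _ = a * (u * b') * v * b'⁻¹ * a⁻¹ := by rw [hu1]
      _ = a * u * ((b' * v * b'⁻¹) * a⁻¹) := by group
      _ = a * u * (a⁻¹ * (b' * v * b'⁻¹)) := by rw [hva]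
      _ = a * u * a⁻¹ * (b' * v * b'⁻¹) := by group
      _ = x * (x⁻¹ * w) := by rw [e1, e2]
      _ = w := by group

theorem split_regular (hc : ∀ u ∈ U, ∀ v ∈ V, u * v = v * u) (hgen : U ⊔ V = ⊤) {g : G}
    (hg : ¬ p ∣ orderOf g) : ∃ u ∈ U, ∃ v ∈ V, ¬ p ∣ orderOf u ∧ ¬ p ∣ orderOf v ∧ u * v = g := by
  haveI := normal_of_commute hc hgen
  obtain ⟨a, ha, b, hb, rfl⟩ : ∃ a ∈ U, ∃ b ∈ V, a * b = g := by
    have h : g ∈ (U : Set G) * (V : Set G) := by rw [← Subgroup.normal_mul, hgen]; trivial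
    exact h
  have hq : ∀ {W : Subgroup G} {x : G}, x ∈ W →
      H20.pPart p x ∈ W ∧ H20.qPart p x ∈ W := fun {W x} hx => by
    have h1 : H20.pPart p x ∈ W := by
      rw [show x = ((⟨x, hx⟩ : W) : G) from rfl, H20.pPart_coe]; exact SetLike.coe_mem _
    refine ⟨h1, ?_⟩
    have := W.mul_mem (W.inv_mem h1) hx
    rwa [show (H20.pPart p x)⁻¹ * x = H20.qPart p x from
      inv_mul_eq_of_eq_mul (H20.pPart_mul_qPart x).symm] at this
  refine ⟨H20.qPart p a, (hq ha).2, H20.qPart p b, (hq hb).2, H20.not_dvd_orderOf_qPart a,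
    H20.not_dvd_orderOf_qPart b, ?_⟩
  have hcab : ∀ {x y : G}, x ∈ U → y ∈ V → Commute x y := fun hx hy => hc _ hx _ hy
  obtain ⟨i, hi⟩ := H20.exists_orderOf_pPart (p := p) a
  obtain ⟨j, hj⟩ := H20.exists_orderOf_pPart (p := p) b
  have hP : ∃ k, orderOf (H20.pPart p a * H20.pPart p b) = p ^ k := by
    obtain ⟨k, -, hk⟩ := (Nat.dvd_prime_pow hp.out).1 (((hcab (hq ha).1 (hq hb).1).orderOf_mul_dvd_mul_orderOf).trans
      (show _ ∣ p ^ (i + j) by rw [hi, hj, pow_add]))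
    exact ⟨k, hk⟩
  have hQ : ¬ p ∣ orderOf (H20.qPart p a * H20.qPart p b) := fun h => by
    rcases hp.out.dvd_mul.1 (h.trans (hcab (hq ha).2 (hq hb).2).orderOf_mul_dvd_mul_orderOf) with h | h
    · exact H20.not_dvd_orderOf_qPart a h
    · exact H20.not_dvd_orderOf_qPart b h
  have hprod : (H20.pPart p a * H20.pPart p b) * (H20.qPart p a * H20.qPart p b) = a * b := by
    rw [mul_assoc, ← mul_assoc (H20.pPart p b), ← (hcab (hq ha).2 (hq hb).1).eq, mul_assoc,
      H20.pPart_mul_qPart, ← mul_assoc, H20.pPart_mul_qPart]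
  have hcomm : Commute (H20.pPart p a * H20.pPart p b) (H20.qPart p a * H20.qPart p b) :=
    (((H20.commute_pPart_qPart a).mul_right (hcab (hq ha).1 (hq hb).2))).mul_left
      ((hcab (hq ha).2 (hq hb).1).symm.mul_right (H20.commute_pPart_qPart b))
  have h1 := (H20.isPPart_unique' (p := p) hprod hcomm hP hQ).1
  rw [H20.pPart_eq_one_iff.2 hg] at h1
  rw [← hprod, h1, one_mul]

end

/-- Let the finite group G be generated by subgroups U₁ and U₂ that commute elementwise and whose intersection is a p-group, and let M be a maximal ideal of the algebraic integers containing the prime p. If the irreducible character χ of G has the irreducible constituents ψ₁ on U₁ and ψ₂ on U₂, then χ lies in the principal block of G if and only if ψ₁ and ψ₂ lie in the principal blocks of U₁ and U₂. -/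
theorem result {G : Type*} [Group G] [Fintype G] (p : ℕ) [Fact p.Prime] (M : Ideal Cfsg.AlgInt) (hM : Cfsg.IsPModular p M) (U₁ U₂ : Subgroup G) [Fintype U₁] [Fintype U₂] (hcomm : ∀ u ∈ U₁, ∀ v ∈ U₂, u * v = v * u) (hgen : U₁ ⊔ U₂ = ⊤) (hZ : IsPGroup p ↥(U₁ ⊓ U₂)) (χ : Cfsg.IrrCharacter G) (ψ₁ : Cfsg.IrrCharacter U₁) (ψ₂ : Cfsg.IrrCharacter U₂) (h₁ : Cfsg.classInner (fun u : U₁ => (χ : G → ℂ) u) (ψ₁ : U₁ → ℂ) ≠ 0) (h₂ : Cfsg.classInner (fun u : U₂ => (χ : G → ℂ) u) (ψ₂ : U₂ → ℂ) ≠ 0) : χ ∈ Cfsg.principalBlock M G ↔ (ψ₁ ∈ Cfsg.principalBlock M U₁ ∧ ψ₂ ∈ Cfsg.principalBlock M U₂) := by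
  classical
  haveI := H20.isPrime_of_modular hM
  haveI hU := normal_of_commute hcomm hgen
  haveI hV : U₂.Normal :=
    normal_of_commute (fun v hv u hu => (hcomm u hu v hv).symm) (sup_comm U₁ U₂ ▸ hgen)
  refine ⟨fun h => ⟨principal_of_constituent hM U₁ h ψ₁ h₁, principal_of_constituent hM U₂ h ψ₂ h₂⟩,
    fun ⟨m1, m2⟩ => ?_⟩
  haveI := Fintype.ofFinite (ConjClasses G)
  have hP := H20.isPBlock_principalBlock (M := M) (G := G)
  have h1 : H12.oneIrr G ∈ principalBlock M G := one_mem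
  have key : H20.lam M χ (H20.eRed M (principalBlock M G)) =
      H20.lam M (H12.oneIrr G) (H20.eRed M (principalBlock M G)) := by
    rw [H20.lam_eq_sum, H20.lam_eq_sum]
    refine Finset.sum_congr rfl fun C _ => ?_
    rcases eq_or_ne ((H20.eRed M (principalBlock M G)).coeff C.out) 0 with h0 | h0
    · rw [h0, zero_mul, zero_mul]
    congr 1
    obtain ⟨u, hu, v, hv, hu', hv', huv⟩ :=
      split_regular hcomm hgen (H20.regular_of_coeff_ne_zero hM hP h0)
    rw [← H20.lam_clSum, ← H20.lam_clSum, ← huv, ← clSum_mul hcomm hgen hZ hu hv hu' hv',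
      H20.lam_mul _ (H20.isCl_clSum _ u) (H20.isCl_clSum _ v),
      H20.lam_mul _ (H20.isCl_clSum _ u) (H20.isCl_clSum _ v),
      lam_clSum_eq_one hM hu χ ψ₁ h₁ m1, lam_clSum_eq_one hM hv χ ψ₂ h₂ m2]
  rw [H20.lam_eRed hP, H20.lam_eRed hP, if_pos h1] at key
  by_contra hne
  rw [if_neg hne] at key
  exact zero_ne_one key

end Cfsg.Agent.S4521
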