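import Cfsg.Statements.S4523
import Cfsg.Agent.H32.RealOddParity
import Cfsg.Agent.H20.Orth
import Cfsg.Agent.H25.Galois
import Cfsg.Agent.H22.DeltaInt
import Cfsg.Agent.H3.OddOrderInstance

set_option autoImplicit false
open Cfsg
open scoped ComplexConjugate

namespace Cfsg.Agent.S4523

/-- Let S be a non-abelian finite simple group with commutative Sylow 2-subgroups and M a maximal ideal of the algebraic integers containing 2. Let k be a natural number with g ^ k = g for every 2-element g and g ^ k = g⁻¹ for every element g of odd order. Then S has an irreducible character χ₁ of even degree with χ₁ (g ^ k) = χ₁ g for all g, and its principal 2-block contains a character χ₂ other than the principal character with χ₂ (g ^ k) = χ₂ g for all g. -/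
theorem result {S : Type*} [Group S] [Finite S] [IsSimpleGroup S] (hna : ¬ IsMulCommutative S) (P : Sylow 2 S) (hP : IsMulCommutative P) (M : Ideal Cfsg.AlgInt) (hM : Cfsg.IsPModular 2 M) (k : ℕ) (hk₁ : ∀ g : S, (∃ j : ℕ, orderOf g = 2 ^ j) → g ^ k = g) (hk₂ : ∀ g : S, Odd (orderOf g) → g ^ k = g⁻¹) : (∃ χ₁ : Cfsg.IrrCharacter S, Even (Cfsg.charDegree (χ₁ : S → ℂ)) ∧ ∀ g : S, (χ₁ : S → ℂ) (g ^ k) = (χ₁ : S → ℂ) g) ∧ ∃ χ₂ ∈ Cfsg.principalBlock M S, (χ₂ : S → ℂ) ≠ (fun _ => 1) ∧ ∀ g : S, (χ₂ : S → ℂ) (g ^ k) = (χ₂ : S → ℂ) g := by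
  classical
  haveI : Fact (Nat.Prime 2) := ⟨Nat.prime_two⟩
  haveI : M.IsPrime := hM.2.1.isPrime
  haveI := Fintype.ofFinite S
  have h2 : (2 : Cfsg.AlgInt) ∈ M := by simpa using hM.2.2
  -- the twist
  have hsq : ∀ g : S, g ^ (k * k) = g := by
    intro g
    obtain ⟨a, m, hm, hn⟩ := Nat.exists_eq_two_pow_mul_odd (orderOf_pos g).ne'
    have h1 : (g ^ m) ^ (2 ^ a) = 1 := by rw [← pow_mul, mul_comm, ← hn, pow_orderOf_eq_one]
    have h1' : (g ^ (2 ^ a)) ^ m = 1 := by rw [← pow_mul, ← hn, pow_orderOf_eq_one]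
    obtain ⟨i, -, hi⟩ := (Nat.dvd_prime_pow Nat.prime_two).1 (orderOf_dvd_of_pow_eq_one h1)
    have hA : (g ^ m) ^ (k * k) = g ^ m := by
      rw [pow_mul, hk₁ _ ⟨i, hi⟩, hk₁ _ ⟨i, hi⟩]
    have hB : (g ^ (2 ^ a)) ^ (k * k) = g ^ (2 ^ a) := by
      have ho : Odd (orderOf (g ^ (2 ^ a))) := hm.of_dvd_nat (orderOf_dvd_of_pow_eq_one h1')
      rw [pow_mul, hk₂ _ ho, inv_pow, hk₂ _ ho, inv_inv]
    have hc : Commute (g ^ (k * k)) g⁻¹ := ((Commute.refl g).pow_left _).inv_right
    have e1 : (g ^ (k * k) * g⁻¹) ^ m = 1 := by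
      rw [hc.mul_pow, ← pow_mul, mul_comm (k * k), pow_mul, hA, inv_pow, mul_inv_cancel]
    have e2 : (g ^ (k * k) * g⁻¹) ^ (2 ^ a) = 1 := by
      rw [hc.mul_pow, ← pow_mul, mul_comm (k * k), pow_mul, hB, inv_pow, mul_inv_cancel]
    have hcop : Nat.Coprime m (2 ^ a) := Nat.Coprime.pow_right a (Nat.coprime_two_right.2 hm)
    exact mul_inv_eq_one.1 (orderOf_eq_one_iff.1 (Nat.eq_one_of_dvd_coprimes hcop
      (orderOf_dvd_of_pow_eq_one e1) (orderOf_dvd_of_pow_eq_one e2)))
  have hcop : k.Coprime (Nat.card S) := by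
    refine Nat.coprime_of_dvd fun p hp hpk hpS => ?_
    haveI : Fact p.Prime := ⟨hp⟩
    obtain ⟨g, hg⟩ := exists_prime_orderOf_dvd_card' p hpS
    have h1 : g ^ k = 1 := orderOf_dvd_iff_pow_eq_one.1 (hg ▸ hpk)
    have := hsq g
    rw [pow_mul, h1, one_pow] at this
    rw [← this, orderOf_one] at hg
    exact hp.ne_one hg.symm
  let T : Cfsg.IrrCharacter S → Cfsg.IrrCharacter S := fun χ =>
    ⟨fun g => (χ : S → ℂ) (g ^ k), H25.isIrrCharacter_comp_pow χ.2 hcop⟩
  have hTT : ∀ χ, T (T χ) = χ := fun χ => Subtype.ext (funext fun g => by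
    show (χ : S → ℂ) ((g ^ k) ^ k) = _
    rw [← pow_mul, hsq])
  have hT1 : ∀ χ, (T χ : S → ℂ) 1 = (χ : S → ℂ) 1 := fun χ => by
    show (χ : S → ℂ) (1 ^ k) = _
    rw [one_pow]
  -- the Sylow subgroup is not normal
  have hPne : (P : Subgroup S) ≠ ⊥ := by
    intro h
    have hodd : Odd (Nat.card S) := by
      rw [← Nat.not_even_iff_odd, even_iff_two_dvd]
      intro hdvd
      refine P.not_dvd_index ?_
      rw [h, Subgroup.index_bot]
      exact hdvd
    haveI := H16.FT.oddOrder hodd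
    exact hna ⟨⟨fun a b => IsSimpleGroup.comm_iff_isSolvable.2 ‹_› a b⟩⟩
  have hPn : ¬ (P : Subgroup S).Normal := by
    intro hn
    rcases hn.eq_bot_or_eq_top with h | h
    · exact hPne h
    · exact hna ⟨⟨fun a b => congrArg Subtype.val (hP.is_comm.comm
        (⟨a, h ▸ Subgroup.mem_top a⟩ : (P : Subgroup S)) ⟨b, h ▸ Subgroup.mem_top b⟩)⟩⟩
  refine ⟨?_, ?_⟩
  · obtain ⟨χ, he, hfix⟩ := H32.RealOdd.exists_even_fixed M h2 P hP hPn T hTT hT1
      (fun χ g ho hreal => by
        show (χ : S → ℂ) (g ^ k) = _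
        rw [hk₂ g ho]
        exact H12.IsClassFunction.of_isConj (H12.irr_isClassFunction χ) hreal.symm)
      (fun χ p => by
        obtain ⟨i, hi⟩ := P.isPGroup' p
        obtain ⟨j, -, hj⟩ := (Nat.dvd_prime_pow Nat.prime_two).1
          (orderOf_dvd_of_pow_eq_one (x := (p : S)) (n := 2 ^ i) (by simpa using congrArg Subtype.val hi))
        show (χ : S → ℂ) ((p : S) ^ k) = _
        rw [hk₁ _ ⟨j, hj⟩])
    exact ⟨χ, he, fun g => congrFun (congrArg Subtype.val hfix) g⟩
  · by_contra hcon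
    push Not at hcon
    have hTB : ∀ χ ∈ Cfsg.principalBlock M S, T χ ∈ Cfsg.principalBlock M S := by
      intro χ hχ g
      have h := hχ (g ^ k)
      have hidx : Subgroup.centralizer ({g ^ k} : Set S) = Subgroup.centralizer ({g} : Set S) := by
        refine le_antisymm (fun x hx => ?_) fun x hx => ?_
        · rw [Subgroup.mem_centralizer_singleton_iff] at hx ⊢
          have := ((show Commute x (g ^ k) from hx).pow_right k).eq
          rwa [← pow_mul, hsq] at this
        · rw [Subgroup.mem_centralizer_singleton_iff] at hx ⊢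
          exact ((show Commute x g from hx).pow_right k).eq
      simp only [Cfsg.centralChar, hidx, one_pow, T] at h ⊢
      exact h
    obtain ⟨z, hz⟩ : ∃ z : S, orderOf z = 2 := by
      refine exists_prime_orderOf_dvd_card' 2 ?_
      by_contra h
      exact hPne (Subgroup.card_eq_one.1 (by
        rw [P.card_eq_multiplicity, Nat.factorization_eq_zero_of_not_dvd h, pow_zero]))
    have hw := H20.weak_orthogonality hM (H20.isPBlock_principalBlock (M := M) (G := S))
      (x := 1) (y := z) (by simp) (by rw [hz])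
    have hzk : ∀ χ : Cfsg.IrrCharacter S, (T χ : S → ℂ) z = (χ : S → ℂ) z := fun χ => by
      show (χ : S → ℂ) (z ^ k) = _
      rw [hk₁ z ⟨1, by rw [hz]; rfl⟩]
    let a : Cfsg.IrrCharacter S → Cfsg.AlgInt := fun χ =>
      ⟨(χ : S → ℂ) 1, H20.isIntegral_irr χ 1⟩ * ⟨conj ((χ : S → ℂ) z), H20.isIntegral_conj_irr χ z⟩
    let s := Finset.univ.filter (fun χ : Cfsg.IrrCharacter S => χ ∈ Cfsg.principalBlock M S)
    have hsum : ∑ χ ∈ s, a χ = 0 := by
      apply Subtype.ext
      rw [H20.finsum_mem_eq_sum_ite, ← Finset.sum_filter] at hw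
      simp only [AddSubmonoidClass.coe_finsetSum, a, MulMemClass.coe_mul, ZeroMemClass.coe_zero]
      exact hw
    let red := Ideal.Quotient.mk M
    have hone : H12.oneIrr S ∈ s := Finset.mem_filter.2 ⟨Finset.mem_univ _, by
      intro g
      rw [show ((H12.oneIrr S : Cfsg.IrrCharacter S) : S → ℂ) = fun _ => 1 from
        funext (H12.oneIrr_apply S), sub_self]
      exact ⟨0, 1, M.zero_mem, M.ne_top_iff_one.1 hM.2.1.ne_top, by simp⟩⟩
    have h0 : ∑ χ ∈ s.erase (H12.oneIrr S), red (a χ) = 0 := by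
      refine Finset.sum_involution (fun χ _ => T χ) (fun χ _ => ?_) (fun χ hχ _ hfix => ?_)
        (fun χ hχ => ?_) (fun χ _ => hTT χ)
      · have he : a (T χ) = a χ := Subtype.ext (by
          simp only [a, MulMemClass.coe_mul, hT1, hzk])
        rw [he, ← two_mul, ← map_ofNat red 2, Ideal.Quotient.eq_zero_iff_mem.2 h2, zero_mul]
      · obtain ⟨hne, hmem⟩ := Finset.mem_erase.1 hχ
        obtain ⟨g, hg⟩ := hcon χ (Finset.mem_filter.1 hmem).2 (fun e => hne (Subtype.ext
          (e.trans (funext fun g => (H12.oneIrr_apply S g).symm))))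
        exact hg (congrFun (congrArg Subtype.val hfix) g)
      · obtain ⟨hne, hmem⟩ := Finset.mem_erase.1 hχ
        refine Finset.mem_erase.2 ⟨fun e => hne ?_,
          Finset.mem_filter.2 ⟨Finset.mem_univ _, hTB χ (Finset.mem_filter.1 hmem).2⟩⟩
        rw [← hTT χ, e]
        exact Subtype.ext (funext fun g => by
          show (H12.oneIrr S : S → ℂ) (g ^ k) = _
          rw [H12.oneIrr_apply, H12.oneIrr_apply])
    have h := congrArg red hsum
    rw [map_zero, map_sum, ← Finset.add_sum_erase _ _ hone, h0, add_zero,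
      show a (H12.oneIrr S) = 1 from Subtype.ext (by simp [a, H12.oneIrr_apply]), map_one] at h
    exact one_ne_zero h

end Cfsg.Agent.S4523
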