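import Cfsg.Statements.S4531
import Cfsg.Agent.H22.SD.RankThree
import Cfsg.Agent.H22.SD.Setup
import Cfsg.Agent.H22.TameSolvable
import Cfsg.Agent.H22.DihSetup
import Cfsg.Agent.H23.Bridge

set_option autoImplicit false
open Cfsg

namespace Cfsg.Agent.S4531

/-- Let the finite group G have a 2-block B (relative to a maximal ideal M of the algebraic integers containing 2) of 2-regular rank three (three irreducible Brauer characters) whose defect group D is dihedral of order 2 ^ n with n ≥ 3 or semidihedral. Then the centre of G has odd order and G is not solvable. -/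
theorem result {G : Type*} [Group G] [Finite G] (M : Ideal Cfsg.AlgInt) (hM : Cfsg.IsPModular 2 M) (B : Set (Cfsg.IrrCharacter G)) (hB : Cfsg.IsPBlock M B) (D : Subgroup G) (hD : Cfsg.IsDefectGroup 2 M B D) (hD' : (∃ n : ℕ, 3 ≤ n ∧ Nonempty (D ≃* DihedralGroup (2 ^ (n - 1)))) ∨ Cfsg.IsQuasiDihedral D) (hl : Cfsg.blockRank 2 B = 3) : Odd (Nat.card (Subgroup.center G)) ∧ ¬ Group.IsSolvable G := by
  classical
  haveI := Fintype.ofFinite G
  haveI : Fact (Nat.Prime 2) := ⟨Nat.prime_two⟩
  haveI := H20.isPrime_of_modular hM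
  haveI := H20.k_charP (p := 2) hM
  haveI := H23.isAlgClosed_k (M := M) hM.2.1
  rcases hD' with ⟨n, hn, hdih⟩ | hsd
  · obtain ⟨f0, r, s, h⟩ := H22.DihBlock.exists_dih hM hB hD hn hdih
    exact H22.Tame.dih_rank_three h hD hl
  · obtain ⟨n, hcard⟩ : ∃ n, Nat.card D = 2 ^ n := ⟨_, H20.card_defectGroup hM hB hD⟩
    obtain ⟨-, f0, r, s, h⟩ := H22.SD.exists_semi hM hB hD hcard hsd
    exact h.rank_three hD hl

end Cfsg.Agent.S4531
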