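import Cfsg.Statements.S4540
import Cfsg.Agent.H19.MajorDyadic

set_option autoImplicit false
open Cfsg

namespace Cfsg.Agent.S4540

/-- Let B be a 2-block of the finite group G (relative to a maximal ideal M of the algebraic integers containing 2) of defect d with defect group D. Let z be an element of D commuting with every element of D, and let b be a block of the centralizer C of z with defect group D that induces B (a major subsection (z, b)). If b has 2-regular rank at most three, then 3·k(B) ≤ 3·k₀(B) + 2·Σ 2 ^ h(χ), where k(B) is the number of members of B, k₀(B) the number of members of height zero, and the sum runs over the members χ of B of positive height h(χ); this bound is at most 3·2 ^ d, so in particular B contains at most 2 ^ d irreducible characters. -/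
theorem result {G : Type*} [Group G] [Finite G] (M : Ideal Cfsg.AlgInt) (hM : Cfsg.IsPModular 2 M) (B : Set (Cfsg.IrrCharacter G)) (hB : Cfsg.IsPBlock M B) (D : Subgroup G) (hD : Cfsg.IsDefectGroup 2 M B D) (z : G) (hzD : z ∈ D) (hzc : ∀ d ∈ D, d * z = z * d) (b : Set (Cfsg.IrrCharacter ↥(Subgroup.centralizer ({z} : Set G)))) (hb : Cfsg.IsInducedBlock M (Subgroup.centralizer ({z} : Set G)) b B) (hbD : Cfsg.IsDefectGroup 2 M b (D.subgroupOf (Subgroup.centralizer ({z} : Set G)))) (hl : Cfsg.blockRank 2 b ≤ 3) : 3 * Nat.card B ≤ 3 * Nat.card {χ : Cfsg.IrrCharacter G // χ ∈ B ∧ Cfsg.blockHeight 2 B (χ : G → ℂ) = 0} + 2 * (∑ᶠ χ ∈ {χ : Cfsg.IrrCharacter G | χ ∈ B ∧ 1 ≤ Cfsg.blockHeight 2 B (χ : G → ℂ)}, 2 ^ Cfsg.blockHeight 2 B (χ : G → ℂ)) ∧ 3 * Nat.card {χ : Cfsg.IrrCharacter G // χ ∈ B ∧ Cfsg.blockHeight 2 B (χ : G → ℂ) = 0} + 2 * (∑ᶠ χ ∈ {χ : Cfsg.IrrCharacter G | χ ∈ B ∧ 1 ≤ Cfsg.blockHeight 2 B (χ : G → ℂ)}, 2 ^ Cfsg.blockHeight 2 B (χ : G → ℂ))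 ≤ 3 * 2 ^ Cfsg.blockDefect 2 B := by
  classical
  haveI := Fintype.ofFinite G
  haveI := Fintype.ofFinite ↥(Subgroup.centralizer ({z} : Set G))
  haveI : M.IsPrime := H20.isPrime_of_modular hM
  haveI : Fact (Nat.Prime 2) := ⟨Nat.prime_two⟩
  have hDp : IsPGroup 2 D := IsPGroup.of_card (H20.card_defectGroup hM hB hD)
  obtain ⟨k, hk⟩ := IsPGroup.iff_orderOf.1 hDp ⟨z, hzD⟩
  rw [Subgroup.orderOf_mk] at hk
  have hle : D ≤ Subgroup.centralizer ({z} : Set G) := fun d hd =>
    Subgroup.mem_centralizer_singleton_iff.2 (hzc d hd)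
  have h1 := H20.card_defectGroup hM hb.1 hbD
  rw [Nat.card_congr (Subgroup.subgroupOfEquivOfLe hle).toEquiv,
    H20.card_defectGroup hM hB hD] at h1
  have hd := (Nat.pow_right_injective le_rfl h1).symm
  have key := H19.MajorTwo.weighted_count_le hM ⟨k, hk⟩ _ rfl hb hd (Or.inl hl)
  rw [Finset.sum_ite, Finset.sum_const, smul_eq_mul, ← Finset.mul_sum] at key
  set T := (H22.blockFinset B).filter fun χ : Cfsg.IrrCharacter G =>
    Cfsg.blockHeight 2 B (χ : G → ℂ) = 0
  set U := (H22.blockFinset B).filter fun χ : Cfsg.IrrCharacter G =>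
    ¬ Cfsg.blockHeight 2 B (χ : G → ℂ) = 0
  have e0 : Nat.card {χ : Cfsg.IrrCharacter G //
      χ ∈ B ∧ Cfsg.blockHeight 2 B (χ : G → ℂ) = 0} = T.card := by
    rw [← Nat.card_eq_finsetCard]
    exact Nat.card_congr (Equiv.subtypeEquivRight fun χ => by simp [T, H22.mem_blockFinset])
  have e1 : (∑ᶠ χ ∈ {χ : Cfsg.IrrCharacter G | χ ∈ B ∧ 1 ≤ Cfsg.blockHeight 2 B (χ : G → ℂ)},
      2 ^ Cfsg.blockHeight 2 B (χ : G → ℂ)) = ∑ χ ∈ U, 2 ^ Cfsg.blockHeight 2 B (χ : G → ℂ) := by
    rw [← finsum_mem_coe_finset]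
    refine finsum_mem_congr (Set.ext fun χ => ?_) fun _ _ => rfl
    simp [U, H22.mem_blockFinset, Nat.one_le_iff_ne_zero]
  rw [e0, e1, H22.natCard_block]
  refine ⟨?_, ?_⟩
  · rw [← Finset.card_filter_add_card_filter_not (s := H22.blockFinset B)
      (fun χ : Cfsg.IrrCharacter G => Cfsg.blockHeight 2 B (χ : G → ℂ) = 0)]
    have : U.card * 2 ≤ ∑ χ ∈ U, 2 ^ Cfsg.blockHeight 2 B (χ : G → ℂ) := by
      rw [← smul_eq_mul, ← Finset.sum_const]
      refine Finset.sum_le_sum fun χ hχ => ?_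
      have h0 := (Finset.mem_filter.1 hχ).2
      exact (pow_one 2).symm.le.trans (Nat.pow_le_pow_right (by norm_num) (by omega))
    simp only [T, U] at this ⊢
    omega
  · simp only [T, U] at *
    omega

end Cfsg.Agent.S4540
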