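import Cfsg.Statements.S4550
import Cfsg.Agent.H22.BlockClasses
import Cfsg.Agent.H25.Galois
import Cfsg.Agent.H20.PPart

set_option autoImplicit false
open Cfsg

namespace Cfsg.Agent.S4550

/-- Let G be a finite group of even order and M a maximal ideal of the algebraic integers containing 2. Let k be a natural number with g ^ k = g ^ 3 for every 2-element g and g ^ k = g for every element g of odd order (such k exist); an irreducible character χ is unchanged by g ↦ g ^ k exactly when it is fixed by the field automorphism that cubes the 2-power roots of unity and fixes the roots of unity of odd order. Then the number of members χ of the principal 2-block of odd degree with χ (g ^ k) = χ g for all g is even. -/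
theorem result {G : Type*} [Group G] [Finite G] (M : Ideal Cfsg.AlgInt) (hM : Cfsg.IsPModular 2 M) (hev : Even (Nat.card G)) (k : ℕ) (hk₁ : ∀ g : G, (∃ j : ℕ, orderOf g = 2 ^ j) → g ^ k = g ^ 3) (hk₂ : ∀ g : G, Odd (orderOf g) → g ^ k = g) : Even (Nat.card {χ : Cfsg.IrrCharacter G // χ ∈ Cfsg.principalBlock M G ∧ Odd (Cfsg.charDegree (χ : G → ℂ)) ∧ ∀ g : G, (χ : G → ℂ) (g ^ k) = (χ : G → ℂ) g}) := by
  classical
  have := H20.isPrime_of_modular hM
  have := Fintype.ofFinite G
  have : Fact (Nat.Prime 2) := ⟨Nat.prime_two⟩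
  set a := (Nat.card G).factorization 2
  have hcop : Nat.Coprime k (Nat.card G) := by
    refine Nat.coprime_of_dvd fun q hq hqk hqG => ?_
    have : Fact q.Prime := ⟨hq⟩
    obtain ⟨g, hg⟩ := exists_prime_orderOf_dvd_card' (G := G) q hqG
    obtain ⟨l, rfl⟩ := hqk
    have h1 : g ^ (q * l) = 1 := by rw [pow_mul, ← hg, pow_orderOf_eq_one, one_pow]
    rcases hq.eq_two_or_odd' with rfl | hodd
    · have h2 := hk₁ g ⟨1, by simpa using hg⟩
      rw [h1] at h2
      have : orderOf g ∣ 3 := orderOf_dvd_of_pow_eq_one h2.symm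
      rw [hg] at this
      omega
    · have h2 := hk₂ g (hg ▸ hodd)
      rw [h1] at h2
      rw [← h2, orderOf_one] at hg
      exact hq.one_lt.ne hg
  -- iterating `k`
  have hiter : ∀ g : G, g ^ (k ^ 2 ^ a) = g := by
    intro g
    have hu : ∀ u : G, (∃ j : ℕ, orderOf u = 2 ^ j) → ∀ n : ℕ, u ^ (k ^ n) = u ^ (3 ^ n) := by
      intro u ⟨j, hj⟩ n
      induction n with
      | zero => simp
      | succ n ih =>
        rw [pow_succ, pow_succ, pow_mul, ih, hk₁ _ ?_, ← pow_mul]
        obtain ⟨i, -, hi⟩ := (Nat.dvd_prime_pow Nat.prime_two).1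
          (hj ▸ orderOf_pow_dvd (x := u) (3 ^ n))
        exact ⟨i, hi⟩
    have hv : ∀ v : G, Odd (orderOf v) → ∀ n : ℕ, v ^ (k ^ n) = v := by
      intro v hv n
      induction n with
      | zero => simp
      | succ n ih => rw [pow_succ, pow_mul, ih, hk₂ v hv]
    obtain ⟨j, hj⟩ := H20.exists_orderOf_pPart (p := 2) g
    conv_lhs => rw [← H20.pPart_mul_qPart (p := 2) g]
    rw [(H20.commute_pPart_qPart g).mul_pow, hu _ ⟨j, hj⟩,
      hv _ (Nat.odd_iff.2 (by have := H20.not_dvd_orderOf_qPart (p := 2) g; omega))]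
    conv_rhs => rw [← H20.pPart_mul_qPart (p := 2) g]
    congr 1
    rw [← pow_mod_orderOf, hj]
    have hja : j ≤ a := by
      refine (Nat.prime_two.pow_dvd_iff_le_factorization Nat.card_pos.ne').1 ?_
      rw [← hj]; exact orderOf_dvd_natCard _
    have h3 : 3 ^ 2 ^ a ≡ 1 [MOD 2 ^ j] := by
      have hd : (2 ^ j).totient ∣ 2 ^ a := by
        rcases Nat.eq_zero_or_pos j with rfl | hj0
        · simp
        · rw [Nat.totient_prime_pow Nat.prime_two hj0]
          simpa using pow_dvd_pow 2 (show j - 1 ≤ a by omega)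
      obtain ⟨c, hc⟩ := hd
      rw [hc, pow_mul]
      simpa using (Nat.ModEq.pow_totient
        (Nat.Coprime.pow_right j (by decide : Nat.Coprime 3 2))).pow c
    rw [h3]
    rcases Nat.eq_zero_or_pos j with rfl | hj0
    · rw [pow_zero, orderOf_eq_one_iff] at hj
      simp [hj]
    · rw [Nat.one_mod_eq_one.2 (by
        have : 2 ^ 1 ≤ 2 ^ j := Nat.pow_le_pow_right two_pos hj0
        omega), pow_one]
  -- the permutation
  set B := Cfsg.principalBlock M G
  let X := {χ : Cfsg.IrrCharacter G // χ ∈ B ∧ Odd (Cfsg.charDegree (χ : G → ℂ))}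
  have hcent : ∀ g : G, Subgroup.centralizer ({g ^ k} : Set G) =
      Subgroup.centralizer ({g} : Set G) := by
    intro g
    ext x
    simp only [Subgroup.mem_centralizer_singleton_iff]
    refine ⟨fun h => ?_, fun h => ((show Commute x g from h).pow_right k).eq⟩
    obtain ⟨m, hm⟩ := exists_pow_eq_self_of_coprime
      (Nat.Coprime.coprime_dvd_right (orderOf_dvd_natCard g) hcop)
    have := ((show Commute x (g ^ k) from h).pow_right m).eq
    rwa [hm] at this
  let T : X → X := fun χ => ⟨⟨fun g => (χ.1 : G → ℂ) (g ^ k),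
      H25.isIrrCharacter_comp_pow χ.1.2 hcop⟩, fun g => by
        have h := χ.2.1 (g ^ k)
        simp only [Cfsg.centralChar, hcent, one_pow] at h ⊢
        exact h, by
        have h := χ.2.2
        simpa [Cfsg.charDegree] using h⟩
  have hTn : ∀ (n : ℕ) (χ : X) (g : G),
      ((T^[n] χ).1 : G → ℂ) g = (χ.1 : G → ℂ) (g ^ (k ^ n)) := by
    intro n
    induction n with
    | zero => intro χ g; simp
    | succ n ih =>
      intro χ g
      rw [Function.iterate_succ_apply', show ((T (T^[n] χ)).1 : G → ℂ) g =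
        ((T^[n] χ).1 : G → ℂ) (g ^ k) from rfl, ih, ← pow_mul, pow_succ']
  have hT : T^[2 ^ a] = id := by
    funext χ
    exact Subtype.ext (Subtype.ext (funext fun g => by rw [hTn, hiter]; rfl))
  have hbij : Function.Bijective T := by
    have h0 : 2 ^ a = (2 ^ a - 1) + 1 := by
      have := Nat.two_pow_pos a
      omega
    refine ⟨fun x y h => ?_, fun y => ⟨T^[2 ^ a - 1] y, ?_⟩⟩
    · have := congrArg (T^[2 ^ a - 1]) h
      rwa [← Function.iterate_succ_apply, ← Function.iterate_succ_apply, Nat.succ_eq_add_one, ← h0,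
        hT] at this
    · rw [← Function.iterate_succ_apply' T, Nat.succ_eq_add_one, ← h0, hT]; rfl
  set σ : Equiv.Perm X := Equiv.ofBijective T hbij with hσ
  have hpg : IsPGroup 2 (Subgroup.zpowers σ) := by
    have hord : orderOf σ ∣ 2 ^ a := orderOf_dvd_of_pow_eq_one (Equiv.ext fun χ => by
      rw [Equiv.Perm.coe_pow]
      exact congrFun hT χ)
    obtain ⟨i, -, hi⟩ := (Nat.dvd_prime_pow Nat.prime_two).1 hord
    exact IsPGroup.of_card ((Nat.card_zpowers σ).trans hi)
  have hcong := hpg.card_modEq_card_fixedPoints X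
  -- parity of the number of odd degree members
  have hX : Even (Nat.card X) := by
    have hcard : Nat.card X =
        ((H22.blockFinset B).filter fun χ : Cfsg.IrrCharacter G =>
          Odd (Cfsg.charDegree (χ : G → ℂ))).card := by
      rw [Nat.card_eq_fintype_card, Fintype.card_subtype]
      congr 1
      ext χ
      simp [H22.mem_blockFinset]
    rw [hcard, ← Finset.even_sum_iff_even_card_odd]
    have hS : (∑ χ ∈ H22.blockFinset B, Cfsg.charDegree (χ : G → ℂ) ^ 2).factorization 2 =
        2 * a - a := by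
      have h := H22.factorization_sum_sq hM (H20.isPBlock_principalBlock (G := G))
        (H22.weakOrth_of_block hM (H20.isPBlock_principalBlock (G := G)))
      rwa [H22.blockDefect_principalBlock] at h
    have ha : 1 ≤ a := (Nat.prime_two.dvd_iff_one_le_factorization Nat.card_pos.ne').1
      (even_iff_two_dvd.1 hev)
    have h2 : Even (∑ χ ∈ H22.blockFinset B, Cfsg.charDegree (χ : G → ℂ) ^ 2) := by
      rw [even_iff_two_dvd]
      exact Nat.dvd_of_factorization_pos (p := 2) (by
        change (∑ χ ∈ H22.blockFinset B, Cfsg.charDegree (χ : G → ℂ) ^ 2).factorization 2 ≠ 0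
        omega)
    rw [Finset.even_sum_iff_even_card_odd] at h2 ⊢
    simpa [Nat.odd_pow_iff] using h2
  have hfix : Nat.card (MulAction.fixedPoints (Subgroup.zpowers σ) X) =
      Nat.card {χ : Cfsg.IrrCharacter G // χ ∈ B ∧ Odd (Cfsg.charDegree (χ : G → ℂ)) ∧
        ∀ g : G, (χ : G → ℂ) (g ^ k) = (χ : G → ℂ) g} := by
    refine Nat.card_congr
      { toFun := fun x => ⟨x.1.1, x.1.2.1, x.1.2.2, fun g => ?_⟩
        invFun := fun χ => ⟨⟨χ.1, χ.2.1, χ.2.2.1⟩, fun ⟨s, hs⟩ => ?_⟩
        left_inv := fun x => rfl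
        right_inv := fun χ => rfl }
    · have h := x.2 ⟨σ, Subgroup.mem_zpowers σ⟩
      exact congrArg (fun y : X => (y.1 : G → ℂ) g) h
    · have hfx : σ ⟨χ.1, χ.2.1, χ.2.2.1⟩ = ⟨χ.1, χ.2.1, χ.2.2.1⟩ :=
        Subtype.ext (Subtype.ext (funext χ.2.2.2))
      obtain ⟨i, rfl⟩ := Subgroup.mem_zpowers_iff.1 hs
      exact Equiv.Perm.zpow_apply_eq_self_of_apply_eq_self hfx i
  rw [← hfix, Nat.even_iff, ← hcong, ← Nat.even_iff]
  exact hX

end Cfsg.Agent.S4550
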