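import Cfsg.Statements.S4548
import Cfsg.Agent.H25.TwoFixed
import Cfsg.Agent.H85.QuatEightSylow
import Cfsg.Agent.S4550

set_option autoImplicit false
open Cfsg

namespace Cfsg.Agent.S4548

/-- Let G be a finite group of even order with Sylow 2-subgroup P and M a maximal ideal of the algebraic integers containing 2. Let k be a natural number with g ^ k = g ^ 3 for every 2-element g and g ^ k = g for every element g of odd order (such k exist); an irreducible character χ is unchanged by g ↦ g ^ k exactly when it is fixed by the field automorphism that cubes the 2-power roots of unity and fixes the roots of unity of odd order. Then P is cyclic if and only if exactly two members χ of the principal 2-block of odd degree satisfy χ (g ^ k) = χ g for all g. -/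
theorem result {G : Type*} [Group G] [Finite G] (M : Ideal Cfsg.AlgInt) (hM : Cfsg.IsPModular 2 M) (hev : Even (Nat.card G)) (P : Sylow 2 G) (k : ℕ) (hk₁ : ∀ g : G, (∃ j : ℕ, orderOf g = 2 ^ j) → g ^ k = g ^ 3) (hk₂ : ∀ g : G, Odd (orderOf g) → g ^ k = g) : IsCyclic P ↔ Nat.card {χ : Cfsg.IrrCharacter G // χ ∈ Cfsg.principalBlock M G ∧ Odd (Cfsg.charDegree (χ : G → ℂ)) ∧ ∀ g : G, (χ : G → ℂ) (g ^ k) = (χ : G → ℂ) g} = 2 := by
  classical
  haveI := Fintype.ofFinite G
  haveI : Fact (Nat.Prime 2) := ⟨Nat.prime_two⟩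
  haveI := H20.isPrime_of_modular hM
  haveI := Fintype.ofFinite ↥(P : Subgroup G)
  let F := {χ : Cfsg.IrrCharacter G // χ ∈ Cfsg.principalBlock M G ∧
    Odd (Cfsg.charDegree (χ : G → ℂ)) ∧ ∀ g : G, (χ : G → ℂ) (g ^ k) = (χ : G → ℂ) g}
  let Hm := {f : ↥(P : Subgroup G) →* ℂˣ // ∀ y, f (y ^ 2) = 1}
  have hlin : ∀ {χ : Cfsg.IrrCharacter G}, Cfsg.charDegree (χ : G → ℂ) = 1 →
      ∃ L : G →* ℂˣ, ∀ g, (χ : G → ℂ) g = (L g : ℂ) := by
    intro χ h
    obtain ⟨L, hL⟩ := H12.exists_monoidHom_of_apply_one_eq_one (H12.isCharacter_irr χ)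
      (by rw [H22.irr_one_eq_charDegree, h, Nat.cast_one])
    exact ⟨L, fun g => (congrFun hL g).symm⟩
  constructor
  · intro hc
    haveI := hc
    have hnc := H85.hasNormalPComplement_of_cyclic_two P
    have hdeg : ∀ χ : F, Cfsg.charDegree (χ.1 : G → ℂ) = 1 := fun χ =>
      H10.SigmaLinear.degree_eq_one hM hnc χ.2.1 χ.2.2.1
    choose L hL using fun χ : F => hlin (hdeg χ)
    have h3 : ∀ (χ : F) (y : ↥(P : Subgroup G)), L χ ((y ^ 2 : ↥(P : Subgroup G)) : G) = 1 := by
      intro χ y
      obtain ⟨j, hj⟩ := IsPGroup.iff_orderOf.1 P.2 y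
      have h := χ.2.2.2 (y : G)
      rw [hk₁ (y : G) ⟨j, by rw [Subgroup.orderOf_coe, hj]⟩, hL, hL] at h
      have h' : L χ ((y : G) ^ 3) = L χ (y : G) := Units.ext h
      rw [map_pow, pow_succ] at h'
      rw [SubgroupClass.coe_pow, map_pow]
      simpa using h'
    let res : F → Hm := fun χ => ⟨(L χ).comp (P : Subgroup G).subtype, fun y => h3 χ y⟩
    have hres : Function.Injective res := by
      intro χ ψ he
      refine Subtype.ext (Subtype.ext (funext fun g => ?_))
      rw [hL, hL]
      congr 1
      have hK : ∀ (φ : F), ∀ n ∈ Cfsg.pResidual 2 G, L φ n = 1 := by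
        intro φ n hn
        haveI := Fintype.ofFinite ↥(Cfsg.pResidual 2 G)
        have h := H20.kernel_of_sameBlock hM (Cfsg.pResidual 2 G)
          (H5.hasNormalPComplement_iff_not_dvd.1 hnc)
          (H20.sameBlock_of_mem H20.isPBlock_principalBlock
            (show H12.oneIrr G ∈ Cfsg.principalBlock M G from
              H20.mem_blockOf_self (H12.oneIrr G)) φ.2.1)
          (fun _ _ => by rw [H12.oneIrr_apply, H12.oneIrr_apply]) n hn
        rw [hL, hL, map_one] at h
        exact Units.ext h
      have hle : Cfsg.pResidual 2 G ⊔ (P : Subgroup G) ≤ (L χ).eqLocus (L ψ) :=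
        sup_le (fun n hn => by
            show L χ n = L ψ n
            rw [hK χ n hn, hK ψ n hn])
          (fun y hy => by
            exact DFunLike.congr_fun (congrArg Subtype.val he) ⟨y, hy⟩)
      exact hle (by rw [H5.pResidual_sup_sylow]; exact Subgroup.mem_top g)
    obtain ⟨a, ha⟩ := hc.exists_generator
    let ev : Hm → {u : ℂ // u ∈ ({1, -1} : Finset ℂ)} := fun f => ⟨(f.1 a : ℂ), by
      have h := congrArg Units.val (f.2 a)
      rw [map_pow, Units.val_pow_eq_pow_val, Units.val_one] at h
      rcases sq_eq_one_iff.1 h with h | h <;> simp [h]⟩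
    have hev' : Function.Injective ev := by
      intro f g he
      refine Subtype.ext (MonoidHom.ext fun y => ?_)
      obtain ⟨i, rfl⟩ := Subgroup.mem_zpowers_iff.1 (ha y)
      rw [map_zpow, map_zpow, Units.ext (congrArg Subtype.val he : (f.1 a : ℂ) = g.1 a)]
    have hle : Nat.card F ≤ 2 := (Nat.card_le_card_of_injective _ (hev'.comp hres)).trans (by
      rw [Nat.card_eq_fintype_card, Fintype.card_coe]
      exact Finset.card_le_two)
    have hpos : 0 < Nat.card F := by
      haveI : Nonempty F := ⟨⟨H12.oneIrr G, H20.mem_blockOf_self (H12.oneIrr G),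
        by simp [Cfsg.charDegree, H12.oneIrr_apply],
        fun g => by rw [H12.oneIrr_apply, H12.oneIrr_apply]⟩⟩
      exact Nat.card_pos
    obtain ⟨c, hc'⟩ : Even (Nat.card F) := Cfsg.Agent.S4550.result M hM hev k hk₁ hk₂
    show Nat.card F = 2
    omega
  · intro hcard
    have hdeg : ∀ χ : F, Cfsg.charDegree (χ.1 : G → ℂ) = 1 := fun χ =>
      H25.TwoFixed.charDegree_eq_one hM hev k hk₁ hk₂ hcard χ.2.1 χ.2.2.1 χ.2.2.2
    choose X hXB hXd hXk hne using fun f : Hm =>
      H10.SigmaLinear.exists_fixed_over hM P k hk₁ hk₂ f.1 f.2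
    let up : Hm → F := fun f => ⟨X f, hXB f, hXd f, hXk f⟩
    have hup : Function.Injective up := by
      intro f g he
      have hX : ∀ f : Hm, ∀ L : G →* ℂˣ, (∀ x, (X f : G → ℂ) x = (L x : ℂ)) →
          L.comp (P : Subgroup G).subtype = f.1 := by
        intro f L hL
        by_contra hne'
        apply hne f
        rw [show (fun y : ↥(P : Subgroup G) => (X f : G → ℂ) y) =
            (H12.linIrr (L.comp (P : Subgroup G).subtype) : _ → ℂ) from funext fun y => by
              rw [H12.linIrr_apply, hL]; rfl,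
          show (fun y => (f.1 y : ℂ)) = (H12.linIrr f.1 : ↥(P : Subgroup G) → ℂ) from
            funext fun y => (H12.linIrr_apply f.1 y).symm,
          H12.classInner_irr_ne fun e => hne' (H12.linIrr_injective e)]
      obtain ⟨L, hL⟩ := hlin (hdeg (up f))
      have he' : X f = X g := congrArg Subtype.val he
      exact Subtype.ext ((hX f L hL).symm.trans (hX g L fun x => by rw [← he']; exact hL x))
    have hle : Nat.card Hm ≤ 2 := by
      haveI : Finite F := inferInstance
      exact (Nat.card_le_card_of_injective up hup).trans_eq hcard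
    haveI : Finite Hm := Finite.of_injective up hup
    haveI : Fintype Hm := Fintype.ofFinite Hm
    by_cases htriv : ∀ x : ↥(P : Subgroup G), x ∈ frattini ↥(P : Subgroup G)
    · refine ⟨1, fun x => ?_⟩
      have : (⊥ : Subgroup ↥(P : Subgroup G)) = ⊤ :=
        frattini_nongenerating (by rw [bot_sup_eq, eq_top_iff]; exact fun x _ => htriv x)
      simp [Subgroup.mem_bot.1 (this.symm ▸ Subgroup.mem_top x : x ∈ (⊥ : Subgroup _))]
    obtain ⟨a, ha⟩ := not_forall.1 htriv
    obtain ⟨f, hf2, hfa⟩ := H10.SigmaLinear.exists_hom P.2 ha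
    have hker : ∀ x, f x = 1 → x ∈ frattini ↥(P : Subgroup G) := by
      intro x hx
      by_contra hxf
      obtain ⟨g, hg2, hgx⟩ := H10.SigmaLinear.exists_hom P.2 hxf
      let o : Hm := ⟨1, fun _ => rfl⟩
      let f' : Hm := ⟨f, hf2⟩
      let g' : Hm := ⟨g, hg2⟩
      have h1 : o ≠ f' := fun e => hfa (DFunLike.congr_fun (congrArg Subtype.val e) a).symm
      have h2 : o ≠ g' := fun e => hgx (DFunLike.congr_fun (congrArg Subtype.val e) x).symm
      have h3 : f' ≠ g' := fun e =>
        hgx ((DFunLike.congr_fun (congrArg Subtype.val e) x).symm.trans hx)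
      have h := Finset.card_le_univ ({o, f', g'} : Finset Hm)
      rw [Finset.card_insert_of_notMem (by simp [h1, h2]), Finset.card_pair h3,
        ← Nat.card_eq_fintype_card] at h
      omega
    refine ⟨a, fun x => ?_⟩
    have htop : Subgroup.zpowers a ⊔ frattini ↥(P : Subgroup G) = ⊤ := by
      rw [eq_top_iff]
      intro y _
      have hsq : ∀ z, (f z : ℂ) = 1 ∨ (f z : ℂ) = -1 := fun z => by
        have h := congrArg Units.val (hf2 z)
        rw [map_pow, Units.val_pow_eq_pow_val, Units.val_one] at h
        exact sq_eq_one_iff.1 h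
      rcases hsq y with hy | hy
      · exact Subgroup.mem_sup_right (hker y (Units.ext hy))
      · have : f (a⁻¹ * y) = 1 := by
          rcases hsq a with h | h
          · exact absurd (Units.ext h) hfa
          · ext
            rw [map_mul, map_inv, Units.val_mul, Units.val_inv_eq_inv_val, h, hy]
            norm_num
        have h := Subgroup.mul_mem_sup (Subgroup.mem_zpowers a) (hker _ this)
        rwa [mul_inv_cancel_left] at h
    have hx : x ∈ Subgroup.zpowers a := by
      rw [frattini_nongenerating htop]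
      exact Subgroup.mem_top x
    exact hx

end Cfsg.Agent.S4548
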