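import Cfsg.Statements.S4558
import Cfsg.Agent.H22.ValueMod

set_option autoImplicit false
open Cfsg

namespace Cfsg.Agent.S4558

/-- Let χ be a character of the finite group G and g an element of p-power order for the prime p. If χ g = 0, then p divides the degree of χ. -/
theorem result {G : Type*} [Group G] [Finite G] (p : ℕ) [Fact p.Prime] (χ : G → ℂ) (hχ : Cfsg.IsCharacter G χ) (g : G) (hg : ∃ j : ℕ, orderOf g = p ^ j) (h0 : χ g = 0) : p ∣ Cfsg.charDegree χ := by
  obtain ⟨M, hM⟩ := H22.exists_isPModular p Fact.out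
  have : M.IsPrime := H20.isPrime_of_modular hM
  obtain ⟨j, hj⟩ := hg
  have h := H22.memIdeal_apply_sub_one hM hχ hj
  rw [h0, zero_sub, H12.IsCharacter.apply_one_eq_degree hχ] at h
  have h' : Cfsg.MemLocalIdeal M (((-(H12.degree χ : ℤ)) : ℤ) : ℂ) := by push_cast; exact h
  rw [H20.intCast_memIdeal_iff hM, dvd_neg] at h'
  exact Int.natCast_dvd_natCast.1 h'

end Cfsg.Agent.S4558
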