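import Cfsg.Agent.H33.CentralType
import Cfsg.Agent.H14.HallTransfer
import Cfsg.Statements.S4561
-- import your own Cfsg.Agent.* helpers here

set_option autoImplicit false
universe u
open Cfsg

namespace Cfsg.Agent.S4561

/-- For every finite solvable group G there is a finite group H with a faithful irreducible character χ whose degree squared equals the index of the centre Z(H) (so χ is fully ramified over the centre), such that G is isomorphic to a subgroup of H/Z(H), the primes dividing the orders of H, of Z(H) and of G are the same, and the order of Z(H) is squarefree. -/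
theorem result {G : Type u} [Group G] [Finite G] (hsolv : Group.IsSolvable G) : ∃ (H : Type u) (_ : Group H) (_ : Finite H) (χ : Cfsg.IrrCharacter H), (∀ h : H, (χ : H → ℂ) h = (χ : H → ℂ) 1 → h = 1) ∧ (Cfsg.charDegree (χ : H → ℂ)) ^ 2 = (Subgroup.center H).index ∧ (∃ f : G →* H ⧸ Subgroup.center H, Function.Injective f) ∧ (∀ p : ℕ, p.Prime → ((p ∣ Nat.card H ↔ p ∣ Nat.card G) ∧ (p ∣ Nat.card (Subgroup.center H) ↔ p ∣ Nat.card G))) ∧ Squarefree (Nat.card (Subgroup.center H)) := by
  classical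
  obtain ⟨ι, _, _, _, H, _, S, hSn, hS, htr, hidx, ⟨f, hf⟩, hpr, hsq⟩ :=
    H33.CentralType.good_of_solvable _ G rfl
  set N := Fintype.card ι
  let e : ι ≃ Fin N := Fintype.equivFin ι
  -- the representation on coordinates
  let mh : ULift.{u} H →* Matrix (Fin N) (Fin N) ℂ :=
    { toFun := fun h => Matrix.reindexAlgEquiv ℂ ℂ e ((h.down : (Matrix ι ι ℂ)ˣ) : Matrix ι ι ℂ)
      map_one' := by simp only [ULift.one_down, Subgroup.coe_one, Units.val_one, map_one]
      map_mul' := fun a b => by simp only [ULift.mul_down, Subgroup.coe_mul, Units.val_mul, map_mul] }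
  let ρ : Representation ℂ (ULift.{u} H) (Fin N → ℂ) :=
    (Matrix.toLinAlgEquiv' : Matrix (Fin N) (Fin N) ℂ ≃ₐ[ℂ] _).toAlgHom.toRingHom.toMonoidHom.comp mh
  let φ : ULift.{u} H → ℂ := fun h => Matrix.trace ((h.down : (Matrix ι ι ℂ)ˣ) : Matrix ι ι ℂ)
  have hφ : ρ.character = φ := by
    funext h
    show LinearMap.trace ℂ _ (Matrix.toLin' (Matrix.reindexAlgEquiv ℂ ℂ e _)) = _
    rw [Matrix.trace_toLin'_eq]
    exact Fintype.sum_equiv e.symm _ _ fun _ => rfl
  have hN : 0 < N := Fintype.card_pos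
  -- scalar values
  have hval : ∀ h : H, h ∈ S → ∃ r : ℂ, ((h : (Matrix ι ι ℂ)ˣ) : Matrix ι ι ℂ) = r • 1 ∧
      r * (starRingEnd ℂ) r = 1 ∧ φ ⟨h⟩ = r * N := by
    intro h hh
    obtain ⟨r, hr⟩ := (hS h).1 hh
    refine ⟨r, hr, ?_, ?_⟩
    · obtain ⟨i⟩ := ‹Nonempty ι›
      have h1 : (((h ^ Nat.card H : H) : (Matrix ι ι ℂ)ˣ) : Matrix ι ι ℂ) = 1 := by
        rw [pow_card_eq_one']; rfl
      rw [SubgroupClass.coe_pow, Units.val_pow_eq_pow_val, hr, smul_pow, one_pow] at h1
      have h2 := congrFun (congrFun h1 i) i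
      simp at h2
      have hn := Complex.norm_eq_one_of_pow_eq_one h2 Nat.card_pos.ne'
      rw [Complex.mul_conj']
      simp [hn]
    · show Matrix.trace _ = _
      rw [hr, Matrix.trace_smul, Matrix.trace_one, smul_eq_mul]
  let _ : Fintype (ULift.{u} H) := Fintype.ofFinite _
  let _ : Fintype H := Fintype.ofFinite _
  have hcardH : Nat.card H = Nat.card S * N ^ 2 := by rw [← hidx, S.card_mul_index]
  have hnorm : Cfsg.classInner φ φ = 1 := by
    have hterm : ∀ h : H, φ ⟨h⟩ * (starRingEnd ℂ) (φ ⟨h⟩) = if h ∈ S then (N : ℂ) ^ 2 else 0 := by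
      intro h
      split_ifs with hh
      · obtain ⟨r, -, hr, hv⟩ := hval h hh
        rw [hv, map_mul, map_natCast]
        linear_combination (N : ℂ) ^ 2 * hr
      · rw [show φ ⟨h⟩ = 0 from htr h hh, zero_mul]
    rw [Cfsg.classInner, Nat.card_congr Equiv.ulift,
      Fintype.sum_equiv Equiv.ulift (fun g => φ g * (starRingEnd ℂ) (φ g))
        (fun h => if h ∈ S then (N : ℂ) ^ 2 else 0) (fun g => hterm g.down),
      ← Finset.sum_filter, Finset.sum_const, nsmul_eq_mul, ← Fintype.card_subtype,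
      ← Nat.card_eq_fintype_card, hcardH]
    have : (Nat.card S : ℂ) ≠ 0 := Nat.cast_ne_zero.2 Nat.card_pos.ne'
    have : (N : ℂ) ≠ 0 := Nat.cast_ne_zero.2 hN.ne'
    push_cast
    field_simp
  have hone : φ 1 = (N : ℂ) := by
    show Matrix.trace _ = _
    rw [ULift.one_down, Subgroup.coe_one, Units.val_one, Matrix.trace_one]
  have hgen : Cfsg.IsGeneralizedCharacter (ULift.{u} H) φ := by
    refine ⟨φ, 0, ⟨N, ρ, hφ⟩, ⟨0, 1, ?_⟩, (sub_zero φ).symm⟩
    funext h
    simp [Representation.character]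
  have hirr := H14.isIrrCharacter_of_norm_one hgen hnorm hN hone
  -- the centre is the scalars
  obtain ⟨b, hb⟩ : ∃ b : H ⧸ S → H, ∀ q, QuotientGroup.mk (b q) = q := ⟨_, Quotient.out_eq⟩
  let _ : Fintype (H ⧸ S) := Fintype.ofFinite _
  have hcent : ∀ z : H, (∀ h : H, h * z = z * h) → z ∈ S := by
    intro z hz
    refine (hS z).2 ?_
    let v : H ⧸ S → Matrix ι ι ℂ := fun q => ((b q : (Matrix ι ι ℂ)ˣ) : Matrix ι ι ℂ)
    have hli : LinearIndependent ℂ v := by
      rw [Fintype.linearIndependent_iff]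
      intro c hc q
      have h1 := congrArg (fun M => Matrix.trace (M * ((((b q)⁻¹ : H) : (Matrix ι ι ℂ)ˣ) : Matrix ι ι ℂ))) hc
      simp only [Finset.sum_mul, smul_mul_assoc, Matrix.trace_sum, Matrix.trace_smul, zero_mul,
        Matrix.trace_zero, v, ← Units.val_mul, ← Subgroup.coe_mul, smul_eq_mul] at h1
      rw [Fintype.sum_eq_single q] at h1
      · rw [mul_inv_cancel, Subgroup.coe_one, Units.val_one, Matrix.trace_one] at h1
        exact (mul_eq_zero.1 h1).resolve_right (Nat.cast_ne_zero.2 hN.ne')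
      · intro q' hq'
        rw [htr _ fun h2 => hq' ?_, mul_zero]
        rw [← hb q', ← hb q, QuotientGroup.eq_iff_div_mem, div_eq_mul_inv]
        exact h2
    have hspan : Submodule.span ℂ (Set.range v) = ⊤ := by
      refine hli.span_eq_top_of_card_eq_finrank' ?_
      rw [← Nat.card_eq_fintype_card, ← Subgroup.index_eq_card, hidx, Module.finrank_matrix,
        Module.finrank_self, mul_one, ← pow_two]
    have hcomm : ∀ M : Matrix ι ι ℂ, Commute M ((z : (Matrix ι ι ℂ)ˣ) : Matrix ι ι ℂ) := by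
      intro M
      have hM : M ∈ Submodule.span ℂ (Set.range v) := hspan ▸ Submodule.mem_top
      refine Submodule.span_induction ?_ (Commute.zero_left _) (fun _ _ _ _ => Commute.add_left)
        (fun c _ _ hx => hx.smul_left c) hM
      rintro _ ⟨q, rfl⟩
      exact congrArg (fun h : H => ((h : (Matrix ι ι ℂ)ˣ) : Matrix ι ι ℂ)) (hz (b q))
    obtain ⟨r, hr⟩ := Matrix.mem_range_scalar_of_commute_single (M := ((z : (Matrix ι ι ℂ)ˣ) : Matrix ι ι ℂ))
      (fun i j _ => hcomm _)
    exact ⟨r, by rw [← hr, Matrix.scalar_apply, ← Matrix.smul_one_eq_diagonal]⟩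
  have hSc : ∀ s : H, s ∈ S → ∀ h : H, h * s = s * h := by
    intro s hs h
    obtain ⟨r, hr⟩ := (hS s).1 hs
    apply Subtype.ext
    apply Units.ext
    simp [hr]
  set ψ : H ≃* ULift.{u} H := MulEquiv.ulift.symm with hψ
  have hcenter : Subgroup.center (ULift.{u} H) = S.map ψ.toMonoidHom := by
    ext z
    rw [Subgroup.mem_center_iff]
    constructor
    · intro hz
      refine ⟨z.down, hcent z.down fun h => congrArg ULift.down (hz ⟨h⟩), rfl⟩
    · rintro ⟨s, hs, rfl⟩ h
      exact ULift.ext _ _ (hSc s hs h.down)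
  have hcardC : Nat.card (Subgroup.center (ULift.{u} H)) = Nat.card S := by
    rw [hcenter]
    exact (Nat.card_congr (S.equivMapOfInjective _ ψ.injective).toEquiv).symm
  refine ⟨ULift.{u} H, inferInstance, inferInstance, ⟨φ, hirr⟩, ?_, ?_, ?_, ?_, hcardC ▸ hsq⟩
  · intro h hh
    change φ h = φ 1 at hh
    rw [hone] at hh
    by_cases hs : h.down ∈ S
    · obtain ⟨r, hr, -, hv⟩ := hval _ hs
      rw [show φ h = r * N from hv] at hh
      have hr1 : r = 1 := mul_right_cancel₀ (Nat.cast_ne_zero.2 hN.ne') (hh.trans (one_mul _).symm)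
      rw [hr1, one_smul] at hr
      exact ULift.ext _ _ (Subtype.ext (Units.ext hr))
    · rw [show φ h = 0 from htr _ hs] at hh
      exact absurd hh.symm (Nat.cast_ne_zero.2 hN.ne')
  · show ⌊(φ 1).re⌋₊ ^ 2 = _
    rw [hone, Complex.natCast_re, Nat.floor_natCast, hcenter]
    exact ((Subgroup.index_map_equiv S ψ).trans hidx).symm
  · let q : H ⧸ S ≃* ULift.{u} H ⧸ Subgroup.center (ULift.{u} H) :=
      QuotientGroup.congr S _ ψ hcenter.symm
    exact ⟨q.toMonoidHom.comp f, q.injective.comp hf⟩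
  · intro p hp
    rw [hcardC, Nat.card_congr Equiv.ulift]
    exact hpr p hp

end Cfsg.Agent.S4561
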