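import Cfsg.Statements.S4567
import Cfsg.Agent.H18.CentralChar


set_option autoImplicit false
open scoped commutatorElement
open Cfsg

namespace Cfsg.Agent.S4567

/-- Let N be a central subgroup of the finite group G and ψ a faithful irreducible (hence degree-one) character of N. Call a coset g N special when every x ∈ G whose commutator x⁻¹ g⁻¹ x g lies in N actually commutes with g (this depends only on the coset). Then the number of irreducible characters of G whose restriction to N contains ψ equals the number of conjugacy classes of G/N consisting of special cosets. -/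
theorem result {G : Type*} [Group G] [Fintype G] (N : Subgroup G) [N.Normal] [Fintype N] (hN : N ≤ Subgroup.center G) (ψ : Cfsg.IrrCharacter ↥N) (hfaith : ∀ n : ↥N, (ψ : ↥N → ℂ) n = (ψ : ↥N → ℂ) 1 → n = 1) : Nat.card {χ : Cfsg.IrrCharacter G // Cfsg.classInner (fun n : ↥N => (χ : G → ℂ) n) (ψ : ↥N → ℂ) ≠ 0} = Nat.card {C : ConjClasses (G ⧸ N) // ∃ g : G, ConjClasses.mk (g : G ⧸ N) = C ∧ ∀ x : G, x⁻¹ * g⁻¹ * x * g ∈ N → x * g = g * x} := by
  classical
  set π := QuotientGroup.mk' N with hπ
  let sp : G → Prop := fun g => ∀ x : G, x⁻¹ * g⁻¹ * x * g ∈ N → x * g = g * x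
  let S : Finset (Cfsg.IrrCharacter G) := Finset.univ.filter fun χ =>
    Cfsg.classInner (fun n : ↥N => (χ : G → ℂ) n) (ψ : ↥N → ℂ) ≠ 0
  haveI : Fintype (G ⧸ N) := Fintype.ofFinite _
  have hψhom : ∃ f : ↥N →* ℂˣ, ∀ n, (f n : ℂ) = (ψ : ↥N → ℂ) n := by
    obtain ⟨f, hf⟩ := H12.exists_monoidHom_of_apply_one_eq_one (H12.isCharacter_irr ψ)
      (H12.irr_apply_one_of_comm (fun a b => Subtype.ext
        (Subgroup.mem_center_iff.mp (hN b.2) a.1)) ψ)
    exact ⟨f, fun n => congrFun hf n⟩
  obtain ⟨f, hf⟩ := hψhom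
  have hNcard : (Nat.card N : ℂ) ≠ 0 := by exact_mod_cast Nat.card_pos.ne'
  have hspec : ∀ g : G, (∑ χ ∈ S, (χ : G → ℂ) g * starRingEnd ℂ ((χ : G → ℂ) g)) * (Nat.card N : ℂ) =
      if sp g then (Nat.card N : ℂ) * (Nat.card (Subgroup.centralizer ({π g} : Set (G ⧸ N))) : ℂ)
      else 0 := by
    intro g
    split_ifs with hg
    · have hfix : ∀ n : ↥N, IsConj (g * (n : G)) g → n = 1 := by
        intro n hn
        obtain ⟨c, hc⟩ := isConj_iff.mp hn.symm
        have h0 : (c⁻¹)⁻¹ * g⁻¹ * c⁻¹ * g = ((n⁻¹ : ↥N) : G) := by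
          have : (n : G) = g⁻¹ * (c * g * c⁻¹) := by rw [hc]; group
          rw [Subgroup.coe_inv, this]; group
        have h1 := hg c⁻¹ (h0 ▸ (n⁻¹).2)
        apply Subtype.ext
        have : (n : G) = g⁻¹ * (c * g * c⁻¹) := by rw [hc]; group
        rw [this, mul_assoc c, ← h1]; simp
      have hsum : ∑ n : ↥N, (∑ χ : Cfsg.IrrCharacter G, (χ : G → ℂ) (g * (n : G)) *
          starRingEnd ℂ ((χ : G → ℂ) g)) * starRingEnd ℂ ((ψ : ↥N → ℂ) n) =
          (Nat.card (Subgroup.centralizer ({g} : Set G)) : ℂ) := by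
        simp only [H12.column_orthogonality]
        rw [Finset.sum_eq_single (1 : ↥N)]
        · rw [OneMemClass.coe_one, mul_one, if_pos (IsConj.refl g), ← hf, map_one, Units.val_one,
            map_one, mul_one]
        · intro n _ hn
          rw [if_neg (fun h => hn (hfix n h)), zero_mul]
        · simp
      have hC : Nat.card (Subgroup.centralizer ({g} : Set G)) =
          Nat.card N * Nat.card (Subgroup.centralizer ({π g} : Set (G ⧸ N))) := by
        refine Eq.trans ?_ (QuotientGroup.card_preimage_mk N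
          ((Subgroup.centralizer ({π g} : Set (G ⧸ N))) : Set (G ⧸ N)))
        refine Nat.card_congr (Equiv.subtypeEquivRight fun x => ?_)
        rw [Set.mem_preimage, SetLike.mem_coe, Subgroup.mem_centralizer_singleton_iff,
          Subgroup.mem_centralizer_singleton_iff]
        constructor
        · intro h
          rw [show (x : G ⧸ N) = π x from rfl, ← map_mul, ← map_mul, h]
        · intro h
          apply hg
          rw [show (x : G ⧸ N) = π x from rfl, ← map_mul, ← map_mul] at h
          have h2 := QuotientGroup.eq.mp h.symm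
          simpa [mul_assoc] using h2
      rw [← Nat.cast_mul, ← hC, ← hsum]
      calc (∑ χ ∈ S, (χ : G → ℂ) g * starRingEnd ℂ ((χ : G → ℂ) g)) * (Nat.card N : ℂ)
          = ∑ χ : Cfsg.IrrCharacter G, ((χ : G → ℂ) g * starRingEnd ℂ ((χ : G → ℂ) g)) *
              ((Nat.card N : ℂ) * Cfsg.classInner (fun n : ↥N =>
                (H18.omegaZ χ ⟨n, hN n.2⟩ : ℂ)) (ψ : ↥N → ℂ)) := by
            rw [Finset.sum_filter, Finset.sum_mul]
            refine Finset.sum_congr rfl fun χ _ => ?_
            have hl : (fun n : ↥N => (H18.omegaZ χ ⟨n, hN n.2⟩ : ℂ)) =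
                (H12.linIrr ((H18.omegaZ χ).comp (Subgroup.inclusion hN)) : ↥N → ℂ) := rfl
            rw [hl, H12.classInner_irr]
            by_cases h : ∀ n : ↥N, (H18.omegaZ χ ⟨n, hN n.2⟩ : ℂ) = (ψ : ↥N → ℂ) n
            · rw [if_pos ((H18.over_central_iff N hN ψ χ).mpr h), if_pos (Subtype.ext (funext h)),
                mul_one]
            · rw [if_neg (fun h' => h ((H18.over_central_iff N hN ψ χ).mp h')),
                if_neg (fun h' => h fun n => congrFun (congrArg Subtype.val h') n)]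
              simp
        _ = ∑ χ : Cfsg.IrrCharacter G, ∑ n : ↥N, ((χ : G → ℂ) g * starRingEnd ℂ ((χ : G → ℂ) g)) *
              ((H18.omegaZ χ ⟨n, hN n.2⟩ : ℂ) * starRingEnd ℂ ((ψ : ↥N → ℂ) n)) := by
            refine Finset.sum_congr rfl fun χ _ => ?_
            rw [← Finset.mul_sum, H12.classInner_def, mul_inv_cancel_left₀ hNcard]
        _ = _ := by
            rw [Finset.sum_comm]
            refine Finset.sum_congr rfl fun n _ => ?_
            rw [Finset.sum_mul]
            refine Finset.sum_congr rfl fun χ _ => ?_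
            rw [H18.omegaZ_mul χ (hN n.2) g]
            ring
    · rw [mul_eq_zero]
      left
      simp only [sp, not_forall] at hg
      obtain ⟨x, hx, hx'⟩ := hg
      refine Finset.sum_eq_zero fun χ hχ => ?_
      rw [H18.over_central_eq_zero N hN ψ hfaith χ (Finset.mem_filter.mp hχ).2 g x hx (fun h => ?_),
        zero_mul]
      apply hx'
      calc x * g = g * x * (x⁻¹ * g⁻¹ * x * g) := by group
        _ = g * x := by rw [h, mul_one]
  have hkey : (S.card : ℂ) * ((Nat.card G : ℂ) * (Nat.card N : ℂ)) =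
      ∑ g : G, if sp g then (Nat.card N : ℂ) *
        (Nat.card (Subgroup.centralizer ({π g} : Set (G ⧸ N))) : ℂ) else 0 := by
    simp only [← hspec]
    rw [← Finset.sum_mul, Finset.sum_comm, ← mul_assoc]
    congr 1
    have hG : (Nat.card G : ℂ) ≠ 0 := by exact_mod_cast Nat.card_pos.ne'
    rw [Finset.card_eq_sum_ones, Nat.cast_sum, Finset.sum_mul]
    refine Finset.sum_congr rfl fun χ _ => ?_
    have h1 := H12.classInner_irr_self χ
    rw [H12.classInner_def, inv_mul_eq_iff_eq_mul₀ hG, mul_one] at h1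
    rw [h1, Nat.cast_one, one_mul]
  let good : ConjClasses (G ⧸ N) → Prop := fun C =>
    ∃ g : G, ConjClasses.mk (g : G ⧸ N) = C ∧ sp g
  have hwd : ∀ g h : G, IsConj (π g) (π h) → sp g → sp h := by
    intro g h hc hg x hx
    obtain ⟨c, hc⟩ := isConj_iff.mp hc
    obtain ⟨c, rfl⟩ := QuotientGroup.mk'_surjective N c
    obtain ⟨n, hn, rfl⟩ : ∃ n ∈ N, h = c * g * c⁻¹ * n := by
      rw [← map_inv, ← map_mul, ← map_mul, hπ] at hc
      exact ⟨(c * g * c⁻¹)⁻¹ * h, QuotientGroup.eq.mp hc, by group⟩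
    have hnc : ∀ w : G, w * n = n * w := Subgroup.mem_center_iff.mp (hN hn)
    have hnc' : ∀ w : G, w * n⁻¹ = n⁻¹ * w := Subgroup.mem_center_iff.mp (hN (N.inv_mem hn))
    set y := c * g * c⁻¹ with hy
    have h1 : x⁻¹ * (y * n)⁻¹ * x * (y * n) = x⁻¹ * y⁻¹ * x * y := by
      rw [mul_inv_rev, show x⁻¹ * (n⁻¹ * y⁻¹) = n⁻¹ * (x⁻¹ * y⁻¹) by rw [← mul_assoc, hnc', mul_assoc],
        mul_assoc n⁻¹, mul_assoc n⁻¹, ← mul_assoc _ y n, hnc, inv_mul_cancel_left]
    rw [h1] at hx
    have h2 : (c⁻¹ * x * c)⁻¹ * g⁻¹ * (c⁻¹ * x * c) * g = c⁻¹ * (x⁻¹ * y⁻¹ * x * y) * c := by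
      rw [hy]; group
    have h3 := hg (c⁻¹ * x * c) (h2 ▸ by
      simpa using Subgroup.Normal.conj_mem inferInstance _ hx c⁻¹)
    calc x * (y * n) = c * ((c⁻¹ * x * c) * g) * c⁻¹ * n := by rw [hy]; group
      _ = c * (g * (c⁻¹ * x * c)) * c⁻¹ * n := by rw [h3]
      _ = y * (x * n) := by rw [hy]; group
      _ = y * n * x := by rw [hnc x, ← mul_assoc]
  have hgood : ∀ g : G, sp g ↔ good (ConjClasses.mk (π g)) := fun g =>
    ⟨fun h => ⟨g, rfl, h⟩, fun ⟨h', he, hs⟩ => hwd h' g (ConjClasses.mk_eq_mk_iff_isConj.mp he) hs⟩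
  have hsum2 : ∀ φ : G ⧸ N → ℂ, ∑ g : G, φ (π g) = (Nat.card N : ℂ) * ∑ q : G ⧸ N, φ q := by
    intro φ
    rw [← Finset.sum_fiberwise Finset.univ (fun g : G => π g) (fun g => φ (π g)), Finset.mul_sum]
    refine Finset.sum_congr rfl fun q _ => ?_
    rw [Finset.sum_congr rfl (fun g hg => by rw [(Finset.mem_filter.mp hg).2]), Finset.sum_const,
      nsmul_eq_mul]
    congr 2
    rw [← Fintype.card_subtype, ← Nat.card_eq_fintype_card]
    have := QuotientGroup.card_preimage_mk N ({q} : Set (G ⧸ N))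
    rw [Nat.card_unique (α := ({q} : Set (G ⧸ N))), mul_one] at this
    refine Eq.trans ?_ this
    exact Nat.card_congr (Equiv.subtypeEquivRight fun x => Iff.rfl)
  rw [Finset.sum_congr rfl fun g _ => if_congr (hgood g) rfl rfl,
    hsum2 (fun q => if good (ConjClasses.mk q) then (Nat.card N : ℂ) *
      (Nat.card (Subgroup.centralizer ({q} : Set (G ⧸ N))) : ℂ) else 0)] at hkey
  haveI : Finite (ConjClasses (G ⧸ N)) := Quotient.finite _
  haveI : Fintype (ConjClasses (G ⧸ N)) := Fintype.ofFinite _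
  have hq : ∑ q : G ⧸ N, (if good (ConjClasses.mk q) then (Nat.card N : ℂ) *
      (Nat.card (Subgroup.centralizer ({q} : Set (G ⧸ N))) : ℂ) else 0) =
      ((Finset.univ.filter good).card : ℂ) * (Nat.card G : ℂ) := by
    rw [← Finset.sum_fiberwise Finset.univ (ConjClasses.mk (α := G ⧸ N)), Finset.card_eq_sum_ones,
      Finset.sum_filter, Nat.cast_sum, Finset.sum_mul]
    refine Finset.sum_congr rfl fun C _ => ?_
    induction C using ConjClasses.mk_surjective.forall.mpr with
    | _ q₀ =>
    split_ifs with hC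
    · rw [Nat.cast_one, one_mul]
      have hterm : ∀ q ∈ Finset.univ.filter (fun q => ConjClasses.mk q = ConjClasses.mk q₀),
          (if good (ConjClasses.mk q) then (Nat.card N : ℂ) *
            (Nat.card (Subgroup.centralizer ({q} : Set (G ⧸ N))) : ℂ) else 0) =
          (Nat.card N : ℂ) * (Nat.card (Subgroup.centralizer ({q₀} : Set (G ⧸ N))) : ℂ) := by
        intro q hq
        have he := (Finset.mem_filter.mp hq).2
        rw [he, if_pos hC]
        congr 2
        obtain ⟨c, hc⟩ := isConj_iff.mp (ConjClasses.mk_eq_mk_iff_isConj.mp he)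
        rw [← hc]
        refine (Nat.card_congr ((MulAut.conj c).toEquiv.subtypeEquiv fun a => ?_))
        rw [Subgroup.mem_centralizer_singleton_iff, Subgroup.mem_centralizer_singleton_iff]
        change a * q = q * a ↔ c * a * c⁻¹ * (c * q * c⁻¹) = c * q * c⁻¹ * (c * a * c⁻¹)
        constructor
        · intro h
          calc c * a * c⁻¹ * (c * q * c⁻¹) = c * (a * q) * c⁻¹ := by group
            _ = c * q * c⁻¹ * (c * a * c⁻¹) := by rw [h]; group
        · intro h
          calc a * q = c⁻¹ * (c * a * c⁻¹ * (c * q * c⁻¹)) * c := by group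
            _ = q * a := by rw [h]; group
      rw [Finset.sum_congr rfl hterm, Finset.sum_const, nsmul_eq_mul]
      have h1 := H12.card_conjClass_mul_card_centralizer q₀
      have h3 : (Finset.univ.filter fun q => ConjClasses.mk q = ConjClasses.mk q₀).card =
          (Finset.univ.filter fun q => IsConj q₀ q).card := by
        congr 1
        exact Finset.filter_congr fun q _ => ConjClasses.mk_eq_mk_iff_isConj.trans isConj_comm
      have h4 : Nat.card N * Nat.card (G ⧸ N) = Nat.card G := by
        rw [← Subgroup.index_eq_card, N.card_mul_index]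
      have h1' : (Finset.univ.filter fun q => IsConj q₀ q).card *
          Nat.card (Subgroup.centralizer ({q₀} : Set (G ⧸ N))) = Nat.card (G ⧸ N) := by
        convert h1 using 3
        ext w; simp
      rw [h3, ← h4, ← h1']
      push_cast
      ring
    · rw [Nat.cast_zero, zero_mul]
      exact Finset.sum_eq_zero fun q hq => by rw [(Finset.mem_filter.mp hq).2, if_neg hC]
  rw [hq] at hkey
  have hG : (Nat.card G : ℂ) ≠ 0 := by exact_mod_cast Nat.card_pos.ne'
  have hfin : (S.card : ℂ) = ((Finset.univ.filter good).card : ℂ) := by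
    apply mul_right_cancel₀ (mul_ne_zero hG hNcard)
    rw [hkey]; ring
  rw [Nat.card_eq_fintype_card, Nat.card_eq_fintype_card, Fintype.card_subtype, Fintype.card_subtype]
  exact_mod_cast hfin

end Cfsg.Agent.S4567
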