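import Cfsg.Statements.S4569
import Cfsg.Agent.H85.AbTwo.Main

set_option autoImplicit false
open Cfsg

namespace Cfsg.Agent.S4569

/-- Let G be a finite group whose Sylow 2-subgroup P is elementary abelian of order 16, suppose the centralizer of P has index 9 in its normalizer, and let M be a maximal ideal of the algebraic integers containing 2. Then the principal 2-block contains exactly 16 irreducible characters and has 2-regular rank 9. -/
theorem result {G : Type*} [Group G] [Finite G] (M : Ideal Cfsg.AlgInt) (hM : Cfsg.IsPModular 2 M) (P : Sylow 2 G) (hcard : Nat.card P = 16) (hel : ∀ x : P, x ^ 2 = 1) (he : (Subgroup.centralizer ((P : Subgroup G) : Set G)).relIndex (Subgroup.normalizer ((P : Subgroup G) : Set G)) = 9) : Nat.card (Cfsg.principalBlock M G) = 16 ∧ Cfsg.blockRank 2 (Cfsg.principalBlock M G) = 9 := by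
  haveI : Fact (Nat.Prime 2) := ⟨Nat.prime_two⟩
  haveI : Fintype G := Fintype.ofFinite _
  haveI : M.IsPrime := hM.2.1.isPrime
  have hsq : ∀ u ∈ (P : Subgroup G), u * u = 1 := fun u hu => by
    rw [← pow_two]
    exact congrArg Subtype.val (hel ⟨u, hu⟩)
  haveI : IsMulCommutative P := ⟨⟨fun a b => Subtype.ext (by
    have ha := hsq (a : G) a.2
    have hb := hsq (b : G) b.2
    have hab := hsq ((a : G) * b) (mul_mem a.2 b.2)
    show (a : G) * b = b * a
    rw [eq_inv_of_mul_eq_one_left hab, mul_inv_rev, inv_eq_of_mul_eq_one_right ha,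
      inv_eq_of_mul_eq_one_right hb])⟩⟩
  obtain ⟨A, B, hAB⟩ := H85.AbTwo.exists_nine_of_card P hcard hsq (by rw [H20.card_autG]; exact he)
  exact hAB.count hM (H85.AbTwo.eight hM)

end Cfsg.Agent.S4569
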