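import Cfsg.Statements.S4570
import Cfsg.Agent.H85.AbTwo.Main

set_option autoImplicit false
open Cfsg

namespace Cfsg.Agent.S4570

/-- Let G be a finite group with a commutative Sylow 2-subgroup P and M a maximal ideal of the algebraic integers containing 2, and suppose some involution x of G has the property that the principal 2-block of its centralizer has 2-regular rank one. If P has order 8 then the principal 2-block of G contains exactly 8 irreducible characters, and if P has order 16 it contains 8 or 16. -/
theorem result {G : Type*} [Group G] [Finite G] (M : Ideal Cfsg.AlgInt) (hM : Cfsg.IsPModular 2 M) (P : Sylow 2 G) (hab : IsMulCommutative P) (x : G) (hx : orderOf x = 2) (hl : Cfsg.blockRank 2 (Cfsg.principalBlock M ↥(Subgroup.centralizer ({x} : Set G))) = 1) : (Nat.card P = 8 → Nat.card (Cfsg.principalBlock M G) = 8) ∧ (Nat.card P = 16 → Nat.card (Cfsg.principalBlock M G) = 8 ∨ Nat.card (Cfsg.principalBlock M G) = 16) := by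
  haveI : Fact (Nat.Prime 2) := ⟨Nat.prime_two⟩
  haveI : Fintype G := Fintype.ofFinite _
  haveI : M.IsPrime := hM.2.1.isPrime
  haveI := hab
  obtain ⟨y, hy, hxy⟩ := H20.FreeSylow.exists_isConj_mem (P := P) (y := x) ⟨1, by rw [hx, pow_one]⟩
  have hy2 : orderOf y = 2 := by
    obtain ⟨c, hc⟩ := isConj_iff.1 hxy
    rw [← hc, H20.orderOf_conj', hx]
  have hreg := H85.AbTwo.reg_of_rank P hM hy (by rw [← H85.AbTwo.rank_of_isConj hxy]; exact hl)
  refine ⟨fun h => ?_, fun h => ?_⟩
  · exact (H85.AbTwo.card_principal P hM (fun _ => H85.AbTwo.eight hM) hab (Or.inl h) hy hy2 hreg).1 h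
  · exact (H85.AbTwo.card_principal P hM (fun _ => H85.AbTwo.eight hM) hab (Or.inr h) hy hy2 hreg).2 h

end Cfsg.Agent.S4570
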