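import Cfsg.Statements.S4571
import Cfsg.Agent.H22.Subsections
import Cfsg.Agent.H22.BlockClasses
import Cfsg.Agent.H21.SelfCentralBlock
import Cfsg.Agent.H21.QuotientBlocks

set_option autoImplicit false
set_option linter.style.haveILetI false
set_option linter.unusedSectionVars false
open Cfsg

namespace Cfsg.Agent.S4571

section
universe u
variable {G : Type u} [Group G] [Fintype G] {p : ℕ} [hp : Fact p.Prime] {M : Ideal AlgInt}
  [M.IsPrime] {Q : Subgroup G} [Q.Normal] [Fintype (G ⧸ Q)]

omit hp in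
theorem not_dvd_mk {g : G} (hg : ¬ p ∣ orderOf g) : ¬ p ∣ orderOf (g : G ⧸ Q) := fun h =>
  hg (h.trans (orderOf_map_dvd (QuotientGroup.mk' Q) g))

/-- every regular element of the quotient has a regular preimage -/
theorem exists_reg_lift {q : G ⧸ Q} (hq : ¬ p ∣ orderOf q) :
    ∃ g : G, ¬ p ∣ orderOf g ∧ (g : G ⧸ Q) = q := by
  obtain ⟨g, rfl⟩ := QuotientGroup.mk_surjective q
  refine ⟨H20.qPart p g, H20.not_dvd_orderOf_qPart g, ?_⟩
  have h1 := H21.pPart_map (p := p) (QuotientGroup.mk' Q) g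
  rw [QuotientGroup.mk'_apply, H20.pPart_eq_one_iff.2 hq] at h1
  conv_rhs => rw [← H20.pPart_mul_qPart (p := p) g]
  rw [QuotientGroup.mk_mul, show ((H20.pPart p g : G) : G ⧸ Q) = 1 from h1.symm, one_mul]

/-- and only one -/
theorem reg_lift_unique (hQ : IsPGroup p Q) (hG : Q ⊔ Subgroup.centralizer (Q : Set G) = ⊤)
    {g g' : G} (hg : ¬ p ∣ orderOf g) (hg' : ¬ p ∣ orderOf g')
    (h : (g : G ⧸ Q) = (g' : G ⧸ Q)) : g = g' := by
  have hu : g⁻¹ * g' ∈ Q := QuotientGroup.eq.1 h
  have hc : Commute (g⁻¹ * g') g :=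
    (H21.regular_mem_centralizer hQ hG hg _ hu)
  obtain ⟨j, hj⟩ := IsPGroup.iff_orderOf.1 hQ ⟨_, hu⟩
  rw [Subgroup.orderOf_mk] at hj
  have h1 := (H20.isPPart_unique' (p := p) (g := g') (x := g⁻¹ * g') (y := g)
    (by rw [hc.eq, mul_inv_cancel_left]) hc ⟨j, hj⟩ hg).1
  rw [H20.pPart_eq_one_iff.2 hg'] at h1
  exact (inv_mul_eq_one.1 h1)

variable (p Q) in
/-- pull back along the quotient map and cut down to the regular elements -/
noncomputable def liftMap : (G ⧸ Q → ℂ) →ₗ[ℂ] (G → ℂ) :=
  (H22.Sub.regMap p).comp (LinearMap.funLeft ℂ ℂ (QuotientGroup.mk' Q))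

theorem liftMap_apply (f : G ⧸ Q → ℂ) :
    liftMap p Q f = pRegularPart p (fun g : G => f (g : G ⧸ Q)) := rfl

theorem liftMap_irr (χ : IrrCharacter (G ⧸ Q)) :
    liftMap p Q (χ : G ⧸ Q → ℂ) = pRegularPart p (H21.inflate Q χ : G → ℂ) := rfl

theorem liftMap_reg (f : G ⧸ Q → ℂ) : liftMap p Q (pRegularPart p f) = liftMap p Q f := by
  classical
  funext g
  simp only [liftMap_apply, H22.pRegularPart_apply]
  by_cases hg : p ∣ orderOf g
  · rw [if_pos hg, if_pos hg]
  · rw [if_neg hg, if_neg hg, if_neg (not_dvd_mk (Q := Q) hg)]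

theorem liftMap_injOn {f : G ⧸ Q → ℂ} (hf : pRegularPart p f = f) (h : liftMap p Q f = 0) :
    f = 0 := by
  classical
  funext q
  by_cases hq : p ∣ orderOf q
  · rw [← hf, H22.pRegularPart_of_dvd _ hq]; rfl
  · obtain ⟨g, hg, rfl⟩ := exists_reg_lift hq
    have := congrFun h g
    rwa [liftMap_apply, H22.pRegularPart_of_not_dvd _ hg] at this

theorem inflate_one : H21.inflate Q (H12.oneIrr (G ⧸ Q)) = H12.oneIrr G :=
  Subtype.ext (funext fun _ => rfl)

theorem one_mem {K : Type u} [Group K] [Fintype K] :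
    H12.oneIrr K ∈ principalBlock M K := by
  rw [H20.principalBlock_eq]; exact H20.mem_blockOf_self _

theorem inflate_mem_iff (hM : IsPModular p M) (hQ : IsPGroup p Q)
    (hG : Q ⊔ Subgroup.centralizer (Q : Set G) = ⊤) (χ : IrrCharacter (G ⧸ Q)) :
    H21.inflate Q χ ∈ principalBlock M G ↔ χ ∈ principalBlock M (G ⧸ Q) := by
  classical
  set eb := H20.eRed M (principalBlock M (G ⧸ Q)) with heb
  let a : MonoidAlgebra (H20.k M) G :=
    H20.ofFun fun g => if p ∣ orderOf g then 0 else eb.coeff (g : G ⧸ Q)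
  have hacl : H20.IsCl a := by
    intro g y
    simp only [a, H20.coeff_ofFun]
    rw [H22.orderOf_conj_eq, QuotientGroup.mk_mul, QuotientGroup.mk_mul, QuotientGroup.mk_inv,
      H20.isCl_eRed (M := M) (principalBlock M (G ⧸ Q)) (g : G ⧸ Q) (y : G ⧸ Q)]
  have hmap : H21.qMap Q (H20.k M) a = eb := by
    ext q
    rw [H21.coeff_qMap]
    by_cases hq : p ∣ orderOf q
    · rw [Finset.sum_eq_zero fun g _ => ?_]
      · by_contra h
        exact H20.regular_of_coeff_ne_zero hM (H20.isPBlock_principalBlock (M := M) (G := G ⧸ Q)) (Ne.symm h) hq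
      · split_ifs with hg
        · subst hg
          rw [H20.coeff_ofFun, if_pos (hq.trans (orderOf_map_dvd (QuotientGroup.mk' Q) g))]
        · rfl
    · obtain ⟨g₀, hg₀, rfl⟩ := exists_reg_lift hq
      rw [Finset.sum_eq_single g₀]
      · rw [if_pos rfl, H20.coeff_ofFun, if_neg hg₀]
      · intro g _ hne
        split_ifs with hg
        · rw [H20.coeff_ofFun, if_pos]
          by_contra h
          exact hne (reg_lift_unique hQ hG h hg₀ hg)
        · rfl
      · exact fun h => absurd (Finset.mem_univ _) h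
  constructor
  · intro h
    have h1 : SameBlock M (H21.inflate Q χ : G → ℂ) (H21.inflate Q (H12.oneIrr (G ⧸ Q)) : G → ℂ) :=
      by
        rw [inflate_one]
        exact H20.sameBlock_of_mem H20.isPBlock_principalBlock h one_mem
    have h2 := H20.lam_eq_of_sameBlock h1 a
    rw [← H21.lam_qMap Q _ hacl, ← H21.lam_qMap Q _ hacl, hmap,
      H20.lam_eRed H20.isPBlock_principalBlock, H20.lam_eRed H20.isPBlock_principalBlock,
      if_pos (one_mem (K := G ⧸ Q))] at h2
    by_contra hne
    rw [if_neg hne] at h2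
    exact zero_ne_one h2
  · intro h
    have h1 : SameBlock M (χ : G ⧸ Q → ℂ) (H12.oneIrr (G ⧸ Q) : G ⧸ Q → ℂ) :=
      H20.sameBlock_of_mem H20.isPBlock_principalBlock h one_mem
    have h2 : SameBlock M (H21.inflate Q χ : G → ℂ)
        (H21.inflate Q (H12.oneIrr (G ⧸ Q)) : G → ℂ) := by
      rw [H20.sameBlock_iff]
      intro g
      rw [← H21.lam_qMap Q _ (H20.isCl_clSum _ g), ← H21.lam_qMap Q _ (H20.isCl_clSum _ g),
        H20.lam_eq_of_sameBlock h1]
    rw [inflate_one] at h2
    rw [H20.principalBlock_eq]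
    exact H20.sameBlock_symm (χ := H21.inflate Q χ) (ψ := H12.oneIrr G) h2

theorem map_regSpan (hM : IsPModular p M) (hQ : IsPGroup p Q)
    (hG : Q ⊔ Subgroup.centralizer (Q : Set G) = ⊤) :
    (H22.Sub.regSpan p (principalBlock M (G ⧸ Q))).map (liftMap p Q) =
      H22.Sub.regSpan p (principalBlock M G) := by
  classical
  refine le_antisymm ?_ ?_
  · rw [H22.Sub.regSpan, Submodule.map_span, Submodule.span_le]
    rintro _ ⟨_, ⟨χ, hχ, rfl⟩, rfl⟩
    show liftMap p Q (pRegularPart p (χ : G ⧸ Q → ℂ)) ∈ _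
    rw [liftMap_reg, liftMap_irr]
    exact Submodule.subset_span ⟨_, (inflate_mem_iff hM hQ hG χ).2 hχ, rfl⟩
  · conv_lhs => rw [H22.Sub.regSpan]
    rw [Submodule.span_le]
    rintro _ ⟨φ, hφ, rfl⟩
    show pRegularPart p (φ : G → ℂ) ∈ _
    let f : G ⧸ Q → ℂ := fun q =>
      if hq : p ∣ orderOf q then 0 else (φ : G → ℂ) (exists_reg_lift hq).choose
    have hf : ∀ {g : G}, ¬ p ∣ orderOf g → f (g : G ⧸ Q) = (φ : G → ℂ) g := fun {g} hg => by
      simp only [f, dif_neg (not_dvd_mk (Q := Q) hg)]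
      obtain ⟨h1, h2⟩ := (exists_reg_lift (not_dvd_mk (Q := Q) hg)).choose_spec
      rw [reg_lift_unique hQ hG h1 hg h2]
    have hfc : IsClassFunction (G ⧸ Q) f := by
      intro q c
      by_cases hq : p ∣ orderOf q
      · simp only [f, dif_pos hq, dif_pos (show p ∣ orderOf (c * q * c⁻¹) by rwa [H22.orderOf_conj_eq])]
      · obtain ⟨g, hg, rfl⟩ := exists_reg_lift hq
        obtain ⟨c, rfl⟩ := QuotientGroup.mk_surjective c
        rw [← QuotientGroup.mk_mul, ← QuotientGroup.mk_inv, ← QuotientGroup.mk_mul, hf hg,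
          hf (by rwa [H22.orderOf_conj_eq])]
        exact H12.irr_isClassFunction φ g c
    haveI := Fintype.ofFinite {b : Set (IrrCharacter (G ⧸ Q)) // IsPBlock M b}
    have hL : liftMap p Q f = pRegularPart p (φ : G → ℂ) := by
      funext g
      simp only [liftMap_apply, H22.pRegularPart_apply]
      split_ifs with hg
      · rfl
      · exact hf hg
    let B := principalBlock M G
    let B' : {b : Set (IrrCharacter (G ⧸ Q)) // IsPBlock M b} :=
      ⟨principalBlock M (G ⧸ Q), H20.isPBlock_principalBlock⟩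
    have hsum := congrArg (fun F => H22.Sub.partMap B (liftMap p Q F))
      (H22.Sub.sum_blockPart (M := M) hfc)
    simp only [map_sum] at hsum
    rw [hL, H22.Sub.partMap_apply (f := pRegularPart p (φ : G → ℂ)),
      H22.Sub.blockPart_of_mem_irrSpan (H22.Sub.regSpan_le_irrSpan hM H20.isPBlock_principalBlock
        (show pRegularPart p (φ : G → ℂ) ∈ H22.Sub.regSpan p B from Submodule.subset_span ⟨φ, hφ, rfl⟩)), Finset.sum_eq_single B'] at hsum
    · refine Eq.mpr (congrArg (· ∈ _) hsum.symm) ?_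
      have h1 : liftMap p Q (blockPart B'.1 f) ∈
          (H22.Sub.regSpan p (principalBlock M (G ⧸ Q))).map (liftMap p Q) := by
        rw [← liftMap_reg]
        exact Submodule.mem_map_of_mem (H22.Sub.regMap_blockPart_mem _ f)
      rw [H22.Sub.partMap_apply, H22.Sub.blockPart_of_mem_irrSpan]
      · exact h1
      · rw [H22.Sub.blockPart_eq_smul_sum, map_sum]
        refine Submodule.sum_mem _ fun χ hχ => ?_
        rw [map_smul, liftMap_irr]
        exact Submodule.smul_mem _ _ (H22.Sub.regSpan_le_irrSpan hM H20.isPBlock_principalBlock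
          (Submodule.subset_span ⟨_, (inflate_mem_iff hM hQ hG χ).2 (H22.mem_blockFinset.1 hχ), rfl⟩))
    · intro b _ hb
      rw [H22.Sub.blockPart_eq_smul_sum, map_sum, map_sum]
      refine Finset.sum_eq_zero fun χ hχ => ?_
      rw [map_smul, map_smul, liftMap_irr, H22.Sub.partMap_apply,
        H22.Sub.blockPart_of_mem_irrSpan_ne (B' := blockOf M (H21.inflate Q χ : G → ℂ))
          H20.isPBlock_principalBlock (H20.isPBlock_blockOf _) ?_
          (H22.Sub.regSpan_le_irrSpan hM (H20.isPBlock_blockOf _)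
            (Submodule.subset_span ⟨_, H20.mem_blockOf_self _, rfl⟩)), smul_zero]
      intro heq
      apply hb
      have hχ0 : χ ∈ principalBlock M (G ⧸ Q) :=
        (inflate_mem_iff hM hQ hG χ).1 (heq ▸ H20.mem_blockOf_self _)
      exact Subtype.ext (H20.block_eq_of_mem b.2 H20.isPBlock_principalBlock
        (H22.mem_blockFinset.1 hχ) hχ0)
    · exact fun h => absurd (Finset.mem_univ _) h

end

/-- Let Q be a normal p-subgroup of the finite group G with G = Q·C_G(Q), and M a maximal ideal of the algebraic integers containing p. Then the principal p-blocks of G and of G/Q have the same p-regular rank (the same number of irreducible Brauer characters). -/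
theorem result {G : Type*} [Group G] [Finite G] (p : ℕ) [Fact p.Prime] (M : Ideal Cfsg.AlgInt) (hM : Cfsg.IsPModular p M) (Q : Subgroup G) [Q.Normal] (hQ : IsPGroup p Q) (hsup : Q ⊔ Subgroup.centralizer (Q : Set G) = ⊤) : Cfsg.blockRank p (Cfsg.principalBlock M G) = Cfsg.blockRank p (Cfsg.principalBlock M (G ⧸ Q)) := by
  classical
  haveI := Fintype.ofFinite G
  haveI := Fintype.ofFinite (G ⧸ Q)
  haveI := H20.isPrime_of_modular hM
  change Module.finrank ℂ ↥(H22.Sub.regSpan p (principalBlock M G)) =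
    Module.finrank ℂ ↥(H22.Sub.regSpan p (principalBlock M (G ⧸ Q)))
  rw [← map_regSpan hM hQ hsup]
  set S := H22.Sub.regSpan p (principalBlock M (G ⧸ Q)) with hS
  have hinj : Function.Injective ((liftMap p Q).domRestrict S) := by
    rw [injective_iff_map_eq_zero]
    rintro ⟨f, hf⟩ h
    exact Subtype.ext (liftMap_injOn (H22.Sub.pRegularPart_of_mem_regSpan hf) h)
  rw [← Submodule.range_subtype S, ← LinearMap.range_comp]
  rw [Submodule.range_subtype S]
  exact LinearMap.finrank_range_of_inj hinj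

end Cfsg.Agent.S4571
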