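import Cfsg.Statements.S4574
import Cfsg.Agent.H19.GaloisAvg
import Cfsg.Agent.H12.Linear
import Cfsg.Agent.H12.Orth
-- import your own Cfsg.Agent.* helpers here

set_option autoImplicit false
open Cfsg

namespace Cfsg.Agent.S4574

theorem norm_pow_eq {G : Type*} [Group G] [Finite G] {χ : G → ℂ} (hχ : Cfsg.IsCharacter G χ)
    (hd : H12.degree χ ≠ 0) (g : G) (h : ‖χ g‖ = (H12.degree χ : ℝ)) (j : ℕ) :
    ‖χ (g ^ j)‖ = (H12.degree χ : ℝ) := by
  obtain ⟨n, ρ, rfl⟩ := hχ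
  rw [H12.degree_character] at h hd ⊢
  obtain ⟨ω, hω⟩ := H12.exists_scalar_of_norm_eq ρ g h
  have hval : ∀ i : ℕ, ρ.character (g ^ i) = ω ^ i * (Module.finrank ℂ (Fin n → ℂ) : ℂ) := by
    intro i
    have h1 : ρ (g ^ i) = ω ^ i • (LinearMap.id : (Fin n → ℂ) →ₗ[ℂ] (Fin n → ℂ)) := by
      rw [map_pow, hω, show (LinearMap.id : (Fin n → ℂ) →ₗ[ℂ] (Fin n → ℂ)) = (1 : Module.End ℂ (Fin n → ℂ))
        from rfl, smul_pow, one_pow]
    show LinearMap.trace ℂ (Fin n → ℂ) (ρ (g ^ i)) = _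
    rw [h1, map_smul, LinearMap.trace_id, smul_eq_mul]
  have hn : (0 : ℝ) < (Module.finrank ℂ (Fin n → ℂ) : ℝ) := by exact_mod_cast Nat.pos_of_ne_zero hd
  have hω1 : ‖ω‖ = 1 := by
    have := hval 1
    rw [pow_one, pow_one] at this
    rw [this, norm_mul, Complex.norm_natCast] at h
    exact mul_right_cancel₀ hn.ne' (by rw [h, one_mul])
  rw [hval, norm_mul, norm_pow, hω1, one_pow, one_mul, Complex.norm_natCast]

/-- Let χ be an irreducible character of the finite group G, of degree d, and let Z(χ) be the set of elements g with |χ g| = d (the centre of χ). Then χ vanishes on at least (d ^ 2 - 1) · |Z(χ)| elements of G, with equality when every value |χ g| is 0, 1 or d. -/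
theorem result {G : Type*} [Group G] [Fintype G] [DecidableEq G] (χ : G → ℂ) (hχ : Cfsg.IsIrrCharacter G χ) : (Cfsg.charDegree χ ^ 2 - 1) * (Finset.univ.filter (fun g : G => ‖χ g‖ = (Cfsg.charDegree χ : ℝ))).card ≤ (Finset.univ.filter (fun g : G => χ g = 0)).card ∧ ((∀ g : G, ‖χ g‖ = 0 ∨ ‖χ g‖ = 1 ∨ ‖χ g‖ = (Cfsg.charDegree χ : ℝ)) → (Cfsg.charDegree χ ^ 2 - 1) * (Finset.univ.filter (fun g : G => ‖χ g‖ = (Cfsg.charDegree χ : ℝ))).card = (Finset.univ.filter (fun g : G => χ g = 0)).card) := by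
  classical
  set d := Cfsg.charDegree χ with hd
  have hdeq : d = H12.degree χ := rfl
  have hd0 : d ≠ 0 := (H12.irr_degree_pos (⟨χ, hχ⟩ : Cfsg.IrrCharacter G)).ne'
  have hchar : Cfsg.IsCharacter G χ := H12.isCharacter_of_isIrrCharacter hχ
  set Z := Finset.univ.filter (fun g : G => ‖χ g‖ = (d : ℝ)) with hZ
  set O := Finset.univ.filter (fun g : G => χ g = 0) with hO
  set S := Finset.univ.filter (fun g : G => ‖χ g‖ ≠ (d : ℝ) ∧ χ g ≠ 0) with hS
  have hdisj : ∀ g : G, ‖χ g‖ = (d : ℝ) → χ g ≠ 0 := fun g h h0 => by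
    rw [h0, norm_zero] at h
    exact hd0 (by exact_mod_cast h.symm)
  have hsplit : ∀ f : G → ℝ, ∑ g : G, f g = ∑ g ∈ Z, f g + (∑ g ∈ O, f g + ∑ g ∈ S, f g) := by
    intro f
    rw [← Finset.sum_filter_add_sum_filter_not Finset.univ (fun g : G => ‖χ g‖ = (d : ℝ)) f]
    congr 1
    rw [← Finset.sum_filter_add_sum_filter_not (Finset.univ.filter fun g : G => ¬ ‖χ g‖ = (d : ℝ))
      (fun g : G => χ g = 0) f, Finset.filter_filter, Finset.filter_filter]
    congr 1
    refine Finset.sum_congr (Finset.ext fun g => ?_) fun _ _ => rfl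
    simp only [hO, Finset.mem_filter, Finset.mem_univ, true_and]
    exact ⟨fun h => h.2, fun h => ⟨fun h' => hdisj g h' h, h⟩⟩
  have hsum := H19.sum_normSq_irr (⟨χ, hχ⟩ : Cfsg.IrrCharacter G) (H12.classInner_irr_self _)
  rw [hsplit] at hsum
  have hcard := hsplit (fun _ => (1 : ℝ))
  simp only [Finset.sum_const, nsmul_eq_mul, mul_one, Finset.card_univ] at hcard
  rw [← Nat.card_eq_fintype_card] at hcard
  have h1 : ∑ g ∈ Z, ‖χ g‖ ^ 2 = (Z.card : ℝ) * (d : ℝ) ^ 2 := by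
    rw [Finset.sum_congr rfl (fun g hg => by rw [(Finset.mem_filter.mp hg).2]), Finset.sum_const,
      nsmul_eq_mul]
  have h2 : ∑ g ∈ O, ‖χ g‖ ^ 2 = 0 := Finset.sum_eq_zero fun g hg => by
    rw [(Finset.mem_filter.mp hg).2, norm_zero, zero_pow two_ne_zero]
  simp only [h1, h2, zero_add] at hsum
  have hd1 : 1 ≤ d ^ 2 := Nat.one_le_pow _ _ (Nat.pos_of_ne_zero hd0)
  have hkey : (S.card : ℝ) ≤ ∑ g ∈ S, ‖χ g‖ ^ 2 := by
    refine H19.card_le_sum_normSq hchar S (fun j hj g hg => ?_) fun g hg => (Finset.mem_filter.mp hg).2.2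
    obtain ⟨hne, h0⟩ := (Finset.mem_filter.mp hg).2
    refine Finset.mem_filter.mpr ⟨Finset.mem_univ _, fun h => hne ?_,
      H19.char_pow_ne_zero hchar Nat.card_pos g pow_card_eq_one' hj h0⟩
    obtain ⟨k, hk⟩ := exists_pow_eq_self_of_coprime (x := g) (n := j)
      (hj.symm.coprime_dvd_right (orderOf_dvd_natCard g))
    have := norm_pow_eq hchar (by rw [← hdeq]; exact hd0) (g ^ j) (by rw [← hdeq]; exact h) k
    rwa [hk, ← hdeq] at this
  constructor
  · suffices h : (((d ^ 2 - 1) * Z.card : ℕ) : ℝ) ≤ (O.card : ℝ) by exact_mod_cast h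
    push_cast [Nat.cast_sub hd1]
    nlinarith
  · intro hall
    have hSsum : ∑ g ∈ S, ‖χ g‖ ^ 2 = (S.card : ℝ) := by
      rw [Finset.sum_congr rfl (g := fun _ => (1 : ℝ)) (fun g hg => ?_), Finset.sum_const, nsmul_eq_mul,
        mul_one]
      obtain ⟨hne, h0⟩ := (Finset.mem_filter.mp hg).2
      rcases hall g with h | h | h
      · exact absurd (norm_eq_zero.mp h) h0
      · rw [h, one_pow]
      · exact absurd h hne
    suffices h : (((d ^ 2 - 1) * Z.card : ℕ) : ℝ) = (O.card : ℝ) by exact_mod_cast h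
    push_cast [Nat.cast_sub hd1]
    rw [hSsum] at hsum
    nlinarith


end Cfsg.Agent.S4574
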