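import Cfsg.Statements.S4575
import Cfsg.Agent.H19.MajorDyadic

set_option autoImplicit false
open Cfsg

namespace Cfsg.Agent.S4575

/-- Let B be a 2-block of the finite group G (relative to a maximal ideal M of the algebraic integers containing 2) of defect d with defect group D. Let z be an element of D commuting with every element of D, and let b be a block of the centralizer of z with defect group D that induces B (a major subsection (z, b)). If the number of irreducible characters in B exceeds the 2-regular rank of b by at most three, then B contains at most 2 ^ d irreducible characters. -/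
theorem result {G : Type*} [Group G] [Finite G] (M : Ideal Cfsg.AlgInt) (hM : Cfsg.IsPModular 2 M) (B : Set (Cfsg.IrrCharacter G)) (hB : Cfsg.IsPBlock M B) (D : Subgroup G) (hD : Cfsg.IsDefectGroup 2 M B D) (z : G) (hzD : z ∈ D) (hzc : ∀ d ∈ D, d * z = z * d) (b : Set (Cfsg.IrrCharacter ↥(Subgroup.centralizer ({z} : Set G)))) (hb : Cfsg.IsInducedBlock M (Subgroup.centralizer ({z} : Set G)) b B) (hbD : Cfsg.IsDefectGroup 2 M b (D.subgroupOf (Subgroup.centralizer ({z} : Set G)))) (h : Nat.card B ≤ Cfsg.blockRank 2 b + 3) : Nat.card B ≤ 2 ^ Cfsg.blockDefect 2 B := by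
  classical
  haveI := Fintype.ofFinite G
  haveI := Fintype.ofFinite ↥(Subgroup.centralizer ({z} : Set G))
  haveI : M.IsPrime := H20.isPrime_of_modular hM
  haveI : Fact (Nat.Prime 2) := ⟨Nat.prime_two⟩
  have hDp : IsPGroup 2 D := IsPGroup.of_card (H20.card_defectGroup hM hB hD)
  obtain ⟨k, hk⟩ := IsPGroup.iff_orderOf.1 hDp ⟨z, hzD⟩
  rw [Subgroup.orderOf_mk] at hk
  have hle : D ≤ Subgroup.centralizer ({z} : Set G) := fun d hd =>
    Subgroup.mem_centralizer_singleton_iff.2 (hzc d hd)
  have h1 := H20.card_defectGroup hM hb.1 hbD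
  rw [Nat.card_congr (Subgroup.subgroupOfEquivOfLe hle).toEquiv,
    H20.card_defectGroup hM hB hD] at h1
  have hd := (Nat.pow_right_injective le_rfl h1).symm
  rcases Nat.eq_zero_or_pos (Cfsg.blockDefect 2 B) with h0 | hpos
  · have := H22.four_mul_card_le hM hB
    rw [h0, mul_zero, pow_zero] at this
    rw [h0, pow_zero]
    omega
  have key := H19.MajorTwo.weighted_count_le hM ⟨k, hk⟩ _ rfl hb hd (Or.inr ⟨hpos, h⟩)
  have h3 : 3 * (H22.blockFinset B).card ≤ 3 * 2 ^ Cfsg.blockDefect 2 B := by
    refine le_trans ?_ key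
    rw [mul_comm, ← smul_eq_mul, ← Finset.sum_const]
    refine Finset.sum_le_sum fun χ _ => ?_
    split_ifs with hχ
    · exact le_rfl
    · have : 2 ^ 1 ≤ 2 ^ Cfsg.blockHeight 2 B (χ : G → ℂ) :=
        Nat.pow_le_pow_right (by norm_num) (Nat.one_le_iff_ne_zero.2 hχ)
      omega
  rw [H22.natCard_block]
  omega

end Cfsg.Agent.S4575
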