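import Cfsg.Statements.S4580
import Cfsg.Agent.H22.BlockClasses
import Cfsg.Agent.H25.PerfectNormal
import Cfsg.Agent.H25.Galois
import Cfsg.Agent.H13.Gallagher
import Cfsg.Agent.H14.DetChar
import Cfsg.Agent.H20.PrincipalFreeApps

set_option autoImplicit false
set_option linter.style.haveILetI false
open Cfsg
open scoped ComplexConjugate

namespace Cfsg.Agent.S4580

universe u

theorem exists_twist {G : Type u} [Group G] [Finite G] (χ : IrrCharacter G) (l : G →* ℂˣ) :
    ∃ ψ : IrrCharacter G, ∀ g, (ψ : G → ℂ) g = (l g : ℂ) * (χ : G → ℂ) g := by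
  obtain ⟨n, ρ, hρ, hρχ⟩ := χ.2
  haveI := hρ
  haveI := H14.twistRep_isIrreducible l ρ
  refine ⟨⟨(H14.twistRep l ρ).character, H12.isIrrCharacter_character _⟩, fun g => ?_⟩
  show (H14.twistRep l ρ).character g = _
  rw [H14.twistRep_character, Pi.mul_apply, hρχ]

/-- A real-valued odd-degree irreducible character of a normal subgroup that extends has an extension in the principal 2-block. -/
theorem result {G : Type*} [Group G] [Finite G] (N : Subgroup G) [N.Normal] (M : Ideal Cfsg.AlgInt) (hM : Cfsg.IsPModular 2 M) (θ : Cfsg.IrrCharacter N) (hreal : ∀ n : N, ((θ : N → ℂ) n).im = 0) (hodd : Odd (Cfsg.charDegree (θ : N → ℂ))) (hext : ∃ η : Cfsg.IrrCharacter G, ∀ n : N, (η : G → ℂ) n = (θ : N → ℂ) n) :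
    ∃ η : Cfsg.IrrCharacter G, (∀ n : N, (η : G → ℂ) n = (θ : N → ℂ) n) ∧ η ∈ Cfsg.principalBlock M G := by
  classical
  haveI := Fintype.ofFinite G
  haveI := Fintype.ofFinite N
  haveI : Fintype (G ⧸ N) := Fintype.ofFinite _
  haveI : Fact (Nat.Prime 2) := ⟨Nat.prime_two⟩
  haveI := H20.isPrime_of_modular hM
  haveI := H20.k_charP hM
  obtain ⟨η, hη⟩ := hext
  have hconj : ∀ ξ : IrrCharacter G, ∃ ξ' : IrrCharacter G, ∀ g, (ξ' : G → ℂ) g = (ξ : G → ℂ) g⁻¹ := by
    intro ξ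
    have hk : Nat.Coprime (Nat.card G - 1) (Nat.card G) :=
      (Nat.coprime_self_sub_left (Nat.card_pos (α := G))).2 (Nat.coprime_one_left _)
    refine ⟨⟨fun g => (ξ : G → ℂ) (g ^ (Nat.card G - 1)), H25.isIrrCharacter_comp_pow ξ.2 hk⟩,
      fun g => ?_⟩
    show (ξ : G → ℂ) (g ^ (Nat.card G - 1)) = _
    have : g ^ (Nat.card G - 1) = g⁻¹ := eq_inv_of_mul_eq_one_left (by
      rw [← pow_succ, Nat.sub_add_cancel (Nat.card_pos (α := G)), pow_card_eq_one'])
    rw [this]
  obtain ⟨η₁, hη₁⟩ := hconj η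
  have hres : IsIrrCharacter N (fun n : N => (η : G → ℂ) n) := by
    rw [show (fun n : N => (η : G → ℂ) n) = (θ : N → ℂ) from funext hη]
    exact θ.2
  have h1res : ∀ n : N, (η₁ : G → ℂ) n = (θ : N → ℂ) n := by
    intro n
    rw [hη₁, ← H20.conj_irr_eq, hη, Complex.conj_eq_iff_im.2 (hreal n)]
  obtain ⟨β, hβ⟩ := H13.gallagher_exists N (H12.isCharacter_irr η) hres η₁.2 (by
    rw [show (fun n : N => (η₁ : G → ℂ) n) = (θ : N → ℂ) from funext h1res,
      show (fun n : N => (η : G → ℂ) n) = (θ : N → ℂ) from funext hη, H12.classInner_irr_self]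
    exact one_ne_zero)
  have hβ1 : (β : G ⧸ N → ℂ) 1 = 1 := by
    have h := congrFun hβ 1
    rw [hη₁, inv_one, Pi.mul_apply, H13.inflateIrr_apply] at h
    exact (mul_left_eq_self₀.1 h.symm).resolve_right (H12.irr_apply_one_ne_zero η)
  obtain ⟨l₀, hl₀⟩ := H25.exists_hom_of_charDegree_one β (by
    have h := H12.irr_apply_one β
    rw [hβ1] at h
    exact (Nat.cast_eq_one.1 h.symm : _))
  let l : G →* ℂˣ := l₀.comp (QuotientGroup.mk' N)
  have hl : ∀ g : G, (η : G → ℂ) g⁻¹ = (l g : ℂ) * (η : G → ℂ) g := by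
    intro g
    rw [← hη₁, congrFun hβ g, Pi.mul_apply, H13.inflateIrr_apply, ← hl₀]
    rfl
  have hlN : ∀ n : N, l n = 1 := fun n => by
    simp only [l, MonoidHom.comp_apply, QuotientGroup.mk'_apply, (QuotientGroup.eq_one_iff _).2 n.2, map_one]
  set a := (Nat.card G).factorization 2 with ha
  set m := Nat.card G / 2 ^ a with hm
  have hmodd : Odd m := Nat.odd_iff.2 (Nat.two_dvd_ne_zero.1
    (Nat.not_dvd_ordCompl Nat.prime_two Nat.card_pos.ne'))
  obtain ⟨s, hs⟩ := hmodd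
  let μ : G →* ℂˣ := l ^ (s + 1)
  obtain ⟨η', hη'⟩ := exists_twist η μ
  have hdeg : ¬ 2 ∣ charDegree (η' : G → ℂ) := by
    have h1 : (charDegree (η' : G → ℂ) : ℂ) = (charDegree (θ : N → ℂ) : ℂ) := by
      have e1 : (η' : G → ℂ) 1 = (charDegree (η' : G → ℂ) : ℂ) := H12.irr_apply_one η'
      have e2 : (θ : N → ℂ) 1 = (charDegree (θ : N → ℂ) : ℂ) := H12.irr_apply_one θ
      have e3 : (η : G → ℂ) 1 = (θ : N → ℂ) 1 := by simpa using hη 1
      rw [← e1, ← e2, ← e3, hη', map_one, Units.val_one, one_mul]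
    rw [Nat.cast_inj.1 h1]
    exact fun h2 => Nat.not_even_iff_odd.2 hodd (even_iff_two_dvd.2 h2)
  refine ⟨η', fun n => ?_, ?_⟩
  · simp only [hη', μ, MonoidHom.pow_apply, hlN, one_pow, Units.val_one, one_mul, hη]
  have hB : IsPBlock M (blockOf M (η' : G → ℂ)) := H20.isPBlock_blockOf η'
  have hfull : blockDefect 2 (blockOf M (η' : G → ℂ)) = (Nat.card G).factorization 2 := by
    unfold blockDefect
    have h0 : sInf ((fun ξ : IrrCharacter G => (charDegree (ξ : G → ℂ)).factorization 2) ''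
        blockOf M (η' : G → ℂ)) = 0 := by
      apply Nat.eq_zero_of_le_zero
      exact Nat.sInf_le ⟨η', H20.mem_blockOf_self η', Nat.factorization_eq_zero_of_not_dvd hdeg⟩
    rw [h0, Nat.sub_zero]
  rw [← H22.eq_principalBlock_of_twist hM hB hfull (fun g => g⁻¹) inv_involutive.bijective inv_one
    (fun _ _ => rfl) ?_]
  · exact H20.mem_blockOf_self η'
  intro ξ hξ
  obtain ⟨ξ', hξ'⟩ := hconj ξ
  refine ⟨ξ', ?_, hξ'⟩
  intro g
  have hc : Subgroup.centralizer ({g⁻¹} : Set G) = Subgroup.centralizer ({g} : Set G) := by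
    ext x
    simp only [Subgroup.mem_centralizer_singleton_iff]
    exact ⟨fun h => by simpa using (show Commute x g⁻¹ from h).inv_right.eq,
      fun h => (show Commute x g from h).inv_right.eq⟩
  have hωinv : ∀ φ φ' : IrrCharacter G, (∀ x, (φ' : G → ℂ) x = (φ : G → ℂ) x⁻¹) →
      centralChar (φ' : G → ℂ) g = centralChar (φ : G → ℂ) g⁻¹ := by
    intro φ φ' h
    simp only [centralChar, h, hc, inv_one]
  -- the twisting root of unity
  have hpow : (((μ g⁻¹ : ℂˣ) : ℂ) * (l g : ℂ) * ((μ g : ℂˣ) : ℂ)⁻¹) ^ 2 ^ a = 1 := by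
    have h1 : (μ g⁻¹ * l g * (μ g)⁻¹) ^ 2 ^ a = 1 := by
      have hcard : l g ^ (2 ^ a * m) = 1 := by
        rw [hm, Nat.mul_div_cancel' (Nat.ordProj_dvd _ _), ← map_pow, pow_card_eq_one', map_one]
      have e : μ g⁻¹ * l g * (μ g)⁻¹ = (l g ^ m)⁻¹ := by
        simp only [μ, MonoidHom.pow_apply, map_inv, hs]
        group
      rw [e, inv_pow, ← pow_mul, mul_comm m, hcard, inv_one]
    have := congrArg (fun u : ℂˣ => (u : ℂ)) h1
    simpa using this
  set z := ((μ g⁻¹ : ℂˣ) : ℂ) * (l g : ℂ) * ((μ g : ℂˣ) : ℂ)⁻¹ with hz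
  have hzO : MemLocalRing M z := H20.memRing_of_isIntegral
    ⟨Polynomial.X ^ 2 ^ a - 1, Polynomial.monic_X_pow_sub_C 1 (by positivity), by simp [hpow]⟩
  have hz1 : H20.redC M z = 1 := by
    have h1 : H20.redC M z ^ 2 ^ a = 1 := by
      have h2 : ∀ n : ℕ, MemLocalRing M (z ^ n) ∧ H20.redC M (z ^ n) = H20.redC M z ^ n := by
        intro n
        induction n with
        | zero => exact ⟨by simpa using H20.memRing_natCast (M := M) 1, by simp [H20.redC_one]⟩
        | succ n ih =>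
          refine ⟨by rw [pow_succ]; exact H20.memRing_mul ih.1 hzO, ?_⟩
          rw [pow_succ, pow_succ, H20.redC_mul ih.1 hzO, ih.2]
      rw [← (h2 _).2, hpow, H20.redC_one]
    have h3 : (H20.redC M z - 1) ^ 2 ^ a = 0 := by
      rw [sub_pow_char_pow, one_pow, h1, sub_self]
    exact sub_eq_zero.1 (eq_zero_of_pow_eq_zero h3)
  have hval : ∀ x, centralChar (η' : G → ℂ) x = ((μ x : ℂˣ) : ℂ) * centralChar (η : G → ℂ) x := by
    intro x
    simp only [centralChar, hη', map_one, Units.val_one, one_mul]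
    ring
  have hval' : centralChar (η' : G → ℂ) g⁻¹ = z * centralChar (η' : G → ℂ) g := by
    rw [hval, hval, hz]
    simp only [centralChar, hl, hc]
    field_simp [(μ g).ne_zero]
  have hredη : H20.redC M (centralChar (η' : G → ℂ) g⁻¹) = H20.redC M (centralChar (η' : G → ℂ) g) := by
    rw [hval', H20.redC_mul hzO (H20.memRing_centralChar η' g), hz1, one_mul]
  have e1 : H20.redC M (centralChar (ξ : G → ℂ) g⁻¹) = H20.redC M (centralChar (η' : G → ℂ) g⁻¹) :=
    ((H20.redC_eq_iff (H20.memRing_centralChar _ _) (H20.memRing_centralChar _ _)).2 (hξ g⁻¹)).symm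
  refine (H20.redC_eq_iff (H20.memRing_centralChar _ _) (H20.memRing_centralChar _ _)).1 ?_
  rw [hωinv ξ ξ' hξ', e1, hredη]

end Cfsg.Agent.S4580
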