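import Cfsg.Statements.S4581
import Cfsg.Agent.H25.RealOddAll

set_option autoImplicit false
open Cfsg

namespace Cfsg.Agent.S4581

/-- Let G be a finite solvable group, P a Sylow 2-subgroup and N its normalizer. Then G and N have the same number of real-valued irreducible characters of odd degree; and every odd-degree irreducible character of G is real-valued exactly when the derived subgroup of P equals the Frattini subgroup of P and P is its own normalizer in G. -/
theorem result {G : Type*} [Group G] [Finite G] [Group.IsSolvable G] (P : Sylow 2 G) :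
    Nat.card {χ : Cfsg.IrrCharacter G // (∀ g : G, ((χ : G → ℂ) g).im = 0) ∧ Odd (Cfsg.charDegree (χ : G → ℂ))} =
      Nat.card {ψ : Cfsg.IrrCharacter (Subgroup.normalizer ((P : Subgroup G) : Set G)) // (∀ g, ((ψ : Subgroup.normalizer ((P : Subgroup G) : Set G) → ℂ) g).im = 0) ∧ Odd (Cfsg.charDegree (ψ : Subgroup.normalizer ((P : Subgroup G) : Set G) → ℂ))} ∧
    ((∀ χ : Cfsg.IrrCharacter G, Odd (Cfsg.charDegree (χ : G → ℂ)) → ∀ g : G, ((χ : G → ℂ) g).im = 0) ↔
      (commutator (P : Subgroup G) = frattini (P : Subgroup G) ∧ Subgroup.normalizer ((P : Subgroup G) : Set G) = (P : Subgroup G))) := by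
  haveI : Fact (Nat.Prime 2) := ⟨Nat.prime_two⟩
  refine ⟨?_, ?_⟩
  · refine Eq.trans (Nat.card_congr (Equiv.subtypeEquivRight fun χ => and_congr_left' ?_))
      ((H25.RealOdd.card_RO_normalizer P).trans
        (Nat.card_congr (Equiv.subtypeEquivRight fun ψ => and_congr_left' ?_)))
    · exact H25.RealOdd.isReal_iff_im.symm
    · exact H25.RealOdd.isReal_iff_im
  · have hp : IsPGroup 2 (P : Subgroup G) := P.isPGroup'
    constructor
    · intro h
      obtain ⟨h1, h2⟩ := H25.RealOdd.cond_of_allReal P
        (fun χ hχ => H25.RealOdd.isReal_iff_im.2 (h χ hχ))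
      refine ⟨le_antisymm (H6.commutator_le_frattini hp)
        (H6.frattini_le_of_quotient (p := 2) _ le_rfl fun x => ?_),
        le_antisymm h1 Subgroup.le_normalizer⟩
      have h3 := h2 x x.2
      rw [← Subgroup.map_subtype_commutator] at h3
      obtain ⟨y, hy, hyx⟩ := h3
      rw [sq]
      rwa [show y = x * x from Subtype.ext hyx] at hy
    · rintro ⟨hc, hn⟩ χ hχ
      refine H25.RealOdd.isReal_iff_im.1 (H25.RealOdd.allReal_of_cond P ⟨hn.le, fun x hx => ?_⟩ χ hχ)
      have h3 := H6.pow_prime_mem_frattini hp (⟨x, hx⟩ : (P : Subgroup G))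
      rw [← hc, sq] at h3
      rw [← Subgroup.map_subtype_commutator]
      exact ⟨_, h3, rfl⟩

end Cfsg.Agent.S4581
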