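import Cfsg.Statements.S4582
import Cfsg.Agent.H18.Generators
import Mathlib.GroupTheory.Transfer


set_option autoImplicit false
open Cfsg

namespace Cfsg.Agent.S4582

/-- Let N be a normal subgroup of the finite group G, P a Sylow 2-subgroup of G and Q = P ∩ N. Suppose that P/QP' and Q/Q' are elementary abelian (every square of an element of P lies in the subgroup generated by Q and the derived subgroup of P, and every square of an element of Q lies in the derived subgroup of Q), and that the commutator factor group N/N' has odd order. Then P/P' is elementary abelian. -/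
theorem result {G : Type*} [Group G] [Finite G] (N : Subgroup G) [N.Normal] (P : Sylow 2 G)
    (hP : ∀ x ∈ (P : Subgroup G), x ^ 2 ∈ ((P : Subgroup G) ⊓ N) ⊔ ⁅(P : Subgroup G), (P : Subgroup G)⁆)
    (hQ : ∀ x ∈ (P : Subgroup G) ⊓ N, x ^ 2 ∈ ⁅(P : Subgroup G) ⊓ N, (P : Subgroup G) ⊓ N⁆)
    (hodd : Odd (Nat.card (Abelianization N))) :
    ∀ x ∈ (P : Subgroup G), x ^ 2 ∈ ⁅(P : Subgroup G), (P : Subgroup G)⁆ := by
  set K := N ⊔ (P : Subgroup G) with hK
  have hPK : (P : Subgroup G) ≤ K := le_sup_right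
  set P' := (P : Subgroup G).subgroupOf K with hP'
  set N' := N.subgroupOf K with hN'
  set V : K →* Abelianization P' := MonoidHom.transfer (Abelianization.of (G := P')) with hV
  let φ : P' →* Abelianization P' := Abelianization.of
  haveI : Finite (Abelianization P') := inferInstanceAs (Finite (P' ⧸ commutator P'))
  haveI : Finite (Abelianization N) := inferInstanceAs (Finite (N ⧸ commutator N))
  have hPg : IsPGroup 2 P' := P.isPGroup'.comap_subtype
  have hA : IsPGroup 2 (Abelianization P') := hPg.to_quotient (commutator P')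
  have hidx : Odd P'.index := by
    rw [Nat.odd_iff, ← Nat.two_dvd_ne_zero]
    exact fun h => P.not_dvd_index (h.trans (Subgroup.relIndex_dvd_index_of_le hPK |>.trans dvd_rfl))
  have kill2 : ∀ (a : Abelianization P') (m : ℕ), Odd m → a ^ m = 1 → a = 1 := by
    intro a m hm ha
    obtain ⟨k, hk⟩ := IsPGroup.iff_orderOf.mp hA a
    have hd := orderOf_dvd_of_pow_eq_one ha
    rw [hk] at hd
    have h2 : (2 ^ k).Coprime m := (Nat.coprime_two_left.mpr hm).pow_left k
    rw [← orderOf_eq_one_iff, hk]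
    exact h2.eq_one_of_dvd hd
  have hVN : ∀ q : K, (q : G) ∈ N → V q = 1 := by
    intro q hq
    let VN : Abelianization N →* Abelianization P' :=
      Abelianization.lift (V.comp (Subgroup.inclusion (le_sup_left : N ≤ K)))
    have h2 : V q ^ Nat.card (Abelianization N) = 1 := by
      have h3 : V q = VN (Abelianization.of ⟨q, hq⟩) := by
        rw [Abelianization.lift_apply_of]
        rfl
      rw [h3, ← map_pow, pow_card_eq_one', map_one]
    exact kill2 _ _ hodd h2
  have hQ2 : ∀ q : P', ((q : K) : G) ∈ N → φ q ^ 2 = 1 := by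
    intro q hq
    rw [← map_pow, ← MonoidHom.mem_ker, Abelianization.ker_of]
    have h1 := hQ _ ⟨q.2, hq⟩
    have h2 : ⁅(P : Subgroup G) ⊓ N, (P : Subgroup G) ⊓ N⁆ ≤ ((commutator P').map (K.subtype.comp P'.subtype)) := by
      rw [commutator_def, Subgroup.map_commutator]
      have : (P : Subgroup G) ⊓ N ≤ (⊤ : Subgroup P').map (K.subtype.comp P'.subtype) :=
        fun z hz => ⟨⟨⟨z, hPK hz.1⟩, hz.1⟩, trivial, rfl⟩
      exact Subgroup.commutator_mono this this
    obtain ⟨w, hw, hwq⟩ := h2 h1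
    have : w = q ^ 2 := Subtype.ext (Subtype.ext hwq)
    rwa [this] at hw
  intro x hx
  let xk : K := ⟨x, hPK hx⟩
  let xp : P' := ⟨xk, hx⟩
  have hx2 := hP x hx
  have hterm : ∀ (r : ℕ) (a : K) (h : a⁻¹ * xk ^ r * a ∈ P'),
      φ ⟨a⁻¹ * xk ^ r * a, h⟩ ^ 2 = (φ xp ^ 2) ^ r := by
    intro r a h
    obtain ⟨n, hn, u, hu, hnu⟩ := Subgroup.mem_sup_of_normal_left.mp a.2
    set y : P' := ⟨a⁻¹ * xk ^ r * a, h⟩
    let up : P' := ⟨⟨u, hPK hu⟩, hu⟩
    set q : P' := (xp ^ r)⁻¹ * (up * y * up⁻¹) with hq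
    have hqN : ((q : K) : G) ∈ N := by
      have h1 : ((q : K) : G) = (x ^ r)⁻¹ * (n⁻¹ * x ^ r * n) := by
        simp only [hq, xp, xk, up, y, Subgroup.coe_mul, Subgroup.coe_inv, Subgroup.coe_pow, ← hnu]
        group
      rw [h1]
      have h2 := N.mul_mem (Subgroup.Normal.conj_mem inferInstance n⁻¹ (N.inv_mem hn) (x ^ r)⁻¹) hn
      simpa [mul_assoc] using h2
    have hy : y = up⁻¹ * (xp ^ r * q) * up := by rw [hq]; group
    rw [hy, map_mul, map_mul, map_inv, inv_mul_cancel_comm, map_mul, mul_pow, hQ2 q hqN, mul_one,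
      map_pow, ← pow_mul, ← pow_mul, mul_comm]
  classical
  haveI : Fintype (Quotient (MulAction.orbitRel (Subgroup.zpowers xk) (K ⧸ P'))) :=
    Fintype.ofFinite _
  have hVx : V xk ^ 2 = (φ xp ^ 2) ^ P'.index := by
    rw [hV, MonoidHom.transfer_eq_prod_quotient_orbitRel_zpowers_quot, ← Finset.prod_pow,
      Subgroup.index_eq_sum_minimalPeriod P' xk, ← Finset.prod_pow_eq_pow_sum]
    exact Finset.prod_congr rfl fun q _ => hterm _ _ _
  have hVx2 : V xk ^ 2 = 1 := by
    rw [← map_pow]
    have hPn : ((P : Subgroup G) ⊓ N) ⊔ ⁅(P : Subgroup G), (P : Subgroup G)⁆ ≤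
        V.ker.map K.subtype := by
      refine sup_le (fun z hz => ⟨⟨z, hPK hz.1⟩, hVN _ hz.2, rfl⟩) ?_
      refine le_trans (Subgroup.commutator_mono hPK hPK) ?_
      rw [← Subgroup.map_subtype_commutator]
      exact Subgroup.map_mono (Abelianization.commutator_subset_ker V)
    obtain ⟨w, hw, hwx⟩ := hPn hx2
    have : w = xk ^ 2 := Subtype.ext hwx
    rwa [this] at hw
  have hfin : φ (xp ^ 2) = 1 := by
    rw [map_pow]
    exact kill2 _ _ hidx (hVx ▸ hVx2)
  rw [← MonoidHom.mem_ker, Abelianization.ker_of] at hfin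
  have h1 : x ^ 2 ∈ (commutator P').map (K.subtype.comp P'.subtype) := ⟨_, hfin, rfl⟩
  rw [commutator_def, Subgroup.map_commutator] at h1
  refine Subgroup.commutator_mono ?_ ?_ h1 <;>
  · rintro _ ⟨z, -, rfl⟩
    exact z.2

end Cfsg.Agent.S4582
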