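import Cfsg.Statements.S4583
import Cfsg.Agent.H23.Bridge
import Cfsg.Agent.H23.DefectPair
import Cfsg.Agent.H22.BlockClasses
import Cfsg.Agent.H20.BlockApps
import Cfsg.Agent.H12.Induction
import Cfsg.Agent.H24.CharBasic
import Cfsg.Agent.H20.BlockNormal

set_option autoImplicit false
set_option linter.style.haveILetI false
set_option linter.unusedSectionVars false
open Cfsg H23
open scoped ComplexConjugate MonoidAlgebra

namespace Cfsg.Agent.S4583

section
universe u
variable {G : Type u} [Group G] [Fintype G] {p : ℕ} [hp : Fact p.Prime] {M : Ideal AlgInt}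
  [M.IsPrime]

theorem one_mem {K : Type u} [Group K] [Fintype K] : H12.oneIrr K ∈ principalBlock M K := by
  rw [H20.principalBlock_eq]; exact H20.mem_blockOf_self _

/-- In the centraliser of a Sylow subgroup the regular elements form the `p'`-core. -/
theorem regular_mem_core (P : Sylow p G)
    {h : Subgroup.centralizer ((P : Subgroup G) : Set G)} (hh : ¬ p ∣ orderOf h) :
    h ∈ pPrimeCore p (Subgroup.centralizer ((P : Subgroup G) : Set G)) := by
  set C := Subgroup.centralizer ((P : Subgroup G) : Set G) with hC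
  haveI := Fintype.ofFinite C
  obtain ⟨S⟩ : Nonempty (Sylow p C) := inferInstance
  have hSP : (S : Subgroup C).map C.subtype ≤ (P : Subgroup G) := by
    have hle : (S : Subgroup C).map C.subtype ≤ Subgroup.normalizer ((P : Subgroup G) : Set G) :=
      (Subgroup.map_subtype_le _).trans (Subgroup.centralizer_le_normalizer _)
    exact le_sup_left.trans
      (P.3 ((S.2.map C.subtype).to_sup_of_normal_right' P.2 hle) le_sup_right).le
  have hS : Subgroup.normalizer ((S : Subgroup C) : Set C) ≤
      Subgroup.centralizer ((S : Subgroup C) : Set C) := by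
    intro c _ x hx
    exact Subtype.ext (Subgroup.mem_centralizer_iff.1 c.2 (x : G) (hSP ⟨x, hx, rfl⟩))
  have hK := MonoidHom.ker_transferSylow_isComplement' S hS
  set K := (MonoidHom.transferSylow S hS).ker
  obtain ⟨j, hj⟩ := S.2.exists_card_eq
  have hidx : K.index = p ^ j := by rw [hK.symm.index_eq_card, hj]
  have hcard : ¬ p ∣ Nat.card K := by
    rw [← hK.index_eq_card]; exact S.not_dvd_index
  exact H1.le_pPrimeCore ((hp.out.coprime_iff_not_dvd.2 hcard).symm)
    (H20.pRegular_mem_of_index hp.out ⟨j, hidx⟩ hh)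

variable [CharP (H20.k M) p] [IsAlgClosed (H20.k M)]

/-- The Brauer image of the principal idempotent at a Sylow subgroup is principal. -/
theorem Br_eB_principal (P : Sylow p G) :
    Br (P : Subgroup G) (eB M (principalBlock M G)) =
      eG M (Subgroup.centralizer ((P : Subgroup G) : Set G))
        (principalBlock M (Subgroup.centralizer ((P : Subgroup G) : Set G))) := by
  haveI := Fintype.ofFinite (Subgroup.centralizer ((P : Subgroup G) : Set G))
  have hE := isBlk_eB (M := M) (B := principalBlock M G) H20.isPBlock_principalBlock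
  have hw := hE.cidem.Br P.2 le_top (hE.cidem.fix.mono le_top)
  have hf := isBlk_eG (M := M) (G := G)
    (e := principalBlock M (Subgroup.centralizer ((P : Subgroup G) : Set G)))
    H20.isPBlock_principalBlock
  set w := Br (P : Subgroup G) (eB M (principalBlock M G)) with hwdef
  set f := eG M (Subgroup.centralizer ((P : Subgroup G) : Set G))
    (principalBlock M (Subgroup.centralizer ((P : Subgroup G) : Set G))) with hfdef
  have hfw : f * w = f :=
    inBlk_principal p hE aug_eB_principal ⟨P.2, hf⟩ (aug_eG_principal _)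
  by_contra hne
  have hv : CIdem (Subgroup.centralizer ((P : Subgroup G) : Set G)) (w * (1 - f)) :=
    hw.mul hf.cidem.one_sub
  have hv0 : w * (1 - f) ≠ 0 := by
    rw [mul_sub, mul_one, CIdem.comm hw.fix hw.supp hf.cidem.supp, hfw, sub_ne_zero]
    exact hne
  obtain ⟨g, hg, hgv⟩ := hv.exists_blk_le hv0
  have hgw : g * w = g := by
    conv_lhs => rw [← hgv]
    rw [mul_assoc, mul_assoc, CIdem.comm hf.cidem.one_sub.fix hf.cidem.one_sub.supp hw.supp,
      ← mul_assoc w w, hw.idem, hgv]
  have hgf : g = f := principal_unique hg hf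
    (aug_eq_one_of_inBlk p hE aug_eB_principal ⟨P.2, hg⟩ hgw) (aug_eG_principal _)
  apply hg.ne_zero
  rw [← hgv, hgf, CIdem.comm hw.fix hw.supp hf.cidem.one_sub.supp, ← mul_assoc, mul_sub, mul_one,
    hf.cidem.idem, sub_self, zero_mul]

/-- The sum of the coefficients of the principal idempotent over a normal subgroup is a unit. -/
theorem sum_principal_ne_zero (hM : IsPModular p M) (N : Subgroup G) [N.Normal] [Fintype N] :
    ∑ n : N, (eB M (principalBlock M G)).coeff (n : G) ≠ 0 := by
  classical
  obtain ⟨P⟩ : Nonempty (Sylow p G) := inferInstance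
  haveI := Fintype.ofFinite (Subgroup.centralizer ((P : Subgroup G) : Set G))
  set E := eB M (principalBlock M G) with hEdef
  letI act : MulAction (P : Subgroup G) N :=
    MulAction.compHom N ((MulAut.conjNormal (H := N)).comp (P : Subgroup G).subtype)
  have hcl : H20.IsCl E := H20.isCl_eRed (principalBlock M G)
  rw [sum_eq_sum_fixedPoints p P.2 (fun n : N => E.coeff (n : G)) fun x n => hcl (n : G) (x : G)]
  have hfix : ∀ n : N, n ∈ MulAction.fixedPoints (P : Subgroup G) N ↔
      (n : G) ∈ Subgroup.centralizer ((P : Subgroup G) : Set G) := by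
    intro n
    rw [MulAction.mem_fixedPoints, Subgroup.mem_centralizer_iff]
    refine ⟨fun h x hx => ?_, fun h x => Subtype.ext ?_⟩
    · have h' : x * (n : G) * x⁻¹ = n := congrArg Subtype.val (h ⟨x, hx⟩)
      calc x * (n : G) = x * (n : G) * x⁻¹ * x := by group
        _ = (n : G) * x := by rw [h']
    · show (x : G) * (n : G) * (x : G)⁻¹ = n
      rw [h x x.2, mul_inv_cancel_right]
  set C := Subgroup.centralizer ((P : Subgroup G) : Set G) with hC
  -- the coefficients on `C`
  have hcoe : ∀ h : C, E.coeff (h : G) = (H20.eRed M (principalBlock M C)).coeff h := fun h => by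
    rw [← res_eG, coeff_res, ← Br_eB_principal P, coeff_Br_of_mem E h.2]
  set c := (H20.eRed M (principalBlock M C)).coeff 1 with hcdef
  have hval : ∀ h : C, (H20.eRed M (principalBlock M C)).coeff h =
      if p ∣ orderOf h then 0 else c := by
    intro h
    split_ifs with hh
    · by_contra h0
      exact H20.regular_of_coeff_ne_zero hM H20.isPBlock_principalBlock h0 hh
    · rw [hcdef, H20.coeff_eRed, H20.coeff_eRed]
      congr 1
      rw [blockCoeff, blockCoeff]
      congr 1
      refine finsum_mem_congr rfl fun χ hχ => ?_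
      rw [H20.principal_pPrimeCore_ker hM hχ (regular_mem_core P hh)]
  have hc0 : c ≠ 0 := by
    intro h0
    have h1 := aug_eB_principal (M := M) (G := C)
    rw [aug_eq_sum, Finset.sum_eq_zero fun h _ => ?_] at h1
    · exact zero_ne_one h1
    · show (H20.eRed M (principalBlock M C)).coeff h = 0
      rw [hval h, h0, ite_self]
  haveI := H1.pPrimeCore_normal' p C
  set L : Subgroup C := pPrimeCore p C ⊓ N.subgroupOf C with hL
  have hLreg : ∀ h : C, h ∈ L ↔ ¬ p ∣ orderOf h ∧ (h : G) ∈ N := by
    intro h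
    refine ⟨fun hh => ⟨fun hd => ?_, hh.2⟩, fun hh => ⟨regular_mem_core P hh.1, hh.2⟩⟩
    refine hp.out.coprime_iff_not_dvd.1 (H1.card_pPrimeCore_coprime p C).symm ?_
    exact hd.trans (by
      rw [← Subgroup.orderOf_mk h hh.1]
      exact orderOf_dvd_natCard _)
  have hcardL : ¬ p ∣ Nat.card L := fun h =>
    hp.out.coprime_iff_not_dvd.1 (H1.card_pPrimeCore_coprime p C).symm
      (h.trans (Subgroup.card_dvd_of_le inf_le_left))
  rw [Finset.sum_bij' (t := Finset.univ.filter fun h : C => (h : G) ∈ N)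
    (g := fun h : C => if p ∣ orderOf h then (0 : H20.k M) else c)
    (fun (n : N) hn => (⟨(n : G), (hfix n).1 (Finset.mem_filter.1 hn).2⟩ : C))
    (fun h hh => (⟨(h : G), (Finset.mem_filter.1 hh).2⟩ : N))
    (fun (n : N) _ => Finset.mem_filter.2 ⟨Finset.mem_univ _, n.2⟩)
    (fun (h : C) _ => Finset.mem_filter.2 ⟨Finset.mem_univ _, (hfix _).2 h.2⟩)
    (fun n _ => rfl) (fun h _ => rfl)
    (fun (n : N) hn => by rw [← hval, ← hcoe]),
    Finset.sum_ite, Finset.sum_const_zero, zero_add, Finset.sum_const, nsmul_eq_mul,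
    Finset.filter_filter]
  refine mul_ne_zero ?_ hc0
  rw [show (Finset.univ.filter fun h : C => (h : G) ∈ N ∧ ¬ p ∣ orderOf h).card = Nat.card L by
    rw [Nat.card_eq_fintype_card, ← Fintype.card_coe]
    exact Fintype.card_congr (Equiv.subtypeEquivRight fun h => by
      rw [Finset.mem_filter, hLreg]; simp [and_comm])]
  rw [Ne, CharP.cast_eq_zero_iff (H20.k M) p]
  exact hcardL

end

/-- Let N be a normal subgroup of the finite group G, p a prime, M a maximal ideal of the algebraic integers containing p, and P a Sylow p-subgroup of G. Let θ be an irreducible character of N of degree prime to p lying in the principal p-block of N, and suppose θ extends to the subgroup NP (some irreducible character of NP restricts to θ). Then some irreducible character χ of G of degree prime to p in the principal p-block of G lies over θ (θ is a constituent of the restriction of χ to N). -/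
theorem result {G : Type*} [Group G] [Finite G] (N : Subgroup G) [N.Normal] (p : ℕ) [Fact p.Prime] (M : Ideal Cfsg.AlgInt) (hM : Cfsg.IsPModular p M) (P : Sylow p G)
    (θ : Cfsg.IrrCharacter N) (hθ : θ ∈ Cfsg.principalBlock M N) (hdeg : ¬ p ∣ Cfsg.charDegree (θ : N → ℂ))
    (hext : ∃ η : Cfsg.IrrCharacter ↥(N ⊔ (P : Subgroup G)), ∀ n : N, (η : ↥(N ⊔ (P : Subgroup G)) → ℂ) (Subgroup.inclusion le_sup_left n) = (θ : N → ℂ) n) :
    ∃ χ : Cfsg.IrrCharacter G, χ ∈ Cfsg.principalBlock M G ∧ ¬ p ∣ Cfsg.charDegree (χ : G → ℂ) ∧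
      haveI := Fintype.ofFinite N; Cfsg.classInner (fun n : N => (χ : G → ℂ) n) (θ : N → ℂ) ≠ 0 := by
  classical
  haveI := Fintype.ofFinite G
  letI : Fintype N := Fintype.ofFinite N
  haveI := H20.isPrime_of_modular hM
  haveI := H20.k_charP hM
  haveI := isAlgClosed_k (M := M) hM.2.1
  obtain ⟨η, hη⟩ := hext
  haveI := Fintype.ofFinite ↥(N ⊔ (P : Subgroup G))
  set A := H22.blockFinset (principalBlock M G) with hA
  have hP0 := H20.isPBlock_principalBlock (M := M) (G := G)
  set φ : G → ℂ := indFun (N ⊔ (P : Subgroup G)) (η : _ → ℂ) with hφ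
  obtain ⟨m, hm⟩ := H12.IsCharacter.exists_mult
    (H12.IsCharacter.indFun (H := N ⊔ (P : Subgroup G)) (H12.isCharacter_irr η))
  have hmφ : ∀ χ : IrrCharacter G, classInner φ (χ : G → ℂ) = (m χ : ℂ) := by
    intro χ
    rw [hφ, hm, H12.classInner_sum_left]
    simp [H12.classInner_smul_left, H12.classInner_irr]
  have hidxp : ¬ p ∣ (N ⊔ (P : Subgroup G)).index :=
    fun h => P.not_dvd_index (h.trans (Subgroup.index_dvd_of_le le_sup_right))
  set c : G → ℂ := blockCoeff (principalBlock M G) with hc
  -- the block part of the induced character at the identity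
  have hsum : ((∑ χ ∈ A, m χ * charDegree (χ : G → ℂ) : ℕ) : ℂ) =
      ((N ⊔ (P : Subgroup G)).index : ℂ) * ∑ n : N, c (n : G) * (θ : N → ℂ) n := by
    have h1 : ((∑ χ ∈ A, m χ * charDegree (χ : G → ℂ) : ℕ) : ℂ) =
        ∑ h : ↥(N ⊔ (P : Subgroup G)), ((N ⊔ (P : Subgroup G)).index : ℂ) *
          (c (h : G) * (η : _ → ℂ) h) := by
      push_cast
      rw [Finset.sum_congr rfl fun χ _ => by
        rw [← hmφ χ, hφ, H12.classInner_indFun _ _ (H12.irr_isClassFunction χ), ← H24.irr_one,
          H12.classInner_def, Finset.mul_sum, Finset.sum_mul]]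
      rw [Finset.sum_comm]
      refine Finset.sum_congr rfl fun h _ => ?_
      rw [hc, H22.blockCoeff_eq_sum, Finset.mul_sum, Finset.sum_mul, Finset.mul_sum]
      refine Finset.sum_congr rfl fun χ _ => ?_
      rw [← (N ⊔ (P : Subgroup G)).card_mul_index, Nat.cast_mul]
      have : ((N ⊔ (P : Subgroup G)).index : ℂ) ≠ 0 := by
        exact_mod_cast Subgroup.index_ne_zero_of_finite
      field_simp
    have h2 : ∀ h : ↥(N ⊔ (P : Subgroup G)), (h : G) ∉ N → c (h : G) = 0 := by
      intro h hh
      refine H22.blockCoeff_eq_zero_of_dvd (H22.weakOrth_of_block hM hP0) ?_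
      by_contra hreg
      obtain ⟨j, hj⟩ : ∃ j, orderOf ((h : G) : G ⧸ N) = p ^ j := by
        have hmap : ((h : G) : G ⧸ N) ∈ (P : Subgroup G).map (QuotientGroup.mk' N) := by
          have := Subgroup.mem_map_of_mem (QuotientGroup.mk' N) h.2
          rwa [Subgroup.map_sup, QuotientGroup.map_mk'_self, bot_sup_eq] at this
        obtain ⟨j, hj⟩ := IsPGroup.iff_orderOf.1 (P.2.map (QuotientGroup.mk' N)) ⟨_, hmap⟩
        exact ⟨j, by rwa [Subgroup.orderOf_mk] at hj⟩
      rcases j with _ | j
      · exact hh ((QuotientGroup.eq_one_iff _).1 (orderOf_eq_one_iff.1 (by rw [hj, pow_zero])))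
      · exact hreg ((hj ▸ dvd_pow_self p (Nat.succ_ne_zero j)).trans
          (orderOf_map_dvd (QuotientGroup.mk' N) (h : G)))
    rw [h1, Finset.mul_sum, ← Finset.sum_subset
      (Finset.subset_univ (Finset.univ.filter fun h : ↥(N ⊔ (P : Subgroup G)) => (h : G) ∈ N))
      fun h _ hh => by rw [h2 h (by simpa using hh)]; ring]
    refine Finset.sum_bij' (fun h hh => (⟨(h : G), (Finset.mem_filter.1 hh).2⟩ : N))
      (fun n _ => Subgroup.inclusion le_sup_left n) (fun h _ => Finset.mem_univ _)
      (fun n _ => Finset.mem_filter.2 ⟨Finset.mem_univ _, n.2⟩) (fun h _ => rfl) (fun n _ => rfl) ?_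
    intro h hh
    rw [← hη ⟨(h : G), (Finset.mem_filter.1 hh).2⟩]
    congr 1
  -- the congruence
  let b : MonoidAlgebra (H20.O M) N :=
    H20.ofFun fun n : N => ⟨c (n : G), H20.memRing_blockCoeff hP0 _⟩
  have hbcl : H20.IsCl b := fun g y => Subtype.ext (by
    simp only [b, H20.coeff_ofFun]
    exact H20.blockCoeff_of_isConj (principalBlock M G) (isConj_iff.2 ⟨(y : G)⁻¹, by simp [mul_assoc]⟩))
  have hω : H20.redC M (H20.omega (θ : N → ℂ) (H20.emb b)) =
      H20.redC M (H20.omega (H12.oneIrr N : N → ℂ) (H20.emb b)) := by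
    rw [← H20.lam_rd θ hbcl, ← H20.lam_rd _ hbcl]
    exact H20.lam_eq_of_sameBlock (H20.sameBlock_of_mem H20.isPBlock_principalBlock hθ one_mem) _
  have hone : H20.redC M (H20.omega (H12.oneIrr N : N → ℂ) (H20.emb b)) =
      ∑ n : N, (eB M (principalBlock M G)).coeff (n : G) := by
    have h : H20.omega (H12.oneIrr N : N → ℂ) (H20.emb b) = ∑ n : N, c (n : G) := by
      simp [H20.omega, b, H12.oneIrr_apply]
    rw [h, H20.redC_sum _ _ fun n _ => H20.memRing_blockCoeff hP0 _]
    exact Finset.sum_congr rfl fun n _ => (H20.coeff_eRed _ _).symm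
  have hθ1 : (∑ n : N, c (n : G) * (θ : N → ℂ) n) =
      (charDegree (θ : N → ℂ) : ℂ) * H20.omega (θ : N → ℂ) (H20.emb b) := by
    have h0 := H12.irr_apply_one_ne_zero θ
    rw [H20.omega, ← H24.irr_one]
    simp only [H20.coeff_emb, b, H20.coeff_ofFun]
    field_simp
  have hSp : ¬ p ∣ ∑ χ ∈ A, m χ * charDegree (χ : G → ℂ) := by
    intro h
    have h' : H20.redC M ((∑ χ ∈ A, m χ * charDegree (χ : G → ℂ) : ℕ) : ℂ) = 0 := by
      rw [H20.redC_natCast, CharP.cast_eq_zero_iff (H20.k M) p]; exact h
    rw [hsum, hθ1, H20.redC_mul (H20.memRing_natCast _)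
      (H20.memRing_mul (H20.memRing_natCast _) (H20.memRing_omega θ hbcl)),
      H20.redC_mul (H20.memRing_natCast _) (H20.memRing_omega θ hbcl), hω, hone, H20.redC_natCast,
      H20.redC_natCast] at h'
    rcases mul_eq_zero.1 h' with h1 | h1
    · exact hidxp ((CharP.cast_eq_zero_iff (H20.k M) p _).1 h1)
    rcases mul_eq_zero.1 h1 with h1 | h1
    · exact hdeg ((CharP.cast_eq_zero_iff (H20.k M) p _).1 h1)
    · exact sum_principal_ne_zero hM N h1
  obtain ⟨χ, hχA, hχp⟩ : ∃ χ ∈ A, ¬ p ∣ m χ * charDegree (χ : G → ℂ) := by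
    by_contra h
    push Not at h
    exact hSp (Finset.dvd_sum h)
  refine ⟨χ, H22.mem_blockFinset.1 hχA, fun h => hχp (h.mul_left _), fun hzero => ?_⟩
  -- `χ` lies over `θ`
  obtain ⟨r, hr⟩ := H12.IsCharacter.exists_mult (H12.IsCharacter.res (H12.isCharacter_irr χ)
    (N ⊔ (P : Subgroup G)))
  have hrη : (r η : ℂ) = (m χ : ℂ) := by
    rw [← hmφ χ, hφ, H12.classInner_indFun _ _ (H12.irr_isClassFunction χ), hr,
      H12.classInner_sum_right]
    simp [H12.classInner_smul_right, H12.classInner_irr]
  have hexp : (fun n : N => (χ : G → ℂ) n) = ∑ ψ : IrrCharacter ↥(N ⊔ (P : Subgroup G)),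
      (r ψ : ℂ) • (fun n : N => (ψ : ↥(N ⊔ (P : Subgroup G)) → ℂ) (Subgroup.inclusion le_sup_left n)) := by
    funext n
    have := congrFun hr (Subgroup.inclusion le_sup_left n)
    simp only [Finset.sum_apply, Pi.smul_apply, smul_eq_mul] at this ⊢
    exact this
  have hres : ∀ ψ : IrrCharacter ↥(N ⊔ (P : Subgroup G)), ∃ k : ℕ, classInner
      (fun n : N => (ψ : ↥(N ⊔ (P : Subgroup G)) → ℂ) (Subgroup.inclusion le_sup_left n)) (θ : N → ℂ) = k := by
    intro ψ
    obtain ⟨q, hq⟩ := H12.IsCharacter.exists_mult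
      (H12.IsCharacter.comp (H12.isCharacter_irr ψ)
        (Subgroup.inclusion (le_sup_left : N ≤ N ⊔ (P : Subgroup G))))
    refine ⟨q θ, ?_⟩
    rw [show (fun n : N => (ψ : ↥(N ⊔ (P : Subgroup G)) → ℂ) (Subgroup.inclusion le_sup_left n)) = _ from hq,
      H12.classInner_sum_left]
    simp [H12.classInner_smul_left, H12.classInner_irr]
  choose k hk using hres
  rw [hexp, H12.classInner_sum_left] at hzero
  simp only [H12.classInner_smul_left, hk] at hzero
  have hz : ∑ ψ, r ψ * k ψ = 0 := by exact_mod_cast hzero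
  have hkη : k η = 1 := by
    have := hk η
    rw [show (fun n : N => (η : ↥(N ⊔ (P : Subgroup G)) → ℂ) (Subgroup.inclusion le_sup_left n)) = (θ : N → ℂ) from
      funext hη, H12.classInner_irr_self] at this
    exact_mod_cast this.symm
  have hr0 : r η = 0 := by
    have := Finset.sum_eq_zero_iff.1 hz η (Finset.mem_univ _)
    rwa [hkη, mul_one] at this
  have hm0 : (m χ : ℂ) = 0 := by rw [← hrη, hr0]; simp
  exact hχp (by rw [show m χ = 0 by exact_mod_cast hm0, zero_mul]; exact dvd_zero p)

end Cfsg.Agent.S4583
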