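import Cfsg.Statements.S4585
import Cfsg.Agent.H18.PGroupFour


set_option autoImplicit false
open scoped commutatorElement
open Cfsg

namespace Cfsg.Agent.S4585

/-- Let p be a prime and P a group of order p^4. Then P' has index p^2 in P if and only if P has maximal nilpotency class, that is, nilpotency class exactly 3. -/
theorem result {P : Type*} [Group P] [Finite P] (p : ℕ) [Fact p.Prime] (hP : Nat.card P = p ^ 4) :
    (commutator P).index = p ^ 2 ↔ Group.nilpotencyClass P = 3 := by
  have hp := (Fact.out : p.Prime)
  have hpP : IsPGroup p P := IsPGroup.of_card hP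
  haveI := hpP.isNilpotent
  set T : Subgroup P := ⊤ with hT
  have h1 : T.lowerCentralSeries 1 = commutator P := rfl
  set L := T.lowerCentralSeries 2 with hL
  have hL' : L = ⁅commutator P, T⁆ := rfl
  haveI hLn : L.Normal := by rw [hL']; infer_instance
  have hLle : L ≤ commutator P := by
    rw [hL']
    exact Subgroup.commutator_le_left _ _
  have hprop : ∀ n : ℕ, T.lowerCentralSeries (n + 1) = T.lowerCentralSeries n →
      T.lowerCentralSeries n = ⊥ := by
    intro n hn
    have : ∀ k, T.lowerCentralSeries (n + k) = T.lowerCentralSeries n := by
      intro k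
      induction k with
      | zero => rfl
      | succ k ih => rw [← add_assoc, Subgroup.lowerCentralSeries_succ, ih,
          ← Subgroup.lowerCentralSeries_succ, hn]
    obtain ⟨m, hm⟩ := Subgroup.nilpotent_iff_lowerCentralSeries.mp
      (inferInstance : Group.IsNilpotent P)
    rw [← this m, eq_bot_iff, ← hm]
    exact Subgroup.lowerCentralSeries_antitone T (by omega)
  obtain ⟨c, hc⟩ := IsPGroup.iff_card.mp (hpP.to_subgroup (commutator P))
  have hmul := (commutator P).card_mul_index
  rw [hc, hP] at hmul
  obtain ⟨i, hi⟩ := hpP.index (commutator P)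
  rw [hi, ← pow_add] at hmul
  have hci : c + i = 4 := Nat.pow_right_injective hp.two_le hmul
  have hi2 : commutator P ≠ ⊥ → 2 ≤ i := by
    intro hne
    by_contra hlt
    have hcyc : IsCyclic (P ⧸ commutator P) := by
      rcases Nat.lt_succ_iff.mp (not_le.mp hlt) |>.eq_or_lt with h | h
      · refine isCyclic_of_prime_card (p := p) ?_
        rw [← Subgroup.index_eq_card, hi, h, pow_one]
      · have : Subsingleton (P ⧸ commutator P) := by
          apply (Nat.card_eq_one_iff_unique.mp ?_).1
          rw [← Subgroup.index_eq_card, hi, Nat.lt_one_iff.mp h, pow_zero]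
        exact isCyclic_of_subsingleton
    let f : P ⧸ L →* P ⧸ commutator P := QuotientGroup.map L (commutator P) (MonoidHom.id P) hLle
    have hf : f.ker ≤ Subgroup.center (P ⧸ L) := by
      intro x hx
      induction x using QuotientGroup.induction_on with
      | H x =>
        replace hx : x ∈ commutator P := (QuotientGroup.eq_one_iff x).mp hx
        rw [Subgroup.mem_center_iff]
        intro g
        induction g using QuotientGroup.induction_on with
        | H g =>
          have h2 : ⁅x, g⁆ ∈ L := by
            rw [hL']; exact Subgroup.commutator_mem_commutator hx (Subgroup.mem_top g)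
          rw [← QuotientGroup.eq_one_iff] at h2
          have h3 : ⁅(QuotientGroup.mk' L) x, (QuotientGroup.mk' L) g⁆ = 1 := by
            rw [← map_commutatorElement]; exact h2
          exact (commutatorElement_eq_one_iff_commute.mp h3).eq.symm
    have hle : commutator P ≤ L := by
      rw [commutator_def, Subgroup.commutator_le]
      intro x _ y _
      rw [← QuotientGroup.eq_one_iff]
      change (QuotientGroup.mk' L) ⁅x, y⁆ = 1
      rw [map_commutatorElement, commutatorElement_eq_one_iff_commute]
      exact commutative_of_cyclic_center_quotient f hf _ _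
    exact hne (by rw [← h1]; exact hprop 1 (le_antisymm hLle hle))
  have hc2 : c ≤ 2 := by
    by_cases hne : commutator P = ⊥
    · rw [hne, Subgroup.card_bot] at hc
      have : c = 0 := ((Nat.pow_eq_one).mp hc.symm).resolve_left hp.one_lt.ne'
      omega
    · have := hi2 hne; omega
  have hLcard : commutator P ≠ ⊥ → ∃ l, Nat.card L = p ^ l ∧ l < c := by
    intro hne
    obtain ⟨l, hl⟩ := IsPGroup.iff_card.mp (hpP.to_subgroup L)
    refine ⟨l, hl, ?_⟩
    have hlt : Nat.card L < Nat.card (commutator P) := by
      refine lt_of_le_of_ne (Subgroup.card_le_of_le hLle) fun h => hne ?_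
      rw [← h1]
      exact hprop 1 (Subgroup.eq_of_le_of_card_ge hLle h.ge)
    rw [hl, hc, Nat.pow_lt_pow_iff_right hp.one_lt] at hlt
    exact hlt
  have hclass3 : Group.nilpotencyClass P ≤ 3 := by
    rw [← Subgroup.lowerCentralSeries_eq_bot_iff_nilpotencyClass_le]
    change ⁅L, T⁆ = ⊥
    rw [Subgroup.commutator_eq_bot_iff_le_centralizer]
    have hLc : L ≤ Subgroup.center P := by
      by_cases hne : commutator P = ⊥
      · exact hLle.trans (hne ▸ bot_le)
      · obtain ⟨l, hl, hlc⟩ := hLcard hne
        have : l = 0 ∨ l = 1 := by omega
        rcases this with h | h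
        · rw [h, pow_zero] at hl
          rw [Subgroup.card_eq_one.mp hl]; exact bot_le
        · rw [h, pow_one] at hl
          exact H18.normal_card_prime_le_center hpP L hl
    exact hLc.trans (Subgroup.center_le_centralizer _)
  have hclass2 : Group.nilpotencyClass P ≤ 2 ↔ commutator P ≤ Subgroup.center P := by
    rw [← Subgroup.lowerCentralSeries_eq_bot_iff_nilpotencyClass_le]
    change ⁅commutator P, T⁆ = ⊥ ↔ _
    rw [Subgroup.commutator_eq_bot_iff_le_centralizer, hT, Subgroup.coe_top,
      Subgroup.centralizer_univ]
  constructor
  · intro h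
    refine le_antisymm hclass3 (Nat.not_lt.mp fun hlt => ?_)
    have hle := hclass2.mp (Nat.lt_succ_iff.mp hlt)
    rw [hi] at h
    have hi' : i = 2 := Nat.pow_right_injective hp.two_le h
    obtain ⟨z, hz⟩ := hpP.index (Subgroup.center P)
    have hzd : z ≤ 2 := by
      have := Subgroup.index_dvd_of_le hle
      rw [hz, hi, hi', Nat.pow_dvd_pow_iff_le_right hp.one_lt] at this
      exact this
    by_cases hz2 : z = 2
    · rw [hz2] at hz
      have := H18.card_commutator_eq_of_index_center_sq (p := p) hz
      rw [hc] at this
      have := Nat.pow_right_injective hp.two_le (this.trans (pow_one p).symm)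
      omega
    · have hcyc : IsCyclic (P ⧸ Subgroup.center P) := by
        have : z = 0 ∨ z = 1 := by omega
        rcases this with h | h
        · have : Subsingleton (P ⧸ Subgroup.center P) := by
            apply (Nat.card_eq_one_iff_unique.mp ?_).1
            rw [← Subgroup.index_eq_card, hz, h, pow_zero]
          exact isCyclic_of_subsingleton
        · refine isCyclic_of_prime_card (p := p) ?_
          rw [← Subgroup.index_eq_card, hz, h, pow_one]
      have hb : commutator P = ⊥ := by
        rw [commutator_def, Subgroup.commutator_eq_bot_iff_le_centralizer]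
        intro x _
        rw [Subgroup.mem_centralizer_iff]
        intro y _
        exact (isMulCommutative_of_isCyclic_quotient_center_self (G := P)).is_comm.comm y x
      rw [hb, Subgroup.card_bot] at hc
      have : c = 0 := ((Nat.pow_eq_one).mp hc.symm).resolve_left hp.one_lt.ne'
      omega
  · intro h
    rw [hi]
    suffices c = 2 by rw [show i = 2 by omega]
    by_contra hne
    have hle : commutator P ≤ Subgroup.center P := by
      have : c = 0 ∨ c = 1 := by omega
      rcases this with h' | h'
      · rw [h', pow_zero] at hc
        rw [Subgroup.card_eq_one.mp hc]; exact bot_le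
      · rw [h', pow_one] at hc
        exact H18.normal_card_prime_le_center hpP _ hc
    have := hclass2.mpr hle
    omega

end Cfsg.Agent.S4585
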