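import Cfsg.Statements.S4586
import Cfsg.Agent.H18.PGroupFour
import Cfsg.Agent.H18.Generators
import Mathlib.Tactic.Ring


set_option autoImplicit false
open scoped commutatorElement
open Cfsg

namespace Cfsg.Agent.S4586

/-- Let p be a prime, P a finite p-group and N a normal subgroup of P of index p. For x ∈ P write c(x) for the number of elements n of N whose commutator x n x⁻¹ n⁻¹ lies in the derived subgroup N' (so c(x)/#N' is the order of the centralizer of x acting on N/N'). Then [P : P'] = p² if and only if c(x) = p·#N' for every x ∈ P outside N, and also if and only if c(x) = p·#N' for some x ∈ P outside N. -/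
theorem result {P : Type*} [Group P] [Finite P] (p : ℕ) [Fact p.Prime] (hP : IsPGroup p P) (N : Subgroup P) [N.Normal] (hN : N.index = p) :
    ((commutator P).index = p ^ 2 ↔ ∀ x : P, x ∉ N →
        Nat.card {n : N // x * n * x⁻¹ * (n : P)⁻¹ ∈ (commutator N).map N.subtype} = p * Nat.card (commutator N)) ∧
    ((commutator P).index = p ^ 2 ↔ ∃ x : P, x ∉ N ∧
        Nat.card {n : N // x * n * x⁻¹ * (n : P)⁻¹ ∈ (commutator N).map N.subtype} = p * Nat.card (commutator N)) := by
  have hp := (Fact.out : p.Prime)
  have key : ∀ x : P, x ∉ N → (commutator P).index * Nat.card (commutator N) =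
      p * Nat.card {n : N // x * n * x⁻¹ * (n : P)⁻¹ ∈ (commutator N).map N.subtype} := by
    intro x hx
    set N' := commutator N with hN'
    have hgen : N ⊔ Subgroup.zpowers x = ⊤ := by
      by_contra h
      have h1 := Subgroup.relIndex_mul_index (le_sup_left : N ≤ N ⊔ Subgroup.zpowers x)
      rw [hN] at h1
      rcases hp.eq_one_or_self_of_dvd _ (Dvd.intro _ h1) with h2 | h2
      · rw [Subgroup.relIndex_eq_one] at h2
        exact hx (h2 (Subgroup.mem_sup_right (Subgroup.mem_zpowers x)))
      · rw [h2] at h1
        exact h (Subgroup.index_eq_one.mp (mul_left_cancel₀ hp.ne_zero (by rw [h1, mul_one])))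
    let q := Abelianization.of (G := N)
    let cj : N → N := fun n => ⟨x * n * x⁻¹, Subgroup.Normal.conj_mem inferInstance _ n.2 x⟩
    let φ : N →* Abelianization N :=
      { toFun := fun n => q (cj n) / q n
        map_one' := by
          have : cj 1 = 1 := Subtype.ext (by simp [cj])
          simp [this]
        map_mul' := fun m n => by
          have : cj (m * n) = cj m * cj n := Subtype.ext (by simp [cj])
          rw [this, map_mul, map_mul, mul_div_mul_comm] }
    have hmem : ∀ n : N, n ∈ φ.ker ↔ x * n * x⁻¹ * (n : P)⁻¹ ∈ N'.map N.subtype := by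
      intro n
      rw [MonoidHom.mem_ker]
      change q (cj n) / q n = 1 ↔ _
      rw [← map_div, ← MonoidHom.mem_ker, Abelianization.ker_of]
      have : ((cj n / n : N) : P) = x * n * x⁻¹ * (n : P)⁻¹ := by simp [cj, div_eq_mul_inv]
      rw [← this]
      exact (Subgroup.mem_map_iff_mem Subtype.val_injective).symm
    have hcard : Nat.card {n : N // x * n * x⁻¹ * (n : P)⁻¹ ∈ N'.map N.subtype} = Nat.card φ.ker :=
      Nat.card_congr (Equiv.subtypeEquivRight fun n => (hmem n).symm)
    set D := φ.range.comap q with hD
    set D' := D.map N.subtype with hD'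
    have hN'D : N' ≤ D := by
      intro n hn
      rw [hD, Subgroup.mem_comap, (MonoidHom.mem_ker).mp (by rw [Abelianization.ker_of]; exact hn)]
      exact Subgroup.one_mem _
    have hDle : D' ≤ commutator P := by
      rintro _ ⟨n, hn, rfl⟩
      obtain ⟨m, hm⟩ := hn
      have hm' : q (n / (cj m / m)) = 1 := by
        rw [map_div, map_div, div_eq_one]
        exact hm.symm
      rw [← MonoidHom.mem_ker, Abelianization.ker_of] at hm'
      have h1 : (((n / (cj m / m) : N)) : P) ∈ commutator P :=
        Subgroup.map_subtype_commutator N |>.le.trans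
          (Subgroup.commutator_mono le_top le_top) ⟨_, hm', rfl⟩
      have h2 : ((cj m / m : N) : P) ∈ commutator P := by
        have : ((cj m / m : N) : P) = ⁅x, (m : P)⁆ := by
          simp [cj, div_eq_mul_inv, commutatorElement_def]
        rw [this]
        exact Subgroup.commutator_mem_commutator (Subgroup.mem_top _) (Subgroup.mem_top _)
      have := Subgroup.mul_mem _ h1 h2
      simpa [div_eq_mul_inv, mul_assoc] using this
    have hcjD : ∀ n : N, cj n / n ∈ D := fun n => by
      rw [hD, Subgroup.mem_comap, map_div]; exact ⟨n, rfl⟩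
    have hDn : D'.Normal := by
      refine Subgroup.normalizer_eq_top_iff.mp (top_le_iff.mp ?_)
      rw [← hgen]
      refine sup_le ?_ (Subgroup.zpowers_le.mpr ?_)
      · intro g hg
        rw [Subgroup.mem_normalizer_iff]
        have hDnN : D.Normal := Subgroup.Normal.comap inferInstance _
        intro h
        constructor
        · rintro ⟨d, hd, rfl⟩
          exact ⟨_, hDnN.conj_mem d hd ⟨g, hg⟩, rfl⟩
        · rintro ⟨d, hd, hd'⟩
          refine ⟨_, hDnN.conj_mem d hd ⟨g, hg⟩⁻¹, ?_⟩
          simp only [Subgroup.subtype_apply] at hd' ⊢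
          simp [hd', mul_assoc]
      · rw [H18.mem_normalizer_iff_of_finite]
        rintro _ ⟨d, hd, rfl⟩
        refine ⟨cj d, ?_, rfl⟩
        simpa using D.mul_mem (hcjD d) hd
    have hle : commutator P ≤ D' := by
      have hgens : ∀ u ∈ (N : Set P) ∪ {x}, ∀ v ∈ (N : Set P) ∪ {x}, ⁅u, v⁆ ∈ D' := by
        have hNN : ∀ u ∈ N, ∀ v ∈ N, ⁅u, v⁆ ∈ D' := fun u hu v hv =>
          ⟨⁅⟨u, hu⟩, ⟨v, hv⟩⁆, hN'D (Subgroup.commutator_mem_commutator (Subgroup.mem_top _)
            (Subgroup.mem_top _)), rfl⟩
        have hxN : ∀ v ∈ N, ⁅x, v⁆ ∈ D' := fun v hv =>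
          ⟨cj ⟨v, hv⟩ / ⟨v, hv⟩, hcjD _, by simp [cj, div_eq_mul_inv, commutatorElement_def]⟩
        rintro u (hu | hu) v (hv | hv)
        · exact hNN u hu v hv
        · rw [Set.mem_singleton_iff.mp hv, ← commutatorElement_inv]
          exact D'.inv_mem (hxN u hu)
        · rw [Set.mem_singleton_iff.mp hu]; exact hxN v hv
        · rw [Set.mem_singleton_iff.mp hu, Set.mem_singleton_iff.mp hv, commutatorElement_self]
          exact D'.one_mem
      refine H18.commutator_le_of_generators ?_ hgens
      rw [Subgroup.closure_union, Subgroup.closure_eq, ← Subgroup.zpowers_eq_closure, hgen]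
    have hPD : commutator P = D' := le_antisymm hle hDle
    have e1 : (commutator P).index = D.index * p := by
      rw [hPD, hD', Subgroup.index_map_subtype, hN]
    have e2 : D.index = φ.range.index :=
      Subgroup.index_comap_of_surjective _ (QuotientGroup.mk'_surjective _)
    have e3 : Nat.card φ.range * φ.range.index * Nat.card N' = Nat.card N := by
      rw [φ.range.card_mul_index, mul_comm]
      exact N'.card_mul_index
    have e4 : Nat.card φ.ker * Nat.card φ.range = Nat.card N := by
      rw [← Subgroup.index_ker]; exact φ.ker.card_mul_index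
    haveI : Finite (Abelianization N) := inferInstanceAs (Finite (N ⧸ commutator N))
    have e5 : φ.range.index * Nat.card N' = Nat.card φ.ker := by
      apply mul_left_cancel₀ (Nat.card_pos (α := φ.range)).ne'
      rw [← mul_assoc, e3, ← e4, mul_comm]
    rw [hcard, e1, e2, ← e5]
    ring
  have hiff : ∀ x : P, x ∉ N → ((commutator P).index = p ^ 2 ↔
      Nat.card {n : N // x * n * x⁻¹ * (n : P)⁻¹ ∈ (commutator N).map N.subtype} =
        p * Nat.card (commutator N)) := by
    intro x hx
    have h := key x hx
    constructor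
    · intro h2
      rw [h2, pow_two, mul_assoc] at h
      exact (mul_left_cancel₀ hp.ne_zero h).symm
    · intro h2
      rw [h2, ← mul_assoc, ← pow_two] at h
      exact mul_right_cancel₀ (Nat.card_pos (α := commutator N)).ne' h
  obtain ⟨x₀, hx₀⟩ : ∃ x : P, x ∉ N := by
    by_contra h
    push Not at h
    exact hp.one_lt.ne' (hN ▸ Subgroup.index_eq_one.mpr (eq_top_iff.mpr fun x _ => h x))
  exact ⟨⟨fun h x hx => (hiff x hx).mp h, fun h => (hiff x₀ hx₀).mpr (h x₀ hx₀)⟩,
    ⟨fun h => ⟨x₀, hx₀, (hiff x₀ hx₀).mp h⟩, fun ⟨x, hx, h⟩ => (hiff x hx).mpr h⟩⟩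

end Cfsg.Agent.S4586
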