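import Cfsg.Statements.S4587
import Cfsg.Agent.H28.AbelTwo.Main
import Cfsg.Agent.H31.MaxClassCrit
import Cfsg.Agent.H6.MaxClass
-- import your own Cfsg.Agent.* helpers here

set_option autoImplicit false
set_option linter.style.haveILetI false
open Cfsg

namespace Cfsg.Agent.S4587

open Subgroup in
/-- The `p`-part of the order of a centraliser, via a Sylow subgroup of the centraliser. -/
theorem exists_sylow_centralizer {G : Type*} [Group G] [Finite G] (p : ℕ) [Fact p.Prime] (x : G) :
    ∃ T : Subgroup G, T ≤ centralizer ({x} : Set G) ∧ IsPGroup p T ∧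
      Nat.card T = p ^ (Nat.card (centralizer ({x} : Set G))).factorization p ∧
      ((∃ k : ℕ, orderOf x = p ^ k) → x ∈ T) := by
  obtain ⟨R⟩ := (inferInstance : Nonempty (Sylow p (centralizer ({x} : Set G))))
  refine ⟨(R : Subgroup _).map (centralizer ({x} : Set G)).subtype, map_subtype_le _,
    R.isPGroup'.map _, ?_, ?_⟩
  · rw [card_map_of_injective (centralizer ({x} : Set G)).subtype_injective, R.card_eq_multiplicity]
  · rintro ⟨k, hk⟩
    have hx : x ∈ centralizer ({x} : Set G) := mem_centralizer_singleton_iff.2 rfl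
    set x' : centralizer ({x} : Set G) := ⟨x, hx⟩
    have hxc : x' ∈ center (centralizer ({x} : Set G)) := mem_center_iff.2 fun z =>
      Subtype.ext (mem_centralizer_singleton_iff.1 z.2)
    haveI : (zpowers x').Normal := ⟨fun n hn g => by
      rw [mem_center_iff.1 ((zpowers_le.2 hxc) hn) g, mul_inv_cancel_right]
      exact hn⟩
    have hzp : IsPGroup p (zpowers x') :=
      IsPGroup.of_card (n := k) (by rw [Nat.card_zpowers, ← orderOf_coe]; exact hk)
    exact ⟨x', (hzp.le_sylow_of_normal R) (mem_zpowers x'), rfl⟩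


/-- Let G be a finite group, p a prime and P a Sylow p-subgroup of order at least p². Assume that G has no nontrivial normal subgroup of order prime to p, that the derived subgroup P' of P contains no nontrivial normal subgroup of G, and that G is not almost simple (there is no non-abelian simple normal subgroup of G with trivial centralizer). Then [P : P'] = p² if and only if some p-element x of G has centralizer whose order has p-part exactly p². -/
theorem result {G : Type*} [Group G] [Finite G] (p : ℕ) [Fact p.Prime] (P : Sylow p G) (hbig : p ^ 2 ∣ Nat.card G) (hcore : Cfsg.pPrimeCore p G = ⊥)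
    (hcore' : (⁅(P : Subgroup G), (P : Subgroup G)⁆).normalCore = ⊥) (hnas : ¬ ∃ S : Subgroup G, S.Normal ∧ IsSimpleGroup S ∧ ¬ IsMulCommutative S ∧ Subgroup.centralizer (S : Set G) = ⊥) :
    (⁅(P : Subgroup G), (P : Subgroup G)⁆).relIndex (P : Subgroup G) = p ^ 2 ↔
      ∃ x : G, (∃ k : ℕ, orderOf x = p ^ k) ∧ (Nat.card (Subgroup.centralizer ({x} : Set G))).factorization p = 2 := by
  classical
  have hp : p.Prime := Fact.out
  have hPc : Nat.card (P : Subgroup G) = p ^ (Nat.card G).factorization p := P.card_eq_multiplicity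
  have hrel : (⁅(P : Subgroup G), (P : Subgroup G)⁆).relIndex (P : Subgroup G) =
      (commutator ↥(P : Subgroup G)).index := by
    rw [← (P : Subgroup G).map_subtype_commutator, Subgroup.relIndex,
      show ((commutator ↥(P : Subgroup G)).map (P : Subgroup G).subtype).subgroupOf (P : Subgroup G) =
        commutator ↥(P : Subgroup G) from
        Subgroup.comap_map_eq_self_of_injective (P : Subgroup G).subtype_injective _]
  rw [hrel]
  constructor
  · intro hi
    by_cases hab : IsMulCommutative ↥(P : Subgroup G)
    · haveI := hab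
      refine ⟨1, ⟨0, by simp⟩, ?_⟩
      have hC : Subgroup.centralizer ({1} : Set G) = ⊤ := eq_top_iff.2 fun g _ =>
        Subgroup.mem_centralizer_singleton_iff.2 (by simp)
      have hcom : commutator ↥(P : Subgroup G) = ⊥ := by
        rw [_root_.commutator_def, Subgroup.commutator_self_eq_bot_iff]
        infer_instance
      rw [hcom, Subgroup.index_bot, hPc] at hi
      rw [hC, Subgroup.card_top]
      exact Nat.pow_right_injective hp.two_le hi
    obtain ⟨N, hN, hidx, hQab⟩ :=
      H28.AbelTwo.exists_abelian_maximal P hi hab hcore hcore' hnas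
    haveI := hN
    obtain ⟨y, hy⟩ : ∃ y : ↥(P : Subgroup G), y ∉ N.subgroupOf (P : Subgroup G) := by
      by_contra hall
      push Not at hall
      rw [(Subgroup.eq_top_iff' _).2 hall, Subgroup.index_top] at hidx
      exact hp.one_lt.ne hidx
    have hxp : ∃ k : ℕ, orderOf (y : G) = p ^ k := by
      obtain ⟨k, hk⟩ := P.isPGroup' y
      obtain ⟨j, _, hj⟩ := (Nat.dvd_prime_pow hp).1 (orderOf_dvd_of_pow_eq_one hk)
      exact ⟨j, by rw [Subgroup.orderOf_coe, hj]⟩
    refine ⟨(y : G), hxp, ?_⟩
    obtain ⟨T, hTC, hTp, hTc, hxT⟩ := exists_sylow_centralizer p (y : G)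
    have hxT' := hxT hxp
    obtain ⟨g, hg⟩ := H28.AbelTwo.exists_conj_mem P hTp
    set y' : ↥(P : Subgroup G) := ⟨g * (y : G) * g⁻¹, hg _ hxT'⟩ with hy'
    have hy'Q : y' ∉ N.subgroupOf (P : Subgroup G) := by
      intro h
      apply hy
      have h1 : g * (y : G) * g⁻¹ ∈ N := h
      have h2 := hN.conj_mem _ h1 g⁻¹
      show (y : G) ∈ N
      simpa [mul_assoc] using h2
    have hle : Nat.card T ≤ p ^ 2 := by
      rw [← H28.AbelTwo.card_centralizer_of_abelian_maximal hi hidx hQab hy'Q]
      refine Nat.card_le_card_of_injective (fun t => ⟨⟨g * (t : G) * g⁻¹, hg _ t.2⟩,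
        Subgroup.mem_centralizer_singleton_iff.2 ?_⟩) ?_
      · apply Subtype.ext
        show g * (t : G) * g⁻¹ * (g * (y : G) * g⁻¹) = g * (y : G) * g⁻¹ * (g * (t : G) * g⁻¹)
        have hc : (t : G) * (y : G) = (y : G) * (t : G) :=
          Subgroup.mem_centralizer_singleton_iff.1 (hTC t.2)
        calc g * (t : G) * g⁻¹ * (g * (y : G) * g⁻¹) = g * ((t : G) * (y : G)) * g⁻¹ := by group
          _ = g * ((y : G) * (t : G)) * g⁻¹ := by rw [hc]
          _ = _ := by group
      · intro a b hab'
        have := congrArg (fun z => ((z.1 : ↥(P : Subgroup G)) : G)) hab'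
        exact Subtype.ext (by simpa using this)
    have hge : p ^ 2 ≤ Nat.card (Subgroup.centralizer ({y} : Set ↥(P : Subgroup G))) :=
      (H28.AbelTwo.card_centralizer_of_abelian_maximal hi hidx hQab hy).ge
    have hdvd : p ^ 2 ∣ Nat.card (Subgroup.centralizer ({(y : G)} : Set G)) := by
      rw [← H28.AbelTwo.card_centralizer_of_abelian_maximal hi hidx hQab hy,
        ← Subgroup.card_map_of_injective (K := Subgroup.centralizer ({y} : Set ↥(P : Subgroup G)))
          (P : Subgroup G).subtype_injective]
      refine Subgroup.card_dvd_of_le ?_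
      rintro _ ⟨z, hz, rfl⟩
      exact Subgroup.mem_centralizer_singleton_iff.2
        (congrArg Subtype.val (Subgroup.mem_centralizer_singleton_iff.1 hz))
    have hlo := (hp.pow_dvd_iff_le_factorization Nat.card_pos.ne').1 hdvd
    rw [hTc] at hle
    have hhi := (Nat.pow_le_pow_iff_right hp.one_lt).1 hle
    omega
  · rintro ⟨x, hxp, hx⟩
    obtain ⟨T, hTC, hTp, hTc, hxT⟩ := exists_sylow_centralizer p x
    rw [hx] at hTc
    obtain ⟨R, hR⟩ := hTp.exists_le_sylow
    have hRc : Nat.card (R : Subgroup G) = p ^ (Nat.card G).factorization p := R.card_eq_multiplicity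
    have hn2 : 2 ≤ (Nat.card G).factorization p :=
      (hp.pow_dvd_iff_le_factorization Nat.card_pos.ne').1 hbig
    set m := (Nat.card G).factorization p - 2 with hm
    have hRm : Nat.card ↥(R : Subgroup G) = p ^ (m + 2) := by rw [hRc]; congr 1; omega
    set A := T.subgroupOf (R : Subgroup G) with hA
    have hAc : Nat.card A = p ^ 2 := by
      rw [hA, Nat.card_congr (Subgroup.subgroupOfEquivOfLe hR).toEquiv, hTc]
    have hAC : Subgroup.centralizer (A : Set ↥(R : Subgroup G)) ≤ A := by
      intro z hz
      show (z : G) ∈ T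
      have hzx : (z : G) * x = x * (z : G) := (congrArg Subtype.val
        (Subgroup.mem_centralizer_iff.1 hz ⟨x, hR (hxT hxp)⟩ (hxT hxp))).symm
      set U := (R : Subgroup G) ⊓ Subgroup.centralizer ({x} : Set G) with hU
      have hUp : IsPGroup p U := R.isPGroup'.to_le inf_le_left
      obtain ⟨j, hj⟩ := hUp.exists_card_eq
      have hUd : p ^ j ∣ Nat.card (Subgroup.centralizer ({x} : Set G)) :=
        hj ▸ Subgroup.card_dvd_of_le inf_le_right
      have hjle := (hp.pow_dvd_iff_le_factorization Nat.card_pos.ne').1 hUd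
      rw [hx] at hjle
      have hTU : T = U := Subgroup.eq_of_le_of_card_ge (le_inf hR hTC)
        (by rw [hTc, hj]; exact Nat.pow_le_pow_right hp.pos hjle)
      rw [hTU]
      exact ⟨z.2, Subgroup.mem_centralizer_singleton_iff.2 hzx⟩
    have hcl := H31.nilpotencyClass_of_self_centralizing_sq m hRm A hAc hAC
    have hidx := H6.maximalClass_index_commutator (m + 2) ↥(R : Subgroup G) hRm (by omega)
      (by rw [hcl]; omega)
    rw [← hidx]
    let e := Sylow.equiv R P
    rw [_root_.commutator_def, _root_.commutator_def (G := ↥(R : Subgroup G)),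
      ← Subgroup.map_top_of_surjective e.toMonoidHom e.surjective, ← Subgroup.map_commutator]
    exact Subgroup.index_map_equiv _ e

end Cfsg.Agent.S4587
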