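import Cfsg.Statements.S4588
import Cfsg.Agent.H19.BlockBound
import Cfsg.Agent.H20.PrincipalColumn

set_option autoImplicit false
open Cfsg

namespace Cfsg.Agent.S4588

/-- Let G be a finite group, p a prime and M a maximal ideal of the algebraic integers containing p. If some p-element x of G (possibly x = 1) has centralizer whose order has p-part at most p², then the principal p-block of G contains at most p² irreducible characters of degree prime to p. -/
theorem result {G : Type*} [Group G] [Finite G] (p : ℕ) [Fact p.Prime] (M : Ideal Cfsg.AlgInt) (hM : Cfsg.IsPModular p M)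
    (hx : ∃ x : G, (∃ k : ℕ, orderOf x = p ^ k) ∧ (Nat.card (Subgroup.centralizer ({x} : Set G))).factorization p ≤ 2) :
    Nat.card {χ : Cfsg.IrrCharacter G // χ ∈ Cfsg.principalBlock M G ∧ ¬ p ∣ Cfsg.charDegree (χ : G → ℂ)} ≤ p ^ 2 := by
  classical
  haveI := H20.isPrime_of_modular hM
  haveI := Fintype.ofFinite G
  obtain ⟨x, ⟨j, hj⟩, hC⟩ := hx
  set B := Cfsg.principalBlock M G with hBdef
  have hBb : Cfsg.IsPBlock M B := H20.isPBlock_principalBlock
  have hdB : Cfsg.blockDefect p B = (Nat.card G).factorization p := H22.blockDefect_principalBlock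
  rcases Nat.eq_zero_or_pos j with rfl | hjpos
  · -- `x = 1`
    rw [pow_zero, orderOf_eq_one_iff] at hj
    subst hj
    have htop : Subgroup.centralizer ({1} : Set G) = ⊤ := by
      ext g; simp [Subgroup.mem_centralizer_singleton_iff]
    rw [htop, Subgroup.card_top, ← hdB] at hC
    have h := H19.BlockBound.natCard_le (p := p) hM _ G B hBb rfl
    rw [if_pos hC] at h
    refine le_trans ?_ (h.trans (Nat.pow_le_pow_right (Fact.out : p.Prime).pos hC))
    exact Nat.card_le_card_of_injective (fun χ => (⟨χ.1, χ.2.1⟩ : B)) fun a c h' =>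
      Subtype.ext (congrArg (fun χ : B => (χ : Cfsg.IrrCharacter G)) h')
  haveI := Fintype.ofFinite (Subgroup.centralizer ({x} : Set G))
  set C := Subgroup.centralizer ({x} : Set G)
  have hind : Cfsg.IsInducedBlock M C (Cfsg.principalBlock M C) B :=
    H20.principal_induces hM ⟨j, hj⟩
  obtain ⟨S⟩ := H22.Contrib.exists_setup hM ⟨j, hj⟩ hind
  set b := Cfsg.principalBlock M C
  have hdb : Cfsg.blockDefect p b = (Nat.card C).factorization p := H22.blockDefect_principalBlock
  -- a central element of order `p`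
  obtain ⟨i, rfl⟩ : ∃ i, j = i + 1 := ⟨j - 1, by omega⟩
  set xc : C := ⟨x, H22.Contrib.mem_self x⟩ with hxc
  have hxco : orderOf xc = p ^ (i + 1) := by rw [← Subgroup.orderOf_coe, hxc, hj]
  set z : C := xc ^ (p ^ i) with hzdef
  have hz : z ∈ Subgroup.center C := Subgroup.pow_mem _ (H22.Contrib.self_mem_center x) _
  have hzo : orderOf z = p := by
    rw [hzdef, orderOf_pow_of_dvd (pow_ne_zero _ (Fact.out : p.Prime).ne_zero)
      (by rw [hxco]; exact pow_dvd_pow p (Nat.le_succ i)), hxco, pow_succ,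
      Nat.mul_div_cancel_left _ (pow_pos (Fact.out : p.Prime).pos i)]
  have hd1 : 1 ≤ Cfsg.blockDefect p b := by
    rw [hdb]
    exact (Fact.out : p.Prime).factorization_pos_of_dvd Nat.card_pos.ne'
      (by rw [← hzo]; exact orderOf_dvd_natCard z)
  rw [← hdb] at hC
  obtain ⟨μ, hμpos, hμ, hμl⟩ : ∃ μ : ℤ, 0 < μ ∧ (∀ v, S.form v v ≠ 0 → μ ≤ S.form v v) ∧
      (p : ℤ) ^ Cfsg.blockDefect p b * (Cfsg.blockRank p b : ℤ) ≤ μ * (p : ℤ) ^ 2 := by
    have hppos : (0 : ℤ) < p := by exact_mod_cast (Fact.out : p.Prime).pos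
    by_cases h2 : Cfsg.blockDefect p b = 2 ∧ 0 < Cfsg.blockRank p b
    · refine ⟨(Cfsg.blockRank p b : ℤ), by exact_mod_cast h2.2, fun v hv => ?_,
        by rw [h2.1, mul_comm]⟩
      rw [S.form_apply] at hv ⊢
      exact H19.CentralPrime.le_form hM S.hind.1 hz hzo h2.1 S.hz S.hzm v hv
    · refine ⟨1, one_pos, fun v hv => by have := S.form_nonneg v; omega, ?_⟩
      rw [one_mul]
      rcases Nat.eq_zero_or_pos (Cfsg.blockRank p b) with hl | hl
      · rw [hl, Nat.cast_zero, mul_zero]; positivity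
      · have hd : Cfsg.blockDefect p b = 0 + 1 := by
          have : Cfsg.blockDefect p b ≠ 2 := fun h => h2 ⟨h, hl⟩
          omega
        obtain ⟨Z, hZn, hfin, Bbar, hBb', hdbar, htriv⟩ :=
          H19.CentralPrime.exists_quotient hM S.hind.1 hz hzo hd
        have hl1 := ((H19.CentralPrime.blockRank_le_card_triv hM S.hind.1 hz hzo hd).trans
          htriv).trans (H19.BlockBound.natCard_le (p := p) hM 0 _ Bbar hBb' hdbar)
        simp only [Nat.zero_le, if_true, pow_zero] at hl1
        rw [hd, show Cfsg.blockRank p b = 1 by omega, Nat.cast_one, mul_one]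
        exact pow_le_pow_right₀ (by omega) (by omega)
  set T := (H22.blockFinset B).filter fun χ : Cfsg.IrrCharacter G =>
    ¬ p ∣ Cfsg.charDegree (χ : G → ℂ)
  have hcard : Nat.card {χ : Cfsg.IrrCharacter G //
      χ ∈ B ∧ ¬ p ∣ Cfsg.charDegree (χ : G → ℂ)} = T.card := by
    rw [← Nat.card_eq_finsetCard]
    exact Nat.card_congr (Equiv.subtypeEquivRight fun χ => by simp [T, H22.mem_blockFinset])
  rw [hcard]
  have hp1 : (0 : ℤ) < (p : ℤ) - 1 := by have := (Fact.out : p.Prime).two_le; omega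
  have hlow : ∀ χ ∈ T, ((p : ℤ) - 1) * μ ≤ S.aSum χ := by
    intro χ hχ
    obtain ⟨hχB, hdeg⟩ := Finset.mem_filter.1 hχ
    have hχB' := H22.mem_blockFinset.1 hχB
    have h0 : Cfsg.blockHeight p B (χ : G → ℂ) = 0 := by
      have h1 := H22.blockHeight_add_blockExp (p := p) hχB'
      rw [Nat.factorization_eq_zero_of_not_dvd hdeg] at h1
      omega
    exact H22.Cyc.le_Phi S.form_symm S.form_nonneg hμ (S.vec χ) (S.aSum_ne_zero χ fun h =>
      S.aval_not_memIdeal hχB' hχB' h0 h0 (by rw [h]; exact H20.memIdeal_zero))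
  have h1 := Finset.card_nsmul_le_sum T S.aSum _ hlow
  have h2 := h1.trans (Finset.sum_le_sum_of_subset_of_nonneg (Finset.filter_subset _ _)
    fun χ _ _ => S.aSum_nonneg χ)
  rw [S.sum_aSum, nsmul_eq_mul] at h2
  have h3 : (T.card : ℤ) * (((p : ℤ) - 1) * μ) ≤ (p : ℤ) ^ 2 * (((p : ℤ) - 1) * μ) := by
    have := mul_le_mul_of_nonneg_left hμl hp1.le
    linarith
  exact_mod_cast le_of_mul_le_mul_right h3 (mul_pos hp1 hμpos)

end Cfsg.Agent.S4588
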