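import Cfsg.Statements.S4602
import Cfsg.Agent.H18.SylowNormalizes
import Cfsg.Agent.H10.PSolvable


set_option autoImplicit false
open Cfsg

namespace Cfsg.Agent.S4602

/-- Let G be a finite p-solvable group and q a prime different from p. Some Sylow p-subgroup of G normalizes some Sylow q-subgroup of G if and only if q does not divide the order of G/O_{p'}(G), the quotient by the largest normal subgroup of order prime to p. -/
theorem result {G : Type*} [Group G] [Finite G] (p q : ℕ) [Fact p.Prime] [Fact q.Prime] (hpq : p ≠ q) (hsolv : Cfsg.IsPSolvable p G) :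
    (∃ (P : Sylow p G) (Q : Sylow q G), (P : Subgroup G) ≤ Subgroup.normalizer ((Q : Subgroup G) : Set G)) ↔ ¬ q ∣ (Cfsg.pPrimeCore p G).index := by
  have hKn : (Cfsg.pPrimeCore p G).Normal := H10.pPrimeCore_normal
  set K := Cfsg.pPrimeCore p G with hKdef
  have hK : ¬ p ∣ Nat.card K :=
    (Fact.out : p.Prime).coprime_iff_not_dvd.mp H10.pPrimeCore_coprime.symm
  set π := QuotientGroup.mk' K with hπdef
  have hπ : Function.Surjective π := QuotientGroup.mk'_surjective K
  constructor
  · rintro ⟨P, Q, hPQ⟩ hd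
    have hs := H10.isPSolvable_quotient hsolv K
    have hcore : Cfsg.pPrimeCore p (G ⧸ K) = ⊥ := H10.pPrimeCore_quotient_pPrimeCore
    have hHH := H10.centralizer_pCore_le hs hcore
    set R := Cfsg.pCore p (G ⧸ K) with hR
    haveI hRn : R.Normal := H10.pCore_normal
    have hQb : (Q.mapSurjective hπ : Subgroup (G ⧸ K)) = ⊥ := by
      have hRP : R ≤ (P.mapSurjective hπ : Subgroup (G ⧸ K)) := H10.pCore_le_sylow _
      have hnorm : R ≤ Subgroup.normalizer ((Q.mapSurjective hπ : Subgroup (G ⧸ K)) : Set (G ⧸ K)) :=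
        hRP.trans ((Subgroup.map_mono hPQ).trans (Subgroup.le_normalizer_map π))
      have hle : (Q.mapSurjective hπ : Subgroup (G ⧸ K)) ≤ Subgroup.centralizer (R : Set (G ⧸ K)) := by
        intro a ha
        rw [Subgroup.mem_centralizer_iff]
        intro b hb
        have h1 : b * a * b⁻¹ * a⁻¹ ∈ R ⊓ (Q.mapSurjective hπ : Subgroup (G ⧸ K)) := by
          refine ⟨?_, Subgroup.mul_mem _ ((Subgroup.mem_normalizer_iff.mp (hnorm hb) a).mp ha)
            (Subgroup.inv_mem _ ha)⟩
          rw [mul_assoc b, mul_assoc b]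
          exact R.mul_mem hb (hRn.conj_mem _ (R.inv_mem hb) a)
        rw [disjoint_iff.mp (IsPGroup.disjoint_of_ne p q hpq _ _ H10.pCore_isPGroup
          (Q.mapSurjective hπ).isPGroup'), Subgroup.mem_bot, mul_inv_eq_one,
          mul_inv_eq_iff_eq_mul] at h1
        exact h1
      have h2 := IsPGroup.disjoint_of_ne p q hpq _ _ H10.pCore_isPGroup
        (Q.mapSurjective hπ).isPGroup'
      exact disjoint_self.mp (h2.mono_left (hle.trans hHH))
    have hQK : (Q : Subgroup G) ≤ K := by
      have : (Q : Subgroup G).map π = ⊥ := hQb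
      rw [Subgroup.map_eq_bot_iff, hπdef, QuotientGroup.ker_mk'] at this
      exact this
    exact Q.not_dvd_index (hd.trans (Subgroup.index_dvd_of_le hQK))
  · intro hd
    rw [H18.exists_normalizes_iff]
    obtain ⟨Q⟩ : Nonempty (Sylow q G) := inferInstance
    rw [H18.card_sylow_eq_mul K Q]
    refine (Fact.out : p.Prime).not_dvd_mul ?_ (fun h => hK (h.trans (Subgroup.relIndex_dvd_card _ _)))
    obtain ⟨Q'⟩ : Nonempty (Sylow q (G ⧸ K)) := inferInstance
    have hQ' : (Q' : Subgroup (G ⧸ K)) = ⊥ := by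
      rw [← Subgroup.card_eq_one]
      change Nat.card Q' = 1
      rw [Q'.card_eq_multiplicity, ← Subgroup.index_eq_card,
        Nat.factorization_eq_zero_of_not_dvd hd, pow_zero]
    rw [Q'.card_eq_index_normalizer]
    change ¬ p ∣ (Subgroup.normalizer ((Q' : Subgroup (G ⧸ K)) : Set (G ⧸ K))).index
    rw [hQ', Subgroup.normalizer_eq_top, Subgroup.index_top]
    exact (Fact.out : p.Prime).not_dvd_one

end Cfsg.Agent.S4602
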