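import Cfsg.Statements.S4604
import Cfsg.Agent.H19.RegularPartCong
-- import your own Cfsg.Agent.* helpers here

set_option autoImplicit false
open Cfsg

namespace Cfsg.Agent.S4604

/-- Let G be a finite group, p a prime and p^a the p-part of the order of G. Let x, y ∈ G and let x′, y′ be their p-regular parts: x′ has order prime to p, commutes with x·x′⁻¹, and x·x′⁻¹ has p-power order (likewise for y). Then x′ and y′ are conjugate in G if and only if for every irreducible character χ of G the algebraic integer χ(x)^(p^a) − χ(y)^(p^a) is p times an algebraic integer. -/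
theorem result {G : Type*} [Group G] [Finite G] (p : ℕ) [Fact p.Prime] (x y x' y' : G)
    (hx : (∃ k : ℕ, orderOf (x * x'⁻¹) = p ^ k) ∧ Commute (x * x'⁻¹) x' ∧ ¬ p ∣ orderOf x')
    (hy : (∃ k : ℕ, orderOf (y * y'⁻¹) = p ^ k) ∧ Commute (y * y'⁻¹) y' ∧ ¬ p ∣ orderOf y') :
    IsConj x' y' ↔ ∀ χ : Cfsg.IrrCharacter G, ∃ γ : Cfsg.AlgInt,
      (χ : G → ℂ) x ^ (p ^ (Nat.card G).factorization p) - (χ : G → ℂ) y ^ (p ^ (Nat.card G).factorization p) = (p : ℂ) * (γ : ℂ) := by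
  set a := (Nat.card G).factorization p with ha
  have hp : p.Prime := Fact.out
  have hred : ∀ z z' : G, ((∃ k : ℕ, orderOf (z * z'⁻¹) = p ^ k) ∧ Commute (z * z'⁻¹) z' ∧
      ¬ p ∣ orderOf z') → z ^ p ^ a = z' ^ p ^ a := by
    rintro z z' ⟨⟨k, hk⟩, hc, -⟩
    have hka : k ≤ a := (hp.pow_dvd_iff_le_factorization Nat.card_pos.ne').mp
      (hk ▸ orderOf_dvd_natCard (z * z'⁻¹))
    have h1 : (z * z'⁻¹) ^ p ^ a = 1 :=
      orderOf_dvd_iff_pow_eq_one.mp (hk ▸ pow_dvd_pow p hka)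
    calc z ^ p ^ a = ((z * z'⁻¹) * z') ^ p ^ a := by rw [inv_mul_cancel_right]
      _ = z' ^ p ^ a := by rw [hc.mul_pow, h1, one_mul]
  have hreg : ∀ z' : G, ¬ p ∣ orderOf z' → ¬ p ∣ orderOf (z' ^ p ^ a) := fun z' h hd =>
    h (hd.trans (orderOf_pow_dvd _))
  constructor
  · intro hconj χ
    obtain ⟨c, hc⟩ := isConj_iff.mp hconj
    have h1 : (χ : G → ℂ) (x ^ p ^ a) = (χ : G → ℂ) (y ^ p ^ a) := by
      rw [hred x x' hx, hred y y' hy]
      refine H12.IsClassFunction.of_isConj (H12.irr_isClassFunction χ) (isConj_iff.mpr ⟨c, ?_⟩)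
      rw [← hc, conj_pow]
    have h : H12.Glauberman.Cong p ((χ : G → ℂ) x ^ p ^ a) ((χ : G → ℂ) y ^ p ^ a) :=
      ((H19.RegCong.cong_char_pow (H12.isCharacter_irr χ) x a).trans
        (h1 ▸ (H19.RegCong.cong_char_pow (H12.isCharacter_irr χ) y a).symm))
    refine ⟨⟨_, h⟩, ?_⟩
    rw [mul_div_cancel₀ _ (Nat.cast_ne_zero.mpr hp.ne_zero)]
  · intro h
    have hc : IsConj (x' ^ p ^ a) (y' ^ p ^ a) := by
      refine H19.RegCong.isConj_of_cong (hreg x' hx.2.2) (hreg y' hy.2.2) fun χ => ?_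
      obtain ⟨γ, hγ⟩ := h χ
      have hγ' : H12.Glauberman.Cong p ((χ : G → ℂ) x ^ p ^ a) ((χ : G → ℂ) y ^ p ^ a) := by
        rw [H12.Glauberman.Cong, hγ, mul_div_cancel_left₀ _ (Nat.cast_ne_zero.mpr hp.ne_zero)]
        exact γ.2
      rw [← hred x x' hx, ← hred y y' hy]
      exact ((H19.RegCong.cong_char_pow (H12.isCharacter_irr χ) x a).symm.trans hγ').trans
        (H19.RegCong.cong_char_pow (H12.isCharacter_irr χ) y a)
    obtain ⟨c, hc⟩ := isConj_iff.mp hc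
    refine isConj_iff.mpr ⟨c, H19.RegCong.eq_of_pow_eq (p := p) (n := a) ?_ hy.2.2 ?_⟩
    · rw [show c * x' * c⁻¹ = MulAut.conj c x' from rfl, MulEquiv.orderOf_eq]
      exact hx.2.2
    · rw [conj_pow, hc]


end Cfsg.Agent.S4604
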