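import Cfsg.Statements.S4607
import Cfsg.Agent.H22.BlockTwo
import Cfsg.Agent.H25.DefectTwo
import Cfsg.Agent.H20.Defect

set_option autoImplicit false
open Cfsg

namespace Cfsg.Agent.S4607

/-- Let G be a finite group, p a prime, M a maximal ideal of the algebraic integers containing p, and B a p-block of G with defect group D. Then B contains exactly two irreducible characters if and only if D has order 2. -/
theorem result {G : Type*} [Group G] [Finite G] (p : ℕ) [Fact p.Prime] (M : Ideal Cfsg.AlgInt) (hM : Cfsg.IsPModular p M) (B : Set (Cfsg.IrrCharacter G)) (hB : Cfsg.IsPBlock M B) (D : Subgroup G) (hD : Cfsg.IsDefectGroup p M B D) : Nat.card B = 2 ↔ Nat.card D = 2 := by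
  classical
  haveI := Fintype.ofFinite G
  haveI := H20.isPrime_of_modular hM
  have hcard := H20.card_defectGroup hM hB hD
  constructor
  · intro hk
    obtain ⟨hp, hd⟩ := H22.BlockTwo.defect_one_of_card_two hM hB hk
    rw [hcard, hd, pow_one, hp]
  · intro h2
    have hp : p = 2 := by
      rw [hcard] at h2
      have hdne : blockDefect p B ≠ 0 := by
        intro h
        rw [h, pow_zero] at h2
        omega
      exact ((Nat.prime_dvd_prime_iff_eq (Fact.out) Nat.prime_two).1
        (h2 ▸ dvd_pow_self p hdne))
    subst hp
    obtain ⟨χ, ψ, hne, hmem, -, -⟩ :=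
      H25.defectOne_two_block hM hB (H25.blockDefect_eq_one hM hB hD h2)
    exact H25.card_block_pair hne hmem

end Cfsg.Agent.S4607
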