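import Cfsg.Statements.S4609
import Cfsg.Agent.H23.Three.Cyclic
-- import your own Cfsg.Agent.* helpers here

set_option autoImplicit false
open Cfsg

namespace Cfsg.Agent.S4609

/-- Let G be a finite group, p a prime, M a maximal ideal of the algebraic integers containing p, and B a p-block of G with defect group D containing exactly three irreducible characters. Suppose the number of height-zero characters of B equals the number of height-zero characters of its Brauer correspondent b, the block of N_G(D) with defect group D inducing B (as the Alperin–McKay conjecture predicts). Then D has order 3. -/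
theorem result {G : Type*} [Group G] [Finite G] (p : ℕ) [Fact p.Prime] (M : Ideal Cfsg.AlgInt) (hM : Cfsg.IsPModular p M) (B : Set (Cfsg.IrrCharacter G)) (hB : Cfsg.IsPBlock M B) (D : Subgroup G) (hD : Cfsg.IsDefectGroup p M B D) (hk : Nat.card B = 3)
    (b : Set (Cfsg.IrrCharacter (Subgroup.normalizer (D : Set G)))) (hbB : Cfsg.IsInducedBlock M (Subgroup.normalizer (D : Set G)) b B)
    (hbD : Cfsg.IsDefectGroup p M b (D.subgroupOf (Subgroup.normalizer (D : Set G))))
    (hAM : Nat.card {χ : Cfsg.IrrCharacter G // χ ∈ B ∧ Cfsg.blockHeight p B (χ : G → ℂ) = 0} =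
           Nat.card {ψ : Cfsg.IrrCharacter (Subgroup.normalizer (D : Set G)) // ψ ∈ b ∧ Cfsg.blockHeight p b (ψ : Subgroup.normalizer (D : Set G) → ℂ) = 0}) :
    Nat.card D = 3 := by
  haveI := Fintype.ofFinite G
  haveI := H20.isPrime_of_modular hM
  haveI := Fintype.ofFinite (Subgroup.normalizer (D : Set G))
  have hD1 : D ≠ ⊥ := by
    intro h
    have hc := H20.card_defectGroup hM hB hD
    rw [h, Subgroup.card_bot, eq_comm, Nat.pow_eq_one] at hc
    obtain ⟨χ, hχ⟩ := H20.block_nonempty hB
    rw [H20.singleton_of_defect_zero hM hB (hc.resolve_left (Fact.out : p.Prime).one_lt.ne') hχ]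
      at hk
    simp at hk
  haveI : (D.subgroupOf (Subgroup.normalizer (D : Set G))).Normal :=
    Subgroup.normal_in_normalizer
  have hle : D ≤ Subgroup.normalizer (D : Set G) := Subgroup.le_normalizer
  have hN1 : D.subgroupOf (Subgroup.normalizer (D : Set G)) ≠ ⊥ := by
    rw [Ne, Subgroup.subgroupOf_eq_bot]
    exact fun h => hD1 (disjoint_self.1 (h.mono_right hle))
  have hcyc := H23.Three.isCyclic_of_small hM hbB.1 hbD hN1 (by
    rw [← hAM]
    exact (Nat.card_le_card_of_injective (fun χ : {χ : IrrCharacter G //
      χ ∈ B ∧ blockHeight p B (χ : G → ℂ) = 0} => (⟨χ.1, χ.2.1⟩ : B))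
      fun a b h => Subtype.ext (congrArg (fun x : B => x.1) h)).trans hk.le)
  haveI := hcyc
  exact H23.Three.card_eq_three_of_cyclic hM hB hD
    (isCyclic_of_surjective (Subgroup.subgroupOfEquivOfLe hle).toMonoidHom
      (Subgroup.subgroupOfEquivOfLe hle).surjective) hD1 hk

end Cfsg.Agent.S4609
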