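import Cfsg.Statements.S4611
import Cfsg.Agent.H24.PrincipalQuot
import Cfsg.Agent.H24.Quot
import Cfsg.Agent.H20.BlockApps
import Cfsg.Agent.H10.PSolvable

set_option autoImplicit false
set_option linter.style.haveILetI false
open Cfsg

namespace Cfsg.Agent.S4611

/-- In a solvable group the principal block consists of the characters trivial on the p'-core. -/
theorem mem_principalBlock_iff {G : Type*} [Group G] [Finite G] [Group.IsSolvable G] {p : ℕ}
    [Fact p.Prime] {M : Ideal AlgInt} (hM : IsPModular p M) (χ : IrrCharacter G) :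
    χ ∈ principalBlock M G ↔ pPrimeCore p G ≤ H24.kerChar χ := by
  classical
  haveI := Fintype.ofFinite G
  haveI := H20.isPrime_of_modular hM
  haveI := H1.pPrimeCore_normal' p G
  haveI := Fintype.ofFinite (G ⧸ pPrimeCore p G)
  refine ⟨fun h n hn => H24.mem_kerChar.2 (H20.principal_pPrimeCore_ker hM h hn), fun h => ?_⟩
  obtain ⟨ψ, hψ⟩ := H24.exists_deflate (pPrimeCore p G) χ h
  haveI : Group.IsSolvable (G ⧸ pPrimeCore p G) :=
    Group.isSolvable_of_surjective (QuotientGroup.mk'_surjective (pPrimeCore p G))
  rw [← hψ, H24.inflate_mem_principalBlock_iff _ hM (H24.not_dvd_card_pPrimeCore Fact.out)]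
  rw [H20.principalBlock_eq]
  exact H20.sameBlock_symm (χ := ψ) (ψ := H12.oneIrr (G ⧸ pPrimeCore p G))
    (H20.single_block hM H10.isPSolvable_of_isSolvable
      (H10.pPrimeCore_quotient_pPrimeCore) _ _)

/-- Let G be a finite solvable group and π a nonempty set of primes, each dividing the order of G; fix for each p in π a maximal ideal M p of the algebraic integers containing p. Then the only irreducible character lying in the principal p-block for every p in π is the principal character if and only if G is generated by the subgroups O_{p'}(G), p in π (the largest normal subgroups of order prime to p). -/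
theorem result {G : Type*} [Group G] [Finite G] [Group.IsSolvable G] (π : Set ℕ) (hπ : ∀ p ∈ π, p.Prime ∧ p ∣ Nat.card G) (hne : π.Nonempty) (M : ℕ → Ideal Cfsg.AlgInt) (hM : ∀ p ∈ π, Cfsg.IsPModular p (M p)) :
    (∀ χ : Cfsg.IrrCharacter G, (∀ p ∈ π, χ ∈ Cfsg.principalBlock (M p) G) → (χ : G → ℂ) = fun _ => 1) ↔
      ⨆ p ∈ π, Cfsg.pPrimeCore p G = ⊤ := by
  classical
  haveI := Fintype.ofFinite G
  constructor
  · intro h
    set N := ⨆ p ∈ π, pPrimeCore p G with hN
    haveI : N.Normal := by
      have : ∀ p, (⨆ _ : p ∈ π, pPrimeCore p G).Normal := fun p => by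
        haveI := fun _ : p ∈ π => H1.pPrimeCore_normal' p G
        exact Subgroup.iSup_normal (fun _ : p ∈ π => pPrimeCore p G)
      exact Subgroup.iSup_normal _
    by_contra hne
    haveI : Nontrivial (G ⧸ N) := QuotientGroup.nontrivial_iff.2 hne
    obtain ⟨ψ, hψ⟩ := H24.exists_irr_ne_one (G := G ⧸ N)
    have hb : ∀ p ∈ π, H24.inflate N ψ ∈ principalBlock (M p) G := fun p hp => by
      haveI : Fact p.Prime := ⟨(hπ p hp).1⟩
      exact (mem_principalBlock_iff (hM p hp) _).2
        ((le_biSup (fun p => pPrimeCore p G) hp).trans (H24.le_kerChar_inflate N ψ))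
    apply hψ
    refine H24.inflate_injective N (Subtype.ext ?_)
    rw [h _ hb]
    funext g
    rw [H24.inflate_apply, H12.oneIrr_apply]
  · intro htop χ hχ
    have hker : H24.kerChar χ = ⊤ := top_le_iff.1 (htop ▸ iSup₂_le fun p hp => by
      haveI : Fact p.Prime := ⟨(hπ p hp).1⟩
      exact (mem_principalBlock_iff (hM p hp) χ).1 (hχ p hp))
    by_contra hne
    have hχ1 : χ ≠ H12.oneIrr G := fun h => hne (by rw [h]; funext g; rw [H12.oneIrr_apply])
    have h0 := H12.classInner_irr_ne hχ1
    rw [H12.classInner_def, Finset.sum_congr rfl fun g _ => by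
      rw [H24.mem_kerChar.1 (show g ∈ H24.kerChar χ by rw [hker]; trivial), H12.oneIrr_apply, map_one,
        mul_one], Finset.sum_const, Finset.card_univ, nsmul_eq_mul, ← Nat.card_eq_fintype_card,
      inv_mul_cancel_left₀ (by exact_mod_cast Nat.card_pos.ne')] at h0
    exact H12.irr_apply_one_ne_zero χ h0

end Cfsg.Agent.S4611
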