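import Cfsg.Statements.S4620
import Cfsg.Agent.H18.Generators
import Cfsg.Agent.H18.Basic
import Cfsg.Agent.H1.Cores


set_option autoImplicit false
open scoped Pointwise
open Cfsg

namespace Cfsg.Agent.S4620

/-- Let H be a finite group with no nontrivial normal p-subgroup and no nontrivial normal subgroup of order prime to p, whose Sylow p-subgroup P is nontrivial and a trivial-intersection set (P meets its conjugates by elements outside N_H(P) trivially). Then H has a unique minimal normal subgroup N; N is non-abelian simple with trivial centralizer in H (so H embeds in Aut(N)), and a Sylow p-subgroup of N is again a nontrivial trivial-intersection set in N. -/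
theorem result {H : Type*} [Group H] [Finite H] (p : ℕ) [Fact p.Prime] (hOp : Cfsg.pCore p H = ⊥) (hOp' : Cfsg.pPrimeCore p H = ⊥) (P : Sylow p H) (hP1 : (P : Subgroup H) ≠ ⊥)
    (hTI : ∀ g : H, g ∉ Subgroup.normalizer ((P : Subgroup H) : Set H) → (P : Subgroup H) ⊓ (MulAut.conj g • (P : Subgroup H)) = ⊥) :
    ∃ N : Subgroup H, N.Normal ∧ N ≠ ⊥ ∧ (∀ K : Subgroup H, K.Normal → K ≠ ⊥ → N ≤ K) ∧
      IsSimpleGroup N ∧ ¬ IsMulCommutative N ∧ Subgroup.centralizer (N : Set H) = ⊥ ∧
      ∀ Q : Sylow p N, (Q : Subgroup N) ≠ ⊥ ∧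
        ∀ n : N, n ∉ Subgroup.normalizer ((Q : Subgroup N) : Set N) → (Q : Subgroup N) ⊓ (MulAut.conj n • (Q : Subgroup N)) = ⊥ := by
  have hp := (Fact.out : p.Prime)
  have hdvd : ∀ K : Subgroup H, K.Normal → K ≠ ⊥ → p ∣ Nat.card K := by
    intro K hK hK1
    by_contra h
    exact hK1 (le_bot_iff.mp ((H1.le_pPrimeCore (hp.coprime_iff_not_dvd.mpr h).symm).trans hOp'.le))
  have hTI' : ∀ (R : Sylow p H) (g : H), g ∉ Subgroup.normalizer ((R : Subgroup H) : Set H) →
      (R : Subgroup H) ⊓ (MulAut.conj g • (R : Subgroup H)) = ⊥ := by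
    intro R g hg
    obtain ⟨c, rfl⟩ := MulAction.exists_smul_eq H P R
    rw [Sylow.coe_subgroup_smul] at hg ⊢
    have hg' : c⁻¹ * g * c ∉ Subgroup.normalizer ((P : Subgroup H) : Set H) := by
      intro h
      apply hg
      rw [H18.mem_normalizer_iff_conj_smul] at h ⊢
      rw [map_mul, map_mul, mul_smul, mul_smul, map_inv, inv_smul_eq_iff] at h
      exact h
    have := congrArg (MulAut.conj c • ·) (hTI _ hg')
    simp only [Subgroup.smul_inf, Subgroup.smul_bot] at this
    rw [← this, ← mul_smul, ← mul_smul, ← map_mul, ← map_mul]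
    congr 3
    group
  have keyA : ∀ (L : Subgroup H) (y : H), orderOf y = p → (∀ l ∈ L, Commute l y) →
      p ∣ Nat.card L → Cfsg.pCore p L ≠ ⊥ := by
    intro L y hy hc hL hbot
    obtain ⟨R, hR⟩ := (IsPGroup.of_card (n := 1)
      (by rw [Nat.card_zpowers, hy, pow_one] :
        Nat.card (Subgroup.zpowers y) = p ^ 1)).exists_le_sylow
    have hyR := hR (Subgroup.mem_zpowers y)
    have hLN : L ≤ Subgroup.normalizer ((R : Subgroup H) : Set H) := by
      intro l hl
      by_contra h
      have h1 : y ∈ (R : Subgroup H) ⊓ (MulAut.conj l • (R : Subgroup H)) := by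
        refine ⟨hyR, H18.mem_conj_smul.mpr ?_⟩
        rw [mul_assoc, ← (hc l hl).eq, inv_mul_cancel_left]
        exact hyR
      rw [hTI' R l h, Subgroup.mem_bot] at h1
      rw [h1, orderOf_one] at hy
      exact hp.one_lt.ne hy
    haveI : ((R : Subgroup H).subgroupOf L).Normal := Subgroup.normal_subgroupOf_of_le_normalizer hLN
    have h2 := (H1.le_pCore (p := p) (N := (R : Subgroup H).subgroupOf L)
      R.isPGroup'.comap_subtype).trans hbot.le
    obtain ⟨z, hz⟩ := exists_prime_orderOf_dvd_card' p hL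
    have hzR : (z : H) ∈ (R : Subgroup H) := by
      let RN := R.subtype (Subgroup.le_normalizer (H := (R : Subgroup H)))
      haveI : (RN : Subgroup ↥(Subgroup.normalizer ((R : Subgroup H) : Set H))).Normal := by
        rw [Sylow.coe_subtype]; exact Subgroup.normal_in_normalizer
      let zn : ↥(Subgroup.normalizer ((R : Subgroup H) : Set H)) := ⟨z, hLN z.2⟩
      have hzn : IsPGroup p (Subgroup.zpowers zn) := IsPGroup.of_card (n := 1)
        (by rw [Nat.card_zpowers, ← Subgroup.orderOf_coe, Subgroup.orderOf_coe z, hz, pow_one])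
      have h3 : Subgroup.zpowers zn ≤ (RN : Subgroup _) := by
        rw [← RN.is_maximal' (hzn.to_sup_of_normal_right RN.isPGroup') le_sup_right]
        exact le_sup_left
      exact h3 (Subgroup.mem_zpowers zn)
    have h4 := h2 (hzR : z ∈ (R : Subgroup H).subgroupOf L)
    rw [Subgroup.mem_bot] at h4
    rw [h4, orderOf_one] at hz
    exact hp.one_lt.ne hz
  have hcore : ∀ (M : Subgroup H) [M.Normal] (L : Subgroup M) [L.Normal],
      Cfsg.pCore p ↥(L.map M.subtype) = ⊥ := by
    intro M _ L _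
    have h1 : Cfsg.pCore p M = ⊥ := by
      have := H1.pCore_subgroup_map_eq p M
      rw [hOp, bot_inf_eq, Subgroup.map_eq_bot_iff_of_injective _ Subtype.val_injective] at this
      exact this
    have h2 : Cfsg.pCore p L = ⊥ := by
      have := H1.pCore_subgroup_map_eq p L
      rw [h1, bot_inf_eq, Subgroup.map_eq_bot_iff_of_injective _ Subtype.val_injective] at this
      exact this
    rw [← H1.map_pCore_equiv p (L.equivMapOfInjective M.subtype Subtype.val_injective), h2,
      Subgroup.map_bot]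
  have key : ∀ (M : Subgroup H) [M.Normal] (L : Subgroup M) [L.Normal] (K : Subgroup H),
      (∀ l ∈ L.map M.subtype, ∀ k ∈ K, Commute l k) → p ∣ Nat.card K →
      p ∣ Nat.card (L.map M.subtype) → False := by
    intro M _ L _ K hcomm hK hL
    obtain ⟨y, hy⟩ := exists_prime_orderOf_dvd_card' p hK
    exact keyA _ (y : H) (by rw [Subgroup.orderOf_coe, hy]) (fun l hl => hcomm l hl y y.2) hL
      (hcore M L)
  have key' : ∀ K L : Subgroup H, K.Normal → L.Normal → K ≠ ⊥ → L ≠ ⊥ →
      (∀ l ∈ L, ∀ k ∈ K, Commute l k) → False := by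
    intro K L hKn hLn hK hL h
    have hmap : (⊤ : Subgroup L).map L.subtype = L := by
      rw [← MonoidHom.range_eq_map, Subgroup.range_subtype]
    refine key L (⊤ : Subgroup L) K (fun l hl => h l (hmap ▸ hl)) (hdvd K hKn hK) ?_
    rw [hmap]
    exact hdvd L hLn hL
  obtain ⟨N, ⟨hNn, hN1⟩, hNmin⟩ : ∃ N : Subgroup H, Minimal (fun K : Subgroup H => K.Normal ∧ K ≠ ⊥) N :=
    exists_minimal_of_wellFoundedLT (fun K : Subgroup H => K.Normal ∧ K ≠ ⊥)
      ⟨⊤, inferInstance, fun h => hP1 (le_bot_iff.mp (le_top.trans h.le))⟩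
  have huniq : ∀ K : Subgroup H, K.Normal → K ≠ ⊥ → N ≤ K := by
    intro K hK hK1
    by_cases h : N ⊓ K = ⊥
    · exact (key' K N hK hNn hK1 hN1 fun l hl k hk =>
        Subgroup.commute_of_normal_of_disjoint N K hNn hK (disjoint_iff.mpr h) l k hl hk).elim
    · exact (hNmin ⟨inferInstance, h⟩ inf_le_left).trans inf_le_right
  have hC : Subgroup.centralizer (N : Set H) = ⊥ := by
    by_contra h
    exact key' (Subgroup.centralizer (N : Set H)) N inferInstance hNn h hN1
      fun l hl k hk => Subgroup.mem_centralizer_iff.mp hk l hl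
  have hna : ¬ IsMulCommutative N := by
    intro h
    apply hN1
    rw [← le_bot_iff, ← hC]
    intro a ha
    rw [Subgroup.mem_centralizer_iff]
    intro b hb
    exact congrArg Subtype.val (h.is_comm.comm ⟨b, hb⟩ ⟨a, ha⟩)
  haveI : Nontrivial N := (Subgroup.nontrivial_iff_ne_bot N).mpr hN1
  have hpN : Cfsg.pPrimeCore p N = ⊥ := by
    have := H1.pPrimeCore_subgroup_map_eq p N
    rw [hOp', bot_inf_eq, Subgroup.map_eq_bot_iff_of_injective _ Subtype.val_injective] at this
    exact this
  have hsimple : IsSimpleGroup N := by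
    refine ⟨fun M hM => or_iff_not_imp_left.mpr fun hM1 => ?_⟩
    obtain ⟨M₀, hM₀le, ⟨hM₀n, hM₀1⟩, hM₀min⟩ :=
      exists_minimal_le_of_wellFoundedLT (fun K : Subgroup N => K.Normal ∧ K ≠ ⊥) M ⟨hM, hM1⟩
    have hpd : ∀ K : Subgroup N, K.Normal → K ≠ ⊥ → p ∣ Nat.card (K.map N.subtype) := by
      intro K hK hK1
      rw [Subgroup.card_map_of_injective Subtype.val_injective]
      by_contra h
      exact hK1 (le_bot_iff.mp ((H1.le_pPrimeCore (hp.coprime_iff_not_dvd.mpr h).symm).trans hpN.le))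
    have hnorm : ∀ h : H, MulAut.conj h • M₀.map N.subtype ≤ M₀.map N.subtype := by
      intro h
      set M₁ := M₀.map (MulAut.conjNormal h : N ≃* N).toMonoidHom with hM₁
      have hM₁n : M₁.Normal := hM₀n.map _ (MulAut.conjNormal h : N ≃* N).surjective
      have hM₁1 : M₁ ≠ ⊥ := fun h' =>
        hM₀1 ((Subgroup.map_eq_bot_iff_of_injective _ (MulAut.conjNormal h : N ≃* N).injective).mp h')
      have hmap : M₁.map N.subtype = MulAut.conj h • M₀.map N.subtype := by
        ext w
        rw [H18.mem_conj_smul, hM₁]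
        constructor
        · rintro ⟨_, ⟨v, hv, rfl⟩, rfl⟩
          refine ⟨v, hv, ?_⟩
          simp [mul_assoc]
        · rintro ⟨v, hv, hvw⟩
          refine ⟨_, ⟨v, hv, rfl⟩, ?_⟩
          simp only [Subgroup.subtype_apply] at hvw
          simp [hvw, mul_assoc]
      rw [← hmap]
      refine Subgroup.map_mono ?_
      by_cases hi : M₀ ⊓ M₁ = ⊥
      · refine (key N M₀ (M₁.map N.subtype) ?_ (hpd M₁ hM₁n hM₁1) (hpd M₀ hM₀n hM₀1)).elim
        rintro _ ⟨l, hl, rfl⟩ _ ⟨k, hk, rfl⟩
        exact (Subgroup.commute_of_normal_of_disjoint M₀ M₁ hM₀n hM₁n (disjoint_iff.mpr hi)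
          l k hl hk).map N.subtype
      · have h1 : M₀ ≤ M₁ := (hM₀min ⟨inferInstance, hi⟩ inf_le_left).trans inf_le_right
        exact (Subgroup.eq_of_le_of_card_ge h1 (le_of_eq
          (Subgroup.card_map_of_injective (MulAut.conjNormal h : N ≃* N).injective))).ge
    have hMn : (M₀.map N.subtype).Normal := ⟨fun x hx h => hnorm h (by
      rw [H18.mem_conj_smul]; simpa [mul_assoc] using hx)⟩
    have := huniq _ hMn (fun h' =>
      hM₀1 ((Subgroup.map_eq_bot_iff_of_injective _ Subtype.val_injective).mp h'))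
    rw [eq_top_iff]
    intro z _
    obtain ⟨w, hw, hwz⟩ := this z.2
    rw [← Subtype.val_injective hwz]
    exact hM₀le hw
  refine ⟨N, hNn, hN1, huniq, hsimple, hna, hC, fun Q => ⟨?_, fun n hn => ?_⟩⟩
  · intro h
    exact Q.not_dvd_index (by rw [h, Subgroup.index_bot]; exact hdvd N hNn hN1)
  · obtain ⟨R, hR⟩ := (Q.isPGroup'.map N.subtype).exists_le_sylow
    have hQ : ∀ z : N, z ∈ (Q : Subgroup N) ↔ (z : H) ∈ (R : Subgroup H) := by
      intro z
      refine ⟨fun hz => hR ⟨z, hz, rfl⟩, fun hz => ?_⟩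
      have h1 : (Q : Subgroup N) ≤ (R : Subgroup H).subgroupOf N := fun w hw => hR ⟨w, hw, rfl⟩
      rw [← Q.is_maximal' R.isPGroup'.comap_subtype h1]
      exact hz
    by_cases hnR : (n : H) ∈ Subgroup.normalizer ((R : Subgroup H) : Set H)
    · refine absurd ?_ hn
      rw [Subgroup.mem_normalizer_iff] at hnR ⊢
      intro z
      rw [hQ, hQ]
      exact hnR z
    · rw [Subgroup.eq_bot_iff_forall]
      intro z hz
      have h1 : (z : H) ∈ (R : Subgroup H) ⊓ (MulAut.conj (n : H) • (R : Subgroup H)) := by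
        refine ⟨(hQ z).mp hz.1, H18.mem_conj_smul.mpr ?_⟩
        exact (hQ _).mp (H18.mem_conj_smul.mp hz.2)
      rw [hTI' R n hnR, Subgroup.mem_bot] at h1
      exact Subtype.ext h1

end Cfsg.Agent.S4620
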