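import Cfsg.Statements.S4623
import Cfsg.Agent.H18.SylowExponent


set_option autoImplicit false
open Cfsg

namespace Cfsg.Agent.S4623

/-- For every prime p and every n, a Sylow p-subgroup P of the symmetric group on n letters has P/P' elementary abelian (the p-th power of every element of P lies in the derived subgroup of P), and the same holds for a Sylow p-subgroup of the alternating group on n letters. -/
theorem result (p : ℕ) [Fact p.Prime] (n : ℕ) (P : Sylow p (Equiv.Perm (Fin n))) (Q : Sylow p (alternatingGroup (Fin n))) :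
    (∀ x : (P : Subgroup (Equiv.Perm (Fin n))), x ^ p ∈ commutator (P : Subgroup (Equiv.Perm (Fin n)))) ∧
    (∀ x : (Q : Subgroup (alternatingGroup (Fin n))), x ^ p ∈ commutator (Q : Subgroup (alternatingGroup (Fin n)))) := by
  classical
  obtain ⟨S, hS, hc⟩ := H18.exists_nice_sylow p n
  set K := Subgroup.closure S with hKdef
  have hcard : Nat.card K = p ^ (Nat.card (Equiv.Perm (Fin n))).factorization p := by
    rw [hc, Nat.card_eq_fintype_card, Fintype.card_perm, Fintype.card_fin,
      Nat.factorization_def _ (Fact.out : p.Prime)]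
  have hKp : IsPGroup p K := IsPGroup.of_card hcard
  refine ⟨H18.pow_mem_commutator_of_equiv ((Sylow.ofCard K hcard).equiv P)
    (H18.pow_mem_commutator_closure fun s hs => (hS s hs).1), ?_⟩
  let A := alternatingGroup (Fin n)
  let E := K ⊓ A
  have hEp : IsPGroup p E := hKp.to_le inf_le_left
  obtain ⟨j, hj⟩ := IsPGroup.iff_card.mp hEp
  have hEA : Nat.card ↥(E.subgroupOf A) = p ^ (Nat.card A).factorization p := by
    rw [Nat.card_congr (Subgroup.subgroupOfEquivOfLe (inf_le_right : E ≤ A)).toEquiv, hj]
    congr 1
    have hpp : p.Prime := Fact.out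
    have h1 : j ≤ (Nat.card A).factorization p :=
      (hpp.pow_dvd_iff_le_factorization Nat.card_pos.ne').mp
        (hj ▸ Subgroup.card_dvd_of_le inf_le_right)
    have h2 : Nat.card E * A.relIndex K = Nat.card K := by
      rw [mul_comm]
      have := Subgroup.card_mul_index (A.subgroupOf K)
      rw [Subgroup.relIndex, mul_comm]
      convert this using 2
      exact Nat.card_congr (Equiv.subtypeSubtypeEquivSubtypeInter (· ∈ K) (· ∈ A)).symm
    have h3 : A.relIndex K ∣ A.index := Subgroup.relIndex_dvd_index_of_normal A K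
    have h4 : p ^ (Nat.card (Equiv.Perm (Fin n))).factorization p ∣ p ^ j * A.index :=
      hcard ▸ h2 ▸ hj ▸ mul_dvd_mul_left _ h3
    have h5 := (Nat.factorization_le_iff_dvd (pow_ne_zero _ hpp.ne_zero) (mul_ne_zero
      (pow_ne_zero _ hpp.ne_zero) Subgroup.index_ne_zero_of_finite)).mpr h4 p
    rw [← A.card_mul_index, Nat.factorization_mul Nat.card_pos.ne' Subgroup.index_ne_zero_of_finite,
      Nat.factorization_mul (pow_ne_zero _ hpp.ne_zero) Subgroup.index_ne_zero_of_finite] at h5
    simp only [Nat.factorization_pow, Finsupp.coe_add, Pi.add_apply, Finsupp.smul_apply,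
      hpp.factorization_self, smul_eq_mul, mul_one] at h5
    omega
  refine H18.pow_mem_commutator_of_equiv
    (((Subgroup.subgroupOfEquivOfLe (inf_le_right : E ≤ A)).symm).trans
      ((Sylow.ofCard _ hEA).equiv Q)) ?_
  have hgen : ∃ T : Set (Equiv.Perm (Fin n)), E = Subgroup.closure T ∧ ∀ t ∈ T, t ^ p = 1 := by
    by_cases h2 : p = 2
    · subst h2
      exact ⟨_, H18.even_part_generators hS hKp, fun t ht => ht.2⟩
    · refine ⟨S, inf_eq_left.mpr ((Subgroup.closure_le _).mpr fun s hs => ?_), fun s hs => (hS s hs).1⟩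
      refine Equiv.Perm.mem_alternatingGroup.mpr ?_
      rcases (hS s hs).2 with h | h
      · exact h
      · exfalso
        have h1 := congrArg Equiv.Perm.sign (hS s hs).1
        rw [map_pow, h.sign_eq, ((Fact.out : p.Prime).odd_of_ne_two h2).neg_one_pow, map_one] at h1
        exact absurd h1 (by decide)
  obtain ⟨T, hT, hTp⟩ := hgen
  simp only [E] at hT
  rw [hT]
  exact H18.pow_mem_commutator_closure hTp

end Cfsg.Agent.S4623
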