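import Cfsg.Statements.S4636
import Cfsg.Agent.H18.Basic

set_option autoImplicit false
open scoped Pointwise
open Cfsg

namespace Cfsg.Agent.S4636

/-- Let P be a nontrivial cyclic p-subgroup of the finite group G and Z its subgroup of order p. For every x outside N_G(Z), P meets its conjugate xPx⁻¹ trivially; consequently N_G(Q) ≤ N_G(Z) for every nontrivial subgroup Q of P. -/
theorem result {G : Type*} [Group G] [Finite G] (p : ℕ) [Fact p.Prime] (P : Subgroup G) (hP : IsPGroup p P) (hP1 : P ≠ ⊥) (hcyc : IsCyclic P) (Z : Subgroup G) (hZ : Z ≤ P) (hZcard : Nat.card Z = p) : (∀ x : G, x ∉ Subgroup.normalizer (Z : Set G) → P ⊓ MulAut.conj x • P = ⊥) ∧ ∀ Q : Subgroup G, Q ≤ P → Q ≠ ⊥ → Subgroup.normalizer (Q : Set G) ≤ Subgroup.normalizer (Z : Set G) := by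
  have hZ0 : Z ≠ ⊥ := by
    intro h
    rw [h, Subgroup.card_bot] at hZcard
    exact (Fact.out : p.Prime).one_lt.ne' hZcard.symm
  have uniq : ∀ A : Subgroup G, A ≤ P → A ≠ ⊥ → Z ≤ A := by
    intro A hA hA1
    have : Nontrivial A := (Subgroup.nontrivial_iff_ne_bot A).mpr hA1
    have hpA : p ∣ Nat.card A :=
      ((hP.to_le hA).card_eq_or_dvd).resolve_left (ne_of_gt Finite.one_lt_card)
    obtain ⟨a, ha⟩ := exists_prime_orderOf_dvd_card' p hpA
    have h1 : Nat.card ↥((Subgroup.zpowers (a : G)).subgroupOf P) = p := by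
      rw [Nat.card_congr (Subgroup.subgroupOfEquivOfLe (Subgroup.zpowers_le.mpr (hA a.2))).toEquiv,
        Nat.card_zpowers, Subgroup.orderOf_coe, ha]
    have h2 : Nat.card ↥(Z.subgroupOf P) = p := by
      rw [Nat.card_congr (Subgroup.subgroupOfEquivOfLe hZ).toEquiv, hZcard]
    have : IsCyclic P := hcyc
    have h3 := H18.cyclic_subgroup_eq_of_card_eq (h1.trans h2.symm)
    intro z hz
    have : (⟨z, hZ hz⟩ : P) ∈ (Subgroup.zpowers (a : G)).subgroupOf P := by
      rw [h3]; exact hz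
    exact (Subgroup.zpowers_le.mpr a.2) this
  have key : ∀ x : G, P ⊓ MulAut.conj x • P ≠ ⊥ → x ∈ Subgroup.normalizer (Z : Set G) := by
    intro x hx
    have h1 : Z ≤ MulAut.conj x • P := (uniq _ inf_le_left hx).trans inf_le_right
    rw [H18.mem_normalizer_iff_conj_smul]
    have hle : MulAut.conj x⁻¹ • Z ≤ P := by
      rw [map_inv, ← Subgroup.subset_pointwise_smul_iff]
      exact h1
    have hne : MulAut.conj x⁻¹ • Z ≠ ⊥ := fun h => hZ0 <| Subgroup.card_eq_one.mp
      (by rw [← H18.conj_smul_card x⁻¹ Z, h, Subgroup.card_bot])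
    have h2 : MulAut.conj x⁻¹ • Z = Z :=
      (Subgroup.eq_of_le_of_card_ge (uniq _ hle hne) (le_of_eq (H18.conj_smul_card x⁻¹ Z))).symm
    conv_lhs => rw [← h2]
    simp [map_inv]
  refine ⟨fun x hx => by_contra fun h => hx (key x h), fun Q hQ hQ1 g hg => key g ?_⟩
  intro h
  apply hQ1
  rw [← le_bot_iff, ← h]
  refine le_inf hQ ?_
  conv_lhs => rw [← H18.mem_normalizer_iff_conj_smul.mp hg]
  exact Subgroup.pointwise_smul_le_pointwise_smul_iff.mpr hQ

end Cfsg.Agent.S4636
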