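import Cfsg.Statements.S4672
import Cfsg.Agent.H23.Covering
import Cfsg.Agent.H23.DefectPair
import Cfsg.Agent.H23.Lift
import Cfsg.Agent.S4438
-- import your own Cfsg.Agent.* helpers here

set_option autoImplicit false
open Cfsg

open H23
open scoped MonoidAlgebra Pointwise

namespace Cfsg.Agent.S4672

/-- Fix a prime p and a maximal ideal M of the algebraic integers containing p. Let N be a normal subgroup of the finite group G of p-power index and c a p-block of N stable under conjugation by G. Then the idempotent of c is a block idempotent of G: there is a p-block B of G whose idempotent coefficients agree with those of c on N and vanish off N; and for every defect group P of such a block B, G = NP and P ∩ N is a defect group of c. -/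
theorem result {G : Type*} [Group G] [Fintype G] (p : ℕ) [Fact p.Prime] (M : Ideal Cfsg.AlgInt) (hM : Cfsg.IsPModular p M) (N : Subgroup G) [N.Normal] (hN : ∃ k : ℕ, N.index = p ^ k) (c : Set (Cfsg.IrrCharacter N)) (hc : Cfsg.IsPBlock M c) (hst : ∀ x : G, Cfsg.StabilizesBlock N c x) : (∃ B : Set (Cfsg.IrrCharacter G), Cfsg.IsPBlock M B ∧ ∀ g : G, Cfsg.blockCoeff B g = Cfsg.subgroupBlockCoeff N c g) ∧ ∀ B : Set (Cfsg.IrrCharacter G), Cfsg.IsPBlock M B → (∀ g : G, Cfsg.blockCoeff B g = Cfsg.subgroupBlockCoeff N c g) → ∀ P : Subgroup G, Cfsg.IsDefectGroup p M B P → N ⊔ P = ⊤ ∧ Cfsg.IsDefectGroup p M c ((P ⊓ N).subgroupOf N) := by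
  haveI := hM.2.1.isPrime
  haveI := H20.k_charP (p := p) hM
  haveI := H23.isAlgClosed_k hM.2.1
  classical
  haveI := Fintype.ofFinite N
  obtain ⟨k, hk⟩ := hN
  have hblk := isBlk_eG (M := M) hc
  have hfix : ∀ x : G, cj x (eG M N c) = eG M N c := fun x =>
    ((stabilizesBlock_iff hc x).1 (hst x)).2
  have hj : (N.subgroupOf ⊤).index = p ^ k := by
    show N.relIndex ⊤ = _
    rw [Subgroup.relIndex_top_right, hk]
  constructor
  · have h1 := isBlk_orbSum hM (L := ⊤) le_top hj hblk
    have h2 : orbSum ⊤ (eG M N c) = eG M N c := by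
      unfold orbSum
      rw [Finset.sum_eq_single (eG M N c)]
      · intro a ha hne
        obtain ⟨y, -, rfl⟩ := mem_orb.1 ha
        exact absurd (hfix y) hne
      · exact fun h => absurd (mem_orb.2 ⟨1, Subgroup.mem_top 1, cj_one _⟩) h
    rw [h2] at h1
    obtain ⟨B, hB, hBc⟩ := exists_block_eB h1
    refine ⟨B, hB, fun g => ?_⟩
    rw [blockCoeff_eq_of_supp (K := N) (M := M) hB (by rw [hBc]; exact supp_eG N c), hBc,
      liftSet_eG hc]
  intro B hB hBc P hP
  have hBe : eB M B = eG M N c := by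
    ext g
    rw [coeff_eG]
    show (H20.eRed M B).coeff g = _
    rw [H20.coeff_eRed, hBc]
  have hcoe : ∀ g : G, (H20.eRed M B).coeff g = (eG M N c).coeff g := fun g =>
    congrArg (fun a : (H20.k M)[G] => a.coeff g) hBe
  obtain ⟨g, -, hgne, U, hU, -, hgU, hUN⟩ :=
    exists_supplement (p := p) le_top hj hblk fun x _ => hfix x
  obtain ⟨x, hx⟩ := H20.sylC_le_defectGroup hM hB hP (h := g) (by rw [hcoe]; exact hgne) hU hgU
  have hNP : N ⊔ P = ⊤ := by
    have h1 : (⊤ : Subgroup G) ≤ cjS x (N ⊔ P) := by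
      refine hUN.trans ?_
      rw [cjS_sup, cjS_normal]
      exact sup_le (hx.trans le_sup_right) le_sup_left
    rw [eq_top_iff]
    intro a _
    have h2 := h1 (Subgroup.mem_top (x * a * x⁻¹))
    rw [mem_cjS] at h2
    simpa [mul_assoc] using h2
  refine ⟨hNP, ?_⟩
  obtain ⟨D, hD⟩ := H20.exists_defectGroup hM hc
  -- `D` is below a conjugate of `P ⊓ N`
  have h1 : ∃ n : N, D ≤ H20.conjSub n ((P ⊓ N).subgroupOf N) := by
    obtain ⟨d, hd, hS⟩ := hD
    have hne := ((H20.isDefectClass_iff hc d).1 hd).1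
    rw [← res_eG, coeff_res, ← hcoe] at hne
    obtain ⟨y, hy⟩ := H20.sylC_le_defectGroup hM hB hP hne
      ((H20.IsSylC.isPGroup hS).map N.subtype) (by
        rw [Subgroup.mem_centralizer_iff]
        rintro _ ⟨z, hz, rfl⟩
        exact congrArg Subtype.val
          (Subgroup.mem_centralizer_iff.1 (H20.IsSylC.mem_centralizer hS) z hz))
    obtain ⟨n, hn, q, hq, rfl⟩ : y ∈ (↑N : Set G) * (↑P : Set G) := by
      rw [← Subgroup.normal_mul N P, hNP]; trivial
    refine ⟨⟨n, hn⟩, fun z hz => ?_⟩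
    rw [map_subgroupOf_conjSub inf_le_right, Subgroup.mem_subgroupOf]
    show (z : G) ∈ cjS n (P ⊓ N)
    rw [cjS_inf, cjS_normal N]
    refine ⟨?_, z.2⟩
    have h3 := hy ⟨z, hz, rfl⟩
    have h4 : H20.conjSub (n * q) P = cjS n P := by
      show cjS (n * q) P = _
      rw [← cjS_cjS, cjS_eq_self (Subgroup.le_normalizer hq)]
    rw [h4] at h3
    exact h3
  have h2 : ∃ n : N, (P ⊓ N).subgroupOf N ≤ H20.conjSub n D := by
    obtain ⟨d, hd, hS⟩ := hP
    have hne := ((H20.isDefectClass_iff hB d).1 hd).1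
    rw [hcoe] at hne
    have hdN : d ∈ N := by_contra fun h => hne (supp_eG N c d h)
    have hcent := H20.IsSylC.mem_centralizer hS
    refine H20.sylC_le_defectGroup hM hc hD (h := ⟨d, hdN⟩)
      (by rwa [← res_eG, coeff_res]) ((((H20.IsSylC.isPGroup hS)).to_le inf_le_left).comap_subtype) ?_
    rw [Subgroup.mem_centralizer_iff]
    intro r hr
    exact Subtype.ext (Subgroup.mem_centralizer_iff.1 hcent r hr.1)
  obtain ⟨n, hn⟩ := h1
  obtain ⟨m, hm⟩ := h2
  have heq : D = H20.conjSub n ((P ⊓ N).subgroupOf N) :=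
    Subgroup.eq_of_le_of_card_ge hn (by
      rw [H20.card_conjSub]
      exact (Subgroup.card_le_of_le hm).trans_eq (H20.card_conjSub m D))
  have := H20.isDefectGroup_conj hM hc hD n⁻¹
  rwa [heq, H20.conjSub_conjSub, inv_mul_cancel, H20.conjSub_one] at this

end Cfsg.Agent.S4672
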