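import Cfsg.Statements.S4640
import Cfsg.Agent.H11.AbelianCover
import Cfsg.Agent.S4672
import Cfsg.Agent.H22.Supplement

set_option autoImplicit false
open Cfsg

namespace Cfsg.Agent.S4640

/-- Let N be a normal subgroup of the finite group G of index a power of the prime p, M a maximal ideal of the algebraic integers containing p, b a block of N stabilized by every element of G, and B a block of G covering b (some member of B has a member of b as a constituent of its restriction to N). Suppose that B has a commutative defect group P. Then G = NP and P ∩ N is a defect group of b; every member of B restricts to a member of b; every member of b is the restriction of exactly [G : N] members of B; B contains exactly [G : N] times as many irreducible characters as b; and B and b have the same p-regular rank. -/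
theorem result {G : Type*} [Group G] [Fintype G] (p : ℕ) [Fact p.Prime] (M : Ideal Cfsg.AlgInt) (hM : Cfsg.IsPModular p M) (N : Subgroup G) [N.Normal] [Fintype N] (hNi : ∃ k : ℕ, N.index = p ^ k) (b : Set (Cfsg.IrrCharacter N)) (hb : Cfsg.IsPBlock M b) (hstab : ∀ g : G, Cfsg.StabilizesBlock N b g) (B : Set (Cfsg.IrrCharacter G)) (hB : Cfsg.IsPBlock M B) (hcov : ∃ χ ∈ B, ∃ θ ∈ b, Cfsg.classInner (fun n : N => (χ : G → ℂ) n) (θ : N → ℂ) ≠ 0) (P : Subgroup G) (hPD : Cfsg.IsDefectGroup p M B P) (hPab : ∀ x ∈ P, ∀ y ∈ P, x * y = y * x) : N ⊔ P = ⊤ ∧ Cfsg.IsDefectGroup p M b ((P ⊓ N).subgroupOf N) ∧ (∀ χ ∈ B, ∃ θ ∈ b, ∀ n : N, (χ : G → ℂ) n = (θ : N → ℂ) n) ∧ (∀ θ ∈ b, Nat.card {χ : Cfsg.IrrCharacter G // χ ∈ B ∧ ∀ n : N, (χ : G → ℂ) n = (θ : N → ℂ) n} = N.index) ∧ Nat.card B = N.index * Nat.card b ∧ Cfsg.blockRank p B = Cfsg.blockRank p b := by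
  haveI : M.IsPrime := hM.2.1.isPrime
  haveI := H20.k_charP (p := p) hM
  haveI := H23.isAlgClosed_k hM.2.1
  classical
  obtain ⟨⟨B₀, hB₀, hcoef⟩, hrest⟩ := Cfsg.Agent.S4672.result p M hM N hNi b hb hstab
  have hB₀e : H23.eB M B₀ = H23.eG M N b := by
    ext g
    rw [H23.coeff_eG]
    show (H20.eRed M B₀).coeff g = _
    rw [H20.coeff_eRed, hcoef]
  have huniq : ∀ B' : Set (IrrCharacter G), IsPBlock M B' →
      (∃ χ ∈ B', ∃ θ ∈ b, classInner (fun n : N => (χ : G → ℂ) n) (θ : N → ℂ) ≠ 0) → B' = B₀ := by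
    intro B' hB' hc
    have h := (H23.covers_iff_mul_ne_zero hB' hb).1 hc
    rw [← hB₀e] at h
    exact H23.eB_injective hB' hB₀ ((H23.isBlk_eB hB').eq_of_mul_ne_zero (H23.isBlk_eB hB₀) h)
  have hBB : B = B₀ := huniq B hB hcov
  obtain ⟨hNP, hdef⟩ := hrest B hB (hBB ▸ hcoef) P hPD
  have hcomm := H11.AbCover.quot_comm hPab hNP
  haveI : Finite (G ⧸ N →* ℂˣ) := Nat.finite_of_card_ne_zero (by
    letI : CommGroup (G ⧸ N) := { (inferInstance : Group (G ⧸ N)) with mul_comm := hcomm }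
    haveI : NeZero (Monoid.exponent (G ⧸ N)) := ⟨Monoid.exponent_ne_zero_of_finite⟩
    rw [Nat.card_congr (CommGroup.monoidHom_mulEquiv_of_hasEnoughRootsOfUnity (G ⧸ N) ℂ).some.toEquiv]
    exact Nat.card_pos.ne')
  haveI : Fintype (G ⧸ N →* ℂˣ) := Fintype.ofFinite _
  have hsum := H11.AbCover.sum_classInner_lmul N hcomm
  have hfix : ∀ χ ∈ B, ∀ l, H11.AbCover.lmul N l χ = χ → l = 1 := fun χ hχ l hl =>
    H11.AbCover.lmul_eq_self hM hNi hB hPD hPab hNP hχ hl
  have hone : ∀ χ : IrrCharacter G, H11.AbCover.lmul N (1 : G ⧸ N →* ℂˣ) χ = χ := fun χ =>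
    Subtype.ext (funext fun x => by simp [H11.AbCover.lmul_apply])
  -- the restrictions are irreducible
  have hirr : ∀ χ ∈ B, IsIrrCharacter N (fun n : N => (χ : G → ℂ) n) := by
    intro χ hχ
    refine H12.isIrrCharacter_of_classInner_self_eq_one
      (H12.IsCharacter.comp (H12.isCharacter_irr χ) N.subtype) ?_
    rw [← (hsum χ χ).1, Finset.sum_eq_single (1 : G ⧸ N →* ℂˣ)]
    · rw [hone, H12.classInner_irr_self]
    · exact fun l _ hne => H12.classInner_irr_ne fun h => hne (hfix χ hχ l h)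
    · simp
  -- the members of `B` are the characters over the members of `b`
  have hmemB : ∀ χ : IrrCharacter G, ∀ θ ∈ b,
      classInner (fun n : N => (χ : G → ℂ) n) (θ : N → ℂ) ≠ 0 → χ ∈ B := by
    intro χ θ hθ hne
    have h := huniq _ (H20.isPBlock_blockOf χ) ⟨χ, H20.mem_blockOf_self χ, θ, hθ, hne⟩
    rw [hBB, ← h]
    exact H20.mem_blockOf_self χ
  have hres : ∀ χ ∈ B, ∃ θ ∈ b, ∀ n : N, (χ : G → ℂ) n = (θ : N → ℂ) n := by
    intro χ hχ
    refine ⟨⟨_, hirr χ hχ⟩, ?_, fun n => rfl⟩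
    -- the constituent of `χ` lies in `b`
    obtain ⟨χ₁, hχ₁, θ₁, hθ₁, hne₁⟩ := hcov
    have hlam : ∀ ξ : IrrCharacter G, ξ ∈ B → ∀ η : IrrCharacter N,
        classInner (fun n : N => (ξ : G → ℂ) n) (η : N → ℂ) ≠ 0 → η ∈ b := by
      intro ξ hξ η hη
      have h1 : H20.lam M ξ (H23.eB M B₀) = 1 := by
        show H20.lam M ξ (H20.eRed M B₀) = 1
        rw [H20.lam_eRed hB₀, if_pos (hBB ▸ hξ)]
      have hfix' : H23.IsFix (⊤ : Subgroup G) (H23.eB M B₀) := (H23.cidem_eB hB₀).fix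
      rw [H23.lam_eq_constituent (by rw [hB₀e]; exact H23.supp_eG N b) hfix' ξ η hη, hB₀e] at h1
      exact (H23.mem_iff_lam hb η).2 h1
    refine hlam χ hχ ⟨_, hirr χ hχ⟩ ?_
    show classInner (fun n : N => (χ : G → ℂ) n) (fun n : N => (χ : G → ℂ) n) ≠ 0
    rw [show classInner (fun n : N => (χ : G → ℂ) n) (fun n : N => (χ : G → ℂ) n) = 1 from
      H12.classInner_irr_self (⟨_, hirr χ hχ⟩ : IrrCharacter N)]
    exact one_ne_zero
  have hover : ∀ θ ∈ b, ∃ χ ∈ B, ∀ n : N, (χ : G → ℂ) n = (θ : N → ℂ) n := by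
    intro θ hθ
    obtain ⟨χ, hχ⟩ := H22.exists_over (N := N) θ
    have hχB := hmemB χ θ hθ hχ
    obtain ⟨θ', -, hθ'⟩ := hres χ hχB
    refine ⟨χ, hχB, ?_⟩
    have he : θ' = θ := by
      by_contra hne
      refine hχ ?_
      rw [show (fun n : N => (χ : G → ℂ) n) = (θ' : N → ℂ) from funext hθ']
      exact H12.classInner_irr_ne hne
    exact he ▸ hθ'
  have hfibre : ∀ θ ∈ b, Nat.card {χ : IrrCharacter G // χ ∈ B ∧
      ∀ n : N, (χ : G → ℂ) n = (θ : N → ℂ) n} = N.index := by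
    intro θ hθ
    obtain ⟨χ₀, hχ₀, hr₀⟩ := hover θ hθ
    have hresl : ∀ l (n : N), (H11.AbCover.lmul N l χ₀ : G → ℂ) n = (θ : N → ℂ) n := fun l n => by
      rw [H11.AbCover.lmul_apply_mem, hr₀]
    have hmem : ∀ l, H11.AbCover.lmul N l χ₀ ∈ B := fun l => hmemB _ θ hθ (by
      rw [show (fun n : N => (H11.AbCover.lmul N l χ₀ : G → ℂ) n) = (θ : N → ℂ) from
        funext (hresl l), H12.classInner_irr_self]
      exact one_ne_zero)
    rw [← (hsum χ₀ χ₀).2]
    refine (Nat.card_eq_of_bijective (fun l => (⟨H11.AbCover.lmul N l χ₀, hmem l, hresl l⟩ :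
      {χ : IrrCharacter G // χ ∈ B ∧ ∀ n : N, (χ : G → ℂ) n = (θ : N → ℂ) n})) ⟨?_, ?_⟩).symm
    · intro l l' h
      have h' : ∀ x : G, (l (x : G ⧸ N) : ℂ) * (χ₀ : G → ℂ) x = (l' (x : G ⧸ N) : ℂ) *
          (χ₀ : G → ℂ) x := fun x => by
        have := congrFun (congrArg Subtype.val (congrArg Subtype.val h)) x
        simpa only [H11.AbCover.lmul_apply] using this
      have := hfix χ₀ hχ₀ (l'⁻¹ * l) (Subtype.ext (funext fun x => by
        rw [H11.AbCover.lmul_apply, MonoidHom.mul_apply, MonoidHom.inv_apply, Units.val_mul,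
          mul_assoc, h', ← mul_assoc, ← Units.val_mul, inv_mul_cancel, Units.val_one, one_mul]))
      exact (inv_mul_eq_one.1 this).symm
    · rintro ⟨ψ, hψ, hrψ⟩
      have h1 := (hsum χ₀ ψ).1
      rw [show (fun n : N => (χ₀ : G → ℂ) n) = (θ : N → ℂ) from funext hr₀,
        show (fun n : N => (ψ : G → ℂ) n) = (θ : N → ℂ) from funext hrψ,
        H12.classInner_irr_self] at h1
      by_contra hno
      push Not at hno
      rw [Finset.sum_eq_zero fun l _ => H12.classInner_irr_ne fun h => hno l (Subtype.ext h)] at h1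
      exact zero_ne_one h1
  refine ⟨hNP, hdef, hres, hfibre, ?_, ?_⟩
  · choose r hrb hr using hres
    let F : (χ : B) → b := fun χ => ⟨r χ.1 χ.2, hrb χ.1 χ.2⟩
    rw [mul_comm, Nat.card_congr (Equiv.sigmaFiberEquiv F).symm, Nat.card_sigma]
    rw [Finset.sum_congr rfl fun (θ : b) _ => (show Nat.card {χ : B // F χ = θ} = N.index from ?_)]
    · rw [Finset.sum_const, smul_eq_mul, Finset.card_univ, Nat.card_eq_fintype_card]
    · rw [← hfibre θ.1 θ.2]
      refine Nat.card_congr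
        { toFun := fun χ => ⟨χ.1.1, χ.1.2, fun n => by
            rw [hr χ.1.1 χ.1.2]; exact congrArg (fun t : b => (t.1 : N → ℂ) n) χ.2⟩
          invFun := fun χ => ⟨⟨χ.1, χ.2.1⟩, Subtype.ext (Subtype.ext (funext fun n => by
            exact (hr χ.1 χ.2.1 n).symm.trans (χ.2.2 n)))⟩
          left_inv := fun _ => rfl
          right_inv := fun _ => rfl }
  · let R := H11.AbCover.ext0 N
    have hreg : ∀ (χ : IrrCharacter G) (θ : IrrCharacter N), (∀ n : N, (χ : G → ℂ) n = (θ : N → ℂ) n) →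
        R (pRegularPart p (θ : N → ℂ)) = pRegularPart p (χ : G → ℂ) := by
      intro χ θ hr
      funext g
      show extendByZero N _ g = _
      by_cases hg : g ∈ N
      · rw [H13.extendByZero_mem _ _ hg, H22.pRegularPart_apply, H22.pRegularPart_apply,
          Subgroup.orderOf_mk]
        exact if_congr Iff.rfl rfl (hr ⟨g, hg⟩).symm
      · rw [H13.extendByZero_notMem _ _ hg, H22.pRegularPart_of_dvd _ (by_contra fun h =>
          hg (H11.AbCover.mem_of_not_dvd hNi h))]
    have himg : (fun χ : IrrCharacter G => pRegularPart p (χ : G → ℂ)) '' B =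
        R '' ((fun θ : IrrCharacter N => pRegularPart p (θ : N → ℂ)) '' b) := by
      rw [Set.image_image]
      ext f
      constructor
      · rintro ⟨χ, hχ, rfl⟩
        obtain ⟨θ, hθ, hr⟩ := hres χ hχ
        exact ⟨θ, hθ, hreg χ θ hr⟩
      · rintro ⟨θ, hθ, rfl⟩
        obtain ⟨χ, hχ, hr⟩ := hover θ hθ
        exact ⟨χ, hχ, (hreg χ θ hr).symm⟩
    rw [blockRank, blockRank, himg, ← Submodule.map_span]
    exact (Submodule.equivMapOfInjective R (H11.AbCover.ext0_injective N) _).symm.finrank_eq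

end Cfsg.Agent.S4640
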