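import Cfsg.Statements.S4641
import Cfsg.Agent.H19.IBr
-- import your own Cfsg.Agent.* helpers here

set_option autoImplicit false
open Cfsg

namespace Cfsg.Agent.S4641

/-- Let B be a block of the finite group G relative to a maximal ideal M of the algebraic integers containing the prime p, let p^a be the p-part of the order of G and p^d the order of a defect group D of B, and let g be the greatest common divisor of the degrees of the members of B. Then the p-part of g is exactly p^(a−d), and writing g = p^(a−d)·u there is a positive integer v, prime to p and at least the p-regular rank of B (its number of irreducible Brauer characters), with Σ_{χ ∈ B} χ(1)² = p^(2a−d)·u²·v. -/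
theorem result {G : Type*} [Group G] [Finite G] (p : ℕ) [Fact p.Prime] (M : Ideal Cfsg.AlgInt) (hM : Cfsg.IsPModular p M) (B : Set (Cfsg.IrrCharacter G)) (hB : Cfsg.IsPBlock M B) (D : Subgroup G) (hD : Cfsg.IsDefectGroup p M B D) (a d : ℕ) (ha : (Nat.card G).factorization p = a) (hd : Nat.card D = p ^ d) (g : ℕ) (hg1 : ∀ χ ∈ B, g ∣ Cfsg.charDegree (χ : G → ℂ)) (hg2 : ∀ g' : ℕ, (∀ χ ∈ B, g' ∣ Cfsg.charDegree (χ : G → ℂ)) → g' ∣ g) : g.factorization p = a - d ∧ ∃ v : ℕ, 0 < v ∧ ¬ p ∣ v ∧ Cfsg.blockRank p B ≤ v ∧ ∑ᶠ χ ∈ B, Cfsg.charDegree (χ : G → ℂ) ^ 2 = p ^ (2 * a - d) * (g / p ^ (a - d)) ^ 2 * v := by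
  classical
  haveI := Fintype.ofFinite G
  haveI := H20.isPrime_of_modular hM
  haveI : IsAlgClosed (H20.k M) := H23.isAlgClosed_k (H20.isMaximal_of_modular hM)
  obtain ⟨F⟩ := H19.PD.exists_frame (A := MonoidAlgebra (H20.k M) G) (H20.k M)
  have hp := (Fact.out : p.Prime)
  obtain ⟨χ₀, hχ₀, hh0⟩ := H22.exists_height_zero (p := p) (H20.block_nonempty hB)
  have hd' : d = blockDefect p B := Nat.pow_right_injective hp.two_le
    (hd.symm.trans (H22.card_isDefectGroup hM hB hD))
  have hda : d + H22.blockExp p B = a := by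
    rw [hd', ← ha]; exact H22.blockDefect_add_blockExp hχ₀
  have he : H22.blockExp p B = a - d := by omega
  have hg0 : g ≠ 0 := fun h => (H22.charDegree_pos χ₀).ne' (Nat.eq_zero_of_zero_dvd (h ▸ hg1 χ₀ hχ₀))
  have hgp : g.factorization p = a - d := by
    refine le_antisymm ?_ ?_
    · rw [← he, ← hh0]
      exact (Nat.factorization_le_iff_dvd hg0 (H22.charDegree_pos χ₀).ne').2 (hg1 χ₀ hχ₀) p
    · refine (hp.pow_dvd_iff_le_factorization hg0).1 (hg2 _ fun χ hχ => ?_)
      exact (hp.pow_dvd_iff_le_factorization (H22.charDegree_pos χ).ne').2 (he ▸ H22.blockExp_le hχ)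
  refine ⟨hgp, ?_⟩
  choose f hf0 hf using fun c => H19.IBr.exists_degree F (p := p) hM hB c
  choose h hh0' hh using fun c => H19.IBr.exists_Phi_degree F (p := p) hM hB c
  rw [ha] at hh
  obtain ⟨u, hu⟩ : p ^ (a - d) ∣ g := hgp ▸ Nat.ordProj_dvd g p
  have hpe : 0 < p ^ (a - d) := pow_pos hp.pos _
  have hgu : g / p ^ (a - d) = u := by rw [hu, Nat.mul_div_cancel_left _ hpe]
  rw [hgu]
  have hu0 : u ≠ 0 := fun h0 => hg0 (by rw [hu, h0, mul_zero])
  have hup : ¬ p ∣ u := fun h1 => by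
    have h2 : p ^ (a - d + 1) ∣ g := by rw [hu, pow_succ]; exact Nat.mul_dvd_mul_left _ h1
    have h3 := (hp.pow_dvd_iff_le_factorization hg0).1 h2
    omega
  have hgf : ∀ c, g ∣ f c := fun c => H19.IBr.dvd_degree F hM hB c hg1 (hf c)
  have hgP : ∀ c, p ^ a * u ∣ p ^ a * h c := by
    intro c
    refine Nat.Coprime.mul_dvd_of_dvd_of_dvd
      (Nat.Coprime.pow_left _ ((Nat.Prime.coprime_iff_not_dvd hp).2 hup)) (dvd_mul_right _ _) ?_
    have e : p ^ a * h c =
        ∑ χ ∈ H22.blockFinset B, H19.IBr.dnum F χ c.1 * charDegree (χ : G → ℂ) := by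
      apply Nat.cast_injective (R := ℂ)
      rw [← hh c]
      push_cast
      simp [H19.IBr.Phi, Finset.sum_apply, H22.irr_one_eq_charDegree]
    rw [e]
    refine Finset.dvd_sum fun χ hχ => Dvd.dvd.mul_left ?_ _
    exact (Dvd.intro_left _ hu.symm).trans (hg1 χ (H22.mem_blockFinset.1 hχ))
  choose f' hf' using hgf
  have hh' : ∀ c, ∃ h' : ℕ, 0 < h' ∧ h c = u * h' := fun c => by
    obtain ⟨h', e⟩ := (Nat.mul_dvd_mul_iff_left (pow_pos hp.pos a)).1 (hgP c)
    exact ⟨h', Nat.pos_of_ne_zero fun h0 => by have := hh0' c; rw [e, h0, mul_zero] at this; omega, e⟩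
  choose h' hh'0 hh' using hh'
  have hf'0 : ∀ c, 0 < f' c := fun c => Nat.pos_of_ne_zero fun h0 => by
    have := hf0 c; rw [hf' c, h0, mul_zero] at this; omega
  set v := ∑ c, f' c * h' c with hv
  have hS : ∑ χ ∈ H22.blockFinset B, charDegree (χ : G → ℂ) ^ 2 = p ^ (2 * a - d) * u ^ 2 * v := by
    apply Nat.cast_injective (R := ℂ)
    push_cast [hv]
    simp only [sq, ← H22.irr_one_eq_charDegree]
    rw [H19.IBr.sum_sq_eq F hM hB, Finset.mul_sum]
    refine Finset.sum_congr rfl fun c _ => ?_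
    rw [hf c, hh c, hf' c, hh' c, hu, show 2 * a - d = (a - d) + a by omega]
    push_cast [pow_add]
    ring
  refine ⟨v, ?_, ?_, ?_, by rw [H22.finsum_mem_block, hS]⟩
  · refine Nat.pos_of_ne_zero fun h0 => ?_
    rw [h0, mul_zero, Finset.sum_eq_zero_iff] at hS
    exact (pow_pos (H22.charDegree_pos χ₀) 2).ne' (hS χ₀ (H22.mem_blockFinset.2 hχ₀))
  · intro hpv
    have h1 := H22.factorization_sum_sq hM hB (H22.weakOrth_of_block (p := p) hM hB)
    rw [hS, ha, ← hd'] at h1
    have hv0 : v ≠ 0 := fun h0 => by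
      rw [h0, mul_zero, Finset.sum_eq_zero_iff] at hS
      exact (pow_pos (H22.charDegree_pos χ₀) 2).ne' (hS χ₀ (H22.mem_blockFinset.2 hχ₀))
    have h2 : p ^ (2 * a - d + 1) ∣ p ^ (2 * a - d) * u ^ 2 * v := by
      rw [pow_succ, mul_assoc]
      exact Nat.mul_dvd_mul_left _ (dvd_mul_of_dvd_right hpv _)
    have h3 := (hp.pow_dvd_iff_le_factorization (mul_ne_zero (mul_ne_zero
      (pow_ne_zero _ hp.ne_zero) (pow_ne_zero _ hu0)) hv0)).1 h2
    omega
  · rw [H19.IBr.blockRank_eq F hM hB, ← Finset.card_univ, Finset.card_eq_sum_ones, hv]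
    exact Finset.sum_le_sum fun c _ => Nat.mul_pos (hf'0 c) (hh'0 c)

end Cfsg.Agent.S4641
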