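import Cfsg.Statements.S4642
import Cfsg.Agent.H25.FongConstrained

set_option autoImplicit false
open Cfsg

namespace Cfsg.Agent.S4642

/-- Let G be a finite group, p a prime, M a maximal ideal of the algebraic integers containing p, K the largest normal subgroup of G of order prime to p, and L the preimage in G of the largest normal p-subgroup of G/K. Let Q be a Sylow p-subgroup of L and suppose C_G(Q) ≤ L. Let θ be an irreducible character of K invariant under conjugation by every element of G, and let B be the set of irreducible characters of G whose restriction to K contains θ. Then B is a block of G, every Sylow p-subgroup of G is a defect group of B, and B is of principal type: for every p-subgroup R of G exactly one block of C_G(R) induces B. -/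
theorem result {G : Type*} [Group G] [Fintype G] (p : ℕ) [Fact p.Prime] (M : Ideal Cfsg.AlgInt) (hM : Cfsg.IsPModular p M) (K : Subgroup G) (hK : K = Cfsg.pPrimeCore p G) [Fintype K] (L : Subgroup G) (hL : L = Cfsg.pPrimePCore p G) (Q : Subgroup G) (hQL : Q ≤ L) (hQp : IsPGroup p Q) (hQS : ¬ p ∣ Q.relIndex L) (hCQ : Subgroup.centralizer (Q : Set G) ≤ L) (θ : Cfsg.IrrCharacter K) (hθ : ∀ g : G, Cfsg.IsConjCharOf K g (θ : K → ℂ) (θ : K → ℂ)) (B : Set (Cfsg.IrrCharacter G)) (hBdef : ∀ χ : Cfsg.IrrCharacter G, χ ∈ B ↔ Cfsg.classInner (fun k : K => (χ : G → ℂ) k) (θ : K → ℂ) ≠ 0) : Cfsg.IsPBlock M B ∧ (∀ S : Sylow p G, Cfsg.IsDefectGroup p M B S) ∧ ∀ R : Subgroup G, IsPGroup p R → ∃! f : Set (Cfsg.IrrCharacter (Subgroup.centralizer (R : Set G))), Cfsg.IsInducedBlock M (Subgroup.centralizer (R : Set G)) f B := by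
  classical
  haveI := H20.isPrime_of_modular hM
  haveI hKn : K.Normal := hK ▸ H1.pPrimeCore_normal' p G
  have hinv : ∀ (g : G) (n : K),
      (θ : K → ℂ) ⟨g * n * g⁻¹, hKn.conj_mem n n.2 g⟩ = (θ : K → ℂ) n := fun g n => hθ g n _ rfl
  have hLn : L.Normal := by
    subst hL
    haveI := H1.pPrimeCore_normal' p G
    exact Subgroup.Normal.comap (H1.pCore_normal' p (G ⧸ Cfsg.pPrimeCore p G)) _
  have hcon : Cfsg.IsPConstrained p G := by
    unfold Cfsg.IsPConstrained
    rw [← hL]
    intro P x hx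
    have hQ' : IsPGroup p (Q.subgroupOf L) := hQp.of_equiv (Subgroup.subgroupOfEquivOfLe hQL).symm
    let Q₀ : Sylow p L := hQ'.toSylow hQS
    obtain ⟨l, hl⟩ := MulAction.exists_smul_eq L P Q₀
    have hmem : (l : G) * x * (l : G)⁻¹ ∈ Subgroup.centralizer (Q : Set G) := by
      intro q hq
      have h1 : (⟨q, hQL hq⟩ : L) ∈ (Q₀ : Subgroup L) := Subgroup.mem_subgroupOf.2 hq
      rw [← hl] at h1
      obtain ⟨y, hy, hyq⟩ := h1
      have h2 : (y : G) * x = x * (y : G) := hx _ ⟨y, hy, rfl⟩
      have h3 : q = (l : G) * (y : G) * (l : G)⁻¹ := (congrArg Subtype.val hyq).symm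
      subst h3
      calc (l : G) * (y : G) * (l : G)⁻¹ * ((l : G) * x * (l : G)⁻¹)
          = (l : G) * ((y : G) * x) * (l : G)⁻¹ := by group
        _ = (l : G) * (x * (y : G)) * (l : G)⁻¹ := by rw [h2]
        _ = _ := by group
    have h4 := L.mul_mem (L.mul_mem (L.inv_mem l.2) (hCQ hmem)) l.2
    simpa [mul_assoc] using h4
  have hBeq : B = {χ : Cfsg.IrrCharacter G |
      Cfsg.classInner (fun k : K => (χ : G → ℂ) k) (θ : K → ℂ) ≠ 0} := Set.ext hBdef
  obtain ⟨hB, hS, -⟩ := H25.isPBlock_over_constrained hM hcon K hK θ hinv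
  rw [hBeq]
  exact ⟨hB, hS, fun R hR => H25.existsUnique_induced_constrained hM hcon K hK θ hinv R hR⟩

end Cfsg.Agent.S4642
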