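import Cfsg.Statements.S4645
import Cfsg.Agent.H19.CyclicBlock

set_option linter.style.haveILetI false
set_option linter.unusedVariables false

set_option autoImplicit false
open Cfsg

namespace Cfsg.Agent.S4645

/-- Let B be a block of the finite group G relative to a maximal ideal M of the algebraic integers containing the prime p, with a nontrivial cyclic defect group P; let c be a block of C_G(P) inducing B and T the stabilizer of c in N_G(P). Let Q be a nontrivial subgroup of P (so C_G(P) ≤ C_G(Q)), f the block of C_G(Q) induced by c inside C_G(Q), and T' the stabilizer of f in N_G(Q). Then T' = T·C_G(Q), the index of C_G(Q) in T' equals the index of C_G(P) in T, f has p-regular rank 1, and f is a nilpotent block of C_G(Q). -/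
theorem result {G : Type*} [Group G] [Finite G] (p : ℕ) [Fact p.Prime] (M : Ideal Cfsg.AlgInt) (hM : Cfsg.IsPModular p M) (B : Set (Cfsg.IrrCharacter G)) (hB : Cfsg.IsPBlock M B) (P : Subgroup G) (hPD : Cfsg.IsDefectGroup p M B P) (hP1 : P ≠ ⊥) (hcyc : IsCyclic P) (c : Set (Cfsg.IrrCharacter (Subgroup.centralizer (P : Set G)))) (hc : Cfsg.IsInducedBlock M (Subgroup.centralizer (P : Set G)) c B) (T : Subgroup G) (hT : ∀ g : G, g ∈ T ↔ (g ∈ Subgroup.normalizer (P : Set G) ∧ Cfsg.StabilizesBlock (Subgroup.centralizer (P : Set G)) c g)) (Q : Subgroup G) (hQP : Q ≤ P) (hQ1 : Q ≠ ⊥) (f : Set (Cfsg.IrrCharacter (Subgroup.centralizer (Q : Set G)))) (hf : Cfsg.IsInducedBlockIn M (Subgroup.centralizer (Q : Set G)) (Subgroup.centralizer (P : Set G)) c f) (T' : Subgroup G) (hT' : ∀ g : G, g ∈ T' ↔ (g ∈ Subgroup.normalizer (Q : Set G) ∧ Cfsg.StabilizesBlock (Subgroup.centralizer (Q : Set G)) f g)) : T' = T ⊔ Subgroup.centralizer (Q : Set G) ∧ (Subgroup.centralizer (Q : Set G)).relIndex T' = (Subgroup.centralizer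 (P : Set G)).relIndex T ∧ Cfsg.blockRank p f = 1 ∧ Cfsg.IsNilpotentBlock p M f := by
  haveI : M.IsPrime := hM.2.1.isPrime
  haveI := H20.k_charP hM
  haveI := H23.isAlgClosed_k (M := M) hM.2.1
  haveI := Fintype.ofFinite G
  haveI := Fintype.ofFinite (Subgroup.centralizer (Q : Set G))
  have hab : ∀ a ∈ P, ∀ b ∈ P, a * b = b * a := fun a ha b hb => by
    letI := hcyc.commGroup
    exact congrArg Subtype.val (mul_comm (⟨a, ha⟩ : P) ⟨b, hb⟩)
  have hmax := H19.AbelianLocal.isMax_cent hM hB hPD hab hc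
  obtain rfl := H23.eq_stab hc.1 hT
  obtain rfl := H23.eq_stab hf.2.1 hT'
  have hle := H19.AbelianLocal.le_of_inducedIn hM hmax.1.1 hab hQP hf
  have hfp := hle.pair_left p hmax.1
  have hCQ := H23.centralizer_le_stab p hfp
  have hN : ∀ t ∈ H23.stab P (H23.eG M (Subgroup.centralizer (P : Set G)) c),
      t ∈ Subgroup.normalizer (Q : Set G) := fun t ht =>
    H19.CyclicLocal.mem_normalizer_of_le hcyc hQP ht.1
  have hTT' : H23.stab P (H23.eG M (Subgroup.centralizer (P : Set G)) c) ≤
      H23.stab Q (H23.eG M (Subgroup.centralizer (Q : Set G)) f) := by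
    intro t ht
    refine ⟨hN t ht, H23.le_unique p hmax.1 ?_ hle⟩
    have h1 := hle.cj p t
    rwa [H23.cjS_eq_self (hN t ht), H23.cjS_eq_self ht.1, ht.2] at h1
  have hT'eq : H23.stab Q (H23.eG M (Subgroup.centralizer (Q : Set G)) f) =
      H23.stab P (H23.eG M (Subgroup.centralizer (P : Set G)) c) ⊔
        Subgroup.centralizer (Q : Set G) := by
    refine le_antisymm (fun x hx => ?_) (sup_le hTT' hCQ)
    obtain ⟨y, hy, -, hyx⟩ := H23.stab_decomp (H23.isBlk_eB hB) hmax hab hle hx
    rw [← mul_inv_cancel_left y x]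
    exact mul_mem (Subgroup.mem_sup_left hy) (Subgroup.mem_sup_right hyx)
  have hinf : H23.stab P (H23.eG M (Subgroup.centralizer (P : Set G)) c) ⊓
      Subgroup.centralizer (Q : Set G) = Subgroup.centralizer (P : Set G) := by
    refine le_antisymm ?_ (le_inf (H23.centralizer_le_stab p hmax.1) (H23.centralizer_anti hQP))
    rintro g ⟨hg, hgQ⟩
    obtain ⟨⟨x, hx⟩, hx1⟩ := Subgroup.ne_bot_iff_exists_ne_one.1 hQ1
    exact H19.CyclicLocal.free hB hcyc hmax g hg x (hQP hx) (fun h => hx1 (Subtype.ext h))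
      (mul_inv_eq_iff_eq_mul.2 (Subgroup.mem_centralizer_iff.1 hgQ x hx).symm)
  refine ⟨hT'eq, ?_, ?_, ?_⟩
  · rw [hT'eq, ← Subgroup.relIndex_subgroupOf (L := Subgroup.normalizer (Q : Set G))
      (sup_le hN (Subgroup.centralizer_le_normalizer _)),
      Subgroup.subgroupOf_sup hN (Subgroup.centralizer_le_normalizer _)]
    haveI : ((Subgroup.centralizer (Q : Set G)).subgroupOf
        (Subgroup.normalizer (Q : Set G))).Normal := Subgroup.normal_subgroupOf_of_le_normalizer
      fun t ht => H23.mem_normalizer_of_cjS_eq (H23.cjS_normalizer_centralizer le_rfl ht)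
    rw [Subgroup.relIndex_sup_right, Subgroup.relIndex_subgroupOf hN,
      ← Subgroup.inf_relIndex_right (Subgroup.centralizer (Q : Set G)), inf_comm, hinf]
  · have hPK := (H19.AbelianLocal.le_centralizer hab).trans (H23.centralizer_anti hQP)
    have hD := H19.AbelianLocal.isDefectGroup_local hM hB hab hmax hQP hf
    exact H19.CyclicBlock.blockRank_eq_one hM hf.2.1 hD
      (isCyclic_of_surjective (Subgroup.subgroupOfEquivOfLe hPK).symm.toMonoidHom
        (Subgroup.subgroupOfEquivOfLe hPK).symm.surjective)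
      ((H19.Transport.isInducedBlock_pull_iff (H23.centralizer_anti hQP)
        (fun k => H21.mem_centralizer_subgroupOf hPK k) hf.1 f).2 hf)
      ((H19.AbelianLocal.local_nilpotent_iff hM hB hab hmax hQP hf).2 hinf.le)
  · exact (H19.AbelianLocal.local_nilpotent_iff hM hB hab hmax hQP hf).2 hinf.le

end Cfsg.Agent.S4645
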