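import Cfsg.Statements.S4650
import Cfsg.Agent.H19.AbelianLocal

set_option linter.style.haveILetI false
set_option linter.unusedVariables false

set_option autoImplicit false
open Cfsg

namespace Cfsg.Agent.S4650

/-- Let B be a block of the finite group G relative to a maximal ideal M of the algebraic integers containing the prime p, with a nontrivial commutative defect group P; let c be a block of C_G(P) inducing B and T the stabilizer of c in N_G(P). Then T/C_G(P) acts freely on the non-identity elements of P (an element of T fixing a non-identity element of P under conjugation lies in C_G(P)) if and only if, for every nontrivial subgroup Q of P, the block of C_G(Q) induced by c inside C_G(Q) is a nilpotent block of C_G(Q). -/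
theorem result {G : Type*} [Group G] [Finite G] (p : ℕ) [Fact p.Prime] (M : Ideal Cfsg.AlgInt) (hM : Cfsg.IsPModular p M) (B : Set (Cfsg.IrrCharacter G)) (hB : Cfsg.IsPBlock M B) (P : Subgroup G) (hPD : Cfsg.IsDefectGroup p M B P) (hPab : ∀ x ∈ P, ∀ y ∈ P, x * y = y * x) (hP1 : P ≠ ⊥) (c : Set (Cfsg.IrrCharacter (Subgroup.centralizer (P : Set G)))) (hc : Cfsg.IsInducedBlock M (Subgroup.centralizer (P : Set G)) c B) (T : Subgroup G) (hT : ∀ g : G, g ∈ T ↔ (g ∈ Subgroup.normalizer (P : Set G) ∧ Cfsg.StabilizesBlock (Subgroup.centralizer (P : Set G)) c g)) : (∀ g ∈ T, ∀ x ∈ P, x ≠ 1 → g * x * g⁻¹ = x → g ∈ Subgroup.centralizer (P : Set G)) ↔ ∀ Q : Subgroup G, Q ≤ P → Q ≠ ⊥ → ∀ f : Set (Cfsg.IrrCharacter (Subgroup.centralizer (Q : Set G))), Cfsg.IsInducedBlockIn M (Subgroup.centralizer (Q : Set G)) (Subgroup.centralizer (P : Set G)) c f → Cfsg.IsNilpotentBlock p M f := by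
  haveI : M.IsPrime := hM.2.1.isPrime
  haveI : Fact M.IsMaximal := ⟨hM.2.1⟩
  haveI := H20.k_charP hM
  haveI := H23.isAlgClosed_k (M := M) hM.2.1
  haveI := Fintype.ofFinite G
  have hmax := H19.AbelianLocal.isMax_cent hM hB hPD hPab hc
  obtain rfl := H23.eq_stab hc.1 hT
  have hPp : IsPGroup p P := H20.IsDefectGroup.isPGroup hPD
  constructor
  · intro hfree Q hQP hQ1 f hf
    rw [H19.AbelianLocal.local_nilpotent_iff hM hB hPab hmax hQP hf]
    rintro g ⟨hg, hgQ⟩
    obtain ⟨x, hx, hx1⟩ := (Subgroup.ne_bot_iff_exists_ne_one.1 hQ1 : ∃ a : Q, a ≠ 1) |>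
      fun ⟨a, ha⟩ => (⟨(a : G), a.2, fun h => ha (Subtype.ext h)⟩ : ∃ x ∈ Q, x ≠ (1 : G))
    exact hfree g hg x (hQP hx) hx1
      (mul_inv_eq_iff_eq_mul.2 (Subgroup.mem_centralizer_iff.1 hgQ x hx).symm)
  · intro hnil g hg x hx hx1 hgx
    have hQP : Subgroup.zpowers x ≤ P := Subgroup.zpowers_le.2 hx
    obtain ⟨f, hf⟩ := H19.AbelianLocal.exists_inducedIn hM hPp hPab hQP hc.1
    refine (H19.AbelianLocal.local_nilpotent_iff hM hB hPab hmax hQP hf).1
      (hnil _ hQP (fun h => hx1 (Subgroup.zpowers_eq_bot.1 h)) f hf) ⟨hg, ?_⟩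
    show g ∈ Subgroup.centralizer _
    rw [H17.Major.centralizer_zpowers_eq, Subgroup.mem_centralizer_iff]
    rintro y rfl
    exact (mul_inv_eq_iff_eq_mul.1 hgx).symm

end Cfsg.Agent.S4650
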