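import Cfsg.Statements.S4651
import Cfsg.Agent.H11.ChainSum

set_option autoImplicit false
open Cfsg

namespace Cfsg.Agent.S4651

/-- An alternating-sum identity over chains of p-subgroups (the character-count form behind the chain reformulation of Alperin's weight conjecture, which holds unconditionally for the difference k − l). Let b be a block of the finite group G relative to a maximal ideal M of the algebraic integers containing the prime p. Consider the nonempty chains s = {Q_0 < Q_1 < ⋯ < Q_m} of nontrivial p-subgroups of G in which every member is normal in the largest member; let N_G(s) be the intersection of the normalizers of the members (the stabilizer of the chain), and let b_s be the set of irreducible characters of N_G(s) lying in blocks of N_G(s) that induce b. Then #G · (k(b) − l(b)) equals the sum over all such chains s of (−1)^m · #N_G(s) · (k(b_s) − l(b_s)), where k counts irreducible characters and l is the p-regular rank; equivalently, k(b)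 − l(b) is the alternating sum of k(b_s) − l(b_s) over representatives of the conjugacy classes of such chains. -/
theorem result {G : Type*} [Group G] [Finite G] (p : ℕ) [Fact p.Prime] (M : Ideal Cfsg.AlgInt) (hM : Cfsg.IsPModular p M) (b : Set (Cfsg.IrrCharacter G)) (hb : Cfsg.IsPBlock M b) : (Nat.card G : ℤ) * ((Nat.card b : ℤ) - (Cfsg.blockRank p b : ℤ)) = ∑ᶠ s ∈ {s : Finset (Subgroup G) | s.Nonempty ∧ (∀ Q ∈ s, ∀ R ∈ s, Q ≤ R ∨ R ≤ Q) ∧ (∀ Q ∈ s, Q ≠ ⊥ ∧ IsPGroup p Q) ∧ ∃ T ∈ s, ∀ Q ∈ s, Q ≤ T ∧ T ≤ Subgroup.normalizer ((Q : Subgroup G) : Set G)}, (-1 : ℤ) ^ (s.card - 1) * (Nat.card (((⨅ Q ∈ s, Subgroup.normalizer ((Q : Subgroup G) : Set G) : Subgroup G))) : ℤ) * ((Nat.card {ψ : Cfsg.IrrCharacter (((⨅ Q ∈ s, Subgroup.normalizer ((Q : Subgroup G) : Set G) : Subgroup G))) | ∃ β : Set (Cfsg.IrrCharacter (((⨅ Q ∈ s, Subgroup.normalizer ((Q : Subgroup G) : Set G) : Subgroup G)))), ψ ∈ β ∧ Cfsg.IsInducedBlock M (((⨅ Q ∈ s, Subgroup.normalizer ((Q : Subgroup G)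 : Set G) : Subgroup G))) β b} : ℤ) - (Cfsg.blockRank p {ψ : Cfsg.IrrCharacter (((⨅ Q ∈ s, Subgroup.normalizer ((Q : Subgroup G) : Set G) : Subgroup G))) | ∃ β : Set (Cfsg.IrrCharacter (((⨅ Q ∈ s, Subgroup.normalizer ((Q : Subgroup G) : Set G) : Subgroup G)))), ψ ∈ β ∧ Cfsg.IsInducedBlock M (((⨅ Q ∈ s, Subgroup.normalizer ((Q : Subgroup G) : Set G) : Subgroup G))) β b} : ℤ)) := by
  classical
  haveI := Fintype.ofFinite G
  haveI : M.IsMaximal := hM.2.1
  haveI : Fintype (Subgroup G) := Fintype.ofFinite _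
  obtain ⟨χ₀, hχ₀⟩ := H20.block_nonempty hb
  -- the whole group
  have hid : H11.Chain.ov M χ₀ (MonoidHom.id G) = b := by
    have hp : ∀ g : G, H11.Chain.pull M (MonoidHom.id G) g = H20.clSum (H20.k M) g := fun g => by
      ext a; simp [H11.Chain.pull]
    ext ψ
    constructor
    · intro h
      rw [H20.block_eq_blockOf hb hχ₀]
      exact (H20.sameBlock_iff χ₀ ψ).2 fun g => by rw [← h g, hp]
    · intro h g
      rw [hp]
      exact H20.lam_eq_of_sameBlock (H20.sameBlock_of_mem hb h hχ₀) _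
  haveI : Fintype (⊤ : Subgroup G) := Fintype.ofFinite _
  have hcardtop : Nat.card (⊤ : Subgroup G) = Nat.card G :=
    Nat.card_congr (Subgroup.topEquiv : (⊤ : Subgroup G) ≃* G).toEquiv
  have hU1 : Nat.card (H11.Chain.ov M χ₀ (⊤ : Subgroup G).subtype) = Nat.card b := by
    rw [H11.Chain.card_over_congr _ (MonoidHom.id G) Subgroup.topEquiv fun a => IsConj.refl _, hid]
  have hU2 : blockRank p (H11.Chain.ov M χ₀ (⊤ : Subgroup G).subtype) = blockRank p b := by
    rw [H11.Chain.blockRank_over_congr _ (MonoidHom.id G) Subgroup.topEquiv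
      fun a => IsConj.refl _, hid]
  rw [← hcardtop, ← hU1, ← hU2, H11.Chain.card_mul_diff hM ⊤]
  -- the chains
  let N : Finset (Finset (Subgroup G)) := Finset.univ.filter fun s =>
    H11.Chain.IsChainP p s ∧ H11.Chain.IsNormalChain s
  let f : G → Finset (Subgroup G) → ℤ := fun u s => (-1 : ℤ) ^ s.card *
    H11.Chain.phi p M χ₀ (H11.Chain.stab s ⊓ Subgroup.centralizer ({u} : Set G))
  let U : Finset G := Finset.univ.filter fun u : G => H11.Chain.IsPEl p u
  have hzero : ∀ u ∈ U, ∑ s ∈ N, (if u ∈ H11.Chain.stab s then f u s else 0) = 0 := by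
    intro u hu
    rw [← Finset.sum_filter, Finset.filter_filter]
    have h := H11.Chain.sum_normal_chains_eq_zero (p := p) (Finset.mem_filter.1 hu).2
      (fun D => H11.Chain.phi p M χ₀ D)
    refine Eq.trans (Finset.sum_congr (Finset.filter_congr fun s _ => by tauto) fun s _ => rfl) h
  have hempty : (∅ : Finset (Subgroup G)) ∈ N :=
    Finset.mem_filter.2 ⟨Finset.mem_univ _, ⟨fun Q hQ => absurd hQ (Finset.notMem_empty Q),
      fun Q hQ => absurd hQ (Finset.notMem_empty Q)⟩, fun Q hQ => absurd hQ (Finset.notMem_empty Q)⟩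
  have hstab : H11.Chain.stab (∅ : Finset (Subgroup G)) = ⊤ := by simp [H11.Chain.stab]
  have hlhs : ∑ u ∈ Finset.univ.filter (fun u : G => H11.Chain.IsPEl p u ∧ u ∈ (⊤ : Subgroup G)),
      H11.Chain.phi p M χ₀ (⊤ ⊓ Subgroup.centralizer ({u} : Set G)) = ∑ u ∈ U, f u ∅ := by
    refine Finset.sum_congr (Finset.filter_congr fun u _ => by simp) fun u _ => ?_
    simp only [f, hstab, Finset.card_empty, pow_zero, one_mul]
  rw [hlhs, H20.finsum_mem_eq_sum_ite, ← Finset.sum_filter]
  have hset : (Finset.univ.filter fun s : Finset (Subgroup G) =>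
      s ∈ {s : Finset (Subgroup G) | s.Nonempty ∧ (∀ Q ∈ s, ∀ R ∈ s, Q ≤ R ∨ R ≤ Q) ∧
        (∀ Q ∈ s, Q ≠ ⊥ ∧ IsPGroup p Q) ∧
          ∃ T ∈ s, ∀ Q ∈ s, Q ≤ T ∧ T ≤ Subgroup.normalizer ((Q : Subgroup G) : Set G)}) =
      N.erase ∅ := by
    ext s
    rw [Finset.mem_erase, Finset.mem_filter, Finset.mem_filter]
    constructor
    · rintro ⟨-, hne, h1, h2, T, -, hT⟩
      exact ⟨hne.ne_empty, Finset.mem_univ _, ⟨h1, h2⟩,
        fun Q hQ R hR _ => (hT R hR).1.trans (hT Q hQ).2⟩
    · rintro ⟨hne, -, ⟨h1, h2⟩, h3⟩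
      have hne' := Finset.nonempty_iff_ne_empty.2 hne
      obtain ⟨T, hT, hmax⟩ := Finset.exists_max_image s (fun Q => Nat.card Q) hne'
      have hle : ∀ Q ∈ s, Q ≤ T := fun Q hQ => by
        rcases h1 Q hQ T hT with h | h
        · exact h
        · exact (Subgroup.eq_of_le_of_card_ge h (hmax Q hQ)).ge
      exact ⟨Finset.mem_univ _, hne', h1, h2, T, hT, fun Q hQ => ⟨hle Q hQ, h3 Q hQ T hT (hle Q hQ)⟩⟩
  have hterm : ∀ s ∈ N.erase ∅, (-1 : ℤ) ^ (s.card - 1) *
      (Nat.card (⨅ Q ∈ s, Subgroup.normalizer ((Q : Subgroup G) : Set G) : Subgroup G) : ℤ) *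
      ((Nat.card {ψ : IrrCharacter (⨅ Q ∈ s, Subgroup.normalizer ((Q : Subgroup G) : Set G) : Subgroup G) |
          ∃ β : Set (IrrCharacter (⨅ Q ∈ s, Subgroup.normalizer ((Q : Subgroup G) : Set G) : Subgroup G)),
            ψ ∈ β ∧ IsInducedBlock M (⨅ Q ∈ s, Subgroup.normalizer ((Q : Subgroup G) : Set G) : Subgroup G) β b} : ℤ) -
        (blockRank p {ψ : IrrCharacter (⨅ Q ∈ s, Subgroup.normalizer ((Q : Subgroup G) : Set G) : Subgroup G) |
          ∃ β : Set (IrrCharacter (⨅ Q ∈ s, Subgroup.normalizer ((Q : Subgroup G) : Set G) : Subgroup G)),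
            ψ ∈ β ∧ IsInducedBlock M (⨅ Q ∈ s, Subgroup.normalizer ((Q : Subgroup G) : Set G) : Subgroup G) β b} : ℤ)) =
      -∑ u ∈ U, if u ∈ H11.Chain.stab s then f u s else 0 := by
    intro s hs
    have hne := Finset.nonempty_iff_ne_empty.2 (Finset.mem_erase.1 hs).1
    show _ * (Nat.card (H11.Chain.stab s) : ℤ) *
      ((Nat.card {ψ : IrrCharacter (H11.Chain.stab s) |
        ∃ β : Set (IrrCharacter (H11.Chain.stab s)), ψ ∈ β ∧
          IsInducedBlock M (H11.Chain.stab s) β b} : ℤ) - (blockRank p {ψ : IrrCharacter (H11.Chain.stab s) |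
        ∃ β : Set (IrrCharacter (H11.Chain.stab s)), ψ ∈ β ∧
          IsInducedBlock M (H11.Chain.stab s) β b} : ℤ)) = _
    haveI : Fintype (H11.Chain.stab s) := Fintype.ofFinite _
    have hpow : (-1 : ℤ) ^ (s.card - 1) = -(-1 : ℤ) ^ s.card := by
      obtain ⟨n, hn⟩ := Nat.exists_eq_succ_of_ne_zero hne.card_pos.ne'
      rw [hn, Nat.succ_sub_one, pow_succ]
      ring
    rw [← H11.Chain.over_subtype (H11.Chain.stab s) hb hχ₀, mul_assoc,
      H11.Chain.card_mul_diff hM, hpow, neg_mul, Finset.mul_sum, ← Finset.sum_filter,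
      Finset.filter_filter]
  rw [Finset.sum_congr hset hterm, Finset.sum_neg_distrib, Finset.sum_comm, eq_neg_iff_add_eq_zero,
    ← Finset.sum_add_distrib]
  refine Finset.sum_eq_zero fun u hu => ?_
  have h := hzero u hu
  rw [← Finset.add_sum_erase _ _ hempty, hstab, if_pos (Subgroup.mem_top u)] at h
  exact h

end Cfsg.Agent.S4651
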