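import Cfsg.Statements.S4654
import Cfsg.Agent.H23.Covering
import Cfsg.Agent.H23.LocalBlock
import Cfsg.Agent.H23.Lift
-- import your own Cfsg.Agent.* helpers here

set_option autoImplicit false
open Cfsg

open H23
open scoped MonoidAlgebra Pointwise

namespace Cfsg.Agent.S4654

universe u

variable {G : Type u} [Group G] [Fintype G] {M : Ideal AlgInt} [M.IsPrime]
  [IsAlgClosed (H20.k M)]

theorem beta_cj {C : Subgroup G} [C.Normal] {f : (H20.k M)[G]} (hf : IsBlk C f) (x g : G) :
    subgroupBlockCoeff C (liftSet M C (cj x f)) g =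
      subgroupBlockCoeff C (liftSet M C f) (x⁻¹ * g * x) := by
  haveI := Fintype.ofFinite C
  have hK : cjS x C = C := cjS_normal C x
  unfold subgroupBlockCoeff
  by_cases hg : x⁻¹ * g * x ∈ C
  · have hg' : g ∈ C := by
      have := (inferInstance : C.Normal).conj_mem _ hg x
      simpa [mul_assoc] using this
    rw [dif_pos hg, dif_pos hg']
    have h1 := blockCoeff_congr (cjEquiv hK) (A := liftSet M C f) (A' := liftSet M C (cj x f))
      (fun χ => by
        rw [mem_liftSet, mem_liftSet]
        show _ ↔ H20.lam M (pullChar hK χ) (res C f) = 1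
        rw [← lam_res_cj hK hf.cidem.fix χ]) ⟨x⁻¹ * g * x, hg⟩
    have h2 : cjEquiv hK ⟨x⁻¹ * g * x, hg⟩ = ⟨g, hg'⟩ :=
      Subtype.ext (by rw [coe_cjEquiv]; simp [mul_assoc])
    rw [h2] at h1
    exact h1
  · rw [dif_neg hg, dif_neg fun h => hg ?_]
    have := (inferInstance : C.Normal).conj_mem _ h x⁻¹
    simpa using this

theorem blockCoeff_orb {C : Subgroup G} [C.Normal] {f : (H20.k M)[G]} (hf : IsBlk C f) (c : C) :
    blockCoeff (liftSet M C (orbSum ⊤ f)) c =
      ∑ a ∈ (Set.toFinite (Set.range fun x : (⊤ : Subgroup G) => cj (x : G) f)).toFinset,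
        blockCoeff (liftSet M C a) c := by
  classical
  haveI := Fintype.ofFinite C
  haveI : Fintype (IrrCharacter C) := Fintype.ofFinite _
  have hblk : ∀ a ∈ (Set.toFinite (Set.range fun x : (⊤ : Subgroup G) => cj (x : G) f)).toFinset,
      IsBlk C a := fun a ha => by
    obtain ⟨y, -, rfl⟩ := mem_orb.1 ha
    exact isBlk_cj_normal hf y
  have hU : liftSet M C (orbSum ⊤ f) =
      ⋃ a ∈ (Set.toFinite (Set.range fun x : (⊤ : Subgroup G) => cj (x : G) f)).toFinset,
        liftSet M C a := by
    ext θ
    simp only [Set.mem_iUnion, mem_liftSet, exists_prop, lam_orbSum hf θ, mem_orb]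
    constructor
    · rintro ⟨x, hx, h⟩; exact ⟨_, ⟨x, hx, rfl⟩, h⟩
    · rintro ⟨a, ⟨x, hx, rfl⟩, h⟩; exact ⟨x, hx, h⟩
  have hdisj : ∀ a, IsBlk C a → ∀ b, IsBlk C b → a ≠ b → ∀ θ, θ ∈ liftSet M C a →
      θ ∉ liftSet M C b := by
    intro a ha b hb hne θ hθa hθb
    rw [mem_liftSet] at hθa hθb
    have h1 := congrArg (fun z => H20.lam M θ (res C z)) (ha.mul_ne hb hne)
    simp only [res_mul ha.cidem.supp hb.cidem.supp,
      H20.lam_mul θ (isCl_res ha.cidem.fix) (isCl_res hb.cidem.fix), hθa, hθb, mul_one, map_zero,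
      H20.lam_zero] at h1
    exact one_ne_zero h1
  unfold blockCoeff
  rw [← Finset.mul_sum, hU]
  congr 1
  simp only [finsum_mem_eq_toFinset_sum]
  rw [← Finset.sum_biUnion]
  · refine Finset.sum_congr ?_ fun _ _ => rfl
    ext θ
    simp
  · intro a ha b hb hne
    exact Finset.disjoint_left.2 fun θ h1 h2 =>
      hdisj a (hblk a ha) b (hblk b hb) hne θ (Set.mem_toFinset.1 h1) (Set.mem_toFinset.1 h2)

/-- Fix a prime p and a maximal ideal M of the algebraic integers containing p. Let P be a normal p-subgroup of the finite group G, B a p-block of G and e a p-block of C_G(P) such that (P, e) is a Brauer pair of B (as P is normal, this says that e occurs in the idempotent of B, which is supported on C_G(P)). Let T be the stabilizer of e in G under conjugation. Then the idempotent of e is a block idempotent of T: some block E of T has, at every element of T, the same idempotent coefficient as e (zero off C_G(P)); and the idempotent of B is the sum of the distinct G-conjugates of the idempotent of e: its coefficient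 at g is the sum over all x in G of the coefficient of e at x⁻¹ g x, divided by the order of T. -/
theorem result {G : Type*} [Group G] [Fintype G] (p : ℕ) [Fact p.Prime] (M : Ideal Cfsg.AlgInt) (hM : Cfsg.IsPModular p M) (P : Subgroup G) [P.Normal] (hP : IsPGroup p P) (B : Set (Cfsg.IrrCharacter G)) (e : Set (Cfsg.IrrCharacter (Subgroup.centralizer (P : Set G)))) (hBe : Cfsg.IsBrauerPairOf p M B P e) (T : Subgroup G) (hT : ∀ x : G, x ∈ T ↔ Cfsg.StabilizesBlock (Subgroup.centralizer (P : Set G)) e x) : (∃ E : Set (Cfsg.IrrCharacter T), Cfsg.IsPBlock M E ∧ ∀ t : T, Cfsg.blockCoeff E t = Cfsg.subgroupBlockCoeff (Subgroup.centralizer (P : Set G)) e (t : G)) ∧ ∀ g : G, Cfsg.blockCoeff B g = (Nat.card T : ℂ)⁻¹ * ∑ x : G, Cfsg.subgroupBlockCoeff (Subgroup.centralizer (P : Set G)) e (x⁻¹ * g * x) := by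
  haveI := hM.2.1.isPrime
  haveI := H20.k_charP (p := p) hM
  haveI := H23.isAlgClosed_k hM.2.1
  classical
  haveI := Fintype.ofFinite (Subgroup.centralizer (P : Set G))
  have he := hBe.1
  have hB := hBe.2.1
  have hblk := isBlk_eG (M := M) he.2
  have hnorm : ∀ x : G, x ∈ Subgroup.normalizer ((Subgroup.centralizer (P : Set G)) : Set G) :=
    fun x => by
      rw [Subgroup.normalizer_eq_top (H := Subgroup.centralizer (P : Set G))]
      exact Subgroup.mem_top x
  have hfix : ∀ x : G, x ∈ T ↔ cj x (eG M (Subgroup.centralizer (P : Set G)) e) =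
      eG M (Subgroup.centralizer (P : Set G)) e := fun x => by
    rw [hT, stabilizesBlock_iff he.2]
    exact and_iff_right (hnorm x)
  have hTs : T = stab P (eG M (Subgroup.centralizer (P : Set G)) e) := eq_stab he.2 fun x => by
    rw [hT]
    exact (and_iff_right (by rw [Subgroup.normalizer_eq_top (H := P)]; exact Subgroup.mem_top x)).symm
  have hCT : Subgroup.centralizer (P : Set G) ≤ T := fun x hx =>
    (hfix x).2 (isFix_iff_cj.1 hblk.cidem.fix x hx)
  refine ⟨?_, fun g => ?_⟩
  · obtain ⟨E, hE, -, hEc⟩ := exists_stabBlock (p := p) he (T := T)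
      (hTs ▸ le_stab p (isPair_of he)) hCT hTs.le
    exact ⟨E, hE, hEc⟩
  -- the idempotent of `B` is the orbit sum
  have hin : InBlk (eB M B) P (eG M (Subgroup.centralizer (P : Set G)) e) :=
    (isBrauerPairOf_iff hB he).1 hBe
  have hsupp := supp_eB_of_normal hM hP hB
  have heE : eG M (Subgroup.centralizer (P : Set G)) e * eB M B =
      eG M (Subgroup.centralizer (P : Set G)) e := by
    have h : _ * Br P (eB M B) = _ := hin
    rwa [Br_eq_self hsupp] at h
  have hWi : CIdem ⊤ (orbSum ⊤ (eG M (Subgroup.centralizer (P : Set G)) e)) :=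
    cidem_orbSum le_top hblk
  have hEW : eB M B * orbSum ⊤ (eG M (Subgroup.centralizer (P : Set G)) e) = eB M B := by
    refine ((isBlk_eB hB).prim _ hWi).resolve_left fun h0 => hblk.ne_zero ?_
    calc eG M (Subgroup.centralizer (P : Set G)) e
        = eG M (Subgroup.centralizer (P : Set G)) e *
            (eB M B * orbSum ⊤ (eG M (Subgroup.centralizer (P : Set G)) e)) := by
          rw [← mul_assoc, heE, self_mul_orbSum hblk]
      _ = 0 := by rw [h0, mul_zero]
  have hWE : orbSum ⊤ (eG M (Subgroup.centralizer (P : Set G)) e) * eB M B =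
      orbSum ⊤ (eG M (Subgroup.centralizer (P : Set G)) e) := by
    unfold orbSum
    rw [Finset.sum_mul]
    refine Finset.sum_congr rfl fun a ha => ?_
    obtain ⟨y, -, rfl⟩ := mem_orb.1 ha
    conv_lhs => rw [← cj_eq_self_of_central (cidem_eB hB).fix y, ← map_mul, heE]
  have hEq : eB M B = orbSum ⊤ (eG M (Subgroup.centralizer (P : Set G)) e) := by
    rw [← hEW, CIdem.comm (cidem_eB hB).fix (cidem_eB hB).supp (supp_top _), hWE]
  rw [blockCoeff_eq_of_supp hB hsupp g, hEq]
  set S := (Set.toFinite (Set.range fun x : (⊤ : Subgroup G) =>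
    cj (x : G) (eG M (Subgroup.centralizer (P : Set G)) e))).toFinset with hS
  have hsplit : subgroupBlockCoeff (Subgroup.centralizer (P : Set G))
      (liftSet M (Subgroup.centralizer (P : Set G))
        (orbSum ⊤ (eG M (Subgroup.centralizer (P : Set G)) e))) g =
      ∑ a ∈ S, subgroupBlockCoeff (Subgroup.centralizer (P : Set G))
        (liftSet M (Subgroup.centralizer (P : Set G)) a) g := by
    unfold subgroupBlockCoeff
    by_cases hg : g ∈ Subgroup.centralizer (P : Set G)
    · simp only [dif_pos hg]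
      exact blockCoeff_orb hblk _
    · simp [dif_neg hg]
  rw [hsplit]
  have hmaps : ∀ x ∈ (Finset.univ : Finset G),
      cj x (eG M (Subgroup.centralizer (P : Set G)) e) ∈ S :=
    fun x _ => mem_orb.2 ⟨x, Subgroup.mem_top x, rfl⟩
  rw [← Finset.sum_fiberwise_of_maps_to hmaps]
  rw [Finset.mul_sum]
  refine Finset.sum_congr rfl fun a ha => ?_
  obtain ⟨y, -, rfl⟩ := mem_orb.1 ha
  have hfib : (Finset.univ.filter fun x : G => cj x (eG M (Subgroup.centralizer (P : Set G)) e) =
      cj y (eG M (Subgroup.centralizer (P : Set G)) e)) =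
      (Finset.univ.filter fun x : G => x ∈ T).image (y * ·) := by
    ext x
    simp only [Finset.mem_filter, Finset.mem_univ, true_and, Finset.mem_image, hfix]
    constructor
    · intro h
      exact ⟨y⁻¹ * x, by rw [← cj_cj, h, cj_inv_cancel], by group⟩
    · rintro ⟨t, ht, rfl⟩
      rw [← cj_cj, ht]
  rw [hfib, Finset.sum_image fun a _ b _ h => mul_left_cancel h]
  rw [Finset.sum_congr rfl (g := fun _ => subgroupBlockCoeff (Subgroup.centralizer (P : Set G))
    (liftSet M (Subgroup.centralizer (P : Set G))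
      (cj y (eG M (Subgroup.centralizer (P : Set G)) e))) g) fun t ht => ?_]
  · rw [Finset.sum_const, nsmul_eq_mul, ← Fintype.card_subtype, Nat.card_eq_fintype_card,
      ← mul_assoc, inv_mul_cancel₀ (by exact_mod_cast Fintype.card_ne_zero), one_mul]
  · have ht' : cj t (eG M (Subgroup.centralizer (P : Set G)) e) =
        eG M (Subgroup.centralizer (P : Set G)) e := (hfix t).1 (Finset.mem_filter.1 ht).2
    conv_rhs => rw [← ht', cj_cj, beta_cj hblk, liftSet_eG he.2]


end Cfsg.Agent.S4654
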