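import Cfsg.Statements.S4657
import Cfsg.Agent.H23.Bridge

set_option autoImplicit false
open Cfsg

namespace Cfsg.Agent.S4657

/-- Fix a prime p and a maximal ideal M of the algebraic integers containing p. Every Brauer pair (P, e) of the finite group G is a Brauer pair of exactly one p-block B of G. -/
theorem result {G : Type*} [Group G] [Fintype G] (p : ℕ) [Fact p.Prime] (M : Ideal Cfsg.AlgInt) (hM : Cfsg.IsPModular p M) (P : Subgroup G) (e : Set (Cfsg.IrrCharacter (Subgroup.centralizer (P : Set G)))) (hPe : Cfsg.IsBrauerPair p M P e) : ∃! B : Set (Cfsg.IrrCharacter G), Cfsg.IsBrauerPairOf p M B P e := by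
  haveI := hM.2.1.isPrime
  haveI := H20.k_charP (p := p) hM
  haveI := H23.isAlgClosed_k hM.2.1
  have he := H23.isPair_of (M := M) hPe
  obtain ⟨E, hE, hin⟩ := H23.exists_inBlk p he
  obtain ⟨B, hB, hBE⟩ := H23.exists_block_eB hE
  refine ⟨B, (H23.isBrauerPairOf_iff hB hPe).2 (hBE.symm ▸ hin), fun B' hB' => ?_⟩
  exact H23.eB_injective hB'.2.1 hB (H23.inBlk_unique p he (H23.isBlk_eB hB'.2.1) (H23.isBlk_eB hB)
    ((H23.isBrauerPairOf_iff hB'.2.1 hPe).1 hB') (hBE.symm ▸ hin))

end Cfsg.Agent.S4657
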