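import Cfsg.Statements.S4661
import Cfsg.Agent.H23.LocalBlock
-- import your own Cfsg.Agent.* helpers here

set_option autoImplicit false
open Cfsg

open H23

namespace Cfsg.Agent.S4661

/-- Fix a prime p and a maximal ideal M of the algebraic integers containing p. Let (P, e) be a maximal Brauer pair of the p-block B of the finite group G, Q ≤ P, and f the p-block of C_G(Q) with (Q, f) ≤ (P, e). Then C_P(Q) is contained in a defect group of f (as a block of the group C_G(Q)); and for some x in G the conjugate pair (x Q x⁻¹, conjugate of f) again lies below (P, e) and C_P(x Q x⁻¹) is a defect group of the conjugate of f in C_G(x Q x⁻¹). -/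
theorem result {G : Type*} [Group G] [Fintype G] (p : ℕ) [Fact p.Prime] (M : Ideal Cfsg.AlgInt) (hM : Cfsg.IsPModular p M) (B : Set (Cfsg.IrrCharacter G)) (P Q : Subgroup G) (e : Set (Cfsg.IrrCharacter (Subgroup.centralizer (P : Set G)))) (f : Set (Cfsg.IrrCharacter (Subgroup.centralizer (Q : Set G)))) (hmax : Cfsg.IsMaximalBrauerPair p M B P e) (hQP : Q ≤ P) (hf : Cfsg.IsPBlock M f) (hle : Cfsg.SubpairLE p M Q f P e) : (∃ D : Subgroup (Subgroup.centralizer (Q : Set G)), Cfsg.IsDefectGroup p M f D ∧ (P ⊓ Subgroup.centralizer (Q : Set G)).subgroupOf (Subgroup.centralizer (Q : Set G)) ≤ D) ∧ ∃ x : G, Cfsg.SubpairLE p M (Q.map (MulAut.conj x).toMonoidHom) (Cfsg.conjBlock Q x f) P e ∧ Cfsg.IsDefectGroup p M (Cfsg.conjBlock Q x f) ((P ⊓ Subgroup.centralizer ((Q.map (MulAut.conj x).toMonoidHom) : Set G)).subgroupOf (Subgroup.centralizer ((Q.map (MulAut.conj x).toMonoidHom) : Set G))) := by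
  haveI := hM.2.1.isPrime
  haveI := H20.k_charP (p := p) hM
  haveI := H23.isAlgClosed_k hM.2.1
  haveI := Fintype.ofFinite (Subgroup.centralizer (Q : Set G))
  have hB := hmax.1.2.1
  have he : Cfsg.IsBrauerPair p M P e := hmax.1.1
  obtain ⟨-, hle'⟩ := H23.subpairLE_le hle he.2
  have hfp := Le.pair_left p hle' (H23.isPair_of he)
  obtain ⟨R, h, hl⟩ := H23.exists_locMax p hfp le_sup_left le_sup_right (H23.withCent_le_stab p hfp)
  have hD := H23.isDefectGroup_cent hM hl hf rfl
  constructor
  · obtain ⟨c, hc, hc'⟩ := hl.inf_cent_le p (H23.isPair_of he) (y := 1)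
      (by rwa [cjS_one, cj_one])
    rw [inv_one, cjS_one] at hc'
    exact ⟨_, H23.isDefectGroup_subgroupOf_of_conj hM hf hD inf_le_right hc rfl,
      fun z hz => hc' hz⟩
  · obtain ⟨x, hx, heq⟩ := hl.exists_conj_inf_cent p (H23.isBlk_eB hB) (H23.isMax_of hmax) hle'
    obtain ⟨hf', hf'eq⟩ := H23.conjBlock_spec (M := M) Q x hf
    haveI := Fintype.ofFinite (Subgroup.centralizer (cjS x Q : Set G))
    refine ⟨x, H23.subpairLE_of_le hf' he (by rw [hf'eq]; exact hx), ?_⟩
    have hfp' := Le.pair_left p hx (H23.isPair_of he)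
    obtain ⟨R', h', hl'⟩ :=
      H23.exists_locMax p hfp' le_sup_left le_sup_right (H23.withCent_le_stab p hfp')
    have hD' := H23.isDefectGroup_cent hM hl' hf' hf'eq
    obtain ⟨c, hc, hc'⟩ := hl'.inf_cent_le p (H23.isPair_of he) (y := 1)
      (by rwa [cjS_one, cj_one])
    rw [inv_one, cjS_one] at hc'
    have hcard : Nat.card (cjS c (R' ⊓ Subgroup.centralizer (cjS x Q : Set G))) ≤
        Nat.card (P ⊓ Subgroup.centralizer (cjS x Q : Set G) : Subgroup G) := by
      obtain ⟨x', hx', heq'⟩ :=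
        hl'.exists_conj_inf_cent p (H23.isBlk_eB hB) (H23.isMax_of hmax) hx
      have := hl.card_inf_cent_le p (H23.isPair_of he) (y := x' * x)
        (by rwa [← cjS_cjS, ← cj_cj])
      rw [← cjS_cjS, heq', card_cjS] at this
      rw [card_cjS, heq, card_cjS]
      exact this
    exact H23.isDefectGroup_subgroupOf_of_conj hM hf' hD' inf_le_right hc
      (Subgroup.eq_of_le_of_card_ge hc' hcard)

end Cfsg.Agent.S4661
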