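import Cfsg.Statements.S4662
import Cfsg.Agent.H23.LocalBlock
-- import your own Cfsg.Agent.* helpers here

set_option autoImplicit false
open Cfsg

open H23

namespace Cfsg.Agent.S4662

/-- Fix a prime p and a maximal ideal M of the algebraic integers containing p. Let (P, e) be a maximal Brauer pair of the p-block B of the finite group G, Q ≤ P, and f the p-block of C_G(Q) with (Q, f) ≤ (P, e). Let T be the stabilizer of f in N_G(Q). Then the idempotent of f is a block idempotent of T, and N_P(Q) is contained in a defect group of that block of T; moreover for some x in G the conjugate pair (x Q x⁻¹, conjugate of f) again lies below (P, e) and, with T' the stabilizer of the conjugate of f in N_G(x Q x⁻¹), N_P(x Q x⁻¹) is a defect group of the block of T' whose idempotent is that of the conjugate of f. -/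
theorem result {G : Type*} [Group G] [Fintype G] (p : ℕ) [Fact p.Prime] (M : Ideal Cfsg.AlgInt) (hM : Cfsg.IsPModular p M) (B : Set (Cfsg.IrrCharacter G)) (P Q : Subgroup G) (e : Set (Cfsg.IrrCharacter (Subgroup.centralizer (P : Set G)))) (f : Set (Cfsg.IrrCharacter (Subgroup.centralizer (Q : Set G)))) (hmax : Cfsg.IsMaximalBrauerPair p M B P e) (hQP : Q ≤ P) (hf : Cfsg.IsPBlock M f) (hle : Cfsg.SubpairLE p M Q f P e) (T : Subgroup G) (hT : ∀ y : G, y ∈ T ↔ y ∈ Subgroup.normalizer (Q : Set G) ∧ Cfsg.StabilizesBlock (Subgroup.centralizer (Q : Set G)) f y) : (∃ F : Set (Cfsg.IrrCharacter T), Cfsg.IsPBlock M F ∧ (∀ t : T, Cfsg.blockCoeff F t = Cfsg.subgroupBlockCoeff (Subgroup.centralizer (Q : Set G)) f (t : G)) ∧ ∃ D : Subgroup T, Cfsg.IsDefectGroup p M F D ∧ (P ⊓ Subgroup.normalizer (Q : Set G)).subgroupOf T ≤ D) ∧ ∃ x : G, Cfsg.SubpairLE p M (Q.map (MulAut.conj x).toMonoidHom) (Cfsg.conjBlock Q x f) P e ∧ ∀ (T' : Subgroup G), (∀ y : G, y ∈ T' ↔ y ∈ Subgroup.normalizer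 ((Q.map (MulAut.conj x).toMonoidHom) : Set G) ∧ Cfsg.StabilizesBlock (Subgroup.centralizer ((Q.map (MulAut.conj x).toMonoidHom) : Set G)) (Cfsg.conjBlock Q x f) y) → ∃ F' : Set (Cfsg.IrrCharacter T'), Cfsg.IsPBlock M F' ∧ (∀ t : T', Cfsg.blockCoeff F' t = Cfsg.subgroupBlockCoeff (Subgroup.centralizer ((Q.map (MulAut.conj x).toMonoidHom) : Set G)) (Cfsg.conjBlock Q x f) (t : G)) ∧ Cfsg.IsDefectGroup p M F' ((P ⊓ Subgroup.normalizer ((Q.map (MulAut.conj x).toMonoidHom) : Set G)).subgroupOf T') := by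
  haveI := hM.2.1.isPrime
  haveI := H20.k_charP (p := p) hM
  haveI := H23.isAlgClosed_k hM.2.1
  have hB := hmax.1.2.1
  have he : Cfsg.IsBrauerPair p M P e := hmax.1.1
  have hfb : Cfsg.IsBrauerPair p M Q f := ⟨he.1.to_le hQP, hf⟩
  obtain ⟨-, hle'⟩ := H23.subpairLE_le hle he.2
  have hfp := H23.isPair_of hfb
  have hTs := H23.eq_stab (M := M) hf hT
  subst hTs
  obtain ⟨R, h, hl⟩ := H23.exists_locMax p hfp (le_stab p hfp) (centralizer_le_stab p hfp) le_rfl
  obtain ⟨F, hF, hFw, hFc⟩ :=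
    H23.exists_stabBlock hfb (le_stab p hfp) (centralizer_le_stab p hfp) le_rfl
  have hD := H23.isDefectGroup_locMax hM hl hF hFw
  constructor
  · obtain ⟨t, ht, hle2⟩ := hl.inf_le p (H23.isPair_of he) hle'
    refine ⟨F, hF, hFc, _, H23.isDefectGroup_subgroupOf_of_conj hM hF hD hl.max.2.1 ht rfl,
      fun z hz => hle2 ?_⟩
    rw [inf_stab_eq p hle' (H23.isPair_of he)]
    exact hz
  · obtain ⟨x, hx, heq⟩ := hl.exists_conj_inf p (H23.isBlk_eB hB) (H23.isMax_of hmax) hle'
    obtain ⟨hf', hf'eq⟩ := H23.conjBlock_spec (M := M) Q x hf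
    refine ⟨x, H23.subpairLE_of_le hf' he (by rw [hf'eq]; exact hx), fun T' hT' => ?_⟩
    have hfb' : Cfsg.IsBrauerPair p M (cjS x Q) (Cfsg.conjBlock Q x f) :=
      ⟨he.1.to_le (hx.le p), hf'⟩
    have hTs' := H23.eq_stab (M := M) (Q := cjS x Q) hf' hT'
    subst hTs'
    have hfp' := H23.isPair_of hfb'
    rw [hf'eq] at hfp'
    obtain ⟨F', hF', hFw', hFc'⟩ :=
      H23.exists_stabBlock hfb' (le_stab p (H23.isPair_of hfb'))
        (centralizer_le_stab p (H23.isPair_of hfb')) le_rfl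
    refine ⟨F', hF', hFc', ?_⟩
    obtain ⟨R', h', hl'⟩ := H23.exists_locMax p (H23.isPair_of hfb') (le_stab p (H23.isPair_of hfb'))
      (centralizer_le_stab p (H23.isPair_of hfb')) le_rfl
    have hD' := H23.isDefectGroup_locMax hM hl' hF' hFw'
    have hxle : Le p (cjS x Q, eG M (Subgroup.centralizer (cjS x Q : Set G))
        (Cfsg.conjBlock Q x f)) (P, eG M (Subgroup.centralizer (P : Set G)) e) := by
      rw [hf'eq]; exact hx
    obtain ⟨t, ht, hle2⟩ := hl'.inf_le p (H23.isPair_of he) hxle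
    have hstab : stab (cjS x Q) (eG M (Subgroup.centralizer (cjS x Q : Set G))
        (Cfsg.conjBlock Q x f)) =
        cjS x (stab Q (eG M (Subgroup.centralizer (Q : Set G)) f)) := by
      rw [hf'eq, cjS_stab]
    obtain ⟨x', hx', heq'⟩ :=
      hl'.exists_conj_inf p (H23.isBlk_eB hB) (H23.isMax_of hmax) hxle
    have hx2 : Le p (cjS (x' * x) Q,
        H23.cj (x' * x) (eG M (Subgroup.centralizer (Q : Set G)) f))
        (P, eG M (Subgroup.centralizer (P : Set G)) e) := by
      rw [← cjS_cjS, ← cj_cj, ← hf'eq]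
      exact hx'
    have hcard := hl.card_inf_le p (H23.isPair_of he) hx2
    rw [← cjS_cjS, ← hstab, heq', card_cjS] at hcard
    have hN := inf_stab_eq p hxle (H23.isPair_of he)
    refine H23.isDefectGroup_subgroupOf_of_conj hM hF' hD' hl'.max.2.1 ht ?_
    show P ⊓ Subgroup.normalizer (cjS x Q : Set G) = _
    rw [← hN]
    refine Subgroup.eq_of_le_of_card_ge hle2 ?_
    rw [card_cjS, hstab, heq, card_cjS]
    exact hcard

end Cfsg.Agent.S4662
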