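import Cfsg.Statements.S4664
import Cfsg.Agent.H22.BlockClasses
import Cfsg.Agent.H12.Basic

set_option autoImplicit false
set_option linter.style.haveILetI false
set_option linter.unusedSectionVars false
open Cfsg

namespace Cfsg.Agent.S4664

/-- Fix a prime p and a maximal ideal M of the algebraic integers containing p, and let B be a p-block of the finite group G. Let m be the p'-part of the order of G and η = exp(2πi/m). Then every coefficient of the idempotent of B lies in the cyclotomic field ℚ(η). -/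
theorem result {G : Type*} [Group G] [Fintype G] (p : ℕ) [Fact p.Prime] (M : Ideal Cfsg.AlgInt) (hM : Cfsg.IsPModular p M) (B : Set (Cfsg.IrrCharacter G)) (hB : Cfsg.IsPBlock M B) (g : G) : Cfsg.blockCoeff B g ∈ IntermediateField.adjoin ℚ ({Complex.exp (2 * Real.pi * Complex.I / ((Nat.card G / p ^ (Nat.card G).factorization p : ℕ) : ℂ))} : Set ℂ) := by
  classical
  haveI := H20.isPrime_of_modular hM
  set m := Nat.card G / p ^ (Nat.card G).factorization p with hm
  have hζ' : m ≠ 0 → IsPrimitiveRoot (Complex.exp (2 * Real.pi * Complex.I / (m : ℂ))) m :=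
    Complex.isPrimitiveRoot_exp m
  generalize Complex.exp (2 * Real.pi * Complex.I / (m : ℂ)) = ζ at hζ' ⊢
  set L := IntermediateField.adjoin ℚ ({ζ} : Set ℂ) with hL
  by_cases hg : p ∣ orderOf g
  · have hz : blockCoeff B g = 0 := H22.blockCoeff_eq_zero_of_dvd (H22.weakOrth_of_block hM hB) hg
    rw [hz]
    exact zero_mem L
  have hm0 : m ≠ 0 := (Nat.ordCompl_pos p Nat.card_pos.ne').ne'
  have hdvd : orderOf g ∣ m := Nat.Coprime.dvd_of_dvd_mul_left
    (Nat.Coprime.pow_right _ ((Fact.out : p.Prime).coprime_iff_not_dvd.2 hg).symm)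
    ((Nat.ordProj_mul_ordCompl_eq_self (Nat.card G) p).symm ▸ orderOf_dvd_natCard g)
  have hprim : IsPrimitiveRoot ζ m := hζ' hm0
  have hval : ∀ (χ : IrrCharacter G) (k : ℕ), (χ : G → ℂ) (g ^ k) ∈ L := by
    intro χ k
    obtain ⟨n, ρ, -, hχ⟩ := χ.2
    obtain ⟨μ, hμ, hk, -⟩ := H12.exists_char_eigenvalues ρ g
    rw [← hχ, hk]
    refine sum_mem fun i _ => pow_mem ?_ _
    haveI : NeZero m := ⟨hm0⟩
    obtain ⟨j, -, hj⟩ := hprim.eq_pow_of_pow_eq_one (ξ := μ i) (by
      obtain ⟨c, hc⟩ := hdvd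
      rw [hc, pow_mul, hμ i, one_pow])
    rw [← hj]
    exact pow_mem (IntermediateField.mem_adjoin_simple_self ℚ ζ) j
  rw [blockCoeff, H22.finsum_mem_block]
  refine mul_mem (inv_mem (natCast_mem L _)) (sum_mem fun χ _ => ?_)
  refine mul_mem ?_ ?_
  · rw [H12.irr_apply_one]; exact natCast_mem L _
  · rw [← H12.irr_inv]
    obtain ⟨k, hk⟩ : ∃ k : ℕ, g ^ k = g⁻¹ := (isOfFinOrder_of_finite g).mem_powers_iff_mem_zpowers.2
      (inv_mem (Subgroup.mem_zpowers g))
    rw [← hk]
    exact hval χ k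

end Cfsg.Agent.S4664
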