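import Cfsg.Statements.S4665
import Cfsg.Agent.H19.RegularSpan
-- import your own Cfsg.Agent.* helpers here

set_option autoImplicit false
open Cfsg

namespace Cfsg.Agent.S4665

/-- Fix a prime p, a maximal ideal M of the algebraic integers containing p, and a p-block B of the finite group G, and let p^a be the p-part of the order of G. Let χ be an integer combination of the irreducible characters in B. If the function that agrees with χ on p-regular elements and vanishes on p-singular elements is again an integer combination of the irreducible characters in B, then p^a divides χ(1). -/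
theorem result {G : Type*} [Group G] [Fintype G] (p : ℕ) [Fact p.Prime] (M : Ideal Cfsg.AlgInt) (hM : Cfsg.IsPModular p M) (B : Set (Cfsg.IrrCharacter G)) (hB : Cfsg.IsPBlock M B) (χ : G → ℂ) (hχ : (∃ n : Cfsg.IrrCharacter G → ℤ, ∀ g : G, χ g = ∑ᶠ ψ ∈ B, (n ψ : ℂ) * (ψ : G → ℂ) g)) (h0 : (∃ n : Cfsg.IrrCharacter G → ℤ, ∀ g : G, Cfsg.pRegularPart p χ g = ∑ᶠ ψ ∈ B, (n ψ : ℂ) * (ψ : G → ℂ) g)) : ∃ k : ℤ, χ 1 = (p ^ (Nat.card G).factorization p : ℂ) * k := by
  classical
  obtain ⟨n, hn⟩ := h0
  obtain ⟨P⟩ : Nonempty (Sylow p G) := inferInstance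
  obtain ⟨k, hk⟩ := H19.RegSpan.card_dvd_apply_one (P : Subgroup G) (Set.toFinite B).toFinset n
    (fun g => by rw [hn g, finsum_mem_eq_finite_toFinset_sum _ (Set.toFinite B)])
    (fun u hu hu1 => H19.RegSpan.pRegularPart_eq_zero_of_mem (P : Subgroup G) P.isPGroup' χ hu hu1)
  rw [H22.pRegularPart_of_not_dvd _ (by rw [orderOf_one]; exact (Fact.out : p.Prime).not_dvd_one),
    P.card_eq_multiplicity, Nat.cast_pow] at hk
  exact ⟨k, hk⟩


end Cfsg.Agent.S4665
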