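import Cfsg.Statements.S4666
import Cfsg.Agent.H22.DeltaInt
import Cfsg.Agent.H22.Subsections

set_option autoImplicit false
set_option linter.style.haveILetI false
set_option linter.unusedSectionVars false
open Cfsg

namespace Cfsg.Agent.S4666

/-- Fix a prime p and a maximal ideal M of the algebraic integers containing p, and a p-block B of the finite group G of defect d. For every integer combination χ of the irreducible characters in B, p^d times the function that agrees with χ on p-regular elements and vanishes elsewhere is again an integer combination of the irreducible characters in B. -/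
theorem result {G : Type*} [Group G] [Fintype G] (p : ℕ) [Fact p.Prime] (M : Ideal Cfsg.AlgInt) (hM : Cfsg.IsPModular p M) (B : Set (Cfsg.IrrCharacter G)) (hB : Cfsg.IsPBlock M B) (χ : G → ℂ) (hχ : (∃ n : Cfsg.IrrCharacter G → ℤ, ∀ g : G, χ g = ∑ᶠ ψ ∈ B, (n ψ : ℂ) * (ψ : G → ℂ) g)) : (∃ n : Cfsg.IrrCharacter G → ℤ, ∀ g : G, (p ^ Cfsg.blockDefect p B : ℂ) * Cfsg.pRegularPart p χ g = ∑ᶠ ψ ∈ B, (n ψ : ℂ) * (ψ : G → ℂ) g) := by
  classical
  haveI := H20.isPrime_of_modular hM
  obtain ⟨n, hn⟩ := hχ
  obtain ⟨z, hz, -⟩ := H22.exists_isDeltaMatrix hM hB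
  refine ⟨fun ψ => ∑ φ ∈ H22.blockFinset B, n φ * z φ ψ, fun g => ?_⟩
  have hreg : pRegularPart p χ g =
      ∑ φ ∈ H22.blockFinset B, (n φ : ℂ) * pRegularPart p (φ : G → ℂ) g := by
    simp only [H22.pRegularPart_apply]
    split_ifs
    · simp
    · rw [hn g, H22.finsum_mem_block]
  rw [hreg, H22.finsum_mem_block, Finset.mul_sum]
  push_cast
  simp only [Finset.sum_mul]
  rw [Finset.sum_comm]
  refine Finset.sum_congr rfl fun φ hφ => ?_
  rw [← H22.sum_Delta_mul (H22.weakOrth_of_block hM hB) (H22.mem_blockFinset.1 hφ) g,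
    Finset.mul_sum, Finset.mul_sum]
  refine Finset.sum_congr rfl fun ψ _ => ?_
  rw [hz φ (H22.mem_blockFinset.1 hφ)]
  ring

end Cfsg.Agent.S4666
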