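import Cfsg.Statements.S4668
import Cfsg.Agent.H23.Lift
import Cfsg.Agent.H20.Orth
import Cfsg.Agent.H77.CharP
-- import your own Cfsg.Agent.* helpers here

set_option autoImplicit false
open Cfsg

open H23

namespace Cfsg.Agent.S4668

/-- Fix a prime p and a maximal ideal M of the algebraic integers containing p. Let Q₀ < Q₁ < ⋯ < Q_m be a strictly increasing chain of p-subgroups of the finite group G and N the intersection of their normalizers. Then every block idempotent of N is supported on C_G(Q_m): for every p-block E of N, the idempotent coefficient of E vanishes at every element of N outside C_G(Q_m). -/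
theorem result {G : Type*} [Group G] [Fintype G] (p : ℕ) [Fact p.Prime] (M : Ideal Cfsg.AlgInt) (hM : Cfsg.IsPModular p M) (m : ℕ) (Q : Fin (m + 1) → Subgroup G) (hQ : StrictMono Q) (hQp : ∀ i, IsPGroup p (Q i)) (N : Subgroup G) (hN : ∀ g : G, g ∈ N ↔ ∀ i, g ∈ Subgroup.normalizer (Q i : Set G)) (E : Set (Cfsg.IrrCharacter N)) (hE : Cfsg.IsPBlock M E) (n : N) (hn : (n : G) ∉ Subgroup.centralizer (Q (Fin.last m) : Set G)) : Cfsg.blockCoeff E n = 0 := by
  haveI := hM.2.1.isPrime
  haveI := H20.k_charP (p := p) hM
  haveI := H23.isAlgClosed_k hM.2.1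
  classical
  haveI := Fintype.ofFinite N
  by_cases hreg : p ∣ orderOf n
  · rw [blockCoeff, H20.weak_orthogonality hM hE (show ¬ p ∣ orderOf (1 : N) by
      simp [(Fact.out : p.Prime).ne_one]) (y := n) hreg, mul_zero]
  by_contra hne
  have hmono : ∀ {i j : Fin (m + 1)}, i ≤ j → Q i ≤ Q j := fun h => hQ.monotone h
  -- `n` centralises `Q i ⊓ N`
  have hR : ∀ i, ∀ x ∈ Q i, x ∈ N → (n : G) * x = x * n := by
    intro i x hx hxN
    haveI : ((Q i).subgroupOf N).Normal := ⟨fun a ha b =>
      (Subgroup.mem_normalizer_iff.1 ((hN b).1 b.2 i) a).1 ha⟩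
    have h1 : n ∈ Subgroup.centralizer (((Q i).subgroupOf N : Subgroup N) : Set N) := by
      by_contra h
      exact hne (blockCoeff_eq_zero_of_normal (P := (Q i).subgroupOf N) hM ((hQp i).comap_subtype) hE h)
    exact congrArg Subtype.val (Subgroup.mem_centralizer_iff.1 h1 ⟨x, hxN⟩ hx).symm
  have hmem : ∀ i : ℕ, (hi : i < m + 1) → ∀ x ∈ Q ⟨i, hi⟩, (n : G) * x = x * n := by
    intro i
    induction i with
    | zero =>
      intro hi x hx
      refine hR _ x hx ((hN x).2 fun j => Subgroup.le_normalizer (hmono (Fin.zero_le j) hx))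
    | succ i ih =>
      intro hi x hx
      have hi' : i < m + 1 := by omega
      refine H77.thompson_AxB (p := p) (hQp ⟨i + 1, hi⟩) (hQp ⟨i, hi'⟩)
        (fun a ha => Subgroup.le_normalizer (hmono (by simp [Fin.le_def]) ha))
        (k := (n : G)) (by rwa [Subgroup.orderOf_coe])
        (fun y hy => (Subgroup.mem_normalizer_iff.1 ((hN n).1 n.2 _) y).1 hy)
        (fun a ha => ih hi' a ha) (fun y hy hyA => hR _ y hy ((hN y).2 fun j => ?_)) x hx
      by_cases hj : (j : ℕ) ≤ i
      · refine Subgroup.mem_normalizer_iff.2 fun a => ?_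
        have hc : ∀ b ∈ Q j, b * y = y * b := fun b hb => hyA b (hmono (by simpa [Fin.le_def]) hb)
        constructor
        · intro ha
          rwa [← hc a ha, mul_inv_cancel_right]
        · intro ha
          have := hc _ ha
          rw [inv_mul_cancel_right] at this
          have h2 : a = y * a * y⁻¹ := mul_left_cancel (a := y) this
          rwa [h2]
      · exact Subgroup.le_normalizer (hmono (by simp [Fin.le_def]; omega) hy)
  exact hn (Subgroup.mem_centralizer_iff.2 fun x hx => (hmem m (by omega) x hx).symm)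


end Cfsg.Agent.S4668
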