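import Cfsg.Statements.S4669
import Cfsg.Agent.H19.SelfCentralList
-- import your own Cfsg.Agent.* helpers here

set_option autoImplicit false
open Cfsg

namespace Cfsg.Agent.S4669

/-- Fix a prime p and a maximal ideal M of the algebraic integers containing p. If the p-block B of the finite group G has a defect group P contained in the centre of G, then B has p-regular rank one (a single irreducible Brauer character). -/
theorem result {G : Type*} [Group G] [Fintype G] (p : ℕ) [Fact p.Prime] (M : Ideal Cfsg.AlgInt) (hM : Cfsg.IsPModular p M) (B : Set (Cfsg.IrrCharacter G)) (hB : Cfsg.IsPBlock M B) (P : Subgroup G) (hD : Cfsg.IsDefectGroup p M B P) (hPZ : P ≤ Subgroup.center G) : Cfsg.blockRank p B = 1 := by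
  classical
  haveI : M.IsPrime := hM.2.1.isPrime
  have hG : P ⊔ Subgroup.centralizer (P : Set G) = ⊤ := by
    refine eq_top_iff.mpr (le_trans ?_ le_sup_right)
    intro g _
    rw [Subgroup.mem_centralizer_iff]
    exact fun x hx => (Subgroup.mem_center_iff.mp (hPZ hx) g).symm
  have hP : IsPGroup p P := IsPGroup.of_card (H22.card_isDefectGroup hM hB hD)
  obtain ⟨⟨θ, ⟨hθ, hθP⟩, -⟩, -, -⟩ := H21.self_central_block hM hP hG hB hD
  obtain ⟨-, h2⟩ := H19.SelfCentral.list_block hM hP hG hB hD hθ hθP
  unfold Cfsg.blockRank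
  have hspan : Submodule.span ℂ ((fun χ : Cfsg.IrrCharacter G => Cfsg.pRegularPart p (χ : G → ℂ)) '' B) =
      Submodule.span ℂ {Cfsg.pRegularPart p (θ : G → ℂ)} := by
    refine le_antisymm (Submodule.span_le.mpr ?_)
      (Submodule.span_mono (Set.singleton_subset_iff.mpr ⟨θ, hθ, rfl⟩))
    rintro _ ⟨χ, hχ, rfl⟩
    obtain ⟨φ, hφ⟩ := h2 χ hχ
    refine Submodule.mem_span_singleton.mpr ⟨(φ : P → ℂ) 1, funext fun g => ?_⟩
    by_cases hg : p ∣ orderOf g
    · rw [Pi.smul_apply, smul_eq_mul, H22.pRegularPart_of_dvd _ hg, mul_zero]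
      exact (H22.pRegularPart_of_dvd _ hg).symm
    · rw [Pi.smul_apply, smul_eq_mul, H22.pRegularPart_of_not_dvd _ hg]
      refine Eq.trans ?_ (H22.pRegularPart_of_not_dvd _ hg).symm
      rw [hφ, H21.secFun_regular P _ _ hg]
  rw [hspan, finrank_span_singleton]
  intro h0
  have h := congrFun h0 1
  rw [H22.pRegularPart_of_not_dvd _ (by rw [orderOf_one]; exact (Fact.out : p.Prime).not_dvd_one)] at h
  exact H12.irr_apply_one_ne_zero θ h


end Cfsg.Agent.S4669
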