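import Cfsg.Statements.S4671
import Cfsg.Agent.H23.Covering
import Cfsg.Agent.H23.DefectPair
import Cfsg.Agent.H23.Lift
import Cfsg.Agent.S4438
-- import your own Cfsg.Agent.* helpers here

set_option autoImplicit false
open Cfsg

open H23
open scoped MonoidAlgebra Pointwise

namespace Cfsg.Agent.S4671

/-- Fix a prime p and a maximal ideal M of the algebraic integers containing p. Let N be a normal subgroup of the finite group G, B a p-block of G and P a defect group of B. Then there is a p-block c of N, stable under conjugation by P and covered by B (some member of B has a constituent in c on restriction to N), such that P ∩ N is a defect group of c. -/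
theorem result {G : Type*} [Group G] [Fintype G] (p : ℕ) [Fact p.Prime] (M : Ideal Cfsg.AlgInt) (hM : Cfsg.IsPModular p M) (N : Subgroup G) [N.Normal] [Fintype N] (B : Set (Cfsg.IrrCharacter G)) (hB : Cfsg.IsPBlock M B) (P : Subgroup G) (hP : Cfsg.IsDefectGroup p M B P) : ∃ c : Set (Cfsg.IrrCharacter N), Cfsg.IsPBlock M c ∧ (∀ x ∈ P, Cfsg.StabilizesBlock N c x) ∧ (∃ χ ∈ B, ∃ θ ∈ c, Cfsg.classInner (fun n : N => (χ : G → ℂ) n) (θ : N → ℂ) ≠ 0) ∧ Cfsg.IsDefectGroup p M c ((P ⊓ N).subgroupOf N) := by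
  haveI := hM.2.1.isPrime
  haveI := H20.k_charP (p := p) hM
  haveI := H23.isAlgClosed_k hM.2.1
  classical
  have hf0 := isBlk_eB (M := M) hB
  obtain ⟨e, hmax⟩ := exists_maxPair_defect hB hM hP
  have hPp := hmax.1.1
  obtain ⟨S, hS, hsum⟩ := exists_blocks (K := H20.k M) N
  -- a `P`-fixed block of `N` with nonzero image at `P` inside `e`
  have hact : ∀ (x : P) (b : S), cj (x : G) (b : (H20.k M)[G]) ∈ S := fun x b =>
    (hS _).2 (isBlk_cj_normal ((hS _).1 b.2) (x : G))
  letI : MulAction P S :=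
    { smul := fun x b => ⟨cj (x : G) (b : (H20.k M)[G]), hact x b⟩
      one_smul := fun b => Subtype.ext (cj_one (b : (H20.k M)[G]))
      mul_smul := fun x y b => Subtype.ext (cj_cj (x : G) (y : G) (b : (H20.k M)[G])).symm }
  set F := Finset.univ.filter (fun b : S => b ∈ MulAction.fixedPoints P S) with hF
  have hBr1 : Br P (∑ b ∈ F, (b : (H20.k M)[G])) = 1 := by
    ext y
    by_cases hy : y ∈ Subgroup.centralizer (P : Set G)
    · rw [coeff_Br_of_mem _ hy, ← hsum]
      simp only [MonoidAlgebra.coeff_sum, Finsupp.finsetSum_apply]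
      rw [← Finset.sum_coe_sort S fun b => b.coeff y]
      refine (sum_eq_sum_fixedPoints p hPp (fun b : S => (b : (H20.k M)[G]).coeff y)
        fun x b => ?_).symm
      show (cj (x : G) (b : (H20.k M)[G])).coeff y = _
      rw [coeff_cj, mul_assoc, ← Subgroup.mem_centralizer_iff.1 hy x x.2, inv_mul_cancel_left]
    · have h1 : y ≠ 1 := fun h => hy (h ▸ one_mem _)
      rw [coeff_Br_of_notMem _ hy, MonoidAlgebra.one_def, MonoidAlgebra.coeff_single,
        Finsupp.single_eq_of_ne h1]
  obtain ⟨b, hbF, hbne⟩ : ∃ b ∈ F, e * Br P (b : (H20.k M)[G]) ≠ 0 := by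
    by_contra h
    push Not at h
    apply hmax.1.2.ne_zero
    calc e = e * Br P (∑ b ∈ F, (b : (H20.k M)[G])) := by rw [hBr1, mul_one]
      _ = e * ∑ b ∈ F, Br P (b : (H20.k M)[G]) := by
          congr 1
          ext y
          by_cases hy : y ∈ Subgroup.centralizer (P : Set G)
          · simp [coeff_Br_of_mem _ hy, MonoidAlgebra.coeff_sum]
          · simp [coeff_Br_of_notMem _ hy, MonoidAlgebra.coeff_sum]
      _ = 0 := by rw [Finset.mul_sum, Finset.sum_eq_zero h]
  have hblk : IsBlk N (b : (H20.k M)[G]) := (hS _).1 b.2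
  have hbfix : ∀ x ∈ P, cj x (b : (H20.k M)[G]) = b := fun x hx =>
    congrArg Subtype.val ((Finset.mem_filter.1 hbF).2 ⟨x, hx⟩)
  obtain ⟨c, hc, hcb⟩ := exists_pblock_eq hblk
  have hEb : eB M B * eG M N c ≠ 0 := by
    intro h0
    apply hbne
    have h1 := Br_mul hPp ((cidem_eB hB).fix.mono le_top) (isFix_iff_cj.2 hbfix)
    rw [← hcb, h0, Br_zero] at h1
    have h2 : e * Br P (eB M B) = e := hmax.2.1
    rw [← h2, mul_assoc, ← hcb, ← h1, mul_zero]
  have hcov := (covers_iff_mul_ne_zero hB hc).2 hEb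
  refine ⟨c, hc, fun x hx => ?_, hcov, ?_⟩
  · rw [stabilizesBlock_iff hc, hcb]
    exact ⟨by rw [Subgroup.normalizer_eq_top (H := N)]; exact Subgroup.mem_top x, hbfix x hx⟩
  -- the defect group
  obtain ⟨D, hD⟩ := H20.exists_defectGroup hM hc
  set Q := D.map N.subtype with hQ
  have hQD : Q.subgroupOf N = D := Subgroup.comap_map_eq_self_of_injective N.subtype_injective D
  obtain ⟨P', hP', hP'N⟩ := Cfsg.Agent.S4438.result p M hM N c hc Q (Subgroup.map_subtype_le D)
    (hQD ▸ hD) B hB hcov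
  obtain ⟨x, rfl⟩ := H20.defectGroup_conj hM hB hP hP'
  have hcard : Nat.card D = Nat.card ((P ⊓ N).subgroupOf N) := by
    rw [card_subgroupOf inf_le_right, ← card_cjS x (P ⊓ N), cjS_inf, cjS_normal N,
      ← hQD, card_subgroupOf (Subgroup.map_subtype_le D)]
    exact (congrArg (fun K : Subgroup G => Nat.card K) hP'N).symm
  obtain ⟨g, hg, hgne⟩ : ∃ g ∈ Subgroup.centralizer (P : Set G), (eG M N c).coeff g ≠ 0 := by
    obtain ⟨g, hg⟩ := exists_coeff_ne_zero (a := Br P (b : (H20.k M)[G])) fun h0 => hbne (by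
      rw [h0, mul_zero])
    have hgC : g ∈ Subgroup.centralizer (P : Set G) := by
      by_contra hgC
      exact hg (coeff_Br_of_notMem _ hgC)
    rw [coeff_Br_of_mem _ hgC] at hg
    exact ⟨g, hgC, hcb.symm ▸ hg⟩
  have hgN : g ∈ N := by_contra fun h => hgne (supp_eG N c g h)
  obtain ⟨y, hy⟩ := H20.sylC_le_defectGroup hM hc hD (h := ⟨g, hgN⟩)
    (by rw [← res_eG, coeff_res]; exact hgne) (R := (P ⊓ N).subgroupOf N)
    ((hPp.to_le inf_le_left).comap_subtype) (by
      rw [Subgroup.mem_centralizer_iff]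
      intro r hr
      exact Subtype.ext (Subgroup.mem_centralizer_iff.1 hg r hr.1))
  have heq : (P ⊓ N).subgroupOf N = H20.conjSub y D :=
    Subgroup.eq_of_le_of_card_ge hy (by rw [H20.card_conjSub, hcard])
  rw [heq]
  exact H20.isDefectGroup_conj hM hc hD y

end Cfsg.Agent.S4671
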