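import Cfsg.Statements.S4673
import Cfsg.Agent.H23.Covering
import Cfsg.Agent.H23.DefectPair
import Cfsg.Agent.H23.Lift
import Cfsg.Agent.S4438
-- import your own Cfsg.Agent.* helpers here

set_option autoImplicit false
open Cfsg

open H23
open scoped MonoidAlgebra Pointwise

namespace Cfsg.Agent.S4673

/-- Fix a prime p and a maximal ideal M of the algebraic integers containing p. Let N ≤ L be normal subgroups of the finite group G with L/N a p-group, let B be a p-block of G covering the p-block c of N (some member of B has a constituent in c on restriction to N), and suppose that N contains a defect group of B. Then the stabilizer T of c in G satisfies T ∩ L = N. -/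
theorem result {G : Type*} [Group G] [Fintype G] (p : ℕ) [Fact p.Prime] (M : Ideal Cfsg.AlgInt) (hM : Cfsg.IsPModular p M) (N L : Subgroup G) [N.Normal] [L.Normal] [Fintype N] (hNL : N ≤ L) (hLN : ∃ k : ℕ, (N.subgroupOf L).index = p ^ k) (B : Set (Cfsg.IrrCharacter G)) (hB : Cfsg.IsPBlock M B) (c : Set (Cfsg.IrrCharacter N)) (hc : Cfsg.IsPBlock M c) (hcov : (∃ χ ∈ B, ∃ θ ∈ c, Cfsg.classInner (fun n : N => (χ : G → ℂ) n) (θ : N → ℂ) ≠ 0)) (hD : ∃ D : Subgroup G, Cfsg.IsDefectGroup p M B D ∧ D ≤ N) (T : Subgroup G) (hT : ∀ x : G, x ∈ T ↔ Cfsg.StabilizesBlock N c x) : T ⊓ L = N := by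
  haveI := hM.2.1.isPrime
  haveI := H20.k_charP (p := p) hM
  haveI := H23.isAlgClosed_k hM.2.1
  classical
  obtain ⟨k, hk⟩ := hLN
  have hblk := isBlk_eG (M := M) hc
  have hTfix : ∀ x ∈ T, cj x (eG M N c) = eG M N c := fun x hx =>
    ((stabilizesBlock_iff hc x).1 ((hT x).1 hx)).2
  have hNT : N ≤ T := fun x hx => (hT x).2 ((stabilizesBlock_iff hc x).2
    ⟨by rw [Subgroup.normalizer_eq_top (H := N)]; exact Subgroup.mem_top x,
      isFix_iff_cj.1 (cidem_eG hc).fix x hx⟩)
  haveI : (N.subgroupOf L).Normal := Subgroup.Normal.subgroupOf inferInstance L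
  obtain ⟨j, hj⟩ : ∃ j, (N.subgroupOf (T ⊓ L)).index = p ^ j := by
    have h1 : N.relIndex (T ⊓ L) ∣ p ^ k := by
      rw [← hk]
      exact Dvd.intro _ (Subgroup.relIndex_mul_relIndex N (T ⊓ L) L (le_inf hNT hNL) inf_le_right)
    obtain ⟨j, -, hj⟩ := (Nat.dvd_prime_pow Fact.out).1 h1
    exact ⟨j, hj⟩
  obtain ⟨g, hgN, hgne, U, hU, hUA, hgU, hAU⟩ := exists_supplement (p := p) (le_inf hNT hNL) hj hblk
    fun x hx => hTfix x hx.1
  -- the block of `L` covered by `B`
  set W := orbSum L (eG M N c) with hW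
  haveI := Fintype.ofFinite L
  have hWblk : IsBlk L W := isBlk_orbSum hM hNL hk hblk
  obtain ⟨cL, hcL, hcLW⟩ := exists_pblock_eq hWblk
  have hcW : eG M N c * W = eG M N c := self_mul_orbSum hblk
  have hEW : eB M B * eG M L cL ≠ 0 := by
    intro h0
    refine (covers_iff_mul_ne_zero hB hc).1 hcov ?_
    rw [← hcW, CIdem.comm (cidem_orbSum hNL hblk).fix (cidem_orbSum hNL hblk).supp
      ((cidem_eG hc).supp.mono hNL) |>.symm, ← mul_assoc]
    rw [show eB M B * orbSum L (eG M N c) = eB M B * eG M L cL from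
      congrArg (eB M B * ·) hcLW.symm, h0, zero_mul]
  obtain ⟨DL, hDL⟩ := H20.exists_defectGroup hM hcL
  set Q := DL.map L.subtype with hQ
  have hQD : Q.subgroupOf L = DL := Subgroup.comap_map_eq_self_of_injective L.subtype_injective DL
  obtain ⟨P', hP', hP'L⟩ := Cfsg.Agent.S4438.result p M hM L cL hcL Q (Subgroup.map_subtype_le DL)
    (hQD ▸ hDL) B hB ((covers_iff_mul_ne_zero hB hcL).2 hEW)
  obtain ⟨D0, hD0, hD0N⟩ := hD
  obtain ⟨x, rfl⟩ := H20.defectGroup_conj hM hB hD0 hP'
  have hQN : Q ≤ N := by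
    rw [← hP'L]
    refine inf_le_left.trans ?_
    show cjS x D0 ≤ N
    rw [← cjS_normal N x]
    exact cjS_mono x hD0N
  -- `U` lies in the defect group of `W`
  have hUN : U ≤ N := by
    have hUL : U ≤ L := hUA.trans inf_le_right
    have hne : Br U W ≠ 0 := by
      intro h0
      apply hgne
      have h1 := Br_mul hU (a := eG M N c) (b := W)
        (isFix_iff_cj.2 fun y hy => hTfix y (hUA hy).1) ((cidem_orbSum hNL hblk).fix.mono hUL)
      rw [hcW, h0, mul_zero] at h1
      rw [← coeff_Br_of_mem (eG M N c) hgU, h1]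
      rfl
    obtain ⟨y, hy⟩ := exists_coeff_ne_zero hne
    have hyU : y ∈ Subgroup.centralizer (U : Set G) := by
      by_contra h
      exact hy (coeff_Br_of_notMem _ h)
    rw [coeff_Br_of_mem _ hyU] at hy
    have hyL : y ∈ L := by_contra fun h => hy (hWblk.cidem.supp y h)
    obtain ⟨z, hz⟩ := H20.sylC_le_defectGroup hM hcL hDL (h := ⟨y, hyL⟩)
      (by rw [← res_eG, coeff_res, hcLW]; exact hy) (R := U.subgroupOf L) hU.comap_subtype (by
        rw [Subgroup.mem_centralizer_iff]
        intro r hr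
        exact Subtype.ext (Subgroup.mem_centralizer_iff.1 hyU r hr))
    intro u hu
    have h3 := hz (show (⟨u, hUL hu⟩ : L) ∈ U.subgroupOf L from hu)
    rw [← hQD, map_subgroupOf_conjSub (Subgroup.map_subtype_le DL), Subgroup.mem_subgroupOf] at h3
    rw [← cjS_normal N (z : G)]
    exact cjS_mono _ hQN h3
  refine le_antisymm (hAU.trans (sup_le hUN le_rfl)) (le_inf hNT hNL)

end Cfsg.Agent.S4673
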