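import Cfsg.Statements.S4674
import Cfsg.Agent.H11.BlockCover
import Cfsg.Agent.H20.Induced
import Cfsg.Agent.H20.DefectApps

set_option autoImplicit false
set_option linter.style.haveILetI false
open Cfsg
open H23

namespace Cfsg.Agent.S4674

/-- Fix a prime p and a maximal ideal M of the algebraic integers containing p. Let N be a normal subgroup of the finite group G, Q a p-subgroup of N, H = N_G(Q) and L = H ∩ N = N_N(Q). Let d be a p-block of N with defect group Q and e the p-block of L with defect group Q that induces d inside N (its Brauer correspondent). Then block induction from H to G is a bijection from the p-blocks of H covering e onto the p-blocks of G covering d: every block of H covering e induces exactly one block of G, and that block covers d; and every block of G covering d is induced by exactly one block of H covering e. -/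
theorem result {G : Type*} [Group G] [Fintype G] (p : ℕ) [Fact p.Prime] (M : Ideal Cfsg.AlgInt) (hM : Cfsg.IsPModular p M) (N : Subgroup G) [N.Normal] [Fintype N] (Q : Subgroup G) (hQ : IsPGroup p Q) (hQN : Q ≤ N) [Fintype ↥(Subgroup.normalizer (Q : Set G) ⊓ N)] (d : Set (Cfsg.IrrCharacter N)) (hd : Cfsg.IsPBlock M d) (hdQ : Cfsg.IsDefectGroup p M d (Q.subgroupOf N)) (e : Set (Cfsg.IrrCharacter ↥(Subgroup.normalizer (Q : Set G) ⊓ N))) (he : Cfsg.IsPBlock M e) (heQ : Cfsg.IsDefectGroup p M e (Q.subgroupOf (Subgroup.normalizer (Q : Set G) ⊓ N))) (hed : Cfsg.IsInducedBlockIn M N (Subgroup.normalizer (Q : Set G) ⊓ N) e d) : (∀ c : Set (Cfsg.IrrCharacter ↥(Subgroup.normalizer (Q : Set G))), Cfsg.IsPBlock M c → (∃ ψ ∈ c, ∃ ξ ∈ e, Cfsg.classInner (fun l : ↥(Subgroup.normalizer (Q : Set G) ⊓ N) => (ψ : ↥(Subgroup.normalizer (Q : Set G)) → ℂ) (Subgroup.inclusion inf_le_left l)) (ξ : ↥(Subgroup.normalizer (Q : Set G) ⊓ N) → ℂ) ≠ 0) → ∃! B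 : Set (Cfsg.IrrCharacter G), Cfsg.IsInducedBlock M (Subgroup.normalizer (Q : Set G)) c B ∧ (∃ χ ∈ B, ∃ θ ∈ d, Cfsg.classInner (fun n : N => (χ : G → ℂ) n) (θ : N → ℂ) ≠ 0)) ∧ (∀ B : Set (Cfsg.IrrCharacter G), Cfsg.IsPBlock M B → (∃ χ ∈ B, ∃ θ ∈ d, Cfsg.classInner (fun n : N => (χ : G → ℂ) n) (θ : N → ℂ) ≠ 0) → ∃! c : Set (Cfsg.IrrCharacter ↥(Subgroup.normalizer (Q : Set G))), (Cfsg.IsPBlock M c ∧ ∃ ψ ∈ c, ∃ ξ ∈ e, Cfsg.classInner (fun l : ↥(Subgroup.normalizer (Q : Set G) ⊓ N) => (ψ : ↥(Subgroup.normalizer (Q : Set G)) → ℂ) (Subgroup.inclusion inf_le_left l)) (ξ : ↥(Subgroup.normalizer (Q : Set G) ⊓ N) → ℂ) ≠ 0) ∧ Cfsg.IsInducedBlock M (Subgroup.normalizer (Q : Set G)) c B) := by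
  haveI := hM.2.1.isPrime
  haveI := H20.k_charP (p := p) hM
  haveI := H23.isAlgClosed_k hM.2.1
  classical
  haveI := Fintype.ofFinite (Subgroup.normalizer (Q : Set G))
  have hCH : Subgroup.centralizer (Q : Set G) ≤ Subgroup.normalizer (Q : Set G) :=
    Subgroup.centralizer_le_normalizer (Q : Set G)
  have hQC : Q ⊔ Subgroup.centralizer (Q : Set G) ≤ Subgroup.normalizer (Q : Set G) :=
    sup_le Subgroup.le_normalizer hCH
  refine ⟨fun c hc hcov => ?_, fun B hB hcov => ?_⟩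
  · obtain ⟨B, hcB⟩ := H21.exists_inducedBlock hM hQ hQC le_rfl hc
    exact ⟨B, ⟨hcB, (H11.BC.covers_iff_of_induced hM hQ hQN hd hdQ he heQ hed hcB).2 hcov⟩,
      fun B' hB' => H21.isInducedBlock_unique hB'.1 hcB⟩
  obtain ⟨D, hD, hDN⟩ := H21.exists_defect_inf_eq N hM hB hd hcov hQN hdQ
  -- subgroups meeting `N` in `Q`
  have hnorm : ∀ {E : Subgroup G}, E ⊓ N = Q →
      Subgroup.normalizer (E : Set G) ≤ Subgroup.normalizer (Q : Set G) ∧ Q ≤ E ∧
        E ≤ Subgroup.normalizer (Q : Set G) := by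
    intro E hE
    have h1 : Subgroup.normalizer (E : Set G) ≤ Subgroup.normalizer (Q : Set G) := by
      intro x hx
      rw [Subgroup.mem_normalizer_iff]
      intro q
      rw [← hE]
      refine and_congr (Subgroup.mem_normalizer_iff.1 hx q) ?_
      exact ⟨fun h => ‹N.Normal›.conj_mem q h x,
        fun h => by simpa [mul_assoc] using ‹N.Normal›.conj_mem _ h x⁻¹⟩
    exact ⟨h1, hE ▸ inf_le_left, Subgroup.le_normalizer.trans h1⟩
  obtain ⟨hND, hQD, hDH⟩ := hnorm hDN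
  obtain ⟨c, ⟨hc, hcD, hco⟩, huniq⟩ := (Cfsg.Agent.S4670.result p M hM D _
    (H20.IsDefectGroup.isPGroup hD) hND).1 B hB hD
  have hcB : IsInducedBlock M (Subgroup.normalizer (Q : Set G)) c B :=
    H11.BC.induced_of_Br_eq hM hQ hQC le_rfl hQD hDH hc hcD hB ((H23.Br_eq_iff hB hc).1 hco)
  refine ⟨c, ⟨⟨hc, (H11.BC.covers_iff_of_induced hM hQ hQN hd hdQ he heQ hed hcB).1 hcov⟩, hcB⟩, ?_⟩
  rintro c' ⟨⟨hc', -⟩, hc'B⟩
  obtain ⟨D', hD'⟩ := H20.exists_defectGroup hM hc'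
  obtain ⟨E, hE, hDE⟩ := H20.inducedBlock_defectGroup_le hM _ hc'B hD'
  obtain ⟨g, hg⟩ := H20.defectGroup_conj hM hB hD hE
  set D₁ := D'.map (Subgroup.normalizer (Q : Set G)).subtype with hD₁
  have hD₁H : D₁ ≤ Subgroup.normalizer (Q : Set G) := Subgroup.map_subtype_le _
  have hD₁' : IsDefectGroup p M c' (D₁.subgroupOf (Subgroup.normalizer (Q : Set G))) := by
    rwa [hD₁, Subgroup.subgroupOf,
      Subgroup.comap_map_eq_self_of_injective (Subgroup.subtype_injective _)]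
  have hQD₁ : Q ≤ D₁ := by
    haveI : (Q.subgroupOf (Subgroup.normalizer (Q : Set G))).Normal :=
      Subgroup.normal_subgroupOf_of_le_normalizer le_rfl
    have hp' : IsPGroup p (Q.subgroupOf (Subgroup.normalizer (Q : Set G))) :=
      hQ.comap_of_injective (Subgroup.subtype _) (Subgroup.subtype_injective _)
    intro q hq
    exact ⟨⟨q, Subgroup.le_normalizer hq⟩, H20.normal_le_defectGroup hM hc' hp' hD' hq, rfl⟩
  -- the intersection with `N`
  have hgQ : cjS g Q = E ⊓ N := by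
    rw [← hg, ← hDN]
    show cjS g (D ⊓ N) = cjS g D ⊓ N
    rw [cjS_inf, cjS_normal N]
  have hD₁N : D₁ ⊓ N = Q := by
    refine (Subgroup.eq_of_le_of_card_ge (le_inf hQD₁ hQN) ?_).symm
    rw [← card_cjS g Q, hgQ]
    exact Subgroup.card_le_of_le (inf_le_inf_right N hDE)
  obtain ⟨hND₁, -, -⟩ := hnorm hD₁N
  obtain ⟨B₀, ⟨hB₀, hB₀D, hco₀⟩, -⟩ := (Cfsg.Agent.S4670.result p M hM D₁ _
    ((H20.IsDefectGroup.isPGroup hD').map _) hND₁).2 c' hc' hD₁'
  have hB₀B : B₀ = B := H21.isInducedBlock_unique (H11.BC.induced_of_Br_eq hM hQ hQC le_rfl hQD₁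
    hD₁H hc' hD₁' hB₀ ((H23.Br_eq_iff hB₀ hc').1 hco₀)) hc'B
  obtain ⟨x, hx⟩ := H20.defectGroup_conj hM hB hD (hB₀B ▸ hB₀D)
  have hxH : x ∈ Subgroup.normalizer (Q : Set G) := by
    have h1 : cjS x Q = Q := by
      calc cjS x Q = cjS x (D ⊓ N) := by rw [hDN]
        _ = D₁ ⊓ N := by
          rw [cjS_inf, cjS_normal N]
          show H20.conjSub x D ⊓ N = _
          rw [hx]
        _ = Q := hD₁N
    rw [Subgroup.mem_normalizer_iff]
    intro q
    constructor
    · intro h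
      rw [← h1, mem_cjS]
      simpa [mul_assoc] using h
    · intro h
      rw [← h1, mem_cjS] at h
      simpa [mul_assoc] using h
  have hc'D : IsDefectGroup p M c' (D.subgroupOf (Subgroup.normalizer (Q : Set G))) := by
    have h := H20.isDefectGroup_conj hM hc' hD₁'
      (⟨x, hxH⟩⁻¹ : Subgroup.normalizer (Q : Set G))
    convert h using 1
    ext y
    rw [Subgroup.mem_subgroupOf, H20.mem_conjSub_iff, Subgroup.mem_subgroupOf, ← hx,
      H20.mem_conjSub_iff]
    simp [mul_assoc]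
  obtain ⟨B₁, ⟨hB₁, -, hco₁⟩, -⟩ := (Cfsg.Agent.S4670.result p M hM D _
    (H20.IsDefectGroup.isPGroup hD) hND).2 c' hc' hc'D
  have hB₁B : B₁ = B := H21.isInducedBlock_unique (H11.BC.induced_of_Br_eq hM hQ hQC le_rfl hQD
    hDH hc' hc'D hB₁ ((H23.Br_eq_iff hB₁ hc').1 hco₁)) hc'B
  exact huniq c' ⟨hc', hc'D, hB₁B ▸ hco₁⟩

end Cfsg.Agent.S4674
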