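import Cfsg.Statements.S4678
import Cfsg.Agent.H23.LocalBlock
-- import your own Cfsg.Agent.* helpers here

set_option autoImplicit false
open Cfsg

open H23

namespace Cfsg.Agent.S4678

/-- Fix a prime p and a maximal ideal M of the algebraic integers containing p, a p-block B of the finite group G with maximal Brauer pair (P, e), its fusion system F on P, and a Brauer pair (Q, f) ≤ (P, e). Then Q is fully centralized in F if and only if C_P(Q) is a defect group of f as a block of C_G(Q). -/
theorem result {G : Type*} [Group G] [Fintype G] (p : ℕ) [Fact p.Prime] (M : Ideal Cfsg.AlgInt) (hM : Cfsg.IsPModular p M) (B : Set (Cfsg.IrrCharacter G)) (P : Subgroup G) (e : Set (Cfsg.IrrCharacter (Subgroup.centralizer (P : Set G)))) (hmax : Cfsg.IsMaximalBrauerPair p M B P e) (F : Cfsg.FusionSystem P) (hF : Cfsg.IsBlockFusionSystemOn p M B P e F) (Q : Subgroup G) (f : Set (Cfsg.IrrCharacter (Subgroup.centralizer (Q : Set G)))) (hQP : Q ≤ P) (hf : Cfsg.IsPBlock M f) (hle : Cfsg.SubpairLE p M Q f P e)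 : F.IsFullyCentralized Q ↔ Cfsg.IsDefectGroup p M f ((P ⊓ Subgroup.centralizer (Q : Set G)).subgroupOf (Subgroup.centralizer (Q : Set G))) := by
  haveI := hM.2.1.isPrime
  haveI := H20.k_charP (p := p) hM
  haveI := H23.isAlgClosed_k hM.2.1
  haveI := Fintype.ofFinite (Subgroup.centralizer (Q : Set G))
  have hB := hmax.1.2.1
  have he : Cfsg.IsBrauerPair p M P e := hmax.1.1
  obtain ⟨-, hle'⟩ := H23.subpairLE_le hle he.2
  have hfp := Le.pair_left p hle' (H23.isPair_of he)
  obtain ⟨R, h, hl⟩ := H23.exists_locMax p hfp le_sup_left le_sup_right (H23.withCent_le_stab p hfp)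
  have hD := H23.isDefectGroup_cent hM hl hf rfl
  obtain ⟨x, hx, heq⟩ := hl.exists_conj_inf_cent p (H23.isBlk_eB hB) (H23.isMax_of hmax) hle'
  constructor
  · rintro ⟨-, hfc⟩
    obtain ⟨c, hc, hc'⟩ := hl.inf_cent_le p (H23.isPair_of he) (y := 1)
      (by rwa [cjS_one, cj_one])
    rw [inv_one, cjS_one] at hc'
    have := hfc _ ((H23.fusion_isConj_iff hF hle _).2 ⟨x, rfl, hx⟩)
    unfold Cfsg.FusionSystem.centralizerIn at this
    rw [heq, card_cjS] at this
    exact H23.isDefectGroup_subgroupOf_of_conj hM hf hD inf_le_right hc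
      (Subgroup.eq_of_le_of_card_ge hc' (by rwa [card_cjS]))
  · intro hdef
    refine ⟨hQP, fun Q' hQ' => ?_⟩
    obtain ⟨y, rfl, hy⟩ := (H23.fusion_isConj_iff hF hle _).1 hQ'
    exact (hl.card_inf_cent_le p (H23.isPair_of he) hy).trans_eq
      (H23.card_eq_of_isDefectGroup hM hf inf_le_right inf_le_right hdef hD)

end Cfsg.Agent.S4678
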