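import Cfsg.Statements.S4679
import Cfsg.Agent.H23.LocalBlock
-- import your own Cfsg.Agent.* helpers here

set_option autoImplicit false
open Cfsg

open H23

namespace Cfsg.Agent.S4679

/-- Fix a prime p and a maximal ideal M of the algebraic integers containing p, a p-block B of the finite group G with maximal Brauer pair (P, e), its fusion system F on P, a Brauer pair (Q, f) ≤ (P, e), and let T be the stabilizer of f in N_G(Q). Then Q is fully normalized in F if and only if N_P(Q) is a defect group of the block of T whose idempotent is that of f. -/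
theorem result {G : Type*} [Group G] [Fintype G] (p : ℕ) [Fact p.Prime] (M : Ideal Cfsg.AlgInt) (hM : Cfsg.IsPModular p M) (B : Set (Cfsg.IrrCharacter G)) (P : Subgroup G) (e : Set (Cfsg.IrrCharacter (Subgroup.centralizer (P : Set G)))) (hmax : Cfsg.IsMaximalBrauerPair p M B P e) (F : Cfsg.FusionSystem P) (hF : Cfsg.IsBlockFusionSystemOn p M B P e F) (Q : Subgroup G) (f : Set (Cfsg.IrrCharacter (Subgroup.centralizer (Q : Set G)))) (hQP : Q ≤ P) (hf : Cfsg.IsPBlock M f) (hle : Cfsg.SubpairLE p M Q f P e) (T : Subgroup G) (hT : ∀ y : G, y ∈ T ↔ y ∈ Subgroup.normalizer (Q : Set G) ∧ Cfsg.StabilizesBlock (Subgroup.centralizer (Q : Set G)) f y) : F.IsFullyNormalized Q ↔ ∃ F' : Set (Cfsg.IrrCharacter T), Cfsg.IsPBlock M F' ∧ (∀ t : T, Cfsg.blockCoeff F' t = Cfsg.subgroupBlockCoeff (Subgroup.centralizer (Q : Set G)) f (t : G)) ∧ Cfsg.IsDefectGroup p M F' ((P ⊓ Subgroup.normalizer (Q : Set G)).subgroupOf T) := by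
  haveI := hM.2.1.isPrime
  haveI := H20.k_charP (p := p) hM
  haveI := H23.isAlgClosed_k hM.2.1
  have hB := hmax.1.2.1
  have he : Cfsg.IsBrauerPair p M P e := hmax.1.1
  have hfb : Cfsg.IsBrauerPair p M Q f := ⟨he.1.to_le hQP, hf⟩
  obtain ⟨-, hle'⟩ := H23.subpairLE_le hle he.2
  have hfp := H23.isPair_of hfb
  have hTs := H23.eq_stab (M := M) hf hT
  subst hTs
  obtain ⟨R, h, hl⟩ := H23.exists_locMax p hfp (le_stab p hfp) (centralizer_le_stab p hfp) le_rfl
  obtain ⟨x, hx, heq⟩ := hl.exists_conj_inf p (H23.isBlk_eB hB) (H23.isMax_of hmax) hle'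
  have hN : ∀ (y : G), Le p (cjS y Q, H23.cj y (eG M (Subgroup.centralizer (Q : Set G)) f))
      (P, eG M (Subgroup.centralizer (P : Set G)) e) →
      P ⊓ cjS y (stab Q (eG M (Subgroup.centralizer (Q : Set G)) f)) =
        P ⊓ Subgroup.normalizer (cjS y Q : Set G) := fun y hy => by
    rw [cjS_stab, inf_stab_eq p hy (H23.isPair_of he)]
  have hN1 := inf_stab_eq p hle' (H23.isPair_of he)
  constructor
  · rintro ⟨-, hfn⟩
    obtain ⟨F', hF', hFw, hFc⟩ :=
      H23.exists_stabBlock hfb (le_stab p hfp) (centralizer_le_stab p hfp) le_rfl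
    refine ⟨F', hF', hFc, ?_⟩
    obtain ⟨t, ht, hle2⟩ := hl.inf_le p (H23.isPair_of he) hle'
    have := hfn _ ((H23.fusion_isConj_iff hF hle _).2 ⟨x, rfl, hx⟩)
    unfold Cfsg.FusionSystem.normalizerIn at this
    rw [← hN x hx, heq, card_cjS, ← hN1] at this
    rw [← hN1]
    exact H23.isDefectGroup_subgroupOf_of_conj hM hF' (H23.isDefectGroup_locMax hM hl hF' hFw)
      hl.max.2.1 ht (Subgroup.eq_of_le_of_card_ge hle2 (by rwa [card_cjS]))
  · rintro ⟨F', hF', hFc, hdef⟩
    refine ⟨hQP, fun Q' hQ' => ?_⟩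
    obtain ⟨y, rfl, hy⟩ := (H23.fusion_isConj_iff hF hle _).1 hQ'
    unfold Cfsg.FusionSystem.normalizerIn
    rw [← hN y hy]
    rw [← hN1] at hdef ⊢
    refine (hl.card_inf_le p (H23.isPair_of he) hy).trans_eq ?_
    exact H23.card_eq_of_isDefectGroup hM hF' inf_le_right hl.max.2.1 hdef
      (H23.isDefectGroup_locMax hM hl hF'
        (H23.eG_eq_of_coeff (centralizer_le_stab p hfp) hFc))

end Cfsg.Agent.S4679
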