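import Cfsg.Statements.S4680
import Cfsg.Agent.H23.LocalBlock
-- import your own Cfsg.Agent.* helpers here

set_option autoImplicit false
open Cfsg

open H23

namespace Cfsg.Agent.S4680

/-- Fix a prime p and a maximal ideal M of the algebraic integers containing p, a p-block B of the finite group G with maximal Brauer pair (P, e), its fusion system F on P, and a Brauer pair (Q, f) ≤ (P, e). Then Q is centric in F if and only if Z(Q) is a defect group of f as a block of C_G(Q). -/
theorem result {G : Type*} [Group G] [Fintype G] (p : ℕ) [Fact p.Prime] (M : Ideal Cfsg.AlgInt) (hM : Cfsg.IsPModular p M) (B : Set (Cfsg.IrrCharacter G)) (P : Subgroup G) (e : Set (Cfsg.IrrCharacter (Subgroup.centralizer (P : Set G)))) (hmax : Cfsg.IsMaximalBrauerPair p M B P e) (F : Cfsg.FusionSystem P) (hF : Cfsg.IsBlockFusionSystemOn p M B P e F) (Q : Subgroup G) (f : Set (Cfsg.IrrCharacter (Subgroup.centralizer (Q : Set G)))) (hQP : Q ≤ P) (hf : Cfsg.IsPBlock M f) (hle : Cfsg.SubpairLE p M Q f P e) : F.IsCentric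 Q ↔ Cfsg.IsDefectGroup p M f ((Q ⊓ Subgroup.centralizer (Q : Set G)).subgroupOf (Subgroup.centralizer (Q : Set G))) := by
  haveI := hM.2.1.isPrime
  haveI := H20.k_charP (p := p) hM
  haveI := H23.isAlgClosed_k hM.2.1
  haveI := Fintype.ofFinite (Subgroup.centralizer (Q : Set G))
  have hB := hmax.1.2.1
  have he : Cfsg.IsBrauerPair p M P e := hmax.1.1
  obtain ⟨-, hle'⟩ := H23.subpairLE_le hle he.2
  have hfp := Le.pair_left p hle' (H23.isPair_of he)
  obtain ⟨R, h, hl⟩ := H23.exists_locMax p hfp le_sup_left le_sup_right (H23.withCent_le_stab p hfp)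
  have hD := H23.isDefectGroup_cent hM hl hf rfl
  obtain ⟨x, hx, heq⟩ := hl.exists_conj_inf_cent p (H23.isBlk_eB hB) (H23.isMax_of hmax) hle'
  have hQR : Q ⊓ Subgroup.centralizer (Q : Set G) ≤ R ⊓ Subgroup.centralizer (Q : Set G) :=
    inf_le_inf_right _ (hl.le_sub p)
  constructor
  · rintro ⟨-, hcen⟩
    have h1 := hcen _ ((H23.fusion_isConj_iff hF hle _).2 ⟨x, rfl, hx⟩)
    unfold Cfsg.FusionSystem.centralizerIn at h1
    rw [heq] at h1
    have h2 : R ⊓ Subgroup.centralizer (Q : Set G) ≤ Q := by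
      have := cjS_mono x⁻¹ h1
      rwa [cjS_cjS, cjS_cjS, inv_mul_cancel, cjS_one, cjS_one] at this
    rwa [le_antisymm (le_inf h2 inf_le_right) hQR] at hD
  · intro hdef
    refine ⟨hQP, fun Q' hQ' => ?_⟩
    obtain ⟨y, rfl, hy⟩ := (H23.fusion_isConj_iff hF hle _).1 hQ'
    have h1 : Nat.card (P ⊓ Subgroup.centralizer (cjS y Q : Set G) : Subgroup G) ≤
        Nat.card (cjS y (Q ⊓ Subgroup.centralizer (Q : Set G))) := by
      rw [card_cjS]
      exact (hl.card_inf_cent_le p (H23.isPair_of he) hy).trans_eq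
        (H23.card_eq_of_isDefectGroup hM hf inf_le_right inf_le_right hdef hD)
    have h2 : cjS y (Q ⊓ Subgroup.centralizer (Q : Set G)) ≤
        P ⊓ Subgroup.centralizer (cjS y Q : Set G) := by
      rw [cjS_inf, cjS_centralizer]
      exact inf_le_inf_right _ (hy.le p)
    unfold Cfsg.FusionSystem.centralizerIn
    rw [← Subgroup.eq_of_le_of_card_ge h2 h1]
    exact cjS_mono y inf_le_left

end Cfsg.Agent.S4680
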