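import Cfsg.Statements.S4681
import Cfsg.Agent.H23.Nilpotent
-- import your own Cfsg.Agent.* helpers here

set_option autoImplicit false
open Cfsg

open H23

namespace Cfsg.Agent.S4681

/-- Fix a prime p and a maximal ideal M of the algebraic integers containing p. Let B₀ be the principal p-block of the finite group G, P a Sylow p-subgroup and e₀ the principal p-block of C_G(P). Then (P, e₀) is a maximal Brauer pair of B₀, and the fusion system of B₀ on (P, e₀) is the fusion system of G on P: its maps from each subgroup of P are exactly the conjugation maps into P by elements of G. -/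
theorem result {G : Type*} [Group G] [Fintype G] (p : ℕ) [Fact p.Prime] (M : Ideal Cfsg.AlgInt) (hM : Cfsg.IsPModular p M) (S : Sylow p G) : Cfsg.IsMaximalBrauerPair p M (Cfsg.principalBlock M G) (S : Subgroup G) (Cfsg.principalBlock M (Subgroup.centralizer ((S : Subgroup G) : Set G))) ∧ ∀ F : Cfsg.FusionSystem (S : Subgroup G), Cfsg.IsBlockFusionSystemOn p M (Cfsg.principalBlock M G) (S : Subgroup G) (Cfsg.principalBlock M (Subgroup.centralizer ((S : Subgroup G) : Set G))) F → ∀ Q : Subgroup G, F.Hom Q = (Cfsg.groupFusionSystem (S : Subgroup G)).Hom Q := by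
  haveI := hM.2.1.isPrime
  haveI := H20.k_charP (p := p) hM
  haveI := H23.isAlgClosed_k hM.2.1
  haveI := Fintype.ofFinite (Subgroup.centralizer ((S : Subgroup G) : Set G))
  have hB : Cfsg.IsPBlock M (Cfsg.principalBlock M G) := H20.isPBlock_principalBlock
  have he0 : Cfsg.IsBrauerPair p M (S : Subgroup G)
      (Cfsg.principalBlock M (Subgroup.centralizer ((S : Subgroup G) : Set G))) :=
    ⟨S.2, H20.isPBlock_principalBlock⟩
  have haug := aug_eG_principal (M := M) (Subgroup.centralizer ((S : Subgroup G) : Set G))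
  have hP : IsMax p (eB M (Cfsg.principalBlock M G)) (S : Subgroup G)
      (eG M (Subgroup.centralizer ((S : Subgroup G) : Set G))
        (Cfsg.principalBlock M (Subgroup.centralizer ((S : Subgroup G) : Set G)))) :=
    ⟨isPair_of he0, inBlk_principal p (isBlk_eB hB) aug_eB_principal (isPair_of he0) haug,
      fun R g hg _ hle => S.3 hg.1 (hle.le p)⟩
  refine ⟨isMaximalBrauerPair_of hB he0 hP, fun F hF Q => ?_⟩
  ext φ
  rw [hom_eq_pairHom hF]
  constructor
  · rintro ⟨hQ, g, hg, f, -, hgf⟩
    exact ⟨hQ, fun x => by rw [hg]; exact hgf.le p ⟨x, x.2, rfl⟩, g, hg⟩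
  · rintro ⟨hQ, hval, g, hg⟩
    obtain ⟨f, hf⟩ := exists_le p hP.1 hQ
    have hgQ : cjS g Q ≤ (S : Subgroup G) := by
      rw [← range_eq_cjS hg]
      rintro _ ⟨u, rfl⟩
      exact hval u
    obtain ⟨f', hf'⟩ := exists_le p hP.1 hgQ
    refine ⟨hQ, g, hg, f, hf, ?_⟩
    have heq : f' = H23.cj g f := by
      refine principal_unique (hf'.pair_left p hP.1).2 (pair_cj p (hf.pair_left p hP.1) g).2
        (hf'.aug_eq_one p haug) ?_
      rw [aug_cj]
      exact hf.aug_eq_one p haug
    exact heq ▸ hf'

end Cfsg.Agent.S4681
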