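import Cfsg.Statements.S4682
import Cfsg.Agent.H23.Nilpotent
-- import your own Cfsg.Agent.* helpers here

set_option autoImplicit false
open Cfsg

open H23

namespace Cfsg.Agent.S4682

/-- Fix a prime p and a maximal ideal M of the algebraic integers containing p, a p-block B of the finite group G with maximal Brauer pair (P, e), P abelian, and a Brauer pair (Q, f) ≤ (P, e). Let T_Q be the stabilizer of f in N_G(Q) and T_P the stabilizer of e in N_G(P). Then every element of T_Q is a product of an element of T_P and an element of C_G(Q); and the index of C_G(Q) in T_Q equals the index of T_P ∩ C_G(Q) in T_P ∩ N_G(Q). -/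
theorem result {G : Type*} [Group G] [Fintype G] (p : ℕ) [Fact p.Prime] (M : Ideal Cfsg.AlgInt) (hM : Cfsg.IsPModular p M) (B : Set (Cfsg.IrrCharacter G)) (P : Subgroup G) (e : Set (Cfsg.IrrCharacter (Subgroup.centralizer (P : Set G)))) (hmax : Cfsg.IsMaximalBrauerPair p M B P e) (hab : ∀ x ∈ P, ∀ y ∈ P, x * y = y * x) (Q : Subgroup G) (f : Set (Cfsg.IrrCharacter (Subgroup.centralizer (Q : Set G)))) (hQP : Q ≤ P) (hf : Cfsg.IsPBlock M f) (hle : Cfsg.SubpairLE p M Q f P e) (TQ : Subgroup G) (hTQ : ∀ y : G, y ∈ TQ ↔ y ∈ Subgroup.normalizer (Q : Set G) ∧ Cfsg.StabilizesBlock (Subgroup.centralizer (Q : Set G)) f y) (TP : Subgroup G) (hTP : ∀ y : G, y ∈ TP ↔ y ∈ Subgroup.normalizer (P : Set G) ∧ Cfsg.StabilizesBlock (Subgroup.centralizer (P : Set G)) e y) : (∀ x ∈ TQ, ∃ y ∈ TP, ∃ c ∈ Subgroup.centralizer (Q : Set G), x = y * c) ∧ ((Subgroup.centralizer (Q : Set G)).subgroupOf TQ).index = ((TP ⊓ Subgroup.centralizer (Q : Set G)).subgroupOf (TP ⊓ Subgroup.normalizer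 (Q : Set G))).index := by
  haveI := hM.2.1.isPrime
  haveI := H20.k_charP (p := p) hM
  haveI := H23.isAlgClosed_k hM.2.1
  have hB := hmax.1.2.1
  have hP := H23.isMax_of (M := M) hmax
  have he : Cfsg.IsBrauerPair p M P e := hmax.1.1
  obtain ⟨-, hle'⟩ := H23.subpairLE_le hle he.2
  have hTQs := H23.eq_stab (M := M) hf hTQ
  have hTPs := H23.eq_stab (M := M) he.2 hTP
  subst hTQs hTPs
  have hdec : ∀ x ∈ stab Q (eG M (Subgroup.centralizer (Q : Set G)) f),
      ∃ y ∈ stab P (eG M (Subgroup.centralizer (P : Set G)) e),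
        y ∈ Subgroup.normalizer (Q : Set G) ∧ y⁻¹ * x ∈ Subgroup.centralizer (Q : Set G) :=
    fun x hx => H23.stab_decomp (H23.isBlk_eB hB) hP hab hle' hx
  refine ⟨fun x hx => ?_, ?_⟩
  · obtain ⟨y, hy, -, hyx⟩ := hdec x hx
    exact ⟨y, hy, _, hyx, by rw [mul_inv_cancel_left]⟩
  set TQ := stab Q (eG M (Subgroup.centralizer (Q : Set G)) f) with hTQd
  set A := stab P (eG M (Subgroup.centralizer (P : Set G)) e) ⊓
    Subgroup.normalizer (Q : Set G) with hA
  have hAT : A ≤ TQ := fun y hy => ⟨hy.2, le_unique p hP.1 (by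
    have := hle'.cj p y
    rwa [cjS_eq_self hy.2, cjS_eq_self hy.1.1, hy.1.2] at this) hle'⟩
  have hTN : TQ ≤ Subgroup.normalizer (Q : Set G) := fun x hx => hx.1
  haveI : ((Subgroup.centralizer (Q : Set G)).subgroupOf TQ).Normal := by
    rw [Subgroup.normal_subgroupOf_iff_le_normalizer
      (centralizer_le_stab p (hle'.pair_left p hP.1))]
    exact fun x hx => mem_normalizer_of_cjS_eq (cjS_normalizer_centralizer le_rfl (hTN hx))
  let π : A →* TQ ⧸ (Subgroup.centralizer (Q : Set G)).subgroupOf TQ :=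
    (QuotientGroup.mk' _).comp (Subgroup.inclusion hAT)
  have hπ : Function.Surjective π := by
    intro z
    obtain ⟨⟨x, hx⟩, rfl⟩ := QuotientGroup.mk'_surjective _ z
    obtain ⟨y, hy, hyn, hyx⟩ := hdec x hx
    refine ⟨⟨y, hy, hyn⟩, ?_⟩
    show QuotientGroup.mk (Subgroup.inclusion _ _) = QuotientGroup.mk _
    rw [QuotientGroup.eq, Subgroup.mem_subgroupOf]
    exact hyx
  have hker : π.ker = (stab P (eG M (Subgroup.centralizer (P : Set G)) e) ⊓
      Subgroup.centralizer (Q : Set G)).subgroupOf A := by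
    ext y
    rw [MonoidHom.mem_ker, Subgroup.mem_subgroupOf]
    show QuotientGroup.mk (Subgroup.inclusion hAT y) = 1 ↔ _
    rw [QuotientGroup.eq_one_iff, Subgroup.mem_subgroupOf]
    exact ⟨fun h => ⟨y.2.1, h⟩, fun h => h.2⟩
  rw [← hker, Subgroup.index_ker, MonoidHom.range_eq_top.2 hπ, Subgroup.card_top]
  rfl

end Cfsg.Agent.S4682
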