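import Cfsg.Statements.S4683
import Cfsg.Agent.H19.SubsectionNorm
-- import your own Cfsg.Agent.* helpers here

set_option autoImplicit false
open Cfsg

namespace Cfsg.Agent.S4683

/-- Fix a prime p and a maximal ideal M of the algebraic integers containing p, a p-block B of the finite group G, a p-element u and a p-block e of C = C_G(u) such that (⟨u⟩, e) is a Brauer pair of B (a Brauer element of B). For χ ∈ B let χ_u be the e-part of the class function c ↦ χ(u c) on C and χ_u' the e-part of c ↦ χ(u⁻¹ c). Then the sum over χ ∈ B and over the p-regular elements s of C of χ_u(s)·χ_u'(s⁻¹) equals the order of C times the p-regular rank of e (the number of irreducible Brauer characters of e). -/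
theorem result {G : Type*} [Group G] [Fintype G] (p : ℕ) [Fact p.Prime] (M : Ideal Cfsg.AlgInt) (hM : Cfsg.IsPModular p M) (B : Set (Cfsg.IrrCharacter G)) (u : G) (hu : ∃ k : ℕ, orderOf u = p ^ k) (e : Set (Cfsg.IrrCharacter (Subgroup.centralizer (Subgroup.zpowers u : Set G)))) (hBe : Cfsg.IsBrauerPairOf p M B (Subgroup.zpowers u) e) : ∑ᶠ χ ∈ B, ∑ᶠ s : Subgroup.centralizer (Subgroup.zpowers u : Set G), Cfsg.pRegularPart p (Cfsg.blockPart e (fun c : Subgroup.centralizer (Subgroup.zpowers u : Set G) => (χ : G → ℂ) (u * c))) s * Cfsg.blockPart e (fun c : Subgroup.centralizer (Subgroup.zpowers u : Set G) => (χ : G → ℂ) (u⁻¹ * c)) s⁻¹ = (Nat.card (Subgroup.centralizer (Subgroup.zpowers u : Set G)) : ℂ) * (Cfsg.blockRank p e : ℂ) := by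
  classical
  haveI : M.IsPrime := hM.2.1.isPrime
  haveI := Fintype.ofFinite (Subgroup.centralizer (Subgroup.zpowers u : Set G))
  have hQ : Subgroup.centralizer (Subgroup.zpowers u : Set G) = Subgroup.centralizer ({u} : Set G) := by
    rw [Subgroup.zpowers_eq_closure, Subgroup.centralizer_closure]
  have hind := H19.SubNorm.induced_of_brauerPairOf hM hu hQ hBe
  have key : ∀ (C : Subgroup G), C = Subgroup.centralizer ({u} : Set G) → ∀ (_ : Fintype C)
      (b : Set (Cfsg.IrrCharacter C)), Cfsg.IsInducedBlock M C b B →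
      ∑ᶠ χ ∈ B, ∑ᶠ s : C, Cfsg.pRegularPart p (Cfsg.blockPart b (fun c : C => (χ : G → ℂ) (u * c))) s *
        Cfsg.blockPart b (fun c : C => (χ : G → ℂ) (u⁻¹ * c)) s⁻¹ =
        (Nat.card C : ℂ) * (Cfsg.blockRank p b : ℂ) := by
    intro C hC
    subst hC
    intro _ b hb
    rw [← H19.SubNorm.sum_subsection_norm hM hBe.2.1 hu hb,
      finsum_mem_eq_finite_toFinset_sum _ (Set.toFinite B)]
    refine Finset.sum_congr (by ext χ; simp [H22.mem_blockFinset]) fun χ _ => ?_
    rw [finsum_eq_sum_of_fintype]
  exact key _ hQ inferInstance e hind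


end Cfsg.Agent.S4683
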