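import Cfsg.Statements.S4687
import Cfsg.Agent.H23.Nilpotent
-- import your own Cfsg.Agent.* helpers here

set_option autoImplicit false
open Cfsg

open H23

namespace Cfsg.Agent.S4687

/-- Fix a prime p and a maximal ideal M of the algebraic integers containing p, and a p-block B of the finite group G with maximal Brauer pair (P, e), P abelian. Then B is nilpotent if and only if its inertial quotient is trivial: every element of N_G(P) stabilizing e centralizes P. -/
theorem result {G : Type*} [Group G] [Fintype G] (p : ℕ) [Fact p.Prime] (M : Ideal Cfsg.AlgInt) (hM : Cfsg.IsPModular p M) (B : Set (Cfsg.IrrCharacter G)) (P : Subgroup G) (e : Set (Cfsg.IrrCharacter (Subgroup.centralizer (P : Set G)))) (hmax : Cfsg.IsMaximalBrauerPair p M B P e) (hab : ∀ x ∈ P, ∀ y ∈ P, x * y = y * x) : Cfsg.IsNilpotentBlock p M B ↔ ∀ x : G, x ∈ Subgroup.normalizer (P : Set G) → Cfsg.StabilizesBlock (Subgroup.centralizer (P : Set G)) e x → x ∈ Subgroup.centralizer (P : Set G) := by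
  haveI := hM.2.1.isPrime
  haveI := H20.k_charP (p := p) hM
  haveI := H23.isAlgClosed_k hM.2.1
  have hB := hmax.1.2.1
  have hP := H23.isMax_of (M := M) hmax
  have he : Cfsg.IsBrauerPair p M P e := hmax.1.1
  have hst : ∀ x : G, x ∈ stab P (eG M (Subgroup.centralizer (P : Set G)) e) ↔
      (x ∈ Subgroup.normalizer (P : Set G) ∧
        Cfsg.StabilizesBlock (Subgroup.centralizer (P : Set G)) e x) := fun x => by
    rw [mem_stab, stabilizesBlock_iff he.2]
    exact and_congr_right fun hx =>
      (and_iff_right (mem_normalizer_of_cjS_eq (cjS_normalizer_centralizer le_rfl hx))).symm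
  constructor
  · intro hnil x hxn hxs
    have hF := H23.pairFS_isBlockFS hmax
    have hx := (hst x).2 ⟨hxn, hxs⟩
    have h1 : Cfsg.conjHom P x ∈ (H23.pairFS (isPair_of (M := M) he)).Hom P :=
      (H23.hom_iff_of_le hP (H23.hom_eq_pairHom hF) Relation.ReflTransGen.refl _).2
        ⟨x, fun u => rfl, by rw [cjS_eq_self hxn, hx.2]; exact Relation.ReflTransGen.refl⟩
    rw [(H23.isNilpotentBlock_iff_inner hF).1 hnil P] at h1
    obtain ⟨-, u, hu, huy⟩ := h1
    rw [Subgroup.mem_centralizer_iff]
    intro y hy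
    have h2 : x * y * x⁻¹ = u * y * u⁻¹ := huy ⟨y, hy⟩
    rw [hab u hu y hy, mul_inv_cancel_right, mul_inv_eq_iff_eq_mul] at h2
    exact h2.symm
  · intro h
    refine (H23.isNilpotentBlock_iff hmax).2 fun Q f hf x hx _ => ?_
    obtain ⟨y, hy, -, hyx⟩ := H23.stab_decomp (H23.isBlk_eB hB) hP hab hf hx
    obtain ⟨hyn, hys⟩ := (hst y).1 hy
    have hyC := H23.centralizer_anti (hf.le p) (h y hyn hys)
    have := mul_mem hyC hyx
    rwa [mul_inv_cancel_left] at this

end Cfsg.Agent.S4687
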