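import Cfsg.Statements.S4690
import Cfsg.Agent.H19.NilpotentMain

set_option linter.style.haveILetI false
-- import your own Cfsg.Agent.* helpers here

set_option autoImplicit false
open Cfsg

namespace Cfsg.Agent.S4690

/-- Fix a prime p and a maximal ideal M of the algebraic integers containing p, and a nilpotent p-block B of the finite group G with defect group P. Then there is a bijection from B onto the irreducible characters of P carrying the height of each χ ∈ B to the exponent of p in the degree of its image. -/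
theorem result {G : Type*} [Group G] [Fintype G] (p : ℕ) [Fact p.Prime] (M : Ideal Cfsg.AlgInt) (hM : Cfsg.IsPModular p M) (B : Set (Cfsg.IrrCharacter G)) (hnil : Cfsg.IsNilpotentBlock p M B) (P : Subgroup G) (hP : Cfsg.IsDefectGroup p M B P) : ∃ Φ : B ≃ Cfsg.IrrCharacter P, ∀ χ : B, Cfsg.blockHeight p B ((χ : Cfsg.IrrCharacter G) : G → ℂ) = (Cfsg.charDegree ((Φ χ : Cfsg.IrrCharacter P) : P → ℂ)).factorization p := by
  classical
  haveI : M.IsPrime := hM.2.1.isPrime
  haveI := H20.k_charP hM
  haveI := H23.isAlgClosed_k (M := M) hM.2.1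
  obtain ⟨χ, hχ, h0, Ψ, hinj, hmem, hsurj, hreg⟩ := H19.NilpotentMain.exists_param hM hnil hP
  let e : Cfsg.IrrCharacter P ≃ B := Equiv.ofBijective (fun η => ⟨Ψ η, hmem η⟩)
    ⟨fun a b h => hinj (congrArg Subtype.val h), fun ψ => by
      obtain ⟨η, hη⟩ := hsurj ψ.1 ψ.2
      exact ⟨η, Subtype.ext hη⟩⟩
  refine ⟨e.symm, fun ψ => ?_⟩
  obtain ⟨η, rfl⟩ := e.surjective ψ
  rw [Equiv.symm_apply_apply]
  obtain ⟨d, hd, hd0, hdeg, -⟩ := hreg η
  show Cfsg.blockHeight p B (Ψ η : G → ℂ) = _
  have h1 := H22.blockHeight_add_blockExp (p := p) (hmem η)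
  have h2 := H22.blockHeight_add_blockExp (p := p) hχ
  rw [hdeg, Nat.factorization_mul hd0.ne' (H22.charDegree_pos χ).ne', Finsupp.add_apply, ← h2, h0,
    zero_add, add_left_inj] at h1
  rw [h1, hd]


end Cfsg.Agent.S4690
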