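import Cfsg.Statements.S4692
import Cfsg.Agent.H23.PPower
-- import your own Cfsg.Agent.* helpers here

set_option autoImplicit false
open Cfsg

open H23

namespace Cfsg.Agent.S4692

/-- Fix a prime p and a maximal ideal M of the algebraic integers containing p. Let N be a normal subgroup of p-power index in the finite group G and c a p-block of N stable under conjugation by G, and let B be the p-block of G whose idempotent is that of c (it exists and is unique). Then c is nilpotent as a block of N if and only if B is nilpotent as a block of G. -/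
theorem result {G : Type*} [Group G] [Fintype G] (p : ℕ) [Fact p.Prime] (M : Ideal Cfsg.AlgInt) (hM : Cfsg.IsPModular p M) (N : Subgroup G) [N.Normal] (hN : ∃ k : ℕ, N.index = p ^ k) (c : Set (Cfsg.IrrCharacter N)) (hc : Cfsg.IsPBlock M c) (hst : ∀ x : G, Cfsg.StabilizesBlock N c x) (B : Set (Cfsg.IrrCharacter G)) (hB : Cfsg.IsPBlock M B) (hBc : ∀ g : G, Cfsg.blockCoeff B g = Cfsg.subgroupBlockCoeff N c g) : Cfsg.IsNilpotentBlock p M c ↔ Cfsg.IsNilpotentBlock p M B := by
  haveI := hM.2.1.isPrime
  haveI := H20.k_charP (p := p) hM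
  haveI := H23.isAlgClosed_k hM.2.1
  classical
  haveI := Fintype.ofFinite N
  have hE : eG M N c = eB M B := by
    ext g
    rw [coeff_eG]
    show _ = (H20.eRed M B).coeff g
    rw [H20.coeff_eRed, hBc]
  have hresE : ∀ (S : Subgroup G), S ≤ N →
      Br (S.subgroupOf N) (eB M c) = res N (Br S (eB M B)) := by
    intro S hS
    rw [← res_Br hS]
    show Br _ (H20.eRed M c) = _
    rw [← res_eG, hE]
  constructor
  · -- from `N` to `G`
    intro hnil
    refine ⟨hB, fun Q f hQf x hxn hxs hreg => ?_⟩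
    haveI := Fintype.ofFinite (Subgroup.centralizer (Q : Set G))
    have hfp := isPair_of (M := M) hQf.1
    have hfB := (isBrauerPairOf_iff hB hQf.1).1 hQf
    have hxf : cj x (eG M _ f) = eG M _ f := ((stabilizesBlock_iff hQf.1.2 x).1 hxs).2
    set R := Q ⊓ N with hR
    obtain ⟨fR, hfR⟩ := exists_le p hfp (inf_le_left : R ≤ Q)
    have hfRp : IsPair p R fR := hfR.pair_left p hfp
    have hxN : x ∈ N := pRegular_mem hN hreg
    have hxR : cjS x R = R := by
      rw [hR, cjS_inf, cjS_eq_self hxn,
        cjS_eq_self (by rw [Subgroup.normalizer_eq_top (H := N)]; exact Subgroup.mem_top x)]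
    have hxfR : cj x fR = fR := by
      refine le_unique p hfp ?_ hfR
      have h1 := hfR.cj p x
      rwa [hxR, cjS_eq_self hxn, hxf] at h1
    have hBR : InBlk (eB M B) R fR := (Le.inBlk_iff p hfR (cidem_eB hB)).1 hfB
    obtain ⟨g, hg, hgf, hxg⟩ := exists_fixed_below hM hN hfRp.2
      (by rw [cjS_centralizer, hxR]) hreg hxfR
    set K := Subgroup.centralizer (R : Set G) ⊓ N with hK
    have hgp : IsBlk (Subgroup.centralizer ((R.subgroupOf N : Subgroup N) : Set N)) (res N g) := by
      rw [centralizer_subgroupOf inf_le_right]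
      have h1 := isBlk_res (C := N) (inf_le_right : K ≤ N) hg
      rwa [show K.subgroupOf N = (Subgroup.centralizer (R : Set G)).subgroupOf N from
        Subgroup.inf_subgroupOf_right _ _] at h1
    obtain ⟨g', hg'b, hg'⟩ := exists_of_isPair
      (show IsPair p (R.subgroupOf N) (res N g) from ⟨hfRp.1.comap_subtype, hgp⟩)
    have hin : InBlk (eB M c) (R.subgroupOf N) (res N g) := by
      show res N g * Br (R.subgroupOf N) (eB M c) = res N g
      rw [hresE R inf_le_right, ← res_mul (hg.cidem.supp.mono inf_le_right) ?_]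
      · congr 1
        calc g * Br R (eB M B) = g * fR * Br R (eB M B) := by rw [hgf]
          _ = g := by rw [mul_assoc, (hBR : fR * Br R (eB M B) = fR), hgf]
      · intro y hy
        by_cases hyC : y ∈ Subgroup.centralizer (R : Set G)
        · rw [coeff_Br_of_mem _ hyC, ← hE]
          exact supp_eG N c y hy
        · exact coeff_Br_of_notMem _ hyC
    have hxn' : (⟨x, hxN⟩ : N) ∈ Subgroup.normalizer ((R.subgroupOf N : Subgroup N) : Set N) := by
      rw [Subgroup.mem_normalizer_iff]
      intro r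
      exact Subgroup.mem_normalizer_iff.1 (mem_normalizer_of_cjS_eq hxR) r
    have hxs' : Cfsg.StabilizesBlock
        (Subgroup.centralizer ((R.subgroupOf N : Subgroup N) : Set N)) g' ⟨x, hxN⟩ := by
      rw [stabilizesBlock_iff hg'b.2]
      refine ⟨mem_normalizer_of_cjS_eq (cjS_normalizer_centralizer le_rfl hxn'), ?_⟩
      rw [hg']
      ext n
      rw [coeff_cj, coeff_res, coeff_res]
      conv_rhs => rw [← hxg, coeff_cj]
      rfl
    have hxcR := hnil.2 (R.subgroupOf N) g'
      ((isBrauerPairOf_iff hc hg'b).2 (by rw [hg']; exact hin)) ⟨x, hxN⟩ hxn' hxs'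
      (by unfold Cfsg.IsPRegular; rwa [Subgroup.orderOf_mk])
    have hxR' : ∀ r ∈ R, r * x = x * r := fun r hr =>
      congrArg Subtype.val (Subgroup.mem_centralizer_iff.1 hxcR ⟨r, hr.2⟩ hr)
    -- `x` stabilises `1 ≤ R ≤ Q`
    rw [Subgroup.mem_centralizer_iff]
    intro q hq
    set z := x * q * x⁻¹ * q⁻¹ with hz
    have hzR : z ∈ R := by
      refine ⟨Q.mul_mem ((Subgroup.mem_normalizer_iff.1 hxn q).1 hq) (Q.inv_mem hq), ?_⟩
      have := N.mul_mem hxN ((inferInstance : N.Normal).conj_mem _ (N.inv_mem hxN) q)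
      simpa [z, mul_assoc] using this
    have hpow : ∀ n : ℕ, x ^ n * q * (x ^ n)⁻¹ = z ^ n * q := by
      intro n
      induction n with
      | zero => simp
      | succ n ih =>
        have h1 : x * z ^ n = z ^ n * x := (hxR' _ (R.pow_mem hzR n)).symm
        calc x ^ (n + 1) * q * (x ^ (n + 1))⁻¹ = x * (x ^ n * q * (x ^ n)⁻¹) * x⁻¹ := by
              rw [pow_succ']; group
          _ = x * (z ^ n * q) * x⁻¹ := by rw [ih]
          _ = z ^ n * (x * q * x⁻¹) := by rw [← mul_assoc x, h1]; group
          _ = z ^ (n + 1) * q := by rw [pow_succ, hz]; group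
    have hzx : z ^ orderOf x = 1 := by
      have h1 := hpow (orderOf x)
      rw [pow_orderOf_eq_one, one_mul, inv_one, mul_one] at h1
      exact mul_right_cancel (h1.symm.trans (one_mul q).symm)
    obtain ⟨j, hj⟩ := hQf.1.1 ⟨z, hzR.1⟩
    have hzp : z ^ p ^ j = 1 := congrArg Subtype.val hj
    have hz1 : z = 1 := orderOf_eq_one_iff.1 (Nat.eq_one_of_dvd_coprimes
      ((coprime_of_isPRegular hreg).pow_right j)
      (orderOf_dvd_of_pow_eq_one hzx) (orderOf_dvd_of_pow_eq_one hzp))
    rw [hz, mul_inv_eq_one, mul_inv_eq_iff_eq_mul] at hz1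
    exact hz1.symm
  · -- from `G` to `N`
    intro hnil
    refine ⟨hc, fun R g hRg x hxn hxs hreg => ?_⟩
    haveI := Fintype.ofFinite (Subgroup.centralizer (R : Set N))
    set R' := R.map N.subtype with hR'
    have hR'N : R' ≤ N := Subgroup.map_subtype_le R
    have hsub : R'.subgroupOf N = R :=
      Subgroup.comap_map_eq_self_of_injective N.subtype_injective R
    have hgp := isPair_of (M := M) hRg.1
    have hgB := (isBrauerPairOf_iff hc hRg.1).1 hRg
    set g' := emb N (eG M (Subgroup.centralizer (R : Set N)) g) with hg'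
    set C' := Subgroup.centralizer (R' : Set G) with hC'
    have hcent : Subgroup.centralizer (R : Set N) = C'.subgroupOf N := by
      rw [← centralizer_subgroupOf hR'N, hsub]
    have hblk : IsBlk (C' ⊓ N) g' := isBlk_emb hgp.2 fun y => by
      rw [hcent]
      exact ⟨fun hy => ⟨⟨y, hy.2⟩, hy.1, rfl⟩, fun ⟨n, hn, hny⟩ => hny ▸ ⟨hn, n.2⟩⟩
    have hR'p : IsPGroup p R' := hRg.1.1.map _
    obtain ⟨S, hS, hsum⟩ := exists_blocks (K := H20.k M) C'
    obtain ⟨f, hfS, hfg⟩ : ∃ f ∈ S, g' * f ≠ 0 := by
      by_contra h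
      push Not at h
      apply hblk.ne_zero
      rw [← mul_one g', ← hsum, Finset.mul_sum, Finset.sum_eq_zero h]
    have hf := (hS f).1 hfS
    have hgf : g' * f = g' := (hblk.prim f ⟨supp_inf hM hN hf,
      hf.cidem.fix.mono inf_le_left, hf.cidem.idem⟩).resolve_left hfg
    have hxR : cjS (x : G) R' = R' := by
      rw [hR', cjS, Subgroup.map_map]
      conv_rhs => rw [← cjS_eq_self hxn, cjS, Subgroup.map_map]
      rfl
    have hxC : cjS (x : G) C' = C' := by rw [hC', cjS_centralizer, hxR]
    have hxg : cj (x : G) g' = g' := by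
      obtain ⟨-, hxf⟩ := (stabilizesBlock_iff hRg.1.2 x).1 hxs
      ext y
      rw [coeff_cj]
      by_cases hy : y ∈ N
      · rw [hg', show (x : G)⁻¹ * y * x = ((x⁻¹ * ⟨y, hy⟩ * x : N) : G) from rfl, coeff_emb_coe,
          coeff_emb_coe N _ ⟨y, hy⟩, ← coeff_cj, hxf]
      · rw [hg', coeff_emb_of_notMem N _ hy, coeff_emb_of_notMem N _ fun h => hy ?_]
        simpa [mul_assoc] using N.mul_mem (N.mul_mem x.2 h) (N.inv_mem x.2)
    have hxfb : IsBlk C' (cj (x : G) f) := by
      have := hf.cj (x : G)
      rwa [show Subgroup.map _ C' = C' from hxC] at this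
    have hxf : cj (x : G) f = f := hxfb.eq_of_mul_ne_zero hf fun h0 => by
      have h1 : g' * cj (x : G) f = g' := by
        conv_lhs => rw [← hxg, ← map_mul, hgf, hxg]
      apply hblk.ne_zero
      calc g' = g' * cj (x : G) f * f := by rw [h1, hgf]
        _ = 0 := by rw [mul_assoc, h0, mul_zero]
    have hgE : g' * Br R' (eB M B) = g' := by
      have h1 : emb N (Br R (eB M c)) = Br R' (eB M B) := by
        rw [← hsub, hresE R' hR'N]
        refine emb_res fun y hy => ?_
        by_cases hyC : y ∈ Subgroup.centralizer (R' : Set G)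
        · rw [coeff_Br_of_mem _ hyC, ← hE]
          exact supp_eG N c y hy
        · exact coeff_Br_of_notMem _ hyC
      rw [← h1, hg', ← map_mul, (hgB : _ * Br R (eB M c) = _)]
    have hfB : InBlk (eB M B) R' f := (hf.prim _ ((cidem_eB hB).Br hR'p le_top
      ((cidem_eB hB).fix.mono le_top))).resolve_left fun h0 => hblk.ne_zero (by
        rw [← hgE, ← hgf, mul_assoc, h0, mul_zero])
    obtain ⟨f', hf'b, hf'⟩ := exists_of_isPair (show IsPair p R' f from ⟨hR'p, hf⟩)
    have hxR' := mem_normalizer_of_cjS_eq hxR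
    have hxc := hnil.2 R' f' ((isBrauerPairOf_iff hB hf'b).2 (by rw [hf']; exact hfB)) (x : G)
      hxR' ((stabilizesBlock_iff hf'b.2 _).2
        ⟨mem_normalizer_of_cjS_eq hxC, by rw [hf', hxf]⟩)
      (by unfold Cfsg.IsPRegular; rwa [Subgroup.orderOf_coe])
    rw [hcent, Subgroup.mem_subgroupOf]
    exact hxc

end Cfsg.Agent.S4692
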