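import Cfsg.Statements.S4693
import Cfsg.Agent.H23.Nilpotent
-- import your own Cfsg.Agent.* helpers here

set_option autoImplicit false
open Cfsg

open H23

namespace Cfsg.Agent.S4693

/-- Fix a prime p and a maximal ideal M of the algebraic integers containing p, a p-block B of the finite group G with maximal Brauer pair (P, e) and fusion system F on P, and a Brauer pair (Q, f) ≤ (P, e) with Q centric in F. Suppose every element of G normalizes Q and stabilizes f. Then the idempotent of B agrees with that of f modulo M at every element of G, and f is the idempotent of a nilpotent block of Q·C_G(Q): some p-block of Q·C_G(Q) has the idempotent coefficients of f and is nilpotent. -/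
theorem result {G : Type*} [Group G] [Fintype G] (p : ℕ) [Fact p.Prime] (M : Ideal Cfsg.AlgInt) (hM : Cfsg.IsPModular p M) (B : Set (Cfsg.IrrCharacter G)) (P : Subgroup G) (e : Set (Cfsg.IrrCharacter (Subgroup.centralizer (P : Set G)))) (hmax : Cfsg.IsMaximalBrauerPair p M B P e) (F : Cfsg.FusionSystem P) (hF : Cfsg.IsBlockFusionSystemOn p M B P e F) (Q : Subgroup G) (f : Set (Cfsg.IrrCharacter (Subgroup.centralizer (Q : Set G)))) (hQP : Q ≤ P) (hf : Cfsg.IsPBlock M f) (hle : Cfsg.SubpairLE p M Q f P e) (hcen : F.IsCentric Q) (hG : ∀ x : G, x ∈ Subgroup.normalizer (Q : Set G) ∧ Cfsg.StabilizesBlock (Subgroup.centralizer (Q : Set G)) f x) : (∀ g : G, Cfsg.MemLocalIdeal M (Cfsg.blockCoeff B g - Cfsg.subgroupBlockCoeff (Subgroup.centralizer (Q : Set G)) f g)) ∧ ∃ F' : Set (Cfsg.IrrCharacter ↥(Q ⊔ Subgroup.centralizer (Q : Set G))), Cfsg.IsPBlock M F' ∧ (∀ t : ↥(Q ⊔ Subgroup.centralizer (Q : Set G)), Cfsg.blockCoeff F' t = Cfsg.subgroupBlockCoeff (Subgroup.centralizer (Q :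 Set G)) f (t : G)) ∧ Cfsg.IsNilpotentBlock p M F' := by
  haveI := hM.2.1.isPrime
  haveI := H20.k_charP (p := p) hM
  haveI := H23.isAlgClosed_k hM.2.1
  classical
  have hB := hmax.1.2.1
  have he : Cfsg.IsBrauerPair p M P e := hmax.1.1
  have hP := H23.isMax_of (M := M) hmax
  have hfb : Cfsg.IsBrauerPair p M Q f := ⟨he.1.to_le hQP, hf⟩
  obtain ⟨-, hle'⟩ := H23.subpairLE_le hle he.2
  have hfp := H23.isPair_of (M := M) hfb
  set w := eG M (Subgroup.centralizer (Q : Set G)) f with hw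
  have htop : ∀ x : G, x ∈ stab Q w := fun x => by
    rw [hw]
    refine ⟨(hG x).1, ?_⟩
    exact ((stabilizesBlock_iff hf x).1 (hG x).2).2
  have hblk : IsBlk ⊤ w := isBlk_stab p hfp le_top le_top fun x _ => htop x
  have hin : InBlk (eB M B) Q w := (Le.inBlk_iff p hle' (cidem_eB hB)).1 hP.2.1
  have heq : w = eB M B := hblk.eq_of_mul_ne_zero (isBlk_eB hB) fun h0 => hfp.2.ne_zero (by
    have h1 := Br_mul hfp.1 (hblk.cidem.fix.mono le_top) ((cidem_eB hB).fix.mono le_top)
    rw [h0, Br_zero, Br_eq_self hfp.2.cidem.supp, (hin : w * Br Q (eB M B) = w)] at h1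
    exact h1.symm)
  refine ⟨fun g => ?_, ?_⟩
  · haveI := Fintype.ofFinite (Subgroup.centralizer (Q : Set G))
    rw [← H20.redC_eq_iff (H20.memRing_blockCoeff hB g) (memRing_subgroupBlockCoeff hf g),
      ← coeff_eG, ← H20.coeff_eRed]
    show (eB M B).coeff g = _
    rw [← heq, hw]
  · set T := Q ⊔ Subgroup.centralizer (Q : Set G) with hTdef
    haveI := Fintype.ofFinite T
    obtain ⟨F', hF', hFw, hFc⟩ :=
      exists_stabBlock hfb le_sup_left le_sup_right (withCent_le_stab p hfp)
    obtain ⟨R0, h0, hl⟩ := exists_locMax p hfp le_sup_left le_sup_right (withCent_le_stab p hfp)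
    have hmul : ∀ {t : G}, t ∈ T → ∃ q ∈ Q, ∃ c ∈ Subgroup.centralizer (Q : Set G), q * c = t := by
      intro t ht
      have h1 : t ∈ (↑(Q ⊔ Subgroup.centralizer (Q : Set G)) : Set G) := ht
      rw [Subgroup.coe_mul_of_left_le_normalizer_right Q (Subgroup.centralizer (Q : Set G))
        fun q hq => mem_normalizer_of_cjS_eq
          (cjS_normalizer_centralizer le_rfl (Subgroup.le_normalizer hq))] at h1
      obtain ⟨q, hq, c, hc, rfl⟩ := h1
      exact ⟨q, hq, c, hc, rfl⟩
    obtain ⟨x, hx, hxeq⟩ := hl.exists_conj_inf_cent p (isBlk_eB hB) hP hle'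
    have h1 := hcen.2 _ ((fusion_isConj_iff hF hle _).2 ⟨x, rfl, hx⟩)
    unfold Cfsg.FusionSystem.centralizerIn at h1
    rw [hxeq] at h1
    have h2 : R0 ⊓ Subgroup.centralizer (Q : Set G) ≤ Q := by
      have := cjS_mono x⁻¹ h1
      rwa [cjS_cjS, cjS_cjS, inv_mul_cancel, cjS_one, cjS_one] at this
    have hRQ : R0 = Q := by
      refine le_antisymm (fun r hr => ?_) (hl.le_sub p)
      obtain ⟨q, hq, c, hc, rfl⟩ := hmul (hl.max.2.1 hr)
      refine Q.mul_mem hq (h2 ⟨?_, hc⟩)
      have := R0.mul_mem (R0.inv_mem (hl.le_sub p hq)) hr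
      rwa [inv_mul_cancel_left] at this
    subst hRQ
    refine ⟨F', hF', hFc, hF', fun R h hRh y hy _ hreg => ?_⟩
    -- `R` lies in `Q`
    have hD := isDefectGroup_locMax hM hl hF' hFw
    obtain ⟨g, hg, hgne⟩ := ((isBrauerPairOf_iff hF' hRh.1).1 hRh).exists_coeff
      (isPair_of (M := M) hRh.1).2.ne_zero
    obtain ⟨z, hz⟩ := H20.sylC_le_defectGroup hM hF' hD hgne hRh.1.1 hg
    have hRsub : ∀ r ∈ R, (r : G) ∈ R0 := by
      intro r hr
      have h3 := hz hr
      rw [map_subgroupOf_conjSub le_sup_left, Subgroup.mem_subgroupOf] at h3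
      rwa [cjS_eq_self (htop z).1] at h3
    -- a `p`-regular element of `Q C(Q)` centralises `Q`
    have hyC : (y : G) ∈ Subgroup.centralizer (R0 : Set G) := by
      obtain ⟨q, hq, c, hc, hqc⟩ := hmul y.2
      obtain ⟨n, hn⟩ := he.1.to_le hQP ⟨q, hq⟩
      refine mem_centralizer_of_conj_eq (htop _).1 ?_ (congrArg Subtype.val hn) fun a => ?_
      · show ¬ p ∣ orderOf (y : G)
        rwa [Subgroup.orderOf_coe]
      · have := Subgroup.mem_centralizer_iff.1 hc a a.2
        calc (y : G) * a * (y : G)⁻¹ = q * (c * a) * c⁻¹ * q⁻¹ := by rw [← hqc]; group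
          _ = q * (a : G) * q⁻¹ := by rw [← this]; group
    rw [Subgroup.mem_centralizer_iff]
    intro r hr
    exact Subtype.ext (Subgroup.mem_centralizer_iff.1 hyC r (hRsub r hr))

end Cfsg.Agent.S4693
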