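import Cfsg.Statements.S4694
import Cfsg.Agent.H19.CentralDefect
import Cfsg.Agent.H20.DefectApps
import Cfsg.Agent.H24.CharBasic
import Cfsg.Agent.H21.Inflation
import Cfsg.Agent.H13.Clifford
import Cfsg.Agent.S0887

open scoped ComplexConjugate

set_option autoImplicit false
open Cfsg

namespace Cfsg.Agent.S4694

/-- A constituent of a character trivial on some element is trivial on it. -/
theorem apply_eq_one_of_constituent {K : Type*} [Group K] [Fintype K] {φ : K → ℂ}
    (hφ : Cfsg.IsCharacter K φ) (η : Cfsg.IrrCharacter K) (hη : Cfsg.classInner φ (η : K → ℂ) ≠ 0)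
    {q : K} (hq : φ q = φ 1) : (η : K → ℂ) q = (η : K → ℂ) 1 := by
  classical
  choose m hm using fun ξ : Cfsg.IrrCharacter K =>
    H12.IsCharacter.classInner_nat hφ (H12.isCharacter_irr ξ)
  have hdec : ∀ x, φ x = ∑ ξ : Cfsg.IrrCharacter K, (m ξ : ℂ) * (ξ : K → ℂ) x := fun x => by
    rw [H12.classFunction_apply_eq_sum (H12.IsCharacter.isClassFunction hφ) x]
    exact Finset.sum_congr rfl fun ξ _ => by rw [hm]
  rw [hdec, hdec] at hq
  have hre := congrArg Complex.re hq
  simp only [Complex.re_sum, Complex.mul_re, Complex.natCast_re, Complex.natCast_im, zero_mul,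
    sub_zero] at hre
  have hle : ∀ ξ ∈ (Finset.univ : Finset (Cfsg.IrrCharacter K)),
      (m ξ : ℝ) * ((ξ : K → ℂ) q).re ≤ (m ξ : ℝ) * ((ξ : K → ℂ) 1).re := fun ξ _ => by
    refine mul_le_mul_of_nonneg_left ?_ (Nat.cast_nonneg _)
    rw [H12.irr_apply_one, Complex.natCast_re]
    exact H21.re_le_degree ξ q
  have he := (Finset.sum_eq_sum_iff_of_le hle).1 hre η (Finset.mem_univ _)
  have hm0 : (m η : ℝ) ≠ 0 := by
    intro h
    have : m η = 0 := by exact_mod_cast h
    rw [hm η, this, Nat.cast_zero] at hη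
    exact hη rfl
  have he' := mul_left_cancel₀ hm0 he
  rw [H12.irr_apply_one, Complex.natCast_re] at he'
  have hn := H12.IsCharacter.norm_le (H12.isCharacter_irr η) q
  rw [H12.irr_apply_one]
  refine Complex.ext (by rw [he', Complex.natCast_re]) ?_
  rw [Complex.natCast_im]
  have h2 : ‖(η : K → ℂ) q‖ ^ 2 ≤ (H12.degree (η : K → ℂ) : ℝ) ^ 2 := by
    exact pow_le_pow_left₀ (norm_nonneg _) hn 2
  rw [← Complex.normSq_eq_norm_sq, Complex.normSq_apply, he'] at h2
  nlinarith [mul_self_nonneg ((η : K → ℂ) q).im]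


/-- Fix a prime p and a maximal ideal M of the algebraic integers containing p, a p-block B of the finite group G and a Brauer pair (Q, e) of B. Let T be the stabilizer of e in N_G(Q) and suppose that (Q, e) carries a weight: the block of T whose idempotent is that of e contains an irreducible character χ that is constant on the cosets of Q and whose degree has p-part equal to the p-part of the index of Q in T. Then Z(Q) is a defect group of e as a block of C_G(Q), and Q is the largest normal p-subgroup of T: every p-subgroup of T normalized by T lies in Q. -/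
theorem result {G : Type*} [Group G] [Fintype G] (p : ℕ) [Fact p.Prime] (M : Ideal Cfsg.AlgInt) (hM : Cfsg.IsPModular p M) (B : Set (Cfsg.IrrCharacter G)) (Q : Subgroup G) (e : Set (Cfsg.IrrCharacter (Subgroup.centralizer (Q : Set G)))) (hQe : Cfsg.IsBrauerPairOf p M B Q e) (T : Subgroup G) (hT : ∀ y : G, y ∈ T ↔ y ∈ Subgroup.normalizer (Q : Set G) ∧ Cfsg.StabilizesBlock (Subgroup.centralizer (Q : Set G)) e y) (F' : Set (Cfsg.IrrCharacter T)) (hF' : Cfsg.IsPBlock M F') (hF'e : ∀ t : T, Cfsg.blockCoeff F' t = Cfsg.subgroupBlockCoeff (Subgroup.centralizer (Q : Set G)) e (t : G)) (χ : Cfsg.IrrCharacter T) (hχ : χ ∈ F') (hχQ : ∀ q : G, q ∈ Q → ∀ t : T, ∀ t' : T, (t' : G) = q * (t : G) → (χ : T → ℂ) t' = (χ : T → ℂ) t) (hdeg : (Cfsg.charDegree (χ : T → ℂ)).factorization p + (Nat.card Q).factorization p = (Nat.card T).factorization p) : Cfsg.IsDefectGroup p M e ((Q ⊓ Subgroup.centralizer (Q : Set G)).subgroupOf (Subgroup.centralizer (Q : Set G))) ∧ ∀ R : Subgroup G, R ≤ T → IsPGroup p R → (∀ t ∈ T, t ∈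 Subgroup.normalizer (R : Set G)) → R ≤ Q := by
  classical
  haveI : M.IsPrime := hM.2.1.isPrime
  have hpp : p.Prime := Fact.out
  let C := Subgroup.centralizer (Q : Set G)
  have hQp : IsPGroup p Q := hQe.1.1
  have hQN : Q ≤ T := by
    intro q hq
    refine (hT q).2 ⟨Subgroup.le_normalizer hq, ?_, fun ξ hξ => ⟨ξ, hξ, ?_⟩⟩
    · exact Subgroup.mem_normalizer_iff.2 fun c => by
        constructor
        · intro hc
          rw [hc q hq, mul_inv_cancel_right]; exact hc
        · intro hc
          have h := hc q hq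
          have e : c = q * c * q⁻¹ := (mul_left_cancel
            (show q * (q * c * q⁻¹) = q * c by rw [h, inv_mul_cancel_right])).symm
          rw [e]; exact hc
    · intro c c' hcc
      refine congrArg _ (Subtype.ext ?_)
      rw [hcc, c.2 q hq, mul_inv_cancel_right]
  have hCT : C ≤ T := by
    intro c hc
    refine (hT c).2 ⟨Subgroup.centralizer_le_normalizer (Q : Set G) hc,
      Subgroup.le_normalizer hc, fun ξ hξ => ⟨ξ, hξ, ?_⟩⟩
    intro k k' hkk
    have e : k' = (⟨c, hc⟩ : C) * k * (⟨c, hc⟩ : C)⁻¹ := Subtype.ext (by rw [hkk]; rfl)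
    rw [e]
    exact H12.irr_isClassFunction ξ k ⟨c, hc⟩
  haveI := Fintype.ofFinite T
  set Q' := Q.subgroupOf T with hQ'
  set C' := C.subgroupOf T with hC'
  haveI hQ'n : Q'.Normal := ⟨fun n hn t => by
    have h := ((hT t).1 t.2).1
    exact (Subgroup.mem_normalizer_iff.1 h _).1 hn⟩
  haveI hC'n : C'.Normal := ⟨fun n hn t => by
    have h := ((hT t).1 t.2).2.1
    exact (Subgroup.mem_normalizer_iff.1 h _).1 hn⟩
  have hcQ : Nat.card Q' = Nat.card Q := Nat.card_congr (Subgroup.subgroupOfEquivOfLe hQN).toEquiv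
  have hkerχ : ∀ q ∈ Q', (χ : T → ℂ) q = (χ : T → ℂ) 1 := fun q hq =>
    hχQ q hq 1 q (by simp)
  have hTd : (Cfsg.charDegree (χ : T → ℂ)).factorization p + (Nat.card Q').factorization p =
      (Nat.card T).factorization p := by rw [hcQ]; exact hdeg
  have hd0 : ∀ {K : Subgroup T} (η : Cfsg.IrrCharacter K), H12.degree (η : K → ℂ) ≠ 0 :=
    fun η => (H12.irr_degree_pos η).ne'
  -- degree bound along normal subgroups
  have hbound : ∀ (N : Subgroup T) [N.Normal] [Fintype N] (η : Cfsg.IrrCharacter N),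
      Cfsg.classInner (fun n : N => (χ : T → ℂ) n) (η : N → ℂ) ≠ 0 →
      (Nat.card N).factorization p ≤
        (H12.degree (η : N → ℂ)).factorization p + (Nat.card Q').factorization p := by
    intro N _ _ η hη
    obtain ⟨h1, h2⟩ := Cfsg.Agent.S0887.result N (χ : T → ℂ) χ.2 (η : N → ℂ) η.2 hη _ _
      (H12.irr_apply_one χ) (H12.irr_apply_one η)
    obtain ⟨r, hr⟩ := h1
    rw [hr, Nat.mul_div_cancel_left _ (H12.irr_degree_pos η)] at h2
    have hr0 : r ≠ 0 := fun h0 => (H12.irr_degree_pos χ).ne' (by rw [hr, h0, mul_zero])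
    have h3 := (Nat.factorization_le_iff_dvd hr0 Subgroup.index_ne_zero_of_finite).2 h2 p
    have h4 : (Cfsg.charDegree (χ : T → ℂ)).factorization p =
        (H12.degree (η : N → ℂ)).factorization p + r.factorization p := by
      rw [show Cfsg.charDegree (χ : T → ℂ) = H12.degree (χ : T → ℂ) from rfl, hr,
        Nat.factorization_mul (hd0 η) hr0]; rfl
    have h5 : (Nat.card T).factorization p = (Nat.card N).factorization p + N.index.factorization p := by
      rw [← Subgroup.card_mul_index N,
        Nat.factorization_mul Nat.card_pos.ne' Subgroup.index_ne_zero_of_finite]; rfl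
    omega
  refine ⟨?_, ?_⟩
  · -- the block `e`
    set Z := (Q ⊓ C).subgroupOf C with hZdef
    have hZc : Z ≤ Subgroup.center C := fun z hz => Subgroup.mem_center_iff.2 fun c =>
      Subtype.ext (c.2 z (Subgroup.mem_inf.1 hz).1).symm
    haveI hZn : Z.Normal := ⟨fun z hz g => by
      rw [Subgroup.mem_center_iff.1 (hZc hz) g, mul_inv_cancel_right]; exact hz⟩
    have hZp : IsPGroup p Z :=
      (hQp.to_le inf_le_left).of_equiv (Subgroup.subgroupOfEquivOfLe inf_le_right).symm
    haveI := Fintype.ofFinite C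
    haveI := Fintype.ofFinite C'
    have he : Cfsg.IsPBlock M e := hQe.1.2
    let N : Subgroup T := Q' ⊔ C'
    haveI : N.Normal := inferInstanceAs (Q' ⊔ C').Normal
    haveI := Fintype.ofFinite N
    obtain ⟨η, hη⟩ := H13.exists_constituent N (H12.isCharacter_irr χ) (H12.irr_ne_zero χ)
    have hηker : ∀ q : N, (q : T) ∈ Q' → (η : N → ℂ) q = (η : N → ℂ) 1 := fun q hq =>
      apply_eq_one_of_constituent (H12.IsCharacter.res (H12.isCharacter_irr χ) N) η hη
        (hkerχ _ hq)
    -- invariance of `η` under `Q'`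
    obtain ⟨η₀, hη₀⟩ := H21.exists_deflate (N := Q'.subgroupOf N) η (fun q hq => hηker q hq)
    have hηmul : ∀ (q x : N), (q : T) ∈ Q' → (η : N → ℂ) (q * x) = (η : N → ℂ) x := by
      intro q x hq
      rw [← hη₀, H21.inflate_apply, H21.inflate_apply, QuotientGroup.mk_mul,
        (QuotientGroup.eq_one_iff q).2 hq, one_mul]
    let f : ↥C →* N :=
      { toFun := fun c => ⟨⟨c, hCT c.2⟩, le_sup_right (a := Q') c.2⟩
        map_one' := rfl
        map_mul' := fun _ _ => rfl }
    let i : Q' →* N := Subgroup.inclusion le_sup_left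
    let Φ : Q' × C → N := fun z => i z.1 * f z.2
    have hsur : Function.Surjective Φ := by
      rintro ⟨x, hx⟩
      obtain ⟨a, ha, b, hb, rfl⟩ := Subgroup.mem_sup_of_normal_left.1 hx
      exact ⟨(⟨a, ha⟩, ⟨(b : G), hb⟩), rfl⟩
    have hcomm : ∀ (q : Q') (c : C), Commute (i q) (f c) := fun q c =>
      Subtype.ext (Subtype.ext (c.2 (q : T) q.2))
    have hfib : ∀ n : N, Nat.card {z : Q' × C // Φ z = n} = Nat.card {z : Q' × C // Φ z = 1} := by
      intro n
      obtain ⟨⟨q₀, c₀⟩, hn⟩ := hsur n
      refine Nat.card_congr ((Equiv.mulLeft ((q₀, c₀)⁻¹ : Q' × C)).subtypeEquiv fun z => ?_)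
      simp only [Equiv.coe_mulLeft, Φ, Prod.fst_mul, Prod.snd_mul, Prod.fst_inv, Prod.snd_inv,
        map_mul, map_inv]
      rw [← hn]
      constructor
      · intro h
        rw [mul_assoc (i q₀)⁻¹, ← mul_assoc (i z.1), ← ((hcomm z.1 c₀).inv_right).symm.eq,
          mul_assoc, h]
        simp only [Φ]
        rw [← mul_assoc (f c₀)⁻¹, ← ((hcomm q₀ c₀).inv_right).eq]
        group
      · intro h
        rw [mul_assoc (i q₀)⁻¹, ← mul_assoc (i z.1), ← ((hcomm z.1 c₀).inv_right).symm.eq,
          mul_assoc] at h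
        have h' := congrArg (fun w => i q₀ * w) h
        simp only [mul_inv_cancel_left, mul_one] at h'
        have h'' := congrArg (fun w => f c₀ * w) h'
        simp only [mul_inv_cancel_left] at h''
        rw [h'']
        exact (hcomm q₀ c₀).symm.eq
    have hk : ∀ g : N → ℂ, ∑ z : Q' × C, g (Φ z) =
        (Nat.card {z : Q' × C // Φ z = 1} : ℂ) * ∑ n, g n := by
      intro g
      rw [← Finset.sum_fiberwise Finset.univ Φ, Finset.mul_sum]
      refine Finset.sum_congr rfl fun n _ => ?_
      rw [Finset.sum_congr rfl (fun z hz => by rw [(Finset.mem_filter.1 hz).2] :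
        ∀ z ∈ Finset.univ.filter (fun z => Φ z = n), g (Φ z) = g n), Finset.sum_const,
        nsmul_eq_mul, ← hfib n, Nat.card_eq_fintype_card, Fintype.card_subtype]
    have hone : Nat.card {z : Q' × C // Φ z = 1} = Nat.card Z := by
      refine Nat.card_congr
        { toFun := fun z => ⟨z.1.2, Subgroup.mem_inf.2 ⟨?_, z.1.2.2⟩⟩
          invFun := fun c => ⟨(⟨⟨((c : C) : G)⁻¹, hQN (Q.inv_mem (Subgroup.mem_inf.1 c.2).1)⟩,
            Q.inv_mem (Subgroup.mem_inf.1 c.2).1⟩, c), Subtype.ext (Subtype.ext (inv_mul_cancel _))⟩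
          left_inv := fun z => ?_
          right_inv := fun c => rfl }
      · have h : ((z.1.1 : T) : G) * (z.1.2 : G) = 1 :=
          congrArg (fun n : N => ((n : T) : G)) z.2
        show (z.1.2 : G) ∈ Q
        rw [eq_inv_of_mul_eq_one_right h]
        exact Q.inv_mem z.1.1.2
      · have h : ((z.1.1 : T) : G) * (z.1.2 : G) = 1 :=
          congrArg (fun n : N => ((n : T) : G)) z.2
        refine Subtype.ext (Prod.ext (Subtype.ext (Subtype.ext ?_)) rfl)
        exact (eq_inv_of_mul_eq_one_left h).symm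
    have hcard : Nat.card Q' * Nat.card C = Nat.card Z * Nat.card N := by
      have h := hk (fun _ => 1)
      simp only [Finset.sum_const, Finset.card_univ, nsmul_eq_mul, mul_one, hone,
        ← Nat.card_eq_fintype_card, Nat.card_prod] at h
      exact_mod_cast h
    have hZ0 : (Nat.card Z : ℂ) ≠ 0 := Nat.cast_ne_zero.2 Nat.card_pos.ne'
    have hres := H12.IsCharacter.comp (H12.isCharacter_irr η) f
    have hirr : Cfsg.IsIrrCharacter C (fun c => (η : N → ℂ) (f c)) := by
      refine H12.isIrrCharacter_of_classInner_self_eq_one hres ?_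
      have h := hk (fun n => (η : N → ℂ) n * conj ((η : N → ℂ) n))
      have hΦ : ∀ z : Q' × C, (η : N → ℂ) (Φ z) = (η : N → ℂ) (f z.2) := fun z =>
        hηmul (i z.1) (f z.2) z.1.2
      simp only [hΦ, Fintype.sum_prod_type, Finset.sum_const,
        Finset.card_univ, nsmul_eq_mul, hone, ← Nat.card_eq_fintype_card] at h
      rw [H12.sum_mul_conj_eq_card_mul (η : N → ℂ) (η : N → ℂ), H12.classInner_irr_self, mul_one,
        H12.sum_mul_conj_eq_card_mul] at h
      have hc2 : (Nat.card Q' : ℂ) * (Nat.card C : ℂ) = (Nat.card Z : ℂ) * (Nat.card N : ℂ) := by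
        exact_mod_cast hcard
      have hQ0 : (Nat.card Q' : ℂ) * (Nat.card C : ℂ) ≠ 0 :=
        mul_ne_zero (Nat.cast_ne_zero.2 Nat.card_pos.ne') (Nat.cast_ne_zero.2 Nat.card_pos.ne')
      refine mul_left_cancel₀ hQ0 ?_
      linear_combination h - hc2
    let θ : Cfsg.IrrCharacter C := ⟨_, hirr⟩
    -- `θ` belongs to `e`
    choose mm hmm using fun ξ : Cfsg.IrrCharacter C => H12.IsCharacter.classInner_nat
      (H12.IsCharacter.comp (H12.isCharacter_irr χ) (Subgroup.inclusion hCT)) (H12.isCharacter_irr ξ)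
    have hθe : θ ∈ e := by
      -- the idempotent acts as identity on `χ`
      have hE : ∑ t : T, Cfsg.blockCoeff F' t * (χ : T → ℂ) t = (χ : T → ℂ) 1 := by
        simp only [H22.blockCoeff_eq_sum, Finset.mul_sum, Finset.sum_mul]
        rw [Finset.sum_comm]
        have key : ∀ ψ : Cfsg.IrrCharacter T, ∑ t : T, (χ : T → ℂ) t * conj ((ψ : T → ℂ) t) =
            if ψ = χ then (Nat.card T : ℂ) else 0 := by
          intro ψ
          rw [H12.sum_mul_conj_eq_card_mul, H12.classInner_irr]
          by_cases h : ψ = χ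
          · subst h; simp
          · rw [if_neg (Ne.symm h), if_neg h, mul_zero]
        rw [Finset.sum_eq_single χ]
        · rw [Finset.sum_congr rfl (fun t _ => show (Nat.card T : ℂ)⁻¹ * ((χ : T → ℂ) 1 *
              conj ((χ : T → ℂ) t)) * (χ : T → ℂ) t =
            ((Nat.card T : ℂ)⁻¹ * (χ : T → ℂ) 1) * ((χ : T → ℂ) t * conj ((χ : T → ℂ) t)) by ring),
            ← Finset.mul_sum, key, if_pos rfl, mul_comm, ← mul_assoc,
            mul_inv_cancel₀ (H12.card_ne_zero' (G := T)), one_mul]
        · intro ψ _ hne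
          rw [Finset.sum_congr rfl (fun t _ => show (Nat.card T : ℂ)⁻¹ * ((ψ : T → ℂ) 1 *
              conj ((ψ : T → ℂ) t)) * (χ : T → ℂ) t =
            ((Nat.card T : ℂ)⁻¹ * (ψ : T → ℂ) 1) * ((χ : T → ℂ) t * conj ((ψ : T → ℂ) t)) by ring),
            ← Finset.mul_sum, key, if_neg hne, mul_zero]
        · exact fun h => absurd (H22.mem_blockFinset.2 hχ) h
      have hE2 : ∑ t : T, Cfsg.blockCoeff F' t * (χ : T → ℂ) t =
          ∑ ξ ∈ H22.blockFinset e, (ξ : C → ℂ) 1 * (mm ξ : ℂ) := by
        have hoff : ∑ t : T, Cfsg.blockCoeff F' t * (χ : T → ℂ) t =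
            ∑ c : C, Cfsg.blockCoeff e c * (χ : T → ℂ) (Subgroup.inclusion hCT c) := by
          refine (Finset.sum_of_injOn (Subgroup.inclusion hCT)
            (Subgroup.inclusion_injective hCT).injOn (fun _ _ => Finset.mem_coe.2 (Finset.mem_univ _))
            (fun t _ ht => ?_) (fun c _ => ?_)).symm
          · rw [hF'e, Cfsg.subgroupBlockCoeff, dif_neg, zero_mul]
            intro h
            exact ht ⟨⟨t, h⟩, Finset.mem_coe.2 (Finset.mem_univ _), rfl⟩
          · rw [hF'e, Cfsg.subgroupBlockCoeff, dif_pos (show ((Subgroup.inclusion hCT c : T) : G) ∈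
              Subgroup.centralizer (Q : Set G) from c.2)]
            rfl
        rw [hoff]
        simp only [H22.blockCoeff_eq_sum, Finset.mul_sum, Finset.sum_mul]
        rw [Finset.sum_comm]
        refine Finset.sum_congr rfl fun ξ _ => ?_
        rw [← hmm, H12.classInner_def]
        simp only [Finset.mul_sum]
        exact Finset.sum_congr rfl fun c _ => by simp only [Function.comp_apply]; ring
      rw [hE] at hE2
      have h1 : (χ : T → ℂ) 1 = ∑ ξ : Cfsg.IrrCharacter C, (mm ξ : ℂ) * (ξ : C → ℂ) 1 := by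
        have := H12.classFunction_apply_eq_sum (H12.IsCharacter.isClassFunction
          (H12.IsCharacter.comp (H12.isCharacter_irr χ) (Subgroup.inclusion hCT))) 1
        simp only [hmm] at this
        exact this
      have hmθ : mm θ ≠ 0 := by
        intro h0
        have hchi : Cfsg.IsCharacter C (fun c => (χ : T → ℂ) (Subgroup.inclusion hCT c)) :=
          H12.IsCharacter.comp (H12.isCharacter_irr χ) _
        have hsub := H13.isCharacter_sub_irr (H12.IsCharacter.res (H12.isCharacter_irr χ) N) η.2 hη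
        obtain ⟨r, hr⟩ := H12.IsCharacter.classInner_nat (H12.IsCharacter.comp hsub f)
          (H12.isCharacter_irr θ)
        have hs : Cfsg.classInner (fun c : C => (χ : T → ℂ) (Subgroup.inclusion hCT c)) (θ : C → ℂ) =
            (r : ℂ) + 1 := by
          rw [← hr, ← H12.classInner_irr_self θ, ← H12.classInner_add_left]
          congr 1
          funext c
          show _ = ((χ : T → ℂ) (f c) - (η : N → ℂ) (f c)) + (η : N → ℂ) (f c)
          rw [sub_add_cancel]
          rfl
        replace hs : Cfsg.classInner ((χ : T → ℂ) ∘ Subgroup.inclusion hCT) (θ : C → ℂ) = (r : ℂ) + 1 := hs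
        rw [hmm θ, h0, Nat.cast_zero] at hs
        have : ((r + 1 : ℕ) : ℂ) = ((0 : ℕ) : ℂ) := by push_cast; exact hs.symm
        rw [Nat.cast_inj] at this
        omega
      by_contra hne
      have h2 : ((∑ ξ ∈ H22.blockFinset e, mm ξ * H12.degree (ξ : C → ℂ) : ℕ) : ℂ) =
          ((∑ ξ : Cfsg.IrrCharacter C, mm ξ * H12.degree (ξ : C → ℂ) : ℕ) : ℂ) := by
        push_cast
        simp only [← H12.irr_apply_one]
        rw [← h1, hE2]
        exact Finset.sum_congr rfl fun ξ _ => mul_comm _ _
      rw [Nat.cast_inj] at h2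
      exact absurd h2 (Finset.sum_lt_sum_of_subset (Finset.subset_univ _) (Finset.mem_univ θ)
        (fun h => hne (H22.mem_blockFinset.1 h))
        (Nat.mul_pos (Nat.pos_of_ne_zero hmθ) (H12.irr_degree_pos θ))
        (fun _ _ _ => Nat.zero_le _)).ne
    have hθd : H12.degree (θ : C → ℂ) = H12.degree (η : N → ℂ) := by
      have h : (H12.degree (θ : C → ℂ) : ℂ) = (H12.degree (η : N → ℂ) : ℂ) := by
        rw [← H12.irr_apply_one, ← H12.irr_apply_one]
        exact congrArg _ (map_one f)
      exact_mod_cast h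
    have hdef : Cfsg.blockDefect p e = (Nat.card Z).factorization p := by
      refine (H19.CentralDefect.blockDefect_eq_iff hM he Z hZc hZp).2 ⟨θ, hθe, ?_, ?_⟩
      · intro z hz
        show (η : N → ℂ) (f z) = (η : N → ℂ) (f 1)
        rw [map_one]
        exact hηker _ (Subgroup.mem_inf.1 hz).1
      · apply le_antisymm (H19.CentralDefect.factorization_degree_add_le Z hZc θ)
        have h := hbound N η hη
        have h2 := congrArg (fun n => n.factorization p) hcard
        simp only [Nat.factorization_mul Nat.card_pos.ne' Nat.card_pos.ne', Finsupp.add_apply] at h2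
        rw [show Cfsg.charDegree (θ : C → ℂ) = H12.degree (θ : C → ℂ) from rfl, hθd]
        omega
    obtain ⟨D, hD⟩ := H20.exists_defectGroup hM he
    have hle := H20.normal_le_defectGroup hM he (Q := Z) hZp hD
    have heq : Z = D := by
      apply Subgroup.eq_of_le_of_card_ge hle
      rw [H20.card_defectGroup hM he hD, hdef]
      obtain ⟨j, hj⟩ := IsPGroup.iff_card.1 hZp
      rw [hj, hpp.factorization_pow, Finsupp.single_eq_same]
    rw [heq]; exact hD
  · -- `Q` is the largest normal `p`-subgroup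
    intro R hRT hRp hRn
    set R' := R.subgroupOf T with hR'
    haveI : R'.Normal := ⟨fun n hn t =>
      (Subgroup.mem_normalizer_iff.1 (hRn t t.2) _).1 hn⟩
    let N : Subgroup T := R' ⊔ Q'
    haveI : N.Normal := inferInstanceAs (R' ⊔ Q').Normal
    haveI := Fintype.ofFinite N
    have hNp : IsPGroup p N := IsPGroup.to_sup_of_normal_right
      (hRp.of_equiv (Subgroup.subgroupOfEquivOfLe hRT).symm)
      (hQp.of_equiv (Subgroup.subgroupOfEquivOfLe hQN).symm)
    obtain ⟨η, hη⟩ := H13.exists_constituent N (H12.isCharacter_irr χ) (H12.irr_ne_zero χ)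
    obtain ⟨η₀, hη₀⟩ := H21.exists_deflate (N := Q'.subgroupOf N) η (fun q hq =>
      apply_eq_one_of_constituent (H12.IsCharacter.res (H12.isCharacter_irr χ) N) η hη
        (hkerχ _ hq))
    have hdd : H12.degree (η₀ : N ⧸ Q'.subgroupOf N → ℂ) = H12.degree (η : N → ℂ) := by
      have h : (H12.degree (η₀ : N ⧸ Q'.subgroupOf N → ℂ) : ℂ) = (H12.degree (η : N → ℂ) : ℂ) := by
        rw [← H12.irr_apply_one, ← H12.irr_apply_one, ← hη₀]; rfl
      exact_mod_cast h
    have hsq := H24.card_ker_mul_degree_sq_le η₀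
    have hb := hbound N η hη
    obtain ⟨a, ha⟩ := IsPGroup.iff_card.1 hNp
    obtain ⟨b, hb'⟩ := IsPGroup.iff_card.1 (hQp.of_equiv (Subgroup.subgroupOfEquivOfLe hQN).symm)
    obtain ⟨c, hc, hcd⟩ := (Nat.dvd_prime_pow hpp).1 (ha ▸ H12.irr_degree_dvd_card η)
    have hidx : Nat.card (N ⧸ Q'.subgroupOf N) * p ^ b = p ^ a := by
      rw [← ha, Subgroup.card_eq_card_quotient_mul_card_subgroup (Q'.subgroupOf N),
        Nat.card_congr (Subgroup.subgroupOfEquivOfLe (show Q' ≤ N from le_sup_right)).toEquiv, hb']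
    rw [hcd, ha, hb'] at hb
    simp only [hpp.factorization_pow, Finsupp.single_eq_same] at hb
    have hle : (p ^ c) ^ 2 * p ^ b ≤ p ^ a := by
      rw [← hidx, ← hcd, ← hdd]
      refine Nat.mul_le_mul_right _ (le_trans ?_ hsq)
      exact Nat.le_mul_of_pos_left _ Nat.card_pos
    rw [← pow_mul, ← pow_add] at hle
    have hab : a = b := by
      have h1 := (Nat.pow_le_pow_iff_right hpp.one_lt).1 hle
      have h2 : b ≤ a := by
        have := Subgroup.card_le_of_le (show Q' ≤ N from le_sup_right)
        rw [ha, hb'] at this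
        exact (Nat.pow_le_pow_iff_right hpp.one_lt).1 this
      omega
    intro r hr
    have hNQ : Q' = N := Subgroup.eq_of_le_of_card_ge le_sup_right (by rw [ha, hb', hab])
    have : (⟨r, hRT hr⟩ : T) ∈ N := le_sup_left (b := Q') hr
    rw [← hNQ] at this
    exact this

end Cfsg.Agent.S4694
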