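import Cfsg.Statements.S4697
import Cfsg.Agent.H19.RankTwoThree

set_option linter.style.haveILetI false
-- import your own Cfsg.Agent.* helpers here

set_option autoImplicit false
open Cfsg

namespace Cfsg.Agent.S4697

/-- Let p be a prime, M a maximal ideal of the algebraic integers containing p, and B a p-block of the finite group G with an abelian defect group D of order p^d. If D has rank 2 (its least number of generators is 2) then B contains at most p^d irreducible characters; if D has rank 3 then the number k of irreducible characters in B satisfies k^3 ≤ p^(5d). -/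
theorem result {G : Type*} [Group G] [Finite G] (p : ℕ) [Fact p.Prime] (M : Ideal Cfsg.AlgInt) (hM : Cfsg.IsPModular p M) (B : Set (Cfsg.IrrCharacter G)) (hB : Cfsg.IsPBlock M B) (D : Subgroup G) (hBD : Cfsg.IsDefectGroup p M B D) (hab : IsMulCommutative D) (d : ℕ) (hDd : Nat.card D = p ^ d) : (Group.rank D = 2 → Nat.card B ≤ p ^ d) ∧ (Group.rank D = 3 → Nat.card B ^ 3 ≤ p ^ (5 * d)) := by
  classical
  haveI : M.IsPrime := hM.2.1.isPrime
  haveI := H20.k_charP hM
  haveI := H23.isAlgClosed_k (M := M) hM.2.1
  haveI := Fintype.ofFinite G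
  have hp : p.Prime := Fact.out
  have hab' : ∀ x ∈ D, ∀ y ∈ D, x * y = y * x := fun x hx y hy =>
    congrArg Subtype.val (hab.is_comm.comm (⟨x, hx⟩ : D) ⟨y, hy⟩)
  have hd : blockDefect p B = d := Nat.pow_right_injective hp.two_le (by
    show p ^ blockDefect p B = p ^ d
    rw [← H20.card_defectGroup hM hB hBD, hDd])
  letI : CommGroup D := { (inferInstance : Group D) with
    mul_comm := fun x y => Subtype.ext (hab' x x.2 y y.2) }
  have hspan : ∀ a b c : D, ∀ x ∈ Subgroup.closure ({a, b, c} : Set D),
      ∃ i j l : ℤ, x = a ^ i * b ^ j * c ^ l := by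
    intro a b c x hx
    induction hx using Subgroup.closure_induction with
    | mem y hy =>
      rcases hy with rfl | rfl | rfl
      · exact ⟨1, 0, 0, by simp⟩
      · exact ⟨0, 1, 0, by simp⟩
      · exact ⟨0, 0, 1, by simp⟩
    | one => exact ⟨0, 0, 0, by simp⟩
    | mul y z _ _ hy hz =>
      obtain ⟨i, j, l, rfl⟩ := hy
      obtain ⟨i', j', l', rfl⟩ := hz
      exact ⟨i + i', j + j', l + l', by simp only [zpow_add]; ac_rfl⟩
    | inv y _ hy =>
      obtain ⟨i, j, l, rfl⟩ := hy
      exact ⟨-i, -j, -l, by simp only [zpow_neg, mul_inv]⟩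
  refine ⟨fun h2 => ?_, fun h3 => ?_⟩
  · obtain ⟨S, hS, hcl⟩ := Group.rank_spec D
    rw [h2, Finset.card_eq_two] at hS
    obtain ⟨a, b, -, rfl⟩ := hS
    rw [← hd]
    refine H19.RankTwoThree.two_gen hM hB hBD hab' a b fun x => ?_
    have hx : x ∈ Subgroup.closure ({a, b, 1} : Set D) := by
      refine Subgroup.closure_mono ?_ (hcl ▸ Subgroup.mem_top x)
      intro y
      simp only [Finset.coe_insert, Finset.coe_singleton, Set.mem_insert_iff,
        Set.mem_singleton_iff]
      tauto
    obtain ⟨i, j, l, rfl⟩ := hspan a b 1 x hx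
    exact ⟨i, j, by simp⟩
  · obtain ⟨S, hS, hcl⟩ := Group.rank_spec D
    rw [h3, Finset.card_eq_three] at hS
    obtain ⟨a, b, c, -, -, -, rfl⟩ := hS
    rw [← hd]
    have hgen : ∀ a' b' c' : D, ({a, b, c} : Set D) ⊆ {a', b', c'} →
        ∀ x : D, ∃ i j l : ℤ, x = a' ^ i * b' ^ j * c' ^ l := fun a' b' c' hsub x =>
      hspan a' b' c' x (Subgroup.closure_mono hsub (by
        have hx : x ∈ Subgroup.closure (({a, b, c} : Finset D) : Set D) := hcl ▸ Subgroup.mem_top x
        simpa only [Finset.coe_insert, Finset.coe_singleton] using hx))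
    rcases le_total (orderOf b) (orderOf a) with hba | hba
    · rcases le_total (orderOf c) (orderOf a) with hca | hca
      · exact H19.RankTwoThree.three_gen hM hB hBD hab' a b c hba hca
          (hgen a b c subset_rfl)
      · exact H19.RankTwoThree.three_gen hM hB hBD hab' c a b hca (hba.trans hca)
          (hgen c a b fun y hy => by simp only [Set.mem_insert_iff, Set.mem_singleton_iff] at hy ⊢; tauto)
    · rcases le_total (orderOf c) (orderOf b) with hcb | hcb
      · exact H19.RankTwoThree.three_gen hM hB hBD hab' b a c hba hcb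
          (hgen b a c fun y hy => by simp only [Set.mem_insert_iff, Set.mem_singleton_iff] at hy ⊢; tauto)
      · exact H19.RankTwoThree.three_gen hM hB hBD hab' c a b (hba.trans hcb) hcb
          (hgen c a b fun y hy => by simp only [Set.mem_insert_iff, Set.mem_singleton_iff] at hy ⊢; tauto)


end Cfsg.Agent.S4697
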