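import Cfsg.Statements.S4699
import Cfsg.Agent.H58.TrivialIntersectionTrace

set_option autoImplicit false
open Cfsg
open scoped Pointwise

namespace Cfsg.Agent.S4699

/-- Range bookkeeping: if the range of `N^a` lies in that of `N^b` with `a < b` then `N^a = 0`. -/
theorem pow_eq_zero_of_range_le {F V : Type*} [Field F] [AddCommGroup V] [Module F V]
    (N : Module.End F V) {a b m : ℕ} (hab : a < b) (hm : N ^ m = 0)
    (h : LinearMap.range (N ^ a) ≤ LinearMap.range (N ^ b)) : N ^ a = 0 := by
  have step : ∀ i, LinearMap.range (N ^ a) ≤ LinearMap.range (N ^ (a + i)) := by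
    intro i
    induction i with
    | zero => exact le_rfl
    | succ i ih =>
      rintro v hv
      obtain ⟨u, rfl⟩ := h hv
      obtain ⟨c, rfl⟩ : ∃ c, b = a + 1 + c := ⟨b - a - 1, by omega⟩
      have hb : (N ^ (a + 1 + c)) u = N ((N ^ a) ((N ^ c) u)) := by
        rw [show a + 1 + c = 1 + a + c by omega, pow_add, pow_add, pow_one]; rfl
      obtain ⟨t, ht⟩ := ih ⟨(N ^ c) u, rfl⟩
      refine ⟨t, ?_⟩
      rw [hb, ← ht, ← add_assoc, pow_succ']; rfl
  have h2 := step m
  rw [pow_add, hm, mul_zero, LinearMap.range_zero, le_bot_iff, LinearMap.range_eq_bot] at h2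
  exact h2

/-- The eigen-polynomial for the torus acting on a cyclic group of order `p^n`. -/
theorem exists_eigen {F V : Type*} [Field F] [AddCommGroup V] [Module F V]
    (p : ℕ) [Fact p.Prime] [CharP F p] (n : ℕ) (hn : 1 ≤ n) (U : Module.End F V)
    (hU : U ^ p ^ n = 1) :
    ∃ φ : Module.End F V, LinearMap.range φ = LinearMap.range ((U - 1) ^ (p - 1)) ∧
      ∀ (R : Module.End F V) (a : (ZMod (p ^ n))ˣ), a ^ (p - 1) = 1 →
        R * U = U ^ (a : ZMod (p ^ n)).val * R → R * φ = φ * R := by
  classical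
  haveI : NeZero (p ^ n) := ⟨pow_ne_zero _ (Fact.out : p.Prime).ne_zero⟩
  let A : Subgroup (ZMod (p ^ n))ˣ := (powMonoidHom (p - 1)).ker
  have hA : ¬ p ∣ Nat.card A := by
    intro hdvd
    obtain ⟨c, hc⟩ := exists_prime_orderOf_dvd_card' (G := A) p hdvd
    have h1 : c ^ (p - 1) = 1 := Subtype.ext c.2
    have h2 := orderOf_dvd_of_pow_eq_one h1
    rw [hc] at h2
    have := Nat.le_of_dvd (by have := (Fact.out : p.Prime).two_le; omega) h2
    have := (Fact.out : p.Prime).two_le
    omega
  let π : ZMod (p ^ n) →+* F := ZMod.castHom (dvd_pow_self p (by omega)) F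
  let χ : (ZMod (p ^ n))ˣ → F := fun c => π (c : ZMod (p ^ n))
  have hχ : ∀ a b, χ (a * b) = χ a * χ b := fun a b => by simp [χ]
  have hχ1 : χ 1 = 1 := by simp [χ]
  have hχval : ∀ c : (ZMod (p ^ n))ˣ, ((c : ZMod (p ^ n)).val : F) = χ c := fun c => by
    simp only [χ]
    rw [← map_natCast π, ZMod.natCast_zmod_val]
  let Yp : Polynomial F := ∑ c : A, Polynomial.C (χ (c : (ZMod (p ^ n))ˣ)⁻¹) *
    ∑ i ∈ Finset.range ((c : (ZMod (p ^ n))ˣ) : ZMod (p ^ n)).val, Polynomial.X ^ i
  have hev : Yp.eval 1 = (Nat.card A : F) := by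
    simp only [Yp, Polynomial.eval_finset_sum, Polynomial.eval_mul, Polynomial.eval_C,
      Polynomial.eval_pow, Polynomial.eval_X, one_pow, Finset.sum_const, Finset.card_range,
      nsmul_eq_mul, mul_one]
    rw [Finset.sum_congr rfl fun (c : A) _ => (show χ (c : (ZMod (p ^ n))ˣ)⁻¹ *
      (((c : (ZMod (p ^ n))ˣ) : ZMod (p ^ n)).val : F) = 1 by rw [hχval, ← hχ, inv_mul_cancel, hχ1])]
    simp [Nat.card_eq_fintype_card]
  have hcard : (Nat.card A : F) ≠ 0 := by rwa [Ne, CharP.cast_eq_zero_iff F p]
  obtain ⟨Zp, hZ⟩ := Polynomial.X_sub_C_dvd_sub_C_eval (a := (1 : F)) (p := Yp)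
  have hNq : (U - 1) ^ p ^ n = 0 := by
    have h := congrArg (Polynomial.aeval U) (sub_pow_char_pow (p := p) (n := n) (Polynomial.X : Polynomial F) 1)
    simpa [hU] using h
  set Y : Module.End F V := Polynomial.aeval U Yp with hY
  have hYu : IsUnit Y := by
    have e : Y = algebraMap F (Module.End F V) (Nat.card A : F) +
        (U - 1) * Polynomial.aeval U Zp := by
      have h := congrArg (Polynomial.aeval U) hZ
      rw [hev] at h
      simp only [map_sub, map_mul, Polynomial.aeval_C, Polynomial.aeval_X, map_one] at h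
      rw [← h, hY]; abel
    rw [e]
    have hc : Commute (U - 1) (Polynomial.aeval U Zp) := by
      have h := (Commute.all (Polynomial.X - 1 : Polynomial F) Zp).map (Polynomial.aeval U)
      simpa using h
    refine IsNilpotent.isUnit_add_left_of_commute (hc.isNilpotent_mul_right ⟨_, hNq⟩)
      (RingHom.isUnit_map _ (isUnit_iff_ne_zero.2 hcard)) ?_
    exact (Algebra.commutes _ _).symm
  set X : Module.End F V := (U - 1) * Y with hX
  have hXsum : X = ∑ c : A, χ (c : (ZMod (p ^ n))ˣ)⁻¹ •
      (U ^ ((c : (ZMod (p ^ n))ˣ) : ZMod (p ^ n)).val - 1) := by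
    rw [hX, hY]
    simp only [Yp, map_sum, map_mul, map_pow, Polynomial.aeval_C, Polynomial.aeval_X,
      Finset.mul_sum]
    refine Finset.sum_congr rfl fun c _ => ?_
    rw [← Finset.mul_sum, ← Finset.mul_sum, ← Algebra.smul_def, mul_smul_comm, mul_geom_sum]
  refine ⟨X ^ (p - 1), ?_, ?_⟩
  · have hc : Commute (U - 1) Y := by
      have h := (Commute.all (Polynomial.X - 1 : Polynomial F) Yp).map (Polynomial.aeval U)
      simpa [hY] using h
    rw [hX, hc.mul_pow, Module.End.mul_eq_comp]
    exact LinearMap.range_comp_of_range_eq_top _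
      (LinearMap.range_eq_top.2 ((Module.End.isUnit_iff _).1 (hYu.pow _)).2)
  · intro R a ha hR
    have hRk : ∀ k : ℕ, R * U ^ k = U ^ ((a : ZMod (p ^ n)).val * k) * R := by
      intro k
      induction k with
      | zero => simp
      | succ k ih =>
        rw [pow_succ, ← mul_assoc, ih, mul_assoc, hR, ← mul_assoc, ← pow_add, Nat.mul_succ]
    have hmod : ∀ i j : ℕ, i % p ^ n = j % p ^ n → U ^ i = U ^ j := fun i j h => by
      rw [pow_eq_pow_mod i hU, pow_eq_pow_mod j hU, h]
    have haA : a ∈ A := ha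
    have hRX : R * X = (χ a • X) * R := by
      rw [hXsum, Finset.mul_sum, Finset.smul_sum, Finset.sum_mul]
      refine Fintype.sum_equiv (Equiv.mulLeft (⟨a, haA⟩ : A)) _ _ fun c => ?_
      rw [mul_smul_comm, mul_sub, hRk, mul_one, smul_smul, smul_mul_assoc, sub_mul, one_mul]
      congr 1
      · rw [← hχ]
        simp [mul_comm]
      · congr 2
        apply hmod
        simp [ZMod.val_mul, Nat.mod_mod]
    have hpow : ∀ k : ℕ, R * X ^ k = (χ a ^ k • X ^ k) * R := by
      intro k
      induction k with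
      | zero => simp
      | succ k ih =>
        rw [pow_succ X, ← mul_assoc, ih, mul_assoc, hRX, ← mul_assoc, smul_mul_smul_comm, ← pow_succ]
    have hχa : χ a ^ (p - 1) = 1 := by
      have e : ∀ k : ℕ, χ a ^ k = χ (a ^ k) := fun k => by simp [χ]
      rw [e, ha, hχ1]
    rw [hpow, hχa, one_smul]

/-- Let p be a prime and G a finite group whose Sylow p-subgroup P is cyclic of order p^n with n ≥ 2 and meets every other Sylow p-subgroup trivially. Then every faithful irreducible representation of G on a finite-dimensional space over a finite field of characteristic p has dimension at least p^n − (p − 1). -/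
theorem result {G : Type*} [Group G] [Finite G] (p : ℕ) [Fact p.Prime] (P : Sylow p G) (hcyc : IsCyclic P) (n : ℕ) (hn : 2 ≤ n) (hPn : Nat.card P = p ^ n) (hTI : ∀ Q : Sylow p G, Q ≠ P → (P : Subgroup G) ⊓ (Q : Subgroup G) = ⊥) (F : Type*) [Field F] [Finite F] [CharP F p] (V : Type*) [AddCommGroup V] [Module F V] [FiniteDimensional F V] (ρ : Representation F G V) (hfaith : Function.Injective ρ) (hirr : ρ.IsIrreducible) : p ^ n - (p - 1) ≤ Module.finrank F V := by
  classical
  set q := p ^ n with hq
  haveI : NeZero q := ⟨pow_ne_zero _ (Fact.out : p.Prime).ne_zero⟩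
  have hp2 := (Fact.out : p.Prime).two_le
  have hpq : p * p ≤ q := by
    rw [hq, ← pow_two]
    exact Nat.pow_le_pow_right (by omega) hn
  haveI : Nontrivial V := by
    by_contra hV
    rw [not_nontrivial_iff_subsingleton] at hV
    obtain ⟨g, hg⟩ := exists_prime_orderOf_dvd_card' (G := P) p
      (hPn ▸ dvd_pow_self p (by omega))
    have h1 : (g : G) = 1 := hfaith (LinearMap.ext fun v => Subsingleton.elim _ _)
    rw [show g = 1 from Subtype.ext h1, orderOf_one] at hg
    omega
  obtain ⟨g0, hg0⟩ := (Subgroup.isCyclic_iff_exists_zpowers_eq_top (P : Subgroup G)).1 hcyc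
  have hordg0 : orderOf g0 = q := by
    rw [← Nat.card_zpowers, hg0]
    exact hPn
  set U : Module.End F V := ρ g0 with hU
  set U' : Module.End F V := ρ g0⁻¹ with hU'
  have h1 : U * U' = 1 := by rw [hU, hU', ← map_mul, mul_inv_cancel, map_one]
  have h2 : U' * U = 1 := by rw [hU, hU', ← map_mul, inv_mul_cancel, map_one]
  have hUq : U ^ q = 1 := by rw [hU, ← map_pow, ← hordg0, pow_orderOf_eq_one, map_one]
  obtain ⟨φ, hφr, hφc⟩ := exists_eigen p n (by omega) U hUq
  set d := Module.finrank F V with hd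
  by_contra hcon
  push Not at hcon
  set N := U - 1 with hN
  have hNq : N ^ q = 0 := by
    have h := congrArg (Polynomial.aeval U) (sub_pow_char_pow (p := p) (n := n) (Polynomial.X : Polynomial F) 1)
    simpa [hq ▸ hUq] using h
  have hNd : N ^ d = 0 := by
    have h := IsNilpotent.charpoly_eq_X_pow_finrank (⟨q, hNq⟩ : IsNilpotent N)
    have h' := LinearMap.aeval_self_charpoly N
    rw [h] at h'
    simpa using h'
  -- commuting with the normalizer
  set H := Subgroup.normalizer ((P : Subgroup G) : Set G) with hH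
  have hg0P : g0 ∈ (P : Subgroup G) := hg0 ▸ Subgroup.mem_zpowers g0
  have hφH : ∀ h ∈ H, ρ h * φ = φ * ρ h := by
    intro h hh
    have hmem : h * g0 * h⁻¹ ∈ (P : Subgroup G) := (Subgroup.mem_normalizer_iff.1 hh g0).1 hg0P
    rw [← hg0, mem_zpowers_iff_mem_range_orderOf, hordg0] at hmem
    simp only [Finset.mem_image, Finset.mem_range] at hmem
    obtain ⟨c, hc, hc'⟩ := hmem
    have hco : Nat.Coprime c q := by
      have h3 : orderOf (g0 ^ c) = q := by
        rw [hc', orderOf_injective (MulAut.conj h).toMonoidHom (MulAut.conj h).injective g0 |>.trans hordg0 |> fun e => (show orderOf (h * g0 * h⁻¹) = q from e)]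
      by_cases hc0 : c = 0
      · rw [hc0, pow_zero, orderOf_one] at h3
        omega
      rw [orderOf_pow' g0 hc0, hordg0] at h3
      have hg : q.gcd c = 1 := by
        rcases Nat.div_eq_self.1 h3 with e | e
        · omega
        · exact e
      rw [Nat.Coprime, Nat.gcd_comm]; exact hg
    set a : (ZMod q)ˣ := ZMod.unitOfCoprime c hco with ha
    have hval : (a : ZMod q).val = c := by
      rw [ha, ZMod.coe_unitOfCoprime, ZMod.val_natCast, Nat.mod_eq_of_lt hc]
    have hiter : ∀ k : ℕ, h ^ k * g0 * (h ^ k)⁻¹ = g0 ^ (c ^ k) := by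
      intro k
      induction k with
      | zero => simp
      | succ k ih =>
        rw [pow_succ' h, mul_inv_rev, show h * h ^ k * g0 * ((h ^ k)⁻¹ * h⁻¹) =
          h * (h ^ k * g0 * (h ^ k)⁻¹) * h⁻¹ by simp [mul_assoc], ih, ← conj_pow, ← hc', ← pow_mul,
          ← pow_succ']
    set m := ((P : Subgroup G).subgroupOf H).index with hm
    have hm1 : a ^ m = 1 := by
      haveI : ((P : Subgroup G).subgroupOf H).Normal := Subgroup.normal_in_normalizer
      have hpow := Subgroup.pow_index_mem ((P : Subgroup G).subgroupOf H) (⟨h, hh⟩ : H)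
      rw [Subgroup.mem_subgroupOf, ← hg0] at hpow
      obtain ⟨i, hi⟩ := Subgroup.mem_zpowers_iff.1 hpow
      have h4 : g0 ^ (c ^ m) = g0 ^ 1 := by
        rw [← hiter m, pow_one]
        have : (h ^ m) = g0 ^ i := by rw [hi, hm, ← hg0, SubmonoidClass.coe_pow]
        rw [this, (Commute.zpow_self g0 i).eq, mul_assoc, mul_inv_cancel, mul_one]
      rw [pow_eq_pow_iff_modEq, hordg0, ← ZMod.natCast_eq_natCast_iff] at h4
      ext
      simpa [ha] using h4
    have hpm : ¬ p ∣ m := by
      intro hdvd
      apply P.not_dvd_index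
      exact hdvd.trans (Subgroup.relIndex_dvd_index_of_le Subgroup.le_normalizer)
    have hap : a ^ (p - 1) = 1 := by
      rw [← orderOf_dvd_iff_pow_eq_one]
      have hd1 : orderOf a ∣ m := orderOf_dvd_of_pow_eq_one hm1
      have hd2 : orderOf a ∣ p ^ (n - 1) * (p - 1) := by
        rw [← Nat.totient_prime_pow (Fact.out : p.Prime) (by omega : 0 < n), ← ZMod.card_units_eq_totient,
          ← Nat.card_eq_fintype_card]
        exact orderOf_dvd_natCard a
      refine Nat.Coprime.dvd_of_dvd_mul_left (Nat.Coprime.pow_right _ ?_) hd2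
      rw [Nat.coprime_comm, (Fact.out : p.Prime).coprime_iff_not_dvd]
      exact fun hh => hpm (hh.trans hd1)
    refine hφc (ρ h) a hap ?_
    rw [hval, hU, ← map_pow, ← map_mul, ← map_mul, hc', inv_mul_cancel_right]
  -- freeness
  have hfree : ∀ r : G, r ∉ H → ∀ x ∈ (P : Subgroup G), r⁻¹ * x * r ∈ H → x = 1 := by
    intro r hr x hx hxr
    have hy : r⁻¹ * x * r ∈ (P : Subgroup G) := by
      have hz : IsPGroup p (Subgroup.zpowers (r⁻¹ * x * r)) := by
        obtain ⟨k, hk⟩ := (IsPGroup.iff_orderOf.1 P.2) ⟨x, hx⟩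
        refine IsPGroup.of_card (n := k) ?_
        rw [Nat.card_zpowers, ← hk, Subgroup.orderOf_mk]
        have := orderOf_injective (MulAut.conj r⁻¹).toMonoidHom (MulAut.conj r⁻¹).injective x
        simpa using this
      have hsup : IsPGroup p ((Subgroup.zpowers (r⁻¹ * x * r)) ⊔ (P : Subgroup G) : Subgroup G) :=
        hz.to_sup_of_normal_right' P.2 ((Subgroup.zpowers_le).2 hxr)
      have := P.3 hsup le_sup_right
      rw [← this]
      exact Subgroup.mem_sup_left (Subgroup.mem_zpowers _)
    have hne : r • P ≠ P := by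
      intro h
      exact hr (Sylow.smul_eq_iff_mem_normalizer.1 h)
    have h3 := hTI (r • P) hne
    have h4 : x ∈ (P : Subgroup G) ⊓ ((r • P : Sylow p G) : Subgroup G) := by
      refine ⟨hx, ?_⟩
      change x ∈ MulAut.conj r • (P : Subgroup G)
      rw [Subgroup.mem_pointwise_smul_iff_inv_smul_mem]
      simpa [MulAut.smul_def] using hy
    rwa [h3, Subgroup.mem_bot] at h4
  haveI : Fintype (P : Subgroup G) := Fintype.ofFinite _
  obtain ⟨ψ, hψ⟩ := H58.TITrace.coset_trace ρ H (P : Subgroup G) Subgroup.le_normalizer hfree φ hφH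
  set τ := ∑ x : (P : Subgroup G), ρ (x : G) * ψ * ρ (x : G)⁻¹ with hτ
  have hτ' : τ = ∑ i ∈ Finset.range q, U ^ i * ψ * U' ^ i := by
    rw [hτ]
    symm
    refine Finset.sum_bij (fun i _ => (⟨g0 ^ i, pow_mem hg0P i⟩ : (P : Subgroup G)))
      (fun i _ => Finset.mem_univ _) ?_ ?_ ?_
    · intro i hi j hj hij
      rw [Finset.mem_range, ← hordg0] at hi hj
      exact pow_injOn_Iio_orderOf hi hj (congrArg Subtype.val hij)
    · rintro ⟨x, hx⟩ -
      rw [← hg0, mem_zpowers_iff_mem_range_orderOf, hordg0] at hx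
      simp only [Finset.mem_image] at hx
      obtain ⟨i, hi, rfl⟩ := hx
      exact ⟨i, hi, rfl⟩
    · intro i _
      simp [hU, hU', ← map_pow]
  have hτr : LinearMap.range τ ≤ LinearMap.range (N ^ (q - d)) := by
    rw [hτ']
    exact H58.TITrace.trace_range p n U U' h2 h1 d (q - d) hNd (by omega) ψ
  have hrange1 : ∀ k, 1 ≤ k → LinearMap.range (N ^ k) ≤ LinearMap.range N := by
    intro k hk
    rw [show k = 1 + (k - 1) by omega, pow_add, pow_one]
    exact LinearMap.range_comp_le_range _ _
  have hT : LinearMap.range (φ + τ) ≤ LinearMap.range N := by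
    rintro _ ⟨v, rfl⟩
    exact add_mem (hrange1 (p - 1) (by omega) (hφr ▸ LinearMap.mem_range_self φ v))
      (hrange1 (q - d) (by omega) (hτr (LinearMap.mem_range_self τ v)))
  have hNne : LinearMap.range N ≠ ⊤ := by
    intro h
    have hs : Function.Surjective (⇑(N ^ q)) := by
      rw [Module.End.coe_pow]
      exact (LinearMap.range_eq_top.1 h).iterate q
    rw [hNq] at hs
    obtain ⟨v, hv⟩ := exists_ne (0 : V)
    obtain ⟨w, hw⟩ := hs v
    exact hv hw.symm
  let W : Subrepresentation ρ := ⟨LinearMap.range (φ + τ), fun g v hv => by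
    obtain ⟨u, rfl⟩ := hv
    exact ⟨ρ g u, (LinearMap.congr_fun (hψ g).eq u).symm⟩⟩
  let B : Subrepresentation ρ := ⟨⊥, fun g v hv => by simp_all⟩
  let T : Subrepresentation ρ := ⟨⊤, fun g v hv => trivial⟩
  have hbot : LinearMap.range (φ + τ) = ⊥ := by
    haveI : IsSimpleOrder (Subrepresentation ρ) := hirr
    have hBT : B ≠ T := fun h => by
      have := congrArg Subrepresentation.toSubmodule h
      exact bot_ne_top this
    rcases eq_or_ne W B with h | h
    · exact congrArg Subrepresentation.toSubmodule h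
    · exfalso
      apply hNne
      rw [eq_top_iff]
      refine le_trans ?_ hT
      have hB : B = ⊥ ∨ B = ⊤ := IsSimpleOrder.eq_bot_or_eq_top B
      have hBle : B ≤ T := fun v _ => trivial
      rcases hB with hB | hB
      · rcases IsSimpleOrder.eq_bot_or_eq_top W with hW | hW
        · exact absurd (hW.trans hB.symm) h
        · intro v _
          have : T ≤ W := hW ▸ le_top
          exact this (trivial : v ∈ T)
      · exact absurd (le_antisymm hBle (hB ▸ le_top)) hBT
  have hφτ : LinearMap.range φ ≤ LinearMap.range (N ^ (q - d)) := by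
    rintro _ ⟨v, rfl⟩
    rw [LinearMap.range_eq_bot] at hbot
    have := LinearMap.congr_fun hbot v
    rw [LinearMap.add_apply, LinearMap.zero_apply, add_eq_zero_iff_eq_neg] at this
    rw [this]
    exact neg_mem (hτr (LinearMap.mem_range_self τ v))
  rw [hφr] at hφτ
  have hzero : N ^ (p - 1) = 0 := pow_eq_zero_of_range_le N (by omega) hNd hφτ
  have hNp : N ^ p = 0 := pow_eq_zero_of_le (by omega) hzero
  have hUp : U ^ p = 1 := by
    have h := congrArg (Polynomial.aeval U) (sub_pow_char (p := p) (Polynomial.X : Polynomial F) 1)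
    simp only [map_pow, map_sub, Polynomial.aeval_X, map_one, one_pow, ← hN, hNp] at h
    exact (sub_eq_zero.1 h.symm)
  have hgp : g0 ^ p = 1 := hfaith (by rw [map_pow, map_one]; exact hUp)
  have := Nat.le_of_dvd (by omega) (orderOf_dvd_of_pow_eq_one hgp)
  rw [hordg0] at this
  nlinarith

end Cfsg.Agent.S4699
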