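import Cfsg.Statements.S4704
import Cfsg.Agent.H15.Degree.Main

set_option autoImplicit false
open Cfsg

namespace Cfsg.Agent.S4704

/-- Let G be a finite group with centre Z, p > 7 a prime, and suppose a Sylow p-subgroup of G has order p and is not normal. Let ζ be a faithful irreducible character of G and t the number of conjugacy classes of G consisting of elements of order p. Then one of the following holds: G/Z is isomorphic to PSL(2, p), ζ has degree (p + 1)/2 or (p − 1)/2 and t = 2; or ζ has degree at least p − 1; or ζ has degree at least p + 3/2 − √(p + 5/4) and p ≤ t^2 − 3t + 1. -/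
theorem result {G : Type*} [Group G] [Finite G] (p : ℕ) [Fact p.Prime] (hp : 7 < p) (P : Sylow p G) (hP : Nat.card P = p) (hnn : ¬ (P : Subgroup G).Normal) (ζ : G → ℂ) (hζ : Cfsg.IsIrrCharacter G ζ) (hfaith : ∀ g : G, ζ g = ζ 1 → g = 1) (t : ℕ) (ht : Nat.card {c : ConjClasses G // ∃ g : G, ConjClasses.mk g = c ∧ orderOf g = p} = t) : ((∃ (F : Type) (_ : Field F) (_ : Fintype F), Fintype.card F = p ∧ Nonempty (G ⧸ Subgroup.center G ≃* Matrix.ProjectiveSpecialLinearGroup (Fin 2) F)) ∧ (2 * Cfsg.charDegree ζ = p + 1 ∨ 2 * Cfsg.charDegree ζ = p - 1) ∧ t = 2) ∨ p - 1 ≤ Cfsg.charDegree ζ ∨ ((p : ℝ) + 3 / 2 - Real.sqrt ((p : ℝ) + 5 / 4) ≤ (Cfsg.charDegree ζ : ℝ) ∧ (p : ℤ) ≤ (t : ℤ) ^ 2 - 3 * t + 1) := by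
  letI : Fintype G := Fintype.ofFinite G
  rw [H20.charDegree_eq_degree]
  rcases Nat.lt_or_ge (H12.degree ζ + 1) p with hlt | hge
  swap
  · exact Or.inr (Or.inl (by omega))
  rcases H15.Degree.main hp P hP hnn ζ hζ hfaith (by omega) with ⟨h1, h2, h3⟩ |
    ⟨f, t', ht', hft, ht3, hadd, hcases, -⟩
  · refine Or.inl ⟨⟨ZMod p, inferInstance, inferInstance, ZMod.card p, h1⟩, h2, ?_⟩
    omega
  · obtain rfl : t' = t := ht'.symm.trans ht
    refine Or.inr (Or.inr ?_)
    have hf3 : f + 3 ≤ t' := by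
      rcases hcases with rfl | ⟨-, hle⟩
      · by_contra hlt'
        have ht4 : t' = 4 := by omega
        subst ht4
        exact absurd (hft ▸ (Fact.out : p.Prime)) (by norm_num)
      · exact hle
    have hpR : (p : ℝ) = f * t' + 1 := by exact_mod_cast hft.symm
    have hfR : (f : ℝ) + 3 ≤ t' := by exact_mod_cast hf3
    have hdR : (H12.degree ζ : ℝ) + f = p := by exact_mod_cast hadd
    have h4 := mul_le_mul_of_nonneg_left hfR (Nat.cast_nonneg (α := ℝ) f)
    have h5 : (f : ℝ) + 3 / 2 ≤ Real.sqrt ((p : ℝ) + 5 / 4) :=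
      Real.le_sqrt_of_sq_le (by linarith)
    refine ⟨by linarith, ?_⟩
    have hfZ : (f : ℤ) + 3 ≤ t' := by exact_mod_cast hf3
    have hpZ : (p : ℤ) = f * t' + 1 := by exact_mod_cast hft.symm
    have h6 := mul_le_mul_of_nonneg_right hfZ (Int.natCast_nonneg t')
    linarith

end Cfsg.Agent.S4704
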