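import Cfsg.Statements.S4708
import Cfsg.Agent.H21.CoverAll
import Cfsg.Agent.H22.Klein
import Cfsg.Agent.H12.InvConstituents
import Cfsg.Agent.H12.Induction
import Cfsg.Agent.H24.CharBasic

set_option autoImplicit false
set_option linter.style.haveILetI false
open Cfsg

namespace Cfsg.Agent.S4708

/-- Let p be a prime, M a maximal ideal of the algebraic integers containing p, G a finite group and H a normal subgroup. Write λ(X) for the sum of the squares of the degrees of the irreducible characters in the principal p-block of a group X. Then λ(H) ≤ λ(G) ≤ [G : H]·λ(H). -/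
theorem result {G : Type*} [Group G] [Finite G] (p : ℕ) [Fact p.Prime] (M : Ideal Cfsg.AlgInt) (hM : Cfsg.IsPModular p M) (H : Subgroup G) [H.Normal] : (∑ᶠ θ ∈ Cfsg.principalBlock M H, Cfsg.charDegree (θ : H → ℂ) ^ 2) ≤ (∑ᶠ χ ∈ Cfsg.principalBlock M G, Cfsg.charDegree (χ : G → ℂ) ^ 2) ∧ (∑ᶠ χ ∈ Cfsg.principalBlock M G, Cfsg.charDegree (χ : G → ℂ) ^ 2) ≤ H.index * ∑ᶠ θ ∈ Cfsg.principalBlock M H, Cfsg.charDegree (θ : H → ℂ) ^ 2 := by
  classical
  haveI := Fintype.ofFinite G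
  haveI := Fintype.ofFinite H
  haveI := H20.isPrime_of_modular hM
  haveI : Fact p.Prime := ⟨hM.1⟩
  let A := H22.blockFinset (principalBlock M G)
  let S := H22.blockFinset (principalBlock M H)
  let r : IrrCharacter G → IrrCharacter H → ℕ := H12.Glauberman.mult H
  let dG : IrrCharacter G → ℕ := fun χ => charDegree (χ : G → ℂ)
  let dH : IrrCharacter H → ℕ := fun θ => charDegree (θ : H → ℂ)
  have hdG : ∀ χ : IrrCharacter G, (χ : G → ℂ) 1 = (dG χ : ℂ) := fun χ => H24.irr_one χ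
  have hdH : ∀ θ : IrrCharacter H, (θ : H → ℂ) 1 = (dH θ : ℂ) := fun θ => H24.irr_one θ
  have hr : ∀ (χ : IrrCharacter G) (θ : IrrCharacter H),
      classInner (fun n : H => (χ : G → ℂ) n) (θ : H → ℂ) = (r χ θ : ℂ) :=
    fun χ θ => H12.Glauberman.classInner_eq_mult H χ θ
  have hcov : ∃ χ ∈ principalBlock M G, ∃ θ ∈ principalBlock M H,
      classInner (fun n : H => (χ : G → ℂ) n) (θ : H → ℂ) ≠ 0 :=
    ⟨H12.oneIrr G, H20.mem_blockOf_self (M := M) (H12.oneIrr G), H12.oneIrr H,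
      H20.mem_blockOf_self (M := M) (H12.oneIrr H), by
        rw [show (fun n : H => (H12.oneIrr G : G → ℂ) n) = (H12.oneIrr H : H → ℂ) from rfl,
          H12.classInner_irr_self]
        exact one_ne_zero⟩
  -- the restriction of a member of the principal block stays in the principal block
  have hdown : ∀ χ ∈ principalBlock M G, ∀ θ, r χ θ ≠ 0 → θ ∈ principalBlock M H := by
    intro χ hχ θ hθ
    obtain ⟨χ₀, hχ₀, θ₀, hθ₀, hc⟩ := hcov
    obtain ⟨g, hg⟩ := H21.covered_conj H H20.isPBlock_principalBlock H20.isPBlock_principalBlock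
      χ₀ hχ₀ θ₀ hθ₀ hc χ hχ θ (by rw [hr]; exact_mod_cast hθ)
    refine (H22.Klein.mem_principalBlock_irrCongr (MulAut.conjNormal g : H ≃* H) θ).1 ?_
    have heq : H12.irrCongr (MulAut.conjNormal g : H ≃* H) θ = H21.conjChar H g θ :=
      Subtype.ext (funext fun n => by rw [H12.irrCongr_apply]; rfl)
    rw [heq]
    exact hg
  -- expansions at the identity
  have hres : ∀ χ ∈ A, ∑ θ ∈ S, r χ θ * dH θ = dG χ := by
    intro χ hχ
    have h : (χ : G → ℂ) ((1 : H) : G) = _ := H12.classFunction_apply_eq_sum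
      (f := fun n : H => (χ : G → ℂ) n) (fun a b => by
        simpa using H12.irr_isClassFunction χ (a : G) (b : G)) 1
    rw [OneMemClass.coe_one, hdG, ← Finset.sum_subset (Finset.subset_univ S) (fun θ _ hθ => ?_)] at h
    · have h' : (dG χ : ℂ) = ((∑ θ ∈ S, r χ θ * dH θ : ℕ) : ℂ) := by
        rw [h]
        push_cast
        exact Finset.sum_congr rfl fun θ _ => by rw [hr, hdH]
      exact_mod_cast h'.symm
    · rw [hr]
      by_contra h0
      exact hθ (H22.mem_blockFinset.2 (hdown χ (H22.mem_blockFinset.1 hχ) θ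
        (fun h1 => h0 (by simp [h1]))))
  have hind : ∀ θ : IrrCharacter H, ∑ χ, r χ θ * dG χ = H.index * dH θ := by
    intro θ
    have h := H12.classFunction_apply_eq_sum (H12.indFun_isClassFunction H (θ : H → ℂ)) 1
    rw [H12.indFun_one, hdH] at h
    have h' : ((H.index * dH θ : ℕ) : ℂ) = ((∑ χ, r χ θ * dG χ : ℕ) : ℂ) := by
      push_cast
      rw [h]
      refine Finset.sum_congr rfl fun χ _ => ?_
      rw [H12.classInner_indFun H _ (H12.irr_isClassFunction χ), hdG,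
        ← H12.conj_classInner (fun n : H => (χ : G → ℂ) n), hr, map_natCast]
    exact_mod_cast h'.symm
  have hkey : ∑ χ ∈ A, dG χ ^ 2 = ∑ θ ∈ S, dH θ * ∑ χ ∈ A, r χ θ * dG χ := by
    rw [Finset.sum_congr rfl fun χ hχ => show dG χ ^ 2 = ∑ θ ∈ S, dH θ * (r χ θ * dG χ) by
      rw [sq]
      conv_lhs => arg 1; rw [← hres χ hχ]
      rw [Finset.sum_mul]
      exact Finset.sum_congr rfl fun θ _ => by ring, Finset.sum_comm]
    exact Finset.sum_congr rfl fun θ _ => (Finset.mul_sum _ _ _).symm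
  rw [H22.finsum_mem_block, H22.finsum_mem_block]
  show ∑ θ ∈ S, dH θ ^ 2 ≤ ∑ χ ∈ A, dG χ ^ 2 ∧ ∑ χ ∈ A, dG χ ^ 2 ≤ H.index * ∑ θ ∈ S, dH θ ^ 2
  rw [hkey]
  refine ⟨Finset.sum_le_sum fun θ hθ => ?_, ?_⟩
  · obtain ⟨χ₀, hχ₀, θ₀, hθ₀, hc⟩ := hcov
    obtain ⟨χ, hχ, hne⟩ := H21.cover_all H H20.isPBlock_principalBlock H20.isPBlock_principalBlock
      hχ₀ hθ₀ hc (H22.mem_blockFinset.1 hθ)
    rw [hr, Nat.cast_ne_zero] at hne
    have hχA : χ ∈ A := H22.mem_blockFinset.2 hχ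
    have hle : r χ θ * dH θ ≤ dG χ := hres χ hχA ▸
      Finset.single_le_sum (f := fun θ => r χ θ * dH θ) (fun _ _ => Nat.zero_le _) hθ
    rw [sq]
    refine Nat.mul_le_mul_left _ (le_trans ?_
      (Finset.single_le_sum (f := fun χ => r χ θ * dG χ) (fun _ _ => Nat.zero_le _) hχA))
    calc dH θ ≤ r χ θ * dH θ := Nat.le_mul_of_pos_left _ (Nat.pos_of_ne_zero hne)
      _ ≤ dG χ := hle
      _ ≤ r χ θ * dG χ := Nat.le_mul_of_pos_left _ (Nat.pos_of_ne_zero hne)
  · rw [Finset.mul_sum]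
    refine Finset.sum_le_sum fun θ _ => ?_
    calc dH θ * ∑ χ ∈ A, r χ θ * dG χ ≤ dH θ * ∑ χ, r χ θ * dG χ :=
          Nat.mul_le_mul_left _ (Finset.sum_le_sum_of_subset (Finset.subset_univ A))
      _ = H.index * dH θ ^ 2 := by rw [hind θ]; ring

end Cfsg.Agent.S4708
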