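import Cfsg.Statements.S4712
import Cfsg.Agent.H19.PRational
import Mathlib.RingTheory.ZMod.UnitsCyclic
-- import your own Cfsg.Agent.* helpers here

set_option autoImplicit false
open Cfsg

namespace Cfsg.Agent.S4712

/-- Let p be an odd prime, M a maximal ideal of the algebraic integers containing p, G a finite group of order n with p-part p^a, and B a p-block of G. Call an irreducible character χ p-rational when χ(g^k) = χ(g) for every g and every k coprime to n with k ≡ 1 modulo n/p^a (χ is fixed by the Galois automorphisms fixing the roots of unity of order prime to p). Then the number of p-rational irreducible characters in B is at least the p-regular rank of B (the number of irreducible Brauer characters in B). -/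
theorem result {G : Type*} [Group G] [Finite G] (p : ℕ) [Fact p.Prime] (hodd : p ≠ 2) (M : Ideal Cfsg.AlgInt) (hM : Cfsg.IsPModular p M) (B : Set (Cfsg.IrrCharacter G)) (hB : Cfsg.IsPBlock M B) : Cfsg.blockRank p B ≤ Nat.card {χ : Cfsg.IrrCharacter G // χ ∈ B ∧ ∀ k : ℕ, Nat.Coprime k (Nat.card G) → k ≡ 1 [MOD Nat.card G / p ^ (Nat.card G).factorization p] → ∀ g : G, (χ : G → ℂ) (g ^ k) = (χ : G → ℂ) g} := by
  classical
  haveI := Fintype.ofFinite G
  haveI := H20.isPrime_of_modular hM
  haveI : IsAlgClosed (H20.k M) := H23.isAlgClosed_k (H20.isMaximal_of_modular hM)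
  have hp := (Fact.out : p.Prime)
  set a := (Nat.card G).factorization p with ha
  set q := Nat.card G / p ^ a with hq
  have hn : p ^ a * q = Nat.card G := Nat.ordProj_mul_ordCompl_eq_self (Nat.card G) p
  have hcop : (p ^ a).Coprime q :=
    (Nat.coprime_ordCompl hp Nat.card_pos.ne').pow_left a
  haveI : NeZero (p ^ a) := ⟨pow_ne_zero _ hp.ne_zero⟩
  obtain ⟨u, hu⟩ := (ZMod.isCyclic_units_of_prime_pow p hp hodd a).exists_generator
  obtain ⟨k₀, hk1, hk2⟩ := Nat.chineseRemainder hcop (u : ZMod (p ^ a)).val 1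
  have hk0 : k₀.Coprime (Nat.card G) := by
    rw [← hn]
    refine Nat.Coprime.mul_right ?_ ?_
    · have h := ZMod.val_coe_unit_coprime u
      rw [Nat.coprime_iff_gcd_eq_one] at h ⊢
      rw [Nat.ModEq.gcd_eq hk1, h]
    · rw [Nat.coprime_iff_gcd_eq_one, Nat.ModEq.gcd_eq hk2, Nat.gcd_one_left]
  refine (H19.PRat.blockRank_le_fixed hM hB hk0 hk2).trans
    (Nat.card_le_card_of_injective (fun χ => ⟨χ.1, χ.2.1, fun k hk hkq g => ?_⟩)
      fun χ ψ h => Subtype.ext (congrArg Subtype.val h :))
  have hfix : ∀ (j : ℕ) (g : G),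
      (χ.1 : G → ℂ) (g ^ k₀ ^ j) = (χ.1 : G → ℂ) g := by
    intro j
    induction j with
    | zero => simp
    | succ j ih => intro g; rw [pow_succ', pow_mul, ih, χ.2.2]
  have hkp : k.Coprime (p ^ a) := by
    rw [← hn] at hk
    exact hk.coprime_mul_right_right
  obtain ⟨j, hj⟩ := (mem_powers_iff_mem_zpowers.2 (hu (ZMod.unitOfCoprime k hkp)) :)
  have hmod1 : k ≡ k₀ ^ j [MOD p ^ a] := by
    rw [← ZMod.natCast_eq_natCast_iff, Nat.cast_pow,
      show (k₀ : ZMod (p ^ a)) = (u : ZMod (p ^ a)) by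
        rw [← ZMod.natCast_zmod_val (u : ZMod (p ^ a))]
        exact (ZMod.natCast_eq_natCast_iff _ _ _).2 hk1]
    have h : ((u ^ j : (ZMod (p ^ a))ˣ) : ZMod (p ^ a)) = (k : ZMod (p ^ a)) := by
      rw [show u ^ j = ZMod.unitOfCoprime k hkp from hj, ZMod.coe_unitOfCoprime]
    rw [← h, Units.val_pow_eq_pow_val]
  have hmod2 : k ≡ k₀ ^ j [MOD q] := by
    refine hkq.trans ?_
    have := (hk2.pow j).symm
    rwa [one_pow] at this
  have hmod : k ≡ k₀ ^ j [MOD Nat.card G] := by
    rw [← hn]
    exact (Nat.modEq_and_modEq_iff_modEq_mul hcop).1 ⟨hmod1, hmod2⟩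
  rw [pow_eq_pow_iff_modEq.2 (hmod.of_dvd (orderOf_dvd_natCard g))]
  exact hfix j g

end Cfsg.Agent.S4712
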