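import Cfsg.Statements.S4717
import Cfsg.Agent.H23.LocalBlock
import Cfsg.Agent.H20.CentralClass
import Cfsg.Agent.H20.ThirdMain
import Cfsg.Agent.H20.SecondMainApps
-- import your own Cfsg.Agent.* helpers here

set_option autoImplicit false
open Cfsg

open H23

namespace Cfsg.Agent.S4717

/-- Let p be a prime, M a maximal ideal of the algebraic integers containing p, and r a natural number; say that a finite group X has deficiency class r when X has no non-principal p-block of defect ≥ r. If G has deficiency class r then so does the centralizer of every p-element of G; conversely, if r > 0 and the centralizer of every element of order p has deficiency class r, then G has deficiency class r. -/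
theorem result {G : Type*} [Group G] [Finite G] (p : ℕ) [Fact p.Prime] (M : Ideal Cfsg.AlgInt) (hM : Cfsg.IsPModular p M) (r : ℕ) : ((∀ B' : Set (Cfsg.IrrCharacter G), Cfsg.IsPBlock M B' → B' ≠ Cfsg.principalBlock M G → Cfsg.blockDefect p B' < r) → ∀ y : G, (∃ k : ℕ, orderOf y = p ^ k) → (∀ B' : Set (Cfsg.IrrCharacter ↥(Subgroup.centralizer ({y} : Set G))), Cfsg.IsPBlock M B' → B' ≠ Cfsg.principalBlock M ↥(Subgroup.centralizer ({y} : Set G)) → Cfsg.blockDefect p B' < r)) ∧ (0 < r → (∀ y : G, orderOf y = p → (∀ B' : Set (Cfsg.IrrCharacter ↥(Subgroup.centralizer ({y} : Set G))), Cfsg.IsPBlock M B' → B' ≠ Cfsg.principalBlock M ↥(Subgroup.centralizer ({y} : Set G)) → Cfsg.blockDefect p B' < r)) → (∀ B' : Set (Cfsg.IrrCharacter G), Cfsg.IsPBlock M B' → B' ≠ Cfsg.principalBlock M G → Cfsg.blockDefect p B' < r)) := by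
  classical
  haveI := Fintype.ofFinite G
  haveI := hM.2.1.isPrime
  haveI := H20.k_charP (p := p) hM
  haveI := H23.isAlgClosed_k hM.2.1
  refine ⟨fun hG y hy b hb hne => ?_, fun hr hC B hB hne => ?_⟩
  · haveI := Fintype.ofFinite (Subgroup.centralizer ({y} : Set G))
    obtain ⟨B, hind⟩ := H20.exists_block_induced hM y hy hb
    have hBne : B ≠ Cfsg.principalBlock M G := fun h => hne ((H20.third_main hM _ ⟨_, hind⟩).1 (h ▸ hind))
    obtain ⟨D, hD⟩ := H20.exists_defectGroup hM hb
    obtain ⟨E, hE, hDE⟩ := H20.inducedBlock_defectGroup_le hM _ hind hD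
    have h1 := Subgroup.card_le_of_le hDE
    rw [Subgroup.card_map_of_injective (Subgroup.subtype_injective _),
      H20.card_defectGroup hM hb hD, H20.card_defectGroup hM hind.2.1 hE] at h1
    exact lt_of_le_of_lt ((Nat.pow_le_pow_iff_right (Fact.out : p.Prime).one_lt).1 h1)
      (hG B hind.2.1 hBne)
  by_contra hlt
  obtain ⟨P, e, hP⟩ := exists_maxPair (p := p) hB
  have hPcard := H20.card_defectGroup hM hB (isDefectGroup_of_isMax hB hP)
  have hP1 : 1 < Nat.card P := by
    rw [hPcard]
    exact Nat.one_lt_pow (by omega) (Fact.out : p.Prime).one_lt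
  haveI : Nontrivial P := Finite.one_lt_card_iff_nontrivial.1 hP1
  haveI : Nontrivial (Subgroup.center P) := hP.1.1.center_nontrivial
  obtain ⟨n, hn⟩ := (hP.1.1.to_subgroup (Subgroup.center P)).exists_card_eq
  have hpdvd : p ∣ Nat.card (Subgroup.center P) := by
    rcases n with _ | n
    · exact absurd (Finite.one_lt_card (α := Subgroup.center P)) (by rw [hn, pow_zero]; exact lt_irrefl 1)
    · exact hn ▸ dvd_pow_self p (Nat.succ_ne_zero n)
  obtain ⟨z, hz⟩ := exists_prime_orderOf_dvd_card' p hpdvd
  set y : G := ((z : P) : G) with hydef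
  have hy : orderOf y = p := by rw [hydef, Subgroup.orderOf_coe, Subgroup.orderOf_coe, hz]
  have hzc : Subgroup.centralizer ({y} : Set G) =
      Subgroup.centralizer ((Subgroup.zpowers y : Subgroup G) : Set G) := by
    rw [Subgroup.zpowers_eq_closure, Subgroup.centralizer_closure]
  have hPC : P ≤ Subgroup.centralizer ((Subgroup.zpowers y : Subgroup G) : Set G) := by
    rw [← hzc]
    intro a ha
    rw [mem_centralizer_singleton]
    exact (congrArg Subtype.val (Subgroup.mem_center_iff.1 z.2 ⟨a, ha⟩)).symm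
  have hQP : Subgroup.zpowers y ≤ P := Subgroup.zpowers_le.2 (z : P).2
  obtain ⟨f, hf⟩ := exists_le p hP.1 hQP
  have hfp : IsPair p (Subgroup.zpowers y) f := hf.pair_left p hP.1
  obtain ⟨R, h, hl⟩ := exists_locMax p hfp le_sup_left le_sup_right (withCent_le_stab p hfp)
  obtain ⟨f', hf'b, hf'⟩ := exists_of_isPair hfp
  have hD := isDefectGroup_cent hM hl hf'b.2 hf'
  obtain ⟨c, -, hc⟩ := hl.inf_cent_le p hP.1 (y := 1) (by rwa [cjS_one, cj_one])
  rw [inv_one, cjS_one, inf_eq_left.2 hPC] at hc
  have h2 := Subgroup.card_le_of_le hc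
  haveI := Fintype.ofFinite (Subgroup.centralizer ((Subgroup.zpowers y : Subgroup G) : Set G))
  rw [card_cjS, ← card_subgroupOf inf_le_right, H20.card_defectGroup hM hf'b.2 hD, hPcard] at h2
  have hdef := (Nat.pow_le_pow_iff_right (Fact.out : p.Prime).one_lt).1 h2
  -- `f'` is not principal
  have hne' : f' ≠ Cfsg.principalBlock M _ := by
    intro h3
    have haug : aug f = 1 := by rw [← hf', h3]; exact aug_eG_principal _
    have h4 := inBlk_principal p (isBlk_eB (M := M) (H20.isPBlock_principalBlock (G := G)))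
      aug_eB_principal hfp haug
    have h5 : InBlk (eB M B) (Subgroup.zpowers y) f :=
      (Le.inBlk_iff p hf (cidem_eB hB)).1 hP.2.1
    exact hne (eB_injective hB H20.isPBlock_principalBlock
      (inBlk_unique p hfp (isBlk_eB hB) (isBlk_eB H20.isPBlock_principalBlock) h5 h4))
  have hC' := hC y hy
  rw [hzc] at hC'
  have := hC' f' hf'b.2 hne'
  omega

end Cfsg.Agent.S4717
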