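import Cfsg.Statements.S4718
import Cfsg.Agent.H11.Landau
import Cfsg.Agent.H22.DeltaInt
import Cfsg.Agent.H22.BlockClasses

set_option autoImplicit false
universe u
open Cfsg

namespace Cfsg.Agent.S4718

/-- Let p be a prime and a a natural number. There is a bound N such that every finite group whose Sylow p-subgroups have order p^a and whose only p-block (relative to a maximal ideal of the algebraic integers containing p) is the principal block has order at most N. -/
theorem result (p : ℕ) [Fact p.Prime] (a : ℕ) : ∃ N : ℕ, ∀ (G : Type u) [Group G] [Finite G] (M : Ideal Cfsg.AlgInt), Cfsg.IsPModular p M → (Nat.card G).factorization p = a → (∀ B : Set (Cfsg.IrrCharacter G), Cfsg.IsPBlock M B → B = Cfsg.principalBlock M G) → Nat.card G ≤ N := by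
  obtain ⟨N, hN⟩ := H11.exists_card_le_of_classes.{u} (p ^ (2 * a) + 4)
  refine ⟨N, fun G _ _ M hM hfac hone => hN G ?_⟩
  haveI := Fintype.ofFinite G
  haveI : M.IsPrime := hM.2.1.isPrime
  have hall : ∀ χ : IrrCharacter G, χ ∈ principalBlock M G := fun χ => by
    rw [← hone _ ⟨χ, rfl⟩]; exact H20.mem_blockOf_self χ
  have h := H22.four_mul_card_le hM (B := principalBlock M G)
    ⟨H12.oneIrr G, rfl⟩
  rw [H22.blockDefect_principalBlock, hfac,
    Nat.card_congr (Equiv.subtypeUnivEquiv hall : _ ≃ IrrCharacter G), H12.card_irrCharacter] at h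
  omega

end Cfsg.Agent.S4718
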