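import Cfsg.Statements.S4721
import Cfsg.Agent.H20.PrincipalFreeSquare

set_option autoImplicit false
set_option linter.style.haveILetI false
open Cfsg

namespace Cfsg.Agent.S4721

/-- Let p be a prime, M a maximal ideal of the algebraic integers containing p, and G a finite group with a nontrivial abelian Sylow p-subgroup P, N = N_G(P), C = C_G(P), such that N/C is cyclic of order 3, #P > 4, and C_G(y) ∩ N = C for every non-identity y ∈ P. Then the principal p-block is the disjoint union of a set X of exactly 3 characters containing the principal character and a set Y of (#P − 1)/3 characters, with signs a_χ = ±1 (χ ∈ X, a = 1 at the principal character) and δ = ±1 such that every χ ∈ X takes the value a_χ at every element whose p-part is a non-identity element of P, and there is a map ζ from the non-principal linear characters of P onto Y, constant on N-conjugacy classes, with ζ_ψ(z) = δ·Σ ψ'(y) over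 the N-orbit of ψ, for z with p-part y ≠ 1 in P. If moreover G has an involution lying in no proper normal subgroup of G, then exactly two of the three numbers −δ and a_χ (χ ∈ X non-principal) equal −1, and the product of the degrees of the two non-principal members of X and of any member of Y is a perfect square. -/
theorem result {G : Type*} [Group G] [Finite G] (p : ℕ) [Fact p.Prime] (M : Ideal Cfsg.AlgInt) (hM : Cfsg.IsPModular p M) (P : Sylow p G) (hab : IsMulCommutative P) (hP1 : Nat.card P ≠ 1) (hCN : (Subgroup.centralizer ((P : Subgroup G) : Set G)).relIndex (Subgroup.normalizer ((P : Subgroup G) : Set G)) = 3) (hcyc : ∃ g : G, g ∈ Subgroup.normalizer ((P : Subgroup G) : Set G) ∧ Subgroup.centralizer ((P : Subgroup G) : Set G) ⊔ Subgroup.zpowers g = Subgroup.normalizer ((P : Subgroup G) : Set G)) (hm2 : 3 + 1 < Nat.card P) (hfrob : ∀ y : G, y ∈ (P : Subgroup G) → y ≠ 1 → Subgroup.centralizer ({y}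 : Set G) ⊓ Subgroup.normalizer ((P : Subgroup G) : Set G) = Subgroup.centralizer ((P : Subgroup G) : Set G)) : ∃ (X Y : Set (Cfsg.IrrCharacter G)), Cfsg.principalBlock M G = X ∪ Y ∧ Disjoint X Y ∧ Nat.card X = 3 ∧ Nat.card Y = (Nat.card P - 1) / 3 ∧ (∃ χ₁ ∈ X, (χ₁ : G → ℂ) = fun _ => 1) ∧ ∃ (a : Cfsg.IrrCharacter G → ℤ) (δ : ℤ) (ζ : (↥(P : Subgroup G) →* ℂˣ) → Cfsg.IrrCharacter G), (δ = 1 ∨ δ = -1) ∧ (∀ χ ∈ X, (a χ = 1 ∨ a χ = -1) ∧ ∀ z y : G, Cfsg.IsPPart p z y → y ∈ (P : Subgroup G) → y ≠ 1 → (χ : G → ℂ) z = (a χ : ℂ)) ∧ (∀ ψ : ↥(P : Subgroup G) →* ℂˣ, ψ ≠ 1 → ζ ψ ∈ Y) ∧ (∀ η ∈ Y, ∃ ψ : ↥(P : Subgroup G) →* ℂˣ, ψ ≠ 1 ∧ ζ ψ = η) ∧ (∀ ψ ψ' : ↥(P : Subgroup G) →* ℂˣ, ψ ≠ 1 → (∃ n : G, n ∈ Subgroup.normalizer ((P : Subgroup G) : Set G) ∧ ∀ w w' : ↥(P : Subgroup G), (w' : G) = n * w * n⁻¹ → ψ' w' = ψ w) → ζ ψ' = ζ ψ) ∧ (∀ ψ : ↥(P : Subgroup G) →* ℂˣ, ψ ≠ 1 → ∀ (z : G) (y : ↥(P : Subgroup G)), Cfsg.IsPPart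 p z (y : G) → (y : G) ≠ 1 → (ζ ψ : G → ℂ) z = (δ : ℂ) * ∑ᶠ ψ' ∈ {ψ' : ↥(P : Subgroup G) →* ℂˣ | ∃ n : G, n ∈ Subgroup.normalizer ((P : Subgroup G) : Set G) ∧ ∀ w w' : ↥(P : Subgroup G), (w' : G) = n * w * n⁻¹ → ψ' w' = ψ w}, ((ψ' y : ℂˣ) : ℂ)) ∧ ((∃ t : G, orderOf t = 2 ∧ ∀ K : Subgroup G, K.Normal → t ∈ K → K = ⊤) → Nat.card {χ : Cfsg.IrrCharacter G // χ ∈ X ∧ (χ : G → ℂ) ≠ (fun _ => 1) ∧ a χ = -1} + (if δ = 1 then 1 else 0) = 2 ∧ ∀ η ∈ Y, IsSquare (Cfsg.charDegree (η : G → ℂ) * ∏ᶠ χ ∈ {χ : Cfsg.IrrCharacter G | χ ∈ X ∧ (χ : G → ℂ) ≠ fun _ => 1}, Cfsg.charDegree (χ : G → ℂ))) := by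
  classical
  haveI := hM.2.1.isPrime
  haveI := Fintype.ofFinite G
  haveI : Fintype (P : Subgroup G) := Fintype.ofFinite _
  haveI : Fintype (H20.autG (P : Subgroup G)) := Fintype.ofFinite _
  have h := H20.FreeSylow.of_statement hab hfrob
  have he : Nat.card (H20.autG (P : Subgroup G)) = 3 := (H20.card_autG _).trans hCN
  have hr : Nat.card (H20.autG (P : Subgroup G)) + 1 < Nat.card (P : Subgroup G) := by
    rw [he]; exact hm2
  obtain ⟨D, hD0, hX3, hb⟩ := h.exists_threeData hM he hm2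
  set X : Set (Cfsg.IrrCharacter G) := Cfsg.principalBlock M G \ D.Y with hX
  have hone : H12.oneIrr G ∈ X :=
    ⟨H20.mem_blockOf_self (H12.oneIrr G), D.oneIrr_notMem h hr⟩
  have hY : Nat.card D.Y = (Nat.card P - 1) / 3 := by
    have h1 := D.card_Y h
    rw [he] at h1
    show _ = (Nat.card (P : Subgroup G) - 1) / 3
    omega
  refine ⟨X, D.Y, (Set.sdiff_union_of_subset D.Y_subset).symm, disjoint_sdiff_self_left, hX3, hY,
    ⟨H12.oneIrr G, hone, funext fun g => by rw [H12.oneIrr_apply]⟩, fun χ => -D.b χ, D.δ, D.ζ,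
    D.δ_eq, ?_, fun ψ hψ => ⟨ψ, hψ, rfl⟩, fun η hη => hη, ?_, ?_, ?_⟩
  · rintro χ ⟨hχ, hχY⟩
    refine ⟨by rcases hb χ ⟨hχ, hχY⟩ with h' | h' <;> simp [h'], fun z y hy hyP hy1 => ?_⟩
    rw [h.apply_pPart hM hχ hy hy1,
      D.sum_vZ_of_notMem h hχ hχY (u := ⟨y, hyP⟩) (fun he => hy1 (congrArg Subtype.val he))]
    push_cast
    rfl
  · intro ψ ψ' hψ hex
    obtain ⟨a, ha⟩ : ψ' ∈ Set.range (H20.dualTw ψ) := by
      rw [← H20.orbit_eq_range]; exact hex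
    have hψ' : ψ' ≠ 1 := fun h' => hψ (H20.dualTw_eq_one_iff.1 (ha.trans h'))
    exact ((D.ζ_eq_iff ψ ψ' hψ hψ').2 ⟨a, ha⟩).symm
  · intro ψ hψ z y hy hy1
    rw [D.apply_ζ_pPart h hM hψ hy hy1, H20.finsum_orbit h hψ, hD0 _ ⟨ψ, hψ, rfl⟩]
    simp
  rintro ⟨t, ht, hgen⟩
  have hp2 : p ≠ 2 := by
    rintro rfl
    obtain ⟨χ, hne, hχ1, hχP⟩ := h.exists_linear_char hM he hm2
    apply H20.apply_ne_degree_of_closure hgen hne
    obtain ⟨u, hu, hconj⟩ := H20.FreeSylow.exists_isConj_mem (P := P) (y := t) ⟨1, by rw [ht, pow_one]⟩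
    obtain ⟨g, hg⟩ := isConj_iff.1 hconj
    rw [hχ1, ← H12.irr_isClassFunction χ t g, hg, hχP u hu]
  have hfin : X.toFinite.toFinset.card = 3 := by
    rw [← hX3, Nat.card_coe_set_eq, Set.ncard_eq_toFinset_card X]
  have hcard : (X.toFinite.toFinset.erase (H12.oneIrr G)).card = 2 := by
    rw [Finset.card_erase_of_mem ((Set.Finite.mem_toFinset _).2 hone), hfin]
  obtain ⟨c₂, c₃, hc, hX2⟩ := Finset.card_eq_two.1 hcard
  have hmemX : ∀ χ : Cfsg.IrrCharacter G, (χ ∈ X ∧ (χ : G → ℂ) ≠ fun _ => 1) ↔ χ = c₂ ∨ χ = c₃ := by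
    intro χ
    have h1 : χ ∈ X.toFinite.toFinset.erase (H12.oneIrr G) ↔ χ = c₂ ∨ χ = c₃ := by
      rw [hX2]; simp
    rw [← h1, Finset.mem_erase, Set.Finite.mem_toFinset, and_comm]
    refine and_congr_left fun _ => not_congr ?_
    rw [Subtype.ext_iff]
    exact ⟨fun e => by rw [e]; funext g; rw [H12.oneIrr_apply],
      fun e => by rw [e]; funext g; rw [H12.oneIrr_apply]⟩
  obtain ⟨ψ₀, hψ₀⟩ := H20.exists_ne_one_of_one_lt (A := (P : Subgroup G))
    (fun a b => Subtype.ext (h.comm a a.2 b b.2)) (by omega)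
  have key := fun η (hη : η ∈ D.Y) => D.involution_relations h hM hp2 he hm2 hD0 hc hX2 hb ht hgen hη
  refine ⟨?_, fun η hη => ?_⟩
  · have h1 := (key _ ⟨ψ₀, hψ₀, rfl⟩).1
    have h2 : Nat.card {χ : Cfsg.IrrCharacter G // χ ∈ X ∧ (χ : G → ℂ) ≠ (fun _ => 1) ∧ -D.b χ = -1} =
        (({c₂, c₃} : Finset (Cfsg.IrrCharacter G)).filter fun χ => -D.b χ = -1).card := by
      rw [← Nat.card_eq_finsetCard]
      refine Nat.card_congr (Equiv.subtypeEquivRight fun χ => ?_)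
      rw [Finset.mem_filter, Finset.mem_insert, Finset.mem_singleton, ← hmemX]
      exact and_assoc.symm
    rw [h2, Finset.card_filter, Finset.sum_pair hc]
    exact h1
  · have hset : {χ : Cfsg.IrrCharacter G | χ ∈ X ∧ (χ : G → ℂ) ≠ fun _ => 1} = {c₂, c₃} := by
      ext χ; exact hmemX χ
    rw [hset, finprod_mem_pair hc]
    exact (key η hη).2

end Cfsg.Agent.S4721
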