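import Cfsg.Statements.S4723
import Cfsg.Agent.H24.FixedHeightZero


set_option autoImplicit false
open Cfsg

namespace Cfsg.Agent.S4723

/-- Let p be a prime, M a maximal ideal of the algebraic integers containing p, H a normal subgroup of the finite group G and b a p-block of H. Let T be the stabilizer of b in G. Then b contains a character θ of height zero whose own stabilizer in G (the elements g with θ(g h g⁻¹) = θ(h) for all h ∈ H) has index prime to p in T, i.e. contains a Sylow p-subgroup of T. -/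
theorem result {G : Type*} [Group G] [Finite G] (p : ℕ) [Fact p.Prime] (M : Ideal Cfsg.AlgInt) (hM : Cfsg.IsPModular p M) (H : Subgroup G) [H.Normal] (b : Set (Cfsg.IrrCharacter ↥H)) (hb : Cfsg.IsPBlock M b) (T : Subgroup G) (hT : (∀ g : G, g ∈ T ↔ ∀ θ ∈ b, ∀ θ' : Cfsg.IrrCharacter ↥H, (∀ h h' : ↥H, (h' : G) = g * h * g⁻¹ → (θ' : ↥H → ℂ) h' = (θ : ↥H → ℂ) h) → θ' ∈ b)) : ∃ θ ∈ b, Cfsg.blockHeight p b (θ : ↥H → ℂ) = 0 ∧ ∃ S : Subgroup G, S ≤ T ∧ (∀ g : G, g ∈ S ↔ (g ∈ T ∧ ∀ h h' : ↥H, (h' : G) = g * h * g⁻¹ → (θ : ↥H → ℂ) h' = (θ : ↥H → ℂ) h)) ∧ ¬ p ∣ S.relIndex T := by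
  classical
  haveI := Fintype.ofFinite G
  haveI := hM.2.1.isPrime
  haveI := Fintype.ofFinite ↥H
  haveI : Fact p.Prime := ⟨hM.1⟩
  obtain ⟨S₀⟩ : Nonempty (Sylow p ↥T) := inferInstance
  let φ : ↥(S₀ : Subgroup ↥T) →* MulAut ↥H :=
    (MulAut.conjNormal (H := H)).comp (T.subtype.comp (S₀ : Subgroup ↥T).subtype)
  have hφ : ∀ (s : ↥(S₀ : Subgroup ↥T)) (h : ↥H),
      ((φ s h : ↥H) : G) = ((s : ↥T) : G) * h * ((s : ↥T) : G)⁻¹ := fun s h => rfl
  obtain ⟨θ, hθ, h0, hfix⟩ := H24.exists_fixed_height_zero hM S₀.2 φ hb (fun s θ hθ => by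
    refine (hT ((s⁻¹ : ↥(S₀ : Subgroup ↥T)) : ↥T)).1 ((s⁻¹ : ↥(S₀ : Subgroup ↥T)) : ↥T).2 θ hθ _
      fun h h' hh' => ?_
    rw [H12.irrCongr_apply]
    refine congrArg _ (Subtype.ext ?_)
    rw [hφ, hh']
    simp [mul_assoc])
  refine ⟨θ, hθ, h0, ?_⟩
  let P : G → Prop := fun g =>
    ∀ h h' : ↥H, (h' : G) = g * h * g⁻¹ → (θ : ↥H → ℂ) h' = (θ : ↥H → ℂ) h
  let St : Subgroup G :=
    { carrier := {g | g ∈ T ∧ P g}
      one_mem' := ⟨T.one_mem, fun h h' hh => by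
        rw [show h' = h from Subtype.ext (by simpa using hh)]⟩
      mul_mem' := fun {a c} ha hc => ⟨T.mul_mem ha.1 hc.1, fun h h' hh => by
        let m : ↥H := ⟨c * h * c⁻¹, (inferInstance : H.Normal).conj_mem _ h.2 _⟩
        rw [ha.2 m h' (by rw [hh]; simp [m, mul_assoc]), hc.2 h m rfl]⟩
      inv_mem' := fun {a} ha => ⟨T.inv_mem ha.1, fun h h' hh => by
        rw [ha.2 h' h (by rw [hh]; simp [mul_assoc])]⟩ }
  refine ⟨St, fun g hg => hg.1, fun g => Iff.rfl, ?_⟩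
  have hle : (S₀ : Subgroup ↥T) ≤ St.subgroupOf T := by
    intro t ht
    refine ⟨t.2, fun h h' hh => ?_⟩
    have hval := congrArg (fun χ : IrrCharacter ↥H => (χ : ↥H → ℂ) h) (hfix ⟨t, ht⟩)
    simp only [H12.irrCongr_apply] at hval
    rw [← hval]
    exact congrArg _ (Subtype.ext (by rw [hh]; rfl))
  exact fun hd => S₀.not_dvd_index (hd.trans (Subgroup.index_dvd_of_le hle))

end Cfsg.Agent.S4723
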