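import Cfsg.Statements.S4725
import Cfsg.Agent.H20.SecondMainApps
import Cfsg.Agent.H20.Induced
import Cfsg.Agent.H24.CharBasic
import Cfsg.Agent.H12.Induction


set_option autoImplicit false
open Cfsg

namespace Cfsg.Agent.S4725

/-- Let p be a prime, M a maximal ideal of the algebraic integers containing p, H a subgroup of the finite group G, and b a p-block of H inducing the p-block B of G, with b and B of the same defect. Then for every height-zero ζ ∈ b there is a height-zero χ ∈ B whose multiplicity in the character induced from ζ is not divisible by p. -/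
theorem result {G : Type*} [Group G] [Fintype G] (p : ℕ) [Fact p.Prime] (M : Ideal Cfsg.AlgInt) (hM : Cfsg.IsPModular p M) (H : Subgroup G) (b : Set (Cfsg.IrrCharacter ↥H)) (B : Set (Cfsg.IrrCharacter G)) (hind : Cfsg.IsInducedBlock M H b B) (hdef : Cfsg.blockDefect p b = Cfsg.blockDefect p B) (ζ : Cfsg.IrrCharacter ↥H) (hζ : ζ ∈ b) (hζ0 : Cfsg.blockHeight p b (ζ : ↥H → ℂ) = 0) : ∃ χ ∈ B, Cfsg.blockHeight p B (χ : G → ℂ) = 0 ∧ ∃ a : ℕ, Cfsg.classInner (Cfsg.indFun H (ζ : ↥H → ℂ)) (χ : G → ℂ) = (a : ℂ) ∧ ¬ p ∣ a := by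
  classical
  haveI := hM.2.1.isPrime
  haveI := Fintype.ofFinite ↥H
  obtain ⟨hb, hB, hlam⟩ := (H20.inducedBlock_iff H).1 hind
  set f : G → ℂ := Cfsg.indFun H (ζ : ↥H → ℂ) with hf
  have hfc : IsClassFunction G f := H12.indFun_isClassFunction H _
  -- the B-part of the induced character at 1
  have hsum : ∑ χ : IrrCharacter G, (if χ ∈ B then classInner f (χ : G → ℂ) * (χ : G → ℂ) 1 else 0) =
      (H.index : ℂ) * ∑ h : ↥H, blockCoeff B (h : G) * (ζ : ↥H → ℂ) h := by
    rw [← H20.blockPart_eq_sum, ← H20.sum_blockCoeff_mul B hfc 1]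
    let e : G → ℂ := fun g => (starRingEnd ℂ) (blockCoeff B g)
    have he : IsClassFunction G e := fun g c => by
      simp only [e]
      rw [H20.blockCoeff_of_isConj B (isConj_iff.2 ⟨c, rfl⟩ : IsConj g (c * g * c⁻¹))]
    have h := H12.classInner_indFun H (ζ : ↥H → ℂ) he
    have hG : (Nat.card G : ℂ) ≠ 0 := Nat.cast_ne_zero.2 Nat.card_pos.ne'
    have hH : (Nat.card ↥H : ℂ) ≠ 0 := Nat.cast_ne_zero.2 Nat.card_pos.ne'
    rw [H12.classInner_def, H12.classInner_def] at h
    simp only [e, Complex.conj_conj] at h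
    have hc : (Nat.card G : ℂ) = (Nat.card ↥H : ℂ) * (H.index : ℂ) := by
      rw [← Nat.cast_mul, H.card_mul_index]
    simp only [mul_one, mul_comm (blockCoeff B _)]
    field_simp at h
    refine mul_left_cancel₀ hH ?_
    rw [hc] at h
    linear_combination h
  -- its residue
  obtain ⟨e, hecl, herd, heemb⟩ := H20.exists_lift_eRed (M := M) (H20.memRing_blockCoeff hB)
  let eH : MonoidAlgebra (H20.O M) ↥H := H20.resAlg H e
  set u : ℂ := H20.omega (ζ : ↥H → ℂ) (H20.emb eH) with hu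
  have humem : MemLocalRing M u := H20.memRing_omega ζ (hecl.res H)
  have hu1 : H20.redC M u = 1 := by
    rw [hu, ← H20.lam_rd ζ (hecl.res H)]
    obtain ⟨χ, hχ⟩ := H20.block_nonempty hB
    have : H20.rd eH = H20.resAlg H (H20.eRed M B) := by
      ext x
      simp [eH, H20.coeff_rd, H20.coeff_resAlg, ← herd]
    rw [this, hlam ζ hζ χ hχ _ (H20.isCl_eRed B), H20.lam_eRed hB, if_pos hχ]
  have hsum2 : ∑ h : ↥H, blockCoeff B (h : G) * (ζ : ↥H → ℂ) h = u * (ζ : ↥H → ℂ) 1 := by
    rw [hu, H20.omega, div_mul_cancel₀ _ (H12.irr_apply_one_ne_zero ζ)]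
    refine Finset.sum_congr rfl fun h _ => ?_
    rw [H20.coeff_emb, H20.coeff_resAlg, ← H20.coeff_emb, heemb, H20.eIdem, H20.coeff_ofFun]
  -- multiplicities
  choose a ha using fun χ : IrrCharacter G =>
    H12.IsCharacter.classInner_nat (H12.IsCharacter.indFun (H := H) (H12.isCharacter_irr ζ))
      (H12.isCharacter_irr χ)
  set S : ℕ := ∑ χ : IrrCharacter G, if χ ∈ B then a χ * charDegree (χ : G → ℂ) else 0 with hS
  have hSeq : (S : ℂ) = ((H.index * charDegree (ζ : ↥H → ℂ) : ℕ) : ℂ) * u := by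
    rw [Nat.cast_mul, H24.charDegree_eq_degree, ← H12.irr_apply_one, mul_assoc,
      mul_comm ((ζ : ↥H → ℂ) 1) u, ← hsum2, ← hsum, hS, Nat.cast_sum]
    refine Finset.sum_congr rfl fun χ _ => ?_
    split_ifs
    · rw [Nat.cast_mul, H24.charDegree_eq_degree, ← H12.irr_apply_one, ha]
    · simp
  -- valuations
  have hp := hM.1
  set vG := (Nat.card G).factorization p with hvG
  set vH := (Nat.card ↥H).factorization p with hvH
  set sB := sInf ((fun χ : IrrCharacter G => (charDegree (χ : G → ℂ)).factorization p) '' B) with hsB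
  set sb := sInf ((fun χ : IrrCharacter ↥H => (charDegree (χ : ↥H → ℂ)).factorization p) '' b)
    with hsb
  have hdvdG : ∀ χ : IrrCharacter G, (charDegree (χ : G → ℂ)).factorization p ≤ vG := fun χ => by
    have h := H24.charDegree_dvd_card χ
    have hne : charDegree (χ : G → ℂ) ≠ 0 := fun h0 => Nat.card_pos.ne' (Nat.eq_zero_of_zero_dvd (h0 ▸ h))
    exact (Nat.factorization_le_iff_dvd hne Nat.card_pos.ne').2 h p
  have hζne : charDegree (ζ : ↥H → ℂ) ≠ 0 := fun h0 =>
    Nat.card_pos.ne' (Nat.eq_zero_of_zero_dvd (h0 ▸ H24.charDegree_dvd_card ζ))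
  have hζle : (charDegree (ζ : ↥H → ℂ)).factorization p ≤ vH :=
    (Nat.factorization_le_iff_dvd hζne Nat.card_pos.ne').2 (H24.charDegree_dvd_card ζ) p
  have hsbζ : sb = (charDegree (ζ : ↥H → ℂ)).factorization p := by
    refine le_antisymm (Nat.sInf_le (Set.mem_image_of_mem _ hζ)) ?_
    simp only [blockHeight, ← hsb] at hζ0
    omega
  have hsBG : sB ≤ vG := by
    obtain ⟨χ, hχ⟩ := H20.block_nonempty hB
    exact (Nat.sInf_le (Set.mem_image_of_mem _ hχ)).trans (hdvdG χ)
  have hidx : vG = vH + H.index.factorization p := by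
    rw [hvG, ← H.card_mul_index, Nat.factorization_mul Nat.card_pos.ne'
      Subgroup.index_ne_zero_of_finite, Finsupp.add_apply]
  simp only [blockDefect, ← hsb, ← hsB, ← hvG, ← hvH] at hdef
  set N : ℕ := H.index * charDegree (ζ : ↥H → ℂ) with hN
  have hNne : N ≠ 0 := mul_ne_zero Subgroup.index_ne_zero_of_finite hζne
  have hNv : N.factorization p = sB := by
    rw [hN, Nat.factorization_mul Subgroup.index_ne_zero_of_finite hζne, Finsupp.add_apply]
    omega
  by_contra hall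
  simp only [not_exists, not_and] at hall
  have hdiv : p ^ (sB + 1) ∣ S := by
    refine Finset.dvd_sum fun χ _ => ?_
    split_ifs with hχ
    swap
    · exact dvd_zero _
    have h1 : sB ≤ (charDegree (χ : G → ℂ)).factorization p := Nat.sInf_le (Set.mem_image_of_mem _ hχ)
    by_cases hh : blockHeight p B (χ : G → ℂ) = 0
    · have hpa : p ∣ a χ := by_contra fun h => hall χ hχ hh (a χ) (ha χ) h
      rw [pow_succ, mul_comm (a χ)]
      exact mul_dvd_mul ((Nat.pow_dvd_pow p h1).trans (Nat.ordProj_dvd _ _)) hpa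
    · refine Dvd.dvd.mul_left ((Nat.pow_dvd_pow p ?_).trans (Nat.ordProj_dvd _ _)) _
      simp only [blockHeight, ← hsB] at hh
      omega
  obtain ⟨K, hK⟩ := hdiv
  obtain ⟨N', hN'⟩ : p ^ sB ∣ N := hNv ▸ Nat.ordProj_dvd N p
  have hN'p : ¬ p ∣ N' := by
    intro h
    have : p ^ (sB + 1) ∣ N := by rw [hN', pow_succ]; exact mul_dvd_mul_left _ h
    rw [← hNv] at this
    exact Nat.pow_succ_factorization_not_dvd hNne hp this
  have hu2 : u = (p : ℂ) * (K : ℂ) * ((N' : ℂ))⁻¹ := by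
    have hN'0 : (N' : ℂ) ≠ 0 := Nat.cast_ne_zero.2 fun h => hN'p (h ▸ dvd_zero p)
    have hp0 : (p : ℂ) ^ sB ≠ 0 := pow_ne_zero _ (Nat.cast_ne_zero.2 hp.ne_zero)
    rw [eq_mul_inv_iff_mul_eq₀ hN'0]
    refine mul_left_cancel₀ hp0 ?_
    rw [hK, hN'] at hSeq
    push_cast at hSeq
    rw [pow_succ] at hSeq
    linear_combination -hSeq
  refine one_ne_zero (α := H20.k M) ?_
  rw [← hu1, H20.redC_eq_zero_iff humem, hu2]
  rw [show (p : ℂ) * (K : ℂ) * ((N' : ℂ))⁻¹ = ((K : ℂ) * (N' : ℂ)⁻¹) * (p : ℂ) by ring]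
  exact H20.memIdeal_mul (H20.memRing_mul (H20.memRing_natCast K)
    (H20.inv_natCast_memRing hM hN'p)) (H20.memIdeal_p hM)

end Cfsg.Agent.S4725
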