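import Cfsg.Statements.S4726
import Cfsg.Agent.H24.InducedDefined


set_option autoImplicit false
open Cfsg

namespace Cfsg.Agent.S4726

/-- Let p be a prime, M a maximal ideal of the algebraic integers containing p, H a subgroup of the finite group G and b a p-block of H with defect group D₀ such that C_G(D₀) ≤ H. Then b induces a block of G, and for every block B of G induced by b there is a defect group D of B with Z(D) ≤ Z(D₀) ≤ D₀ ≤ D (as subgroups of G). In particular, if the defect groups of B are abelian then D₀ is a defect group of B. -/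
theorem result {G : Type*} [Group G] [Finite G] (p : ℕ) [Fact p.Prime] (M : Ideal Cfsg.AlgInt) (hM : Cfsg.IsPModular p M) (H : Subgroup G) (b : Set (Cfsg.IrrCharacter ↥H)) (hb : Cfsg.IsPBlock M b) (D₀ : Subgroup ↥H) (hD₀ : Cfsg.IsDefectGroup p M b D₀) (hC : Subgroup.centralizer ((D₀.map H.subtype : Subgroup G) : Set G) ≤ H) : Cfsg.InducedBlockDefined M H b ∧ ∀ B : Set (Cfsg.IrrCharacter G), Cfsg.IsInducedBlock M H b B → (∃ D : Subgroup G, Cfsg.IsDefectGroup p M B D ∧ (Subgroup.center ↥D).map D.subtype ≤ ((Subgroup.center ↥D₀).map D₀.subtype).map H.subtype ∧ ((Subgroup.center ↥D₀).map D₀.subtype).map H.subtype ≤ D₀.map H.subtype ∧ D₀.map H.subtype ≤ D) ∧ (∀ D : Subgroup G, Cfsg.IsDefectGroup p M B D → IsMulCommutative ↥D → Cfsg.IsDefectGroup p M B (D₀.map H.subtype)) := by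
  classical
  haveI := Fintype.ofFinite G
  haveI := hM.2.1.isPrime
  haveI := Fintype.ofFinite ↥H
  haveI : Fact p.Prime := ⟨hM.1⟩
  obtain ⟨B₀, hind, P, hP, hQP, hZ⟩ := H24.induced_defined hM hb hD₀ hC
  refine ⟨⟨B₀, hind⟩, fun B hB => ?_⟩
  obtain rfl := H20.inducedBlock_unique H hB hind
  refine ⟨⟨P, hP, ?_, ?_, hQP⟩, fun D hD hcomm => ?_⟩
  · rintro z hz
    obtain ⟨⟨y, hyP⟩, hy, rfl⟩ := Subgroup.mem_map.1 hz
    have hyC : y ∈ Subgroup.centralizer (P : Set G) := fun w hw =>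
      congrArg Subtype.val (Subgroup.mem_center_iff.1 hy ⟨w, hw⟩)
    have hyQ := hZ ⟨hyP, hyC⟩
    obtain ⟨d, hd, hdy⟩ := Subgroup.mem_map.1 hyQ
    refine Subgroup.mem_map.2 ⟨d, Subgroup.mem_map.2 ⟨⟨d, hd⟩, ?_, rfl⟩, hdy⟩
    refine Subgroup.mem_center_iff.2 fun w => Subtype.ext (Subtype.ext ?_)
    have := hyC _ (hQP (Subgroup.mem_map_of_mem H.subtype w.2))
    rw [← hdy] at this
    simpa using this
  · exact Subgroup.map_mono (Subgroup.map_subtype_le _)
  · obtain ⟨x, hx⟩ := H20.defectGroup_conj hM hB.2.1 hP hD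
    have hPQ : P = D₀.map H.subtype := by
      refine le_antisymm (fun y hy => hZ ⟨hy, fun w hw => ?_⟩) hQP
      have hy' : x * y * x⁻¹ ∈ D := hx ▸ H20.mem_conjSub_iff.2 (by simpa [mul_assoc] using hy)
      have hw' : x * w * x⁻¹ ∈ D := hx ▸ H20.mem_conjSub_iff.2 (by simpa [mul_assoc] using hw)
      have := congrArg Subtype.val
        ((inferInstance : IsMulCommutative D).is_comm.comm ⟨_, hw'⟩ ⟨_, hy'⟩)
      simp only [Subgroup.coe_mul] at this
      calc w * y = x⁻¹ * ((x * w * x⁻¹) * (x * y * x⁻¹)) * x := by group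
        _ = x⁻¹ * ((x * y * x⁻¹) * (x * w * x⁻¹)) * x := by rw [this]
        _ = y * w := by group
    exact hPQ ▸ hP

end Cfsg.Agent.S4726
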