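import Cfsg.Statements.S4727
import Cfsg.Agent.H24.PiKernelClaim


set_option autoImplicit false
open Cfsg

namespace Cfsg.Agent.S4727

/-- Let p be a prime, π a set of primes containing p, M a maximal ideal of the algebraic integers containing p, and B a p-block of the finite group G with defect group D; let B₁ be the block of N_G(D) with defect group D that induces B (the Brauer correspondent of B). Suppose every element of O_π'(N_G(D)), the largest normal subgroup of N_G(D) whose order has no prime divisor in π, lies in the kernel of every member of B₁. If y is a p-element whose centralizer C has a normal Hall π'-subgroup (every element of C whose order has no prime divisor in π lies in O_π'(C)), then χ(y x) = χ(y) for every χ ∈ B and every x ∈ C whose order has no prime divisor in π. -/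
theorem result {G : Type*} [Group G] [Finite G] (p : ℕ) [Fact p.Prime] (M : Ideal Cfsg.AlgInt) (hM : Cfsg.IsPModular p M) (π : Set ℕ) (hpπ : p ∈ π) (B : Set (Cfsg.IrrCharacter G)) (hB : Cfsg.IsPBlock M B) (D : Subgroup G) (hBD : Cfsg.IsDefectGroup p M B D) (B₁ : Set (Cfsg.IrrCharacter ↥(Subgroup.normalizer (D : Set G)))) (hB₁ : Cfsg.IsInducedBlock M (Subgroup.normalizer (D : Set G)) B₁ B) (hB₁D : Cfsg.IsDefectGroup p M B₁ (D.subgroupOf (Subgroup.normalizer (D : Set G)))) (hker : ∀ n : ↥(Subgroup.normalizer (D : Set G)), n ∈ Cfsg.piCore {q | q ∉ π} ↥(Subgroup.normalizer (D : Set G)) → n ∈ Cfsg.blockKer B₁) (y : G) (hy : ∃ k : ℕ, orderOf y = p ^ k) (hC : ∀ x : ↥(Subgroup.centralizer ({y} : Set G)), (∀ q : ℕ, q.Prime → q ∣ orderOf x → q ∉ π) → x ∈ Cfsg.piCore {q | q ∉ π} ↥(Subgroup.centralizer ({y} : Set G))) : ∀ χ ∈ B, ∀ x : G, x ∈ Subgroup.centralizer ({y} : Set G) → (∀ q : ℕ, q.Prime → q ∣ orderOf x → q ∉ π) → (χ : G → ℂ) (y * x) = (χ : G → ℂ) y := by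
  classical
  haveI := Fintype.ofFinite G
  haveI := hM.2.1.isPrime
  haveI : Fact p.Prime := ⟨hM.1⟩
  haveI := Fintype.ofFinite ↥(Subgroup.centralizer ({y} : Set G))
  haveI := Fintype.ofFinite ↥(Subgroup.normalizer (D : Set G))
  haveI := Fintype.ofFinite ↥(Subgroup.normalizer ((Subgroup.zpowers y : Subgroup G) : Set G))
  intro χ hχ x hx hπx
  obtain ⟨e, he⟩ := hy
  have hP : IsPGroup p (Subgroup.zpowers y) :=
    IsPGroup.of_card (n := e) (by rw [Nat.card_zpowers, he])
  have hCeq : Subgroup.centralizer ((Subgroup.zpowers y : Subgroup G) : Set G) =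
      Subgroup.centralizer ({y} : Set G) := by
    rw [Subgroup.zpowers_eq_closure, Subgroup.centralizer_closure]
  set C := Subgroup.centralizer ({y} : Set G) with hCdef
  have hPC : Subgroup.zpowers y ≤ C := Subgroup.zpowers_le.2 fun w hw => by
    rw [Set.mem_singleton_iff.1 hw]
  have hxL : x ∈ piCoreOf {q | q ∉ π} C :=
    (H24.mem_piCoreOf_iff ⟨x, hx⟩).2 (hC ⟨x, hx⟩ fun q hq hd =>
      hπx q hq (by rwa [Subgroup.orderOf_mk] at hd))
  have hxreg : ¬ p ∣ orderOf (⟨x, hx⟩ : C) := fun hd =>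
    hπx p hM.1 (by rwa [Subgroup.orderOf_mk] at hd) hpπ
  have hkills : ∀ b, IsInducedBlock M C b B → H24.Kills C b (piCoreOf {q | q ∉ π} C) := by
    intro b hb
    obtain ⟨f, hf, hiff⟩ := H24.exists_push_block hM hP hPC hCeq.le
      (hCeq ▸ H24.centralizer_le_normalizer' _) hb
    have hfk := H24.kills_local hM hpπ hBD hB₁ hB₁D hker _ hP hf
    rw [hCeq] at hfk
    refine (hiff _ ((H82.piCoreOf_le _ _).trans hCeq.ge) ?_ (H24.not_dvd_piCoreOf hM hpπ _)).1 hfk
    exact ((H82.le_normalizer_centralizer le_rfl).trans (by rw [hCeq])).trans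
      (H24.normalizer_le_normalizer_piCoreOf _ _)
  set ψ : C → ℂ := fun c => (χ : G → ℂ) (y * (c : G)) with hψ
  have hψc : IsClassFunction C ψ := H20.isClassFunction_shift (H12.irr_isClassFunction χ) y
  suffices h : ψ ⟨x, hx⟩ = ψ 1 by simpa [hψ] using h
  rw [H20.classFunction_eq_sum_apply hψc, H20.classFunction_eq_sum_apply hψc 1, ← sub_eq_zero,
    ← Finset.sum_sub_distrib,
    ← Finset.sum_fiberwise (g := fun ξ : IrrCharacter C => blockOf M (ξ : C → ℂ))]
  refine Finset.sum_eq_zero fun b _ => ?_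
  by_cases hb : IsInducedBlock M C b B
  · refine Finset.sum_eq_zero fun ξ hξ => ?_
    have hmem : ξ ∈ b := (Finset.mem_filter.1 hξ).2 ▸ H20.mem_blockOf_self ξ
    rw [hkills b hb ξ hmem ⟨x, hx⟩ hxL, sub_self]
  · by_cases hb' : IsPBlock M b
    · have hfil : ∀ ξ : IrrCharacter C, blockOf M (ξ : C → ℂ) = b ↔ ξ ∈ b := fun ξ =>
        ⟨fun h => h ▸ H20.mem_blockOf_self ξ, fun h => (H20.block_eq_blockOf hb' h).symm⟩
      rw [Finset.sum_sub_distrib, Finset.sum_filter, Finset.sum_filter]
      simp only [hfil]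
      rw [← H20.blockPart_eq_sum, ← H20.blockPart_eq_sum,
        H20.blockPart_shift_eq_zero hM ⟨e, he⟩ hB hχ hb' hb ⟨x, hx⟩ hxreg,
        H20.blockPart_shift_eq_zero hM ⟨e, he⟩ hB hχ hb' hb 1
          (by rw [orderOf_one]; exact hM.1.not_dvd_one), sub_zero]
    · refine Finset.sum_eq_zero fun ξ hξ => absurd ?_ hb'
      exact (Finset.mem_filter.1 hξ).2 ▸ H20.isPBlock_blockOf ξ

end Cfsg.Agent.S4727
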