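import Cfsg.Statements.S4729
import Cfsg.Agent.H24.Arith
import Cfsg.Agent.H20.LocalRing


set_option autoImplicit false
open Cfsg

namespace Cfsg.Agent.S4729

/-- Let p be a prime, M a maximal ideal of the algebraic integers containing p, G a finite perfect group and P a Sylow p-subgroup. If the principal p-block of G contains a faithful irreducible character of degree less than 2p, then the centralizer of P is a p-group. -/
theorem result {G : Type*} [Group G] [Finite G] (p : ℕ) [Fact p.Prime] (M : Ideal Cfsg.AlgInt) (hM : Cfsg.IsPModular p M) (hperf : commutator G = ⊤) (P : Sylow p G) (χ : Cfsg.IrrCharacter G) (hχ : χ ∈ Cfsg.principalBlock M G) (hfaith : ∀ g : G, (χ : G → ℂ) g = (χ : G → ℂ) 1 → g = 1) (hdeg : Cfsg.charDegree (χ : G → ℂ) < 2 * p) : IsPGroup p ↥(Subgroup.centralizer ((P : Subgroup G) : Set G)) := by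
  classical
  haveI := Fintype.ofFinite G
  haveI := H20.isPrime_of_modular hM
  haveI := H20.k_charP hM
  have hp := (Fact.out : p.Prime)
  rintro ⟨g, hg⟩
  obtain ⟨k, m, hm, hgm⟩ := Nat.exists_eq_pow_mul_and_not_dvd (orderOf_pos g).ne' p hp.ne_one
  refine ⟨k, Subtype.ext ?_⟩
  push_cast
  have hm0 : m ≠ 0 := fun h0 => hm (h0.symm ▸ dvd_zero p)
  set v := g ^ p ^ k with hv
  have hvm : v ^ m = 1 := by rw [hv, ← pow_mul, ← hgm, pow_orderOf_eq_one]
  have hvC : v ∈ Subgroup.centralizer ((P : Subgroup G) : Set G) := pow_mem hg _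
  set d := charDegree (χ : G → ℂ) with hd
  have hval : ∀ j : ℕ, MemLocalIdeal M ((χ : G → ℂ) (v ^ j) - (d : ℂ)) := by
    intro j
    have hidx : ¬ p ∣ (Subgroup.centralizer ({v ^ j} : Set G)).index := by
      intro hdvd
      apply P.not_dvd_index
      refine hdvd.trans (Subgroup.index_dvd_of_le fun y hy => ?_)
      rw [Subgroup.mem_centralizer_singleton_iff]
      exact Subgroup.mem_centralizer_iff.1 (pow_mem hvC j) y hy
    have h1 := hχ (v ^ j)
    have h2 := H20.memIdeal_mul (H20.memRing_mul (H20.memRing_natCast (M := M) d)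
      (H20.inv_natCast_memRing hM hidx)) h1
    simp only [centralChar, H24.irr_one, ← hd, mul_one, div_one] at h2
    have h0 : ((Subgroup.centralizer ({v ^ j} : Set G)).index : ℂ) ≠ 0 :=
      Nat.cast_ne_zero.2 Subgroup.index_ne_zero_of_finite
    have hd0 : (d : ℂ) ≠ 0 := Nat.cast_ne_zero.2 (H24.irr_pos χ).ne'
    have h3 := H20.memIdeal_mul (H20.memRing_intCast (M := M) (-1)) h2
    convert h3 using 1
    field_simp
    ring
  obtain ⟨n, ρ, hρ, hχρ⟩ := χ.2
  haveI := hρ
  have hdn : Module.finrank ℂ (Fin n → ℂ) = d := by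
    rw [hd, H24.charDegree_eq_degree, ← hχρ, H12.degree_character]
  obtain ⟨bb, μ, hbb⟩ := H12.exists_eigenbasis (T := ρ v) (n := m)
    hm0 (by rw [← map_pow, hvm, map_one])
  have hdiag : ∀ T : Module.End ℂ (Fin n → ℂ), ∀ c : Fin (Module.finrank ℂ (Fin n → ℂ)) → ℂ,
      (∀ i, T (bb i) = c i • bb i) → LinearMap.toMatrix bb bb T = Matrix.diagonal c := by
    intro T c hT
    ext i j
    simp [LinearMap.toMatrix_apply, hT j, Finsupp.single_apply, Matrix.diagonal_apply, eq_comm]
    by_cases hij : i = j <;> simp [hij]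
  have hpow : ∀ j : ℕ, ∀ i, (ρ (v ^ j)) (bb i) = μ i ^ j • bb i := by
    intro j i
    induction j with
    | zero => simp
    | succ j ih => rw [pow_succ, map_mul, Module.End.mul_apply, (hbb i).1, map_smul, ih, smul_smul, ← pow_succ']
  have hsum : ∀ j : ℕ, (χ : G → ℂ) (v ^ j) = ∑ i, μ i ^ j := by
    intro j
    rw [← hχρ, Representation.character, LinearMap.trace_eq_matrix_trace ℂ bb, hdiag _ _ (hpow j),
      Matrix.trace_diagonal]
  -- every eigenvalue other than `1` has multiplicity divisible by `p`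
  let O := H20.O M
  have hμO : ∀ i, MemLocalRing M (μ i) := fun i =>
    H20.memRing_of_pow_eq_one (Nat.pos_of_ne_zero hm0) (hbb i).2
  let μ' : Fin (Module.finrank ℂ (Fin n → ℂ)) → O := fun i => ⟨μ i, hμO i⟩
  have hinj : ∀ i l, H20.red M (μ' i) = H20.red M (μ' l) → μ i = μ l := fun i l h =>
    H20.eq_of_pow_eq_one hM hm (hbb i).2 (hbb l).2 (H20.red_eq_red_iff.1 h)
  have hred : ∀ i, (H20.red M (μ' i)) ^ m = 1 := by
    intro i
    rw [← map_pow, show μ' i ^ m = 1 from Subtype.ext (hbb i).2, map_one]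
  have hred_sum : ∀ j : ℕ, ∑ i, H20.red M (μ' i) ^ j = (d : H20.k M) := by
    intro j
    rw [← map_natCast (H20.red M) d]
    simp only [← map_pow, ← map_sum]
    rw [H20.red_eq_red_iff]
    push_cast
    rw [← hsum]
    exact hval j
  have hmult : ∀ i₀, μ i₀ ≠ 1 → p ∣ (Finset.univ.filter fun i => μ i = μ i₀).card := by
    intro i₀ hi₀
    set z := H20.red M (μ' i₀) with hz
    have hz0 : z ≠ 0 := fun h => by
      have := hred i₀
      rw [← hz, h, zero_pow hm0] at this
      exact zero_ne_one this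
    have hgeo : ∀ w : H20.k M, w ^ m = 1 → w ≠ 1 → ∑ j ∈ Finset.range m, w ^ j = 0 := by
      intro w hw hw1
      rw [geom_sum_eq hw1, hw, sub_self, zero_div]
    have key : ∑ j ∈ Finset.range m, z⁻¹ ^ j * ∑ i, H20.red M (μ' i) ^ j = 0 := by
      simp only [hred_sum, ← Finset.sum_mul]
      rw [hgeo z⁻¹ (by rw [inv_pow, hred, inv_one]) (fun h => hi₀ ?_), zero_mul]
      have hz1 : z = 1 := inv_eq_one.1 h
      refine H20.eq_one_of_pow_eq_one hM hm (hbb i₀).2 ?_
      have h1 : H20.red M (μ' i₀) = H20.red M 1 := by rw [map_one, ← hz, hz1]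
      exact H20.red_eq_red_iff.1 h1
    simp only [Finset.mul_sum] at key
    rw [Finset.sum_comm] at key
    have hterm : ∀ i, ∑ j ∈ Finset.range m, z⁻¹ ^ j * H20.red M (μ' i) ^ j =
        if μ i = μ i₀ then (m : H20.k M) else 0 := by
      intro i
      simp only [← mul_pow]
      split_ifs with h
      · rw [show μ' i = μ' i₀ from Subtype.ext h, ← hz, inv_mul_cancel₀ hz0]
        simp
      · refine hgeo _ (by rw [mul_pow, inv_pow, hz, hred, hred, inv_one, one_mul]) fun h1 => h ?_
        refine hinj i i₀ ?_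
        rw [← hz]
        exact ((inv_mul_eq_one₀ hz0).1 h1).symm
    simp only [hterm, ← Finset.sum_filter, Finset.sum_const, nsmul_eq_mul, mul_eq_zero] at key
    rcases key with h | h
    · exact (CharP.cast_eq_zero_iff (H20.k M) p _).1 h
    · exact absurd ((CharP.cast_eq_zero_iff (H20.k M) p m).1 h) hm
  have hμ1 : ∀ i, μ i = 1 := by
    by_contra! hne
    obtain ⟨i₀, hi₀⟩ := hne
    have hpc := hmult i₀ hi₀
    have hcpos : 0 < (Finset.univ.filter fun i => μ i = μ i₀).card :=
      Finset.card_pos.2 ⟨i₀, by simp⟩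
    have hcard : (Finset.univ : Finset (Fin (Module.finrank ℂ (Fin n → ℂ)))).card = d := by
      rw [Finset.card_univ, Fintype.card_fin, hdn]
    have hother : ∀ i, μ i = 1 ∨ μ i = μ i₀ := by
      intro i
      by_contra! h
      have h1 := hmult i h.1
      have hdisj : Disjoint (Finset.univ.filter fun l => μ l = μ i₀)
          (Finset.univ.filter fun l => μ l = μ i) :=
        Finset.disjoint_filter.2 fun l _ a b => h.2 (b.symm.trans a)
      have h2 := Finset.card_le_card (Finset.subset_univ ((Finset.univ.filter fun l => μ l = μ i₀) ∪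
        (Finset.univ.filter fun l => μ l = μ i)))
      rw [Finset.card_union_of_disjoint hdisj, hcard] at h2
      have h3 := Nat.le_of_dvd hcpos hpc
      have h4 := Nat.le_of_dvd (Finset.card_pos.2 ⟨i, by simp⟩) h1
      omega
    have hc : (Finset.univ.filter fun i => μ i = μ i₀).card = p := by
      obtain ⟨t, ht⟩ := hpc
      have h2 := Finset.card_le_card (Finset.subset_univ (Finset.univ.filter fun l => μ l = μ i₀))
      rw [hcard, ht] at h2
      rw [ht] at hcpos ⊢
      rcases t with _ | _ | t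
      · simp at hcpos
      · simp
      · exfalso
        have : p * 2 ≤ p * (t + 1 + 1) := Nat.mul_le_mul_left _ (by omega)
        omega
    have hdet : LinearMap.det (ρ v) = 1 := by
      let f : G →* ℂ := (LinearMap.det).comp ρ
      have hv' : v ∈ commutator G := hperf ▸ Subgroup.mem_top v
      have : commutator G ≤ f.toHomUnits.ker := Abelianization.commutator_subset_ker _
      exact congrArg Units.val (MonoidHom.mem_ker.1 (this hv'))
    rw [← LinearMap.det_toMatrix bb, hdiag _ _ (fun i => (hbb i).1), Matrix.det_diagonal] at hdet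
    rw [← Finset.prod_filter_mul_prod_filter_not Finset.univ (fun i => μ i = μ i₀),
      Finset.prod_eq_one (s := Finset.univ.filter fun i => ¬ μ i = μ i₀)
        (fun i hi => (hother i).resolve_right (Finset.mem_filter.1 hi).2), mul_one,
      Finset.prod_congr rfl (fun i hi => (Finset.mem_filter.1 hi).2), Finset.prod_const, hc] at hdet
    have hcop : Nat.Coprime p m := hp.coprime_iff_not_dvd.2 hm
    refine hi₀ (orderOf_eq_one_iff.1 (Nat.dvd_one.1 ?_))
    rw [← hcop]
    exact Nat.dvd_gcd (orderOf_dvd_of_pow_eq_one hdet) (orderOf_dvd_of_pow_eq_one (hbb i₀).2)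
  refine hfaith v ?_
  rw [← pow_one v, hsum, ← hχρ, Representation.char_one]
  simp [hμ1]

end Cfsg.Agent.S4729
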