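import Cfsg.Statements.S4730
import Cfsg.Agent.H24.Arith
import Cfsg.Agent.H12.Integral
import Cfsg.Agent.H12.Linear
import Cfsg.Agent.H20.LocalRing


set_option autoImplicit false
open Cfsg

namespace Cfsg.Agent.S4730

/-- Let p be a prime, M a maximal ideal of the algebraic integers containing p, and G a finite group with trivial centre, Sylow p-subgroup P of order p^a and centre Z(P) of order p^b. If χ is a faithful irreducible character of G whose degree is a power of p, then the p-block of χ has defect at most a − b; in particular, if P is abelian then χ lies in a block of defect zero. -/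
theorem result {G : Type*} [Group G] [Finite G] (p : ℕ) [Fact p.Prime] (M : Ideal Cfsg.AlgInt) (hM : Cfsg.IsPModular p M) (hZ : Subgroup.center G = ⊥) (P : Sylow p G) (a b : ℕ) (ha : Nat.card P = p ^ a) (hb : Nat.card (Subgroup.center ↥(P : Subgroup G)) = p ^ b) (χ : Cfsg.IrrCharacter G) (hfaith : ∀ g : G, (χ : G → ℂ) g = (χ : G → ℂ) 1 → g = 1) (n : ℕ) (hdeg : Cfsg.charDegree (χ : G → ℂ) = p ^ n) : Cfsg.blockDefect p (Cfsg.blockOf M (χ : G → ℂ)) ≤ a - b ∧ (IsMulCommutative ↥(P : Subgroup G) → Cfsg.blockDefect p (Cfsg.blockOf M (χ : G → ℂ)) = 0) := by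
  classical
  haveI := Fintype.ofFinite G
  haveI := H20.isPrime_of_modular hM
  have hp := (Fact.out : p.Prime)
  have hvP : (Nat.card G).factorization p = a := by
    have h1 := Sylow.card_eq_multiplicity P
    rw [show Nat.card (P : Subgroup G) = Nat.card P from rfl] at h1
    rw [ha] at h1
    exact (Nat.pow_right_injective hp.two_le h1).symm
  -- the members of the block vanish to high order on the centre of the Sylow subgroup
  have hidx : ∀ z : ↥(P : Subgroup G), z ∈ Subgroup.center ↥(P : Subgroup G) →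
      ¬ p ∣ (Subgroup.centralizer ({(z : G)} : Set G)).index := by
    intro z hz hdvd
    apply P.not_dvd_index
    refine hdvd.trans (Subgroup.index_dvd_of_le ?_)
    intro y hy
    rw [Subgroup.mem_centralizer_singleton_iff]
    exact (congrArg Subtype.val (Subgroup.mem_center_iff.1 hz ⟨y, hy⟩))
  have hzero : ∀ z : ↥(P : Subgroup G), z ∈ Subgroup.center ↥(P : Subgroup G) → z ≠ 1 →
      (χ : G → ℂ) (z : G) = 0 := by
    intro z hz hz1
    obtain ⟨m, ρ, hρ, hχρ⟩ := χ.2
    haveI := hρ
    have hfr : Module.finrank ℂ (Fin m → ℂ) = p ^ n := by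
      rw [← hdeg, H24.charDegree_eq_degree, ← hχρ, H12.degree_character]
    have hcop : Nat.Coprime (Module.finrank ℂ (Fin m → ℂ))
        (Subgroup.centralizer ({(z : G)} : Set G)).index := by
      rw [hfr]
      exact Nat.Coprime.pow_left _ (hp.coprime_iff_not_dvd.2 (hidx z hz))
    rcases H12.character_eq_zero_or_norm_eq ρ (z : G) hcop with h | h
    · rw [← hχρ]; exact h
    · exfalso
      obtain ⟨ω, hω⟩ := H12.exists_scalar_of_norm_eq ρ (z : G) h
      refine hz1 (Subtype.ext ?_)
      have hcen : (z : G) ∈ Subgroup.center G := by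
        rw [Subgroup.mem_center_iff]
        intro g
        have h1 : ρ ((g * z) * ((z : G) * g)⁻¹) = 1 := by
          rw [map_mul, map_mul, hω, mul_smul_comm, show (LinearMap.id : (Fin m → ℂ) →ₗ[ℂ] _) = 1 from rfl,
            mul_one, smul_mul_assoc, ← map_mul, mul_inv_rev, ← mul_assoc, mul_inv_cancel, one_mul]
          have h2 : ρ ((z : G) * (z : G)⁻¹) = 1 := by rw [mul_inv_cancel, map_one]
          rw [map_mul, hω, show (LinearMap.id : (Fin m → ℂ) →ₗ[ℂ] _) = 1 from rfl, smul_mul_assoc,
            one_mul] at h2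
          exact h2
        have h3 := hfaith ((g * z) * ((z : G) * g)⁻¹) (by
          rw [← hχρ]
          simp only [Representation.character, map_one] at h1 ⊢
          rw [h1])
        exact mul_inv_eq_one.1 h3
      rw [hZ] at hcen
      exact Subgroup.mem_bot.1 hcen
  have hmem : ∀ ψ ∈ blockOf M (χ : G → ℂ), b ≤ (charDegree (ψ : G → ℂ)).factorization p := by
    intro ψ hψ
    by_contra hlt
    set d := charDegree (ψ : G → ℂ) with hd
    haveI : Fintype (Subgroup.center ↥(P : Subgroup G)) := Fintype.ofFinite _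
    obtain ⟨t, ht⟩ := H24.sum_subgroup_eq
      (H12.IsCharacter.res (H12.isCharacter_irr ψ) (P : Subgroup G)) (Subgroup.center ↥(P : Subgroup G))
    have hval : ∀ z : Subgroup.center ↥(P : Subgroup G), z ≠ 1 →
        MemLocalIdeal M ((ψ : G → ℂ) (z : ↥(P : Subgroup G)) / (d : ℂ)) := by
      intro z hz
      have h1 := hψ ((z : ↥(P : Subgroup G)) : G)
      rw [centralChar, hzero _ z.2 (fun h => hz (Subtype.ext h)), mul_zero, zero_div, zero_sub] at h1
      have h2 := H20.memIdeal_mul (H20.memRing_mul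
        (H20.memRing_intCast (M := M) (-1)) (H20.inv_natCast_memRing hM (hidx _ z.2))) h1
      rw [centralChar, H24.irr_one, ← hd] at h2
      have h0 : ((Subgroup.centralizer ({((z : ↥(P : Subgroup G)) : G)} : Set G)).index : ℂ) ≠ 0 :=
        Nat.cast_ne_zero.2 Subgroup.index_ne_zero_of_finite
      convert h2 using 1
      field_simp
      ring
    have hd0 : (d : ℂ) ≠ 0 := Nat.cast_ne_zero.2 (H24.irr_pos ψ).ne'
    rw [← Finset.add_sum_erase _ _ (Finset.mem_univ (1 : Subgroup.center ↥(P : Subgroup G))), hb] at ht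
    have hsum : MemLocalIdeal M (∑ z ∈ Finset.univ.erase (1 : Subgroup.center ↥(P : Subgroup G)),
        (ψ : G → ℂ) (z : ↥(P : Subgroup G)) / (d : ℂ)) :=
      Finset.sum_induction _ (MemLocalIdeal M) (fun _ _ => H20.memIdeal_add) H20.memIdeal_zero
        fun z hz => hval z (Finset.ne_of_mem_erase hz)
    set r := d / p ^ d.factorization p with hr
    have hrp : ¬ p ∣ r := Nat.not_dvd_ordCompl hp (H24.irr_pos ψ).ne'
    have hone : MemLocalIdeal M (((p ^ b / p ^ d.factorization p * t : ℕ) : ℂ) * (r : ℂ)⁻¹) := by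
      rw [mul_comm]
      refine H20.memIdeal_mul (H20.inv_natCast_memRing hM hrp) ?_
      rw [H20.natCast_memIdeal_iff hM]
      refine Dvd.dvd.mul_right ?_ _
      rw [Nat.pow_div (by omega) hp.pos]
      exact dvd_pow_self p (by omega)
    refine H20.not_memIdeal_one (M := M) ?_
    have heq : (1 : ℂ) = ((p ^ b / p ^ d.factorization p * t : ℕ) : ℂ) * (r : ℂ)⁻¹ +
        ((-1 : ℤ) : ℂ) * (∑ z ∈ Finset.univ.erase (1 : Subgroup.center ↥(P : Subgroup G)),
        (ψ : G → ℂ) (z : ↥(P : Subgroup G)) / (d : ℂ)) := by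
      rw [← Finset.sum_div]
      have hdr : (d : ℂ) = ((p ^ d.factorization p : ℕ) : ℂ) * (r : ℂ) := by
        rw [← Nat.cast_mul, Nat.ordProj_mul_ordCompl_eq_self]
      have hdiv : p ^ d.factorization p ∣ p ^ b := pow_dvd_pow p (by omega)
      rw [Nat.cast_mul, Nat.cast_div hdiv (Nat.cast_ne_zero.2 (pow_ne_zero _ hp.ne_zero))]
      simp only [OneMemClass.coe_one, H24.irr_one, ← hd] at ht
      rw [eq_sub_of_add_eq' ht, hdr]
      have hr0 : (r : ℂ) ≠ 0 := Nat.cast_ne_zero.2 (fun h => hrp (h ▸ dvd_zero p))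
      have hp0 : ((p ^ d.factorization p : ℕ) : ℂ) ≠ 0 := Nat.cast_ne_zero.2 (pow_ne_zero _ hp.ne_zero)
      field_simp
      push_cast
      ring
    rw [heq]
    exact H20.memIdeal_add hone (H20.memIdeal_mul (H20.memRing_intCast _) hsum)
  have hχmem : χ ∈ blockOf M (χ : G → ℂ) := fun g => by
    rw [sub_self]; exact H20.memIdeal_zero
  have hdef : blockDefect p (blockOf M (χ : G → ℂ)) ≤ a - b := by
    rw [blockDefect, hvP]
    refine Nat.sub_le_sub_left ?_ _
    refine le_csInf ⟨_, χ, hχmem, rfl⟩ ?_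
    rintro _ ⟨ψ, hψ, rfl⟩
    exact hmem ψ hψ
  refine ⟨hdef, fun hcomm => ?_⟩
  have hab : b = a := by
    refine Nat.pow_right_injective hp.two_le ?_
    show p ^ b = p ^ a
    rw [← ha, ← hb]
    have : Subgroup.center ↥(P : Subgroup G) = ⊤ := by
      refine top_le_iff.1 fun x _ => Subgroup.mem_center_iff.2 fun y => ?_
      exact hcomm.is_comm.comm y x
    rw [this, Subgroup.card_top]
  rw [hab, Nat.sub_self] at hdef
  exact Nat.le_zero.1 hdef

end Cfsg.Agent.S4730
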