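import Cfsg.Statements.S4733
import Cfsg.Agent.H19.RegularSpan
-- import your own Cfsg.Agent.* helpers here

set_option autoImplicit false
open Cfsg

namespace Cfsg.Agent.S4733

/-- Let p be a prime, M a maximal ideal of the algebraic integers containing p, and B a p-block of the finite group G with k irreducible characters and p-regular rank l (the number of irreducible Brauer characters). Then l ≤ k, and the following are equivalent: B has defect 0; k = l = 1; k = l. -/
theorem result {G : Type*} [Group G] [Finite G] (p : ℕ) [Fact p.Prime] (M : Ideal Cfsg.AlgInt) (hM : Cfsg.IsPModular p M) (B : Set (Cfsg.IrrCharacter G)) (hB : Cfsg.IsPBlock M B) : Cfsg.blockRank p B ≤ Nat.card B ∧ (Cfsg.blockDefect p B = 0 ↔ (Nat.card B = 1 ∧ Cfsg.blockRank p B = 1)) ∧ (Cfsg.blockDefect p B = 0 ↔ Nat.card B = Cfsg.blockRank p B) := by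
  classical
  haveI := Fintype.ofFinite G
  haveI : M.IsPrime := hM.2.1.isPrime
  obtain ⟨χ₀, hχ₀⟩ := H20.block_nonempty hB
  have hzero : Cfsg.blockDefect p B = 0 → Nat.card B = 1 ∧ Cfsg.blockRank p B = 1 := by
    intro h0
    rw [H20.singleton_of_defect_zero hM hB h0 hχ₀]
    exact ⟨by simp, H19.RegSpan.blockRank_singleton χ₀⟩
  refine ⟨H19.RegSpan.blockRank_le_card B, ⟨hzero, fun h => ?_⟩, fun h => ?_,
    H19.RegSpan.defect_zero_of_card_eq_rank hM hB⟩
  · exact H19.RegSpan.defect_zero_of_card_eq_rank hM hB (h.1.trans h.2.symm)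
  · rw [(hzero h).1, (hzero h).2]


end Cfsg.Agent.S4733
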