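import Cfsg.Statements.S4734
import Cfsg.Agent.H24.PiKernelClaim


set_option autoImplicit false
open Cfsg

namespace Cfsg.Agent.S4734

/-- Let p be a prime, π a set of primes containing p, M a maximal ideal of the algebraic integers containing p, B a p-block of the finite group G with defect group D, and B₁ the block of N_G(D) with defect group D inducing B. Write O_π'(X) for the largest normal subgroup of X whose order has no prime divisor in π, and suppose every element of O_π'(N_G(D)) lies in the kernel of every member of B₁. Let G₀ be a subgroup and B₀ a block of G₀ with defect group D₀ such that C_G(D₀) ≤ G₀ and B₀ induces B. Then every element of O_π'(G₀) lies in the kernel of every member of B₀. -/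
theorem result {G : Type*} [Group G] [Finite G] (p : ℕ) [Fact p.Prime] (M : Ideal Cfsg.AlgInt) (hM : Cfsg.IsPModular p M) (π : Set ℕ) (hpπ : p ∈ π) (B : Set (Cfsg.IrrCharacter G)) (hB : Cfsg.IsPBlock M B) (D : Subgroup G) (hBD : Cfsg.IsDefectGroup p M B D) (B₁ : Set (Cfsg.IrrCharacter ↥(Subgroup.normalizer (D : Set G)))) (hB₁ : Cfsg.IsInducedBlock M (Subgroup.normalizer (D : Set G)) B₁ B) (hB₁D : Cfsg.IsDefectGroup p M B₁ (D.subgroupOf (Subgroup.normalizer (D : Set G)))) (hker : ∀ n : ↥(Subgroup.normalizer (D : Set G)), n ∈ Cfsg.piCore {q | q ∉ π} ↥(Subgroup.normalizer (D : Set G)) → n ∈ Cfsg.blockKer B₁) (G₀ : Subgroup G) (B₀ : Set (Cfsg.IrrCharacter ↥G₀)) (hB₀ : Cfsg.IsInducedBlock M G₀ B₀ B) (D₀ : Subgroup ↥G₀) (hD₀ : Cfsg.IsDefectGroup p M B₀ D₀) (hC : Subgroup.centralizer ((D₀.map G₀.subtype : Subgroup G) : Set G) ≤ G₀) : ∀ x : ↥G₀, x ∈ Cfsg.piCore {q | q ∉ π} ↥G₀ → x ∈ Cfsg.blockKer B₀ := by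
  classical
  haveI := Fintype.ofFinite G
  haveI := hM.2.1.isPrime
  haveI := Fintype.ofFinite ↥G₀
  haveI := Fintype.ofFinite ↥(Subgroup.normalizer (D : Set G))
  haveI := Fintype.ofFinite ↥(Subgroup.normalizer ((D₀.map G₀.subtype : Subgroup G) : Set G))
  intro x hx
  obtain ⟨f, hf, hstep⟩ := H24.exists_step hM hB₀ hD₀ hC
  have hD₀p : IsPGroup p (D₀.map G₀.subtype : Subgroup G) :=
    (H20.IsDefectGroup.isPGroup hD₀).map _
  have hkill := H24.kills_local hM hpπ hBD hB₁ hB₁D hker _ hD₀p hf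
  have hKn := H82.le_normalizer_piCoreOf {q | q ∉ π} G₀
  have hk := (hstep (piCoreOf {q | q ∉ π} G₀) _ hKn
    (H24.not_dvd_piCoreOf hM hpπ G₀) (H82.piCoreOf_le _ _)
    ((H82.le_normalizer_centralizer le_rfl).trans (H24.normalizer_le_normalizer_piCoreOf _ _))
    (H24.not_dvd_piCoreOf hM hpπ _)).1
    (H82.le_piCoreOf inf_le_right
      (H82.le_normalizer_inf (hC.trans hKn) (H82.le_normalizer_of_le le_rfl))
      ((H82.piCoreOf_isPiSub _ G₀).mono inf_le_left)) hkill
  exact fun χ hχ => hk χ hχ x ((H24.mem_piCoreOf_iff x).2 hx)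

end Cfsg.Agent.S4734
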