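import Cfsg.Statements.S4735
import Cfsg.Agent.H24.PrincipalQuot


set_option autoImplicit false
open Cfsg

namespace Cfsg.Agent.S4735

/-- Let p be a prime, M a maximal ideal of the algebraic integers containing p, G a finite group, H = O_p'(G) and Ḡ = G/H. For x ∈ G write λ(G, x) for the sum of |χ(x)|^2 over the irreducible characters χ in the principal p-block of G. Then λ(G, x) is a positive integer, λ(G, x) = λ(Ḡ, x̄) where x̄ is the image of x, and λ(G, x) ≤ #C_Ḡ(x̄). Moreover λ(G, 1) = [G : H] if and only if the principal block is the only p-block of Ḡ. -/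
theorem result {G : Type*} [Group G] [Finite G] (p : ℕ) [Fact p.Prime] (M : Ideal Cfsg.AlgInt) (hM : Cfsg.IsPModular p M) (x : G) : (∃ n : ℕ, 0 < n ∧ ∑ᶠ χ ∈ Cfsg.principalBlock M G, Complex.normSq ((χ : G → ℂ) x) = n) ∧ ∑ᶠ χ ∈ Cfsg.principalBlock M G, Complex.normSq ((χ : G → ℂ) x) = ∑ᶠ ψ ∈ Cfsg.principalBlock M (G ⧸ Cfsg.pPrimeCore p G), Complex.normSq ((ψ : G ⧸ Cfsg.pPrimeCore p G → ℂ) (QuotientGroup.mk x)) ∧ ∑ᶠ χ ∈ Cfsg.principalBlock M G, Complex.normSq ((χ : G → ℂ) x) ≤ (Nat.card ↥(Subgroup.centralizer ({(QuotientGroup.mk x : G ⧸ Cfsg.pPrimeCore p G)} : Set (G ⧸ Cfsg.pPrimeCore p G))) : ℝ) ∧ ((∑ᶠ χ ∈ Cfsg.principalBlock M G, Cfsg.charDegree (χ : G → ℂ) ^ 2) = (Cfsg.pPrimeCore p G).index ↔ ∀ B : Set (Cfsg.IrrCharacter (G ⧸ Cfsg.pPrimeCore p G)), Cfsg.IsPBlock M B → B = Cfsg.principalBlock M (G ⧸ Cfsg.pPrimeCore p G)) := by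
  classical
  haveI := Fintype.ofFinite G
  haveI := H20.isPrime_of_modular hM
  haveI := H1.pPrimeCore_normal' p G
  haveI : Fintype (G ⧸ Cfsg.pPrimeCore p G) := Fintype.ofFinite _
  obtain ⟨S, hS⟩ : ∃ S : ℂ, S = ∑ χ : IrrCharacter G,
      if χ ∈ principalBlock M G then (χ : G → ℂ) x * (χ : G → ℂ) x⁻¹ else 0 := ⟨_, rfl⟩
  obtain ⟨R, hR⟩ : ∃ R : ℝ, R = ∑ᶠ χ ∈ Cfsg.principalBlock M G, Complex.normSq ((χ : G → ℂ) x) :=
    ⟨_, rfl⟩
  have hSR : S = (R : ℂ) := by
    rw [hS, hR, H20.finsum_mem_eq_sum_ite, Complex.ofReal_sum]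
    refine Finset.sum_congr rfl fun χ _ => ?_
    split_ifs
    · rw [H12.irr_inv, Complex.mul_conj]
    · simp
  have hR1 : (1 : ℝ) ≤ R := by
    rw [hR, H20.finsum_mem_eq_sum_ite]
    refine le_trans ?_ (Finset.single_le_sum (fun χ _ => ?_) (Finset.mem_univ (H12.oneIrr G)))
    · rw [if_pos (show H12.oneIrr G ∈ principalBlock M G from H20.mem_blockOf_self (H12.oneIrr G))]
      simp [H12.oneIrr_apply]
    · split_ifs
      · exact Complex.normSq_nonneg _
      · exact le_rfl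
  have hquot := fun f : IrrCharacter G → ℝ => H24.sum_principalBlock_quotient hM f
  rw [← hR]
  refine ⟨?_, ?_, ?_, ?_⟩
  · have hint : IsIntegral ℤ S := by
      rw [hS]
      refine IsIntegral.sum _ fun χ _ => ?_
      split_ifs
      · exact (H12.IsCharacter.isIntegral (H12.isCharacter_irr χ) _).mul
          (H12.IsCharacter.isIntegral (H12.isCharacter_irr χ) _)
      · exact isIntegral_zero
    have hfix : ∀ σ : ℂ ≃+* ℂ, σ S = S := fun σ => by
      rw [hS]
      exact H24.galois_fixed_sum hM σ x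
    obtain ⟨n, hn⟩ := H24.exists_nat_of_fixed hint hfix (by rw [hSR, Complex.ofReal_re]; linarith)
    have hRn : R = (n : ℝ) := by
      rw [hSR] at hn
      exact_mod_cast hn
    refine ⟨n, ?_, hRn⟩
    rw [hRn] at hR1
    exact_mod_cast hR1
  · rw [hR, hquot]
    rfl
  · rw [hR, hquot, H20.finsum_mem_eq_sum_ite]
    have h1 : ∑ ψ : IrrCharacter (G ⧸ Cfsg.pPrimeCore p G),
        Complex.normSq ((ψ : G ⧸ Cfsg.pPrimeCore p G → ℂ) (QuotientGroup.mk x)) =
        (Nat.card ↥(Subgroup.centralizer ({(QuotientGroup.mk x : G ⧸ Cfsg.pPrimeCore p G)} : Set (G ⧸ Cfsg.pPrimeCore p G))) : ℝ) := by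
      apply Complex.ofReal_injective
      rw [Complex.ofReal_natCast, ← H24.sum_norm_sq, Complex.ofReal_sum]
      exact Finset.sum_congr rfl fun ψ _ => by rw [H12.irr_inv, Complex.mul_conj]
    rw [← h1]
    refine Finset.sum_le_sum fun ψ _ => ?_
    split_ifs
    · exact le_of_eq rfl
    · exact Complex.normSq_nonneg _
  · rw [H24.sum_principalBlock_quotient hM, H20.finsum_mem_eq_sum_ite]
    have hdeg : ∑ ψ : IrrCharacter (G ⧸ Cfsg.pPrimeCore p G),
        charDegree (ψ : G ⧸ Cfsg.pPrimeCore p G → ℂ) ^ 2 = (Cfsg.pPrimeCore p G).index := by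
      have h1 := H24.sum_norm_sq (1 : G ⧸ Cfsg.pPrimeCore p G)
      rw [show Subgroup.centralizer ({(1 : G ⧸ Cfsg.pPrimeCore p G)} : Set (G ⧸ Cfsg.pPrimeCore p G)) = ⊤ from
        eq_top_iff.2 fun y _ => Subgroup.mem_centralizer_singleton_iff.2 (by simp),
        Subgroup.card_top] at h1
      simp only [inv_one, H24.irr_one, ← Nat.cast_mul, ← Nat.cast_sum, Nat.cast_inj] at h1
      rw [Subgroup.index, ← h1]
      simp only [sq]
    simp only [H24.charDegree_inflate]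
    rw [← hdeg]
    have hle : ∀ ψ ∈ (Finset.univ : Finset (IrrCharacter (G ⧸ Cfsg.pPrimeCore p G))),
        (if ψ ∈ principalBlock M (G ⧸ Cfsg.pPrimeCore p G) then
          charDegree (ψ : G ⧸ Cfsg.pPrimeCore p G → ℂ) ^ 2 else 0) ≤
        charDegree (ψ : G ⧸ Cfsg.pPrimeCore p G → ℂ) ^ 2 := fun ψ _ => by
      split_ifs
      · exact le_rfl
      · exact Nat.zero_le _
    rw [Finset.sum_eq_sum_iff_of_le hle]
    constructor
    · rintro h B ⟨ψ, rfl⟩
      refine (H20.block_eq_blockOf H20.isPBlock_principalBlock ?_).symm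
      by_contra hψ
      have h2 := h ψ (Finset.mem_univ ψ)
      rw [if_neg hψ] at h2
      exact (pow_pos (H24.irr_pos ψ) 2).ne h2
    · intro h ψ _
      rw [if_pos]
      rw [← h _ (H20.isPBlock_blockOf ψ)]
      exact H20.mem_blockOf_self ψ

end Cfsg.Agent.S4735
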