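import Cfsg.Statements.S4736
import Cfsg.Agent.H24.PrincipalQuot
import Cfsg.Agent.S4713


set_option autoImplicit false
open Cfsg

namespace Cfsg.Agent.S4736

/-- Let p be a prime, M a maximal ideal of the algebraic integers containing p, and G a finite p-solvable group with Sylow p-subgroup P. Then P is abelian if and only if every irreducible character in the principal p-block of G has height zero. -/
theorem result {G : Type*} [Group G] [Finite G] (p : ℕ) [Fact p.Prime] (M : Ideal Cfsg.AlgInt) (hM : Cfsg.IsPModular p M) (hsolv : Cfsg.IsPSolvable p G) (P : Sylow p G) : IsMulCommutative P ↔ ∀ χ ∈ Cfsg.principalBlock M G, Cfsg.blockHeight p (Cfsg.principalBlock M G) (χ : G → ℂ) = 0 := by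
  classical
  haveI := Fintype.ofFinite G
  haveI := H20.isPrime_of_modular hM
  haveI := H1.pPrimeCore_normal' p G
  haveI : Fintype (G ⧸ Cfsg.pPrimeCore p G) := Fintype.ofFinite _
  set N := Cfsg.pPrimeCore p G with hNdef
  have hN := H24.not_dvd_card_pPrimeCore (G := G) hM.1
  have hsolvQ := H10.isPSolvable_quotient hsolv N
  have hcoreQ : Cfsg.pPrimeCore p (G ⧸ N) = ⊥ := H10.pPrimeCore_quotient_pPrimeCore
  let Q : Sylow p (G ⧸ N) := P.mapSurjective (f := QuotientGroup.mk' N) (QuotientGroup.mk'_surjective N)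
  have hmap : (Q : Subgroup (G ⧸ N)) = (P : Subgroup G).map (QuotientGroup.mk' N) := rfl
  have hinj : ∀ a b : (P : Subgroup G), QuotientGroup.mk' N (a : G) = QuotientGroup.mk' N (b : G) → a = b := by
    intro a b h
    rw [QuotientGroup.mk'_apply, QuotientGroup.mk'_apply, QuotientGroup.eq] at h
    obtain ⟨j, hj⟩ := IsPGroup.iff_orderOf.1 P.isPGroup' (a⁻¹ * b)
    rw [← Subgroup.orderOf_coe] at hj
    have h1 := Subgroup.orderOf_dvd_natCard N h
    have hcoe : ((a⁻¹ * b : (P : Subgroup G)) : G) = (a : G)⁻¹ * (b : G) := rfl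
    rw [← hcoe, hj] at h1
    rcases Nat.eq_zero_or_pos j with h0 | h0
    · rw [h0, pow_zero] at hj
      exact inv_mul_eq_one.1 (Subtype.ext (orderOf_eq_one_iff.1 hj))
    · exact absurd ((dvd_pow_self p h0.ne').trans h1) hN
  have hcomm : IsMulCommutative P ↔ ((Q : Subgroup (G ⧸ N)).Normal ∧ IsMulCommutative Q) := by
    constructor
    · intro hP
      have hQc : ∀ x ∈ (Q : Subgroup (G ⧸ N)), ∀ y ∈ (Q : Subgroup (G ⧸ N)), x * y = y * x := by
        rw [hmap]
        rintro _ ⟨a, ha, rfl⟩ _ ⟨b, hb, rfl⟩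
        rw [← map_mul, ← map_mul]
        exact congrArg _ (congrArg Subtype.val (hP.is_comm.comm (⟨a, ha⟩ : (P : Subgroup G)) ⟨b, hb⟩))
      have hle : (Q : Subgroup (G ⧸ N)) ≤ Cfsg.pCore p (G ⧸ N) := by
        intro x hx
        refine H10.centralizer_pCore_le hsolvQ hcoreQ ?_
        rw [Subgroup.mem_centralizer_iff]
        exact fun y hy => hQc y (H10.pCore_le_sylow Q hy) x hx
      refine ⟨?_, ⟨⟨fun a b => Subtype.ext (hQc a a.2 b b.2)⟩⟩⟩
      rw [le_antisymm hle (H10.pCore_le_sylow Q)]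
      exact H10.pCore_normal
    · rintro ⟨-, hQ⟩
      refine ⟨⟨fun a b => hinj _ _ ?_⟩⟩
      have := congrArg Subtype.val (hQ.is_comm.comm
        (⟨QuotientGroup.mk' N (a : G), ⟨a, a.2, rfl⟩⟩ : (Q : Subgroup (G ⧸ N)))
        ⟨QuotientGroup.mk' N (b : G), ⟨b, b.2, rfl⟩⟩)
      simpa using this
  rw [hcomm, Cfsg.Agent.S4713.result p hsolvQ Q]
  have hmin : sInf ((fun ψ : IrrCharacter G => (charDegree (ψ : G → ℂ)).factorization p) ''
      principalBlock M G) = 0 := by
    refine Nat.sInf_eq_zero.2 (Or.inl ⟨H12.oneIrr G, H20.mem_blockOf_self (H12.oneIrr G), ?_⟩)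
    simp only [H24.charDegree_oneIrr, Nat.factorization_one, Finsupp.zero_apply]
  have hht : ∀ χ : IrrCharacter G, blockHeight p (principalBlock M G) (χ : G → ℂ) = 0 ↔
      ¬ p ∣ charDegree (χ : G → ℂ) := by
    intro χ
    rw [blockHeight, hmin, Nat.sub_zero, Nat.factorization_eq_zero_iff]
    have := (H24.irr_pos χ).ne'
    simp [hM.1, this]
  constructor
  · intro h χ hχ
    obtain ⟨ψ, hψ⟩ := H24.exists_deflate N χ fun n hn =>
      H24.mem_kerChar.2 (H20.principal_pPrimeCore_ker hM hχ hn)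
    rw [hht, ← hψ, H24.charDegree_inflate]
    exact h ψ
  · intro h ψ
    have h1 : H24.inflate N ψ ∈ principalBlock M G :=
      (H24.inflate_mem_principalBlock_iff N hM hN ψ).2
        (H20.single_block hM hsolvQ hcoreQ (H12.oneIrr (G ⧸ N)) ψ)
    have h2 := (hht _).1 (h _ h1)
    rwa [H24.charDegree_inflate] at h2

end Cfsg.Agent.S4736
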