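import Cfsg.Statements.S4742
import Cfsg.Agent.H24.Arith


set_option autoImplicit false
open Cfsg

namespace Cfsg.Agent.S4742

/-- Let p ≠ q be primes dividing the order of the finite group G, and suppose the centralizer of every non-identity p-element of G has order prime to q. Then either G has an irreducible character of p-defect zero, or for every non-identity q-element z of G there are conjugates g, h of z such that g h⁻¹ is a non-identity p-element. -/
theorem result {G : Type*} [Group G] [Finite G] (p q : ℕ) [Fact p.Prime] [Fact q.Prime] (hppq : p ≠ q) (hpG : p ∣ Nat.card G) (hqG : q ∣ Nat.card G) (hC : ∀ g : G, g ≠ 1 → (∃ k : ℕ, orderOf g = p ^ k) → ¬ q ∣ Nat.card ↥(Subgroup.centralizer ({g} : Set G))) : (∃ χ : Cfsg.IrrCharacter G, (Cfsg.charDegree (χ : G → ℂ)).factorization p = (Nat.card G).factorization p) ∨ ∀ z : G, z ≠ 1 → (∃ k : ℕ, orderOf z = q ^ k) → ∃ g h : G, IsConj z g ∧ IsConj z h ∧ g * h⁻¹ ≠ 1 ∧ ∃ k : ℕ, orderOf (g * h⁻¹)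 = p ^ k := by
  classical
  haveI := Fintype.ofFinite G
  by_cases hmain : ∀ z : G, z ≠ 1 → (∃ k : ℕ, orderOf z = q ^ k) →
      ∃ g h : G, IsConj z g ∧ IsConj z h ∧ g * h⁻¹ ≠ 1 ∧ ∃ k : ℕ, orderOf (g * h⁻¹) = p ^ k
  · exact Or.inr hmain
  refine Or.inl ?_
  push_neg at hmain
  obtain ⟨z, hz, hzq, hnone⟩ := hmain
  obtain ⟨P⟩ := (inferInstance : Nonempty (Sylow p G))
  have ha : (Nat.card ↥(Subgroup.centralizer ({z} : Set G))).factorization p = 0 :=
    Nat.factorization_eq_zero_of_not_dvd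
      (H24.not_dvd_card_centralizer_of_not_dvd hC hz hzq)
  obtain ⟨χ, hχ⟩ := H24.exists_pow_dvd_degree (Fact.out : p.Prime) z (P : Subgroup G)
    (Sylow.card_eq_multiplicity P) ha (show ∀ u ∈ (P : Subgroup G), u ≠ 1 → H24.classMult z z⁻¹ u = 0 by
    intro u hu hu1
    rw [H24.classMult, Nat.card_eq_zero]
    refine Or.inl ⟨fun ⟨ab, h1, h2, h3⟩ => ?_⟩
    have h2' : IsConj z ab.2⁻¹ := by
      obtain ⟨c, hc⟩ := isConj_iff.1 h2
      refine isConj_iff.2 ⟨c, ?_⟩
      rw [← hc]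
      all_goals group
    obtain ⟨k, hk⟩ := IsPGroup.iff_orderOf.1 P.isPGroup' ⟨u, hu⟩
    rw [Subgroup.orderOf_mk] at hk
    exact hnone ab.1 ab.2⁻¹ h1 h2' (by rw [inv_inv, h3]; exact hu1) k (by rw [inv_inv, h3]; exact hk))
  exact ⟨χ, H24.factorization_eq_of_card_sylow_dvd χ (by simpa using hχ)⟩

end Cfsg.Agent.S4742
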