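import Cfsg.Statements.S4744
import Cfsg.Agent.H24.RealPElement


set_option autoImplicit false
open Cfsg

namespace Cfsg.Agent.S4744

/-- Let p be an odd prime and G a finite group of even order divisible by p in which the centralizer of every non-identity p-element has odd order. Then either G has an irreducible character of p-defect zero, or the normalizer of every Sylow p-subgroup P of G has even order and P is abelian. -/
theorem result {G : Type*} [Group G] [Finite G] (p : ℕ) [Fact p.Prime] (hp2 : p ≠ 2) (hpG : p ∣ Nat.card G) (h2G : 2 ∣ Nat.card G) (hC : ∀ g : G, g ≠ 1 → (∃ k : ℕ, orderOf g = p ^ k) → Odd (Nat.card ↥(Subgroup.centralizer ({g} : Set G)))) : (∃ χ : Cfsg.IrrCharacter G, (Cfsg.charDegree (χ : G → ℂ)).factorization p = (Nat.card G).factorization p) ∨ ∀ P : Sylow p G, Even (Nat.card ↥(Subgroup.normalizer ((P : Subgroup G) : Set G))) ∧ IsMulCommutative ↥(P : Subgroup G) := by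
  classical
  haveI := Fintype.ofFinite G
  by_cases hdz : ∃ χ : IrrCharacter G, (charDegree (χ : G → ℂ)).factorization p = (Nat.card G).factorization p
  · exact Or.inl hdz
  refine Or.inr fun P => ?_
  simp only [not_exists] at hdz
  haveI : Fact (Nat.Prime 2) := ⟨Nat.prime_two⟩
  obtain ⟨t, ht⟩ := exists_prime_orderOf_dvd_card' 2 h2G
  obtain ⟨⟨s, hts, hs⟩, hcomm, -⟩ := H24.exists_inverting_involution hpG hC hdz t ht P
  have hs2 := H65.two_of_isConj ht hts
  refine ⟨even_iff_two_dvd.2 ?_, ⟨⟨fun a b => Subtype.ext (hcomm _ a.2 _ b.2)⟩⟩⟩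
  have hsN : s ∈ Subgroup.normalizer ((P : Subgroup G) : Set G) := by
    rw [Subgroup.mem_normalizer_iff]
    intro h
    constructor
    · intro hh
      rw [hs h hh]
      exact inv_mem hh
    · intro hh
      have h1 := hs _ hh
      have h2 : s * (s * h * s⁻¹) * s⁻¹ = h := by
        rw [show s * (s * h * s⁻¹) * s⁻¹ = (s * s) * h * (s * s)⁻¹ by group,
          H65.mul_self_of_two hs2]
        group
      rw [h2] at h1
      rw [h1]
      exact inv_mem hh
  rw [← hs2]
  exact Subgroup.orderOf_dvd_natCard _ hsN

end Cfsg.Agent.S4744
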