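import Cfsg.Statements.S4745
import Cfsg.Agent.H19.PrimePowerFix.Degree
-- import your own Cfsg.Agent.* helpers here

set_option autoImplicit false
open Cfsg

namespace Cfsg.Agent.S4745

/-- Let p be an odd prime and G a finite group of even order divisible by p in which the centralizer of every non-identity p-element has odd order, and suppose G acts faithfully and transitively on a set with p ^ r elements, r ≥ 1. Then either G has an irreducible character of p-defect zero, or G is p-solvable and has an irreducible character of 2-defect zero. -/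
theorem result {G Ω : Type*} [Group G] [Finite G] [MulAction G Ω] [FaithfulSMul G Ω] [Fintype Ω] (htr : MulAction.IsPretransitive G Ω) (p : ℕ) [Fact p.Prime] (hp2 : p ≠ 2) (hpG : p ∣ Nat.card G) (h2G : 2 ∣ Nat.card G) (hC : ∀ g : G, g ≠ 1 → (∃ k : ℕ, orderOf g = p ^ k) → Odd (Nat.card ↥(Subgroup.centralizer ({g} : Set G)))) (r : ℕ) (hr : 1 ≤ r) (hΩ : Fintype.card Ω = p ^ r) : (∃ χ : Cfsg.IrrCharacter G, (Cfsg.charDegree (χ : G → ℂ)).factorization p = (Nat.card G).factorization p) ∨ (Cfsg.IsPSolvable p G ∧ ∃ χ : Cfsg.IrrCharacter G, (Cfsg.charDegree (χ : G → ℂ)).factorization 2 = (Nat.card G).factorization 2) := by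
  classical
  haveI := Fintype.ofFinite G
  by_cases hdz : ∃ χ : IrrCharacter G,
      (charDegree (χ : G → ℂ)).factorization p = (Nat.card G).factorization p
  · exact Or.inl hdz
  refine Or.inr ?_
  simp only [not_exists] at hdz
  haveI := htr
  haveI : Fact (Nat.Prime 2) := ⟨Nat.prime_two⟩
  obtain ⟨t, ht⟩ := exists_prime_orderOf_dvd_card' 2 h2G
  obtain ⟨P, hPn, hcomm, hinv⟩ := H19.PPFix.normal_inverted hp2 hΩ hpG hC hdz ht
  haveI := hPn
  have hPcard : Nat.card (P : Subgroup G) = p ^ (Nat.card G).factorization p :=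
    P.card_eq_multiplicity
  refine ⟨H10.isPSolvable_of_quotient_of_card (P : Subgroup G) (Or.inl ⟨_, hPcard⟩) ?_, ?_⟩
  · refine ⟨1, ![⊥, ⊤], rfl, rfl, ?_, ?_, ?_⟩
    · intro i j _
      fin_cases i <;> fin_cases j <;> simp_all
    · intro i
      fin_cases i <;> simp <;> infer_instance
    · intro i
      right
      fin_cases i
      show ((⊥ : Subgroup (G ⧸ (P : Subgroup G))).relIndex ⊤).Coprime p
      rw [Subgroup.relIndex_bot_left, Subgroup.card_top, ← Subgroup.index_eq_card]
      exact ((Nat.Prime.coprime_iff_not_dvd Fact.out).2 P.not_dvd_index).symm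
  · haveI : Nontrivial (P : Subgroup G) :=
      (Subgroup.nontrivial_iff_ne_bot _).2 fun h => by
        have h2 := P.dvd_card_of_dvd_card hpG
        rw [h, Subgroup.card_bot] at h2
        exact (Fact.out : p.Prime).ne_one (Nat.dvd_one.1 h2)
    refine H19.PPFix.exists_two_defect_zero (P : Subgroup G) ?_ hcomm hinv
    rw [hPcard]
    exact ((Fact.out : p.Prime).odd_of_ne_two hp2).pow

end Cfsg.Agent.S4745
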