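import Cfsg.Statements.S4746
import Cfsg.Agent.H24.RealPElement
import Cfsg.Agent.H20.Knorr


set_option autoImplicit false
open Cfsg

namespace Cfsg.Agent.S4746

/-- Let p be an odd prime and G a finite group of even order divisible by p in which the centralizer of every non-identity p-element has odd order. Then G has an irreducible character of p-defect zero or an irreducible character of even degree. -/
theorem result {G : Type*} [Group G] [Finite G] (p : ℕ) [Fact p.Prime] (hp2 : p ≠ 2) (hpG : p ∣ Nat.card G) (h2G : 2 ∣ Nat.card G) (hC : ∀ g : G, g ≠ 1 → (∃ k : ℕ, orderOf g = p ^ k) → Odd (Nat.card ↥(Subgroup.centralizer ({g} : Set G)))) : (∃ χ : Cfsg.IrrCharacter G, (Cfsg.charDegree (χ : G → ℂ)).factorization p = (Nat.card G).factorization p) ∨ ∃ χ : Cfsg.IrrCharacter G, Even (Cfsg.charDegree (χ : G → ℂ)) := by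
  classical
  haveI := Fintype.ofFinite G
  by_cases hdz : ∃ χ : IrrCharacter G, (charDegree (χ : G → ℂ)).factorization p = (Nat.card G).factorization p
  · exact Or.inl hdz
  refine Or.inr ?_
  simp only [not_exists] at hdz
  haveI : Fact (Nat.Prime 2) := ⟨Nat.prime_two⟩
  obtain ⟨t, ht⟩ := exists_prime_orderOf_dvd_card' 2 h2G
  obtain ⟨P⟩ := (inferInstance : Nonempty (Sylow p G))
  obtain ⟨⟨s, hts, hs⟩, -, z, hz, hz1, -⟩ := H24.exists_inverting_involution hpG hC hdz t ht P
  obtain ⟨k, hk⟩ := IsPGroup.iff_orderOf.1 P.isPGroup' ⟨z, hz⟩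
  rw [Subgroup.orderOf_mk] at hk
  have hodd := hC z hz1 ⟨k, hk⟩
  by_contra! hall
  obtain ⟨M, hM⟩ := H20.exists_isPModular Nat.prime_two
  haveI := H20.isPrime_of_modular hM
  haveI := H20.k_charP hM
  have hreal : ∀ χ : IrrCharacter G, (χ : G → ℂ) z⁻¹ = (χ : G → ℂ) z := by
    intro χ
    rw [← hs z hz, H12.irr_isClassFunction χ]
  let v : IrrCharacter G → H20.O M := fun χ =>
    ⟨(χ : G → ℂ) z, H20.memRing_of_isIntegral (H12.IsCharacter.isIntegral (H12.isCharacter_irr χ) z)⟩
  have h1 : ∑ χ : IrrCharacter G, ((charDegree (χ : G → ℂ) : ℕ) : H20.O M) * v χ = 0 := by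
    apply Subtype.ext
    push_cast
    have h2 := H12.regular_eq_sum z
    rw [if_neg hz1] at h2
    rw [← h2]
    exact Finset.sum_congr rfl fun χ _ => by rw [H24.irr_one]
  have h2 : ∑ χ : IrrCharacter G, v χ ^ 2 =
      ((Nat.card (Subgroup.centralizer ({z} : Set G)) : ℕ) : H20.O M) := by
    apply Subtype.ext
    push_cast
    rw [← H24.sum_norm_sq]
    exact Finset.sum_congr rfl fun χ _ => by rw [hreal χ, sq]
  have h1' := congrArg (H20.red M) h1
  simp only [map_sum, map_mul, map_natCast, map_zero] at h1'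
  have h2' := congrArg (H20.red M) h2
  simp only [map_sum, map_pow, map_natCast] at h2'
  have hc : ∀ n : ℕ, Odd n → (n : H20.k M) = 1 := by
    intro n hn
    obtain ⟨j, rfl⟩ := hn
    push_cast
    rw [show (2 : H20.k M) = 0 from by exact_mod_cast CharP.cast_eq_zero (H20.k M) 2]
    simp
  simp only [fun χ : IrrCharacter G => hc _ (Nat.not_even_iff_odd.1 (hall χ)), one_mul] at h1'
  rw [← sum_pow_char 2 Finset.univ (fun χ => H20.red M (v χ)), h1', hc _ hodd,
    zero_pow two_ne_zero] at h2'
  exact zero_ne_one h2'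

end Cfsg.Agent.S4746
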