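import Cfsg.Statements.S4750
import Cfsg.Agent.H24.TIFixed


set_option autoImplicit false
open scoped Pointwise
open Cfsg

namespace Cfsg.Agent.S4750

/-- Let P be a Sylow p-subgroup of the finite group G that meets each conjugate g P g⁻¹ with g outside N_G(P) trivially, χ a character of G with χ(1)² ≤ |P|, and H a subgroup of G containing N_G(P). Then the inner product of χ with itself over G equals the inner product over H of the restriction of χ to H. -/
theorem result {G : Type*} [Group G] [Fintype G] [DecidableEq G] (p : ℕ) [Fact p.Prime] (P : Sylow p G) (hTI : ∀ g : G, g ∉ Subgroup.normalizer ((P : Subgroup G) : Set G) → (P : Subgroup G) ⊓ (MulAut.conj g • (P : Subgroup G)) = ⊥) (χ : G → ℂ) (hχ : Cfsg.IsCharacter G χ) (hdeg : Cfsg.charDegree χ ^ 2 ≤ Nat.card ↥(P : Subgroup G)) (H : Subgroup G) [Fintype ↥H] (hH : Subgroup.normalizer ((P : Subgroup G) : Set G) ≤ H) : Cfsg.classInner χ χ = Cfsg.classInner (fun h : ↥H => χ h) (fun h : ↥H => χ h) := by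
  classical
  obtain ⟨φ, hφ⟩ : ∃ φ : G → ℂ, φ = χ * fun g => (starRingEnd ℂ) (χ g) := ⟨_, rfl⟩
  have hφc : IsCharacter G φ := hφ ▸ H12.IsCharacter.mul hχ (H12.IsCharacter.star hχ)
  obtain ⟨m, hm, hmi, hdm⟩ := H24.exists_mult_classInner hφc
  have hG : classInner χ χ = classInner φ (H12.oneIrr G : G → ℂ) := by
    simp [H12.classInner_def, hφ, H12.oneIrr_apply]
  have hH' : classInner (fun h : H => χ h) (fun h : H => χ h) =
      ∑ ψ : IrrCharacter G, (m ψ : ℂ) * ((Nat.card H : ℂ)⁻¹ * ∑ h : H, (ψ : G → ℂ) h) := by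
    rw [H12.classInner_def]
    have : ∀ h : H, χ h * (starRingEnd ℂ) (χ h) = φ h := fun h => by rw [hφ]; rfl
    simp only [this]
    rw [hm]
    simp only [Finset.sum_apply, Pi.smul_apply, smul_eq_mul]
    rw [Finset.sum_comm, Finset.mul_sum]
    refine Finset.sum_congr rfl fun ψ _ => ?_
    rw [← Finset.mul_sum]
    ring
  have hdd : H12.degree φ ≤ Nat.card ↥(P : Subgroup G) := by
    refine le_of_eq_of_le ?_ hdeg
    have h1 := H12.IsCharacter.apply_one_eq_degree hφc
    have h3 : φ 1 = ((charDegree χ ^ 2 : ℕ) : ℂ) := by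
      rw [hφ, Pi.mul_apply, H12.IsCharacter.apply_one_eq_degree hχ, Complex.conj_natCast, H24.charDegree_eq_degree]
      push_cast
      ring
    rw [h3] at h1
    exact_mod_cast h1.symm
  have hz : ∀ ψ : IrrCharacter G, ψ ≠ H12.oneIrr G → m ψ ≠ 0 → ∑ h : H, (ψ : G → ℂ) h = 0 := by
    intro ψ hψ hm0
    by_contra hne
    obtain ⟨n, ρ, hρ, he⟩ := ψ.2
    haveI := hρ
    have hT : LinearMap.trace ℂ _ (∑ h : H, ρ (h : G)) = ∑ h : H, (ψ : G → ℂ) h := by
      rw [map_sum, ← he]
      rfl
    obtain ⟨w, hw⟩ : ∃ w, (∑ h : H, ρ (h : G)) w ≠ 0 := by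
      by_contra! hall
      exact hne (by rw [← hT, show (∑ h : H, ρ (h : G)) = 0 from LinearMap.ext hall, map_zero])
    have h1 : ∑ g, ρ.character g = 0 := by
      have h2 := H12.sum_mul_conj_eq_card_mul (ψ : G → ℂ) (H12.oneIrr G : G → ℂ)
      rw [H12.classInner_irr_ne hψ, mul_zero] at h2
      rw [he]
      simpa [H12.oneIrr_apply] using h2
    have hle := H24.card_le_degree_of_fixed P hTI ρ h1 _ hw (fun g hg => by
      simp only [LinearMap.sum_apply, map_sum]
      refine Fintype.sum_equiv (Equiv.mulLeft (⟨g, hH hg⟩ : H)) _ _ fun h => ?_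
      rw [← Module.End.mul_apply, ← map_mul]
      rfl)
    have hψn : charDegree (ψ : G → ℂ) = n := by
      rw [← he, H24.charDegree_eq_degree, H12.degree_character]
      simp
    have hone : 1 ≤ m (H12.oneIrr G) := by
      refine Nat.one_le_iff_ne_zero.2 fun h0 => ?_
      have h2 := hmi (H12.oneIrr G)
      rw [← hG, h0, Nat.cast_zero, H12.classInner_self_eq_zero_iff] at h2
      have h3 := hmi ψ
      rw [hφ, h2, zero_mul, H12.classInner_def] at h3
      simp only [Pi.zero_apply, zero_mul, Finset.sum_const_zero, mul_zero] at h3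
      exact hm0 (by exact_mod_cast h3.symm)
    have hsum : ∑ x ∈ ({H12.oneIrr G, ψ} : Finset (IrrCharacter G)),
        m x * charDegree (x : G → ℂ) ≤ H12.degree φ := by
      rw [hdm]
      exact Finset.sum_le_univ_sum_of_nonneg fun x => Nat.zero_le _
    rw [Finset.sum_pair (Ne.symm hψ), H24.charDegree_oneIrr, hψn] at hsum
    have := Nat.le_mul_of_pos_left n (Nat.pos_of_ne_zero hm0)
    omega
  rw [hG, hH', hmi, Finset.sum_eq_single (H12.oneIrr G) (fun ψ _ hψ => ?_) (by simp)]
  · simp [H12.oneIrr_apply, ← Nat.card_eq_fintype_card]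
  · rcases eq_or_ne (m ψ) 0 with h0 | h0
    · rw [h0, Nat.cast_zero, zero_mul]
    · rw [hz ψ hψ h0, mul_zero, mul_zero]

end Cfsg.Agent.S4750
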