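import Cfsg.Statements.S4748
import Cfsg.Agent.H24.TIFixed
import Cfsg.Agent.H10.PSolvableDual
import Cfsg.Agent.H12.Linear
import Cfsg.Agent.S4750


set_option autoImplicit false
open scoped Pointwise
open Cfsg

namespace Cfsg.Agent.S4748

/-- Let G be a finite p-solvable group whose Sylow p-subgroup P meets each conjugate g P g⁻¹ with g outside N_G(P) trivially, and let χ be a faithful character of G (χ g = χ 1 only for g = 1) whose degree d satisfies d² ≤ |P|. Then P is normal in G. -/
theorem result {G : Type*} [Group G] [Finite G] (p : ℕ) [Fact p.Prime] (hsolv : Cfsg.IsPSolvable p G) (P : Sylow p G) (hTI : ∀ g : G, g ∉ Subgroup.normalizer ((P : Subgroup G) : Set G) → (P : Subgroup G) ⊓ (MulAut.conj g • (P : Subgroup G)) = ⊥) (χ : G → ℂ) (hχ : Cfsg.IsCharacter G χ) (hfaith : ∀ g : G, χ g = χ 1 → g = 1) (hdeg : Cfsg.charDegree χ ^ 2 ≤ Nat.card ↥(P : Subgroup G)) : (P : Subgroup G).Normal := by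
  classical
  haveI : Fintype G := Fintype.ofFinite G
  by_contra hnn
  have hR : Cfsg.pCore p G = ⊥ := by
    by_contra hne
    apply hnn
    refine Subgroup.normalizer_eq_top_iff.1 (eq_top_iff.2 fun g _ => ?_)
    by_contra hg
    apply hne
    rw [eq_bot_iff, ← hTI g hg]
    refine le_inf (H10.pCore_le_sylow P) fun x hx => ?_
    rw [Subgroup.mem_pointwise_smul_iff_inv_smul_mem]
    refine H10.pCore_le_sylow P ?_
    simpa [MulAut.smul_def] using H10.pCore_normal.conj_mem x hx g⁻¹
  haveI : Nontrivial (P : Subgroup G) := (Subgroup.nontrivial_iff_ne_bot _).2 fun h => hnn (by rw [h]; infer_instance)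
  haveI := P.isPGroup'.center_nontrivial
  obtain ⟨z, hz⟩ := exists_ne (1 : Subgroup.center (P : Subgroup G))
  obtain ⟨V, hVdef⟩ : ∃ V, V = Cfsg.pPrimeCore p G := ⟨_, rfl⟩
  haveI hVn : V.Normal := hVdef ▸ H10.pPrimeCore_normal
  have hzc : ((z : (P : Subgroup G)) : G) ∈ Subgroup.centralizer (V : Set G) := by
    obtain ⟨K, hK⟩ : ∃ K : Subgroup G, K = V ⊔ (P : Subgroup G) := ⟨_, rfl⟩
    have hPK : (P : Subgroup G) ≤ K := hK ▸ le_sup_right
    have hVK : V ≤ K := hK ▸ le_sup_left
    haveI : Fintype K := Fintype.ofFinite K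
    let Q : Sylow p K := P.subtype hPK
    have hQmem : ∀ x : K, x ∈ (Q : Subgroup K) ↔ (x : G) ∈ (P : Subgroup G) := fun x => Iff.rfl
    have hnorm : ∀ k : K, k ∈ Subgroup.normalizer ((Q : Subgroup K) : Set K) ↔
        (k : G) ∈ Subgroup.normalizer ((P : Subgroup G) : Set G) := by
      intro k
      simp only [Subgroup.mem_normalizer_iff]
      constructor
      · intro h x
        constructor
        · intro hx
          exact (h ⟨x, hPK hx⟩).1 hx
        · intro hx
          have hxK : x ∈ K := by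
            have := K.mul_mem (K.mul_mem (K.inv_mem k.2) (hPK hx)) k.2
            simpa [mul_assoc] using this
          exact (h ⟨x, hxK⟩).2 hx
      · intro h x
        exact h (x : G)
    have hTI' : ∀ g : K, g ∉ Subgroup.normalizer ((Q : Subgroup K) : Set K) →
        (Q : Subgroup K) ⊓ (MulAut.conj g • (Q : Subgroup K)) = ⊥ := by
      intro g hg
      rw [eq_bot_iff]
      intro x hx
      obtain ⟨hx1, hx2⟩ := Subgroup.mem_inf.1 hx
      have h1 : (x : G) ∈ (P : Subgroup G) ⊓ (MulAut.conj (g : G) • (P : Subgroup G)) := by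
        refine Subgroup.mem_inf.2 ⟨hx1, ?_⟩
        rw [Subgroup.mem_pointwise_smul_iff_inv_smul_mem] at hx2
        rw [Subgroup.mem_pointwise_smul_iff_inv_smul_mem]
        exact hx2
      rw [hTI (g : G) fun h => hg ((hnorm g).2 h)] at h1
      exact Subgroup.mem_bot.2 (Subtype.ext (Subgroup.mem_bot.1 h1))
    have hχK : IsCharacter K (fun x : K => χ x) := H12.IsCharacter.res hχ K
    have hdegK : charDegree (fun x : K => χ x) ^ 2 ≤ Nat.card ↥(Q : Subgroup K) := by
      rw [show Nat.card ↥(Q : Subgroup K) = Nat.card ↥(P : Subgroup G) from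
        Nat.card_congr (Subgroup.subgroupOfEquivOfLe hPK).toEquiv]
      exact hdeg
    let N : Subgroup K := Subgroup.normalizer ((Q : Subgroup K) : Set K)
    haveI : Fintype N := Fintype.ofFinite N
    have heq := Cfsg.Agent.S4750.result p Q hTI' (fun x : K => χ x) hχK hdegK N le_rfl
    let z' : N := ⟨⟨((z : (P : Subgroup G)) : G), hPK (z : (P : Subgroup G)).2⟩,
      Subgroup.le_normalizer (z : (P : Subgroup G)).2⟩
    have hzcen : ∀ k : N, z' * k = k * z' := by
      intro k
      apply Subtype.ext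
      apply Subtype.ext
      show ((z : (P : Subgroup G)) : G) * ((k : K) : G) = ((k : K) : G) * ((z : (P : Subgroup G)) : G)
      have hkP := (hnorm (k : K)).1 k.2
      have hk : ((k : K) : G) ∈ V ⊔ (P : Subgroup G) := hK ▸ (k : K).2
      obtain ⟨v, hv, u, hu, hvu⟩ := Subgroup.mem_sup_of_normal_left.1 hk
      rw [← hvu] at hkP ⊢
      have hvP : v ∈ Subgroup.normalizer ((P : Subgroup G) : Set G) := by
        simpa using Subgroup.mul_mem _ hkP (Subgroup.inv_mem _ (Subgroup.le_normalizer hu))
      have hcomm : v * ((z : (P : Subgroup G)) : G) * v⁻¹ * ((z : (P : Subgroup G)) : G)⁻¹ = 1 := by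
        have h1 : v * ((z : (P : Subgroup G)) : G) * v⁻¹ * ((z : (P : Subgroup G)) : G)⁻¹ ∈ V := by
          have := hVn.conj_mem _ (V.inv_mem hv) ((z : (P : Subgroup G)) : G)
          simpa [mul_assoc] using V.mul_mem hv this
        have h2 : v * ((z : (P : Subgroup G)) : G) * v⁻¹ * ((z : (P : Subgroup G)) : G)⁻¹ ∈ (P : Subgroup G) :=
          Subgroup.mul_mem _ ((Subgroup.mem_normalizer_iff.1 hvP _).1 (z : (P : Subgroup G)).2)
            (Subgroup.inv_mem _ (z : (P : Subgroup G)).2)
        have hcop : (Nat.card V).Coprime (Nat.card (P : Subgroup G)) := by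
          rw [hVdef, P.card_eq_multiplicity]
          exact H10.pPrimeCore_coprime.pow_right _
        have hbot := Subgroup.inf_eq_bot_of_coprime hcop
        exact Subgroup.mem_bot.1 (hbot ▸ (⟨h1, h2⟩ : _ ∈ V ⊓ (P : Subgroup G)))
      have hcu : u * ((z : (P : Subgroup G)) : G) = ((z : (P : Subgroup G)) : G) * u :=
        congrArg Subtype.val (Subgroup.mem_center_iff.1 z.2 ⟨u, hu⟩)
      rw [mul_inv_eq_one, mul_inv_eq_iff_eq_mul] at hcomm
      rw [← mul_assoc, ← hcomm, mul_assoc, ← hcu, mul_assoc]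
    obtain ⟨m, hm, hmi, -⟩ := H24.exists_mult_classInner hχK
    have hscal : ∀ ψ : IrrCharacter K, m ψ ≠ 0 → ∀ y : K,
        (z' : K) * y * (z' : K)⁻¹ * y⁻¹ ∈ H24.kerChar ψ := by
      intro ψ hψ y
      have hres : ∀ φ : IrrCharacter K, ∃ n : ℕ,
          classInner (fun x : N => (φ : K → ℂ) x) (fun x : N => (φ : K → ℂ) x) = n ∧ 1 ≤ n := by
        intro φ
        have hc := H12.IsCharacter.res (H12.isCharacter_irr φ) N
        obtain ⟨n, hn⟩ := H12.IsCharacter.classInner_nat hc hc
        refine ⟨n, hn, Nat.one_le_iff_ne_zero.2 fun h0 => ?_⟩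
        rw [h0, Nat.cast_zero, H12.classInner_self_eq_zero_iff] at hn
        exact H12.irr_apply_one_ne_zero φ (congrFun hn 1)
      choose a ha ha1 using hres
      choose c hc using fun φ φ' : IrrCharacter K => H12.IsCharacter.classInner_nat
        (H12.IsCharacter.res (H12.isCharacter_irr φ) N) (H12.IsCharacter.res (H12.isCharacter_irr φ') N)
      have hca : ∀ φ, c φ φ = a φ := fun φ => by
        have := (hc φ φ).symm.trans (ha φ)
        exact_mod_cast this
      have hRN : (fun x : N => (fun y : K => χ (y : G)) (x : K)) =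
          ∑ φ, (m φ : ℂ) • (fun x : N => (φ : K → ℂ) x) := by
        funext x
        show (fun y : K => χ (y : G)) (x : K) = _
        rw [hm]
        simp [Finset.sum_apply]
      rw [hRN, H12.classInner_sum_left] at heq
      conv_lhs at heq => rw [hm, H12.classInner_sum_smul_sum_smul]
      simp only [H12.classInner_smul_left, H12.classInner_sum_right, H12.classInner_smul_right, hc,
        Complex.conj_natCast] at heq
      have heq' : ∑ φ, m φ * m φ = ∑ φ, m φ * ∑ φ', m φ' * c φ φ' := by
        simp only [Finset.mul_sum] at heq ⊢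
        refine Nat.cast_injective (R := ℂ) ?_
        push_cast
        rw [heq]
        exact Finset.sum_congr rfl fun φ _ => Finset.sum_congr rfl fun φ' _ => by ring
      have hle : ∀ φ ∈ (Finset.univ : Finset (IrrCharacter K)),
          m φ * m φ ≤ m φ * ∑ φ', m φ' * c φ φ' := by
        intro φ _
        refine Nat.mul_le_mul_left _ (le_trans ?_ (Finset.single_le_sum
          (f := fun φ' => m φ' * c φ φ') (fun _ _ => Nat.zero_le _) (Finset.mem_univ φ)))
        exact Nat.le_mul_of_pos_right _ (hca φ ▸ ha1 φ)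
      have hψeq := (Finset.sum_eq_sum_iff_of_le hle).1 heq' ψ (Finset.mem_univ _)
      have h2 := Finset.single_le_sum (f := fun φ' => m φ' * c ψ φ') (fun _ _ => Nat.zero_le _)
        (Finset.mem_univ ψ)
      rw [← Nat.eq_of_mul_eq_mul_left (Nat.pos_of_ne_zero hψ) hψeq, hca] at h2
      have ha' : a ψ = 1 := le_antisymm
        (Nat.le_of_mul_le_mul_left (h2.trans_eq (mul_one (m ψ)).symm) (Nat.pos_of_ne_zero hψ)) (ha1 ψ)
      obtain ⟨n, σ, hσ, he⟩ := H12.isIrrCharacter_of_classInner_self_eq_one
        (H12.IsCharacter.res (H12.isCharacter_irr ψ) N) (by rw [ha, ha', Nat.cast_one])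
      haveI := hσ
      obtain ⟨w, hw⟩ := H12.exists_scalar_of_commute σ (σ z') fun k => by
        rw [← map_mul, ← map_mul, hzcen]
      have hw1 : ‖w‖ = 1 := by
        haveI := H12.nontrivial_of_isIrreducible σ
        refine H12.norm_eq_one_of_pow_eq_one (orderOf_pos z').ne' ?_
        have h3 := congrArg σ (pow_orderOf_eq_one z')
        rw [map_pow, map_one, hw, smul_pow, one_pow] at h3
        obtain ⟨v, hv⟩ := exists_ne (0 : Fin n → ℂ)
        have h4 := LinearMap.congr_fun h3 v
        simp only [LinearMap.smul_apply, Module.End.one_apply] at h4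
        exact smul_left_injective ℂ hv (h4.trans (one_smul ℂ v).symm)
      have hnorm1 : ‖(ψ : K → ℂ) (z' : K)‖ = (charDegree (ψ : K → ℂ) : ℝ) := by
        have h3 : (ψ : K → ℂ) (z' : K) = w * ((ψ : K → ℂ) 1) := by
          have e1 := congrFun he z'
          have e2 := congrFun he 1
          simp only [OneMemClass.coe_one] at e2
          rw [← e1, ← e2, Representation.char_one]
          simp [Representation.character, hw]
        rw [h3, H24.irr_one, norm_mul, hw1, one_mul, Complex.norm_natCast]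
      obtain ⟨d, ρ, -, hρψ⟩ := ψ.2
      rw [← hρψ] at hnorm1
      obtain ⟨ω, hω⟩ := H12.exists_scalar_of_norm_eq ρ (z' : K) (by
        rw [hnorm1, H24.charDegree_eq_degree, H12.degree_character])
      rw [H24.mem_kerChar, ← hρψ, Representation.char_one, H12.character_eq_finrank_iff]
      have hcom : ρ (z' : K) * ρ y = ρ y * ρ (z' : K) := by
        rw [hω]
        ext v
        simp
      calc ρ ((z' : K) * y * (z' : K)⁻¹ * y⁻¹)
          = ρ (z' : K) * ρ y * (ρ (z' : K)⁻¹ * ρ y⁻¹) := by simp only [map_mul, mul_assoc]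
        _ = ρ y * ρ (z' : K) * (ρ (z' : K)⁻¹ * ρ y⁻¹) := by rw [hcom]
        _ = 1 := by rw [← map_mul, ← map_mul, ← map_mul]; simp [mul_assoc]
    rw [Subgroup.mem_centralizer_iff]
    intro v hv
    let y : K := ⟨v, hVK hv⟩
    have h3 : χ (((z' : K) * y * (z' : K)⁻¹ * y⁻¹ : K) : G) = χ 1 := by
      have h4 : ∀ x : K, χ (x : G) = ∑ ψ, (m ψ : ℂ) * (ψ : K → ℂ) x := fun x => by
        have := congrFun hm x
        simpa [Finset.sum_apply] using this
      rw [h4, ← Subgroup.coe_one K, h4]
      refine Finset.sum_congr rfl fun ψ _ => ?_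
      rcases eq_or_ne (m ψ) 0 with h0 | h0
      · simp [h0]
      · rw [H24.mem_kerChar.1 (hscal ψ h0 y)]
    have h5 := hfaith _ h3
    simp only [Subgroup.coe_mul, Subgroup.coe_inv] at h5
    rw [mul_inv_eq_one, mul_inv_eq_iff_eq_mul] at h5
    exact h5.symm
  have hzV := H10.centralizer_pPrimeCore_le hsolv hR (by rw [← hVdef]; exact hzc)
  have hbot := Subgroup.inf_eq_bot_of_coprime
    (show (Nat.card (Cfsg.pPrimeCore p G)).Coprime (Nat.card (P : Subgroup G)) by
      rw [P.card_eq_multiplicity]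
      exact H10.pPrimeCore_coprime.pow_right _)
  exact hz (Subtype.ext (Subtype.ext (Subgroup.mem_bot.1
    (hbot ▸ (⟨hzV, (z : (P : Subgroup G)).2⟩ : _ ∈ Cfsg.pPrimeCore p G ⊓ (P : Subgroup G))))))

end Cfsg.Agent.S4748
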