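import Cfsg.Statements.S4755
import Cfsg.Agent.H18.CentralChar


set_option autoImplicit false
open scoped commutatorElement
open Cfsg

namespace Cfsg.Agent.S4755

/-- Let x, y be non-identity elements of the finite group G such that χ(x' y') = χ(x') χ(y') for all conjugates x' of x, y' of y and every irreducible character χ. Then the conjugacy class of x y is the set of all products of a conjugate of x with a conjugate of y; every irreducible character of degree greater than 1 vanishes at x y; and the conjugacy class of x y is the coset of the commutator subgroup containing x y. -/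
theorem result {G : Type*} [Group G] [Finite G] (x y : G) (hx : x ≠ 1) (hy : y ≠ 1) (h : ∀ (a b : G) (χ : Cfsg.IrrCharacter G), (χ : G → ℂ) (a * x * a⁻¹ * (b * y * b⁻¹)) = (χ : G → ℂ) (a * x * a⁻¹) * (χ : G → ℂ) (b * y * b⁻¹)) : (∀ z : G, IsConj (x * y) z ↔ ∃ a b : G, z = a * x * a⁻¹ * (b * y * b⁻¹)) ∧ (∀ χ : Cfsg.IrrCharacter G, (χ : G → ℂ) 1 ≠ 1 → (χ : G → ℂ) (x * y) = 0) ∧ (∀ z : G, IsConj (x * y) z ↔ (x * y)⁻¹ * z ∈ commutator G) := by
  classical
  cases nonempty_fintype G
  have hconst : ∀ (a b : G) (χ : Cfsg.IrrCharacter G),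
      (χ : G → ℂ) (a * x * a⁻¹ * (b * y * b⁻¹)) = (χ : G → ℂ) x * (χ : G → ℂ) y := fun a b χ => by
    rw [h a b χ, H12.irr_isClassFunction χ x a, H12.irr_isClassFunction χ y b]
  have hxy : ∀ χ : Cfsg.IrrCharacter G, (χ : G → ℂ) (x * y) = (χ : G → ℂ) x * (χ : G → ℂ) y :=
    fun χ => by simpa using hconst 1 1 χ
  have hclass := H18.class_product_of_const x y fun a b χ => (hconst a b χ).trans (hxy χ).symm
  have hzero : ∀ χ : Cfsg.IrrCharacter G, (χ : G → ℂ) 1 ≠ 1 → (χ : G → ℂ) (x * y) = 0 := by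
    intro χ hχ
    have h1 := H18.const_product_value χ x y _ (fun a b => hconst a b χ)
    rw [hxy]
    by_contra h0
    exact hχ ((mul_eq_left₀ h0).mp h1)
  refine ⟨hclass, hzero, fun z => ⟨?_, ?_⟩⟩
  · intro hz
    obtain ⟨c, rfl⟩ := isConj_iff.mp hz
    have he : (x * y)⁻¹ * (c * (x * y) * c⁻¹) = ⁅(x * y)⁻¹, c⁆ := by
      simp [commutatorElement_def, mul_assoc]
    rw [he]
    exact Subgroup.commutator_mem_commutator (Subgroup.mem_top _) (Subgroup.mem_top _)
  · intro hz
    by_contra hnc
    have hcol := H12.column_orthogonality z (x * y)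
    rw [if_neg (fun hc => hnc hc.symm)] at hcol
    set A := (Finset.univ.filter fun χ : Cfsg.IrrCharacter G => (χ : G → ℂ) 1 = 1) with hA
    have h1 : ∀ χ ∈ A, (χ : G → ℂ) z * starRingEnd ℂ ((χ : G → ℂ) (x * y)) = 1 := by
      intro χ hχ
      rw [hA, Finset.mem_filter] at hχ
      obtain ⟨f, hf⟩ := H12.exists_monoidHom_of_apply_one_eq_one (H12.isCharacter_irr χ) hχ.2
      have hval : ∀ g : G, (f g : ℂ) = (χ : G → ℂ) g := fun g => congrFun hf g
      have hfz : f z = f (x * y) := by
        have h2 : f ((x * y)⁻¹ * z) = 1 :=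
          MonoidHom.mem_ker.mp (Abelianization.commutator_subset_ker f hz)
        rw [map_mul, map_inv, inv_mul_eq_one] at h2
        exact h2.symm
      rw [← hval, ← hval, hfz, ← Units.val_one, ← mul_inv_cancel (f (x * y)), Units.val_mul, hval]
      congr 1
      rw [← H12.irr_inv, ← hval, map_inv]
    have h0 : ∑ χ ∈ Finset.univ.filter (fun χ : Cfsg.IrrCharacter G => ¬ (χ : G → ℂ) 1 = 1),
        (χ : G → ℂ) z * starRingEnd ℂ ((χ : G → ℂ) (x * y)) = 0 :=
      Finset.sum_eq_zero (fun χ hχ => by rw [hzero χ (Finset.mem_filter.mp hχ).2]; simp)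
    rw [← Finset.sum_filter_add_sum_filter_not Finset.univ
      (fun χ : Cfsg.IrrCharacter G => (χ : G → ℂ) 1 = 1), ← hA, Finset.sum_congr rfl h1,
      h0, add_zero, Finset.sum_const, nsmul_eq_mul, mul_one] at hcol
    have : A.card = 0 := by exact_mod_cast hcol
    have hone : H12.oneIrr G ∈ A := by simp [hA, H12.oneIrr_apply]
    rw [Finset.card_eq_zero.mp this] at hone
    exact absurd hone (Finset.notMem_empty _)

end Cfsg.Agent.S4755
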