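import Cfsg.Statements.S4757
import Cfsg.Agent.H18.CentralChar
import Cfsg.Agent.H1.Cores
import Cfsg.Agent.H13.Linear


set_option autoImplicit false
open scoped commutatorElement
open Cfsg

namespace Cfsg.Agent.S4757

/-- Let u ≠ 1 be an element of the finite group G and c a complex number such that every non-principal irreducible character χ satisfies χ(1) − χ(u) = c or χ(u) = 0. Then the following are equivalent: (a) u has order 2, G is generated by u together with O(G), the largest normal subgroup of G of odd order, and the centralizer of u is {1, u}; (b) G is not perfect; (c) c = 2. -/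
theorem result {G : Type*} [Group G] [Finite G] (u : G) (hu : u ≠ 1) (c : ℂ) (hyp : ∀ χ : Cfsg.IrrCharacter G, (χ : G → ℂ) ≠ (fun _ => (1 : ℂ)) → ((χ : G → ℂ) 1 - (χ : G → ℂ) u = c ∨ (χ : G → ℂ) u = 0)) : ((orderOf u = 2 ∧ Subgroup.zpowers u ⊔ Cfsg.oddCore G = ⊤ ∧ Subgroup.centralizer ({u} : Set G) = Subgroup.zpowers u) ↔ commutator G ≠ ⊤) ∧ (commutator G ≠ ⊤ ↔ c = 2) := by
  classical
  cases nonempty_fintype G
  set d : Cfsg.IrrCharacter G → ℕ := fun χ => H12.degree (χ : G → ℂ) with hd
  have hdeg : ∀ χ : Cfsg.IrrCharacter G, (χ : G → ℂ) 1 = (d χ : ℂ) := fun χ => H12.irr_apply_one χ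
  set one := H12.oneIrr G with hone
  have hne1 : ∀ χ : Cfsg.IrrCharacter G, χ ≠ one → (χ : G → ℂ) ≠ fun _ => (1 : ℂ) :=
    fun χ h h' => h (Subtype.ext h')
  have hreg : ∑ χ : Cfsg.IrrCharacter G, (χ : G → ℂ) 1 * (χ : G → ℂ) u = 0 := by
    rw [H12.regular_eq_sum, if_neg hu]
  have hcol : ∑ χ : Cfsg.IrrCharacter G, (χ : G → ℂ) u * starRingEnd ℂ ((χ : G → ℂ) u) =
      (Nat.card (Subgroup.centralizer ({u} : Set G)) : ℂ) := by
    rw [H12.column_orthogonality, if_pos (IsConj.refl u)]
  have hlinval : ∀ (f : G →* ℂˣ) (g : G), ((H12.linIrr f : Cfsg.IrrCharacter G) : G → ℂ) g = (f g : ℂ) :=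
    H12.linIrr_apply
  have hlin : ∀ f : G →* ℂˣ, f ≠ 1 → (1 : ℂ) - (f u : ℂ) = c := by
    intro f hf
    have hne : H12.linIrr f ≠ one := by
      intro h
      refine hf (H12.linIrr_injective (h.trans (Subtype.ext (funext fun g => ?_))))
      rw [H12.linIrr_apply, hone, H12.oneIrr_apply]; simp
    rcases hyp _ (hne1 _ hne) with h | h
    · rw [hlinval, hlinval, map_one, Units.val_one] at h
      exact h
    · rw [hlinval] at h
      exact absurd h (f u).ne_zero
  have habc : commutator G ≠ ⊤ → c = 2 ∧ (commutator G).index = 2 := by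
    intro hperf
    have hidx : (commutator G).index ≠ 1 := fun h => hperf (Subgroup.index_eq_one.mp h)
    have hidx0 : (commutator G).index ≠ 0 := Subgroup.index_ne_zero_of_finite
    have hcard : Nat.card (G →* ℂˣ) = (commutator G).index := H12.card_monoidHom_units
    haveI : Finite (G →* ℂˣ) := Nat.finite_of_card_ne_zero (hcard ▸ hidx0)
    haveI : Fintype (G →* ℂˣ) := Fintype.ofFinite _
    have hnt : ∃ f : G →* ℂˣ, f ≠ 1 := by
      by_contra h
      push Not at h
      haveI : Subsingleton (G →* ℂˣ) := ⟨fun a b => (h a).trans (h b).symm⟩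
      exact hidx (hcard ▸ Nat.card_unique)
    obtain ⟨f, hf⟩ := hnt
    have hc0 : c ≠ 0 := by
      intro hc
      have h1 : ∀ χ : Cfsg.IrrCharacter G, ∃ m : ℕ, (χ : G → ℂ) 1 * (χ : G → ℂ) u = (m : ℂ) ∧
          (χ = one → m ≠ 0) := by
        intro χ
        by_cases h : χ = one
        · exact ⟨1, by rw [h, hone]; simp [H12.oneIrr_apply], fun _ => one_ne_zero⟩
        · rcases hyp χ (hne1 χ h) with h2 | h2
          · rw [hc, sub_eq_zero] at h2
            exact ⟨d χ * d χ, by rw [← h2, hdeg]; simp, fun h' => absurd h' h⟩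
          · exact ⟨0, by rw [h2]; simp, fun h' => absurd h' h⟩
      choose m hm hm1 using h1
      simp only [hm] at hreg
      have h0 : ∑ χ, m χ = 0 := by exact_mod_cast hreg
      exact hm1 one rfl (Finset.sum_eq_zero_iff.mp h0 one (Finset.mem_univ _))
    have hz : ∀ g : G →* ℂˣ, g ≠ 1 → g u = f u := fun g hg =>
      Units.ext (sub_right_injective ((hlin g hg).trans (hlin f hf).symm))
    have hfu : f u ≠ 1 := by
      intro h
      apply hc0
      rw [← hlin f hf, h, Units.val_one, sub_self]
    have hsq : ∀ g : G →* ℂˣ, g ≠ 1 → g * g = 1 := by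
      intro g hg
      by_contra h
      have h2 := hz _ h
      rw [MonoidHom.mul_apply, hz g hg] at h2
      exact hfu (mul_eq_left.mp h2)
    have hff : (f u : ℂ) = -1 := by
      have h2 : f u * f u = 1 := by rw [← MonoidHom.mul_apply, hsq f hf]; rfl
      have h3 : (f u : ℂ) * (f u : ℂ) = 1 := by rw [← Units.val_mul, h2, Units.val_one]
      rcases mul_self_eq_one_iff.mp h3 with h4 | h4
      · exact absurd (Units.ext h4) hfu
      · exact h4
    refine ⟨by rw [← hlin f hf, hff]; norm_num, ?_⟩
    have hall : ∀ g : G →* ℂˣ, g = 1 ∨ g = f := by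
      intro g
      by_contra h
      push Not at h
      have hgf : g * f ≠ 1 := by
        intro h'
        apply h.2
        refine MonoidHom.ext fun w => ?_
        have a1 := DFunLike.congr_fun h' w
        have a2 := DFunLike.congr_fun (hsq f hf) w
        rw [MonoidHom.mul_apply, MonoidHom.one_apply] at a1 a2
        exact mul_right_cancel (a1.trans a2.symm)
      have h2 := hz _ hgf
      rw [MonoidHom.mul_apply, hz g h.1] at h2
      exact hfu (mul_eq_left.mp h2)
    rw [← hcard, Nat.card_eq_fintype_card, ← Finset.card_univ,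
      show (Finset.univ : Finset (G →* ℂˣ)) = {1, f} from Finset.ext fun g => by simpa using hall g,
      Finset.card_pair (Ne.symm hf)]
  have hca : c = 2 → orderOf u = 2 ∧ Subgroup.zpowers u ⊔ Cfsg.oddCore G = ⊤ ∧
      Subgroup.centralizer ({u} : Set G) = Subgroup.zpowers u := by
    intro hc
    have hterm : ∀ χ : Cfsg.IrrCharacter G, χ ≠ one →
        (χ : G → ℂ) u = 0 ∨ (χ : G → ℂ) u = (d χ : ℂ) - 2 := by
      intro χ h
      rcases hyp χ (hne1 χ h) with h2 | h2
      · right; rw [← hdeg, ← hc, ← h2]; ring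
      · left; exact h2
    let v : Cfsg.IrrCharacter G → ℤ := fun χ =>
      if χ = one then 1 else if (χ : G → ℂ) u = 0 then 0 else (d χ : ℤ) - 2
    have hv : ∀ χ : Cfsg.IrrCharacter G, (χ : G → ℂ) u = (v χ : ℂ) := by
      intro χ
      simp only [v]
      split_ifs with h1 h2
      · rw [h1, hone]; simp [H12.oneIrr_apply]
      · rw [h2]; simp
      · rw [(hterm χ h1).resolve_left h2]; simp
    have hregz : ∑ χ : Cfsg.IrrCharacter G, (d χ : ℤ) * v χ = 0 := by
      simp only [hdeg, hv] at hreg
      exact_mod_cast hreg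
    have hdone : d one = 1 := by
      have h2 := hdeg one
      rw [hone, H12.oneIrr_apply] at h2
      exact_mod_cast h2.symm
    have hlinex : ∃ χ : Cfsg.IrrCharacter G, χ ≠ one ∧ d χ = 1 ∧ v χ ≠ 0 := by
      by_contra h
      push Not at h
      have hpos : ∀ χ : Cfsg.IrrCharacter G, 0 ≤ (d χ : ℤ) * v χ := by
        intro χ
        by_cases h1 : χ = one
        · simp [v, h1]
        · by_cases h2 : d χ = 1
          · rw [h χ h1 h2]; simp
          · apply mul_nonneg (by positivity)
            have := H12.irr_degree_pos χ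
            have h3 : 2 ≤ d χ := by simp only [hd] at h2 ⊢; omega
            simp only [v, if_neg h1]
            split_ifs <;> omega
      have h2 := (Finset.sum_eq_zero_iff_of_nonneg fun χ _ => hpos χ).mp hregz one (Finset.mem_univ _)
      simp [v, hdone] at h2
    obtain ⟨χ₁, hχ₁, hd₁, hv₁⟩ := hlinex
    have hv₁' : v χ₁ = -1 := by
      simp only [v, if_neg hχ₁] at hv₁ ⊢
      split_ifs at hv₁ ⊢ with h
      · exact absurd rfl hv₁
      · rw [hd₁]; norm_num
    have hperf : commutator G ≠ ⊤ := by
      intro htop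
      obtain ⟨f, hf⟩ := H12.exists_monoidHom_of_apply_one_eq_one (H12.isCharacter_irr χ₁)
        (by rw [hdeg, hd₁, Nat.cast_one])
      have hf1 : f = 1 := by
        ext g
        have := Abelianization.commutator_subset_ker f (htop ▸ Subgroup.mem_top g)
        rw [MonoidHom.mem_ker.mp this, MonoidHom.one_apply]
      refine hχ₁ (Subtype.ext (funext fun g => ?_))
      rw [← congrFun hf g, hf1, hone, H12.oneIrr_apply]; simp
    have hidx := (habc hperf).2
    have hlin2 : ∀ χ : Cfsg.IrrCharacter G, d χ = 1 → χ = one ∨ χ = χ₁ := by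
      intro χ hχ
      have hcard : Nat.card {φ : Cfsg.IrrCharacter G // (φ : G → ℂ) 1 = 1} = 2 := by
        rw [H12.card_linear_irr, hidx]
      rw [Nat.card_eq_fintype_card, Fintype.card_subtype] at hcard
      have heq : ({one, χ₁} : Finset (Cfsg.IrrCharacter G)) =
          Finset.univ.filter fun φ : Cfsg.IrrCharacter G => (φ : G → ℂ) 1 = 1 := by
        apply Finset.eq_of_subset_of_card_le
        · intro φ hφ
          rw [Finset.mem_insert, Finset.mem_singleton] at hφ
          rw [Finset.mem_filter]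
          rcases hφ with rfl | rfl
          · simp [hdeg, hdone]
          · simp [hdeg, hd₁]
        · rw [hcard, Finset.card_pair (Ne.symm hχ₁)]
      have : χ ∈ ({one, χ₁} : Finset (Cfsg.IrrCharacter G)) := by rw [heq]; simp [hdeg, hχ]
      simpa using this
    have hnn : ∀ χ ∈ (Finset.univ \ {one, χ₁} : Finset (Cfsg.IrrCharacter G)), 0 ≤ (d χ : ℤ) * v χ := by
      intro χ hχ
      simp only [Finset.mem_sdiff, Finset.mem_univ, Finset.mem_insert, Finset.mem_singleton,
        true_and, not_or] at hχ
      apply mul_nonneg (by positivity)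
      have := H12.irr_degree_pos χ
      have h2 : d χ ≠ 1 := fun h => by rcases hlin2 χ h with h' | h' <;> simp_all
      have h3 : 2 ≤ d χ := by simp only [hd] at h2 ⊢; omega
      simp only [v, if_neg hχ.1]
      split_ifs <;> omega
    have hrest : ∀ χ ∈ (Finset.univ \ {one, χ₁} : Finset (Cfsg.IrrCharacter G)), v χ = 0 := by
      have hz : ∑ χ ∈ (Finset.univ \ {one, χ₁} : Finset (Cfsg.IrrCharacter G)), (d χ : ℤ) * v χ = 0 := by
        rw [← Finset.sum_sdiff (Finset.subset_univ ({one, χ₁} : Finset (Cfsg.IrrCharacter G))),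
          Finset.sum_pair (Ne.symm hχ₁), hv₁', hd₁, hdone] at hregz
        simpa [v] using hregz
      intro χ hχ
      rcases mul_eq_zero.mp ((Finset.sum_eq_zero_iff_of_nonneg hnn).mp hz χ hχ) with h | h
      · have := H12.irr_degree_pos χ
        simp only [hd] at h
        omega
      · exact h
    have hC2 : Nat.card (Subgroup.centralizer ({u} : Set G)) = 2 := by
      simp only [hv, map_intCast] at hcol
      have h2 : ∑ χ : Cfsg.IrrCharacter G, v χ * v χ =
          (Nat.card (Subgroup.centralizer ({u} : Set G)) : ℤ) := by exact_mod_cast hcol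
      rw [← Finset.sum_sdiff (Finset.subset_univ ({one, χ₁} : Finset (Cfsg.IrrCharacter G))),
        Finset.sum_pair (Ne.symm hχ₁), hv₁', Finset.sum_eq_zero (fun χ h => by rw [hrest χ h, mul_zero])] at h2
      simp [v] at h2
      rw [Nat.card_eq_fintype_card]
      omega
    have hzc : Subgroup.zpowers u ≤ Subgroup.centralizer ({u} : Set G) := by
      rw [Subgroup.zpowers_le, Subgroup.mem_centralizer_singleton_iff]
    have hord : orderOf u = 2 := by
      have h2 := Subgroup.card_dvd_of_le hzc
      rw [hC2, Nat.card_zpowers] at h2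
      exact ((Nat.prime_two.eq_one_or_self_of_dvd _ h2)).resolve_left (mt orderOf_eq_one_iff.mp hu)
    have hCeq : Subgroup.centralizer ({u} : Set G) = Subgroup.zpowers u :=
      (Subgroup.eq_of_le_of_card_ge hzc (by rw [hC2, Nat.card_zpowers, hord])).symm
    refine ⟨hord, ?_, hCeq⟩
    haveI : Fact (Nat.Prime 2) := ⟨Nat.prime_two⟩
    obtain ⟨P, hP⟩ := (IsPGroup.of_card (n := 1)
      (by rw [Nat.card_zpowers, hord, pow_one] :
        Nat.card (Subgroup.zpowers u) = 2 ^ 1)).exists_le_sylow
    have huP : u ∈ (P : Subgroup G) := hP (Subgroup.mem_zpowers u)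
    haveI : Nontrivial (P : Subgroup G) :=
      ⟨⟨⟨u, huP⟩, 1, fun h => hu (congrArg Subtype.val h)⟩⟩
    haveI := P.isPGroup'.center_nontrivial
    obtain ⟨z, hz⟩ := exists_ne (1 : Subgroup.center (P : Subgroup G))
    have hzu : ((z : (P : Subgroup G)) : G) = u := by
      have h1 : ((z : (P : Subgroup G)) : G) ∈ Subgroup.centralizer ({u} : Set G) := by
        rw [Subgroup.mem_centralizer_singleton_iff]
        exact (congrArg Subtype.val (Subgroup.mem_center_iff.mp z.2 ⟨u, huP⟩)).symm
      rw [hCeq] at h1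
      obtain ⟨i, hi⟩ := h1
      simp only at hi
      rcases Int.emod_two_eq_zero_or_one i with h | h <;>
        rw [← zpow_mod_orderOf, hord, Nat.cast_ofNat, h] at hi
      · exact absurd (Subtype.ext (Subtype.ext (by simpa using hi.symm))) hz
      · simpa using hi.symm
    have hPle : (P : Subgroup G) ≤ Subgroup.zpowers u := by
      intro w hw
      rw [← hCeq, Subgroup.mem_centralizer_singleton_iff, ← hzu]
      exact congrArg Subtype.val (Subgroup.mem_center_iff.mp z.2 ⟨w, hw⟩)
    have hPc : Nat.card P = 2 :=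
      le_antisymm ((Subgroup.card_le_of_le hPle).trans (by rw [Nat.card_zpowers, hord]))
        (le_of_eq_of_le (hord.symm.trans (Nat.card_zpowers u).symm) (Subgroup.card_le_of_le hP))
    have hodd : ¬ 2 ∣ Nat.card (commutator G) := by
      intro h
      apply P.not_dvd_index
      have h1 := (P : Subgroup G).card_mul_index
      have h2 := (commutator G).card_mul_index
      rw [hidx, ← h1] at h2
      change _ = Nat.card P * _ at h2
      rw [hPc, mul_comm 2] at h2
      rw [← mul_right_cancel₀ two_ne_zero h2]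
      exact h
    have hle : commutator G ≤ Cfsg.oddCore G :=
      H1.le_pPrimeCore ((Nat.Prime.coprime_iff_not_dvd Nat.prime_two).mpr hodd).symm
    rw [eq_top_iff]
    refine le_trans ?_ (sup_le_sup_left hle _)
    have h2 := Subgroup.relIndex_mul_index (le_sup_right : commutator G ≤ Subgroup.zpowers u ⊔ commutator G)
    rw [hidx] at h2
    rcases Nat.prime_two.eq_one_or_self_of_dvd _ (Dvd.intro _ h2) with h3 | h3
    · exfalso
      rw [Subgroup.relIndex_eq_one] at h3
      have hu' : u ∈ commutator G := h3 (Subgroup.mem_sup_left (Subgroup.mem_zpowers u))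
      have := Subgroup.orderOf_dvd_natCard _ hu'
      rw [hord] at this
      exact hodd this
    · rw [h3] at h2
      have h4 : (Subgroup.zpowers u ⊔ commutator G).index = 1 :=
        mul_left_cancel₀ two_ne_zero (h2.trans (mul_one 2).symm)
      rw [Subgroup.index_eq_one.mp h4]
  have hab : (orderOf u = 2 ∧ Subgroup.zpowers u ⊔ Cfsg.oddCore G = ⊤ ∧
      Subgroup.centralizer ({u} : Set G) = Subgroup.zpowers u) → commutator G ≠ ⊤ := by
    rintro ⟨hord, htop, -⟩ h
    haveI hn : (Cfsg.oddCore G).Normal := H1.pPrimeCore_normal' 2 G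
    set π := QuotientGroup.mk' (Cfsg.oddCore G)
    have hz : ∀ q : G ⧸ Cfsg.oddCore G, q ∈ Subgroup.zpowers (π u) := by
      intro q
      obtain ⟨g, rfl⟩ := QuotientGroup.mk'_surjective _ q
      have hg : g ∈ Subgroup.zpowers u ⊔ Cfsg.oddCore G := htop ▸ Subgroup.mem_top g
      obtain ⟨a, ha, b, hb, rfl⟩ := Subgroup.mem_sup_of_normal_right.mp hg
      rw [map_mul, show π b = 1 from (QuotientGroup.eq_one_iff b).mpr hb, mul_one]
      obtain ⟨i, rfl⟩ := ha
      exact ⟨i, (map_zpow π u i).symm⟩
    have hle : commutator G ≤ Cfsg.oddCore G := by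
      rw [← QuotientGroup.ker_mk' (Cfsg.oddCore G), commutator_def, Subgroup.commutator_le]
      intro a _ b _
      rw [MonoidHom.mem_ker, map_commutatorElement, commutatorElement_eq_one_iff_commute]
      obtain ⟨i, hi⟩ := hz (π a)
      obtain ⟨j, hj⟩ := hz (π b)
      rw [← hi, ← hj]
      exact Commute.zpow_zpow (Commute.refl _) i j
    rw [h] at hle
    have h2 : 2 ∣ Nat.card (Cfsg.oddCore G) :=
      hord ▸ Subgroup.orderOf_dvd_natCard _ (hle (Subgroup.mem_top u))
    exact (Nat.Prime.coprime_iff_not_dvd Nat.prime_two).mp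
      (H1.card_pPrimeCore_coprime 2 G).symm h2
  exact ⟨⟨hab, fun h => hca (habc h).1⟩, ⟨fun h => (habc h).1, fun h => hab (hca h)⟩⟩

end Cfsg.Agent.S4757
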