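import Cfsg.Statements.S4762
import Cfsg.Agent.H19.ItoSylow
import Cfsg.Agent.H19.DetRes
import Cfsg.Agent.H1.FPF
import Cfsg.Agent.H15.ExtraspecialChar
import Cfsg.Agent.H21.Laradji
import Cfsg.Agent.H30.Extraspecial
import Cfsg.Agent.H31.Basic
import Cfsg.Agent.H31.InvariantMax
import Cfsg.Agent.H30.Basic
-- import your own Cfsg.Agent.* helpers here

set_option autoImplicit false
open Cfsg
open scoped commutatorElement

namespace Cfsg.Agent.S4762

theorem exists_mul_linear {G : Type*} [Group G] [Finite G] (χ : Cfsg.IrrCharacter G) (l : G →* ℂˣ) :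
    ∃ ψ : Cfsg.IrrCharacter G, ∀ g, (ψ : G → ℂ) g = (l g : ℂ) * (χ : G → ℂ) g := by
  obtain ⟨n, ρ, hρ, hρχ⟩ := χ.2
  haveI := hρ
  haveI := H14.twistRep_isIrreducible l ρ
  refine ⟨⟨(H14.twistRep l ρ).character, H12.isIrrCharacter_character _⟩, fun g => ?_⟩
  show (H14.twistRep l ρ).character g = _
  rw [H14.twistRep_character, Pi.mul_apply, hρχ]

/-- The core of the forward direction. -/
theorem forward {G : Type*} [Group G] [Finite G] [Group.IsNilpotent G] {p : ℕ} [Fact p.Prime]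
    (χ : Cfsg.IrrCharacter G) (hχ : p ∣ H12.degree (χ : G → ℂ))
    (huniq : ∀ ψ : Cfsg.IrrCharacter G, p ∣ H12.degree (ψ : G → ℂ) → ψ = χ) :
    p = 2 ∧ Cfsg.IsExtraspecial 2 G := by
  classical
  haveI := Fintype.ofFinite G
  have hp : p.Prime := Fact.out
  have hd0 : (χ : G → ℂ) 1 ≠ 0 := H12.irr_apply_one_ne_zero χ
  have hlin : ∀ (l : G →* ℂˣ) (g : G), (χ : G → ℂ) g ≠ 0 → l g = 1 := by
    intro l g hg
    obtain ⟨ψ, hψ⟩ := exists_mul_linear χ l
    have hψd : H12.degree (ψ : G → ℂ) = H12.degree (χ : G → ℂ) := by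
      unfold H12.degree; rw [hψ, map_one, Units.val_one, one_mul]
    have h := congrFun (congrArg Subtype.val (huniq ψ (hψd ▸ hχ))) g
    rw [hψ] at h
    exact Units.ext ((mul_eq_right₀ hg).mp h)
  -- the group is a `p`-group
  obtain ⟨P, Q, hQn, hQP⟩ := H1.hasNormalPComplement_of_nilpotent (G := G) p inferInstance
  haveI := hQn
  have hpG : IsPGroup p (G ⧸ Q) := IsPGroup.of_equiv P.isPGroup' (Subgroup.IsComplement'.QuotientMulEquiv hQP.symm).symm
  have hPn : (P : Subgroup G).Normal := inferInstance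
  have hψex : ∃ ψ : Cfsg.IrrCharacter (G ⧸ Q), p ∣ H12.degree (ψ : G ⧸ Q → ℂ) := by
    by_contra hno
    have hno : ∀ ψ : Cfsg.IrrCharacter (G ⧸ Q), ¬ p ∣ H12.degree (ψ : G ⧸ Q → ℂ) := fun ψ h => hno ⟨ψ, h⟩
    obtain ⟨-, hab⟩ := H19.ItoSylow.normal_and_abelian (p := p)
      (H10.isPSolvable_of_isSolvable (G := G ⧸ Q)) hno default
    refine H19.ItoSylow.not_dvd_of_normal_abelian P hPn (fun a ha b hb => ?_) χ hχ
    have htop : ((default : Sylow p (G ⧸ Q)) : Subgroup (G ⧸ Q)) = ⊤ :=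
      ((default : Sylow p (G ⧸ Q)).3 (hpG.to_subgroup ⊤) le_top).symm
    have h1 : (⁅a, b⁆ : G) ∈ Q := by
      rw [← QuotientGroup.eq_one_iff, ← QuotientGroup.mk'_apply, map_commutatorElement,
        commutatorElement_eq_one_iff_mul_comm]
      exact hab _ (htop ▸ Subgroup.mem_top _) _ (htop ▸ Subgroup.mem_top _)
    have h2 : (⁅a, b⁆ : G) ∈ (P : Subgroup G) ⊓ Q := ⟨by
      rw [commutatorElement_def]
      exact (P : Subgroup G).mul_mem ((P : Subgroup G).mul_mem ((P : Subgroup G).mul_mem ha hb)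
        ((P : Subgroup G).inv_mem ha)) ((P : Subgroup G).inv_mem hb), h1⟩
    rw [hQP.symm.disjoint.eq_bot, Subgroup.mem_bot] at h2
    exact commutatorElement_eq_one_iff_mul_comm.mp h2
  obtain ⟨ψ₀, hψ₀⟩ := hψex
  have hχQ : ∀ q ∈ Q, (χ : G → ℂ) q = (χ : G → ℂ) 1 := by
    have hd : H12.degree (H12.inflate Q ψ₀ : G → ℂ) = H12.degree (ψ₀ : G ⧸ Q → ℂ) := by
      unfold H12.degree; rw [H12.inflate_apply]; rfl
    rw [← huniq (H12.inflate Q ψ₀) (by rw [hd]; exact hψ₀)]
    exact fun q hq => H12.inflate_mem_kernel Q ψ₀ hq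
  have hQbot : Q = ⊥ := by
    by_contra hne
    haveI := hPn
    haveI : Nontrivial (G ⧸ (P : Subgroup G)) := by
      refine QuotientGroup.nontrivial_iff.mpr fun htop => hne ?_
      have h := hQP.symm.disjoint.eq_bot
      rwa [htop, top_inf_eq] at h
    haveI : Group.IsSolvable (G ⧸ (P : Subgroup G)) := inferInstance
    have hlt := Group.IsSolvable.commutator_lt_top_of_nontrivial (G ⧸ (P : Subgroup G))
    have hcard := H12.card_monoidHom_units (G := G ⧸ (P : Subgroup G))
    have h1 : (commutator (G ⧸ (P : Subgroup G))).index ≠ 1 := fun h =>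
      hlt.ne (Subgroup.index_eq_one.mp h)
    obtain ⟨l, hl⟩ : ∃ l : G ⧸ (P : Subgroup G) →* ℂˣ, l ≠ 1 := by
      by_contra hall
      refine h1 (hcard ▸ Nat.card_eq_one_iff_unique.mpr ⟨⟨fun a b => ?_⟩, ⟨1⟩⟩)
      have : ∀ l : G ⧸ (P : Subgroup G) →* ℂˣ, l = 1 := fun l => by_contra fun h => hall ⟨l, h⟩
      rw [this a, this b]
    refine hl (MonoidHom.ext fun x => ?_)
    obtain ⟨g, rfl⟩ := QuotientGroup.mk_surjective x
    obtain ⟨q, hq, a, ha, rfl⟩ : ∃ q ∈ Q, ∃ a ∈ (P : Subgroup G), q * a = g := by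
      obtain ⟨⟨⟨q, hq⟩, ⟨a, ha⟩⟩, h⟩ := hQP.2 g
      exact ⟨q, hq, a, ha, h⟩
    have h2 := hlin (l.comp (QuotientGroup.mk' (P : Subgroup G))) q (by rw [hχQ q hq]; exact hd0)
    rw [MonoidHom.comp_apply, QuotientGroup.mk'_apply] at h2
    rw [QuotientGroup.mk_mul, (QuotientGroup.eq_one_iff a).mpr ha, mul_one, h2, MonoidHom.one_apply]
  have hG : IsPGroup p G := IsPGroup.of_equiv hpG
    ((QuotientGroup.quotientMulEquivOfEq hQbot).trans QuotientGroup.quotientBot)
  -- degree `≠ 1` means divisible by `p`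
  have hnl : ∀ ψ : Cfsg.IrrCharacter G, (ψ : G → ℂ) 1 ≠ 1 → ψ = χ := by
    intro ψ hψ
    obtain ⟨k, hk⟩ := IsPGroup.iff_card.mp hG
    obtain ⟨j, -, hj⟩ := (Nat.dvd_prime_pow hp).mp (hk ▸ H12.irr_degree_dvd_card ψ)
    rcases Nat.eq_zero_or_pos j with rfl | hj0
    · exact absurd (by rw [H12.irr_apply_one, hj, pow_zero, Nat.cast_one]) hψ
    · exact huniq ψ (hj ▸ dvd_pow_self p hj0.ne')
  have hnab : commutator G ≠ ⊥ := by
    intro h
    have hlin1 := H12.irr_apply_one_of_comm (G := G) (fun a b => commutatorElement_eq_one_iff_mul_comm.mp (by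
      rw [← Subgroup.mem_bot, ← h]
      exact Subgroup.commutator_mem_commutator (Subgroup.mem_top a) (Subgroup.mem_top b))) χ
    rw [H12.irr_apply_one, Nat.cast_eq_one] at hlin1
    exact hp.ne_one (Nat.dvd_one.mp (hlin1 ▸ hχ))
  -- a central element of order `p` in the commutator subgroup
  obtain ⟨z, hz, hz1⟩ : ∃ z ∈ commutator G ⊓ Subgroup.center G, z ≠ 1 := by
    haveI : Nontrivial G := by
      by_contra h
      rw [not_nontrivial_iff_subsingleton] at h
      exact hnab (Subsingleton.elim _ _)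
    have hne : commutator G ⊓ Subgroup.center G ≠ ⊥ :=
      H30.inf_center_ne_bot hG (Subgroup.commutator_normal ⊤ ⊤) hnab
    exact (Subgroup.bot_or_exists_ne_one _).resolve_left hne
  obtain ⟨hzc, hzZ⟩ := hz
  have hχz : (χ : G → ℂ) z ≠ (χ : G → ℂ) 1 := by
    intro h
    refine hz1 (isConj_one_right.mp ((H12.isConj_iff_irr 1 z).mpr fun ψ => ?_))
    by_cases hψ : (ψ : G → ℂ) 1 = 1
    · obtain ⟨f, hf⟩ := H12.exists_monoidHom_of_apply_one_eq_one (H12.isCharacter_irr ψ) hψ
      have := Abelianization.commutator_subset_ker f hzc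
      rw [← hf]; show (f 1 : ℂ) = (f z : ℂ)
      rw [show f z = 1 from this, map_one]
    · rw [hnl ψ hψ]; exact h.symm
  -- quotient by a subgroup containing a nontrivial central commutator is abelian
  have hquot : ∀ a b : G, (⁅a, b⁆ : G) ∈ Subgroup.zpowers z := by
    haveI : (Subgroup.zpowers z).Normal := ⟨fun x hx g => by
      have : x ∈ Subgroup.center G := Subgroup.zpowers_le.mpr hzZ hx
      rw [Subgroup.mem_center_iff.mp this g, mul_inv_cancel_right]; exact hx⟩
    intro a b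
    rw [← QuotientGroup.eq_one_iff, ← QuotientGroup.mk'_apply, map_commutatorElement,
      commutatorElement_eq_one_iff_mul_comm]
    refine H13.commutative_of_all_linear (fun θ => ?_) _ _
    by_contra hθ
    refine hχz ?_
    have hne : (H12.inflate (Subgroup.zpowers z) θ : G → ℂ) 1 ≠ 1 := by
      rw [H12.inflate_apply]; exact hθ
    rw [← hnl _ hne]
    exact H12.inflate_mem_kernel _ θ (Subgroup.mem_zpowers z)
  have hcent_val : ∀ w ∈ Subgroup.center G, (χ : G → ℂ) w ≠ 0 := by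
    intro w hw h0
    have h := H21.apply_central_mul χ hw w⁻¹
    rw [mul_inv_cancel, h0, zero_div, zero_mul] at h
    exact hd0 h
  have hZle : Subgroup.center G ≤ commutator G := by
    intro w hw
    by_contra hwn
    haveI : Fintype (Abelianization G) := Fintype.ofFinite _
    obtain ⟨l, hl⟩ := CommGroup.exists_apply_ne_one_of_hasEnoughRootsOfUnity (Abelianization G) ℂ
      (a := Abelianization.of w) (fun h => hwn ((QuotientGroup.eq_one_iff w).mp h))
    exact hl (hlin (l.comp Abelianization.of) w (hcent_val w hw))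
  -- `z² = 1` by conjugation invariance
  have hsq : z * z = 1 := by
    have hreal : ∀ g, (χ : G → ℂ) g⁻¹ = (χ : G → ℂ) g := by
      intro g
      have hc : H12.conjIrr χ = χ := by
        refine huniq _ ?_
        have : H12.degree (H12.conjIrr χ : G → ℂ) = H12.degree (χ : G → ℂ) := by
          unfold H12.degree
          rw [H12.conjIrr_apply, Complex.conj_re]
        exact this ▸ hχ
      rw [H12.irr_inv]
      have := congrFun (congrArg Subtype.val hc) g
      rwa [H12.conjIrr_apply] at this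
    refine isConj_one_left.mp ?_
    refine (H12.isConj_iff_irr (z * z) 1).mpr fun ψ => ?_
    by_cases hψ : (ψ : G → ℂ) 1 = 1
    · obtain ⟨f, hf⟩ := H12.exists_monoidHom_of_apply_one_eq_one (H12.isCharacter_irr ψ) hψ
      have hk := Abelianization.commutator_subset_ker f (mul_mem hzc hzc)
      rw [← hf]; show (f (z * z) : ℂ) = (f 1 : ℂ)
      rw [show f (z * z) = 1 from hk, map_one]
    · rw [hnl ψ hψ]
      have h1 := H21.apply_central_mul χ hzZ z
      have h2 := H21.apply_central_mul χ hzZ z⁻¹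
      rw [mul_inv_cancel, hreal z] at h2
      rw [h1, ← h2]
  have hord : orderOf z = 2 := orderOf_eq_prime (by rw [sq]; exact hsq) hz1
  have hp2 : p = 2 := by
    obtain ⟨k, hk⟩ := IsPGroup.iff_orderOf.mp hG z
    rw [hord] at hk
    have hk0 : k ≠ 0 := fun h => by rw [h, pow_zero] at hk; omega
    exact ((Nat.prime_dvd_prime_iff_eq hp Nat.prime_two).mp (hk ▸ dvd_pow_self p hk0))
  subst hp2
  have hGz : commutator G = Subgroup.zpowers z := by
    refine le_antisymm ?_ (Subgroup.zpowers_le.mpr hzc)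
    rw [commutator_def, Subgroup.commutator_le]
    exact fun a _ b _ => hquot a b
  have hZ : Subgroup.center G = Subgroup.zpowers z :=
    le_antisymm (hGz ▸ hZle) (Subgroup.zpowers_le.mpr hzZ)
  refine ⟨rfl, ⟨hG, ?_, hGz.trans hZ.symm⟩, by rw [hZ, Nat.card_zpowers, hord]⟩
  refine le_antisymm (H31.frattini_le_of_pow_mem Nat.prime_two _ (hGz.trans hZ.symm).le fun x => ?_)
    ((hGz.trans hZ.symm).ge.trans (H31.commutator_le_frattini hG))
  rw [Subgroup.mem_center_iff]
  intro y
  have hc : (⁅x, y⁆ : G) ∈ Subgroup.center G := hZ ▸ hquot x y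
  have h2 : ⁅x, y⁆ * ⁅x, y⁆ = 1 := by
    obtain ⟨k, hk⟩ := Subgroup.mem_zpowers_iff.mp (hquot x y)
    rw [← hk, ← (Commute.refl z).mul_zpow, hsq, one_zpow]
  refine (commutatorElement_eq_one_iff_mul_comm.mp ?_).symm
  have hexp : ⁅x ^ 2, y⁆ = x * ⁅x, y⁆ * x⁻¹ * ⁅x, y⁆ := by
    simp only [commutatorElement_def, sq]; group
  rw [hexp, Subgroup.mem_center_iff.mp hc x, mul_inv_cancel_right, h2]

/-- Let p be a prime and G a finite nilpotent group. Then G has exactly one irreducible complex character of degree divisible by p if and only if p = 2 and G is an extraspecial 2-group. -/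
theorem result {G : Type*} [Group G] [Finite G] [Group.IsNilpotent G] (p : ℕ) [Fact p.Prime] : Nat.card {χ : Cfsg.IrrCharacter G // p ∣ Cfsg.charDegree (χ : G → ℂ)} = 1 ↔ (p = 2 ∧ Cfsg.IsExtraspecial 2 G) := by
  classical
  constructor
  · intro h
    obtain ⟨hsub, ⟨χ, hχ⟩⟩ := Nat.card_eq_one_iff_unique.mp h
    exact forward χ hχ fun ψ hψ => congrArg Subtype.val (Subsingleton.elim (α := {χ : Cfsg.IrrCharacter G //
      p ∣ Cfsg.charDegree (χ : G → ℂ)}) ⟨ψ, hψ⟩ ⟨χ, hχ⟩)
  · rintro ⟨rfl, hE⟩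
    haveI := Fintype.ofFinite G
    obtain ⟨n, hn, hcard⟩ := H30.extraspecial_card hE
    rw [add_comm] at hcard
    obtain ⟨hdich, hcnt⟩ := H15.extraspecial_degrees hE hcard
    refine (Nat.card_congr (Equiv.subtypeEquivRight fun χ => ?_)).trans hcnt
    show 2 ∣ H12.degree (χ : G → ℂ) ↔ _
    have h1 := H12.irr_apply_one χ
    rcases hdich χ with h | h
    · rw [h] at h1
      have hd : H12.degree (χ : G → ℂ) = 1 := by exact_mod_cast h1.symm
      rw [hd, h]
      refine ⟨fun h' => by omega, fun h' => ?_⟩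
      have : 2 ^ n = 1 := by exact_mod_cast h'.symm
      rw [pow_eq_one_iff] at this
      omega
    · rw [h] at h1
      have hd : H12.degree (χ : G → ℂ) = 2 ^ n := by exact_mod_cast h1.symm
      exact ⟨fun _ => h, fun _ => hd ▸ dvd_pow_self 2 (by omega)⟩


end Cfsg.Agent.S4762
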