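import Cfsg.Statements.S4765
import Cfsg.Agent.H18.DegreeGraphPSL2
import Cfsg.Agent.H17.SLDegree


set_option autoImplicit false
open Cfsg

namespace Cfsg.Agent.S4765

/-- Let F be a finite field of characteristic p with at least 4 elements. Then PSL(2,F) has exactly one irreducible complex character of degree divisible by p, and its degree is the order of F. -/
theorem result (p : ℕ) [Fact p.Prime] (F : Type*) [Field F] [Fintype F] [CharP F p] (hF : 4 ≤ Fintype.card F) : Nat.card {χ : Cfsg.IrrCharacter (Matrix.ProjectiveSpecialLinearGroup (Fin 2) F) // p ∣ Cfsg.charDegree (χ : Matrix.ProjectiveSpecialLinearGroup (Fin 2) F → ℂ)} = 1 ∧ ∀ χ : Cfsg.IrrCharacter (Matrix.ProjectiveSpecialLinearGroup (Fin 2) F), p ∣ Cfsg.charDegree (χ : Matrix.ProjectiveSpecialLinearGroup (Fin 2) F → ℂ) → Cfsg.charDegree (χ : Matrix.ProjectiveSpecialLinearGroup (Fin 2) F → ℂ) = Fintype.card F := by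
  classical
  obtain ⟨C, hC⟩ := (H17.slEmb F).exists_nonSplit
  obtain ⟨n, hp, hcard⟩ := FiniteField.card F p
  set D := H17.slD hC with hD
  have hq : D.q = Fintype.card F := H17.slD_q hC
  have hdvd : p ∣ Fintype.card F := hcard ▸ dvd_pow_self p n.ne_zero
  have hnp : ∀ d : ℕ, d ∣ Fintype.card F + 1 ∨ d ∣ Fintype.card F - 1 → ¬ p ∣ d := by
    rintro d (hd | hd) hpd
    · exact hp.not_dvd_one ((Nat.dvd_add_right hdvd).1 (hpd.trans hd))
    · have h := Nat.dvd_sub hdvd (hpd.trans hd)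
      rw [show Fintype.card F - (Fintype.card F - 1) = 1 by omega] at h
      exact hp.not_dvd_one h
  have hdeg : ∀ χ : IrrCharacter (Matrix.SpecialLinearGroup (Fin 2) F),
      p ∣ charDegree (χ : Matrix.SpecialLinearGroup (Fin 2) F → ℂ) → (χ : Matrix.SpecialLinearGroup (Fin 2) F → ℂ) 1 = (Fintype.card F : ℂ) := by
    intro χ hpd
    by_contra hne
    have hval : ∀ d : ℕ, (χ : Matrix.SpecialLinearGroup (Fin 2) F → ℂ) 1 = (d : ℂ) → ¬ p ∣ d → False := fun d hd hnd =>
      hnd (H18.charDegree_of_eq hd ▸ hpd)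
    rcases H17.odd_or_two_eq_zero (F := F) with ho | he
    · obtain ⟨O⟩ := H17.nonempty_slOdd hC ho
      have h2dvd1 : 2 ∣ Fintype.card F + 1 := (ho.add_odd odd_one).two_dvd
      have h2dvd2 : 2 ∣ Fintype.card F - 1 := (Nat.Odd.sub_odd ho odd_one).two_dvd
      rcases H17.sl_odd_degree hC ho O χ with ⟨_, -, -, d⟩ | ⟨_, -, -, d⟩ | ⟨-, d⟩ | ⟨-, d⟩ |
        ⟨-, d⟩ | ⟨-, d⟩
      · exact hval (Fintype.card F + 1) (by rw [d]; push_cast; rfl) (hnp _ (.inl dvd_rfl))
      · exact hval (Fintype.card F - 1)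
          (by rw [d, Nat.cast_sub (by omega : 1 ≤ Fintype.card F), Nat.cast_one])
          (hnp _ (.inr dvd_rfl))
      · exact hval 1 (by rw [d, Nat.cast_one]) hp.not_dvd_one
      · exact hne d
      · exact hval _ d (hnp _ (.inl (Nat.div_dvd_of_dvd h2dvd1)))
      · exact hval _ d (hnp _ (.inr (Nat.div_dvd_of_dvd h2dvd2)))
    · rcases H17.sl_even_cases hC he χ with ⟨α, -, e⟩ | ⟨θ, -, e⟩ | e | e
      · exact hval (Fintype.card F + 1) (by rw [e, D.chT_one, hq]; push_cast; rfl)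
          (hnp _ (.inl dvd_rfl))
      · exact hval (Fintype.card F - 1)
          (by rw [e, D.chC_one, hq, Nat.cast_sub (by omega : 1 ≤ Fintype.card F), Nat.cast_one])
          (hnp _ (.inr dvd_rfl))
      · exact hval 1 (by rw [e, Nat.cast_one]) hp.not_dvd_one
      · exact hne (by rw [e, D.stein_one, hq])
  have key : ∀ ψ : IrrCharacter (Matrix.ProjectiveSpecialLinearGroup (Fin 2) F),
      p ∣ charDegree (ψ : Matrix.ProjectiveSpecialLinearGroup (Fin 2) F → ℂ) →
        (H12.inflate (Subgroup.center (Matrix.SpecialLinearGroup (Fin 2) F)) ψ :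
          Matrix.SpecialLinearGroup (Fin 2) F → ℂ) =
          D.stein 1 ∧ charDegree (ψ : Matrix.ProjectiveSpecialLinearGroup (Fin 2) F → ℂ) = Fintype.card F := by
    intro ψ hψ
    have h1 := hdeg (H12.inflate (Subgroup.center (Matrix.SpecialLinearGroup (Fin 2) F)) ψ) hψ
    exact ⟨H17.sl_degree_q hC
      (H12.inflate (Subgroup.center (Matrix.SpecialLinearGroup (Fin 2) F)) ψ).2 h1,
      H18.charDegree_of_eq h1⟩
  refine ⟨?_, fun χ hχ => (key χ hχ).2⟩
  let χ₀ : IrrCharacter (Matrix.SpecialLinearGroup (Fin 2) F) :=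
    ⟨D.stein 1, D.isIrr_stein 1 fun a => rfl⟩
  obtain ⟨ψ₀, hψ₀⟩ := H12.exists_inflate_eq (Subgroup.center (Matrix.SpecialLinearGroup (Fin 2) F))
    χ₀ (fun z hz => by
      rw [H17.center_eq] at hz
      show D.stein 1 z = D.stein 1 1
      rw [D.stein_one]
      exact (D.stein_Z 1 ⟨z, hz⟩).trans (by simp))
  have hd₀ : charDegree (ψ₀ : Matrix.ProjectiveSpecialLinearGroup (Fin 2) F → ℂ) = Fintype.card F := by
    refine H18.charDegree_of_eq ?_
    have := congrFun (congrArg Subtype.val hψ₀) 1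
    exact this.trans (by show D.stein 1 1 = _; rw [D.stein_one, hq])
  rw [Nat.card_eq_one_iff_unique]
  refine ⟨⟨fun a b => Subtype.ext (H12.inflate_injective _ (Subtype.ext ?_))⟩,
    ⟨⟨ψ₀, hd₀ ▸ hdvd⟩⟩⟩
  rw [(key a.1 a.2).1, (key b.1 b.2).1]

end Cfsg.Agent.S4765
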