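import Cfsg.Statements.S4775
import Cfsg.Agent.H57.SzDegrees
import Cfsg.Agent.H12.Transport

set_option autoImplicit false
open Cfsg

namespace Cfsg.Agent.S4775

theorem charDegrees_congr {G K : Type*} [Group G] [Group K] (e : K ≃* G) (d : ℕ) :
    d ∈ charDegrees K ↔ d ∈ charDegrees G := by
  constructor
  · rintro ⟨χ, hχ⟩
    refine ⟨(H12.irrCongr e).symm χ, ?_⟩
    rw [← hχ]
    show ⌊(((χ : K → ℂ) ∘ e.symm) 1).re⌋₊ = _
    rw [Function.comp_apply, map_one]; rfl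
  · rintro ⟨χ, hχ⟩
    refine ⟨H12.irrCongr e χ, ?_⟩
    rw [← hχ]
    show ⌊((χ : G → ℂ) (e 1)).re⌋₊ = _
    rw [map_one]; rfl

/-- Let F be a finite field with q = 2^(2m+1) ≥ 8 elements and let S be isomorphic to the Suzuki group over F. Then the vertices of the character degree graph of S are 2 and the primes dividing (q − 1)(q² + 1); the primes dividing (q − 1)(q² + 1) are pairwise adjacent, and 2 is adjacent exactly to the primes dividing q − 1. -/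
theorem result (F : Type*) [Field F] [Fintype F] (m : ℕ) (hm : 1 ≤ m) (q : ℕ) (hq : Fintype.card F = q) (hqm : q = 2 ^ (2 * m + 1)) {S : Type*} [Group S] [Finite S] (hS : Nonempty (S ≃* ↥(Cfsg.Lie.Sz F (2 ^ (m + 1))))) : Cfsg.degreePrimes S = {r : ℕ | r.Prime ∧ (r = 2 ∨ r ∣ (q - 1) * (q ^ 2 + 1))} ∧ ∀ r s : ℕ, (Cfsg.degreeGraph S).Adj r s ↔ (r ≠ s ∧ r.Prime ∧ s.Prime ∧ ((r ∣ (q - 1) * (q ^ 2 + 1) ∧ s ∣ (q - 1) * (q ^ 2 + 1)) ∨ (r = 2 ∧ s ∣ q - 1) ∨ (s = 2 ∧ r ∣ q - 1))) := by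
  obtain ⟨e⟩ := hS
  have hF : Fintype.card F = 2 ^ (2 * m + 1) := hq.trans hqm
  have hdeg : ∀ d, d ∈ Cfsg.charDegrees S ↔ _ := fun d =>
    (charDegrees_congr (e.trans (H57.lieSzEquiv hm hF).symm) d).trans (H57.sz_degrees hm hF q hqm d)
  have hq8 : 8 ≤ q := by
    rw [hqm]
    exact le_trans (by norm_num) (Nat.pow_le_pow_right (show 0 < 2 by norm_num) (show 3 ≤ 2 * m + 1 by omega))
  have hr : 2 ^ (m + 1) ≤ q := hqm ▸ H57.r_le_q m
  have hev : 2 ∣ q := hqm ▸ H57.q_even m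
  have hr2 : 2 ∣ 2 ^ (m + 1) := dvd_pow_self 2 (by omega)
  have hprod : (q + 2 ^ (m + 1) + 1) * (q - 2 ^ (m + 1) + 1) = q ^ 2 + 1 := by
    have h := H57.r_sq m
    rw [← hqm] at h
    zify [hr] at h ⊢
    linear_combination (-1 : ℤ) * h
  have hq2 : 2 ∣ q ^ 2 := dvd_pow hev two_ne_zero
  have htwo : ∀ d, d ∈ Cfsg.charDegrees S → 2 ∣ d → d = q ^ 2 ∨ d = (q - 1) * 2 ^ m := by
    intro d hd h2
    rcases (hdeg d).mp hd with rfl | rfl | rfl | rfl | rfl | rfl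
    · omega
    · exact Or.inl rfl
    · omega
    · rcases (Nat.prime_two.dvd_mul).mp h2 with h | h <;> omega
    · rcases (Nat.prime_two.dvd_mul).mp h2 with h | h <;> omega
    · exact Or.inr rfl
  have hdiv : ∀ d, d ∈ Cfsg.charDegrees S → ∀ r : ℕ, r.Prime → r ∣ d → r = 2 ∨ r ∣ (q - 1) * (q ^ 2 + 1) := by
    intro d hd r hr' hrd
    rcases (hdeg d).mp hd with rfl | rfl | rfl | rfl | rfl | rfl
    · exact absurd (Nat.dvd_one.mp hrd) hr'.ne_one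
    · left
      have := hr'.dvd_of_dvd_pow hrd
      rw [hqm] at this
      exact (Nat.prime_dvd_prime_iff_eq hr' Nat.prime_two).mp (hr'.dvd_of_dvd_pow this)
    · exact Or.inr (hrd.mul_left _)
    · exact Or.inr (hrd.trans (Nat.mul_dvd_mul_left _ ⟨_, hprod.symm⟩))
    · exact Or.inr (hrd.trans (Nat.mul_dvd_mul_left _ (Dvd.intro_left _ hprod)))
    · rcases hr'.dvd_mul.mp hrd with h | h
      · exact Or.inr (h.mul_right _)
      · exact Or.inl ((Nat.prime_dvd_prime_iff_eq hr' Nat.prime_two).mp (hr'.dvd_of_dvd_pow h))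
  have hA : ∀ s : ℕ, s.Prime → s ∣ q ^ 2 + 1 →
      ∃ d, (q - 1) * d ∈ Cfsg.charDegrees S ∧ s ∣ d := by
    intro s hs h
    rw [← hprod] at h
    rcases hs.dvd_mul.mp h with h | h
    · exact ⟨_, (hdeg _).mpr (by simp), h⟩
    · exact ⟨_, (hdeg _).mpr (by simp), h⟩
  have hq1 : ∀ r s : ℕ, r.Prime → s.Prime → r ≠ s → r ∣ (q - 1) * (q ^ 2 + 1) →
      s ∣ (q - 1) * (q ^ 2 + 1) → ∃ d ∈ Cfsg.charDegrees S, r * s ∣ d := by
    intro r s hr' hs hne h1 h2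
    have hco := (Nat.coprime_primes hr' hs).mpr hne
    rcases hr'.dvd_mul.mp h1 with a | a <;> rcases hs.dvd_mul.mp h2 with b | b
    · exact ⟨_, (hdeg ((q - 1) * (q + 2 ^ (m + 1) + 1))).mpr (by simp),
        (hco.mul_dvd_of_dvd_of_dvd a b).mul_right _⟩
    · obtain ⟨d, hd, hsd⟩ := hA s hs b
      exact ⟨_, hd, Nat.mul_dvd_mul a hsd⟩
    · obtain ⟨d, hd, hrd⟩ := hA r hr' a
      exact ⟨_, hd, by rw [mul_comm r]; exact Nat.mul_dvd_mul b hrd⟩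
    · exact ⟨q ^ 2 + 1, (hdeg _).mpr (by simp), hco.mul_dvd_of_dvd_of_dvd a b⟩
  have h2m : ∀ s : ℕ, s ∣ q - 1 → ∃ d ∈ Cfsg.charDegrees S, 2 * s ∣ d := fun s hs =>
    ⟨(q - 1) * 2 ^ m, (hdeg _).mpr (by simp), by
      rw [mul_comm 2]; exact Nat.mul_dvd_mul hs (dvd_pow_self 2 (by omega))⟩
  have hno : ∀ d, d ∈ Cfsg.charDegrees S → ∀ s : ℕ, s.Prime → s ≠ 2 → 2 * s ∣ d → s ∣ q - 1 := by
    intro d hd s hs hs2 h
    rcases htwo d hd (dvd_trans (dvd_mul_right 2 s) h) with rfl | rfl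
    · have := hs.dvd_of_dvd_pow ((dvd_mul_left s 2).trans h)
      rw [hqm] at this
      exact absurd ((Nat.prime_dvd_prime_iff_eq hs Nat.prime_two).mp (hs.dvd_of_dvd_pow this)) hs2
    · rcases hs.dvd_mul.mp ((dvd_mul_left s 2).trans h) with h' | h'
      · exact h'
      · exact absurd ((Nat.prime_dvd_prime_iff_eq hs Nat.prime_two).mp (hs.dvd_of_dvd_pow h')) hs2
  refine ⟨Set.ext fun r => ⟨?_, ?_⟩, fun r s => ⟨?_, ?_⟩⟩
  · rintro ⟨hr', d, hd, hrd⟩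
    exact ⟨hr', hdiv d hd r hr' hrd⟩
  · rintro ⟨hr', rfl | h⟩
    · exact ⟨hr', q ^ 2, (hdeg _).mpr (by simp), hq2⟩
    · rcases hr'.dvd_mul.mp h with a | a
      · exact ⟨hr', _, (hdeg ((q - 1) * 2 ^ m)).mpr (by simp), a.mul_right _⟩
      · exact ⟨hr', q ^ 2 + 1, (hdeg _).mpr (by simp), a⟩
  · rintro ⟨hne, hr', hs, d, hd, hrs⟩
    refine ⟨hne, hr', hs, ?_⟩
    rcases hdiv d hd r hr' ((dvd_mul_right r s).trans hrs) with rfl | a
    · exact Or.inr (Or.inl ⟨rfl, hno d hd s hs hne.symm hrs⟩)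
    · rcases hdiv d hd s hs ((dvd_mul_left s r).trans hrs) with rfl | b
      · exact Or.inr (Or.inr ⟨rfl, hno d hd r hr' hne (by rwa [mul_comm] at hrs)⟩)
      · exact Or.inl ⟨a, b⟩
  · rintro ⟨hne, hr', hs, ⟨a, b⟩ | ⟨rfl, b⟩ | ⟨rfl, a⟩⟩
    · exact ⟨hne, hr', hs, hq1 r s hr' hs hne a b⟩
    · exact ⟨hne, hr', hs, h2m s b⟩
    · obtain ⟨d, hd, h⟩ := h2m r a
      exact ⟨hne, hr', hs, d, hd, by rwa [mul_comm]⟩

end Cfsg.Agent.S4775
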