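import Cfsg.Statements.S4776
import Cfsg.Agent.H19.RelDegree

set_option autoImplicit false
open Cfsg

namespace Cfsg.Agent.S4776

/-- Let N be a normal subgroup of the finite group G that is not perfect and is contained in the derived subgroup of G. Consider the common-divisor graph on the relative degree set cd(G|N) (the degrees of the irreducible complex characters of G whose kernel does not contain N; two distinct degrees adjacent when they have a common divisor greater than one). Then this graph has at most two connected components; and if a, b ∈ cd(G|N) lie in different components, then one of a, b is coprime to the index m of the derived subgroup of N in N while the other is divisible by every prime divisor of m. -/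
theorem result {G : Type*} [Group G] [Finite G] (N : Subgroup G) [N.Normal] (hN : ⁅N, N⁆ < N) (hNG : N ≤ commutator G) : Nat.card (Cfsg.commonDivisorGraph.induce (Cfsg.relCharDegrees N)).ConnectedComponent ≤ 2 ∧ ∀ (a b : ℕ) (ha : a ∈ Cfsg.relCharDegrees N) (hb : b ∈ Cfsg.relCharDegrees N), ¬ (Cfsg.commonDivisorGraph.induce (Cfsg.relCharDegrees N)).Reachable ⟨a, ha⟩ ⟨b, hb⟩ → (Nat.Coprime a (⁅N, N⁆.relIndex N) ∧ ∀ r : ℕ, r.Prime → r ∣ ⁅N, N⁆.relIndex N → r ∣ b) ∨ (Nat.Coprime b (⁅N, N⁆.relIndex N) ∧ ∀ r : ℕ, r.Prime → r ∣ ⁅N, N⁆.relIndex N → r ∣ a) := by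
  classical
  haveI := Fintype.ofFinite G
  haveI := Fintype.ofFinite N
  have hm1 : ⁅N, N⁆.relIndex N ≠ 1 := fun h => hN.not_ge (Subgroup.relIndex_eq_one.mp h)
  obtain ⟨r, hr, hrm⟩ := Nat.exists_prime_and_dvd hm1
  have hall : ∀ (a b : ℕ) (ha : a ∈ Cfsg.relCharDegrees N) (hb : b ∈ Cfsg.relCharDegrees N),
      ¬ (Cfsg.commonDivisorGraph.induce (Cfsg.relCharDegrees N)).Reachable ⟨a, ha⟩ ⟨b, hb⟩ →
      (¬ r ∣ a ∧ r ∣ b) ∨ (¬ r ∣ b ∧ r ∣ a) := by
    intro a b ha hb hnr
    have hnr' : ¬ H19.RelDeg.Reach N a b := fun ⟨_, _, h⟩ => hnr h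
    by_cases hra : r ∣ a
    · refine Or.inr ⟨fun hrb => hnr' (H19.RelDeg.reach_of_dvd ha hb hr.one_lt hra hrb), hra⟩
    · exact Or.inl ⟨hra, (H19.RelDeg.dichotomy hNG ha hb hnr' hr hrm hra).2 r hr hrm⟩
  refine ⟨?_, fun a b ha hb hnr => ?_⟩
  · by_contra hlt
    haveI : Fintype (Cfsg.commonDivisorGraph.induce (Cfsg.relCharDegrees N)).ConnectedComponent :=
      haveI : Finite (Cfsg.relCharDegrees N) :=
        Set.Finite.to_subtype ((Set.finite_range fun χ : Cfsg.IrrCharacter G =>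
          Cfsg.charDegree (χ : G → ℂ)).subset fun d ⟨χ, _, hd⟩ => ⟨χ, hd⟩)
      Fintype.ofFinite _
    rw [not_le, Nat.card_eq_fintype_card, Fintype.two_lt_card_iff] at hlt
    obtain ⟨x, y, z, hxy, hxz, hyz⟩ := hlt
    induction x using SimpleGraph.ConnectedComponent.ind with | _ x =>
    induction y using SimpleGraph.ConnectedComponent.ind with | _ y =>
    induction z using SimpleGraph.ConnectedComponent.ind with | _ z =>
    rw [Ne, SimpleGraph.ConnectedComponent.eq] at hxy hxz hyz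
    rcases hall x y x.2 y.2 hxy with ⟨h1, h2⟩ | ⟨h1, h2⟩ <;>
    rcases hall x z x.2 z.2 hxz with ⟨h3, h4⟩ | ⟨h3, h4⟩ <;>
    rcases hall y z y.2 z.2 hyz with ⟨h5, h6⟩ | ⟨h5, h6⟩ <;>
    tauto
  · have hnr' : ¬ H19.RelDeg.Reach N a b := fun ⟨_, _, h⟩ => hnr h
    rcases hall a b ha hb hnr with ⟨h, -⟩ | ⟨h, -⟩
    · exact Or.inl (H19.RelDeg.dichotomy hNG ha hb hnr' hr hrm h)
    · exact Or.inr (H19.RelDeg.dichotomy hNG hb ha (fun h' => hnr' h'.symm) hr hrm h)

end Cfsg.Agent.S4776
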