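import Cfsg.Statements.S4779
import Cfsg.Agent.H4.RelGraph.Main
-- import your own Cfsg.Agent.* helpers here

set_option autoImplicit false
open Cfsg

namespace Cfsg.Agent.S4779

/-- Let N be a solvable normal subgroup of the finite group G contained in the derived subgroup of G, and consider the common-divisor graph on the relative degree set cd(G|N) (degrees of irreducible complex characters of G whose kernel does not contain N, two distinct degrees adjacent when not coprime). If this graph has two vertices that are not joined by any path, then there is a vertex a₀ such that any two distinct vertices in the component of a₀ are adjacent, and any two distinct vertices outside that component are adjacent or have a common neighbour (one component is complete, the other has diameter at most 2). -/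
theorem result {G : Type*} [Group G] [Finite G] (N : Subgroup G) [N.Normal] [Group.IsSolvable N] (hNG : N ≤ commutator G) (hdisc : ¬ (Cfsg.commonDivisorGraph.induce (Cfsg.relCharDegrees N)).Preconnected) : ∃ a₀ : ↥(Cfsg.relCharDegrees N), (∀ b c : ↥(Cfsg.relCharDegrees N), (Cfsg.commonDivisorGraph.induce (Cfsg.relCharDegrees N)).Reachable a₀ b → (Cfsg.commonDivisorGraph.induce (Cfsg.relCharDegrees N)).Reachable a₀ c → b ≠ c → (Cfsg.commonDivisorGraph.induce (Cfsg.relCharDegrees N)).Adj b c) ∧ (∀ b c : ↥(Cfsg.relCharDegrees N), ¬ (Cfsg.commonDivisorGraph.induce (Cfsg.relCharDegrees N)).Reachable a₀ b → ¬ (Cfsg.commonDivisorGraph.induce (Cfsg.relCharDegrees N)).Reachable a₀ c → b ≠ c → (Cfsg.commonDivisorGraph.induce (Cfsg.relCharDegrees N)).Adj b c ∨ ∃ d : ↥(Cfsg.relCharDegrees N), (Cfsg.commonDivisorGraph.induce (Cfsg.relCharDegrees N)).Adj b d ∧ (Cfsg.commonDivisorGraph.induce (Cfsg.relCharDegrees N)).Adj d c) := by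
  classical
  set Γ := Cfsg.commonDivisorGraph.induce (Cfsg.relCharDegrees N) with hΓ
  obtain ⟨⟨u, hu⟩, ⟨v, hv⟩, huv⟩ : ∃ u v, ¬ Γ.Reachable u v := by
    simpa [SimpleGraph.Preconnected] using hdisc
  have huv' : ¬ H19.RelDeg.Reach N u v := fun ⟨_, _, h⟩ => huv h
  obtain ⟨r, hr, hrm⟩ := Nat.exists_prime_and_dvd
    (H4.RelGraph.index_ne_one (N := N) (H4.RelGraph.ne_bot_of_mem hu))
  -- `a` is the end of the pair that is divisible by `r`
  obtain ⟨a, c, ha, hc, hac, hra⟩ : ∃ a c, a ∈ Cfsg.relCharDegrees N ∧ c ∈ Cfsg.relCharDegrees N ∧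
      ¬ H19.RelDeg.Reach N a c ∧ r ∣ a := by
    by_cases hru : r ∣ u
    · exact ⟨u, v, hu, hv, huv', hru⟩
    · exact ⟨v, u, hv, hu, fun h => huv' (H4.RelGraph.reach_symm h),
        (H4.RelGraph.full_of_not_reach hNG hu hv huv' hr hrm hru).2 r hr hrm⟩
  have hrc : ¬ r ∣ c := fun h =>
    hac (H4.RelGraph.near_of_dvd ha hc hr.one_lt hra h).reach
  have hin : ∀ b : ↥(Cfsg.relCharDegrees N), Γ.Reachable ⟨a, ha⟩ b → r ∣ (b : ℕ) := fun b hb => by
    by_contra hrb
    exact hac (H4.RelGraph.reach_trans ⟨ha, b.2, hb⟩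
      (H4.RelGraph.reach_not_dvd hNG b.2 hc hr hrm hrb hrc))
  have hout : ∀ b : ↥(Cfsg.relCharDegrees N), ¬ Γ.Reachable ⟨a, ha⟩ b → ¬ r ∣ (b : ℕ) :=
    fun b hb hrb => hb (by
      obtain ⟨_, _, h⟩ := (H4.RelGraph.near_of_dvd ha b.2 hr.one_lt hra hrb).reach
      exact h)
  refine ⟨⟨a, ha⟩, fun b d hb hd hbd => ?_, fun b d hb hd hbd => ?_⟩
  · obtain ⟨_, _, p, hp⟩ := H4.RelGraph.near_of_dvd b.2 d.2 hr.one_lt (hin b hb) (hin d hd)
    exact H4.RelGraph.adj_of_walk_one p hp hbd
  · obtain ⟨_, _, p, hp⟩ := H4.RelGraph.near_two_of_disconnected (Nat.card N) N le_rfl hNG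
      ⟨a, ha, c, hc, hac⟩ b d
      (H4.RelGraph.reach_not_dvd hNG b.2 d.2 hr hrm (hout b hb) (hout d hd))
    exact H4.RelGraph.adj_of_walk_two p hp hbd

end Cfsg.Agent.S4779
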