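import Cfsg.Statements.S4784
import Cfsg.Agent.H24.Constituent
import Cfsg.Agent.H14.Basic
import Cfsg.Agent.H25.Indicator


set_option autoImplicit false
open Cfsg

namespace Cfsg.Agent.S4784

/-- Let H be a subgroup of the finite group G and consider the permutation character of G on the cosets of H (the function induced from the principal character of H). Then exactly one irreducible constituent of it is real-valued with Frobenius–Schur indicator +1 (namely the principal character) if and only if the normal core of H has odd index in G. -/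
theorem result {G : Type*} [Group G] [Fintype G] (H : Subgroup G) : Nat.card {χ : Cfsg.IrrCharacter G // Cfsg.classInner (Cfsg.indFun H (fun _ : H => (1 : ℂ))) (χ : G → ℂ) ≠ 0 ∧ (∀ g : G, (starRingEnd ℂ) ((χ : G → ℂ) g) = (χ : G → ℂ) g) ∧ (Nat.card G : ℂ)⁻¹ * ∑ g : G, (χ : G → ℂ) (g * g) = 1} = 1 ↔ Odd H.normalCore.index := by
  classical
  set π := indFun H (fun _ : H => (1 : ℂ)) with hπ
  have hπc : IsCharacter G π := H12.IsCharacter.indFun (H12.isCharacter_one (G := H))
  obtain ⟨m, hm, hmi, -⟩ := H24.exists_mult_classInner hπc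
  let F : G → ℕ := fun g => Nat.card {q : G ⧸ H // g • q = q}
  have hF : ∀ g, π g = (F g : ℂ) := fun g => H14.indFun_one_eq_fixed H g
  have hsum1 : classInner π (H12.oneIrr G : G → ℂ) = 1 := by
    rw [hπ, H12.classInner_indFun _ _ (H12.irr_isClassFunction _), H12.classInner_def]
    simp [H12.oneIrr_apply]
  have hprop1 : classInner π (H12.oneIrr G : G → ℂ) ≠ 0 ∧
      (∀ g : G, (starRingEnd ℂ) ((H12.oneIrr G : G → ℂ) g) = (H12.oneIrr G : G → ℂ) g) ∧
      (Nat.card G : ℂ)⁻¹ * ∑ g : G, (H12.oneIrr G : G → ℂ) (g * g) = 1 := by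
    refine ⟨by rw [hsum1]; exact one_ne_zero, fun g => by simp [H12.oneIrr_apply], ?_⟩
    simp [H12.oneIrr_apply, ← Nat.card_eq_fintype_card]
  rw [Nat.card_eq_one_iff_unique]
  constructor
  · rintro ⟨hsub, -⟩
    rw [← Nat.not_even_iff_odd]
    intro heven
    haveI : Fact (Nat.Prime 2) := ⟨Nat.prime_two⟩
    obtain ⟨q, hq⟩ := exists_prime_orderOf_dvd_card' (G := G ⧸ H.normalCore) 2 (even_iff_two_dvd.1 heven)
    obtain ⟨g, rfl⟩ := QuotientGroup.mk_surjective q
    have hg : g ∉ H.normalCore := fun h => by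
      rw [(QuotientGroup.eq_one_iff g).2 h, orderOf_one] at hq
      exact absurd hq (by norm_num)
    have hg2 : g * g ∈ H.normalCore := by
      rw [← QuotientGroup.eq_one_iff, ← pow_two, QuotientGroup.mk_pow, ← hq, pow_orderOf_eq_one]
    have hfix2 : ∀ x : G ⧸ H, (g * g) • x = x := by
      intro x
      obtain ⟨x, rfl⟩ := QuotientGroup.mk_surjective x
      rw [MulAction.Quotient.smul_mk, QuotientGroup.eq]
      have h1 := inv_mem (hg2 x⁻¹)
      simpa [mul_assoc] using h1
    obtain ⟨x₀, hx₀⟩ : ∃ x : G ⧸ H, g • x ≠ x := by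
      by_contra! hall
      apply hg
      intro a
      have h1 := hall (QuotientGroup.mk a⁻¹)
      rw [MulAction.Quotient.smul_mk, QuotientGroup.eq] at h1
      simpa [mul_assoc] using inv_mem h1
    have hle : ∀ w, F w ≤ F (w * w) := fun w =>
      Nat.card_le_card_of_injective (fun x => ⟨x.1, by rw [mul_smul, x.2, x.2]⟩)
        (fun a b h => Subtype.ext (congrArg (fun z : {q : G ⧸ H // (w * w) • q = q} => z.1) h))
    have hlt : F g < F (g * g) := by
      haveI := Fintype.ofFinite (G ⧸ H)
      simp only [F, Nat.card_eq_fintype_card]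
      refine Fintype.card_lt_of_injective_of_notMem
        (fun x : {q : G ⧸ H // g • q = q} => (⟨x.1, by rw [mul_smul, x.2, x.2]⟩ : {q : G ⧸ H // (g * g) • q = q}))
        (fun a b h => Subtype.ext (congrArg (fun z : {q : G ⧸ H // (g * g) • q = q} => z.1) h))
        (b := ⟨x₀, hfix2 x₀⟩) ?_
      rintro ⟨⟨y, hy⟩, he⟩
      have : y = x₀ := congrArg Subtype.val he
      exact hx₀ (this ▸ hy)
    have hstrict : ∑ w, F w < ∑ w, F (w * w) :=
      Finset.sum_lt_sum (fun w _ => hle w) ⟨g, Finset.mem_univ _, hlt⟩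
    have hF1 : ((∑ w, F w : ℕ) : ℂ) = (Nat.card G : ℂ) := by
      have h1 := H12.sum_mul_conj_eq_card_mul π (H12.oneIrr G : G → ℂ)
      rw [hsum1, mul_one] at h1
      rw [← h1]
      push_cast
      exact Finset.sum_congr rfl fun w _ => by simp [hF, H12.oneIrr_apply]
    have hFnat : ∑ w, F w = Nat.card G := by exact_mod_cast hF1
    rw [hFnat] at hstrict
    -- the indicator sum
    have hν : ((∑ w, F (w * w) : ℕ) : ℂ) = (Nat.card G : ℂ) *
        ∑ χ : IrrCharacter G, (m χ : ℂ) * H17.fsInd (χ : G → ℂ) := by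
      push_cast
      simp only [← hF]
      rw [hm]
      simp only [Finset.sum_apply, Pi.smul_apply, smul_eq_mul]
      rw [Finset.sum_comm, Finset.mul_sum]
      refine Finset.sum_congr rfl fun χ _ => ?_
      rw [H17.fsInd, ← Finset.mul_sum]
      field_simp [(H12.card_ne_zero' (G := G))]
    have hre := congrArg Complex.re hν
    rw [Complex.natCast_re, ← Complex.ofReal_natCast, Complex.re_ofReal_mul, Complex.re_sum] at hre
    have hterms : ∀ χ : IrrCharacter G, ((m χ : ℂ) * H17.fsInd (χ : G → ℂ)).re ≤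
        if χ = H12.oneIrr G then 1 else 0 := by
      intro χ
      split_ifs with h
      · subst h
        have h1 : (m (H12.oneIrr G) : ℂ) = 1 := by rw [← hmi, hsum1]
        rw [h1, one_mul, H17.fsInd, hprop1.2.2]
        simp
      · by_contra hpos
        rw [not_le] at hpos
        rcases H25.fsInd_irr_cases χ with h0 | ⟨h1 | h1, himag⟩
        · rw [h0, mul_zero] at hpos
          exact lt_irrefl _ hpos
        · refine h ?_
          have := hsub.elim (⟨χ, ?_, fun g => Complex.conj_eq_iff_im.2 (himag g), h1⟩ :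
            {χ : IrrCharacter G // classInner π (χ : G → ℂ) ≠ 0 ∧
              (∀ g : G, (starRingEnd ℂ) ((χ : G → ℂ) g) = (χ : G → ℂ) g) ∧
              (Nat.card G : ℂ)⁻¹ * ∑ g : G, (χ : G → ℂ) (g * g) = 1}) ⟨H12.oneIrr G, hprop1⟩
          · exact congrArg Subtype.val this
          · rw [hmi, Nat.cast_ne_zero]
            intro h0
            rw [h0, Nat.cast_zero, zero_mul] at hpos
            exact lt_irrefl _ hpos
        · rw [h1] at hpos
          simp at hpos
          exact absurd hpos (not_lt.2 (Nat.cast_nonneg _))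
    have hle1 : ∑ χ : IrrCharacter G, ((m χ : ℂ) * H17.fsInd (χ : G → ℂ)).re ≤ 1 :=
      (Finset.sum_le_sum fun χ _ => hterms χ).trans (by simp)
    have h3 : ((∑ w, F (w * w) : ℕ) : ℝ) ≤ (Nat.card G : ℝ) := by
      rw [hre]
      exact mul_le_of_le_one_right (Nat.cast_nonneg _) hle1
    exact absurd (by exact_mod_cast h3) (not_le.2 hstrict)
  · intro hodd
    refine ⟨⟨fun a b => Subtype.ext ?_⟩, ⟨⟨H12.oneIrr G, hprop1⟩⟩⟩
    suffices h : ∀ χ : IrrCharacter G, classInner π (χ : G → ℂ) ≠ 0 →
        (Nat.card G : ℂ)⁻¹ * ∑ g : G, (χ : G → ℂ) (g * g) = 1 → χ = H12.oneIrr G from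
      (h a.1 a.2.1 a.2.2.2).trans (h b.1 b.2.1 b.2.2.2).symm
    intro χ hχ hν
    by_contra hne
    have hker : H.normalCore ≤ H24.kerChar χ := by
      intro c hc
      have hFc : F c = F 1 := by
        refine Nat.card_congr (Equiv.subtypeEquivRight fun x => ⟨fun _ => one_smul _ _, fun _ => ?_⟩)
        obtain ⟨x, rfl⟩ := QuotientGroup.mk_surjective x
        rw [MulAction.Quotient.smul_mk, QuotientGroup.eq]
        simpa [mul_assoc] using inv_mem (hc x⁻¹)
      have h1 : π c = π 1 := by rw [hF, hF, hFc]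
      rw [hm] at h1
      simp only [Finset.sum_apply, Pi.smul_apply, smul_eq_mul] at h1
      have h2 := congrArg Complex.re h1
      rw [Complex.re_sum, Complex.re_sum] at h2
      have hle : ∀ ψ ∈ (Finset.univ : Finset (IrrCharacter G)),
          ((m ψ : ℂ) * (ψ : G → ℂ) c).re ≤ ((m ψ : ℂ) * (ψ : G → ℂ) 1).re := by
        intro ψ _
        rw [← Complex.ofReal_natCast, Complex.re_ofReal_mul, Complex.re_ofReal_mul, H24.irr_one,
          Complex.natCast_re]
        exact mul_le_mul_of_nonneg_left ((Complex.re_le_norm _).trans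
          (H12.IsCharacter.norm_le (H12.isCharacter_irr ψ) c)) (Nat.cast_nonneg _)
      have h3 := (Finset.sum_eq_sum_iff_of_le hle).1 h2 χ (Finset.mem_univ _)
      have hm0 : (m χ : ℝ) ≠ 0 := by
        rw [hmi] at hχ
        simpa using hχ
      rw [← Complex.ofReal_natCast, Complex.re_ofReal_mul, Complex.re_ofReal_mul] at h3
      have h4 := mul_left_cancel₀ hm0 h3
      rw [H24.mem_kerChar, H24.irr_one]
      rw [H24.irr_one, Complex.natCast_re] at h4
      have h5 := H12.IsCharacter.norm_le (H12.isCharacter_irr χ) c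
      have h6 := Complex.sq_norm ((χ : G → ℂ) c)
      rw [Complex.normSq_apply, h4] at h6
      have hd0 : (0 : ℝ) ≤ (charDegree (χ : G → ℂ) : ℝ) := Nat.cast_nonneg _
      have h7 : ‖(χ : G → ℂ) c‖ ^ 2 ≤ (charDegree (χ : G → ℂ) : ℝ) ^ 2 :=
        pow_le_pow_left₀ (norm_nonneg _) h5 2
      apply Complex.ext
      · simpa using h4
      · simp only [Complex.natCast_im]
        nlinarith
    obtain ⟨ψ, hψ⟩ := H24.exists_deflate H.normalCore χ hker
    haveI := Fintype.ofFinite (G ⧸ H.normalCore)
    have hψne : ψ ≠ H12.oneIrr (G ⧸ H.normalCore) := fun h => hne (by rw [← hψ, h]; rfl)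
    have hsq : Function.Bijective (fun x : G ⧸ H.normalCore => x * x) := by
      have h2 : Nat.Coprime (Nat.card (G ⧸ H.normalCore)) 2 :=
        (Nat.coprime_two_right).2 hodd
      have := (powCoprime (G := G ⧸ H.normalCore) h2).bijective
      convert this using 1
      funext x
      simp [powCoprime, pow_two]
    have hz : ∑ g : G, (χ : G → ℂ) (g * g) = 0 := by
      rw [← Fintype.sum_fiberwise (fun g : G => (QuotientGroup.mk g : G ⧸ H.normalCore))]
      have h1 : ∀ x : G ⧸ H.normalCore, ∀ i : {g : G // (QuotientGroup.mk g : G ⧸ H.normalCore) = x},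
          (χ : G → ℂ) (i.1 * i.1) = (ψ : G ⧸ H.normalCore → ℂ) (x * x) := by
        intro x i
        rw [← hψ, H24.inflate_apply, QuotientGroup.mk_mul, i.2]
      simp only [h1, Finset.sum_const, Finset.card_univ]
      have hc : ∀ x : G ⧸ H.normalCore,
          Fintype.card {g : G // (QuotientGroup.mk g : G ⧸ H.normalCore) = x} = Nat.card H.normalCore := by
        intro x
        obtain ⟨x, rfl⟩ := QuotientGroup.mk_surjective x
        rw [← Nat.card_eq_fintype_card]
        exact Nat.card_congr
          { toFun := fun g => ⟨x⁻¹ * g.1, QuotientGroup.eq.1 g.2.symm⟩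
            invFun := fun k => ⟨x * k, QuotientGroup.mk_mul_of_mem x k.2⟩
            left_inv := fun g => by simp
            right_inv := fun k => by simp }
      simp only [hc, ← Finset.smul_sum]
      rw [Function.Bijective.sum_comp hsq (fun y => (ψ : G ⧸ H.normalCore → ℂ) y)]
      have h2 := H12.sum_mul_conj_eq_card_mul (ψ : G ⧸ H.normalCore → ℂ) (H12.oneIrr (G ⧸ H.normalCore))
      rw [H12.classInner_irr_ne hψne, mul_zero] at h2
      simp only [H12.oneIrr_apply, map_one, mul_one] at h2
      rw [h2, smul_zero]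
    rw [hz, mul_zero] at hν
    exact zero_ne_one hν

end Cfsg.Agent.S4784
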