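import Cfsg.Statements.S4796
import Cfsg.Agent.H24.Arith
import Cfsg.Agent.H2.FrobeniusBasic


set_option autoImplicit false
open Cfsg

namespace Cfsg.Agent.S4796

/-- Let G be a finite group with a faithful irreducible complex character χ whose codegree #G / χ(1) is a prime p (for a faithful character the kernel is trivial, so the codegree is #G / χ(1)). Then either G is cyclic of order p, or G is a Frobenius group whose Frobenius kernel has order p: some proper non-trivial subgroup H satisfies H ∩ gHg⁻¹ = 1 for every element g outside H, and the set of elements lying in no conjugate of H, together with the identity, has exactly p elements. -/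
theorem result {G : Type*} [Group G] [Finite G] (χ : Cfsg.IrrCharacter G) (hfaith : ∀ g : G, (χ : G → ℂ) g = (χ : G → ℂ) 1 → g = 1) (p : ℕ) (hp : p.Prime) (hcod : Nat.card G = p * Cfsg.charDegree (χ : G → ℂ)) : (IsCyclic G ∧ Nat.card G = p) ∨ ∃ H : Subgroup G, Cfsg.IsFrobeniusComplement H ∧ Nat.card ↥(Cfsg.frobeniusKernel H) = p := by
  classical
  haveI := Fintype.ofFinite G
  haveI : Fact p.Prime := ⟨hp⟩
  set d := charDegree (χ : G → ℂ) with hd
  have hd0 : 0 < d := H24.irr_pos χ
  have hab : ∀ A : Subgroup G, (∀ a ∈ A, ∀ b ∈ A, a * b = b * a) → Nat.card A ≤ p := by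
    intro A hA
    have h1 := H24.charDegree_le_index χ A hA
    have h2 : Nat.card A * d ≤ p * d := by
      rw [← hcod, ← Subgroup.card_mul_index A]
      exact Nat.mul_le_mul_left _ h1
    exact Nat.le_of_mul_le_mul_right h2 hd0
  have hsq : d ^ 2 ≤ Nat.card G :=
    le_trans (Nat.le_mul_of_pos_left _ Nat.card_pos) (H24.card_ker_mul_degree_sq_le χ)
  rw [sq, hcod] at hsq
  have hdp : d < p := by
    refine lt_of_le_of_ne (Nat.le_of_mul_le_mul_right hsq hd0) fun heq => ?_
    have h2 : Nat.card G = p ^ 2 := by rw [hcod, heq, sq]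
    have h1 := H24.charDegree_eq_one_of_comm (IsPGroup.commutative_of_card_eq_prime_sq h2) χ
    rw [← hd, heq] at h1
    exact hp.one_lt.ne' h1
  rcases Nat.lt_or_ge 1 d with hd1 | hd1
  swap
  · left
    have h1 : d = 1 := by omega
    rw [h1, mul_one] at hcod
    exact ⟨isCyclic_of_prime_card hcod, hcod⟩
  right
  obtain ⟨P⟩ := (inferInstance : Nonempty (Sylow p G))
  have hnd : ¬ p ∣ d := fun h => absurd (Nat.le_of_dvd hd0 h) (not_le.2 hdp)
  have hPp : Nat.card P = p := by
    rw [Sylow.card_eq_multiplicity, hcod, Nat.factorization_mul hp.ne_zero hd0.ne',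
      Finsupp.add_apply, hp.factorization_self, Nat.factorization_eq_zero_of_not_dvd hnd,
      add_zero, pow_one]
  have hidx : (P : Subgroup G).index = d := by
    have h1 := Subgroup.card_mul_index (P : Subgroup G)
    rw [hPp, hcod] at h1
    exact Nat.eq_of_mul_eq_mul_left hp.pos h1
  have hn : Nat.card (Sylow p G) = 1 := by
    have h2 := Nat.le_of_dvd (hidx ▸ hd0) (P.card_dvd_index)
    rw [hidx] at h2
    have h3 : Nat.card (Sylow p G) % p = 1 % p := card_sylow_modEq_one p G
    rwa [Nat.mod_eq_of_lt (lt_of_le_of_lt h2 hdp), Nat.mod_eq_of_lt hp.one_lt] at h3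
  haveI : Subsingleton (Sylow p G) := (Nat.card_eq_one_iff_unique.1 hn).1
  haveI hPn : (P : Subgroup G).Normal := P.normal_of_subsingleton
  obtain ⟨H, hH⟩ := Subgroup.exists_right_complement'_of_coprime (N := (P : Subgroup G)) (by
    rw [hPp, hidx]
    exact hp.coprime_iff_not_dvd.2 hnd)
  have hPne : (P : Subgroup G) ≠ ⊥ := fun h => by
    rw [h, Subgroup.card_bot] at hPp
    exact hp.one_lt.ne hPp
  have hHne : H ≠ ⊥ := fun h => by
    have h1 := hH.card_mul
    rw [h, Subgroup.card_bot, hPp, hcod, mul_one] at h1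
    have : d = 1 := Nat.eq_of_mul_eq_mul_left hp.pos (by rw [mul_one]; exact h1.symm)
    omega
  have hF : IsFrobeniusComplement H := by
    refine H2.frobenius_of_fpf hH hPne hHne fun h hh hne => ?_
    rw [Subgroup.eq_bot_iff_forall]
    rintro u ⟨hu, huc⟩
    by_contra hu1
    have hgen : (P : Subgroup G) = Subgroup.zpowers u := by
      refine (Subgroup.eq_of_le_of_card_ge (Subgroup.zpowers_le.2 hu) ?_).symm
      rw [hPp, Nat.card_zpowers]
      have hu' := Subgroup.orderOf_dvd_natCard _ hu
      rw [hPp] at hu'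
      rcases (Nat.dvd_prime hp).1 hu' with h1 | h1
      · exact absurd (orderOf_eq_one_iff.1 h1) hu1
      · exact h1.ge
    have hAc := hab (Subgroup.closure {u, h}) (fun a ha b hb => by
      haveI := Subgroup.isMulCommutative_closure (k := ({u, h} : Set G)) (by
        have hc : u * h = h * u := Subgroup.mem_centralizer_singleton_iff.1 huc
        rintro x (rfl | rfl) y (rfl | rfl) <;> first | rfl | exact hc | exact hc.symm)
      exact congrArg Subtype.val
        (IsMulCommutative.is_comm.comm (⟨a, ha⟩ : Subgroup.closure {u, h}) ⟨b, hb⟩))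
    have hlt : (P : Subgroup G) < Subgroup.closure {u, h} := by
      refine lt_of_le_of_ne ?_ fun he => ?_
      · rw [hgen, Subgroup.zpowers_le]
        exact Subgroup.subset_closure (by simp)
      · refine hne (H2.complement_inf hH ?_ hh)
        rw [he]
        exact Subgroup.subset_closure (by simp)
    have h1 : Nat.card P < Nat.card (Subgroup.closure {u, h}) := by
      exact Set.ncard_lt_ncard (SetLike.coe_ssubset_coe.2 hlt) (Set.toFinite _)
    omega
  refine ⟨H, hF, ?_⟩
  rw [← H2.coe_eq_frobeniusKernel hH hF]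
  exact hPp

end Cfsg.Agent.S4796
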