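import Cfsg.Statements.S4797
import Cfsg.Agent.H24.Arith


set_option autoImplicit false
open Cfsg

namespace Cfsg.Agent.S4797

/-- The codegree of an irreducible complex character χ of a finite group G is [G : ker χ] / χ(1), where ker χ is the set of elements at which χ takes the value χ(1). A non-trivial finite group is perfect if and only if no irreducible complex character of it has prime codegree. -/
theorem result {G : Type*} [Group G] [Finite G] [Nontrivial G] : commutator G = ⊤ ↔ ∀ χ : Cfsg.IrrCharacter G, ¬ ((Nat.card G / (Nat.card {g : G // (χ : G → ℂ) g = (χ : G → ℂ) 1} * Cfsg.charDegree (χ : G → ℂ)))).Prime := by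
  classical
  haveI := Fintype.ofFinite G
  constructor
  · intro hperf χ hp
    haveI : Fintype (G ⧸ H24.kerChar χ) := Fintype.ofFinite _
    set Q := G ⧸ H24.kerChar χ
    set f := QuotientGroup.mk' (H24.kerChar χ)
    have hQ : commutator Q = ⊤ := by
      have h1 : (commutator G).map f = commutator Q := by
        simp only [commutator_def, Subgroup.map_commutator,
          Subgroup.map_top_of_surjective f (QuotientGroup.mk'_surjective _)]
      rw [← h1, hperf, Subgroup.map_top_of_surjective f (QuotientGroup.mk'_surjective _)]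
    obtain ⟨ψ, hψ⟩ := H24.exists_deflate (H24.kerChar χ) χ le_rfl
    rw [H24.codegree_eq] at hp
    set p := Nat.card Q / charDegree (χ : G → ℂ) with hpdef
    haveI : Fact p.Prime := ⟨hp⟩
    have hd : charDegree (ψ : Q → ℂ) = charDegree (χ : G → ℂ) := by
      conv_rhs => rw [← hψ]
      rfl
    have hcard : p * charDegree (χ : G → ℂ) = Nat.card Q :=
      Nat.div_mul_cancel (H24.charDegree_dvd_quotient χ)
    have hsq := H24.card_ker_mul_degree_sq_le ψ
    rw [hd, sq] at hsq
    have hk1 : 1 ≤ Nat.card (H24.kerChar ψ) := Nat.card_pos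
    have hdpos := H24.irr_pos χ
    have hle : charDegree (χ : G → ℂ) ≤ p := by
      refine Nat.le_of_mul_le_mul_right (?_ : _ * charDegree (χ : G → ℂ) ≤ p * charDegree (χ : G → ℂ)) hdpos
      rw [hcard]
      exact le_trans (Nat.le_mul_of_pos_left _ hk1) hsq
    obtain ⟨P⟩ := (inferInstance : Nonempty (Sylow p Q))
    have hbot : Subgroup.normalizer ((P : Subgroup Q) : Set Q) ≤
        Subgroup.centralizer ((P : Subgroup Q) : Set Q) → False := by
      intro hP
      have hcomp := MonoidHom.ker_transferSylow_isComplement' P hP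
      have hker : (MonoidHom.transferSylow P hP).ker = ⊤ := by
        haveI : IsMulCommutative (P : Subgroup Q) := ⟨⟨fun a b => Subtype.ext
          ((hP (Subgroup.le_normalizer b.2)) (a : Q) a.2)⟩⟩
        refine top_le_iff.1 (hQ ▸ ?_)
        rw [commutator_def, Subgroup.commutator_le]
        intro a _ b _
        rw [MonoidHom.mem_ker, map_commutatorElement]
        exact commutatorElement_eq_one_iff_mul_comm.2
          (by open scoped IsMulCommutative in exact mul_comm _ _)
      rw [hker, Subgroup.isComplement'_top_left] at hcomp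
      have h1 := Sylow.card_eq_multiplicity P
      rw [hcomp, Subgroup.card_bot] at h1
      have h2 : p ∣ Nat.card Q := ⟨_, hcard.symm⟩
      have h3 := hp.factorization_pos_of_dvd Nat.card_pos.ne' h2
      exact (Nat.one_lt_pow h3.ne' hp.one_lt).ne h1
    rcases eq_or_lt_of_le hle with heq | hlt
    · -- order `p²`, abelian
      have hQ2 : Nat.card Q = p ^ 2 := by rw [← hcard, heq, sq]
      haveI : Finite Q := inferInstance
      have hc := IsPGroup.commutative_of_card_eq_prime_sq hQ2
      have h1 := H24.charDegree_eq_one_of_comm hc ψ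
      rw [hd, heq] at h1
      exact hp.one_lt.ne' h1
    · -- the Sylow subgroup is normal of order `p`
      have hnd : ¬ p ∣ charDegree (χ : G → ℂ) := fun h => absurd (Nat.le_of_dvd hdpos h) (not_le.2 hlt)
      have hPp : Nat.card P = p := by
        rw [Sylow.card_eq_multiplicity, ← hcard, Nat.factorization_mul hp.ne_zero hdpos.ne',
          Finsupp.add_apply, hp.factorization_self, Nat.factorization_eq_zero_of_not_dvd hnd,
          add_zero, pow_one]
      have hidx : (P : Subgroup Q).index = charDegree (χ : G → ℂ) := by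
        have h1 := Subgroup.card_mul_index (P : Subgroup Q)
        rw [hPp, ← hcard] at h1
        exact Nat.eq_of_mul_eq_mul_left hp.pos h1
      have hn : Nat.card (Sylow p Q) = 1 := by
        have h1 := card_sylow_modEq_one p Q
        have h2 := Nat.le_of_dvd (hidx ▸ hdpos) (P.card_dvd_index)
        rw [hidx] at h2
        have h3 : Nat.card (Sylow p Q) % p = 1 % p := h1
        rwa [Nat.mod_eq_of_lt (lt_of_le_of_lt h2 hlt), Nat.mod_eq_of_lt hp.one_lt] at h3
      haveI : Subsingleton (Sylow p Q) := (Nat.card_eq_one_iff_unique.1 hn).1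
      haveI hPn : (P : Subgroup Q).Normal := P.normal_of_subsingleton
      haveI : IsCyclic P := isCyclic_of_prime_card hPp
      apply hbot
      have hker : (MulAut.conjNormal (H := (P : Subgroup Q))).ker = ⊤ := by
        letI : CommGroup P := IsCyclic.commGroup
        refine top_le_iff.1 (hQ ▸ ?_)
        rw [commutator_def, Subgroup.commutator_le]
        intro a _ b _
        rw [MonoidHom.mem_ker, map_commutatorElement, commutatorElement_eq_one_iff_mul_comm]
        apply MulEquiv.ext
        intro x
        obtain ⟨m, hm⟩ := MonoidHom.map_cyclic (MulAut.conjNormal a : MulAut P).toMonoidHom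
        obtain ⟨n, hn⟩ := MonoidHom.map_cyclic (MulAut.conjNormal b : MulAut P).toMonoidHom
        have hm' : ∀ y, MulAut.conjNormal a y = y ^ m := hm
        have hn' : ∀ y, MulAut.conjNormal b y = y ^ n := hn
        simp only [MulAut.mul_apply, hm', hn']
        rw [← zpow_mul, ← zpow_mul, mul_comm]
      intro a _ x hx
      have h1 : MulAut.conjNormal (H := (P : Subgroup Q)) a = 1 :=
        MonoidHom.mem_ker.1 (hker ▸ Subgroup.mem_top a)
      have h2 := congrArg Subtype.val (congrArg (fun e : MulAut P => e ⟨x, hx⟩) h1)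
      simp only [MulAut.conjNormal_apply, MulAut.one_apply] at h2
      exact (mul_inv_eq_iff_eq_mul.1 h2).symm
  · intro h
    by_contra hne
    obtain ⟨A, hA, hle⟩ := (eq_top_or_exists_le_coatom (commutator G)).resolve_left hne
    haveI : A.Normal := ⟨fun a ha g => by
      have hmem : g * a * g⁻¹ * a⁻¹ ∈ A := hle (Subgroup.commutator_mem_commutator
        (Subgroup.mem_top g) (Subgroup.mem_top a))
      simpa using A.mul_mem hmem ha⟩
    haveI : Nontrivial (G ⧸ A) := by
      rw [QuotientGroup.nontrivial_iff]
      exact hA.1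
    haveI := Fintype.ofFinite (G ⧸ A)
    have hgen : ∀ y : G ⧸ A, y ≠ 1 → Subgroup.zpowers y = ⊤ := by
      intro y hy
      obtain ⟨g, rfl⟩ := QuotientGroup.mk_surjective y
      have hlt : A < A ⊔ Subgroup.zpowers g := by
        refine lt_of_le_of_ne le_sup_left fun he => hy ((QuotientGroup.eq_one_iff g).2 ?_)
        rw [he]
        exact le_sup_right (a := A) (Subgroup.mem_zpowers g)
      have htop := congrArg (Subgroup.map (QuotientGroup.mk' A)) (hA.2 _ hlt)
      rw [Subgroup.map_sup, QuotientGroup.map_mk'_self, bot_sup_eq, MonoidHom.map_zpowers,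
        Subgroup.map_top_of_surjective _ (QuotientGroup.mk'_surjective A)] at htop
      exact htop
    obtain ⟨ψ, hψ⟩ := H24.exists_irr_ne_one (G := G ⧸ A)
    have hcomm : ∀ a b : G ⧸ A, a * b = b * a := by
      intro a b
      by_cases ha : a = 1
      · simp [ha]
      · obtain ⟨j, hj⟩ := Subgroup.mem_zpowers_iff.1 ((hgen a ha).symm ▸ Subgroup.mem_top b)
        rw [← hj]
        exact (Commute.self_zpow a j).eq
    set χ := H24.inflate A ψ
    have hkA : H24.kerChar χ = A := by
      rcases lt_or_eq_of_le (H24.le_kerChar_inflate A ψ) with hlt | heq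
      · refine absurd ?_ hψ
        apply H24.eq_oneIrr_of_ker_top
        refine top_le_iff.1 fun y _ => ?_
        obtain ⟨g, rfl⟩ := QuotientGroup.mk_surjective y
        have hg : g ∈ H24.kerChar χ := (hA.2 _ hlt).symm ▸ Subgroup.mem_top g
        rw [H24.mem_kerChar] at hg ⊢
        exact hg
      · exact heq.symm
    refine h χ ?_
    rw [H24.codegree_eq, hkA]
    have hd : charDegree (χ : G → ℂ) = 1 := H24.charDegree_eq_one_of_comm hcomm ψ
    rw [hd, Nat.div_one]
    obtain ⟨l, hl, hldvd⟩ := Nat.exists_prime_and_dvd (Finite.one_lt_card : 1 < Nat.card (G ⧸ A)).ne'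
    haveI : Fact l.Prime := ⟨hl⟩
    obtain ⟨y, hy⟩ := exists_prime_orderOf_dvd_card' l hldvd
    have hy1 : y ≠ 1 := fun h1 => by
      rw [h1, orderOf_one] at hy
      exact hl.one_lt.ne hy
    rw [← Subgroup.card_top, ← hgen y hy1, Nat.card_zpowers, hy]
    exact hl

end Cfsg.Agent.S4797
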