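import Cfsg.Statements.S4798
import Cfsg.Agent.H24.Constituent


set_option autoImplicit false
open Cfsg

namespace Cfsg.Agent.S4798

/-- Let p be a prime and χ a faithful irreducible complex character of the finite group G (χ(g) = χ(1) only for g = 1), so that its codegree is #G / χ(1). Then #G / χ(1) is a power of p if and only if χ is induced from a character of a Sylow p-subgroup of G. -/
theorem result {G : Type*} [Group G] [Fintype G] (p : ℕ) [Fact p.Prime] (χ : Cfsg.IrrCharacter G) (hfaith : ∀ g : G, (χ : G → ℂ) g = (χ : G → ℂ) 1 → g = 1) : (∃ k : ℕ, Nat.card G = p ^ k * Cfsg.charDegree (χ : G → ℂ)) ↔ ∃ (P : Sylow p G) (θ : ↥(P : Subgroup G) → ℂ), Cfsg.IsCharacter ↥(P : Subgroup G) θ ∧ (χ : G → ℂ) = Cfsg.indFun (P : Subgroup G) θ := by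
  classical
  have hdd : (χ : G → ℂ) 1 = (charDegree (χ : G → ℂ) : ℂ) := H24.irr_one χ
  constructor
  · rintro ⟨k, hk⟩
    obtain ⟨P⟩ := (inferInstance : Nonempty (Sylow p G))
    haveI : Fintype (P : Subgroup G) := Fintype.ofFinite _
    have hres := H12.IsCharacter.res (H12.isCharacter_irr χ) (P : Subgroup G)
    obtain ⟨m, hm, hmi, hdeg⟩ := H24.exists_mult_classInner hres
    set v := (charDegree (χ : G → ℂ)).factorization p with hv
    have hd0 := (H24.irr_pos χ).ne'
    obtain ⟨μ, hμm, hμv⟩ : ∃ μ : IrrCharacter (P : Subgroup G), m μ ≠ 0 ∧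
        charDegree (μ : ↥(P : Subgroup G) → ℂ) ∣ p ^ v := by
      by_contra! hne
      have hall : ∀ μ : IrrCharacter (P : Subgroup G),
          p ^ (v + 1) ∣ m μ * charDegree (μ : ↥(P : Subgroup G) → ℂ) := by
        intro μ
        by_cases hz : m μ = 0
        · simp [hz]
        · refine Dvd.dvd.mul_left ?_ _
          have h1 := H24.charDegree_dvd_card μ
          rw [Sylow.card_eq_multiplicity P] at h1
          obtain ⟨j, _, hj⟩ := (Nat.dvd_prime_pow (Fact.out : p.Prime)).1 h1
          have h2 := hne μ hz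
          rw [hj] at h2 ⊢
          refine pow_dvd_pow p ?_
          by_contra hlt
          exact h2 (pow_dvd_pow p (by omega))
      have hd : p ^ (v + 1) ∣ charDegree (χ : G → ℂ) := by
        have h0 : charDegree (χ : G → ℂ) = H12.degree (fun h : (P : Subgroup G) => (χ : G → ℂ) h) := rfl
        rw [h0, hdeg]
        exact Finset.dvd_sum fun μ _ => hall μ
      have := ((Fact.out : p.Prime).pow_dvd_iff_le_factorization hd0).1 hd
      omega
    refine ⟨P, (μ : ↥(P : Subgroup G) → ℂ), H12.isCharacter_irr μ, ?_⟩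
    have hind := H12.IsCharacter.indFun (H12.isCharacter_irr μ)
    refine ((H24.constituent_degree hind χ ?_).2 ?_).symm
    · rw [H12.classInner_indFun _ _ (H12.irr_isClassFunction χ), ← H12.conj_classInner, hmi]
      simpa using hμm
    · have hdegI : charDegree (indFun (P : Subgroup G) (μ : ↥(P : Subgroup G) → ℂ)) =
          (P : Subgroup G).index * charDegree (μ : ↥(P : Subgroup G) → ℂ) := by
        have h1 := H12.indFun_one (P : Subgroup G) (μ : ↥(P : Subgroup G) → ℂ)
        rw [H12.IsCharacter.apply_one_eq_degree hind, H24.irr_one] at h1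
        exact_mod_cast h1
      rw [hdegI]
      have hidx : (P : Subgroup G).index = charDegree (χ : G → ℂ) / p ^ v := by
        have h1 := Subgroup.card_mul_index (P : Subgroup G)
        rw [Sylow.card_eq_multiplicity P] at h1
        have h2 : (P : Subgroup G).index = Nat.card G / p ^ (Nat.card G).factorization p :=
          Nat.eq_div_of_mul_eq_right (pow_ne_zero _ (Fact.out : p.Prime).ne_zero) h1
        rw [h2, hk, Nat.ordCompl_mul, (Fact.out : p.Prime).factorization_pow, Finsupp.single_eq_same,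
          Nat.div_self (pow_pos (Fact.out : p.Prime).pos _), one_mul]
      rw [hidx]
      calc charDegree (χ : G → ℂ) / p ^ v * charDegree (μ : ↥(P : Subgroup G) → ℂ)
          ≤ charDegree (χ : G → ℂ) / p ^ v * p ^ v :=
            Nat.mul_le_mul_left _ (Nat.le_of_dvd (pow_pos (Fact.out : p.Prime).pos _) hμv)
        _ = charDegree (χ : G → ℂ) := Nat.div_mul_cancel (Nat.ordProj_dvd _ _)
  · rintro ⟨P, θ, hθ, hχ⟩
    haveI : Fintype (P : Subgroup G) := Fintype.ofFinite _
    obtain ⟨m, hm, hmi, hdeg⟩ := H24.exists_mult_classInner hθ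
    have hone := H12.indFun_one (P : Subgroup G) θ
    rw [← hχ, hdd, H12.IsCharacter.apply_one_eq_degree hθ, hdeg] at hone
    obtain ⟨μ, hμ⟩ : ∃ μ : IrrCharacter (P : Subgroup G), m μ ≠ 0 := by
      by_contra! h
      simp [h] at hone
      exact (H24.irr_pos χ).ne' hone
    let rest : ↥(P : Subgroup G) → ℂ := ∑ ν : IrrCharacter (P : Subgroup G),
      ((if ν = μ then m ν - 1 else m ν : ℕ) : ℂ) • (ν : ↥(P : Subgroup G) → ℂ)
    have hrest : IsCharacter (P : Subgroup G) rest := H12.isCharacter_sum_natCast_smul _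
    have hsplit : θ = (μ : ↥(P : Subgroup G) → ℂ) + rest := by
      rw [hm]
      simp only [rest]
      rw [← Finset.add_sum_erase _ _ (Finset.mem_univ μ),
        ← Finset.add_sum_erase _ (fun ν => ((if ν = μ then m ν - 1 else m ν : ℕ) : ℂ) •
          (ν : ↥(P : Subgroup G) → ℂ)) (Finset.mem_univ μ), if_pos rfl, ← add_assoc]
      congr 1
      · rw [Nat.cast_sub (Nat.one_le_iff_ne_zero.2 hμ), sub_smul, Nat.cast_one, one_smul]
        abel
      · refine Finset.sum_congr rfl fun ν hν => by rw [if_neg (Finset.ne_of_mem_erase hν)]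
    have hindμ := H12.IsCharacter.indFun (G := G) (H12.isCharacter_irr μ)
    have h1 := H12.indFun_one (P : Subgroup G) (μ : ↥(P : Subgroup G) → ℂ)
    rw [H12.IsCharacter.apply_one_eq_degree hindμ, H24.irr_one] at h1
    have h2 : H12.degree (indFun (P : Subgroup G) (μ : ↥(P : Subgroup G) → ℂ)) =
        (P : Subgroup G).index * charDegree (μ : ↥(P : Subgroup G) → ℂ) := by exact_mod_cast h1
    have h3 := H24.degree_eq_of_le_irr hindμ (H12.IsCharacter.indFun hrest) χ
      (by rw [hχ, ← H12.indFun_add, ← hsplit])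
      (by
        rw [H24.charDegree_eq_degree, h2]
        exact Nat.mul_pos (Nat.pos_of_ne_zero Subgroup.index_ne_zero_of_finite) (H24.irr_pos μ))
    rw [H24.charDegree_eq_degree, h2] at h3
    obtain ⟨q, hq⟩ := H24.charDegree_dvd_card μ
    obtain ⟨j, _, hj⟩ := (Nat.dvd_prime_pow (Fact.out : p.Prime)).1
      ((Dvd.intro_left _ hq.symm).trans (dvd_of_eq (Sylow.card_eq_multiplicity P)))
    refine ⟨j, ?_⟩
    rw [← Subgroup.card_mul_index (P : Subgroup G), hq, ← h3, hj]
    ring

end Cfsg.Agent.S4798
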