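import Cfsg.Statements.S4801
import Cfsg.Agent.H24.Arith


set_option autoImplicit false
open Cfsg

namespace Cfsg.Agent.S4801

/-- The codegree of an irreducible complex character χ of a finite group G is [G : ker χ] / χ(1), where ker χ is the set of elements at which χ takes the value χ(1). Let S be a finite simple group and G a finite group such that every codegree of an irreducible character of S is a codegree of an irreducible character of G. Then the order of S divides the order of G. -/
theorem result {S : Type*} [Group S] [Finite S] (hS : IsSimpleGroup S) {G : Type*} [Group G] [Finite G] (hsub : ∀ χ : Cfsg.IrrCharacter S, ∃ ψ : Cfsg.IrrCharacter G, (Nat.card S / (Nat.card {g : S // (χ : S → ℂ) g = (χ : S → ℂ) 1} * Cfsg.charDegree (χ : S → ℂ))) = (Nat.card G / (Nat.card {g : G // (ψ : G → ℂ) g = (ψ : G → ℂ) 1} * Cfsg.charDegree (ψ : G → ℂ)))) : Nat.card S ∣ Nat.card G := by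
  classical
  haveI := Fintype.ofFinite S
  haveI := Fintype.ofFinite G
  haveI := hS
  have hcop : ∀ χ : IrrCharacter S, χ ≠ H12.oneIrr S →
      Nat.card S ∣ Nat.card G * charDegree (χ : S → ℂ) := by
    intro χ hχ
    have hk : H24.kerChar χ = ⊥ :=
      ((inferInstance : (H24.kerChar χ).Normal).eq_bot_or_eq_top).resolve_right
        fun h => hχ (H24.eq_oneIrr_of_ker_top χ h)
    obtain ⟨ψ, hψ⟩ := hsub χ
    rw [H24.card_kerSet χ, hk, Subgroup.card_bot, one_mul, H24.codegree_eq ψ] at hψ
    have h1 : Nat.card S / charDegree (χ : S → ℂ) ∣ Nat.card G := by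
      rw [hψ]
      exact (Nat.div_dvd_of_dvd (H24.charDegree_dvd_quotient ψ)).trans
        (Subgroup.card_quotient_dvd_card _)
    have h2 := Nat.mul_dvd_mul_right h1 (charDegree (χ : S → ℂ))
    rwa [Nat.div_mul_cancel (H24.charDegree_dvd_card χ)] at h2
  have hsum := H12.sum_degree_sq_nat (G := S)
  rw [← Finset.add_sum_erase _ _ (Finset.mem_univ (H12.oneIrr S))] at hsum
  rw [← H24.charDegree_eq_degree, H24.charDegree_oneIrr] at hsum
  have h3 : Nat.card S ∣ ∑ χ ∈ Finset.univ.erase (H12.oneIrr S),
      Nat.card G * H12.degree (χ : S → ℂ) ^ 2 := by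
    refine Finset.dvd_sum fun χ hχ => ?_
    rw [sq, ← mul_assoc]
    exact (hcop χ (Finset.ne_of_mem_erase hχ)).mul_right _
  rw [← Finset.mul_sum] at h3
  have h4 : Nat.card S ∣ Nat.card G * Nat.card S := dvd_mul_left _ _
  refine (Nat.dvd_add_iff_left h3).2 ?_
  refine h4.trans (dvd_of_eq ?_)
  conv_lhs => rw [← hsum]
  ring

end Cfsg.Agent.S4801
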