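import Cfsg.Statements.S4802
import Cfsg.Agent.H24.Arith


set_option autoImplicit false
open Cfsg

namespace Cfsg.Agent.S4802

/-- Let N < M be normal subgroups of the finite group G and g ∈ M ∖ N. Then the conjugacy class of g is exactly M ∖ N if and only if every irreducible complex character of G whose kernel contains N takes the same value at all elements of M ∖ N, and every irreducible complex character of G whose kernel does not contain N vanishes at g. -/
theorem result {G : Type*} [Group G] [Finite G] (N M : Subgroup G) [N.Normal] [M.Normal] (hNM : N < M) (g : G) (hgM : g ∈ M) (hgN : g ∉ N) : {h : G | IsConj g h} = (M : Set G) \ (N : Set G) ↔ ((∀ χ : Cfsg.IrrCharacter G, (∀ x ∈ N, (χ : G → ℂ) x = (χ : G → ℂ) 1) → ∀ x ∈ M, x ∉ N → ∀ y ∈ M, y ∉ N → (χ : G → ℂ) x = (χ : G → ℂ) y) ∧ (∀ χ : Cfsg.IrrCharacter G, (∃ x ∈ N, (χ : G → ℂ) x ≠ (χ : G → ℂ) 1) → (χ : G → ℂ) g = 0)) := by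
  classical
  haveI := Fintype.ofFinite G
  haveI : Fintype N := Fintype.ofFinite _
  haveI : Fintype M := Fintype.ofFinite _
  have hle := hNM.le
  constructor
  · intro hset
    have hmem : ∀ x, IsConj g x ↔ x ∈ M ∧ x ∉ N := fun x => (Set.ext_iff.1 hset) x
    have hconst : ∀ χ : IrrCharacter G, ∀ x, x ∈ M → x ∉ N → (χ : G → ℂ) x = (χ : G → ℂ) g :=
      fun χ x hx hx' => (H12.IsClassFunction.of_isConj (H12.irr_isClassFunction χ) ((hmem x).2 ⟨hx, hx'⟩)).symm
    refine ⟨fun χ _ x hx hx' y hy hy' => by rw [hconst χ x hx hx', hconst χ y hy hy'], fun χ hχ => ?_⟩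
    have hN0 := H24.sum_normal_eq_zero χ N (fun hk => by
      obtain ⟨x, hx, hne⟩ := hχ
      exact hne (H24.mem_kerChar.1 (hk hx)))
    have hM0 := H24.sum_normal_eq_zero χ M (fun hk => by
      obtain ⟨x, hx, hne⟩ := hχ
      exact hne (H24.mem_kerChar.1 (hk (hle hx))))
    rw [← Finset.sum_filter_add_sum_filter_not Finset.univ (fun x : M => (x : G) ∈ N)] at hM0
    have e1 : ∑ x ∈ Finset.univ.filter (fun x : M => (x : G) ∈ N), (χ : G → ℂ) x =
        ∑ x : N, (χ : G → ℂ) x := by
      refine Finset.sum_bij' (fun x hx => (⟨x, (Finset.mem_filter.1 hx).2⟩ : N))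
        (fun x _ => (⟨x, hle x.2⟩ : M)) ?_ ?_ ?_ ?_ ?_
      · intros; exact Finset.mem_univ _
      · intro x _; exact Finset.mem_filter.2 ⟨Finset.mem_univ _, x.2⟩
      · intros; rfl
      · intros; rfl
      · intros; rfl
    rw [e1, hN0, zero_add, Finset.sum_eq_card_nsmul (fun (x : M) hx =>
      hconst χ x x.2 (Finset.mem_filter.1 hx).2), nsmul_eq_mul, mul_eq_zero] at hM0
    refine hM0.resolve_left (Nat.cast_ne_zero.2 (Finset.card_ne_zero.2 ?_))
    exact ⟨⟨g, hgM⟩, Finset.mem_filter.2 ⟨Finset.mem_univ _, hgN⟩⟩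
  · rintro ⟨h1, h2⟩
    haveI := Fintype.ofFinite (G ⧸ N)
    have hinN : ∀ x, x ∈ M → x ∉ N → IsConj (QuotientGroup.mk g : G ⧸ N) (QuotientGroup.mk x) := by
      intro x hx hx'
      refine (H12.isConj_iff_irr _ _).2 fun ψ => ?_
      exact h1 (H24.inflate N ψ) (fun y hy => H24.mem_kerChar.1 (H24.le_kerChar_inflate N ψ hy))
        g hgM hgN x hx hx'
    have hcent : (Nat.card (Subgroup.centralizer ({g} : Set G)) : ℂ) =
        Nat.card (Subgroup.centralizer ({(QuotientGroup.mk g : G ⧸ N)} : Set (G ⧸ N))) := by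
      rw [← H24.sum_norm_sq, ← H24.sum_norm_sq, ← QuotientGroup.mk_inv]
      symm
      refine Finset.sum_bij_ne_zero (fun ψ _ _ => H24.inflate N ψ) (fun _ _ _ => Finset.mem_univ _)
        (fun a _ _ b _ _ h => H24.inflate_injective N h) ?_ (fun ψ _ _ => rfl)
      intro χ _ hne
      have hk : N ≤ H24.kerChar χ := by
        intro y hy
        rw [H24.mem_kerChar]
        by_contra hy'
        exact hne (by rw [h2 χ ⟨y, hy, hy'⟩, zero_mul])
      obtain ⟨ψ, rfl⟩ := H24.exists_deflate N χ hk
      exact ⟨ψ, Finset.mem_univ _, hne, rfl⟩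
    have hcent' : Nat.card (Subgroup.centralizer ({g} : Set G)) =
        Nat.card (Subgroup.centralizer ({(QuotientGroup.mk g : G ⧸ N)} : Set (G ⧸ N))) := by
      exact_mod_cast hcent
    have hMg : ∀ x, IsConj g x → x ∈ M ∧ x ∉ N := by
      intro x hx
      obtain ⟨c, rfl⟩ := isConj_iff.1 hx
      refine ⟨Subgroup.Normal.conj_mem inferInstance g hgM c, fun h => hgN ?_⟩
      simpa [mul_assoc] using Subgroup.Normal.conj_mem inferInstance _ h c⁻¹
    -- the class of the image is the image of `M \ N`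
    let cls : Finset G := {x : G | IsConj g x}
    let cls' : Finset (G ⧸ N) := {y : G ⧸ N | IsConj (QuotientGroup.mk g) y}
    have k1 := H12.card_conjClass_mul_card_centralizer g
    have k2 := H12.card_conjClass_mul_card_centralizer (QuotientGroup.mk g : G ⧸ N)
    rw [← hcent'] at k2
    have k3 : cls.card = cls'.card * Nat.card N := by
      apply Nat.eq_of_mul_eq_mul_right
        (Nat.card_pos : 0 < Nat.card (Subgroup.centralizer ({g} : Set G)))
      show cls.card * _ = _
      rw [k1, Subgroup.card_eq_card_quotient_mul_card_subgroup N, ← k2]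
      rw [mul_right_comm]
      congr 3
      ext y
      simp [cls']
    have k4 : cls'.card * Nat.card N = (Finset.univ.filter fun x : G => x ∈ M ∧ x ∉ N).card := by
      rw [Finset.card_eq_sum_card_fiberwise (f := fun x : G => (QuotientGroup.mk x : G ⧸ N)) (t := cls')
        (fun x hx => by
          simp only [Finset.coe_filter, Set.mem_setOf_eq, cls'] at hx ⊢
          exact ⟨Finset.mem_univ _, hinN x hx.2.1 hx.2.2⟩)]
      rw [Finset.sum_eq_card_nsmul (b := Nat.card N) ?_, smul_eq_mul]
      intro y hy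
      simp only [cls', Finset.mem_filter, Finset.mem_univ, true_and] at hy
      obtain ⟨c, hc⟩ := isConj_iff.1 hy
      obtain ⟨c, rfl⟩ := QuotientGroup.mk_surjective c
      rw [Nat.card_eq_fintype_card, ← Finset.card_univ]
      refine Finset.card_bij' (fun x _ => (⟨(c * g * c⁻¹)⁻¹ * x, ?_⟩ : N))
        (fun n _ => c * g * c⁻¹ * n) ?_ ?_ ?_ ?_
      · rename_i x hx
        simp only [Finset.mem_filter] at hx
        rw [← QuotientGroup.eq]
        rw [hx.2, ← hc]
        rfl
      · intros; exact Finset.mem_univ _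
      · intro n _
        have hM' : c * g * c⁻¹ ∈ M := Subgroup.Normal.conj_mem inferInstance g hgM c
        simp only [Finset.mem_filter, Finset.mem_univ, true_and]
        refine ⟨⟨M.mul_mem hM' (hle n.2), fun h => ?_⟩, ?_⟩
        · exact (hMg _ (isConj_iff.2 ⟨c, rfl⟩)).2 ((N.mul_mem_cancel_right n.2).1 h)
        · rw [QuotientGroup.mk_mul_of_mem _ n.2, ← hc]
          rfl
      · intros; simp [mul_assoc]
      · intros; apply Subtype.ext; simp [mul_assoc]
    have heq : cls = Finset.univ.filter fun x : G => x ∈ M ∧ x ∉ N :=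
      Finset.eq_of_subset_of_card_le (fun x hx => by
        simp only [cls, Finset.mem_filter, Finset.mem_univ, true_and] at hx ⊢
        exact hMg x hx) (by rw [k3, k4])
    ext x
    have := Finset.ext_iff.1 heq x
    simp only [cls, Finset.mem_filter, Finset.mem_univ, true_and] at this
    exact this

end Cfsg.Agent.S4802
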