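import Cfsg.Statements.S4807
import Cfsg.Agent.H87.McKay.Reduce
-- import your own Cfsg.Agent.* helpers here

set_option autoImplicit false
open Cfsg

namespace Cfsg.Agent.S4807

/-- Let p be a prime and G a finite p-solvable group, L a normal subgroup of G, S a Sylow p-subgroup of G and P the subgroup generated by L and S (so P/L is a Sylow p-subgroup of G/L), and let ν be an irreducible complex character of L that is invariant under conjugation by every element of P. Let N be the normalizer of P in G (it contains L). Then the number of irreducible characters of G of degree prime to p lying over ν (restriction to L not orthogonal to ν) equals the number of irreducible characters of N of degree prime to p lying over ν. -/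
theorem result {G : Type*} [Group G] [Finite G] (p : ℕ) [Fact p.Prime] (hG : Cfsg.IsPSolvable p G) (L : Subgroup G) [L.Normal] (S : Sylow p G) (P : Subgroup G) (hP : P = L ⊔ (S : Subgroup G)) (hLN : L ≤ (Subgroup.normalizer ((P : Subgroup G) : Set G))) (ν : Cfsg.IrrCharacter ↥L) (hν : ∀ x ∈ P, Cfsg.IsConjCharOf L x (ν : ↥L → ℂ) (ν : ↥L → ℂ)) : Nat.card {χ : Cfsg.IrrCharacter G // ¬ p ∣ Cfsg.charDegree (χ : G → ℂ) ∧ (∑ᶠ l : ↥L, (χ : G → ℂ) (l : G) * (starRingEnd ℂ) ((ν : ↥L → ℂ) l)) ≠ 0} = Nat.card {ψ : Cfsg.IrrCharacter ↥(Subgroup.normalizer ((P : Subgroup G) : Set G)) // ¬ p ∣ Cfsg.charDegree (ψ : ↥(Subgroup.normalizer ((P : Subgroup G) : Set G)) → ℂ) ∧ (∑ᶠ l : ↥L, (ψ : ↥(Subgroup.normalizer ((P : Subgroup G) : Set G)) → ℂ) (Subgroup.inclusion hLN l) * (starRingEnd ℂ) ((ν : ↥L → ℂ) l)) ≠ 0} := by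
  classical
  subst hP
  letI : Fintype L := Fintype.ofFinite _
  have hS : H87.McKay.IsSyl p (S : Subgroup G) (⊤ : Subgroup G) :=
    ⟨le_top, S.isPGroup', by rw [Subgroup.relIndex_top_right]; exact S.not_dvd_index⟩
  have hLn : (⊤ : Subgroup G) ≤ Subgroup.normalizer (L : Set G) :=
    (Subgroup.normalizer_eq_top (H := L)).ge
  have hνS : (S : Subgroup G) ≤ H87.McKay.st (ν : ↥L → ℂ) := fun x hx => by
    refine ⟨hLn trivial, fun a ha => ?_⟩
    have hm : x * a * x⁻¹ ∈ L := (Subgroup.mem_normalizer_iff.1 (hLn trivial) a).1 ha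
    rw [H87.McKay.cf_apply _ hm, H87.McKay.cf_apply _ ha]
    exact hν x (Subgroup.mem_sup_right hx) ⟨a, ha⟩ ⟨_, hm⟩ rfl
  have key : ∀ {H : Subgroup G} (hLH : L ≤ H), H87.McKay.cnt p H (ν : ↥L → ℂ) =
      Nat.card {ψ : Cfsg.IrrCharacter ↥H // ¬ p ∣ Cfsg.charDegree (ψ : ↥H → ℂ) ∧
        (∑ᶠ l : ↥L, (ψ : ↥H → ℂ) (Subgroup.inclusion hLH l) *
          (starRingEnd ℂ) ((ν : ↥L → ℂ) l)) ≠ 0} := fun {H} hLH => by
    refine Nat.card_congr (Equiv.subtypeEquivRight fun ψ => and_congr Iff.rfl ?_)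
    rw [H87.McKay.mlt_ne_zero_iff hLH, H87.McKay.ip, H12.classInner_def, finsum_eq_sum_of_fintype]
    have hc : (Nat.card L : ℂ)⁻¹ ≠ 0 := inv_ne_zero (Nat.cast_ne_zero.2 Nat.card_pos.ne')
    rw [ne_eq, mul_eq_zero, or_iff_right hc]
    refine not_congr (Eq.congr_left (Finset.sum_congr rfl fun l _ => ?_))
    rw [H87.McKay.cf_apply _ (hLH l.2), H87.McKay.cf_coe]
    rfl
  have main := H87.McKay.mcKayAt p _ G L ⊤ (S : Subgroup G) rfl le_top hLn hS
    (H10.isPSolvable_subgroup hG ⊤) ν hνS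
  rw [top_inf_eq, key hLN, key le_top] at main
  rw [← main]
  refine Nat.card_congr ((H12.irrCongr (Subgroup.topEquiv (G := G))).subtypeEquiv fun χ => ?_)
  exact Iff.rfl

end Cfsg.Agent.S4807
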