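import Cfsg.Statements.S4808
import Cfsg.Agent.H24.Arith
import Cfsg.Agent.H24.DefectZero


set_option autoImplicit false
open Cfsg

namespace Cfsg.Agent.S4808

/-- The codegree of an irreducible complex character χ of a finite group G is [G : ker χ] / χ(1), where ker χ is the set of elements at which χ takes the value χ(1). A prime divides the order of G if and only if it divides the codegree of some irreducible complex character of G. -/
theorem result {G : Type*} [Group G] [Finite G] (p : ℕ) (hp : p.Prime) : p ∣ Nat.card G ↔ ∃ χ : Cfsg.IrrCharacter G, p ∣ (Nat.card G / (Nat.card {g : G // (χ : G → ℂ) g = (χ : G → ℂ) 1} * Cfsg.charDegree (χ : G → ℂ))) := by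
  classical
  haveI := Fintype.ofFinite G
  haveI : Fact p.Prime := ⟨hp⟩
  constructor
  · intro hdvd
    by_contra! hne
    obtain ⟨x, hx⟩ := exists_prime_orderOf_dvd_card' p hdvd
    have hx1 : x ≠ 1 := fun h => by
      rw [h, orderOf_one] at hx
      exact hp.one_lt.ne hx
    obtain ⟨M, hM, hpM⟩ : ∃ M : Ideal AlgInt, M.IsMaximal ∧ (p : AlgInt) ∈ M := by
      obtain ⟨M, hM, hle⟩ := Ideal.exists_le_maximal (Ideal.span {(p : AlgInt)}) (by
        rw [Ne, Ideal.span_singleton_eq_top]
        intro hu
        obtain ⟨y, hy⟩ := hu.exists_left_inv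
        have h1 : ((1 : ℕ) : ℂ) = (p : ℂ) * (y : ℂ) := by
          have := congrArg (fun a : AlgInt => (a : ℂ)) hy
          simpa [mul_comm] using this.symm
        exact hp.one_lt.ne' (Nat.dvd_one.1 (H24.nat_dvd_of_eq_mul y.2 h1)))
      exact ⟨M, hM, hle (Ideal.subset_span rfl)⟩
    have hcase : ∀ χ : IrrCharacter G, x ∈ H24.kerChar χ ∨ (χ : G → ℂ) x = 0 := by
      intro χ
      by_cases hk : x ∈ H24.kerChar χ
      · exact Or.inl hk
      · refine Or.inr ?_
        obtain ⟨ψ, hψ⟩ := H24.exists_deflate (H24.kerChar χ) χ le_rfl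
        rw [← hψ, H24.inflate_apply]
        haveI := Fintype.ofFinite (G ⧸ H24.kerChar χ)
        have hdeg : charDegree (ψ : G ⧸ H24.kerChar χ → ℂ) = charDegree (χ : G → ℂ) := by
          conv_rhs => rw [← hψ]
          rfl
        refine H24.vanish_of_defect_zero (M := M) ⟨hp, hM, hpM⟩ ψ ?_ _ ?_ ⟨1, ?_⟩
        · rw [hdeg]
          have h1 := hne χ
          rw [H24.codegree_eq] at h1
          have h2 := H24.charDegree_dvd_quotient χ
          have h3 : Nat.card (G ⧸ H24.kerChar χ) / charDegree (χ : G → ℂ) *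
              charDegree (χ : G → ℂ) = Nat.card (G ⧸ H24.kerChar χ) := Nat.div_mul_cancel h2
          conv_rhs => rw [← h3]
          have h4 : Nat.card (G ⧸ H24.kerChar χ) / charDegree (χ : G → ℂ) ≠ 0 := fun h => h1 (h ▸ dvd_zero p)
          rw [Nat.factorization_mul h4 (H24.irr_pos χ).ne', Finsupp.add_apply,
            Nat.factorization_eq_zero_of_not_dvd h1, zero_add]
        · exact fun h => hk ((QuotientGroup.eq_one_iff x).1 h)
        · rw [pow_one, ← QuotientGroup.mk_pow, ← hx, pow_orderOf_eq_one]
          rfl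
    have hreg := H12.regular_eq_sum x
    rw [if_neg hx1] at hreg
    have hre := congrArg Complex.re hreg
    rw [Complex.re_sum, Complex.zero_re] at hre
    have hnn : ∀ χ ∈ (Finset.univ : Finset (IrrCharacter G)),
        0 ≤ ((χ : G → ℂ) 1 * (χ : G → ℂ) x).re := by
      intro χ _
      rcases hcase χ with h | h
      · rw [H24.mem_kerChar.1 h, H24.irr_one]
        simp only [← Nat.cast_mul, Complex.natCast_re]
        positivity
      · simp [h]
    have h0 := (Finset.sum_eq_zero_iff_of_nonneg hnn).1 hre (H12.oneIrr G) (Finset.mem_univ _)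
    simp [H12.oneIrr_apply] at h0
  · rintro ⟨χ, hχ⟩
    rw [H24.codegree_eq] at hχ
    exact hχ.trans ((Nat.div_dvd_of_dvd (H24.charDegree_dvd_quotient χ)).trans
      (Subgroup.card_quotient_dvd_card _))

end Cfsg.Agent.S4808
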