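import Cfsg.Statements.S4811
import Cfsg.Agent.H19.PrimeGraph
import Cfsg.Agent.S4776

set_option autoImplicit false
open Cfsg

namespace Cfsg.Agent.S4811

/-- For every finite solvable group G the character degree graph of G (vertices: the primes dividing some irreducible complex character degree; edges: distinct primes whose product divides some degree) has at most two connected components. -/
theorem result {G : Type*} [Group G] [Finite G] [Group.IsSolvable G] : Nat.card ((Cfsg.degreeGraph G).induce (Cfsg.degreePrimes G)).ConnectedComponent ≤ 2 := by
  refine H19.RelDeg.card_components_le.trans ?_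
  by_cases h : commutator G = ⊥
  · haveI : IsEmpty ↥(Cfsg.relCharDegrees (commutator G)) := ⟨fun ⟨d, χ, ⟨x, hx, hne⟩, _⟩ => by
      rw [h, Subgroup.mem_bot] at hx
      exact hne (by rw [hx])⟩
    haveI : IsEmpty (Cfsg.commonDivisorGraph.induce (Cfsg.relCharDegrees (commutator G))).ConnectedComponent :=
      ⟨fun c => isEmptyElim c.out⟩
    simp
  · refine (Cfsg.Agent.S4776.result (commutator G) ?_ le_rfl).1
    exact Group.IsSolvable.commutator_lt_of_ne_bot h

end Cfsg.Agent.S4811
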