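import Cfsg.Statements.S4813
import Cfsg.Agent.H19.PrimeDegreesAll
import Cfsg.Agent.H19.PrimeGraph
import Cfsg.Agent.S4776

set_option autoImplicit false
open Cfsg

namespace Cfsg.Agent.S4813

/-- If every irreducible complex character of the finite group G of degree greater than one has prime degree, then G has at most three distinct irreducible character degrees. -/
theorem result {G : Type*} [Group G] [Finite G] (hprime : ∀ d ∈ Cfsg.charDegrees G, d = 1 ∨ d.Prime) : Nat.card ↥(Cfsg.charDegrees G) ≤ 3 := by
  classical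
  haveI := Fintype.ofFinite G
  set R := Cfsg.relCharDegrees (commutator G) with hR
  have hfin : (Cfsg.charDegrees G).Finite :=
    (Set.finite_range fun χ : Cfsg.IrrCharacter G => Cfsg.charDegree (χ : G → ℂ)).subset
      fun d ⟨χ, hd⟩ => ⟨χ, hd⟩
  have hsub : Cfsg.charDegrees G ⊆ insert 1 R := fun d hd => by
    by_cases h : d = 1
    · exact Or.inl h
    · exact Or.inr (H19.RelDeg.mem_relDegrees_derived hd h)
  have hRsub : R ⊆ Cfsg.charDegrees G := fun d hd => H19.RelDeg.mem_charDegrees_of_rel hd
  haveI : Finite ↥R := Set.Finite.to_subtype (hfin.subset hRsub)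
  suffices h : Nat.card ↥R ≤ 2 by
    rw [Nat.card_coe_set_eq] at h ⊢
    refine (Set.ncard_le_ncard hsub (Set.toFinite _)).trans ((Set.ncard_insert_le 1 R).trans ?_)
    omega
  by_cases hperf : ⁅commutator G, commutator G⁆ = commutator G
  · have hbot := H19.PrimeDeg.derived_eq_bot_of_perfect (G := G) (fun χ => hprime _ ⟨χ, rfl⟩) hperf
    haveI : IsEmpty ↥R := ⟨fun ⟨d, χ, ⟨x, hx, hne⟩, _⟩ => by
      rw [hbot, Subgroup.mem_bot] at hx
      exact hne (by rw [hx])⟩
    simp
  · have hcomp := (Cfsg.Agent.S4776.result (commutator G)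
      (lt_of_le_of_ne (Subgroup.commutator_le_self _) hperf) le_rfl).1
    refine le_trans ?_ hcomp
    refine Nat.card_le_card_of_injective (fun d : ↥R =>
      (Cfsg.commonDivisorGraph.induce R).connectedComponentMk d) fun a b h => ?_
    rw [SimpleGraph.ConnectedComponent.eq] at h
    obtain ⟨w⟩ := h
    cases w with
    | nil => rfl
    | @cons _ c _ hadj _ =>
      exfalso
      have hadj' : Cfsg.commonDivisorGraph.Adj (a : ℕ) c := hadj
      obtain ⟨hne, hgcd⟩ := hadj'
      have hp : ∀ e : ↥R, (e : ℕ) = 1 ∨ (e : ℕ).Prime := fun e => hprime _ (hRsub e.2)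
      rcases hp a with ha | ha
      · rw [ha, Nat.gcd_one_left] at hgcd; omega
      · rcases hp c with hc | hc
        · rw [hc, Nat.gcd_one_right] at hgcd; omega
        · rw [((Nat.coprime_primes ha hc).mpr hne)] at hgcd; omega

end Cfsg.Agent.S4813
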