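import Cfsg.Statements.S4856
import Cfsg.Agent.H20.Orth
import Cfsg.Agent.H21.Covering
import Mathlib

set_option autoImplicit false
set_option linter.style.haveILetI false
open Cfsg
open scoped ComplexConjugate

namespace Cfsg.Agent.S4856

/-- Frobenius' formula for the number of commutator representations. -/
theorem result {G : Type*} [Group G] [Finite G] (z : G) : (Nat.card {xy : G × G // xy.1 * xy.2 * xy.1⁻¹ * xy.2⁻¹ = z} : ℂ) = (Nat.card G : ℂ) * ∑ᶠ χ : Cfsg.IrrCharacter G, (χ : G → ℂ) z / (χ : G → ℂ) 1 := by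
  classical
  haveI := Fintype.ofFinite G
  have hc : (Nat.card G : ℂ) ≠ 0 := by exact_mod_cast Nat.card_pos.ne'
  rw [finsum_eq_sum_of_fintype]
  have key : ∀ χ : IrrCharacter G, ∑ x : G, ∑ y : G, (χ : G → ℂ) (z * (x * y * x⁻¹ * y⁻¹)⁻¹) =
      (Nat.card G : ℂ) ^ 2 * (χ : G → ℂ) z / (χ : G → ℂ) 1 ^ 2 := by
    intro χ
    have hχ := H12.irr_isClassFunction χ
    have h1 : ∀ x : G, ∑ y : G, (χ : G → ℂ) (z * (x * y * x⁻¹ * y⁻¹)⁻¹) =
        (Nat.card G : ℂ) / (χ : G → ℂ) 1 * (conj ((χ : G → ℂ) x⁻¹) * (χ : G → ℂ) (x⁻¹ * z)) := by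
      intro x
      calc ∑ y : G, (χ : G → ℂ) (z * (x * y * x⁻¹ * y⁻¹)⁻¹)
          = ∑ y : G, (χ : G → ℂ) (y * x * y⁻¹ * (x⁻¹ * z)) := by
            refine Finset.sum_congr rfl fun y _ => ?_
            conv_lhs => rw [← hχ _ z⁻¹]
            congr 1; group
        _ = _ := by
            rw [H20.sum_irr_conj_mul, ← H12.irr_inv, inv_inv]; ring
    simp only [h1, ← Finset.mul_sum]
    have h2 := H21.sum_mul_shift χ (fun x => conj ((χ : G → ℂ) x))
      (fun g h => congrArg conj (hχ g h)) z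
    have h3 : ∑ x : G, conj ((χ : G → ℂ) x) * (χ : G → ℂ) x = (Nat.card G : ℂ) := by
      have := H12.sum_mul_conj_eq_card_mul (χ : G → ℂ) (χ : G → ℂ)
      rw [H12.classInner_irr_self, mul_one] at this
      rw [← this]
      exact Finset.sum_congr rfl fun _ _ => mul_comm _ _
    rw [h3] at h2
    rw [show ∑ x : G, conj ((χ : G → ℂ) x⁻¹) * (χ : G → ℂ) (x⁻¹ * z) =
        (Nat.card G : ℂ) / (χ : G → ℂ) 1 * (χ : G → ℂ) z from
      (Equiv.sum_comp (Equiv.inv G) (fun x => conj ((χ : G → ℂ) x) * (χ : G → ℂ) (x * z))).trans h2]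
    ring
  have hreg : ∀ x y : G, (if x * y * x⁻¹ * y⁻¹ = z then (1 : ℂ) else 0) =
      (Nat.card G : ℂ)⁻¹ * ∑ χ : IrrCharacter G, (χ : G → ℂ) 1 * (χ : G → ℂ) (z * (x * y * x⁻¹ * y⁻¹)⁻¹) := by
    intro x y
    rw [H12.regular_eq_sum]
    by_cases h : x * y * x⁻¹ * y⁻¹ = z
    · rw [if_pos h, if_pos (by rw [h, mul_inv_cancel]), inv_mul_cancel₀ hc]
    · rw [if_neg h, if_neg (fun e => h (mul_inv_eq_one.1 e).symm), mul_zero]
  calc (Nat.card {xy : G × G // xy.1 * xy.2 * xy.1⁻¹ * xy.2⁻¹ = z} : ℂ)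
      = ∑ x : G, ∑ y : G, (if x * y * x⁻¹ * y⁻¹ = z then (1 : ℂ) else 0) := by
        rw [Nat.card_eq_fintype_card, Fintype.card_subtype,
          ← Fintype.sum_prod_type' (f := fun x y : G => (if x * y * x⁻¹ * y⁻¹ = z then (1 : ℂ) else 0)),
          Finset.sum_boole]
    _ = (Nat.card G : ℂ)⁻¹ * ∑ χ : IrrCharacter G, (χ : G → ℂ) 1 *
          ∑ x : G, ∑ y : G, (χ : G → ℂ) (z * (x * y * x⁻¹ * y⁻¹)⁻¹) := by
        simp only [hreg, ← Finset.mul_sum]
        congr 1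
        simp only [Finset.mul_sum]
        conv_lhs => enter [2, x]; rw [Finset.sum_comm]
        rw [Finset.sum_comm]
    _ = _ := by
        simp only [key, Finset.mul_sum]
        refine Finset.sum_congr rfl fun χ _ => ?_
        have h1 := H12.irr_apply_one_ne_zero χ
        field_simp

end Cfsg.Agent.S4856
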