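import Cfsg.Statements.S4814
import Cfsg.Agent.S4856
import Cfsg.Agent.H12.Orth

set_option autoImplicit false
open Cfsg

namespace Cfsg.Agent.S4814

/-- Let G be a finite group such that the sum, over the irreducible complex characters χ of G, of 1/χ(1)² is less than 2. Then every element of G is a product of two commutators. -/
theorem result {G : Type*} [Group G] [Finite G]
    (h : ∑ᶠ χ : Cfsg.IrrCharacter G, 1 / ‖(χ : G → ℂ) 1‖ ^ 2 < (2 : ℝ)) (g : G) :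
    ∃ a b c d : G, (a * b * a⁻¹ * b⁻¹) * (c * d * c⁻¹ * d⁻¹) = g := by
  classical
  haveI := Fintype.ofFinite G
  have hconv : ∀ (χ ψ : IrrCharacter G) (y : G), ∑ z : G, (χ : G → ℂ) z * (ψ : G → ℂ) (z⁻¹ * y) =
      if χ = ψ then (Nat.card G : ℂ) * (χ : G → ℂ) y / (χ : G → ℂ) 1 else 0 := by
    intro χ ψ y
    obtain ⟨n, ρ, hρ, hψ⟩ := ψ.2
    haveI := hρ
    let f : G → ℂ := fun z => (χ : G → ℂ) z⁻¹
    have hf : IsClassFunction G f := fun a b => by
      show (χ : G → ℂ) (b * a * b⁻¹)⁻¹ = (χ : G → ℂ) a⁻¹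
      rw [show (b * a * b⁻¹)⁻¹ = b * a⁻¹ * b⁻¹ by group]
      exact H12.irr_isClassFunction χ _ _
    have := congrArg (fun T => LinearMap.trace ℂ (Fin n → ℂ) (T * ρ y)) (H12.avgOp_eq_smul ρ hf)
    simp only [H12.avgOp, Finset.sum_mul, map_sum, smul_mul_assoc, ← map_mul, map_smul, smul_eq_mul,
      one_mul] at this
    have hval : ∀ g, LinearMap.trace ℂ (Fin n → ℂ) (ρ g) = (ψ : G → ℂ) g := fun g => congrFun hψ g
    have hdeg : (Module.finrank ℂ (Fin n → ℂ) : ℂ) = (ψ : G → ℂ) 1 := by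
      rw [← hψ, Representation.char_one]
    simp only [hval, hψ, hdeg] at this
    rw [Fintype.sum_equiv (Equiv.inv G) (fun z : G => (χ : G → ℂ) z * (ψ : G → ℂ) (z⁻¹ * y))
      (fun z => f z * (ψ : G → ℂ) (z * y)) (fun z => by simp [f]), this]
    have hsum : ∑ z : G, f z * (ψ : G → ℂ) z = ∑ z : G, (ψ : G → ℂ) z * (starRingEnd ℂ) ((χ : G → ℂ) z) :=
      Finset.sum_congr rfl fun z _ => by simp [f, H12.irr_inv, mul_comm]
    rw [hsum, H12.sum_mul_conj_eq_card_mul, H12.classInner_irr]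
    by_cases h : χ = ψ
    · subst h; simp; ring
    · simp [h, Ne.symm h]
  let N : G → ℂ := fun z => (Nat.card {xy : G × G // xy.1 * xy.2 * xy.1⁻¹ * xy.2⁻¹ = z} : ℂ)
  have hN : ∀ z, N z = (Nat.card G : ℂ) * ∑ χ : IrrCharacter G, (χ : G → ℂ) z / (χ : G → ℂ) 1 := fun z => by
    simp only [N]
    rw [Cfsg.Agent.S4856.result z, finsum_eq_sum_of_fintype]
  by_contra hcon
  have hzero : ∀ z, N z * N (z⁻¹ * g) = 0 := by
    intro z
    by_contra hne
    obtain ⟨h1, h2⟩ := mul_ne_zero_iff.mp hne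
    simp only [N, Nat.cast_ne_zero] at h1 h2
    obtain ⟨⟨⟨a, b⟩, hab⟩, -⟩ := Nat.card_ne_zero.mp h1
    obtain ⟨⟨⟨c, d⟩, hcd⟩, -⟩ := Nat.card_ne_zero.mp h2
    exact hcon ⟨a, b, c, d, by rw [hab, hcd, mul_inv_cancel_left]⟩
  have htot : ∑ χ : IrrCharacter G, (χ : G → ℂ) g / (χ : G → ℂ) 1 ^ 3 = 0 := by
    have h0 : ∑ z : G, N z * N (z⁻¹ * g) = 0 := Finset.sum_eq_zero fun z _ => hzero z
    have h3 : ∑ z : G, N z * N (z⁻¹ * g) =
        (Nat.card G : ℂ) ^ 3 * ∑ χ : IrrCharacter G, (χ : G → ℂ) g / (χ : G → ℂ) 1 ^ 3 := by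
      simp only [hN, Finset.mul_sum, Finset.sum_mul]
      rw [Finset.sum_comm]
      refine Finset.sum_congr rfl fun ψ _ => ?_
      rw [Finset.sum_comm]
      have hstep : ∀ χ : IrrCharacter G, ∑ z : G, (Nat.card G : ℂ) * ((χ : G → ℂ) z / (χ : G → ℂ) 1) *
          ((Nat.card G : ℂ) * ((ψ : G → ℂ) (z⁻¹ * g) / (ψ : G → ℂ) 1)) =
          (Nat.card G : ℂ) ^ 2 / ((χ : G → ℂ) 1 * (ψ : G → ℂ) 1) *
            ∑ z : G, (χ : G → ℂ) z * (ψ : G → ℂ) (z⁻¹ * g) := fun χ => by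
        rw [Finset.mul_sum]
        exact Finset.sum_congr rfl fun z _ => by ring
      simp only [hstep, hconv, mul_ite, mul_zero]
      rw [Finset.sum_ite_eq', if_pos (Finset.mem_univ _)]
      ring
    rw [h3] at h0
    exact (mul_eq_zero.mp h0).resolve_left (pow_ne_zero _ H12.card_ne_zero')
  rw [finsum_eq_sum_of_fintype, ← Finset.add_sum_erase _ _ (Finset.mem_univ (H12.oneIrr G))] at h
  rw [← Finset.add_sum_erase _ _ (Finset.mem_univ (H12.oneIrr G))] at htot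
  simp only [H12.oneIrr_apply, one_pow, div_one, norm_one] at h htot
  have hb : ‖∑ χ ∈ Finset.univ.erase (H12.oneIrr G), (χ : G → ℂ) g / (χ : G → ℂ) 1 ^ 3‖ ≤
      ∑ χ ∈ Finset.univ.erase (H12.oneIrr G), 1 / ‖(χ : G → ℂ) 1‖ ^ 2 := by
    refine (norm_sum_le _ _).trans (Finset.sum_le_sum fun χ _ => ?_)
    have hle := H12.IsCharacter.norm_le (H12.isCharacter_irr χ) g
    have h1 : ‖(χ : G → ℂ) 1‖ = (H12.degree (χ : G → ℂ) : ℝ) := by
      rw [H12.irr_apply_one, Complex.norm_natCast]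
    have hpos : (0 : ℝ) < ‖(χ : G → ℂ) 1‖ := norm_pos_iff.mpr (H12.irr_apply_one_ne_zero χ)
    rw [norm_div, norm_pow, div_le_div_iff₀ (pow_pos hpos 3) (pow_pos hpos 2)]
    rw [← h1] at hle
    nlinarith [pow_pos hpos 2]
  rw [eq_neg_of_add_eq_zero_right htot, norm_neg, norm_one] at hb
  linarith

end Cfsg.Agent.S4814
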