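import Cfsg.Statements.S4825
import Cfsg.Agent.H24.BlockSums


set_option autoImplicit false
open Cfsg

namespace Cfsg.Agent.S4825

/-- Let p be a prime, G a finite group with Sylow p-subgroup P, M a maximal ideal of the algebraic integers containing p, and B a p-block of G with defect group P. Let N be a normal subgroup of G not containing P and θ an irreducible character of N. Then the number of irreducible characters in B of degree prime to p lying over θ (having θ as a constituent on restriction to N) is either 0 or at least 2, and when p ≤ 3 it is divisible by p. -/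
theorem result {G : Type*} [Group G] [Fintype G] (p : ℕ) [Fact p.Prime] (P : Sylow p G) (M : Ideal Cfsg.AlgInt) (hM : Cfsg.IsPModular p M) (B : Set (Cfsg.IrrCharacter G)) (hB : Cfsg.IsPBlock M B) (hBP : Cfsg.IsDefectGroup p M B P) (N : Subgroup G) [N.Normal] [Fintype N] (hPN : ¬ (P : Subgroup G) ≤ N) (θ : Cfsg.IrrCharacter N) :
    (Nat.card {χ : Cfsg.IrrCharacter G // χ ∈ B ∧ ¬ p ∣ Cfsg.charDegree (χ : G → ℂ) ∧ Cfsg.classInner (fun n : N => (χ : G → ℂ) n) (θ : N → ℂ) ≠ 0} = 0 ∨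
      2 ≤ Nat.card {χ : Cfsg.IrrCharacter G // χ ∈ B ∧ ¬ p ∣ Cfsg.charDegree (χ : G → ℂ) ∧ Cfsg.classInner (fun n : N => (χ : G → ℂ) n) (θ : N → ℂ) ≠ 0}) ∧
    (p ≤ 3 → p ∣ Nat.card {χ : Cfsg.IrrCharacter G // χ ∈ B ∧ ¬ p ∣ Cfsg.charDegree (χ : G → ℂ) ∧ Cfsg.classInner (fun n : N => (χ : G → ℂ) n) (θ : N → ℂ) ≠ 0}) := by
  classical
  haveI := H20.isPrime_of_modular hM
  obtain ⟨S, m, hS, hm, hdvd⟩ := H24.count_over_normal hM P hB N hPN θ
  have hcard : Nat.card {χ : Cfsg.IrrCharacter G // χ ∈ B ∧ ¬ p ∣ Cfsg.charDegree (χ : G → ℂ) ∧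
      Cfsg.classInner (fun n : N => (χ : G → ℂ) n) (θ : N → ℂ) ≠ 0} = S.card := by
    rw [← Nat.card_eq_finsetCard]
    exact Nat.card_congr (Equiv.subtypeEquivRight fun χ => (hS χ).symm)
  rw [hcard]
  refine ⟨?_, fun hp3 => ?_⟩
  · rcases Nat.lt_or_ge S.card 2 with h | h
    · rcases Nat.eq_zero_or_pos S.card with h0 | h0
      · exact Or.inl h0
      · obtain ⟨χ, hχ⟩ := Finset.card_eq_one.1 (show S.card = 1 by omega)
        rw [hχ, Finset.sum_singleton] at hdvd
        exact absurd ((Fact.out : p.Prime).dvd_of_dvd_pow hdvd) (hm χ (by simp [hχ]))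
    · exact Or.inr h
  · have hone : ∀ χ ∈ S, (m χ ^ 2 : ℕ) ≡ 1 [MOD p] := by
      intro χ hχ
      have h2 := (Fact.out : p.Prime).two_le
      have h0 : m χ % p ≠ 0 := fun h => hm χ hχ (Nat.dvd_of_mod_eq_zero h)
      have hlt := Nat.mod_lt (m χ) (show p > 0 by omega)
      rw [Nat.ModEq, Nat.pow_mod]
      interval_cases p <;> interval_cases (m χ % _) <;> simp_all
    have h1 : (∑ χ ∈ S, m χ ^ 2) ≡ S.card [MOD p] := by
      rw [Finset.card_eq_sum_ones]
      exact Nat.ModEq.sum hone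
    exact Nat.modEq_zero_iff_dvd.1 (h1.symm.trans (Nat.modEq_zero_iff_dvd.2 hdvd))

end Cfsg.Agent.S4825
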