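import Cfsg.Statements.S4828
import Cfsg.Agent.H19.CentralDefect
import Cfsg.Agent.H23.LocalIndex
import Cfsg.Agent.H23.LocalBlock

set_option autoImplicit false
open Cfsg

namespace Cfsg.Agent.S4828

/-- Let p be a prime, M a maximal ideal of the algebraic integers containing p, and (Q, e) a Brauer pair of the finite group G (Q a p-subgroup, e a block of C_G(Q)). Then (Q, e) is a maximal Brauer pair of some block of G if and only if e contains an irreducible character θ such that θ takes the value θ(1) at every element of Z(Q) = Q ∩ C_G(Q), the p-part of θ(1) times the p-part of the order of Z(Q) equals the p-part of the order of C_G(Q) (θ has defect zero as a character of C_G(Q)/Z(Q)), and every element of N_G(Q) of p-power order that stabilizes e lies in Q·C_G(Q) (the stabilizer of e in N_G(Q) has index prime to p over Q·C_G(Q)). -/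
theorem result {G : Type*} [Group G] [Finite G] (p : ℕ) [Fact p.Prime] (M : Ideal Cfsg.AlgInt) (hM : Cfsg.IsPModular p M) (Q : Subgroup G) (e : Set (Cfsg.IrrCharacter (Subgroup.centralizer (Q : Set G)))) (he : Cfsg.IsBrauerPair p M Q e) :
    (∃ B : Set (Cfsg.IrrCharacter G), Cfsg.IsMaximalBrauerPair p M B Q e) ↔
      ∃ θ ∈ e, (∀ z : Subgroup.centralizer (Q : Set G), (z : G) ∈ Q → (θ : Subgroup.centralizer (Q : Set G) → ℂ) z = (θ : Subgroup.centralizer (Q : Set G) → ℂ) 1) ∧
        (Cfsg.charDegree (θ : Subgroup.centralizer (Q : Set G) → ℂ)).factorization p + (Nat.card ↥(Q ⊓ Subgroup.centralizer (Q : Set G))).factorization p = (Nat.card (Subgroup.centralizer (Q : Set G))).factorization p ∧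
        (∀ g : G, g ∈ Subgroup.normalizer (Q : Set G) → Cfsg.StabilizesBlock (Subgroup.centralizer (Q : Set G)) e g → (∃ k : ℕ, orderOf g = p ^ k) → g ∈ Q ⊔ Subgroup.centralizer (Q : Set G)) := by
  classical
  haveI := Fintype.ofFinite G
  haveI := hM.2.1.isPrime
  haveI := H20.k_charP (p := p) hM
  haveI := H23.isAlgClosed_k hM.2.1
  haveI := Fintype.ofFinite (Subgroup.centralizer (Q : Set G))
  set Z : Subgroup (Subgroup.centralizer (Q : Set G)) := Q.subgroupOf (Subgroup.centralizer (Q : Set G)) with hZdef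
  have hZc : Z ≤ Subgroup.center (Subgroup.centralizer (Q : Set G)) := by
    intro z hz
    rw [Subgroup.mem_center_iff]
    intro c
    exact Subtype.ext (Subgroup.mem_centralizer_iff.1 c.2 (z : G) hz).symm
  have hZp : IsPGroup p Z := he.1.comap_subtype
  have hZcard : Nat.card Z = Nat.card (Q ⊓ (Subgroup.centralizer (Q : Set G)) : Subgroup G) := by
    rw [hZdef, ← Subgroup.inf_subgroupOf_right]
    exact Nat.card_congr (Subgroup.subgroupOfEquivOfLe inf_le_right).toEquiv
  have hiff := H19.CentralDefect.blockDefect_eq_iff (p := p) hM he.2 Z hZc hZp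
  have hf := H23.isPair_of he
  have hstab : ∀ g : G, (g ∈ Subgroup.normalizer (Q : Set G) ∧
      Cfsg.StabilizesBlock (Subgroup.centralizer (Q : Set G)) e g) ↔ g ∈ H23.stab Q (H23.eG M (Subgroup.centralizer (Q : Set G)) e) := by
    intro g
    rw [H23.mem_stab, H23.stabilizesBlock_iff he.2]
    exact ⟨fun h => ⟨h.1, h.2.2⟩, fun h => ⟨h.1, H23.mem_normalizer_of_cjS_eq
      (H23.cjS_normalizer_centralizer le_rfl h.1), h.2⟩⟩
  constructor
  · rintro ⟨B, hmax⟩
    have hm := H23.isMax_of hmax
    have hEc := H23.cidem_eB (M := M) hmax.1.2.1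
    have hRQ : ∀ {T R : Subgroup G} {h : _}, H23.LocMax p Q (H23.eG M (Subgroup.centralizer (Q : Set G)) e) T R h → R = Q := fun {T R h} hl =>
      hm.2.2 R h hl.max.1 ((H23.Le.inBlk_iff p hl.le hEc).2 hm.2.1) hl.le
    obtain ⟨R, h, hl⟩ := H23.exists_locMax p hf le_sup_left le_sup_right (H23.withCent_le_stab p hf)
    have hD := H23.isDefectGroup_cent hM hl he.2 rfl
    rw [hRQ hl] at hD
    have hcard := H20.card_defectGroup hM he.2 hD
    rw [H23.card_subgroupOf inf_le_right, ← hZcard] at hcard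
    obtain ⟨θ, hθ, h1, h2⟩ := hiff.1 (by
      rw [hcard, (Fact.out : p.Prime).factorization_pow, Finsupp.single_eq_same])
    refine ⟨θ, hθ, fun z hz => h1 z hz, by rw [hZcard] at h2; exact h2, fun g hg hgs hgp => ?_⟩
    obtain ⟨R', h', hl'⟩ := H23.exists_locMax p hf (T := H23.stab Q (H23.eG M (Subgroup.centralizer (Q : Set G)) e)) (H23.le_stab p hf)
      (H23.centralizer_le_stab p hf) le_rfl
    obtain ⟨k, hk⟩ := hgp
    have hgT := (hstab g).1 ⟨hg, hgs⟩
    obtain ⟨t, ht, hle⟩ := H23.LocMax.le_sup_centralizer (p := p) hl' (S := Subgroup.zpowers g)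
      (IsPGroup.of_card (n := k) (by rw [Nat.card_zpowers, hk])) (Subgroup.zpowers_le.2 hgT)
    rw [hRQ hl', H23.cjS_eq_self ht.1] at hle
    exact hle (Subgroup.mem_zpowers g)
  · rintro ⟨θ, hθ, h1, h2, h3⟩
    have hd := hiff.2 ⟨θ, hθ, fun z hz => h1 z hz, by rw [hZcard]; exact h2⟩
    obtain ⟨E, hE, hin⟩ := H23.exists_inBlk p hf
    obtain ⟨B, hB, hBE⟩ := H23.exists_block_eB hE
    refine ⟨B, H23.isMaximalBrauerPair_of hB he ⟨hf, by rw [hBE]; exact hin, fun R g hg _ hle => ?_⟩⟩
    by_contra hne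
    rcases H23.Le.eq_or_head p hle with h | ⟨c, hc, hlt, -⟩
    · exact hne (congrArg Prod.fst h).symm
    · have hsub : c.1 ≤ Q ⊔ (Subgroup.centralizer (Q : Set G)) := by
        intro x hx
        obtain ⟨k, hk⟩ := IsPGroup.iff_orderOf.1 hc.snd.1 ⟨x, hx⟩
        rw [Subgroup.orderOf_mk] at hk
        have hxs := (hstab x).2 ⟨hc.norm hx, H23.isFix_iff_cj.1 hc.fix x hx⟩
        exact h3 x hxs.1 hxs.2 ⟨k, hk⟩
      obtain ⟨R', h', hl⟩ := H23.exists_locMax p hf le_sup_left le_sup_right (H23.withCent_le_stab p hf)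
      obtain ⟨t, -, hle'⟩ := hl.inf_le p hc.snd (Relation.ReflTransGen.single hc)
      rw [inf_eq_left.2 hsub] at hle'
      have hD := H23.isDefectGroup_cent hM hl he.2 rfl
      have hcard := H20.card_defectGroup hM he.2 hD
      rw [H23.card_subgroupOf inf_le_right, hd] at hcard
      obtain ⟨k, hk⟩ := IsPGroup.iff_card.1 hZp
      rw [hk, (Fact.out : p.Prime).factorization_pow, Finsupp.single_eq_same, ← hk, hZcard] at hcard
      have hQR : Q ≤ R' := hl.le_sub p
      have hinf : Q ⊓ (Subgroup.centralizer (Q : Set G)) = R' ⊓ (Subgroup.centralizer (Q : Set G)) :=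
        Subgroup.eq_of_le_of_card_ge (inf_le_inf_right _ hQR) hcard.le
      have hR'W : R' ≤ Q ⊔ (Subgroup.centralizer (Q : Set G)) := hl.max.2.1
      have hRQ : R' ≤ Q := by
        intro r hr
        have hCN : (Subgroup.centralizer (Q : Set G)) ≤ Subgroup.normalizer (Q : Set G) := Subgroup.centralizer_le_normalizer _
        have hr' := hR'W hr
        rw [sup_comm, ← SetLike.mem_coe, Subgroup.coe_mul_of_left_le_normalizer_right (Subgroup.centralizer (Q : Set G)) Q hCN] at hr'
        obtain ⟨c', hc', q, hq, rfl⟩ := Set.mem_mul.1 hr'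
        have hcR : c' ∈ R' := by simpa using R'.mul_mem hr (R'.inv_mem (hQR hq))
        have hcQ : c' ∈ Q := by
          have : c' ∈ Q ⊓ (Subgroup.centralizer (Q : Set G)) := by rw [hinf]; exact ⟨hcR, hc'⟩
          exact this.1
        exact Q.mul_mem hcQ hq
      have hlt' := Subgroup.card_le_of_le hle'
      rw [H23.card_cjS] at hlt'
      exact hlt.ne (Subgroup.eq_of_le_of_card_ge hlt.le
        (hlt'.trans (Subgroup.card_le_of_le hRQ)))

end Cfsg.Agent.S4828
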