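import Cfsg.Statements.S4838
import Cfsg.Agent.H24.TwoClasses


set_option autoImplicit false
open Cfsg

namespace Cfsg.Agent.S4838

/-- Let G be a finite group of order greater than 2 with an irreducible character χ nonzero on exactly two conjugacy classes, N the normal p-subgroup of elements where χ is nonzero, and P a Sylow p-subgroup of G. Then (a) for every x outside N the centralizer of x in G has the same order as the centralizer of xN in G/N; (b) the centre of P lies in N, and equals N exactly when P is normal in G; (c) N, viewed inside P, is a term of the upper central series of P. -/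
theorem result {G : Type*} [Group G] [Finite G] (hG : 2 < Nat.card G) (χ : Cfsg.IrrCharacter G) (hχ : Nat.card {C : ConjClasses G // ∃ g ∈ C.carrier, (χ : G → ℂ) g ≠ 0} = 2) (p : ℕ) [Fact p.Prime] (N : Subgroup G) [N.Normal] (hN : ∀ g : G, g ∈ N ↔ (χ : G → ℂ) g ≠ 0) (hNp : IsPGroup p N) (hN1 : N ≠ ⊥) (P : Sylow p G) :
    (∀ x : G, x ∉ N → Nat.card (Subgroup.centralizer ({x} : Set G)) = Nat.card (Subgroup.centralizer ({(x : G ⧸ N)} : Set (G ⧸ N)))) ∧
      ((Subgroup.center ↥(P : Subgroup G)).map (P : Subgroup G).subtype ≤ N ∧
        ((Subgroup.center ↥(P : Subgroup G)).map (P : Subgroup G).subtype = N ↔ (P : Subgroup G).Normal)) ∧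
      (∃ i : ℕ, Subgroup.upperCentralSeries ↥(P : Subgroup G) i = N.subgroupOf (P : Subgroup G)) := by
  classical
  haveI := Fintype.ofFinite G
  obtain ⟨g, b, n, h⟩ := H24.exists_twoData hG χ hχ
  have hNP : N ≤ (P : Subgroup G) := hNp.le_sylow_of_normal P
  have hPcard : Nat.card (P : Subgroup G) = p ^ (Nat.card G).factorization p :=
    P.card_eq_multiplicity
  have hZN : (Subgroup.center ↥(P : Subgroup G)).map (P : Subgroup G).subtype ≤ N := by
    rintro _ ⟨z, hz, rfl⟩
    by_contra hzN
    have hle : (P : Subgroup G) ≤ Subgroup.centralizer ({(z : G)} : Set G) := by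
      intro y hy
      rw [Subgroup.mem_centralizer_singleton_iff]
      exact congrArg Subtype.val (Subgroup.mem_center_iff.1 hz ⟨y, hy⟩)
    have hd := Subgroup.card_dvd_of_le hle
    rw [hPcard] at hd
    obtain ⟨k, hk0, -, hk⟩ := h.not_dvd_centralizer_quot hN hNp hzN _ hd
    omega
  refine ⟨fun x hx => h.card_centralizer_notMem N hN hx, ⟨hZN, ?_⟩, ?_⟩
  · constructor
    · intro heq
      have hcent : ∀ x ∈ N, x ≠ 1 → (P : Subgroup G) = Subgroup.centralizer ({x} : Set G) := by
        intro x hx hx1
        obtain ⟨Q, hQ⟩ := h.exists_sylow_of_card N hN hNp _ (h.card_centralizer_mem N hN hx hx1)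
        refine Subgroup.eq_of_le_of_card_ge ?_ ?_
        · intro y hy
          rw [← heq] at hx
          obtain ⟨z, hz, rfl⟩ := hx
          rw [Subgroup.mem_centralizer_singleton_iff]
          exact congrArg Subtype.val (Subgroup.mem_center_iff.1 hz ⟨y, hy⟩)
        · rw [← hQ, Q.card_eq_multiplicity, hPcard]
      refine ⟨fun y hy c => ?_⟩
      have hg := h.mem_g N hN
      have hcg : c⁻¹ * g * c ∈ N := by simpa using (‹N.Normal›).conj_mem g hg c⁻¹
      have hne : c⁻¹ * g * c ≠ 1 := fun e => h.ne_one (by
        have := congrArg (fun t => c * t * c⁻¹) e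
        simpa [mul_assoc] using this)
      rw [hcent _ hcg hne, Subgroup.mem_centralizer_singleton_iff] at hy
      rw [hcent g hg h.ne_one, Subgroup.mem_centralizer_singleton_iff]
      have := congrArg (fun t => c * t * c⁻¹) hy
      simpa [mul_assoc] using this
    · intro hPn
      haveI := hPn
      refine le_antisymm hZN (h.normal_inf_eq N hN _ ?_)
      have : Nontrivial (P : Subgroup G) := by
        refine ⟨⟨g, hNP (h.mem_g N hN)⟩, 1, fun e => h.ne_one (congrArg Subtype.val e)⟩
      haveI := P.isPGroup'.center_nontrivial
      intro e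
      rw [Subgroup.map_eq_bot_iff_of_injective _ (Subgroup.subtype_injective _)] at e
      exact (Subgroup.nontrivial_iff_ne_bot _).1 ‹_› e
  · haveI : Group.IsNilpotent ↥(P : Subgroup G) := P.isPGroup'.isNilpotent
    set N' := N.subgroupOf (P : Subgroup G) with hN'
    by_contra hcon
    rw [not_exists] at hcon
    have hall : ∀ i, Subgroup.upperCentralSeries ↥(P : Subgroup G) i ≤ N' := by
      intro i
      induction i with
      | zero => rw [Subgroup.upperCentralSeries_zero]; exact bot_le
      | succ i ih =>
        intro z hz
        by_contra hzN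
        apply hcon i
        have hzG : (z : G) ∉ N := fun e => hzN (Subgroup.mem_subgroupOf.2 e)
        haveI := Fintype.ofFinite ↥(P : Subgroup G)
        let C := Subgroup.centralizer ({z} : Set ↥(P : Subgroup G))
        obtain ⟨e, he⟩ := IsPGroup.iff_card.1 (P.isPGroup'.to_subgroup C)
        have hd : p ^ e ∣ Nat.card ↥(Subgroup.centralizer ({(z : G)} : Set G)) := by
          rw [← he, Nat.card_congr (C.equivMapOfInjective _ (P : Subgroup G).subtype_injective).toEquiv]
          refine Subgroup.card_dvd_of_le ?_
          rintro _ ⟨y, hy, rfl⟩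
          rw [Subgroup.mem_centralizer_singleton_iff]
          exact congrArg Subtype.val (Subgroup.mem_centralizer_singleton_iff.1 hy)
        obtain ⟨k, hk0, hk, hle⟩ := h.not_dvd_centralizer_quot hN hNp hzG _ hd
        have hidx : Nat.card N' ≤ C.index := by
          rw [hN', Nat.card_congr (Subgroup.subgroupOfEquivOfLe hNP).toEquiv, h.card_supp N hN, hk]
          have h1 := Subgroup.card_mul_index C
          rw [he, hPcard] at h1
          refine Nat.le_of_mul_le_mul_left ?_ (pow_pos (Fact.out : p.Prime).pos e)
          rw [h1, ← pow_add]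
          exact Nat.pow_le_pow_right (Fact.out : p.Prime).pos hle
        rw [H24.index_centralizer_eq_card, ← Nat.card_eq_finsetCard] at hidx
        refine Subgroup.eq_of_le_of_card_ge ih (hidx.trans ?_)
        refine Nat.card_le_card_of_injective (fun x => ⟨z * x.1⁻¹, ?_⟩) ?_
        · have hx := x.2
          simp only [Finset.mem_filter, Finset.mem_univ, true_and] at hx
          obtain ⟨u, hu⟩ := isConj_iff.1 hx
          have := Subgroup.mem_upperCentralSeries_succ_iff.1 hz u
          rw [← hu]
          simpa [commutatorElement_def, mul_assoc] using this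
        · intro a c e'
          have := congrArg Subtype.val e'
          exact Subtype.ext (inv_injective (mul_left_cancel this))
    obtain ⟨c, hc⟩ := Group.IsNilpotent.nilpotent (G := ↥(P : Subgroup G))
    exact hcon c (le_antisymm (hall c) (hc ▸ le_top))

end Cfsg.Agent.S4838
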