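import Cfsg.Statements.S4839
import Cfsg.Agent.H2.Gagola
import Cfsg.Agent.H24.TwoClasses
import Cfsg.Agent.S0034

set_option autoImplicit false
open Cfsg
open scoped Pointwise

namespace Cfsg.Agent.S4839

/-- Let G be a finite group of order greater than 2 with an irreducible character χ nonzero on exactly two conjugacy classes, and let N be the normal p-subgroup of elements where χ is nonzero. Then N is the whole p-core O_p(G) if and only if G is a doubly transitive Frobenius group with kernel N: G has a Frobenius complement H whose Frobenius kernel is N and whose order is one less than that of N. -/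
theorem result {G : Type*} [Group G] [Finite G] (hG : 2 < Nat.card G) (χ : Cfsg.IrrCharacter G) (hχ : Nat.card {C : ConjClasses G // ∃ g ∈ C.carrier, (χ : G → ℂ) g ≠ 0} = 2) (p : ℕ) [Fact p.Prime] (N : Subgroup G) [N.Normal] (hN : ∀ g : G, g ∈ N ↔ (χ : G → ℂ) g ≠ 0) (hNp : IsPGroup p N) (hN1 : N ≠ ⊥) :
    N = Cfsg.pCore p G ↔ ∃ H : Subgroup G, Cfsg.IsFrobeniusComplement H ∧ Cfsg.frobeniusKernel H = (N : Set G) ∧ Nat.card H + 1 = Nat.card N := by
  classical
  haveI := Fintype.ofFinite G
  obtain ⟨g, b, n, h⟩ := H24.exists_twoData hG χ hχ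
  have hel := h.elementaryAbelian N hN
  have hexp : ∀ x ∈ N, x ^ p = 1 := by
    obtain ⟨q, hq, hN'⟩ := hel
    intro x hx
    by_cases hx1 : x = 1
    · rw [hx1, one_pow]
    have h1 := hN'.2 x hx
    obtain ⟨k, hk⟩ := hNp ⟨x, hx⟩
    have hk' : x ^ p ^ k = 1 := congrArg Subtype.val hk
    by_cases hqp : q = p
    · exact hqp ▸ h1
    · refine absurd (orderOf_eq_one_iff.mp (Nat.Coprime.eq_one_of_dvd ?_ (orderOf_dvd_of_pow_eq_one hk'))) hx1
      exact ((Nat.Coprime.pow_right k ((Nat.coprime_primes hq Fact.out).mpr hqp)).coprime_dvd_left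
        (orderOf_dvd_of_pow_eq_one h1))
  have hd : H2.Gagola.Data p N :=
    { comm := fun x hx y hy => by
        obtain ⟨q, -, hN'⟩ := hel
        exact congrArg Subtype.val (hN'.1.is_comm.comm (⟨x, hx⟩ : N) ⟨y, hy⟩)
      exp := hexp
      ne_bot := hN1
      pgroup := hNp
      trans := fun x hx y hy hx1 hy1 => isConj_iff.1
        ((h.isConj_of_mem N hN hx hx1).symm.trans (h.isConj_of_mem N hN hy hy1))
      cent := fun x hx hx1 => by
        obtain ⟨Q, hQ⟩ := h.exists_sylow_of_card N hN hNp _ (h.card_centralizer_mem N hN hx hx1)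
        exact hQ ▸ Q.isPGroup'
      card_cent := fun x hx => h.card_centralizer_notMem N hN hx }
  obtain ⟨k, hk⟩ := IsPGroup.iff_card.mp hNp
  have hk0 : k ≠ 0 := fun e => hN1 (Subgroup.eq_bot_of_card_eq N (by rw [hk, e, pow_zero]))
  constructor
  · intro hcore
    have hidx : (Nat.card N).Coprime N.index := by
      rw [hk]
      exact Nat.Coprime.pow_left k ((Fact.out : p.Prime).coprime_iff_not_dvd.mpr
        (hd.index_coprime hcore))
    obtain ⟨H, hH⟩ := Subgroup.exists_right_complement'_of_coprime hidx
    have hdisj : ∀ x ∈ N, x ∈ H → x = 1 := fun x hx hx' =>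
      Subgroup.mem_bot.mp (hH.disjoint.le_bot ⟨hx, hx'⟩)
    have hHcard : Nat.card H = N.index := hH.symm.index_eq_card.symm
    have hcop : ∀ x ∈ H, (orderOf x).Coprime p := fun x hx => by
      have hp : (N.index).Coprime p := Nat.Coprime.symm
        ((Fact.out : p.Prime).coprime_iff_not_dvd.mpr (hd.index_coprime hcore))
      refine hp.coprime_dvd_left ?_
      rw [← hHcard]
      exact Subgroup.orderOf_dvd_natCard H hx
    obtain ⟨x, hx, hx1⟩ := (N.bot_or_exists_ne_one).resolve_left hN1
    -- the centraliser of `x` is `N`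
    have hcx : Subgroup.centralizer ({x} : Set G) = N := by
      refine le_antisymm (fun c hc => ?_) fun c hc =>
        Subgroup.mem_centralizer_singleton_iff.mpr (hd.comm c hc x hx)
      obtain ⟨⟨⟨m, hm⟩, ⟨a, ha⟩⟩, e, -⟩ := hH.existsUnique c
      replace e : m * a = c := e
      have hac : a * x = x * a := by
        have h1 := Subgroup.mem_centralizer_singleton_iff.mp hc
        have h2 := hd.comm m hm x hx
        calc a * x = m⁻¹ * ((m * a) * x) := by group
          _ = m⁻¹ * (x * (m * a)) := by rw [e, h1]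
          _ = m⁻¹ * (m * x) * a := by rw [h2]; group
          _ = x * a := by group
      rw [← e, hd.fpf (hcop a ha) hx hx1 hac, mul_one]
      exact hm
    -- counting
    have hcount : Nat.card H + 1 = Nat.card N := by
      have hcls : {y : G | IsConj x y} = (N : Set G) \ {1} := by
        ext y
        constructor
        · intro hy
          obtain ⟨c, rfl⟩ := isConj_iff.1 hy
          exact ⟨(inferInstance : N.Normal).conj_mem x hx c, fun e => hx1 (conj_eq_one_iff.mp e)⟩
        · rintro ⟨hy, hy1⟩
          exact isConj_iff.2 (hd.trans x hx y hy hx1 hy1)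
      have h1 := H24.index_centralizer_eq_card x
      have h2 : ({y : G | IsConj x y} : Finset G).card = ({y : G | IsConj x y} : Set G).ncard := by
        rw [← Set.ncard_coe_finset]
        congr 1
        ext y
        simp
      rw [h2, hcls, Set.ncard_sdiff_singleton_of_mem (one_mem N), hcx, ← Nat.card_coe_set_eq] at h1
      have h3 : Nat.card ((N : Set G) : Type _) = Nat.card N := rfl
      rw [hHcard, h1, h3]
      exact Nat.sub_add_cancel Nat.card_pos
    have hHbot : H ≠ ⊥ := fun e => by
      rw [e, Subgroup.card_bot] at hcount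
      have h1 := N.card_mul_index
      rw [← hHcard, e, Subgroup.card_bot, ← hcount] at h1
      omega
    refine ⟨H, ⟨hHbot, ?_, ?_⟩, ?_, hcount⟩
    · intro e
      rw [e, Subgroup.card_top] at hHcard
      have h1 := N.card_mul_index
      rw [← hHcard] at h1
      have : Nat.card N = 1 := Nat.eq_of_mul_eq_mul_right Nat.card_pos (h1.trans (one_mul _).symm)
      exact hN1 (Subgroup.eq_bot_of_card_eq N this)
    · intro c hc
      obtain ⟨⟨⟨m, hm⟩, ⟨a, ha⟩⟩, e, -⟩ := hH.existsUnique c
      replace e : m * a = c := e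
      have hm1 : m ≠ 1 := fun e' => hc (by rw [← e, e', one_mul]; exact ha)
      refine (Subgroup.eq_bot_iff_forall _).mpr fun z hz => ?_
      obtain ⟨hz, w, hw, hwz⟩ := Subgroup.mem_inf.mp hz
      have hwz' : c * w * c⁻¹ = z := hwz
      have hu : a * w * a⁻¹ ∈ H := H.mul_mem (H.mul_mem ha hw) (H.inv_mem ha)
      have hz' : z = m * (a * w * a⁻¹) * m⁻¹ := by rw [← hwz', ← e]; group
      set u := a * w * a⁻¹ with hu'
      have hmem : u⁻¹ * z ∈ N := by
        have : u⁻¹ * z = (u⁻¹ * m * u) * m⁻¹ := by rw [hz']; group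
        rw [this]
        exact mul_mem (by simpa using (inferInstance : N.Normal).conj_mem m hm u⁻¹) (inv_mem hm)
      have he := hdisj _ hmem (H.mul_mem (H.inv_mem hu) hz)
      have hzu : z = u := (inv_mul_eq_one.mp he).symm
      have hcm : u * m = m * u := by
        calc u * m = z * m := by rw [hzu]
          _ = m * u := by rw [hz']; group
      rw [hzu, hd.fpf (hcop u hu) hm hm1 hcm]
    · ext y
      constructor
      · rintro (rfl | hy)
        · exact one_mem N
        obtain ⟨⟨⟨m, hm⟩, ⟨a, ha⟩⟩, e, -⟩ := hH.existsUnique y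
        replace e : m * a = y := e
        by_cases ha1 : a = 1
        · rw [← e, ha1, mul_one]; exact hm
        exfalso
        let φ : N → N := fun v => ⟨(v : G) * (a * (v : G)⁻¹ * a⁻¹),
          mul_mem v.2 ((inferInstance : N.Normal).conj_mem _ (inv_mem v.2) a)⟩
        have hφ : Function.Surjective φ := Finite.injective_iff_surjective.mp fun u v e' => by
          have e'' : (u : G) * (a * (u : G)⁻¹ * a⁻¹) = (v : G) * (a * (v : G)⁻¹ * a⁻¹) :=
            congrArg Subtype.val e'
          refine Subtype.ext ?_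
          by_contra hne
          refine ha1 (hd.fpf (hcop a ha) (mul_mem (inv_mem v.2) u.2)
            (fun e2 => hne (inv_mul_eq_one.mp e2).symm) ?_)
          calc a * ((v : G)⁻¹ * u)
              = (v : G)⁻¹ * ((v : G) * (a * (v : G)⁻¹ * a⁻¹)) * a * u := by group
            _ = (v : G)⁻¹ * u * a := by rw [← e'']; group
        obtain ⟨⟨v, hv⟩, hv'⟩ := hφ ⟨m, hm⟩
        have hv'' : v * (a * v⁻¹ * a⁻¹) = m := congrArg Subtype.val hv'
        refine hy v ⟨a, ha, ?_⟩
        show v * a * v⁻¹ = y
        rw [← e, ← hv'']; group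
      · intro hy
        by_cases hy1 : y = 1
        · exact Or.inl hy1
        refine Or.inr fun c hc => hy1 ?_
        obtain ⟨w, hw, hwy⟩ := hc
        have hwy' : c * w * c⁻¹ = y := hwy
        have hwN : w ∈ N := by
          have := (inferInstance : N.Normal).conj_mem y hy c⁻¹
          rwa [← hwy', show c⁻¹ * (c * w * c⁻¹) * c⁻¹⁻¹ = w by group] at this
        rw [← hwy', hdisj w hwN hw]; group
  · rintro ⟨H, hH, hker, hcard⟩
    refine le_antisymm (H1.le_pCore hNp) ?_
    have h0 := (Cfsg.Agent.S0034.result H hH).1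
    rw [hker] at h0
    have h1 : Nat.card N * Nat.card H = Nat.card G := by
      rw [show Nat.card N = H.index from h0, mul_comm]; exact H.card_mul_index
    have hpH : (p ^ k).Coprime (Nat.card H) := by
      refine Nat.Coprime.pow_left k ((Fact.out : p.Prime).coprime_iff_not_dvd.mpr fun hd' => ?_)
      have h2 : p ∣ Nat.card N := by rw [hk]; exact dvd_pow_self p hk0
      rw [← hcard] at h2
      exact (Fact.out : p.Prime).one_lt.ne' (Nat.dvd_one.mp ((Nat.dvd_add_right hd').mp h2))
    obtain ⟨j, hj⟩ := IsPGroup.iff_card.mp (H1.isPGroup_pCore p G)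
    have h3 : p ^ j ∣ Nat.card N * Nat.card H := by
      rw [h1, ← hj]; exact Subgroup.card_subgroup_dvd_card _
    have h4 : p ^ j ∣ Nat.card N := by
      refine Nat.Coprime.dvd_of_dvd_mul_right ?_ h3
      exact Nat.Coprime.pow_left j ((Nat.coprime_pow_left_iff (Nat.pos_of_ne_zero hk0) _ _).mp hpH)
    exact (Subgroup.eq_of_le_of_card_ge (H1.le_pCore hNp)
      (by rw [hj]; exact Nat.le_of_dvd Nat.card_pos h4)).ge

end Cfsg.Agent.S4839
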