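import Cfsg.Statements.S4843
import Cfsg.Agent.H25.MonomialSub
import Cfsg.Agent.H25.Galois
import Mathlib

set_option autoImplicit false
set_option linter.unusedSectionVars false
set_option linter.style.haveILetI false

open Cfsg Module
open scoped ComplexConjugate commutatorElement

namespace Cfsg.Agent.S4843

universe u

variable {G : Type u} [Group G] [Finite G]

/-- A monomial constituent with rational values and degree at least two contradicts irreducibility. -/
theorem no_family {n : ℕ} (ρ : Representation ℂ G (Fin n → ℂ)) (k : ℕ)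
    (hk : Nat.Coprime k (Nat.card G))
    (hirr : IsIrrCharacter G (fun g => ρ.character g * ρ.character (g ^ k)))
    {ι : Type*} [Fintype ι] [DecidableEq ι] (T : ι → Module.End ℂ (Fin n → ℂ)) (hT : LinearIndependent ℂ T)
    (s : G → ι → ι) (c : G → ι → ℂ)
    (h : ∀ g i, ρ g * T i * ρ g⁻¹ = c g i • T (s g i))
    (h2 : 2 ≤ Fintype.card ι)
    (hval : ∀ g, (∑ i, if s g i = i then c g i else 0) = 0 ∨
      ((∀ i, s g i = i → c g i = 1) ∧ (∑ i, if s g i = i then c g i else 0) =
        ((Finset.univ.filter fun i => s g i = i).card : ℂ)))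
    (hone : ∀ i, s 1 i = i ∧ c 1 i = 1) : False := by
  classical
  haveI := Fintype.ofFinite G
  obtain ⟨hfc, hrc⟩ := H25.exists_split_monomial ρ T hT s c h
  set f : G → ℂ := fun g => ∑ i, if s g i = i then c g i else 0 with hf
  set r : G → ℂ := fun g => ρ.character g * conj (ρ.character g) - f g with hr
  have hreal : ∀ g, conj (f g) = f g := fun g => by
    rcases hval g with h0 | ⟨-, h0⟩
    · show conj (∑ i, _) = ∑ i, _
      rw [h0, map_zero]
    · show conj (∑ i, _) = ∑ i, _
      rw [h0, Complex.conj_natCast]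
  -- powers do not change the values of `f`
  have hcomm : ∀ g i, (s g i = i ∧ c g i = 1) ↔ ρ g * T i = T i * ρ g := by
    intro g i
    have hid : ρ g⁻¹ * ρ g = 1 := by rw [← map_mul, inv_mul_cancel, map_one]
    have hid' : ρ g * ρ g⁻¹ = 1 := by rw [← map_mul, mul_inv_cancel, map_one]
    constructor
    · rintro ⟨h1, h2⟩
      have := congrArg (· * ρ g) (h g i)
      simp only [h1, h2, one_smul, mul_assoc, hid, mul_one] at this
      exact this
    · intro hc
      have he := h g i
      rw [hc, mul_assoc, hid', mul_one] at he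
      by_cases hs : s g i = i
      · refine ⟨hs, ?_⟩
        rw [hs] at he
        have h0 : (c g i - 1) • T i = 0 := by
          refine (sub_smul (c g i) 1 (T i)).trans ?_
          rw [one_smul, ← he, sub_self]
        exact sub_eq_zero.1 ((smul_eq_zero.1 h0).resolve_right (hT.ne_zero i))
      · exfalso
        have h0 := linearIndependent_iff'.1 hT {i, s g i}
          (fun j => if j = i then 1 else -c g i)
          (by
            rw [Finset.sum_pair (Ne.symm hs), if_pos rfl, if_neg hs, one_smul, neg_smul, ← he,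
              add_neg_cancel]) i (by simp)
        simp at h0
  have hsum : ∀ g, f g = 0 ∨ f g = ((Finset.univ.filter fun i => ρ g * T i = T i * ρ g).card : ℂ) := by
    intro g
    rcases hval g with h0 | ⟨h1, h0⟩
    · exact Or.inl h0
    · refine Or.inr (h0.trans ?_)
      congr 2
      apply Finset.filter_congr
      intro i _
      rw [← hcomm]
      exact ⟨fun hh => ⟨hh, h1 i hh⟩, fun hh => hh.1⟩
  have hpowfix : ∀ (g : G) (m : ℕ) i, ρ g * T i = T i * ρ g → ρ (g ^ m) * T i = T i * ρ (g ^ m) := by
    intro g m i hh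
    rw [map_pow]
    exact (Commute.pow_left (show Commute (ρ g) (T i) from hh) m).eq
  have hfix : ∀ g i, (ρ (g ^ k) * T i = T i * ρ (g ^ k)) ↔ ρ g * T i = T i * ρ g := fun g i => by
    refine ⟨fun hh => ?_, hpowfix g k i⟩
    obtain ⟨j, hj⟩ := exists_pow_eq_self_of_coprime (x := g)
      (Nat.Coprime.coprime_dvd_right (orderOf_dvd_natCard g) hk)
    simpa [hj] using hpowfix (g ^ k) j i hh
  have hne : ∀ g, f g = 0 → f (g ^ k) = 0 := by
    intro g h0
    obtain ⟨σ, hσ⟩ := H25.exists_ringEquiv_pow_rootOfUnity (Nat.card G) k Nat.card_pos hk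
    rw [← H25.map_character_apply hfc σ k hσ g]
    show σ (f g) = 0
    rw [h0, map_zero]
  have hfk : ∀ g, f (g ^ k) = f g := by
    intro g
    have key : ∀ g, f g ≠ 0 → f (g ^ k) ≠ 0 := by
      intro g hg h0
      obtain ⟨σ, hσ⟩ := H25.exists_ringEquiv_pow_rootOfUnity (Nat.card G) k Nat.card_pos hk
      rw [← H25.map_character_apply hfc σ k hσ g] at h0
      exact hg (σ.injective (by rw [h0, map_zero]))
    by_cases h0 : f g = 0
    · rw [h0, hne g h0]
    · rw [(hsum g).resolve_left h0, (hsum (g ^ k)).resolve_left (key g h0)]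
      simp only [hfix]
  -- inner products
  set r' : G → ℂ := fun g => r (g ^ k)
  have hr' : IsCharacter G r' := H25.isCharacter_comp_pow hrc hk
  have hone' : classInner (f + r) (f + r') = 1 := by
    have := H12.classInner_irr_self (⟨_, hirr⟩ : IrrCharacter G)
    rw [← this]
    simp only [H12.classInner_def]
    congr 1
    refine Finset.sum_congr rfl fun g _ => ?_
    simp only [Pi.add_apply, r', hr, map_mul, map_sub, map_add]
    rw [hreal, hreal, hfk]
    simp only [Complex.conj_conj, add_sub_cancel]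
    ring
  obtain ⟨a, ha⟩ := H12.IsCharacter.classInner_nat hfc hfc
  obtain ⟨b, hb⟩ := H12.IsCharacter.classInner_nat hfc hr'
  obtain ⟨d, hd⟩ := H12.IsCharacter.classInner_nat hrc hfc
  obtain ⟨e, he⟩ := H12.IsCharacter.classInner_nat hrc hr'
  rw [H12.classInner_add_left, H12.classInner_add_right, H12.classInner_add_right, ha, hb, hd, he]
    at hone'
  have hnat : a + b + (d + e) = 1 := by exact_mod_cast hone'
  have hf1 : f 1 = (Fintype.card ι : ℂ) := by
    simp only [hf]
    rw [Finset.sum_congr rfl (fun i _ => by rw [if_pos (hone i).1, (hone i).2]), Finset.sum_const,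
      Finset.card_univ, nsmul_one]
  have hfne : f ≠ 0 := fun h0 => by
    have := congrFun h0 1
    rw [hf1, Pi.zero_apply, Nat.cast_eq_zero] at this
    omega
  have ha0 : a ≠ 0 := fun h0 => hfne (H12.classInner_self_eq_zero_iff.1 (by rw [ha, h0, Nat.cast_zero]))
  have ha1 : classInner f f = 1 := by rw [ha]; norm_cast; omega
  let φ : IrrCharacter G := ⟨f, H12.isIrrCharacter_of_classInner_self_eq_one hfc ha1⟩
  have hφ1 : φ = H12.oneIrr G := by
    by_contra hne'
    have h0 := H12.classInner_irr_ne hne'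
    simp only [φ, H12.classInner_def, H12.oneIrr_apply, map_one, mul_one] at h0
    have h0' : ∑ g : G, f g = 0 := by
      rcases mul_eq_zero.1 h0 with h' | h'
      · exact absurd h' (inv_ne_zero (by exact_mod_cast Nat.card_pos.ne'))
      · exact h'
    have hnn : ∀ g, ∃ m : ℕ, f g = m := fun g => by
      rcases hsum g with h' | h'
      · exact ⟨0, by simp [h']⟩
      · exact ⟨_, h'⟩
    choose m hm using hnn
    have hz : ∑ g : G, m g = 0 := by
      have : ((∑ g : G, m g : ℕ) : ℂ) = 0 := by push_cast; simpa [hm] using h0'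
      exact_mod_cast this
    have := Finset.sum_eq_zero_iff.1 hz 1 (Finset.mem_univ _)
    have h1 := hm 1
    rw [this, hf1, Nat.cast_inj] at h1
    omega
  have := congrFun (congrArg Subtype.val hφ1) 1
  simp only [φ, H12.oneIrr_apply] at this
  rw [hf1] at this
  norm_cast at this
  omega

theorem scalar_inj {n : ℕ} [Nontrivial (Fin n → ℂ)] {a b : ℂ}
    (h : a • (1 : Module.End ℂ (Fin n → ℂ)) = b • (1 : Module.End ℂ (Fin n → ℂ))) : a = b := by
  obtain ⟨v, hv⟩ := exists_ne (0 : Fin n → ℂ)
  exact smul_left_injective ℂ hv (by simpa using LinearMap.congr_fun h v)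

theorem eq_smul_of_mem_center {n : ℕ} (ρ : Representation ℂ G (Fin n → ℂ)) [ρ.IsIrreducible]
    {z : G} (hz : z ∈ Subgroup.center G) : ∃ c : ℂ, ρ z = c • (1 : Module.End ℂ (Fin n → ℂ)) :=
  haveI := Fintype.ofFinite G
  H12.exists_scalar_of_commute ρ (ρ z) fun h => by
    rw [← map_mul, ← map_mul, Subgroup.mem_center_iff.1 hz h]

/-- Abelian normal subgroups are central. -/
theorem abelian_normal_le_center {n : ℕ} (ρ : Representation ℂ G (Fin n → ℂ)) [ρ.IsIrreducible]
    (hinj : Function.Injective ρ) (k : ℕ) (hk : Nat.Coprime k (Nat.card G))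
    (hirr : IsIrrCharacter G (fun g => ρ.character g * ρ.character (g ^ k)))
    (A : Subgroup G) [A.Normal] (hA : ∀ a ∈ A, ∀ b ∈ A, a * b = b * a) :
    A ≤ Subgroup.center G := by
  classical
  by_contra hnc
  haveI : Fintype A := Fintype.ofFinite A
  haveI : Nontrivial (Fin n → ℂ) := H12.nontrivial_of_isIrreducible ρ
  have hcA : (Nat.card A : ℂ) ≠ 0 := by exact_mod_cast Nat.card_pos.ne'
  have hlin : ∀ θ : IrrCharacter A, (θ : A → ℂ) 1 = 1 ∧
      ∀ a b, (θ : A → ℂ) (a * b) = (θ : A → ℂ) a * (θ : A → ℂ) b := by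
    intro θ
    obtain ⟨m, σ, hσ, hθ⟩ := θ.2
    haveI := hσ
    haveI : IsMulCommutative A := ⟨⟨fun a b => Subtype.ext (hA a a.2 b b.2)⟩⟩
    have h1 := Representation.IsIrreducible.finrank_eq_one_of_isMulCommutative σ
    have hθ1 : (θ : A → ℂ) 1 = 1 := by rw [← hθ, Representation.char_one, h1, Nat.cast_one]
    refine ⟨hθ1, fun a b => ?_⟩
    have hsc : ∀ a, ∃ c : ℂ, σ a = c • (1 : Module.End ℂ (Fin m → ℂ)) := fun a =>
      H12.exists_scalar_of_commute σ (σ a) fun h => by rw [← map_mul, ← map_mul, mul_comm']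
    have hval : ∀ a, ∀ c : ℂ, σ a = c • (1 : Module.End ℂ (Fin m → ℂ)) → (θ : A → ℂ) a = c := by
      intro a c hc
      rw [← hθ, Representation.character, hc, map_smul, LinearMap.trace_one, h1, Nat.cast_one,
        smul_eq_mul, mul_one]
    obtain ⟨c, hc⟩ := hsc a
    obtain ⟨d, hd⟩ := hsc b
    rw [hval a c hc, hval b d hd, hval (a * b) (c * d) (by
      rw [map_mul, hc, hd, smul_mul_smul_comm, one_mul])]
  have hunit : ∀ (θ : IrrCharacter A) a, (θ : A → ℂ) a * conj ((θ : A → ℂ) a) = 1 := fun θ a => by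
    rw [← H12.irr_inv, ← (hlin θ).2, mul_inv_cancel, (hlin θ).1]
  let e : IrrCharacter A → Module.End ℂ (Fin n → ℂ) := fun θ =>
    (Nat.card A : ℂ)⁻¹ • ∑ a : A, conj ((θ : A → ℂ) a) • ρ (a : G)
  have he : ∀ (θ : IrrCharacter A) (b : A), ρ (b : G) * e θ = (θ : A → ℂ) b • e θ := by
    intro θ b
    simp only [e, mul_smul_comm, Finset.mul_sum, Finset.smul_sum, smul_smul]
    refine Fintype.sum_equiv (Equiv.mulLeft b) _ _ fun a => ?_
    simp only [Equiv.coe_mulLeft, Subgroup.coe_mul, map_mul, (hlin θ).2]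
    congr 1
    linear_combination (-(Nat.card A : ℂ)⁻¹ * conj ((θ : A → ℂ) a)) * hunit θ b
  have hee : ∀ θ μ : IrrCharacter A, e θ * e μ = classInner (μ : A → ℂ) θ • e μ := by
    intro θ μ
    rw [H12.classInner_def, mul_smul, Finset.sum_smul]
    conv_lhs => rw [show e θ = (Nat.card A : ℂ)⁻¹ • ∑ a : A, conj ((θ : A → ℂ) a) • ρ (a : G) from rfl]
    rw [smul_mul_assoc, Finset.sum_mul]
    congr 1
    refine Finset.sum_congr rfl fun a _ => ?_
    rw [smul_mul_assoc, he, smul_smul, mul_comm]
  have hsum : ∑ θ, e θ = 1 := by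
    simp only [e, ← Finset.smul_sum]
    rw [Finset.sum_comm]
    simp only [← Finset.sum_smul]
    have hreg : ∀ a : A, ∑ θ : IrrCharacter A, conj ((θ : A → ℂ) a) =
        if a = 1 then (Nat.card A : ℂ) else 0 := by
      intro a
      have h0 := congrArg conj (H12.regular_eq_sum a)
      simp only [map_sum, (fun θ => (hlin θ).1), one_mul] at h0
      rw [h0]
      split <;> simp
    simp only [hreg, ite_smul, zero_smul, Finset.sum_ite_eq', Finset.mem_univ, if_true,
      smul_smul, inv_mul_cancel₀ hcA, OneMemClass.coe_one, map_one, one_smul]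
  let cj : G → IrrCharacter A → IrrCharacter A := fun g θ =>
    ⟨(θ : A → ℂ) ∘ (MulAut.conjNormal g⁻¹ : A ≃* A).toMonoidHom,
      H12.IsIrrCharacter.comp_surjective θ.2 (MulAut.conjNormal g⁻¹ : A ≃* A).surjective⟩
  have hconj : ∀ g θ, ρ g * e θ * ρ g⁻¹ = e (cj g θ) := by
    intro g θ
    simp only [e, mul_smul_comm, smul_mul_assoc, Finset.mul_sum, Finset.sum_mul, ← map_mul]
    congr 1
    refine Fintype.sum_equiv (MulAut.conjNormal g : A ≃* A).toEquiv _ _ fun a => ?_
    have hinv : (MulAut.conjNormal g⁻¹ : A ≃* A) ((MulAut.conjNormal g : A ≃* A) a) = a :=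
      Subtype.ext (by simp [mul_assoc])
    simp [cj, hinv]
  let ι := {θ : IrrCharacter A // e θ ≠ 0}
  have hmem : ∀ g (θ : ι), e (cj g θ.1) ≠ 0 := by
    intro g θ h0
    apply θ.2
    rw [← hconj] at h0
    have := congrArg (fun X => ρ g⁻¹ * X * ρ g) h0
    simp only [mul_zero, zero_mul, mul_assoc, ← map_mul, inv_mul_cancel, map_one, mul_one] at this
    rwa [← mul_assoc, ← map_mul, inv_mul_cancel, map_one, one_mul] at this
  let T : ι → Module.End ℂ (Fin n → ℂ) := fun θ => e θ.1
  have hT : LinearIndependent ℂ T := by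
    rw [linearIndependent_iff']
    intro t a ha j hj
    have h0 := congrArg (· * e j.1) ha
    simp only [Finset.sum_mul, zero_mul, smul_mul_assoc, T, hee] at h0
    rw [Finset.sum_eq_single j (fun i _ hij => by
      rw [H12.classInner_irr_ne (fun hh => hij (Subtype.ext hh.symm)), zero_smul, smul_zero])
      (fun hh => absurd hj hh), H12.classInner_irr_self, one_smul] at h0
    exact (smul_eq_zero.1 h0).resolve_right j.2
  have hcard : 2 ≤ Fintype.card ι := by
    by_contra hlt
    haveI : Subsingleton ι := Fintype.card_le_one_iff_subsingleton.1 (by omega)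
    obtain ⟨θ, -, hθ⟩ := Finset.exists_ne_zero_of_sum_ne_zero (hsum ▸ one_ne_zero :
      ∑ θ, e θ ≠ 0)
    have h1 : e θ = 1 := by
      rw [← hsum, Finset.sum_eq_single θ (fun μ _ hμ => ?_) (by simp)]
      by_contra h0
      exact hμ (congrArg Subtype.val (Subsingleton.elim (⟨μ, h0⟩ : ι) ⟨θ, hθ⟩))
    apply hnc
    intro a ha
    rw [Subgroup.mem_center_iff]
    intro g
    apply hinj
    have h2 := he θ ⟨a, ha⟩
    rw [h1, mul_one] at h2
    simp only [map_mul, h2, mul_smul_comm, smul_mul_assoc, one_mul, mul_one]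
  refine no_family ρ k hk hirr T hT (fun g θ => ⟨cj g θ.1, hmem g θ⟩) (fun _ _ => 1)
    (fun g i => by rw [one_smul]; exact hconj g i.1) hcard (fun g => Or.inr ⟨fun _ _ => rfl, ?_⟩)
    (fun i => ⟨Subtype.ext (Subtype.ext (funext fun a => by simp [cj])), rfl⟩)
  rw [Finset.sum_boole]

/-- There is no noncentral normal subgroup of class at most two. -/
theorem class_two_le_center {n : ℕ} (ρ : Representation ℂ G (Fin n → ℂ)) [ρ.IsIrreducible]
    (hinj : Function.Injective ρ) (k : ℕ) (hk : Nat.Coprime k (Nat.card G))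
    (hirr : IsIrrCharacter G (fun g => ρ.character g * ρ.character (g ^ k)))
    (L : Subgroup G) [L.Normal] (hL : ⁅L, L⁆ ≤ Subgroup.center G) :
    L ≤ Subgroup.center G := by
  classical
  by_contra hnc
  haveI : Nontrivial (Fin n → ℂ) := H12.nontrivial_of_isIrreducible ρ
  have hn0 : (finrank ℂ (Fin n → ℂ) : ℂ) ≠ 0 := by exact_mod_cast (Module.finrank_pos).ne'
  choose sc hsc using fun z : Subgroup.center G => eq_smul_of_mem_center ρ z.2
  have hZL : L ⊓ Subgroup.centralizer (L : Set G) ≤ Subgroup.center G := by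
    refine abelian_normal_le_center ρ hinj k hk hirr _ ?_
    intro a ha b hb
    exact (Subgroup.mem_centralizer_iff.1 hb.2 a ha.1)
  have hvan : ∀ x ∈ L, x ∉ Subgroup.center G → ρ.character x = 0 := by
    intro x hx hxZ
    have hxc : ¬ x ∈ Subgroup.centralizer (L : Set G) := fun hh => hxZ (hZL ⟨hx, hh⟩)
    rw [Subgroup.mem_centralizer_iff] at hxc
    push Not at hxc
    obtain ⟨l, hl, hlx⟩ := hxc
    have hz := hL (Subgroup.commutator_mem_commutator hl hx)
    have hzc : ρ.character x = sc ⟨_, hz⟩ * ρ.character x := by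
      calc ρ.character x = ρ.character (l * x * l⁻¹) := (ρ.char_conj x l).symm
        _ = ρ.character (⁅l, x⁆ * x) := by rw [commutatorElement_def]; group
        _ = _ := by
          simp only [Representation.character, map_mul, hsc ⟨_, hz⟩, smul_mul_assoc, one_mul,
            map_smul, smul_eq_mul]
    by_contra h0
    have h1 : sc ⟨_, hz⟩ = 1 := mul_right_cancel₀ h0 (hzc.symm.trans (one_mul _).symm)
    have h2 : ⁅l, x⁆ = 1 := hinj (by rw [map_one, hsc ⟨_, hz⟩, h1, one_smul])
    exact hlx (commutatorElement_eq_one_iff_mul_comm.1 h2)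
  let Z : Subgroup L := (Subgroup.center G).subgroupOf L
  haveI : Z.Normal := Subgroup.normal_subgroupOf
  let ι := L ⧸ Z
  haveI : Fintype ι := Fintype.ofFinite ι
  let T : ι → Module.End ℂ (Fin n → ℂ) := fun q => ρ (q.out : G)
  have hmk : ∀ x y : L, (QuotientGroup.mk x : ι) = QuotientGroup.mk y →
      (x : G) * (y : G)⁻¹ ∈ Subgroup.center G := by
    intro x y hxy
    have h1 : (QuotientGroup.mk (x * y⁻¹) : ι) = 1 := by
      rw [QuotientGroup.mk_mul, QuotientGroup.mk_inv, hxy, mul_inv_cancel]
    simpa [Z, Subgroup.mem_subgroupOf] using (QuotientGroup.eq_one_iff _).1 h1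
  have hmk' : ∀ x y : L, (x : G) * (y : G)⁻¹ ∈ Subgroup.center G →
      (QuotientGroup.mk x : ι) = QuotientGroup.mk y := by
    intro x y h
    have h1 : (QuotientGroup.mk (x * y⁻¹) : ι) = 1 :=
      (QuotientGroup.eq_one_iff _).2 (by simpa [Z, Subgroup.mem_subgroupOf] using h)
    rwa [QuotientGroup.mk_mul, QuotientGroup.mk_inv, mul_inv_eq_one] at h1
  have hT : LinearIndependent ℂ T := by
    rw [linearIndependent_iff']
    intro t a ha j hj
    have h0 := congrArg (fun X => LinearMap.trace ℂ _ (X * ρ ((j.out : G)⁻¹))) ha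
    simp only [Finset.sum_mul, zero_mul, map_sum, map_zero, smul_mul_assoc, map_smul, T, ← map_mul,
      smul_eq_mul] at h0
    rw [Finset.sum_eq_single j (fun i _ hij => by
      rw [show LinearMap.trace ℂ _ (ρ ((i.out : G) * (j.out : G)⁻¹)) = 0 from hvan _
        (L.mul_mem i.out.2 (L.inv_mem j.out.2)) (fun hh => hij (by
          rw [← QuotientGroup.out_eq' i, ← QuotientGroup.out_eq' j]; exact hmk' _ _ hh)), mul_zero])
      (fun hh => absurd hj hh), mul_inv_cancel, map_one, LinearMap.trace_one] at h0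
    exact (mul_eq_zero.1 h0).resolve_right hn0
  let cl : G → ι → L := fun g q => MulAut.conjNormal g q.out
  let s : G → ι → ι := fun g q => QuotientGroup.mk (cl g q)
  let zz : G → ι → Subgroup.center G := fun g q =>
    ⟨(cl g q : G) * ((s g q).out : G)⁻¹, hmk _ _ (QuotientGroup.out_eq' _).symm⟩
  let c : G → ι → ℂ := fun g q => sc (zz g q)
  have hrel : ∀ g i, ρ g * T i * ρ g⁻¹ = c g i • T (s g i) := by
    intro g i
    simp only [T, c, ← map_mul]
    rw [show g * (i.out : G) * g⁻¹ = (zz g i : G) * ((s g i).out : G) by simp [zz, cl], map_mul,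
      hsc, smul_mul_assoc, one_mul]
  have hcard : 2 ≤ Fintype.card ι := by
    by_contra hlt
    haveI : Subsingleton ι := Fintype.card_le_one_iff_subsingleton.1 (by omega)
    apply hnc
    intro x hx
    have := hmk ⟨x, hx⟩ 1 (Subsingleton.elim _ _)
    simpa using this
  have hfixd : ∀ g i, s g i = i ↔ g * (i.out : G) * g⁻¹ * (i.out : G)⁻¹ ∈ Subgroup.center G := by
    intro g i
    constructor
    · intro h
      have := hmk (cl g i) i.out (by rw [QuotientGroup.out_eq']; exact h)
      simpa [cl] using this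
    · intro h
      have := hmk' (cl g i) i.out (by simpa [cl] using h)
      rwa [QuotientGroup.out_eq'] at this
  have hcfix : ∀ g i, s g i = i → ∀ x : L, (QuotientGroup.mk x : ι) = i →
      (ρ (g * (x : G) * g⁻¹ * (x : G)⁻¹) = c g i • (1 : Module.End ℂ (Fin n → ℂ))) := by
    intro g i hi x hx
    have hz := hmk x i.out (by rw [QuotientGroup.out_eq']; exact hx)
    have hz' := Subgroup.mem_center_iff.1 hz
    have he : g * (x : G) * g⁻¹ * (x : G)⁻¹ = (zz g i : G) := by
      set z := (x : G) * (i.out : G)⁻¹ with hzdef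
      have hx' : (x : G) = z * (i.out : G) := by rw [hzdef]; group
      simp only [zz, cl, hi, MulAut.conjNormal_apply]
      rw [hx', mul_inv_rev, ← mul_assoc g z, hz' g]
      calc z * g * (i.out : G) * g⁻¹ * ((i.out : G)⁻¹ * z⁻¹)
          = z * (g * (i.out : G) * g⁻¹ * (i.out : G)⁻¹) * z⁻¹ := by group
        _ = g * (i.out : G) * g⁻¹ * (i.out : G)⁻¹ := by
          rw [← hz' (g * (i.out : G) * g⁻¹ * (i.out : G)⁻¹), mul_inv_cancel_right]
    rw [he, hsc]
  refine no_family ρ k hk hirr T hT s c hrel hcard (fun g => ?_) (fun i => ?_)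
  · by_cases hall : ∀ i, s g i = i → c g i = 1
    · refine Or.inr ⟨hall, ?_⟩
      have key : ∀ i, (if s g i = i then c g i else 0) = (if s g i = i then (1 : ℂ) else 0) := by
        intro i
        by_cases hi : s g i = i <;> simp [hi, hall i]
      rw [Finset.sum_congr rfl (fun i _ => key i), Finset.sum_boole]
    · left
      push Not at hall
      obtain ⟨j, hj, hcj⟩ := hall
      have hmul : ∀ i, (s g (i * j) = i * j ↔ s g i = i) ∧
          (s g i = i → c g (i * j) = c g i * c g j) := by
        intro i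
        have hij : (QuotientGroup.mk (i.out * j.out) : ι) = i * j := by
          rw [QuotientGroup.mk_mul, QuotientGroup.out_eq', QuotientGroup.out_eq']
        have hjz := (hfixd g j).1 hj
        have key : g * ((i.out * j.out : L) : G) * g⁻¹ * ((i.out * j.out : L) : G)⁻¹ =
            (g * (i.out : G) * g⁻¹ * (i.out : G)⁻¹) * (g * (j.out : G) * g⁻¹ * (j.out : G)⁻¹) := by
          set w := g * (j.out : G) * g⁻¹ * (j.out : G)⁻¹ with hw
          have hwc := Subgroup.mem_center_iff.1 hjz
          rw [Subgroup.coe_mul, mul_inv_rev]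
          calc g * ((i.out : G) * (j.out : G)) * g⁻¹ * ((j.out : G)⁻¹ * (i.out : G)⁻¹)
              = g * (i.out : G) * g⁻¹ * (w * (i.out : G)⁻¹) := by rw [hw]; group
            _ = _ := by rw [← hwc]; group
        have hindep : g * (((i * j).out : L) : G) * g⁻¹ * (((i * j).out : L) : G)⁻¹ ∈ Subgroup.center G ↔
            g * ((i.out * j.out : L) : G) * g⁻¹ * ((i.out * j.out : L) : G)⁻¹ ∈ Subgroup.center G := by
          have hz := hmk (i.out * j.out) (i * j).out (by rw [QuotientGroup.out_eq']; exact hij)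
          set z := ((i.out * j.out : L) : G) * (((i * j).out : L) : G)⁻¹ with hzdef
          have hx' : ((i.out * j.out : L) : G) = z * (((i * j).out : L) : G) := by rw [hzdef]; group
          set y := (((i * j).out : L) : G)
          have hz' := Subgroup.mem_center_iff.1 hz
          have : g * (z * y) * g⁻¹ * (z * y)⁻¹ = g * y * g⁻¹ * y⁻¹ := by
            calc g * (z * y) * g⁻¹ * (z * y)⁻¹ = (g * z) * y * g⁻¹ * y⁻¹ * z⁻¹ := by group
              _ = z * (g * y * g⁻¹ * y⁻¹) * z⁻¹ := by rw [hz' g]; group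
              _ = _ := by rw [← hz' (g * y * g⁻¹ * y⁻¹), mul_inv_cancel_right]
          rw [hx', this]
        have hiff : s g (i * j) = i * j ↔ s g i = i := by
          rw [hfixd g (i * j), hindep, key, Subgroup.mul_mem_cancel_right _ hjz, hfixd g i]
        refine ⟨hiff, fun hi => ?_⟩
        have h3 := hcfix g (i * j) (hiff.2 hi) (i.out * j.out) hij
        rw [key, map_mul, hcfix g i hi i.out (QuotientGroup.out_eq' i),
          hcfix g j hj j.out (QuotientGroup.out_eq' j), smul_mul_smul_comm, one_mul] at h3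
        exact (scalar_inj h3).symm
      set S := ∑ i, if s g i = i then c g i else 0 with hS
      have hSj : S = S * c g j := by
        rw [hS, Finset.sum_mul]
        conv_lhs => rw [← Equiv.sum_comp (Equiv.mulRight j)]
        refine Finset.sum_congr rfl fun i _ => ?_
        simp only [Equiv.coe_mulRight]
        by_cases hi : s g i = i
        · simp only [hi, (hmul i).1.2 hi, if_true]; exact (hmul i).2 hi
        · have hi' : ¬ s g (i * j) = i * j := fun hh => hi ((hmul i).1.1 hh)
          simp only [hi, hi', if_false, zero_mul]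
      have hS0 : S = 0 := by
        by_contra h0
        exact hcj (mul_left_cancel₀ h0 (hSj.symm.trans (mul_one S).symm))
      exact hS0
  · have h1 : s 1 i = i := (hfixd 1 i).2 (by simp)
    refine ⟨h1, ?_⟩
    have := hcfix 1 i h1 i.out (QuotientGroup.out_eq' i)
    simp only [one_mul, inv_one, mul_one, mul_inv_cancel, map_one] at this
    exact (scalar_inj ((one_smul ℂ _).trans this)).symm

/-- If χ is faithful and χ times a Galois conjugate of χ is irreducible then F(G) = Z(G). -/
theorem result' (χ : IrrCharacter G)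
    (hfaith : ∀ g : G, (χ : G → ℂ) g = (χ : G → ℂ) 1 → g = 1) (k : ℕ)
    (hk : Nat.Coprime k (Nat.card G))
    (hirr : IsIrrCharacter G (fun g => (χ : G → ℂ) g * (χ : G → ℂ) (g ^ k))) :
    fittingSubgroup G = Subgroup.center G := by
  refine le_antisymm (sSup_le ?_) (le_sSup ⟨inferInstance, ?_⟩)
  case refine_2 => exact Subgroup.nilpotent_iff_lowerCentralSeries.mpr ⟨1, Subgroup.lowerCentralSeries_one_eq_bot_iff.2 inferInstance⟩
  rintro N ⟨hN, hnil⟩
  haveI := hN
  obtain ⟨n, ρ, hρ, hχ⟩ := χ.2
  haveI := hρ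
  rw [← hχ] at hfaith hirr
  have hinj : Function.Injective ρ := by
    rw [injective_iff_map_eq_one]
    intro g hg
    apply hfaith
    simp [Representation.character, hg]
  obtain ⟨m, hm⟩ := Subgroup.nilpotent_iff_lowerCentralSeries.mp hnil
  have hm' : N.lowerCentralSeries m = ⊥ := by
    rw [← Subgroup.top_subtype_lowerCentralSeries N m, hm, Subgroup.map_bot]
  have hnorm : ∀ i, (N.lowerCentralSeries i).Normal := by
    intro i
    induction i with
    | zero => exact hN
    | succ i ih => haveI := ih; rw [Subgroup.lowerCentralSeries_succ]; infer_instance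
  by_contra hnc
  classical
  have hex : ∃ i, N.lowerCentralSeries i ≤ Subgroup.center G := ⟨m, hm' ▸ bot_le⟩
  have hspec := Nat.find_spec hex
  rcases Nat.eq_zero_or_eq_succ_pred (Nat.find hex) with h0 | h0
  · rw [h0] at hspec
    exact hnc hspec
  · set i := (Nat.find hex).pred with hi
    have hlt : ¬ N.lowerCentralSeries i ≤ Subgroup.center G := Nat.find_min hex (by omega)
    haveI := hnorm i
    apply hlt
    refine class_two_le_center ρ hinj k hk hirr _ ?_
    have hle : N.lowerCentralSeries i ≤ N := N.lowerCentralSeries_antitone (Nat.zero_le i)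
    refine (Subgroup.commutator_mono le_rfl hle).trans ?_
    rw [← Subgroup.lowerCentralSeries_succ, show i + 1 = Nat.find hex by omega]
    exact hspec

/-- If χ is faithful and χ times a Galois conjugate of χ is irreducible then F(G) = Z(G). -/
theorem result {G : Type*} [Group G] [Finite G] (χ : Cfsg.IrrCharacter G) (hfaith : ∀ g : G, (χ : G → ℂ) g = (χ : G → ℂ) 1 → g = 1) (k : ℕ) (hk : Nat.Coprime k (Nat.card G)) (hirr : Cfsg.IsIrrCharacter G (fun g => (χ : G → ℂ) g * (χ : G → ℂ) (g ^ k))) : Cfsg.fittingSubgroup G = Subgroup.center G :=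
  result' χ hfaith k hk hirr

end Cfsg.Agent.S4843
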