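import Cfsg.Statements.S4848
import Cfsg.Agent.S4558
import Cfsg.Agent.S4456
import Cfsg.Agent.H19.VanishPPower
-- import your own Cfsg.Agent.* helpers here

set_option autoImplicit false
open Cfsg

namespace Cfsg.Agent.S4848

/-- Let p be a prime and G a finite non-commutative group in which every vanishing element (an element at which some irreducible character is zero) has order a positive power of p. Then either G is a p-group, or the centre of G equals O_p(G) and G/Z(G) is a Frobenius group with a Frobenius complement of p-power order. -/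
theorem result {G : Type*} [Group G] [Finite G] (hna : ¬ IsMulCommutative G) (p : ℕ) [Fact p.Prime] (hvan : ∀ g : G, (∃ χ : Cfsg.IrrCharacter G, (χ : G → ℂ) g = 0) → ∃ m : ℕ, 1 ≤ m ∧ orderOf g = p ^ m) :
    IsPGroup p G ∨ (Subgroup.center G = Cfsg.pCore p G ∧ ∃ H : Subgroup (G ⧸ Subgroup.center G), Cfsg.IsFrobeniusComplement H ∧ IsPGroup p H) := by
  classical
  haveI := Fintype.ofFinite G
  have hpp : p.Prime := Fact.out
  have hdeg : ∀ χ : Cfsg.IrrCharacter G, Cfsg.charDegree (χ : G → ℂ) ≠ 1 →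
      p ∣ Cfsg.charDegree (χ : G → ℂ) := fun χ h => by
    obtain ⟨g, hg⟩ := H19.VanPP.exists_zero χ h
    obtain ⟨m, -, hm⟩ := hvan g ⟨χ, hg⟩
    exact Cfsg.Agent.S4558.result p (χ : G → ℂ) (H12.isCharacter_irr χ) g ⟨m, hm⟩ hg
  obtain ⟨N, hNn, hNcop, k, hk⟩ := Cfsg.Agent.S4456.result p hpp hdeg
  haveI := hNn
  have hNp : ¬ p ∣ Nat.card N := (Nat.Prime.coprime_iff_not_dvd hpp).1 hNcop.symm
  by_cases hN1 : N = ⊥
  · left
    refine IsPGroup.iff_card.2 ⟨k, ?_⟩
    rw [hN1, Subgroup.index_bot] at hk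
    exact hk
  right
  have hord1 : ∀ s ∈ N, ∀ e : ℕ, s ^ p ^ e = 1 → s = 1 := by
    intro s hs e he
    obtain ⟨m, -, hm⟩ := (Nat.dvd_prime_pow hpp).1 (orderOf_dvd_of_pow_eq_one he)
    have hd : orderOf s ∣ Nat.card N := by
      have := orderOf_dvd_natCard (⟨s, hs⟩ : N)
      rwa [Subgroup.orderOf_mk] at this
    rcases Nat.eq_zero_or_pos m with rfl | hm0
    · rwa [pow_zero, orderOf_eq_one_iff] at hm
    · exact absurd ((dvd_pow_self p hm0.ne').trans (hm ▸ hd)) hNp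
  obtain ⟨P⟩ : Nonempty (Sylow p G) := inferInstance
  have hPN : ∀ x ∈ (P : Subgroup G), x ∈ N → x = 1 := fun x hx hx' => by
    obtain ⟨e, he⟩ := P.isPGroup' ⟨x, hx⟩
    exact hord1 x hx' e (congrArg Subtype.val he)
  have hfac : ∀ g : G, ∃ n ∈ N, ∃ h ∈ (P : Subgroup G), g = n * h := by
    intro g
    have hinj : Function.Injective (fun h : (P : Subgroup G) => ((h : G) : G ⧸ N)) := by
      intro a b hab
      have := QuotientGroup.eq.1 hab
      have h1 := hPN _ (mul_mem (inv_mem a.2) b.2) this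
      exact Subtype.ext (inv_mul_eq_one.1 h1)
    have hcard : Nat.card (P : Subgroup G) = Nat.card (G ⧸ N) := by
      rw [P.card_eq_multiplicity, ← Subgroup.index_eq_card, ← N.card_mul_index, hk,
        Nat.factorization_mul Nat.card_pos.ne' (pow_ne_zero _ hpp.ne_zero), Finsupp.add_apply,
        Nat.factorization_eq_zero_of_not_dvd hNp, zero_add, hpp.factorization_pow,
        Finsupp.single_eq_same]
    obtain ⟨h, hh⟩ := ((Nat.bijective_iff_injective_and_card _).2 ⟨hinj, hcard⟩).2 (g : G ⧸ N)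
    exact ⟨g * (h : G)⁻¹, by
      rw [← QuotientGroup.eq_one_iff]
      simp only [QuotientGroup.mk_mul, QuotientGroup.mk_inv]
      rw [← hh, mul_inv_cancel], h, h.2, by group⟩
  have hmix : ∀ s ∈ N, s ≠ 1 → ∀ u ∈ (P : Subgroup G), u * s = s * u →
      ∀ χ : Cfsg.IrrCharacter G, (χ : G → ℂ) (s * u) ≠ 0 := by
    intro s hs hs1 u hu hc χ h0
    obtain ⟨m, -, hm⟩ := hvan (s * u) ⟨χ, h0⟩
    obtain ⟨e, he⟩ := P.isPGroup' ⟨u, hu⟩
    have he' : u ^ p ^ e = 1 := congrArg Subtype.val he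
    refine hs1 (hord1 s hs (m + e) ?_)
    have h1 : (s * u) ^ p ^ (m + e) = 1 := by
      rw [pow_add, pow_mul, ← hm, pow_orderOf_eq_one, one_pow]
    rw [(show Commute s u from hc.symm).mul_pow, pow_add p m e, mul_comm (p ^ m),
      pow_mul u, he', one_pow, mul_one, mul_comm] at h1
    rw [pow_add]
    exact h1
  have hG : IsPGroup p (G ⧸ N) := IsPGroup.iff_card.2 ⟨k, hk⟩
  have hmod : ∀ s ∈ N, s ≠ 1 → ∀ u ∈ (P : Subgroup G), u * s = s * u →
      ∀ g : G, g * u * g⁻¹ * u⁻¹ ∈ N := by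
    intro s hs hs1 u hu hc g
    by_contra hg
    have hnc : (u : G ⧸ N) ∉ Subgroup.center (G ⧸ N) := fun hcen => hg (by
      rw [← QuotientGroup.eq_one_iff]
      simp only [QuotientGroup.mk_mul, QuotientGroup.mk_inv]
      rw [Subgroup.mem_center_iff.1 hcen (g : G ⧸ N)]
      group)
    obtain ⟨χ, hχ⟩ := H19.VanPP.exists_zero_of_notMem_center _ rfl hG _ hnc
    refine hmix s hs hs1 u hu hc (H13.inflateIrr N χ) ?_
    rw [H13.inflateIrr_apply, QuotientGroup.mk_mul, (QuotientGroup.eq_one_iff s).2 hs, one_mul]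
    exact hχ
  have hcent : ∀ e : ℕ, ∀ u ∈ (P : Subgroup G), u ^ p ^ e = 1 →
      (∃ s ∈ N, s ≠ 1 ∧ u * s = s * u) → ∀ n ∈ N, u * n = n * u := by
    intro e
    induction e with
    | zero =>
      intro u _ hu _ n _
      rw [pow_zero, pow_one] at hu
      simp [hu]
    | succ e ih =>
      intro u hu hue ⟨s, hs, hs1, hc⟩
      have hup : ∀ n ∈ N, u ^ p * n = n * u ^ p :=
        ih (u ^ p) (pow_mem hu p) (by rwa [← pow_mul, ← pow_succ'])
          ⟨s, hs, hs1, (show Commute u s from hc).pow_left p⟩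
      by_contra hn
      push Not at hn
      obtain ⟨χ, hχ⟩ := H19.VanPP.exists_zero_coset N hNp u hue (hmod s hs hs1 u hu hc) hup hn
      exact hmix s hs hs1 u hu hc χ (hχ s hs)
  obtain ⟨s₀, hs₀, hs₀1⟩ := (Subgroup.bot_or_exists_ne_one N).resolve_left hN1
  have hZ : ∀ u ∈ (P : Subgroup G), (∀ n ∈ N, u * n = n * u) → u ∈ Subgroup.center G := by
    intro u hu hc
    refine Subgroup.mem_center_iff.2 fun g => ?_
    obtain ⟨n, hn, h, hh, rfl⟩ := hfac g
    have hhu : h * u * h⁻¹ * u⁻¹ = 1 :=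
      hPN _ (mul_mem (mul_mem (mul_mem hh hu) (inv_mem hh)) (inv_mem hu))
        (hmod s₀ hs₀ hs₀1 u hu (hc s₀ hs₀) h)
    rw [mul_inv_eq_one, mul_inv_eq_iff_eq_mul] at hhu
    rw [mul_assoc, hhu, ← mul_assoc, ← hc n hn, mul_assoc]
  have hfpf : ∀ u ∈ (P : Subgroup G), u ∉ Subgroup.center G →
      ∀ n ∈ N, u * n = n * u → n = 1 := by
    intro u hu hnu n hn hc
    by_contra h1
    obtain ⟨e, he⟩ := P.isPGroup' ⟨u, hu⟩
    exact hnu (hZ u hu (hcent e u hu (congrArg Subtype.val he) ⟨n, hn, h1, hc⟩))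
  obtain ⟨u₀, hu₀, hu₀Z⟩ : ∃ u ∈ (P : Subgroup G), u ∉ Subgroup.center G := by
    by_contra hall
    push Not at hall
    haveI hPn : (P : Subgroup G).Normal := ⟨fun x hx g => by
      rw [Subgroup.mem_center_iff.1 (hall x hx) g, mul_inv_cancel_right]; exact hx⟩
    refine hna ⟨⟨fun a b => ?_⟩⟩
    have hlin : ∀ χ : Cfsg.IrrCharacter (G ⧸ (P : Subgroup G)),
        Cfsg.charDegree (χ : G ⧸ (P : Subgroup G) → ℂ) = 1 := by
      intro χ
      by_contra h
      have h' : Cfsg.charDegree (H13.inflateIrr (P : Subgroup G) χ : G → ℂ) =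
          Cfsg.charDegree (χ : G ⧸ (P : Subgroup G) → ℂ) := rfl
      have h1 := hdeg (H13.inflateIrr (P : Subgroup G) χ) (by rwa [h'])
      rw [h'] at h1
      replace h1 := h1.trans (H24.charDegree_dvd_card χ)
      rw [← Subgroup.index_eq_card] at h1
      exact P.not_dvd_index h1
    haveI := Fintype.ofFinite (G ⧸ (P : Subgroup G))
    have h1 : a * b * a⁻¹ * b⁻¹ ∈ (P : Subgroup G) := by
      rw [← QuotientGroup.eq_one_iff]
      simp only [QuotientGroup.mk_mul, QuotientGroup.mk_inv]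
      rw [H19.VanPP.commute_of_linear hlin (a : G ⧸ (P : Subgroup G)) b]
      group
    obtain ⟨n, hn, h, hh, rfl⟩ := hfac a
    obtain ⟨n', hn', h', hh', rfl⟩ := hfac b
    have e1 := Subgroup.mem_center_iff.1 (hall h hh)
    have e2 := Subgroup.mem_center_iff.1 (hall h' hh')
    have hab : n * h * (n' * h') = n * n' * (h * h') := by
      rw [mul_assoc n h, ← mul_assoc h n', ← e1 n']; group
    have hba : n' * h' * (n * h) = n' * n * (h * h') := by
      rw [mul_assoc n' h', ← mul_assoc h' n, ← e2 n, mul_assoc n h' h, ← mul_assoc n', ← e1 h']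
    have h2 : n * h * (n' * h') * (n * h)⁻¹ * (n' * h')⁻¹ = n * n' * n⁻¹ * n'⁻¹ := by
      rw [show n * h * (n' * h') * (n * h)⁻¹ * (n' * h')⁻¹ =
        (n * h * (n' * h')) * (n' * h' * (n * h))⁻¹ by group, hab, hba]
      group
    have hcomm := hPN _ h1 (by
      rw [h2]; exact mul_mem (mul_mem (mul_mem hn hn') (inv_mem hn)) (inv_mem hn'))
    rwa [mul_inv_eq_one, mul_inv_eq_iff_eq_mul] at hcomm
  have hZP : ∀ z ∈ Subgroup.center G, z ∈ (P : Subgroup G) := by
    intro z hz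
    obtain ⟨n, hn, h, hh, rfl⟩ := hfac z
    have h1 := Subgroup.mem_center_iff.1 hz u₀
    have h2 : (n⁻¹ * u₀ * n) * u₀⁻¹ = h * u₀ * h⁻¹ * u₀⁻¹ := by
      congr 1
      calc n⁻¹ * u₀ * n = n⁻¹ * (u₀ * (n * h)) * h⁻¹ := by group
        _ = n⁻¹ * (n * h * u₀) * h⁻¹ := by rw [h1]
        _ = h * u₀ * h⁻¹ := by group
    have hP1 : h * u₀ * h⁻¹ * u₀⁻¹ ∈ (P : Subgroup G) :=
      mul_mem (mul_mem (mul_mem hh hu₀) (inv_mem hh)) (inv_mem hu₀)
    have hN2 : h * u₀ * h⁻¹ * u₀⁻¹ ∈ N := by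
      rw [← h2, show n⁻¹ * u₀ * n * u₀⁻¹ = n⁻¹ * (u₀ * n * u₀⁻¹) by group]
      exact mul_mem (inv_mem hn) (hNn.conj_mem n hn u₀)
    have h3 := hPN _ hP1 hN2
    rw [← h2, mul_inv_eq_one, mul_assoc, inv_mul_eq_iff_eq_mul] at h3
    rw [hfpf u₀ hu₀ hu₀Z n hn h3, one_mul]
    exact hh
  have hZeq : Subgroup.center G = Cfsg.pCore p G := by
    refine le_antisymm (le_sSup ⟨inferInstance, P.isPGroup'.to_le hZP⟩) (sSup_le ?_)
    rintro R ⟨hRn, hRp⟩
    intro r hr
    refine hZ r ((hRp.le_sylow_of_normal P) hr) fun n hn => ?_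
    have hmem : r * n * r⁻¹ * n⁻¹ ∈ R := by
      rw [show r * n * r⁻¹ * n⁻¹ = r * (n * r⁻¹ * n⁻¹) by group]
      exact mul_mem hr (hRn.conj_mem _ (inv_mem hr) n)
    obtain ⟨e, he⟩ := hRp ⟨_, hmem⟩
    have h1 := hord1 _ (mul_mem (hNn.conj_mem n hn r) (inv_mem hn)) e (congrArg Subtype.val he)
    rwa [mul_inv_eq_one, mul_inv_eq_iff_eq_mul] at h1
  refine ⟨hZeq, (P : Subgroup G).map (QuotientGroup.mk' (Subgroup.center G)), ⟨?_, ?_, ?_⟩,
    P.isPGroup'.map _⟩
  · intro hbot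
    have := hbot ▸ Subgroup.mem_map_of_mem (QuotientGroup.mk' (Subgroup.center G)) hu₀
    rw [Subgroup.mem_bot, QuotientGroup.mk'_apply, QuotientGroup.eq_one_iff] at this
    exact hu₀Z this
  · intro htop
    have hs : ((s₀ : G) : G ⧸ Subgroup.center G) ∈
        (P : Subgroup G).map (QuotientGroup.mk' (Subgroup.center G)) := htop ▸ Subgroup.mem_top _
    obtain ⟨a, ha, hae⟩ := Subgroup.mem_map.1 hs
    refine hs₀1 (hPN s₀ ?_ hs₀)
    have := hZP _ (QuotientGroup.eq.1 hae)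
    simpa using mul_mem ha this
  · intro q hq
    obtain ⟨g, rfl⟩ := QuotientGroup.mk_surjective q
    obtain ⟨n, hn, h, hh, rfl⟩ := hfac g
    have hn1 : n ≠ 1 := fun e => hq (by
      rw [e, one_mul]; exact Subgroup.mem_map_of_mem _ hh)
    rw [Subgroup.eq_bot_iff_forall]
    rintro x ⟨hx1, hx2⟩
    obtain ⟨a, ha, rfl⟩ := Subgroup.mem_map.1 hx1
    obtain ⟨y, hy, hye⟩ := hx2
    obtain ⟨b, hb, rfl⟩ := Subgroup.mem_map.1 hy
    have hye' : ((n * h * b * (n * h)⁻¹ : G) : G ⧸ Subgroup.center G) = (a : G ⧸ Subgroup.center G) :=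
      hye
    have hz := QuotientGroup.eq.1 hye'
    set z := (n * h * b * (n * h)⁻¹)⁻¹ * a with hzdef
    have hb' : h * b * h⁻¹ * z ∈ (P : Subgroup G) :=
      mul_mem (mul_mem (mul_mem hh hb) (inv_mem hh)) (hZP z hz)
    have haz : a = n * (h * b * h⁻¹ * z) * n⁻¹ := by
      have e := Subgroup.mem_center_iff.1 hz n⁻¹
      calc a = n * h * b * (n * h)⁻¹ * z := by rw [hzdef]; group
        _ = n * (h * b * h⁻¹) * (n⁻¹ * z) := by group
        _ = n * (h * b * h⁻¹) * (z * n⁻¹) := by rw [e]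
        _ = _ := by group
    set b' := h * b * h⁻¹ * z
    have h1 : n * (b' * n⁻¹ * b'⁻¹) = 1 := hPN _
      (by rw [show n * (b' * n⁻¹ * b'⁻¹) = a * b'⁻¹ by rw [haz]; group]
          exact mul_mem ha (inv_mem hb'))
      (mul_mem hn (hNn.conj_mem _ (inv_mem hn) b'))
    have hcom : b' * n = n * b' := by
      have h2 : b' * n⁻¹ * b'⁻¹ = n⁻¹ := eq_inv_of_mul_eq_one_right h1
      rw [mul_inv_eq_iff_eq_mul] at h2
      calc b' * n = n * (n⁻¹ * b') * n := by group
        _ = n * (b' * n⁻¹) * n := by rw [h2]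
        _ = _ := by group
    have hab : a = b' := by rw [haz, ← hcom]; group
    rw [QuotientGroup.mk'_apply, QuotientGroup.eq_one_iff, hab]
    by_contra hb1
    exact hn1 (hfpf b' hb' hb1 n hn hcom)

end Cfsg.Agent.S4848
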