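import Cfsg.Statements.S4850
import Cfsg.Agent.H17.VanishingSameOrder
import Cfsg.Agent.H36.Subnormal

set_option autoImplicit false
open Cfsg

namespace Cfsg.Agent.S4850

/-- Let p be a prime and G a finite solvable group whose vanishing elements (elements at which some irreducible character is zero) of order divisible by p all have the same order, with at least one such element. Let P be a Sylow p-subgroup of G. Then the derived subgroup of P is subnormal in G and the image of P in G/O_p(G) is cyclic. -/
theorem result {G : Type*} [Group G] [Finite G] [hs : Group.IsSolvable G] (p : ℕ) [Fact p.Prime] (b : ℕ) (hvo : {n : ℕ | p ∣ n ∧ ∃ (g : G) (χ : Cfsg.IrrCharacter G), orderOf g = n ∧ (χ : G → ℂ) g = 0} = {b}) (P : Sylow p G) :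
    ((commutator ↥(P : Subgroup G)).map (P : Subgroup G).subtype).IsSubnormal ∧ IsCyclic ↥((P : Subgroup G).map (QuotientGroup.mk' (Cfsg.pCore p G))) := by
  classical
  have hp : p.Prime := Fact.out
  have hyp : H17.VSO.Hyp p G := H17.VSO.Hyp.of_same_order fun x y hx hxp hy hyp => by
    have key : ∀ z : G, H17.VSO.Vanishes z → p ∣ orderOf z → orderOf z = b := by
      intro z ⟨χ, hχ⟩ hzp
      have hmem : orderOf z ∈ {n : ℕ | p ∣ n ∧ ∃ (g : G) (χ : Cfsg.IrrCharacter G), orderOf g = n ∧ (χ : G → ℂ) g = 0} :=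
        ⟨hzp, z, χ, rfl, hχ⟩
      rw [hvo] at hmem
      exact hmem
    rw [key x hx hxp, key y hy hyp]
  have hbd := (H17.VSO.main (p := p) _ G rfl hyp).2 P
  haveI hOn : (Cfsg.pCore p G).Normal := H1.pCore_normal' p G
  set π := QuotientGroup.mk' (Cfsg.pCore p G) with hπ
  set Pb := (P : Subgroup G).map π with hPb
  have hPbp : IsPGroup p Pb := P.isPGroup'.map π
  have hOP : Cfsg.pCore p G ≤ (P : Subgroup G) := by
    obtain ⟨Q, hQ⟩ := (H1.isPGroup_pCore p G).exists_le_sylow
    obtain ⟨g, rfl⟩ := MulAction.exists_smul_eq G Q P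
    intro x hx
    rw [Sylow.smul_def, Sylow.pointwise_smul_def, Subgroup.mem_pointwise_smul_iff_inv_smul_mem]
    refine hQ ?_
    simpa using hOn.conj_mem x hx g⁻¹
  have hsplit : Nat.card (P : Subgroup G) = Nat.card Pb * Nat.card (Cfsg.pCore p G) := by
    rw [Subgroup.card_eq_card_quotient_mul_card_subgroup ((Cfsg.pCore p G).subgroupOf (P : Subgroup G)),
      Nat.card_congr (Subgroup.subgroupOfEquivOfLe hOP).toEquiv]
    congr 1
    have e : (Cfsg.pCore p G).subgroupOf (P : Subgroup G) = (π.comp (P : Subgroup G).subtype).ker := by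
      ext x
      simp [π, Subgroup.mem_subgroupOf, QuotientGroup.eq_one_iff]
    show ((Cfsg.pCore p G).subgroupOf (P : Subgroup G)).index = _
    rw [e, Subgroup.index_ker, MonoidHom.range_comp, Subgroup.range_subtype]
  have hle : Nat.card Pb ≤ p := Nat.le_of_mul_le_mul_right (hsplit ▸ hbd) Nat.card_pos
  have hcyc : IsCyclic Pb := by
    obtain ⟨k, hk⟩ := IsPGroup.iff_card.1 hPbp
    rcases Nat.eq_zero_or_pos k with rfl | hk0
    · haveI : Subsingleton Pb := (Nat.card_eq_one_iff_unique.1 (by rw [hk, pow_zero])).1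
      exact isCyclic_of_subsingleton
    · rcases eq_or_ne k 1 with rfl | hk1
      · exact isCyclic_of_prime_card (p := p) (by rw [hk, pow_one])
      · exfalso
        rw [hk] at hle
        exact absurd hle (not_le.2 (by simpa using Nat.pow_lt_pow_right hp.one_lt (show 1 < k by omega)))
  refine ⟨?_, hcyc⟩
  have hc : (commutator ↥(P : Subgroup G)).map (P : Subgroup G).subtype ≤ Cfsg.pCore p G := by
    rw [← QuotientGroup.ker_mk' (Cfsg.pCore p G), ← Subgroup.map_eq_bot_iff, commutator_def,
      Subgroup.map_commutator, Subgroup.map_commutator, Subgroup.commutator_eq_bot_iff_le_centralizer,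
      ← MonoidHom.range_eq_map, Subgroup.range_subtype]
    intro a ha
    rw [Subgroup.mem_centralizer_iff]
    intro c hc
    haveI := hcyc
    letI : CommGroup Pb := IsCyclic.commGroup
    exact congrArg Subtype.val (mul_comm (⟨c, hc⟩ : Pb) ⟨a, ha⟩)
  haveI : Group.IsNilpotent (Cfsg.pCore p G) := (H1.isPGroup_pCore p G).isNilpotent
  exact Subgroup.IsSubnormal.trans hc (H36.isSubnormal_of_isNilpotent _) hOn.isSubnormal

end Cfsg.Agent.S4850
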