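-- Statement S4865.
import Cfsg.Statements.S4865
import Cfsg.Agent.H87.RealP.Main

set_option autoImplicit false
open Cfsg

namespace Cfsg.Agent.S4865

/-- Let p be a prime and G a finite group such that the subgroup generated by the p-elements of G is solvable and every real-valued irreducible complex character of G has degree prime to p. Let N be the normalizer of a Sylow p-subgroup of G. Then there is a bijection from the real-valued irreducible characters of G onto the real-valued irreducible characters of N of degree prime to p under which corresponding degrees are congruent modulo p up to sign. -/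
theorem result {G : Type*} [Group G] [Finite G] (p : ℕ) [Fact p.Prime] (hsolv : Group.IsSolvable ↥(Subgroup.closure {g : G | ∃ k : ℕ, orderOf g = p ^ k})) (hreal : ∀ χ : Cfsg.IrrCharacter G, (∀ g : G, ((χ : G → ℂ) g).im = 0) → ¬ p ∣ Cfsg.charDegree (χ : G → ℂ)) (P : Sylow p G) : ∃ f : {χ : Cfsg.IrrCharacter G // ∀ g : G, ((χ : G → ℂ) g).im = 0} → {ξ : Cfsg.IrrCharacter ↥(Subgroup.normalizer ((P : Subgroup G) : Set G)) // (∀ n, ((ξ : ↥(Subgroup.normalizer ((P : Subgroup G) : Set G)) → ℂ) n).im = 0) ∧ ¬ p ∣ Cfsg.charDegree (ξ : ↥(Subgroup.normalizer ((P : Subgroup G) : Set G)) → ℂ)}, Function.Bijective f ∧ ∀ χ, ((Cfsg.charDegree ((f χ).1 : ↥(Subgroup.normalizer ((P : Subgroup G) : Set G)) → ℂ) : ZMod p) = (Cfsg.charDegree (χ.1 : G → ℂ) : ZMod p) ∨ (Cfsg.charDegree ((f χ).1 : ↥(Subgroup.normalizer ((P : Subgroup G) : Set G)) → ℂ) : ZMod p) = -(Cfsg.charDegree (χ.1 : G → ℂ) : ZMod p)) := by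
  classical
  haveI : (H25.RealP.genPow 2 G).Normal := H25.RealP.genPow_normal 2
  obtain ⟨Q, hQn, hQK, hQp, hQi⟩ := H25.RealP.exists_normal_sylow (G := G) hsolv hreal
    (H25.RealP.genPow 2 G) le_rfl ⟨0, by rw [Subgroup.relIndex_self, pow_zero]⟩
  haveI := hQn
  have hC : H87.RealP.Ctx p (P : Subgroup G) Q (H25.RealP.genPow 2 G) :=
    ⟨⟨le_top, P.2, by rw [Subgroup.relIndex_top_right]; exact P.not_dvd_index⟩,
      H25.RealP.genPow_normal 2, hQn, hQK, H25.RealP.normal_le_sylow hQp P, hQi⟩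
  let e := H12.irrCongr (Subgroup.topEquiv : (⊤ : Subgroup G) ≃* G)
  have he : ∀ χ : IrrCharacter G, (∀ g : G, ((χ : G → ℂ) g).im = 0) ↔ H12.conjIrr (e χ) = e χ :=
    fun χ => by
      rw [← H87.RealP.isReal_iff]
      constructor
      · intro h x
        rw [H12.irrCongr_apply]
        exact h _
      · intro h g
        have := h ⟨g, Subgroup.mem_top g⟩
        rwa [H12.irrCongr_apply] at this
  have hd : ∀ χ : IrrCharacter G,
      H12.degree (e χ : (⊤ : Subgroup G) → ℂ) = Cfsg.charDegree (χ : G → ℂ) := fun χ => by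
    rw [H24.charDegree_eq_degree]
    have h : ((H12.degree (e χ : (⊤ : Subgroup G) → ℂ) : ℕ) : ℂ) = (H12.degree (χ : G → ℂ) : ℂ) := by
      rw [← H12.irr_apply_one, ← H12.irr_apply_one, H12.irrCongr_apply, map_one]
    exact_mod_cast h
  obtain ⟨f, hf, hdeg⟩ := H87.RealP.exists_bijection hC H25.RealP.odd_index_genPow (fun χ hχ => by
    obtain ⟨χ, rfl⟩ := e.surjective χ
    rw [hd]
    exact hreal χ ((he χ).2 hχ))
  let a : {χ : IrrCharacter G // ∀ g : G, ((χ : G → ℂ) g).im = 0} ≃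
      {χ : IrrCharacter (⊤ : Subgroup G) // H12.conjIrr χ = χ} := e.subtypeEquiv he
  let b : {ξ : IrrCharacter ↥(Subgroup.normalizer ((P : Subgroup G) : Set G)) //
        H12.conjIrr ξ = ξ ∧ ¬ p ∣ H12.degree (ξ : ↥(Subgroup.normalizer ((P : Subgroup G) : Set G)) → ℂ)} ≃
      {ξ : IrrCharacter ↥(Subgroup.normalizer ((P : Subgroup G) : Set G)) //
        (∀ n, ((ξ : ↥(Subgroup.normalizer ((P : Subgroup G) : Set G)) → ℂ) n).im = 0) ∧
          ¬ p ∣ Cfsg.charDegree (ξ : ↥(Subgroup.normalizer ((P : Subgroup G) : Set G)) → ℂ)} :=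
    Equiv.subtypeEquivRight fun ξ => by rw [← H87.RealP.isReal_iff, H24.charDegree_eq_degree]
  refine ⟨b ∘ f ∘ a, b.bijective.comp (hf.comp a.bijective), fun χ => ?_⟩
  have h := hdeg (a χ)
  show (Cfsg.charDegree ((f (a χ)).1 : ↥(Subgroup.normalizer ((P : Subgroup G) : Set G)) → ℂ) :
      ZMod p) = _ ∨ _
  rw [← hd, H24.charDegree_eq_degree]
  exact h

end Cfsg.Agent.S4865
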