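-- Proof of statement S4871.
import Cfsg.Statements.S4871
import Cfsg.Agent.H25.InducedStabilizer
import Cfsg.Agent.H25.IndicatorRes
import Cfsg.Agent.H25.PerfectNormal
import Mathlib.GroupTheory.Complement

set_option autoImplicit false
set_option linter.style.haveILetI false
open Cfsg
open scoped ComplexConjugate

namespace Cfsg.Agent.S4871

variable {G : Type*} [Group G] [Fintype G] (N P : Subgroup G) [hN : N.Normal]

/-- A central involution of `P` inverts `N`. -/
theorem exists_inverting (hcomm : IsMulCommutative N) (hP : IsPGroup 2 P) (hP1 : P ≠ ⊥)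
    (hdisj : N ⊓ P = ⊥) (hprod : N ⊔ P = ⊤) (hodd : Odd (Nat.card N))
    (hmin : N ≠ ⊥ ∧ ∀ M : Subgroup G, M.Normal → M ≠ ⊥ → N ≤ M) :
    ∃ z ∈ P, ∀ n ∈ N, z * n * z⁻¹ = n⁻¹ := by
  haveI : Nontrivial P := (Subgroup.nontrivial_iff_ne_bot P).2 hP1
  haveI : Fact (Nat.Prime 2) := ⟨Nat.prime_two⟩
  obtain ⟨j, hj⟩ := (hP.to_subgroup (Subgroup.center P)).exists_card_eq
  have hj0 : j ≠ 0 := fun h0 => by
    haveI := hP.center_nontrivial
    have : 1 < Nat.card (Subgroup.center P) := Finite.one_lt_card
    rw [hj, h0] at this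
    exact lt_irrefl 1 this
  obtain ⟨w, hw⟩ := exists_prime_orderOf_dvd_card' (G := Subgroup.center P) 2
    (hj ▸ dvd_pow_self 2 hj0)
  set z : G := ((w : P) : G) with hz
  have hzP : z ∈ P := (w : P).2
  have hzord : orderOf z = 2 := by rw [hz, Subgroup.orderOf_coe, Subgroup.orderOf_coe, hw]
  have hzz : z * z = 1 := by rw [← sq, ← hzord, pow_orderOf_eq_one]
  have hzinv : z⁻¹ = z := inv_eq_of_mul_eq_one_left hzz
  have hzc : ∀ x ∈ P, x * z = z * x := fun x hx =>
    congrArg Subtype.val ((Subgroup.mem_center_iff.1 w.2) ⟨x, hx⟩)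
  let C : Subgroup G := N ⊓ Subgroup.centralizer ({z} : Set G)
  have hC : C = ⊥ := by
    have hCn : C.Normal := by
      refine Subgroup.normalizer_eq_top_iff.1 (top_le_iff.1 ?_)
      rw [← hprod, sup_le_iff]
      constructor
      · intro x hx
        rw [Subgroup.mem_normalizer_iff]
        intro y
        constructor
        · intro hy
          have : x * y * x⁻¹ = y := by
            rw [show x * y = y * x from congrArg Subtype.val (hcomm.is_comm.comm ⟨x, hx⟩ ⟨y, hy.1⟩)]
            group
          rwa [this]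
        · intro hy
          have h2 : x⁻¹ * (x * y * x⁻¹) * x = x * y * x⁻¹ := by
            rw [show x⁻¹ * (x * y * x⁻¹) = (x * y * x⁻¹) * x⁻¹ from
              congrArg Subtype.val (hcomm.is_comm.comm ⟨x⁻¹, N.inv_mem hx⟩ ⟨_, hy.1⟩)]
            group
          have h3 : y = x * y * x⁻¹ := by
            conv_rhs => rw [← h2]
            group
          rwa [h3]
      · intro x hx
        rw [Subgroup.mem_normalizer_iff]
        have h : ∀ x ∈ P, ∀ y ∈ C, x * y * x⁻¹ ∈ C := by
          intro x hx y hy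
          refine ⟨hN.conj_mem y hy.1 x, Subgroup.mem_centralizer_singleton_iff.2 ?_⟩
          have h1 := Subgroup.mem_centralizer_singleton_iff.1 hy.2
          have h2 : x⁻¹ * z = z * x⁻¹ := hzc _ (P.inv_mem hx)
          calc x * y * x⁻¹ * z = x * (y * z) * x⁻¹ := by
                rw [mul_assoc (x * y), h2]; group
            _ = (x * z) * y * x⁻¹ := by rw [h1]; group
            _ = z * (x * y * x⁻¹) := by rw [hzc x hx]; group
        exact fun y => ⟨h x hx y, fun hy => by
          have := h _ (P.inv_mem hx) _ hy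
          simpa [mul_assoc] using this⟩
    by_contra hne
    -- otherwise `z` is central
    have hNC : ∀ n ∈ N, n * z = z * n := fun n hn =>
      Subgroup.mem_centralizer_singleton_iff.1 (hmin.2 C hCn hne hn).2
    have hZ : (Subgroup.zpowers z).Normal := by
      have hcen : z ∈ Subgroup.center G := by
        rw [Subgroup.mem_center_iff]
        intro g
        obtain ⟨n, hn, x, hx, rfl⟩ := Subgroup.mem_sup_of_normal_left.1
          (hprod ▸ Subgroup.mem_top g : g ∈ N ⊔ P)
        rw [mul_assoc, hzc x hx, ← mul_assoc, hNC n hn, mul_assoc]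
      refine ⟨fun y hy g => ?_⟩
      have : y ∈ Subgroup.center G := Subgroup.zpowers_le.2 hcen hy
      rw [Subgroup.mem_center_iff.1 this g, mul_inv_cancel_right]
      exact hy
    have hZ1 : Subgroup.zpowers z ≠ ⊥ := fun h => by
      rw [Subgroup.zpowers_eq_bot] at h
      rw [h, orderOf_one] at hzord
      exact absurd hzord (by norm_num)
    have hle : N ≤ P := (hmin.2 _ hZ hZ1).trans (Subgroup.zpowers_le.2 hzP)
    exact hmin.1 (by rw [← hdisj, inf_eq_left.2 hle])
  refine ⟨z, hzP, fun n hn => ?_⟩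
  have hm : z * n * z⁻¹ ∈ N := hN.conj_mem n hn z
  have hfix : n * (z * n * z⁻¹) ∈ C := by
    refine ⟨N.mul_mem hn hm, Subgroup.mem_centralizer_singleton_iff.2 ?_⟩
    have hc : n * (z * n * z⁻¹) = (z * n * z⁻¹) * n :=
      congrArg Subtype.val (hcomm.is_comm.comm ⟨n, hn⟩ ⟨_, hm⟩)
    rw [hzinv] at hc ⊢
    calc n * (z * n * z) * z = n * (z * n) * (z * z) := by group
      _ = n * (z * n) := by rw [hzz, mul_one]
      _ = (z * z) * n * (z * n) := by rw [hzz, one_mul]
      _ = z * ((z * n * z) * n) := by group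
      _ = z * (n * (z * n * z)) := by rw [← hc]
  rw [hC, Subgroup.mem_bot] at hfix
  exact eq_inv_of_mul_eq_one_right hfix

/-- A real character of even degree with trivial multiplicity one on `P`. -/
theorem exists_even_real (hcomm : IsMulCommutative N) (hdisj : N ⊓ P = ⊥) (hprod : N ⊔ P = ⊤)
    (hodd : Odd (Nat.card N)) (hN1 : N ≠ ⊥) {z : G} (hz : ∀ n ∈ N, z * n * z⁻¹ = n⁻¹) :
    ∃ χ : IrrCharacter G, (∀ g, ((χ : G → ℂ) g).im = 0) ∧ 2 ∣ charDegree (χ : G → ℂ) ∧
      H17.fsInd (χ : G → ℂ) = 1 ∧
      ∀ _ : Fintype P, classInner (fun x : P => (χ : G → ℂ) x) (fun _ => 1) = 1 := by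
  classical
  haveI := Fintype.ofFinite N
  haveI := Fintype.ofFinite P
  -- a non-trivial linear character of `N`
  obtain ⟨lam, hlam⟩ : ∃ lam : N →* ℂˣ, lam ≠ 1 := by
    by_contra hne
    simp only [not_exists, not_not] at hne
    haveI : Nontrivial N := (Subgroup.nontrivial_iff_ne_bot N).2 hN1
    obtain ⟨n, hn⟩ := exists_ne (1 : N)
    refine hn (isConj_one_left.1 ((H12.isConj_iff_irr _ _).2 fun φ => ?_))
    obtain ⟨f, hf⟩ := H25.exists_hom_of_charDegree_one φ (by
      have h1 : (φ : N → ℂ) 1 = 1 :=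
        H12.irr_apply_one_of_comm (fun a b => hcomm.is_comm.comm a b) φ
      rw [H25.irr_apply_one_eq] at h1
      exact_mod_cast h1)
    rw [← hf, hne f]
    rfl
  set l := H12.linIrr lam with hl
  set π := indFun P (fun _ : P => (1 : ℂ)) with hπ
  have hπc : IsCharacter G π := H12.IsCharacter.indFun H12.isCharacter_one
  have hindex : P.index = Nat.card N := by
    refine (Subgroup.isComplement'_of_disjoint_and_mul_eq_univ (disjoint_iff.mpr hdisj) ?_
      ).index_eq_card
    rw [← Subgroup.normal_mul, hprod]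
    rfl
  have hπres : classInner (fun n : N => π n) (l : N → ℂ) = 1 := by
    rw [H12.classInner_def, Finset.sum_eq_single 1]
    · rw [Subgroup.coe_one, hπ, H12.indFun_one, mul_one, hindex, hl, H12.linIrr_apply, map_one,
        Units.val_one, map_one, mul_one]
      exact inv_mul_cancel₀ (by exact_mod_cast Nat.card_pos.ne')
    · intro n _ hn
      have : π n = 0 := by
        rw [hπ, H12.indFun_apply, Finset.sum_eq_zero, mul_zero]
        intro x _
        refine H12.extendByZero_of_notMem _ _ fun hmem => hn (Subtype.ext ?_)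
        have h1 : x⁻¹ * ((n : G) * x) ∈ N ⊓ P :=
          ⟨by rw [← mul_assoc]; simpa using hN.conj_mem n n.2 x⁻¹, by simpa [mul_assoc] using hmem⟩
        rw [hdisj, Subgroup.mem_bot, inv_mul_eq_one] at h1
        simpa using mul_right_cancel (h1.symm.trans (one_mul x).symm)
      rw [this, zero_mul]
    · simp
  obtain ⟨m, hm⟩ := H12.IsCharacter.exists_mult hπc
  choose k hk using fun ξ : IrrCharacter G => H12.IsCharacter.classInner_nat
    (H12.IsCharacter.res (H12.isCharacter_irr ξ) N) (H12.isCharacter_irr l)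
  have htot : ∑ ξ, m ξ * k ξ = 1 := by
    have e : (fun n : N => π n) =
        ∑ ξ : IrrCharacter G, (m ξ : ℂ) • (fun n : N => (ξ : G → ℂ) n) := by
      funext n
      have := congrFun hm n
      simpa [Finset.sum_apply] using this
    have h := hπres
    rw [e, H12.classInner_sum_left] at h
    simp only [H12.classInner_smul_left, hk] at h
    exact_mod_cast h
  obtain ⟨χ, -, hχ⟩ := Finset.exists_ne_zero_of_sum_ne_zero (htot.symm ▸ one_ne_zero)
  have huniq : ∀ ξ, ξ ≠ χ → m ξ * k ξ = 0 := by
    intro ξ hξ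
    have := Finset.sum_le_sum_of_subset (f := fun ξ => m ξ * k ξ)
      (Finset.subset_univ ({ξ, χ} : Finset (IrrCharacter G)))
    rw [Finset.sum_pair hξ, htot] at this
    omega
  have hmk : m χ = 1 ∧ k χ = 1 := by
    have := Finset.single_le_sum (f := fun ξ => m ξ * k ξ) (fun _ _ => Nat.zero_le _)
      (Finset.mem_univ χ)
    rw [htot] at this
    exact mul_eq_one.1 (le_antisymm this (Nat.pos_of_ne_zero hχ))
  have hlinv : ∀ n : N, H13.twist N z (l : N → ℂ) n = conj ((l : N → ℂ) n) := fun n => by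
    rw [H13.twist_apply, ← H12.irr_inv]
    exact congrArg (l : N → ℂ) (Subtype.ext (by simp [hz n n.2]))
  -- `χ` is real
  have hreal : ∀ g, ((χ : G → ℂ) g).im = 0 := by
    have hπreal : ∀ g, conj (π g) = π g := by
      intro g
      simp only [hπ, indFun, map_mul, map_inv₀, map_natCast, map_sum]
      congr 1
      refine Finset.sum_congr rfl fun x _ => ?_
      rw [H12.extendByZero_eq_dite]
      split_ifs <;> simp
    have e1 : m (H12.conjIrr χ) = 1 := by
      have h := H12.classInner_sum_smul_irr (fun ξ => (m ξ : ℂ)) (H12.conjIrr χ)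
      rw [← hm] at h
      have h' := H12.classInner_sum_smul_irr (fun ξ => (m ξ : ℂ)) χ
      rw [← hm] at h'
      have : classInner π (H12.conjIrr χ : G → ℂ) = conj (classInner π (χ : G → ℂ)) := by
        simp only [H12.classInner_def, map_mul, map_inv₀, map_natCast, map_sum, H12.conjIrr_apply,
          hπreal, Complex.conj_conj]
      rw [h, h', hmk.1, Nat.cast_one, map_one] at this
      exact_mod_cast this
    have e2 : k (H12.conjIrr χ) = 1 := by
      have h := H13.classInner_res_twist N (H12.irr_isClassFunction χ) (l : N → ℂ) z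
      rw [hk, hmk.2] at h
      have : classInner (fun n : N => (H12.conjIrr χ : G → ℂ) n) (l : N → ℂ) =
          conj (classInner (fun n : N => (χ : G → ℂ) n) (H13.twist N z (l : N → ℂ))) := by
        simp only [H12.classInner_def, map_mul, map_inv₀, map_natCast, map_sum, H12.conjIrr_apply,
          hlinv, Complex.conj_conj]
      rw [h, hk, map_natCast, Nat.cast_one] at this
      exact_mod_cast this
    have e3 : H12.conjIrr χ = χ := by
      by_contra hne
      have := huniq _ hne
      rw [e1, e2] at this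
      exact one_ne_zero this
    intro g
    apply Complex.conj_eq_iff_im.1
    rw [← H12.conjIrr_apply, e3]
  have htriv : classInner (fun x : P => (χ : G → ℂ) x) (fun _ => 1) = 1 := by
    rw [← H12.classInner_indFun_right P _ (H12.irr_isClassFunction χ), ← H12.conj_classInner, ← hπ,
      hm, H12.classInner_sum_smul_irr, hmk.1]
    simp
  refine ⟨χ, hreal, ?_, ?_, fun hF => by convert htriv⟩
  · -- the orbit of `lam` is closed under inversion without fixed points
    let s : Finset (IrrCharacter N) :=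
      Finset.univ.filter fun ψ : IrrCharacter N => ∃ x, H13.twist N x (l : N → ℂ) = (ψ : N → ℂ)
    have hs : ∀ ψ : IrrCharacter N, ψ ∈ s ↔ ∃ x, H13.twist N x (l : N → ℂ) = ψ := fun ψ => by
      simp [s]
    have h1 := congrFun (H13.clifford_res N χ.2 l.2 (by rw [hk, hmk.2]; simp) s hs) 1
    rw [hk, hmk.2, Nat.cast_one, one_smul, Finset.sum_apply, Subgroup.coe_one,
      H25.irr_apply_one_eq] at h1
    have hlin : ∀ ψ ∈ s, (ψ : N → ℂ) 1 = 1 := fun ψ _ =>
      H12.irr_apply_one_of_comm (fun a b => hcomm.is_comm.comm a b) ψ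
    rw [Finset.sum_congr rfl hlin, Finset.sum_const, nsmul_eq_mul, mul_one] at h1
    rw [show charDegree (χ : G → ℂ) = s.card by exact_mod_cast h1]
    have hev : Even s.card := by
      rw [← ZMod.natCast_eq_zero_iff_even, Finset.card_eq_sum_ones, Nat.cast_sum]
      refine Finset.sum_involution (fun ψ _ => H12.conjIrr ψ) (fun ψ hψ => ?_)
        (fun ψ hψ _ hfix => ?_) (fun ψ hψ => ?_) (fun ψ hψ => H12.conjIrr_conjIrr ψ)
      · rw [Nat.cast_one]; decide
      · obtain ⟨x, hx⟩ := (hs ψ).1 hψ
        apply hlam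
        refine MonoidHom.ext fun n => ?_
        have hr : ∀ y : N, conj ((ψ : N → ℂ) y) = (ψ : N → ℂ) y := fun y => by
          rw [← H12.conjIrr_apply, hfix]
        have h2 := hr ⟨x⁻¹ * (n : G) * x, by simpa using hN.conj_mem n n.2 x⁻¹⟩
        rw [← hx, H13.twist_apply] at h2
        have hn : (⟨x * (x⁻¹ * (n : G) * x) * x⁻¹, hN.conj_mem _ (by
            simpa using hN.conj_mem n n.2 x⁻¹) x⟩ : N) = n := Subtype.ext (by group)
        rw [hn, hl, H12.linIrr_apply] at h2
        have hnorm : ‖(lam n : ℂ)‖ = 1 :=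
          H12.norm_eq_one_of_pow_eq_one (Nat.card_pos (α := N)).ne' (by
            rw [← Units.val_pow_eq_pow_val, ← map_pow, pow_card_eq_one', map_one, Units.val_one])
        have hsq : (lam n) ^ 2 = 1 := Units.ext (by
          rw [Units.val_pow_eq_pow_val, sq, Units.val_one]
          nth_rw 2 [← h2]
          rw [Complex.mul_conj', hnorm]
          simp)
        obtain ⟨j, hj⟩ := hodd
        have h3 : lam n ^ Nat.card N = 1 := by rw [← map_pow, pow_card_eq_one', map_one]
        rw [hj, pow_succ, pow_mul, hsq, one_pow, one_mul] at h3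
        exact h3
      · obtain ⟨x, hx⟩ := (hs ψ).1 hψ
        refine (hs _).2 ⟨z * x, ?_⟩
        rw [← H13.twist_twist]
        funext n
        rw [H12.conjIrr_apply, ← hx, H13.twist_apply, H13.twist_apply]
        exact hlinv _
    exact hev.two_dvd
  · rw [← H25.fsInd_eq_of_constituent χ hreal P (H12.oneIrr P) (fun i => by simp [H12.oneIrr_apply])
      htriv]
    simp [H17.fsInd, H12.oneIrr_apply]

/-- Let G be a finite group that is the semidirect product of a normal elementary abelian subgroup N of odd order by a non-trivial 2-subgroup P, with N the unique minimal normal subgroup of G. Consider the strongly real irreducible complex characters of G (Frobenius–Schur indicator +1) whose degree is 1 or even. Then their average degree is at least 4/3: four times their number is at most three times the sum of their degrees. -/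
theorem result {G : Type*} [Group G] [Finite G] (N P : Subgroup G) (hN : N.Normal) (q : ℕ) [Fact q.Prime] (hq : q ≠ 2) (hNel : Cfsg.IsElementaryAbelian q N) (hP : IsPGroup 2 ↥P) (hP1 : P ≠ ⊥) (hdisj : N ⊓ P = ⊥) (hprod : N ⊔ P = ⊤) (hmin : N ≠ ⊥ ∧ ∀ M : Subgroup G, M.Normal → M ≠ ⊥ → N ≤ M) : 4 * Nat.card {χ : Cfsg.IrrCharacter G // (Cfsg.charDegree (χ : G → ℂ) = 1 ∨ 2 ∣ Cfsg.charDegree (χ : G → ℂ)) ∧ (Nat.card G : ℂ)⁻¹ * ∑ᶠ g : G, (χ : G → ℂ) (g * g) = 1} ≤ 3 * (∑ᶠ χ : {χ : Cfsg.IrrCharacter G // (Cfsg.charDegree (χ : G → ℂ) = 1 ∨ 2 ∣ Cfsg.charDegree (χ : G → ℂ)) ∧ (Nat.card G : ℂ)⁻¹ * ∑ᶠ g : G, (χ : G → ℂ) (g * g) = 1}, Cfsg.charDegree (χ.1 : G → ℂ)) := by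
  classical
  haveI := hN
  haveI := Fintype.ofFinite G
  have hodd : Odd (Nat.card N) := by
    have hqp : IsPGroup q N := fun a => ⟨1, Subtype.ext (by simpa using hNel.2 a a.2)⟩
    obtain ⟨j, hj⟩ := hqp.exists_card_eq
    rw [hj]
    exact ((Fact.out : q.Prime).odd_of_ne_two hq).pow
  obtain ⟨z, -, hz⟩ := exists_inverting N P hNel.1 hP hP1 hdisj hprod hodd hmin
  haveI := Fintype.ofFinite P
  obtain ⟨χ, -, heven, hν, htriv'⟩ := exists_even_real N P hNel.1 hdisj hprod hodd hmin.1 hz
  have htriv := htriv' inferInstance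
  -- linear characters are trivial on `N`
  have hperf : ∀ f : G →* ℂˣ, ∀ n ∈ N, f n = 1 := by
    intro f n hn
    have h1 : f n = (f n)⁻¹ := by
      conv_rhs => rw [← map_inv, ← hz n hn, map_mul, map_mul, map_inv, mul_comm (f z) (f n),
        mul_inv_cancel_right]
    have h2 : f n ^ 2 = 1 := by rw [sq]; nth_rw 2 [h1]; exact mul_inv_cancel _
    obtain ⟨j, hj⟩ := hodd
    have h3 : f n ^ Nat.card N = 1 := by
      rw [← map_pow]
      have : ((⟨n, hn⟩ : N) ^ Nat.card N : N) = 1 := pow_card_eq_one'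
      have h := congrArg Subtype.val this
      simp only [SubmonoidClass.coe_pow, Subgroup.coe_one] at h
      rw [h, map_one]
    rwa [hj, pow_succ, pow_mul, h2, one_pow, one_mul] at h3
  haveI : Finite (G →* ℂˣ) := Finite.of_injective _ H12.linIrr_injective
  haveI : Fintype (G →* ℂˣ) := Fintype.ofFinite _
  let L : Finset (G →* ℂˣ) := Finset.univ.filter fun f => ∀ g, f (g * g) = 1
  let F : (G →* ℂˣ) → IrrCharacter G := fun f => ⟨_, H25.isIrrCharacter_twist_linear χ.2 f⟩
  set d := charDegree (χ : G → ℂ) with hd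
  have hd2 : 2 ≤ d := Nat.le_of_dvd (H25.charDegree_pos χ) heven
  have hFdeg : ∀ f, charDegree (F f : G → ℂ) = d := fun f => by
    have h : ((charDegree (F f : G → ℂ) : ℕ) : ℂ) = (d : ℂ) := by
      rw [← H25.irr_apply_one_eq, hd, ← H25.irr_apply_one_eq χ]
      simp [F]
    exact_mod_cast h
  -- fibres
  have hfib : L.card ≤ d * (L.image F).card := by
    refine Finset.card_le_mul_card_image _ _ fun ξ hξ => ?_
    obtain ⟨f₀, -, rfl⟩ := Finset.mem_image.1 hξ
    obtain ⟨m, hm⟩ := H12.IsCharacter.exists_mult (H12.IsCharacter.res (H12.isCharacter_irr χ) P)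
    have hsum : ∑ ξ : IrrCharacter P, m ξ * charDegree (ξ : P → ℂ) = d := by
      have h := congrFun hm 1
      rw [Finset.sum_apply, Subgroup.coe_one] at h
      simp only [Pi.smul_apply, smul_eq_mul, H25.irr_apply_one_eq, ← hd] at h
      exact_mod_cast h.symm
    let r : (G →* ℂˣ) → IrrCharacter P := fun f => H12.linIrr ((f₀ * f⁻¹).comp P.subtype)
    have hrinj : Function.Injective r := by
      intro a b hab
      have hc := H12.linIrr_injective hab
      refine MonoidHom.ext fun g => ?_
      obtain ⟨n, hn, x, hx, rfl⟩ := Subgroup.mem_sup_of_normal_left.1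
        (hprod ▸ Subgroup.mem_top g : g ∈ N ⊔ P)
      have hx' := DFunLike.congr_fun hc ⟨x, hx⟩
      simp only [MonoidHom.comp_apply, Subgroup.coe_subtype, MonoidHom.mul_apply,
        MonoidHom.inv_apply, mul_right_inj, inv_inj] at hx'
      rw [map_mul, map_mul, hperf a n hn, hperf b n hn, hx']
    refine le_trans ?_ hsum.le
    refine le_trans ?_ (Finset.sum_le_sum_of_subset (Finset.subset_univ
      ((L.filter fun f => F f = F f₀).image r)))
    rw [Finset.sum_image hrinj.injOn, Finset.card_eq_sum_ones]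
    refine Finset.sum_le_sum fun f hf => ?_
    have hF : F f = F f₀ := (Finset.mem_filter.1 hf).2
    have hmr : m (r f) = 1 := by
      have h := H12.classInner_sum_smul_irr (fun ξ => (m ξ : ℂ)) (r f)
      rw [← hm] at h
      have h2 : classInner (fun x : P => (χ : G → ℂ) x) (r f : P → ℂ) = 1 := by
        rw [← htriv, H12.classInner_def, H12.classInner_def]
        congr 1
        refine Finset.sum_congr rfl fun x _ => ?_
        show (χ : G → ℂ) x * conj (((f₀ * f⁻¹) (x : G) : ℂˣ) : ℂ) = (χ : G → ℂ) x * conj 1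
        have e := congrFun (congrArg Subtype.val hF) (x : G)
        simp only [F] at e
        by_cases h0 : (χ : G → ℂ) x = 0
        · simp [h0]
        have e2 := mul_right_cancel₀ h0 e
        simp [MonoidHom.mul_apply, MonoidHom.inv_apply, ← e2]
      rw [h2] at h
      exact_mod_cast h.symm
    rw [hmr, one_mul]
    exact H25.charDegree_pos _
  -- the count
  simp only [finsum_eq_sum_of_fintype]
  let S : Finset (IrrCharacter G) := Finset.univ.filter fun ξ =>
    (charDegree (ξ : G → ℂ) = 1 ∨ 2 ∣ charDegree (ξ : G → ℂ)) ∧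
      (Nat.card G : ℂ)⁻¹ * ∑ g : G, (ξ : G → ℂ) (g * g) = 1
  rw [Nat.card_eq_fintype_card, Fintype.card_subtype,
    ← Finset.sum_subtype S (fun ξ => by simp [S, finsum_eq_sum_of_fintype])
      (fun ξ => charDegree (ξ : G → ℂ))]
  show 4 * S.card ≤ _
  let A := S.filter fun ξ : IrrCharacter G => charDegree (ξ : G → ℂ) = 1
  let E := S.filter fun ξ : IrrCharacter G => ¬ charDegree (ξ : G → ℂ) = 1
  have hAL : A.card ≤ L.card := by
    refine Finset.card_le_card_of_injOn (fun ξ => if h : charDegree (ξ : G → ℂ) = 1 then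
      (H25.exists_hom_of_charDegree_one ξ h).choose else 1) (fun ξ hξ => ?_) ?_
    · obtain ⟨hξS, h1⟩ := Finset.mem_filter.1 hξ
      have hν' : H17.fsInd (ξ : G → ℂ) = 1 := (Finset.mem_filter.1 hξS).2.2
      simp only [dif_pos h1]
      have hs := (H25.exists_hom_of_charDegree_one ξ h1).choose_spec
      set f := (H25.exists_hom_of_charDegree_one ξ h1).choose
      rw [Finset.mem_coe, Finset.mem_filter]
      refine ⟨Finset.mem_univ _, fun g => ?_⟩
      have him := H25.real_of_fsInd_ne_zero ξ (by rw [hν']; exact one_ne_zero) g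
      rw [← hs, H12.linIrr_apply] at him
      have hn : ‖(f g : ℂ)‖ = 1 := H12.norm_eq_one_of_pow_eq_one (Nat.card_pos (α := G)).ne' (by
        rw [← Units.val_pow_eq_pow_val, ← map_pow, pow_card_eq_one', map_one, Units.val_one])
      apply Units.ext
      rw [map_mul, Units.val_mul, Units.val_one]
      calc (f g : ℂ) * (f g : ℂ) = (f g : ℂ) * conj (f g : ℂ) := by
            rw [Complex.conj_eq_iff_im.2 him]
        _ = 1 := by rw [Complex.mul_conj', hn]; simp
    · intro a ha b hb hab
      have ha1 := (Finset.mem_filter.1 ha).2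
      have hb1 := (Finset.mem_filter.1 hb).2
      simp only [dif_pos ha1, dif_pos hb1] at hab
      rw [← (H25.exists_hom_of_charDegree_one a ha1).choose_spec, hab,
        (H25.exists_hom_of_charDegree_one b hb1).choose_spec]
  have himg : L.image F ⊆ E := by
    intro ξ hξ
    obtain ⟨f, hf, rfl⟩ := Finset.mem_image.1 hξ
    have hfL := (Finset.mem_filter.1 hf).2
    refine Finset.mem_filter.2 ⟨Finset.mem_filter.2 ⟨Finset.mem_univ _,
      Or.inr (by rw [hFdeg]; exact heven), ?_⟩, by rw [hFdeg]; omega⟩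
    show (Nat.card G : ℂ)⁻¹ * ∑ g : G, (f (g * g) : ℂ) * (χ : G → ℂ) (g * g) = 1
    simp only [hfL, Units.val_one, one_mul]
    exact hν
  have hE2 : ∀ ξ ∈ E, 2 ≤ charDegree (ξ : G → ℂ) := by
    intro ξ hξ
    obtain ⟨hξS, h1⟩ := Finset.mem_filter.1 hξ
    exact Nat.le_of_dvd (H25.charDegree_pos ξ) (((Finset.mem_filter.1 hξS).2.1).resolve_left h1)
  have hcard : A.card + E.card = S.card :=
    Finset.card_filter_add_card_filter_not _
  have hsplit : ∑ ξ ∈ S, charDegree (ξ : G → ℂ) =
      A.card + ∑ ξ ∈ E, charDegree (ξ : G → ℂ) := by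
    rw [← Finset.sum_filter_add_sum_filter_not S (fun ξ : IrrCharacter G => charDegree (ξ : G → ℂ) = 1),
      Finset.card_eq_sum_ones A]
    congr 1
    exact Finset.sum_congr rfl fun ξ hξ => (Finset.mem_filter.1 hξ).2
  have hlow : L.card + 4 * E.card ≤ 3 * ∑ ξ ∈ E, charDegree (ξ : G → ℂ) := by
    rw [← Finset.sum_sdiff himg, ← Finset.card_sdiff_add_card_eq_card himg]
    have h1 : ∑ ξ ∈ L.image F, charDegree (ξ : G → ℂ) = (L.image F).card * d := by
      rw [Finset.sum_congr rfl (g := fun _ => d) fun ξ hξ => by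
        obtain ⟨f, -, rfl⟩ := Finset.mem_image.1 hξ
        exact hFdeg f, Finset.sum_const, smul_eq_mul]
    have h2 : (E \ L.image F).card * 2 ≤ ∑ ξ ∈ E \ L.image F, charDegree (ξ : G → ℂ) := by
      rw [← smul_eq_mul]
      exact Finset.card_nsmul_le_sum _ _ _ fun ξ hξ => hE2 ξ (Finset.mem_sdiff.1 hξ).1
    rw [h1]
    nlinarith [Nat.mul_le_mul_left (L.image F).card hd2]
  rw [← hcard, hsplit]
  omega

end Cfsg.Agent.S4871
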