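import Cfsg.Statements.S4872
import Cfsg.Agent.H25.IndicatorFixed
import Cfsg.Agent.H24.DefectZero
import Cfsg.Agent.H22.ValueMod
import Cfsg.Agent.H12.InvConstituents
import Cfsg.Agent.S0887

open scoped ComplexConjugate

set_option autoImplicit false
open Cfsg

namespace Cfsg.Agent.S4872

/-- Let N be a normal subgroup of the finite group G with G/N a 2-group, and let φ be an irreducible complex character of N of 2-defect zero (the 2-part of #N divides φ(1)) whose complex conjugate is G-conjugate to φ. Then some irreducible character of G with Frobenius–Schur indicator +1 contains φ with multiplicity exactly one on restriction to N. -/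
theorem result {G : Type*} [Group G] [Finite G] (N : Subgroup G) [N.Normal] (h2 : IsPGroup 2 (G ⧸ N)) (φ : Cfsg.IrrCharacter ↥N) (hdef : 2 ^ (Nat.card ↥N).factorization 2 ∣ Cfsg.charDegree (φ : ↥N → ℂ)) (hconj : ∃ g : G, ∀ n n' : ↥N, (n' : G) = g * (n : G) * g⁻¹ → (φ : ↥N → ℂ) n' = (starRingEnd ℂ) ((φ : ↥N → ℂ) n)) : ∃ χ : Cfsg.IrrCharacter G, (Nat.card G : ℂ)⁻¹ * ∑ᶠ g : G, (χ : G → ℂ) (g * g) = 1 ∧ (Nat.card ↥N : ℂ)⁻¹ * ∑ᶠ n : ↥N, (χ : G → ℂ) n * (starRingEnd ℂ) ((φ : ↥N → ℂ) n) = 1 := by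
  classical
  haveI := Fintype.ofFinite G
  haveI := Fintype.ofFinite N
  haveI : Fact (Nat.Prime 2) := ⟨Nat.prime_two⟩
  obtain ⟨M, hM⟩ := H22.exists_isPModular 2 Nat.prime_two
  set d := H12.degree (φ : ↥N → ℂ) with hd
  have hd1 : (φ : ↥N → ℂ) 1 = (d : ℂ) := H12.irr_apply_one φ
  have hd0 : 0 < d := H12.irr_degree_pos φ
  have hN0 : Nat.card N ≠ 0 := Nat.card_pos.ne'
  have hdz : (Cfsg.charDegree (φ : ↥N → ℂ)).factorization 2 = (Nat.card N).factorization 2 :=
    le_antisymm ((Nat.factorization_le_iff_dvd hd0.ne' hN0).2 (H12.irr_degree_dvd_card φ) 2)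
      ((Nat.prime_two.pow_dvd_iff_le_factorization hd0.ne').1 hdef)
  have hvan := H24.vanish_of_defect_zero hM φ hdz
  let S : Sylow 2 G := default
  haveI := Fintype.ofFinite (S : Subgroup G)
  set F := Cfsg.indFun N (φ : ↥N → ℂ) with hF
  have hFcl : Cfsg.IsClassFunction G F := H12.indFun_isClassFunction N _
  -- multiplicities
  set e : Cfsg.IrrCharacter G → ℕ := fun χ => H12.Glauberman.mult N χ φ with he
  have hFsum : ∀ g, F g = ∑ χ : Cfsg.IrrCharacter G, (e χ : ℂ) * (χ : G → ℂ) g := by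
    intro g
    rw [H12.classFunction_apply_eq_sum hFcl g]
    refine Finset.sum_congr rfl fun χ _ => ?_
    rw [hF, H12.classInner_indFun N _ (H12.irr_isClassFunction χ), ← H12.conj_classInner,
      H12.Glauberman.classInner_eq_mult, Complex.conj_natCast]
  choose t ht using fun χ : Cfsg.IrrCharacter G => H12.IsCharacter.classInner_nat
    (H12.IsCharacter.res (H12.isCharacter_irr χ) (S : Subgroup G))
    (H12.isCharacter_irr (H12.oneIrr (S : Subgroup G)))
  have htsum : ∀ χ : Cfsg.IrrCharacter G,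
      ∑ x : (S : Subgroup G), (χ : G → ℂ) x = (Nat.card (S : Subgroup G) : ℂ) * (t χ : ℂ) := by
    intro χ
    rw [← ht χ, ← H12.sum_mul_conj_eq_card_mul]
    simp [H12.oneIrr_apply]
  -- the induced character on the Sylow subgroup
  obtain ⟨k, hk⟩ := h2.exists_card_eq
  rw [← Subgroup.index_eq_card] at hk
  have hcardG : 2 ^ k * Nat.card N = Nat.card G := by rw [← hk, Subgroup.index_mul_card]
  obtain ⟨m, hm⟩ : 2 ^ (Nat.card N).factorization 2 ∣ d := hdef
  have hmodd : Odd m := by
    rw [Nat.odd_iff, ← Nat.two_dvd_ne_zero]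
    intro h
    obtain ⟨j, rfl⟩ := h
    have : 2 ^ ((Nat.card N).factorization 2 + 1) ∣ Nat.card N :=
      (Dvd.intro j (by rw [hm]; ring : 2 ^ ((Nat.card N).factorization 2 + 1) * j = d)).trans
        (H12.irr_degree_dvd_card φ)
    have := (Nat.prime_two.pow_dvd_iff_le_factorization hN0).1 this
    omega
  have hS : Nat.card (S : Subgroup G) * m = 2 ^ k * d := by
    rw [S.card_eq_multiplicity, ← hcardG, Nat.factorization_mul (by positivity) hN0,
      Nat.prime_two.factorization_pow, Finsupp.coe_add, Pi.add_apply, Finsupp.single_eq_same,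
      pow_add, hm]
    ring
  have hFS : ∑ x : (S : Subgroup G), F x = (Nat.card (S : Subgroup G) : ℂ) * (m : ℂ) := by
    rw [Finset.sum_eq_single (1 : (S : Subgroup G))]
    · rw [OneMemClass.coe_one, hF, H12.indFun_one, hd1, hk]
      exact_mod_cast hS.symm
    · intro x _ hx
      rw [hF, H12.indFun_apply, Finset.sum_eq_zero, mul_zero]
      intro y _
      rw [H12.extendByZero_eq_dite]
      split_ifs with h
      · refine hvan ⟨_, h⟩ (fun e => hx ?_) ?_
        · have e' : y⁻¹ * (x : G) * y = 1 := congrArg Subtype.val e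
          apply Subtype.ext
          calc (x : G) = y * (y⁻¹ * x * y) * y⁻¹ := by group
            _ = 1 := by rw [e', mul_one, mul_inv_cancel]
        · obtain ⟨j, hj⟩ := S.isPGroup' x
          refine ⟨j, Subtype.ext ?_⟩
          have hj' : (x : G) ^ 2 ^ j = 1 := congrArg Subtype.val hj
          show (y⁻¹ * (x : G) * y) ^ 2 ^ j = 1
          have hc := conj_pow (a := y⁻¹) (b := (x : G)) (i := 2 ^ j)
          rw [inv_inv] at hc
          rw [hc, hj', mul_one, inv_mul_cancel]
      · rfl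
    · simp
  have hpar : Odd (∑ χ : Cfsg.IrrCharacter G, e χ * t χ) := by
    have : ((∑ χ : Cfsg.IrrCharacter G, e χ * t χ : ℕ) : ℂ) = (m : ℂ) := by
      have hc : (Nat.card (S : Subgroup G) : ℂ) ≠ 0 := H12.card_ne_zero'
      apply mul_left_cancel₀ hc
      rw [← hFS]
      simp only [hFsum]
      rw [Finset.sum_comm]
      push_cast
      rw [Finset.mul_sum]
      refine Finset.sum_congr rfl fun χ _ => ?_
      rw [← Finset.mul_sum, htsum]
      ring
    rw [Nat.cast_inj] at this
    rw [this]; exact hmodd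
  -- conjugation symmetry
  obtain ⟨g, hg⟩ := hconj
  have htw : H13.twist N g (φ : ↥N → ℂ) = fun n => conj ((φ : ↥N → ℂ) n) :=
    funext fun n => hg n _ rfl
  have hesym : ∀ χ : Cfsg.IrrCharacter G, e (H12.conjIrr χ) = e χ ∧ t (H12.conjIrr χ) = t χ := by
    intro χ
    constructor
    · have h1 : (e (H12.conjIrr χ) : ℂ) = (e χ : ℂ) := by
        rw [← Complex.conj_natCast (e χ), he]
        simp only [← H12.Glauberman.classInner_eq_mult]
        conv_rhs => rw [← H13.classInner_twist N g, htw,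
          show H13.twist N g (fun n : N => (χ : G → ℂ) n) = fun n : N => (χ : G → ℂ) n from
            funext fun n => H12.irr_isClassFunction χ (n : G) g]
        simp only [H12.classInner_def, H12.conjIrr_apply, map_mul, map_sum, map_inv₀,
          Complex.conj_natCast, Complex.conj_conj]
      exact_mod_cast h1
    · have hc : (Nat.card (S : Subgroup G) : ℂ) ≠ 0 := H12.card_ne_zero'
      have h1 : (t (H12.conjIrr χ) : ℂ) = (t χ : ℂ) := by
        apply mul_left_cancel₀ hc
        rw [← htsum, ← Complex.conj_natCast (Nat.card (S : Subgroup G)), ← Complex.conj_natCast (t χ),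
          ← map_mul, ← htsum, map_sum]
        simp only [H12.conjIrr_apply]
      exact_mod_cast h1
  obtain ⟨χ, hodd, hfix⟩ : ∃ χ : Cfsg.IrrCharacter G, Odd (e χ * t χ) ∧ H12.conjIrr χ = χ := by
    by_contra hne
    have hz : ∑ χ : Cfsg.IrrCharacter G, ((e χ * t χ : ℕ) : ZMod 2) = 0 := by
      refine Finset.sum_involution (fun χ _ => H12.conjIrr χ) (fun χ _ => ?_) (fun χ _ hχ hfix => ?_)
        (fun χ _ => Finset.mem_univ _) (fun χ _ => ?_)
      · rw [(hesym χ).1, (hesym χ).2]; exact CharTwo.add_self_eq_zero _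
      · exact hne ⟨χ, (Nat.odd_iff.2 (by
          by_contra h
          exact hχ ((ZMod.natCast_eq_zero_iff_even).2 (Nat.even_iff.2 (by omega))))), hfix⟩
      · exact Subtype.ext (funext fun x => by simp [H12.conjIrr_apply])
    rw [← Nat.cast_sum] at hz
    exact (Nat.not_even_iff_odd.2 hpar) (ZMod.natCast_eq_zero_iff_even.1 hz)
  obtain ⟨heo, hto⟩ := Nat.odd_mul.1 hodd
  have hreal : ∀ x, ((χ : G → ℂ) x).im = 0 := fun x => Complex.conj_eq_iff_im.1 (by
    conv_rhs => rw [← hfix]
    rfl)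
  have hfs := H25.fsInd_eq_one_of_odd_fixed χ hreal (S : Subgroup G) (t χ) hto (htsum χ)
  -- multiplicity one
  have hm0 : H12.Glauberman.mult N χ φ ≠ 0 := fun h => by
    have : e χ = 0 := h
    rw [this] at heo
    exact (by decide : ¬ Odd 0) heo
  have he1 : e χ = 1 := by
    have hne0 := (H12.InvConst.mult_ne_zero_iff N χ φ).1 hm0
    have hcl := congrFun (H13.clifford_res N χ.2 φ.2 hne0
      (Finset.univ.filter fun ψ => ∃ x, H13.twist N x (φ : ↥N → ℂ) = ψ) (by simp)) 1
    set s := Finset.univ.filter fun ψ : Cfsg.IrrCharacter N => ∃ x, H13.twist N x (φ : ↥N → ℂ) = ψ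
    rw [H12.Glauberman.classInner_eq_mult] at hcl
    simp only [OneMemClass.coe_one, Pi.smul_apply, Finset.sum_apply, smul_eq_mul] at hcl
    rw [Finset.sum_congr rfl (fun ψ hψ => by
      obtain ⟨x, hx⟩ := (Finset.mem_filter.1 hψ).2
      rw [← hx, H13.twist_apply, ← hd1]
      exact congrArg _ (Subtype.ext (by simp)) : ∀ ψ ∈ s, (ψ : ↥N → ℂ) 1 = (d : ℂ)),
      Finset.sum_const, nsmul_eq_mul, H12.irr_apply_one] at hcl
    have hdeg : H12.degree (χ : G → ℂ) = e χ * (s.card * d) := by exact_mod_cast hcl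
    obtain ⟨-, hdvd⟩ := Cfsg.Agent.S0887.result N (χ : G → ℂ) χ.2 (φ : ↥N → ℂ) φ.2 hne0 _ _
      (H12.irr_apply_one χ) hd1
    rw [hdeg, ← mul_assoc, Nat.mul_div_cancel _ hd0, hk] at hdvd
    obtain ⟨j, -, hj⟩ := (Nat.dvd_prime_pow Nat.prime_two).1 ((Dvd.intro _ rfl).trans hdvd)
    rcases j with _ | j
    · simpa using hj
    · exfalso
      rw [hj, pow_succ] at heo
      exact (Nat.not_odd_iff_even.2 (even_two.mul_left _)) heo
  refine ⟨χ, ?_, ?_⟩
  · rw [finsum_eq_sum_of_fintype]
    exact hfs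
  · rw [finsum_eq_sum_of_fintype, ← H12.classInner_def, H12.Glauberman.classInner_eq_mult]
    show (e χ : ℂ) = 1
    rw [he1, Nat.cast_one]

end Cfsg.Agent.S4872
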