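-- Proof of statement S4873.
import Cfsg.Statements.S4873
import Cfsg.Agent.H25.Indicator
import Cfsg.Agent.H13.Clifford
import Cfsg.Agent.H12.Induction

set_option autoImplicit false
open Cfsg
open scoped ComplexConjugate

namespace Cfsg.Agent.S4873

variable {G : Type*} [Group G] [Fintype G] (N : Subgroup G) [N.Normal]

omit [Fintype G] in
theorem mem_of_isConj_coset [Finite G] (hodd : Odd N.index) {g x : G} (hx : x ∈ N)
    (hc : IsConj (x * g) g⁻¹) : g ∈ N := by
  obtain ⟨c, hc⟩ := isConj_iff.1 hc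
  have h := congrArg (QuotientGroup.mk' N) hc
  simp only [map_mul, map_inv] at h
  rw [show QuotientGroup.mk' N x = 1 from (QuotientGroup.eq_one_iff x).2 hx, one_mul] at h
  generalize QuotientGroup.mk' N c = a at h
  rw [← QuotientGroup.eq_one_iff]
  change QuotientGroup.mk' N g = 1
  generalize QuotientGroup.mk' N g = q at h
  have hcard : Nat.card (G ⧸ N) = N.index := rfl
  obtain ⟨k, hk⟩ := hodd
  -- `a ^ 2` centralizes `q`, hence so does `a`
  have h' : a * q = q⁻¹ * a := by rw [← h, inv_mul_cancel_right]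
  have h'' : a * q⁻¹ = q * a := by
    have e : a * q⁻¹ * a⁻¹ = q := by
      have := congrArg (fun y => y⁻¹) h
      simpa [mul_assoc] using this
    calc a * q⁻¹ = a * q⁻¹ * a⁻¹ * a := by group
      _ = q * a := by rw [e]
  have h2 : Commute (a ^ 2) q := by
    show a ^ 2 * q = q * a ^ 2
    rw [sq, mul_assoc, h', ← mul_assoc, h'', mul_assoc]
  have ha : Commute a q := by
    have : a = (a ^ 2) ^ (k + 1) := by
      rw [← pow_mul, show 2 * (k + 1) = Nat.card (G ⧸ N) + 1 by omega, pow_succ, pow_card_eq_one',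
        one_mul]
    rw [this]
    exact h2.pow_left _
  have hq : q ^ 2 = 1 := by
    have e : q⁻¹ * a = q * a := by rw [← h', ha.eq]
    rw [sq, ← inv_inj, mul_inv_rev, inv_one]
    nth_rw 1 [mul_right_cancel e]
    exact mul_inv_cancel q
  have : q = (q ^ 2) ^ (k + 1) := by
    rw [← pow_mul, show 2 * (k + 1) = Nat.card (G ⧸ N) + 1 by omega, pow_succ, pow_card_eq_one',
      one_mul]
  rw [this, hq, one_pow]

/-- Translation by a class function supported anywhere acts on an irreducible character by a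
scalar. -/
theorem sum_mul_translate {f : G → ℂ} (hf : IsClassFunction G f) (χ : IrrCharacter G) (g : G) :
    ∑ x : G, f x * (χ : G → ℂ) (x * g) =
      (∑ x : G, f x * (χ : G → ℂ) x) / (χ : G → ℂ) 1 * (χ : G → ℂ) g := by
  obtain ⟨n, ρ, hρ, hχ⟩ := χ.2
  haveI := hρ
  have h := congrArg (fun T => LinearMap.trace ℂ (Fin n → ℂ) (T * ρ g)) (H12.avgOp_eq_smul ρ hf)
  simp only [H12.avgOp, Finset.sum_mul, smul_mul_assoc, one_mul, map_sum, map_smul, smul_eq_mul,
    ← map_mul] at h
  rw [← hχ, Representation.char_one]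
  exact h

/-- There is one real character over `φ`. -/
theorem exists_unique_real (hodd : Odd N.index) (φ : IrrCharacter N)
    (hreal : ∀ n, conj ((φ : N → ℂ) n) = (φ : N → ℂ) n) [Fintype N]
    (m : IrrCharacter G → ℕ)
    (hm : ∀ χ : IrrCharacter G, classInner (φ : N → ℂ) (fun n : N => (χ : G → ℂ) n) = (m χ : ℂ)) :
    ∃ χ₀, ∀ χ, (m χ ≠ 0 ∧ H12.conjIrr χ = χ) ↔ χ = χ₀ := by
  classical
  set Φ := indFun N (φ : N → ℂ) with hΦdef
  have hΦcl : IsClassFunction G Φ := H12.indFun_isClassFunction N _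
  have hmul : ∀ χ : IrrCharacter G, classInner Φ (χ : G → ℂ) = (m χ : ℂ) := fun χ => by
    rw [hΦdef, H12.classInner_indFun N _ (H12.irr_isClassFunction χ), hm]
  have hΦreal : ∀ g, conj (Φ g) = Φ g := by
    intro g
    simp only [hΦdef, indFun, map_mul, map_inv₀, map_natCast, map_sum]
    congr 1
    refine Finset.sum_congr rfl fun x _ => ?_
    rw [H12.extendByZero_eq_dite]
    split_ifs
    · exact hreal _
    · exact map_zero _
  have hΦsum : Φ = ∑ χ : IrrCharacter G, (m χ : ℂ) • (χ : G → ℂ) := by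
    conv_lhs => rw [H12.classFunction_eq_sum hΦcl]
    simp only [hmul]
  set c : ℕ := ∑ χ, m χ * m χ with hc
  have hΦΦ : classInner Φ Φ = (c : ℂ) := by
    rw [H12.classInner_eq_sum_mul hΦcl hΦcl, hc]
    push_cast
    exact Finset.sum_congr rfl fun χ _ => by rw [hmul]; simp
  have hΦ1 : Φ 1 ≠ 0 := by
    rw [hΦdef, H12.indFun_one]
    exact mul_ne_zero (by exact_mod_cast Subgroup.index_ne_zero_of_finite)
      (H12.irr_apply_one_ne_zero φ)
  have hc0 : (c : ℂ) ≠ 0 := by
    rw [← hΦΦ, Ne, H12.classInner_self_eq_zero_iff]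
    exact fun h => hΦ1 (congrFun h 1)
  -- restrictions are proportional
  obtain ⟨s, hs⟩ : ∃ s : Finset (IrrCharacter N), ∀ ψ : IrrCharacter N,
      ψ ∈ s ↔ ∃ x, H13.twist N x (φ : N → ℂ) = ψ :=
    ⟨Finset.univ.filter fun ψ : IrrCharacter N => ∃ x, H13.twist N x (φ : N → ℂ) = (ψ : N → ℂ),
      fun ψ => by simp⟩
  have hresS : ∀ χ : IrrCharacter G, m χ ≠ 0 → ∀ n : N,
      (χ : G → ℂ) n = (m χ : ℂ) * ∑ ψ ∈ s, (ψ : N → ℂ) n := by
    intro χ hχ n
    have e : classInner (fun n : N => (χ : G → ℂ) n) (φ : N → ℂ) = (m χ : ℂ) := by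
      rw [← H12.conj_classInner, hm, map_natCast]
    have := congrFun (H13.clifford_res N χ.2 φ.2 (by rw [e]; exact_mod_cast hχ) s hs) n
    rw [e] at this
    simpa [Finset.sum_apply] using this
  have hΦS : ∀ n : N, Φ n = (c : ℂ) * ∑ ψ ∈ s, (ψ : N → ℂ) n := by
    intro n
    rw [hΦsum, Finset.sum_apply, hc, Nat.cast_sum, Finset.sum_mul]
    refine Finset.sum_congr rfl fun χ _ => ?_
    by_cases hχ : m χ = 0
    · simp [hχ]
    · rw [Pi.smul_apply, smul_eq_mul, hresS χ hχ n, Nat.cast_mul]; ring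
  have hres : ∀ χ : IrrCharacter G, m χ ≠ 0 → ∀ n : N,
      (c : ℂ) * (χ : G → ℂ) n = (m χ : ℂ) * Φ n := fun χ hχ n => by
    rw [hresS χ hχ n, hΦS]; ring
  have hout : ∀ g ∉ N, Φ g = 0 := fun g hg => H13.indFun_normal_notMem N _ hg
  have hw : ∀ χ : IrrCharacter G, (∑ x : G, Φ x * (χ : G → ℂ) x) / (χ : G → ℂ) 1 =
      if m χ = 0 then 0 else (Nat.card G : ℂ) * (c : ℂ) / Φ 1 := by
    intro χ
    have e : ∑ x : G, Φ x * (χ : G → ℂ) x = (Nat.card G : ℂ) * (m χ : ℂ) := by
      have h := H12.sum_mul_conj_eq_card_mul (χ : G → ℂ) Φ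
      simp only [hΦreal] at h
      rw [← H12.conj_classInner Φ, hmul, map_natCast] at h
      rw [← h]
      exact Finset.sum_congr rfl fun x _ => mul_comm _ _
    rw [e]
    split_ifs with h0
    · simp [h0]
    · have := hres χ h0 1
      rw [Subgroup.coe_one] at this
      have := H12.irr_apply_one_ne_zero χ
      field_simp
      linear_combination (-1 : ℂ) * hres χ h0 1
  let X : Finset (IrrCharacter G) := {χ | m χ ≠ 0}
  have hvan : ∀ g ∉ N, ∑ χ ∈ X, (χ : G → ℂ) g * (χ : G → ℂ) g = 0 := by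
    intro g hg
    have hz : ∑ χ : IrrCharacter G,
        ((∑ x : G, Φ x * (χ : G → ℂ) x) / (χ : G → ℂ) 1 * (χ : G → ℂ) g) * (χ : G → ℂ) g = 0 := by
      simp only [← sum_mul_translate hΦcl, Finset.sum_mul]
      rw [Finset.sum_comm]
      refine Finset.sum_eq_zero fun x _ => ?_
      by_cases hx : x ∈ N
      · simp only [mul_assoc, ← Finset.mul_sum]
        have h := H12.column_orthogonality (x * g) g⁻¹
        simp only [H12.irr_inv, Complex.conj_conj] at h
        rw [h, if_neg (fun h' => hg (mem_of_isConj_coset N hodd hx h')), mul_zero]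
      · simp [hout x hx]
    simp only [hw, ite_mul, zero_mul, Finset.sum_ite, Finset.sum_const_zero, zero_add, mul_assoc,
      ← Finset.mul_sum] at hz
    have hne : (Nat.card G : ℂ) * (c : ℂ) / Φ 1 ≠ 0 :=
      div_ne_zero (mul_ne_zero H12.card_ne_zero' hc0) hΦ1
    rcases mul_eq_zero.1 hz with h | h
    · exact absurd h hne
    · exact h
  have hcount : ((X.filter fun χ => H12.conjIrr χ = χ).card : ℂ) * (Nat.card G : ℂ) =
      (Nat.card G : ℂ) := by
    have h1 : ∀ χ : IrrCharacter G, ∑ g : G, (χ : G → ℂ) g * (χ : G → ℂ) g =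
        if H12.conjIrr χ = χ then (Nat.card G : ℂ) else 0 := by
      intro χ
      have h := H12.sum_mul_conj_eq_card_mul (χ : G → ℂ) (H12.conjIrr χ : G → ℂ)
      simp only [H12.conjIrr_apply, Complex.conj_conj] at h
      rw [h]
      split_ifs with hr
      · rw [hr, H12.classInner_irr_self, mul_one]
      · rw [H12.classInner_irr_ne (Ne.symm hr), mul_zero]
    have h2 : ∑ χ ∈ X, ∑ g : G, (χ : G → ℂ) g * (χ : G → ℂ) g =
        ∑ χ ∈ X, ∑ n : N, (χ : G → ℂ) n * (χ : G → ℂ) n := by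
      rw [Finset.sum_comm, Finset.sum_comm (s := X)]
      refine (Finset.sum_of_injOn (fun n : N => (n : G)) Subtype.val_injective.injOn
        (fun _ _ => Finset.mem_univ _) (fun g _ hg => hvan g fun h => hg ⟨⟨g, h⟩, by simp, rfl⟩)
        (fun n _ => rfl)).symm
    have h3 : ∀ χ ∈ X, ∑ n : N, (χ : G → ℂ) n * (χ : G → ℂ) n =
        (m χ * m χ : ℕ) * ((Nat.card G : ℂ) / c) := by
      intro χ hχ
      have hχ' : m χ ≠ 0 := (Finset.mem_filter.1 hχ).2
      have hΦsq : ∑ n : N, Φ n * Φ n = (Nat.card G : ℂ) * c := by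
        have h := H12.sum_mul_conj_eq_card_mul Φ Φ
        simp only [hΦreal] at h
        rw [← hΦΦ, ← h]
        exact Finset.sum_of_injOn (fun n : N => (n : G)) Subtype.val_injective.injOn
          (fun _ _ => Finset.mem_univ _)
          (fun g _ hg => by rw [hout g fun h => hg ⟨⟨g, h⟩, by simp, rfl⟩, zero_mul])
          (fun n _ => rfl)
      have e : ∀ n : N, (χ : G → ℂ) n = (m χ : ℂ) / c * Φ n := fun n => by
        have := hres χ hχ' n
        field_simp
        linear_combination this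
      simp only [e]
      have : ∑ n : N, (m χ : ℂ) / c * Φ n * ((m χ : ℂ) / c * Φ n) =
          ((m χ : ℂ) / c * ((m χ : ℂ) / c)) * ∑ n : N, Φ n * Φ n := by
        rw [Finset.mul_sum]; exact Finset.sum_congr rfl fun n _ => by ring
      rw [this, hΦsq]
      push_cast
      field_simp
    simp only [h1, Finset.sum_congr rfl h3, ← Finset.sum_mul, Finset.sum_ite, Finset.sum_const,
      Finset.sum_const_zero, mul_zero, add_zero, nsmul_eq_mul, ← Nat.cast_sum] at h2
    have hX : ∑ χ ∈ X, m χ * m χ = c := Finset.sum_filter_of_ne fun χ _ h h0 => h (by simp [h0])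
    rw [hX] at h2
    rw [h2]
    field_simp
  obtain ⟨χ₀, h₀⟩ := Finset.card_eq_one.1 (show (X.filter fun χ => H12.conjIrr χ = χ).card = 1 by
    have := (mul_eq_right₀ H12.card_ne_zero').1 hcount
    exact_mod_cast this)
  refine ⟨χ₀, fun χ => ?_⟩
  have := congrArg (χ ∈ ·) h₀
  simpa [X] using this

/-- Let N be a normal subgroup of odd index in the finite group G. Then every irreducible complex character of N with Frobenius–Schur indicator +1 lies under exactly one irreducible character of G with Frobenius–Schur indicator +1. -/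
theorem result {G : Type*} [Group G] [Finite G] (N : Subgroup G) [N.Normal] (hodd : Odd N.index) (φ : Cfsg.IrrCharacter ↥N) (hφ : (Nat.card ↥N : ℂ)⁻¹ * ∑ᶠ g : ↥N, (φ : ↥N → ℂ) (g * g) = 1) : ∃! χ : Cfsg.IrrCharacter G, (Nat.card G : ℂ)⁻¹ * ∑ᶠ g : G, (χ : G → ℂ) (g * g) = 1 ∧ (∑ᶠ n : ↥N, (χ : G → ℂ) n * (starRingEnd ℂ) ((φ : ↥N → ℂ) n)) ≠ 0 := by
  classical
  haveI := Fintype.ofFinite G
  haveI := Fintype.ofFinite N
  simp only [finsum_eq_sum_of_fintype] at hφ ⊢
  have hφ' : H17.fsInd (φ : N → ℂ) = 1 := hφ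
  have hreal : ∀ n, conj ((φ : N → ℂ) n) = (φ : N → ℂ) n := fun n =>
    Complex.conj_eq_iff_im.2 (H25.real_of_fsInd_ne_zero φ (by rw [hφ']; exact one_ne_zero) n)
  choose m hm using fun χ : IrrCharacter G => H12.IsCharacter.classInner_nat
    (H12.isCharacter_irr φ) (H12.IsCharacter.res (H12.isCharacter_irr χ) N)
  obtain ⟨χ₀, h₀⟩ := exists_unique_real N hodd φ hreal m hm
  set Φ := indFun N (φ : N → ℂ) with hΦdef
  have hmul : ∀ χ : IrrCharacter G, classInner Φ (χ : G → ℂ) = (m χ : ℂ) := fun χ => by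
    rw [hΦdef, H12.classInner_indFun N _ (H12.irr_isClassFunction χ), hm]
  -- the indicator of the induced character
  have hind : ∑ g : G, Φ (g * g) = (Nat.card G : ℂ) := by
    have h1 : ∑ g : G, Φ (g * g) = ∑ n : N, Φ ((n : G) * n) := by
      refine (Finset.sum_of_injOn (fun n : N => (n : G)) Subtype.val_injective.injOn
        (fun _ _ => Finset.mem_univ _) (fun g _ hg => H13.indFun_normal_notMem N _ fun h => hg ?_)
        (fun n _ => rfl)).symm
      have : g ∈ N := by
        rw [← QuotientGroup.eq_one_iff]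
        change QuotientGroup.mk' N g = 1
        have h2 : QuotientGroup.mk' N g * QuotientGroup.mk' N g = 1 := by
          rw [← map_mul]; exact (QuotientGroup.eq_one_iff _).2 h
        obtain ⟨k, hk⟩ := hodd
        have hcard : Nat.card (G ⧸ N) = N.index := rfl
        have := pow_card_eq_one' (x := QuotientGroup.mk' N g)
        rwa [hcard, hk, pow_succ, pow_mul, pow_two, h2, one_pow, one_mul] at this
      exact ⟨⟨g, this⟩, by simp, rfl⟩
    rw [h1]
    have h2 : ∀ n : N, Φ ((n : G) * n) =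
        (Nat.card N : ℂ)⁻¹ * ∑ x : G, H13.twist N x (φ : N → ℂ) (n * n) := by
      intro n
      have := congrFun (H13.res_indFun N (φ : N → ℂ)) (n * n)
      simpa [hΦdef, Finset.sum_apply] using this
    simp only [h2, ← Finset.mul_sum]
    rw [Finset.sum_comm]
    have h3 : ∀ x : G, ∑ n : N, H13.twist N x (φ : N → ℂ) (n * n) =
        ∑ n : N, (φ : N → ℂ) (n * n) := by
      intro x
      refine Fintype.sum_equiv (MulAut.conjNormal x : N ≃* N).toEquiv _ _ fun n => ?_
      rw [H13.twist_eq_comp]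
      simp
    simp only [h3, Finset.sum_const, Finset.card_univ, nsmul_eq_mul, ← Nat.card_eq_fintype_card]
    rw [mul_left_comm, hφ, mul_one]
  have hsum : ∑ χ : IrrCharacter G, (m χ : ℂ) * H17.fsInd (χ : G → ℂ) = 1 := by
    simp only [H17.fsInd, Finset.mul_sum, mul_left_comm _ (Nat.card G : ℂ)⁻¹]
    rw [Finset.sum_comm]
    have : ∀ g : G, ∑ χ : IrrCharacter G,
        (Nat.card G : ℂ)⁻¹ * ((m χ : ℂ) * (χ : G → ℂ) (g * g)) =
        (Nat.card G : ℂ)⁻¹ * Φ (g * g) := by
      intro g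
      rw [← Finset.mul_sum, H12.classFunction_apply_eq_sum (f := Φ)
        (H12.indFun_isClassFunction N _) (g * g)]
      simp only [hmul]
    rw [Finset.sum_congr rfl fun g _ => this g, ← Finset.mul_sum, hind,
      inv_mul_cancel₀ H12.card_ne_zero']
  have hkey : ∀ χ : IrrCharacter G, m χ ≠ 0 → H17.fsInd (χ : G → ℂ) ≠ 0 → χ = χ₀ :=
    fun χ h1 h2 => (h₀ χ).1 ⟨h1, Subtype.ext (funext fun g => by
      rw [H12.conjIrr_apply]
      exact Complex.conj_eq_iff_im.2 (H25.real_of_fsInd_ne_zero χ h2 g))⟩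
  have hm0 : m χ₀ ≠ 0 := ((h₀ χ₀).2 rfl).1
  have hν : H17.fsInd (χ₀ : G → ℂ) = 1 := by
    rw [Finset.sum_eq_single χ₀ (fun χ _ hne => by
      by_contra h
      obtain ⟨h1, h2⟩ := mul_ne_zero_iff.1 h
      exact hne (hkey χ (by exact_mod_cast h1) h2)) (fun h => absurd (Finset.mem_univ _) h)] at hsum
    rcases H25.fsInd_irr_cases χ₀ with h | ⟨h | h, -⟩
    · rw [h, mul_zero] at hsum; exact absurd hsum zero_ne_one
    · exact h
    · rw [h, mul_neg, mul_one] at hsum
      have := congrArg Complex.re hsum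
      simp only [Complex.neg_re, Complex.natCast_re, Complex.one_re] at this
      linarith [(Nat.cast_nonneg (m χ₀) : (0 : ℝ) ≤ m χ₀)]
  have hiff : ∀ χ : IrrCharacter G,
      (∑ n : N, (χ : G → ℂ) n * conj ((φ : N → ℂ) n)) ≠ 0 ↔ m χ ≠ 0 := by
    intro χ
    rw [H12.sum_mul_conj_eq_card_mul (fun n : N => (χ : G → ℂ) n), ← H12.conj_classInner, hm,
      map_natCast, mul_ne_zero_iff]
    simp [Nat.card_pos.ne']
  refine ⟨χ₀, ⟨hν, (hiff χ₀).2 hm0⟩, fun χ ⟨h1, h2⟩ => hkey χ ((hiff χ).1 h2) ?_⟩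
  rw [show H17.fsInd (χ : G → ℂ) = 1 from h1]
  exact one_ne_zero

end Cfsg.Agent.S4873
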