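import Cfsg.Statements.S4888
import Cfsg.Agent.H25.PrincipalSum
import Cfsg.Agent.H25.ValueCongr
import Cfsg.Agent.H25.PGroupSum
import Cfsg.Agent.H25.CoprimeExtension
import Cfsg.Agent.H21.Covering
import Cfsg.Agent.H12.Linear
import Cfsg.Agent.H13.Clifford
import Mathlib

set_option autoImplicit false
set_option linter.unusedSectionVars false
set_option linter.style.haveILetI false

open Cfsg
open scoped ComplexConjugate

namespace Cfsg.Agent.S4888

universe u

variable {G : Type u} [Group G] [Finite G] {p : ℕ} [hp : Fact p.Prime] {M : Ideal AlgInt}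

theorem height_zero_iff (hM : IsPModular p M) {χ : IrrCharacter G} :
    blockHeight p (principalBlock M G) (χ : G → ℂ) = 0 ↔ ¬ p ∣ charDegree (χ : G → ℂ) := by
  have h0 : sInf ((fun ψ : IrrCharacter G => (charDegree (ψ : G → ℂ)).factorization p) ''
      principalBlock M G) = 0 := by
    refine Nat.sInf_eq_zero.2 (Or.inl ⟨H12.oneIrr G, H25.oneIrr_mem_principalBlock hM, ?_⟩)
    show (charDegree ((H12.oneIrr G : IrrCharacter G) : G → ℂ)).factorization p = 0
    rw [show charDegree ((H12.oneIrr G : IrrCharacter G) : G → ℂ) = 1 from H25.charDegree_one,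
      Nat.factorization_one]
    rfl
  rw [blockHeight, h0, Nat.sub_zero, Nat.factorization_eq_zero_iff]
  simp [hp.out, (H25.charDegree_pos χ).ne']

/-- The subgroup generated by the `p`-regular elements. -/
def regGen (p : ℕ) (G : Type u) [Group G] : Subgroup G :=
  Subgroup.closure {g : G | ¬ p ∣ orderOf g}

theorem regGen_normal : (regGen p G).Normal := by
  refine ⟨fun n hn c => ?_⟩
  induction hn using Subgroup.closure_induction with
  | mem x hx =>
    apply Subgroup.subset_closure
    show ¬ p ∣ orderOf (c * x * c⁻¹)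
    rwa [← MulAut.conj_apply, MulEquiv.orderOf_eq]
  | one => simp
  | mul x y _ _ hx hy =>
    have := mul_mem hx hy
    convert this using 1
    group
  | inv x _ hx =>
    have := inv_mem hx
    convert this using 1
    group

theorem qPart_mem (g : G) : H20.qPart p g ∈ regGen p G :=
  Subgroup.subset_closure (H20.not_dvd_orderOf_qPart g)

theorem regGen_index : ∃ a, (regGen p G).index = p ^ a := by
  haveI := regGen_normal (G := G) (p := p)
  have hq : IsPGroup p (G ⧸ regGen p G) := by
    intro x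
    obtain ⟨g, rfl⟩ := QuotientGroup.mk_surjective x
    refine ⟨(orderOf g).factorization p, ?_⟩
    rw [← QuotientGroup.mk_pow, QuotientGroup.eq_one_iff]
    have e : g ^ p ^ (orderOf g).factorization p = H20.qPart p g ^ p ^ (orderOf g).factorization p := by
      have h1 := congrArg (· ^ p ^ (orderOf g).factorization p) (H20.pPart_mul_qPart (p := p) g)
      simp only [(H20.commute_pPart_qPart g).mul_pow, H20.pPart_pow_ordProj, one_mul] at h1
      exact h1.symm
    rw [e]
    exact pow_mem (qPart_mem g) _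
  obtain ⟨a, ha⟩ := hq.exists_card_eq
  exact ⟨a, by rw [Subgroup.index, ha]⟩

theorem regGen_sup_sylow (P : Sylow p G) : regGen p G ⊔ (P : Subgroup G) = ⊤ := by
  obtain ⟨a, ha⟩ := regGen_index (G := G) (p := p)
  rw [← Subgroup.index_eq_one]
  have h1 : (regGen p G ⊔ (P : Subgroup G)).index ∣ p ^ a :=
    ha ▸ Subgroup.index_dvd_of_le le_sup_left
  have h2 : ¬ p ∣ (regGen p G ⊔ (P : Subgroup G)).index := fun h =>
    P.not_dvd_index (h.trans (Subgroup.index_dvd_of_le le_sup_right))
  exact Nat.eq_one_of_dvd_coprimes ((hp.out.coprime_iff_not_dvd.2 h2).pow_left a) h1 dvd_rfl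

theorem pow_ordCompl_eq_one {X : Type*} [Monoid X] (φ : G →* X) {g : G} (hg : ¬ p ∣ orderOf g) :
    φ g ^ ordCompl[p] (Nat.card G) = 1 := by
  rw [← map_pow, orderOf_dvd_iff_pow_eq_one.1 ?_, map_one]
  refine ((hp.out.coprime_iff_not_dvd.2 hg).symm.pow_right ((Nat.card G).factorization p)).dvd_of_dvd_mul_left ?_
  rw [Nat.ordProj_mul_ordCompl_eq_self]
  exact orderOf_dvd_natCard g

theorem det_pow_eq_one {V : Type} [AddCommGroup V] [Module ℂ V]
    (ρ : Representation ℂ (regGen p G) V) (r : regGen p G) :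
    LinearMap.det (ρ r) ^ ordCompl[p] (Nat.card G) = 1 := by
  obtain ⟨x, hx⟩ := r
  induction hx using Subgroup.closure_induction with
  | mem y hy =>
    set z : regGen p G := ⟨y, Subgroup.subset_closure hy⟩ with hz
    have hoz : ¬ p ∣ orderOf z := by
      rw [hz, ← Subgroup.orderOf_coe]; exact hy
    have h1 : LinearMap.det (ρ z) ^ orderOf z = 1 := by
      rw [← map_pow, ← map_pow, pow_orderOf_eq_one, map_one, map_one]
    have h2 : orderOf z ∣ ordCompl[p] (Nat.card G) := by
      refine ((hp.out.coprime_iff_not_dvd.2 hoz).symm.pow_right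
        ((Nat.card G).factorization p)).dvd_of_dvd_mul_left ?_
      rw [Nat.ordProj_mul_ordCompl_eq_self, hz, ← Subgroup.orderOf_coe]
      exact orderOf_dvd_natCard y
    obtain ⟨e, he⟩ := h2
    rw [he, pow_mul, h1, one_pow]
  | one =>
    rw [show (⟨1, one_mem _⟩ : regGen p G) = 1 from rfl, map_one, map_one, one_pow]
  | mul a b ha hb iha ihb =>
    rw [show (⟨a * b, mul_mem ha hb⟩ : regGen p G) = ⟨a, ha⟩ * ⟨b, hb⟩ from rfl, map_mul, map_mul,
      mul_pow, iha, ihb, one_mul]
  | inv a ha iha =>
    have h1 : LinearMap.det (ρ (⟨a, ha⟩ : regGen p G)⁻¹) * LinearMap.det (ρ ⟨a, ha⟩) = 1 := by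
      rw [← map_mul, ← map_mul, inv_mul_cancel, map_one, map_one]
    have h2 := congrArg (· ^ ordCompl[p] (Nat.card G)) h1
    simp only [mul_pow, iha, mul_one, one_pow] at h2
    exact h2

theorem mem_principalBlock_iff (χ : IrrCharacter G) :
    χ ∈ principalBlock M G ↔ ∀ g : G, MemLocalIdeal M
      (((Subgroup.centralizer ({g} : Set G)).index : ℂ) -
        centralChar (χ : G → ℂ) g) := by
  have h : ∀ g : G, centralChar (fun _ : G => (1 : ℂ)) g =
      ((Subgroup.centralizer ({g} : Set G)).index : ℂ) := fun g => by simp [centralChar]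
  refine forall_congr' fun g => ?_
  rw [h]

theorem index_centralizer_dvd (R : Subgroup G) [R.Normal] (y : R) :
    (Subgroup.centralizer ({y} : Set R)).index ∣
      (Subgroup.centralizer ({(y : G)} : Set G)).index := by
  have h : Subgroup.centralizer ({y} : Set R) =
      (Subgroup.centralizer ({(y : G)} : Set G)).subgroupOf R := by
    ext x
    simp [Subgroup.mem_centralizer_singleton_iff, Subgroup.mem_subgroupOf, Subtype.ext_iff]
  rw [h]
  show (Subgroup.centralizer ({(y : G)} : Set G)).relIndex R ∣ _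
  set C := Subgroup.centralizer ({(y : G)} : Set G)
  have e1 : R.relIndex C * C.index = (C ⊓ R).index := by
    rw [← Subgroup.inf_relIndex_right R C, inf_comm R C]
    exact Subgroup.relIndex_mul_index inf_le_left
  have e2 : C.relIndex R * R.index = (C ⊓ R).index := by
    rw [← Subgroup.inf_relIndex_right C R]
    exact Subgroup.relIndex_mul_index inf_le_right
  have e3 : R.relIndex C * (R ⊔ C).index = R.index := by
    rw [← Subgroup.relIndex_sup_left]
    exact Subgroup.relIndex_mul_index le_sup_left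
  refine ⟨(R ⊔ C).index, Nat.eq_of_mul_eq_mul_left (Nat.pos_of_ne_zero ?_) (e1.trans (e2.symm.trans ?_))⟩
  · exact Subgroup.index_ne_zero_of_finite (H := R.subgroupOf C)
  · rw [← e3]; ring

/-- An extension of `p'`-degree of a principal block character lies in the principal block. -/
theorem mem_principalBlock_of_restrict (hM : IsPModular p M) (R : Subgroup G) [R.Normal]
    (hq : ∀ g : G, H20.qPart p g ∈ R) (θ : IrrCharacter R) (hθ : θ ∈ principalBlock M R)
    (χ : IrrCharacter G) (hres : ∀ r : R, (χ : G → ℂ) r = (θ : R → ℂ) r)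
    (hd : ¬ p ∣ charDegree (θ : R → ℂ)) : χ ∈ principalBlock M G := by
  haveI := H20.isPrime_of_modular hM
  haveI := Fintype.ofFinite G
  rw [mem_principalBlock_iff]
  intro g
  set d := charDegree (θ : R → ℂ) with hd'
  have hθ1 : (θ : R → ℂ) 1 = (d : ℂ) := H25.irr_apply_one_eq θ
  have hχ1 : (χ : G → ℂ) 1 = (d : ℂ) := by rw [← hθ1, ← hres 1]; rfl
  have hd0 : (d : ℂ) ≠ 0 := by exact_mod_cast (H25.charDegree_pos θ).ne'
  have hdi : MemLocalRing M (d : ℂ)⁻¹ := H20.inv_natCast_memRing hM hd
  by_cases hC : p ∣ (Subgroup.centralizer ({g} : Set G)).index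
  · have hI := (H20.natCast_memIdeal_iff hM _).2 hC
    have h2 : MemLocalIdeal M (centralChar (χ : G → ℂ) g) := by
      have := H20.memIdeal_mul (H20.memRing_mul (H20.memRing_irr (M := M) χ g) hdi) hI
      convert this using 1
      rw [centralChar, hχ1]; ring
    have := H20.memIdeal_add hI (H20.memIdeal_mul (H20.memRing_neg (H20.memRing_natCast (M := M) 1)) h2)
    convert this using 1
    push_cast; ring
  · set y : R := ⟨H20.qPart p g, hq g⟩ with hy
    have hn : ¬ p ∣ (Subgroup.centralizer ({y} : Set R)).index := fun h =>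
      hC ((h.trans (index_centralizer_dvd R y)).trans
        (Subgroup.index_dvd_of_le (H25.centralizer_le_qPart g)))
    have h1 := hθ y
    rw [show centralChar (fun _ : R => (1 : ℂ)) y =
      ((Subgroup.centralizer ({y} : Set R)).index : ℂ) by simp [centralChar], centralChar, hθ1] at h1
    set n : ℂ := ((Subgroup.centralizer ({y} : Set R)).index : ℂ) with hndef
    have hn0 : n ≠ 0 := by
      rw [hndef]
      exact_mod_cast Subgroup.index_ne_zero_of_finite
    have h3 : MemLocalIdeal M (1 - (θ : R → ℂ) y / d) := by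
      have := H20.memIdeal_mul (H20.inv_natCast_memRing hM hn) h1
      convert this using 1
      rw [← hndef]
      field_simp
    have h4 := H20.memIdeal_mul hdi (H25.memIdeal_apply_sub_qPart (p := p) hM (H12.isCharacter_irr χ) g)
    have h5 := H20.memIdeal_mul (H20.memRing_neg (H20.memRing_natCast (M := M) 1)) h4
    have h6 := H20.memIdeal_mul
      (H20.memRing_natCast (M := M) (Subgroup.centralizer ({g} : Set G)).index) (H20.memIdeal_add h3 h5)
    convert h6 using 1
    rw [show (χ : G → ℂ) (H20.qPart p g) = (θ : R → ℂ) y from hres y, centralChar, hχ1]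
    field_simp
    push_cast
    ring

theorem backward (hM : IsPModular p M) (hN : HasNormalPComplement p G) (χ : IrrCharacter G)
    (hχ : χ ∈ principalBlock M G) (hdeg : ¬ p ∣ charDegree (χ : G → ℂ)) :
    charDegree (χ : G → ℂ) = 1 := by
  classical
  haveI := H20.isPrime_of_modular hM
  haveI := Fintype.ofFinite G
  obtain ⟨P, N, hNn, hc⟩ := hN
  haveI := hNn
  have hpN : ¬ p ∣ Nat.card N := by
    intro h
    exact P.not_dvd_index (hc.index_eq_card ▸ h)
  let a : MonoidAlgebra (H20.O M) G := H20.ofFun fun x => if x ∈ N then 1 else 0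
  have ha : H20.IsCl a := fun g h => by
    simp only [a, H20.coeff_ofFun]
    refine if_congr ?_ rfl rfl
    exact ⟨fun hh => by simpa [mul_assoc] using hNn.conj_mem _ hh h⁻¹, fun hh => hNn.conj_mem _ hh h⟩
  have hs : SameBlock M (H12.oneIrr G : G → ℂ) (χ : G → ℂ) := hχ
  have hw := H20.lam_eq_of_sameBlock hs (H20.rd a)
  rw [H20.lam_rd _ ha, H20.lam_rd _ ha, H20.redC_eq_iff (H20.memRing_omega _ ha)
    (H20.memRing_omega _ ha)] at hw
  have ecoe : ∀ x, (H20.emb a).coeff x = if x ∈ N then (1 : ℂ) else 0 := fun x => by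
    rw [H20.coeff_emb]
    simp only [a, H20.coeff_ofFun, apply_ite (fun z : H20.O M => (z : ℂ))]
    rfl
  have e1 : H20.omega ((H12.oneIrr G : IrrCharacter G) : G → ℂ) (H20.emb a) = (Nat.card N : ℂ) := by
    simp only [H20.omega, ecoe, H12.oneIrr_apply, mul_one, div_one, Finset.sum_boole]
    rw [Nat.card_eq_fintype_card, Fintype.card_subtype]
  have hω : H20.omega (χ : G → ℂ) (H20.emb a) ≠ 0 := by
    intro h0
    rw [e1, h0, sub_zero, H20.natCast_memIdeal_iff hM] at hw
    exact hpN hw
  obtain ⟨n, ρ, hρ, hχρ⟩ := χ.2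
  haveI := hρ
  haveI := H12.nontrivial_of_isIrreducible ρ
  rw [← hχρ] at hω
  have hop := H20.asAlgebraHom_eq_omega ρ ha.emb
  rw [H20.asAlgebraHom_eq_avgOp] at hop
  have hker : ∀ x ∈ N, ρ x = 1 := by
    intro x hx
    have h1 : ρ x * H12.avgOp ρ (fun g => (H20.emb a).coeff g) =
        H12.avgOp ρ (fun g => (H20.emb a).coeff g) := by
      simp only [H12.avgOp, Finset.mul_sum, mul_smul_comm, ← map_mul]
      refine Fintype.sum_equiv (Equiv.mulLeft x) _ _ fun g => ?_
      simp only [Equiv.coe_mulLeft, ecoe, Subgroup.mul_mem_cancel_left _ hx]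
    rw [hop, mul_smul_comm, mul_one] at h1
    exact smul_right_injective _ hω h1
  let ρP : Representation ℂ ↥(P : Subgroup G) (Fin n → ℂ) := ρ.comp (P : Subgroup G).subtype
  have hirrP : ρP.IsIrreducible := by
    refine @IsSimpleOrder.mk _ _ _ ⟨⊥, ⊤, fun h => ?_⟩ fun b => ?_
    · exact bot_ne_top (α := Submodule ℂ (Fin n → ℂ)) (congrArg Subrepresentation.toSubmodule h)
    · have h2 := eq_bot_or_eq_top (⟨b.toSubmodule, fun g v hv => by
        obtain ⟨⟨⟨x, hx⟩, ⟨y, hy⟩⟩, hxy⟩ := hc.2 g
        simp only at hxy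
        rw [← hxy, map_mul, hker x hx, one_mul]
        exact b.apply_mem_toSubmodule ⟨y, hy⟩ hv⟩ : Subrepresentation ρ)
      rcases h2 with h | h
      · exact Or.inl (Subrepresentation.toSubmodule_injective
          (congrArg Subrepresentation.toSubmodule h :))
      · exact Or.inr (Subrepresentation.toSubmodule_injective
          (congrArg Subrepresentation.toSubmodule h :))
  haveI := hirrP
  have hdv := H25.charDegree_dvd_card (H12.irrOf ρP)
  have heq : charDegree (χ : G → ℂ) =
      charDegree ((H12.irrOf ρP : IrrCharacter ↥(P : Subgroup G)) : ↥(P : Subgroup G) → ℂ) := by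
    rw [← hχρ]
    simp [charDegree, H12.irrOf]
  rw [← heq] at hdv
  obtain ⟨e, he⟩ := P.isPGroup'.exists_card_eq
  exact Nat.eq_one_of_dvd_coprimes ((hp.out.coprime_iff_not_dvd.2 hdeg).pow_left e)
    (he ▸ hdv) dvd_rfl

theorem forward (hM : IsPModular p M)
    (h : ∀ χ : IrrCharacter G, χ ∈ principalBlock M G → ¬ p ∣ charDegree (χ : G → ℂ) →
      charDegree (χ : G → ℂ) = 1) :
    HasNormalPComplement p G := by
  classical
  haveI := H20.isPrime_of_modular hM
  haveI := Fintype.ofFinite G
  obtain ⟨P⟩ : Nonempty (Sylow p G) := inferInstance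
  haveI hRn := regGen_normal (G := G) (p := p)
  set R := regGen p G with hR
  haveI := Fintype.ofFinite R
  by_cases hpR : p ∣ Nat.card R
  swap
  · refine ⟨P, R, hRn, ?_⟩
    obtain ⟨e, he⟩ := P.isPGroup'.exists_card_eq
    have hcop : (Nat.card R).Coprime (Nat.card P) := by
      rw [he]; exact ((hp.out.coprime_iff_not_dvd.2 hpR).symm.pow_right e)
    refine Subgroup.isComplement'_of_disjoint_and_mul_eq_univ
      (Subgroup.disjoint_of_coprime_natCard hcop) ?_
    rw [← Subgroup.normal_mul, regGen_sup_sylow, Subgroup.coe_top]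
  exfalso
  let α := {θ : IrrCharacter R // θ ∈ principalBlock M R}
  have hstab : ∀ (x : G) (θ : IrrCharacter R), θ ∈ principalBlock M R →
      H21.conjChar R x θ ∈ principalBlock M R := by
    intro x θ hθ
    have h1 : H21.conjChar R x (H12.oneIrr R) = H12.oneIrr R := Subtype.ext rfl
    have hθ' : SameBlock M (H12.oneIrr R : R → ℂ) (θ : R → ℂ) := hθ
    have h2 := H21.sameBlock_conjChar R x hθ'
    rw [h1] at h2
    exact h2
  letI act : MulAction P α :=
    { smul := fun x θ => ⟨H21.conjChar R ((x : G))⁻¹ θ.1, hstab _ _ θ.2⟩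
      one_smul := fun θ => Subtype.ext (by
        show H21.conjChar R ((1 : G))⁻¹ θ.1 = θ.1
        rw [inv_one, H21.conjChar_one])
      mul_smul := fun x y θ => Subtype.ext (by
        show H21.conjChar R ((x * y : G))⁻¹ θ.1 = H21.conjChar R (x : G)⁻¹ (H21.conjChar R (y : G)⁻¹ θ.1)
        rw [H21.conjChar_conjChar, mul_inv_rev]) }
  let f : α → ℕ := fun θ => charDegree (θ.1 : R → ℂ) ^ 2
  have hf : ∀ (x : P) θ, f (x • θ) = f θ := fun x θ => by
    show charDegree (H21.conjChar R ((x : G))⁻¹ θ.1 : R → ℂ) ^ 2 = charDegree (θ.1 : R → ℂ) ^ 2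
    congr 1
    simp only [charDegree, H21.conjChar_apply]
    congr 2
    exact congrArg _ (Subtype.ext (by simp))
  have hsum : p ∣ ∑ θ : α, f θ := by
    have := H25.dvd_sum_sq_block hM hpR (H20.isPBlock_principalBlock (M := M) (G := R))
    rw [← Finset.sum_filter] at this
    convert this using 1
    exact (Finset.sum_subtype (Finset.univ.filter fun θ => θ ∈ principalBlock M R)
      (fun θ => by simp) (fun θ : IrrCharacter R => charDegree (θ : R → ℂ) ^ 2)).symm
  have hmod := H25.sum_modEq_sum_fixedPoints P.isPGroup' f hf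
  set F := Finset.univ.filter (fun θ : α => θ ∈ MulAction.fixedPoints P α) with hF
  have hfix : ∀ θ ∈ F, ∀ (g : G) (r : R), (θ.1 : R → ℂ) (MulAut.conjNormal g r) = (θ.1 : R → ℂ) r := by
    intro θ hθ g r
    have hI : H13.inertia R (θ.1 : R → ℂ) = ⊤ := by
      rw [eq_top_iff, ← regGen_sup_sylow P, sup_le_iff]
      refine ⟨H13.le_inertia R (H12.irr_isClassFunction θ.1), fun x hx => ?_⟩
      have h1 := congrArg Subtype.val ((Finset.mem_filter.1 hθ).2 (⟨x, hx⟩⁻¹ : P))
      have h1' : H21.conjChar R ((((⟨x, hx⟩ : P)⁻¹ : P) : G))⁻¹ θ.1 = θ.1 := h1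
      rw [Subgroup.coe_inv, inv_inv] at h1'
      rw [H13.mem_inertia]
      funext n
      rw [H13.twist_apply, ← H21.conjChar_apply, h1']
    have h2 := congrFun (H13.mem_inertia R |>.1 (hI ▸ Subgroup.mem_top g)) r
    rw [H13.twist_apply] at h2
    rw [← h2]
    exact congrArg _ (Subtype.ext rfl)
  have hlin : ∀ θ ∈ F, ¬ p ∣ charDegree (θ.1 : R → ℂ) → charDegree (θ.1 : R → ℂ) = 1 := by
    intro θ hθ hd
    obtain ⟨n, ρ, hρ, hθρ⟩ := θ.1.2
    haveI := hρ
    have hdn : charDegree (θ.1 : R → ℂ) = n := by rw [← hθρ]; simp [charDegree]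
    obtain ⟨σ, hσ, hσR⟩ := H25.exists_extension_of_pGroup p R (regGen_index (G := G) (p := p)) ρ
      (fun g r => by rw [hθρ]; exact hfix θ hθ g r)
      (by simpa [← hdn] using hd) (ordCompl[p] (Nat.card G))
      (Nat.not_dvd_ordCompl hp.out Nat.card_pos.ne') (det_pow_eq_one ρ)
    haveI := hσ
    have hres : ∀ r : R, ((H12.irrOf σ : IrrCharacter G) : G → ℂ) r = (θ.1 : R → ℂ) r := fun r => by
      rw [← hθρ]
      simp only [H12.irrOf, Representation.character, hσR]
    have hmem := mem_principalBlock_of_restrict hM R (fun g => qPart_mem g) θ.1 θ.2 _ hres hd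
    have hdeq : charDegree ((H12.irrOf σ : IrrCharacter G) : G → ℂ) = charDegree (θ.1 : R → ℂ) := by
      simp only [charDegree]
      rw [← hres 1]; rfl
    rw [← hdeq]
    exact h _ hmem (hdeq ▸ hd)
  -- the fixed linear characters form a group of order prime to `p`
  let L : Subgroup (R →* ℂˣ) :=
    { carrier := {l | H12.linIrr l ∈ principalBlock M R ∧
        ∀ (g : G) (r : R), l (MulAut.conjNormal g r) = l r}
      one_mem' := ⟨by
        rw [show H12.linIrr (1 : R →* ℂˣ) = H12.oneIrr R from Subtype.ext (funext fun x => by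
          simp [H12.linIrr_apply, H12.oneIrr_apply])]
        exact H25.oneIrr_mem_principalBlock hM, fun g r => rfl⟩
      mul_mem' := by
        rintro l l' ⟨hl, hl'⟩ ⟨hm, hm'⟩
        refine ⟨?_, fun g r => by simp [hl' g r, hm' g r]⟩
        rw [mem_principalBlock_iff] at hl hm ⊢
        intro x
        have := H20.memIdeal_add (hl x)
          (H20.memIdeal_mul (H20.memRing_irr (M := M) (H12.linIrr l) x) (hm x))
        convert this using 1
        simp only [centralChar, H12.linIrr_apply, MonoidHom.mul_apply, Units.val_mul, map_one,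
          Units.val_one, div_one]
        ring
      inv_mem' := by
        rintro l ⟨hl, hl'⟩
        refine ⟨?_, fun g r => by simp [hl' g r]⟩
        rw [mem_principalBlock_iff] at hl ⊢
        intro x
        have := H20.memIdeal_mul
          (H20.memRing_neg (H20.memRing_irr (M := M) (H12.linIrr l⁻¹) x)) (hl x)
        convert this using 1
        have hx0 : ((l x : ℂˣ) : ℂ) ≠ 0 := Units.ne_zero _
        simp only [centralChar, H12.linIrr_apply, MonoidHom.inv_apply, Units.val_inv_eq_inv_val,
          map_one, Units.val_one, div_one, inv_one]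
        field_simp
        ring }
  have hLfin : Finite L := Finite.of_injective (fun l : L => H12.linIrr l.1)
    (fun a b hab => Subtype.ext (H12.linIrr_injective hab))
  have hLp : ¬ p ∣ Nat.card L := by
    intro hd
    obtain ⟨l, hl⟩ := exists_prime_orderOf_dvd_card' p hd
    have hl1 : l.1 = 1 := by
      refine MonoidHom.ext fun r => ?_
      have e1 : l.1 r ^ p = 1 := by
        have := DFunLike.congr_fun (congrArg Subtype.val (hl ▸ pow_orderOf_eq_one l : l ^ p = 1)) r
        simpa using this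
      have e2 : l.1 r ^ ordCompl[p] (Nat.card G) = 1 := by
        have := det_pow_eq_one (H12.linRep l.1) r
        simp only [H12.linRep, MonoidHom.coe_mk, OneHom.coe_mk, LinearMap.det_smul,
          Module.finrank_self, pow_one, LinearMap.det_id, mul_one] at this
        exact Units.ext (by simpa using this)
      have hcop : Nat.Coprime p (ordCompl[p] (Nat.card G)) :=
        hp.out.coprime_iff_not_dvd.2 (Nat.not_dvd_ordCompl hp.out Nat.card_pos.ne')
      exact orderOf_eq_one_iff.1
        (Nat.eq_one_of_dvd_coprimes hcop (orderOf_dvd_of_pow_eq_one e1) (orderOf_dvd_of_pow_eq_one e2))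
    have : l = 1 := Subtype.ext hl1
    rw [this, orderOf_one] at hl
    exact hp.out.ne_one hl.symm
  apply hLp
  have hone : ∀ θ : α, (θ.1 : R → ℂ) 1 = 1 ↔ charDegree (θ.1 : R → ℂ) = 1 := fun θ => by
    rw [H25.irr_apply_one_eq]; exact_mod_cast Iff.rfl
  have hcard : Nat.card L = (F.filter fun θ => charDegree (θ.1 : R → ℂ) = 1).card := by
    rw [← Nat.card_eq_finsetCard]
    have hmk : ∀ l : L, (⟨H12.linIrr l.1, l.2.1⟩ : α) ∈
        F.filter fun θ => charDegree (θ.1 : R → ℂ) = 1 := fun l => by
      simp only [hF, Finset.mem_filter, Finset.mem_univ, true_and, MulAction.mem_fixedPoints]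
      refine ⟨fun x => Subtype.ext (Subtype.ext (funext fun r => ?_)), by
        simp [charDegree, H12.linIrr_apply]⟩
      show (H21.conjChar R ((x : G))⁻¹ (H12.linIrr l.1) : R → ℂ) r = _
      rw [H21.conjChar_apply, H12.linIrr_apply, H12.linIrr_apply, ← l.2.2 (x : G)⁻¹ r]
      congr 2
    refine Nat.card_congr (Equiv.ofBijective (fun l => (⟨_, hmk l⟩ :
      {θ // θ ∈ F.filter fun θ : α => charDegree (θ.1 : R → ℂ) = 1})) ⟨?_, ?_⟩)
    · intro a b hab
      exact Subtype.ext (H12.linIrr_injective (congrArg (fun z => z.1.1) hab))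
    · rintro ⟨θ, hθ⟩
      obtain ⟨hθF, hθ1⟩ := Finset.mem_filter.1 hθ
      obtain ⟨l, hl⟩ := H12.exists_monoidHom_of_apply_one_eq_one (H12.isCharacter_irr θ.1)
        ((hone θ).2 hθ1)
      have hle : H12.linIrr l = θ.1 := Subtype.ext hl
      refine ⟨⟨l, hle ▸ θ.2, fun g r => Units.ext ?_⟩, Subtype.ext (Subtype.ext hle)⟩
      rw [← H12.linIrr_apply, ← H12.linIrr_apply, hle]
      exact hfix θ hθF g r
  rw [hcard]
  have hdvF : p ∣ ∑ θ ∈ F, f θ := (Nat.modEq_zero_iff_dvd.1 ((hmod.symm).trans
    (Nat.modEq_zero_iff_dvd.2 hsum)))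
  rw [← Finset.sum_filter_add_sum_filter_not F (fun θ => charDegree (θ.1 : R → ℂ) = 1)] at hdvF
  rw [Nat.dvd_add_left (Finset.dvd_sum fun θ hθ => ?_)] at hdvF
  · rw [Finset.sum_congr rfl (g := fun _ => 1) (fun θ hθ => ?_), Finset.sum_const, smul_eq_mul,
      mul_one] at hdvF
    · exact hdvF
    · show charDegree (θ.1 : R → ℂ) ^ 2 = 1
      rw [(Finset.mem_filter.1 hθ).2, one_pow]
  · refine dvd_pow ?_ two_ne_zero
    by_contra hnd
    exact (Finset.mem_filter.1 hθ).2 (hlin θ (Finset.mem_filter.1 hθ).1 hnd)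

/-- All height zero characters of the principal block have one degree iff G is p-nilpotent. -/
theorem result {G : Type*} [Group G] [Finite G] (p : ℕ) [Fact p.Prime] (M : Ideal Cfsg.AlgInt) (hM : Cfsg.IsPModular p M) : (∃ d : ℕ, ∀ χ : Cfsg.IrrCharacter G, χ ∈ (Cfsg.principalBlock M G) → Cfsg.blockHeight p (Cfsg.principalBlock M G) (χ : G → ℂ) = 0 → Cfsg.charDegree (χ : G → ℂ) = d) ↔ Cfsg.HasNormalPComplement p G := by
  constructor
  · rintro ⟨d, hd⟩
    refine forward hM fun χ hχ hdeg => ?_
    have h1 := hd (H12.oneIrr G) (H25.oneIrr_mem_principalBlock hM)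
      ((height_zero_iff hM).2 (by
        rw [show charDegree ((H12.oneIrr G : IrrCharacter G) : G → ℂ) = 1 from H25.charDegree_one]
        exact (Fact.out : p.Prime).not_dvd_one))
    rw [hd χ hχ ((height_zero_iff hM).2 hdeg), ← h1]
    exact H25.charDegree_one
  · exact fun hN => ⟨1, fun χ hχ h0 => backward hM hN χ hχ ((height_zero_iff hM).1 h0)⟩

end Cfsg.Agent.S4888
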