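import Cfsg.Statements.S4892
import Cfsg.Agent.H8.BlockExtGlue

set_option autoImplicit false
set_option linter.style.haveILetI false
open Cfsg

namespace Cfsg.Agent.S4892

theorem relIndex_dvd_of_map_le {G : Type*} [Group G] (N : Subgroup G) (Q : Subgroup ↥N)
    (C : Subgroup G) (h : Q.map N.subtype ≤ C) : C.relIndex N ∣ Q.index := by
  rw [Subgroup.relIndex]
  exact Subgroup.index_dvd_of_le fun x hx => h ⟨x, hx, rfl⟩

/-- `N C_G(Q)` is normal, `Q` a Sylow subgroup of `N`. -/
theorem normal_sup_centralizer {G : Type*} [Group G] [Finite G] {p : ℕ} [Fact p.Prime]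
    (N : Subgroup G) [N.Normal] (Q : Sylow p ↥N) :
    (N ⊔ Subgroup.centralizer (((Q : Subgroup ↥N).map N.subtype : Subgroup G) : Set G)).Normal := by
  set Q₀ := (Q : Subgroup ↥N).map N.subtype
  set C := Subgroup.centralizer (Q₀ : Set G)
  rw [← Subgroup.normalizer_eq_top_iff, eq_top_iff, ← Sylow.normalizer_sup_eq_top Q, sup_le_iff]
  refine ⟨fun b hb => ?_, le_sup_left.trans Subgroup.le_normalizer⟩
  rw [Subgroup.mem_normalizer_iff_map_conj_eq, Subgroup.map_sup]
  congr 1
  · ext x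
    rw [← MulEquiv.toMonoidHom_eq_coe, Subgroup.mem_map_equiv]
    constructor
    · intro h
      have := ‹N.Normal›.conj_mem _ h b
      simpa [mul_assoc] using this
    · intro h
      have := ‹N.Normal›.conj_mem _ h b⁻¹
      simpa [mul_assoc] using this
  · apply Subgroup.ext
    intro x
    rw [← MulEquiv.toMonoidHom_eq_coe, Subgroup.mem_map_equiv, Subgroup.mem_centralizer_iff, Subgroup.mem_centralizer_iff]
    constructor
    · intro h y hy
      have hz : b⁻¹ * y * b ∈ Q₀ := by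
        rw [Subgroup.mem_normalizer_iff.1 hb]
        rw [show b * (b⁻¹ * y * b) * b⁻¹ = y by group]; exact hy
      apply (MulAut.conj b).symm.injective
      simpa [mul_assoc] using h _ hz
    · intro h y hy
      have h1 : MulAut.conj b y ∈ Q₀ := (Subgroup.mem_normalizer_iff.1 hb y).1 hy
      have h2 := congrArg (MulAut.conj b).symm (h _ h1)
      simpa [mul_assoc] using h2

/-- Let p be an odd prime, M a maximal ideal of the algebraic integers containing p, N a normal subgroup of the finite group G, and θ an irreducible character of N that is G-invariant, of degree prime to p, p-rational (values in the field generated over ℚ by a root of unity of order prime to p) and lies in the principal p-block of N. Let Q be a Sylow p-subgroup of N and suppose the index of N·C_G(Q) in G is a power of p. Then θ extends to a p-rational irreducible character of G lying in the principal p-block of G. -/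
theorem result {G : Type*} [Group G] [Finite G] (p : ℕ) [Fact p.Prime] (hp : p ≠ 2) (M : Ideal Cfsg.AlgInt) (hM : Cfsg.IsPModular p M) (N : Subgroup G) [N.Normal] (θ : Cfsg.IrrCharacter ↥N) (hinv : ∀ g : G, ∀ n n' : ↥N, (n' : G) = g * (n : G) * g⁻¹ → (θ : ↥N → ℂ) n' = (θ : ↥N → ℂ) n) (hdeg : ¬ p ∣ Cfsg.charDegree (θ : ↥N → ℂ)) (hrat : ∃ m : ℕ, ¬ p ∣ m ∧ ∀ n : ↥N, (θ : ↥N → ℂ) n ∈ IntermediateField.adjoin ℚ ({Complex.exp (2 * Real.pi * Complex.I / m)} : Set ℂ)) (hB : θ ∈ Cfsg.principalBlock M ↥N) (Q : Sylow p ↥N) (hidx : ∃ a : ℕ, (N ⊔ Subgroup.centralizer (((Q : Subgroup ↥N).map N.subtype : Subgroup G) : Set G)).index = p ^ a) : ∃ χ : Cfsg.IrrCharacter G, χ ∈ (Cfsg.principalBlock M G) ∧ (∃ n : ℕ, ¬ p ∣ n ∧ ∀ g : G, (χ : G → ℂ) g ∈ IntermediateField.adjoin ℚ ({Complex.exp (2 * Real.pi * Complex.I / n)} : Set ℂ)) ∧ ∀ n : ↥N, (χ : G → ℂ) n = (θ : ↥N → ℂ) n := by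
  classical
  haveI := H20.isPrime_of_modular hM
  set C := Subgroup.centralizer (((Q : Subgroup ↥N).map N.subtype : Subgroup G) : Set G) with hC
  set th := H8.BlockExt.lift N (θ : ↥N → ℂ) with hth
  have hthN : ∀ n : ↥N, th (n : G) = (θ : ↥N → ℂ) n := H8.BlockExt.lift_apply N _
  set d := Cfsg.charDegree (θ : ↥N → ℂ) with hd
  have hθ1 : (θ : ↥N → ℂ) 1 = (d : ℂ) := H25.irr_apply_one_eq θ
  obtain ⟨m, hm, hmθ⟩ := hrat
  obtain ⟨a, ha⟩ := hidx
  haveI hCn : (N ⊔ C).Normal := normal_sup_centralizer N Q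
  have hgen : ∀ x : G, ¬ p ∣ orderOf x → ∃ t, H8.BlockExt.IsT p N t ∧ t⁻¹ * x ∈ N := by
    intro x hx
    have hxM : x ∈ N ⊔ C := by
      rw [← QuotientGroup.eq_one_iff, ← orderOf_eq_one_iff]
      refine Nat.eq_one_of_dvd_coprimes
        (((Fact.out : p.Prime).coprime_iff_not_dvd.2 hx).pow_left a) ?_
        (orderOf_map_dvd (QuotientGroup.mk' (N ⊔ C)) x)
      rw [← ha, Subgroup.index_eq_card]
      exact orderOf_dvd_natCard _
    obtain ⟨n, hn, c, hc, hnc⟩ := Subgroup.mem_sup_of_normal_left.1 hxM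
    have hpp : H20.pPart p c ∈ N := by
      rw [← QuotientGroup.eq_one_iff, ← orderOf_eq_one_iff]
      obtain ⟨j, hj⟩ := H20.exists_orderOf_pPart (p := p) c
      refine Nat.eq_one_of_dvd_coprimes
        (((Fact.out : p.Prime).coprime_iff_not_dvd.2 hx).pow_left j)
        (hj ▸ orderOf_map_dvd (QuotientGroup.mk' N) _) ?_
      have hxc : (x : G ⧸ N) = (c : G ⧸ N) := by
        rw [← hnc, QuotientGroup.mk_mul, (QuotientGroup.eq_one_iff n).2 hn, one_mul]
      refine dvd_trans ?_ (orderOf_map_dvd (QuotientGroup.mk' N) x)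
      show orderOf ((H20.pPart p c : G) : G ⧸ N) ∣ orderOf (x : G ⧸ N)
      rw [hxc, H20.pPart, QuotientGroup.mk_pow]
      exact orderOf_pow_dvd _
    refine ⟨H20.qPart p c, ⟨H20.not_dvd_orderOf_qPart c, fun h =>
      Q.not_dvd_index (h.trans (relIndex_dvd_of_map_le N _ _ ?_))⟩, ?_⟩
    · intro y hy
      rw [Subgroup.mem_centralizer_singleton_iff]
      exact Subgroup.mem_centralizer_iff.1 (pow_mem hc (H20.qExp p (orderOf c))) y hy
    · have e : (H20.qPart p c)⁻¹ * x =
          (H20.qPart p c)⁻¹ * n * (H20.qPart p c) * ((H20.qPart p c)⁻¹ * c) := by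
        rw [← hnc]; group
      rw [e]
      refine mul_mem ?_ ?_
      · simpa using Subgroup.Normal.conj_mem inferInstance n hn (H20.qPart p c)⁻¹
      · have e2 : (H20.qPart p c)⁻¹ * c = H20.pPart p c := by
          rw [inv_mul_eq_iff_eq_mul, ← (H20.commute_pPart_qPart c).eq, H20.pPart_mul_qPart]
        rw [e2]
        exact hpp
  have hS : H8.BlockExt.Setup p M N th d :=
    { modular := hM
      odd := hp
      normal := inferInstance
      irr := by rw [hth, H8.BlockExt.res_lift]; exact θ.2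
      one := by rw [← hθ1]; exact hthN 1
      pdeg := hdeg
      inv := fun g n hn => by
        rw [show g * n * g⁻¹ = ((⟨g * n * g⁻¹, Subgroup.Normal.conj_mem inferInstance n hn g⟩ : ↥N) : G)
          from rfl, hthN, show th n = (θ : ↥N → ℂ) ⟨n, hn⟩ from hthN ⟨n, hn⟩]
        exact hinv g ⟨n, hn⟩ _ rfl
      rat := fun n hn k hk hk1 => by
        have h := H8.BlockExt.ratOn_of_adjoin (p := p) (H12.isCharacter_irr θ) hm
          (⟨n, hn⟩ : ↥N) (hmθ _) k (by rwa [← Subgroup.orderOf_coe]) (by rwa [← Subgroup.orderOf_coe])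
        rwa [← hthN, ← hthN] at h
      congr := fun n hn hT => by
        rw [show th n = (θ : ↥N → ℂ) ⟨n, hn⟩ from hthN ⟨n, hn⟩, ← hθ1]
        refine (H8.BlockExt.mem_principal_iff hM θ hθ1 hdeg).1 hB _ ?_ ?_
        · rw [← Subgroup.orderOf_coe]; exact hT.1
        · rw [H8.BlockExt.centralizer_subgroupOf]
          exact hT.2
      gen := hgen }
  obtain ⟨ψ, hψ, hψN, hψr, hψT⟩ := H8.BlockExt.exists_extension hS
  have hψ1 : ψ 1 = (d : ℂ) := (hψN 1 (one_mem N)).trans hS.one
  refine ⟨⟨ψ, hψ⟩, ?_, ⟨_, Nat.not_dvd_ordCompl Fact.out Nat.card_pos.ne', fun g =>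
    H8.BlockExt.adjoin_of_ratOn (H12.isCharacter_of_isIrrCharacter hψ) g (hψr g)⟩,
    fun n => (hψN n n.2).trans (hthN n)⟩
  rw [H8.BlockExt.mem_principal_iff hM ⟨ψ, hψ⟩ hψ1 hdeg]
  intro y hy hyi
  show MemLocalIdeal M (ψ y - ψ 1)
  rw [hψ1]
  exact hψT y ⟨hy, fun h => hyi (h.trans (H8.BlockExt.relIndex_dvd_index _ N))⟩

end Cfsg.Agent.S4892
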