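import Cfsg.Statements.S4903
import Cfsg.Agent.H28.SmallDeg.Reduce
import Cfsg.Agent.H15.Degree.Main
import Cfsg.Agent.H14.Deg16.Reduce

set_option autoImplicit false
open Cfsg

namespace Cfsg.Agent.S4903

/-- Let G be a finite group with a faithful irreducible complex character of degree 16, p a prime with p ≥ 19, and P a Sylow p-subgroup of G. Then P is normal in G, or p = 31 and the quotient of G by its centre is isomorphic to PSL(2,31). -/
theorem result {G : Type*} [Group G] [Finite G] (χ : Cfsg.IrrCharacter G) (hdeg : Cfsg.charDegree (χ : G → ℂ) = 16) (hfaith : ∀ g : G, (χ : G → ℂ) g = (χ : G → ℂ) 1 → g = 1) (p : ℕ) [Fact p.Prime] (hp : 19 ≤ p) (P : Sylow p G) : (P : Subgroup G).Normal ∨ (p = 31 ∧ Nonempty (G ⧸ Subgroup.center G ≃* Matrix.ProjectiveSpecialLinearGroup (Fin 2) (ZMod 31))) := by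
  classical
  refine or_iff_not_imp_left.2 fun hnn => ?_
  letI : Fintype G := Fintype.ofFinite G
  have hd : H12.degree (χ : G → ℂ) = 16 := by rw [← H20.charDegree_eq_degree]; exact hdeg
  obtain ⟨K, hK, -, ⟨e⟩, P', hP'c, hP'n, ζ, hζ, hζf, hζd⟩ :=
    H28.SmallDeg.exists_reduced (by omega) P hnn (χ : G → ℂ) χ.2 hfaith (by omega)
  rcases H15.Degree.main (by omega) P' hP'c hP'n ζ hζ hζf (by omega) with
    ⟨⟨i⟩, h2, -⟩ | ⟨f, t, -, hft, ht, hdf, hf2, -⟩
  · have h31 : p = 31 := by
      rcases h2 with h2 | h2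
      · omega
      · have h33 : p = 33 := by omega
        exact absurd (h33 ▸ (Fact.out : p.Prime)) (by decide)
    subst h31
    exact ⟨rfl, ⟨e.symm.trans i⟩⟩
  · exfalso
    have hf : p = f + 16 := by omega
    rcases hf2 with hf2 | ⟨-, hf3⟩
    · omega
    have h19 : p = 19 := by
      have h1 : f * (f + 3) ≤ f * t := Nat.mul_le_mul_left f hf3
      nlinarith
    exact H14.Deg16.false_of_degree_sixteen h19 P' hP'c hP'n ζ hζ hζf (by omega)

end Cfsg.Agent.S4903
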