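import Cfsg.Statements.S4911
import Cfsg.Agent.H19.RealFixed

set_option autoImplicit false
open Cfsg

namespace Cfsg.Agent.S4911

/-- Let P and K be subgroups of a finite group with P a p-group normalizing K and K of order prime to p. Then the number of P-invariant real-valued irreducible complex characters of K equals the number of conjugacy classes of K that are real (closed under inversion) and P-invariant. Moreover, if every real-valued irreducible character of K is P-invariant, then every real element of K (one conjugate in K to its inverse) is conjugate in K to an element centralized by P. -/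
theorem result {G : Type*} [Group G] [Finite G] (p : ℕ) [Fact p.Prime] (P K : Subgroup G) (hP : IsPGroup p ↥P) (hK : ¬ p ∣ Nat.card ↥K) (hPK : P ≤ Subgroup.normalizer (K : Set G)) : Nat.card {θ : Cfsg.IrrCharacter ↥K // (∀ k : ↥K, ((θ : ↥K → ℂ) k).im = 0) ∧ (∀ x ∈ P, ∀ k k' : ↥K, (k' : G) = x * (k : G) * x⁻¹ → (θ : ↥K → ℂ) k' = (θ : ↥K → ℂ) k)} = Nat.card {c : ConjClasses ↥K // (∀ k : ↥K, ConjClasses.mk k = c → IsConj k k⁻¹) ∧ ∀ k : ↥K, ConjClasses.mk k = c → ∀ x ∈ P, ∀ k' : ↥K, (k' : G) = x * (k : G) * x⁻¹ → ConjClasses.mk k' = c} ∧ ((∀ θ : Cfsg.IrrCharacter ↥K, (∀ k : ↥K, ((θ : ↥K → ℂ) k).im = 0) → (∀ x ∈ P, ∀ k k' : ↥K, (k' : G) = x * (k : G) * x⁻¹ → (θ : ↥K → ℂ) k' = (θ : ↥K → ℂ) k)) → ∀ k : ↥K, IsConj k k⁻¹ → ∃ k' : ↥K, IsConj k k' ∧ ∀ x ∈ P, x * (k' : G) * x⁻¹ = (k' : G)) := by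
  classical
  haveI := Fintype.ofFinite K
  have hn : ∀ x ∈ P, ∀ k : K, x * (k : G) * x⁻¹ ∈ K := fun x hx k =>
    (Subgroup.mem_normalizer_iff.mp (hPK hx) k).mp k.2
  let c : P → MulAut K := fun x =>
    { toFun := fun k => ⟨(x : G) * k * (x : G)⁻¹, hn _ x.2 k⟩
      invFun := fun k => ⟨(x : G)⁻¹ * k * (x : G), by simpa using hn _ (P.inv_mem x.2) k⟩
      left_inv := fun k => Subtype.ext (by group)
      right_inv := fun k => Subtype.ext (by group)
      map_mul' := fun a b => Subtype.ext (by simp only [Subgroup.coe_mul]; group) }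
  let φ : P →* MulAut K := MonoidHom.mk' c fun a b => by
    ext k
    show ((a * b : P) : G) * k * ((a * b : P) : G)⁻¹ = _
    simp only [c, MulAut.mul_apply, MulEquiv.coe_mk, Equiv.coe_fn_mk, Subgroup.coe_mul]
    group
  have hreal : ∀ θ : IrrCharacter K, (∀ k : K, ((θ : K → ℂ) k).im = 0) ↔
      ∀ k, (starRingEnd ℂ) ((θ : K → ℂ) k) = (θ : K → ℂ) k :=
    fun θ => forall_congr' fun k => Complex.conj_eq_iff_im.symm
  have hfix : ∀ θ : IrrCharacter K, (∀ x ∈ P, ∀ k k' : K, (k' : G) = x * (k : G) * x⁻¹ →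
      (θ : K → ℂ) k' = (θ : K → ℂ) k) ↔ ∀ (u : P) k, (θ : K → ℂ) (φ u k) = (θ : K → ℂ) k := by
    intro θ
    exact ⟨fun h u k => h u u.2 k (φ u k) rfl,
      fun h x hx k k' e => by rw [show k' = φ ⟨x, hx⟩ k from Subtype.ext e]; exact h _ k⟩
  have hfixC : ∀ C : ConjClasses K, (∀ k : K, ConjClasses.mk k = C → ∀ x ∈ P, ∀ k' : K,
      (k' : G) = x * (k : G) * x⁻¹ → ConjClasses.mk k' = C) ↔
      ∀ (u : P) k, ConjClasses.mk k = C → ConjClasses.mk (φ u k) = C := by
    intro C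
    exact ⟨fun h u k hk => h k hk u u.2 (φ u k) rfl,
      fun h k hk x hx k' e => by rw [show k' = φ ⟨x, hx⟩ k from Subtype.ext e]; exact h _ k hk⟩
  refine ⟨?_, ?_⟩
  · rw [Nat.card_congr (Equiv.subtypeEquivRight fun θ => and_congr (hreal θ) (hfix θ)),
      Nat.card_congr (Equiv.subtypeEquivRight fun C => and_congr Iff.rfl (hfixC C))]
    exact H19.card_real_fixed hP hK φ
  · intro hall k hk
    have h1 := H19.card_real_fixed hP hK φ
    have h0 := H19.card_real_fixed (IsPGroup.of_bot (p := p) (G := K)) hK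
      (1 : (⊥ : Subgroup K) →* MulAut K)
    have hRI : Nat.card {χ : IrrCharacter K // (∀ a, (starRingEnd ℂ) ((χ : K → ℂ) a) = (χ : K → ℂ) a) ∧
        ∀ (_ : (⊥ : Subgroup K)) a, (χ : K → ℂ) a = (χ : K → ℂ) a} =
        Nat.card {χ : IrrCharacter K // (∀ a, (starRingEnd ℂ) ((χ : K → ℂ) a) = (χ : K → ℂ) a) ∧
        ∀ (u : P) a, (χ : K → ℂ) (φ u a) = (χ : K → ℂ) a} :=
      Nat.card_congr (Equiv.subtypeEquivRight fun θ =>
        ⟨fun h => ⟨h.1, (hfix θ).mp (hall θ ((hreal θ).mpr h.1))⟩, fun h => ⟨h.1, fun _ _ => rfl⟩⟩)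
    have h2 : Nat.card {C : ConjClasses K // ∀ a, ConjClasses.mk a = C → IsConj a a⁻¹} =
        Nat.card {C : ConjClasses K // (∀ a, ConjClasses.mk a = C → IsConj a a⁻¹) ∧
          ∀ (u : P) a, ConjClasses.mk a = C → ConjClasses.mk (φ u a) = C} := by
      rw [← h1, ← hRI]
      refine Eq.trans ?_ h0.symm
      exact Nat.card_congr (Equiv.subtypeEquivRight fun C =>
        ⟨fun h => ⟨h, fun _ a ha => ha⟩, fun h => h.1⟩)
    have hsurj : Function.Bijective (fun C : {C : ConjClasses K // (∀ a, ConjClasses.mk a = C → IsConj a a⁻¹) ∧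
          ∀ (u : P) a, ConjClasses.mk a = C → ConjClasses.mk (φ u a) = C} =>
        (⟨C.1, C.2.1⟩ : {C : ConjClasses K // ∀ a, ConjClasses.mk a = C → IsConj a a⁻¹})) :=
      (Nat.bijective_iff_injective_and_card _).mpr ⟨fun a b e => Subtype.ext (congrArg (fun z => z.1) e), h2.symm⟩
    obtain ⟨⟨C, hC1, hC2⟩, hC⟩ := hsurj.2 ⟨ConjClasses.mk k, fun a ha => by
      have hak : IsConj a k := ConjClasses.mk_eq_mk_iff_isConj.mp ha
      exact hak.trans (hk.trans (H19.isConj_inv_iff.mpr hak.symm))⟩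
    have hCk : C = ConjClasses.mk k := congrArg Subtype.val hC
    subst hCk
    letI : MulAction P {k' : K // IsConj k k'} :=
      { smul := fun u k' => ⟨φ u k'.1, (ConjClasses.mk_eq_mk_iff_isConj.mp
          (hC2 u k'.1 (ConjClasses.mk_eq_mk_iff_isConj.mpr k'.2.symm))).symm⟩
        one_smul := fun k' => Subtype.ext (by show φ 1 k'.1 = _; simp)
        mul_smul := fun u v k' => Subtype.ext (by
          show φ (u * v) k'.1 = φ u (φ v k'.1)
          rw [map_mul]; rfl) }
    have hcard : ¬ p ∣ Nat.card {k' : K // IsConj k k'} := by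
      intro hd
      refine hK (hd.trans ?_)
      have := H12.card_conjClass_mul_card_centralizer k
      rw [← this]
      refine Dvd.intro (Nat.card (Subgroup.centralizer ({k} : Set K))) ?_
      congr 1
      rw [Nat.card_eq_fintype_card, Fintype.card_subtype]
      congr 1
      ext a
      simp
    obtain ⟨k', hk'⟩ := hP.nonempty_fixed_point_of_prime_not_dvd_card _ hcard
    exact ⟨k'.1, k'.2, fun x hx => congrArg (fun z : {k' : K // IsConj k k'} => ((z.1 : K) : G)) (hk' ⟨x, hx⟩)⟩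

end Cfsg.Agent.S4911
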