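-- Proof of statement S4912.
import Cfsg.Statements.S4912
import Cfsg.Agent.H25.PerfectNormal
import Cfsg.Agent.H25.IndicatorRes

set_option autoImplicit false
set_option linter.style.haveILetI false
open Cfsg
open scoped ComplexConjugate

namespace Cfsg.Agent.S4912

/-- Let G be a finite group with a non-abelian minimal normal subgroup N, and let φ be an irreducible complex character of N with stabilizer I in G such that φ extends to an irreducible character of I with Frobenius–Schur indicator +1. Put d = φ(1)·[G : I]. Then the number of linear characters of G with Frobenius–Schur indicator +1 is at most [G : I] times the number of irreducible characters of G of degree d with Frobenius–Schur indicator +1. -/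
theorem result {G : Type*} [Group G] [Finite G] (N : Subgroup G) (hN : N.Normal) (hN1 : N ≠ ⊥) (hmin : ∀ M : Subgroup G, M.Normal → M ≤ N → M = ⊥ ∨ M = N) (hna : ¬ IsMulCommutative ↥N) (φ : Cfsg.IrrCharacter ↥N) (I : Subgroup G) (hI : ∀ g : G, g ∈ I ↔ ∀ n n' : ↥N, (n' : G) = g * (n : G) * g⁻¹ → (φ : ↥N → ℂ) n' = (φ : ↥N → ℂ) n) (hNI : N ≤ I) (hext : ∃ ψ : Cfsg.IrrCharacter ↥I, (Nat.card ↥I : ℂ)⁻¹ * ∑ᶠ g : ↥I, (ψ : ↥I → ℂ) (g * g) = 1 ∧ ∀ n : ↥N, (ψ : ↥I → ℂ) (Subgroup.inclusion hNI n) = (φ : ↥N → ℂ) n) : Nat.card {χ : Cfsg.IrrCharacter G // Cfsg.charDegree (χ : G → ℂ) = 1 ∧ (Nat.card G : ℂ)⁻¹ * ∑ᶠ g : G, (χ : G → ℂ) (g * g) = 1} ≤ I.index * Nat.card {χ : Cfsg.IrrCharacter G // Cfsg.charDegree (χ : G → ℂ) = Cfsg.charDegree (φ : ↥N → ℂ) * I.index ∧ (Nat.card G : ℂ)⁻¹ * ∑ᶠ g : G, (χ : G → ℂ) (g * g) = 1} := by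
  classical
  haveI := hN
  haveI := Fintype.ofFinite G
  haveI := Fintype.ofFinite N
  haveI := Fintype.ofFinite I
  obtain ⟨ψ, hψ1, hψ⟩ := hext
  simp only [finsum_eq_sum_of_fintype] at hψ1 ⊢
  have hψν : H17.fsInd (ψ : ↥I → ℂ) = 1 := hψ1
  haveI : Finite (G →* ℂˣ) := Finite.of_injective _ H12.linIrr_injective
  have hI' := fun g => (hI g).trans (H25.twist_eq_iff N (φ : ↥N → ℂ) g).symm
  have hψreal := H25.real_of_fsInd_ne_zero ψ (by rw [hψν]; exact one_ne_zero)
  have hirr := H25.isIrrCharacter_ind N I hNI φ ψ hψ hI'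
  let Φ : IrrCharacter G := ⟨_, hirr⟩
  have hΦreal : ∀ g, ((Φ : G → ℂ) g).im = 0 := by
    intro g
    apply Complex.conj_eq_iff_im.1
    show conj (indFun I (ψ : ↥I → ℂ) g) = indFun I (ψ : ↥I → ℂ) g
    simp only [indFun, map_mul, map_inv₀, map_natCast, map_sum]
    congr 1
    refine Finset.sum_congr rfl fun x _ => ?_
    rw [H12.extendByZero_eq_dite]
    split_ifs
    · exact Complex.conj_eq_iff_im.2 (hψreal _)
    · exact map_zero _
  have hΦν : H17.fsInd (Φ : G → ℂ) = 1 := by
    rw [← H25.fsInd_eq_of_constituent Φ hΦreal I ψ hψreal ?_, hψν]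
    rw [← H12.classInner_indFun_right I _ (H12.irr_isClassFunction Φ)]
    exact H12.classInner_irr_self Φ
  refine le_trans ?_ (H25.card_linear_le N I hNI φ ψ hψ hI'
    (fun f => H25.hom_trivial_of_minimal N hmin hna f) (fun f => ∀ g, f (g * g) = 1)
    (fun χ => (Nat.card G : ℂ)⁻¹ * ∑ g : G, (χ : G → ℂ) (g * g) = 1) fun f hf χ hχ => ?_)
  · refine Nat.card_le_card_of_injective (fun χ =>
      ⟨(H25.exists_hom_of_charDegree_one χ.1 χ.2.1).choose, fun g => ?_⟩) fun a b e =>
        Subtype.ext ?_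
    · have hs := (H25.exists_hom_of_charDegree_one χ.1 χ.2.1).choose_spec
      set f := (H25.exists_hom_of_charDegree_one χ.1 χ.2.1).choose
      have hν : H17.fsInd (χ.1 : G → ℂ) = 1 := χ.2.2
      have him := H25.real_of_fsInd_ne_zero χ.1 (by rw [hν]; exact one_ne_zero) g
      rw [← hs, H12.linIrr_apply] at him
      have hn : ‖(f g : ℂ)‖ = 1 := H12.norm_eq_one_of_pow_eq_one (Nat.card_pos (α := G)).ne' (by
        rw [← Units.val_pow_eq_pow_val, ← map_pow, pow_card_eq_one', map_one, Units.val_one])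
      apply Units.ext
      rw [map_mul, Units.val_mul, Units.val_one]
      calc (f g : ℂ) * (f g : ℂ) = (f g : ℂ) * conj (f g : ℂ) := by
            rw [Complex.conj_eq_iff_im.2 him]
        _ = 1 := by rw [Complex.mul_conj', hn]; simp
    · have ha := (H25.exists_hom_of_charDegree_one a.1 a.2.1).choose_spec
      have hb := (H25.exists_hom_of_charDegree_one b.1 b.2.1).choose_spec
      have e2 := congrArg (fun t => H12.linIrr t.val) e
      simp only at e2
      exact (ha.symm.trans e2).trans hb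
  · simp only [hχ, hf, Units.val_one, one_mul]
    exact hΦν

end Cfsg.Agent.S4912
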