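import Cfsg.Statements.S4914
import Cfsg.Agent.H13.RelGlauberman

set_option autoImplicit false
open Cfsg

namespace Cfsg.Agent.S4914

/-- Let P and K be subgroups of a finite group G with P a p-group normalizing K, and suppose K has a normal Sylow p-subgroup Q. Let C be the subgroup of those k ∈ K whose commutator with every element of P lies in Q (so that C/Q is the fixed-point subgroup of P on K/Q). Then there is a bijection f from the P-invariant irreducible complex characters of K onto the P-invariant irreducible complex characters of C such that, for every P-invariant irreducible character χ of K, the multiplicity of f(χ) in the restriction of χ to C is a natural number congruent to 1 or to −1 modulo p, every other P-invariant irreducible character of C occurs in that restriction with multiplicity divisible by p, and the degrees of χ and f(χ) are congruent modulo p up to sign. -/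
theorem result {G : Type*} [Group G] [Finite G] (p : ℕ) [Fact p.Prime] (P K Q C : Subgroup G) (hP : IsPGroup p ↥P) (hPK : P ≤ Subgroup.normalizer (K : Set G)) (hQK : Q ≤ K) (hQn : ∀ k ∈ K, ∀ q ∈ Q, k * q * k⁻¹ ∈ Q) (hQp : ∃ a : ℕ, Nat.card ↥Q = p ^ a) (hQsyl : ¬ p ∣ Q.relIndex K) (hCK : C ≤ K) (hC : ∀ k : G, k ∈ C ↔ (k ∈ K ∧ ∀ x ∈ P, x * k * x⁻¹ * k⁻¹ ∈ Q)) : ∃ f : {χ : Cfsg.IrrCharacter ↥K // (∀ x ∈ P, ∀ k k' : ↥K, (k' : G) = x * (k : G) * x⁻¹ → (χ : ↥K → ℂ) k' = (χ : ↥K → ℂ) k)} → {ξ : Cfsg.IrrCharacter ↥C // (∀ x ∈ P, ∀ k k' : ↥C, (k' : G) = x * (k : G) * x⁻¹ → (ξ : ↥C → ℂ) k' = (ξ : ↥C → ℂ) k)}, Function.Bijective f ∧ ∀ χ, (∀ ξ : {ξ : Cfsg.IrrCharacter ↥C // (∀ x ∈ P, ∀ k k' : ↥C, (k' : G) = x * (k : G) * x⁻¹ → (ξ : ↥C → ℂ) k' = (ξ : ↥C → ℂ) k)}, ∃ m : ℕ, (Nat.card ↥C : ℂ)⁻¹ * ∑ᶠ c : ↥C, (χ.1 : ↥K → ℂ) (Subgroup.inclusion hCK c) * (starRingEnd ℂ) ((ξ.1 : ↥C → ℂ) c) = (m : ℂ) ∧ (ξ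 = f χ → ((m : ZMod p) = 1 ∨ (m : ZMod p) = -1)) ∧ (ξ ≠ f χ → p ∣ m)) ∧ ((Cfsg.charDegree ((f χ).1 : ↥C → ℂ) : ZMod p) = (Cfsg.charDegree (χ.1 : ↥K → ℂ) : ZMod p) ∨ (Cfsg.charDegree ((f χ).1 : ↥C → ℂ) : ZMod p) = -(Cfsg.charDegree (χ.1 : ↥K → ℂ) : ZMod p)) := by
  classical
  haveI := Fintype.ofFinite G
  let φ := H12.Glauberman.conjHom K P (fun x hx g hg => ((Subgroup.mem_normalizer_iff.1 (hPK hx)) g).1 hg)
  let Q' : Subgroup ↥K := Q.subgroupOf K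
  let C' : Subgroup ↥K := C.subgroupOf K
  haveI : Q'.Normal := ⟨fun q hq k => hQn k k.2 q hq⟩
  have hcopQ : ¬ p ∣ Q'.index := hQsyl
  have hQ'p : IsPGroup p ↥Q' := by
    obtain ⟨a, ha⟩ := hQp
    exact IsPGroup.of_card (n := a) (by rw [Nat.card_congr (Subgroup.subgroupOfEquivOfLe hQK).toEquiv, ha])
  have hstab : ∀ (s : ↥P), ∀ q ∈ Q', φ s q ∈ Q' := by
    intro s q hq
    by_contra hn
    haveI : Fintype ↥Q' := Fintype.ofFinite _
    -- the image of `q` is a `p`-element of `K`, so it lies in the normal Sylow subgroup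
    obtain ⟨a, ha⟩ := hQ'p ⟨q, hq⟩
    have h1 : (φ s q) ^ p ^ a = 1 := by
      rw [← map_pow, show q ^ p ^ a = 1 from congrArg Subtype.val ha, map_one]
    have h2 : (QuotientGroup.mk' Q' (φ s q)) ^ p ^ a = 1 := by rw [← map_pow, h1, map_one]
    have h3 : orderOf (QuotientGroup.mk' Q' (φ s q)) = 1 :=
      Nat.eq_one_of_dvd_coprimes (Nat.Coprime.pow_left a
          ((Nat.Prime.coprime_iff_not_dvd Fact.out).2 hcopQ))
        (orderOf_dvd_of_pow_eq_one h2) (orderOf_dvd_natCard _)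
    exact hn ((QuotientGroup.eq_one_iff _).1 (orderOf_eq_one_iff.1 h3))
  have hD : H13.RelGl.Data φ p Q' C' :=
    ⟨hP, hQ'p, hstab, hcopQ, fun k => by
      show (k : G) ∈ C ↔ _
      rw [hC]
      exact ⟨fun h s => h.2 s s.2, fun h => ⟨k.2, fun x hx => h ⟨x, hx⟩⟩⟩⟩
  let e : ↥C' ≃* ↥C := Subgroup.subgroupOfEquivOfLe hCK
  -- translation of invariance
  have hinvK : ∀ χ : Cfsg.IrrCharacter ↥K,
      (∀ x ∈ P, ∀ k k' : ↥K, (k' : G) = x * (k : G) * x⁻¹ → (χ : ↥K → ℂ) k' = (χ : ↥K → ℂ) k) ↔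
        H12.Glauberman.Inv φ (χ : ↥K → ℂ) := fun χ =>
    ⟨fun h s g => h s s.2 g (φ s g) (H12.Glauberman.conjHom_coe K P _ s g),
      fun h x hx k k' hk => by
        rw [show k' = φ ⟨x, hx⟩ k from Subtype.ext
          (hk.trans (H12.Glauberman.conjHom_coe K P _ ⟨x, hx⟩ k).symm)]
        exact h _ k⟩
  have hinvC : ∀ ξ : Cfsg.IrrCharacter ↥C,
      (∀ x ∈ P, ∀ k k' : ↥C, (k' : G) = x * (k : G) * x⁻¹ → (ξ : ↥C → ℂ) k' = (ξ : ↥C → ℂ) k) ↔
        H13.RelGl.InvC φ ((H12.irrCongr e ξ : Cfsg.IrrCharacter ↥C') : ↥C' → ℂ) := fun ξ =>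
    ⟨fun h s c c' hc => h s s.2 (e c) (e c')
        ((congrArg (fun z : ↥K => (z : G)) hc).trans (H12.Glauberman.conjHom_coe K P _ s _)),
      fun h x hx k k' hk => by
        have := h ⟨x, hx⟩ (e.symm k) (e.symm k') (Subtype.ext
          (hk.trans (H12.Glauberman.conjHom_coe K P _ ⟨x, hx⟩ ((e.symm k : ↥C') : ↥K)).symm))
        rwa [H12.irrCongr_apply, H12.irrCongr_apply, MulEquiv.apply_symm_apply,
          MulEquiv.apply_symm_apply] at this⟩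
  have hmult : ∀ (χ : Cfsg.IrrCharacter ↥K) (ξ : Cfsg.IrrCharacter ↥C),
      (Nat.card ↥C : ℂ)⁻¹ * ∑ᶠ c : ↥C, (χ : ↥K → ℂ) (Subgroup.inclusion hCK c)
        * (starRingEnd ℂ) ((ξ : ↥C → ℂ) c) = (H12.Glauberman.mult C' χ (H12.irrCongr e ξ) : ℂ) := by
    intro χ ξ
    rw [← H12.Glauberman.classInner_eq_mult, finsum_eq_sum_of_fintype, H12.classInner_def,
      Nat.card_congr e.toEquiv]
    congr 1
    exact (Fintype.sum_equiv e.toEquiv _ _ fun c => rfl).symm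
  choose g hginv hgone hgdvd hgdeg using fun χ : {χ : Cfsg.IrrCharacter ↥K //
      (∀ x ∈ P, ∀ k k' : ↥K, (k' : G) = x * (k : G) * x⁻¹ → (χ : ↥K → ℂ) k' = (χ : ↥K → ℂ) k)} =>
    H13.RelGl.exists_correspondent hD χ.1 ((hinvK χ.1).1 χ.2)
  have hnd : ∀ χ, ¬ p ∣ H12.Glauberman.mult C' χ.1 (g χ) := fun χ hd => by
    rw [← ZMod.natCast_eq_zero_iff] at hd
    rcases hgone χ with h | h <;> rw [hd] at h
    · exact zero_ne_one h
    · exact one_ne_zero (neg_eq_zero.1 h.symm)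
  refine ⟨fun χ => ⟨(H12.irrCongr e).symm (g χ), (hinvC _).2 (by
    rw [Equiv.apply_symm_apply]; exact hginv χ)⟩, ⟨?_, ?_⟩, fun χ => ⟨fun ξ => ?_, ?_⟩⟩
  · intro χ χ' h
    have hg : g χ = g χ' := (H12.irrCongr e).symm.injective (congrArg Subtype.val h)
    exact Subtype.ext (H13.RelGl.correspondent_injective hD χ.1 χ'.1 ((hinvK χ.1).1 χ.2)
      ((hinvK χ'.1).1 χ'.2) (g χ) (hginv χ) (hnd χ) (hg ▸ hnd χ'))
  · intro ξ
    obtain ⟨χ, hχ, hm⟩ := H13.RelGl.correspondent_surjective hD (H12.irrCongr e ξ.1)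
      ((hinvC ξ.1).1 ξ.2)
    refine ⟨⟨χ, (hinvK χ).2 hχ⟩, Subtype.ext ?_⟩
    show (H12.irrCongr e).symm (g ⟨χ, (hinvK χ).2 hχ⟩) = ξ.1
    rw [Equiv.symm_apply_eq]
    by_contra hne
    have hd := hgdvd ⟨χ, (hinvK χ).2 hχ⟩ (H12.irrCongr e ξ.1) ((hinvC ξ.1).1 ξ.2) (Ne.symm hne)
    exact hm hd
  · refine ⟨_, hmult χ.1 ξ.1, fun h => ?_, fun h => ?_⟩
    · subst h
      rw [Equiv.apply_symm_apply]
      exact hgone χ
    · refine hgdvd χ _ ((hinvC ξ.1).1 ξ.2) fun heq => h (Subtype.ext ?_)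
      show ξ.1 = (H12.irrCongr e).symm (g χ)
      rw [← heq, Equiv.symm_apply_apply]
  · have hd : Cfsg.charDegree (((H12.irrCongr e).symm (g χ) : Cfsg.IrrCharacter ↥C) : ↥C → ℂ)
        = H12.degree (g χ : ↥C' → ℂ) := by
      show ⌊(((g χ : ↥C' → ℂ)) (e.symm 1)).re⌋₊ = _
      rw [map_one]; rfl
    simp only
    rw [hd]
    exact hgdeg χ

end Cfsg.Agent.S4914
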