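import Cfsg.Statements.S4916
import Cfsg.Agent.H25.PrincipalSum
import Mathlib

set_option autoImplicit false
set_option linter.style.haveILetI false
open Cfsg
open scoped ComplexConjugate

namespace Cfsg.Agent.S4916

/-- The principal block has only the trivial p'-degree character iff p does not divide |G|. -/
theorem result {G : Type*} [Group G] [Finite G] (p : ℕ) [Fact p.Prime] (M : Ideal Cfsg.AlgInt) (hM : Cfsg.IsPModular p M) : (∀ χ : Cfsg.IrrCharacter G, χ ∈ Cfsg.principalBlock M G → ¬ p ∣ Cfsg.charDegree (χ : G → ℂ) → (χ : G → ℂ) = fun _ => (1 : ℂ)) ↔ ¬ p ∣ Nat.card G := by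
  classical
  haveI := H20.isPrime_of_modular hM
  haveI := Fintype.ofFinite G
  have hB : IsPBlock M (principalBlock M G) := H20.isPBlock_principalBlock
  have h1 : H12.oneIrr G ∈ principalBlock M G := H25.oneIrr_mem_principalBlock hM
  constructor
  · intro h hp
    have hs := H25.dvd_sum_sq_block hM hp hB
    rw [← Finset.add_sum_erase _ _ (Finset.mem_univ (H12.oneIrr G)), if_pos h1,
      show charDegree ((H12.oneIrr G : IrrCharacter G) : G → ℂ) = 1 from H25.charDegree_one,
      one_pow] at hs
    have hr : p ∣ ∑ χ ∈ Finset.univ.erase (H12.oneIrr G),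
        if χ ∈ principalBlock M G then charDegree (χ : G → ℂ) ^ 2 else 0 := by
      refine Finset.dvd_sum fun χ hχ => ?_
      split_ifs with hmem
      · refine dvd_pow ?_ two_ne_zero
        by_contra hnd
        exact (Finset.mem_erase.1 hχ).1 (Subtype.ext (h χ hmem hnd))
      · exact dvd_zero p
    exact (Fact.out : p.Prime).one_lt.ne' (Nat.dvd_one.1 ((Nat.dvd_add_left hr).1 hs))
  · intro hp χ hχ hdeg
    by_contra hne
    have hne' : H12.oneIrr G ≠ χ := fun e => hne (by rw [← e]; rfl)
    have hs : SameBlock M (H12.oneIrr G : G → ℂ) (χ : G → ℂ) := hχ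
    have hw := H20.lam_eq_of_sameBlock hs
    let a : MonoidAlgebra (H20.O M) G := H20.ofFun fun _ => 1
    have ha : H20.IsCl a := H20.isCl_of_forall_isConj fun x y _ => by simp [a]
    have := hw (H20.rd a)
    rw [H20.lam_rd _ ha, H20.lam_rd _ ha, H20.redC_eq_iff (H20.memRing_omega _ ha)
      (H20.memRing_omega _ ha)] at this
    have e1 : H20.omega ((H12.oneIrr G : IrrCharacter G) : G → ℂ) (H20.emb a) = (Nat.card G : ℂ) := by
      simp [H20.omega, a, H12.oneIrr_apply]
    have e2 : H20.omega (χ : G → ℂ) (H20.emb a) = 0 := by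
      have horth := H12.classInner_irr_ne (Ne.symm hne')
      rw [H12.classInner_def, mul_eq_zero] at horth
      rcases horth with h0 | h0
      · simp at h0
      · simp [H20.omega, a] at h0 ⊢
        simp [H12.oneIrr_apply] at h0
        simp [h0]
    rw [e1, e2, sub_zero, H20.natCast_memIdeal_iff hM] at this
    exact hp this

end Cfsg.Agent.S4916
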