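-- Proof of statement S4923.
import Cfsg.Statements.S4923
import Cfsg.Agent.H6.MaxClass
import Cfsg.Agent.H12.Induction
import Cfsg.Agent.H12.Linear
import Cfsg.Agent.H20.PPart
import Cfsg.Agent.H25.Galois
import Mathlib.FieldTheory.IntermediateField.Adjoin.Basic
import Mathlib.GroupTheory.SpecificGroups.Cyclic

set_option autoImplicit false
set_option linter.style.haveILetI false
open Cfsg
open scoped commutatorElement

namespace Cfsg.Agent.S4923

variable {G : Type*} [Group G] [Finite G]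

omit [Finite G] in
theorem conj_pow_iterate {c g : G} {k : ℕ} (h : c * g * c⁻¹ = g ^ k) (j : ℕ) :
    c ^ j * g * (c ^ j)⁻¹ = g ^ (k ^ j) := by
  induction j with
  | zero => simp
  | succ j ih =>
    calc c ^ (j + 1) * g * (c ^ (j + 1))⁻¹ = c * (c ^ j * g * (c ^ j)⁻¹) * c⁻¹ := by
          rw [pow_succ', mul_inv_rev]; group
      _ = (c * g * c⁻¹) ^ (k ^ j) := by rw [ih, conj_pow]
      _ = _ := by rw [h, ← pow_mul, pow_succ']

/-- An action on a cyclic 2-subgroup normalised by `P` is realised inside `P`. -/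
theorem exists_mem_sylow_conj (P : Sylow 2 G) {g : G} {n : ℕ} (hn : 3 ≤ n)
    (hord : orderOf g = 2 ^ (n - 1))
    (hnorm : ∀ x ∈ (P : Subgroup G), x * g * x⁻¹ ∈ Subgroup.zpowers g)
    {c : G} {k : ℕ} (hc : c * g * c⁻¹ = g ^ k) :
    ∃ x ∈ (P : Subgroup G), x * g * x⁻¹ = g ^ k := by
  haveI : Fact (Nat.Prime 2) := ⟨Nat.prime_two⟩
  have hk : Nat.Coprime k (2 ^ (n - 1)) := by
    have h1 : orderOf (g ^ k) = orderOf g := by
      rw [← hc]
      exact (SemiconjBy.orderOf_eq c (show SemiconjBy c g (c * g * c⁻¹) by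
        show c * g = _; group)).symm
    rw [orderOf_pow' _ (fun h0 => ?_), hord] at h1
    · have h2 : Nat.gcd (2 ^ (n - 1)) k = 1 := by
        have hd := Nat.div_mul_cancel (Nat.gcd_dvd_left (2 ^ (n - 1)) k)
        rw [h1] at hd
        exact (Nat.mul_eq_left (by positivity)).1 hd
      rwa [Nat.coprime_comm]
    · rw [h0, pow_zero, orderOf_one, hord] at h1
      have := Nat.one_lt_pow (show n - 1 ≠ 0 by omega) (show 1 < 2 by norm_num)
      omega
  have hfix : c ^ (2 ^ (n - 2)) ∈ Subgroup.centralizer ({g} : Set G) := by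
    rw [Subgroup.mem_centralizer_singleton_iff]
    have h := conj_pow_iterate hc (2 ^ (n - 2))
    have ht : k ^ (2 ^ (n - 2)) ≡ 1 [MOD orderOf g] := by
      rw [hord]
      have := Nat.ModEq.pow_totient hk
      rwa [Nat.totient_prime_pow Nat.prime_two (show 0 < n - 1 by omega),
        show n - 1 - 1 = n - 2 by omega, show (2 : ℕ) - 1 = 1 from rfl, mul_one] at this
    rw [pow_eq_pow_iff_modEq.2 ht, pow_one, mul_inv_eq_iff_eq_mul] at h
    exact h
  set a := H20.pPart 2 c with ha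
  set b := H20.qPart 2 c with hb
  have hbC : b ∈ Subgroup.centralizer ({g} : Set G) := by
    obtain ⟨i, hi⟩ := Subgroup.mem_zpowers_iff.1 (H20.mem_zpowers_qPart (p := 2) c)
    have hcop : (orderOf b).Coprime (2 ^ (n - 2)) :=
      ((Nat.prime_two.coprime_iff_not_dvd.2 (H20.not_dvd_orderOf_qPart c)).symm).pow_right _
    obtain ⟨e, he⟩ := exists_pow_eq_self_of_coprime hcop.symm
    rw [← he]
    refine Subgroup.pow_mem _ ?_ e
    rw [hb, ← hi, ← zpow_natCast, ← zpow_mul, mul_comm, zpow_mul, zpow_natCast]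
    exact Subgroup.zpow_mem _ hfix i
  have hag : a * g * a⁻¹ = g ^ k := by
    rw [← hc]
    have e : c = a * b := (H20.pPart_mul_qPart c).symm
    have h1 : b * g = g * b := Subgroup.mem_centralizer_singleton_iff.1 hbC
    rw [e, mul_assoc a b g, h1]
    group
  let N := Subgroup.normalizer (Subgroup.zpowers g : Set G)
  have hmemN : ∀ x : G, x * g * x⁻¹ ∈ Subgroup.zpowers g → x ∈ N := by
    intro x hx
    have hle : (Subgroup.zpowers g).map (MulAut.conj x).toMonoidHom ≤ Subgroup.zpowers g := by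
      rw [MonoidHom.map_zpowers]
      exact Subgroup.zpowers_le.2 hx
    have heq : (Subgroup.zpowers g).map (MulAut.conj x).toMonoidHom = Subgroup.zpowers g :=
      Subgroup.eq_of_le_of_card_ge hle
        (by rw [Subgroup.card_map_of_injective (MulAut.conj x).injective])
    rw [Subgroup.mem_normalizer_iff]
    intro y
    conv_rhs => rw [← heq]
    rw [Subgroup.mem_map]
    exact ⟨fun hy => ⟨y, hy, rfl⟩, fun ⟨z, hz, e⟩ => by
      rwa [← (MulAut.conj x).injective e]⟩
  have hPN : (P : Subgroup G) ≤ N := fun x hx => hmemN x (hnorm x hx)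
  have haN : a ∈ N := hmemN a (hag ▸ Subgroup.pow_mem _ (Subgroup.mem_zpowers g) k)
  have hapg : IsPGroup 2 (Subgroup.zpowers (⟨a, haN⟩ : N)) := by
    obtain ⟨j, hj⟩ := H20.exists_orderOf_pPart (p := 2) c
    refine IsPGroup.of_card (n := j) ?_
    rw [Nat.card_zpowers, Subgroup.orderOf_mk, ha, hj]
  obtain ⟨R, hR⟩ := hapg.exists_le_sylow
  obtain ⟨y, hy⟩ := MulAction.exists_smul_eq N R (P.subtype hPN)
  have hmem : y * ⟨a, haN⟩ * y⁻¹ ∈ (P.subtype hPN : Subgroup N) := by
    rw [← hy, Sylow.coe_subgroup_smul, Subgroup.mem_pointwise_smul_iff_inv_smul_mem]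
    simpa [MulAut.smul_def, mul_assoc] using hR (Subgroup.mem_zpowers (⟨a, haN⟩ : N))
  refine ⟨(y : G) * a * (y : G)⁻¹, by simpa [Sylow.coe_subtype, Subgroup.mem_subgroupOf] using hmem, ?_⟩
  obtain ⟨l, hl⟩ := Subgroup.mem_zpowers_iff.1
    ((Subgroup.mem_normalizer_iff.1 (N.inv_mem y.2) g).1 (Subgroup.mem_zpowers g))
  rw [inv_inv] at hl
  have hl' : (y : G) * g ^ l * (y : G)⁻¹ = g := by rw [hl]; group
  calc (y : G) * a * (y : G)⁻¹ * g * ((y : G) * a * (y : G)⁻¹)⁻¹
      = (y : G) * (a * ((y : G)⁻¹ * g * y) * a⁻¹) * (y : G)⁻¹ := by group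
    _ = (y : G) * ((a * g * a⁻¹) ^ l) * (y : G)⁻¹ := by rw [← hl, conj_zpow]
    _ = ((y : G) * g ^ l * (y : G)⁻¹) ^ k := by
        rw [hag, conj_pow, ← zpow_natCast g k, ← zpow_natCast (g ^ l), ← zpow_mul, ← zpow_mul,
          mul_comm]
    _ = g ^ k := by rw [hl']

/-- A field automorphism of ℂ fixes the field generated by fixed numbers. -/
theorem map_eq_of_mem_adjoin {σ : ℂ ≃+* ℂ} {S : Set ℂ} (hS : ∀ s ∈ S, σ s = s) {z : ℂ}
    (hz : z ∈ IntermediateField.adjoin ℚ S) : σ z = z := by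
  induction hz using IntermediateField.adjoin_induction with
  | mem x hx => exact hS x hx
  | algebraMap q => simp
  | add x y _ _ hx hy => rw [map_add, hx, hy]
  | inv x _ hx => rw [map_inv₀, hx]
  | mul x y _ _ hx hy => rw [map_mul, hx, hy]

/-- A character value at an element of `2`-power order is a sum of roots of unity. -/
theorem exists_eigen_sum {g : G} {m : ℕ} {η : ℂ} (hη : IsPrimitiveRoot η m) [NeZero m]
    (hg : g ^ m = 1) (χ : IrrCharacter G) :
    ∃ (d : ℕ) (j : Fin d → ℕ), ∀ t : ℕ, (χ : G → ℂ) (g ^ t) = ∑ i, η ^ (j i * t) := by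
  obtain ⟨n, ρ, -, hχ⟩ := χ.2
  obtain ⟨μ, h1, h2, -⟩ := H12.exists_char_eigenvalues ρ g
  have hroot : ∀ i, μ i ^ m = 1 := fun i => by
    obtain ⟨e, he⟩ := orderOf_dvd_of_pow_eq_one hg
    rw [he, pow_mul, h1, one_pow]
  choose j hj using fun i => hη.eq_pow_of_pow_eq_one (hroot i)
  refine ⟨_, j, fun t => ?_⟩
  rw [← hχ, h2 t]
  exact Finset.sum_congr rfl fun i _ => by rw [pow_mul, (hj i).2]

theorem forward (P : Sylow 2 G) (n : ℕ) (hn : 3 ≤ n) (hP : Nat.card ↥P = 2 ^ n) (ζ : ℂ)
    (hζ : IsPrimitiveRoot ζ (2 ^ (n - 1))) (hab : (commutator ↥P).index = 4) :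
    ∃ g : G, g ∈ (P : Subgroup G) ∧ 2 ∣ (Subgroup.centralizer ({g} : Set G)).index ∧
      (IntermediateField.adjoin ℚ {z : ℂ | ∃ χ : Cfsg.IrrCharacter G, (χ : G → ℂ) g = z} =
          IntermediateField.adjoin ℚ ({ζ + ζ⁻¹} : Set ℂ) ∨
        IntermediateField.adjoin ℚ {z : ℂ | ∃ χ : Cfsg.IrrCharacter G, (χ : G → ℂ) g = z} =
          IntermediateField.adjoin ℚ ({ζ - ζ⁻¹} : Set ℂ)) := by
  classical
  haveI : Fact (Nat.Prime 2) := ⟨Nat.prime_two⟩
  haveI : NeZero (2 ^ (n - 1)) := ⟨by positivity⟩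
  haveI := Fintype.ofFinite G
  obtain ⟨C, hCc, hCi⟩ := H6.exists_cyclic_index_two n (↥P) hP hn hab
  haveI := hCc
  haveI := Subgroup.normal_of_index_eq_two hCi
  obtain ⟨a', ha'⟩ := IsCyclic.exists_generator (α := C)
  set a : ↥P := (a' : ↥P) with ha
  have hCz : C = Subgroup.zpowers a := by
    apply le_antisymm
    · intro x hx
      obtain ⟨i, hi⟩ := Subgroup.mem_zpowers_iff.1 (ha' ⟨x, hx⟩)
      exact Subgroup.mem_zpowers_iff.2 ⟨i, by simpa using congrArg Subtype.val hi⟩
    · exact Subgroup.zpowers_le.2 a'.2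
  have hpow : 2 * 2 ^ (n - 1) = 2 ^ n := by rw [← pow_succ']; congr 1; omega
  have horda : orderOf a = 2 ^ (n - 1) := by
    have h := C.card_mul_index
    rw [hCi, hCz, Nat.card_zpowers, hP] at h
    omega
  set g : G := (a : G) with hg
  have hord : orderOf g = 2 ^ (n - 1) := by rw [hg, Subgroup.orderOf_coe, horda]
  have hgP : g ∈ (P : Subgroup G) := a.2
  obtain ⟨x, hx⟩ : ∃ x, x ∉ C := by
    by_contra h
    simp only [not_exists, not_not] at h
    rw [show C = ⊤ from eq_top_iff.mpr fun y _ => h y, Subgroup.index_top] at hCi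
    omega
  obtain ⟨r, hr⟩ : ∃ r : ℕ, x * a * x⁻¹ = a ^ r := by
    have hmem : x * a * x⁻¹ ∈ Submonoid.powers a := by
      rw [mem_powers_iff_mem_zpowers, ← hCz]
      exact Subgroup.Normal.conj_mem inferInstance a a'.2 x
    obtain ⟨r, hr⟩ := Submonoid.mem_powers_iff _ _ |>.1 hmem
    exact ⟨r, hr.symm⟩
  have hsplit : ∀ y : ↥P, y ∈ C ∨ y * x⁻¹ ∈ C := fun y => (em (y ∈ C)).imp_right fun hy =>
    (Subgroup.mul_mem_iff_of_index_two hCi).mpr (iff_of_false hy (fun h => hx (by simpa using h)))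
  have hfix : ∀ y : ↥P, y ∈ C → y * a * y⁻¹ = a := by
    intro y hy
    rw [hCz] at hy
    obtain ⟨i, rfl⟩ := Subgroup.mem_zpowers_iff.1 hy
    rw [((Commute.refl a).zpow_left i).eq, mul_inv_cancel_right]
  have hact : ∀ y : ↥P, y * a * y⁻¹ = a ∨ y * a * y⁻¹ = a ^ r := by
    intro y
    rcases hsplit y with hy | hy
    · exact Or.inl (hfix y hy)
    · refine Or.inr ?_
      calc y * a * y⁻¹ = (y * x⁻¹) * (x * a * x⁻¹) * (y * x⁻¹)⁻¹ := by group
        _ = ((y * x⁻¹) * a * (y * x⁻¹)⁻¹) ^ r := by rw [hr, conj_pow]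
        _ = a ^ r := by rw [hfix _ hy]
  -- the exponent
  have hr4 : r % 4 = 3 := by
    have hodd : ¬ 2 ∣ r := by
      intro hd
      have h1 : orderOf (a ^ r) = orderOf a := by
        rw [← hr]
        exact (SemiconjBy.orderOf_eq x (show SemiconjBy x a (x * a * x⁻¹) by
          show x * a = _; group)).symm
      have h2 : orderOf (a ^ r) ∣ 2 ^ (n - 2) := by
        obtain ⟨e, rfl⟩ := hd
        have h2e : (2 : ℕ) ^ (n - 1) = 2 * 2 ^ (n - 2) := by rw [← pow_succ']; congr 1; omega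
        rw [orderOf_dvd_iff_pow_eq_one, ← pow_mul,
          show 2 * e * 2 ^ (n - 2) = 2 ^ (n - 1) * e by rw [h2e]; ring,
          pow_mul, ← horda, pow_orderOf_eq_one, one_pow]
      rw [h1, horda, Nat.pow_dvd_pow_iff_le_right (by norm_num)] at h2
      omega
    by_contra hne
    have hr1 : r % 4 = 1 := by omega
    set D := Subgroup.zpowers (a ^ 4) with hD
    haveI hDn : D.Normal := by
      refine ⟨fun d hd y => ?_⟩
      obtain ⟨i, rfl⟩ := Subgroup.mem_zpowers_iff.1 hd
      rw [← conj_zpow, ← conj_pow]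
      rcases hact y with h | h <;> rw [h]
      · exact Subgroup.zpow_mem _ (Subgroup.mem_zpowers _) i
      · rw [← pow_mul, mul_comm r 4, pow_mul]
        exact Subgroup.zpow_mem _ (Subgroup.pow_mem _ (Subgroup.mem_zpowers _) r) i
    have hax : Commute (QuotientGroup.mk' D a) (QuotientGroup.mk' D x) := by
      have h1 : QuotientGroup.mk' D (a ^ r) = QuotientGroup.mk' D a := by
        have h4 : r = 4 * (r / 4) + 1 := by omega
        rw [h4, pow_succ, pow_mul, map_mul,
          show QuotientGroup.mk' D ((a ^ 4) ^ (r / 4)) = 1 from (QuotientGroup.eq_one_iff _).2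
            (Subgroup.pow_mem _ (Subgroup.mem_zpowers _) _), one_mul]
      have h2 := congrArg (QuotientGroup.mk' D) hr
      rw [h1, map_mul, map_mul, map_inv, mul_inv_eq_iff_eq_mul] at h2
      exact h2.symm
    have hgen : ∀ y : ↥P, ∃ (i : ℤ) (e : ℕ), QuotientGroup.mk' D y =
        QuotientGroup.mk' D a ^ i * QuotientGroup.mk' D x ^ e := by
      intro y
      rcases hsplit y with hy | hy <;> rw [hCz] at hy <;>
        obtain ⟨i, hi⟩ := Subgroup.mem_zpowers_iff.1 hy
      · exact ⟨i, 0, by rw [pow_zero, mul_one, ← map_zpow, hi]⟩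
      · exact ⟨i, 1, by rw [pow_one, ← map_zpow, ← map_mul, hi, inv_mul_cancel_right]⟩
    have hle : commutator ↥P ≤ D := by
      rw [commutator_def, Subgroup.commutator_le]
      intro u _ v _
      rw [← QuotientGroup.eq_one_iff]
      show QuotientGroup.mk' D ⁅u, v⁆ = 1
      rw [map_commutatorElement, commutatorElement_eq_one_iff_mul_comm]
      obtain ⟨i, e, hu⟩ := hgen u
      obtain ⟨j, f, hv⟩ := hgen v
      rw [hu, hv]
      exact (((Commute.refl _).zpow_zpow i j).mul_right ((hax.zpow_left i).pow_right f)).mul_left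
        (((hax.symm.pow_left e).zpow_right j).mul_right ((Commute.refl _).pow_pow e f)) |>.eq
    have hidx := Subgroup.index_dvd_of_le hle
    rw [hab] at hidx
    have hDidx := D.card_mul_index
    rw [hD, Nat.card_zpowers, orderOf_pow, horda, hP] at hDidx
    rcases Nat.lt_or_ge n 4 with h | h
    · obtain rfl : n = 3 := by omega
      norm_num at hDidx
      rw [← hD] at hDidx
      rw [hDidx] at hidx
      norm_num at hidx
    · have h4 : (4 : ℕ) ∣ 2 ^ (n - 1) := (show (4 : ℕ) = 2 ^ 2 by norm_num) ▸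
        Nat.pow_dvd_pow 2 (by omega)
      rw [Nat.gcd_eq_right h4, ← hD] at hDidx
      obtain ⟨e, he⟩ := h4
      rw [he, Nat.mul_div_cancel_left _ (by norm_num)] at hDidx
      have he0 : 0 < e := Nat.pos_of_ne_zero fun h0 => by
        rw [h0, mul_zero] at he
        exact absurd he (by positivity)
      have h8 : D.index = 8 := Nat.eq_of_mul_eq_mul_left he0 (by rw [hDidx, ← hpow, he]; ring)
      rw [h8] at hidx
      norm_num at hidx
  have hrr : 2 ^ (n - 2) ∣ r + 1 := by
    have hx2 : x * x ∈ C := (Subgroup.mul_mem_iff_of_index_two hCi).mpr Iff.rfl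
    have h := hfix _ hx2
    have h2 : a ^ (r * r) = a := by
      calc a ^ (r * r) = (x * a * x⁻¹) ^ r := by rw [hr, pow_mul]
        _ = x * a ^ r * x⁻¹ := conj_pow
        _ = x * x * a * (x * x)⁻¹ := by rw [← hr]; group
        _ = a := h
    have h3 : r * r ≡ 1 [MOD orderOf a] := pow_eq_pow_iff_modEq.1 (by rw [h2, pow_one])
    rw [horda] at h3
    have h4 : 2 ^ (n - 1) ∣ r * r - 1 := (Nat.modEq_iff_dvd' (by nlinarith [show 0 < r by omega])).1 h3.symm
    obtain ⟨e, he⟩ : ∃ e, r = 4 * e + 3 := ⟨r / 4, by omega⟩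
    have h5 : r * r - 1 = 2 * ((2 * e + 1) * (r + 1)) := by
      subst he
      rw [Nat.sub_eq_iff_eq_add (by nlinarith)]
      ring
    rw [h5, show (2 : ℕ) ^ (n - 1) = 2 * 2 ^ (n - 2) by rw [← pow_succ']; congr 1; omega,
      Nat.mul_dvd_mul_iff_left (by norm_num)] at h4
    exact (Nat.Coprime.pow_left _ (Nat.prime_two.coprime_iff_not_dvd.2 (by omega))).dvd_of_dvd_mul_left h4
  have hrG : (x : G) * g * (x : G)⁻¹ = g ^ r := by
    have := congrArg Subtype.val hr
    simpa using this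
  have hnorm : ∀ y ∈ (P : Subgroup G), y * g * y⁻¹ ∈ Subgroup.zpowers g := by
    intro y hy
    rcases hact ⟨y, hy⟩ with h | h <;>
      [skip; skip] <;> (have h' := congrArg Subtype.val h; simp at h'; rw [h'])
    · exact Subgroup.mem_zpowers g
    · exact Subgroup.pow_mem _ (Subgroup.mem_zpowers g) r
  have hgr : g ^ r ≠ g := by
    intro h
    have h1 : r ≡ 1 [MOD orderOf g] := pow_eq_pow_iff_modEq.1 (by rwa [pow_one])
    rw [hord] at h1
    have h2 := h1.of_dvd ((show (4 : ℕ) = 2 ^ 2 by norm_num) ▸ Nat.pow_dvd_pow 2 (by omega : 2 ≤ n - 1))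
    unfold Nat.ModEq at h2
    omega
  have hk : ∀ y : G, y * g * y⁻¹ ∈ Subgroup.zpowers g → y * g * y⁻¹ = g ∨ y * g * y⁻¹ = g ^ r := by
    intro y hy
    obtain ⟨k, hk⟩ := (Submonoid.mem_powers_iff _ _).1 (mem_powers_iff_mem_zpowers.2 hy)
    obtain ⟨u, hu, he⟩ := exists_mem_sylow_conj P hn hord hnorm hk.symm
    rw [← hk, ← he]
    rcases hact ⟨u, hu⟩ with h | h
    · exact Or.inl (by simpa using congrArg Subtype.val h)
    · exact Or.inr (by simpa using congrArg Subtype.val h)
  -- the class has even size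
  have heven : 2 ∣ (Subgroup.centralizer ({g} : Set G)).index := by
    by_contra hev
    let K := Subgroup.centralizer ({g} : Set G)
    obtain ⟨Q⟩ := (inferInstance : Nonempty (Sylow 2 K))
    let Q' : Subgroup G := (Q : Subgroup K).map K.subtype
    have hQcard : Nat.card Q' = 2 ^ n := by
      have hP2 : Nat.card ↥(P : Subgroup G) = 2 ^ n := hP
      rw [Subgroup.card_map_of_injective (Subgroup.subtype_injective _), Q.card_eq_multiplicity,
        ← hP2, P.card_eq_multiplicity]
      congr 1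
      rw [← K.card_mul_index, Nat.factorization_mul Nat.card_pos.ne'
        Subgroup.index_ne_zero_of_finite, Finsupp.coe_add, Pi.add_apply,
        Nat.factorization_eq_zero_of_not_dvd hev, add_zero]
    let Qs : Sylow 2 G := Sylow.ofCard Q' (by
      have hP2 : Nat.card ↥(P : Subgroup G) = 2 ^ n := hP
      rw [hQcard, ← hP2, P.card_eq_multiplicity])
    have hQc : ∀ y ∈ (Qs : Subgroup G), y * g = g * y := by
      intro y hy
      rw [Sylow.coe_ofCard] at hy
      obtain ⟨y', -, rfl⟩ := hy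
      exact Subgroup.mem_centralizer_singleton_iff.1 y'.2
    have hgQ : g ∈ (Qs : Subgroup G) := by
      have hR : IsPGroup 2 (Subgroup.zpowers g) := IsPGroup.of_card (by rw [Nat.card_zpowers, hord])
      have h1 : g ∈ Subgroup.zpowers g ⊓ Subgroup.normalizer ((Qs : Subgroup G) : Set G) := by
        refine ⟨Subgroup.mem_zpowers g, Subgroup.mem_normalizer_iff.2 fun y => ⟨fun hy => ?_, fun hy => ?_⟩⟩
        · rwa [← hQc y hy, mul_inv_cancel_right]
        · have h2 := hQc _ hy
          have h3 : g * y * g⁻¹ = y := by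
            have := congrArg (fun t => g⁻¹ * t) h2
            simp only [inv_mul_cancel_left] at this
            conv_rhs => rw [show y = g⁻¹ * (g * y * g⁻¹ * g) by group, this]
          rwa [h3] at hy
      exact ((le_of_eq (hR.inf_normalizer_sylow Qs)) h1).2
    obtain ⟨c, hc⟩ := MulAction.exists_smul_eq G Qs P
    have hmem : ∀ y, y ∈ (P : Subgroup G) ↔ c⁻¹ * y * c ∈ (Qs : Subgroup G) := fun y => by
      rw [← hc, Sylow.coe_subgroup_smul, Subgroup.mem_pointwise_smul_iff_inv_smul_mem]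
      simp [MulAut.smul_def]
    have hgc : c * g * c⁻¹ ∈ (P : Subgroup G) :=
      (hmem _).2 (by simpa [mul_assoc] using hgQ)
    have hcen : (⟨_, hgc⟩ : ↥P) ∈ Subgroup.center ↥P := by
      rw [Subgroup.mem_center_iff]
      rintro ⟨y, hy⟩
      apply Subtype.ext
      show y * (c * g * c⁻¹) = c * g * c⁻¹ * y
      have h2 := hQc _ ((hmem y).1 hy)
      calc y * (c * g * c⁻¹) = c * (c⁻¹ * y * c * g) * c⁻¹ := by group
        _ = c * (g * (c⁻¹ * y * c)) * c⁻¹ := by rw [h2]
        _ = c * g * c⁻¹ * y := by group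
    have h2 : orderOf (⟨_, hgc⟩ : ↥P) ∣ Nat.card (Subgroup.center ↥P) := by
      have := orderOf_dvd_natCard (⟨_, hcen⟩ : Subgroup.center ↥P)
      rwa [Subgroup.orderOf_mk] at this
    rw [(H6.two_group_index_four_structure hn hP hab).1, Subgroup.orderOf_mk,
      ← SemiconjBy.orderOf_eq c (show SemiconjBy c g (c * g * c⁻¹) by show c * g = _; group),
      hord] at h2
    have := Nat.le_of_dvd (by norm_num) h2
    have := Nat.pow_le_pow_right (show 2 > 0 by norm_num) (show 2 ≤ n - 1 by omega)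
    omega
  refine ⟨g, hgP, heven, ?_⟩
  -- the field of values
  set w := ζ + ζ ^ r with hw
  have hv : ζ ^ (r + 1) = 1 ∨ ζ ^ (r + 1) = -1 := by
    apply mul_self_eq_one_iff.1
    rw [← pow_add, hζ.pow_eq_one_iff_dvd, ← two_mul, show (2 : ℕ) ^ (n - 1) = 2 * 2 ^ (n - 2) by
      rw [← pow_succ']; congr 1; omega]
    exact Nat.mul_dvd_mul_left 2 hrr
  have hF : IntermediateField.adjoin ℚ {z : ℂ | ∃ χ : Cfsg.IrrCharacter G, (χ : G → ℂ) g = z} =
      IntermediateField.adjoin ℚ ({w} : Set ℂ) := by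
    refine le_antisymm (IntermediateField.adjoin_le_iff.2 ?_) (IntermediateField.adjoin_le_iff.2 ?_)
    · rintro _ ⟨χ, rfl⟩
      obtain ⟨d, j, hj⟩ := exists_eigen_sum hζ (by rw [← hord, pow_orderOf_eq_one]) χ
      have hconj : (χ : G → ℂ) (g ^ r) = (χ : G → ℂ) g := by
        rw [← hrG]; exact H12.irr_isClassFunction χ g x
      have h2 : (χ : G → ℂ) g = (2 : ℂ)⁻¹ * ∑ i, (ζ ^ (j i) + (ζ ^ r) ^ (j i)) := by
        rw [Finset.sum_add_distrib]
        have e1 := hj 1
        have e2 := hj r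
        simp only [mul_one, pow_one] at e1
        simp only [mul_comm (j _) r, pow_mul] at e2
        rw [hconj] at e2
        rw [← e1, ← e2]
        ring
      set W := IntermediateField.adjoin ℚ ({w} : Set ℂ)
      have hwW : w ∈ W := IntermediateField.subset_adjoin ℚ _ rfl
      have hs : ∀ i : ℕ, ζ ^ i + (ζ ^ r) ^ i ∈ W := by
        intro i
        induction i using Nat.strong_induction_on with
        | _ i ih =>
          match i with
          | 0 =>
            simp only [pow_zero]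
            exact add_mem (one_mem W) (one_mem W)
          | 1 => simpa [hw] using hwW
          | i + 2 =>
            have e : ζ ^ (i + 2) + (ζ ^ r) ^ (i + 2) =
                w * (ζ ^ (i + 1) + (ζ ^ r) ^ (i + 1)) - ζ ^ (r + 1) * (ζ ^ i + (ζ ^ r) ^ i) := by
              rw [hw, pow_succ ζ r]; ring
            rw [e]
            refine sub_mem (mul_mem hwW (ih _ (by omega))) (mul_mem ?_ (ih _ (by omega)))
            rcases hv with h | h <;> rw [h]
            · exact one_mem W
            · exact neg_mem (one_mem W)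
      show (χ : G → ℂ) g ∈ W
      rw [h2]
      refine mul_mem (inv_mem (natCast_mem W 2)) (sum_mem fun i _ => hs (j i))
    · rintro _ rfl
      set F := IntermediateField.adjoin ℚ {z : ℂ | ∃ χ : Cfsg.IrrCharacter G, (χ : G → ℂ) g = z}
      let gg : Subgroup.zpowers g := ⟨g, Subgroup.mem_zpowers g⟩
      have hgg : ∀ y : Subgroup.zpowers g, y ∈ Subgroup.zpowers gg := fun y => by
        obtain ⟨i, hi⟩ := Subgroup.mem_zpowers_iff.1 y.2
        exact Subgroup.mem_zpowers_iff.2 ⟨i, Subtype.ext (by simpa [gg] using hi)⟩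
      let z : ℂˣ := Units.mk0 ζ (hζ.ne_zero (NeZero.ne _))
      have hz : orderOf z ∣ orderOf gg := by
        rw [show orderOf gg = 2 ^ (n - 1) by rw [← Subgroup.orderOf_coe]; exact hord,
          orderOf_dvd_iff_pow_eq_one]
        exact Units.ext (by simpa [z] using hζ.pow_eq_one)
      let f := monoidHomOfForallMemZpowers hgg hz
      have hf : f gg = z := monoidHomOfForallMemZpowers_apply_gen hgg hz
      haveI := Fintype.ofFinite (Subgroup.zpowers g)
      obtain ⟨m, hm⟩ := H12.IsCharacter.exists_mult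
        (H12.IsCharacter.indFun (H := Subgroup.zpowers g) (H12.isCharacter_monoidHom f))
      set Φ := indFun (Subgroup.zpowers g) (fun y => (f y : ℂ)) with hΦ
      have hmem : Φ g ∈ F := by
        rw [hm, Finset.sum_apply]
        refine sum_mem fun χ _ => ?_
        rw [Pi.smul_apply, smul_eq_mul]
        exact mul_mem (natCast_mem F _) (IntermediateField.subset_adjoin ℚ _ ⟨χ, rfl⟩)
      let A : Finset G := Finset.univ.filter fun y => y⁻¹ * g * y = g
      let B : Finset G := Finset.univ.filter fun y => y⁻¹ * g * y = g ^ r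
      have hval : Φ g = (Nat.card (Subgroup.zpowers g) : ℂ)⁻¹ * ((A.card : ℂ) * w) := by
        rw [hΦ, H12.indFun_apply]
        congr 1
        have hpt : ∀ y : G, extendByZero (Subgroup.zpowers g) (fun y => (f y : ℂ)) (y⁻¹ * g * y) =
            (if y⁻¹ * g * y = g then ζ else 0) + (if y⁻¹ * g * y = g ^ r then ζ ^ r else 0) := by
          intro y
          by_cases hy : y⁻¹ * g * y ∈ Subgroup.zpowers g
          · rcases hk y⁻¹ (by rwa [inv_inv]) with h | h <;> rw [inv_inv] at h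
            · rw [if_pos h, if_neg (by rw [h]; exact Ne.symm hgr), add_zero, h]
              exact (H12.extendByZero_mk _ _ (Subgroup.mem_zpowers g)).trans (by
                show ((f gg : ℂˣ) : ℂ) = ζ
                rw [hf]; rfl)
            · rw [if_neg (by rw [h]; exact hgr), if_pos h, zero_add, h]
              exact (H12.extendByZero_mk _ _ (Subgroup.pow_mem _ (Subgroup.mem_zpowers g) r)).trans (by
                show ((f (gg ^ r) : ℂˣ) : ℂ) = ζ ^ r
                rw [map_pow, hf]; rfl)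
          · rw [H12.extendByZero_of_notMem _ _ hy,
              if_neg (fun h => hy (by rw [h]; exact Subgroup.mem_zpowers g)),
              if_neg (fun h => hy (by rw [h]; exact Subgroup.pow_mem _ (Subgroup.mem_zpowers g) r)),
              add_zero]
        simp only [hpt, Finset.sum_add_distrib, ← Finset.sum_filter, Finset.sum_const, nsmul_eq_mul]
        have hAB : A.card = B.card := by
          refine Finset.card_bij (fun y _ => y * (x : G)⁻¹) (fun y hy => ?_)
            (fun _ _ _ _ h => mul_right_cancel h) (fun y hy => ⟨y * x, ?_, mul_inv_cancel_right _ _⟩)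
          · have h := (Finset.mem_filter.1 hy).2
            refine Finset.mem_filter.2 ⟨Finset.mem_univ _, ?_⟩
            rw [← hrG]
            calc (y * (x : G)⁻¹)⁻¹ * g * (y * (x : G)⁻¹) = (x : G) * (y⁻¹ * g * y) * (x : G)⁻¹ := by group
              _ = _ := by rw [h]
          · have h := (Finset.mem_filter.1 hy).2
            refine Finset.mem_filter.2 ⟨Finset.mem_univ _, ?_⟩
            rw [← hrG] at h
            calc (y * (x : G))⁻¹ * g * (y * (x : G)) = (x : G)⁻¹ * (y⁻¹ * g * y) * (x : G) := by group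
              _ = g := by rw [h]; group
        show (A.card : ℂ) * ζ + (B.card : ℂ) * ζ ^ r = _
        rw [← hAB, hw]
        ring
      have hA0 : (A.card : ℂ) ≠ 0 := by
        have : 0 < A.card := Finset.card_pos.2 ⟨1, Finset.mem_filter.2 ⟨Finset.mem_univ _, by group⟩⟩
        exact_mod_cast this.ne'
      have hH0 : (Nat.card (Subgroup.zpowers g) : ℂ) ≠ 0 := by exact_mod_cast Nat.card_pos.ne'
      show w ∈ F
      rw [show w = (Nat.card (Subgroup.zpowers g) : ℂ) * (A.card : ℂ)⁻¹ * Φ g by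
        rw [hval]; field_simp]
      exact mul_mem (mul_mem (natCast_mem F _) (inv_mem (natCast_mem F _))) hmem
  have hζ0 : ζ ≠ 0 := hζ.ne_zero (NeZero.ne _)
  rcases hv with h | h <;> rw [pow_succ] at h
  · left
    rw [hF, hw, eq_inv_of_mul_eq_one_left h]
  · right
    rw [hF, hw, show ζ ^ r = -ζ⁻¹ by field_simp; linear_combination h]
    rfl

theorem backward (P : Sylow 2 G) (n : ℕ) (hn : 3 ≤ n) (hP : Nat.card ↥P = 2 ^ n) (ζ : ℂ)
    (hζ : IsPrimitiveRoot ζ (2 ^ (n - 1))) (g : G) (hgP : g ∈ (P : Subgroup G))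
    (heven : 2 ∣ (Subgroup.centralizer ({g} : Set G)).index)
    (hfield : IntermediateField.adjoin ℚ {z : ℂ | ∃ χ : Cfsg.IrrCharacter G, (χ : G → ℂ) g = z} =
          IntermediateField.adjoin ℚ ({ζ + ζ⁻¹} : Set ℂ) ∨
        IntermediateField.adjoin ℚ {z : ℂ | ∃ χ : Cfsg.IrrCharacter G, (χ : G → ℂ) g = z} =
          IntermediateField.adjoin ℚ ({ζ - ζ⁻¹} : Set ℂ)) :
    (commutator ↥P).index = 4 := by
  classical
  haveI : Fact (Nat.Prime 2) := ⟨Nat.prime_two⟩
  haveI : NeZero (2 ^ (n - 1)) := ⟨by positivity⟩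
  haveI := Fintype.ofFinite G
  have hPp : IsPGroup 2 ↥P := P.isPGroup'
  set a : ↥P := ⟨g, hgP⟩ with ha
  -- `P` is not abelian
  have hna : ¬ IsMulCommutative ↥P := by
    intro h
    have hle : (P : Subgroup G) ≤ Subgroup.centralizer ({g} : Set G) := fun y hy =>
      Subgroup.mem_centralizer_singleton_iff.2
        (congrArg Subtype.val (h.is_comm.comm (⟨y, hy⟩ : ↥P) a))
    exact P.not_dvd_index (heven.trans (Subgroup.index_dvd_of_le hle))
  have hge : 4 ∣ (commutator ↥P).index := by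
    obtain ⟨i, hi⟩ := hPp.index (commutator ↥P)
    have hi2 : 2 ≤ i := by
      by_contra hlt
      have hi1 : i ≤ 1 := by omega
      apply hna
      haveI : IsCyclic (↥P ⧸ commutator ↥P) := by
        rcases Nat.le_one_iff_eq_zero_or_eq_one.mp hi1 with rfl | rfl
        · haveI : Subsingleton (↥P ⧸ commutator ↥P) := by
            rw [← Finite.card_le_one_iff_subsingleton, ← Subgroup.index_eq_card, hi, pow_zero]
          infer_instance
        · exact isCyclic_of_prime_card (p := 2) (by rw [← Subgroup.index_eq_card, hi, pow_one])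
      obtain ⟨q, hq⟩ := IsCyclic.exists_generator (α := ↥P ⧸ commutator ↥P)
      obtain ⟨y, rfl⟩ := QuotientGroup.mk_surjective q
      have htop : Subgroup.zpowers y = ⊤ := by
        refine H6.eq_top_of_sup_frattini (eq_top_iff.mpr fun s _ => ?_)
        obtain ⟨j, hj⟩ := Subgroup.mem_zpowers_iff.mp (hq (s : ↥P ⧸ commutator ↥P))
        rw [← QuotientGroup.mk_zpow, QuotientGroup.eq] at hj
        have := mul_mem (Subgroup.mem_sup_left (Subgroup.zpow_mem _ (Subgroup.mem_zpowers y) j) :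
          y ^ j ∈ Subgroup.zpowers y ⊔ frattini ↥P)
          (Subgroup.mem_sup_right (H6.commutator_le_frattini hPp hj))
        rwa [mul_inv_cancel_left] at this
      refine ⟨⟨fun u v => ?_⟩⟩
      obtain ⟨i', rfl⟩ := Subgroup.mem_zpowers_iff.mp (htop ▸ Subgroup.mem_top u : u ∈ Subgroup.zpowers y)
      obtain ⟨j', rfl⟩ := Subgroup.mem_zpowers_iff.mp (htop ▸ Subgroup.mem_top v : v ∈ Subgroup.zpowers y)
      rw [← zpow_add, ← zpow_add, add_comm]
    rw [hi]
    exact (show (4 : ℕ) = 2 ^ 2 by norm_num) ▸ Nat.pow_dvd_pow 2 hi2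
  have hbot : commutator ↥P ≠ ⊥ := fun h => hna (by
    rw [commutator_def, Subgroup.commutator_self_eq_bot_iff] at h
    exact ⟨⟨fun u v => congrArg Subtype.val (h.is_comm.comm (⟨u, trivial⟩ : (⊤ : Subgroup ↥P)) ⟨v, trivial⟩)⟩⟩)
  rcases Nat.lt_or_ge n 4 with hn4 | hn4
  · obtain rfl : n = 3 := by omega
    have h := (commutator ↥P).card_mul_index
    rw [hP] at h
    obtain ⟨e, he⟩ := hge
    have hc : 1 < Nat.card (commutator ↥P) := by
      haveI : Nontrivial (commutator ↥P) := (Subgroup.nontrivial_iff_ne_bot _).2 hbot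
      exact Finite.one_lt_card
    rw [he, show (2 : ℕ) ^ 3 = 8 from rfl] at h
    rw [he]
    have h2 : Nat.card (commutator ↥P) * e = 2 := by nlinarith [h]
    have he0 : 0 < e := Nat.pos_of_ne_zero fun h0 => by rw [h0] at h2; simp at h2
    nlinarith
  have hpow : 2 * 2 ^ (n - 1) = 2 ^ n := by rw [← pow_succ']; congr 1; omega
  -- the order of `g`
  obtain ⟨m, hm⟩ := IsPGroup.iff_orderOf.1 hPp a
  have hmn : m ≤ n - 1 := by
    have hd : orderOf a ∣ 2 ^ n := hP ▸ orderOf_dvd_natCard a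
    rw [hm, Nat.pow_dvd_pow_iff_le_right (by norm_num)] at hd
    by_contra hlt
    apply hna
    have htop : Subgroup.zpowers a = ⊤ := by
      refine Subgroup.eq_top_of_card_eq _ ?_
      rw [Nat.card_zpowers, hm, show Nat.card ↥P = 2 ^ n from hP, show m = n by omega]
    refine ⟨⟨fun u v => ?_⟩⟩
    obtain ⟨i', rfl⟩ := Subgroup.mem_zpowers_iff.mp (htop ▸ Subgroup.mem_top u : u ∈ Subgroup.zpowers a)
    obtain ⟨j', rfl⟩ := Subgroup.mem_zpowers_iff.mp (htop ▸ Subgroup.mem_top v : v ∈ Subgroup.zpowers a)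
    rw [← zpow_add, ← zpow_add, add_comm]
  have hζ0 : ζ ≠ 0 := hζ.ne_zero (NeZero.ne _)
  have hζ2 : ζ ^ 4 ≠ 1 := by
    intro h
    have := Nat.le_of_dvd (by norm_num) ((hζ.pow_eq_one_iff_dvd 4).1 h)
    have := Nat.pow_le_pow_right (show 2 > 0 by norm_num) (show 3 ≤ n - 1 by omega)
    omega
  set S : Set ℂ := {z : ℂ | ∃ χ : Cfsg.IrrCharacter G, (χ : G → ℂ) g = z}
  obtain ⟨w, hw, hwcase⟩ : ∃ w : ℂ, IntermediateField.adjoin ℚ S = IntermediateField.adjoin ℚ {w} ∧
      (w = ζ + ζ⁻¹ ∨ w = ζ - ζ⁻¹) := by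
    rcases hfield with h | h
    · exact ⟨_, h, Or.inl rfl⟩
    · exact ⟨_, h, Or.inr rfl⟩
  have hwS : ∀ σ : ℂ ≃+* ℂ, (∀ s ∈ S, σ s = s) → σ w = w := fun σ hσ =>
    map_eq_of_mem_adjoin hσ (hw ▸ IntermediateField.subset_adjoin ℚ _ rfl)
  -- `g` has order `2 ^ (n - 1)`
  have hmeq : m = n - 1 := by
    by_contra hne
    have hm2 : m ≤ n - 2 := by omega
    have h2e : (2 : ℕ) ^ (n - 1) = 2 * 2 ^ (n - 2) := by rw [← pow_succ']; congr 1; omega
    obtain ⟨σ, hσ⟩ := H25.exists_ringEquiv_pow_rootOfUnity (2 ^ (n - 1)) (1 + 2 ^ (n - 2))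
      (by positivity) (by
        refine Nat.Coprime.pow_right _ (Nat.coprime_comm.1 (Nat.prime_two.coprime_iff_not_dvd.2 ?_))
        have : 2 ∣ 2 ^ (n - 2) := dvd_pow_self 2 (by omega)
        omega)
    have hhalf : ζ ^ 2 ^ (n - 2) = -1 := by
      refine (mul_self_eq_one_iff.1 ?_).resolve_left ?_
      · rw [← pow_add, ← two_mul, ← h2e, hζ.pow_eq_one]
      · intro h
        have := Nat.le_of_dvd (by positivity) ((hζ.pow_eq_one_iff_dvd _).1 h)
        have : 0 < 2 ^ (n - 2) := by positivity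
        omega
    have hσζ : σ ζ = -ζ := by
      rw [hσ ζ hζ.pow_eq_one, pow_add, pow_one, hhalf]; ring
    have hSfix : ∀ s ∈ S, σ s = s := by
      rintro _ ⟨χ, rfl⟩
      have hg' : g ^ 2 ^ (n - 2) = 1 := by
        have : orderOf g = 2 ^ m := by rw [← hm, ← Subgroup.orderOf_coe]
        rw [← orderOf_dvd_iff_pow_eq_one, this]
        exact Nat.pow_dvd_pow 2 hm2
      haveI : NeZero (2 ^ (n - 2)) := ⟨by positivity⟩
      obtain ⟨d, j, hj⟩ := exists_eigen_sum (hζ.pow (by positivity) h2e) hg' χ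
      have h1 := hj 1
      simp only [pow_one, mul_one] at h1
      rw [h1, map_sum]
      exact Finset.sum_congr rfl fun i _ => by rw [map_pow, map_pow, hσζ, neg_sq]
    have := hwS σ hSfix
    rcases hwcase with h | h
    · rw [h, map_add, map_inv₀, hσζ] at this
      have h0 : ζ + ζ⁻¹ = 0 := by rw [inv_neg] at this; linear_combination -(1 / 2 : ℂ) * this
      field_simp at h0
      apply hζ2
      linear_combination (ζ ^ 2 - 1) * h0
    · rw [h, map_sub, map_inv₀, hσζ] at this
      have h0 : ζ - ζ⁻¹ = 0 := by rw [inv_neg] at this; linear_combination -(1 / 2 : ℂ) * this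
      field_simp at h0
      apply hζ2
      linear_combination (ζ ^ 2 + 1) * h0
  subst hmeq
  have horda : orderOf a = 2 ^ (n - 1) := hm
  have hord : orderOf g = 2 ^ (n - 1) := by rw [← horda, ← Subgroup.orderOf_coe]
  have hCi : (Subgroup.zpowers a).index = 2 := by
    have h := (Subgroup.zpowers a).card_mul_index
    rw [Nat.card_zpowers, horda, show Nat.card ↥P = 2 ^ n from hP, ← hpow] at h
    exact Nat.eq_of_mul_eq_mul_left (show 0 < 2 ^ (n - 1) by positivity) (h.trans (mul_comm _ _))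
  haveI := Subgroup.normal_of_index_eq_two hCi
  have hnorm : ∀ y ∈ (P : Subgroup G), y * g * y⁻¹ ∈ Subgroup.zpowers g := by
    intro y hy
    obtain ⟨i, hi⟩ := Subgroup.mem_zpowers_iff.1
      (Subgroup.Normal.conj_mem inferInstance a (Subgroup.mem_zpowers a) ⟨y, hy⟩)
    exact Subgroup.mem_zpowers_iff.2 ⟨i, by simpa [ha] using congrArg Subtype.val hi⟩
  -- the exponent fixing the field
  obtain ⟨b, hb1, hbw⟩ : ∃ b : ℕ, b % 4 = 3 ∧
      ∀ σ : ℂ ≃+* ℂ, σ ζ = ζ ^ b → σ w = w := by
    have h8 : 8 ≤ 2 ^ (n - 1) := by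
      calc 8 = 2 ^ 3 := rfl
        _ ≤ 2 ^ (n - 1) := Nat.pow_le_pow_right (by norm_num) (by omega)
    have h4a : (4 : ℕ) ∣ 2 ^ (n - 1) := (show (4 : ℕ) = 2 ^ 2 by norm_num) ▸ Nat.pow_dvd_pow 2 (by omega)
    have h4b : (4 : ℕ) ∣ 2 ^ (n - 2) := (show (4 : ℕ) = 2 ^ 2 by norm_num) ▸ Nat.pow_dvd_pow 2 (by omega)
    have h0b : 0 < 2 ^ (n - 2) := by positivity
    rcases hwcase with h | h
    · refine ⟨2 ^ (n - 1) - 1, by omega, fun σ hσ => ?_⟩
      have e : ζ ^ (2 ^ (n - 1) - 1) = ζ⁻¹ := eq_inv_of_mul_eq_one_left (by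
        rw [← pow_succ, Nat.sub_add_cancel (by omega), hζ.pow_eq_one])
      rw [h, map_add, map_inv₀, hσ, e, inv_inv, add_comm]
    · refine ⟨2 ^ (n - 2) - 1, by omega, fun σ hσ => ?_⟩
      have h2e : (2 : ℕ) ^ (n - 1) = 2 * 2 ^ (n - 2) := by rw [← pow_succ']; congr 1; omega
      have hhalf : ζ ^ 2 ^ (n - 2) = -1 := by
        refine (mul_self_eq_one_iff.1 ?_).resolve_left ?_
        · rw [← pow_add, ← two_mul, ← h2e, hζ.pow_eq_one]
        · intro h'
          have := Nat.le_of_dvd (by positivity) ((hζ.pow_eq_one_iff_dvd _).1 h')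
          omega
      have e : ζ ^ (2 ^ (n - 2) - 1) = -ζ⁻¹ := by
        have h1 : ζ ^ (2 ^ (n - 2) - 1) * ζ = -1 := by
          rw [← pow_succ, Nat.sub_add_cancel (by omega), hhalf]
        field_simp
        linear_combination h1
      rw [h, map_sub, map_inv₀, hσ, e, inv_neg, inv_inv]
      ring
  obtain ⟨σ, hσ⟩ := H25.exists_ringEquiv_pow_rootOfUnity (2 ^ (n - 1)) b (by positivity)
    (Nat.Coprime.pow_right _ (Nat.coprime_comm.1 (Nat.prime_two.coprime_iff_not_dvd.2 (by omega))))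
  have hσw := hbw σ (hσ ζ hζ.pow_eq_one)
  have hσS : ∀ s ∈ S, σ s = s := fun s hs =>
    map_eq_of_mem_adjoin (S := {w}) (by simpa using hσw) (hw ▸ IntermediateField.subset_adjoin ℚ S hs)
  have hconj : IsConj g (g ^ b) := by
    refine (H12.isConj_iff_irr _ _).2 fun χ => ?_
    obtain ⟨d, j, hj⟩ := exists_eigen_sum hζ (by rw [← hord, pow_orderOf_eq_one]) χ
    have h1 := hσS _ ⟨χ, rfl⟩
    have e1 := hj 1
    simp only [pow_one, mul_one] at e1
    rw [← h1, e1, map_sum, hj b]
    exact Finset.sum_congr rfl fun i _ => by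
      rw [map_pow, hσ ζ hζ.pow_eq_one, ← pow_mul, mul_comm]
  obtain ⟨c, hc⟩ := isConj_iff.1 hconj
  obtain ⟨x, hxP, hx⟩ := exists_mem_sylow_conj P hn hord hnorm hc
  set xx : ↥P := ⟨x, hxP⟩
  have hsq : a ^ 2 ∈ commutator ↥P := by
    have h1 : xx * a * xx⁻¹ * a⁻¹ ∈ commutator ↥P := by
      rw [← commutatorElement_def, commutator_def]
      exact Subgroup.commutator_mem_commutator (Subgroup.mem_top _) (Subgroup.mem_top _)
    obtain ⟨e, he⟩ : ∃ e, b = 4 * e + 3 := ⟨b / 4, by omega⟩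
    have h2 : xx * a * xx⁻¹ * a⁻¹ = (a ^ 2) ^ (2 * e + 1) := by
      have h3 : xx * a * xx⁻¹ = a ^ b := Subtype.ext (by simpa [xx, ha] using hx)
      rw [h3, ← pow_mul, he, show 4 * e + 3 = 2 * (2 * e + 1) + 1 by ring, pow_succ,
        mul_inv_cancel_right]
    rw [h2] at h1
    have hcop : (orderOf (a ^ 2)).Coprime (2 * e + 1) := by
      have hdvd : orderOf (a ^ 2) ∣ 2 ^ (n - 1) := horda ▸ orderOf_pow_dvd 2
      exact Nat.Coprime.of_dvd_left hdvd
        (Nat.Coprime.pow_left _ (Nat.prime_two.coprime_iff_not_dvd.2 (by omega)))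
    obtain ⟨t, ht⟩ := exists_pow_eq_self_of_coprime hcop.symm
    rw [← ht]
    exact Subgroup.pow_mem _ h1 t
  have hle : (commutator ↥P).index ∣ 4 := by
    have h1 := Subgroup.index_dvd_of_le (Subgroup.zpowers_le.2 hsq)
    have h2 := (Subgroup.zpowers (a ^ 2)).card_mul_index
    rw [Nat.card_zpowers, orderOf_pow' _ (by norm_num), horda, show Nat.card ↥P = 2 ^ n from hP,
      Nat.gcd_eq_right (dvd_pow_self 2 (by omega)), ← hpow] at h2
    have h3 : (2 : ℕ) ^ (n - 1) = 2 * (2 ^ (n - 1) / 2) :=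
      (Nat.mul_div_cancel' (dvd_pow_self 2 (by omega))).symm
    have h4 : 0 < 2 ^ (n - 1) / 2 :=
      Nat.div_pos (Nat.le_of_dvd (by positivity) (dvd_pow_self 2 (by omega))) (by norm_num)
    have h5 : (Subgroup.zpowers (a ^ 2)).index = 4 := by
      apply Nat.eq_of_mul_eq_mul_left h4
      rw [h2]
      omega
    rwa [h5] at h1
  exact Nat.dvd_antisymm hle hge

/-- Let G be a finite group with Sylow 2-subgroup P of order 2^n ≥ 8, and let ζ be a primitive 2^(n−1)-th root of unity in ℂ. Then the commutator subgroup of P has index 4 in P if and only if there is an element g of P whose conjugacy class in G has even size and such that the field generated over ℚ by the values at g of all irreducible complex characters of G equals ℚ(ζ + ζ⁻¹) or ℚ(ζ − ζ⁻¹). -/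
theorem result {G : Type*} [Group G] [Finite G] (P : Sylow 2 G) (n : ℕ) (hn : 3 ≤ n) (hP : Nat.card P = 2 ^ n) (ζ : ℂ) (hζ : IsPrimitiveRoot ζ (2 ^ (n - 1))) :
    (commutator ↥P).index = 4 ↔
      ∃ g : G, g ∈ (P : Subgroup G) ∧ 2 ∣ (Subgroup.centralizer ({g} : Set G)).index ∧
        (IntermediateField.adjoin ℚ {z : ℂ | ∃ χ : Cfsg.IrrCharacter G, (χ : G → ℂ) g = z} = IntermediateField.adjoin ℚ ({ζ + ζ⁻¹} : Set ℂ) ∨
          IntermediateField.adjoin ℚ {z : ℂ | ∃ χ : Cfsg.IrrCharacter G, (χ : G → ℂ) g = z} = IntermediateField.adjoin ℚ ({ζ - ζ⁻¹} : Set ℂ)) :=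
  ⟨forward P n hn hP ζ hζ,
    fun ⟨g, h1, h2, h3⟩ => backward P n hn hP ζ hζ g h1 h2 h3⟩

end Cfsg.Agent.S4923
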