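import Cfsg.Statements.S4924
import Cfsg.Agent.H25.HeightTwoThree
import Cfsg.Agent.H85.QuatEightSylow
import Cfsg.Agent.H20.PrincipalPrime
import Cfsg.Agent.S0960

set_option autoImplicit false
open Cfsg

namespace Cfsg.Agent.S4924

/-- Let G be a finite group, p a prime, M a maximal ideal of the algebraic integers containing p, P a Sylow p-subgroup of G, and k = 2 or k = 3. Then the principal p-block of G contains exactly k irreducible characters of degree not divisible by p (its height-zero characters) if and only if P has order k. -/
theorem result {G : Type*} [Group G] [Finite G] (p : ℕ) [Fact p.Prime] (M : Ideal Cfsg.AlgInt) (hM : Cfsg.IsPModular p M) (P : Sylow p G) (k : ℕ) (hk : k = 2 ∨ k = 3) :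
    Nat.card {χ : Cfsg.IrrCharacter G // χ ∈ Cfsg.principalBlock M G ∧ ¬ p ∣ Cfsg.charDegree (χ : G → ℂ)} = k ↔ Nat.card P = k := by
  classical
  haveI := Fintype.ofFinite G
  haveI := H20.isPrime_of_modular hM
  rw [H25.HeightTwoThree.natCard_eq_card]
  constructor
  · intro hcard
    by_cases hdvd : p ∣ Nat.card G
    · rcases hk with rfl | rfl
      · exact H25.HeightTwoThree.card_eq_of_two hM P hdvd hcard
      · exact H25.HeightTwoThree.card_eq_three_of_three hM P hdvd
          (H25.HeightTwoThree.prime_eq_three hM hdvd hcard) hcard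
    · exfalso
      have h0 : (Nat.card G).factorization p = 0 :=
        Nat.factorization_eq_zero_of_not_dvd hdvd
      have hB : IsPBlock M (Cfsg.principalBlock M G) := H20.isPBlock_principalBlock
      have hS := H22.factorization_sum_sq hM hB (H22.weakOrth_of_block hM hB)
      have h1 : (H25.HeightTwoThree.zeroSet p M G).card ≤
          Nat.card (Cfsg.principalBlock M G) := by
        rw [← H25.HeightTwoThree.natCard_eq_card]
        exact Nat.card_le_card_of_injective (fun χ => ⟨χ.1, χ.2.1⟩) fun a b h =>
          Subtype.ext (congrArg Subtype.val h :)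
      have hb : Nat.card (Cfsg.principalBlock M G) ≤ 1 := by
        have hd : H22.blockFinset (Cfsg.principalBlock M G) ⊆ {H12.oneIrr G} := by
          intro χ hχ
          rw [Finset.mem_singleton]
          refine Subtype.ext (funext fun g => ?_)
          have hker := H20.kernel_of_sameBlock hM (⊤ : Subgroup G)
            (by rw [Subgroup.card_top]; exact hdvd)
            (H20.sameBlock_of_mem hB
              (show H12.oneIrr G ∈ Cfsg.principalBlock M G from
                H20.mem_blockOf_self (H12.oneIrr G)) (H22.mem_blockFinset.1 hχ))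
            (fun _ _ => by rw [H12.oneIrr_apply, H12.oneIrr_apply]) g trivial
          rw [hker, H12.oneIrr_apply]
          have hone := H12.classInner_irr_self χ
          have hconst : ∀ x : G, (χ : G → ℂ) x = (χ : G → ℂ) 1 := fun x =>
            H20.kernel_of_sameBlock hM (⊤ : Subgroup G)
              (by rw [Subgroup.card_top]; exact hdvd)
              (H20.sameBlock_of_mem hB
                (show H12.oneIrr G ∈ Cfsg.principalBlock M G from
                  H20.mem_blockOf_self (H12.oneIrr G)) (H22.mem_blockFinset.1 hχ))
              (fun _ _ => by rw [H12.oneIrr_apply, H12.oneIrr_apply]) x trivial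
          simp only [H12.classInner_def, hconst, Finset.sum_const, Finset.card_univ,
            ← Nat.card_eq_fintype_card, nsmul_eq_mul] at hone
          rw [inv_mul_cancel_left₀ (Nat.cast_ne_zero.2 Nat.card_pos.ne'),
            H22.irr_one_eq_charDegree, Complex.conj_natCast] at hone
          rw [H22.irr_one_eq_charDegree]
          have h2 : Cfsg.charDegree (χ : G → ℂ) * Cfsg.charDegree (χ : G → ℂ) = 1 := by
            exact_mod_cast hone
          rw [Nat.eq_one_of_mul_eq_one_right h2, Nat.cast_one]
        have h := Finset.card_le_card hd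
        rw [Finset.card_singleton] at h
        rwa [Nat.card_eq_fintype_card, ← Set.toFinset_card,
          show (Cfsg.principalBlock M G).toFinset = H22.blockFinset (Cfsg.principalBlock M G) from
            by ext χ; simp [H22.mem_blockFinset]]
      omega
  · intro hP
    obtain ⟨n, hn⟩ := P.2.exists_card_eq
    have hpk : p = k := by
      have h1 : Nat.Prime k := by rcases hk with rfl | rfl <;> norm_num
      rw [hn] at hP
      rcases Nat.eq_zero_or_pos n with rfl | h0
      · rw [pow_zero] at hP; exact absurd hP.symm h1.ne_one
      · exact ((Nat.prime_dvd_prime_iff_eq (Fact.out) h1).1 (hP ▸ dvd_pow_self p h0.ne'))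
    have hdvd : p ∣ Nat.card G :=
      (show p ∣ Nat.card P by rw [hP, hpk]).trans (Subgroup.card_subgroup_dvd_card _)
    rcases hk with rfl | rfl
    · subst hpk
      haveI : IsCyclic P := isCyclic_of_prime_card hP
      haveI := Fintype.ofFinite ↥(P : Subgroup G)
      have hnc := H85.hasNormalPComplement_of_cyclic_two P
      have hlin : ∀ χ ∈ H25.HeightTwoThree.zeroSet 2 M G,
          ∃ L : G →* ℂˣ, ∀ g, (χ : G → ℂ) g = (L g : ℂ) := by
        intro χ hχ
        obtain ⟨hχB, hχd⟩ := H25.HeightTwoThree.mem_zeroSet.1 hχ
        have h1 := H10.SigmaLinear.degree_eq_one hM hnc hχB (Nat.odd_iff.2 (by omega))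
        obtain ⟨L, hL⟩ := H12.exists_monoidHom_of_apply_one_eq_one (H12.isCharacter_irr χ)
          (by rw [H22.irr_one_eq_charDegree, h1, Nat.cast_one])
        exact ⟨L, fun g => (congrFun hL g).symm⟩
      choose L hL using fun χ : ↥(H25.HeightTwoThree.zeroSet 2 M G) => hlin χ.1 χ.2
      haveI : Finite (↥(P : Subgroup G) →* ℂˣ) := Finite.of_injective _ H12.linIrr_injective
      have hinj : Function.Injective fun χ : ↥(H25.HeightTwoThree.zeroSet 2 M G) =>
          (L χ).comp (P : Subgroup G).subtype := by
        intro χ ψ he
        refine Subtype.ext (Subtype.ext (funext fun g => ?_))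
        rw [hL, hL]
        congr 1
        have hK : ∀ φ : ↥(H25.HeightTwoThree.zeroSet 2 M G), ∀ n ∈ Cfsg.pResidual 2 G,
            L φ n = 1 := by
          intro φ n hn
          haveI := Fintype.ofFinite ↥(Cfsg.pResidual 2 G)
          have h := H20.kernel_of_sameBlock hM (Cfsg.pResidual 2 G)
            (H5.hasNormalPComplement_iff_not_dvd.1 hnc)
            (H20.sameBlock_of_mem H20.isPBlock_principalBlock
              (show H12.oneIrr G ∈ Cfsg.principalBlock M G from
                H20.mem_blockOf_self (H12.oneIrr G))
              (H25.HeightTwoThree.mem_zeroSet.1 φ.2).1)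
            (fun _ _ => by rw [H12.oneIrr_apply, H12.oneIrr_apply]) n hn
          rw [hL, hL, map_one] at h
          exact Units.ext h
        have hle : Cfsg.pResidual 2 G ⊔ (P : Subgroup G) ≤ (L χ).eqLocus (L ψ) :=
          sup_le (fun n hn => by
              show L χ n = L ψ n
              rw [hK χ n hn, hK ψ n hn])
            (fun y hy => show L χ y = L ψ y from DFunLike.congr_fun he ⟨y, hy⟩)
        exact hle (by rw [H5.pResidual_sup_sylow]; exact Subgroup.mem_top g)
      have h2 := Nat.card_le_card_of_injective _ hinj
      have h3 : Nat.card (↥(P : Subgroup G) →* ℂˣ) ≤ 2 := by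
        rw [H12.card_monoidHom_units]
        exact (Nat.le_of_dvd Nat.card_pos (Subgroup.index_dvd_card _)).trans_eq hP
      have h4 : (H25.HeightTwoThree.zeroSet 2 M G).card ≠ 1 := by
        intro h
        obtain ⟨a, ha⟩ := Finset.card_eq_one.1 h
        have ha1 : H12.oneIrr G = a := by
          have := H25.HeightTwoThree.one_mem (p := 2) (M := M) (G := G)
          rw [ha] at this
          exact Finset.mem_singleton.1 this
        have := H25.HeightTwoThree.dvd_of_eq_sum hM hdvd
          (fun φ => (Cfsg.charDegree (φ : G → ℂ) : ℤ)) (fun φ _ => by simp) 1 (z := 1)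
          (by rw [ha, Finset.sum_singleton, ← ha1]; simp [Cfsg.charDegree, H12.oneIrr_apply])
        norm_num at this
      have h5 : 0 < (H25.HeightTwoThree.zeroSet 2 M G).card :=
        Finset.card_pos.2 ⟨_, H25.HeightTwoThree.one_mem⟩
      rw [Nat.card_eq_fintype_card, Fintype.card_coe] at h2
      omega
    · subst hpk
      obtain ⟨h1, h2⟩ := Cfsg.Agent.S0960.result 3 M hM (by norm_num) P hP _ rfl
      have he := H20.PrimeSylow.exists_autG_dvd (P := P) hP
      rw [H20.card_autG] at he
      set e := (Subgroup.centralizer ((P : Subgroup G) : Set G)).relIndex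
        (Subgroup.normalizer ((P : Subgroup G) : Set G))
      have he2 : e = 1 ∨ e = 2 := (Nat.dvd_prime Nat.prime_two).1 he
      have hall : ∀ χ ∈ Cfsg.principalBlock M G, ¬ 3 ∣ Cfsg.charDegree (χ : G → ℂ) := by
        intro χ hχ hd
        have h3 : ((3 : ℕ) : ℤ) ∣ (Cfsg.charDegree (χ : G → ℂ) : ℤ) := by exact_mod_cast hd
        rcases he2 with he' | he' <;> rw [he'] at h2 <;>
          rcases h2 χ hχ with h | h | h | h <;>
            (rw [Int.ModEq] at h; omega)
      rw [← H25.HeightTwoThree.natCard_eq_card]
      refine (Nat.card_congr (Equiv.subtypeEquivRight fun χ =>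
        ⟨fun h => h.1, fun h => ⟨h, hall χ h⟩⟩)).trans ?_
      rcases he2 with he' | he' <;> rw [he'] at h1 <;> exact h1

end Cfsg.Agent.S4924
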