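import Cfsg.Statements.S4926
import Cfsg.Agent.H25.FiveHeight

set_option autoImplicit false
open Cfsg

namespace Cfsg.Agent.S4926

/-- Let G be a finite group, p a prime, M a maximal ideal of the algebraic integers containing p, and P a Sylow p-subgroup of G with normalizer N and centralizer C. Then the principal p-block of G contains exactly five irreducible characters of degree not divisible by p if and only if either P has order 5 and the index of C in N is 1 or 4, or P has order 7 and the index of C in N is 2 or 3. -/
theorem result {G : Type*} [Group G] [Finite G] (p : ℕ) [Fact p.Prime] (M : Ideal Cfsg.AlgInt) (hM : Cfsg.IsPModular p M) (P : Sylow p G) :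
    Nat.card {χ : Cfsg.IrrCharacter G // χ ∈ Cfsg.principalBlock M G ∧ ¬ p ∣ Cfsg.charDegree (χ : G → ℂ)} = 5 ↔
      ((Nat.card P = 5 ∧ ((Subgroup.centralizer ((P : Subgroup G) : Set G)).relIndex (Subgroup.normalizer ((P : Subgroup G) : Set G)) = 1 ∨ (Subgroup.centralizer ((P : Subgroup G) : Set G)).relIndex (Subgroup.normalizer ((P : Subgroup G) : Set G)) = 4)) ∨
        (Nat.card P = 7 ∧ ((Subgroup.centralizer ((P : Subgroup G) : Set G)).relIndex (Subgroup.normalizer ((P : Subgroup G) : Set G)) = 2 ∨ (Subgroup.centralizer ((P : Subgroup G) : Set G)).relIndex (Subgroup.normalizer ((P : Subgroup G) : Set G)) = 3))) := by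
  classical
  haveI := Fintype.ofFinite G
  haveI := H20.isPrime_of_modular hM
  rw [H25.HeightTwoThree.natCard_eq_card]
  have hp := (Fact.out : p.Prime)
  constructor
  · intro hk
    have hdvd : p ∣ Nat.card G := by
      by_contra hnd
      have h0 : blockDefect p (principalBlock M G) = 0 := by
        rw [H22.blockDefect_principalBlock]
        exact Nat.factorization_eq_zero_of_not_dvd hnd
      have hle := Finset.card_filter_le (H22.blockFinset (principalBlock M G))
        (fun φ : IrrCharacter G => ¬ p ∣ charDegree (φ : G → ℂ))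
      have h1 : (H22.blockFinset (principalBlock M G)).card = 1 := by
        rw [← H22.natCard_block, H20.singleton_of_defect_zero hM H20.isPBlock_principalBlock h0
          (H20.mem_blockOf_self (H12.oneIrr G))]
        simp
      have h5 : (H25.HeightTwoThree.zeroSet p M G).card ≤ 1 := h1 ▸ hle
      omega
    have hp2 : p ≠ 2 := by
      intro hp2
      have h := H25.FiveHeight.dvd_sum_sq hM hdvd
      have h2 : (p : ℤ) ∣ ∑ φ ∈ H25.HeightTwoThree.zeroSet p M G,
          ((charDegree (φ : G → ℂ) : ℤ) ^ 2 - 1) := by
        refine Finset.dvd_sum fun φ hφ => ?_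
        have hd := (H25.HeightTwoThree.mem_zeroSet.1 hφ).2
        subst hp2
        obtain ⟨k, hk⟩ := Nat.odd_iff.2 (Nat.two_dvd_ne_zero.1 hd)
        exact ⟨2 * (k : ℤ) ^ 2 + 2 * k, by rw [hk]; push_cast; ring⟩
      rw [Finset.sum_sub_distrib, Finset.sum_const, hk, nsmul_one] at h2
      have h5 := dvd_sub h h2
      subst hp2
      norm_num at h5
    have hP := H25.FiveHeight.card_eq_of_le_five hM P hdvd hp2 hk.le
    obtain ⟨hc, he⟩ := H25.FiveHeight.card_of_prime hM hp2 P hP _ rfl
    rw [hk] at hc
    generalize (Subgroup.centralizer ((P : Subgroup G) : Set G)).relIndex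
      (Subgroup.normalizer ((P : Subgroup G) : Set G)) = e at hc he ⊢
    obtain ⟨t, ht⟩ := he
    have he0 : 0 < e := by
      rcases Nat.eq_zero_or_pos e with rfl | h
      · omega
      · exact h
    rw [ht, Nat.mul_div_cancel_left _ he0] at hc
    have := hp.two_le
    have : e ≤ 5 := by omega
    interval_cases e <;> omega
  · intro h
    have key : ∀ q, q.Prime → Nat.card P = q → p = q := fun q hq hPq => by
      obtain ⟨n, hn⟩ := P.2.exists_card_eq
      have hn0 : n ≠ 0 := by
        rintro rfl
        rw [hn, pow_zero] at hPq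
        exact hq.ne_one hPq.symm
      exact (Nat.prime_dvd_prime_iff_eq hp hq).1 (hPq ▸ hn ▸ dvd_pow_self p hn0)
    rcases h with ⟨hP, he | he⟩ | ⟨hP, he | he⟩
    all_goals
      obtain rfl := key _ (by norm_num) hP
      rw [(H25.FiveHeight.card_of_prime hM (by norm_num) P hP _ he).1]

end Cfsg.Agent.S4926
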