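import Cfsg.Statements.S4931
import Cfsg.Agent.H5.TateCor
import Cfsg.Agent.H14.DegreeIndex
import Cfsg.Agent.H12.Transport
import Cfsg.Agent.H13.Correspondence
import Cfsg.Agent.H6.Basic

set_option autoImplicit false
set_option linter.style.haveILetI false
open Cfsg
open scoped ComplexConjugate

namespace Cfsg.Agent.S4931

open scoped commutatorElement

universe u

variable {p : ℕ} [hp : Fact p.Prime]

/-- A self-normalizing Sylow subgroup whose derived group is cut out by a normal subgroup. -/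
theorem hasNormalPComplement_of_selfNormalizing {L : Type u} [Group L] [Finite L] (P : Sylow p L)
    (K : Subgroup L) [K.Normal]
    (hK : K ⊓ (P : Subgroup L) = ⁅(P : Subgroup L), (P : Subgroup L)⁆)
    (hN : Subgroup.normalizer ((P : Subgroup L) : Set L) ≤ (P : Subgroup L)) :
    Cfsg.HasNormalPComplement p L := by
  set J : Subgroup L := K ⊔ (P : Subgroup L) with hJ
  have hPJ : (P : Subgroup L) ≤ J := le_sup_right
  let f := QuotientGroup.mk' K
  have hf : Function.Surjective f := QuotientGroup.mk'_surjective K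
  let Pb : Sylow p (L ⧸ K) := P.mapSurjective hf
  have hPb : (Pb : Subgroup (L ⧸ K)) = (P : Subgroup L).map f := rfl
  have hJf : (Pb : Subgroup (L ⧸ K)).comap f = J := by
    rw [hPb, Subgroup.comap_map_eq, QuotientGroup.ker_mk', sup_comm]
  have hle : Subgroup.normalizer ((Pb : Subgroup (L ⧸ K)) : Set (L ⧸ K)) ≤
      Subgroup.centralizer ((Pb : Subgroup (L ⧸ K)) : Set (L ⧸ K)) := by
    intro x hx
    obtain ⟨g, rfl⟩ := hf x
    have hgJ : g ∈ J := by
      have hg : ((g • P : Sylow p L) : Subgroup L) ≤ J := by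
        intro y hy
        rw [Sylow.coe_subgroup_smul] at hy
        obtain ⟨z, hz, rfl⟩ := hy
        rw [← hJf, Subgroup.mem_comap]
        have hz' : f z ∈ (Pb : Subgroup (L ⧸ K)) := by
          rw [hPb]; exact Subgroup.mem_map_of_mem f hz
        have := (Subgroup.mem_normalizer_iff.1 hx (f z)).1 hz'
        simpa [MulAut.conj_apply] using this
      obtain ⟨j, hj⟩ := MulAction.exists_smul_eq (↥J) (P.subtype hPJ) ((g • P).subtype hg)
      rw [Sylow.smul_subtype] at hj
      have h := Sylow.subtype_injective hj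
      have hnorm : (j : L)⁻¹ * g ∈ Subgroup.normalizer ((P : Subgroup L) : Set L) := by
        refine Sylow.smul_eq_iff_mem_normalizer.1 ?_
        rw [mul_smul, ← h]
        change (j : L)⁻¹ • (j : L) • P = P
        rw [inv_smul_smul]
      have := J.mul_mem j.2 (hPJ (hN hnorm))
      simpa using this
    have hgP : f g ∈ (Pb : Subgroup (L ⧸ K)) := by
      rw [← Subgroup.mem_comap, hJf]; exact hgJ
    rw [Subgroup.mem_centralizer_iff]
    intro y hy
    rw [hPb] at hgP
    change y ∈ (Pb : Subgroup (L ⧸ K)) at hy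
    rw [hPb] at hy
    obtain ⟨a, ha, hag⟩ := hgP
    obtain ⟨b, hb, rfl⟩ := hy
    rw [← hag, ← commutatorElement_eq_one_iff_mul_comm, ← map_commutatorElement]
    apply (QuotientGroup.eq_one_iff _).2
    have hmem : ⁅b, a⁆ ∈ ⁅(P : Subgroup L), (P : Subgroup L)⁆ :=
      Subgroup.commutator_mem_commutator hb ha
    rw [← hK] at hmem
    exact hmem.1
  have hcomp : Cfsg.HasNormalPComplement p (L ⧸ K) :=
    ⟨Pb, _, inferInstance, MonoidHom.ker_transferSylow_isComplement' Pb hle⟩
  have hbot := (H5.hasNormalPComplement_iff_inf_eq_bot Pb).1 hcomp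
  set M : Subgroup L := Cfsg.pResidual p L with hM
  have hMK : M ⊓ (P : Subgroup L) ≤ K := by
    intro x hx
    have h1 : f x ∈ Cfsg.pResidual p (L ⧸ K) :=
      H5.pResidual_map_le f (Subgroup.mem_map_of_mem f hx.1)
    have h2 : f x ∈ (Pb : Subgroup (L ⧸ K)) := Subgroup.mem_map_of_mem f hx.2
    have h3 : f x ∈ (⊥ : Subgroup (L ⧸ K)) := hbot ▸ Subgroup.mem_inf.2 ⟨h1, h2⟩
    exact (QuotientGroup.eq_one_iff x).1 (Subgroup.mem_bot.1 h3)
  rw [H5.hasNormalPComplement_iff_inf_eq_bot P]
  refine H5.inf_eq_bot_of_le_frattini P M H5.pResidual_pResidual ?_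
  intro x hx
  have h4 : x ∈ ⁅(P : Subgroup L), (P : Subgroup L)⁆ := hK ▸ Subgroup.mem_inf.2 ⟨hMK hx, hx.2⟩
  rw [← Subgroup.map_subtype_commutator] at h4
  obtain ⟨y, hy, rfl⟩ := h4
  exact ⟨y, (H6.commutator_le_frattini P.2) hy, rfl⟩

/-- An irreducible character of degree prime to `p` is trivial on the derived group of a
normal `p`-subgroup. -/
theorem trivial_on_commutator {N : Type u} [Group N] [Finite N] (P : Subgroup N) [P.Normal]
    (hP : IsPGroup p P) (θ : IrrCharacter N) (hθ : ¬ p ∣ charDegree (θ : N → ℂ)) :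
    ∀ n ∈ ⁅P, P⁆, (θ : N → ℂ) n = (θ : N → ℂ) 1 := by
  classical
  haveI := Fintype.ofFinite ↥P
  haveI := Fintype.ofFinite N
  obtain ⟨φ, hφ⟩ := H13.exists_constituent P (H12.isCharacter_irr θ) (H12.irr_ne_zero θ)
  obtain ⟨e, he⟩ := H12.IsCharacter.classInner_nat (H12.IsCharacter.res (H12.isCharacter_irr θ) P)
    (H12.isCharacter_irr φ)
  have hd := H13.clifford_degree P θ.2 φ.2 hφ
  rw [he, H12.irr_apply_one, H12.irr_apply_one] at hd
  have hd' : H12.degree (θ : N → ℂ) =
      e * (H13.inertia P (φ : P → ℂ)).index * H12.degree (φ : P → ℂ) := by exact_mod_cast hd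
  have hφ1 : (φ : P → ℂ) 1 = 1 := by
    rw [H12.irr_apply_one]
    obtain ⟨k, hk⟩ := IsPGroup.iff_card.1 hP
    obtain ⟨i, -, hi⟩ := (Nat.dvd_prime_pow hp.out).1 (hk ▸ H12.irr_degree_dvd_card φ)
    rcases Nat.eq_zero_or_pos i with rfl | hi0
    · rw [hi, pow_zero, Nat.cast_one]
    · refine absurd ?_ hθ
      change p ∣ H12.degree (θ : N → ℂ)
      rw [hd', hi]
      exact (dvd_pow_self p hi0.ne').mul_left _
  intro n hn
  have hnP : n ∈ P := Subgroup.commutator_le_left P P hn
  let f : N → IrrCharacter P := fun x => H13.twistIrr P x φ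
  let s : Finset (IrrCharacter P) := Finset.univ.image f
  have hs : ∀ ψ : IrrCharacter P, ψ ∈ s ↔ ∃ x, H13.twist P x (φ : P → ℂ) = ψ := by
    intro ψ
    simp [s, f, Subtype.ext_iff, H13.twistIrr_apply]
  have hr := H13.clifford_res P θ.2 φ.2 hφ s hs
  have hn' := congrFun hr ⟨n, hnP⟩
  have h1' := congrFun hr 1
  simp only [Pi.smul_apply, Finset.sum_apply] at hn' h1'
  refine hn'.trans (Eq.trans ?_ h1'.symm)
  congr 1
  refine Finset.sum_congr rfl fun ψ hψ => ?_
  obtain ⟨x, hx⟩ := (hs ψ).1 hψ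
  have hψ1 : (ψ : P → ℂ) 1 = 1 := by
    rw [← hx, H13.twist_apply]
    rw [show (⟨x * ((1 : P) : N) * x⁻¹, _⟩ : P) = 1 from Subtype.ext (by simp)]
    exact hφ1
  rw [← Subgroup.map_subtype_commutator] at hn
  obtain ⟨y, hy, hyn⟩ := hn
  have hy1 := Abelianization.commutator_subset_ker (H13.linHom (H12.isCharacter_irr ψ) hψ1) hy
  rw [MonoidHom.mem_ker] at hy1
  have hv : (ψ : P → ℂ) y = 1 := by
    rw [← H13.linHom_apply (H12.isCharacter_irr ψ) hψ1, hy1, Units.val_one]
  rw [show (⟨n, hnP⟩ : P) = y from Subtype.ext hyn.symm, hv, hψ1]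

/-- Conversely such characters have degree prime to `p`. -/
theorem not_dvd_of_trivial {N : Type u} [Group N] [Finite N] (P : Sylow p N)
    [(P : Subgroup N).Normal] (θ : IrrCharacter N)
    (h : ∀ n ∈ ⁅(P : Subgroup N), (P : Subgroup N)⁆, (θ : N → ℂ) n = (θ : N → ℂ) 1) :
    ¬ p ∣ charDegree (θ : N → ℂ) := by
  let D : Subgroup N := ⁅(P : Subgroup N), (P : Subgroup N)⁆
  haveI : D.Normal := Subgroup.commutator_normal _ _
  obtain ⟨ψ, hψ⟩ := H12.exists_inflate_eq D θ h
  let f := QuotientGroup.mk' D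
  have hf : Function.Surjective f := QuotientGroup.mk'_surjective D
  let A : Subgroup (N ⧸ D) := (P : Subgroup N).map f
  haveI : A.Normal := Subgroup.Normal.map inferInstance f hf
  have hidx : A.index = (P : Subgroup N).index :=
    Subgroup.index_map_eq _ hf (by rw [QuotientGroup.ker_mk']; exact Subgroup.commutator_le_left _ _)
  have hab : ∀ a ∈ A, ∀ b ∈ A, a * b = b * a := by
    rintro _ ⟨a, ha, rfl⟩ _ ⟨b, hb, rfl⟩
    rw [← commutatorElement_eq_one_iff_mul_comm, ← map_commutatorElement]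
    exact (QuotientGroup.eq_one_iff _).2 (Subgroup.commutator_mem_commutator ha hb)
  have hcop : Nat.Coprime (Nat.card A) A.index := by
    rw [hidx]
    exact Nat.Coprime.coprime_dvd_left (Subgroup.card_map_dvd _ f) P.card_coprime_index
  have hdvd := H14.degree_dvd_index_of_abelian_coprime A hab hcop ψ
  intro hp'
  apply P.not_dvd_index
  rw [← hidx]
  refine dvd_trans ?_ hdvd
  rw [← hψ] at hp'
  exact hp'

/-- The irreducible characters separate the identity. -/
theorem eq_one_of_forall_irr {Q : Type u} [Group Q] [Finite Q] (g : Q)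
    (h : ∀ χ : IrrCharacter Q, (χ : Q → ℂ) g = (χ : Q → ℂ) 1) : g = 1 := by
  haveI := Fintype.ofFinite Q
  by_contra hg
  have h0 := H12.column_orthogonality g (1 : Q)
  have h1 := H12.column_orthogonality (1 : Q) (1 : Q)
  rw [if_neg (fun hc : IsConj g 1 => hg (isConj_one_left.1 hc))] at h0
  rw [if_pos (IsConj.refl (1 : Q))] at h1
  simp only [h] at h0
  rw [h0] at h1
  exact (Nat.card_pos (α := Subgroup.centralizer ({(1 : Q)} : Set Q))).ne' (by exact_mod_cast h1.symm)

theorem mem_of_forall_irr {N : Type u} [Group N] [Finite N] (D : Subgroup N) [D.Normal] (n : N)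
    (h : ∀ θ : IrrCharacter N, (∀ d ∈ D, (θ : N → ℂ) d = (θ : N → ℂ) 1) →
      (θ : N → ℂ) n = (θ : N → ℂ) 1) : n ∈ D :=
  (QuotientGroup.eq_one_iff n).1 (eq_one_of_forall_irr _ fun ψ =>
    h (H12.inflate D ψ) fun _ hd => H12.inflate_mem_kernel D ψ hd)

/-- Let G be a finite group, p a prime and P a Sylow p-subgroup of G with normalizer N. Then every irreducible complex character of N of degree not divisible by p is the restriction of an irreducible character of G if and only if there is a normal subgroup K of G with KN = G and K ∩ N = 1. -/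
theorem result {G : Type*} [Group G] [Finite G] (p : ℕ) [Fact p.Prime] (P : Sylow p G) :
    (∀ θ : Cfsg.IrrCharacter ↥(Subgroup.normalizer ((P : Subgroup G) : Set G)), ¬ p ∣ Cfsg.charDegree (θ : ↥(Subgroup.normalizer ((P : Subgroup G) : Set G)) → ℂ) →
        ∃ χ : Cfsg.IrrCharacter G, ∀ x : ↥(Subgroup.normalizer ((P : Subgroup G) : Set G)), (χ : G → ℂ) x = (θ : ↥(Subgroup.normalizer ((P : Subgroup G) : Set G)) → ℂ) x) ↔
      ∃ K : Subgroup G, K.Normal ∧ K ⊔ Subgroup.normalizer ((P : Subgroup G) : Set G) = ⊤ ∧ K ⊓ Subgroup.normalizer ((P : Subgroup G) : Set G) = ⊥ := by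
  set N : Subgroup G := Subgroup.normalizer ((P : Subgroup G) : Set G) with hNdef
  constructor
  · intro hext
    classical
    have hPN : (P : Subgroup G) ≤ N := Subgroup.le_normalizer
    let P0 : Sylow p N := P.subtype hPN
    haveI hP0 : (P0 : Subgroup N).Normal := Subgroup.normal_in_normalizer
    let D0 : Subgroup N := ⁅(P0 : Subgroup N), (P0 : Subgroup N)⁆
    haveI : D0.Normal := Subgroup.commutator_normal _ _
    have hmapP : (P0 : Subgroup N).map N.subtype = (P : Subgroup G) :=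
      Subgroup.map_subgroupOf_eq_of_le hPN
    have hmapD : D0.map N.subtype = ⁅(P : Subgroup G), (P : Subgroup G)⁆ := by
      rw [Subgroup.map_commutator, hmapP]
    let S := {θ : IrrCharacter N // ¬ p ∣ charDegree (θ : N → ℂ)}
    choose χ hχ using hext
    let ker : S → Subgroup G := fun θ => H12.charKer _ (H12.isCharacter_irr (χ θ.1 θ.2))
    have hker : ∀ (θ : S) (x : N), (x : G) ∈ ker θ ↔ (θ.1 : N → ℂ) x = (θ.1 : N → ℂ) 1 := by
      intro θ x
      rw [H12.mem_charKer, hχ, ← OneMemClass.coe_one N, hχ]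
    let K0 : Subgroup G := ⨅ θ : S, ker θ
    let L : Subgroup G := ⨅ θ : {θ : S // ∀ x ∈ (P0 : Subgroup N), (θ.1 : N → ℂ) x = (θ.1 : N → ℂ) 1},
      ker θ.1
    haveI hK0n : K0.Normal := Subgroup.normal_iInf_normal fun θ => H12.charKer_normal _
    haveI hLn : L.Normal := Subgroup.normal_iInf_normal fun θ => H12.charKer_normal _
    have hK0L : K0 ≤ L := le_iInf fun θ => iInf_le ker θ.1
    have hPL : (P : Subgroup G) ≤ L := by
      intro x hx
      refine Subgroup.mem_iInf.2 fun θ => (hker θ.1 ⟨x, hPN hx⟩).2 (θ.2 _ hx)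
    have hLN : L ⊓ N ≤ (P : Subgroup G) := by
      intro x hx
      obtain ⟨hxL, hxN⟩ := hx
      have : (⟨x, hxN⟩ : N) ∈ (P0 : Subgroup N) := mem_of_forall_irr _ _ fun θ hθ => by
        have hd : ¬ p ∣ charDegree (θ : N → ℂ) := not_dvd_of_trivial P0 θ
          fun n hn => hθ n (Subgroup.commutator_le_left _ _ hn)
        exact (hker ⟨θ, hd⟩ ⟨x, hxN⟩).1 (Subgroup.mem_iInf.1 hxL ⟨⟨θ, hd⟩, hθ⟩)
      exact this
    have hK0P : K0 ⊓ (P : Subgroup G) = ⁅(P : Subgroup G), (P : Subgroup G)⁆ := by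
      refine le_antisymm (fun x hx => ?_) (le_inf ?_ (Subgroup.commutator_le_self _))
      · have hxN : x ∈ N := hPN hx.2
        have : (⟨x, hxN⟩ : N) ∈ D0 := mem_of_forall_irr _ _ fun θ hθ => by
          have hd : ¬ p ∣ charDegree (θ : N → ℂ) := not_dvd_of_trivial P0 θ hθ
          exact (hker ⟨θ, hd⟩ ⟨x, hxN⟩).1 (Subgroup.mem_iInf.1 hx.1 _)
        rw [← hmapD]
        exact ⟨_, this, rfl⟩
      · rw [← hmapD]
        rintro _ ⟨y, hy, rfl⟩
        exact Subgroup.mem_iInf.2 fun θ => (hker θ y).2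
          (trivial_on_commutator (P0 : Subgroup N) P0.2 θ.1 θ.2 y hy)
    let PL : Sylow p L := P.subtype hPL
    have hmapPL : (PL : Subgroup L).map L.subtype = (P : Subgroup G) :=
      Subgroup.map_subgroupOf_eq_of_le hPL
    haveI : (K0.subgroupOf L).Normal := Subgroup.Normal.subgroupOf hK0n L
    have hcompl : Cfsg.HasNormalPComplement p L := by
      refine hasNormalPComplement_of_selfNormalizing PL (K0.subgroupOf L) ?_ ?_
      · apply Subgroup.map_injective L.subtype_injective
        rw [Subgroup.map_commutator, hmapPL, Subgroup.map_inf _ _ _ L.subtype_injective, hmapPL,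
          Subgroup.map_subgroupOf_eq_of_le hK0L, hK0P]
      · intro x hx
        refine hLN ⟨x.2, Subgroup.mem_normalizer_iff.2 fun y => ?_⟩
        constructor
        · intro hy
          exact (Subgroup.mem_normalizer_iff.1 hx ⟨y, hPL hy⟩).1 hy
        · intro hy
          have hyL : y ∈ L := by
            have h := hLn.conj_mem _ (hPL hy) (x : G)⁻¹
            simpa [mul_assoc] using h
          exact (Subgroup.mem_normalizer_iff.1 hx ⟨y, hyL⟩).2 hy
    set K : Subgroup G := (Cfsg.pResidual p L).map L.subtype with hKdef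
    haveI hKn : K.Normal := inferInstance
    refine ⟨K, hKn, ?_, ?_⟩
    · rw [eq_top_iff, ← Sylow.normalizer_sup_eq_top' P hPL]
      refine sup_le le_sup_right ?_
      calc L = (⊤ : Subgroup L).map L.subtype := by
            rw [← MonoidHom.range_eq_map, Subgroup.range_subtype]
        _ = K ⊔ (P : Subgroup G) := by
            rw [← H5.pResidual_sup_sylow PL, Subgroup.map_sup, hmapPL]
        _ ≤ K ⊔ N := sup_le_sup_left hPN K
    · rw [eq_bot_iff]
      intro x hx
      obtain ⟨⟨y, hy, rfl⟩, hxN⟩ := hx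
      have hyP : y ∈ (PL : Subgroup L) := hLN ⟨y.2, hxN⟩
      have hbot := (H5.hasNormalPComplement_iff_inf_eq_bot PL).1 hcompl
      have hy1 : y ∈ (⊥ : Subgroup L) := hbot ▸ Subgroup.mem_inf.2 ⟨hy, hyP⟩
      rw [Subgroup.mem_bot] at hy1
      rw [hy1]
      exact Subgroup.one_mem _
  · rintro ⟨K, hKn, hsup, hinf⟩ θ -
    have hc : Subgroup.IsComplement' K N := Subgroup.isComplement'_of_disjoint_and_mul_eq_univ
      (disjoint_iff.2 hinf) (by rw [← Subgroup.normal_mul, hsup, Subgroup.coe_top])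
    let f : N →* G ⧸ K := (QuotientGroup.mk' K).comp N.subtype
    have hinj : Function.Injective f := (injective_iff_map_eq_one f).2 fun x hx => by
      have hxK : (x : G) ∈ K := (QuotientGroup.eq_one_iff _).1 hx
      have : (x : G) ∈ (⊥ : Subgroup G) := hinf ▸ Subgroup.mem_inf.2 ⟨hxK, x.2⟩
      exact Subtype.ext (Subgroup.mem_bot.1 this)
    have hsurj : Function.Surjective f := by
      intro q
      obtain ⟨g, rfl⟩ := QuotientGroup.mk_surjective q
      have hg : g ∈ (↑(K ⊔ N) : Set G) := by rw [hsup]; exact Set.mem_univ g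
      rw [Subgroup.normal_mul] at hg
      obtain ⟨k, hk, n, hn, rfl⟩ := hg
      refine ⟨⟨n, hn⟩, ?_⟩
      change ((n : G) : G ⧸ K) = ((k * n : G) : G ⧸ K)
      rw [QuotientGroup.mk_mul, (QuotientGroup.eq_one_iff k).2 hk, one_mul]
    let e : N ≃* G ⧸ K := MulEquiv.ofBijective f ⟨hinj, hsurj⟩
    let ψ : IrrCharacter (G ⧸ K) := ⟨_, H13.isIrrCharacter_comp_equiv e.symm θ.2⟩
    refine ⟨H12.inflate K ψ, fun x => ?_⟩
    rw [H12.inflate_apply]
    exact congrArg (θ : N → ℂ) (e.symm_apply_apply x)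

end Cfsg.Agent.S4931
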