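-- Proof of statement S4937.
import Cfsg.Statements.S4937
import Cfsg.Agent.H25.CoverExtension

set_option autoImplicit false
set_option linter.style.haveILetI false
open Cfsg
open scoped ComplexConjugate

namespace Cfsg.Agent.S4937

/-- Residue characters lift to linear characters. -/
theorem exists_lift_hom {Q : Type*} [Group Q] [Finite Q] {p : ℕ} {M : Ideal AlgInt} [M.IsPrime]
    (hM : IsPModular p M) (l : Q →* H20.k M) :
    ∃ μ : Q →* ℂˣ, ∀ q, MemLocalRing M (μ q : ℂ) ∧ H20.redC M (μ q : ℂ) = l q := by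
  haveI := H20.k_charP hM
  haveI : Fact p.Prime := ⟨hM.1⟩
  set n := Nat.card Q with hn
  set m := n / p ^ n.factorization p with hm
  have hpm : ¬ p ∣ m := Nat.not_dvd_ordCompl hM.1 Nat.card_pos.ne'
  have hm0 : m ≠ 0 := fun h => hpm (h ▸ dvd_zero p)
  haveI : NeZero m := ⟨hm0⟩
  have hpow : ∀ q, l q ^ m = 1 := by
    intro q
    have h1 : (l q ^ m) ^ p ^ n.factorization p = 1 := by
      rw [← pow_mul, hm, Nat.div_mul_cancel (Nat.ordProj_dvd n p), ← map_pow, hn,
        pow_card_eq_one', map_one]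
    have h2 : (l q ^ m - 1) ^ p ^ n.factorization p = 0 := by
      rw [sub_pow_char_pow, h1, one_pow, sub_self]
    exact sub_eq_zero.1 ((pow_eq_zero_iff (pow_ne_zero _ hM.1.ne_zero)).1 h2)
  have hζ := Complex.isPrimitiveRoot_exp m hm0
  set ζ := Complex.exp (2 * Real.pi * Complex.I / m)
  let z : H20.O M := ⟨ζ, H20.memRing_of_pow_eq_one (Nat.pos_of_ne_zero hm0) hζ.pow_eq_one⟩
  have hbar : IsPrimitiveRoot (H20.red M z) m := by
    rw [IsPrimitiveRoot.iff (Nat.pos_of_ne_zero hm0)]
    refine ⟨?_, fun l' hl0 hlm hl => ?_⟩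
    · rw [← map_pow, show z ^ m = 1 from Subtype.ext (by push_cast; exact hζ.pow_eq_one), map_one]
    rw [← map_pow, ← map_one (H20.red M), H20.red_eq_red_iff] at hl
    push_cast at hl
    have := H20.eq_one_of_pow_eq_one hM hpm
      (by rw [← pow_mul, mul_comm, pow_mul, hζ.pow_eq_one, one_pow]) hl
    exact absurd ((hζ.pow_eq_one_iff_dvd l').1 this) (Nat.not_dvd_of_pos_of_lt hl0 hlm)
  choose i hi using fun q => hbar.eq_pow_of_pow_eq_one (hpow q)
  let f : Q → ℂ := fun q => ζ ^ i q
  have hfm : ∀ q, f q ^ m = 1 := fun q => by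
    simp only [f]
    rw [← pow_mul, mul_comm, pow_mul, hζ.pow_eq_one, one_pow]
  have hfR : ∀ q, MemLocalRing M (f q) := fun q =>
    H20.memRing_of_pow_eq_one (Nat.pos_of_ne_zero hm0) (hfm q)
  have hfr : ∀ q, H20.redC M (f q) = l q := by
    intro q
    rw [← (hi q).2, ← map_pow, ← H20.redC_coe]
    rfl
  have huniq : ∀ {a b : ℂ}, a ^ m = 1 → b ^ m = 1 →
      H20.redC M a = H20.redC M b → a = b := fun {a b} ha hb h =>
    H20.eq_of_pow_eq_one hM hpm ha hb ((H20.redC_eq_iff
      (H20.memRing_of_pow_eq_one (Nat.pos_of_ne_zero hm0) ha)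
      (H20.memRing_of_pow_eq_one (Nat.pos_of_ne_zero hm0) hb)).1 h)
  have hf1 : f 1 = 1 := huniq (hfm 1) (one_pow m) (by rw [hfr, map_one, H20.redC_one])
  have hfmul : ∀ a b, f (a * b) = f a * f b := fun a b =>
    huniq (hfm _) (by rw [mul_pow, hfm, hfm, one_mul])
      (by rw [hfr, H20.redC_mul (hfR a) (hfR b), hfr, hfr, map_mul])
  refine ⟨{ toFun := fun q => Units.mk0 (f q) fun h => ?_
            map_one' := Units.ext hf1
            map_mul' := fun a b => Units.ext (hfmul a b) }, fun q => ⟨hfR q, hfr q⟩⟩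
  have := hfm q
  rw [h, zero_pow hm0] at this
  exact zero_ne_one this

/-- Elements centralizing a Sylow subgroup of `N` have orbits of length prime to `p`. -/
theorem not_dvd_orbCard {G : Type*} [Group G] [Fintype G] {p : ℕ} [Fact p.Prime] {N : Subgroup G}
    (P : Sylow p N) {c : G}
    (hc : c ∈ Subgroup.centralizer (((P : Subgroup N).map N.subtype : Subgroup G) : Set G)) :
    ¬ p ∣ H25.orbCard N c := by
  letI : MulAction N G := MulAction.compHom G (MulAut.conj.comp N.subtype)
  have hsmul : ∀ (n : N) (x : G), n • x = n * x * (n : G)⁻¹ := fun n x => rfl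
  have hle : (P : Subgroup N) ≤ MulAction.stabilizer N c := fun n hn => by
    rw [MulAction.mem_stabilizer_iff, hsmul, mul_inv_eq_iff_eq_mul]
    exact hc _ ⟨n, hn, rfl⟩
  have hidx : H25.orbCard N c = (MulAction.stabilizer N c).index := by
    rw [MulAction.index_stabilizer, ← Nat.card_coe_set_eq, H25.orbCard]
    refine Nat.card_congr (Equiv.subtypeEquivRight fun x => ?_)
    rw [MulAction.mem_orbit_iff]
    exact ⟨fun ⟨n, hn, e⟩ => ⟨⟨n, hn⟩, e⟩, fun ⟨n, e⟩ => ⟨n, n.2, e⟩⟩
  rw [hidx]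
  exact fun h => P.not_dvd_index (h.trans (Subgroup.index_dvd_of_le hle))

/-- Let G be a finite group, p a prime, M a maximal ideal of the algebraic integers containing p, N a normal subgroup of G and P a Sylow p-subgroup of N such that G = N·C_G(P). Let θ be an irreducible character in the principal p-block of N that is the restriction of some irreducible character of G. Then θ is the restriction of an irreducible character χ of G lying in the principal p-block of G such that, for every subgroup J of G containing N, the restriction of χ to J is an irreducible character of J lying in the principal p-block of J. -/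
theorem result {G : Type*} [Group G] [Finite G] (p : ℕ) [Fact p.Prime] (M : Ideal Cfsg.AlgInt) (hM : Cfsg.IsPModular p M) (N : Subgroup G) [N.Normal] (P : Sylow p ↥N)
    (hcov : N ⊔ Subgroup.centralizer (((P : Subgroup ↥N).map N.subtype : Subgroup G) : Set G) = ⊤)
    (θ : Cfsg.IrrCharacter ↥N) (hθ : θ ∈ Cfsg.principalBlock M ↥N)
    (hext : ∃ ψ : Cfsg.IrrCharacter G, ∀ x : ↥N, (ψ : G → ℂ) x = (θ : ↥N → ℂ) x) :
    ∃ χ : Cfsg.IrrCharacter G, χ ∈ Cfsg.principalBlock M G ∧ (∀ x : ↥N, (χ : G → ℂ) x = (θ : ↥N → ℂ) x) ∧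
      ∀ J : Subgroup G, N ≤ J → ∃ ξ : Cfsg.IrrCharacter ↥J, ξ ∈ Cfsg.principalBlock M ↥J ∧ ∀ y : ↥J, (ξ : ↥J → ℂ) y = (χ : G → ℂ) y := by
  classical
  haveI := H20.isPrime_of_modular hM
  haveI := H20.k_charP hM
  haveI := Fintype.ofFinite G
  haveI := Fintype.ofFinite N
  haveI := Fintype.ofFinite (G ⧸ N)
  obtain ⟨ψ, hψ⟩ := hext
  -- representatives centralizing `P`
  have hrep : ∀ q : G ⧸ N, ∃ c ∈ Subgroup.centralizer
      (((P : Subgroup ↥N).map N.subtype : Subgroup G) : Set G), (c : G ⧸ N) = q := by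
    intro q
    obtain ⟨g, rfl⟩ := QuotientGroup.mk_surjective q
    obtain ⟨n, hn, c, hc, rfl⟩ := Subgroup.mem_sup_of_normal_left.1 (hcov ▸ Subgroup.mem_top g :
      g ∈ N ⊔ Subgroup.centralizer (((P : Subgroup ↥N).map N.subtype : Subgroup G) : Set G))
    exact ⟨c, hc, by rw [QuotientGroup.mk_mul, (QuotientGroup.eq_one_iff n).2 hn, one_mul]⟩
  choose c hc hcq using hrep
  have hk : ∀ q, (H25.orbCard N (c q) : H20.k M) ≠ 0 := fun q h =>
    not_dvd_orbCard P (hc q) ((CharP.cast_eq_zero_iff (H20.k M) p _).1 h)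
  have hinv := fun q => H25.isInv_orbSum N (c q)
  have hon : ∀ q, H25.OnCoset N q (H25.orbSum N (c q)) := fun q => by
    have := H25.onCoset_orbSum N (c q)
    rwa [hcq q] at this
  let w : MonoidAlgebra ℤ G → H20.k M := fun a => H20.redC M (H25.wVal (ψ : G → ℂ) a)
  have hwmul : ∀ a b, H20.IsInv N a → H20.IsInv N b → w (a * b) = w a * w b := fun a b ha hb => by
    simp only [w]
    rw [H25.wVal_mul N ψ θ hψ ha hb,
      H20.redC_mul (H20.memRing_of_isIntegral (H25.isIntegral_wVal N ψ θ hψ ha))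
        (H20.memRing_of_isIntegral (H25.isIntegral_wVal N ψ θ hψ hb))]
  let L : G ⧸ N → H20.k M := fun q => w (H25.orbSum N (c q)) / (H25.orbCard N (c q) : H20.k M)
  -- the scalar on a coset
  have hkey : ∀ (q : G ⧸ N) (a : MonoidAlgebra ℤ G), H20.IsInv N a → H25.OnCoset N q a →
      w a = (H25.augZ a : H20.k M) * L q := by
    intro q a ha hq
    have hpair : ∀ b : MonoidAlgebra ℤ G, H20.IsInv N b → H25.OnCoset N q b →
        w b * w (H25.orbSum N (c q⁻¹)) =
          (H25.augZ b : H20.k M) * (H25.orbCard N (c q⁻¹) : H20.k M) := by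
      intro b hb hbq
      rw [← hwmul b _ hb (hinv q⁻¹)]
      simp only [w]
      rw [H25.redC_wVal_of_onCoset_one N ψ θ hψ hθ (hb.mul (hinv q⁻¹))
        (by simpa using H25.onCoset_mul N hbq (hon q⁻¹)), H25.augZ_mul, H25.augZ_orbSum]
      push_cast
      rfl
    have h1 := hpair a ha hq
    have h2 := hpair _ (hinv q) (hon q)
    rw [H25.augZ_orbSum, Int.cast_natCast] at h2
    have h3 : w (H25.orbSum N (c q⁻¹)) ≠ 0 := fun h => by
      rw [h, mul_zero, eq_comm, mul_eq_zero] at h2
      exact h2.elim (hk q) (hk q⁻¹)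
    simp only [L]
    rw [← mul_div_assoc, eq_div_iff (hk q)]
    apply mul_right_cancel₀ h3
    linear_combination (H25.orbCard N (c q) : H20.k M) * h1 - (H25.augZ a : H20.k M) * h2
  have hL : ∀ q r, L (q * r) = L q * L r := by
    intro q r
    have h := hkey (q * r) _ ((hinv q).mul (hinv r)) (H25.onCoset_mul N (hon q) (hon r))
    rw [hwmul _ _ (hinv q) (hinv r), H25.augZ_mul, H25.augZ_orbSum, H25.augZ_orbSum,
      Int.cast_mul, Int.cast_natCast, Int.cast_natCast] at h
    simp only [L] at h ⊢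
    field_simp [hk q, hk r, hk (q * r)] at h ⊢
    linear_combination -h
  have hL1 : L 1 = 1 := by
    have h0 : L 1 ≠ 0 := by
      intro h
      have h2 := hkey 1 _ (hinv 1) (hon 1)
      rw [h, mul_zero] at h2
      simp only [w] at h2
      rw [H25.redC_wVal_of_onCoset_one N ψ θ hψ hθ (hinv 1) (hon 1), H25.augZ_orbSum,
        Int.cast_natCast] at h2
      exact hk 1 h2
    exact (mul_eq_left₀ h0).1 (by rw [← hL, one_mul])
  let l : G ⧸ N →* H20.k M := { toFun := L, map_one' := hL1, map_mul' := hL }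
  -- lift the inverse
  obtain ⟨μ, hμ⟩ := exists_lift_hom hM l
  let ν : G →* ℂˣ := (μ⁻¹).comp (QuotientGroup.mk' N)
  have hνμ : ∀ g : G, (ν g : ℂ) * (μ (g : G ⧸ N) : ℂ) = 1 := fun g => by
    simp [ν, MonoidHom.inv_apply]
  have hνR : ∀ g : G, MemLocalRing M (ν g : ℂ) := fun g =>
    H20.memRing_of_pow_eq_one (Nat.card_pos (α := G)) (by
      rw [← Units.val_pow_eq_pow_val, ← map_pow, pow_card_eq_one', map_one, Units.val_one])
  let f : G → ℂ := fun g => (ν g : ℂ) * (ψ : G → ℂ) g
  have hfc : IsCharacter G f :=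
    H12.IsCharacter.mul (H12.isCharacter_monoidHom ν) (H12.isCharacter_irr ψ)
  have hf : IsIrrCharacter G f := by
    refine H12.isIrrCharacter_of_classInner_self_eq_one hfc ?_
    rw [← H12.classInner_irr_self ψ, H12.classInner_def, H12.classInner_def]
    congr 1
    refine Finset.sum_congr rfl fun g _ => ?_
    have hn : ‖(ν g : ℂ)‖ = 1 := H12.norm_eq_one_of_pow_eq_one (Nat.card_pos (α := G)).ne' (by
      rw [← Units.val_pow_eq_pow_val, ← map_pow, pow_card_eq_one', map_one, Units.val_one])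
    simp only [f, map_mul]
    rw [mul_mul_mul_comm, Complex.mul_conj', hn]
    simp
  have hfN : ∀ x : N, f x = (θ : ↥N → ℂ) x := fun x => by
    simp only [f, ν, MonoidHom.comp_apply, QuotientGroup.mk'_apply,
      (QuotientGroup.eq_one_iff (x : G)).2 x.2, map_one, Units.val_one, one_mul, hψ]
  have hf1 : f 1 = (ψ : G → ℂ) 1 := by simp [f]
  -- the congruence for every invariant element
  have hcong : ∀ a : MonoidAlgebra ℤ G, H20.IsInv N a →
      MemLocalRing M ((∑ g : G, (a.coeff g : ℂ) * f g) / f 1) ∧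
        H20.redC M ((∑ g : G, (a.coeff g : ℂ) * f g) / f 1) = (H25.augZ a : H20.k M) := by
    intro a ha
    let part : G ⧸ N → MonoidAlgebra ℤ G := fun q =>
      H20.ofFun fun g => if (g : G ⧸ N) = q then a.coeff g else 0
    have hpart : ∀ q, H20.IsInv N (part q) := by
      intro q g h hh
      simp only [part, H20.coeff_ofFun, QuotientGroup.mk_mul, QuotientGroup.mk_inv,
        (QuotientGroup.eq_one_iff h).2 hh, inv_one, one_mul, mul_one, ha g h hh]
    have hon' : ∀ q, H25.OnCoset N q (part q) := fun q g hg => by simp [part, hg]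
    have e : (∑ g : G, (a.coeff g : ℂ) * f g) / f 1 =
        ∑ q : G ⧸ N, ((μ q : ℂˣ)⁻¹ : ℂˣ) * H25.wVal (ψ : G → ℂ) (part q) := by
      simp only [H25.wVal, hf1, ← mul_div_assoc, ← Finset.sum_div, Finset.mul_sum]
      rw [Finset.sum_comm]
      congr 1
      refine Finset.sum_congr rfl fun g _ => ?_
      rw [Finset.sum_eq_single (g : G ⧸ N) (fun q _ hq => by simp [part, Ne.symm hq])
        (fun h => absurd (Finset.mem_univ _) h)]
      simp only [part, H20.coeff_ofFun, if_true, f, ν, MonoidHom.comp_apply,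
        QuotientGroup.mk'_apply, MonoidHom.inv_apply]
      ring
    have hμR : ∀ q, MemLocalRing M (((μ q)⁻¹ : ℂˣ) : ℂ) := fun q => by
      obtain ⟨g, rfl⟩ := QuotientGroup.mk_surjective q
      exact hνR g
    have hWR : ∀ q, MemLocalRing M (H25.wVal (ψ : G → ℂ) (part q)) := fun q =>
      H20.memRing_of_isIntegral (H25.isIntegral_wVal N ψ θ hψ (hpart q))
    rw [e]
    refine ⟨H20.memRing_sum _ _ fun q _ => H20.memRing_mul (hμR q) (hWR q), ?_⟩
    rw [H20.redC_sum _ _ fun q _ => H20.memRing_mul (hμR q) (hWR q)]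
    have hterm : ∀ q ∈ (Finset.univ : Finset (G ⧸ N)),
        H20.redC M ((((μ q)⁻¹ : ℂˣ) : ℂ) * H25.wVal (ψ : G → ℂ) (part q)) =
          (H25.augZ (part q) : H20.k M) := by
      intro q _
      rw [H20.redC_mul (hμR q) (hWR q)]
      have h1 := hkey q (part q) (hpart q) (hon' q)
      simp only [w] at h1
      rw [h1, mul_left_comm, show L q = l q from rfl, ← (hμ q).2,
        ← H20.redC_mul (hμR q) (hμ q).1]
      simp [H20.redC_one]
    rw [Finset.sum_congr rfl hterm, ← Int.cast_sum]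
    congr 1
    simp only [H25.augZ, part, H20.coeff_ofFun]
    rw [Finset.sum_comm]
    exact Finset.sum_congr rfl fun g _ => by simp
  -- blocks of the overgroups
  have hJ : ∀ J : Subgroup G, N ≤ J → ∀ (ξ : IrrCharacter ↥J),
      (∀ y : ↥J, (ξ : ↥J → ℂ) y = f y) → ξ ∈ principalBlock M ↥J := by
    intro J hNJ ξ hξ
    haveI := Fintype.ofFinite J
    show SameBlock M (H12.oneIrr J : ↥J → ℂ) (ξ : ↥J → ℂ)
    intro x
    let a : MonoidAlgebra ℤ G :=
      H20.ofFun fun g => if ∃ h : g ∈ J, IsConj x ⟨g, h⟩ then 1 else 0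
    have hainv : H20.IsInv N a := by
      intro g h hh
      simp only [a, H20.coeff_ofFun]
      refine if_congr ⟨fun ⟨hg, hc⟩ => ?_, fun ⟨hg, hc⟩ => ?_⟩ rfl rfl
      · have hgJ : g ∈ J := by
          have := J.mul_mem (J.mul_mem (J.inv_mem (hNJ hh)) hg) (hNJ hh)
          simpa [mul_assoc] using this
        refine ⟨hgJ, hc.trans (IsConj.symm ?_)⟩
        exact isConj_iff.2 ⟨⟨h, hNJ hh⟩, Subtype.ext rfl⟩
      · exact ⟨J.mul_mem (J.mul_mem (hNJ hh) hg) (J.inv_mem (hNJ hh)),
          hc.trans (isConj_iff.2 ⟨⟨h, hNJ hh⟩, Subtype.ext rfl⟩)⟩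
    have hsum : ∀ F : G → ℂ, ∑ g : G, (a.coeff g : ℂ) * F g =
        ∑ y : J, (H20.clSum ℂ x).coeff y * F y := by
      intro F
      refine (Finset.sum_of_injOn (fun y : J => (y : G)) Subtype.val_injective.injOn
        (fun _ _ => Finset.mem_univ _) (fun g _ hg => ?_) (fun y _ => ?_)).symm
      · simp only [a, H20.coeff_ofFun]
        rw [if_neg fun ⟨h, _⟩ => hg ⟨⟨g, h⟩, by simp, rfl⟩, Int.cast_zero, zero_mul]
      · simp only [a, H20.coeff_ofFun, H20.coeff_clSum, y.2, exists_true_left, Subtype.coe_eta]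
        split_ifs <;> simp
    have h1 : centralChar (ξ : ↥J → ℂ) x = (∑ g : G, (a.coeff g : ℂ) * f g) / f 1 := by
      rw [← H20.omega_clSum, H20.omega, hsum]
      simp only [hξ, Subgroup.coe_one]
    have h2 : centralChar (H12.oneIrr J : ↥J → ℂ) x = (H25.augZ a : ℂ) := by
      rw [← H20.omega_clSum, H20.omega]
      have := hsum fun _ => 1
      simp only [mul_one] at this
      simp only [H12.oneIrr_apply, mul_one, div_one, ← this, H25.augZ, Int.cast_sum]
    obtain ⟨hR, hred⟩ := hcong a hainv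
    rw [h1, h2, ← H20.redC_eq_iff (H20.memRing_intCast _) hR, hred,
      H20.redC_of_mem (H20.memRing_intCast _)]
    exact map_intCast (H20.red M) _
  refine ⟨⟨f, hf⟩, ?_, hfN, fun J hNJ => ?_⟩
  · let χ : IrrCharacter G := ⟨f, hf⟩
    show SameBlock M (H12.oneIrr G : G → ℂ) (χ : G → ℂ)
    intro g
    obtain ⟨hR, hred⟩ := hcong (H20.clSum ℤ g) ((H20.isCl_clSum ℤ g).isInv N)
    have e1 : ∀ x : G, ((H20.clSum ℤ g).coeff x : ℂ) = (H20.clSum ℂ g).coeff x := fun x => by
      simp only [H20.coeff_clSum]; split_ifs <;> simp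
    have h1 : centralChar (χ : G → ℂ) g =
        (∑ x : G, ((H20.clSum ℤ g).coeff x : ℂ) * f x) / f 1 := by
      rw [← H20.omega_clSum, H20.omega]
      simp only [e1]
      rfl
    have h2 : centralChar (H12.oneIrr G : G → ℂ) g = (H25.augZ (H20.clSum ℤ g) : ℂ) := by
      rw [← H20.omega_clSum, H20.omega]
      simp [H12.oneIrr_apply, H25.augZ, e1]
    rw [h1, h2, ← H20.redC_eq_iff (H20.memRing_intCast _) hR, hred,
      H20.redC_of_mem (H20.memRing_intCast _)]
    exact map_intCast (H20.red M) _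
  · haveI := Fintype.ofFinite J
    obtain ⟨n, ρ, hρ, hρf⟩ := hf
    haveI := hρ
    haveI := H12.nontrivial_of_isIrreducible ρ
    let σ : Representation ℂ J (Fin n → ℂ) := ρ.comp J.subtype
    have hσ : σ.character = fun y : J => f y := by rw [← hρf]; rfl
    have hnorm : classInner σ.character σ.character = 1 := by
      refine H25.norm_one_of_forall_scalar σ fun T hT => ?_
      let τ : Representation ℂ N (Fin n → ℂ) := ρ.comp N.subtype
      have hτ : τ.character = (θ : ↥N → ℂ) := funext fun x => by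
        show ρ.character x = _
        rw [hρf, hfN]
      exact H25.exists_scalar_of_norm_one τ (by rw [hτ, H12.classInner_irr_self]) T
        fun x => hT ⟨x, hNJ x.2⟩
    let ξ : IrrCharacter ↥J :=
      ⟨σ.character, H12.isIrrCharacter_of_classInner_self_eq_one ⟨n, σ, rfl⟩ hnorm⟩
    exact ⟨ξ, hJ J hNJ ξ fun y => congrFun hσ y, fun y => congrFun hσ y⟩

end Cfsg.Agent.S4937
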