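import Cfsg.Statements.S4959
import Cfsg.Agent.H19.Weights
import Cfsg.Agent.H19.RealVectorAux
import Cfsg.Agent.H22.ValueMod
import Cfsg.Agent.H19.CommPairs
import Cfsg.Agent.S0169

set_option autoImplicit false
open Cfsg
open scoped ComplexConjugate

namespace Cfsg.Agent.S4959

/-- Let X be a finite group and V a normal subgroup of X in which every element has order dividing the prime p, whose index in X is prime to p and which is its own centralizer in X; so V is an elementary abelian normal Sylow p-subgroup, and any complement G to V in X is a group of order prime to p acting faithfully on the vector space V by conjugation (the coprime linear setting of the k(GV) problem). Let G be a complement to V in X, let v be in V and let H be the centralizer of v in G. Suppose there is a subgroup U of V normalized by H, on which H acts faithfully, and carrying an H-invariant bi-additive pairing β with values in the integers modulo p that is nondegenerate on U (equivalently: the restriction of the module V to H has a faithful self-dual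 submodule; such a v is called a real vector for G). Then the number of conjugacy classes of X is at most the order of V (the real-vector criterion for the k(GV) problem). The pairing is given as a function on X whose relevant values are those on pairs from U. -/
theorem result {X : Type*} [Group X] [Finite X] (p : ℕ) [Fact p.Prime] (V : Subgroup X) [V.Normal] (hVexp : ∀ v ∈ V, v ^ p = 1) (hidx : ¬ p ∣ V.index) (hself : Subgroup.centralizer (V : Set X) = V) (G : Subgroup X) (hGV : Subgroup.IsComplement' V G) (v : X) (hv : v ∈ V) (U : Subgroup X) (hUV : U ≤ V) (hUinv : ∀ h ∈ G, h * v * h⁻¹ = v → ∀ u ∈ U, h * u * h⁻¹ ∈ U) (hUfaith : ∀ h ∈ G, h * v * h⁻¹ = v → (∀ u ∈ U, h * u * h⁻¹ = u) → h = 1) (β : X → X → ZMod p) (hβl : ∀ u ∈ U, ∀ u' ∈ U, ∀ w ∈ U, β (u * u') w = β u w + β u' w) (hβr : ∀ u ∈ U, ∀ w ∈ U, ∀ w' ∈ U, β u (w * w') = β u w + β u w') (hβinv : ∀ h ∈ G, h * v * h⁻¹ = v → ∀ u ∈ U, ∀ w ∈ U, β (h * u * h⁻¹) (h * w * h⁻¹) = β u w) (hβnd : ∀ u ∈ U, (∀ w ∈ U, β u w = 0) → u = 1) : Nat.card (ConjClasses X) ≤ Nat.card V :=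 by
  classical
  have hp : p.Prime := Fact.out
  haveI := Fintype.ofFinite X
  set H : Subgroup X := G ⊓ Subgroup.centralizer ({v} : Set X) with hHdef
  haveI := Fintype.ofFinite H
  haveI := Fintype.ofFinite U
  have hHv : ∀ h : H, Commute (h : X) v := fun h => Subgroup.mem_centralizer_singleton_iff.mp h.2.2
  have hHcond : ∀ h : H, (h : X) * v * (h : X)⁻¹ = v := fun h => by
    rw [(hHv h).eq, mul_inv_cancel_right]
  have habV : ∀ a ∈ V, ∀ b ∈ V, a * b = b * a := fun a ha b hb => by
    have : a ∈ Subgroup.centralizer (V : Set X) := by rw [hself]; exact ha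
    exact (Subgroup.mem_centralizer_iff.mp this b hb).symm
  letI : CommGroup U := { (inferInstance : Group U) with
    mul_comm := fun a b => Subtype.ext (habV a (hUV a.2) b (hUV b.2)) }
  letI : Module (ZMod p) (Additive U) := AddCommGroup.zmodModule (n := p) fun x =>
    congrArg Additive.ofMul (Subtype.ext (hVexp _ (hUV (Additive.toMul x).2)) : (Additive.toMul x) ^ p = 1)
  let ρ : Representation (ZMod p) H (Additive U) :=
    { toFun := fun h => AddMonoidHom.toZModLinearMap p (AddMonoidHom.mk'
        (fun u => Additive.ofMul (⟨(h : X) * (Additive.toMul u : U) * (h : X)⁻¹,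
          hUinv h h.2.1 (hHcond h) _ (Additive.toMul u).2⟩ : U))
        (fun a b => congrArg Additive.ofMul (Subtype.ext (conj_mul).symm)))
      map_one' := LinearMap.ext fun u => congrArg Additive.ofMul (Subtype.ext (by
        show ((1 : H) : X) * _ * ((1 : H) : X)⁻¹ = _
        simp only [OneMemClass.coe_one, one_mul, inv_one, mul_one]
        rfl))
      map_mul' := fun a b => LinearMap.ext fun u => congrArg Additive.ofMul (Subtype.ext (by
        show ((a * b : H) : X) * _ * ((a * b : H) : X)⁻¹ = (a : X) * ((b : X) * _ * (b : X)⁻¹) * (a : X)⁻¹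
        simp [mul_assoc])) }
  let B : LinearMap.BilinForm (ZMod p) (Additive U) :=
    AddMonoidHom.toZModLinearMap p (AddMonoidHom.mk'
      (fun u => AddMonoidHom.toZModLinearMap p (AddMonoidHom.mk'
        (fun w => β (Additive.toMul u : U) (Additive.toMul w : U))
        (fun w w' => hβr _ (Additive.toMul u).2 _ (Additive.toMul w).2 _ (Additive.toMul w').2)))
      (fun u u' => LinearMap.ext fun w =>
        hβl _ (Additive.toMul u).2 _ (Additive.toMul u').2 _ (Additive.toMul w).2))
  have hBinv : ∀ h x y, B (ρ h x) (ρ h y) = B x y := fun h x y =>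
    hβinv h h.2.1 (hHcond h) _ (Additive.toMul x).2 _ (Additive.toMul y).2
  have hBnd : ∀ x, (∀ y, B x y = 0) → x = 0 := fun x hx =>
    congrArg Additive.ofMul (Subtype.ext (hβnd _ (Additive.toMul x).2 fun w hw => hx (Additive.ofMul ⟨w, hw⟩)) :
      (Additive.toMul x : U) = 1)
  have hρne : ∀ h : H, h ≠ 1 → ρ h ≠ 1 := fun h hh he => hh (Subtype.ext
    (hUfaith h h.2.1 (hHcond h) fun u hu =>
      congrArg (fun z : Additive U => ((Additive.toMul z : U) : X))
        (LinearMap.congr_fun he (Additive.ofMul ⟨u, hu⟩))))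
  -- numerics
  have hGcard : Nat.card G = V.index := hGV.symm.index_eq_card.symm
  have hn : ¬ p ∣ Nat.card H := fun h =>
    hidx (hGcard ▸ h.trans (Subgroup.card_dvd_of_le inf_le_left))
  obtain ⟨ζ, hζ⟩ := H19.exists_root p hp.ne_zero
  obtain ⟨M, hM⟩ := H22.exists_isPModular p hp
  haveI : M.IsPrime := H20.isPrime_of_modular hM
  obtain ⟨ψ, z, hz, hzc, hψF, hψn, hψi, hψ1, hψM⟩ := H19.exists_goodWeight hn hM hζ ρ B hBinv hBnd
  -- the cyclic group of `v` times its stabiliser
  set Z : Subgroup X := Subgroup.zpowers v with hZ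
  haveI := Fintype.ofFinite Z
  let mulHom : Z × H →* X := MonoidHom.mk' (fun q => (q.1 : X) * q.2) fun a b => by
    obtain ⟨i, hi⟩ := Subgroup.mem_zpowers_iff.mp b.1.2
    have : Commute (a.2 : X) (b.1 : X) := hi ▸ (hHv a.2).zpow_right i
    calc ((a * b).1 : X) * ((a * b).2 : X) = (a.1 : X) * ((b.1 : X) * a.2) * b.2 := by
          simp [mul_assoc]
      _ = (a.1 : X) * ((a.2 : X) * b.1) * b.2 := by rw [this.eq]
      _ = _ := by simp [mul_assoc]
  have hχF : ∀ χ : IrrCharacter X, H19.CFam ζ (fun j (h : H) => (χ : X → ℂ) (v ^ j * h)) := by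
    intro χ
    refine ⟨fun j a b => ?_, fun φ => ?_⟩
    · have hb : Commute (b : X) (v ^ j) := (hHv b).pow_right j
      have h1 := H12.irr_isClassFunction χ (v ^ j * (a : X)) (b : X)
      beta_reduce
      rw [show v ^ j * ((b * a * b⁻¹ : H) : X) = (b : X) * (v ^ j * (a : X)) * (b : X)⁻¹ by
        simp only [Subgroup.coe_mul, Subgroup.coe_inv]
        rw [← mul_assoc, ← mul_assoc, ← mul_assoc, hb.eq]]
      exact h1
    · obtain ⟨P, hP⟩ := H19.exists_poly (H19.twistAvg_isCharacter'
        (H12.IsCharacter.comp (H12.isCharacter_irr χ) mulHom) (H12.isCharacter_irr φ)) hp.ne_zero hζ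
        (⟨v, Subgroup.mem_zpowers v⟩ : Z) (Subtype.ext (by simpa using hVexp v hv))
      refine ⟨P, fun j => ?_⟩
      rw [← hP j, H12.classInner_def]
      rfl
  -- Fourier coefficients
  let f : IrrCharacter X → ℕ → H → ℂ := fun χ j h => (χ : X → ℂ) (v ^ j * h) * ψ j h
  have hz' : (z : ℂ) ≠ 0 := Int.cast_ne_zero.mpr hz
  have hfc : ∀ χ j, IsClassFunction H (f χ j) := fun χ j a b => by
    have h1 := (hχF χ).1 j a b
    have h2 := hψF.1 j a b
    simp only [Pi.smul_apply, smul_eq_mul] at h2
    simp only [f] at h1 ⊢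
    rw [h1, mul_left_cancel₀ hz' h2]
  have hP : ∀ χ (φ : IrrCharacter H), ∃ P : Polynomial ℤ, ∀ j,
      classInner (f χ j) (φ : H → ℂ) = Polynomial.aeval (ζ ^ j) P / (z : ℂ) := by
    intro χ φ
    obtain ⟨P, hP⟩ := ((hχF χ).mul hψF).2 φ
    refine ⟨P, fun j => ?_⟩
    rw [← hP j, eq_div_iff hz', mul_comm, ← H12.classInner_smul_left]
    congr 1
    funext h
    simp only [Pi.smul_apply, Pi.mul_apply, smul_eq_mul, f]
    ring
  have hc1 : ∀ χ (φ : IrrCharacter H), IsIntegral ℤ (classInner (f χ 1) (φ : H → ℂ)) ∧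
      classInner (f χ 1) (φ : H → ℂ) ≠ 0 := by
    intro χ φ
    have hterm : ∀ h : H, IsIntegral ℤ (f χ 1 h * conj ((φ : H → ℂ) h)) := fun h =>
      ((H12.IsCharacter.isIntegral (H12.isCharacter_irr χ) _).mul (hψi h)).mul
        (H12.IsCharacter.isIntegral (H12.IsCharacter.star (H12.isCharacter_irr φ)) h)
    have hsum := H12.sum_mul_conj_eq_card_mul (f χ 1) (φ : H → ℂ)
    constructor
    · obtain ⟨P, hP⟩ := hP χ φ
      obtain ⟨a, b, hab⟩ : IsCoprime z (Nat.card H : ℤ) := by
        rw [Int.isCoprime_iff_nat_coprime, Int.natAbs_natCast]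
        exact hzc
      have h1 : IsIntegral ℤ ((z : ℂ) * classInner (f χ 1) (φ : H → ℂ)) := by
        rw [hP 1, pow_one, mul_div_cancel₀ _ hz']
        clear hP
        induction P using Polynomial.induction_on' with
        | add q r hq hr => rw [map_add]; exact hq.add hr
        | monomial k c =>
          rw [Polynomial.aeval_monomial]
          exact isIntegral_algebraMap.mul ((hζ.isIntegral hp.pos).pow k)
      have h2 : IsIntegral ℤ ((Nat.card H : ℂ) * classInner (f χ 1) (φ : H → ℂ)) := by
        rw [← hsum]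
        exact IsIntegral.sum _ fun h _ => hterm h
      have h3 := ((isIntegral_algebraMap (R := ℤ) (A := ℂ) (x := a)).mul h1).add
        ((isIntegral_algebraMap (R := ℤ) (A := ℂ) (x := b)).mul h2)
      have habC : (a : ℂ) * (z : ℂ) + (b : ℂ) * (Nat.card H : ℂ) = 1 := by exact_mod_cast hab
      rwa [eq_intCast, eq_intCast, ← mul_assoc, ← mul_assoc, ← add_mul, habC, one_mul] at h3
    · intro h0
      rw [h0, mul_zero, ← Finset.add_sum_erase _ _ (Finset.mem_univ (1 : H))] at hsum
      have hrest : MemLocalIdeal M (∑ h ∈ Finset.univ.erase (1 : H), f χ 1 h * conj ((φ : H → ℂ) h)) := by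
        refine Finset.sum_induction _ (MemLocalIdeal M) (fun _ _ => H20.memIdeal_add) H20.memIdeal_zero
          fun h hh => ?_
        simp only [f]
        rw [show (χ : X → ℂ) (v ^ 1 * h) * ψ 1 h * conj ((φ : H → ℂ) h) =
          (χ : X → ℂ) (v ^ 1 * h) * conj ((φ : H → ℂ) h) * ψ 1 h by ring]
        exact H20.memIdeal_mul (H20.memRing_of_isIntegral
          ((H12.IsCharacter.isIntegral (H12.isCharacter_irr χ) _).mul
            (H12.IsCharacter.isIntegral (H12.IsCharacter.star (H12.isCharacter_irr φ)) h)))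
          (hψM h (hρne h (Finset.ne_of_mem_erase hh)))
      have hfirst : MemLocalIdeal M ((χ : X → ℂ) v * (φ : H → ℂ) 1) := by
        have e : (χ : X → ℂ) v * (φ : H → ℂ) 1 =
            (-1) * ∑ h ∈ Finset.univ.erase (1 : H), f χ 1 h * conj ((φ : H → ℂ) h) := by
          simp only [f, hψ1, mul_one, pow_one, OneMemClass.coe_one, H12.irr_apply_one φ,
            Complex.conj_natCast] at hsum ⊢
          linear_combination hsum
        rw [e]
        exact H20.memIdeal_mul (H20.memRing_of_isIntegral isIntegral_one.neg) hrest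
      obtain ⟨i, -, hi⟩ := (Nat.dvd_prime_pow hp).mp
        ((orderOf_dvd_of_pow_eq_one (hVexp v hv)).trans (pow_one p).symm.dvd)
      have hvmod := H22.memIdeal_apply_sub_one hM (H12.isCharacter_irr χ) hi
      have hdeg : MemLocalIdeal M ((χ : X → ℂ) 1 * (φ : H → ℂ) 1) := by
        have := H20.memIdeal_add hfirst (H20.memIdeal_mul
          (H20.memRing_of_isIntegral ((H12.IsCharacter.isIntegral (H12.isCharacter_irr φ) 1).neg)) hvmod)
        convert this using 1
        ring
      rw [H12.irr_apply_one, H12.irr_apply_one, ← Nat.cast_mul, H20.natCast_memIdeal_iff hM] at hdeg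
      rcases hp.dvd_mul.mp hdeg with h | h
      · refine hidx (h.trans ?_)
        obtain ⟨d, π, hπ, hπχ⟩ := χ.2
        haveI := hπ
        rw [← hπχ, H12.degree_character]
        exact Cfsg.Agent.S0169.result π V habV
      · exact hn (h.trans (H12.irr_degree_dvd_card φ))
  -- lower bound
  have hlow : ∀ χ, (p.totient : ℝ) * Nat.card (ConjClasses H) ≤
      ∑ j ∈ H19.units' p, (Nat.card H : ℝ)⁻¹ * ∑ h : H, ‖f χ j h‖ ^ 2 := by
    intro χ
    have hj : ∀ j, (Nat.card H : ℝ)⁻¹ * ∑ h : H, ‖f χ j h‖ ^ 2 =
        ∑ φ : IrrCharacter H, ‖classInner (f χ j) (φ : H → ℂ)‖ ^ 2 := by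
      intro j
      have h := H12.classInner_eq_sum_mul (hfc χ j) (hfc χ j)
      conv_lhs at h => rw [H12.classInner_def]
      simp only [Complex.mul_conj'] at h
      apply Complex.ofReal_injective
      push_cast
      exact h
    simp only [hj]
    rw [Finset.sum_comm, ← H12.card_irrCharacter (G := H), mul_comm, ← nsmul_eq_mul,
      Nat.card_eq_fintype_card, ← Finset.card_univ, ← Finset.sum_const]
    refine Finset.sum_le_sum fun φ _ => ?_
    obtain ⟨P, hP⟩ := hP χ φ
    obtain ⟨hint, hne⟩ := hc1 χ φ
    simp only [hP]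
    rw [hP 1, pow_one] at hint hne
    exact H19.totient_le_sum_scaled hp.pos hζ P hz hint (div_ne_zero_iff.mp hne).1
  -- upper bound
  have hup : ∀ j ∈ H19.units' p, ∑ χ : IrrCharacter X, (Nat.card H : ℝ)⁻¹ * ∑ h : H, ‖f χ j h‖ ^ 2 ≤
      (Nat.card V : ℝ) * Nat.card (ConjClasses H) := by
    intro j hj
    have hjc := (H19.mem_units'.mp hj).2
    rw [← Finset.mul_sum, Finset.sum_comm]
    have hh : ∀ h : H, ∑ χ : IrrCharacter X, ‖f χ j h‖ ^ 2 ≤
        (Nat.card V : ℝ) * Nat.card {g : H // h * g = g * h} := by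
      intro h
      set A : Subgroup X := V ⊓ Subgroup.centralizer ({(h : X)} : Set X) with hA
      have hcard : Nat.card ↥(Subgroup.centralizer ({v ^ j * (h : X)} : Set X)) =
          Nat.card A * Nat.card {g : H // h * g = g * h} :=
        H19.card_centralizer_mul V G hGV habV v hv (hVexp v hv) hjc hHdef hn h
      have hfix : Nat.card (H19.fixVec ρ h) = Nat.card ↥(A ⊓ U) :=
        Nat.card_congr
          { toFun := fun u => ⟨((Additive.toMul (u : Additive U) : U) : X),
              ⟨hUV (Additive.toMul (u : Additive U)).2, Subgroup.mem_centralizer_singleton_iff.mpr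
                (mul_inv_eq_iff_eq_mul.mp (congrArg (fun z : Additive U => ((Additive.toMul z : U) : X)) u.2)).symm⟩,
              (Additive.toMul (u : Additive U)).2⟩
            invFun := fun a => ⟨Additive.ofMul ⟨(a : X), a.2.2⟩, congrArg Additive.ofMul (Subtype.ext
              (mul_inv_eq_iff_eq_mul.mpr (Subgroup.mem_centralizer_singleton_iff.mp a.2.1.2).symm))⟩
            left_inv := fun u => rfl
            right_inv := fun a => rfl }
      have hUA : (Nat.card U : ℝ) * Nat.card A ≤ Nat.card V * Nat.card (H19.fixVec ρ h) := by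
        rw [hfix]
        have e1 : Nat.card A * A.relIndex V = Nat.card V := by
          rw [← Subgroup.relIndex_bot_left, ← Subgroup.relIndex_bot_left,
            Subgroup.relIndex_mul_relIndex _ _ _ bot_le inf_le_left]
        have e2 : Nat.card ↥(A ⊓ U) * A.relIndex U = Nat.card U := by
          rw [← Subgroup.inf_relIndex_right A U, ← Subgroup.relIndex_bot_left, ← Subgroup.relIndex_bot_left,
            Subgroup.relIndex_mul_relIndex _ _ _ bot_le inf_le_right]
        have e3 : A.relIndex U ≤ A.relIndex V := by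
          refine Subgroup.relIndex_le_of_le_right hUV fun h0 => ?_
          rw [h0, mul_zero] at e1
          exact (Nat.card_pos (α := V)).ne e1
        have : Nat.card U * Nat.card A ≤ Nat.card V * Nat.card ↥(A ⊓ U) := by
          calc Nat.card U * Nat.card A = Nat.card ↥(A ⊓ U) * Nat.card A * A.relIndex U := by
                rw [← e2]; ring
            _ ≤ Nat.card ↥(A ⊓ U) * Nat.card A * A.relIndex V := Nat.mul_le_mul_left _ e3
            _ = _ := by rw [← e1]; ring
        exact_mod_cast this
      have hsq : ∑ χ : IrrCharacter X, ‖(χ : X → ℂ) (v ^ j * h)‖ ^ 2 =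
          (Nat.card A : ℝ) * Nat.card {g : H // h * g = g * h} := by
        have hcol := H12.column_orthogonality (v ^ j * (h : X)) (v ^ j * (h : X))
        rw [if_pos (IsConj.refl _), hcard] at hcol
        have := congrArg Complex.re hcol
        simp only [Complex.re_sum, Complex.mul_conj, Complex.ofReal_re, Complex.natCast_re,
          Nat.cast_mul] at this
        simpa [Complex.sq_norm] using this
      have hw := hψn j hjc h
      rw [Nat.card_congr Additive.toMul] at hw
      have hC0 : (0 : ℝ) < Nat.card (H19.fixVec ρ h) := Nat.cast_pos.mpr Nat.card_pos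
      have hg0 : (0 : ℝ) ≤ Nat.card {g : H // h * g = g * h} := Nat.cast_nonneg _
      simp only [f, norm_mul, mul_pow]
      rw [← Finset.sum_mul, hsq]
      refine le_of_mul_le_mul_right ?_ hC0
      calc (Nat.card A : ℝ) * Nat.card {g : H // h * g = g * h} * ‖ψ j h‖ ^ 2 * Nat.card (H19.fixVec ρ h)
          = (Nat.card U : ℝ) * Nat.card A * Nat.card {g : H // h * g = g * h} := by
            rw [← hw]; ring
        _ ≤ (Nat.card V : ℝ) * Nat.card (H19.fixVec ρ h) * Nat.card {g : H // h * g = g * h} :=
            mul_le_mul_of_nonneg_right hUA hg0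
        _ = _ := by ring
    have hn0 : (Nat.card H : ℝ) ≠ 0 := Nat.cast_ne_zero.mpr Nat.card_pos.ne'
    refine (mul_le_mul_of_nonneg_left (Finset.sum_le_sum fun h _ => hh h)
      (inv_nonneg.mpr (Nat.cast_nonneg _))).trans (le_of_eq ?_)
    rw [← Finset.mul_sum, ← Nat.cast_sum,
      show ∑ h : H, Nat.card {g : H // h * g = g * h} = Nat.card (ConjClasses H) * Nat.card H by
        rw [← H19.card_commPairs, ← Nat.card_sigma]
        exact (Nat.card_congr (Equiv.subtypeProdEquivSigmaSubtype (fun h g : H => h * g = g * h))).symm]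
    push_cast
    field_simp
  -- conclusion
  have h1 := Finset.sum_le_sum (s := (Finset.univ : Finset (IrrCharacter X))) fun χ _ => hlow χ
  rw [Finset.sum_comm, Finset.sum_const, Finset.card_univ, ← Nat.card_eq_fintype_card, H12.card_irrCharacter,
    nsmul_eq_mul] at h1
  have h2 := h1.trans (Finset.sum_le_sum hup)
  rw [Finset.sum_const, H19.card_units', nsmul_eq_mul] at h2
  have hpos : (0 : ℝ) < (p.totient : ℝ) * Nat.card (ConjClasses H) :=
    mul_pos (Nat.cast_pos.mpr (Nat.totient_pos.mpr hp.pos)) (Nat.cast_pos.mpr Nat.card_pos)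
  have : (Nat.card (ConjClasses X) : ℝ) ≤ Nat.card V := by
    refine le_of_mul_le_mul_left ?_ hpos
    linarith
  exact_mod_cast this

end Cfsg.Agent.S4959
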