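import Cfsg.Statements.S4989
import Cfsg.Agent.H12.Orth
import Cfsg.Agent.H19.GaloisAvg
import Cfsg.Agent.H19.CosetVanish

set_option autoImplicit false
open Cfsg

namespace Cfsg.Agent.S4989

/-- Let H be a subgroup of the finite group G and χ an irreducible complex character of G. Then the inner product of the restriction of χ to H with itself, (1/#H)·Σ_{h ∈ H} |χ(h)|², is at most 1 + #(Z ∖ H)/#H, where Z is the set of zeros of χ in G. -/
theorem result {G : Type*} [Group G] [Finite G] (H : Subgroup G) (χ : Cfsg.IrrCharacter G) : (Nat.card ↥H : ℝ)⁻¹ * ∑ᶠ h : ↥H, ‖(χ : G → ℂ) h‖ ^ 2 ≤ 1 + (Set.ncard ({x : G | (χ : G → ℂ) x = 0} \ (H : Set G)) : ℝ) / (Nat.card ↥H : ℝ) := by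
  classical
  haveI := Fintype.ofFinite G
  haveI := Fintype.ofFinite H
  rw [finsum_eq_sum_of_fintype]
  have hχ := H12.isCharacter_irr χ
  have htot := H19.sum_normSq_irr χ (H12.classInner_irr_self χ)
  set T := Finset.univ.filter fun x : G => x ∉ H ∧ (χ : G → ℂ) x ≠ 0 with hT
  set Z := Finset.univ.filter fun x : G => x ∉ H ∧ (χ : G → ℂ) x = 0 with hZ
  have hlow := H19.card_le_sum_normSq hχ T (fun j hj g hg => by
    simp only [hT, Finset.mem_filter, Finset.mem_univ, true_and] at hg ⊢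
    exact ⟨fun h => hg.1 ((H19.pow_mem_iff H hj g).mp h),
      H19.char_pow_ne_zero hχ Nat.card_pos g pow_card_eq_one' hj hg.2⟩)
    (fun g hg => (Finset.mem_filter.mp hg).2.2)
  have hZc : Set.ncard ({x : G | (χ : G → ℂ) x = 0} \ (H : Set G)) = Z.card := by
    rw [← Set.ncard_coe_finset]
    congr 1
    ext x
    simp [hZ, and_comm]
  have hHsum : ∑ x ∈ Finset.univ.filter (fun x : G => x ∈ H), ‖(χ : G → ℂ) x‖ ^ 2 =
      ∑ h : H, ‖(χ : G → ℂ) h‖ ^ 2 :=
    Finset.sum_subtype _ (fun x => by simp) _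
  have hsplit := Finset.sum_filter_add_sum_filter_not Finset.univ (fun x : G => x ∈ H)
    (fun x => ‖(χ : G → ℂ) x‖ ^ 2)
  rw [htot, hHsum] at hsplit
  have hle : ∑ x ∈ T, ‖(χ : G → ℂ) x‖ ^ 2 ≤
      ∑ x ∈ Finset.univ.filter (fun x : G => ¬ x ∈ H), ‖(χ : G → ℂ) x‖ ^ 2 :=
    Finset.sum_le_sum_of_subset_of_nonneg (fun x hx => by
      simp only [hT, Finset.mem_filter, Finset.mem_univ, true_and] at hx ⊢
      exact hx.1) (fun x _ _ => by positivity)
  have hcard : (Nat.card G : ℝ) = Nat.card H + Z.card + T.card := by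
    have h1 := Finset.card_filter_add_card_filter_not (s := (Finset.univ : Finset G)) (fun x => x ∈ H)
    have h2 := Finset.card_filter_add_card_filter_not
      (s := Finset.univ.filter (fun x : G => ¬ x ∈ H)) (fun x => (χ : G → ℂ) x = 0)
    rw [Finset.filter_filter, Finset.filter_filter] at h2
    have h3 : (Finset.univ.filter (fun x : G => x ∈ H)).card = Nat.card H := by
      rw [Nat.card_eq_fintype_card, ← Fintype.card_subtype]
    rw [h3, Finset.card_univ, ← Nat.card_eq_fintype_card] at h1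
    have h4 : Z.card + T.card = (Finset.univ.filter (fun x : G => ¬ x ∈ H)).card := h2
    exact_mod_cast (by omega : Nat.card G = Nat.card H + Z.card + T.card)
  have hpos : (0 : ℝ) < Nat.card H := Nat.cast_pos.mpr Nat.card_pos
  rw [hZc, inv_mul_le_iff₀ hpos]
  field_simp
  linarith

end Cfsg.Agent.S4989
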