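import Cfsg.Statements.S4990
import Cfsg.Agent.H27.KGV.OverTheta
import Cfsg.Agent.H27.KGV.SolvBound
import Cfsg.Agent.H21.PSolvHeight

set_option autoImplicit false
set_option linter.style.haveILetI false
open Cfsg

namespace Cfsg.Agent.S4990

open Cfsg in
theorem aux.{u} {p : ℕ} [hp : Fact p.Prime] {M : Ideal AlgInt} [M.IsPrime] (hM : IsPModular p M) :
    ∀ (n : ℕ) (G : Type u) [Group G] [Fintype G], Nat.card G ≤ n → Group.IsSolvable G →
      ∀ (B : Set (IrrCharacter G)), IsPBlock M B → 0 < blockDefect p B →
        B.ncard ≤ 3 ^ (blockDefect p B - 1) * p ^ blockDefect p B := by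
  intro n
  induction n with
  | zero => intro G _ _ h; exact absurd h (by have := Nat.card_pos (α := G); omega)
  | succ n ih =>
    intro G _ _ hn hsolv B hB hd0
    classical
    haveI := hsolv
    haveI hNn : (pPrimeCore p G).Normal := H1.pPrimeCore_normal' p G
    set N := pPrimeCore p G with hNdef
    haveI := Fintype.ofFinite N
    have hpN : ¬ p ∣ Nat.card N := fun h =>
      (Nat.Prime.coprime_iff_not_dvd hp.out).1 (H1.card_pPrimeCore_coprime p G).symm h
    obtain ⟨χ, hχ⟩ := H20.block_nonempty hB
    obtain ⟨θ, hθ⟩ := H21.exists_constituent N χ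
    have hsing : blockOf M (θ : N → ℂ) = {θ} := (H20.blockOf_eq_singleton_iff hM θ).1 fun h =>
      hpN (h.trans (Nat.div_dvd_of_dvd (H22.charDegree_dvd_card θ)))
    set T := H13.inertia N (θ : N → ℂ) with hT
    have hNT : N ≤ T := H13.le_inertia N (H12.irr_isClassFunction θ)
    haveI := Fintype.ofFinite T
    obtain ⟨D, hD⟩ := H20.exists_defectGroup hM hB
    have hDcard := H20.card_defectGroup hM hB hD
    by_cases htop : T = ⊤
    · have hinv : ∀ (g : G) (x : N),
          (θ : N → ℂ) ⟨g * x * g⁻¹, hNn.conj_mem x x.2 g⟩ = (θ : N → ℂ) x := fun g x => by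
        have hg : g ∈ T := htop ▸ Subgroup.mem_top g
        exact congrFun ((H13.mem_inertia N).1 hg) x
      obtain ⟨B', hB', hmem, -, hsyl⟩ :=
        Cfsg.Agent.S4492.result p M hM H10.isPSolvable_of_isSolvable N hNdef θ hinv
      have hBB : B = B' := by
        rw [H20.block_eq_blockOf hB hχ, H20.block_eq_blockOf hB' ((hmem χ).2 hθ)]
      obtain ⟨S, hS⟩ := hsyl D (hBB ▸ hD)
      have hd : blockDefect p B = (Nat.card G).factorization p := by
        refine Nat.pow_right_injective hp.out.two_le ?_
        show p ^ _ = p ^ _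
        rw [← hDcard, hS, S.card_eq_multiplicity]
      haveI : Fintype (G ⧸ N) := Fintype.ofFinite _
      have hcore : pPrimeCore p (G ⧸ N) = ⊥ := H1.pPrimeCore_quotient_pPrimeCore p
      have hfac : (Nat.card (G ⧸ N)).factorization p = blockDefect p B := by
        rw [hd, Subgroup.card_eq_card_quotient_mul_card_subgroup N,
          Nat.factorization_mul Nat.card_pos.ne' Nat.card_pos.ne', Finsupp.add_apply,
          Nat.factorization_eq_zero_of_not_dvd hpN, add_zero]
      refine le_trans ?_ (H27.KGV.classes_le_solvable hM hcore hfac hd0)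
      refine le_trans (le_of_eq ?_) (H27.KGV.card_over_le N θ hinv)
      rw [← Nat.card_coe_set_eq, hBB]
      exact Nat.card_congr (Equiv.subtypeEquivRight hmem)
    · have hst : H21.IsBlockStab N T (blockOf M (θ : N → ℂ)) := by
        refine ⟨fun g hg φ hφ => ?_, fun g hg φ hφ hc => hg ?_⟩
        · rw [hsing, Set.mem_singleton_iff] at hφ ⊢
          subst hφ
          exact Subtype.ext (funext fun x => by
            rw [H21.conjChar_apply]
            exact congrFun ((H13.mem_inertia N).1 hg) x)
        · rw [hsing, Set.mem_singleton_iff] at hφ hc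
          subst hφ
          refine (H13.mem_inertia N).2 (funext fun x => ?_)
          rw [H13.twist_apply, ← H21.conjChar_apply]
          exact congrFun (congrArg Subtype.val hc) x
      have hb : IsPBlock M (blockOf M (θ : N → ℂ)) := H20.isPBlock_blockOf θ
      obtain ⟨B', hB', hcov, hind⟩ := H21.fong_reynolds_surj N T hNT hst hb hB
        ⟨χ, hχ, θ, H20.mem_blockOf_self θ, hθ⟩
      obtain ⟨C, hC, -, -, -, hmem⟩ := H21.fong_reynolds_block N T hNT hst hb hB' hcov
      rw [H21.isInducedBlock_unique hC hind] at hmem
      obtain ⟨hdef, -⟩ := H21.fong_reynolds_defect N T hNT hst hM hb hcov hind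
      obtain ⟨D', hD'⟩ := H20.exists_defectGroup hM hB'
      have hdd : blockDefect p B' = blockDefect p B := by
        refine Nat.pow_right_injective hp.out.two_le ?_
        show p ^ _ = p ^ _
        rw [← H20.card_defectGroup hM hB' hD', ← H20.card_defectGroup hM hB (hdef D' hD'),
          Subgroup.card_map_of_injective T.subtype_injective]
      have hlt : Nat.card T ≤ n := by
        have h1 : Nat.card T < Nat.card G :=
          lt_of_le_of_ne (Subgroup.card_le_card_group T) fun h =>
            htop (Subgroup.eq_top_of_card_eq T h)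
        omega
      have := ih T hlt inferInstance B' hB' (hdd ▸ hd0)
      rw [hdd] at this
      refine le_trans ?_ this
      choose f hf using fun c : B => (hmem c.1).1 c.2
      rw [← Nat.card_coe_set_eq, ← Nat.card_coe_set_eq]
      refine Nat.card_le_card_of_injective (fun c : B => (⟨f c, (hf c).1⟩ : B')) fun c c' h => ?_
      apply Subtype.ext
      apply Subtype.ext
      rw [(hf c).2, (hf c').2, show f c = f c' from congrArg Subtype.val h]


/-- Let G be a finite solvable group, p a prime, M a maximal ideal of the algebraic integers containing p, and B a p-block of G of positive defect d. Then B contains at most 3^{d−1}·p^d irreducible complex characters. -/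
theorem result {G : Type*} [Group G] [Finite G] (hsolv : Group.IsSolvable G) (p : ℕ) [Fact p.Prime] (M : Ideal Cfsg.AlgInt) (hM : Cfsg.IsPModular p M) (B : Set (Cfsg.IrrCharacter G)) (hB : Cfsg.IsPBlock M B) (hd : 0 < Cfsg.blockDefect p B) : Set.ncard B ≤ 3 ^ (Cfsg.blockDefect p B - 1) * p ^ Cfsg.blockDefect p B := by
  haveI := Fintype.ofFinite G
  haveI : M.IsPrime := H20.isPrime_of_modular hM
  exact aux hM (Nat.card G) G le_rfl hsolv B hB hd

end Cfsg.Agent.S4990
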