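import Cfsg.Statements.S4997
import Cfsg.Agent.H17.VanishingSameOrder

set_option autoImplicit false
open Cfsg

namespace Cfsg.Agent.S4997

/-- Let p be an odd prime and G a finite solvable group with exactly one conjugacy class consisting of vanishing elements (elements at which some irreducible complex character is zero) of order divisible by p. Let P be a Sylow p-subgroup of G. Then the order of P is at most p times the order of the largest normal p-subgroup of G. -/
theorem result {G : Type*} [Group G] [Finite G] (hsolv : Group.IsSolvable G) (p : ℕ) [Fact p.Prime] (hp : p ≠ 2) (h1 : Set.ncard {C : ConjClasses G | (∀ g ∈ C.carrier, ∃ χ : Cfsg.IrrCharacter G, (χ : G → ℂ) g = 0) ∧ ∃ g ∈ C.carrier, p ∣ orderOf g} = 1) (P : Sylow p G) : Nat.card ↥(P : Subgroup G) ≤ p * Nat.card ↥(Cfsg.pCore p G) := by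
  classical
  haveI := hsolv
  refine (H17.VSO.main (p := p) _ G rfl (H17.VSO.Hyp.of_same_order fun x y hx hxp hy hyp => ?_)).2 P
  have key : ∀ z : G, H17.VSO.Vanishes z → p ∣ orderOf z →
      ConjClasses.mk z ∈ {C : ConjClasses G | (∀ g ∈ C.carrier, ∃ χ : Cfsg.IrrCharacter G, (χ : G → ℂ) g = 0) ∧ ∃ g ∈ C.carrier, p ∣ orderOf g} := by
    intro z ⟨χ, hχ⟩ hzp
    refine ⟨fun g hg => ⟨χ, ?_⟩, z, ConjClasses.mem_carrier_mk, hzp⟩
    rw [ConjClasses.mem_carrier_iff_mk_eq, ConjClasses.mk_eq_mk_iff_isConj] at hg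
    obtain ⟨c, hc⟩ := isConj_iff.1 hg
    rw [← hχ, ← hc]
    exact (H12.irr_isClassFunction χ g c).symm
  obtain ⟨C, hC⟩ := Set.ncard_eq_one.1 h1
  have h2 := key x hx hxp
  have h3 := key y hy hyp
  rw [hC, Set.mem_singleton_iff] at h2 h3
  obtain ⟨c, hc⟩ := isConj_iff.1 (ConjClasses.mk_eq_mk_iff_isConj.1 (h2.trans h3.symm))
  rw [← hc]
  exact (SemiconjBy.orderOf_eq _ (show SemiconjBy c x (c * x * c⁻¹) by simp [SemiconjBy]))

end Cfsg.Agent.S4997
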