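-- Proof of statement S5001.
import Cfsg.Statements.S5001
import Cfsg.Agent.H22.BlockClasses
import Cfsg.Agent.H13.Linear
import Cfsg.Agent.H12.Linear
import Mathlib.GroupTheory.NoncommCoprod

set_option autoImplicit false
open Cfsg
open scoped ComplexConjugate

namespace Cfsg.Agent.S5001

/-- Let p be a prime, G a finite group and B a p-block of G (relative to a maximal ideal M of the algebraic integers containing p) with defect group D. Let Z be a central p-subgroup of G contained in D and λ a linear character of Z (a homomorphism to the nonzero complex numbers). Say an irreducible character χ of G lies over λ when χ(z) = χ(1)λ(z) for all z ∈ Z. If some irreducible character in B lying over λ has height zero, then λ extends to a linear character of D. -/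
theorem result {G : Type*} [Group G] [Finite G] (p : ℕ) [Fact p.Prime] (M : Ideal Cfsg.AlgInt) (hM : Cfsg.IsPModular p M) (B : Set (Cfsg.IrrCharacter G)) (hB : Cfsg.IsPBlock M B) (D : Subgroup G) (hD : Cfsg.IsDefectGroup p M B D) (Z : Subgroup G) (hZc : Z ≤ Subgroup.center G) (hZp : IsPGroup p ↥Z) (hZD : Z ≤ D) (lam : ↥Z →* ℂˣ) (χ : Cfsg.IrrCharacter G) (hχ : χ ∈ B) (hover : (∀ z : ↥Z, (χ : G → ℂ) z = (χ : G → ℂ) 1 * (lam z : ℂ))) (h0 : Cfsg.blockHeight p B (χ : G → ℂ) = 0) : (∃ μ : ↥D →* ℂˣ, ∀ z : ↥Z, μ ⟨(z : G), hZD z.2⟩ = lam z) := by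
  classical
  haveI := H20.isPrime_of_modular hM
  have hp : p.Prime := Fact.out
  haveI := Fintype.ofFinite G
  have hcardD := H22.card_isDefectGroup hM hB hD
  obtain ⟨g, hg, P, hDP⟩ := hD
  obtain ⟨hreg, hcen⟩ := H22.cenExp_eq_of_isDefectClass hM hB hg
  -- `χ g` is a unit at `M`
  have hm : ¬ p ∣ H22.mdeg p B χ := (H22.not_dvd_mdeg_iff hχ).2 h0
  have hunit : ¬ MemLocalIdeal M ((χ : G → ℂ) g) := by
    intro hI
    have h1 := H22.centralChar_mul_mdeg (p := p) hχ g
    rw [hcen, mul_div_assoc, mul_comm _ ((χ : G → ℂ) g / _), div_mul_cancel₀ _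
      (H22.pow_p_ne_zero _)] at h1
    have h2 := H20.memIdeal_mul (H20.inv_natCast_memRing hM hm)
      (h1 ▸ H20.memIdeal_mul (H20.memRing_natCast _) hI :
        MemLocalIdeal M (centralChar (χ : G → ℂ) g * (H22.mdeg p B χ : ℂ)))
    have hm0 : (H22.mdeg p B χ : ℂ) ≠ 0 := by exact_mod_cast (H22.mdeg_pos hχ).ne'
    rw [mul_comm, mul_assoc, mul_inv_cancel₀ hm0, mul_one] at h2
    exact hg.2.2 χ hχ h2
  have hDC : ∀ x ∈ D, Commute x g := by
    intro x hx
    rw [hDP] at hx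
    obtain ⟨x', -, rfl⟩ := hx
    exact Subgroup.mem_centralizer_singleton_iff.1 x'.2
  have hcomm : ∀ (x : D) (c : Subgroup.zpowers g),
      Commute (D.subtype x) ((Subgroup.zpowers g).subtype c) := by
    intro x c
    obtain ⟨k, hk⟩ := Subgroup.mem_zpowers_iff.1 c.2
    show Commute (x : G) (c : G)
    rw [← hk]
    exact (hDC x x.2).zpow_right k
  let φ : D × Subgroup.zpowers g →* G :=
    D.subtype.noncommCoprod (Subgroup.zpowers g).subtype hcomm
  have hφ : ∀ x, φ x = (x.1 : G) * (x.2 : G) := fun _ => rfl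
  have hf : IsCharacter (D × Subgroup.zpowers g) (fun x => (χ : G → ℂ) (φ x)) :=
    H12.IsCharacter.comp (H12.isCharacter_irr χ) φ
  obtain ⟨m, hm'⟩ := H12.IsCharacter.exists_mult hf
  have hval : ∀ x, (χ : G → ℂ) (φ x) =
      ∑ η, (m η : ℂ) * (η : D × Subgroup.zpowers g → ℂ) x := by
    intro x
    have := congrFun hm' x
    simpa [Finset.sum_apply] using this
  -- some constituent is linear on `D`
  obtain ⟨η, hmη, θ, ν, hθ, hν, hη, hθ1, hν1⟩ : ∃ η, m η ≠ 0 ∧ ∃ (θ : D → ℂ)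
      (ν : Subgroup.zpowers g → ℂ), IsIrrCharacter D θ ∧ IsIrrCharacter (Subgroup.zpowers g) ν ∧
      (η : D × Subgroup.zpowers g → ℂ) = (fun x => θ x.1 * ν x.2) ∧ θ 1 = 1 ∧ ν 1 = 1 := by
    by_contra hne
    refine hunit ?_
    have h1 := hval (1, ⟨g, Subgroup.mem_zpowers g⟩)
    rw [hφ, Subgroup.coe_one, one_mul] at h1
    rw [show ((⟨g, Subgroup.mem_zpowers g⟩ : Subgroup.zpowers g) : G) = g from rfl] at h1
    rw [h1]
    refine Finset.sum_induction _ (MemLocalIdeal M) (fun _ _ => H20.memIdeal_add)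
      H20.memIdeal_zero fun η _ => ?_
    by_cases hmη : m η = 0
    · rw [hmη, Nat.cast_zero, zero_mul]; exact H20.memIdeal_zero
    obtain ⟨θ, ν, hθ, hν, hη⟩ := H13.exists_prod_eq_irr η.2
    have hν1 : ν 1 = 1 := by
      refine H12.irr_apply_one_of_comm (fun a b => ?_) ⟨ν, hν⟩
      obtain ⟨a, ha⟩ := a
      obtain ⟨b, hb⟩ := b
      obtain ⟨i, rfl⟩ := Subgroup.mem_zpowers_iff.1 ha
      obtain ⟨j, rfl⟩ := Subgroup.mem_zpowers_iff.1 hb
      exact Subtype.ext ((Commute.refl g).zpow_zpow i j).eq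
    have hθ1 : θ 1 ≠ 1 := fun h => hne ⟨η, hmη, θ, ν, hθ, hν, hη, h, hν1⟩
    obtain ⟨k, -, hk⟩ := (Nat.dvd_prime_pow hp).1
      (hcardD ▸ H22.charDegree_dvd_card (⟨θ, hθ⟩ : IrrCharacter D))
    have hθd : θ 1 = (p : ℂ) ^ k := by
      rw [← Nat.cast_pow, ← hk]
      exact H22.irr_one_eq_charDegree (⟨θ, hθ⟩ : IrrCharacter D)
    obtain ⟨k, rfl⟩ : ∃ j, k = j + 1 := by
      refine ⟨k - 1, ?_⟩
      rcases Nat.eq_zero_or_pos k with h | h
      · subst h; exact absurd (by simpa using hθd) hθ1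
      · omega
    rw [show (η : D × Subgroup.zpowers g → ℂ) (1, ⟨g, Subgroup.mem_zpowers g⟩) =
      θ 1 * ν ⟨g, Subgroup.mem_zpowers g⟩ from congrFun hη _, hθd, pow_succ,
      show (m η : ℂ) * ((p : ℂ) ^ k * p * ν ⟨g, Subgroup.mem_zpowers g⟩) =
        ((m η : ℂ) * (p : ℂ) ^ k * ν ⟨g, Subgroup.mem_zpowers g⟩) * (p : ℂ) by ring]
    exact H20.memIdeal_mul (H20.memRing_mul (H20.memRing_mul (H20.memRing_natCast _)
      (pow_mem (S := H20.O M) (H20.memRing_natCast p) _)) (H20.memRing_of_isIntegral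
      (H12.IsCharacter.isIntegral (H12.isCharacter_of_isIrrCharacter hν) _)))
      (H20.memIdeal_p hM)
  have hθc := H12.isCharacter_of_isIrrCharacter hθ
  refine ⟨H13.linHom hθc hθ1, fun z => Units.ext ?_⟩
  rw [H13.linHom_apply]
  -- equality case of the triangle inequality at `z`
  have hlam : ‖(lam z : ℂ)‖ = 1 :=
    H12.norm_eq_one_of_pow_eq_one (orderOf_pos z).ne'
      (by rw [← Units.val_pow_eq_pow_val, ← map_pow, pow_orderOf_eq_one, map_one, Units.val_one])
  have hz1 : (χ : G → ℂ) 1 * (lam z : ℂ) =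
      ∑ ξ, (m ξ : ℂ) * (ξ : D × Subgroup.zpowers g → ℂ) (⟨(z : G), hZD z.2⟩, 1) := by
    rw [← hval, hφ]
    simp [hover z]
  have h11 : (χ : G → ℂ) 1 = ∑ ξ, (m ξ : ℂ) * (ξ : D × Subgroup.zpowers g → ℂ) 1 := by
    rw [← hval, map_one]
  let R : IrrCharacter (D × Subgroup.zpowers g) → ℂ := fun ξ =>
    conj (lam z : ℂ) * (ξ : D × Subgroup.zpowers g → ℂ) (⟨(z : G), hZD z.2⟩, 1)
  have hRsum : ∑ ξ, (m ξ : ℝ) * (R ξ).re =
      ∑ ξ, (m ξ : ℝ) * ((ξ : D × Subgroup.zpowers g → ℂ) 1).re := by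
    have e1 : ∑ ξ, (m ξ : ℂ) * R ξ = (χ : G → ℂ) 1 := by
      have : ∑ ξ, (m ξ : ℂ) * R ξ = conj (lam z : ℂ) * ((χ : G → ℂ) 1 * (lam z : ℂ)) := by
        rw [hz1, Finset.mul_sum]
        exact Finset.sum_congr rfl fun ξ _ => by simp only [R]; ring
      rw [this, mul_left_comm, Complex.conj_mul', hlam]
      simp
    have e2 := congrArg Complex.re (e1.trans h11)
    simpa [Complex.re_sum] using e2
  have hle : ∀ ξ ∈ (Finset.univ : Finset (IrrCharacter (D × Subgroup.zpowers g))),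
      (m ξ : ℝ) * (R ξ).re ≤ (m ξ : ℝ) * ((ξ : D × Subgroup.zpowers g → ℂ) 1).re := by
    intro ξ _
    refine mul_le_mul_of_nonneg_left ((Complex.re_le_norm _).trans ?_) (Nat.cast_nonneg _)
    simp only [R, norm_mul, Complex.norm_conj, hlam, one_mul]
    rw [H12.irr_apply_one ξ, Complex.natCast_re]
    exact H12.IsCharacter.norm_le (H12.isCharacter_irr ξ) _
  have heq := (Finset.sum_eq_sum_iff_of_le hle).1 hRsum η (Finset.mem_univ η)
  have hre : (R η).re = 1 := by
    have := mul_left_cancel₀ (by exact_mod_cast hmη : (m η : ℝ) ≠ 0) heq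
    rw [this, congrFun hη 1]
    simp [hθ1, hν1]
  have hR : R η = conj (lam z : ℂ) * θ ⟨(z : G), hZD z.2⟩ := by
    simp only [R, congrFun hη, hν1, mul_one]
  have hnθ : ‖θ ⟨(z : G), hZD z.2⟩‖ = 1 := by
    have h : θ ⟨(z : G), hZD z.2⟩ ^ orderOf (⟨(z : G), hZD z.2⟩ : D) = 1 := by
      rw [← H13.linHom_apply hθc hθ1, ← Units.val_pow_eq_pow_val, ← map_pow, pow_orderOf_eq_one,
        map_one, Units.val_one]
    exact H12.norm_eq_one_of_pow_eq_one (orderOf_pos _).ne' h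
  have hone : R η = 1 := by
    have hn : ‖R η‖ = 1 := by rw [hR, norm_mul, Complex.norm_conj, hlam, hnθ, one_mul]
    apply Complex.ext
    · simpa using hre
    · have h' := Complex.sq_norm (R η)
      rw [hn, Complex.normSq_apply, hre] at h'
      simp only [Complex.one_im]
      nlinarith
  calc θ ⟨(z : G), hZD z.2⟩ = (lam z : ℂ) * (conj (lam z : ℂ) * θ ⟨(z : G), hZD z.2⟩) := by
        rw [← mul_assoc, Complex.mul_conj', hlam]; simp
    _ = (lam z : ℂ) := by rw [← hR, hone, mul_one]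

end Cfsg.Agent.S5001
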