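import Cfsg.Statements.S5005
import Cfsg.Agent.H25.M22Classes
import Cfsg.Agent.H22.Divis
import Cfsg.Agent.H12.Integral

set_option autoImplicit false
open Cfsg

namespace Cfsg.Agent.S5005

set_option maxHeartbeats 1000000 in
/-- No character of M22 vanishes at all 2-singular elements. -/
theorem not_vanishing (χ : Cfsg.IrrCharacter H25.M22.G22)
    (hvan : ∀ g : H25.M22.G22, 2 ∣ orderOf g → (χ : H25.M22.G22 → ℂ) g = 0) : False := by
  classical
  have : Fact (Nat.Prime 2) := ⟨Nat.prime_two⟩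
  haveI := Fintype.ofFinite H25.M22.G22
  set d := H12.degree (χ : H25.M22.G22 → ℂ) with hd
  have hd1 : (χ : H25.M22.G22 → ℂ) 1 = (d : ℂ) := H12.irr_apply_one χ
  have hθ : ∀ x : H25.M22.G22, (χ : H25.M22.G22 → ℂ) x =
      ∑ ψ ∈ ({χ} : Finset (Cfsg.IrrCharacter H25.M22.G22)),
        (fun _ => (1 : ℂ)) ψ * (ψ : H25.M22.G22 → ℂ) x := fun x => by simp
  -- the degree
  have h128 : 128 ∣ d := by
    obtain ⟨avg, havg, h⟩ := H22.exists_average_integral (p := 2) (g := (1 : H25.M22.G22))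
      (by rw [orderOf_one]; norm_num)
    have e := h _ {χ} (fun _ => 1) hθ hvan
    rw [H22.cenExp_one, H25.M22.fac_two, Finset.sum_singleton, one_mul, hd1] at e
    have hi : IsIntegral ℤ (((d : ℚ) / 128 : ℚ) : ℂ) := by
      have e2 : (((d : ℚ) / 128 : ℚ) : ℂ) = avg χ := by rw [← e]; push_cast; norm_num
      rw [e2]; exact havg χ
    obtain ⟨z, hz⟩ := H12.exists_int_of_isIntegral_rat hi
    have hz' : (128 : ℤ) * z = (d : ℤ) := by
      have : (128 : ℚ) * (z : ℚ) = (d : ℚ) := by rw [hz]; ring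
      exact_mod_cast this
    exact Int.natCast_dvd_natCast.1 ⟨z, hz'.symm⟩
  obtain ⟨y, hy, hy3⟩ := H25.M22.exists_y
  -- the value at an element of order three
  obtain ⟨P, hP, hPc⟩ := H25.M22.exists_three_subgroup
  set a := (χ : H25.M22.G22 → ℂ) y with ha
  haveI := Fintype.ofFinite P
  obtain ⟨n, hn⟩ := H12.IsCharacter.classInner_nat (H12.IsCharacter.res (H12.isCharacter_irr χ) P)
    (H12.isCharacter_irr (H12.oneIrr P))
  have hsumP : (d : ℂ) + 8 * a = 9 * (n : ℂ) := by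
    have h1 := H12.sum_mul_conj_eq_card_mul (fun h : P => (χ : H25.M22.G22 → ℂ) h)
      (H12.oneIrr P : P → ℂ)
    rw [hn, hP] at h1
    simp only [H12.oneIrr_apply, map_one, mul_one] at h1
    rw [← Finset.add_sum_erase _ _ (Finset.mem_univ (1 : P))] at h1
    rw [Finset.sum_congr rfl (fun (w : P) hw => by
      obtain ⟨c, hc⟩ := isConj_iff.1 (hPc hy w w.2
        (fun e => (Finset.mem_erase.1 hw).1 (Subtype.ext e)))
      rw [← hc, H12.irr_isClassFunction χ y c] : ∀ w ∈ Finset.univ.erase (1 : P),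
        (χ : H25.M22.G22 → ℂ) w = a), Finset.sum_const, Finset.card_erase_of_mem (Finset.mem_univ _),
      Finset.card_univ, ← Nat.card_eq_fintype_card, hP, OneMemClass.coe_one, hd1] at h1
    simpa using h1
  obtain ⟨hcy, hcy4⟩ := H25.M22.cent_y hy
  obtain ⟨avg, havg, hav⟩ := H22.exists_average_integral (p := 2) (g := y) (by rw [hy3]; norm_num)
  have e4 := hav _ {χ} (fun _ => 1) hθ hvan
  rw [Finset.sum_singleton, one_mul, ← ha] at e4
  set ec := H22.cenExp 2 y with hec
  have hec2 : 2 ≤ ec := (Nat.prime_two.pow_dvd_iff_le_factorization Nat.card_pos.ne').1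
    (show 2 ^ 2 ∣ _ from hcy4)
  obtain ⟨b, hb⟩ : ∃ b : ℤ, a = 4 * (b : ℂ) := by
    have hqr : a = (((9 * n - d : ℚ) / 8 : ℚ) : ℂ) := by
      push_cast
      linear_combination (1 / 8 : ℂ) * hsumP
    have hi : IsIntegral ℤ ((((9 * n - d : ℚ) / 32 : ℚ)) : ℂ) := by
      have e2 : ((((9 * n - d : ℚ) / 32 : ℚ)) : ℂ) = avg χ * ((2 ^ (ec - 2) : ℕ) : ℂ) := by
        rw [← e4, hqr]
        obtain ⟨f, hf⟩ := Nat.exists_eq_add_of_le hec2
        rw [hf, Nat.add_sub_cancel_left, pow_add]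
        have : (2 : ℂ) ^ f ≠ 0 := pow_ne_zero _ two_ne_zero
        push_cast
        field_simp
        ring
      rw [e2]
      exact (havg χ).mul (H20.isIntegral_natCast' _)
    obtain ⟨z, hz⟩ := H12.exists_int_of_isIntegral_rat hi
    refine ⟨z, ?_⟩
    rw [hqr, show ((z : ℂ)) = (((z : ℚ)) : ℂ) by push_cast; rfl, hz]
    push_cast
    ring
  have heq : (d : ℤ) + 32 * b = 9 * n := by
    have : ((d : ℤ) : ℂ) + 32 * ((b : ℤ) : ℂ) = 9 * ((n : ℤ) : ℂ) := by
      push_cast
      rw [← hsumP, hb]; ring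
    exact_mod_cast this
  -- the norm
  set K := Finset.univ.filter fun g : H25.M22.G22 => IsConj y g with hK
  have hnorm : (d : ℤ) ^ 2 + (K.card : ℤ) * (4 * b) ^ 2 ≤ 443520 := by
    have h1 := H12.sum_mul_conj_eq_card_mul (χ : H25.M22.G22 → ℂ) (χ : H25.M22.G22 → ℂ)
    rw [H12.classInner_irr_self, mul_one, H25.M22.card22] at h1
    simp only [Complex.mul_conj] at h1
    have h2 : ∑ g, Complex.normSq ((χ : H25.M22.G22 → ℂ) g) = (443520 : ℝ) := by
      have h1' : ((∑ g, Complex.normSq ((χ : H25.M22.G22 → ℂ) g) : ℝ) : ℂ) = ((443520 : ℝ) : ℂ) := by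
        push_cast
        exact h1.trans (by norm_num)
      exact Complex.ofReal_inj.1 h1'
    have h1K : (1 : H25.M22.G22) ∉ K := by
      intro h
      have := (isConj_one_left.1 (Finset.mem_filter.1 h).2)
      rw [this, orderOf_one] at hy3
      omega
    have h3 : ∑ g ∈ insert 1 K, Complex.normSq ((χ : H25.M22.G22 → ℂ) g) ≤ 443520 :=
      h2 ▸ Finset.sum_le_sum_of_subset_of_nonneg (Finset.subset_univ _)
        (fun _ _ _ => Complex.normSq_nonneg _)
    rw [Finset.sum_insert h1K, Finset.sum_congr rfl (fun g hg => by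
      obtain ⟨c, hc⟩ := isConj_iff.1 (Finset.mem_filter.1 hg).2
      rw [← hc, H12.irr_isClassFunction χ y c, ← ha, hb] : ∀ g ∈ K,
        Complex.normSq ((χ : H25.M22.G22 → ℂ) g) = Complex.normSq (4 * (b : ℂ))),
      Finset.sum_const, hd1, nsmul_eq_mul] at h3
    have h4 : (((d : ℤ) ^ 2 + (K.card : ℤ) * (4 * b) ^ 2 : ℤ) : ℝ) ≤ ((443520 : ℤ) : ℝ) := by
      push_cast
      simp only [map_mul, Complex.normSq_natCast, Complex.normSq_intCast,
        Complex.normSq_ofNat] at h3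
      nlinarith [h3]
    exact_mod_cast h4
  have hKcard : 443520 ≤ 36 * K.card := by
    have h := H12.card_conjClass_mul_card_centralizer y
    rw [H25.M22.card22] at h
    rw [← h, Nat.mul_comm 36]
    exact Nat.mul_le_mul (le_of_eq (congrArg Finset.card (Finset.ext fun _ => by simp [hK]))) hcy
  have hK0 : (12320 : ℤ) ≤ (K.card : ℤ) := by omega
  have hb1 : -1 ≤ b ∧ b ≤ 1 := by
    constructor <;> nlinarith
  have hd5 : d ≤ 665 := by
    have h0 : (0 : ℤ) ≤ (K.card : ℤ) * (4 * b) ^ 2 := by positivity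
    by_contra h
    have : (666 : ℤ) ≤ (d : ℤ) := by omega
    nlinarith
  have hdvd : d ∣ 443520 := H25.M22.card22 ▸ H12.irr_degree_dvd_card χ
  obtain ⟨k, hk⟩ := h128
  have hk2 : ¬ 2 ∣ k := by
    rintro ⟨j, rfl⟩
    have h256 : 256 ∣ 443520 := dvd_trans ⟨j, by rw [hk]; ring⟩ hdvd
    norm_num at h256
  have hd0 : 0 < d := H12.irr_degree_pos χ
  have hk5 : k ≤ 5 := by omega
  obtain ⟨hb0, hb2⟩ := hb1
  interval_cases k <;> interval_cases b <;> omega


/-- All irreducible complex characters of the Mathieu group `M₂₂` lie in a single 2-block: any two of them lie in the same block relative to every maximal ideal of the algebraic integers containing 2. -/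
theorem result (M : Ideal Cfsg.AlgInt) (hM : Cfsg.IsPModular 2 M)
    (χ ψ : Cfsg.IrrCharacter ↥Cfsg.Spor.M22) : Cfsg.SameBlock M (χ : ↥Cfsg.Spor.M22 → ℂ) (ψ : ↥Cfsg.Spor.M22 → ℂ) := by
  classical
  haveI : M.IsPrime := hM.2.1.isPrime
  have key : ∀ φ : Cfsg.IrrCharacter ↥Cfsg.Spor.M22, φ ∈ Cfsg.principalBlock M ↥Cfsg.Spor.M22 :=
    fun φ => by_contra fun h => not_vanishing φ fun g hg =>
      H25.OneBlock.vanish H25.M22.involution_good hM h hg
  exact H20.sameBlock_trans (H20.sameBlock_symm (χ := H12.oneIrr _) (key χ)) (key ψ)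

end Cfsg.Agent.S5005
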