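import Cfsg.Statements.S5011
import Mathlib

set_option autoImplicit false
open Cfsg

namespace Cfsg.Agent.S5011

/-- Let G be a finite non-abelian simple group and ρ an irreducible complex representation of G on a space of dimension greater than one (irreducible in the sense that the only subspaces invariant under every ρ(x) are 0 and the whole space). Then for every non-identity element g of G, the centralizer of g does not act irreducibly: there is a non-zero proper subspace invariant under ρ(c) for every c commuting with g. -/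
theorem result {G : Type*} [Group G] [Finite G] [IsSimpleGroup G]
    (hG : ¬ IsMulCommutative G) {V : Type*} [AddCommGroup V] [Module ℂ V] [FiniteDimensional ℂ V]
    (ρ : Representation ℂ G V)
    (hirr : ∀ W : Submodule ℂ V, (∀ x : G, ∀ v ∈ W, ρ x v ∈ W) → W = ⊥ ∨ W = ⊤)
    (hdim : 1 < Module.finrank ℂ V) (g : G) (hg : g ≠ 1) :
    ∃ W : Submodule ℂ V, W ≠ ⊥ ∧ W ≠ ⊤ ∧ ∀ c ∈ Subgroup.centralizer ({g} : Set G), ∀ v ∈ W, ρ c v ∈ W := by

  by_contra hcon
  push_neg at hcon
  have hcomm : ∀ c ∈ Subgroup.centralizer ({g} : Set G), c * g = g * c := fun c hc =>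
    (Subgroup.mem_centralizer_singleton_iff.mp hc)
  haveI : Nontrivial V := Module.nontrivial_of_finrank_pos (R := ℂ) (by omega)
  obtain ⟨μ, hμ⟩ := Module.End.exists_eigenvalue (ρ g)
  set W := Module.End.eigenspace (ρ g) μ with hW
  have hWne : W ≠ ⊥ := hμ
  have hWtop : W = ⊤ := by
    by_contra htop
    obtain ⟨c, hc, v, hv, hnot⟩ := hcon W hWne htop
    apply hnot
    rw [hW, Module.End.mem_eigenspace_iff] at hv ⊢
    rw [← Module.End.mul_apply, ← map_mul, ← hcomm c hc, map_mul, Module.End.mul_apply, hv, map_smul]
  have hsc : ∀ v, ρ g v = μ • v := fun v =>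
    Module.End.mem_eigenspace_iff.mp (show v ∈ W by rw [hWtop]; exact Submodule.mem_top)
  rcases Subgroup.Normal.eq_bot_or_eq_top (ρ : G →* _).normal_ker with hk | hk
  · have hinj : Function.Injective ρ := (MonoidHom.ker_eq_bot_iff _).mp hk
    have hgc : g ∈ Subgroup.center G := by
      rw [Subgroup.mem_center_iff]
      intro x
      apply hinj
      ext v
      simp only [map_mul, Module.End.mul_apply, hsc, map_smul]
    rcases Subgroup.Normal.eq_bot_or_eq_top (inferInstance : (Subgroup.center G).Normal) with hz | hz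
    · rw [hz, Subgroup.mem_bot] at hgc
      exact hg hgc
    · exact hG ⟨⟨fun a b => (Subgroup.mem_center_iff.mp (hz ▸ Subgroup.mem_top b : b ∈ Subgroup.center G)) a⟩⟩
  · have hone : ∀ x, ρ x = 1 := fun x =>
      (MonoidHom.mem_ker).mp (hk ▸ Subgroup.mem_top x : x ∈ (ρ : G →* _).ker)
    obtain ⟨v, hv⟩ := exists_ne (0 : V)
    rcases hirr (ℂ ∙ v) (fun x w hw => by rw [hone x]; simpa using hw) with h | h
    · exact hv (Submodule.span_singleton_eq_bot.mp h)
    · have := finrank_span_singleton (K := ℂ) hv
      rw [h, finrank_top] at this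
      omega

end Cfsg.Agent.S5011
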