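import Cfsg.Statements.S5015
import Cfsg.Agent.H98.RankOne

set_option autoImplicit false
open Cfsg

namespace Cfsg.Agent.S5015

/-- Let a group Y act doubly transitively on a set Ω with at least three points, and suppose that the stabilizer of a point α contains a nilpotent subgroup A, normalized by that stabilizer, which acts regularly on the points other than α. Then for any y in Y moving α, the subgroups A and y A y⁻¹ are the unipotent subgroups of a rank one group, and the normal closure of A in Y (the subgroup generated by all conjugates of A) is generated by A and y A y⁻¹ alone. -/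
theorem result {Y Ω : Type*} [Group Y] [MulAction Y Ω]
    (h2 : MulAction.IsMultiplyPretransitive Y Ω 2) (hΩ : 3 ≤ ENat.card Ω) (α : Ω) (A : Subgroup Y)
    (hA : A ≤ MulAction.stabilizer Y α) (hAn : ∀ y ∈ MulAction.stabilizer Y α, Cfsg.conjBy A y = A)
    (hnil : Group.IsNilpotent A) (hreg : ∀ β γ : Ω, β ≠ α → γ ≠ α → ∃! a : Y, a ∈ A ∧ a • β = γ)
    (y : Y) (hy : y ∉ MulAction.stabilizer Y α) :
    Cfsg.IsRankOnePair A (Cfsg.conjBy A y) ∧ Subgroup.normalClosure (A : Set Y) = A ⊔ Cfsg.conjBy A y := by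
  classical
  set β := y • α with hβdef
  have hβ : β ≠ α := fun e => hy e
  have key : ∀ g g' : Y, g • α = g' • α → conjBy A g = conjBy A g' := by
    intro g g' e
    have : g'⁻¹ * g ∈ MulAction.stabilizer Y α := by
      rw [MulAction.mem_stabilizer_iff, mul_smul, e, inv_smul_smul]
    have h1 := hAn _ this
    rw [← H98.conjBy_inj (g := g'), H98.conjBy_conjBy, mul_inv_cancel_left] at h1
    exact h1
  have hB : ∀ b ∈ conjBy A y, b • β = β := by
    intro b hb
    rw [H98.mem_conjBy] at hb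
    have := hA hb
    rw [MulAction.mem_stabilizer_iff, mul_smul, mul_smul, inv_smul_eq_iff] at this
    exact this
  have hBreg : ∀ γ δ : Ω, γ ≠ β → δ ≠ β → ∃ b ∈ conjBy A y, b • γ = δ := by
    intro γ δ h1 h2'
    obtain ⟨a, ⟨ha, hae⟩, -⟩ := hreg (y⁻¹ • γ) (y⁻¹ • δ)
      (fun e => h1 (inv_smul_eq_iff.1 e)) (fun e => h2' (inv_smul_eq_iff.1 e))
    refine ⟨y * a * y⁻¹, H98.conj_mem_conjBy y ha, ?_⟩
    rw [mul_smul, mul_smul, hae, smul_inv_smul]
  have hfix : ∀ a ∈ A, a • β = β → a = 1 := by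
    intro a ha e
    obtain ⟨u, -, hu⟩ := hreg β β hβ hβ
    rw [hu a ⟨ha, e⟩, ← hu 1 ⟨A.one_mem, one_smul _ _⟩]
  obtain ⟨γ, hγα, hγβ⟩ : ∃ γ : Ω, γ ≠ α ∧ γ ≠ β := by
    by_contra hne
    push Not at hne
    have h3 : (Set.univ : Set Ω) ⊆ {α, β} := by
      intro γ _
      by_cases hg : γ = α
      · exact Or.inl hg
      · exact Or.inr (hne γ hg)
    have h4 : ENat.card Ω ≤ 2 := by
      rw [← Set.encard_univ]
      refine (Set.encard_le_encard h3).trans ?_
      rw [Set.encard_pair hβ.symm]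
    exact absurd (hΩ.trans h4) (by decide)
  have hne : A ≠ conjBy A y := by
    intro e
    obtain ⟨a, ⟨ha, hae⟩, -⟩ := hreg β γ hβ hγα
    rw [e] at ha
    exact hγβ (hae.symm.trans (hB a ha))
  have hfixA : ∀ a ∈ A, a • α = α := fun a ha => hA ha
  have cond1 : RankOneCondition A (conjBy A y) := by
    intro a ha ha1
    have h1 : a⁻¹ • β ≠ β := fun e => ha1 (inv_eq_one.1 (hfix _ (A.inv_mem ha) e))
    obtain ⟨b, hb, hbe⟩ := hBreg α (a⁻¹ • β) hβ.symm h1
    refine ⟨b⁻¹, Subgroup.inv_mem _ hb, ?_, ?_⟩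
    · intro e
      rw [inv_eq_one] at e
      rw [e, one_smul, eq_inv_smul_iff, hfixA a ha] at hbe
      exact hβ hbe.symm
    · rw [inv_inv, H98.conjBy_conjBy]
      exact key _ _ (by rw [mul_smul]; exact hbe)
  have cond2 : RankOneCondition (conjBy A y) A := by
    intro b hb hb1
    have h1 : b⁻¹ • α ≠ α := by
      intro e
      have h2' : y⁻¹ * b * y ∈ A := H98.mem_conjBy.1 hb
      have h3 : (y⁻¹ • α) ≠ α := fun e' => hβ (by rw [hβdef]; exact (inv_smul_eq_iff.1 e').symm)
      have h4 : (y⁻¹ * b * y) • (y⁻¹ • α) = y⁻¹ • α := by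
        rw [mul_smul, smul_inv_smul, mul_smul]
        rw [inv_smul_eq_iff] at e
        rw [← e]
      obtain ⟨u, -, hu⟩ := hreg (y⁻¹ • α) (y⁻¹ • α) h3 h3
      have h5 : y⁻¹ * b * y = 1 := by rw [hu _ ⟨h2', h4⟩, ← hu 1 ⟨A.one_mem, one_smul _ _⟩]
      apply hb1
      calc b = y * (y⁻¹ * b * y) * y⁻¹ := by group
        _ = 1 := by rw [h5]; group
    obtain ⟨a, ⟨ha, hae⟩, -⟩ := hreg β (b⁻¹ • α) hβ h1
    refine ⟨a⁻¹, A.inv_mem ha, ?_, ?_⟩
    · intro e
      rw [inv_eq_one] at e
      rw [e, one_smul, eq_inv_smul_iff, hB b hb] at hae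
      exact hβ hae
    · rw [inv_inv, H98.conjBy_conjBy]
      exact key _ _ (by rw [mul_smul]; exact hae)
  haveI := hnil
  refine ⟨⟨hne, hnil, nilpotent_of_mulEquiv (H98.conjEquiv A y), cond1, cond2⟩, ?_⟩
  refine le_antisymm ?_ (sup_le Subgroup.le_normalClosure ?_)
  · refine (Subgroup.closure_le _).2 ?_
    intro x hx
    obtain ⟨a, ha, hc⟩ := Group.mem_conjugatesOfSet_iff.1 hx
    obtain ⟨g, rfl⟩ := isConj_iff.1 hc
    have hm := H98.conj_mem_conjBy g (SetLike.mem_coe.1 ha)
    by_cases hg : g • α = α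
    · rw [key g 1 (by rw [hg, one_smul]), H98.conjBy_one] at hm
      exact Subgroup.mem_sup_left hm
    · obtain ⟨a', ⟨ha', hae⟩, -⟩ := hreg β (g • α) hβ hg
      rw [key g (a' * y) (by rw [mul_smul]; exact hae.symm), ← H98.conjBy_conjBy] at hm
      exact H98.conjBy_le_of_mem le_sup_right (Subgroup.mem_sup_left ha') hm
  · intro x hx
    rw [H98.mem_conjBy] at hx
    have := (Subgroup.normalClosure_normal (s := (A : Set Y))).conj_mem _
      (Subgroup.le_normalClosure hx) y
    simpa [mul_assoc] using this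

end Cfsg.Agent.S5015
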