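import Cfsg.Statements.S5018
import Cfsg.Agent.H98.RankOne

set_option autoImplicit false
open Cfsg

namespace Cfsg.Agent.S5018

/-- A rank one group is not nilpotent, and its second centre equals its centre. -/
theorem result {X : Type*} [Group X] {A B : Subgroup X} (h : Cfsg.IsRankOneGroup X A B) :
    Subgroup.upperCentralSeries X 2 = Subgroup.center X ∧ ¬ Group.IsNilpotent X := by
  have hZ2 : Subgroup.upperCentralSeries X 2 = Subgroup.center X := by
    refine le_antisymm ?_ ?_
    · intro z hz
      rcases H98.normal_sup_eq_top_or_le_center h (Subgroup.upperCentralSeries X 2) with ht | ht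
      · exfalso
        have hcomm : ∀ z ∈ Subgroup.upperCentralSeries X 2, ∀ x : X,
            z * x * z⁻¹ * x⁻¹ ∈ Subgroup.center X := by
          intro z hz x
          rw [show (2 : ℕ) = 1 + 1 from rfl, Subgroup.mem_upperCentralSeries_succ_iff] at hz
          have := hz x
          rwa [Subgroup.upperCentralSeries_one] at this
        have hfix : ∀ z ∈ Subgroup.upperCentralSeries X 2, conjBy A z = A := by
          intro z hz
          by_contra hne
          obtain ⟨a', ha', he⟩ := H98.unipotent_ne_left h.2 (H98.mem_unipotent_of_group h z) hne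
          obtain ⟨a, ha, ha1⟩ := H98.exists_mem_ne_one (H98.left_ne_bot h.2)
          apply ha1
          have h1 : conjBy (conjBy A z) a = conjBy A z := by
            have h2 : conjBy (conjBy A z) (z * a * z⁻¹) = conjBy A z :=
              H98.conjBy_self (H98.conj_mem_conjBy z ha)
            have hc := hcomm z hz a
            have h3 : conjBy (conjBy A z) (z * a * z⁻¹ * a⁻¹)⁻¹ = conjBy A z := by
              rw [H98.conjBy_eq_self_iff]
              exact Subgroup.center_le_normalizer _ (Subgroup.inv_mem _ hc)
            calc conjBy (conjBy A z) a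
                = conjBy (conjBy (conjBy A z) (z * a * z⁻¹)) (z * a * z⁻¹ * a⁻¹)⁻¹ := by
                  rw [H98.conjBy_conjBy (h := z * a * z⁻¹)]; congr 1; group
              _ = conjBy A z := by rw [h2, h3]
          obtain ⟨u, -, hu⟩ := H98.existsUnique_regular h.2 (H98.mem_unipotent_of_group h z)
            (H98.mem_unipotent_of_group h z) hne hne
          rw [hu a ⟨ha, h1⟩, ← hu 1 ⟨A.one_mem, H98.conjBy_one _⟩]
        have hN : Subgroup.upperCentralSeries X 2 ⊔ A ≤ Subgroup.normalizer (A : Set X) :=
          sup_le (fun z hz => H98.conjBy_eq_self_iff.1 (hfix z hz)) Subgroup.le_normalizer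
        rw [ht] at hN
        obtain ⟨b, hb, hb1⟩ := H98.exists_mem_ne_one (H98.right_ne_bot h.2)
        exact hb1 (H98.eq_one_of_conjBy_left_eq h.2 hb
          (H98.conjBy_eq_self_iff.2 (hN (Subgroup.mem_top b))))
      · exact ht hz
    · rw [← Subgroup.upperCentralSeries_one]
      exact Subgroup.upperCentralSeries_mono X (by norm_num)
  refine ⟨hZ2, fun hn => ?_⟩
  have hstab : ∀ n, Subgroup.upperCentralSeries X n ≤ Subgroup.center X := by
    intro n
    induction n with
    | zero => simp
    | succ n ih =>
      intro x hx
      rw [Subgroup.mem_upperCentralSeries_succ_iff] at hx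
      rw [← hZ2, show (2 : ℕ) = 1 + 1 from rfl, Subgroup.mem_upperCentralSeries_succ_iff]
      intro y
      rw [Subgroup.upperCentralSeries_one]
      exact ih (hx y)
  obtain ⟨n, hn'⟩ := hn.nilpotent
  exact H98.not_le_center_left h.2 fun a _ => hstab n (by rw [hn']; trivial)

end Cfsg.Agent.S5018
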