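import Cfsg.Statements.S5019
import Cfsg.Agent.H98.Special
import Cfsg.Agent.H98.QuadraticRing
import Cfsg.Agent.S5018

set_option autoImplicit false
open Cfsg

namespace Cfsg.Agent.S5019

/-- Let X be a rank one group with abelian unipotent subgroups A and B, and suppose X acts on an abelian group N (written additively) in such a way that A acts quadratically, meaning a' • (a • n − n) = a • n − n for all a, a' in A and n in N, while X as a whole does not: y • (x • n − n) ≠ x • n − n for some x, y in X and n in N. Then X is a special rank one group. -/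
theorem result {X : Type*} [Group X] {A B : Subgroup X} (h : Cfsg.IsRankOneGroup X A B)
    (hab : Cfsg.HasAbelianUnipotents A B) {N : Type*} [AddCommGroup N] [DistribMulAction X N]
    (hq : ∀ a ∈ A, ∀ a' ∈ A, ∀ n : N, a' • (a • n - n) = a • n - n)
    (hX : ∃ x y : X, ∃ n : N, y • (x • n - n) ≠ x • n - n) : Cfsg.IsSpecialRankOnePair A B := by
  obtain ⟨hgen, hr⟩ := h
  let ρ : X →* AddMonoid.End N := DistribMulAction.toAddMonoidEnd X N
  have hρ : ∀ (x : X) (n : N), ρ x n = x • n := fun _ _ => rfl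
  have qA : ∀ a ∈ A, ∀ a' ∈ A, (ρ a' - 1) * (ρ a - 1) = 0 := by
    intro a ha a' ha'
    ext n
    show a' • (a • n - n) - (a • n - n) = 0
    rw [hq a ha a' ha' n, sub_self]
  obtain ⟨g, -, hg⟩ := H98.right_mem_unipotent hr
  have qB : ∀ a ∈ B, ∀ a' ∈ B, (ρ a' - 1) * (ρ a - 1) = 0 := by
    intro b hb b' hb'
    rw [hg, H98.mem_conjBy] at hb hb'
    have hone : ρ g⁻¹ * ρ g = 1 := by rw [← map_mul, inv_mul_cancel, map_one]
    have hone' : ρ g * ρ g⁻¹ = 1 := by rw [← map_mul, mul_inv_cancel, map_one]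
    have e : ∀ c : X, ρ c - 1 = ρ g * (ρ (g⁻¹ * c * g) - 1) * ρ g⁻¹ := by
      intro c
      rw [mul_sub, sub_mul, mul_one, hone', ← map_mul, ← map_mul]
      congr 2; group
    rw [e b, e b']
    calc _ = ρ g * (ρ (g⁻¹ * b' * g) - 1) * (ρ g⁻¹ * ρ g) * (ρ (g⁻¹ * b * g) - 1) * ρ g⁻¹ := by
          noncomm_ring
      _ = ρ g * ((ρ (g⁻¹ * b' * g) - 1) * (ρ (g⁻¹ * b * g) - 1)) * ρ g⁻¹ := by
          rw [hone]; noncomm_ring
      _ = 0 := by rw [qA _ hb _ hb']; simp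
  have hkerA : ρ.ker ≤ Subgroup.center X := by
    rcases H98.normal_sup_eq_top_or_le_center (A := A) (B := B) ⟨hgen, hr⟩ ρ.ker with ht | ht
    · exfalso
      obtain ⟨x, y, n, hne⟩ := hX
      apply hne
      have hall : ∀ x : X, ∃ a ∈ A, ∀ n : N, x • n = a • n := by
        intro x
        have hx : x ∈ ρ.ker ⊔ A := by rw [ht]; trivial
        rw [← SetLike.mem_coe, Subgroup.normal_mul] at hx
        obtain ⟨k, hk, a, ha, rfl⟩ := hx
        refine ⟨a, ha, fun n => ?_⟩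
        show (k * a) • n = a • n
        rw [← hρ, map_mul, MonoidHom.mem_ker.1 hk, one_mul, hρ]
      obtain ⟨a, ha, hxa⟩ := hall x
      obtain ⟨a', ha', hya⟩ := hall y
      rw [hxa n, hya]
      exact hq a ha a' ha' n
    · exact ht
  have main : ∀ {A B : Subgroup X},
      (∀ a ∈ A, ∀ a' ∈ A, (ρ a' - 1) * (ρ a - 1) = 0) →
      (∀ a ∈ B, ∀ a' ∈ B, (ρ a' - 1) * (ρ a - 1) = 0) →
      ∀ {a b : X}, H98.Rel A B a b →
        b * a⁻¹ * b * a * b⁻¹ ∈ A ∧
        ρ (b * a⁻¹ * b * a * b⁻¹) - 1 = (ρ b - 1) -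
          (ρ a - 1) * (ρ b - 1) * (ρ a - 1) - (ρ b - 1) * (ρ a - 1) * (ρ b - 1) ∧
        ∀ a' ∈ A,
          (ρ a' - 1) * ((ρ b - 1) - (ρ b - 1) * (ρ a - 1) * (ρ b - 1)) = 0 ∧
          ((ρ b - 1) - (ρ b - 1) * (ρ a - 1) * (ρ b - 1)) * (ρ a' - 1) = 0 := by
    intro A B qA qB a b r
    have hmem : b * a⁻¹ * b * a * b⁻¹ ∈ A := by
      have h1 : a⁻¹ * b * a ∈ conjBy B a⁻¹ := by simpa using H98.conj_mem_conjBy a⁻¹ r.2.2.1
      rw [← r.2.2.2.2, H98.mem_conjBy, inv_inv] at h1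
      simpa [mul_assoc] using h1
    have hinv : ρ a⁻¹ = 1 - (ρ a - 1) := by
      have h1 := qA a r.1 a⁻¹ (A.inv_mem r.1)
      have h2 : ρ a⁻¹ * ρ a = 1 := by rw [← map_mul, inv_mul_cancel, map_one]
      have h3 : (ρ a⁻¹ - 1) * (ρ a - 1) = ρ a⁻¹ * ρ a - ρ a⁻¹ - ρ a + 1 := by noncomm_ring
      rw [h3, h2] at h1
      calc ρ a⁻¹ = 1 - (ρ a - 1) - (1 - ρ a⁻¹ - ρ a + 1) := by abel
        _ = _ := by rw [h1, sub_zero]
    have hmul : ρ (b * a⁻¹ * b * a * b⁻¹) * ρ b = ρ b * ρ a⁻¹ * ρ b * ρ a := by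
      simp only [← map_mul]; congr 1; group
    rw [hinv] at hmul
    have key := H98.quad_ring_key (qA a r.1 a r.1) (qB b r.2.2.1 b r.2.2.1)
      (qA a r.1 _ hmem) (qA _ hmem a r.1) (by simp only [add_sub_cancel]; exact hmul)
    exact ⟨hmem, key, fun a' ha' => H98.quad_ring_kill key (qA a r.1 a' ha') (qA a' ha' a r.1)
      (qA _ hmem a' ha') (qA a' ha' _ hmem)⟩
  refine ⟨hr, fun a ha ha1 b hb hb1 hrel => ?_⟩
  have r : H98.Rel A B a b := ⟨ha, ha1, hb, hb1, hrel⟩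
  obtain ⟨hmem, key, kill⟩ := main qA qB r
  obtain ⟨-, -, kill'⟩ := main qB qA r.swap
  obtain ⟨c, hc⟩ : ∃ c, c = ρ a - 1 := ⟨_, rfl⟩
  obtain ⟨d, hd⟩ : ∃ d, d = ρ b - 1 := ⟨_, rfl⟩
  rw [← hc, ← hd] at key kill kill'
  have hz : ρ (a * (b * a⁻¹ * b * a * b⁻¹)) = 1 + ((c - c * d * c) + (d - d * c * d)) := by
    have h0 := qA (b * a⁻¹ * b * a * b⁻¹) hmem a ha
    rw [← hc] at h0
    calc ρ (a * (b * a⁻¹ * b * a * b⁻¹))
        = 1 + c + (ρ (b * a⁻¹ * b * a * b⁻¹) - 1) + c * (ρ (b * a⁻¹ * b * a * b⁻¹) - 1) := by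
          rw [map_mul, hc]; noncomm_ring
      _ = _ := by rw [h0, key]; abel
  obtain ⟨f, hf⟩ : ∃ f, f = (c - c * d * c) + (d - d * c * d) := ⟨_, rfl⟩
  rw [← hf] at hz
  have hkill : ∀ y : X, y ∈ A ∨ y ∈ B → (ρ y - 1) * f = 0 ∧ f * (ρ y - 1) = 0 := by
    intro y hy
    rcases hy with hy | hy
    · obtain ⟨h1, h2⟩ := kill y hy
      have h3 := qA a ha y hy
      have h4 := qA y hy a ha
      rw [← hc] at h3 h4
      rw [hf]
      constructor
      · rw [mul_add, h1, add_zero, mul_sub, h3, ← mul_assoc, ← mul_assoc, h3]; simp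
      · rw [add_mul, h2, add_zero, sub_mul, h4, mul_assoc, h4]; simp
    · obtain ⟨h1, h2⟩ := kill' y hy
      have h3 := qB b hb y hy
      have h4 := qB y hy b hb
      rw [← hd] at h3 h4
      rw [hf]
      constructor
      · rw [mul_add, h1, zero_add, mul_sub, h3, ← mul_assoc, ← mul_assoc, h3]; simp
      · rw [add_mul, h2, zero_add, sub_mul, h4, mul_assoc, h4]; simp
  generalize hzdef : a * (b * a⁻¹ * b * a * b⁻¹) = z at hz
  have hcom1 : ∀ y : X, y ∈ A ∨ y ∈ B → Commute (ρ z) (ρ y) := by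
    intro y hy
    obtain ⟨h1, h2⟩ := hkill y hy
    show ρ z * ρ y = ρ y * ρ z
    rw [hz]
    calc (1 + f) * ρ y = ρ y + f + f * (ρ y - 1) := by noncomm_ring
      _ = ρ y + f + (ρ y - 1) * f := by rw [h1, h2]
      _ = ρ y * (1 + f) := by noncomm_ring
  have hcom : ∀ x : X, Commute (ρ z) (ρ x) := by
    intro x
    have hx : x ∈ Subgroup.closure ((A : Set X) ∪ (B : Set X)) := by
      rw [← Subgroup.sup_eq_closure, hgen]; trivial
    induction hx using Subgroup.closure_induction'' with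
    | mem y hy => exact hcom1 y hy
    | inv_mem y hy => exact hcom1 y⁻¹ (hy.imp A.inv_mem B.inv_mem)
    | one => rw [map_one]; exact Commute.one_right _
    | mul y w _ _ iy iw => rw [map_mul]; exact iy.mul_right iw
  have hz2 : z ∈ Subgroup.upperCentralSeries X 2 := by
    rw [show (2 : ℕ) = 1 + 1 from rfl, Subgroup.mem_upperCentralSeries_succ_iff]
    intro x
    rw [Subgroup.upperCentralSeries_one]
    apply hkerA
    have h1 : ρ (z * x) = ρ (x * z) := by rw [map_mul, map_mul]; exact hcom x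
    show ρ _ = 1
    rw [commutatorElement_def, map_mul, map_mul, h1, ← map_mul, ← map_mul,
      show x * z * z⁻¹ * x⁻¹ = 1 by group, map_one]
  rw [(Cfsg.Agent.S5018.result (A := A) (B := B) ⟨hgen, hr⟩).1] at hz2
  have hzA : z ∈ A := by rw [← hzdef]; exact A.mul_mem ha hmem
  have hz1 : z = 1 := (Subgroup.eq_bot_iff_forall _).1 (H98.inf_center_eq_bot hr) z ⟨hzA, hz2⟩
  rw [← hzdef] at hz1
  calc b⁻¹ * a * b = b⁻¹ * (a * (b * a⁻¹ * b * a * b⁻¹)) * (b * a⁻¹ * b⁻¹ * a) := by group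
    _ = a⁻¹ * b⁻¹ * a := by rw [hz1]; group

end Cfsg.Agent.S5019
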