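import Cfsg.Statements.S5020
import Cfsg.Agent.H98.SpecialPerfect

set_option autoImplicit false
open Cfsg

namespace Cfsg.Agent.S5020

/-- Let X be a special rank one group with abelian unipotent subgroups A and B, and H = N(A) ∩ N(B) its diagonal subgroup. Then either A has at most three elements and X is isomorphic to SL₂(2), SL₂(3) or PSL₂(3); or X = X' A with the commutator subgroup X' quasisimple and the commutator subgroup ⁅A, H⁆ having more than three elements. -/
theorem result {X : Type*} [Group X] {A B : Subgroup X} (h : Cfsg.IsRankOneGroup X A B)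
    (hs : Cfsg.IsSpecialRankOnePair A B) (hab : Cfsg.HasAbelianUnipotents A B) :
    (ENat.card A ≤ 3 ∧ (Nonempty (X ≃* Matrix.SpecialLinearGroup (Fin 2) (ZMod 2)) ∨
        Nonempty (X ≃* Matrix.SpecialLinearGroup (Fin 2) (ZMod 3)) ∨
        Nonempty (X ≃* Matrix.ProjectiveSpecialLinearGroup (Fin 2) (ZMod 3)))) ∨
    (commutator X ⊔ A = ⊤ ∧ Cfsg.IsQuasisimple (commutator X) ∧
      3 < ENat.card ↥(⁅A, Cfsg.rankOneDiagonal A B⁆ : Subgroup X)) := by
  rcases le_or_gt (ENat.card A) 3 with hle | hgt
  · exact Or.inl ⟨hle, H98.small_rank_one_group h hs hab hle⟩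
  · right
    have htop : commutator X = ⊤ := by
      rw [eq_top_iff, commutator_def]
      have := H98.sup_le_commutator hs hab hgt
      rwa [h.1] at this
    refine ⟨by rw [htop, top_sup_eq], ?_, by rw [H98.commutator_diagonal_eq hs hab hgt]; exact hgt⟩
    rw [htop]
    haveI hP : Group.IsPerfect X := ⟨htop⟩
    exact H68.isQuasisimple_of_equiv Subgroup.topEquiv.symm
      ((Cfsg.Agent.S5017.result h).2 hP)
end Cfsg.Agent.S5020
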