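import Cfsg.Statements.S5023
import Cfsg.Agent.H98.Special

set_option autoImplicit false
open Cfsg

namespace Cfsg.Agent.S5023

/-- Let X be a rank one group with unipotent subgroups A and B that acts faithfully on an abelian group V (written additively) with A acting quadratically: a' • (a • v − v) = a • v − v for all a, a' in A and v in V. Then A is either torsion-free or an elementary abelian p-group for some prime p. -/
theorem result {X : Type*} [Group X] {A B : Subgroup X} (h : Cfsg.IsRankOneGroup X A B)
    {V : Type*} [AddCommGroup V] [DistribMulAction X V] (hf : ∀ x : X, (∀ v : V, x • v = v) → x = 1)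
    (hq : ∀ a ∈ A, ∀ a' ∈ A, ∀ v : V, a' • (a • v - v) = a • v - v) :
    (∀ a ∈ A, a ≠ 1 → ¬ IsOfFinOrder a) ∨ ∃ p : ℕ, p.Prime ∧ Cfsg.IsElementaryAbelian p A := by
  have hcomm : IsMulCommutative A := by
    refine ⟨⟨fun a b => ?_⟩⟩
    apply Subtype.ext
    rw [Subgroup.coe_mul, Subgroup.coe_mul]
    have key : ∀ a ∈ A, ∀ a' ∈ A, ∀ v : V, (a' * a) • v = (a • v - v) + (a' • v - v) + v := by
      intro a ha a' ha' v
      have := hq a ha a' ha' v
      rw [smul_sub, sub_eq_iff_eq_add] at this
      rw [mul_smul, this]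
      abel
    have h1 : ((b : X) * a)⁻¹ * (a * b) = 1 := by
      apply hf
      intro v
      have e : ((a : X) * b) • v = ((b : X) * a) • v := by
        rw [key _ b.2 _ a.2, key _ a.2 _ b.2]; abel
      rw [mul_smul, e, inv_smul_smul]
    exact (inv_mul_eq_one.1 h1).symm
  by_cases htf : ∀ a ∈ A, a ≠ 1 → ¬ IsOfFinOrder a
  · exact Or.inl htf
  · push Not at htf
    obtain ⟨a₀, ha₀, ha₀1, hfin⟩ := htf
    obtain ⟨p, hp, a, ha, ha1, hap⟩ := H98.exists_prime_orderOf ha₀ ha₀1 hfin
    refine Or.inr ⟨p, hp, hcomm, fun x hx => ?_⟩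
    obtain ⟨g, -, hg⟩ := H98.right_mem_unipotent h.2
    have hDpow : ∀ c ∈ A, ∀ (n : ℕ) (v : V), (c ^ n) • v = n • (c • v - v) + v := by
      intro c hc n
      induction n with
      | zero => intro v; simp
      | succ n ih =>
        intro v
        rw [pow_succ', mul_smul, ih v, smul_add, smul_comm c n (c • v - v),
          hq c hc c hc v, succ_nsmul]
        abel
    have hpa : ∀ v : V, p • (a • v - v) = 0 := by
      intro v
      have := hDpow a ha p v
      rw [hap, one_smul] at this
      exact left_eq_add.1 (by rw [add_comm]; exact this)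
    have hb : g * a * g⁻¹ ∈ B := by rw [hg]; exact H98.conj_mem_conjBy g ha
    have hb1 : g * a * g⁻¹ ≠ 1 := fun e => ha1 (conj_eq_one_iff.1 e)
    refine H98.eq_one_of_commute h.2 (A.pow_mem hx p) hb hb1 ?_
    have hpb : ∀ v : V, p • ((g * a * g⁻¹) • v - v) = 0 := by
      intro v
      have e : (g * a * g⁻¹) • v - v = g • (a • (g⁻¹ • v) - g⁻¹ • v) := by
        rw [smul_sub, smul_inv_smul, mul_smul, mul_smul]
      rw [e, smul_comm, hpa, smul_zero]
    have hDx : ∀ u w : V, x • (u + w) - (u + w) = (x • u - u) + (x • w - w) := by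
      intro u w; rw [smul_add]; abel
    generalize g * a * g⁻¹ = b at hpb ⊢
    have hker : (x ^ p * b)⁻¹ * (b * x ^ p) = 1 := by
      apply hf
      intro v
      have e : (b * x ^ p) • v = (x ^ p * b) • v := by
        rw [mul_smul, mul_smul, hDpow x hx, hDpow x hx]
        have h1 : b • (p • (x • v - v)) = p • (x • v - v) := by
          rw [← sub_eq_zero, smul_comm, ← smul_sub]
          exact hpb _
        have h2 : x • (b • v) - b • v = (x • (b • v - v) - (b • v - v)) + (x • v - v) := by
          conv_lhs => rw [show b • v = (b • v - v) + v by abel]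
          exact hDx _ _
        have h3 : p • (x • (b • v - v) - (b • v - v)) = 0 := by
          rw [smul_sub, smul_comm p x, hpb, smul_zero, sub_zero]
        rw [smul_add, h1, h2, smul_add, h3, zero_add]
      rw [mul_smul, e, inv_smul_smul]
    exact inv_mul_eq_one.1 hker

end Cfsg.Agent.S5023
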