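import Cfsg.Statements.S5024
import Cfsg.Agent.H98.Components

set_option autoImplicit false
open Cfsg

namespace Cfsg.Agent.S5024

/-- Let S be a set of abstract root subgroups of G, A and C members of S, B a rank one partner of A in S and D a rank one partner of C in S. If the rank one group ⟨A, B⟩ is contained in ⟨C, D⟩ then the two coincide, and C and D are conjugates of A inside ⟨A, B⟩. -/
theorem result {G : Type*} [Group G] {S : Set (Subgroup G)} (hS : Cfsg.IsRootSubgroupSet S)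
    {A B C D : Subgroup G} (hA : A ∈ S) (hC : C ∈ S) (hB : B ∈ Cfsg.rankOnePartners S A) (hD : D ∈ Cfsg.rankOnePartners S C)
    (hle : A ⊔ B ≤ C ⊔ D) : A ⊔ B = C ⊔ D ∧ C ∈ Cfsg.unipotentSubgroups A B ∧ D ∈ Cfsg.unipotentSubgroups A B := by
  have hrY := hD.2
  have hrX := hB.2
  obtain ⟨a, ha, ha1⟩ := H98.exists_mem_ne_one (hS.ne_bot A hA)
  obtain ⟨b, hb, hb1⟩ := H98.exists_mem_ne_one (hS.ne_bot B hB.1)
  have key : ∀ {P Q : Subgroup G}, P ∈ S → P ⊔ Q ≤ C ⊔ D → (∀ p ∈ P, p ≠ 1 →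
      ∃ q ∈ Q, ¬ Commute p q) → P ∈ unipotentSubgroups C D := by
    intro P Q hP hPQ hnc
    rcases H98.mem_unipotent_or_centralizer hS hC hP hrY (le_sup_left.trans hPQ) with h | h
    · exact h
    · obtain ⟨p, hp, hp1⟩ := H98.exists_mem_ne_one (hS.ne_bot P hP)
      obtain ⟨q, hq, hne⟩ := hnc p hp hp1
      exact absurd (h hp q (hPQ (Subgroup.mem_sup_right hq))).symm hne
  have hAm : A ∈ unipotentSubgroups C D := key (Q := B) hA hle fun p hp hp1 =>
    ⟨b, hb, fun e => hp1 (H98.eq_one_of_commute hrX hp hb hb1 e)⟩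
  have hBm : B ∈ unipotentSubgroups C D := key (Q := A) hB.1 (by rwa [sup_comm]) fun p hp hp1 =>
    ⟨a, ha, fun e => hp1 (H98.eq_one_of_commute (RankOnePair_symm hrX) hp ha ha1 e)⟩
  have heq : A ⊔ B = C ⊔ D := H98.sup_eq_of_unipotent hrY hAm hBm hrX.ne
  have hconj : ∀ P ∈ unipotentSubgroups C D, P ∈ unipotentSubgroups A B := by
    rintro P ⟨x, hx, rfl⟩
    obtain ⟨y, hy, hyA⟩ := hAm
    refine ⟨x * y⁻¹, Subgroup.mul_mem _ (by rw [heq]; exact hx)
      (by rw [heq]; exact Subgroup.inv_mem _ hy), ?_⟩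
    rw [hyA, H98.conjBy_conjBy]
    congr 1; group
  exact ⟨heq, hconj C (H98.left_mem_unipotent hrY), hconj D (H98.right_mem_unipotent hrY)⟩

end Cfsg.Agent.S5024
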