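import Cfsg.Statements.S5027
import Cfsg.Agent.H98.Components

set_option autoImplicit false
open Cfsg

namespace Cfsg.Agent.S5027

/-- Let S be a set of abstract root subgroups of G such that every member of S has a rank one partner in S (the graph of rank one pairs on S has no isolated vertex). Then the second centre of G equals its centre. -/
theorem result {G : Type*} [Group G] {S : Set (Subgroup G)} (hS : Cfsg.IsRootSubgroupSet S)
    (hF : ∀ A ∈ S, ¬ Cfsg.IsIsolatedIn (Cfsg.FAdj S) S A) : Subgroup.upperCentralSeries G 2 = Subgroup.center G := by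
  refine le_antisymm (fun z hz => ?_) ?_
  · rw [show (2 : ℕ) = 1 + 1 from rfl, Subgroup.mem_upperCentralSeries_succ_iff] at hz
    simp only [Subgroup.upperCentralSeries_one] at hz
    have hle : (⨆ A ∈ S, A) ≤ Subgroup.centralizer {z} := by
      refine iSup₂_le fun A hA a ha => ?_
      rw [Subgroup.mem_centralizer_singleton_iff]
      by_cases ha1 : a = 1
      · simp [ha1]
      obtain ⟨B, hB, hr⟩ := H98.exists_partner_of_not_isolated hA (hF A hA)
      by_contra hne
      have hcent := hz a
      rw [commutatorElement_def] at hcent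
      have hc1 : z * a * z⁻¹ * a⁻¹ ≠ 1 := fun e =>
        hne (mul_inv_eq_iff_eq_mul.1 (mul_inv_eq_one.1 e)).symm
      refine H98.not_rootElement_mul hS hB hr
        (Subgroup.center_le_centralizer _ hcent) hc1 ha ha1 ?_
      rw [show z * a * z⁻¹ * a⁻¹ * a = z * a * z⁻¹ by group]
      exact ⟨fun e => ha1 (conj_eq_one_iff.1 e), conjBy A z, hS.conj_mem A hA z,
        H98.conj_mem_conjBy z ha⟩
    rw [hS.generates] at hle
    exact Subgroup.mem_center_iff.2 fun g => Subgroup.mem_centralizer_singleton_iff.1 (hle trivial)
  · rw [← Subgroup.upperCentralSeries_one]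
    exact Subgroup.upperCentralSeries_mono G (by norm_num)

end Cfsg.Agent.S5027
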