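import Cfsg.Statements.S5031
import Cfsg.Agent.H98.Components

set_option autoImplicit false
open Cfsg

namespace Cfsg.Agent.S5031

/-- Let S be a set of abstract root subgroups of G and let A, B ∈ S lie in different connected components of the graph of rank one pairs on S, each component having more than one member. Then B is not a line partner of A. -/
theorem result {G : Type*} [Group G] {S : Set (Subgroup G)} (hS : Cfsg.IsRootSubgroupSet S)
    {A B : Subgroup G} (hA : A ∈ S) (hB : B ∈ S)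
    (hne : Cfsg.componentOf (Cfsg.FAdj S) S A ≠ Cfsg.componentOf (Cfsg.FAdj S) S B)
    (hA2 : ∃ A' ∈ Cfsg.componentOf (Cfsg.FAdj S) S A, A' ≠ A) (hB2 : ∃ B' ∈ Cfsg.componentOf (Cfsg.FAdj S) S B, B' ≠ B) :
    B ∉ Cfsg.linePartners S A := by
  intro hline
  obtain ⟨⟨-, hBA, hcom⟩, -, hcov, -⟩ := hline
  have comp : ∀ {X Y : Subgroup G}, (∃ Y' ∈ componentOf (FAdj S) S X, Y' ≠ X) →
      ∃ D, FAdj S X D := by
    rintro X - ⟨Y', ⟨-, hY'⟩, hne⟩
    rcases hY'.cases_head with h | ⟨D, hD, -⟩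
    · exact absurd h.symm hne
    · exact ⟨D, hD⟩
  obtain ⟨D, hD⟩ := comp (Y := A) hA2
  obtain ⟨D', hD'⟩ := comp (Y := A) hB2
  obtain ⟨a, ha, ha1⟩ := H98.exists_mem_ne_one (hS.ne_bot A hA)
  obtain ⟨b, hb, hb1⟩ := H98.exists_mem_ne_one (hS.ne_bot B hB)
  have hab : ∀ x ∈ A, ∀ y ∈ B, Commute x y := fun x hx y hy =>
    H98.commute_of_commutator_eq_bot hcom hx hy
  have hne' : ¬ Relation.ReflTransGen (FAdj S) A B := by
    intro hAB
    apply hne
    ext E
    exact ⟨fun h => ⟨h.1, (H98.reflTransGen_symm hAB).trans h.2⟩,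
      fun h => ⟨h.1, hAB.trans h.2⟩⟩
  have hab1 : a * b ≠ 1 := by
    intro e
    obtain ⟨d, hd, hd1⟩ := H98.exists_mem_ne_one (hS.ne_bot D hD.2.1)
    have hn : ¬ IsRankOnePair B D := fun h =>
      hne' ((Relation.ReflTransGen.single hD).tail ⟨hD.2.1, hB, RankOnePair_symm h⟩)
    rw [mul_eq_one_iff_eq_inv] at e
    subst e
    exact H98.not_commute_conj hD.2.2 ha ha1 hd hd1
      (H98.conj_commute_of_not_rankOne hS hB hD.2.1 hn (B.inv_mem hb) hd hd)
  obtain ⟨E, ⟨hE, -⟩, hEab⟩ := hcov (a * b)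
    (Subgroup.mul_mem _ (Subgroup.mem_sup_left ha) (Subgroup.mem_sup_right hb)) hab1
  have key : ∀ {A B D : Subgroup G} {a b : G}, B ∈ S → FAdj S A D → a ∈ A → a ≠ 1 → b ∈ B →
      (∀ x ∈ A, ∀ y ∈ B, Commute x y) → ¬ Relation.ReflTransGen (FAdj S) A B → a * b ∈ E →
      Relation.ReflTransGen (FAdj S) A E := by
    intro A B D a b hB hD ha ha1 hb hab hne' hEab
    by_contra hne2
    have hn : ¬ IsRankOnePair B D := fun h =>
      hne' ((Relation.ReflTransGen.single hD).tail ⟨hD.2.1, hB, RankOnePair_symm h⟩)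
    have hn2 : ¬ IsRankOnePair E D := fun h =>
      hne2 ((Relation.ReflTransGen.single hD).tail ⟨hD.2.1, hE, RankOnePair_symm h⟩)
    exact H98.line_lemma hS hD.2.1 hD.2.2 ha ha1 (fun x hx => (hab x hx b hb).symm)
      (fun u hu v hv => H98.conj_commute_of_not_rankOne hS hB hD.2.1 hn hb hu hv)
      (fun u hu v hv => H98.conj_commute_of_not_rankOne hS hE hD.2.1 hn2 hEab hu hv)
  have h1 := key hB hD ha ha1 hb hab hne' hEab
  have h2 := key (A := B) (B := A) hA hD' hb hb1 ha (fun x hx y hy => (hab y hy x hx).symm)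
    (fun h => hne' (H98.reflTransGen_symm h)) (by rw [← (hab a ha b hb).eq]; exact hEab)
  exact hne' (h1.trans (H98.reflTransGen_symm h2))

end Cfsg.Agent.S5031
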