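import Cfsg.Statements.S5033
import Cfsg.Agent.H98.Criterion
import Cfsg.Agent.S5032

set_option autoImplicit false
open Cfsg

namespace Cfsg.Agent.S5033

/-- Quasisimplicity criterion for groups generated by abstract root subgroups. Let S be a set of abstract root subgroups of G with more than one member such that: the graph of rank one pairs on S is connected; no two different members of S have the same set of commuting members of S; if S is degenerate then every member of S has more than three elements; and every rank one pair in S is special. Then for every A ∈ S one has G = G' A with A ∩ G' ≠ 1, and the commutator subgroup G' is quasisimple. Moreover G is perfect if S is non-degenerate, or if some rank one pair A, B in S generates a perfect group. -/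
theorem result {G : Type*} [Group G] {S : Set (Subgroup G)} (hS : Cfsg.IsRootSubgroupSet S) (h2 : ∃ A ∈ S, ∃ B ∈ S, A ≠ B)
    (h1 : Cfsg.IsConnectedFamily (Cfsg.FAdj S) S)
    (h2' : ∀ A ∈ S, ∀ C ∈ S, A ≠ C → Cfsg.centralizingMembers S A ≠ Cfsg.centralizingMembers S C)
    (h3 : Cfsg.IsDegenerateRootSet S → ∀ A ∈ S, 3 < ENat.card A)
    (h4 : ∀ A ∈ S, ∀ B ∈ Cfsg.rankOnePartners S A, Cfsg.IsSpecialRankOnePair A B) :
    (∀ A ∈ S, commutator G ⊔ A = ⊤ ∧ A ⊓ commutator G ≠ ⊥) ∧ Cfsg.IsQuasisimple ↥(commutator G) ∧
    (Cfsg.IsNondegenerateRootSet S → commutator G = ⊤) ∧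
    ((∃ A ∈ S, ∃ B ∈ Cfsg.rankOnePartners S A, Group.IsPerfect ↥(A ⊔ B)) → commutator G = ⊤) := by
  obtain ⟨hconj, A₀, hA₀, hiso⟩ := (Cfsg.Agent.S5032.result hS h2).1 h1
  have hF : ∀ A ∈ S, ∃ B ∈ S, Cfsg.IsRankOnePair A B := by
    intro A hA
    obtain ⟨g, rfl⟩ := hconj.2 A₀ hA₀ A hA
    exact H98.exists_partner_of_not_isolated hA (H98.not_isolated_conj hS g hA₀ hiso)
  have htop := H98.isPerfect_of_criterion hS hconj hF h3 h4
  refine ⟨fun A hA => ?_, ?_, fun _ => htop, fun _ => htop⟩
  · rw [htop, top_sup_eq, inf_top_eq]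
    exact ⟨rfl, hS.ne_bot A hA⟩
  · rw [htop]
    haveI hP : Group.IsPerfect G := ⟨htop⟩
    apply H68.isQuasisimple_of_equiv Subgroup.topEquiv.symm
    refine ⟨hP, ?_⟩
    have hsurj := QuotientGroup.mk'_surjective (Subgroup.center G)
    haveI : Nontrivial (G ⧸ Subgroup.center G) := by
      rw [QuotientGroup.nontrivial_iff]
      intro e
      obtain ⟨B, hB, hr⟩ := hF A₀ hA₀
      refine H98.commutator_ne_bot_of_rankOne hS hA₀ hB hr ?_
      rw [Subgroup.commutator_eq_bot_iff_le_centralizer]
      intro a _
      rw [Subgroup.mem_centralizer_iff]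
      intro b _
      exact Subgroup.mem_center_iff.1 (by rw [e]; trivial) b
    refine ⟨fun M hM => ?_⟩
    haveI := hM.comap (QuotientGroup.mk' (Subgroup.center G))
    rcases H98.normal_le_center_or_eq_top (N := M.comap (QuotientGroup.mk' (Subgroup.center G)))
      hS hconj hF h2' h3 h4 with h | h
    · left
      rw [← Subgroup.map_comap_eq_self_of_surjective hsurj M, Subgroup.map_eq_bot_iff,
        QuotientGroup.ker_mk']
      exact h
    · right
      rw [← Subgroup.map_comap_eq_self_of_surjective hsurj M, h,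
        Subgroup.map_top_of_surjective _ hsurj]
end Cfsg.Agent.S5033
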