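import Cfsg.Statements.S5035
import Cfsg.Agent.H98.Components

set_option autoImplicit false
open Cfsg

namespace Cfsg.Agent.S5035

/-- Let S be a set of abstract root subgroups of G whose graph of rank one pairs is connected, and f a homomorphism from G onto a group H. Then either the images of the members of S form a set of abstract root subgroups of H whose graph of rank one pairs is again connected, or H equals the image of a member of S. -/
theorem result {G H : Type*} [Group G] [Group H] {S : Set (Subgroup G)} (hS : Cfsg.IsRootSubgroupSet S)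
    (hc : Cfsg.IsConnectedFamily (Cfsg.FAdj S) S) (f : G →* H) (hf : Function.Surjective f) :
    (Cfsg.IsRootSubgroupSet ((fun A : Subgroup G => A.map f) '' S) ∧
      Cfsg.IsConnectedFamily (Cfsg.FAdj ((fun A : Subgroup G => A.map f) '' S)) ((fun A : Subgroup G => A.map f) '' S)) ∨
    ∃ A ∈ S, A.map f = ⊤ := by
  classical
  by_cases hbot : ∃ A ∈ S, A.map f = ⊥
  · obtain ⟨A, hA, hAf⟩ := hbot
    refine Or.inr ⟨A, hA, ?_⟩
    have hall : ∀ B ∈ S, B.map f = ⊥ := by
      intro B hB
      obtain ⟨g, rfl⟩ := H98.exists_conj_of_reflTransGen hS (hc A hA B hB)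
      rw [Subgroup.map_eq_bot_iff] at hAf ⊢
      intro x hx
      rw [H98.mem_conjBy] at hx
      have := (MonoidHom.normal_ker f).conj_mem _ (hAf hx) g
      simpa [mul_assoc] using this
    have htop : (⊤ : Subgroup H) = ⊥ := by
      have := congrArg (Subgroup.map f) hS.generates
      rw [Subgroup.map_top_of_surjective _ hf] at this
      simp only [Subgroup.map_iSup] at this
      rw [← this]
      simp only [iSup_eq_bot]
      exact fun B hB => hall B hB
    rw [hAf, htop]
  push Not at hbot
  refine Or.inl ?_
  have mapconj : ∀ (A : Subgroup G) (g : G), (conjBy A g).map f = conjBy (A.map f) (f g) := by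
    intro A g
    rw [conjBy, conjBy, Subgroup.map_map, Subgroup.map_map]
    congr 1
    ext x
    simp
  have hpair : ∀ {A B : Subgroup G}, A ∈ S → IsRankOnePair A B → A.map f ≠ B.map f →
      RankOneCondition (A.map f) (B.map f) := by
    intro A B hA hr hne x hx hx1
    obtain ⟨a, ha, rfl⟩ := hx
    obtain ⟨b, hb, -, he⟩ := hr.cond_left a ha (fun e => hx1 (by rw [e, map_one]))
    have he' := congrArg (Subgroup.map f) he
    rw [mapconj, mapconj, map_inv, map_inv] at he'
    refine ⟨f b, Subgroup.mem_map_of_mem f hb, fun e => hne ?_, he'⟩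
    rw [e, inv_one, H98.conjBy_one] at he'
    have hAf : conjBy (A.map f) (f a) = A.map f := H98.conjBy_self (Subgroup.mem_map_of_mem f ha)
    rw [← hAf, he', H98.conjBy_conjBy, mul_inv_cancel, H98.conjBy_one]
  refine ⟨⟨?_, ?_, ?_, ?_, ?_⟩, ?_⟩
  · rintro _ ⟨A, hA, rfl⟩
    haveI := hS.commutative A hA
    exact Subgroup.map_isMulCommutative A f
  · rintro _ ⟨A, hA, rfl⟩
    exact hbot A hA
  · rw [iSup_image, ← Subgroup.map_top_of_surjective f hf, ← hS.generates]
    simp only [Subgroup.map_iSup]
  · rintro _ ⟨A, hA, rfl⟩ h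
    obtain ⟨g, rfl⟩ := hf h
    exact ⟨conjBy A g, hS.conj_mem A hA g, mapconj A g⟩
  · rintro _ ⟨A, hA, rfl⟩ _ ⟨B, hB, rfl⟩
    rcases hS.pair A hA B hB with h | h | h
    · left
      rw [← Subgroup.map_commutator, h, Subgroup.map_bot]
    · by_cases he : A.map f = B.map f
      · left
        haveI := hS.commutative A hA
        haveI := Subgroup.map_isMulCommutative A f
        simp only [← he]
        rw [Subgroup.commutator_eq_bot_iff_le_centralizer]
        exact Subgroup.le_centralizer _
      · haveI := h.nilpotent_left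
        haveI := h.nilpotent_right
        refine Or.inr (Or.inl ⟨he, ?_, ?_, hpair hA h he,
          hpair hB (RankOnePair_symm h) (Ne.symm he)⟩)
        · exact Group.nilpotent_of_surjective (f.subgroupMap A) (f.subgroupMap_surjective A)
        · exact Group.nilpotent_of_surjective (f.subgroupMap B) (f.subgroupMap_surjective B)
    · by_cases hb0 : (⁅A, B⁆ : Subgroup G).map f = ⊥
      · left
        rw [← Subgroup.map_commutator, hb0]
      · refine Or.inr (Or.inr ?_)
        obtain ⟨h1, h2, h3, h4⟩ := h
        rw [RootCommutatorCase, ← Subgroup.map_commutator, ← Subgroup.map_sup]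
        refine ⟨⟨_, h1, rfl⟩, ?_, ?_, ?_⟩
        · rintro _ ⟨c, hc, rfl⟩ _ ⟨x, hx, rfl⟩
          rw [← map_mul, ← map_mul, h2 c hc x hx]
        · rintro _ ⟨a, ha, rfl⟩ ha1
          rw [← h3 a ha (fun e => ha1 (by rw [e, map_one])), MonoidHom.map_closure,
            Subgroup.coe_map, Set.image_image, Set.image_image]
          simp
        · rintro _ ⟨b, hb, rfl⟩ hb1
          rw [← h4 b hb (fun e => hb1 (by rw [e, map_one])), MonoidHom.map_closure,
            Subgroup.coe_map, Set.image_image, Set.image_image]
          simp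
  · rintro _ ⟨A, hA, rfl⟩ _ ⟨B, hB, rfl⟩
    induction hc A hA B hB with
    | refl => exact .refl
    | @tail X Y _ hXY ih =>
      have ih' := ih hXY.1
      by_cases he : X.map f = Y.map f
      · dsimp only at ih' ⊢; rw [← he]; exact ih'
      · haveI := hXY.2.2.nilpotent_left
        haveI := hXY.2.2.nilpotent_right
        refine ih'.tail ⟨⟨X, hXY.1, rfl⟩, ⟨Y, hXY.2.1, rfl⟩, he, ?_, ?_,
          hpair hXY.1 hXY.2.2 he, hpair hXY.2.1 (RankOnePair_symm hXY.2.2) (Ne.symm he)⟩
        · exact Group.nilpotent_of_surjective (f.subgroupMap X) (f.subgroupMap_surjective X)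
        · exact Group.nilpotent_of_surjective (f.subgroupMap Y) (f.subgroupMap_surjective Y)

end Cfsg.Agent.S5035
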