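import Cfsg.Statements.S5036
import Cfsg.Agent.H98.CommutatorCase

set_option autoImplicit false
open Cfsg

namespace Cfsg.Agent.S5036

/-- Let S be a set of abstract root subgroups of G, A, B ∈ S with C = ⁅A, B⁆ ∈ S, and D ∈ S with ⁅D, C⁆ = A. Put X = ⟨B, D⟩ and N = AC. Then B, D form a rank one pair; the conjugates of A under X are the conjugates of C under X, namely the conjugates of A by elements of B together with C, equally the conjugates of C by elements of D together with A, and they partition N; and the centralizer of N in X is central in X. -/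
theorem result {G : Type*} [Group G] {S : Set (Subgroup G)} (hS : Cfsg.IsRootSubgroupSet S)
    {A B D : Subgroup G} (hA : A ∈ S) (hB : B ∈ S) (hC : ⁅A, B⁆ ∈ S) (hD : D ∈ S) (hDC : ⁅D, ⁅A, B⁆⁆ = A) :
    Cfsg.IsRankOnePair B D ∧
    {E | ∃ x ∈ B ⊔ D, E = Cfsg.conjBy A x} = {E | ∃ x ∈ B ⊔ D, E = Cfsg.conjBy ⁅A, B⁆ x} ∧
    {E | ∃ x ∈ B ⊔ D, E = Cfsg.conjBy A x} = (fun b : G => Cfsg.conjBy A b) '' (B : Set G) ∪ {⁅A, B⁆} ∧
    {E | ∃ x ∈ B ⊔ D, E = Cfsg.conjBy A x} = (fun d : G => Cfsg.conjBy ⁅A, B⁆ d) '' (D : Set G) ∪ {A} ∧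
    Cfsg.IsSubgroupPartition (A ⊔ ⁅A, B⁆) {E | ∃ x ∈ B ⊔ D, E = Cfsg.conjBy A x} ∧
    ∀ x ∈ (B ⊔ D) ⊓ Subgroup.centralizer ((A ⊔ ⁅A, B⁆ : Subgroup G) : Set G), ∀ y ∈ B ⊔ D, x * y = y * x := by
  have h := H98.rootCommutatorCase_of_commutator_mem hS hA hB hC
  have hcA := H98.commute_commutator_left h
  generalize hCdef : (⁅A, B⁆ : Subgroup G) = C at *
  have h' := H98.rootCommutatorCase_of_commutator_mem hS hD hC (by rw [hDC]; exact hA)
  have hAD : ∀ a ∈ A, ∀ d ∈ D, Commute a d := fun a ha d hd =>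
    h'.2.1 a (by rw [hDC]; exact ha) d (Subgroup.mem_sup_left hd)
  have hCB : ∀ c ∈ C, ∀ b ∈ B, Commute c b := fun c hc b hb =>
    h.2.1 c (by rw [hCdef]; exact hc) b (Subgroup.mem_sup_right hb)
  have hnA : ∀ a ∈ A, (∀ b ∈ B, Commute a b) → a = 1 := by
    intro a ha hc
    by_contra ha1
    refine hS.ne_bot _ hC ?_
    rw [← hCdef, ← h.2.2.1 a ha ha1, Subgroup.closure_eq_bot_iff]
    rintro _ ⟨b, hb, rfl⟩
    show a * b * a⁻¹ * b⁻¹ = 1
    rw [(hc b hb).eq]; group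
  have hnC : ∀ c ∈ C, (∀ d ∈ D, Commute c d) → c = 1 := by
    intro c hc hcd
    by_contra hc1
    refine hS.ne_bot _ hA ?_
    rw [← hDC, ← h'.2.2.2 c hc hc1, Subgroup.closure_eq_bot_iff]
    rintro _ ⟨d, hd, rfl⟩
    show d * c * d⁻¹ * c⁻¹ = 1
    rw [← (hcd d hd).eq]; group
  have hAC : ∀ x, x ∈ A → x ∈ C → x = 1 := fun x hxA hxC =>
    hnA x hxA fun b hb => hCB x hxC b hb
  obtain ⟨N, hN⟩ : ∃ N, N = A ⊔ C := ⟨_, rfl⟩
  rw [← hN]
  have hfixB : ∀ x ∈ N, (∀ b ∈ B, Commute x b) → x ∈ C := by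
    intro x hx hxb
    obtain ⟨a, ha, c, hc, rfl⟩ := H98.mem_sup_of_commute hcA (hN ▸ hx)
    have : a = 1 := hnA a ha fun b hb => by
      have := (hxb b hb).mul_left (hCB c hc b hb).inv_left
      rwa [mul_inv_cancel_right] at this
    rw [this, one_mul]; exact hc
  have hfixD : ∀ x ∈ N, (∀ d ∈ D, Commute x d) → x ∈ A := by
    intro x hx hxd
    obtain ⟨a, ha, c, hc, rfl⟩ := H98.mem_sup_of_commute hcA (hN ▸ hx)
    have : c = 1 := hnC c hc fun d hd => by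
      have := (hAD a ha d hd).inv_left.mul_left (hxd d hd)
      rwa [inv_mul_cancel_left] at this
    rw [this, mul_one]; exact ha
  have hu : ∀ a ∈ A, ∀ b ∈ B, b * a * b⁻¹ * a⁻¹ ∈ C := by
    intro a ha b hb
    rw [← hCdef, Subgroup.commutator_comm]
    exact Subgroup.commutator_mem_commutator hb ha
  have hv : ∀ c ∈ C, ∀ d ∈ D, d * c * d⁻¹ * c⁻¹ ∈ A := by
    intro c hc d hd
    rw [← hDC]
    exact Subgroup.commutator_mem_commutator hd hc
  haveI hNcomm : IsMulCommutative N := by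
    refine ⟨⟨fun x y => Subtype.ext ?_⟩⟩
    obtain ⟨a, ha, c, hc, hx⟩ := H98.mem_sup_of_commute hcA (show (x : G) ∈ A ⊔ C by rw [← hN]; exact x.2)
    obtain ⟨a', ha', c', hc', hy⟩ := H98.mem_sup_of_commute hcA (show (y : G) ∈ A ⊔ C by rw [← hN]; exact y.2)
    show (x : G) * y = y * x
    rw [hx, hy]
    exact ((H98.commute_of_mem hS hA ha ha').mul_right (hcA a ha c' hc')).mul_left
      ((hcA a' ha' c hc).symm.mul_right (H98.commute_of_mem hS hC hc hc')) |>.eq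
  have hr : IsRankOnePair B D := by
    by_contra hn
    obtain ⟨d, hd, hd1⟩ := H98.exists_mem_ne_one (hS.ne_bot D hD)
    obtain ⟨b, hb, hb1⟩ := H98.exists_mem_ne_one (hS.ne_bot B hB)
    obtain ⟨z, hz, hz1⟩ := H98.exists_mem_ne_one (hS.ne_bot C hC)
    have surjB : ∀ c ∈ C, ∃ a ∈ A, b * a * b⁻¹ * a⁻¹ = c := fun c hc =>
      H98.exists_comm_eq (H98.rootCommutatorCase_symm h) hb hb1
        (by rw [Subgroup.commutator_comm, hCdef]; exact hc)
    have surjD : ∀ a ∈ A, ∃ c ∈ C, d * c * d⁻¹ * c⁻¹ = a := fun a ha =>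
      H98.exists_comm_eq h' hd hd1 (by rw [hDC]; exact ha)
    obtain ⟨a₃, ha₃, hc₄⟩ := surjB z hz
    obtain ⟨c₂, hc₂, ea₃⟩ := surjD a₃ ha₃
    obtain ⟨a₁, ha₁, ec₂⟩ := surjB c₂ hc₂
    obtain ⟨c, hc, ea₁⟩ := surjD a₁ ha₁
    rw [mul_inv_eq_iff_eq_mul] at hc₄ ea₃ ec₂ ea₁
    have bfix : ∀ x ∈ C, b * x * b⁻¹ = x := fun x hx => by
      rw [(hCB x hx b hb).symm.eq, mul_inv_cancel_right]
    have dfix : ∀ x ∈ A, d * x * d⁻¹ = x := fun x hx => by
      rw [(hAD x hx d hd).symm.eq, mul_inv_cancel_right]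
    have binv : b⁻¹ * a₁ * b = c₂⁻¹ * a₁ := by
      calc b⁻¹ * a₁ * b = b⁻¹ * (c₂⁻¹ * (b * a₁ * b⁻¹)) * b := by rw [ec₂, inv_mul_cancel_left]
        _ = (b⁻¹ * c₂⁻¹ * b) * a₁ := by group
        _ = c₂⁻¹ * a₁ := by
          rw [mul_assoc b⁻¹, (hCB _ (C.inv_mem hc₂) b hb).eq, inv_mul_cancel_left]
    obtain ⟨y, hy⟩ : ∃ y, y = b * d * b⁻¹ := ⟨_, rfl⟩
    have hyd : Commute y d := by
      rw [hy]; exact H98.conj_commute_of_not_rankOne hS hB hD hn hb hd hd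
    have hyc : y * c * y⁻¹ = c₂ * a₁ * c := by
      calc y * c * y⁻¹ = b * (d * (b⁻¹ * c * b) * d⁻¹) * b⁻¹ := by rw [hy]; group
        _ = b * (a₁ * c) * b⁻¹ := by
          rw [mul_assoc b⁻¹, (hCB c hc b hb).eq, inv_mul_cancel_left, ea₁]
        _ = (b * a₁ * b⁻¹) * (b * c * b⁻¹) := by group
        _ = c₂ * a₁ * c := by rw [ec₂, bfix c hc]
    have hya : y * a₁ * y⁻¹ = c₂⁻¹ * (z * a₃)⁻¹ * (c₂ * a₁) := by
      calc y * a₁ * y⁻¹ = b * (d * (b⁻¹ * a₁ * b) * d⁻¹) * b⁻¹ := by rw [hy]; group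
        _ = (b * (d * c₂ * d⁻¹)⁻¹ * b⁻¹) * (b * (d * a₁ * d⁻¹) * b⁻¹) := by rw [binv]; group
        _ = (b * c₂ * b⁻¹)⁻¹ * (b * a₃ * b⁻¹)⁻¹ * (b * a₁ * b⁻¹) := by
          rw [ea₃, dfix a₁ ha₁]; group
        _ = _ := by rw [bfix c₂ hc₂, hc₄, ec₂]
    have heq : d * (c₂ * a₁ * c) * d⁻¹ = (y * a₁ * y⁻¹) * (y * c * y⁻¹) := by
      calc d * (c₂ * a₁ * c) * d⁻¹ = (d * y) * c * (d * y)⁻¹ := by rw [← hyc]; group
        _ = y * (d * c * d⁻¹) * y⁻¹ := by rw [← hyd.eq]; group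
        _ = _ := by rw [ea₁]; group
    rw [hya, hyc, show d * (c₂ * a₁ * c) * d⁻¹ = (d * c₂ * d⁻¹) * (d * a₁ * d⁻¹) * (d * c * d⁻¹) by
      group, ea₃, ea₁, dfix a₁ ha₁] at heq
    have alg : ∀ a₁ a₃ c c₂ z : ↥N,
        a₃ * c₂ * a₁ * (a₁ * c) = c₂⁻¹ * (z * a₃)⁻¹ * (c₂ * a₁) * (c₂ * a₁ * c) →
        z * a₃ * a₃ = 1 := by
      intro a₁ a₃ c c₂ z h
      letI : CommGroup ↥N :=
        { (inferInstance : Group ↥N) with mul_comm := fun u v => hNcomm.is_comm.comm u v }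
      rw [← mul_inv_eq_one.2 h]
      apply Additive.ofMul.injective
      simp only [ofMul_mul, ofMul_inv]
      abel
    have key := congrArg Subtype.val (alg ⟨a₁, hN ▸ Subgroup.mem_sup_left ha₁⟩
      ⟨a₃, hN ▸ Subgroup.mem_sup_left ha₃⟩ ⟨c, hN ▸ Subgroup.mem_sup_right hc⟩
      ⟨c₂, hN ▸ Subgroup.mem_sup_right hc₂⟩ ⟨z, hN ▸ Subgroup.mem_sup_right hz⟩ (Subtype.ext heq))
    have key' : z * a₃ * a₃ = 1 := key
    rw [mul_assoc, mul_eq_one_iff_eq_inv] at key'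
    exact hz1 (hAC z (by rw [key']; exact A.inv_mem (A.mul_mem ha₃ ha₃)) hz)
  have hXN : ∀ x ∈ B ⊔ D, conjBy N x = N := by
    intro x hx
    rw [H98.conjBy_eq_self_iff]
    suffices hle : B ⊔ D ≤ Subgroup.normalizer (N : Set G) from hle hx
    refine sup_le ?_ ?_
    · intro b hb
      rw [← H98.conjBy_eq_self_iff, hN, H98.conjBy_sup]
      have h1 : conjBy A b ≤ A ⊔ C := hCdef ▸ H98.conjBy_left_le h hb
      have h2 : conjBy C b = C := hCdef ▸ H98.conjBy_commutator h (Subgroup.mem_sup_right hb)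
      have h3 : conjBy A b⁻¹ ≤ A ⊔ C := hCdef ▸ H98.conjBy_left_le h (B.inv_mem hb)
      have h4 := H98.conjBy_mono b h3
      rw [H98.conjBy_conjBy, mul_inv_cancel, H98.conjBy_one, H98.conjBy_sup] at h4
      rw [h2] at h4 ⊢
      exact le_antisymm (sup_le h1 le_sup_right) (sup_le h4 le_sup_right)
    · intro d hd
      rw [← H98.conjBy_eq_self_iff, hN, H98.conjBy_sup]
      have hs' := H98.rootCommutatorCase_symm h'
      have h1 : ∀ e ∈ D, conjBy C e ≤ A ⊔ C := fun e he => by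
        have := H98.conjBy_left_le hs' he
        rwa [Subgroup.commutator_comm C D, hDC, sup_comm] at this
      have h2 : conjBy A d = A := by
        have := H98.conjBy_commutator h' (Subgroup.mem_sup_left hd)
        rwa [hDC] at this
      have h4 := H98.conjBy_mono d (h1 d⁻¹ (D.inv_mem hd))
      rw [H98.conjBy_conjBy, mul_inv_cancel, H98.conjBy_one, H98.conjBy_sup] at h4
      rw [h2] at h4 ⊢
      exact le_antisymm (sup_le le_sup_left (h1 d hd)) (sup_le le_sup_left h4)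
  let F : Subgroup G → Subgroup G := fun P => N ⊓ Subgroup.centralizer (P : Set G)
  have hFeq : ∀ x ∈ B ⊔ D, ∀ P, conjBy (F P) x = F (conjBy P x) := by
    intro x hx P
    show conjBy (N ⊓ _) x = N ⊓ _
    rw [H98.conjBy_inf, hXN x hx]
    congr 1
    ext w
    simp only [H98.mem_conjBy, Subgroup.mem_centralizer_iff, SetLike.mem_coe]
    constructor
    · intro hw p hp
      calc p * w = x * ((x⁻¹ * p * x) * (x⁻¹ * w * x)) * x⁻¹ := by group
        _ = w * p := by rw [hw _ hp]; group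
    · intro hw p hp
      calc p * (x⁻¹ * w * x) = x⁻¹ * ((x * p * x⁻¹) * w) * x := by group
        _ = x⁻¹ * w * x * p := by
          rw [hw _ (by rw [show x⁻¹ * (x * p * x⁻¹) * x = p by group]; exact hp)]; group
  have hFB : F B = C := le_antisymm
    (fun w hw => hfixB w hw.1 fun b hb => (hw.2 b hb).symm)
    (fun c hc => ⟨hN ▸ Subgroup.mem_sup_right hc, fun b hb => (hCB c hc b hb).symm⟩)
  have hFD : F D = A := le_antisymm
    (fun w hw => hfixD w hw.1 fun d hd => (hw.2 d hd).symm)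
    (fun a ha => ⟨hN ▸ Subgroup.mem_sup_left ha, fun d hd => (hAD a ha d hd).symm⟩)
  have horb : {E | ∃ x ∈ B ⊔ D, E = conjBy A x} = F '' unipotentSubgroups B D := by
    obtain ⟨y, hy, hyD⟩ := H98.right_mem_unipotent hr
    ext E
    constructor
    · rintro ⟨x, hx, rfl⟩
      exact ⟨conjBy D x, H98.conjBy_mem_unipotent hr (H98.right_mem_unipotent hr) hx,
        by rw [← hFeq x hx, hFD]⟩
    · rintro ⟨P, ⟨x, hx, rfl⟩, rfl⟩
      refine ⟨x * y⁻¹, Subgroup.mul_mem _ hx (Subgroup.inv_mem _ hy), ?_⟩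
      rw [← hFD, hFeq _ (Subgroup.mul_mem _ hx (Subgroup.inv_mem _ hy)), hyD, H98.conjBy_conjBy,
        inv_mul_cancel_right]
  have horb' : {E | ∃ x ∈ B ⊔ D, E = conjBy C x} = F '' unipotentSubgroups B D := by
    ext E
    constructor
    · rintro ⟨x, hx, rfl⟩
      exact ⟨conjBy B x, ⟨x, hx, rfl⟩, by rw [← hFeq x hx, hFB]⟩
    · rintro ⟨P, ⟨x, hx, rfl⟩, rfl⟩
      exact ⟨x, hx, by rw [← hFeq x hx, hFB]⟩
  have hTI : ∀ P ∈ unipotentSubgroups B D, ∀ Q ∈ unipotentSubgroups B D, P ≠ Q →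
      F P ⊓ F Q = ⊥ := by
    intro P hP Q hQ hne
    obtain ⟨x, hx, hx1, hx2⟩ := H98.exists_map_to_pair hr hP hQ hne
    rw [← H98.conjBy_eq_bot_iff (g := x), H98.conjBy_inf, hFeq x hx, hFeq x hx, hx1, hx2, hFB, hFD,
      Subgroup.eq_bot_iff_forall]
    rintro w ⟨hw1, hw2⟩
    exact hAC w hw2 hw1
  refine ⟨hr, horb.trans horb'.symm, ?_, ?_, ?_, ?_⟩
  · rw [horb]
    ext E
    constructor
    · rintro ⟨P, hP, rfl⟩
      rcases H98.unipotent_cases hr hP with rfl | ⟨b, hb, rfl⟩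
      · exact Or.inr hFB
      · exact Or.inl ⟨b, hb, by rw [← hFeq b (Subgroup.mem_sup_left hb), hFD]⟩
    · rintro (⟨b, hb, rfl⟩ | rfl)
      · exact ⟨conjBy D b, H98.conjBy_mem_unipotent hr (H98.right_mem_unipotent hr)
          (Subgroup.mem_sup_left hb), by rw [← hFeq b (Subgroup.mem_sup_left hb), hFD]⟩
      · exact ⟨B, H98.left_mem_unipotent hr, hFB⟩
  · rw [horb]
    ext E
    constructor
    · rintro ⟨P, hP, rfl⟩
      have hP' : P ∈ unipotentSubgroups D B := by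
        obtain ⟨x, hx, rfl⟩ := hP
        exact H98.conjBy_mem_unipotent (RankOnePair_symm hr)
          (H98.right_mem_unipotent (RankOnePair_symm hr)) (by rw [sup_comm]; exact hx)
      rcases H98.unipotent_cases (RankOnePair_symm hr) hP' with rfl | ⟨d, hd, rfl⟩
      · exact Or.inr hFD
      · exact Or.inl ⟨d, hd, by rw [← hFeq d (Subgroup.mem_sup_right hd), hFB]⟩
    · rintro (⟨d, hd, rfl⟩ | rfl)
      · exact ⟨conjBy B d, ⟨d, Subgroup.mem_sup_right hd, rfl⟩,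
          by rw [← hFeq d (Subgroup.mem_sup_right hd), hFB]⟩
      · exact ⟨D, H98.right_mem_unipotent hr, hFD⟩
  · rw [horb]
    refine ⟨?_, ?_, ?_⟩
    · rintro _ ⟨P, -, rfl⟩; exact inf_le_left
    · intro w hw hw1
      obtain ⟨a, ha, c, hc, rfl⟩ := H98.mem_sup_of_commute hcA (hN ▸ hw)
      by_cases ha1 : a = 1
      · exact ⟨F B, ⟨B, H98.left_mem_unipotent hr, rfl⟩, by rw [ha1, one_mul, hFB]; exact hc⟩
      · obtain ⟨b, hb, e⟩ := H98.exists_conj_eq_mul h ha ha1 (hCdef.symm ▸ hc)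
        refine ⟨F (conjBy D b), ⟨conjBy D b, H98.conjBy_mem_unipotent hr
          (H98.right_mem_unipotent hr) (Subgroup.mem_sup_left hb), rfl⟩, ?_⟩
        rw [← hFeq b (Subgroup.mem_sup_left hb), hFD, ← e]
        exact H98.conj_mem_conjBy b ha
    · rintro _ ⟨P, hP, rfl⟩ _ ⟨Q, hQ, rfl⟩ hne
      exact hTI P hP Q hQ fun e => hne (by rw [e])
  · intro x hx y hy
    refine (H98.mem_centralizer_of_fix_all hr (e := x) (fun P hP => ?_) y hy).symm
    by_contra hne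
    have h1 := hTI P hP _ (H98.conjBy_mem_unipotent hr hP hx.1) (Ne.symm hne)
    rw [← hFeq x hx.1] at h1
    have h2 : conjBy (F P) x = F P := by
      rw [H98.conjBy_eq_self_iff]
      have hxc : ∀ w ∈ F P, x * w * x⁻¹ = w := fun w hw => by
        rw [← hx.2 w hw.1, mul_inv_cancel_right]
      refine Subgroup.mem_normalizer_iff.2 fun w => ⟨fun hw => by rw [hxc w hw]; exact hw, fun hw => ?_⟩
      have : w = x * w * x⁻¹ := by
        have h3 := hxc _ hw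
        exact mul_left_cancel (a := x) (mul_right_cancel (b := x⁻¹) h3.symm)
      rw [this]; exact hw
    rw [h2, inf_idem] at h1
    obtain ⟨z, hz, hzP⟩ := hP
    rw [hzP, ← hFeq z hz, hFB, H98.conjBy_eq_bot_iff] at h1
    exact hS.ne_bot C hC h1

end Cfsg.Agent.S5036
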