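import Cfsg.Statements.S5037
import Cfsg.Agent.H98.SameRel

set_option autoImplicit false
open Cfsg

namespace Cfsg.Agent.S5037

/-- Let S be a class of abstract root subgroups of G that is either degenerate or non-degenerate (so either the commutator case never occurs, or all three cases occur), and A ≠ C members of S. If every member of S commuting with A commutes with C, then A and C have the same commuting members of S; and if every rank one partner of A is a rank one partner of C, then A and C commute and have the same rank one partners. -/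
theorem result {G : Type*} [Group G] {S : Set (Subgroup G)} (hS : Cfsg.IsRootSubgroupClass S)
    (hdn : Cfsg.IsDegenerateRootSet S ∨ Cfsg.IsNondegenerateRootSet S)
    {A C : Subgroup G} (hA : A ∈ S) (hC : C ∈ S) (hAC : A ≠ C) :
    (Cfsg.centralizingMembers S A ⊆ Cfsg.centralizingMembers S C →
      Cfsg.centralizingMembers S A = Cfsg.centralizingMembers S C) ∧
    (Cfsg.rankOnePartners S A ⊆ Cfsg.rankOnePartners S C →
      ⁅A, C⁆ = ⊥ ∧ Cfsg.rankOnePartners S A = Cfsg.rankOnePartners S C) := by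
  have memC : ∀ {X Z : Subgroup G}, Z ∈ Cfsg.centralizingMembers S X → ⁅Z, X⁆ = ⊥ := fun h =>
    Subgroup.commutator_eq_bot_iff_le_centralizer.2 h.2
  have hAA : A ∈ Cfsg.centralizingMembers S A :=
    ⟨hA, Subgroup.commutator_eq_bot_iff_le_centralizer.1 (H98.commutator_self_bot' hS.1 hA)⟩
  have memΩ : ∀ {X Z : Subgroup G}, X ∈ S → Z ∈ S → Cfsg.IsRankOnePair X Z → ⁅X, Z⁆ ≠ ⊥ :=
    fun hX hZ h => H98.commutator_ne_bot_of_rankOne hS.1 hX hZ h
  by_cases hrank : ∃ P ∈ S, ∃ Q ∈ S, Cfsg.IsRankOnePair P Q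
  swap
  · -- no rank one pairs: all members commute
    have hdeg : Cfsg.IsDegenerateRootSet S := hdn.resolve_right fun hnd => by
      obtain ⟨R, hR, T, hT, h⟩ := hnd.2.1; exact hrank ⟨R, hR, T, hT, h⟩
    have hall : ∀ X ∈ S, ∀ Z ∈ S, ⁅X, Z⁆ = ⊥ := fun X hX Z hZ =>
      (H98.commute_or_rankOne hS.1 hdeg hX hZ).resolve_right fun h => hrank ⟨X, hX, Z, hZ, h⟩
    have hone : ∀ X ∈ S, Cfsg.centralizingMembers S X = S := fun X hX => Set.ext fun Z =>
      ⟨fun h => h.1, fun h => ⟨h, Subgroup.commutator_eq_bot_iff_le_centralizer.1 (hall Z h X hX)⟩⟩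
    have hnone : ∀ X ∈ S, Cfsg.rankOnePartners S X = ∅ := fun X hX =>
      Set.eq_empty_iff_forall_notMem.2 fun Z h => hrank ⟨X, hX, Z, h.1, h.2⟩
    exact ⟨fun _ => by rw [hone A hA, hone C hC],
      fun _ => ⟨hall A hA C hC, by rw [hnone A hA, hnone C hC]⟩⟩
  obtain ⟨P, hP, Q, hQ, hPQ⟩ := hrank
  have hF : ∀ X ∈ S, ¬ Cfsg.IsIsolatedIn (Cfsg.FAdj S) S X := by
    intro X hX
    obtain ⟨g, rfl⟩ := hS.2.2 P hP X hX
    exact H98.not_isolated_conj hS.1 g hP (H98.not_isolated_of_partner hP hQ hPQ)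
  rcases hdn with hdeg | hnd
  · have hspec : ∀ {Y : Subgroup G}, Y ∈ S → Cfsg.IsRankOnePair A Y → Cfsg.IsRankOnePair C Y →
        ⁅A, C⁆ = ⊥ → Cfsg.IsSpecialRankOnePair A Y ∧ Cfsg.IsSpecialRankOnePair C Y := by
      intro Y hY h1 h2 h3
      exact ⟨H98.special_of_commuting hS.1 hdeg hA hY hC h1 h2 h3 hAC,
        H98.special_of_commuting hS.1 hdeg hC hY hA h2 h1
          (by rw [Subgroup.commutator_comm]; exact h3) hAC.symm⟩
    constructor
    · intro hsub
      have hc : ⁅A, C⁆ = ⊥ := memC (hsub hAA)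
      obtain ⟨Y, hY, hr'⟩ := H98.exists_partner_of_not_isolated hC (hF C hC)
      have hr : Cfsg.IsRankOnePair A Y := by
        refine (H98.commute_or_rankOne hS.1 hdeg hA hY).resolve_left fun h => memΩ hC hY hr' ?_
        rw [Subgroup.commutator_comm] at h ⊢
        exact memC (hsub ⟨hY, Subgroup.commutator_eq_bot_iff_le_centralizer.1 h⟩)
      obtain ⟨hs, hs'⟩ := hspec hY hr hr' hc
      exact hsub.antisymm (H98.subset_of_common_partner hS.1 hA hY hC hr hr' hc hs hs'
        (Cfsg.centralizingMembers S) (H98.centralizingMembers_conj hS.1) hsub)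
    · intro hsub
      have hc : ⁅A, C⁆ = ⊥ := (H98.commute_or_rankOne hS.1 hdeg hA hC).resolve_right fun h =>
        (hsub ⟨hC, h⟩).2.ne rfl
      obtain ⟨Y, hY, hr⟩ := H98.exists_partner_of_not_isolated hA (hF A hA)
      have hr' := (hsub ⟨hY, hr⟩).2
      obtain ⟨hs, hs'⟩ := hspec hY hr hr' hc
      exact ⟨hc, hsub.antisymm (H98.subset_of_common_partner hS.1 hA hY hC hr hr' hc hs hs'
        (Cfsg.rankOnePartners S) (H98.rankOnePartners_conj hS.1) hsub)⟩
  · obtain ⟨-, hline⟩ := H98.nondeg_facts hS hnd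
    have hspec : ∀ {X Y : Subgroup G}, X ∈ S → Y ∈ S → Cfsg.IsRankOnePair X Y →
        Cfsg.IsSpecialRankOnePair X Y := by
      intro X Y hX hY h
      obtain ⟨E, hE, h1, h2, h3⟩ := H98.partner_structure hS.1 hF hline hX hY h
      exact H98.special_of_structure hS.1 hX hY hE.1.1 h h1 h2 h3
    constructor
    · intro hsub
      have hc : ⁅A, C⁆ = ⊥ := memC (hsub hAA)
      have hΛ : ∀ E ∈ Cfsg.linePartners S A, ⁅E, C⁆ = ⊥ := fun E hE =>
        memC (hsub ⟨hE.1.1, Subgroup.commutator_eq_bot_iff_le_centralizer.1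
          (by rw [Subgroup.commutator_comm]; exact hE.1.2.2)⟩)
      obtain ⟨Y, hY, hr, hr'⟩ := H98.exists_common_partner hS.1 hF hline hS.2 hA hC hc hΛ
      exact hsub.antisymm (H98.subset_of_common_partner hS.1 hA hY hC hr hr' hc (hspec hA hY hr)
        (hspec hC hY hr') (Cfsg.centralizingMembers S) (H98.centralizingMembers_conj hS.1) hsub)
    · intro hsub
      have hc : ⁅A, C⁆ = ⊥ := by
        rcases hS.1.pair A hA C hC with h | h | h
        · exact h
        · exact absurd rfl (hsub ⟨hC, h⟩).2.ne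
        · exact absurd hsub (H98.not_subset_of_commutatorCase hS.1 hF hA hC h)
      obtain ⟨Y, hY, hr⟩ := H98.exists_partner_of_not_isolated hA (hF A hA)
      have hr' := (hsub ⟨hY, hr⟩).2
      exact ⟨hc, hsub.antisymm (H98.subset_of_common_partner hS.1 hA hY hC hr hr' hc
        (hspec hA hY hr) (hspec hC hY hr') (Cfsg.rankOnePartners S)
        (H98.rankOnePartners_conj hS.1) hsub)⟩
end Cfsg.Agent.S5037
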