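import Cfsg.Statements.S5039
import Cfsg.Agent.H98.DegSpecial

set_option autoImplicit false
universe u
open Cfsg

namespace Cfsg.Agent.S5039

/-- Let S be a class of abstract root subgroups of G containing two different commuting members. Suppose that, in case S is degenerate and every element of every member of S has order at most 3, the following holds: for every A ∈ S and every rank one partner B of A there are subgroups A₀ ≤ A and B₀ ≤ B generating an image of SL₂(k) with central kernel, k a field with at least four elements, A₀ and B₀ being the images of the unitriangular subgroups. Then every rank one pair A, B in S is special. -/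
theorem result {G : Type u} [Group G] {S : Set (Subgroup G)} (hS : Cfsg.IsRootSubgroupClass S)
    (hcomm : ∃ A ∈ S, ∃ C ∈ S, A ≠ C ∧ ⁅A, C⁆ = ⊥)
    (hH : Cfsg.IsDegenerateRootSet S → (∀ A ∈ S, ∀ a ∈ A, 0 < orderOf a ∧ orderOf a ≤ 3) →
      ∀ A ∈ S, ∀ B ∈ Cfsg.rankOnePartners S A, ∃ A₀ B₀ : Subgroup G, A₀ ≤ A ∧ B₀ ≤ B ∧
        ∃ (k : Type u) (_ : Field k), 3 < ENat.card k ∧ Cfsg.IsPSL2PairOver k A₀ B₀)
    {A B : Subgroup G} (hA : A ∈ S) (hB : B ∈ Cfsg.rankOnePartners S A) : Cfsg.IsSpecialRankOnePair A B := by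
  obtain ⟨hBS, hr⟩ := hB
  by_cases hdeg : Cfsg.IsDegenerateRootSet S
  · have hconn : Cfsg.IsConnectedFamily (Cfsg.FAdj S) S :=
      (Cfsg.Agent.S5032.result hS.1 ⟨A, hA, B, hBS, hr.ne⟩).2
        ⟨hS.2, A, hA, H98.not_isolated_of_partner hA hBS hr⟩
    obtain ⟨P, hP, Q, hQ, hPQne, hPQ⟩ := hcomm
    obtain ⟨g, hg⟩ := hS.2.2 P hP A hA
    obtain ⟨Y, hY, C, hC, hAY, hCY, hAC, hne⟩ := H98.exists_good_partner hS.1 hdeg hconn hA
      (hS.1.conj_mem Q hQ g) (by rw [hg]; exact fun e => hPQne (H98.conjBy_inj.1 e))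
      (by rw [hg]; exact H98.commutator_conj_eq_bot g hPQ)
    have main : ∀ x₁ x₂ x₃ : G, x₁ ∈ A → x₂ ∈ A → x₃ ∈ A → x₁ ≠ 1 → x₂ ≠ 1 → x₃ ≠ 1 →
        x₁ * x₂ ≠ 1 → x₁ * x₃ ≠ 1 → x₂ * x₃ ≠ 1 → x₁ * x₂ * x₃ ≠ 1 →
        Cfsg.IsSpecialRankOnePair A B := by
      intro x₁ x₂ x₃ h₁ h₂ h₃ n₁ n₂ n₃ n₁₂ n₁₃ n₂₃ n₁₂₃
      obtain ⟨D, hD, hAD, hDA, hDB⟩ := H98.exists_commuting_partner hS.1 hdeg hA hBS hY hC hr hAY
        hCY hAC hne h₁ h₂ h₃ n₁ n₂ n₃ n₁₂ n₁₃ n₂₃ n₁₂₃
      exact H98.special_of_commuting hS.1 hdeg hA hBS hD hr hDB hAD hDA.symm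
    by_cases hord : ∀ A ∈ S, ∀ a ∈ A, 0 < orderOf a ∧ orderOf a ≤ 3
    · obtain ⟨A₀, B₀, hA₀, hB₀, k, _, hk4, φ, -, hker, hφA, hφB⟩ := hH hdeg hord A hA B ⟨hBS, hr⟩
      -- injections of `k`
      have inj : ∀ (f : k → G), (∀ s t : k, f (s + t) = f s * f t) → (∀ s : k, s ≠ 0 → f s ≠ 1) →
          ∀ U : Subgroup G, (∀ s, f s ∈ U) → Finite U → 3 < Nat.card U ∧ Nat.card k ≤ Nat.card U := by
        intro f fadd fne U fU hfin
        have hinj : Function.Injective fun s : k => (⟨f s, fU s⟩ : U) := by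
          intro s t e
          have e' : f s = f t := congrArg Subtype.val e
          by_contra hst
          refine fne (s - t) (sub_ne_zero.2 hst) ?_
          have := fadd (s - t) t
          rw [sub_add_cancel, e'] at this
          exact mul_eq_right.1 this.symm
        haveI : Finite k := Finite.of_injective _ hinj
        rw [ENat.card_eq_coe_natCard, Nat.ofNat_lt_cast] at hk4
        exact ⟨hk4.trans_le (Nat.card_le_card_of_injective _ hinj),
          Nat.card_le_card_of_injective _ hinj⟩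
      have fA : ∀ s : k, φ (H98.uu s) ∈ A₀ := fun s =>
        hφA ▸ Subgroup.mem_map_of_mem φ (H98.mem_upperUnipotentSL2.2 ⟨s, rfl⟩)
      have fB : ∀ s : k, φ (H98.ll s) ∈ B₀ := fun s =>
        hφB ▸ Subgroup.mem_map_of_mem φ (H98.mem_lowerUnipotentSL2.2 ⟨s, rfl⟩)
      have big := fun U hU hfin => inj (fun s => φ (H98.uu s))
        (fun s t => by rw [H98.uu_add, map_mul]) (fun s hs => H98.map_uu_ne_one hker hs) U hU hfin
      have bigB := fun U hU hfin => inj (fun s => φ (H98.ll s))
        (fun s t => by rw [H98.ll_add, map_mul]) (fun s hs => H98.map_ll_ne_one hker hs) U hU hfin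
      have hpow : ∀ x ∈ A, x ^ 2 = 1 ∨ x ^ 3 = 1 := by
        intro x hx
        obtain ⟨h1, h2⟩ := hord A hA x hx
        have := pow_orderOf_eq_one x
        interval_cases h3 : orderOf x
        · exact Or.inl (by rw [pow_one] at this; rw [this, one_pow])
        · exact Or.inl this
        · exact Or.inr this
      by_cases hexp : ∃ a ∈ A, a ^ 2 ≠ 1
      · obtain ⟨a, ha, ha2⟩ := hexp
        have ha3 : a ^ 3 = 1 := (hpow a ha).resolve_left ha2
        have ha1 : a ≠ 1 := fun e => ha2 (by rw [e, one_pow])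
        obtain ⟨a', ha', hna⟩ : ∃ a' ∈ A, a' ∉ Subgroup.zpowers a := by
          by_contra hcon
          push Not at hcon
          have hAz : A = Subgroup.zpowers a := le_antisymm hcon (Subgroup.zpowers_le.2 ha)
          haveI : Finite (Subgroup.zpowers a) :=
            finite_zpowers.2 (isOfFinOrder_iff_pow_eq_one.2 ⟨3, by norm_num, ha3⟩)
          haveI : Finite A := by rw [hAz]; infer_instance
          have := (big A (fun s => hA₀ (fA s)) inferInstance).1
          rw [hAz, Nat.card_zpowers] at this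
          exact absurd (orderOf_le_of_pow_eq_one (by norm_num) ha3) (not_le.2 this)
        have hnot : ∀ z ∈ Subgroup.zpowers a, z * a' ≠ 1 := fun z hz e => hna (by
          rw [eq_inv_of_mul_eq_one_right e]; exact Subgroup.inv_mem _ hz)
        exact main a a a' ha ha ha' ha1 ha1 (fun e => hna (e ▸ Subgroup.one_mem _))
          (by rwa [← sq]) (hnot a (Subgroup.mem_zpowers a)) (hnot a (Subgroup.mem_zpowers a))
          (hnot (a * a) (Subgroup.mul_mem _ (Subgroup.mem_zpowers a) (Subgroup.mem_zpowers a)))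
      · push Not at hexp
        have hinv : ∀ x ∈ A, x⁻¹ = x := fun x hx =>
          inv_eq_of_mul_eq_one_right (by rw [← sq]; exact hexp x hx)
        have hne1 : ∀ x ∈ A, ∀ y : G, x * y = 1 → y = x := fun x hx y e => by
          rw [eq_inv_of_mul_eq_one_right e, hinv x hx]
        obtain ⟨a, ha, ha1⟩ := H98.exists_mem_ne_one (hS.1.ne_bot A hA)
        by_cases hthree : ∃ a' ∈ A, ∃ a'' ∈ A,
            a' ≠ 1 ∧ a' ≠ a ∧ a'' ≠ 1 ∧ a'' ≠ a ∧ a'' ≠ a' ∧ a'' ≠ a * a'
        · obtain ⟨a', ha', a'', ha'', p1, p2, q1, q2, q3, q4⟩ := hthree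
          exact main a a' a'' ha ha' ha'' ha1 p1 q1 (fun e => p2 (hne1 a ha _ e))
            (fun e => q2 (hne1 a ha _ e)) (fun e => q3 (hne1 a' ha' _ e))
            (fun e => q4 (hne1 _ (A.mul_mem ha ha') _ e))
        · push Not at hthree
          -- `A` has at most four elements, so `A = A₀`
          obtain ⟨T, hT, hT4⟩ : ∃ T : Set G, (A : Set G) ⊆ T ∧ T.Finite ∧ T.ncard ≤ 4 := by
            by_cases h2 : ∃ a' ∈ A, a' ≠ 1 ∧ a' ≠ a
            · obtain ⟨a', ha', p1, p2⟩ := h2
              refine ⟨{1, a, a', a * a'}, fun x hx => ?_, Set.toFinite _, ?_⟩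
              · simp only [Set.mem_insert_iff, Set.mem_singleton_iff]
                have := hthree a' ha' x hx p1 p2
                tauto
              · refine (Set.ncard_insert_le _ _).trans (Nat.succ_le_succ ?_)
                refine (Set.ncard_insert_le _ _).trans (Nat.succ_le_succ ?_)
                exact (Set.ncard_insert_le _ _).trans (by rw [Set.ncard_singleton])
            · push Not at h2
              refine ⟨{1, a}, fun x hx => ?_, Set.toFinite _,
                (Set.ncard_insert_le _ _).trans (by rw [Set.ncard_singleton]; norm_num)⟩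
              by_cases hx1 : x = 1
              · exact Or.inl hx1
              · exact Or.inr (h2 x hx hx1)
          haveI hfinA : Finite A := (hT4.1.subset hT).to_subtype
          have hA4 : Nat.card A ≤ 4 := by
            rw [← SetLike.coe_sort_coe, Nat.card_coe_set_eq]
            exact (Set.ncard_le_ncard hT hT4.1).trans hT4.2
          obtain ⟨g₂, hg₂⟩ := hS.2.2 A hA B hBS
          have hBA : Nat.card B = Nat.card A := by
            rw [hg₂]; exact (Nat.card_congr (H98.conjEquiv A g₂).toEquiv).symm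
          haveI hfinB : Finite B := Nat.finite_of_card_ne_zero (by rw [hBA]; exact Nat.card_pos.ne')
          haveI : Finite A₀ := Finite.of_injective _ (Subgroup.inclusion_injective hA₀)
          haveI : Finite B₀ := Finite.of_injective _ (Subgroup.inclusion_injective hB₀)
          have eA : A₀ = A := Subgroup.eq_of_le_of_card_ge hA₀
            (by have := (big A₀ fA inferInstance).1; omega)
          have eB : B₀ = B := Subgroup.eq_of_le_of_card_ge hB₀
            (by have := (bigB B₀ fB inferInstance).1; omega)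
          rw [← eA, ← eB, ← hφA, ← hφB]
          exact H98.isSpecial_image hker
    · push Not at hord
      obtain ⟨A', hA', a', ha', hbad⟩ := hord
      obtain ⟨g', hg'⟩ := hS.2.2 A' hA' A hA
      have hmem : g' * a' * g'⁻¹ ∈ A := hg' ▸ H98.conj_mem_conjBy g' ha'
      have hord' : orderOf (g' * a' * g'⁻¹) = orderOf a' :=
        orderOf_injective (MulAut.conj g').toMonoidHom (MulAut.conj g').injective a'
      have hnot : ∀ n, 0 < n → n ≤ 3 → (g' * a' * g'⁻¹) ^ n ≠ 1 := by
        intro n h1 h2 e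
        have h3 : 0 < orderOf (g' * a' * g'⁻¹) :=
          (isOfFinOrder_iff_pow_eq_one.2 ⟨n, h1, e⟩).orderOf_pos
        have h4 := orderOf_le_of_pow_eq_one h1 e
        rw [hord'] at h3 h4
        have := hbad h3
        omega
      have k1 := hnot 1 one_pos (by norm_num)
      have k2 := hnot 2 (by norm_num) (by norm_num)
      have k3 := hnot 3 (by norm_num) le_rfl
      rw [pow_one] at k1
      rw [sq] at k2
      rw [pow_succ, sq] at k3
      exact main _ _ _ hmem hmem hmem k1 k1 k1 k2 k2 k2 k3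
  · have hF : ∀ X ∈ S, ¬ Cfsg.IsIsolatedIn (Cfsg.FAdj S) S X := by
      intro X hX
      obtain ⟨g, rfl⟩ := hS.2.2 A hA X hX
      exact H98.not_isolated_conj hS.1 g hA (H98.not_isolated_of_partner hA hBS hr)
    obtain ⟨P, hP, Q, hQ, hPQ⟩ : ∃ P ∈ S, ∃ Q ∈ S, Cfsg.RootCommutatorCase S P Q := by
      by_contra hne
      exact hdeg fun X hX Y hY h => hne ⟨X, hX, Y, hY, h⟩
    have hline : ∀ X ∈ S, ∃ C, C ∈ Cfsg.linePartners S X := by
      intro X hX
      obtain ⟨g, rfl⟩ := hS.2.2 P hP X hX
      exact ⟨_, H98.linePartners_conj hS.1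
        (H98.linePartner_of_commutatorCase hS.1 hF hP hQ hPQ).2 g⟩
    obtain ⟨E, hE, h1, h2, h3⟩ := H98.partner_structure hS.1 hF hline hA hBS hr
    exact H98.special_of_structure hS.1 hA hBS hE.1.1 hr h1 h2 h3
end Cfsg.Agent.S5039
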