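import Cfsg.Statements.S5045
import Cfsg.Agent.H98.RootInvClass

set_option autoImplicit false
open Cfsg

namespace Cfsg.Agent.S5045

/-- Let G be a finite group generated by a set D of root involutions, and W the set of members of D whose product with every other member of D has even order or is trivial (the isolated vertices of the odd-order-product graph on D). Then W is conjugation-invariant and generates a normal 2-subgroup of G meeting D in exactly W; the commutator of two members of D lying in different connected components of that graph, each with more than one member, lies in the subgroup generated by W; and for a in such a component, every member of D commuting with a, different from a and with product with a in D, lies in that component or in W. -/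
theorem result {G : Type*} [Group G] [Finite G] {D : Set G} (hD : Cfsg.IsRootInvolutionSet D) :
    (∀ w ∈ {w | Cfsg.IsIsolatedElem (Cfsg.OddAdj D) D w}, ∀ g : G, g * w * g⁻¹ ∈ {w | Cfsg.IsIsolatedElem (Cfsg.OddAdj D) D w}) ∧
    (Subgroup.closure {w | Cfsg.IsIsolatedElem (Cfsg.OddAdj D) D w}).Normal ∧
    IsPGroup 2 ↥(Subgroup.closure {w | Cfsg.IsIsolatedElem (Cfsg.OddAdj D) D w}) ∧
    (Subgroup.closure {w | Cfsg.IsIsolatedElem (Cfsg.OddAdj D) D w} : Set G) ∩ D = {w | Cfsg.IsIsolatedElem (Cfsg.OddAdj D) D w} ∧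
    (∀ a ∈ D, ∀ b ∈ D, (∃ a' ∈ Cfsg.elemComponentOf (Cfsg.OddAdj D) D a, a' ≠ a) →
      (∃ b' ∈ Cfsg.elemComponentOf (Cfsg.OddAdj D) D b, b' ≠ b) →
      Cfsg.elemComponentOf (Cfsg.OddAdj D) D a ≠ Cfsg.elemComponentOf (Cfsg.OddAdj D) D b →
        a * b * a⁻¹ * b⁻¹ ∈ Subgroup.closure {w | Cfsg.IsIsolatedElem (Cfsg.OddAdj D) D w}) ∧
    (∀ a ∈ D, (∃ a' ∈ Cfsg.elemComponentOf (Cfsg.OddAdj D) D a, a' ≠ a) →
      Cfsg.productPartners D a ⊆ Cfsg.elemComponentOf (Cfsg.OddAdj D) D a ∪ {w | Cfsg.IsIsolatedElem (Cfsg.OddAdj D) D w}) := by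
  have o := hD.orderOf_eq
  have hodd : ∀ a b : G, OddAdj D a b ↔ a ∈ D ∧ b ∈ oddPartners D a := fun a b =>
    ⟨fun h => ⟨h.1, h.2.1, h.2.2.1.symm, h.2.2.2⟩, fun h => ⟨h.1, h.2.1, h.2.2.1.symm, h.2.2.2⟩⟩
  have hadj : ∀ a b, OddAdj D a b → OddAdj D b a := fun a b h =>
    ⟨h.2.1, h.1, h.2.2.1.symm, H98.odd_symm (o a h.1) (o b h.2.1) h.2.2.2⟩
  set W := {w | IsIsolatedElem (OddAdj D) D w} with hW
  have hWiff : ∀ w, w ∈ W ↔ w ∈ D ∧ oddPartners D w = ∅ := by
    intro w
    constructor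
    · rintro ⟨hw, h⟩
      exact ⟨hw, Set.eq_empty_iff_forall_notMem.2 fun x hx => (h x).1 ((hodd w x).2 ⟨hw, hx⟩)⟩
    · rintro ⟨hw, h⟩
      refine ⟨hw, fun x => ⟨fun ha => ?_, fun ha => ?_⟩⟩
      · exact Set.eq_empty_iff_forall_notMem.1 h x ((hodd w x).1 ha).2
      · exact Set.eq_empty_iff_forall_notMem.1 h x ((hodd w x).1 (hadj _ _ ha)).2
  have hconj : ∀ w ∈ W, ∀ g : G, g * w * g⁻¹ ∈ W := by
    intro w hw g
    rw [hWiff] at hw ⊢
    refine ⟨hD.conj_mem w hw.1 g, ?_⟩
    rw [H98.oddPartners_conj_eq hD, hw.2, Set.image_empty]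
  have hWsub : W ⊆ Cfsg.pCore 2 G := by
    refine H65.baer_suzuki_set (fun g w hw => hconj w hw g) fun u hu v hv => ?_
    rw [hWiff] at hu hv
    have hdvd : orderOf (u * v) ∣ 2 ^ 2 := by
      rcases hD.pair u hu.1 v hv.1 with h | h | ⟨h, -⟩
      · refine (orderOf_dvd_of_pow_eq_one (n := 2) ?_).trans ⟨2, by norm_num⟩
        rw [(show Commute u v from h).mul_pow, sq, sq, H65.mul_self_of_two (o u hu.1),
          H65.mul_self_of_two (o v hv.1), one_mul]
      · by_cases he : v = u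
        · rw [he, H65.mul_self_of_two (o u hu.1), orderOf_one]
          exact one_dvd _
        · exact absurd ⟨hv.1, he, h⟩ (Set.eq_empty_iff_forall_notMem.1 hu.2 v)
      · rw [h]; decide
    exact H65.isPGroup_closure_pair (o u hu.1) (o v hv.1) hdvd
  have hle : Subgroup.closure W ≤ Cfsg.pCore 2 G := (Subgroup.closure_le _).2 hWsub
  have hnorm : (Subgroup.closure W).Normal := by
    rw [← Subgroup.normalizer_eq_top_iff, eq_top_iff]
    exact fun g _ => H65.mem_normalizer_closure fun w hw => hconj w hw g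
  have hcore : ∀ d ∈ D, d ∈ Cfsg.pCore 2 G → d ∈ W := by
    intro d hd hdO
    rw [hWiff]
    refine ⟨hd, Set.eq_empty_iff_forall_notMem.2 fun x hx => ?_⟩
    haveI := H1.pCore_normal' 2 G
    have h2 : (d * x) ^ 2 ∈ Cfsg.pCore 2 G := by
      have h3 : x * d * x⁻¹ ∈ Cfsg.pCore 2 G :=
        (H1.pCore_normal' 2 G).conj_mem d hdO x
      rw [H65.inv_of_two (o x hx.1)] at h3
      rw [sq, show d * x * (d * x) = d * (x * d * x) by group]
      exact Subgroup.mul_mem _ hdO h3
    obtain ⟨n, hn⟩ := (H1.isPGroup_pCore 2 G) ⟨_, h2⟩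
    have hn' : ((d * x) ^ 2) ^ 2 ^ n = 1 := congrArg Subtype.val hn
    rw [← pow_mul, ← pow_succ'] at hn'
    obtain ⟨m, -, hm⟩ := (Nat.dvd_prime_pow Nat.prime_two).1 (orderOf_dvd_of_pow_eq_one hn')
    have h1 := hx.2.2
    rw [hm] at h1
    have hm0 : m = 0 := by
      by_contra hne
      exact Nat.not_odd_iff_even.2 (Even.pow_of_ne_zero even_two hne) h1
    rw [hm0, pow_zero, orderOf_eq_one_iff, mul_eq_one_iff_eq_inv,
      H65.inv_of_two (o x hx.1)] at hm
    exact hx.2.1 hm.symm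
  have hnontriv : ∀ a, (∃ a' ∈ elemComponentOf (OddAdj D) D a, a' ≠ a) →
      ∃ y, y ∈ oddPartners D a := by
    rintro a ⟨a', ⟨-, h⟩, hne⟩
    rcases h.cases_head with e | ⟨y, hy, -⟩
    · exact absurd e.symm hne
    · exact ⟨y, ((hodd a y).1 hy).2⟩
  have hline : ∀ a b, a ∈ D → (∃ y, y ∈ oddPartners D a) → b ∈ productPartners D a → b ∉ W →
      Relation.ReflTransGen (OddAdj D) a b := by
    intro a b ha hy hb hbW
    obtain ⟨⟨hbD, hba, -⟩, hmem⟩ := hb
    have hmem' : a * b ∈ D := by rw [← hba]; exact hmem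
    obtain ⟨y, hy⟩ := hy
    rcases H98.line_or hD ha hbD (Commute.symm hba) hmem' hy with h | h
    · exact (Relation.ReflTransGen.single ((hodd a y).2 ⟨ha, hy⟩)).tail
        (hadj _ _ ((hodd b y).2 ⟨hbD, h⟩))
    · have h1 : Relation.ReflTransGen (OddAdj D) a (a * b) :=
        (Relation.ReflTransGen.single ((hodd a y).2 ⟨ha, hy⟩)).tail
          (hadj _ _ ((hodd _ y).2 ⟨hmem', h⟩))
      obtain ⟨z, hz⟩ : ∃ z, z ∈ oddPartners D b := by
        by_contra hne
        exact hbW ((hWiff b).2 ⟨hbD, Set.eq_empty_iff_forall_notMem.2 fun z hz => hne ⟨z, hz⟩⟩)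
      rcases H98.line_or hD hbD ha hba hmem hz with h' | h'
      · exact (Relation.ReflTransGen.single ((hodd a z).2 ⟨ha, h'⟩)).tail
          (hadj _ _ ((hodd b z).2 ⟨hbD, hz⟩))
      · rw [show b * a = a * b from hba] at h'
        exact (h1.tail ((hodd _ z).2 ⟨hmem', h'⟩)).tail (hadj _ _ ((hodd b z).2 ⟨hbD, hz⟩))
  refine ⟨hconj, hnorm, (H1.isPGroup_pCore 2 G).to_le hle, ?_, ?_, ?_⟩
  · ext w
    exact ⟨fun h => hcore w h.2 (hle h.1), fun h => ⟨Subgroup.subset_closure h, ((hWiff w).1 h).1⟩⟩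
  · intro a ha b hb hA hB hne
    obtain ⟨ya, hya⟩ := hnontriv a hA
    obtain ⟨yb, hyb⟩ := hnontriv b hB
    rw [H65.inv_of_two (o a ha), H65.inv_of_two (o b hb), show a * b * a * b = (a * b) ^ 2 by
      rw [sq]; group]
    by_cases hc : Commute a b
    · rw [hc.mul_pow, sq, sq, H65.mul_self_of_two (o a ha), H65.mul_self_of_two (o b hb), one_mul]
      exact Subgroup.one_mem _
    have hne' : ¬ Relation.ReflTransGen (OddAdj D) a b := by
      intro h
      apply hne
      have hsym : Relation.ReflTransGen (OddAdj D) b a := by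
        clear hne hc hA hB hyb hb
        induction h with
        | refl => exact .refl
        | tail _ h ih => exact ih.head (hadj _ _ h)
      ext z
      exact ⟨fun hz => ⟨hz.1, hsym.trans hz.2⟩, fun hz => ⟨hz.1, h.trans hz.2⟩⟩
    have hn : b ∉ oddPartners D a := fun h => hne' (.single ((hodd a b).2 ⟨ha, h⟩))
    obtain ⟨hf, ca, cb, e1, e2⟩ := H98.four_facts hD ha hb hn hc
    obtain ⟨hfa, hf1, hf2⟩ := H98.line_four hD ha hb hn hc
    by_contra hfW
    have hfW' : (a * b) ^ 2 ∉ W := fun h => hfW (Subgroup.subset_closure h)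
    have h1 := hline a _ ha ⟨ya, hya⟩ ⟨⟨hf, ca.eq, hf1⟩, hfa⟩ hfW'
    have h2 := hline b _ hb ⟨yb, hyb⟩ ⟨⟨hf, cb.eq, hf2⟩, by rw [e2]; exact H98.conj2_mem hD hb ha⟩ hfW'
    apply hne'
    refine h1.trans ?_
    clear h1 hfW hfW'
    generalize (a * b) ^ 2 = f at h2
    induction h2 with
    | refl => exact .refl
    | tail _ h ih => exact ih.head (hadj _ _ h)
  · intro a ha hA b hb
    by_cases hbW : b ∈ W
    · exact Or.inr hbW
    · exact Or.inl ⟨hb.1.1, hline a b ha (hnontriv a hA) hb hbW⟩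

end Cfsg.Agent.S5045
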