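import Cfsg.Statements.S5046
import Cfsg.Agent.H98.RootInvClass

set_option autoImplicit false
open Cfsg

namespace Cfsg.Agent.S5046

/-- Let G be a finite group generated by a set D of root involutions whose odd-order-product graph is connected, and d ∈ D. Then the members e of D with the same commuting members as d are exactly those for which the union of the commuting members of d and the members whose product with d has order 4 equals the corresponding union for e. -/
theorem result {G : Type*} [Group G] [Finite G] {D : Set G} (hD : Cfsg.IsRootInvolutionSet D)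
    (hc : Cfsg.IsConnectedSet (Cfsg.OddAdj D) D) {d : G} (hd : d ∈ D) :
    Cfsg.sameCommutingClass D d =
      {e | e ∈ D ∧ Cfsg.commutingMembers D d ∪ Cfsg.fourPartners D d = Cfsg.commutingMembers D e ∪ Cfsg.fourPartners D e} := by
  have hcov : ∀ a ∈ D, commutingMembers D a ∪ fourPartners D a = D \ oddPartners D a := by
    intro a ha
    ext x
    constructor
    · rintro (⟨hx, hxa⟩ | ⟨hx, h4⟩)
      · exact ⟨hx, fun h => H98.not_commute_of_oddPartners hD ha h (Commute.symm hxa)⟩
      · exact ⟨hx, fun h => absurd h.2.2 (by rw [h4]; decide)⟩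
    · rintro ⟨hx, hn⟩
      rcases hD.pair a ha x hx with h | h | ⟨h, -⟩
      · exact Or.inl ⟨hx, h.symm⟩
      · by_cases he : x = a
        · exact Or.inl ⟨hx, by rw [he]⟩
        · exact absurd ⟨hx, he, h⟩ hn
      · exact Or.inr ⟨hx, h⟩
  ext e
  simp only [sameCommutingClass, Set.mem_setOf_eq]
  constructor
  · rintro ⟨he, h⟩
    refine ⟨he, ?_⟩
    rw [hcov d hd, hcov e he,
      Set.Subset.antisymm (H98.oddPartners_subset_of_commuting_eq hD hd he h)
        (H98.oddPartners_subset_of_commuting_eq hD he hd h.symm)]
  · rintro ⟨he, h⟩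
    rw [hcov d hd, hcov e he] at h
    have hsub : ∀ a, oddPartners D a ⊆ D := fun a x hx => hx.1
    have hA : H98.SameOdd D d e :=
      ⟨hd, he, by rw [← Set.sdiff_sdiff_cancel_left (hsub d), h, Set.sdiff_sdiff_cancel_left (hsub e)]⟩
    exact ⟨he, Set.Subset.antisymm (H98.commutingMembers_eq_of_sameOdd hD hc hA)
      (H98.commutingMembers_eq_of_sameOdd hD hc hA.symm)⟩

end Cfsg.Agent.S5046
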