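import Cfsg.Statements.S5048
import Cfsg.Agent.H98.RootInvLine
import Cfsg.Agent.H1.Cores

set_option autoImplicit false
open Cfsg

namespace Cfsg.Agent.S5048

/-- Let G be a finite group generated by a set D of root involutions whose odd-order-product graph is connected, with some product of two different commuting members of D again in D. Then the largest solvable normal subgroup of G is the preimage of the centre of G/O₂(G), and the quotient of G by it is a simple group. -/
theorem result {G : Type*} [Group G] [Finite G] {D : Set G} (hD : Cfsg.IsRootInvolutionSet D)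
    (hc : Cfsg.IsConnectedSet (Cfsg.OddAdj D) D) (hDD : (D ∩ Cfsg.commutingProducts D).Nonempty) :
    Cfsg.solvableRadical G = Cfsg.twoZCore G ∧ IsSimpleGroup (G ⧸ Cfsg.twoZCore G) := by
  have o := hD.orderOf_eq
  obtain ⟨c, hcD, a, ha, b, hb, hab, hab1, rfl⟩ := hDD
  have hconj : ∀ {x y : G}, x ∈ D → y ∈ D → ∃ g : G, g * x * g⁻¹ = y := fun hx hy =>
    isConj_iff.1 (H98.isConj_of_connected hD hc hx hy)
  -- perfect
  have hperf : commutator G = ⊤ := by
    rw [eq_top_iff, ← hD.generates, Subgroup.closure_le]
    intro d hd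
    rw [SetLike.mem_coe, ← Abelianization.ker_of G, MonoidHom.mem_ker]
    obtain ⟨g, hg⟩ := hconj ha hd
    obtain ⟨g₁, hg₁⟩ := hconj ha hb
    obtain ⟨g₂, hg₂⟩ := hconj ha hcD
    have e : ∀ g x : G, Abelianization.of (g * x * g⁻¹) = Abelianization.of x := fun g x => by
      rw [map_mul, map_mul, map_inv, mul_right_comm, mul_inv_cancel, one_mul]
    have h2 : Abelianization.of a * Abelianization.of a = Abelianization.of a :=
      calc Abelianization.of a * Abelianization.of a
          = Abelianization.of a * Abelianization.of b := by rw [← hg₁, e]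
        _ = Abelianization.of (g₂ * a * g₂⁻¹) := by rw [hg₂, map_mul]
        _ = Abelianization.of a := e _ _
    rw [← hg, e]
    exact mul_eq_left.1 h2
  haveI hGnt : Nontrivial G := ⟨⟨a, 1, H65.ne_one_of_two (o a ha)⟩⟩
  have hnsolv : ¬ Group.IsSolvable G := fun h => by
    have hlt := @Group.IsSolvable.commutator_lt_top_of_nontrivial G _ h hGnt
    exact hlt.ne hperf
  haveI hQn := H1.pCore_normal' 2 G
  have hQp := H1.isPGroup_pCore 2 G
  have hQs : Group.IsSolvable (Cfsg.pCore 2 G) := by
    haveI : Fact (Nat.Prime 2) := ⟨Nat.prime_two⟩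
    haveI := hQp.isNilpotent
    infer_instance
  have hTs : Group.IsSolvable (Cfsg.twoZCore G) := by
    let f : Cfsg.twoZCore G →* Subgroup.center (G ⧸ Cfsg.pCore 2 G) :=
      ((QuotientGroup.mk' (Cfsg.pCore 2 G)).comp (Cfsg.twoZCore G).subtype).codRestrict _
        fun x => x.2
    haveI : Group.IsSolvable (Subgroup.center (G ⧸ Cfsg.pCore 2 G)) :=
      Group.isSolvable_of_comm fun x y => mul_comm' x y
    refine Group.isSolvable_of_ker_le_range (Subgroup.inclusion (show Cfsg.pCore 2 G ≤ Cfsg.twoZCore G
      from fun x hx => by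
        show (QuotientGroup.mk' (Cfsg.pCore 2 G)) x ∈ Subgroup.center _
        rw [QuotientGroup.mk'_apply, (QuotientGroup.eq_one_iff x).2 hx]
        exact one_mem _)) f ?_
    intro x hx
    have h1 : (QuotientGroup.mk' (Cfsg.pCore 2 G)) x = 1 := congrArg Subtype.val hx
    exact ⟨⟨x, (QuotientGroup.eq_one_iff _).1 h1⟩, rfl⟩
  have htop : Cfsg.twoZCore G ≠ ⊤ := fun h => hnsolv (by
    rw [h] at hTs
    exact Group.isSolvable_of_surjective (f := (⊤ : Subgroup G).subtype)
      (fun x => ⟨⟨x, trivial⟩, rfl⟩))
  -- normal subgroups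
  have key : ∀ N : Subgroup G, N.Normal → N = ⊤ ∨ N ≤ Cfsg.twoZCore G := by
    intro N hN
    by_cases hd0 : ∃ d ∈ D, d ∈ N
    · obtain ⟨d, hd, hdN⟩ := hd0
      refine Or.inl (eq_top_iff.2 ?_)
      rw [← hD.generates, Subgroup.closure_le]
      intro x hx
      obtain ⟨g, rfl⟩ := hconj hd hx
      exact hN.conj_mem d hdN g
    right
    push Not at hd0
    -- members congruent modulo `N` commute
    have hcom : ∀ d ∈ D, ∀ n ∈ N, Commute d (n * d * n⁻¹) := by
      intro d hd n hn
      have hd' := hD.conj_mem d hd n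
      have hdd : d * (n * d * n⁻¹) ∈ N := by
        rw [show d * (n * d * n⁻¹) = (d * n * d) * n⁻¹ by group]
        refine N.mul_mem ?_ (N.inv_mem hn)
        have := hN.conj_mem n hn d
        rwa [H65.inv_of_two (o d hd)] at this
      rcases hD.pair d hd _ hd' with h | h | ⟨-, h⟩
      · exact h
      · by_contra hnc
        have hodd : n * d * n⁻¹ ∈ Cfsg.oddPartners D d :=
          ⟨hd', fun e => hnc (by rw [e]), h⟩
        obtain ⟨g, hg⟩ := hconj ha hd
        obtain ⟨b', hb'def⟩ : ∃ b', b' = g * b * g⁻¹ := ⟨_, rfl⟩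
        have hb' : b' ∈ D := hb'def ▸ hD.conj_mem b hb g
        have hdb : Commute d b' := by rw [← hg, hb'def]; exact (Commute.conj_iff g).2 hab
        have hdb' : d * b' ∈ D := by
          rw [← hg, hb'def, show g * a * g⁻¹ * (g * b * g⁻¹) = g * (a * b) * g⁻¹ by group]
          exact hD.conj_mem _ hcD g
        have aux : ∀ e ∈ D, Commute e d → n * d * n⁻¹ ∈ Cfsg.oddPartners D e → e * d ∈ N := by
          intro e he hed hodd'
          obtain ⟨k, hk⟩ := hodd'.2.2
          have hq : (QuotientGroup.mk' N) (e * (n * d * n⁻¹)) = (QuotientGroup.mk' N) (e * d) := by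
            rw [map_mul, map_mul, map_mul, map_mul, map_inv,
              show (QuotientGroup.mk' N) n = 1 from (QuotientGroup.eq_one_iff n).2 hn, one_mul,
              inv_one, mul_one]
          have h1 := congrArg (QuotientGroup.mk' N) (pow_orderOf_eq_one (e * (n * d * n⁻¹)))
          rw [map_one, map_pow, hq, ← map_pow, hk, pow_succ, pow_mul, sq,
            show e * d * (e * d) = 1 by
              calc e * d * (e * d) = e * (d * e) * d := by group
                _ = e * e * (d * d) := by rw [← hed.eq]; group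
                _ = 1 := by rw [H65.mul_self_of_two (o e he), H65.mul_self_of_two (o d hd), one_mul],
            one_pow, one_mul] at h1
          exact (QuotientGroup.eq_one_iff _).1 h1
        rcases H98.line_or hD hd hb' hdb hdb' hodd with h1 | h1
        · have h2 := aux b' hb' hdb.symm h1
          rw [← hdb.eq] at h2
          exact hd0 _ hdb' h2
        · have h2 := aux _ hdb' ((Commute.refl d).mul_left hdb.symm) h1
          rw [hdb.eq, mul_assoc, H65.mul_self_of_two (o d hd), mul_one] at h2
          exact hd0 _ hb' h2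
      · exact absurd (N.pow_mem hdd 2) (hd0 _ h)
    have hcore : ∀ d ∈ D, ∀ n ∈ N, n * d * n⁻¹ * d ∈ Cfsg.pCore 2 G := by
      intro d hd n hn
      obtain ⟨C, hC⟩ : ∃ C : Set G, C = {x | ∃ m ∈ N, m * d * m⁻¹ = x} := ⟨_, rfl⟩
      have hCN : ∀ m ∈ N, ∀ x ∈ C, m * x * m⁻¹ ∈ C := by
        subst hC
        rintro m hm x ⟨m', hm', rfl⟩
        exact ⟨m * m', N.mul_mem hm hm', by group⟩
      have hCc : ∀ x ∈ C, ∀ y ∈ C, Commute x y := by
        subst hC
        rintro x ⟨m, hm, rfl⟩ y ⟨m', hm', rfl⟩
        have h1 := (Commute.conj_iff m).2 (hcom d hd (m⁻¹ * m') (N.mul_mem (N.inv_mem hm) hm'))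
        rwa [show m * (m⁻¹ * m' * d * (m⁻¹ * m')⁻¹) * m⁻¹ = m' * d * m'⁻¹ by group] at h1
      have hC2 : ∀ x ∈ C, x * x = 1 := by
        subst hC
        rintro x ⟨m, -, rfl⟩
        exact H65.mul_self_of_two (H65.two_conj (o d hd) m)
      have hP2 : ∀ z ∈ Subgroup.closure C, z * z = 1 := by
        haveI : IsMulCommutative (Subgroup.closure C) :=
          Subgroup.isMulCommutative_closure fun x hx y hy => (hCc x hx y hy).eq
        intro z hz
        induction hz using Subgroup.closure_induction with
        | mem x hx => exact hC2 x hx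
        | one => exact one_mul 1
        | mul u v hu hv iu iv =>
          have huv : u * v = v * u :=
            congrArg Subtype.val (mul_comm' (⟨u, hu⟩ : Subgroup.closure C) ⟨v, hv⟩)
          calc u * v * (u * v) = u * (v * u) * v := by group
            _ = u * u * (v * v) := by rw [← huv]; group
            _ = 1 := by rw [iu, iv, one_mul]
        | inv u _ iu => rw [← mul_inv_rev, iu, inv_one]
      obtain ⟨M, hM⟩ : ∃ M : Subgroup N, M = (Subgroup.closure C).subgroupOf N := ⟨_, rfl⟩
      haveI hMn : M.Normal := by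
        subst hM
        refine ⟨fun x hx m => ?_⟩
        rw [Subgroup.mem_subgroupOf] at hx ⊢
        have h1 := Subgroup.mem_normalizer_iff.1 (H65.mem_normalizer_closure (hCN m m.2)) x
        exact h1.1 hx
      have hMp : IsPGroup 2 M := fun z => ⟨1, by
        apply Subtype.ext; apply Subtype.ext
        have h1 : ((z : N) : G) ∈ Subgroup.closure C :=
          Subgroup.mem_subgroupOf.1 ((le_of_eq hM) z.2)
        rw [pow_one, sq]
        exact hP2 _ h1⟩
      haveI := H1.pCore_characteristic 2 N
      have hle : (Cfsg.pCore 2 N).map N.subtype ≤ Cfsg.pCore 2 G :=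
        H1.le_pCore ((H1.isPGroup_pCore 2 N).map _)
      have hmem : n * d * n⁻¹ * d ∈ N := by
        rw [show n * d * n⁻¹ * d = n * (d * n⁻¹ * d) by group]
        refine N.mul_mem hn ?_
        have := hN.conj_mem _ (N.inv_mem hn) d
        rwa [H65.inv_of_two (o d hd)] at this
      refine hle ⟨⟨_, hmem⟩, H1.le_pCore hMp ?_, rfl⟩
      rw [hM, Subgroup.mem_subgroupOf]
      exact Subgroup.mul_mem _ (Subgroup.subset_closure (hC ▸ ⟨n, hn, rfl⟩))
        (Subgroup.subset_closure (hC ▸ ⟨1, N.one_mem, by group⟩))
    intro n hn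
    show (QuotientGroup.mk' (Cfsg.pCore 2 G)) n ∈ Subgroup.center _
    rw [Subgroup.mem_center_iff]
    intro z
    obtain ⟨x, rfl⟩ := QuotientGroup.mk'_surjective (Cfsg.pCore 2 G) z
    have hx : x ∈ Subgroup.closure D := by rw [hD.generates]; trivial
    induction hx using Subgroup.closure_induction with
    | mem d hd =>
      have h1 := (QuotientGroup.eq_one_iff _).2 (hcore d hd n hn)
      change (QuotientGroup.mk' (Cfsg.pCore 2 G)) (n * d * n⁻¹ * d) = 1 at h1
      rw [map_mul, map_mul, map_mul, map_inv, mul_eq_one_iff_eq_inv, ← map_inv,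
        ← map_inv, H65.inv_of_two (o d hd), map_inv, mul_inv_eq_iff_eq_mul] at h1
      exact h1.symm
    | one => rw [map_one, one_mul, mul_one]
    | mul u v _ _ iu iv => rw [map_mul, mul_assoc, iv, ← mul_assoc, iu, mul_assoc]
    | inv u _ iu => rw [map_inv]; exact (Commute.inv_left (iu : Commute _ _)).eq
  constructor
  · refine le_antisymm (sSup_le fun N hN => ?_) (le_sSup ⟨inferInstance, hTs⟩)
    rcases key N hN.1 with h | h
    · exfalso
      subst h
      haveI := hN.2
      exact hnsolv (Group.isSolvable_of_surjective (f := (⊤ : Subgroup G).subtype)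
        (fun x => ⟨⟨x, trivial⟩, rfl⟩))
    · exact h
  · haveI : Nontrivial (G ⧸ Cfsg.twoZCore G) := QuotientGroup.nontrivial_iff.2 htop
    refine ⟨fun H hH => ?_⟩
    have hs := QuotientGroup.mk'_surjective (Cfsg.twoZCore G)
    rcases key (H.comap (QuotientGroup.mk' _)) (hH.comap _) with h | h
    · right
      rw [← Subgroup.map_comap_eq_self_of_surjective hs H, h,
        Subgroup.map_top_of_surjective _ hs]
    · left
      rw [← Subgroup.map_comap_eq_self_of_surjective hs H, Subgroup.map_eq_bot_iff,
        QuotientGroup.ker_mk']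
      exact h
end Cfsg.Agent.S5048
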