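import Cfsg.Statements.S5049
import Cfsg.Agent.H98.RootInvClass

set_option autoImplicit false
open Cfsg

namespace Cfsg.Agent.S5049

/-- Let G be a finite group generated by a set D of odd transpositions (root involutions with no product of order 4), Q = O₂(G), and for a ∈ D let Q_a be the commutator subgroup of Q with a. Then every member of D commuting with a centralizes Q_a; and for b ∈ D with ab of odd order greater than 1, the centralizer of ab in Q is the intersection of the centralizers of a and b in Q. -/
theorem result {G : Type*} [Group G] [Finite G] {D : Set G} (hD : Cfsg.IsOddTranspositionSet D) {a : G} (ha : a ∈ D) :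
    (∀ e ∈ Cfsg.commutingMembers D a, ∀ q ∈ ⁅Cfsg.pCore 2 G, Subgroup.zpowers a⁆, e * q = q * e) ∧
    (∀ b ∈ Cfsg.oddPartners D a,
      Cfsg.pCore 2 G ⊓ Subgroup.centralizer {a * b} = Cfsg.pCore 2 G ⊓ Subgroup.centralizer {a} ⊓ Subgroup.centralizer {b}) := by
  have o := hD.1.orderOf_eq
  haveI hQn := H1.pCore_normal' 2 G
  obtain ⟨Q, hQ⟩ : ∃ Q, Q = Cfsg.pCore 2 G := ⟨_, rfl⟩
  rw [← hQ]
  have hQ2 : ∀ x ∈ Q, Odd (orderOf x) → x = 1 := by
    intro x hx hodd
    obtain ⟨n, hn⟩ := (H1.isPGroup_pCore 2 G) ⟨x, by rwa [← hQ]⟩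
    obtain ⟨m, -, hm⟩ := (Nat.dvd_prime_pow Nat.prime_two).1
      (orderOf_dvd_of_pow_eq_one (congrArg Subtype.val hn : x ^ 2 ^ n = 1))
    rw [hm] at hodd
    have hm0 : m = 0 := by
      by_contra hne
      exact Nat.not_odd_iff_even.2 (Even.pow_of_ne_zero even_two hne) hodd
    rwa [hm0, pow_zero, orderOf_eq_one_iff] at hm
  have hQc : ∀ q ∈ Q, ∀ g : G, g * q * g⁻¹ ∈ Q := fun q hq g => by
    rw [hQ] at hq ⊢; exact hQn.conj_mem q hq g
  -- two members congruent modulo `Q` commute
  have hcong : ∀ u ∈ D, ∀ v ∈ D, u * v ∈ Q → Commute u v := by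
    intro u hu v hv h
    rcases hD.1.pair u hu v hv with h' | h' | ⟨h', -⟩
    · exact h'
    · have := hQ2 _ h h'
      rw [mul_eq_one_iff_eq_inv, H65.inv_of_two (o v hv)] at this
      rw [this]
    · exact absurd h' (hD.2 u hu v hv)
  have ha2 := H65.mul_self_of_two (o a ha)
  have hcq : ∀ q ∈ Q, q * a * q⁻¹ * a ∈ Q := fun q hq => by
    rw [show q * a * q⁻¹ * a = q * (a * q⁻¹ * a) by group]
    refine Q.mul_mem hq ?_
    have := hQc _ (Q.inv_mem hq) a
    rwa [H65.inv_of_two (o a ha)] at this
  refine ⟨fun e he q hq => ?_, fun b hb => ?_⟩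
  · have hle : ⁅Q, Subgroup.zpowers a⁆ ≤ Subgroup.centralizer {e} := by
      rw [Subgroup.commutator_le]
      intro q hq z hz
      rw [Subgroup.mem_centralizer_singleton_iff]
      obtain ⟨n, rfl⟩ := Subgroup.mem_zpowers_iff.1 hz
      rcases Int.even_or_odd n with ⟨m, rfl⟩ | ⟨m, rfl⟩
      · have e0 : a ^ (m + m) = 1 := by
          rw [← two_mul, zpow_mul, zpow_two, ha2, one_zpow]
        rw [e0]
        simp
      · have e1 : a ^ (2 * m + 1) = a := by
          rw [zpow_add, zpow_mul, zpow_two, ha2, one_zpow, one_mul, zpow_one]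
        rw [e1, commutatorElement_def, H65.inv_of_two (o a ha)]
        have ha' : q * a * q⁻¹ ∈ D := hD.1.conj_mem a ha q
        have hea' : Commute e (q * a * q⁻¹) := by
          rcases hD.1.pair e he.1 _ ha' with h | h | ⟨h, -⟩
          · exact h
          · -- `(e a')^2 ≡ (e a)^2 = 1` modulo `Q`
            have hu : Commute e a := he.2
            have hmem : (e * (q * a * q⁻¹)) ^ 2 ∈ Q := by
              have h2 : e * (q * a * q⁻¹) = (e * (q * a * q⁻¹ * a) * e⁻¹) * (e * a) := by
                simp only [mul_assoc, inv_mul_cancel_left, ha2, mul_one]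
              rw [h2]
              have hx := hQc _ (hcq q hq) e
              generalize e * (q * a * q⁻¹ * a) * e⁻¹ = x at hx
              have hea2 : (e * a) * (e * a) = 1 := by
                rw [← mul_assoc, mul_assoc e a e, ← hu.eq, ← mul_assoc e e,
                  H65.mul_self_of_two (o e he.1), one_mul, ha2]
              rw [sq, show x * (e * a) * (x * (e * a)) =
                x * ((e * a) * x * (e * a)⁻¹) * ((e * a) * (e * a)) by group, hea2, mul_one]
              exact Q.mul_mem hx (hQc x hx _)
            have h1 : (e * (q * a * q⁻¹)) ^ 2 = 1 := by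
              refine hQ2 _ hmem ?_
              exact h.of_dvd_nat (orderOf_pow_dvd 2)
            rw [sq] at h1
            have := inv_eq_of_mul_eq_one_right h1
            rw [mul_inv_rev, H65.inv_of_two (o _ ha'), H65.inv_of_two (o e he.1)] at this
            exact this.symm
          · exact absurd h (hD.2 e he.1 _ ha')
        exact (hea'.mul_right he.2).symm
    exact (Subgroup.mem_centralizer_singleton_iff.1 (hle hq)).symm
  · have hab := hb.2.2
    apply le_antisymm
    · rintro q ⟨hq, hc⟩
      have hc' : Commute q (a * b) := Subgroup.mem_centralizer_singleton_iff.1 hc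
      have hqa : Commute q a := by
        have ha' : q * a * q⁻¹ ∈ D := hD.1.conj_mem a ha q
        have hz := hcong _ ha' a ha (hcq q hq)
        obtain ⟨z, hzdef⟩ : ∃ z, z = q * a * q⁻¹ * a := ⟨_, rfl⟩
        have hz2 : z * z = 1 := by
          rw [hzdef]
          calc q * a * q⁻¹ * a * (q * a * q⁻¹ * a) = (a * (q * a * q⁻¹)) * (q * a * q⁻¹ * a) := by
                rw [hz.eq]
            _ = a * (q * (a * a) * q⁻¹) * a := by group
            _ = 1 := by rw [ha2, mul_one, mul_inv_cancel, mul_one, ha2]
        have hza : Commute z a := by rw [hzdef]; exact hz.mul_left (Commute.refl a)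
        have hzt : Commute z (a * b) := by
          -- `a` and `a'` both invert `a * b`
          have hinv : a * (a * b) * a⁻¹ = (a * b)⁻¹ := H65.conj_prod (o a ha) (o b hb.1)
          have hinv' : (q * a * q⁻¹) * (a * b) * (q * a * q⁻¹)⁻¹ = (a * b)⁻¹ := by
            have e : q * (a * b) * q⁻¹ = a * b := by rw [hc'.eq]; group
            calc (q * a * q⁻¹) * (a * b) * (q * a * q⁻¹)⁻¹
                = (q * a * q⁻¹) * (q * (a * b) * q⁻¹) * (q * a * q⁻¹)⁻¹ := by rw [e]
              _ = q * (a * (a * b) * a⁻¹) * q⁻¹ := by group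
              _ = (q * (a * b) * q⁻¹)⁻¹ := by rw [hinv]; group
              _ = (a * b)⁻¹ := by rw [e]
          have h5 : z * (a * b) * z⁻¹ = a * b := by
            rw [hzdef]
            calc q * a * q⁻¹ * a * (a * b) * (q * a * q⁻¹ * a)⁻¹
                = (q * a * q⁻¹) * (a * (a * b) * a⁻¹) * (q * a * q⁻¹)⁻¹ := by group
              _ = ((q * a * q⁻¹) * (a * b) * (q * a * q⁻¹)⁻¹)⁻¹ := by rw [hinv]; group
              _ = a * b := by rw [hinv', inv_inv]
          exact mul_inv_eq_iff_eq_mul.1 h5
        have hzb : Commute z b := by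
          have := hza.mul_right hzt
          rwa [← mul_assoc, ha2, one_mul] at this
        have hz1 : z = 1 := by
          by_contra hz1
          have hne : orderOf (a * b) ≠ 1 := by
            intro h1
            rw [orderOf_eq_one_iff, mul_eq_one_iff_eq_inv, H65.inv_of_two (o b hb.1)] at h1
            exact hb.2.1 h1.symm
          have e' : q * a * q⁻¹ * b = z * (a * b) := by
            rw [hzdef, mul_assoc (q * a * q⁻¹) a (a * b), ← mul_assoc a a, ha2, one_mul]
          have hord : orderOf (z * (a * b)) = 2 * orderOf (a * b) := by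
            have hzo : orderOf z = 2 := H65.two_iff.2 ⟨hz2, hz1⟩
            rw [Commute.orderOf_mul_eq_mul_orderOf_of_coprime hzt, hzo]
            rw [hzo]; exact (Nat.coprime_two_left).2 hab
          rcases hD.1.pair _ ha' b hb.1 with h | h | ⟨h, -⟩
          · have h2 : (q * a * q⁻¹ * b) ^ 2 = 1 := by
              rw [(show Commute (q * a * q⁻¹) b from h).mul_pow, sq, sq,
                H65.mul_self_of_two (o _ ha'), H65.mul_self_of_two (o b hb.1), one_mul]
            rw [e'] at h2
            have hd := orderOf_dvd_of_pow_eq_one h2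
            rw [hord] at hd
            exact hne (Nat.eq_one_of_mul_eq_one_left (m := 1) (by
              have := Nat.dvd_one.1 ((Nat.mul_dvd_mul_iff_left (by norm_num : 0 < 2)).1
                (by simpa using hd : 2 * orderOf (a * b) ∣ 2 * 1))
              omega))
          · rw [e', hord] at h
            exact Nat.not_odd_iff_even.2 ⟨orderOf (a * b), two_mul _⟩ h
          · exact hD.2 _ ha' b hb.1 h
        rw [hzdef, mul_eq_one_iff_eq_inv, H65.inv_of_two (o a ha), mul_inv_eq_iff_eq_mul] at hz1
        exact hz1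
      refine ⟨⟨hq, Subgroup.mem_centralizer_singleton_iff.2 hqa⟩,
        Subgroup.mem_centralizer_singleton_iff.2 ?_⟩
      have := hqa.mul_right hc'
      rwa [← mul_assoc, ha2, one_mul] at this
    · rintro q ⟨⟨hq, h1⟩, h2⟩
      exact ⟨hq, Subgroup.mem_centralizer_singleton_iff.2
        ((show Commute q a from Subgroup.mem_centralizer_singleton_iff.1 h1).mul_right
          (Subgroup.mem_centralizer_singleton_iff.1 h2))⟩

end Cfsg.Agent.S5049
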