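import Cfsg.Statements.S5057
import Cfsg.Agent.H98.A6
import Cfsg.Agent.H65.Dihedral

set_option autoImplicit false
open Cfsg

namespace Cfsg.Agent.S5057

/-- The involutions of the alternating group of degree 6 form a class of root involutions (a single conjugacy class of involutions generating the group, any two of which commute, have product of odd order, or have product of order 4 whose square is again an involution of the class), and the product of any two of them has order at most 5. -/
theorem result :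
    Cfsg.IsRootInvolutionClass {g : ↥(alternatingGroup (Fin 6)) | orderOf g = 2} ∧
    ∀ d ∈ {g : ↥(alternatingGroup (Fin 6)) | orderOf g = 2}, ∀ e ∈ {g : ↥(alternatingGroup (Fin 6)) | orderOf g = 2},
      orderOf (d * e) ≤ 5 := by
  set D : Set ↥(alternatingGroup (Fin 6)) := {g | orderOf g = 2} with hD
  have hord : ∀ x : ↥(alternatingGroup (Fin 6)), orderOf x ≤ 5 := by
    intro x
    rcases H98.a6_orders x.1 (Equiv.Perm.mem_alternatingGroup.1 x.2) with h | h | h
    · exact (orderOf_le_of_pow_eq_one (by norm_num) (Subtype.ext h : x ^ 3 = 1)).trans (by norm_num)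
    · exact (orderOf_le_of_pow_eq_one (by norm_num) (Subtype.ext h : x ^ 4 = 1)).trans (by norm_num)
    · exact orderOf_le_of_pow_eq_one (by norm_num) (Subtype.ext h : x ^ 5 = 1)
  obtain ⟨d₀, hd₀⟩ : ∃ d : ↥(alternatingGroup (Fin 6)),
      d.1 = Equiv.swap 0 1 * Equiv.swap 2 3 :=
    ⟨⟨_, Equiv.Perm.mem_alternatingGroup.2 (by decide)⟩, rfl⟩
  have hd₀D : d₀ ∈ D := orderOf_eq_prime (Subtype.ext (by
      show d₀.1 ^ 2 = 1
      rw [hd₀]; decide)) (fun h => by
      have h' : d₀.1 = 1 := congrArg Subtype.val h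
      rw [hd₀] at h'
      exact absurd h' (by decide))
  have hconj0 : ∀ d ∈ D, ∃ g, g * d₀ * g⁻¹ = d := by
    intro d hd
    obtain ⟨g, hg, he⟩ := H98.a6_invol_conj d.1 (Equiv.Perm.mem_alternatingGroup.1 d.2)
      (congrArg Subtype.val (hd ▸ pow_orderOf_eq_one d : d ^ 2 = 1))
      (fun h => by
        have h1 : d = 1 := Subtype.ext h
        have hd' : orderOf d = 2 := hd
        rw [h1, orderOf_one] at hd'
        omega)
    refine ⟨⟨g, Equiv.Perm.mem_alternatingGroup.2 hg⟩, Subtype.ext ?_⟩
    show g * d₀.1 * g⁻¹ = d.1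
    rw [hd₀, he, mul_inv_cancel_right]
  have hconj : ∀ d ∈ D, ∀ g, g * d * g⁻¹ ∈ D := by
    intro d hd g
    show orderOf (g * d * g⁻¹) = 2
    rw [← MulAut.conj_apply, MulEquiv.orderOf_eq]
    exact hd
  refine ⟨⟨⟨fun d hd => hd, ?_, hconj, ?_⟩, ⟨d₀, hd₀D⟩, ?_⟩, fun d _ e _ => hord _⟩
  · haveI := alternatingGroup.isSimpleGroup (α := Fin 6) (by simp)
    have hn : (Subgroup.closure D).Normal := by
      refine ⟨fun x hx g => ?_⟩
      have : (Subgroup.closure D).map (MulAut.conj g).toMonoidHom ≤ Subgroup.closure D := by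
        rw [MonoidHom.map_closure, Subgroup.closure_le]
        rintro _ ⟨d, hd, rfl⟩
        exact Subgroup.subset_closure (hconj d hd g)
      exact this ⟨x, hx, rfl⟩
    refine (hn.eq_bot_or_eq_top).resolve_left fun h => ?_
    have h1 : d₀ ∈ Subgroup.closure D := Subgroup.subset_closure hd₀D
    rw [h, Subgroup.mem_bot] at h1
    have h2 : orderOf d₀ = 2 := hd₀D
    rw [h1, orderOf_one] at h2
    omega
  · intro a ha b hb
    have h5 := hord (a * b)
    have hpos := orderOf_pos (a * b)
    have ha' : orderOf a = 2 := ha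
    have hb' : orderOf b = 2 := hb
    have hab : ∀ n, orderOf (a * b) = n → n ≤ 2 → a * b = b * a := by
      intro n hn hle
      have h2 : (a * b) ^ 2 = 1 := by
        apply orderOf_dvd_iff_pow_eq_one.1
        rcases (by omega : orderOf (a * b) = 1 ∨ orderOf (a * b) = 2) with e | e <;> rw [e]
        exact one_dvd _
      rw [sq] at h2
      calc a * b = (a * b)⁻¹ := (inv_eq_of_mul_eq_one_right h2).symm
        _ = b * a := by rw [mul_inv_rev, H65.inv_of_two ha', H65.inv_of_two hb']
    rcases (by omega : orderOf (a * b) = 1 ∨ orderOf (a * b) = 2 ∨ orderOf (a * b) = 3 ∨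
        orderOf (a * b) = 4 ∨ orderOf (a * b) = 5) with h | h | h | h | h
    · exact Or.inl (hab _ h (by norm_num))
    · exact Or.inl (hab _ h le_rfl)
    · exact Or.inr (Or.inl (by rw [h]; decide))
    · refine Or.inr (Or.inr ⟨h, ?_⟩)
      show orderOf ((a * b) ^ 2) = 2
      rw [orderOf_pow_of_dvd (by norm_num) (by rw [h]; norm_num), h]
    · exact Or.inr (Or.inl (by rw [h]; decide))
  · intro a ha b hb
    obtain ⟨g, rfl⟩ := hconj0 a ha
    obtain ⟨g', rfl⟩ := hconj0 b hb
    exact ⟨g' * g⁻¹, by group⟩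

end Cfsg.Agent.S5057
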