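import Cfsg.Statements.S5059


set_option autoImplicit false
universe u
open Cfsg

namespace Cfsg.Agent.S5059

/-- Let k be a field of characteristic not 2 with k not of order 3, M a finite-dimensional k-vector space and G ≤ GL(M) such that (G, M) is a quadratic pair (M irreducible for G, and G generated by its quadratically acting elements σ whose scalar family 1 + c(σ − 1), c ∈ k, lies in G). Write 𝒬_d for the quadratic elements of G of minimal commutator rank, E(σ) for the subgroup generated by the members of 𝒬_d with the same fixed space and commutator space as σ, and Σ for the set of these subgroups. Then for σ ∈ 𝒬_d the subgroup E(σ) consists exactly of those members together with the identity, it is abelian, and if k has prime characteristic p every element of E(σ) has order dividing p. -/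
theorem result {k : Type u} [Field k] (hk2 : ringChar k ≠ 2) (hk3 : Nat.card k ≠ 3)
    {M : Type u} [AddCommGroup M] [Module k M] [FiniteDimensional k M]
    {G : Subgroup (LinearMap.GeneralLinearGroup k M)} (hG : Cfsg.IsQuadraticPair G)
    {σ : LinearMap.GeneralLinearGroup k M} (hσ : σ ∈ Cfsg.minimalQuadraticElements G) :
    (Cfsg.sameActionSubgroup G σ : Set (LinearMap.GeneralLinearGroup k M)) = Cfsg.sameActionClass G σ ∪ {1} ∧
    IsMulCommutative ↥(Cfsg.sameActionSubgroup G σ) ∧
    (∀ p : ℕ, p.Prime → ringChar k = p → ∀ x ∈ Cfsg.sameActionSubgroup G σ, x ^ p = 1) := by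
  have hσq := hσ.1
  obtain ⟨s, hsdef⟩ : ∃ s, s = (σ : M →ₗ[k] M) - 1 := ⟨_, rfl⟩
  set C : Set (LinearMap.GeneralLinearGroup k M) := sameActionClass G σ ∪ {1} with hC
  have hmem : ∀ x, x ∈ C ↔ x = 1 ∨ x ∈ sameActionClass G σ := by
    intro x; rw [hC, Set.mem_union, Set.mem_singleton_iff]; tauto
  have hmul : ∀ x ∈ sameActionClass G σ, ∀ y ∈ sameActionClass G σ,
      ((x : M →ₗ[k] M) - 1) * ((y : M →ₗ[k] M) - 1) = 0 := by
    intro x hx y hy
    ext m
    show ((x : M →ₗ[k] M) - 1) (((y : M →ₗ[k] M) - 1) m) = 0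
    rw [← LinearMap.mem_ker]
    have h1 : ((y : M →ₗ[k] M) - 1) m ∈ LinearMap.range ((x : M →ₗ[k] M) - 1) := by
      rw [hx.2.2, ← hy.2.2]; exact ⟨m, rfl⟩
    obtain ⟨u, hu⟩ := h1
    rw [← hu, LinearMap.mem_ker]
    exact LinearMap.congr_fun hx.1.1.2.1.1 u
  have hmul' : ∀ x ∈ sameActionClass G σ, ∀ y ∈ sameActionClass G σ,
      ((x * y : LinearMap.GeneralLinearGroup k M) : M →ₗ[k] M) - 1 =
        ((x : M →ₗ[k] M) - 1) + ((y : M →ₗ[k] M) - 1) := by
    intro x hx y hy
    have h := hmul x hx y hy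
    rw [Units.val_mul]
    calc (x : M →ₗ[k] M) * (y : M →ₗ[k] M) - 1
        = ((x : M →ₗ[k] M) - 1) * ((y : M →ₗ[k] M) - 1) +
          (((x : M →ₗ[k] M) - 1) + ((y : M →ₗ[k] M) - 1)) := by noncomm_ring
      _ = _ := by rw [h, zero_add]
  have hscal : ∀ x ∈ sameActionClass G σ, ∀ c : k, ∃ u : LinearMap.GeneralLinearGroup k M,
      (u : M →ₗ[k] M) = 1 + c • ((x : M →ₗ[k] M) - 1) ∧ u ∈ G := by
    intro x hx c
    have h2 := hx.1.1.2.1.1
    refine ⟨⟨1 + c • ((x : M →ₗ[k] M) - 1), 1 + (-c) • ((x : M →ₗ[k] M) - 1), ?_, ?_⟩, rfl,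
      hx.1.1.2.2 ⟨c, rfl⟩⟩
    · rw [add_mul, one_mul, mul_add, mul_one, smul_mul_smul_comm, h2, smul_zero, add_zero,
        add_assoc, ← add_smul, neg_add_cancel, zero_smul, add_zero]
    · rw [add_mul, one_mul, mul_add, mul_one, smul_mul_smul_comm, h2, smul_zero, add_zero,
        add_assoc, ← add_smul, add_neg_cancel, zero_smul, add_zero]
  have hclosed : ∀ x ∈ sameActionClass G σ, ∀ y ∈ sameActionClass G σ, x * y ∈ C := by
    intro x hx y hy
    rw [hmem]
    by_cases he : x * y = 1
    · exact Or.inl he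
    refine Or.inr ?_
    have he' := hmul' x hx y hy
    set d : M →ₗ[k] M := ((x * y : LinearMap.GeneralLinearGroup k M) : M →ₗ[k] M) - 1 with hd
    have hne : d ≠ 0 := fun h => he (Units.ext (sub_eq_zero.1 h))
    have hd2 : d * d = 0 := by
      rw [he', add_mul, mul_add, mul_add, hmul x hx x hx, hmul x hx y hy, hmul y hy x hx,
        hmul y hy y hy, add_zero, add_zero]
    have hqe : (x * y) ∈ quadraticElements G := by
      refine ⟨G.mul_mem hx.1.1.1 hy.1.1.1, ⟨hd2, hne⟩, ?_⟩
      rintro t ⟨c, hc⟩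
      obtain ⟨u, hu, huG⟩ := hscal x hx c
      obtain ⟨v, hv, hvG⟩ := hscal y hy c
      have : t = u * v := by
        apply Units.ext
        rw [Units.val_mul, hu, hv, hc, ← hd, he']
        simp only [add_mul, mul_add, one_mul, mul_one, smul_add, smul_mul_smul_comm,
          hmul x hx y hy, smul_zero, add_zero]
        abel
      rw [this]; exact G.mul_mem huG hvG
    have hrange : LinearMap.range d ≤ LinearMap.range ((σ : M →ₗ[k] M) - 1) := by
      rintro _ ⟨m, rfl⟩
      rw [he', LinearMap.add_apply]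
      exact Submodule.add_mem _ (by rw [← hx.2.2]; exact ⟨m, rfl⟩) (by rw [← hy.2.2]; exact ⟨m, rfl⟩)
    have hrk : commutatorRank σ ≤ commutatorRank (x * y) := hσ.2 _ hqe
    have hreq : LinearMap.range d = LinearMap.range ((σ : M →ₗ[k] M) - 1) :=
      Submodule.eq_of_le_of_finrank_le hrange hrk
    have hker : LinearMap.ker ((σ : M →ₗ[k] M) - 1) ≤ LinearMap.ker d := by
      intro m hm
      rw [LinearMap.mem_ker, he', LinearMap.add_apply]
      have h1 : m ∈ LinearMap.ker ((x : M →ₗ[k] M) - 1) := by rw [hx.2.1]; exact hm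
      have h2 : m ∈ LinearMap.ker ((y : M →ₗ[k] M) - 1) := by rw [hy.2.1]; exact hm
      rw [LinearMap.mem_ker.1 h1, LinearMap.mem_ker.1 h2, add_zero]
    refine ⟨⟨hqe, fun τ hτ => le_trans (le_of_eq ?_) (hσ.2 τ hτ)⟩, ?_, hreq⟩
    · show Module.finrank k (LinearMap.range d) = _
      rw [hreq]; rfl
    · refine (Submodule.eq_of_le_of_finrank_le hker ?_).symm
      have h1 := LinearMap.finrank_range_add_finrank_ker d
      have h2 := LinearMap.finrank_range_add_finrank_ker ((σ : M →ₗ[k] M) - 1)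
      rw [hreq] at h1
      linarith
  have hinv : ∀ x ∈ sameActionClass G σ, x⁻¹ ∈ sameActionClass G σ := by
    intro x hx
    have hi : ((x⁻¹ : LinearMap.GeneralLinearGroup k M) : M →ₗ[k] M) - 1 =
        -((x : M →ₗ[k] M) - 1) := by
      have h2 := hx.1.1.2.1.1
      have h3 : ((x⁻¹ : LinearMap.GeneralLinearGroup k M) : M →ₗ[k] M) = 1 - ((x : M →ₗ[k] M) - 1) := by
        apply Units.inv_eq_of_mul_eq_one_right
        calc (x : M →ₗ[k] M) * (1 - ((x : M →ₗ[k] M) - 1))
            = 1 - ((x : M →ₗ[k] M) - 1) * ((x : M →ₗ[k] M) - 1) := by noncomm_ring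
          _ = 1 := by rw [h2, sub_zero]
      rw [h3]; abel
    refine ⟨⟨⟨G.inv_mem hx.1.1.1, ⟨?_, ?_⟩, ?_⟩, fun τ hτ => ?_⟩, ?_, ?_⟩
    · rw [hi, neg_mul_neg]; exact hx.1.1.2.1.1
    · rw [hi, neg_ne_zero]; exact hx.1.1.2.1.2
    · rintro t ⟨c, hc⟩
      refine hx.1.1.2.2 ⟨-c, ?_⟩
      rw [hc, hi, smul_neg, neg_smul]
    · refine le_trans (le_of_eq ?_) (hx.1.2 τ hτ)
      show Module.finrank k (LinearMap.range _) = _
      rw [hi, LinearMap.range_neg]; rfl
    · rw [hi, LinearMap.ker_neg, hx.2.1]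
    · rw [hi, LinearMap.range_neg, hx.2.2]
  have hσσ : σ ∈ sameActionClass G σ := ⟨hσ, rfl, rfl⟩
  let S : Subgroup (LinearMap.GeneralLinearGroup k M) :=
    { carrier := C
      one_mem' := (hmem 1).2 (Or.inl rfl)
      mul_mem' := by
        intro x y hx hy
        rcases (hmem x).1 hx with rfl | hx'
        · simpa using hy
        rcases (hmem y).1 hy with rfl | hy'
        · simpa using hx
        · exact hclosed x hx' y hy'
      inv_mem' := by
        intro x hx
        rcases (hmem x).1 hx with rfl | hx'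
        · simpa using hx
        · exact (hmem _).2 (Or.inr (hinv x hx')) }
  have hS : sameActionSubgroup G σ = S := by
    refine le_antisymm ((Subgroup.closure_le _).2 fun x hx => (hmem x).2 (Or.inr hx)) fun x hx => ?_
    rcases (hmem x).1 hx with rfl | hx'
    · exact Subgroup.one_mem _
    · exact Subgroup.subset_closure hx'
  refine ⟨by rw [hS]; rfl, ?_, ?_⟩
  · refine ⟨⟨fun a b => Subtype.ext ?_⟩⟩
    have ha : (a : LinearMap.GeneralLinearGroup k M) ∈ C := hS.le a.2
    have hb : (b : LinearMap.GeneralLinearGroup k M) ∈ C := hS.le b.2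
    show (a : LinearMap.GeneralLinearGroup k M) * b = b * a
    rcases (hmem _).1 ha with h | ha'
    · rw [h, one_mul, mul_one]
    rcases (hmem _).1 hb with h | hb'
    · rw [h, one_mul, mul_one]
    apply Units.ext
    rw [← sub_left_inj (a := (1 : M →ₗ[k] M)), hmul' _ ha' _ hb', hmul' _ hb' _ ha', add_comm]
  · intro p hp hchar x hx
    rw [hS] at hx
    rcases (hmem _).1 hx with rfl | hx'
    · exact one_pow p
    apply Units.ext
    rw [Units.val_pow_eq_pow_val, Units.val_one]
    have h2 := hx'.1.1.2.1.1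
    have hpow : ∀ n : ℕ, ((x : M →ₗ[k] M)) ^ n = 1 + n • ((x : M →ₗ[k] M) - 1) := by
      intro n
      induction n with
      | zero => simp
      | succ n ih =>
        rw [pow_succ, ih]
        obtain ⟨t, ht⟩ : ∃ t, t = (x : M →ₗ[k] M) - 1 := ⟨_, rfl⟩
        rw [← ht] at h2 ⊢
        conv_lhs => rw [show (x : M →ₗ[k] M) = 1 + t by rw [ht]; abel]
        rw [mul_add, mul_one, add_mul, one_mul, smul_mul_assoc, h2, smul_zero, add_zero,
          succ_nsmul]
        abel
    rw [hpow p, ← Nat.cast_smul_eq_nsmul k, ← hchar, CharP.cast_eq_zero k (ringChar k), zero_smul,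
      add_zero]

end Cfsg.Agent.S5059
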