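import Cfsg.Statements.S5060
import Cfsg.Agent.H56.QPGen

set_option autoImplicit false
open Cfsg

namespace Cfsg.Agent.S5060

/-- Let k ⊆ K be fields with the characteristic of k not 2 and k not of order 3, and let α ∈ K be a non-zero element algebraic over k. Then the subgroup of SL₂(K) generated by the upper unitriangular matrices with entry c and the lower unitriangular matrices with entry cα, c ranging over k, is exactly the group of matrices of SL₂(K) with all entries in k(α). -/
theorem result {k K : Type*} [Field k] [Field K] [Algebra k K] (hk2 : ringChar k ≠ 2) (hk3 : Nat.card k ≠ 3)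
    (α : K) (hα : IsAlgebraic k α) (hα0 : α ≠ 0) :
    (Subgroup.closure ({g : Matrix.SpecialLinearGroup (Fin 2) K | ∃ c : k, (g : Matrix (Fin 2) (Fin 2) K) = !![1, algebraMap k K c; 0, 1]} ∪
        {g : Matrix.SpecialLinearGroup (Fin 2) K | ∃ c : k, (g : Matrix (Fin 2) (Fin 2) K) = !![1, 0; algebraMap k K c * α, 1]}) :
      Set (Matrix.SpecialLinearGroup (Fin 2) K)) =
    {g : Matrix.SpecialLinearGroup (Fin 2) K | ∀ i j : Fin 2, (g : Matrix (Fin 2) (Fin 2) K) i j ∈ IntermediateField.adjoin k ({α} : Set K)} := by
  set L := IntermediateField.adjoin k ({α} : Set K) with hL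
  haveI : FiniteDimensional k L := IntermediateField.adjoin.finiteDimensional hα.isIntegral
  let α' : L := ⟨α, IntermediateField.mem_adjoin_simple_self k α⟩
  have hgen : ∀ y : L, ∃ r : Polynomial k, y = Polynomial.aeval α' r := fun y =>
    (IntermediateField.adjoin.powerBasis hα.isIntegral).exists_eq_aeval' y
  have htop := H56Q.two_families_eq_top (H56Q.two_ne_zero' hk2) hk3 α'
    (fun h => hα0 (congrArg Subtype.val h)) hgen
  let f : Matrix.SpecialLinearGroup (Fin 2) L →* Matrix.SpecialLinearGroup (Fin 2) K :=
    Matrix.SpecialLinearGroup.map (algebraMap L K)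
  have hup : ∀ c : k, f (H56Q.upr (algebraMap k L c)) = H56Q.upr (algebraMap k K c) :=
    fun c => by rw [H56Q.map_upr]; rfl
  have hlow : ∀ c : k, f (H56Q.lwr (algebraMap k L c * α')) = H56Q.lwr (algebraMap k K c * α) :=
    fun c => by rw [H56Q.map_lwr]; rfl
  have hclo : Subgroup.closure ({g : Matrix.SpecialLinearGroup (Fin 2) K | ∃ c : k, (g : Matrix (Fin 2) (Fin 2) K) = !![1, algebraMap k K c; 0, 1]} ∪
      {g : Matrix.SpecialLinearGroup (Fin 2) K | ∃ c : k, (g : Matrix (Fin 2) (Fin 2) K) = !![1, 0; algebraMap k K c * α, 1]}) = f.range := by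
    rw [MonoidHom.range_eq_map, ← htop, MonoidHom.map_closure, Set.image_union, ← Set.range_comp,
      ← Set.range_comp]
    congr 2
    · ext g
      simp only [Set.mem_setOf_eq, Set.mem_range, Function.comp_apply, hup]
      exact exists_congr fun c => ⟨fun h => Subtype.ext h.symm, fun h => h ▸ rfl⟩
    · ext g
      simp only [Set.mem_setOf_eq, Set.mem_range, Function.comp_apply, hlow]
      exact exists_congr fun c => ⟨fun h => Subtype.ext h.symm, fun h => h ▸ rfl⟩
  rw [hclo]
  ext g
  constructor
  · rintro ⟨g', rfl⟩ i j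
    exact (g' i j).2
  · intro hg
    refine ⟨⟨fun i j => ⟨g i j, hg i j⟩, ?_⟩, ?_⟩
    · apply (algebraMap L K).injective
      exact (RingHom.map_det (algebraMap L K) _).trans (Eq.trans g.2 (map_one _).symm)
    · exact Subtype.ext rfl

end Cfsg.Agent.S5060
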