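import Cfsg.Statements.S5061
import Cfsg.Agent.H98.Unipotent

set_option autoImplicit false
open Cfsg Pointwise

namespace Cfsg.Agent.S5061

/-- Let M be a finite-dimensional vector space over a field k, G ≤ GL(M), and 𝒲 a set of subgroups of G, invariant under conjugation by G, such that any two members of 𝒲 generate a subgroup acting unipotently on M (for some n all products of n endomorphisms g − 1 from it vanish). Then the subgroup generated by all members of 𝒲 acts unipotently on M and is normal in G. -/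
theorem result {k : Type*} [Field k] {M : Type*} [AddCommGroup M] [Module k M] [FiniteDimensional k M]
    {G : Subgroup (LinearMap.GeneralLinearGroup k M)} {W : Set (Subgroup (LinearMap.GeneralLinearGroup k M))} (hWG : ∀ A ∈ W, A ≤ G)
    (hWW : ∀ A ∈ W, ∀ B ∈ W, Cfsg.IsUnipotentOn (A ⊔ B)) (hWconj : ∀ A ∈ W, ∀ g ∈ G, Cfsg.conjBy A g ∈ W) :
    Cfsg.IsUnipotentOn (⨆ A ∈ W, A) ∧ ∀ g ∈ G, Cfsg.conjBy (⨆ A ∈ W, A) g = ⨆ A ∈ W, A := by
  classical
  let T : Set (Module.End k M)ˣ := {t | ∃ A ∈ W, t ∈ A}
  have hconj : ∀ a ∈ T, ∀ b ∈ T, a * b * a⁻¹ ∈ T := by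
    rintro a ⟨A, hA, ha⟩ b ⟨B, hB, hb⟩
    exact ⟨_, hWconj B hB a (hWG A hA ha), Subgroup.mem_map_of_mem _ hb⟩
  have hpair : ∀ a ∈ T, ∀ b ∈ T,
      H98.IsNilSub (H98.augNU k ({a, b} : Set (Module.End k M)ˣ)) := by
    rintro a ⟨A, hA, ha⟩ b ⟨B, hB, hb⟩
    obtain ⟨n, hn⟩ := hWW A hA B hB
    let S : Set (Module.End k M) :=
      (fun u : (Module.End k M)ˣ => (u : Module.End k M) - 1) '' ((A ⊔ B : Subgroup _) : Set _)
    have hLL : Submodule.span k S * Submodule.span k S ≤ Submodule.span k S := by
      rw [Submodule.span_mul_span, Submodule.span_le]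
      rintro _ ⟨_, ⟨x, hx, rfl⟩, _, ⟨y, hy, rfl⟩, rfl⟩
      have e : ((x : Module.End k M) - 1) * ((y : Module.End k M) - 1) =
          (((x * y : (Module.End k M)ˣ) : Module.End k M) - 1) - ((x : Module.End k M) - 1) -
            ((y : Module.End k M) - 1) := by
        simp only [Units.val_mul, mul_sub, sub_mul, mul_one, one_mul]
        abel
      beta_reduce
      rw [e]
      exact Submodule.sub_mem _ (Submodule.sub_mem _
        (Submodule.subset_span ⟨x * y, Subgroup.mul_mem _ hx hy, rfl⟩)
        (Submodule.subset_span ⟨x, hx, rfl⟩)) (Submodule.subset_span ⟨y, hy, rfl⟩)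
    have hnil : H98.IsNilSub (Submodule.span k S) := by
      refine ⟨n, eq_bot_iff.2 ?_⟩
      rw [pow_succ, Submodule.span_pow]
      have h0 : Submodule.span k (S ^ n) = ⊥ := by
        rw [Submodule.span_eq_bot]
        intro x hx
        obtain ⟨f, hf⟩ := Set.mem_pow.1 hx
        have hf' : ∀ i, ∃ u ∈ ((A ⊔ B : Subgroup (Module.End k M)ˣ) : Set (Module.End k M)ˣ),
            (u : Module.End k M) - 1 = (f i : Module.End k M) := fun i => (f i).2
        choose u hu hue using hf'
        rw [← hf]
        have := hn (List.ofFn u) (List.forall_mem_ofFn_iff.2 hu) List.length_ofFn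
        simp only [List.pure_def, List.bind_eq_flatMap, ← List.map_eq_flatMap, List.map_map,
          List.map_ofFn] at this
        rw [← this]
        congr 2
        funext i
        exact (hue i).symm
      rw [h0, Submodule.bot_mul]
    refine hnil.mono (H98.augNU_le ?_ hLL)
    rintro x (rfl | rfl)
    · exact Submodule.subset_span ⟨x, Subgroup.mem_sup_left ha, rfl⟩
    · exact Submodule.subset_span ⟨x, Subgroup.mem_sup_right hb, rfl⟩
  have hT := H98.isNilSub_of_pairwise (k := k) hconj hpair
  have hL := H98.augNU_mul_le (k := k) T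
  obtain ⟨n, hn⟩ := hT
  have hle : (⨆ A ∈ W, A) ≤ H98.oneAdd (H98.augNU k T) hL ⟨n, hn⟩ :=
    iSup₂_le fun A hA x hx => H98.mem_augNU (⟨A, hA, hx⟩ : x ∈ T)
  refine ⟨⟨n + 1, fun l hl hlen => ?_⟩, fun g hg => ?_⟩
  · have key : ∀ l : List (Module.End k M)ˣ, (∀ g ∈ l, g ∈ ⨆ A ∈ W, A) →
        (l.map fun g : (Module.End k M)ˣ => (g : Module.End k M) - 1).prod ∈
          (H98.augNU k T) ^ l.length := by
      intro l hl
      induction l with
      | nil =>
        rw [List.map_nil, List.prod_nil, List.length_nil, pow_zero]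
        exact Submodule.one_le.1 le_rfl
      | cons a l ih =>
        rw [List.map_cons, List.prod_cons, List.length_cons, pow_succ']
        exact Submodule.mul_mem_mul (hle (hl a (List.mem_cons_self ..)))
          (ih fun g hg => hl g (List.mem_cons_of_mem _ hg))
    have := key l hl
    rw [hlen, hn, Submodule.mem_bot] at this
    simp only [List.pure_def, List.bind_eq_flatMap, ← List.map_eq_flatMap, List.map_map]
    exact this
  · have key : ∀ g ∈ G, Cfsg.conjBy (⨆ A ∈ W, A) g ≤ ⨆ A ∈ W, A := by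
      intro g hg
      rw [Cfsg.conjBy, Subgroup.map_le_iff_le_comap]
      refine iSup₂_le fun A hA x hx => ?_
      exact Subgroup.mem_iSup_of_mem _ (Subgroup.mem_iSup_of_mem (hWconj A hA g hg)
        (Subgroup.mem_map_of_mem _ hx))
    refine le_antisymm (key g hg) fun x hx => ?_
    refine ⟨g⁻¹ * x * g, ?_, by simp [mul_assoc]⟩
    have := key g⁻¹ (G.inv_mem hg) (Subgroup.mem_map_of_mem _ hx)
    simpa using this
end Cfsg.Agent.S5061
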