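import Cfsg.Statements.S5064
import Cfsg.Agent.H56.QPSL

set_option autoImplicit false
universe u
open Cfsg

namespace Cfsg.Agent.S5064

open Polynomial H56Q

/-- Let k be a field of characteristic not 2 with k not of order 3, M a finite-dimensional k-vector space and G ≤ GL(M) such that (G, M) is a quadratic pair (M irreducible for G, and G generated by its quadratically acting elements σ whose scalar family 1 + c(σ − 1), c ∈ k, lies in G). Write 𝒬_d for the quadratic elements of G of minimal commutator rank, E(σ) for the subgroup generated by the members of 𝒬_d with the same fixed space and commutator space as σ, and Σ for the set of these subgroups. If σ, τ ∈ 𝒬_d and the subgroup H generated by their two scalar families does not act unipotently on M, then H is isomorphic to SL₂ over a simple algebraic extension k(λ) of k. -/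
theorem result {k : Type u} [Field k] (hk2 : ringChar k ≠ 2) (hk3 : Nat.card k ≠ 3)
    {M : Type u} [AddCommGroup M] [Module k M] [FiniteDimensional k M]
    {G : Subgroup (LinearMap.GeneralLinearGroup k M)} (hG : Cfsg.IsQuadraticPair G)
    {σ τ : LinearMap.GeneralLinearGroup k M} (hσ : σ ∈ Cfsg.minimalQuadraticElements G) (hτ : τ ∈ Cfsg.minimalQuadraticElements G)
    (hH : ¬ Cfsg.IsUnipotentOn (Subgroup.closure (Cfsg.scalarFamily σ ∪ Cfsg.scalarFamily τ))) :
    ∃ (K : Type u) (_ : Field K) (_ : Algebra k K) (lam : K), IsAlgebraic k lam ∧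
      IntermediateField.adjoin k ({lam} : Set K) = ⊤ ∧
      Nonempty (↥(Subgroup.closure (Cfsg.scalarFamily σ ∪ Cfsg.scalarFamily τ)) ≃* Matrix.SpecialLinearGroup (Fin 2) K) := by
  have h2 := two_ne_zero' hk2
  set a := (σ : Module.End k M) - 1 with hadef
  set b := (τ : Module.End k M) - 1 with hbdef
  have ha : MinQ G a := minQ_of_minimal hσ
  have hb : MinQ G b := minQ_of_minimal hτ
  have hn : ¬ IsNilpotent (b * a) := fun h => hH (unipotentOn_families h2 ha hb h (fun g hg => by
    rcases hg with ⟨c, hc⟩ | ⟨c, hc⟩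
    · exact Or.inl ⟨c, by rw [hc]; simp [hadef]⟩
    · exact Or.inr ⟨c, by rw [hc]; simp [hbdef]⟩))
  obtain ⟨C⟩ := nonempty_core h2 hk3 le_rfl ha.fam hb.fam ha hb hn
  haveI : Fact (Irreducible C.f) := ⟨C.irr⟩
  obtain ⟨φ, hinj, hup, hlow⟩ := exists_sl_embedding ha.fam hb.fam C
  haveI : FiniteDimensional k (AdjoinRoot C.f) := (AdjoinRoot.powerBasis C.irr.ne_zero).finite
  have hgen : ∀ y : AdjoinRoot C.f, ∃ r : k[X], y = aeval (AdjoinRoot.root C.f) r := fun y => by
    induction y using AdjoinRoot.induction_on with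
    | _ P => exact ⟨P, (AdjoinRoot.aeval_eq P).symm⟩
  refine ⟨AdjoinRoot C.f, inferInstance, inferInstance, AdjoinRoot.root C.f,
    (Algebra.IsAlgebraic.isAlgebraic _), ?_, ?_⟩
  · rw [eq_top_iff]
    intro y _
    obtain ⟨r, rfl⟩ := hgen y
    exact IntermediateField.algebra_adjoin_le_adjoin k _
      (Polynomial.aeval_mem_adjoin_singleton k _)
  · have hroot : AdjoinRoot.root C.f ≠ 0 := by
      rw [← AdjoinRoot.mk_X, Ne, AdjoinRoot.mk_eq_zero]
      intro hd
      exact C.coeff_zero (X_dvd_iff.mp
        (C.irr.associated_of_dvd Polynomial.irreducible_X hd).symm.dvd)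
    have htop := two_families_eq_top h2 hk3 _ hroot hgen
    have hu : ∀ c : k, (φ (upr (algebraMap k (AdjoinRoot C.f) c)) : Module.End k M) = 1 + c • a :=
      fun c => by
        rw [AdjoinRoot.algebraMap_eq, ← AdjoinRoot.mk_C, hup, aeval_C, ← Algebra.smul_def]
    have hl : ∀ c : k, (φ (lwr (algebraMap k (AdjoinRoot C.f) c * AdjoinRoot.root C.f)) : Module.End k M) =
        1 + c • b := fun c => by
        rw [AdjoinRoot.algebraMap_eq, ← AdjoinRoot.mk_C, hlow, aeval_C, ← Algebra.smul_def]
    have hrange : φ.range = Subgroup.closure (scalarFamily σ ∪ scalarFamily τ) := by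
      rw [MonoidHom.range_eq_map, ← htop, MonoidHom.map_closure, Set.image_union, ← Set.range_comp,
        ← Set.range_comp]
      congr 2
      · ext g
        constructor
        · rintro ⟨c, rfl⟩; exact ⟨c, hu c⟩
        · rintro ⟨c, hc⟩; exact ⟨c, Units.ext ((hu c).trans hc.symm)⟩
      · ext g
        constructor
        · rintro ⟨c, rfl⟩; exact ⟨c, hl c⟩
        · rintro ⟨c, hc⟩; exact ⟨c, Units.ext ((hl c).trans hc.symm)⟩
    exact ⟨((MulEquiv.subgroupCongr hrange).symm.trans (MonoidHom.ofInjective hinj).symm)⟩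

end Cfsg.Agent.S5064
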