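import Cfsg.Statements.S5066
import Cfsg.Agent.H56.QPCase

set_option autoImplicit false
universe u
open Cfsg

namespace Cfsg.Agent.S5066

/-- Let k be a field of characteristic not 2 with k not of order 3, M a finite-dimensional k-vector space and G ≤ GL(M) such that (G, M) is a quadratic pair (M irreducible for G, and G generated by its quadratically acting elements σ whose scalar family 1 + c(σ − 1), c ∈ k, lies in G). Write 𝒬_d for the quadratic elements of G of minimal commutator rank, E(σ) for the subgroup generated by the members of 𝒬_d with the same fixed space and commutator space as σ, and Σ for the set of these subgroups. Let E, F ∈ Σ generate a subgroup that is nilpotent of class exactly two. Then D = ⁅E, F⁆ belongs to Σ, equals the subgroup generated by the commutators of e with F, and also of E with f, for every non-identity e ∈ E, f ∈ F, and ⟨E, F⟩ lies in U(D), the set of elements g of G normalizing D with (g − 1)M inside the fixed space of D, (g − 1) mapping that fixed space into the commutator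 space of D, and g acting trivially on the commutator space of D. -/
theorem result {k : Type u} [Field k] (hk2 : ringChar k ≠ 2) (hk3 : Nat.card k ≠ 3)
    {M : Type u} [AddCommGroup M] [Module k M] [FiniteDimensional k M]
    {G : Subgroup (LinearMap.GeneralLinearGroup k M)} (hG : Cfsg.IsQuadraticPair G)
    {E F : Subgroup (LinearMap.GeneralLinearGroup k M)} (hE : E ∈ Cfsg.quadraticRootSubgroups G) (hF : F ∈ Cfsg.quadraticRootSubgroups G)
    (h2 : ⁅E ⊔ F, E ⊔ F⁆ ≠ ⊥ ∧ ⁅⁅E ⊔ F, E ⊔ F⁆, E ⊔ F⁆ = ⊥) :
    ⁅E, F⁆ ∈ Cfsg.quadraticRootSubgroups G ∧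
    (∀ e ∈ E, e ≠ 1 → Subgroup.closure ((fun f : LinearMap.GeneralLinearGroup k M => e * f * e⁻¹ * f⁻¹) '' (F : Set (LinearMap.GeneralLinearGroup k M))) = ⁅E, F⁆) ∧
    (∀ f ∈ F, f ≠ 1 → Subgroup.closure ((fun e : LinearMap.GeneralLinearGroup k M => e * f * e⁻¹ * f⁻¹) '' (E : Set (LinearMap.GeneralLinearGroup k M))) = ⁅E, F⁆) ∧
    ((E ⊔ F : Subgroup (LinearMap.GeneralLinearGroup k M)) : Set (LinearMap.GeneralLinearGroup k M)) ⊆ Cfsg.quadraticUnipotentCore G ⁅E, F⁆ := by
  have h2n := H56Q.two_ne_zero' hk2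
  obtain ⟨a, hA⟩ := H56Q.exists_isRootOf hE
  obtain ⟨b, hB⟩ := H56Q.exists_isRootOf hF
  have hne : a * b ≠ b * a := by
    intro hne
    apply h2.1
    have hc := H56Q.commute_of_mem
      (fun x y hx hy => H56Q.commute_all h2n hA.1 hB.1 hne hx hy) hA hB
    rw [Subgroup.commutator_eq_bot_iff_le_centralizer] at hc ⊢
    have hEc := hA.isMulCommutative
    have hFc := hB.isMulCommutative
    refine sup_le ?_ ?_ <;> rw [Subgroup.le_centralizer_iff] <;> refine sup_le ?_ ?_
    · intro x hx y hy; exact congrArg Subtype.val (hEc.1.comm ⟨y, hy⟩ ⟨x, hx⟩)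
    · exact Subgroup.le_centralizer_iff.mp hc
    · exact hc
    · intro x hx y hy; exact congrArg Subtype.val (hFc.1.comm ⟨y, hy⟩ ⟨x, hx⟩)
  have hbab : b * a * b = 0 := by
    refine H56Q.bab_zero_of_class_two h2n hA.1.fam hB.1.fam fun c => ?_
    have hx : H56Q.InRoot G a (c • a) := (H56Q.InRoot.self hA.1.fam).smul c
    have hy : H56Q.InRoot G b b := H56Q.InRoot.self hB.1.fam
    set e := H56Q.qu (c • a) hx.1.1
    set f := H56Q.qu b hy.1.1
    have he : e ∈ E ⊔ F := Subgroup.mem_sup_left (hA.qu_mem hx)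
    have hf : f ∈ E ⊔ F := Subgroup.mem_sup_right (hB.qu_mem hy)
    have hz := (Subgroup.commutator_eq_bot_iff_le_centralizer.mp h2.2)
      (Subgroup.commutator_mem_commutator he hf)
    have hzf := Subgroup.mem_centralizer_iff.mp hz f hf
    rw [commutatorElement_def] at hzf
    have hcomm : (e * f * e⁻¹) * f = f * (e * f * e⁻¹) := by
      calc (e * f * e⁻¹) * f = (e * f * e⁻¹ * f⁻¹) * f * f := by group
        _ = f * (e * f * e⁻¹ * f⁻¹) * f := by rw [hzf]
        _ = f * (e * f * e⁻¹) := by group
    have hv := congrArg (fun g : LinearMap.GeneralLinearGroup k M => (g : Module.End k M) - 1) hcomm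
    simp only [Units.val_mul] at hv
    have hcj : ((e * f * e⁻¹ : LinearMap.GeneralLinearGroup k M) : Module.End k M) = 1 + H56Q.cj (c • a) b := by
      rw [H56Q.conj_coe e (H56Q.coe_qu b hy.1.1)]; rfl
    simp only [Units.val_mul] at hcj
    rw [hcj, show (f : Module.End k M) = 1 + b from rfl, sub_left_inj] at hv
    simp only [mul_add, add_mul, one_mul, mul_one] at hv
    rw [← sub_eq_zero] at hv ⊢
    rw [← hv]
    abel
  have h1 := (H56Q.aba_bab_zero h2n hB.1 hA.1 (H56Q.isNilpotent_of_eq_zero hbab)).2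
  obtain ⟨hD, hl, hr, hc, -, -, -⟩ := H56Q.commutator_case h2n hk3 hG.1 hA hB h1 hbab hne
  exact ⟨hD.mem_quadraticRoot, hl, hr, fun g hg => H56Q.core_subset hD (hc hg)⟩

end Cfsg.Agent.S5066
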