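import Cfsg.Statements.S5067


set_option autoImplicit false
open Cfsg
open scoped commutatorElement

namespace Cfsg.Agent.S5067

/-- Let P be a non-abelian nilpotent p-group (every element of p-power order; P possibly infinite) generated by two abelian subgroups E and F. Then the normal closure of E in P, and likewise that of F, has nilpotency class strictly smaller than that of P. -/
theorem result {P : Type*} [Group P] {p : ℕ} [Fact p.Prime] (hP : IsPGroup p P) [Group.IsNilpotent P]
    (hna : ¬ IsMulCommutative P) {E F : Subgroup P} (hE : IsMulCommutative ↥E) (hF : IsMulCommutative ↥F) (hgen : E ⊔ F = ⊤) :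
    Group.nilpotencyClass ↥(Subgroup.normalClosure (E : Set P)) < Group.nilpotencyClass P ∧
    Group.nilpotencyClass ↥(Subgroup.normalClosure (F : Set P)) < Group.nilpotencyClass P := by
  have key : ∀ E F : Subgroup P, IsMulCommutative ↥E → E ⊔ F = ⊤ →
      Group.nilpotencyClass ↥(Subgroup.normalClosure (E : Set P)) < Group.nilpotencyClass P := by
    intro E F hE hgen
    set c := Group.nilpotencyClass P with hc
    set γ : ℕ → Subgroup P := fun n => (⊤ : Subgroup P).lowerCentralSeries n with hγ
    have hγsucc : ∀ n, γ (n + 1) = ⁅γ n, ⊤⁆ := fun n => Subgroup.lowerCentralSeries_succ _ n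
    have hγc : γ c = ⊥ := (Subgroup.lowerCentralSeries_eq_bot_iff_nilpotencyClass_le).2 le_rfl
    set N := Subgroup.normalClosure (E : Set P) with hN
    have hγn : ∀ n, (γ n).Normal := fun n => inferInstance
    have hbase : ∀ x ∈ N, ∀ y ∈ N, ⁅x, y⁆ ∈ γ 2 := by
      haveI := hγn 2
      have h11 : ∀ x ∈ γ 1, ∀ y : P, ⁅x, y⁆ ∈ γ 2 := fun x hx y => by
        rw [hγsucc 1]; exact Subgroup.commutator_mem_commutator hx (Subgroup.mem_top y)
      -- work modulo `γ 2`, where `γ 1` is central
      let π := QuotientGroup.mk' (γ 2)
      have hcent : ∀ x ∈ γ 1, ∀ y : P, Commute (π x) (π y) := fun x hx y => by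
        rw [← commutatorElement_eq_one_iff_commute, ← map_commutatorElement]
        exact (QuotientGroup.eq_one_iff _).2 (h11 x hx y)
      have hgen' : N ≤ E ⊔ γ 1 := by
        haveI : (E ⊔ γ 1).Normal := by
          refine Subgroup.Normal.of_commutator_le _ (le_sup_of_le_right ?_)
          rw [hγsucc 0, _root_.commutator_def]
          exact le_rfl
        exact Subgroup.normalClosure_le_normal (SetLike.coe_subset_coe.2 le_sup_left)
      intro x hx y hy
      have hx' := hgen' hx
      have hy' := hgen' hy
      haveI := hγn 1
      rw [← SetLike.mem_coe, Subgroup.mul_normal] at hx' hy'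
      obtain ⟨e, he, u, hu, rfl⟩ := hx'
      obtain ⟨e', he', u', hu', rfl⟩ := hy'
      rw [← QuotientGroup.eq_one_iff]
      show π ⁅e * u, e' * u'⁆ = 1
      rw [map_commutatorElement, commutatorElement_eq_one_iff_commute, map_mul, map_mul]
      haveI := hE
      have hee : Commute e e' := setLike_mul_comm he he'
      exact (((hee.map π).mul_left (hcent u hu e')).mul_right
        ((hcent u' hu' e).symm.mul_left (hcent u hu u')))
    have hstep : ∀ n, ∀ x : ↥N, x ∈ (⊤ : Subgroup ↥N).lowerCentralSeries (n + 1) →
        (x : P) ∈ γ (n + 2) := by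
      intro n
      induction n with
      | zero =>
        have hle : (⊤ : Subgroup ↥N).lowerCentralSeries 1 ≤ (γ 2).comap N.subtype := by
          rw [Subgroup.lowerCentralSeries_succ, Subgroup.commutator_le]
          intro g₁ _ g₂ _
          rw [Subgroup.mem_comap, map_commutatorElement]
          exact hbase _ g₁.2 _ g₂.2
        exact fun x hx => hle hx
      | succ n ih =>
        have hle : (⊤ : Subgroup ↥N).lowerCentralSeries (n + 1 + 1) ≤
            (γ (n + 1 + 2)).comap N.subtype := by
          rw [Subgroup.lowerCentralSeries_succ, Subgroup.commutator_le]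
          intro g₁ hg₁ g₂ _
          rw [Subgroup.mem_comap, map_commutatorElement, hγsucc]
          exact Subgroup.commutator_mem_commutator (ih g₁ hg₁) (Subgroup.mem_top _)
        exact fun x hx => hle hx
    have hc2 : 2 ≤ c := by
      by_contra hlt
      apply hna
      have h1 : γ 1 = ⊥ :=
        (Subgroup.lowerCentralSeries_eq_bot_iff_nilpotencyClass_le).2 (by omega)
      refine ⟨⟨fun a b => ?_⟩⟩
      have h2 : ⁅a, b⁆ ∈ γ 1 := by
        rw [hγsucc 0]
        exact Subgroup.commutator_mem_commutator
          (by rw [show γ 0 = ⊤ from Subgroup.lowerCentralSeries_zero _]; trivial) (Subgroup.mem_top b)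
      rw [h1, Subgroup.mem_bot] at h2
      exact commutatorElement_eq_one_iff_commute.1 h2
    have hle : Group.nilpotencyClass ↥N ≤ c - 1 := by
      refine (Subgroup.lowerCentralSeries_eq_bot_iff_nilpotencyClass_le).1 ?_
      rw [eq_bot_iff]
      intro x hx
      rw [Subgroup.mem_bot]
      have := hstep (c - 2) x (by rwa [show c - 2 + 1 = c - 1 by omega])
      rw [show c - 2 + 2 = c by omega, hγc, Subgroup.mem_bot] at this
      exact Subtype.ext this
    omega
  exact ⟨key E F hE hgen, key F E hF (by rwa [sup_comm])⟩

end Cfsg.Agent.S5067
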