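import Cfsg.Statements.S5068
import Cfsg.Agent.H56.QPCase

set_option autoImplicit false
universe u
open Cfsg

namespace Cfsg.Agent.S5068

/-- Let k be a field of characteristic not 2 with k not of order 3, M a finite-dimensional k-vector space and G ≤ GL(M) such that (G, M) is a quadratic pair (M irreducible for G, and G generated by its quadratically acting elements σ whose scalar family 1 + c(σ − 1), c ∈ k, lies in G). Write 𝒬_d for the quadratic elements of G of minimal commutator rank, E(σ) for the subgroup generated by the members of 𝒬_d with the same fixed space and commutator space as σ, and Σ for the set of these subgroups. Let E, F ∈ Σ generate a subgroup acting unipotently on M. Then either E and F commute elementwise, or L = ⁅E, F⁆ belongs to Σ, equals the subgroup generated by the commutators of e with F, and of E with f, for all non-identity e ∈ E, f ∈ F, the group ⟨E, F⟩ is nilpotent of class two, and ⟨E, F⟩ lies in U(L), the set of elements g of G normalizing L with (g − 1)M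 inside the fixed space of L, (g − 1) mapping that fixed space into the commutator space of L, and g acting trivially on the commutator space of L. -/
theorem result {k : Type u} [Field k] (hk2 : ringChar k ≠ 2) (hk3 : Nat.card k ≠ 3)
    {M : Type u} [AddCommGroup M] [Module k M] [FiniteDimensional k M]
    {G : Subgroup (LinearMap.GeneralLinearGroup k M)} (hG : Cfsg.IsQuadraticPair G)
    {E F : Subgroup (LinearMap.GeneralLinearGroup k M)} (hE : E ∈ Cfsg.quadraticRootSubgroups G) (hF : F ∈ Cfsg.quadraticRootSubgroups G)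
    (hu : Cfsg.IsUnipotentOn (E ⊔ F)) :
    ⁅E, F⁆ = ⊥ ∨
    (⁅E, F⁆ ∈ Cfsg.quadraticRootSubgroups G ∧
      (∀ e ∈ E, e ≠ 1 → Subgroup.closure ((fun f : LinearMap.GeneralLinearGroup k M => e * f * e⁻¹ * f⁻¹) '' (F : Set (LinearMap.GeneralLinearGroup k M))) = ⁅E, F⁆) ∧
      (∀ f ∈ F, f ≠ 1 → Subgroup.closure ((fun e : LinearMap.GeneralLinearGroup k M => e * f * e⁻¹ * f⁻¹) '' (E : Set (LinearMap.GeneralLinearGroup k M))) = ⁅E, F⁆) ∧
      ⁅E ⊔ F, E ⊔ F⁆ ≠ ⊥ ∧ ⁅⁅E ⊔ F, E ⊔ F⁆, E ⊔ F⁆ = ⊥ ∧
      ((E ⊔ F : Subgroup (LinearMap.GeneralLinearGroup k M)) : Set (LinearMap.GeneralLinearGroup k M)) ⊆ Cfsg.quadraticUnipotentCore G ⁅E, F⁆) := by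
  have h2 := H56Q.two_ne_zero' hk2
  obtain ⟨a, hA⟩ := H56Q.exists_isRootOf hE
  obtain ⟨b, hB⟩ := H56Q.exists_isRootOf hF
  by_cases hne : a * b = b * a
  · exact Or.inl (H56Q.commute_of_mem
      (fun x y hx hy => H56Q.commute_all h2 hA.1 hB.1 hne hx hy) hA hB)
  · have hn := H56Q.isNilpotent_of_unipotentOn hu hA.1.sq hB.1.sq
      (Subgroup.mem_sup_left (hA.qu_mem (H56Q.InRoot.self hA.1.fam)))
      (Subgroup.mem_sup_right (hB.qu_mem (H56Q.InRoot.self hB.1.fam)))
    obtain ⟨h1, h1'⟩ := H56Q.aba_bab_zero h2 hA.1 hB.1 hn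
    obtain ⟨hD, hl, hr, hc, hne2, h3, -⟩ := H56Q.commutator_case h2 hk3 hG.1 hA hB h1 h1' hne
    exact Or.inr ⟨hD.mem_quadraticRoot, hl, hr, hne2, h3,
      fun g hg => H56Q.core_subset hD (hc hg)⟩

end Cfsg.Agent.S5068
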