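import Cfsg.Statements.S5069
import Cfsg.Agent.H56.QPQuasi
import Cfsg.Agent.H68.Iso

set_option autoImplicit false
universe u
open Cfsg

namespace Cfsg.Agent.S5069

/-- Let k be a field of characteristic not 2 with k not of order 3, M a finite-dimensional k-vector space and G ≤ GL(M) such that (G, M) is a quadratic pair (M irreducible for G, and G generated by its quadratically acting elements σ whose scalar family 1 + c(σ − 1), c ∈ k, lies in G). Write 𝒬_d for the quadratic elements of G of minimal commutator rank, E(σ) for the subgroup generated by the members of 𝒬_d with the same fixed space and commutator space as σ, and Σ for the set of these subgroups. Then Σ is a disjoint union of finitely many parts Σ₁, …, Σ_r such that the subgroups G_i generated by the Σ_i commute pairwise, each G_i is quasisimple, and inside G_i the members of Σ_i form a class of abstract root subgroups in which every rank one pair A, B contains subgroups A₀ ≤ A, B₀ ≤ B generating an image of SL₂(k₁) with central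 kernel on unitriangular subgroups for some field k₁ with at least four elements. -/
theorem result {k : Type u} [Field k] (hk2 : ringChar k ≠ 2) (hk3 : Nat.card k ≠ 3)
    {M : Type u} [AddCommGroup M] [Module k M] [FiniteDimensional k M]
    {G : Subgroup (LinearMap.GeneralLinearGroup k M)} (hG : Cfsg.IsQuadraticPair G) :
    ∃ (r : ℕ) (part : Fin r → Set (Subgroup (LinearMap.GeneralLinearGroup k M))),
      (⋃ i, part i) = Cfsg.quadraticRootSubgroups G ∧ (∀ i j, i ≠ j → Disjoint (part i) (part j)) ∧ (∀ i, (part i).Nonempty) ∧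
      (∀ i j, i ≠ j → ⁅(⨆ A ∈ part i, A), (⨆ A ∈ part j, A)⁆ = ⊥) ∧
      (∀ i, Cfsg.IsQuasisimple ↥(⨆ A ∈ part i, A) ∧
        Cfsg.IsRootSubgroupClass ((fun A : Subgroup (LinearMap.GeneralLinearGroup k M) => A.subgroupOf (⨆ B ∈ part i, B)) '' (part i)) ∧
        ∀ A ∈ part i, ∀ B ∈ Cfsg.rankOnePartners (part i) A, ∃ A₀ B₀ : Subgroup (LinearMap.GeneralLinearGroup k M), A₀ ≤ A ∧ B₀ ≤ B ∧
          ∃ (k₁ : Type u) (_ : Field k₁), 3 < ENat.card k₁ ∧ Cfsg.IsPSL2PairOver k₁ A₀ B₀) := by
  classical
  have h2 := H56Q.two_ne_zero' hk2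
  have hirr := hG.1
  haveI := H56Q.finite_classes h2 hk3 hirr
  let e := (Finite.equivFin ↥((H56Q.classOf G) '' Cfsg.quadraticRootSubgroups G)).symm
  refine ⟨_, fun i => (e i).1, ?_, ?_, ?_, ?_, fun i => ?_⟩
  · ext A
    simp only [Set.mem_iUnion]
    constructor
    · rintro ⟨i, hi⟩
      obtain ⟨A₀, hA₀, h⟩ := (e i).2
      exact H56Q.classOf_subset hA₀ (by rwa [h])
    · intro hA
      refine ⟨e.symm ⟨_, A, hA, rfl⟩, ?_⟩
      rw [Equiv.apply_symm_apply]
      exact H56Q.RootConj.refl A
  · intro i j hij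
    obtain ⟨A, hA, hi⟩ := (e i).2
    obtain ⟨B, hB, hj⟩ := (e j).2
    simp only [← hi, ← hj]
    rw [Set.disjoint_left]
    intro C hC hC'
    apply hij
    apply e.injective
    apply Subtype.ext
    rw [← hi, ← hj, ← H56Q.classOf_eq_of_mem hC, H56Q.classOf_eq_of_mem hC']
  · intro i
    obtain ⟨A, hA, hi⟩ := (e i).2
    exact ⟨A, show A ∈ (e i).1 from hi ▸ H56Q.RootConj.refl A⟩
  · intro i j hij
    obtain ⟨A, hA, hi⟩ := (e i).2
    obtain ⟨B, hB, hj⟩ := (e j).2
    simp only [← hi, ← hj]
    refine H56Q.commute_classes h2 hk3 hirr hA hB fun h => hij (e.injective (Subtype.ext ?_))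
    rw [← hi, ← hj, h]
  · obtain ⟨A₀, hA₀, hi⟩ := (e i).2
    beta_reduce
    generalize (e i).1 = Q at hi ⊢
    subst hi
    set P := H56Q.classOf G A₀ with hP
    have hconjP : ∀ A ∈ P, ∀ g ∈ H98.famSup P, Cfsg.conjBy A g ∈ P := fun A hA g hg =>
      H56Q.classOf_conj hA₀ hA (H56Q.classGroup_le hA₀ hg)
    refine ⟨?_, ⟨H56Q.rootSet_famIn h2 hk3 hirr (H56Q.classOf_subset hA₀) hconjP
        (fun A hA B hB hD => H56Q.class_closed h2 hk3 hirr hA₀ hA hB hD), ?_⟩, ?_⟩
    · change Cfsg.IsQuasisimple ↥(H98.famSup P)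
      haveI hperf : Group.IsPerfect ↥(H98.famSup P) := by
        refine ⟨eq_top_iff.mpr fun x _ => ?_⟩
        have hx := H56Q.class_commutator h2 hk3 hirr hA₀ x.2
        rw [← Subgroup.map_subtype_commutator] at hx
        obtain ⟨y, hy, hyx⟩ := hx
        rwa [← Subtype.ext hyx]
      refine ⟨hperf, ?_⟩
      obtain ⟨a, ha⟩ := H56Q.exists_isRootOf hA₀
      obtain ⟨B, b, hb, hs, -, -⟩ := H56Q.exists_partner_subgroup h2 hk3 hirr ha
      have hBP : B ∈ P := H56Q.rootConj_of_rankOne ha hb hs.1
      have hsurj := QuotientGroup.mk'_surjective (Subgroup.center ↥(H98.famSup P))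
      haveI : Nontrivial (↥(H98.famSup P) ⧸ Subgroup.center ↥(H98.famSup P)) := by
        rw [QuotientGroup.nontrivial_iff]
        intro htop
        refine H56Q.not_rankOne_commuting ha ?_ hs.1
        rw [Subgroup.commutator_eq_bot_iff_le_centralizer]
        intro x hx
        rw [Subgroup.mem_centralizer_iff]
        intro y hy
        have hz : (⟨x, H98.le_famSup (H56Q.RootConj.refl A₀) hx⟩ : ↥(H98.famSup P)) ∈
            Subgroup.center ↥(H98.famSup P) := by rw [htop]; trivial
        exact congrArg Subtype.val (Subgroup.mem_center_iff.mp hz ⟨y, H98.le_famSup hBP hy⟩)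
      refine ⟨fun N hN => ?_⟩
      haveI := hN.comap (QuotientGroup.mk' (Subgroup.center ↥(H98.famSup P)))
      rcases H56Q.class_normal_cases h2 hk3 hG hA₀
        (N.comap (QuotientGroup.mk' (Subgroup.center ↥(H98.famSup P)))) with h | h
      · right
        rw [← Subgroup.map_comap_eq_self_of_surjective hsurj N, h,
          Subgroup.map_top_of_surjective _ hsurj]
      · left
        rw [← Subgroup.map_comap_eq_self_of_surjective hsurj N, Subgroup.map_eq_bot_iff,
          QuotientGroup.ker_mk']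
        exact h
    · refine ⟨⟨_, A₀, H56Q.RootConj.refl A₀, rfl⟩, ?_⟩
      rintro _ ⟨A, hA, rfl⟩ _ ⟨B, hB, rfl⟩
      obtain ⟨g, hg, hgB⟩ := (H56Q.RootConj.symm hA).trans hB
      obtain ⟨l, hl, hle⟩ := H56Q.conj_inside h2 hk3 hirr hA₀ hg A hA
      refine ⟨⟨l, hl⟩, (H98.eq_subgroupOf_of_map hB ?_).symm⟩
      show Subgroup.map (H98.famSup P).subtype
        (Cfsg.conjBy (A.subgroupOf (H98.famSup P)) ⟨l, hl⟩) = B
      rw [hgB, hle]
      conv_rhs => rw [← H98.map_subgroupOf_famSup hA]
      rw [conjBy, conjBy, Subgroup.map_map, Subgroup.map_map]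
      congr 1
    · intro A hA B hB
      obtain ⟨a, ha⟩ := H56Q.exists_isRootOf (H56Q.classOf_subset hA₀ hA)
      obtain ⟨b, hb⟩ := H56Q.exists_isRootOf (H56Q.classOf_subset hA₀ hB.1)
      exact H56Q.exists_sl_subgroups h2 hk3 ha hb
        (H56Q.not_nilpotent_of_rankOne h2 hk3 hirr ha hb hB.2)

end Cfsg.Agent.S5069
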