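import Cfsg.Statements.S5073
import Cfsg.Agent.H56.QPSub
-- import your own Cfsg.Agent.* helpers here

set_option autoImplicit false
universe u
open Cfsg

namespace Cfsg.Agent.S5073

/-- Let k be a field of characteristic not 2 with k not of order 3, M a finite-dimensional k-vector space and G ≤ GL(M) such that (G, M) is a quadratic pair (M irreducible for G, and G generated by its quadratically acting elements σ whose scalar family 1 + c(σ − 1), c ∈ k, lies in G). Write 𝒬_d for the quadratic elements of G of minimal commutator rank, E(σ) for the subgroup generated by the members of 𝒬_d with the same fixed space and commutator space as σ, and Σ for the set of these subgroups. Let E, F ∈ Σ. If some non-identity element of E commutes with some non-identity element of F, or some non-identity element of E normalizes F, then E and F commute elementwise. -/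
theorem result {k : Type u} [Field k] (hk2 : ringChar k ≠ 2) (hk3 : Nat.card k ≠ 3)
    {M : Type u} [AddCommGroup M] [Module k M] [FiniteDimensional k M]
    {G : Subgroup (LinearMap.GeneralLinearGroup k M)} (hG : Cfsg.IsQuadraticPair G)
    {E F : Subgroup (LinearMap.GeneralLinearGroup k M)} (hE : E ∈ Cfsg.quadraticRootSubgroups G) (hF : F ∈ Cfsg.quadraticRootSubgroups G)
    (h : (∃ e ∈ E, e ≠ 1 ∧ ∃ f ∈ F, f ≠ 1 ∧ e * f = f * e) ∨ E ⊓ Subgroup.normalizer (F : Set (LinearMap.GeneralLinearGroup k M)) ≠ ⊥) :
    ⁅E, F⁆ = ⊥ := by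
  have h2 : (2 : k) ≠ 0 := H56Q.two_ne_zero' hk2
  obtain ⟨a, hA⟩ := H56Q.exists_isRootOf hE
  obtain ⟨b, hB⟩ := H56Q.exists_isRootOf hF
  rcases h with ⟨e, he, he1, f, hf, hf1, hc⟩ | h
  · have hx := (hA.2 e).mp he
    have hy := (hB.2 f).mp hf
    have hA' := hA.change hx fun h0 => he1 (Units.ext (sub_eq_zero.mp h0))
    have hB' := hB.change hy fun h0 => hf1 (Units.ext (sub_eq_zero.mp h0))
    refine H56Q.commute_of_mem (fun x y hx' hy' => H56Q.commute_all h2 hA'.1 hB'.1 ?_ hx' hy') hA' hB'
    have := congrArg (fun g : LinearMap.GeneralLinearGroup k M => (g : Module.End k M)) hc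
    simp only [Units.val_mul] at this
    simp only [sub_mul, mul_sub, one_mul, mul_one, this]
    abel
  · rw [Subgroup.ne_bot_iff_exists_ne_one] at h
    obtain ⟨⟨e, he, hn⟩, he1⟩ := h
    have hx := (hA.2 e).mp he
    have hA' := hA.change hx fun h0 => he1 (Subtype.ext (Units.ext (sub_eq_zero.mp h0)))
    have hee : e = H56Q.qu _ hx.1.1 := Units.ext (by simp)
    have hcj : H56Q.InRoot G b (H56Q.cj ((e : Module.End k M) - 1) b) := by
      have := (hB.2 _).mp ((Subgroup.mem_normalizer_iff.mp hn _).mp (hB.qu_mem (H56Q.InRoot.self hB.1.fam)))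
      rw [H56Q.conj_coe e (H56Q.coe_qu b hB.1.sq), add_sub_cancel_left] at this
      convert this using 1
      rw [H56Q.cj]
      congr 1
      · congr 1
        abel
      · conv_rhs => rw [hee, H56Q.coe_qu_inv]
    exact H56Q.commute_of_mem (fun x y hx' hy' => H56Q.commute_all h2 hA'.1 hB.1
      (H56Q.commute_of_normalizing h2 hA'.1 hB.1 hcj) hx' hy') hA' hB

end Cfsg.Agent.S5073
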