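import Cfsg.Statements.S5112
import Cfsg.Agent.H85.Centric
import Cfsg.Agent.H85.Saturation
import Cfsg.Agent.H86.AutDihedral

set_option autoImplicit false
open Cfsg

namespace Cfsg.Agent.S5112

/-- If S is a dihedral or generalized quaternion 2-group of order at least 16, then in every saturated fusion system over S (at the prime 2) the automorphism group Aut_F(S) consists of the inner automorphisms of S. -/
theorem result {Ω : Type*} [Group Ω] {S : Subgroup Ω} [Finite S] (n : ℕ) (hn : 4 ≤ n) (hshape : Nonempty (S ≃* DihedralGroup (2 ^ (n - 1))) ∨ Nonempty (S ≃* QuaternionGroup (2 ^ (n - 2)))) (F : Cfsg.FusionSystem S) (hF : F.IsSaturated 2) : F.autGroup S = Cfsg.Inn S := by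
  classical
  have : Fact (Nat.Prime 2) := ⟨Nat.prime_two⟩
  have hfull : IsPGroup 2 (MulAut S) ∧ IsPGroup 2 S := by
    rcases hshape with ⟨⟨e⟩⟩ | ⟨⟨e⟩⟩
    · have h1 := H86.isPGroup_two_mulAut_dihedral (n - 1) (by omega)
      have h2 : IsPGroup 2 (DihedralGroup (2 ^ (n - 1))) :=
        IsPGroup.of_card (n := n - 1 + 1) (by rw [DihedralGroup.nat_card, pow_succ'])
      exact ⟨h1.of_equiv (MulAut.congr e).symm, h2.of_equiv e.symm⟩
    · have h1 := H86.isPGroup_two_mulAut_quaternion (n - 2) (by omega)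
      have : NeZero (2 ^ (n - 2)) := ⟨by positivity⟩
      have h2 : IsPGroup 2 (QuaternionGroup (2 ^ (n - 2))) :=
        IsPGroup.of_card (n := n - 2 + 2) (by
          rw [Nat.card_eq_fintype_card, QuaternionGroup.card, pow_add]
          ring)
      exact ⟨h1.of_equiv (MulAut.congr e).symm, h2.of_equiv e.symm⟩
  have hA := H85.fullyAutomized_of_fullyNormalized hfull.2 hF (H85.fullyNormalized_top F)
  rw [H85.isFullyAutomized_iff hfull.2] at hA
  have h1 : F.autGroup S = Cfsg.autInducedBy S S :=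
    hA.2 _ le_rfl (hfull.1.to_subgroup _) (H85.autInducedBy_le_autGroup F le_rfl)
  rw [h1]
  refine le_antisymm ?_ (H85.inn_le_autInducedBy le_rfl)
  intro α hα
  obtain ⟨g, hg, h⟩ := H85.mem_autInducedBy.mp hα
  exact ⟨⟨g, hg⟩, MulEquiv.ext fun x => Subtype.ext (h x).symm⟩

end Cfsg.Agent.S5112
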