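import Cfsg.Statements.S5122
import Cfsg.Agent.H86.Sylow

set_option autoImplicit false
open Cfsg

namespace Cfsg.Agent.S5122

/-- Let G be a finite group with Sylow p-subgroup S. Every subgroup P of S has a G-conjugate Q ≤ S such that N_S(Q) is a Sylow p-subgroup of N_G(Q); and for any Q ≤ S with that property, C_S(Q) is a Sylow p-subgroup of C_G(Q) and the automorphisms of Q induced by N_S(Q) form a Sylow p-subgroup of those induced by N_G(Q). -/
theorem result {G : Type*} [Group G] [Finite G] (p : ℕ) [Fact p.Prime] (S : Sylow p G) : (∀ P : Subgroup G, P ≤ S → ∃ g : G, P.map (MulAut.conj g).toMonoidHom ≤ S ∧ (∃ R : Sylow p ↥(Subgroup.normalizer ((P.map (MulAut.conj g).toMonoidHom : Subgroup G) : Set G)), (R : Subgroup ↥(Subgroup.normalizer ((P.map (MulAut.conj g).toMonoidHom : Subgroup G) : Set G))) = (Cfsg.FusionSystem.normalizerIn (S : Subgroup G) (P.map (MulAut.conj g).toMonoidHom)).subgroupOf (Subgroup.normalizer ((P.map (MulAut.conj g).toMonoidHom : Subgroup G) : Set G)))) ∧ ∀ Q : Subgroup G, Q ≤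 S → (∃ R : Sylow p ↥(Subgroup.normalizer (Q : Set G)), (R : Subgroup ↥(Subgroup.normalizer (Q : Set G))) = (Cfsg.FusionSystem.normalizerIn (S : Subgroup G) Q).subgroupOf (Subgroup.normalizer (Q : Set G))) → (∃ R : Sylow p ↥(Subgroup.centralizer (Q : Set G)), (R : Subgroup ↥(Subgroup.centralizer (Q : Set G))) = (Cfsg.FusionSystem.centralizerIn (S : Subgroup G) Q).subgroupOf (Subgroup.centralizer (Q : Set G))) ∧ (∃ R : Sylow p ↥(Cfsg.autInducedBy ⊤ Q), (R : Subgroup ↥(Cfsg.autInducedBy ⊤ Q)) = (Cfsg.autInducedBy (S : Subgroup G) Q).subgroupOf (Cfsg.autInducedBy ⊤ Q)) := by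
  classical
  constructor
  · intro P hP
    obtain ⟨R⟩ := (Sylow.nonempty : Nonempty (Sylow p ↥(Subgroup.normalizer (P : Set G))))
    obtain ⟨g, hg⟩ := H86.exists_conj_le_sylow S (R.2.map (Subgroup.normalizer (P : Set G)).subtype)
    have hPN : P ≤ Subgroup.normalizer (P : Set G) := Subgroup.le_normalizer
    have : (P.subgroupOf (Subgroup.normalizer (P : Set G))).Normal :=
      Subgroup.normal_in_normalizer
    have hPR : P.subgroupOf (Subgroup.normalizer (P : Set G)) ≤ R :=
      IsPGroup.le_sylow_of_normal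
        ((S.2.to_le hP).of_equiv (Subgroup.subgroupOfEquivOfLe hPN).symm) R
    set e : MulAut G := MulAut.conj g with he
    have hQS : P.map e.toMonoidHom ≤ (S : Subgroup G) := by
      rintro _ ⟨x, hx, rfl⟩
      exact hg x ⟨⟨x, hPN hx⟩, hPR hx, rfl⟩
    have hnorm : (Subgroup.normalizer (P : Set G)).map e.toMonoidHom =
        Subgroup.normalizer ((P.map e.toMonoidHom : Subgroup G) : Set G) :=
      Subgroup.map_equiv_normalizer_eq P e
    refine ⟨g, hQS, ?_⟩
    let e' : ↥(Subgroup.normalizer (P : Set G)) ≃*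
        ↥(Subgroup.normalizer ((P.map e.toMonoidHom : Subgroup G) : Set G)) :=
      (e.subgroupMap (Subgroup.normalizer (P : Set G))).trans (MulEquiv.subgroupCongr hnorm)
    have he' : Function.Surjective e'.toMonoidHom := e'.surjective
    refine ⟨R.mapSurjective (f := e'.toMonoidHom) he', ?_⟩
    refine ((R.mapSurjective (f := e'.toMonoidHom) he').3 ?_ ?_).symm
    · exact (S.2.to_le inf_le_left).of_equiv (Subgroup.subgroupOfEquivOfLe inf_le_right).symm
    · intro x hx
      obtain ⟨y, hy, rfl⟩ := hx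
      exact ⟨hg y ⟨y, hy, rfl⟩, (e' y).2⟩
  · intro Q hQ ⟨R, hR⟩
    constructor
    · have hC : Subgroup.centralizer (Q : Set G) ≤ Subgroup.normalizer (Q : Set G) :=
        Subgroup.centralizer_le_normalizer _
      have hn : ((Subgroup.centralizer (Q : Set G)).subgroupOf
          (Subgroup.normalizer (Q : Set G))).Normal := Subgroup.normal_subgroupOf_centralizer_normalizer _
      obtain ⟨R', hR'⟩ := H86.exists_sylow_of_normal_le hC hn R hR
      refine ⟨R', hR'.trans ?_⟩
      ext x
      constructor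
      · exact fun h => ⟨h.1, x.2⟩
      · exact fun h => ⟨h.1, hC x.2⟩
    · let f : ↥(Subgroup.normalizer (Q : Set G)) →* MulAut Q :=
        Subgroup.normalizerMonoidHom Q
      have hfv : ∀ (g : ↥(Subgroup.normalizer (Q : Set G))) (x : Q),
          ((f g x : Q) : G) = (g : G) * x * (g : G)⁻¹ := fun g x => rfl
      have hmk : ∀ (K : Subgroup G) (α : MulAut Q), α ∈ Cfsg.autInducedBy K Q →
          α ∈ (K.subgroupOf (Subgroup.normalizer (Q : Set G))).map f := by
        intro K α hα
        refine (Subgroup.closure_le _).2 ?_ hα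
        rintro β ⟨g, hgK, hg⟩
        have hgN : g ∈ Subgroup.normalizer (Q : Set G) := by
          rw [Subgroup.mem_normalizer_iff]
          intro x
          constructor
          · intro hx
            have := (β ⟨x, hx⟩).2
            rwa [hg ⟨x, hx⟩] at this
          · intro hx
            obtain ⟨y, hy⟩ := β.surjective ⟨g * x * g⁻¹, hx⟩
            have h1 : g * (y : G) * g⁻¹ = g * x * g⁻¹ := by
              rw [← hg y, hy]
            rw [← mul_left_cancel (mul_right_cancel h1)]
            exact y.2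
        refine ⟨⟨g, hgN⟩, hgK, MulEquiv.ext fun x => Subtype.ext ?_⟩
        rw [hfv, hg]
      have hrange : ∀ g, f g ∈ Cfsg.autInducedBy (⊤ : Subgroup G) Q := fun g =>
        Subgroup.subset_closure ⟨g, Subgroup.mem_top _, fun x => hfv g x⟩
      have hsurj : Function.Surjective (f.codRestrict _ hrange) := by
        intro α
        obtain ⟨g, -, hg⟩ := hmk ⊤ α.1 α.2
        exact ⟨g, Subtype.ext hg⟩
      refine ⟨R.mapSurjective hsurj, ?_⟩
      rw [Sylow.coe_mapSurjective, hR]
      ext α
      constructor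
      · rintro ⟨g, hg, rfl⟩
        exact Subgroup.subset_closure ⟨g, hg.1, fun x => hfv g x⟩
      · intro hα
        obtain ⟨g, hg, hgα⟩ := hmk _ α.1 hα
        exact ⟨g, ⟨hg, g.2⟩, Subtype.ext hgα⟩

end Cfsg.Agent.S5122
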