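import Cfsg.Statements.S5123
import Cfsg.Agent.H86.Sylow

set_option autoImplicit false
open Cfsg

namespace Cfsg.Agent.S5123

/-- Let G be a finite group with Sylow p-subgroup S, P, Q ≤ S and g ∈ G with gPg⁻¹ = Q, and suppose N_S(Q) is a Sylow p-subgroup of N_G(Q). Let N be the set of x ∈ N_S(P) with gxg⁻¹ ∈ N_S(Q)C_G(Q). Then some h ∈ C_G(Q) satisfies (hg)N(hg)⁻¹ ≤ S. -/
theorem result {G : Type*} [Group G] [Finite G] (p : ℕ) [Fact p.Prime] (S : Sylow p G) (P Q : Subgroup G) (hP : P ≤ S) (hQ : Q ≤ S) (g : G) (hg : P.map (MulAut.conj g).toMonoidHom = Q) (hN : (∃ R : Sylow p ↥(Subgroup.normalizer (Q : Set G)), (R : Subgroup ↥(Subgroup.normalizer (Q : Set G))) = (Cfsg.FusionSystem.normalizerIn (S : Subgroup G) Q).subgroupOf (Subgroup.normalizer (Q : Set G)))) : ∃ h ∈ Subgroup.centralizer (Q : Set G), ((Cfsg.FusionSystem.normalizerIn (S : Subgroup G) P) ⊓ (Cfsg.FusionSystem.normalizerIn (S : Subgroup G) Q ⊔ Subgroup.centralizer (Q :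 Set G)).comap (MulAut.conj g).toMonoidHom).map (MulAut.conj (h * g)).toMonoidHom ≤ S := by
  classical
  obtain ⟨R, hR⟩ := hN
  set A : Subgroup G := Cfsg.FusionSystem.normalizerIn (S : Subgroup G) Q with hA
  set C : Subgroup G := Subgroup.centralizer (Q : Set G) with hC
  have hAN : A ≤ Subgroup.normalizer (Q : Set G) := inf_le_right
  have hCN : C ≤ Subgroup.normalizer (Q : Set G) := Subgroup.centralizer_le_normalizer _
  set X : Subgroup G := ((Cfsg.FusionSystem.normalizerIn (S : Subgroup G) P) ⊓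
    (A ⊔ C).comap (MulAut.conj g).toMonoidHom).map (MulAut.conj g).toMonoidHom with hX
  have hXle : X ≤ A ⊔ C := by
    rintro _ ⟨x, hx, rfl⟩
    exact hx.2
  have hXp : IsPGroup p X :=
    (S.2.to_le (inf_le_left.trans inf_le_left)).map _
  have hXN : X ≤ Subgroup.normalizer (Q : Set G) := hXle.trans (sup_le hAN hCN)
  have hRK : (R : Subgroup _) ≤ (A ⊔ C).subgroupOf (Subgroup.normalizer (Q : Set G)) := by
    rw [hR]
    exact fun x hx => (le_sup_left : A ≤ A ⊔ C) hx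
  obtain ⟨k, hk, hkX⟩ := H86.exists_conj_le_sylow_of_le R hRK
    (X := X.subgroupOf (Subgroup.normalizer (Q : Set G))) (fun x hx => hXle hx)
    (hXp.of_equiv (Subgroup.subgroupOfEquivOfLe hXN).symm)
  have hk' : (k : G) ∈ A ⊔ C := hk
  have hAC : A ≤ Subgroup.normalizer (C : Set G) := by
    refine hAN.trans ?_
    exact Subgroup.normal_subgroupOf_iff_le_normalizer hCN |>.mp
      (Subgroup.normal_subgroupOf_centralizer_normalizer _)
  rw [← SetLike.mem_coe, Subgroup.coe_mul_of_left_le_normalizer_right A C hAC] at hk'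
  obtain ⟨a, ha, c, hc, hac⟩ := hk'
  refine ⟨c, hc, ?_⟩
  rintro _ ⟨x, hx, rfl⟩
  have hy : (MulAut.conj g).toMonoidHom x ∈ X := ⟨x, hx, rfl⟩
  have h1 : (k : G) * (g * x * g⁻¹) * (k : G)⁻¹ ∈ A := by
    have := hkX ⟨_, hXN hy⟩ hy
    rw [hR] at this
    exact this
  have h2 : c * g * x * (c * g)⁻¹ = a⁻¹ * ((k : G) * (g * x * g⁻¹) * (k : G)⁻¹) * a := by
    rw [← hac]
    group
  show c * g * x * (c * g)⁻¹ ∈ (S : Subgroup G)
  rw [h2]
  exact (A.mul_mem (A.mul_mem (A.inv_mem ha) h1) ha).1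

end Cfsg.Agent.S5123
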