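import Cfsg.Statements.S5128
import Cfsg.Agent.H86.Quotient

set_option autoImplicit false
open Cfsg

namespace Cfsg.Agent.S5128

/-- In a saturated fusion system over a finite p-group S, the product of two strongly closed subgroups is strongly closed. -/
theorem result {Ω : Type*} [Group Ω] {S : Subgroup Ω} [Finite S] (p : ℕ) [Fact p.Prime] (hS : IsPGroup p S) (F : Cfsg.FusionSystem S) (hF : F.IsSaturated p) (T₁ T₂ : Subgroup Ω) (h₁ : F.StronglyClosed T₁) (h₂ : F.StronglyClosed T₂) : F.StronglyClosed (T₁ ⊔ T₂) := by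
  classical
  refine ⟨sup_le h₁.1 h₂.1, fun R hR φ hφ x => ?_⟩
  obtain ⟨f, hf, hfe⟩ := H86.exists_lift hS hF h₁ hφ
  have hle : R ⊔ T₁ ≤ T₁ ⊔ T₂ := sup_le hR le_sup_left
  obtain ⟨s, hs, hxs⟩ := hfe x
  rw [hxs]
  refine mul_mem ?_ (Subgroup.mem_sup_left hs)
  set z : ↥(R ⊔ T₁) := Subgroup.inclusion le_sup_left x
  have hz : (z : Ω) ∈ T₂ ⊔ T₁ := sup_comm T₁ T₂ ▸ hle z.2
  obtain ⟨t₂, ht₂, t₁, ht₁, ht⟩ := H86.mem_sup_stronglyClosed h₁ h₂.1 hz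
  have ht₁' : t₁ ∈ R ⊔ T₁ := Subgroup.mem_sup_right ht₁
  have ht₂' : t₂ ∈ R ⊔ T₁ := by
    rw [eq_mul_inv_of_mul_eq ht]
    exact mul_mem z.2 (inv_mem ht₁')
  have hzz : z = ⟨t₂, ht₂'⟩ * ⟨t₁, ht₁'⟩ := Subtype.ext ht.symm
  rw [hzz, map_mul]
  exact mul_mem (Subgroup.mem_sup_right (H86.map_mem_of_stronglyClosed h₂ hf ht₂))
    (Subgroup.mem_sup_left (H86.map_mem_of_stronglyClosed h₁ hf ht₁))

end Cfsg.Agent.S5128
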