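import Cfsg.Statements.S5135
import Cfsg.Agent.H86.Sylow

set_option autoImplicit false
open Cfsg

namespace Cfsg.Agent.S5135

/-- Let G be a finite group, S a Sylow p-subgroup and H a normal subgroup of G. Then the fusion system of G/H on the image SH/H of S is the factor system of the fusion system of G on S modulo S ∩ H, read through the quotient map restricted to S: for each subgroup P' of SH/H, the conjugation maps by elements of G/H defined on P' with values in SH/H are exactly the homomorphisms induced by the conjugation maps by elements of G defined on the full preimage of P' in S with values in S. -/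
theorem result {G : Type*} [Group G] [Finite G] (p : ℕ) [Fact p.Prime] (S : Sylow p G) (H : Subgroup G) [H.Normal] : (Cfsg.groupFusionSystem (S : Subgroup G)).IsFactorSystem ((S : Subgroup G) ⊓ H) ((QuotientGroup.mk' H).comp (S : Subgroup G).subtype) (Cfsg.groupFusionSystem ((S : Subgroup G).map (QuotientGroup.mk' H))) := by
  classical
  refine ⟨inf_le_left, ?_, ?_, ?_⟩
  · intro s
    show QuotientGroup.mk' H (s : G) = 1 ↔ _
    rw [QuotientGroup.mk'_apply, QuotientGroup.eq_one_iff]
    exact ⟨fun h => ⟨s.2, h⟩, fun h => h.2⟩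
  · rw [MonoidHom.range_comp, Subgroup.range_subtype]
  intro P' φ'
  constructor
  · rintro ⟨hP', hφ', gbar, hg⟩
    obtain ⟨g, rfl⟩ := QuotientGroup.mk'_surjective H gbar
    refine ⟨hP', ?_⟩
    set π := QuotientGroup.mk' H with hπ
    set θ := π.comp (S : Subgroup G).subtype with hθ
    set P : Subgroup G := Cfsg.FusionSystem.preimageAlong θ P' with hPdef
    have hPS : P ≤ (S : Subgroup G) := Subgroup.map_subtype_le _
    have hmem : ∀ x ∈ P, π x ∈ P' := by
      rintro _ ⟨s, hs, rfl⟩
      exact hs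
    have hX : IsPGroup p (P.map (MulAut.conj g).toMonoidHom) := (S.2.to_le hPS).map _
    have hK : P.map (MulAut.conj g).toMonoidHom ≤ (S : Subgroup G) ⊔ H := by
      rintro _ ⟨x, hx, rfl⟩
      have h1 : φ' ⟨π x, hmem x hx⟩ ∈ (S : Subgroup G).map π := hφ' _
      rw [hg] at h1
      obtain ⟨s, hs, hs'⟩ := h1
      have h2 : π s = π (g * x * g⁻¹) := by rw [map_mul, map_mul, map_inv]; exact hs'
      rw [QuotientGroup.mk'_eq_mk'] at h2
      obtain ⟨z, hz, hsz⟩ := h2
      show g * x * g⁻¹ ∈ _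
      rw [← hsz]
      exact Subgroup.mul_mem_sup hs hz
    obtain ⟨k, hk, hkX⟩ := H86.exists_conj_le_sylow_of_le S le_sup_left hK hX
    rw [← SetLike.mem_coe, Subgroup.mul_normal] at hk
    obtain ⟨s, hs, h, hh, rfl⟩ := hk
    have hin : ∀ x ∈ P, h * g * x * (h * g)⁻¹ ∈ (S : Subgroup G) := by
      intro x hx
      have h3 := hkX _ ⟨x, hx, rfl⟩
      have h4 : h * g * x * (h * g)⁻¹ =
          s⁻¹ * (s * h * ((MulAut.conj g).toMonoidHom x) * (s * h)⁻¹) * s := by
        show _ = s⁻¹ * (s * h * (g * x * g⁻¹) * (s * h)⁻¹) * s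
        group
      rw [h4]
      exact S.mul_mem (S.mul_mem (S.inv_mem hs) h3) hs
    refine ⟨Cfsg.conjHom P (h * g), ⟨hPS, fun x => hin x x.2, h * g, fun x => rfl⟩,
      hPS, fun x => hin x x.2, fun x => hmem x x.2, fun x => ?_⟩
    rw [hg]
    show π g * π (x : G) * (π g)⁻¹ = π (h * g * x * (h * g)⁻¹)
    have : π h = 1 := by rw [hπ, QuotientGroup.mk'_apply, QuotientGroup.eq_one_iff]; exact hh
    simp only [map_mul, map_inv, this, one_mul, mul_inv_rev, inv_one, mul_one]
  · rintro ⟨hP', φ, ⟨hPS, hφS, g, hg⟩, hP, hφ, hP'', he⟩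
    have hsurj : ∀ y : P', ∃ x, (⟨_, hP'' x⟩ : P') = y := by
      intro y
      obtain ⟨s, hs, hsy⟩ := hP' y.2
      refine ⟨⟨s, ⟨⟨s, hs⟩, ?_, rfl⟩⟩, Subtype.ext hsy⟩
      show QuotientGroup.mk' H s ∈ P'
      rw [hsy]
      exact y.2
    refine ⟨hP', fun y => ?_, QuotientGroup.mk' H g, fun y => ?_⟩
    · obtain ⟨x, rfl⟩ := hsurj y
      rw [he x]
      exact ⟨φ x, hφ x, rfl⟩
    · obtain ⟨x, rfl⟩ := hsurj y
      rw [he x]
      show QuotientGroup.mk' H (φ x) = _
      rw [hg, map_mul, map_mul, map_inv]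
      rfl

end Cfsg.Agent.S5135
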