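import Cfsg.Statements.S5154
import Cfsg.Agent.H89.TransportComponent

set_option autoImplicit false
open Cfsg

namespace Cfsg.Agent.S5154

/-- Let F be a saturated fusion system over a finite p-group S, C a component of F over T, and γ a map of F with source T. Then the image of C under γ — the fusion system over γ(T) whose maps are the homomorphisms induced along γ by the maps of C — is again a component of F. -/
theorem result {Ω : Type*} [Group Ω] {S : Subgroup Ω} [Finite S] (p : ℕ) [Fact p.Prime] (hS : IsPGroup p S) (F : Cfsg.FusionSystem S) (hF : F.IsSaturated p) {T : Subgroup Ω} (C : Cfsg.FusionSystem T) (hC : C.IsComponentIn F p) (γ : T →* Ω) (hγ : γ ∈ F.Hom T) (E : Cfsg.FusionSystem γ.range) (hE : C.IsFactorSystem ⊥ γ E) : E.IsComponentIn F p := by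
  haveI := H85.finite_of_le (H85.source_le hγ)
  let g : T ≃* γ.range := H85.isoOf γ hγ rfl
  have hg : H89.Tp.hom g = γ := MonoidHom.ext fun _ => rfl
  obtain ⟨E', hE'⟩ := H89.Tp.exists_tr_top g C
  have heq : E' = E := by
    refine H85.fusionSystem_ext fun P' => Set.ext fun φ' => ?_
    rw [hE.2.2.2 P' φ']
    constructor
    · intro h
      refine ⟨(E'.le_of_mem h).1, ?_⟩
      have h2 := hE'.pull P' φ' h
      rwa [hg] at h2
    · rintro ⟨hP', φ, hφ, hi⟩
      obtain ⟨ψ, hψ, hψe⟩ := hE'.push' hφ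
      obtain ⟨hA, hB, hC', he⟩ := hi
      refine H86.mem_of_eq_on E' (H89.Tp.im_pre g hP').ge hψ fun y => ?_
      obtain ⟨x, hx, hxy⟩ := H89.Tp.mem_im.1 ((H89.Tp.im_pre g hP').ge y.2)
      have hxP : (x : Ω) ∈ Cfsg.FusionSystem.preimageAlong γ P' := hg ▸ hx
      obtain rfl : y = ⟨γ ⟨(x : Ω), hA hxP⟩, hC' ⟨x, hxP⟩⟩ := Subtype.ext hxy.symm
      rw [he ⟨x, hxP⟩]
      exact (hψe ⟨x, hxP⟩ x.2 (hB _)).symm
  subst heq
  refine ⟨H89.Tp.subnormal_image hC.1 inferInstance hS g hγ hE', ?_⟩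
  exact hE'.quasisimple (hS.to_le (H85.source_le hγ)) hC.2

end Cfsg.Agent.S5154
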