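import Cfsg.Statements.S5164
-- import your own Cfsg.Agent.* helpers here

set_option autoImplicit false
open Cfsg

namespace Cfsg.Agent.S5164

open Equiv in
/-- The blockwise translations. -/
def transHom (k p : ℕ) : (Fin k → Multiplicative (ZMod p)) →* Perm (Fin k × ZMod p) where
  toFun v := Equiv.prodCongrRight fun i => Equiv.addLeft (Multiplicative.toAdd (v i))
  map_one' := by ext x <;> simp
  map_mul' v w := by ext x <;> simp [add_assoc]

theorem transHom_injective (k p : ℕ) : Function.Injective (transHom k p) := by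
  intro v w h
  funext i
  have := congrArg (fun σ => (σ (i, 0)).2) h
  simpa [transHom] using this

/-- The wreath product `C_p ≀ C_p` on `ZMod p × ZMod p`. -/
def wreath (p : ℕ) : Subgroup (Equiv.Perm (ZMod p × ZMod p)) where
  carrier := {σ | ∃ (c : ZMod p) (f : ZMod p → ZMod p), ∀ x, σ x = (x.1 + c, x.2 + f x.1)}
  one_mem' := ⟨0, 0, fun x => by simp⟩
  mul_mem' := by
    rintro σ τ ⟨c, f, hf⟩ ⟨d, g, hg⟩
    exact ⟨d + c, fun i => g i + f (i + d), fun x => by simp [hf, hg, add_assoc]⟩
  inv_mem' := by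
    rintro σ ⟨c, f, hf⟩
    refine ⟨-c, fun i => -f (i - c), fun x => ?_⟩
    apply σ.injective
    rw [← Equiv.Perm.mul_apply, mul_inv_cancel, hf]
    simp [sub_eq_add_neg]

theorem wreath_isPGroup (p : ℕ) [Fact p.Prime] : IsPGroup p (wreath p) := by
  rintro ⟨σ, c, f, hf⟩
  have hpow : ∀ k : ℕ, ∃ g : ZMod p → ZMod p,
      ∀ x, (σ ^ k) x = (x.1 + k • c, x.2 + g x.1) := by
    intro k
    induction k with
    | zero => exact ⟨0, fun x => by simp⟩
    | succ k ih =>
      obtain ⟨g, hg⟩ := ih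
      refine ⟨fun i => g i + f (i + k • c), fun x => ?_⟩
      rw [pow_succ', Equiv.Perm.mul_apply, hg, hf, succ_nsmul]
      simp [add_assoc]
  obtain ⟨h, hh⟩ := hpow p
  have hpow' : ∀ k : ℕ, ∀ x, ((σ ^ p) ^ k) x = (x.1, x.2 + k • h x.1) := by
    intro k
    induction k with
    | zero => intro x; simp
    | succ k ih =>
      intro x
      rw [pow_succ', Equiv.Perm.mul_apply, ih, hh, succ_nsmul]
      simp [add_assoc]
  refine ⟨2, Subtype.ext ?_⟩
  rw [sq, SubgroupClass.coe_pow, pow_mul, Subgroup.coe_one]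
  ext x <;> simp [hpow' p x]

theorem exists_noncomm (p : ℕ) [Fact p.Prime] :
    ∃ a ∈ wreath p, ∃ b ∈ wreath p, a * b ≠ b * a := by
  classical
  refine ⟨Equiv.prodCongr (Equiv.addRight 1) (Equiv.refl _), ⟨1, 0, fun x => by ext <;> simp [Equiv.prodCongr]⟩,
    Equiv.prodCongrRight fun i => Equiv.addRight (if i = 0 then 1 else 0),
    ⟨0, fun i => if i = 0 then 1 else 0, fun x => by simp [Equiv.prodCongrRight]⟩, ?_⟩
  intro h
  have := congrArg (fun σ => (σ (0, 0)).2) h
  simp at this

/-- A homomorphism into a permutation group with image in the alternating group. -/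
noncomputable def toAlt {n : ℕ} {α : Type} [Fintype α] [DecidableEq α]
    (φ : Equiv.Perm α →* Equiv.Perm (Fin n)) (H : Subgroup (Equiv.Perm α))
    (h : ∀ σ ∈ H, Equiv.Perm.sign (φ σ) = 1) : H →* alternatingGroup (Fin n) :=
  (φ.comp H.subtype).codRestrict _ fun σ => Equiv.Perm.mem_alternatingGroup.mpr (h σ σ.2)

theorem sign_eq_one_of_pGroup {p n : ℕ} (hp : Odd p) {G : Type*} [Group G] (hG : IsPGroup p G)
    (φ : G →* Equiv.Perm (Fin n)) (g : G) : Equiv.Perm.sign (φ g) = 1 := by
  obtain ⟨k, hk⟩ := hG g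
  have := congrArg (Equiv.Perm.sign.comp φ) hk
  rw [map_pow, map_one] at this
  rcases Int.units_eq_one_or (Equiv.Perm.sign (φ g)) with h | h
  · exact h
  · exfalso
    rw [show Equiv.Perm.sign.comp φ g = -1 from h, (hp.pow).neg_one_pow] at this
    exact absurd this (by decide)

theorem not_comm_of_le (n p : ℕ) [Fact p.Prime] (hn : 6 ≤ n) (hle : p ^ 2 ≤ n) :
    ∃ H : Subgroup (alternatingGroup (Fin n)), IsPGroup p H ∧ ∃ a ∈ H, ∃ b ∈ H, a * b ≠ b * a := by
  classical
  obtain ⟨φ, hφ, hsign⟩ : ∃ φ : Equiv.Perm (ZMod p × ZMod p) →* Equiv.Perm (Fin n),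
      Function.Injective φ ∧ ∀ σ ∈ wreath p, Equiv.Perm.sign (φ σ) = 1 := by
    rcases (Fact.out : p.Prime).eq_two_or_odd' with rfl | hodd
    · let e : (ZMod 2 × ZMod 2) ⊕ Fin 2 ↪ Fin n :=
        (Fintype.equivFinOfCardEq (by simp : Fintype.card ((ZMod 2 × ZMod 2) ⊕ Fin 2) = 6)).toEmbedding.trans
          (Fin.castLEEmb hn)
      let s : ℤˣ →* Equiv.Perm (Fin 2) :=
        MonoidHom.mk' (fun u => if u = 1 then 1 else Equiv.swap 0 1) (by decide)
      let ψ : Equiv.Perm (ZMod 2 × ZMod 2) →* Equiv.Perm ((ZMod 2 × ZMod 2) ⊕ Fin 2) :=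
        (Equiv.Perm.sumCongrHom _ _).comp ((MonoidHom.id _).prod (s.comp Equiv.Perm.sign))
      refine ⟨(Equiv.Perm.viaEmbeddingHom e).comp ψ,
        (Equiv.Perm.viaEmbeddingHom_injective e).comp ?_, fun σ _ => ?_⟩
      · intro a b h
        have := Equiv.Perm.sumCongrHom_injective h
        exact (Prod.ext_iff.mp this).1
      · show Equiv.Perm.sign (Equiv.Perm.viaEmbedding (ψ σ) e) = 1
        have hs : ∀ u : ℤˣ, Equiv.Perm.sign (s u) = u := by decide
        have he : Equiv.Perm.viaEmbedding (ψ σ) e = Equiv.Perm.viaFintypeEmbedding (ψ σ) e := by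
          ext x
          by_cases hx : x ∈ Set.range e
          · obtain ⟨y, rfl⟩ := hx
            simp [Equiv.Perm.viaEmbedding_apply]
          · rw [Equiv.Perm.viaEmbedding_apply_of_notMem _ _ _ hx,
              Equiv.Perm.viaFintypeEmbedding_apply_notMem_range _ _ hx]
        rw [he, Equiv.Perm.viaFintypeEmbedding_sign]
        show Equiv.Perm.sign (Equiv.Perm.sumCongr σ (s (Equiv.Perm.sign σ))) = 1
        rw [Equiv.Perm.sign_sumCongr, hs, Int.units_mul_self]
    · have hc : Fintype.card (ZMod p × ZMod p) ≤ Fintype.card (Fin n) := by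
        simp [← sq, hle]
      obtain ⟨e⟩ := Function.Embedding.nonempty_of_card_le hc
      refine ⟨Equiv.Perm.viaEmbeddingHom e, Equiv.Perm.viaEmbeddingHom_injective e, fun σ hσ => ?_⟩
      exact sign_eq_one_of_pGroup hodd (wreath_isPGroup p)
        ((Equiv.Perm.viaEmbeddingHom e).comp (wreath p).subtype) ⟨σ, hσ⟩
  let f := toAlt φ (wreath p) hsign
  have hf : Function.Injective f := fun a b h => Subtype.ext (hφ (congrArg Subtype.val h))
  obtain ⟨a, ha, b, hb, hab⟩ := exists_noncomm p
  refine ⟨f.range, (wreath_isPGroup p).of_surjective f.rangeRestrict f.rangeRestrict_surjective,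
    f ⟨a, ha⟩, ⟨_, rfl⟩, f ⟨b, hb⟩, ⟨_, rfl⟩, fun h => hab ?_⟩
  rw [← map_mul, ← map_mul] at h
  exact congrArg Subtype.val (hf h)

theorem comm_of_lt (n p : ℕ) [Fact p.Prime] (hn : 6 ≤ n) (hlt : n < p ^ 2)
    (S : Sylow p (alternatingGroup (Fin n))) :
    ∀ a ∈ (S : Subgroup (alternatingGroup (Fin n))),
      ∀ b ∈ (S : Subgroup (alternatingGroup (Fin n))), a * b = b * a := by
  classical
  have hp := (Fact.out : p.Prime)
  have hodd : Odd p := by
    rcases hp.eq_two_or_odd' with rfl | h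
    · norm_num at hlt; omega
    · exact h
  set k := n / p with hk
  have hkp : k < p := by
    rw [hk, Nat.div_lt_iff_lt_mul hp.pos, ← sq]; exact hlt
  have hc : Fintype.card (Fin k × ZMod p) ≤ Fintype.card (Fin n) := by
    simpa [hk] using Nat.div_mul_le_self n p
  obtain ⟨e⟩ := Function.Embedding.nonempty_of_card_le hc
  have hP : IsPGroup p (Fin k → Multiplicative (ZMod p)) := by
    intro v
    refine ⟨1, funext fun i => ?_⟩
    rw [pow_one, Pi.pow_apply, Pi.one_apply]
    apply Multiplicative.toAdd.injective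
    simp
  let φ := (Equiv.Perm.viaEmbeddingHom e).comp (transHom k p)
  let f : (Fin k → Multiplicative (ZMod p)) →* alternatingGroup (Fin n) :=
    φ.codRestrict _ fun v => Equiv.Perm.mem_alternatingGroup.mpr (sign_eq_one_of_pGroup hodd hP φ v)
  have hf : Function.Injective f := fun a b h =>
    transHom_injective k p (Equiv.Perm.viaEmbeddingHom_injective e (congrArg Subtype.val h))
  have hcardS : Nat.card (S : Subgroup (alternatingGroup (Fin n))) = p ^ k := by
    rw [S.card_eq_multiplicity]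
    congr 1
    have : Nontrivial (Fin n) := Fin.nontrivial_iff_two_le.mpr (by omega)
    have h2 := two_mul_nat_card_alternatingGroup (α := Fin n)
    rw [Nat.card_perm, Nat.card_fin] at h2
    have h0 : Nat.card (alternatingGroup (Fin n)) ≠ 0 := Nat.card_pos.ne'
    have h3 : (2 * Nat.card (alternatingGroup (Fin n))).factorization p = n.factorial.factorization p := by
      rw [h2]
    rw [Nat.factorization_mul two_ne_zero h0, Finsupp.add_apply, Nat.prime_two.factorization,
      Finsupp.single_apply, if_neg (by rintro rfl; exact absurd hodd (by decide)), zero_add] at h3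
    rw [h3, Nat.factorization_def _ hp, ← Nat.div_add_mod n p,
      padicValNat_factorial_mul_add _ (Nat.mod_lt _ hp.pos), padicValNat_factorial_mul,
      ← hk, padicValNat.eq_zero_of_not_dvd (fun h => absurd ((Nat.Prime.dvd_factorial hp).mp h) (by omega))]
    simp
  have hT : Nat.card f.range = p ^ k := by
    rw [Nat.card_congr (MonoidHom.ofInjective hf).symm.toEquiv]
    simp
  let T : Sylow p (alternatingGroup (Fin n)) := Sylow.ofCard f.range (by
    rw [hT, ← hcardS, S.card_eq_multiplicity])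
  have hTc : ∀ x ∈ (T : Subgroup (alternatingGroup (Fin n))),
      ∀ y ∈ (T : Subgroup (alternatingGroup (Fin n))), x * y = y * x := by
    rintro x ⟨u, rfl⟩ y ⟨v, rfl⟩
    rw [← map_mul, ← map_mul, mul_comm]
  intro a ha b hb
  let E := Sylow.equiv S T
  have h := hTc _ (E ⟨a, ha⟩).2 _ (E ⟨b, hb⟩).2
  rw [← Subgroup.coe_mul, ← Subgroup.coe_mul] at h
  exact congrArg Subtype.val (E.injective (show E (⟨a, ha⟩ * ⟨b, hb⟩) = E (⟨b, hb⟩ * ⟨a, ha⟩) by
    rw [map_mul, map_mul]; exact Subtype.ext h))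


/-- For n ≥ 6 and a prime p, a nontrivial Sylow p-subgroup of the alternating group of degree n is abelian if and only if n < p². -/
theorem result (n p : ℕ) (hn : 6 ≤ n) [Fact p.Prime] (S : Sylow p (alternatingGroup (Fin n))) (hS : (S : Subgroup (alternatingGroup (Fin n))) ≠ ⊥) : IsMulCommutative S ↔ n < p ^ 2 := by
  constructor
  · intro hc
    by_contra hle
    obtain ⟨H, hH, a, ha, b, hb, hab⟩ := not_comm_of_le n p hn (not_lt.mp hle)
    obtain ⟨Q, hQ⟩ := hH.exists_le_sylow
    let E := Sylow.equiv Q S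
    apply hab
    have h : E ⟨a, hQ ha⟩ * E ⟨b, hQ hb⟩ = E ⟨b, hQ hb⟩ * E ⟨a, hQ ha⟩ := hc.is_comm.comm _ _
    rw [← map_mul, ← map_mul] at h
    exact congrArg Subtype.val (E.injective h)
  · intro hlt
    exact ⟨⟨fun a b => Subtype.ext (comm_of_lt n p hn hlt S a a.2 b b.2)⟩⟩

end Cfsg.Agent.S5164
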