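import Cfsg.Statements.S5166
import Cfsg.Agent.H87.MathieuCert
import Cfsg.Agent.H87.DataM11
-- import your own Cfsg.Agent.* helpers here

set_option autoImplicit false
open Cfsg

namespace Cfsg.Agent.S5166

theorem subgroup_ok : H87.subgroupOK H87.mem11 H87.dataM11 = true := by decide +kernel

theorem fixed_ok : H87.fixedOK H87.dataM11 = true := by decide +kernel

theorem closed_ok : H87.closedOK H87.mem11 H87.dataM11 = true := by decide +kernel

/-- The 2-fusion system of the Mathieu group M₁₁ (as the explicit permutation group carved out of the automorphism group of the binary Golay code) on a Sylow 2-subgroup is simple: saturated, over a nontrivial 2-group, with no normal subsystem other than the trivial one and itself. -/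
theorem result (S : Sylow 2 Cfsg.Spor.M11) : (Cfsg.groupFusionSystem (S : Subgroup Cfsg.Spor.M11)).IsSimple 2 := by
  exact H87.isSimple_of_cert H87.mem11 (fun _ h => H87.exists_of_mem11 h) H87.dataM11 subgroup_ok fixed_ok closed_ok
    (m := 495) ⟨247, by norm_num⟩
    (by rw [H87.natCard_M11, show H87.dataM11.bs.length = 4 from rfl]; norm_num) (by decide) S

end Cfsg.Agent.S5166
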