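import Cfsg.Statements.S5170
import Cfsg.Agent.H87.MathieuCert
import Cfsg.Agent.H87.DataM24
-- import your own Cfsg.Agent.* helpers here

set_option autoImplicit false
open Cfsg

namespace Cfsg.Agent.S5170

theorem subgroup_ok : H87.subgroupOK H87.mem24 H87.dataM24 = true := by decide +kernel

theorem fixed_ok : H87.fixedOK H87.dataM24 = true := by decide +kernel

theorem closed_ok : H87.closedOK H87.mem24 H87.dataM24 = true := by decide +kernel

/-- The 2-fusion system of the Mathieu group M₂₄ (as the explicit permutation group of the 24 points preserving the binary Golay code) on a Sylow 2-subgroup is simple: saturated, over a nontrivial 2-group, with no normal subsystem other than the trivial one and itself. -/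
theorem result (S : Sylow 2 Cfsg.M24) : (Cfsg.groupFusionSystem (S : Subgroup Cfsg.M24)).IsSimple 2 := by
  exact H87.isSimple_of_cert H87.mem24 (fun p h => let ⟨σ, hσ, hr⟩ := H87.exists_of_mem24 h; ⟨⟨σ, hσ⟩, hr⟩) H87.dataM24 subgroup_ok fixed_ok closed_ok
    (m := 239085) ⟨119542, by norm_num⟩
    (by rw [H90.natCard_M24, show H87.dataM24.bs.length = 10 from rfl]; norm_num) (by decide) S

end Cfsg.Agent.S5170
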