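import Cfsg.Statements.S5178
import Cfsg.Agent.H75.SmallIndex.Odd

set_option autoImplicit false
universe u
open Cfsg Cfsg.FusionSystem
open scoped commutatorElement

namespace Cfsg.Agent.S5178

open H75.SmallIndex

theorem main {Ω : Type*} [Group Ω] {S : Subgroup Ω} [Finite S] (p : ℕ) [hp' : Fact p.Prime]
    (hp : Odd p) (hS : IsPGroup p S) (Q : Subgroup Ω) (hQS : Q ≤ S)
    (hQ : Cfsg.IsExtraspecial p ↥Q) (hQi : Q.relIndex S = p) (F : Cfsg.FusionSystem S)
    (hF : F.IsSaturated p) (hO : F.core = ⊥) : zc S = zc Q := by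
  classical
  have hp2 : p ≠ 2 := fun e => by rw [e] at hp; exact absurd hp (by decide)
  haveI : Finite Q := H85.finite_of_le hQS
  set Zq := zc Q with hZq
  have hZqQ : Zq ≤ Q := zc_le Q
  haveI : Finite Zq := H85.finite_of_le (hZqQ.trans hQS)
  have hZcard : Nat.card Zq = p := by
    rw [← Nat.card_congr (Subgroup.subgroupOfEquivOfLe hZqQ).toEquiv, zc_subgroupOf, hQ.2]
  have hQQ : ⁅Q, Q⁆ = Zq := by
    rw [← Subgroup.map_subtype_commutator Q, hQ.1.2.2, ← zc_subgroupOf,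
      Subgroup.map_subgroupOf_eq_of_le hZqQ]
  by_contra hne
  -- the centre is outside `Q`
  obtain ⟨c, hc, hcQ⟩ : ∃ c ∈ zc S, c ∉ Q := by
    by_contra hall
    push Not at hall
    have hle : zc S ≤ Zq := fun z hz => mem_zc.2 ⟨hall z hz, fun q hq => (mem_zc.1 hz).2 q (hQS hq)⟩
    refine hne (Subgroup.eq_of_le_of_card_ge hle ?_)
    haveI : Nontrivial S := (Subgroup.nontrivial_iff_ne_bot _).2 fun e => by
      have h1 : Q = ⊥ := eq_bot_iff.2 (hQS.trans e.le)
      have h2 : Zq = ⊥ := eq_bot_iff.2 (hZqQ.trans h1.le)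
      rw [h2, Subgroup.card_bot] at hZcard
      exact hp'.out.one_lt.ne hZcard
    haveI := hS.center_nontrivial
    haveI : Finite ↥(zc S) := H85.finite_of_le (zc_le S)
    have h1 : 1 < Nat.card ↥(zc S) := by
      rw [← Nat.card_congr (Subgroup.subgroupOfEquivOfLe (zc_le S)).toEquiv, zc_subgroupOf]
      exact Finite.one_lt_card
    have h2 := Subgroup.card_dvd_of_le hle
    rw [hZcard] at h2 ⊢
    exact ((Nat.dvd_prime hp'.out).1 h2).resolve_left h1.ne' |>.ge
  have hcS : c ∈ S := zc_le S hc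
  have hcc : ∀ y ∈ S, Commute y c := (mem_zc.1 hc).2
  have hSeq : S = Q ⊔ Subgroup.zpowers c := eq_sup_of_index hQS hQi hcS hcQ
  have hcn : Subgroup.zpowers c ≤ Subgroup.normalizer (Q : Set Ω) := by
    rw [Subgroup.zpowers_le]
    refine H85.mem_normalizer_of_conj fun q hq => ?_
    rw [← (hcc q (hQS hq)).eq, mul_inv_cancel_right]
    exact hq
  have hdec : ∀ x ∈ S, ∃ q ∈ Q, ∃ n : ℤ, x = q * c ^ n := by
    intro x hx
    rw [hSeq, ← SetLike.mem_coe, Subgroup.coe_mul_of_right_le_normalizer_left _ _ hcn] at hx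
    obtain ⟨q, hq, y, hy, rfl⟩ := hx
    obtain ⟨n, rfl⟩ := Subgroup.mem_zpowers_iff.1 hy
    exact ⟨q, hq, n, rfl⟩
  have hQn : S ≤ Subgroup.normalizer (Q : Set Ω) := fun x hx => by
    obtain ⟨q, hq, n, rfl⟩ := hdec x hx
    exact mul_mem (Subgroup.le_normalizer hq) (zpow_mem (hcn (Subgroup.mem_zpowers c)) n)
  have hZZ : Zq ≤ zc S := by
    intro z hz
    refine mem_zc.2 ⟨hQS (hZqQ hz), fun x hx => ?_⟩
    obtain ⟨q, hq, n, rfl⟩ := hdec x hx
    exact ((show Commute q z from (mem_zc.1 hz).2 q hq).mul_left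
      ((hcc z (hQS (hZqQ hz))).zpow_right n).symm).eq
  -- commutators and powers
  have hcommZ : ∀ x ∈ S, ∀ y ∈ S, ⁅x, y⁆ ∈ Zq := by
    intro x hx y hy
    obtain ⟨q, hq, n, rfl⟩ := hdec x hx
    obtain ⟨r, hr, m, rfl⟩ := hdec y hy
    have e : ⁅q * c ^ n, r * c ^ m⁆ = ⁅q, r⁆ := by
      have h1 : Commute (c ^ n) r := ((hcc r (hQS hr)).zpow_right n).symm
      have h2 : Commute (c ^ m) q := ((hcc q (hQS hq)).zpow_right m).symm
      have h3 : Commute (c ^ n) (c ^ m) := (Commute.refl c).zpow_zpow n m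
      have h4 : Commute (c ^ n) q := ((hcc q (hQS hq)).zpow_right n).symm
      have h5 : Commute (c ^ m) r := ((hcc r (hQS hr)).zpow_right m).symm
      rw [commutatorElement_def, commutatorElement_def]
      calc q * c ^ n * (r * c ^ m) * (q * c ^ n)⁻¹ * (r * c ^ m)⁻¹
          = q * (c ^ n * (r * c ^ m)) * (c ^ n)⁻¹ * q⁻¹ * (c ^ m)⁻¹ * r⁻¹ := by group
        _ = q * r * c ^ m * q⁻¹ * (c ^ m)⁻¹ * r⁻¹ := by rw [(h1.mul_right h3).eq]; group
        _ = q * r * (c ^ m * q⁻¹) * (c ^ m)⁻¹ * r⁻¹ := by group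
        _ = q * r * q⁻¹ * r⁻¹ := by rw [h2.inv_right.eq]; group
    rw [e, ← hQQ]
    exact Subgroup.commutator_mem_commutator hq hr
  have hZp : ∀ z ∈ Zq, z ^ p = 1 := fun z hz => by
    have := pow_card_eq_one' (G := Zq) (x := ⟨z, hz⟩)
    rw [hZcard] at this
    exact (congrArg Subtype.val this :)
  have hSS : ⁅S, S⁆ = Zq := le_antisymm (Subgroup.commutator_le.2 hcommZ)
    (hQQ.ge.trans (Subgroup.commutator_mono hQS hQS))
  have hQpow : ∀ q ∈ Q, q ^ p ∈ Zq := by
    intro q hq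
    refine mem_zc.2 ⟨Q.pow_mem hq p, fun y hy => ?_⟩
    have hw : ⁅y, q⁆ ∈ Zq := hcommZ y (hQS hy) q (hQS hq)
    have e : y * q * y⁻¹ = ⁅y, q⁆ * q := by rw [commutatorElement_def]; group
    have h1 := conj_pow (a := y) (b := q) (i := p)
    rw [e, (show Commute ⁅y, q⁆ q from ((mem_zc.1 hw).2 q hq).symm).mul_pow,
      hZp _ hw, one_mul] at h1
    exact mul_inv_eq_iff_eq_mul.1 h1.symm
  haveI hQnorm : (Q.subgroupOf S).Normal :=
    ⟨fun n hn g => show (g : Ω) * n * (g : Ω)⁻¹ ∈ Q from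
      H85.conj_mem_of_mem_normalizer (hQn g.2) hn⟩
  have hcp : c ^ p ∈ Zq := by
    have h1 := Subgroup.pow_index_mem (Q.subgroupOf S) ⟨c, hcS⟩
    have h2 : c ^ p ∈ Q := by
      rw [show (Q.subgroupOf S).index = p from hQi] at h1
      exact h1
    exact mem_zc.2 ⟨h2, fun q hq => ((hcc q (hQS hq)).pow_right p).eq⟩
  have hpowZ : ∀ x ∈ S, x ^ p ∈ Zq := by
    intro x hx
    obtain ⟨q, hq, n, rfl⟩ := hdec x hx
    rw [((hcc q (hQS hq)).zpow_right n).mul_pow, ← zpow_natCast (c ^ n), ← zpow_mul, mul_comm,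
      zpow_mul, zpow_natCast]
    exact Zq.mul_mem (hQpow q hq) (Zq.zpow_mem hcp n)
  have hgen : ∀ w ∈ Zq, w ≠ 1 → ∀ z ∈ Zq, ∃ n : ℕ, z = w ^ n := by
    intro w hw hw1 z hz
    obtain ⟨j, hj⟩ := mem_powers_of_prime_card (G := Zq) (g := ⟨w, hw⟩) (g' := ⟨z, hz⟩) hZcard
      fun e => hw1 (congrArg Subtype.val e)
    exact ⟨j, (congrArg Subtype.val hj).symm⟩
  have hZne : Zq ≠ ⊥ := fun e => by
    rw [e, Subgroup.card_bot] at hZcard; exact hp'.out.one_lt.ne hZcard
  have hS1 : S ≠ ⊥ := fun e => hZne (eq_bot_iff.2 ((hZqQ.trans hQS).trans e.le))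
  -- the centre has index above `p²`
  have hidx : ¬ (zc S).relIndex S ≤ p ^ 2 := by
    intro hle
    rw [Subgroup.relIndex, zc_subgroupOf] at hle
    have hcard := (odd_conclusion hp2 (smallCenter_of_hyp hS hF hO hS1 hle) hF hO hS1).2.1
    have h1 := (Q.subgroupOf S).card_mul_index
    rw [Nat.card_congr (Subgroup.subgroupOfEquivOfLe hQS).toEquiv,
      show (Q.subgroupOf S).index = p from hQi, hcard, pow_succ] at h1
    have h2 : Nat.card Q = p ^ 2 := Nat.eq_of_mul_eq_mul_right hp'.out.pos h1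
    refine hZne (hQQ.symm.trans (eq_bot_iff.2 (Subgroup.commutator_le.2 fun a ha b hb => ?_)))
    rw [Subgroup.mem_bot, commutatorElement_eq_one_iff_mul_comm]
    exact congrArg Subtype.val (IsPGroup.commutative_of_card_eq_prime_sq h2 (⟨a, ha⟩ : Q) ⟨b, hb⟩)
  refine false_of_invariant hS hF hO (hZqQ.trans hQS) hZne (fun β _ x hx => ?_) fun E hE => ?_
  · rw [← hSS] at hx ⊢
    exact map_mem_comm β hx
  have hES : E ≤ S := hE.1.1
  have hZE : zc S ≤ E := fun z hz =>
    H87.essential_centric hE (zc_le S hz) fun e he => (mem_zc.1 hz).2 e (hES he)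
  have hZqE : Zq ≤ E := hZZ.trans hZE
  refine ⟨hZqE, fun α hα x hx => ?_⟩
  -- it is enough to control one generator
  suffices hw : ∃ w : E, (w : Ω) ∈ Zq ∧ w ≠ 1 ∧ ((α w : E) : Ω) ∈ Zq by
    obtain ⟨w, hwZ, hw1, hαw⟩ := hw
    obtain ⟨n, hn⟩ := hgen _ hwZ (fun e => hw1 (Subtype.ext e)) _ hx
    rw [show x = w ^ n from Subtype.ext (by rw [SubmonoidClass.coe_pow]; exact hn), map_pow,
      SubmonoidClass.coe_pow]
    exact Zq.pow_mem hαw n
  by_cases hexp : ∃ e : E, e ^ p ≠ 1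
  · obtain ⟨e, he⟩ := hexp
    refine ⟨e ^ p, hpowZ e (hES e.2), he, ?_⟩
    rw [map_pow, SubmonoidClass.coe_pow]
    exact hpowZ _ (hES (α e).2)
  by_cases hab : ∃ a b : E, a * b ≠ b * a
  · obtain ⟨a, b, hab⟩ := hab
    refine ⟨⁅a, b⁆, hcommZ a (hES a.2) b (hES b.2), fun e =>
      hab (commutatorElement_eq_one_iff_mul_comm.1 e), ?_⟩
    rw [map_commutatorElement]
    exact hcommZ _ (hES (α a).2) _ (hES (α b).2)
  push Not at hexp hab
  -- the elementary abelian case does not occur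
  exfalso
  haveI : Finite E := H85.finite_of_le hES
  have hEc : IsMulCommutative ↥E := ⟨⟨hab⟩⟩
  have hnorm : ∀ s ∈ S, s ∈ normalizerIn S E := fun s hs => ⟨hs,
    H85.mem_normalizer_of_conj fun e he => by
      have h1 := E.mul_mem (hZqE (hcommZ s hs e (hES he))) he
      rwa [commutatorElement_def, inv_mul_cancel_right] at h1⟩
  have hhom : ∀ {H : Subgroup Ω}, H ≤ S → ∀ v ∈ S, ∃ f : ↥H →* ↥Zq,
      ∀ a : H, ((f a : Zq) : Ω) = ⁅(a : Ω), v⁆ := fun {H} hH v hv => ⟨
    { toFun := fun a => ⟨⁅(a : Ω), v⁆, hcommZ a (hH a.2) v hv⟩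
      map_one' := Subtype.ext (by simp [commutatorElement_def])
      map_mul' := fun a b => Subtype.ext (by
        show ⁅(a : Ω) * (b : Ω), v⁆ = ⁅(a : Ω), v⁆ * ⁅(b : Ω), v⁆
        have hb := hcommZ b (hH b.2) v hv
        have ha := hcommZ a (hH a.2) v hv
        have e : ⁅(a : Ω) * (b : Ω), v⁆ = (a : Ω) * ⁅(b : Ω), v⁆ * (a : Ω)⁻¹ * ⁅(a : Ω), v⁆ := by
          rw [commutatorElement_def, commutatorElement_def, commutatorElement_def]; group
        rw [e, (mem_zc.1 (hZZ hb)).2 a (hH a.2), mul_inv_cancel_right,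
          (mem_zc.1 hb).2 _ (hZqQ ha)]) },
    fun a => rfl⟩
  have hrange : ∀ {H : Subgroup Ω} [Finite H] {N : Subgroup H} (f : ↥H →* ↥Zq),
      f.ker ≤ N → N.index ≤ p := by
    intro H _ N f hN
    refine (Nat.le_of_dvd (Nat.pos_of_ne_zero Subgroup.index_ne_zero_of_finite)
      (Subgroup.index_dvd_of_le hN)).trans ?_
    rw [Subgroup.index_ker, ← hZcard]
    exact Subgroup.card_le_card_group _
  have hEi : ¬ E.relIndex S ≤ p := by
    intro hle
    have hne1 : E.relIndex S ≠ 1 := fun h1 =>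
      H89.essential_ne_top hS hF hE (le_antisymm hES (relIndex_eq_one_iff.1 h1))
    obtain ⟨s, hs, hsE⟩ : ∃ s ∈ S, s ∉ E := by
      by_contra hall
      push Not at hall
      exact hne1 (relIndex_eq_one_iff.2 hall)
    have hEp : E.relIndex S = p := by
      obtain ⟨k, hk⟩ := IsPGroup.iff_card.1 hS
      obtain ⟨i, -, hi⟩ := (Nat.dvd_prime_pow hp'.out).1
        (hk ▸ Subgroup.index_dvd_card (E.subgroupOf S))
      have hi' : E.relIndex S = p ^ i := hi
      rw [hi'] at hle hne1 ⊢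
      rcases i with _ | _ | i
      · exact absurd (pow_zero p) hne1
      · rw [pow_one]
      · have : p ^ 1 < p ^ (i + 2) := Nat.pow_lt_pow_right hp'.out.one_lt (by omega)
        rw [pow_one] at this
        exact absurd hle (not_le.2 this)
    have hSE := eq_sup_of_index hES hEp hs hsE
    obtain ⟨f, hf⟩ := hhom hES s hs
    have hker : f.ker ≤ (zc S).subgroupOf E := by
      intro a ha
      have hcom : Commute (a : Ω) s := commutatorElement_eq_one_iff_mul_comm.1 (by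
        rw [← hf a, MonoidHom.mem_ker.1 ha]; rfl)
      refine Subgroup.mem_subgroupOf.2 (mem_zc.2 ⟨hES a.2, fun y hy => ?_⟩)
      have hle : S ≤ Subgroup.centralizer ({(a : Ω)} : Set Ω) := by
        rw [hSE]
        refine sup_le (fun e he => ?_) (Subgroup.zpowers_le.2 ?_)
        · exact Subgroup.mem_centralizer_singleton_iff.2
            (congrArg Subtype.val (hab ⟨e, he⟩ a))
        · exact Subgroup.mem_centralizer_singleton_iff.2 hcom.eq.symm
      exact Subgroup.mem_centralizer_singleton_iff.1 (hle hy)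
    refine hidx ?_
    rw [← Subgroup.relIndex_mul_relIndex (zc S) E S hZE hES, hEp, sq]
    exact Nat.mul_le_mul_right _ (hrange f hker)
  have hC : ∀ w : E, ∃ s ∈ S, s ∉ E ∧ Commute s (w : Ω) := by
    intro w
    by_contra hall
    push Not at hall
    obtain ⟨f, hf⟩ := hhom le_rfl (w : Ω) (hES w.2)
    refine hEi (hrange (N := E.subgroupOf S) f fun a ha => ?_)
    by_contra haE
    refine hall a a.2 haE (commutatorElement_eq_one_iff_mul_comm.1 ?_)
    rw [← hf a, MonoidHom.mem_ker.1 ha]; rfl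
  obtain ⟨z0, hz0, hz01⟩ : ∃ z ∈ Zq, z ≠ 1 := by
    by_contra hall
    push Not at hall
    exact hZne ((Subgroup.eq_bot_iff_forall Zq).2 hall)
  set z : E := ⟨z0, hZqE hz0⟩ with hz
  refine H87.essential_no_commuting hE (autInducedBy S E) (H85.autInducedBy_isPGroup hS E)
    (H85.autInducedBy_le_autGroup F hES) fun g hg => ?_
  obtain ⟨s, hs, hsE, hsc⟩ := hC (g z)
  obtain ⟨s', hs', hs'E, hs'c⟩ := hC (g⁻¹ z)
  set t := H85.conjAut S E ⟨s, hnorm s hs⟩ with ht
  set u := H85.conjAut S E ⟨s', hnorm s' hs'⟩ with hu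
  refine ⟨t, H85.conjAut_range S E ▸ ⟨_, rfl⟩, u, H85.conjAut_range S E ▸ ⟨_, rfl⟩,
    fun hI => hsE (H85.mem_of_induces_inner hE.1 hs hI fun y => by rw [ht, H85.conjAut_apply]),
    fun hI => hs'E (H85.mem_of_induces_inner hE.1 hs' hI fun y => by rw [hu, H85.conjAut_apply]),
    ?_⟩
  -- coefficients of the two transvections
  have hcoef : ∀ {v : Ω} (hv : v ∈ S) (y : E), ∃ n : ℕ,
      H85.conjAut S E ⟨v, hnorm v hv⟩ y = z ^ n * y := by
    intro v hv y
    obtain ⟨n, hn⟩ := hgen z0 hz0 hz01 _ (hcommZ v hv y (hES y.2))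
    refine ⟨n, Subtype.ext ?_⟩
    rw [H85.conjAut_apply, Subgroup.coe_mul, SubmonoidClass.coe_pow]
    show v * (y : Ω) * v⁻¹ = z0 ^ n * y
    rw [← hn, commutatorElement_def]
    group
  have hfixz : ∀ {v : Ω} (hv : v ∈ S) (w : E), Commute v (w : Ω) →
      H85.conjAut S E ⟨v, hnorm v hv⟩ w = w := fun {v} hv w hvw => Subtype.ext (by
    rw [H85.conjAut_apply]
    show v * (w : Ω) * v⁻¹ = w
    rw [hvw.eq, mul_inv_cancel_right])
  have htgz : t (g z) = g z := hfixz hs _ hsc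
  have hdz : (g * u * g⁻¹) z = z := by
    rw [MulAut.mul_apply, MulAut.mul_apply, hfixz hs' _ hs'c, MulAut.apply_inv_self]
  refine MulEquiv.ext fun y => ?_
  obtain ⟨n, hn⟩ := hcoef hs' (g⁻¹ y)
  obtain ⟨m, hm⟩ := hcoef hs y
  have hdy : (g * u * g⁻¹) y = g z ^ n * y := by
    rw [MulAut.mul_apply, MulAut.mul_apply, hn, map_mul, map_pow, MulAut.apply_inv_self]
  show t ((g * u * g⁻¹) y) = (g * u * g⁻¹) (t y)
  rw [hdy, hm, map_mul, map_mul, map_pow, map_pow, htgz, hdz, hdy, hm, ← mul_assoc, ← mul_assoc,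
    hab (z ^ m) (g z ^ n)]

/-- Let p be an odd prime, S a finite p-group containing an extraspecial subgroup Q of index p, and F a saturated fusion system over S whose largest subgroup normal in F is trivial. Then the centre of S equals the centre of Q. -/
theorem result {Ω : Type u} [Group Ω] {S : Subgroup Ω} [Finite S] (p : ℕ) [Fact p.Prime] (hp : Odd p) (hS : IsPGroup p S)
    (Q : Subgroup Ω) (hQS : Q ≤ S) (hQ : Cfsg.IsExtraspecial p ↥Q) (hQi : (Q.subgroupOf S).index = p)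
    (F : Cfsg.FusionSystem S) (hF : F.IsSaturated p) (hO : F.core = ⊥) :
    S ⊓ Subgroup.centralizer (S : Set Ω) = Q ⊓ Subgroup.centralizer (Q : Set Ω) := by
  exact main p hp hS Q hQS hQ hQi F hF hO

end Cfsg.Agent.S5178
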