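import Cfsg.Statements.S5186
import Cfsg.Agent.H87.OrderPCube
import Cfsg.Agent.H87.Essential

set_option autoImplicit false
universe u
open Cfsg

namespace Cfsg.Agent.S5186

/-- Let F be a saturated fusion system over a finite p-group S and H an essential subgroup of order p³. Then H is elementary abelian, or p is odd and H is extraspecial of exponent p, or p = 2 and H is the quaternion group of order 8. -/
theorem result {Ω : Type u} [Group Ω] {S : Subgroup Ω} [Finite S] (p : ℕ) [Fact p.Prime] (hS : IsPGroup p S)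
    (F : Cfsg.FusionSystem S) (hF : F.IsSaturated p) (H : Subgroup Ω) (hH : F.IsEssential p H) (hcard : Nat.card H = p ^ 3) :
    Cfsg.IsElementaryAbelian p H ∨ (Odd p ∧ Cfsg.IsExtraspecial p ↥H ∧ ∀ x ∈ H, x ^ p = 1) ∨
      (p = 2 ∧ Nonempty (↥H ≃* QuaternionGroup 2)) := by
  haveI := H87.essential_finite hH
  rcases H87.order_p_cube_cases hcard (F.autGroup H) (H87.essential_not_derivedFixes hH) with
    ⟨hab, h⟩ | ⟨hodd, hex, h⟩ | h
  · exact Or.inl ⟨hab, fun x hx => congrArg Subtype.val (h ⟨x, hx⟩)⟩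
  · exact Or.inr (Or.inl ⟨hodd, hex, fun x hx => congrArg Subtype.val (h ⟨x, hx⟩)⟩)
  · exact Or.inr (Or.inr h)

end Cfsg.Agent.S5186
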