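import Cfsg.Statements.S5188
import Cfsg.Agent.H34.EssentialFour

set_option autoImplicit false
universe u
open Cfsg

namespace Cfsg.Agent.S5188

theorem iso_of_omega {H : Type*} [CommGroup H] [Finite H] {p : ℕ} [Fact p.Prime]
    (hcard : Nat.card H = p ^ 4) (hK : Nat.card (H87.omegaP p H) = p ^ 3) :
    Nonempty (H ≃* Multiplicative (ZMod (p ^ 2) × ZMod p × ZMod p)) := by
  have hp : p.Prime := Fact.out
  set K := H87.omegaP p H with hKdef
  set R := (powMonoidHom p : H →* H).range with hR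
  have hRcard : Nat.card R = p := by
    have h1 := Subgroup.card_mul_index K
    rw [show K = (powMonoidHom p : H →* H).ker from rfl, Subgroup.index_ker] at h1
    rw [show (powMonoidHom p : H →* H).ker = K from rfl, hK, hcard] at h1
    exact Nat.eq_of_mul_eq_mul_left (pow_pos hp.pos 3) (h1.trans (by ring))
  obtain ⟨a, ha⟩ : ∃ a, a ∉ K := by
    by_contra h
    push Not at h
    rw [show K = ⊤ from eq_top_iff.2 fun x _ => h x, Subgroup.card_top, hcard] at hK
    exact absurd (Nat.pow_right_injective hp.two_le hK) (by norm_num)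
  have hap : a ^ p ≠ 1 := ha
  have hapR : a ^ p ∈ R := ⟨a, rfl⟩
  have hord' : orderOf (a ^ p) = p :=
    ((Nat.dvd_prime hp).1 ((Subgroup.orderOf_dvd_natCard R hapR).trans hRcard.dvd)).resolve_left
      (fun h => hap (orderOf_eq_one_iff.1 h))
  have hapK : a ^ p ∈ K := by
    show (a ^ p) ^ p = 1
    exact orderOf_dvd_iff_pow_eq_one.1 hord'.dvd
  have horda : orderOf a = p ^ 2 := by
    refine orderOf_eq_prime_pow (n := 1) (by rwa [pow_one]) ?_
    rw [show p ^ (1 + 1) = p * p by ring, pow_mul]; exact hapK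
  set P := Subgroup.zpowers (a ^ p) with hP
  have hPcard : Nat.card P = p := by rw [hP, Nat.card_zpowers, hord']
  obtain ⟨b, hbK, hbP⟩ : ∃ b ∈ K, b ∉ P := by
    by_contra h
    push Not at h
    have := Subgroup.card_le_of_le (show K ≤ P from h)
    rw [hK, hPcard] at this
    nlinarith [hp.two_le, Nat.pow_le_pow_right hp.pos (show 2 ≤ 3 by norm_num)]
  set P2 := P ⊔ Subgroup.zpowers b with hP2
  have hP2card : Nat.card P2 = p * p := by
    rw [hP2, H34.card_sup_zpowers (p := p) P hbP (by rw [show b ^ p = 1 from hbK]; exact P.one_mem), hPcard]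
  obtain ⟨c, hcK, hcP⟩ : ∃ c ∈ K, c ∉ P2 := by
    by_contra h
    push Not at h
    have := Subgroup.card_le_of_le (show K ≤ P2 from h)
    rw [hK, hP2card] at this
    nlinarith [hp.two_le]
  have hP3 : P2 ⊔ Subgroup.zpowers c = K := Subgroup.eq_of_le_of_card_ge
    (sup_le (sup_le (Subgroup.zpowers_le.2 hapK) (Subgroup.zpowers_le.2 hbK)) (Subgroup.zpowers_le.2 hcK))
    (by
      rw [H34.card_sup_zpowers (p := p) P2 hcP (by rw [show c ^ p = 1 from hcK]; exact P2.one_mem),
        hP2card, hK]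
      exact le_of_eq (by ring))
  have htop : K ⊔ Subgroup.zpowers a = ⊤ := Subgroup.eq_top_of_card_eq _ (by
    rw [H34.card_sup_zpowers (p := p) K ha hapK, hK, hcard]; ring)
  let φ : ↥(Subgroup.zpowers a) × ↥(Subgroup.zpowers b) × ↥(Subgroup.zpowers c) →* H :=
    (Subgroup.zpowers a).subtype.coprod ((Subgroup.zpowers b).subtype.coprod (Subgroup.zpowers c).subtype)
  have hordb : orderOf b = p := orderOf_eq_prime hbK (fun h => hbP (h ▸ P.one_mem))
  have hordc : orderOf c = p := orderOf_eq_prime hcK (fun h => hcP (h ▸ P2.one_mem))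
  have hma : a ∈ φ.range := ⟨(⟨a, Subgroup.mem_zpowers a⟩, 1, 1), by simp [φ]⟩
  have hmb : b ∈ φ.range := ⟨(1, ⟨b, Subgroup.mem_zpowers b⟩, 1), by simp [φ]⟩
  have hmc : c ∈ φ.range := ⟨(1, 1, ⟨c, Subgroup.mem_zpowers c⟩), by simp [φ]⟩
  have hsurj : Function.Surjective φ := MonoidHom.range_eq_top.1 (eq_top_iff.2 (htop ▸ sup_le
    (hP3 ▸ sup_le (sup_le (Subgroup.zpowers_le.2 (φ.range.pow_mem hma p))
      (Subgroup.zpowers_le.2 hmb)) (Subgroup.zpowers_le.2 hmc))
    (Subgroup.zpowers_le.2 hma)))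
  have hbij : Function.Bijective φ := by
    refine (Nat.bijective_iff_surjective_and_card φ).2 ⟨hsurj, ?_⟩
    rw [Nat.card_prod, Nat.card_prod, Nat.card_zpowers, Nat.card_zpowers, Nat.card_zpowers, horda,
      hordb, hordc, hcard]
    ring
  have ea : Nat.card ↥(Subgroup.zpowers a) = Nat.card (Multiplicative (ZMod (p ^ 2))) := by
    rw [Nat.card_zpowers, horda, Nat.card_congr Multiplicative.toAdd, Nat.card_zmod]
  have eb : Nat.card ↥(Subgroup.zpowers b) = Nat.card (Multiplicative (ZMod p)) := by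
    rw [Nat.card_zpowers, hordb, Nat.card_congr Multiplicative.toAdd, Nat.card_zmod]
  have ec : Nat.card ↥(Subgroup.zpowers c) = Nat.card (Multiplicative (ZMod p)) := by
    rw [Nat.card_zpowers, hordc, Nat.card_congr Multiplicative.toAdd, Nat.card_zmod]
  exact ⟨(MulEquiv.ofBijective φ hbij).symm.trans ((MulEquiv.prodCongr
    (mulEquivOfCyclicCardEq ea)
    (MulEquiv.prodCongr (mulEquivOfCyclicCardEq eb) (mulEquivOfCyclicCardEq ec))).trans
    (((MulEquiv.refl _).prodCongr (MulEquiv.prodMultiplicative _ _).symm).trans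
      (MulEquiv.prodMultiplicative _ _).symm))⟩

open scoped IsMulCommutative in
theorem abelian_cases {Ω : Type u} [Group Ω] {S : Subgroup Ω} [Finite S] (p : ℕ) [Fact p.Prime]
    (hS : IsPGroup p S) (F : Cfsg.FusionSystem S) (H : Subgroup Ω) (hH : F.IsEssential p H)
    (hcard : Nat.card H = p ^ 4) (hab : IsMulCommutative ↥H) :
    Cfsg.IsElementaryAbelian p H ∨
      Nonempty (↥H ≃* Multiplicative (ZMod (p ^ 2) × ZMod p × ZMod p)) ∨
      ((p = 2 ∨ p = 3) ∧ Nonempty (↥H ≃* Multiplicative (ZMod (p ^ 2) × ZMod (p ^ 2)))) := by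
  have hp : p.Prime := Fact.out
  haveI := H87.essential_finite hH
  haveI := hab
  have hHp := H87.essential_isPGroup hS hH
  obtain ⟨j, hj, hK⟩ := (Nat.dvd_prime_pow hp).1
    (hcard ▸ Subgroup.card_subgroup_dvd_card (H87.omegaP p ↥H))
  by_cases hj4 : j = 4
  · left
    refine ⟨hab, fun x hx => ?_⟩
    have htop : H87.omegaP p ↥H = ⊤ := Subgroup.eq_top_of_card_eq _ (by rw [hK, hj4, hcard])
    exact congrArg Subtype.val (show (⟨x, hx⟩ : ↥H) ^ p = 1 from
      (htop ▸ Subgroup.mem_top _ : (⟨x, hx⟩ : ↥H) ∈ H87.omegaP p ↥H))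
  by_cases hj3 : j = 3
  · exact Or.inr (Or.inl (iso_of_omega hcard (by rw [hK, hj3])))
  right; right
  have hle : (powMonoidHom p : ↥H →* ↥H).range ≤ frattini ↥H := by
    rintro _ ⟨x, rfl⟩
    exact H76.pow_mem_frattini hHp x
  have hrk : (frattini ↥H).index ≤ p ^ 2 := by
    refine le_trans (Nat.le_of_dvd (Nat.pos_of_ne_zero Subgroup.index_ne_zero_of_finite)
      (Subgroup.index_dvd_of_le hle)) ?_
    have h1 := Subgroup.card_mul_index (powMonoidHom p : ↥H →* ↥H).range
    have h2 := Subgroup.card_mul_index (H87.omegaP p ↥H)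
    rw [show H87.omegaP p ↥H = (powMonoidHom p : ↥H →* ↥H).ker from rfl, Subgroup.index_ker] at h2
    have h3 : (powMonoidHom p : ↥H →* ↥H).range.index = p ^ j := by
      rw [← h2, show (powMonoidHom p : ↥H →* ↥H).ker = H87.omegaP p ↥H from rfl, hK, mul_comm] at h1
      exact Nat.eq_of_mul_eq_mul_right Nat.card_pos h1
    rw [h3]
    exact Nat.pow_le_pow_right hp.pos (by omega)
  rcases H87.essential_abelian_rank_two hS hH hab hrk with ⟨-, h⟩ | ⟨hp3, k, ⟨e⟩⟩
  · rw [hcard] at h
    exact absurd (Nat.pow_right_injective hp.two_le h) (by norm_num)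
  · have hk : k = 2 := by
      have := Nat.card_congr e.toEquiv
      simp only [Nat.card_eq_of_bijective _ Multiplicative.toAdd.bijective, Nat.card_prod,
        Nat.card_zmod, hcard, ← pow_add] at this
      have := Nat.pow_right_injective hp.two_le this
      omega
    subst hk
    exact ⟨by have := hp.two_le; omega, ⟨e⟩⟩

/-- Let F be a saturated fusion system over a finite p-group S and H an essential subgroup of order p⁴. Then H is isomorphic to one of: C_p⁴ or C_{p²} × C_p × C_p (any p); C_{p²} × C_{p²} with p ∈ {2, 3}; p^{1+2}_+ × C_p with p odd (the direct product of an extraspecial group of order p³ and exponent p with a group of order p); Q₈ × C₂ (p = 2); or the non-abelian group of order p⁴ of exponent p² whose centre is cyclic of order p² (the central product of an extraspecial group of order p³ with a cyclic group of order p²; for p = 2 this is D₈ ∘ C₄). -/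
theorem result {Ω : Type u} [Group Ω] {S : Subgroup Ω} [Finite S] (p : ℕ) [Fact p.Prime] (hS : IsPGroup p S)
    (F : Cfsg.FusionSystem S) (hF : F.IsSaturated p) (H : Subgroup Ω) (hH : F.IsEssential p H) (hcard : Nat.card H = p ^ 4) :
    Cfsg.IsElementaryAbelian p H ∨
      Nonempty (↥H ≃* Multiplicative (ZMod (p ^ 2) × ZMod p × ZMod p)) ∨
      ((p = 2 ∨ p = 3) ∧ Nonempty (↥H ≃* Multiplicative (ZMod (p ^ 2) × ZMod (p ^ 2)))) ∨
      (Odd p ∧ ∃ (E : Type) (_ : Group E) (_ : Finite E), Cfsg.IsExtraspecial p E ∧ Nat.card E = p ^ 3 ∧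
        (∀ x : E, x ^ p = 1) ∧ Nonempty (↥H ≃* E × Multiplicative (ZMod p))) ∨
      (p = 2 ∧ Nonempty (↥H ≃* QuaternionGroup 2 × Multiplicative (ZMod 2))) ∨
      (¬ IsMulCommutative ↥H ∧ (∀ x ∈ H, x ^ (p ^ 2) = 1) ∧ IsCyclic ↥(Subgroup.center ↥H) ∧
        Nat.card (Subgroup.center ↥H) = p ^ 2) := by
  have hHS : H ≤ S := hH.1.1
  haveI := H87.essential_finite hH
  have hHp := H87.essential_isPGroup hS hH
  have hA := H87.essential_not_derivedFixes hH
  by_cases hcomm : ∀ a b : ↥H, a * b = b * a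
  · rcases abelian_cases p hS F H hH hcard ⟨⟨hcomm⟩⟩ with h | h | h
    · exact Or.inl h
    · exact Or.inr (Or.inl h)
    · exact Or.inr (Or.inr (Or.inl h))
  · right; right; right
    have hnc : ∃ a b : ↥H, a * b ≠ b * a := by
      simpa [not_forall] using hcomm
    haveI : Nontrivial ↥H := by
      obtain ⟨a, b, hab⟩ := hnc
      exact ⟨⟨a, 1, fun e => hab (by rw [e, one_mul, mul_one])⟩⟩
    have hp : p.Prime := Fact.out
    obtain ⟨k, hk, hZ⟩ := (Nat.dvd_prime_pow hp).1 (hcard ▸ Subgroup.card_subgroup_dvd_card (Subgroup.center ↥H))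
    have hk2 : k = 1 ∨ k = 2 := by
      have h1 : 1 < Nat.card (Subgroup.center ↥H) := Finite.one_lt_card_iff_nontrivial.2 hHp.center_nontrivial
      rw [hZ] at h1
      have hk0 : k ≠ 0 := by rintro rfl; simp at h1
      by_contra hcon
      push Not at hcon
      obtain ⟨a, b, hab⟩ := hnc
      refine hab (H79.commute_of_cyclic_center_quotient ?_ a b)
      have h2 := Subgroup.card_mul_index (Subgroup.center ↥H)
      rw [hZ, hcard, Subgroup.index_eq_card, show p ^ 4 = p ^ k * p ^ (4 - k) by rw [← pow_add]; congr 1; omega] at h2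
      have h3 := Nat.eq_of_mul_eq_mul_left (pow_pos hp.pos k) h2
      by_cases h4 : k = 4
      · haveI : Subsingleton (↥H ⧸ Subgroup.center ↥H) :=
          (Nat.card_eq_one_iff_unique.1 (by rw [h3, h4]; rfl)).1
        infer_instance
      · exact isCyclic_of_prime_card (p := p) (by rw [h3, show 4 - k = 1 by omega, pow_one])
    rcases hk2 with rfl | rfl
    · exact absurd (H34.derivedFixes_center_prime hHp hcard _ (by rw [hZ, pow_one])) hA
    · obtain ⟨hexp, hc | ⟨a, b, M, z, hab, haM, hbM, hM, hMcard, ⟨e⟩, hz, ho | ⟨h2, hq⟩⟩⟩ :=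
        H34.center_sq_cases hHp hcard _ hA hnc hZ
      · refine Or.inr (Or.inr ⟨fun h => hcomm h.is_comm.comm, fun x hx => ?_, hc, hZ⟩)
        exact congrArg Subtype.val (hexp ⟨x, hx⟩)
      · obtain ⟨E, i1, i2, hE1, hE2, hE3, ⟨f⟩⟩ := H34.exists_small_copy hMcard haM hbM hab ho.2
        letI := i1
        exact Or.inl ⟨ho.1, E, i1, i2, hE1, hE2, hE3, ⟨e.trans (MulEquiv.prodCongr f (MulEquiv.refl _))⟩⟩
      · subst h2
        obtain ⟨f⟩ := hq.iso
        refine Or.inr (Or.inl ⟨rfl, ⟨e.trans (MulEquiv.prodCongr ?_ (MulEquiv.refl _))⟩⟩)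
        exact (MulEquiv.subgroupCongr hM).trans f

end Cfsg.Agent.S5188
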