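import Cfsg.Statements.S5191
import Cfsg.Agent.H89.SylowQuot

set_option autoImplicit false
open Cfsg

namespace Cfsg.Agent.S5191

/-- Fusion in a finite group G and in its quotient by O_{p'}(G) agree. Let S be a Sylow p-subgroup of G, N = O_{p'}(G) and P ≤ S. If an element of G/N conjugates the image of P into the image of S, then some element g of G conjugates P into S and induces the same map on P modulo N. (Together with the injectivity of S → G/N this says that g ↦ gN induces an isomorphism of the fusion system of G on S with that of G/N on SN/N.) -/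
theorem result {G : Type*} [Group G] [Finite G] {p : ℕ} [Fact p.Prime]
    [hN : (Cfsg.pPrimeCore p G).Normal] (S : Sylow p G) (P : Subgroup G) (hP : P ≤ (S : Subgroup G))
    (γ : G ⧸ Cfsg.pPrimeCore p G)
    (hγ : ∀ x ∈ P, γ * QuotientGroup.mk x * γ⁻¹ ∈ ((S : Subgroup G).map (QuotientGroup.mk' (Cfsg.pPrimeCore p G)))) :
    ∃ g : G, ∀ x ∈ P, g * x * g⁻¹ ∈ S ∧
      (QuotientGroup.mk (g * x * g⁻¹) : G ⧸ Cfsg.pPrimeCore p G) = γ * QuotientGroup.mk x * γ⁻¹ := by
  obtain ⟨g₀, rfl⟩ := QuotientGroup.mk'_surjective (Cfsg.pPrimeCore p G) γ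
  set N := Cfsg.pPrimeCore p G with hNdef
  have hPp : IsPGroup p P := S.isPGroup'.to_le hP
  have hQ : IsPGroup p (P.map (MulAut.conj g₀).toMonoidHom) := hPp.map _
  have hle : P.map (MulAut.conj g₀).toMonoidHom ≤ (S : Subgroup G) ⊔ N := by
    rintro _ ⟨x, hx, rfl⟩
    obtain ⟨s, hs, hsx⟩ := hγ x hx
    have : g₀ * x * g₀⁻¹ ∈ ((S : Subgroup G).map (QuotientGroup.mk' N)).comap (QuotientGroup.mk' N) := by
      show QuotientGroup.mk' N (g₀ * x * g₀⁻¹) ∈ (S : Subgroup G).map (QuotientGroup.mk' N)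
      refine ⟨s, hs, ?_⟩
      rw [hsx, map_mul, map_mul, map_inv]
      rfl
    rwa [Subgroup.comap_map_eq, QuotientGroup.ker_mk'] at this
  obtain ⟨n, hn, hnS⟩ := H89.exists_conj_into_sylow_mod S N _ hQ hle
  refine ⟨n * g₀, fun x hx => ⟨?_, ?_⟩⟩
  · have := hnS (g₀ * x * g₀⁻¹) ⟨x, hx, rfl⟩
    show n * g₀ * x * (n * g₀)⁻¹ ∈ (S : Subgroup G)
    simpa [mul_assoc, mul_inv_rev] using this
  · have h1 : QuotientGroup.mk' (Cfsg.pPrimeCore p G) n = 1 := (QuotientGroup.eq_one_iff n).mpr hn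
    show QuotientGroup.mk' (Cfsg.pPrimeCore p G) (n * g₀ * x * (n * g₀)⁻¹) = _
    rw [map_mul, map_mul, map_mul, map_inv, map_mul, h1]
    simp

end Cfsg.Agent.S5191
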