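import Cfsg.Statements.S5192
import Cfsg.Agent.H5.FusionData
import Cfsg.Agent.H5.Yoshida

set_option autoImplicit false
open Cfsg

namespace Cfsg.Agent.S5192

theorem ofAdd_one_sq : Multiplicative.ofAdd (1 : ZMod 2) * Multiplicative.ofAdd 1 = 1 := by decide

theorem eq_ofAdd_one : ∀ x : Multiplicative (ZMod 2), x ≠ 1 → x = Multiplicative.ofAdd 1 := by decide

theorem orderOf_ofAdd_one : orderOf (Multiplicative.ofAdd (1 : ZMod 2)) = 2 := by
  haveI : Fact (Nat.Prime 2) := ⟨Nat.prime_two⟩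
  exact orderOf_eq_prime (by decide +revert) (by decide +revert)

/-- A Thompson-type transfer for saturated fusion systems. Let F be a saturated fusion system on a finite 2-group S, T a subgroup of S of index 2, and i an involution of S such that every fully normalized F-conjugate of i lies in S but outside T. Then i does not lie in the hyperfocal subgroup of F (the Sylow group of the 2-residual subsystem). -/
theorem result {Ω : Type*} [Group Ω] [Finite Ω] {S : Subgroup Ω}
    (hS : IsPGroup 2 ↥S) (F : Cfsg.FusionSystem S) (hF : F.IsSaturated 2)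
    (T : Subgroup Ω) (hTS : T ≤ S) (hT : T.relIndex S = 2)
    (i : Ω) (hi : i ∈ S) (hi2 : orderOf i = 2)
    (h : ∀ j : Ω, F.IsConjElt i j → F.IsFullyNormalized (Subgroup.zpowers j) → j ∉ T) :
    i ∉ F.hyperfocalSubgroup 2 := by
  classical
  haveI : Fact (Nat.Prime 2) := ⟨Nat.prime_two⟩
  haveI : Finite S := inferInstance
  intro hifoc
  obtain ⟨D⟩ := H5.exists_transferData hS hF
  -- the character with kernel `T`
  have hmul : ∀ {a b : S}, ((a * b : S) : Ω) ∈ T ↔ (((a : S) : Ω) ∈ T ↔ ((b : S) : Ω) ∈ T) := by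
    intro a b
    have h2 : (T.subgroupOf S).index = 2 := hT
    simpa [Subgroup.mem_subgroupOf] using Subgroup.mul_mem_iff_of_index_two h2 (a := a) (b := b)
  let lam : S →* Multiplicative (ZMod 2) := MonoidHom.mk'
    (fun a => if (a : Ω) ∈ T then 1 else Multiplicative.ofAdd 1) fun a b => by
      by_cases ha : (a : Ω) ∈ T <;> by_cases hb : (b : Ω) ∈ T <;>
        simp only [hmul, ha, hb, if_true, if_false, iff_self, iff_false, false_iff, not_true,
          not_false_iff, one_mul, mul_one]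
      exact ofAdd_one_sq.symm
  have hlam : ∀ a : S, lam a = 1 ↔ (a : Ω) ∈ T := by
    intro a
    show (if (a : Ω) ∈ T then (1 : Multiplicative (ZMod 2)) else Multiplicative.ofAdd 1) = 1 ↔ _
    by_cases ha : (a : Ω) ∈ T
    · simp [ha]
    · simp [ha]
  let χ : D.N →* Multiplicative (ZMod 2) := lam.comp D.ψ
  haveI : Fintype (D.Γ ⧸ D.N) := Fintype.ofFinite _
  let V : D.Γ →* Multiplicative (ZMod 2) := MonoidHom.mk' (fun g => ∏ q, H5.coc D.N χ g q)
    fun a b => H5.prod_coc_mul χ _ fun q _ => Finset.mem_univ _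
  -- the transfer kills the focal subgroup
  have hfoc : F.focalSubgroup ≤ ((V.comp D.emb).ker).map S.subtype := by
    rw [Cfsg.FusionSystem.focalSubgroup, Subgroup.closure_le]
    rintro _ ⟨P, φ, x, hφ, rfl⟩
    obtain ⟨g, hg⟩ := D.conj P φ hφ
    refine ⟨(⟨x, H85.source_le hφ x.2⟩ : S)⁻¹ * ⟨φ x, H85.map_mem hφ x⟩, ?_, rfl⟩
    show V (D.emb _) = 1
    rw [map_mul D.emb, map_inv D.emb, hg x, map_mul, map_mul, map_mul, map_inv, map_inv,
      mul_comm (V g), mul_inv_cancel_right, inv_mul_cancel]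
  have hhyp : F.hyperfocalSubgroup 2 ≤ F.focalSubgroup := by
    rw [Cfsg.FusionSystem.hyperfocalSubgroup, Subgroup.closure_le]
    rintro _ ⟨P, α, x, hP, -, rfl⟩
    exact Subgroup.subset_closure ⟨P, _, x, (H85.mem_autGroup hP).1 α.2, rfl⟩
  have hVi : V (D.emb ⟨i, hi⟩) = 1 := by
    obtain ⟨w, hw, hwi⟩ := hfoc (hhyp hifoc)
    rw [show (⟨i, hi⟩ : S) = w from (Subtype.ext hwi).symm]
    exact hw
  -- a fully normalized conjugate
  have hzS : Subgroup.zpowers i ≤ S := Subgroup.zpowers_le.2 hi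
  obtain ⟨Q, hQ, hQfn⟩ := H85.exists_fullyNormalized F hzS
  obtain ⟨φ₀, hφ₀, hφ₀Q⟩ := hQ
  set i' : Ω := φ₀ ⟨i, Subgroup.mem_zpowers i⟩ with hi'
  have hi'S : i' ∈ S := H85.map_mem hφ₀ _
  have hgen : ∀ ψ : Subgroup.zpowers i →* Ω,
      ψ.range = Subgroup.zpowers (ψ ⟨i, Subgroup.mem_zpowers i⟩) := by
    intro ψ
    have htop : Subgroup.zpowers (⟨i, Subgroup.mem_zpowers i⟩ : Subgroup.zpowers i) = ⊤ := by
      refine eq_top_iff.2 fun y _ => ?_
      obtain ⟨k, hk⟩ := y.2
      exact ⟨k, Subtype.ext hk⟩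
    rw [MonoidHom.range_eq_map, ← htop, MonoidHom.map_zpowers]
  have hQz : Q = Subgroup.zpowers i' := hφ₀Q.symm.trans (hgen φ₀)
  have hi'2 : i' ^ 2 = 1 := by
    rw [hi', ← map_pow]
    rw [show (⟨i, Subgroup.mem_zpowers i⟩ : Subgroup.zpowers i) ^ 2 = 1 from
      Subtype.ext (hi2 ▸ pow_orderOf_eq_one i), map_one]
  obtain ⟨g, hg⟩ := D.conj _ φ₀ hφ₀
  set u : D.Γ := D.emb ⟨i', hi'S⟩ with hu
  have hVu : V u = 1 := by
    have h1 := hg ⟨i, Subgroup.mem_zpowers i⟩
    have h2 : u = g * D.emb ⟨i, hi⟩ * g⁻¹ := h1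
    rw [h2, map_mul, map_mul, map_inv, hVi, mul_one, mul_inv_cancel]
  have hu2 : u * u = 1 := by
    rw [hu, ← map_mul, show (⟨i', hi'S⟩ : S) * ⟨i', hi'S⟩ = 1 from
      Subtype.ext (by rw [Subgroup.coe_mul, Subgroup.coe_one, ← pow_two, hi'2]), map_one]
  -- the moved cosets contribute nothing
  have hmoved : ∏ q ∈ Finset.univ.filter (fun q : D.Γ ⧸ D.N => ¬ u • q = q),
      H5.coc D.N χ u q = 1 := by
    refine Finset.prod_involution (fun q _ => u • q) ?_ ?_ ?_ ?_
    · intro q _
      rw [mul_comm, ← H5.coc_mul, hu2, H5.coc_one]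
    · intro q hq _
      exact (Finset.mem_filter.1 hq).2
    · intro q hq
      rw [Finset.mem_filter] at hq ⊢
      refine ⟨Finset.mem_univ _, fun h => hq.2 ?_⟩
      rw [← mul_smul, hu2, one_smul] at h
      exact h.symm
    · intro q _
      rw [← mul_smul, hu2, one_smul]
  -- the fixed cosets with value in `T` have even number
  let C : Subgroup S := Subgroup.centralizer ({⟨i', hi'S⟩} : Set S)
  let Bad := {q : D.Γ ⧸ D.N // u • q = q ∧ H5.coc D.N χ u q = 1}
  have hsm : ∀ (c : C) (q : D.Γ ⧸ D.N), u • q = q → H5.coc D.N χ u q = 1 →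
      u • (D.emb c • q) = D.emb c • q ∧ H5.coc D.N χ u (D.emb c • q) = 1 := by
    intro c q hq hv
    have hcu : u * D.emb c = D.emb c * u := by
      rw [hu, ← map_mul, ← map_mul, (Subgroup.mem_centralizer_singleton_iff.1 c.2)]
    refine ⟨by rw [← mul_smul, hcu, mul_smul, hq], ?_⟩
    have h1 := H5.coc_mul χ u (D.emb c) q
    rw [hcu, H5.coc_mul, hq, hv, mul_one] at h1
    exact mul_eq_right.1 h1.symm
  let act : MulAction C Bad :=
    { smul := fun c q => ⟨D.emb c • q.1, hsm c q.1 q.2.1 q.2.2⟩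
      one_smul := fun q => Subtype.ext (by
        show D.emb ((1 : C) : S) • q.1 = q.1
        rw [Subgroup.coe_one, map_one, one_smul])
      mul_smul := fun a b q => Subtype.ext (by
        show D.emb ((a * b : C) : S) • q.1 = D.emb (a : S) • D.emb (b : S) • q.1
        rw [Subgroup.coe_mul, map_mul, mul_smul]) }
  have hnofix : ∀ q : Bad, ¬ ∀ c : C, c • q = q := by
    intro q hq
    have hmem : ∀ c : C, q.1.out⁻¹ * D.emb c * q.1.out ∈ D.N := by
      intro c
      have h1 : D.emb c • (QuotientGroup.mk q.1.out : D.Γ ⧸ D.N) = QuotientGroup.mk q.1.out := by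
        rw [QuotientGroup.out_eq']
        exact congrArg Subtype.val (hq c)
      rw [mul_assoc]
      exact QuotientGroup.eq.mp h1.symm
    obtain ⟨P, φ, hφ, hval⟩ := D.fixed q.1.out
    have hiC : (⟨i', hi'S⟩ : S) ∈ C := Subgroup.mem_centralizer_singleton_iff.2 rfl
    have hmi := hmem ⟨_, hiC⟩
    obtain ⟨hiP, hψi⟩ := hval ⟨i', hi'S⟩ hmi
    set j : Ω := φ ⟨i', hiP⟩ with hj
    have hjT : j ∈ T := by
      rw [← hψi]
      refine (hlam _).1 ?_
      have h1 := q.2.2
      have h2 : H5.coc D.N χ u q.1 = χ ⟨_, hmi⟩ := by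
        show χ _ = χ _
        congr 1
        exact Subtype.ext (by
          show (u • q.1).out⁻¹ * u * q.1.out = _
          rw [q.2.1])
      exact h2.symm.trans h1
    have hjS : j ∈ S := H85.map_mem hφ _
    -- `i` is conjugate to `j`
    have hin : ∀ x : Subgroup.zpowers i, φ₀ x ∈ P := by
      intro x
      have h1 : φ₀ x ∈ Subgroup.zpowers i' := (hgen φ₀).le ⟨x, rfl⟩
      exact Subgroup.zpowers_le.2 hiP h1
    have hcomp := F.comp_mem hφ₀ hφ hin
    have hconj : F.IsConjElt i j := ⟨_, hcomp, rfl⟩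
    -- the centraliser moves into the normaliser of `j`
    have hjfn : F.IsFullyNormalized (Subgroup.zpowers j) := by
      refine ⟨Subgroup.zpowers_le.2 hjS, fun R hR => ?_⟩
      have hiR : F.IsConj Q R := by
        refine H85.isConj_trans (H85.isConj_symm ⟨φ₀, hφ₀, hφ₀Q⟩) (H85.isConj_trans ⟨_, hcomp, ?_⟩ hR)
        exact hgen _
      refine (hQfn.2 R hiR).trans ?_
      have hcen : ∀ n : Cfsg.FusionSystem.normalizerIn S Q,
          (⟨(n : Ω), n.2.1⟩ : S) ∈ C := by
        intro n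
        rw [Subgroup.mem_centralizer_singleton_iff]
        refine Subtype.ext ?_
        have hn : (n : Ω) ∈ Subgroup.normalizer ((Subgroup.zpowers i' : Subgroup Ω) : Set Ω) :=
          (congrArg (fun R : Subgroup Ω => (n : Ω) ∈ Subgroup.normalizer (R : Set Ω)) hQz).mp n.2.2
        obtain ⟨k, hk⟩ := (Subgroup.mem_normalizer_iff.1 hn i').1 (Subgroup.mem_zpowers i')
        have hk' : i' ^ k = (n : Ω) * i' * (n : Ω)⁻¹ := hk
        rcases Int.even_or_odd k with ⟨m, rfl⟩ | ⟨m, rfl⟩
        · rw [← two_mul, zpow_mul, show i' ^ (2 : ℤ) = 1 by rw [zpow_ofNat]; exact hi'2, one_zpow, eq_comm,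
            mul_inv_eq_one, mul_eq_left] at hk'
          simp [hk']
        · rw [zpow_add, zpow_mul, show i' ^ (2 : ℤ) = 1 by rw [zpow_ofNat]; exact hi'2, one_zpow, one_mul, zpow_one] at hk'
          show (n : Ω) * i' = i' * n
          exact (mul_inv_eq_iff_eq_mul.1 hk'.symm)
      have hCP : ∀ c : C, ((c : S) : Ω) ∈ P := fun c => (hval c (hmem c)).1
      refine Nat.card_le_card_of_injective
        (fun n => ⟨φ ⟨_, hCP ⟨_, hcen n⟩⟩, H85.map_mem hφ _, ?_⟩) ?_
      · refine Subgroup.centralizer_le_normalizer _ ?_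
        rw [Subgroup.mem_centralizer_iff]
        rintro _ ⟨k, rfl⟩
        refine (Commute.zpow_left ?_ k).eq
        show j * _ = _ * j
        rw [hj, ← map_mul, ← map_mul]
        congr 1
        refine Subtype.ext ?_
        exact (congrArg Subtype.val (Subgroup.mem_centralizer_singleton_iff.1 (hcen n))).symm
      · intro a b hab
        have h1 := F.injective_of_mem hφ (congrArg Subtype.val hab)
        exact Subtype.ext (congrArg (fun z : P => (z : Ω)) h1)
    exact h j hconj hjfn hjT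
  have hBad : 2 ∣ Nat.card Bad := by
    have hC2 : IsPGroup 2 C := hS.to_subgroup C
    by_contra hnd
    obtain ⟨q, hq⟩ := hC2.nonempty_fixed_point_of_prime_not_dvd_card Bad hnd
    exact hnofix q hq
  -- the count
  set a : Multiplicative (ZMod 2) := Multiplicative.ofAdd 1 with ha
  have ha2 : orderOf a = 2 := orderOf_ofAdd_one
  have hva : ∀ x : Multiplicative (ZMod 2), x ≠ 1 → x = a := eq_ofAdd_one
  have hmv : 2 ∣ (Finset.univ.filter fun q : D.Γ ⧸ D.N => ¬ u • q = q).card := by
    refine (dvd_of_eq ha2.symm).trans (orderOf_dvd_iff_pow_eq_one.mpr ?_)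
    rw [← Finset.prod_const]
    refine Finset.prod_involution (fun q _ => u • q) ?_ ?_ ?_ ?_
    · intro q _
      exact ofAdd_one_sq
    · intro q hq _
      exact (Finset.mem_filter.1 hq).2
    · intro q hq
      rw [Finset.mem_filter] at hq ⊢
      refine ⟨Finset.mem_univ _, fun hf => hq.2 ?_⟩
      rw [← mul_smul, hu2, one_smul] at hf
      exact hf.symm
    · intro q _
      rw [← mul_smul, hu2, one_smul]
  have hodd : ¬ 2 ∣ Finset.card (Finset.univ : Finset (D.Γ ⧸ D.N)) := by
    rw [Finset.card_univ, ← Nat.card_eq_fintype_card]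
    exact D.index
  rw [← Finset.card_filter_add_card_filter_not (fun q : D.Γ ⧸ D.N => u • q = q),
    Nat.dvd_add_left hmv,
    ← Finset.card_filter_add_card_filter_not
      (s := Finset.univ.filter fun q : D.Γ ⧸ D.N => u • q = q)
      (fun q => H5.coc D.N χ u q = 1), Finset.filter_filter, Finset.filter_filter,
    Nat.dvd_add_right (by
      rw [← Fintype.card_subtype, ← Nat.card_eq_fintype_card]; exact hBad)] at hodd
  apply hodd
  refine (dvd_of_eq ha2.symm).trans (orderOf_dvd_iff_pow_eq_one.mpr ?_)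
  rw [← Finset.prod_const]
  have h1 : (∏ q, H5.coc D.N χ u q) = 1 := hVu
  rw [← Finset.prod_filter_mul_prod_filter_not Finset.univ (fun q : D.Γ ⧸ D.N => u • q = q),
    hmoved, mul_one,
    ← Finset.prod_filter_mul_prod_filter_not (Finset.univ.filter fun q : D.Γ ⧸ D.N => u • q = q)
      (fun q => H5.coc D.N χ u q = 1),
    Finset.prod_eq_one (fun q hq => (Finset.mem_filter.1 hq).2), one_mul, Finset.filter_filter] at h1
  refine Eq.trans ?_ h1
  refine Finset.prod_congr rfl fun q hq => ?_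
  exact (hva _ (Finset.mem_filter.1 hq).2.2).symm

end Cfsg.Agent.S5192
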