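import Cfsg.Statements.S5214
import Cfsg.Agent.H88.Normal
import Cfsg.Agent.H85.Normal
import Cfsg.Agent.H66.HigmanOrder
import Mathlib.Tactic.IntervalCases
-- import your own Cfsg.Agent.* helpers here

set_option autoImplicit false
open Cfsg

namespace Cfsg.Agent.S5214

/-- Let S be a Suzuki 2-group (a finite nonabelian 2-group with more than one involution admitting a cyclic group of automorphisms permuting its involutions regularly). Then S is normal in every saturated fusion system over S (such a group is resistant). -/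
theorem result {Ω : Type*} [Group Ω] {S : Subgroup Ω} [Finite S] (hS : IsPGroup 2 S) (F : Cfsg.FusionSystem S) (hF : F.IsSaturated 2) (hsz : Cfsg.IsSuzukiTwoGroup ↥S) : F.IsNormal S := by
  obtain ⟨K, hK, hact, hfin, hFree⟩ := H66.Hig.exists_free hsz
  letI := hK
  letI := hact
  haveI := hfin
  set Z : Subgroup Ω := (Subgroup.center S).map S.subtype with hZ
  have hZS : Z ≤ S := Subgroup.map_subtype_le _
  have hmem : ∀ x : S, (x : Ω) ∈ Z ↔ x * x = 1 := by
    intro x
    rw [hZ, ← H66.Hig.mem_center_iff_sq hFree]
    exact Subgroup.mem_map_iff_mem S.subtype_injective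
  have hZsc : F.StronglyClosed Z := by
    refine ⟨hZS, fun R hR φ hφ x => ?_⟩
    refine (hmem ⟨φ x, H85.map_mem hφ x⟩).2 (Subtype.ext ?_)
    have h1 := congrArg Subtype.val ((hmem ⟨x, hZS (hR x.2)⟩).1 (hR x.2))
    show φ x * φ x = 1
    rw [← map_mul, show x * x = 1 from Subtype.ext h1, map_one]
  have hSsc : F.StronglyClosed S := ⟨le_rfl, fun R hR φ hφ x => H85.map_mem hφ x⟩
  let C : ℕ → Subgroup Ω := fun i => if i = 0 then ⊥ else if i = 1 then Z else S
  refine H88.isNormal_of_series hS hF hSsc 2 C (by simp [C]) (by simp [C]) ?_ ?_ ?_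
  · intro i hi
    interval_cases i
    · simp [C]
    · simpa [C] using hZS
  · intro i hi
    interval_cases i
    · simp only [C, zero_add, one_ne_zero, if_false, if_true]
      rw [Subgroup.commutator_le]
      intro a ha b hb
      obtain ⟨z, hz, rfl⟩ := ha
      rw [Subgroup.mem_bot]
      refine commutatorElement_eq_one_iff_mul_comm.2 ?_
      exact congrArg Subtype.val ((Subgroup.mem_center_iff.1 hz ⟨b, hb⟩).symm)
    · simp only [C, show (1 + 1 : ℕ) ≠ 0 by norm_num, show (1 + 1 : ℕ) ≠ 1 by norm_num,
        one_ne_zero, if_false, if_true]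
      rw [Subgroup.commutator_le]
      intro a ha b hb
      exact ⟨_, H66.Hig.comm_central hFree (⟨a, ha⟩ : S) ⟨b, hb⟩, rfl⟩
  · intro i hi
    interval_cases i
    · simp only [C, if_true]
      exact H88.wc_of_sc (H85.stronglyClosed_bot F)
    · simp only [C, one_ne_zero, if_false, if_true]
      exact H88.wc_of_sc hZsc

end Cfsg.Agent.S5214
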