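import Cfsg.Statements.S5219
import Cfsg.Agent.H34.PowerNormal

set_option autoImplicit false
open Cfsg

namespace Cfsg.Agent.S5219

/-- Let p be a prime, n a natural number, S a nontrivial finite p-group of nilpotence class at most n(p−1)+1, and F a saturated fusion system over S with no nontrivial normal subgroup (O_p(F) = 1). Then S has exponent dividing p^(n²(p−1)+n). -/
theorem result {Ω : Type*} [Group Ω] {S : Subgroup Ω} [Finite S] (p : ℕ) [Fact p.Prime] (hS : IsPGroup p S) (F : Cfsg.FusionSystem S) (hF : F.IsSaturated p) (n : ℕ) (hS1 : S ≠ ⊥) (hcl : Subgroup.lowerCentralSeries S (n * (p - 1) + 1) = ⊥) (hcore : F.core = ⊥) : Monoid.exponent ↥S ∣ p ^ (n ^ 2 * (p - 1) + n) := by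
  have hn := H34.isNormal_powerClosure_centre hS hF n hcl
  have hbot : Cfsg.powerClosure p n (S ⊓ Subgroup.centralizer (S : Set Ω)) = ⊥ :=
    le_bot_iff.1 (hcore ▸ le_sSup hn)
  have hZ : ∀ z ∈ Subgroup.center S, z ^ p ^ n = 1 := by
    intro z hz
    refine Subtype.ext (Subgroup.mem_bot.1 (hbot ▸ Subgroup.subset_closure ⟨(z : Ω), ⟨z.2, ?_⟩, rfl⟩))
    exact Subgroup.mem_centralizer_iff.2 fun g hg =>
      congrArg Subtype.val (Subgroup.mem_center_iff.1 hz ⟨g, hg⟩)
  haveI : Group.IsNilpotent S := hS.isNilpotent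
  have h1 : Subgroup.lowerCentralSeries (⊤ : Subgroup S) (n * (p - 1) + 1) = ⊥ := by
    refine (Subgroup.map_eq_bot_iff_of_injective _ S.subtype_injective).1 ?_
    rw [Subgroup.top_subtype_lowerCentralSeries, hcl]
  have h2 : Subgroup.upperCentralSeries S (n * (p - 1) + 1) = ⊤ :=
    Subgroup.upperCentralSeries_eq_top_iff_nilpotencyClass_le.2
      (Subgroup.lowerCentralSeries_eq_bot_iff_nilpotencyClass_le.1 h1)
  refine Monoid.exponent_dvd_of_forall_pow_eq_one fun x => ?_
  have h3 := H34.pow_pow_eq_one_of_class hZ h2 x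
  rw [← pow_mul] at h3
  rw [show n ^ 2 * (p - 1) + n = n * (n * (p - 1) + 1) by ring]
  exact h3

end Cfsg.Agent.S5219
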