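import Cfsg.Statements.S5223
import Cfsg.Agent.H88.Normal

set_option autoImplicit false
open Cfsg

namespace Cfsg.Agent.S5223

/-- Let F be a saturated fusion system over a finite p-group S. Suppose there are subgroups Q₀ = S, Q₁, …, Qₙ = 1 (not required to be nested) such that for each i < n the focal subgroup of Qᵢ (generated by the elements x⁻¹φ(x), x ∈ Qᵢ, φ a map of F defined on the cyclic group generated by x) lies in Qᵢ₊₁. Then F is the inner fusion system of S. -/
theorem result {Ω : Type*} [Group Ω] {S : Subgroup Ω} [Finite S] (p : ℕ) [Fact p.Prime] (hS : IsPGroup p S) (F : Cfsg.FusionSystem S) (hF : F.IsSaturated p) (n : ℕ) (Q : Fin (n + 1) → Subgroup Ω) (hQ0 : Q 0 = S) (hQn : Q (Fin.last n) = ⊥) (hstep : ∀ i : Fin n, Subgroup.closure {y : Ω | ∃ x ∈ Q i.castSucc, ∃ φ ∈ F.Hom (Subgroup.zpowers x), y = x⁻¹ * φ ⟨x, Subgroup.mem_zpowers x⟩} ≤ Q i.succ) : ∀ P : Subgroup Ω, F.Hom P = (Cfsg.innerFusionSystem S).Hom P := by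
  refine H88.inner_of_pGroup hS hF fun R hR => ?_
  haveI : Finite R := H85.finite_of_le hR.1
  haveI : Finite (MulAut R) := Finite.of_injective _ DFunLike.coe_injective
  refine H88.isPGroup_of_coprime_trivial fun a ha => Subtype.ext (MulEquiv.ext fun x => ?_)
  have hcop : (orderOf (a : MulAut R)).Coprime p := by rwa [Subgroup.orderOf_coe]
  refine H88.fixed_of_iterate_autComm (hS.to_le hR.1) (a : MulAut R) hcop n x ?_
  have key : ∀ k : ℕ, ∀ hk : k ≤ n,
      (((H88.autComm (a : MulAut R))^[k] x : R) : Ω) ∈ Q ⟨k, Nat.lt_succ_of_le hk⟩ := by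
    intro k
    induction k with
    | zero =>
      intro _
      show (x : Ω) ∈ Q 0
      rw [hQ0]
      exact hR.1 x.2
    | succ k ih =>
      intro hk
      refine hstep ⟨k, hk⟩ (Subgroup.subset_closure ?_)
      rw [Function.iterate_succ_apply']
      set y := (H88.autComm (a : MulAut R))^[k] x with hy
      exact ⟨y, ih (Nat.le_of_succ_le hk),
        _, H85.restrict ((H85.mem_autGroup hR.1).1 a.2) (Subgroup.zpowers_le.2 y.2), rfl⟩
  have := key n le_rfl
  rw [show (⟨n, Nat.lt_succ_of_le le_rfl⟩ : Fin (n + 1)) = Fin.last n from rfl, hQn,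
    Subgroup.mem_bot] at this
  exact Subtype.ext this

end Cfsg.Agent.S5223
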