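import Cfsg.Statements.S5225
import Cfsg.Agent.H5.FusionYoshida

set_option autoImplicit false
open Cfsg

namespace Cfsg.Agent.S5225

/-- Yoshida's Theorem for fusion systems. Let F be a saturated fusion system over a finite p-group S and N the normalizer fusion system of S in F. If the focal subgroups of F and N differ (N does not control transfer in F), then S has a quotient isomorphic to the wreath product C_p ≀ C_p (realised as a Sylow p-subgroup of the symmetric group of degree p²). -/
theorem result {Ω : Type*} [Group Ω] {S : Subgroup Ω} [Finite S] (p : ℕ) [Fact p.Prime] (hS : IsPGroup p S) (F : Cfsg.FusionSystem S) (hF : F.IsSaturated p) (N : Cfsg.FusionSystem (Cfsg.FusionSystem.normalizerIn S S)) (hN : F.IsNormalizerSystem S N) (hne : N.focalSubgroup ≠ F.focalSubgroup) : ∃ (W : Sylow p (Equiv.Perm (Fin (p ^ 2)))) (f : ↥S →* ↥(W : Subgroup (Equiv.Perm (Fin (p ^ 2))))), Function.Surjective f := by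
  have hSS : Cfsg.FusionSystem.normalizerIn S S = S :=
    le_antisymm (H85.normalizerIn_le S) (H85.le_normalizerIn le_rfl)
  have hfn : F.IsFullyNormalized S := H85.fullyNormalized_top F
  have hsat := H85.isSaturated_normalizerSystem hS hF hfn N hN
  have hsub : N.IsSubsystemOf F := fun P φ hφ => by
    rw [hN P] at hφ
    exact hφ.1
  have htop : F.Hom S ⊆ N.Hom S := by
    intro φ hφ
    rw [hN S]
    have hSQ : (S ⊔ S : Subgroup Ω) ≤ S := sup_le le_rfl le_rfl
    refine ⟨hφ, hSS.symm.le, fun x => hSS.symm.le (H85.map_mem hφ x),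
      φ.comp (Subgroup.inclusion hSQ), H85.restrict hφ hSQ, fun x => rfl, ?_⟩
    apply Subgroup.eq_of_le_of_card_ge
    · rintro _ ⟨x, -, rfl⟩
      exact H85.map_mem hφ _
    · rw [Subgroup.card_map_of_injective (show Function.Injective
        (φ.comp (Subgroup.inclusion hSQ)) from
        (F.injective_of_mem hφ).comp (Subgroup.inclusion_injective hSQ)),
        Nat.card_congr (Subgroup.subgroupOfEquivOfLe le_sup_right).toEquiv]
  obtain ⟨M, hMn, ν, z, w, hM, hz, hw, hnorm⟩ :=
    H5.exists_norm_normalizer hS hF hSS N hsat hsub htop hne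
  have := hMn
  exact H5.exists_surj_sylow_perm hS hM ν hz hw hnorm

end Cfsg.Agent.S5225
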