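import Cfsg.Statements.S5226
import Cfsg.Agent.H88.Normal
import Cfsg.Agent.H85.Systems
import Mathlib.GroupTheory.Nilpotent

set_option autoImplicit false
open Cfsg

namespace Cfsg.Agent.S5226

/-- Let F be a saturated fusion system over a finite p-group S and Q a subgroup of S. Then Q is normal in F (F equals the normalizer system of Q) if and only if Q is strongly closed in F and admits a central series 1 = Q₀ ≤ Q₁ ≤ ⋯ ≤ Qₙ = Q ([Qᵢ₊₁, Q] ≤ Qᵢ) all of whose proper terms are weakly closed in F. -/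
theorem result {Ω : Type*} [Group Ω] {S : Subgroup Ω} [Finite S] (p : ℕ) [Fact p.Prime] (hS : IsPGroup p S) (F : Cfsg.FusionSystem S) (hF : F.IsSaturated p) (Q : Subgroup Ω) : F.IsNormal Q ↔ F.StronglyClosed Q ∧ ∃ (n : ℕ) (C : Fin (n + 1) → Subgroup Ω), C 0 = ⊥ ∧ C (Fin.last n) = Q ∧ Monotone C ∧ (∀ i : Fin n, ⁅C i.succ, Q⁆ ≤ C i.castSucc) ∧ ∀ i : Fin n, F.WeaklyClosed (C i.castSucc) := by
  constructor
  · intro hQ
    haveI : Finite Q := H85.finite_of_le hQ.1
    haveI : Group.IsNilpotent Q := (hS.to_le hQ.1).isNilpotent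
    obtain ⟨n, hn⟩ := (Subgroup.isNilpotent_iff_lowerCentralSeries Q).1 inferInstance
    refine ⟨H88.sc_of_isNormal hQ, n, fun i => Q.lowerCentralSeries (n - i), ?_, ?_, ?_, ?_, ?_⟩
    · simpa using hn
    · simp
    · intro i j hij
      exact Q.lowerCentralSeries_antitone (Nat.sub_le_sub_left (Fin.le_def.1 hij) n)
    · intro i
      have e : n - (i.castSucc : ℕ) = (n - (i.succ : ℕ)) + 1 := by
        have := i.2
        simp only [Fin.coe_castSucc, Fin.val_succ]
        omega
      show ⁅Q.lowerCentralSeries (n - (i.succ : ℕ)), Q⁆ ≤ Q.lowerCentralSeries (n - (i.castSucc : ℕ))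
      rw [e, Subgroup.lowerCentralSeries_succ]
    · intro i
      refine H88.wc_of_sc (H88.sc_of_isNormal (H85.isNormal_of_characteristic hQ
        (Subgroup.lowerCentralSeries_le_self Q _) ?_))
      show ((Q.lowerCentralSeries (n - (i.castSucc : ℕ))).subgroupOf Q).Characteristic
      rw [← Subgroup.top_subtype_lowerCentralSeries, Subgroup.subgroupOf,
        Subgroup.comap_map_eq_self_of_injective Q.subtype_injective]
      infer_instance
  · rintro ⟨hQ, n, C, h0, hn, hmono, hcomm, hwc⟩
    let C' : ℕ → Subgroup Ω := fun i => C ⟨min i n, Nat.lt_succ_of_le (min_le_right i n)⟩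
    have hs : ∀ i (hi : i < n), C' i = C (Fin.castSucc ⟨i, hi⟩) := fun i hi =>
      congrArg C (Fin.ext (min_eq_left hi.le))
    have hs' : ∀ i (hi : i < n), C' (i + 1) = C (Fin.succ ⟨i, hi⟩) := fun i hi =>
      congrArg C (Fin.ext (min_eq_left hi))
    refine H88.isNormal_of_series hS hF hQ n C' ?_ ?_ ?_ ?_ ?_
    · exact (congrArg C (Fin.ext (by simp))).trans h0
    · exact (congrArg C (Fin.ext (by simp))).trans hn
    · intro i hi
      rw [hs i hi, hs' i hi]
      exact hmono (Fin.le_def.2 (by simp))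
    · intro i hi
      rw [hs i hi, hs' i hi]
      exact hcomm ⟨i, hi⟩
    · intro i hi
      rw [hs i hi]
      exact hwc ⟨i, hi⟩

end Cfsg.Agent.S5226
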