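import Cfsg.Statements.S5233
import Cfsg.Agent.H88.Normal
import Cfsg.Agent.H85.Saturation
import Cfsg.Agent.H31.InvariantMax
import Cfsg.Agent.H6.Commutator
import Cfsg.Agent.H30.Basic
import Cfsg.Agent.H5.GenExtraspecialSplit

set_option autoImplicit false
open Cfsg Cfsg.FusionSystem

namespace Cfsg.Agent.S5233

variable {Ω : Type*} [Group Ω] {S : Subgroup Ω}

/-- A map from a subgroup with central domain, turned around and extended to a centralizer. -/
theorem back_map [Finite S] {p : ℕ} [Fact p.Prime] (hS : IsPGroup p S) {F : Cfsg.FusionSystem S}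
    (hF : F.IsSaturated p) {Z : Subgroup Ω} (hZ : Z ≤ S) (hZc : S ≤ centralizerIn S Z)
    {φ : Z →* Ω} (hφ : φ ∈ F.Hom Z) {C : Subgroup Ω} (hC : C ≤ centralizerIn S φ.range) :
    ∃ ψ ∈ F.Hom C, ∀ (x : Ω) (hx : x ∈ C) (w : Z), φ w = x → ψ ⟨x, hx⟩ = w := by
  haveI : Finite (centralizerIn S Z) := H85.finite_of_le (H85.centralizerIn_le _)
  have hfc : F.IsFullyCentralized Z := ⟨hZ, fun Q _ =>
    Subgroup.card_le_of_le ((H85.centralizerIn_le Q).trans hZc)⟩
  obtain ⟨ψ, hψ, hext⟩ := H85.receptive_extend (H85.receptive_of_fullyCentralized hS hF hfc)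
    (H85.isFIso_isoOf φ hφ rfl).symm
  have hle := hC.trans (H85.centralizerIn_le_extender φ.range
    (Z.subtype.comp (H85.isoOf φ hφ rfl).symm.toMonoidHom))
  refine ⟨_, H85.restrict hψ hle, fun x hx w hw => ?_⟩
  refine (hext x ⟨w, hw⟩ (hle hx)).trans (congrArg Subtype.val ?_)
  rw [MulEquiv.symm_apply_eq]
  exact Subtype.ext hw.symm

/-- If a map stabilizes `Z` setwise, only elements of `Z` are sent into `Z`. -/
theorem mem_of_map {F : Cfsg.FusionSystem S} [Finite S] {Z C : Subgroup Ω} (hZC : Z ≤ C)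
    {ψ : C →* Ω} (hψ : ψ ∈ F.Hom C) (hst : ∀ x : C, (x : Ω) ∈ Z → ψ x ∈ Z) {u : C}
    (hu : ψ u ∈ Z) : (u : Ω) ∈ Z := by
  haveI : Finite Z := H85.finite_of_le (hZC.trans (H85.source_le hψ))
  have himg : H85.img ψ Z = Z := by
    refine Subgroup.eq_of_le_of_card_ge ?_ (H85.isConj_card (H85.isConj_img hψ hZC)).le
    intro y hy
    obtain ⟨x, hx, rfl⟩ := H85.mem_img.1 hy
    exact hst x hx
  obtain ⟨x, hx, hxu⟩ := H85.mem_img.1 (himg.ge hu)
  exact F.injective_of_mem hψ hxu ▸ hx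

/-- Maps defined on a subgroup containing `P` preserve its derived subgroup. -/
theorem map_derived {F : Cfsg.FusionSystem S} {P : Subgroup Ω} (hP : F.StronglyClosed P)
    {X : Subgroup Ω} {φ : X →* Ω} (hφ : φ ∈ F.Hom X) (h : P ≤ X) (x : X)
    (hx : (x : Ω) ∈ (commutator ↥P).map P.subtype) : φ x ∈ (commutator ↥P).map P.subtype := by
  let f : P →* P := (φ.comp (Subgroup.inclusion h)).codRestrict P
    fun y => H88.sc_map_mem hP hφ (x := Subgroup.inclusion h y) y.2
  obtain ⟨c, hc, hcx⟩ := hx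
  have hle : (commutator ↥P).map f ≤ commutator ↥P := by
    rw [commutator_def, Subgroup.map_commutator]
    exact Subgroup.commutator_mono le_top le_top
  have := Subgroup.mem_map_of_mem P.subtype (hle (Subgroup.mem_map_of_mem f hc))
  have e : Subgroup.inclusion h c = x := Subtype.ext hcx
  rw [← e]
  exact this

/-- `Z = P'` is weakly closed: this is where the two exceptional types are excluded. -/
theorem image_mem [Finite S] {p : ℕ} [hp : Fact p.Prime] (hS : IsPGroup p S)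
    {F : Cfsg.FusionSystem S} (hF : F.IsSaturated p) {P : Subgroup Ω} (hP : F.StronglyClosed P)
    {Z : Subgroup Ω} (hZ : Z = (commutator ↥P).map P.subtype) (hcard : Nat.card Z = p)
    (hpow : ∀ a ∈ P, a ^ p ∈ Z) (hcom : ∀ a ∈ P, ∀ b ∈ P, a * b * a⁻¹ * b⁻¹ ∈ Z)
    (hcen : ∀ s ∈ S, ∀ w ∈ Z, Commute s w)
    (h2 : p = 2 → ¬ ∃ (A : Type) (_ : CommGroup A), (∀ a : A, a ^ 2 = 1) ∧
      Nonempty (↥P ≃* DihedralGroup 4 × A))
    (hodd : p ≠ 2 → ¬ ∃ (E : Type) (_ : Group E) (A : Type) (_ : CommGroup A),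
      Cfsg.IsExtraspecial p E ∧ Nat.card E = p ^ 3 ∧ Monoid.exponent E = p ∧
        (∀ a : A, a ^ p = 1) ∧ Nonempty (↥P ≃* E × A))
    {φ : Z →* Ω} (hφ : φ ∈ F.Hom Z) (z : Z) (hz : orderOf (z : Ω) = p) : φ z ∈ Z := by
  classical
  haveI : Finite P := H85.finite_of_le hP.1
  haveI : Finite Z := H85.finite_of_le (H85.source_le hφ)
  have hZP : Z ≤ P := by rw [hZ]; exact Subgroup.map_subtype_le _
  have hgen : ∀ w ∈ Z, ∃ k : ℤ, (z : Ω) ^ k = w := by
    have : Subgroup.zpowers (z : Ω) = Z := Subgroup.eq_of_le_of_card_ge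
      (Subgroup.zpowers_le.2 z.2) (by rw [Nat.card_zpowers, hz, hcard])
    intro w hw
    exact Subgroup.mem_zpowers_iff.1 (this.symm ▸ hw)
  have hZc : S ≤ centralizerIn S Z := fun s hs =>
    H85.mem_centralizerIn.2 ⟨hs, fun w hw => (hcen s hs w hw).eq.symm⟩
  -- the central case
  have K1 : ∀ (χ : Z →* Ω), χ ∈ F.Hom Z → (∀ x ∈ P, Commute x (χ z)) → χ z ∈ Z := by
    intro χ hχ hc
    have hle : P ≤ centralizerIn S χ.range := fun x hx => H85.mem_centralizerIn.2 ⟨hP.1 hx, by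
      rintro _ ⟨w, rfl⟩
      obtain ⟨k, hk⟩ := hgen w w.2
      have e : w = z ^ k := Subtype.ext (by rw [SubgroupClass.coe_zpow]; exact hk.symm)
      rw [e, map_zpow]
      exact ((hc x hx).zpow_right k).eq.symm⟩
    obtain ⟨ψ, hψ, hψw⟩ := back_map hS hF (H85.source_le hφ) hZc hχ hle
    have hu : χ z ∈ P := hP.2 Z hZP χ hχ z
    exact mem_of_map hZP hψ (fun x hx => hZ ▸ map_derived hP hψ le_rfl x (hZ ▸ hx))
      (u := ⟨χ z, hu⟩) (by rw [hψw _ hu z rfl]; exact z.2)
  by_contra hnu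
  set u := φ z with hu_def
  have huP : u ∈ P := hP.2 Z hZP φ hφ z
  obtain ⟨g₀, hg₀P, hg₀⟩ : ∃ g ∈ P, ¬ Commute g u := by
    by_contra! hall
    exact hnu (K1 φ hφ hall)
  have hu1 : u ^ p = 1 := by
    rw [hu_def, ← map_pow]
    have : z ^ p = 1 := Subtype.ext (by simpa [hz] using pow_orderOf_eq_one (z : Ω))
    rw [this, map_one]
  set C := P ⊓ Subgroup.centralizer ({u} : Set Ω) with hC
  have hCmem : ∀ x, x ∈ C ↔ x ∈ P ∧ Commute x u := fun x => by
    simp only [hC, Subgroup.mem_inf, Subgroup.mem_centralizer_iff, Set.mem_singleton_iff,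
      forall_eq]
    exact ⟨fun h => ⟨h.1, h.2.symm⟩, fun h => ⟨h.1, h.2.eq.symm⟩⟩
  have hZC : Z ≤ C := fun w hw => (hCmem w).2 ⟨hZP hw, (hcen u (hP.1 huP) w hw).symm⟩
  have hCle : C ≤ centralizerIn S φ.range := fun x hx =>
    H85.mem_centralizerIn.2 ⟨hP.1 ((hCmem x).1 hx).1, by
      rintro _ ⟨w, rfl⟩
      obtain ⟨k, hk⟩ := hgen w w.2
      have e : w = z ^ k := Subtype.ext (by rw [SubgroupClass.coe_zpow]; exact hk.symm)
      rw [e, map_zpow]
      exact (((hCmem x).1 hx).2.zpow_right k).eq.symm⟩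
  obtain ⟨ψ, hψ, hψw⟩ := back_map hS hF (H85.source_le hφ) hZc hφ hCle
  have huC : u ∈ C := (hCmem u).2 ⟨huP, Commute.refl u⟩
  have hψu : ψ ⟨u, huC⟩ = z := hψw u huC z rfl
  have hψP : ∀ x : C, ψ x ∈ P := fun x => H88.sc_map_mem hP hψ ((hCmem x).1 x.2).1
  -- `ψ` moves every nontrivial element of `Z` out of `Z`
  have hout : ∀ w : C, (w : Ω) ∈ Z → w ≠ 1 → ψ w ∉ Z := by
    intro w hw hw1 hψwZ
    refine hnu (mem_of_map hZC hψ (fun x hx => ?_) (u := ⟨u, huC⟩) (by rw [hψu]; exact z.2))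
    have hzp : Subgroup.zpowers (w : Ω) = Z := by
      refine Subgroup.eq_of_le_of_card_ge (Subgroup.zpowers_le.2 hw) ?_
      rw [hcard, Nat.card_zpowers]
      refine le_of_eq (orderOf_eq_prime ?_ (fun h => hw1 (Subtype.ext h))).symm
      obtain ⟨k, hk⟩ := hgen _ hw
      rw [← hk, ← zpow_natCast, ← zpow_mul, mul_comm, zpow_mul, zpow_natCast, ← hz,
        pow_orderOf_eq_one, one_zpow]
    obtain ⟨k, hk⟩ := Subgroup.mem_zpowers_iff.1 (hzp.symm ▸ hx : (x : Ω) ∈ Subgroup.zpowers (w : Ω))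
    have e : x = w ^ k := Subtype.ext (by rw [SubgroupClass.coe_zpow]; exact hk.symm)
    rw [e, map_zpow]
    exact zpow_mem hψwZ k
  have hCab : ∀ a b : C, Commute a b := by
    intro a b
    rw [← H5.GenExtra.com_eq_one_iff]
    by_contra hne
    refine hout _ (hcom a ((hCmem a).1 a.2).1 b ((hCmem b).1 b.2).1) hne ?_
    simp only [map_mul, map_inv]
    exact hcom _ (hψP a) _ (hψP b)
  have hCexp : ∀ a : C, a ^ p = 1 := by
    intro a
    by_contra hne
    refine hout _ (hpow a ((hCmem a).1 a.2).1) hne ?_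
    rw [map_pow]
    exact hpow _ (hψP a)
  -- the frame inside `P`
  set z' : P := ⟨z, hZP z.2⟩ with hz'
  set u' : P := ⟨u, huP⟩ with hu'
  have mkz : ∀ x : P, (x : Ω) ∈ Z → x ∈ Subgroup.zpowers z' := fun x hx => by
    obtain ⟨k, hk⟩ := hgen _ hx
    exact Subgroup.mem_zpowers_iff.2 ⟨k, Subtype.ext (by rw [SubgroupClass.coe_zpow]; exact hk)⟩
  have cu : ∀ x : P, Commute x u' → (x : Ω) ∈ C := fun x hx =>
    (hCmem x).2 ⟨x.2, hx.map P.subtype⟩
  have frame : ∀ g' : P, ¬ Commute g' u' → H5.GenExtra.Frame p z' u' g' := fun g' hg' =>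
    { hz := by rw [← Subgroup.orderOf_coe]; exact hz
      hzc := Subgroup.mem_center_iff.2 fun y => Subtype.ext (hcen y (hP.1 y.2) z z.2).eq
      hcomm := fun a b => mkz (a * b * a⁻¹ * b⁻¹) (hcom a a.2 b b.2)
      hu := Subtype.ext hu1
      hg := hg'
      hab := fun x y hx hy => by
        have := congrArg Subtype.val (hCab ⟨x, cu x hx⟩ ⟨y, cu y hy⟩).eq
        exact Subtype.ext this }
  have hexpC : ∀ x : P, Commute x u' → x ^ p = 1 := fun x hx =>
    Subtype.ext (congrArg Subtype.val (hCexp ⟨x, cu x hx⟩) :)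
  have hexpcen : ∀ x ∈ Subgroup.center (Shrink.{0} P), x ^ p = 1 := fun x hx => by
    let e := (Shrink.mulEquiv : Shrink.{0} P ≃* P)
    refine e.injective ?_
    rw [map_pow, map_one]
    refine hexpC _ ?_
    have := ((Subgroup.mem_center_iff.1 hx) (e.symm u')).symm
    have h := congrArg e this
    rw [map_mul, map_mul, MulEquiv.apply_symm_apply] at h
    exact h
  haveI : Finite (Shrink.{0} P) := Finite.of_equiv _ (equivShrink.{0} P)
  set e0 := (Shrink.mulEquiv : Shrink.{0} P ≃* P).symm with he0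
  have hg₀' : ¬ Commute (⟨g₀, hg₀P⟩ : P) u' := fun h => hg₀ (h.map P.subtype)
  obtain rfl | hp2 := eq_or_ne p 2
  · -- dihedral
    obtain ⟨g', hg', hg'2⟩ : ∃ g' : P, ¬ Commute g' u' ∧ g' ^ 2 = z' := by
      have sq_z : ∀ x : P, x ^ 2 ≠ 1 → x ^ 2 = z' := by
        intro x hx
        obtain ⟨k, hk⟩ := Subgroup.mem_zpowers_iff.1 (mkz (x ^ 2) (hpow x x.2))
        have hz2 : z' ^ (2 : ℤ) = 1 := by
          have := pow_orderOf_eq_one (z : Ω)
          rw [hz] at this
          exact Subtype.ext (by simpa [hz'] using this)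
        obtain ⟨m, hm⟩ | ⟨m, hm⟩ := Int.even_or_odd k
        · rw [← hk, hm, ← two_mul, zpow_mul, hz2, one_zpow] at hx
          exact absurd rfl hx
        · rw [← hk, hm, zpow_add, zpow_mul, hz2, one_zpow, one_mul, zpow_one]
      by_cases hsq : (⟨g₀, hg₀P⟩ : P) ^ 2 = 1
      · refine ⟨⟨g₀, hg₀P⟩ * u', fun h => hg₀' ?_, sq_z _ fun h => hg₀' ?_⟩
        · simpa using h.mul_left (Commute.refl u').inv_left
        · have hu2 : u' ^ 2 = 1 := Subtype.ext hu1
          set a : P := ⟨g₀, hg₀P⟩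
          have ha : a⁻¹ = a := inv_eq_of_mul_eq_one_right (by rw [← sq]; exact hsq)
          have hb : u'⁻¹ = u' := inv_eq_of_mul_eq_one_right (by rw [← sq]; exact hu2)
          show a * u' = u' * a
          calc a * u' = (a * u')⁻¹ := (inv_eq_of_mul_eq_one_right (by rw [← sq]; exact h)).symm
            _ = u' * a := by rw [mul_inv_rev, ha, hb]
      · exact ⟨_, hg₀', sq_z _ hsq⟩
    obtain ⟨A, iA, hA, ⟨e⟩⟩ := H5.GenExtra.split_two ((frame g' hg').map e0) hexpcen
      (by rw [← map_pow, hg'2])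
    exact h2 rfl ⟨A, iA, hA, ⟨e0.trans e⟩⟩
  by_cases hall : ∀ x : P, x ^ p = 1
  · obtain ⟨E, iE, A, iA, h₁, h₂, h₃, h₄, ⟨e⟩⟩ :=
      H5.GenExtra.split_odd ((frame _ hg₀').map e0) (fun x => by
        obtain ⟨x, rfl⟩ := e0.surjective x
        rw [← map_pow, hall, map_one])
    exact hodd hp2 ⟨E, iE, A, iA, h₁, h₂, h₃, h₄, ⟨e0.trans e⟩⟩
  push Not at hall
  obtain ⟨g, hgp⟩ := hall
  have hgu : ¬ Commute g u' := fun h => hgp (hexpC g h)
  have F₀ := frame g hgu
  have hmulpow : ∀ a b : P, (a * b) ^ p = a ^ p * b ^ p := fun a b =>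
    H6.mul_pow_prime_of_commute_commutator hp.out hp2
      (Subgroup.mem_center_iff.1 (F₀.com_center b a) a).symm
      (Subgroup.mem_center_iff.1 (F₀.com_center b a) b).symm
      (by
        obtain ⟨k, hk⟩ := Subgroup.mem_zpowers_iff.1 (F₀.hcomm b a)
        rw [commutatorElement_def, ← hk, ← zpow_natCast, ← zpow_mul, mul_comm, zpow_mul,
          zpow_natCast, ← F₀.hz, pow_orderOf_eq_one, one_zpow])
  -- `C` is the set of elements of order dividing `p`, so it is invariant under all maps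
  have hCiff : ∀ x : P, x ^ p = 1 → (x : Ω) ∈ C := by
    intro x hx
    obtain ⟨i, hi⟩ := F₀.exists_centralizer_part x
    refine cu x ?_
    have h1 : (g ^ p) ^ i = 1 := by
      have := hmulpow (g ^ i) ((g ^ i)⁻¹ * x)
      rw [mul_inv_cancel_left, hx, hexpC _ hi, mul_one] at this
      rw [← zpow_natCast, ← zpow_mul, mul_comm, zpow_mul, zpow_natCast]
      exact this.symm
    obtain ⟨l, rfl⟩ := (F₀.zpow_eq_one_iff (mkz (g ^ p) (hpow g g.2)) hgp i).1 h1
    have hgi : Commute (g ^ ((p : ℤ) * l)) u' := by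
      rw [zpow_mul, zpow_natCast]
      exact (Commute.zpow_left (show Commute (g ^ p) u' from
        Subtype.ext (hcen u (hP.1 huP) _ (hpow g g.2)).symm.eq) l)
    simpa using hgi.mul_left hi
  have hCS : C ≤ S := inf_le_left.trans hP.1
  haveI : Finite C := H85.finite_of_le hCS
  have hrange : ∀ χ : C →* Ω, χ ∈ F.Hom C → χ.range = C := by
    intro χ hχ
    refine Subgroup.eq_of_le_of_card_ge ?_
      (H85.isConj_card (F := F) (P := C) (Q := χ.range) ⟨χ, hχ, rfl⟩).le
    rintro _ ⟨x, rfl⟩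
    have hxP : χ x ∈ P := H88.sc_map_mem hP hχ ((hCmem x).1 x.2).1
    exact hCiff ⟨χ x, hxP⟩ (Subtype.ext (by
      rw [SubgroupClass.coe_pow]
      show χ x ^ p = 1
      rw [← map_pow, hCexp, map_one]))
  have hCn : ∀ s ∈ S, s ∈ Subgroup.normalizer (C : Set Ω) := fun s hs =>
    H85.mem_normalizer_of_conj fun x hx =>
      (hrange _ (F.conj_mem hCS hs)).le ⟨⟨x, hx⟩, rfl⟩
  have hCrec : F.IsReceptive C := by
    refine H85.receptive_of_fullyNormalized hS hF ⟨hCS, ?_⟩
    rintro Q ⟨χ, hχ, rfl⟩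
    rw [hrange χ hχ]
  let a : MulAut C := H85.isoOf ψ hψ (hrange ψ hψ)
  have haA : a ∈ F.autGroup C := (H85.mem_autGroup hCS).2 (H85.isFIso_isoOf ψ hψ (hrange ψ hψ))
  let cj : ℤ → MulAut C := fun i =>
    H85.conjAut S C ⟨(g : Ω) ^ i, zpow_mem (hP.1 g.2) i, hCn _ (zpow_mem (hP.1 g.2) i)⟩
  have hcjA : ∀ i, cj i ∈ F.autGroup C := fun i =>
    H85.autInducedBy_le_autGroup F hCS (by rw [← H85.conjAut_range]; exact ⟨_, rfl⟩)
  have hcjval : ∀ i (x : C), ((cj i x : C) : Ω) = (g : Ω) ^ i * x * ((g : Ω) ^ i)⁻¹ :=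
    fun i x => rfl
  have cj_fix : ∀ i (x : C), Commute (g : Ω) x → cj i x = x := fun i x hx =>
    Subtype.ext (by rw [hcjval, (hx.zpow_left i).eq, mul_inv_cancel_right])
  let zC : C := ⟨z, hZC z.2⟩
  let uC : C := ⟨u, huC⟩
  let toP : C → P := fun x => ⟨x, ((hCmem x).1 x.2).1⟩
  have hau : a uC = zC := Subtype.ext hψu
  have hgz : Commute (g : Ω) z := hcen g (hP.1 g.2) z z.2
  obtain ⟨f, hf⟩ := H5.GenExtra.exists_comHom F₀.com_center u'
  obtain ⟨i, hi⟩ := F₀.exists_zpow_c (Subgroup.mem_zpowers z')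
  have t1u : cj i uC = zC * uC := by
    have h1 : g ^ i * u' * (g ^ i)⁻¹ * u'⁻¹ = z' := by rw [← hf, map_zpow, hf, hi]
    exact Subtype.ext (congrArg Subtype.val (mul_inv_eq_iff_eq_mul.1 h1) :)
  -- the image of `z` is not central
  set y := a zC with hy
  have hgy : ¬ Commute (g : Ω) y := by
    intro hgy
    have hyc : toP y ∈ Subgroup.center P :=
      F₀.mem_center_of (Subtype.ext ((hCmem y).1 y.2).2.eq) (Subtype.ext hgy.symm.eq)
    have hyZ : (y : Ω) ∈ Z := K1 _ (H85.restrict hψ hZC) fun x hx =>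
      (congrArg Subtype.val (Subgroup.mem_center_iff.1 hyc ⟨x, hx⟩) :)
    refine hout zC z.2 (fun h => ?_) hyZ
    have := congrArg Subtype.val h
    rw [show ((zC : C) : Ω) = z from rfl] at this
    rw [this, OneMemClass.coe_one, orderOf_one] at hz
    exact hp.out.one_lt.ne hz
  obtain ⟨f', hf'⟩ := H5.GenExtra.exists_comHom F₀.com_center (toP y)
  have hgy' : g * toP y * g⁻¹ * (toP y)⁻¹ ≠ 1 := fun h =>
    hgy (((H5.GenExtra.com_eq_one_iff g (toP y)).1 h).map P.subtype)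
  obtain ⟨j, hj⟩ : ∃ j : ℤ, (g * toP y * g⁻¹ * (toP y)⁻¹) ^ j = z'⁻¹ := by
    have F₁ : H5.GenExtra.Frame p z' (toP y) g :=
      { hz := F₀.hz
        hzc := F₀.hzc
        hcomm := F₀.hcomm
        hu := Subtype.ext (congrArg Subtype.val (hCexp y) :)
        hg := fun h => hgy (h.map P.subtype)
        hab := fun x w hx hw => by
          -- the centralizer of `y` is again `C`
          have hcy : ∀ x : P, Commute x (toP y) → Commute x u' := fun x hx => by
            obtain ⟨i, hi⟩ := F₀.exists_centralizer_part x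
            have hiy : Commute (g ^ i) (toP y) := by
              have h' : Commute ((g ^ i)⁻¹ * x) (toP y) :=
                F₀.hab _ _ hi (Subtype.ext ((hCmem y).1 y.2).2.eq)
              simpa using hx.mul_left h'.inv_left
            obtain ⟨f, hf⟩ := H5.GenExtra.exists_comHom F₀.com_center (toP y)
            have h1 : f (g ^ i) = 1 := by rw [hf, H5.GenExtra.com_eq_one_iff]; exact hiy
            rw [map_zpow, hf] at h1
            obtain ⟨l, rfl⟩ := (F₀.zpow_eq_one_iff (F₀.hcomm g (toP y)) hgy' i).1 h1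
            have hgi : Commute (g ^ ((p : ℤ) * l)) u' := by
              rw [zpow_mul, zpow_natCast]
              exact (Commute.zpow_left (show Commute (g ^ p) u' from
                Subtype.ext (hcen u (hP.1 huP) _ (hpow g g.2)).symm.eq) l)
            simpa using hgi.mul_left hi
          exact F₀.hab x w (hcy x hx) (hcy w hw) }
    exact F₁.exists_zpow_c (inv_mem (Subgroup.mem_zpowers z'))
  have cjy : cj j y = zC⁻¹ * y := by
    have h1 : g ^ j * toP y * (g ^ j)⁻¹ * (toP y)⁻¹ = z'⁻¹ := by rw [← hf', map_zpow, hf', hj]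
    exact Subtype.ext (congrArg Subtype.val (mul_inv_eq_iff_eq_mul.1 h1) :)
  let t1 := cj i
  let t3 := a⁻¹ * cj j * a
  let τ := (t1 * t3 * t1) * (t1 * t3 * t1)
  have hτA : τ ∈ F.autGroup C := by
    have := mul_mem (mul_mem (hcjA i) (mul_mem (mul_mem (inv_mem haA) (hcjA j)) haA)) (hcjA i)
    exact mul_mem this this
  have t1z : t1 zC = zC := cj_fix i zC hgz
  have t3u : t3 uC = uC := by
    show a⁻¹ (cj j (a uC)) = uC
    rw [hau, cj_fix j zC hgz, ← hau, MulAut.inv_apply_self]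
  have t3z : t3 zC = uC⁻¹ * zC := by
    show a⁻¹ (cj j (a zC)) = uC⁻¹ * zC
    rw [← hy, cjy, hy, ← hau, map_mul, map_inv, MulAut.inv_apply_self, MulAut.inv_apply_self]
  have wu : (t1 * t3 * t1) uC = zC := by
    rw [MulAut.mul_apply, MulAut.mul_apply, show t1 uC = zC * uC from t1u, map_mul, t3u, t3z,
      mul_assoc, (hCab zC uC).eq, inv_mul_cancel_left, t1z]
  have wz : (t1 * t3 * t1) zC = uC⁻¹ := by
    rw [MulAut.mul_apply, MulAut.mul_apply, t1z, t3z, map_mul, map_inv, t1z,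
      show t1 uC = zC * uC from t1u, mul_inv_rev, inv_mul_cancel_right]
  have τu : τ uC = uC⁻¹ := by
    show (t1 * t3 * t1) ((t1 * t3 * t1) uC) = _
    rw [wu, wz]
  have τz : τ zC = zC⁻¹ := by
    show (t1 * t3 * t1) ((t1 * t3 * t1) zC) = _
    rw [wz, map_inv, wu]
  have τfix : ∀ x : C, Commute (g : Ω) x → Commute (g : Ω) (a x) → τ x = x := by
    intro x hx hax
    have h3 : t3 x = x := by
      show a⁻¹ (cj j (a x)) = x
      rw [cj_fix j _ hax, MulAut.inv_apply_self]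
    have hw : (t1 * t3 * t1) x = x := by
      rw [MulAut.mul_apply, MulAut.mul_apply, show t1 x = x from cj_fix i x hx, h3,
        show t1 x = x from cj_fix i x hx]
    show (t1 * t3 * t1) ((t1 * t3 * t1) x) = x
    rw [hw, hw]
  -- `τ` commutes with conjugation by `g`
  have hgg : (g : Ω) ∈ normalizerIn S C := ⟨hP.1 g.2, hCn _ (hP.1 g.2)⟩
  set t := H85.conjAut S C ⟨g, hgg⟩ with ht
  have htval : ∀ x : C, ((t x : C) : Ω) = g * x * (g : Ω)⁻¹ := fun x => rfl
  have hcomτ : ∀ x : C, τ (t x) = t (τ x) := by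
    have hD : ∀ x : C, Commute (g : Ω) x → Commute (g : Ω) (a x) → τ (t x) = t (τ x) := by
      intro x hx hax
      have : t x = x := Subtype.ext (by rw [htval, hx.eq, mul_inv_cancel_right])
      rw [this, τfix x hx hax, this]
    have htz : t zC = zC := Subtype.ext (by rw [htval, hgz.eq, mul_inv_cancel_right])
    have hz_eq : τ (t zC) = t (τ zC) := by rw [htz, τz, map_inv, htz]
    obtain ⟨m, hm⟩ := hgen _ (hcom g g.2 u huP)
    have htu : t uC = zC ^ m * uC := Subtype.ext (by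
      rw [htval, Subgroup.coe_mul, SubgroupClass.coe_zpow]
      show (g : Ω) * u * (g : Ω)⁻¹ = (z : Ω) ^ m * u
      rw [hm, inv_mul_cancel_right])
    have hu_eq : τ (t uC) = t (τ uC) := by
      rw [htu, map_mul, map_zpow, τz, τu, map_inv, htu, mul_inv_rev, ← zpow_neg, inv_zpow']
      exact (hCab _ _).eq
    let K := MonoidHom.eqLocus ((τ : MulAut C).toMonoidHom.comp t.toMonoidHom)
      (t.toMonoidHom.comp (τ : MulAut C).toMonoidHom)
    intro x
    obtain ⟨f₂, hf₂⟩ := H5.GenExtra.exists_comHom F₀.com_center g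
    have hsplit : ∀ b : C, ¬ Commute (g : Ω) b → ∀ x : C, ∃ k : ℤ,
        Commute (g : Ω) ((x * (b ^ k)⁻¹ : C)) := by
      intro b hb x
      have hb' : toP b * g * (toP b)⁻¹ * g⁻¹ ≠ 1 := fun h =>
        hb (((H5.GenExtra.com_eq_one_iff (toP b) g).1 h).map P.subtype).symm
      have hmem := F₀.hcomm (toP b) g
      have hzp : Subgroup.zpowers (toP b * g * (toP b)⁻¹ * g⁻¹) = Subgroup.zpowers z' := by
        refine Subgroup.eq_of_le_of_card_ge (Subgroup.zpowers_le.2 hmem) ?_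
        rw [Nat.card_zpowers, Nat.card_zpowers, F₀.hz]
        refine le_of_eq (orderOf_eq_prime ?_ hb').symm
        have := (F₀.zpow_eq_one_iff hmem hb' p).2 dvd_rfl
        rwa [zpow_natCast] at this
      obtain ⟨k, hk⟩ := Subgroup.mem_zpowers_iff.1 (hzp.symm ▸ F₀.hcomm (toP x) g :
        toP x * g * (toP x)⁻¹ * g⁻¹ ∈ Subgroup.zpowers (toP b * g * (toP b)⁻¹ * g⁻¹))
      refine ⟨k, ?_⟩
      have h1 : f₂ (toP x * (toP b ^ k)⁻¹) = 1 := by
        rw [map_mul, map_inv, map_zpow, hf₂, hf₂, hk, mul_inv_cancel]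
      rw [hf₂, H5.GenExtra.com_eq_one_iff] at h1
      have h2 := (h1.map P.subtype).symm
      simpa [toP] using h2
    obtain ⟨k, hk⟩ := hsplit uC (fun h => hgu (Subtype.ext h.eq)) x
    obtain ⟨l, hl⟩ := hsplit y hgy (a (x * (uC ^ k)⁻¹))
    set d := x * (uC ^ k)⁻¹ * (zC ^ l)⁻¹ with hd
    have hd1 : Commute (g : Ω) d := by
      rw [hd, Subgroup.coe_mul, InvMemClass.coe_inv, SubgroupClass.coe_zpow]
      exact hk.mul_right (hgz.zpow_right l).inv_right
    have hd2 : Commute (g : Ω) (a d) := by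
      rw [hd, map_mul, map_inv, map_zpow, ← hy]
      exact hl
    have hdK : d ∈ K := hD d hd1 hd2
    have hzK : zC ∈ K := hz_eq
    have huK : uC ∈ K := hu_eq
    have hx : x = d * zC ^ l * uC ^ k := by rw [hd]; group
    have hxK : x ∈ K := hx ▸ K.mul_mem (K.mul_mem hdK (K.zpow_mem hzK l)) (K.zpow_mem huK k)
    exact hxK
  -- extend `τ` to `g`
  obtain ⟨χ, hχ, hext⟩ := H85.receptive_extend hCrec ((H85.mem_autGroup hCS).1 hτA)
  have hgN : (g : Ω) ∈ extender S C (C.subtype.comp (τ : MulAut C).toMonoidHom) :=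
    H85.mem_extender.2 ⟨hP.1 g.2, hgg.2, g, hP.1 g.2, fun x hx => by
      have := congrArg Subtype.val (hcomτ x)
      rw [htval] at this
      exact this⟩
  have hCN : C ≤ extender S C (C.subtype.comp (τ : MulAut C).toMonoidHom) :=
    H85.le_extender hCS (fun x => hCS (τ x).2)
  set h := χ ⟨g, hgN⟩ with hh
  have hhP : h ∈ P := H88.sc_map_mem hP hχ g.2
  have hcore : ∀ x : C, (g : Ω) * (τ x : C) * (g : Ω)⁻¹ = h * (τ x : C) * h⁻¹ := by
    intro x
    have h1 := H85.extend_conj (e := τ) hCN (fun x => hext x x.2 (hCN x.2)) (g := ⟨g, hgN⟩)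
      (x := x) (t x).2
    have h2 := congrArg Subtype.val (hcomτ x)
    rw [htval] at h2
    exact h2.symm.trans h1
  have hcu : Commute ((g : Ω)⁻¹ * h) u := by
    have h1 := hcore (τ⁻¹ uC)
    rw [MulAut.apply_inv_self] at h1
    show (g : Ω)⁻¹ * h * u = u * ((g : Ω)⁻¹ * h)
    calc (g : Ω)⁻¹ * h * u = (g : Ω)⁻¹ * (h * u * h⁻¹) * h := by group
      _ = (g : Ω)⁻¹ * ((g : Ω) * u * (g : Ω)⁻¹) * h := by rw [← h1]
      _ = u * ((g : Ω)⁻¹ * h) := by group
  set c : P := g⁻¹ * ⟨h, hhP⟩ with hc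
  have hcp : c ^ p = 1 := hexpC c (Subtype.ext hcu.eq)
  have hfix : h ^ p = (g : Ω) ^ p := by
    have h1 := hmulpow g c
    rw [hcp, mul_one, hc, mul_inv_cancel_left] at h1
    exact (congrArg Subtype.val h1 :)
  obtain ⟨l, hl⟩ := hgen _ (hpow g g.2)
  have hgpC : (g : Ω) ^ p ∈ C := hZC (hpow g g.2)
  have e1 : h ^ p = ((τ ⟨_, hgpC⟩ : C) : Ω) := by
    rw [hh, ← map_pow]
    refine (congrArg χ ?_).trans (hext _ hgpC (hCN hgpC))
    exact Subtype.ext rfl
  have e2 : (⟨_, hgpC⟩ : C) = zC ^ l := Subtype.ext (by rw [SubgroupClass.coe_zpow]; exact hl.symm)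
  rw [e2, map_zpow, τz, SubgroupClass.coe_zpow, InvMemClass.coe_inv,
    show ((zC : C) : Ω) = (z : Ω) from rfl, inv_zpow, hl, hfix] at e1
  have e3 : (g ^ p) ^ (2 : ℤ) = 1 := by
    refine Subtype.ext ?_
    rw [zpow_two, Subgroup.coe_mul, SubgroupClass.coe_pow, OneMemClass.coe_one]
    nth_rewrite 1 [e1]
    exact inv_mul_cancel _
  have := (F₀.zpow_eq_one_iff (mkz (g ^ p) (hpow g g.2)) hgp 2).1 e3
  exact hp2 ((Nat.prime_dvd_prime_iff_eq hp.out Nat.prime_two).1 (by exact_mod_cast this))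


/-- Let F be a saturated fusion system over a finite p-group S and P a subgroup of S strongly closed in F that is generalized extraspecial (its Frattini subgroup equals its commutator subgroup and has order p) and not isomorphic to E × A with A elementary abelian and E dihedral of order 8 (p = 2) or extraspecial of order p³ and exponent p (p odd). Then P is normal in F. -/
theorem result {Ω : Type*} [Group Ω] {S : Subgroup Ω} [Finite S] (p : ℕ) [Fact p.Prime] (hS : IsPGroup p S) (F : Cfsg.FusionSystem S) (hF : F.IsSaturated p) (P : Subgroup Ω) (hP : F.StronglyClosed P) (hge : frattini ↥P = commutator ↥P ∧ Nat.card ↥(commutator ↥P) = p) (h2 : p = 2 → ¬ ∃ (A : Type) (_ : CommGroup A), (∀ a : A, a ^ 2 = 1) ∧ Nonempty (↥P ≃* DihedralGroup 4 × A)) (hodd : p ≠ 2 → ¬ ∃ (E : Type) (_ : Group E) (A : Type) (_ : CommGroup A), Cfsg.IsExtraspecial p E ∧ Nat.card E = p ^ 3 ∧ Monoid.exponent E = p ∧ (∀ a : A, a ^ p = 1) ∧ Nonempty (↥P ≃* E × A)) : F.IsNormal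 P := by
  classical
  haveI : Finite P := H85.finite_of_le hP.1
  obtain ⟨hfr, hcard0⟩ := hge
  set Z := (commutator ↥P).map P.subtype with hZdef
  have hcard : Nat.card Z = p := by
    rw [hZdef, ← Nat.card_congr ((commutator ↥P).equivMapOfInjective _ P.subtype_injective).toEquiv]
    exact hcard0
  have hZP : Z ≤ P := Subgroup.map_subtype_le _
  have hpow : ∀ a ∈ P, a ^ p ∈ Z := fun a ha => by
    refine ⟨⟨a, ha⟩ ^ p, ?_, rfl⟩
    rw [← hfr]
    exact H31.pow_mem_frattini (hS.to_le hP.1) _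
  have hcom : ∀ a ∈ P, ∀ b ∈ P, a * b * a⁻¹ * b⁻¹ ∈ Z := fun a ha b hb =>
    ⟨⟨a, ha⟩ * ⟨b, hb⟩ * ⟨a, ha⟩⁻¹ * ⟨b, hb⟩⁻¹, by
      rw [← commutatorElement_def, commutator_def]
      exact Subgroup.commutator_mem_commutator (Subgroup.mem_top _) (Subgroup.mem_top _), rfl⟩
  have hZS : Z ≤ S := hZP.trans hP.1
  have hcen : ∀ s ∈ S, ∀ w ∈ Z, Commute s w := by
    have hn : (Z.subgroupOf S).Normal := by
      refine ⟨fun n hn s => ?_⟩
      rw [Subgroup.mem_subgroupOf] at hn ⊢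
      exact map_derived hP (F.conj_mem hP.1 s.2) le_rfl ⟨n, hZP hn⟩ hn
    have hc : Nat.card (Z.subgroupOf S) ≤ p := by
      rw [Nat.card_congr (Subgroup.subgroupOfEquivOfLe hZS).toEquiv, hcard]
    intro s hs w hw
    exact (congrArg Subtype.val (Subgroup.mem_center_iff.1
      (H30.le_center_of_card_le hS hn hc
        (show (⟨w, hZS hw⟩ : S) ∈ Z.subgroupOf S from hw))
      ⟨s, hs⟩) :)
  refine H88.isNormal_of_series hS hF hP 2 (fun i => if i = 0 then ⊥ else if i = 1 then Z else P)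
    rfl rfl ?_ ?_ ?_
  · intro i hi
    interval_cases i <;> simp [hZP]
  · intro i hi
    interval_cases i
    · simp only [zero_add, one_ne_zero, ↓reduceIte, Subgroup.commutator_le]
      intro a ha b hb
      rw [Subgroup.mem_bot, commutatorElement_eq_one_iff_mul_comm]
      exact (hcen b (hP.1 hb) a ha).eq.symm
    · simp only [one_ne_zero, ↓reduceIte, Nat.reduceAdd, OfNat.ofNat_ne_zero, OfNat.ofNat_ne_one,
        Subgroup.commutator_le]
      exact fun a ha b hb => hcom a ha b hb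
  · intro i hi
    interval_cases i
    · simp only [↓reduceIte]
      refine ⟨bot_le, fun φ _ => ?_⟩
      rw [MonoidHom.range_eq_map, eq_bot_iff]
      rintro _ ⟨x, -, rfl⟩
      rw [show x = 1 from Subtype.ext (Subgroup.mem_bot.1 x.2)]
      exact (map_one φ)
    · simp only [one_ne_zero, ↓reduceIte]
      refine ⟨hZS, fun φ hφ => ?_⟩
      haveI : Finite Z := H85.finite_of_le hZS
      obtain ⟨z, hz⟩ := exists_prime_orderOf_dvd_card' (G := Z) p (by rw [hcard])
      have hmem := image_mem hS hF hP rfl hcard hpow hcom hcen h2 hodd hφ z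
        ((Subgroup.orderOf_coe z).trans hz)
      refine Subgroup.eq_of_le_of_card_ge ?_
        (H85.isConj_card (F := F) (P := Z) (Q := φ.range) ⟨φ, hφ, rfl⟩).le
      rintro _ ⟨x, rfl⟩
      have hx : x ∈ Subgroup.zpowers z := by
        rw [show Subgroup.zpowers z = ⊤ from Subgroup.eq_top_of_card_eq _
          (by rw [Nat.card_zpowers, hz, hcard])]
        trivial
      obtain ⟨k, rfl⟩ := Subgroup.mem_zpowers_iff.1 hx
      rw [map_zpow]
      exact zpow_mem hmem k

end Cfsg.Agent.S5233
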