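import Cfsg.Statements.S5235
import Cfsg.Agent.H67.Metacyclic2
import Cfsg.Agent.H85.Normal

set_option autoImplicit false
open Cfsg

namespace Cfsg.Agent.S5235

/-- Let F be a saturated fusion system over a finite 2-group S (p = 2) and P a metacyclic subgroup of S strongly closed in F that is not dihedral, not semidihedral and not generalized quaternion (here the group of order 2, the Klein four-group and the cyclic group of order 4 also count as excluded). Then P is normal in F. -/
theorem result {Ω : Type*} [Group Ω] {S : Subgroup Ω} [Finite S] (p : ℕ) [Fact p.Prime] (hS : IsPGroup p S) (F : Cfsg.FusionSystem S) (hF : F.IsSaturated p) (P : Subgroup Ω) (hP : F.StronglyClosed P) (hp : p = 2) (hm : Cfsg.IsMetacyclic ↥P) (hd : ¬ ∃ m : ℕ, Nonempty (↥P ≃* DihedralGroup m)) (hq : ¬ ∃ m : ℕ, Nonempty (↥P ≃* QuaternionGroup m)) (hsd : ¬ Cfsg.IsQuasiDihedral ↥P) : F.IsNormal P := by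
  subst hp
  have hmax : ¬ H31.IsMaxClassTwo P := by
    rintro (⟨k, ⟨e⟩⟩ | ⟨k, hcard, a, b, ha, hb, hab⟩ | ⟨k, ⟨e⟩⟩)
    · exact hd ⟨_, ⟨e⟩⟩
    · exact hsd ⟨k + 3, by omega, hcard, a, b, ha, hb, hab⟩
    · exact hq ⟨_, ⟨e⟩⟩
  refine H85.isNormal_of_essential hS hF fun E hE => ?_
  have hES : E ≤ S := by
    rcases hE with rfl | hE
    · exact le_rfl
    · exact hE.1.1
  have hPE : P ≤ E := by
    rcases hE with rfl | hE
    · exact hP.1
    · exact H67.le_essential_of_stronglyClosed hS hP hm hmax hE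
  refine ⟨hPE, fun α hα => ?_⟩
  haveI := H85.finite_of_le hES
  exact H85.map_eq_of_mapsTo fun x hx =>
    hP.2 P le_rfl _ (H85.restrict ((H85.mem_autGroup hES).1 hα) hPE) ⟨x, hx⟩

end Cfsg.Agent.S5235
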