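import Cfsg.Statements.S5245
import Cfsg.Agent.H88.AutSystem
-- import your own Cfsg.Agent.* helpers here

set_option autoImplicit false
open Cfsg

namespace Cfsg.Agent.S5245

/-- Let F be an extremely sparse fusion system over a finite p-group S (saturated, not the inner system, and every saturated fusion system over any subgroup T of S contained in F is F itself or the inner system of T). Then S is normal in F, the focal and hyperfocal subgroups of F are both S, and Aut_F(S) is generated by the inner automorphisms of S together with a single automorphism of prime order q ≠ p (F is the fusion system of the semidirect product of S by a cyclic group of prime order). -/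
theorem result {Ω : Type*} [Group Ω] {S : Subgroup Ω} [Finite S] (p : ℕ) [Fact p.Prime] (hS : IsPGroup p S) (F : Cfsg.FusionSystem S) (hF : F.IsSaturated p) (hxs : ¬ (∀ P : Subgroup Ω, F.Hom P = (Cfsg.innerFusionSystem S).Hom P) ∧ ∀ (T : Subgroup Ω) (E : Cfsg.FusionSystem T), E.IsSaturated p → E.IsSubsystemOf F → (T = S ∧ ∀ P : Subgroup Ω, E.Hom P = F.Hom P) ∨ (∀ P : Subgroup Ω, E.Hom P = (Cfsg.innerFusionSystem T).Hom P)) : F.IsNormal S ∧ F.focalSubgroup = S ∧ F.hyperfocalSubgroup p = S ∧ ∃ (q : ℕ) (β : MulAut ↥S), q.Prime ∧ q ≠ p ∧ β ∈ F.autGroup S ∧ orderOf β = q ∧ (F.autGroup S : Subgroup (MulAut ↥S)) = Cfsg.Inn ↥S ⊔ Subgroup.zpowers β := by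
  haveI : Finite (MulAut S) := Finite.of_injective _ DFunLike.coe_injective
  obtain ⟨hni, hxs⟩ := hxs
  -- some automizer is not a `p`-group
  have hne : ∃ R : Subgroup Ω, F.IsFullyNormalized R ∧ ¬ IsPGroup p (F.autGroup R) := by
    by_contra hc
    exact hni (H88.inner_of_pGroup hS hF fun R hR => not_not.1 fun h => hc ⟨R, hR, h⟩)
  obtain ⟨R, hRn, hRp⟩ := hne
  haveI : Finite R := H85.finite_of_le hRn.1
  haveI : Finite (MulAut R) := Finite.of_injective _ DFunLike.coe_injective
  -- an automorphism of prime order `q ≠ p`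
  obtain ⟨q, β, hq, hqp, hβF, hord⟩ : ∃ (q : ℕ) (β : MulAut R), q.Prime ∧ q ≠ p ∧
      β ∈ F.autGroup R ∧ orderOf β = q := by
    have h1 : ∃ q, q.Prime ∧ q ≠ p ∧ q ∣ Nat.card (F.autGroup R) := by
      by_contra hc
      refine hRp (IsPGroup.iff_card.2
        ⟨_, Nat.eq_prime_pow_of_unique_prime_dvd Nat.card_pos.ne' fun {d} hd hdd => ?_⟩)
      by_contra hdp
      exact hc ⟨d, hd, hdp, hdd⟩
    obtain ⟨q, hq, hqp, hqd⟩ := h1
    haveI : Fact q.Prime := ⟨hq⟩
    obtain ⟨b, hb⟩ := exists_prime_orderOf_dvd_card' (G := F.autGroup R) q hqd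
    exact ⟨q, b, hq, hqp, b.2, by rw [← hb, Subgroup.orderOf_coe]⟩
  -- the subsystem generated by a `p'`-automorphism of a subgroup is the whole system
  have key : ∀ (T : Subgroup Ω) (γ : MulAut T), T ≤ S → γ ∈ F.autGroup T → γ ≠ 1 →
      (orderOf γ).Coprime p →
        T = S ∧ ∀ P, (H88.autSystem T (Subgroup.zpowers γ)).Hom P = F.Hom P := by
    intro T γ hTS hγ hγ1 hcop
    haveI : Finite T := H85.finite_of_le hTS
    have hT : IsPGroup p T := hS.to_le hTS
    refine (hxs T (H88.autSystem T (Subgroup.zpowers γ))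
      (H88.autSystem_saturated hT (by rwa [Nat.card_zpowers]))
      (H88.autSystem_le hTS fun h hh => (Subgroup.zpowers_le.2 hγ) hh)).resolve_right fun h => ?_
    exact hγ1 (H88.eq_one_of_autSystem_inner hT h (Subgroup.mem_zpowers γ) hcop)
  have hqcop : q.Coprime p := (Nat.coprime_primes hq Fact.out).2 hqp
  have hβ1 : β ≠ 1 := fun h => hq.one_lt.ne' (hord.symm.trans (orderOf_eq_one_iff.2 h))
  have hcop : (orderOf β).Coprime p := hord ▸ hqcop
  obtain ⟨hRS, hE⟩ := key R β hRn.1 hβF hβ1 hcop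
  subst hRS
  have hFE : F = H88.autSystem R (Subgroup.zpowers β) := (H85.fusionSystem_ext hE).symm
  have hnormal : F.IsNormal R := by rw [hFE]; exact H88.autSystem_isNormal R _
  have haut : (F.autGroup R : Subgroup (MulAut R)) = Cfsg.Inn R ⊔ Subgroup.zpowers β := by
    refine le_antisymm (fun α hα => ?_)
      (sup_le (H85.inn_le_autGroup F le_rfl) (Subgroup.zpowers_le.2 hβF))
    rw [hFE] at hα
    exact H88.autSystem_autGroup_le hα
  -- the displacements of `β` generate everything
  let K : Subgroup R := Subgroup.closure (Set.range fun x : R => x⁻¹ * β x)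
  have hKβ : K.map β.toMonoidHom = K := by
    refine Subgroup.eq_of_le_of_card_ge ?_ ?_
    · rw [MonoidHom.map_closure, Subgroup.closure_le]
      rintro _ ⟨_, ⟨x, rfl⟩, rfl⟩
      refine Subgroup.subset_closure ⟨β x, ?_⟩
      simp
    · rw [Subgroup.card_map_of_injective β.injective]
  have hinv : ∀ x ∈ K, β x ∈ K := fun x hx => hKβ ▸ Subgroup.mem_map_of_mem _ hx
  let T : Subgroup Ω := K.map R.subtype
  have hTR : T ≤ R := Subgroup.map_subtype_le _
  let e : K ≃* T := Subgroup.equivMapOfInjective K R.subtype R.subtype_injective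
  have hinv' : ∀ x ∈ K, β⁻¹ x ∈ K := fun x hx => by
    obtain ⟨y, hy, hyx⟩ := hKβ.ge hx
    rw [← hyx]
    simpa using hy
  let γ : MulAut T := MulAut.congr e (H88.restrictAut K β hinv hinv')
  have hγval : ∀ x : T, ((γ x : T) : Ω) = ((β ⟨x, hTR x.2⟩ : R) : Ω) := fun x => by
    have h1 : ((e.symm x : K) : R) = ⟨x, hTR x.2⟩ :=
      Subtype.ext (show ((((e.symm x : K) : R)) : Ω) = (x : Ω) from
        congrArg Subtype.val (e.apply_symm_apply x))
    show (((H88.restrictAut K β hinv hinv' (e.symm x) : K) : R) : Ω) = _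
    rw [← h1]
    rfl
  have hγF : γ ∈ F.autGroup T := by
    refine Subgroup.subset_closure (H85.hom_congr (H85.restrict
      ((H85.mem_autGroup le_rfl).1 hβF) hTR) fun x => ?_)
    exact (hγval x).symm
  have hpowγ : γ ^ q = 1 := by
    show (MulAut.congr e (H88.restrictAut K β hinv hinv')) ^ q = 1
    rw [← map_pow]
    refine (map_eq_one_iff _ (MulAut.congr e).injective).2 (MulEquiv.ext fun x => Subtype.ext ?_)
    rw [H88.restrictAut_pow_apply, ← hord, pow_orderOf_eq_one]
    rfl
  have hcopγ : (orderOf γ).Coprime p :=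
    Nat.Coprime.coprime_dvd_left (orderOf_dvd_of_pow_eq_one hpowγ) hqcop
  have hγ1 : γ ≠ 1 := by
    intro hc
    refine hβ1 (MulEquiv.ext fun x => H88.fixed_of_iterate_autComm hS β hcop 2 x ?_)
    have hx : x⁻¹ * β x ∈ K := Subgroup.subset_closure ⟨x, rfl⟩
    have h1 := hγval (e ⟨_, hx⟩)
    rw [hc, MulAut.one_apply] at h1
    have h2 : x⁻¹ * β x = β (x⁻¹ * β x) := Subtype.ext h1
    show (x⁻¹ * β x)⁻¹ * β (x⁻¹ * β x) = 1
    rw [← h2, inv_mul_cancel]
  have hTS : T = R := (key T γ hTR hγF hγ1 hcopγ).1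
  have hhyp : R ≤ F.hyperfocalSubgroup p := by
    conv_lhs => rw [← hTS]
    show K.map R.subtype ≤ _
    rw [MonoidHom.map_closure, Subgroup.closure_le]
    rintro _ ⟨_, ⟨x, rfl⟩, rfl⟩
    refine Subgroup.subset_closure ⟨R, ⟨β, hβF⟩, x, le_rfl,
      Subgroup.subset_closure ?_, rfl⟩
    show (orderOf (⟨β, hβF⟩ : F.autGroup R)).Coprime p
    rwa [Subgroup.orderOf_mk]
  have hhypS : F.hyperfocalSubgroup p ≤ R := by
    refine (Subgroup.closure_le _).2 ?_
    rintro _ ⟨P, α, x, hP, -, rfl⟩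
    exact mul_mem (inv_mem (hP x.2)) (hP ((α : MulAut P) x).2)
  have hfoc : F.focalSubgroup = R := by
    refine le_antisymm ?_ ?_
    · refine (Subgroup.closure_le _).2 ?_
      rintro _ ⟨P, φ, x, hφ, rfl⟩
      exact mul_mem (inv_mem (H85.source_le hφ x.2)) (H85.map_mem hφ x)
    · conv_lhs => rw [← hTS]
      show K.map R.subtype ≤ _
      rw [MonoidHom.map_closure, Subgroup.closure_le]
      rintro _ ⟨_, ⟨x, rfl⟩, rfl⟩
      exact Subgroup.subset_closure ⟨R, _, x, (H85.mem_autGroup le_rfl).1 hβF, rfl⟩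
  exact ⟨hnormal, hfoc, le_antisymm hhypS hhyp, q, β, hq, hqp, hβF, hord, haut⟩

end Cfsg.Agent.S5245
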