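import Cfsg.Statements.S5255
import Cfsg.Agent.H88.Morphism

set_option autoImplicit false
open Cfsg

namespace Cfsg.Agent.S5255

/-- Let F be a saturated fusion system over a finite p-group S and T a subgroup of S strongly closed in F. Then T·C_S(T) is strongly closed in F. -/
theorem result {Ω : Type*} [Group Ω] {S : Subgroup Ω} [Finite S] (p : ℕ) [Fact p.Prime] (hS : IsPGroup p S) (F : Cfsg.FusionSystem S) (hF : F.IsSaturated p) (T : Subgroup Ω) (hT : F.StronglyClosed T) : F.StronglyClosed (T ⊔ Cfsg.FusionSystem.centralizerIn S T) := by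
  refine ⟨sup_le hT.1 inf_le_left, fun R hR φ hφ x => ?_⟩
  obtain ⟨ψ, hψ, hmod⟩ := H88.exists_mod_extension hS hF hT hφ
  have hC : FusionSystem.centralizerIn S T ≤ Subgroup.normalizer (T : Set Ω) :=
    inf_le_left.trans (H88.sc_normalizer hT)
  obtain ⟨c, hc, t, ht, hct⟩ := H88.exists_mul_of_mem_sup hC (by rw [sup_comm]; exact hR x.2)
  have hcR : c ∈ R ⊔ T := by
    have : c = (x : Ω) * t⁻¹ := by rw [← hct]; group
    rw [this]
    exact mul_mem (Subgroup.mem_sup_left x.2) (inv_mem (Subgroup.mem_sup_right ht))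
  have hψc : ψ ⟨c, hcR⟩ ∈ FusionSystem.centralizerIn S T := by
    refine H85.mem_centralizerIn.2 ⟨H85.map_mem hψ _, fun y hy => ?_⟩
    obtain ⟨z, hz, rfl⟩ := H85.mem_img.1 ((H88.sc_img_eq hT hψ le_sup_right).ge hy)
    rw [← map_mul, ← map_mul]
    exact congrArg ψ (Subtype.ext ((H85.mem_centralizerIn.1 hc).2 z hz))
  have hψt : ψ ⟨t, Subgroup.mem_sup_right ht⟩ ∈ T := H88.sc_map_mem hT hψ ht
  have hψx : ψ (Subgroup.inclusion le_sup_left x) ∈ T ⊔ FusionSystem.centralizerIn S T := by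
    have e : Subgroup.inclusion le_sup_left x =
        (⟨c, hcR⟩ : ↥(R ⊔ T)) * ⟨t, Subgroup.mem_sup_right ht⟩ := Subtype.ext hct.symm
    rw [e, map_mul]
    exact mul_mem (Subgroup.mem_sup_right hψc) (Subgroup.mem_sup_left hψt)
  have := mul_mem hψx (Subgroup.mem_sup_left (hmod x))
  simpa using this

end Cfsg.Agent.S5255
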