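import Cfsg.Statements.S5257
import Cfsg.Agent.H75.AbelianIndex.Series

set_option autoImplicit false
open Cfsg
open scoped commutatorElement

namespace Cfsg.Agent.S5257

/-- Let p be an odd prime, S a finite nonabelian p-group with a unique abelian subgroup A of index p, and F a saturated fusion system over S having an F-essential subgroup other than A. Then the second centre Z₂(S) lies in A; Z(S) ∩ [S, S] has order p; Z(S)[S, S] has index p in A; Z(S) has index p in Z₂(S); and S/Z(S) has maximal nilpotency class (if S/Z(S) has order pᵐ with m ≥ 3 then the term of index m − 2 of the lower central series of S, counting S as index 0, is not contained in Z(S)). -/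
theorem result {Ω : Type*} [Group Ω] {S : Subgroup Ω} [Finite S] (p : ℕ) [Fact p.Prime] (hS : IsPGroup p S) (F : Cfsg.FusionSystem S) (hF : F.IsSaturated p) (hp : p ≠ 2) (hna : ¬ IsMulCommutative ↥S) (A : Subgroup Ω) (hA : A ≤ S ∧ IsMulCommutative ↥A ∧ (A.subgroupOf S).index = p) (huniq : ∀ B : Subgroup Ω, B ≤ S → IsMulCommutative ↥B → (B.subgroupOf S).index = p → B = A) (P : Subgroup Ω) (hP : F.IsEssential p P) (hPA : P ≠ A) : ((upperCentralSeries ↥S 2).map S.subtype) ≤ A ∧ Nat.card ↥((S ⊓ Subgroup.centralizer (S : Set Ω)) ⊓ ((commutator ↥S).map S.subtype)) = p ∧ (((S ⊓ Subgroup.centralizer (S : Set Ω)) ⊔ ((commutator ↥S).map S.subtype)).subgroupOf A).index = p ∧ (((S ⊓ Subgroup.centralizer (S : Set Ω))).subgroupOf ((upperCentralSeries ↥S 2).map S.subtype)).index = p ∧ ∀ m : ℕ, ((S ⊓ Subgroup.centralizer (S : Set Ω)).subgroupOf S).index = p ^ m → 3 ≤ m → ¬ Subgroup.lowerCentralSeries S (m - 2) ≤ (S ⊓ Subgroup.centralizer (S : Set Ω)) := by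
  have h := H75.AbelianIndex.data_of_unique hS hna hA huniq
  obtain ⟨x, hsh⟩ := H75.AbelianIndex.exists_shape h hF hP hPA
  have hR := H75.AbelianIndex.card_comm_center h hF hP hsh
  have hmap : (commutator ↥S).map S.subtype = ⁅S, S⁆ := Subgroup.map_subtype_commutator S
  have hz2 := H75.AbelianIndex.z2_eq h hR hsh.memS hsh.notMem
  haveI : Finite A := H85.finite_of_le h.le
  refine ⟨?_, ?_, ?_, ?_, fun m hm hm3 hle => ?_⟩
  · show H75.AbelianIndex.z2 S ≤ A
    rw [hz2]; exact Subgroup.map_subtype_le _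
  · rw [hmap, inf_comm]; exact hR
  · rw [hmap]
    show ((H75.SmallIndex.zc S ⊔ ⁅S, S⁆).subgroupOf A).index = p
    rw [Subgroup.subgroupOf_sup h.zc_le h.comm_le]
    set Z' := (H75.SmallIndex.zc S).subgroupOf A
    set D := (⁅S, S⁆).subgroupOf A
    haveI : IsMulCommutative A := h.comm
    haveI : Z'.Normal := ⟨fun n hn g => by
      rw [h.comm.is_comm.comm g n, mul_inv_cancel_right]; exact hn⟩
    have hD : Nat.card ↥D = Nat.card ↥⁅S, S⁆ :=
      Nat.card_congr (Subgroup.subgroupOfEquivOfLe h.comm_le).toEquiv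
    have hmeet : Nat.card ↥(D ⊓ Z') = p := by
      rw [← Subgroup.card_map_of_injective (f := A.subtype) A.subtype_injective,
        Subgroup.map_inf _ _ _ A.subtype_injective, Subgroup.map_subgroupOf_eq_of_le h.zc_le,
        Subgroup.map_subgroupOf_eq_of_le h.comm_le]
      exact hR
    have h1 := Subgroup.relIndex_mul_index (le_sup_left : Z' ≤ Z' ⊔ D)
    rw [sup_comm, Subgroup.relIndex_sup_right] at h1
    have h2 : Z'.index = Nat.card ↥D := by
      rw [hD]
      have e1 := Z'.card_mul_index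
      rw [Nat.card_congr (Subgroup.subgroupOfEquivOfLe h.zc_le).toEquiv, h.card_eq] at e1
      haveI : Finite ↥(H75.SmallIndex.zc S) := H85.finite_of_le (H75.SmallIndex.zc_le S)
      exact Nat.eq_of_mul_eq_mul_left Nat.card_pos e1
    have h3 := ((D ⊓ Z').subgroupOf D).card_mul_index
    rw [Nat.card_congr (Subgroup.subgroupOfEquivOfLe inf_le_left).toEquiv, hmeet] at h3
    have h4 : ((D ⊓ Z').subgroupOf D).index = Z'.relIndex D := by
      rw [← Subgroup.relIndex, Subgroup.inf_relIndex_left]
    rw [h4] at h3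
    rw [h2, ← h3, mul_comm p] at h1
    have hpos : 0 < Z'.relIndex D := Nat.pos_of_ne_zero Subgroup.index_ne_zero_of_finite
    rw [sup_comm D Z'] at h1
    exact Nat.eq_of_mul_eq_mul_left hpos h1
  · show (H75.SmallIndex.zc S).relIndex (H75.AbelianIndex.z2 S) = p
    rw [hz2]
    conv_lhs => arg 1; rw [← Subgroup.map_subgroupOf_eq_of_le h.zc_le]
    rw [Subgroup.relIndex_map_map_of_injective _ _ A.subtype_injective,
      H75.AbelianIndex.relIndex_ker2 h hsh.memS hsh.notMem, hR]
  · obtain ⟨a, ha⟩ := H75.AbelianIndex.exists_iterate_notMem h hR hsh.memS hsh.notMem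
      (m := m) hm (by omega)
    exact ha (hle (H75.AbelianIndex.mem_lower h hsh.memS (m - 2) a))

end Cfsg.Agent.S5257
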