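import Cfsg.Statements.S5272
import Cfsg.Agent.H75.AxGT.Fusion

set_option autoImplicit false
open Cfsg
open Subgroup
open scoped commutatorElement

namespace Cfsg.Agent.S5272

/-- An axiomatic Glauberman–Thompson nilpotency criterion for fusion systems. Let p be an odd prime, F a saturated fusion system over a finite p-group S, and 𝒜 a nonempty family of abelian subgroups of S. For Q ≤ S write I(Q) for the intersection of the members of 𝒜 contained in Q. Assume (invariance) that for every Q ≤ S containing a member of 𝒜, every F-automorphism of Q maps I(Q) into itself, and (replacement) that for every subgroup B of S of nilpotency class at most 2, if some member of 𝒜 contains [B,B] but not B, then B normalizes some member of 𝒜 that contains [B,B] but not B. Then F is the inner fusion system of S if and only if the normalizer fusion system of I(S) in F is the inner fusion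 system of N_S(I(S)). -/
theorem result {Ω : Type*} [Group Ω] {S : Subgroup Ω} [Finite S] (p : ℕ) [Fact p.Prime] (hS : IsPGroup p ↥S) (F : Cfsg.FusionSystem S) (hF : F.IsSaturated p) (hp : p ≠ 2) (𝒜 : Set (Subgroup Ω)) (h𝒜 : ∀ A ∈ 𝒜, A ≤ S ∧ IsMulCommutative ↥A) (hne : 𝒜.Nonempty) (hinv : ∀ Q : Subgroup Ω, Q ≤ S → (∃ A ∈ 𝒜, A ≤ Q) → ∀ α ∈ F.autGroup Q, ∀ x : ↥Q, (x : Ω) ∈ (⨅ A ∈ {A : Subgroup Ω | A ∈ 𝒜 ∧ A ≤ Q}, A) → (((α : MulAut ↥Q) x : ↥Q) : Ω) ∈ (⨅ A ∈ {A : Subgroup Ω | A ∈ 𝒜 ∧ A ≤ Q}, A)) (hrep : ∀ B : Subgroup Ω, B ≤ S → ⁅⁅B, B⁆, B⁆ = ⊥ → (∃ A ∈ 𝒜, ⁅B, B⁆ ≤ A ∧ ¬ B ≤ A) → ∃ A ∈ 𝒜, ⁅B, B⁆ ≤ A ∧ ¬ B ≤ A ∧ B ≤ Subgroup.normalizer (A : Set Ω)) : (∀ P : Subgroup Ω, F.Hom P = (Cfsg.innerFusionSystem S).Hom P) ↔ ∀ N : Cfsg.FusionSystem (Cfsg.FusionSystem.normalizerIn S (⨅ A ∈ 𝒜, A)), F.IsNormalizerSystem (⨅ A ∈ 𝒜, A) N → ∀ P : Subgroup Ω, N.Hom P = (Cfsg.innerFusionSystem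 (Cfsg.FusionSystem.normalizerIn S (⨅ A ∈ 𝒜, A))).Hom P := by
  have hI : ∀ Q : Subgroup Ω,
      (⨅ A ∈ {A : Subgroup Ω | A ∈ 𝒜 ∧ A ≤ Q}, A) = H75.AxGT.famI 𝒜 Q := fun _ => rfl
  have hWS : (⨅ A ∈ 𝒜, A : Subgroup Ω) ≤ S := by
    obtain ⟨A, hA⟩ := hne
    exact (iInf₂_le A hA).trans (h𝒜 A hA).1
  have hIS : H75.AxGT.famI 𝒜 S = ⨅ A ∈ 𝒜, A := H75.AxGT.famI_eq_iInf fun A hA => (h𝒜 A hA).1
  have hSW : S ≤ Subgroup.normalizer ((⨅ A ∈ 𝒜, A : Subgroup Ω) : Set Ω) := by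
    intro s hs
    haveI : Finite ↥(⨅ A ∈ 𝒜, A : Subgroup Ω) := H85.finite_of_le hWS
    refine H85.mem_normalizer_of_conj fun x hx => ?_
    obtain ⟨A, hA⟩ := hne
    have hsN : s ∈ Cfsg.FusionSystem.normalizerIn S S := H85.le_normalizerIn le_rfl hs
    have hmem : H85.conjAut S S ⟨s, hsN⟩ ∈ F.autGroup S :=
      H85.autInducedBy_le_autGroup F le_rfl (H85.conjAut_range S S ▸ ⟨_, rfl⟩)
    have h1 := hinv S le_rfl ⟨A, hA, (h𝒜 A hA).1⟩ _ hmem ⟨x, hWS hx⟩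
      (by rw [hI, hIS]; exact hx)
    rw [hI, hIS, H85.conjAut_apply] at h1
    exact h1
  refine ⟨fun h N hN P => ?_, fun h => H75.AxGT.inner_of_axiomatic hp hS hF h𝒜 hne hinv hrep hSW
    (H88.stabTrivial_of_inner hS hWS h)⟩
  refine le_antisymm (fun φ hφ => ?_) ?_
  · have h1 := H88.normalizerSystem_hom_le hN P hφ
    rw [h] at h1
    obtain ⟨-, g, hg, hgx⟩ := h1
    exact ⟨H85.source_le hφ, g, ⟨hg, hSW hg⟩, hgx⟩
  · rintro φ ⟨hP, g, hg, hgx⟩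
    exact H85.hom_congr (N.conj_mem hP hg) fun x => (hgx x).symm

end Cfsg.Agent.S5272
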