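import Cfsg.Statements.S5276
import Cfsg.Agent.H88.FrattiniClosed
-- import your own Cfsg.Agent.* helpers here

set_option autoImplicit false
open Cfsg

namespace Cfsg.Agent.S5276

/-- Let p be a prime and F a saturated fusion system over a finite p-group S. Then F is the inner fusion system of S if and only if the normalizer fusion system of S itself in F is the inner fusion system (equivalently, Aut_F(S) is induced by S) and the Frattini subgroup Φ(S) is strongly closed in F. -/
theorem result {Ω : Type*} [Group Ω] {S : Subgroup Ω} [Finite S] (p : ℕ) [Fact p.Prime] (hS : IsPGroup p ↥S) (F : Cfsg.FusionSystem S) (hF : F.IsSaturated p) : (∀ P : Subgroup Ω, F.Hom P = (Cfsg.innerFusionSystem S).Hom P) ↔ (∀ N : Cfsg.FusionSystem (Cfsg.FusionSystem.normalizerIn S S), F.IsNormalizerSystem S N → ∀ P : Subgroup Ω, N.Hom P = (Cfsg.innerFusionSystem (Cfsg.FusionSystem.normalizerIn S S)).Hom P) ∧ F.StronglyClosed ((frattini ↥S).map S.subtype) := by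
  constructor
  · intro h
    refine ⟨fun N hN P => le_antisymm (fun φ hφ => ?_) ?_, Subgroup.map_subtype_le _, fun R hR φ hφ x => ?_⟩
    · have h1 := H88.normalizerSystem_hom_le hN P hφ
      rw [h] at h1
      obtain ⟨-, g, hg, hgx⟩ := h1
      exact ⟨H85.source_le hφ, g, ⟨hg, Subgroup.le_normalizer hg⟩, hgx⟩
    · rintro φ ⟨hP, g, hg, hgx⟩
      exact H85.hom_congr (N.conj_mem hP hg) fun x => (hgx x).symm
    · rw [h] at hφ
      obtain ⟨-, g, hg, hgx⟩ := hφ
      rw [hgx x]
      obtain ⟨s, hs, hsx⟩ := hR x.2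
      have hn : (frattini S).Normal := inferInstance
      refine ⟨⟨g, hg⟩ * s * (⟨g, hg⟩ : S)⁻¹, hn.conj_mem s hs _, ?_⟩
      simp [← hsx]
  · rintro ⟨hN, hT⟩
    refine H88.inner_of_frattini_closed hS hF hT fun α hα => ?_
    have hspec := H85.normalizerSystem_spec F S le_rfl
    have hle : S ≤ Cfsg.FusionSystem.normalizerIn S S := le_inf le_rfl Subgroup.le_normalizer
    have h1 := (H85.mem_autGroup hle).1
      (H88.mem_normalizerSystem_autGroup hspec le_rfl hle hα fun x _ => (α x).2)
    rw [H85.IsFIso, hN _ hspec] at h1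
    obtain ⟨-, g, hg, hgx⟩ := h1
    exact H85.mem_autInducedBy.2 ⟨g, hg.1, hgx⟩

end Cfsg.Agent.S5276
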