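import Cfsg.Statements.S5278
import Cfsg.Agent.H88.WeakClosure.Cyclic
import Cfsg.Agent.H88.WeakClosure.Descent
-- import your own Cfsg.Agent.* helpers here

set_option autoImplicit false
open Cfsg

namespace Cfsg.Agent.S5278

/-- Let p be an odd prime, F a saturated fusion system over a finite p-group S, and T a subgroup of Z(S) such that the normalizer fusion system of J(S) in F is contained in the normalizer fusion system of T, J(S) being the subgroup generated by the abelian subgroups of S of largest order. Then either T is weakly closed in F, or Aut_F(T) has a nontrivial cyclic subgroup X of order prime to p that permutes transitively the non-identity elements of the commutator [T, X] (the subgroup of T generated by the elements ψ(t)·t⁻¹ with ψ in X and t in T). -/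
theorem result {Ω : Type*} [Group Ω] {S : Subgroup Ω} [Finite S] (p : ℕ) [Fact p.Prime] (hS : IsPGroup p ↥S) (F : Cfsg.FusionSystem S) (hF : F.IsSaturated p) (hp : p ≠ 2) (T : Subgroup Ω) (hT : T ≤ S ⊓ Subgroup.centralizer (S : Set Ω)) (hJT : ∀ NJ : Cfsg.FusionSystem (Cfsg.FusionSystem.normalizerIn S (Cfsg.thompsonSubgroupAOf S)), F.IsNormalizerSystem (Cfsg.thompsonSubgroupAOf S) NJ → ∀ NT : Cfsg.FusionSystem (Cfsg.FusionSystem.normalizerIn S T), F.IsNormalizerSystem T NT → NJ.IsSubsystemOf NT) : F.WeaklyClosed T ∨ ∃ X : Subgroup (MulAut ↥T), X ≤ F.autGroup T ∧ X ≠ ⊥ ∧ IsCyclic ↥X ∧ (Nat.card ↥X).Coprime p ∧ ∀ a b : ↥T, a ∈ Subgroup.closure {y : ↥T | ∃ ψ ∈ X, ∃ t : ↥T, y = ψ t * t⁻¹} → b ∈ Subgroup.closure {y : ↥T | ∃ ψ ∈ X, ∃ t : ↥T, y = ψ t * t⁻¹} → a ≠ 1 → b ≠ 1 → ∃ ψ ∈ X, ψ a = b := by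
  classical
  by_cases hwc : F.WeaklyClosed T
  · exact Or.inl hwc
  refine Or.inr ?_
  obtain ⟨Q, hQ, L, _, _, ι, P, hTN, hreal, hP, hch, hnn, hnJ⟩ :=
    H88.WeakClosure.exists_model_moving hT hJT hS hF hwc
  have hNS : Cfsg.FusionSystem.normalizerIn S Q ≤ S := H85.normalizerIn_le Q
  obtain ⟨x, hx, W, hWT, ⟨t₀, ht₀, hne⟩, ⟨n, hn, hfix⟩, hcomm, htrans⟩ :=
    H88.WeakClosure.hasTorus_of_not_normal hp P hch (T := H85.rimg ι T)
      (hP ▸ H85.rimg_le_range ι T) (by
        intro s hs t ht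
        replace hs : s ∈ ι.range := hP ▸ hs
        obtain ⟨y, rfl⟩ := hs
        obtain ⟨z, hz, rfl⟩ := H85.mem_rimg.1 ht
        rw [← map_mul, ← map_mul]
        exact congrArg ι (Subtype.ext
          (Subgroup.mem_centralizer_iff.1 (hT hz).2 (y : Ω) (hNS y.2))))
      (hP.symm ▸ hnJ) hnn
  obtain ⟨φ, hφ, hφN, hφx⟩ := H85.exists_hom_of_conj hreal hTN x fun t =>
    H85.rimg_le_range ι T (H85.conj_mem_of_mem_normalizer hx
      ((H85.apply_mem_rimg hreal.1 (x := ⟨t, hTN t.2⟩)).2 t.2))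
  have hTS : T ≤ S := hT.trans inf_le_left
  have hφF : φ ∈ F.Hom T :=
    (H85.mem_normalizerHom.1 ((H85.normalizerSystem_spec F Q hQ T) ▸ hφ)).1
  haveI : Finite T := H85.finite_of_le hTS
  haveI : Finite (MulAut T) := Finite.of_injective _ DFunLike.coe_injective
  have hr : φ.range = T := by
    refine Subgroup.eq_of_le_of_card_ge ?_ (le_of_eq (Nat.card_congr
      (MonoidHom.ofInjective (F.injective_of_mem hφF)).toEquiv))
    rintro _ ⟨t, rfl⟩
    have := H85.conj_mem_of_mem_normalizer hx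
      ((H85.apply_mem_rimg hreal.1 (x := ⟨t, hTN t.2⟩)).2 t.2)
    rw [← hφx t] at this
    exact (H85.apply_mem_rimg hreal.1).1 this
  set a : MulAut T := H85.isoOf φ hφF hr with ha
  let j : T →* L := ι.comp (Subgroup.inclusion hTN)
  have hj : Function.Injective j := hreal.1.comp (Subgroup.inclusion_injective hTN)
  have hjT : ∀ t : T, j t ∈ H85.rimg ι T := fun t => (H85.apply_mem_rimg hreal.1).2 t.2
  have hpow : ∀ (i : ℕ) (t : T), j ((a ^ i) t) = x ^ i * j t * (x ^ i)⁻¹ := by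
    intro i
    induction i with
    | zero => intro t; simp
    | succ i ih =>
      intro t
      rw [pow_succ', MulAut.mul_apply]
      have h2 : j (a ((a ^ i) t)) = x * j ((a ^ i) t) * x⁻¹ := hφx _
      rw [h2, ih, pow_succ', mul_inv_rev]
      group
  refine ⟨Subgroup.zpowers a, ?_, ?_, inferInstance, ?_, ?_⟩
  · exact Subgroup.zpowers_le.2 ((H85.mem_autGroup hTS).2 (H85.isFIso_isoOf φ hφF hr))
  · rw [Subgroup.zpowers_ne_bot]
    intro h1
    obtain ⟨z, hz, rfl⟩ := H85.mem_rimg.1 ht₀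
    refine hne ?_
    have h2 := hpow 1 ⟨(z : Ω), hz⟩
    rw [pow_one, pow_one, h1, MulAut.one_apply] at h2
    exact h2.symm
  · rw [Nat.card_zpowers]
    refine Nat.Coprime.coprime_dvd_left (orderOf_dvd_of_pow_eq_one (MulEquiv.ext fun t => hj ?_)) hn
    rw [hpow, hfix _ (hjT t), MulAut.one_apply]
  · have hle : Subgroup.closure {y : T | ∃ ψ ∈ Subgroup.zpowers a, ∃ t : T, y = ψ t * t⁻¹} ≤
        W.comap j := by
      refine (Subgroup.closure_le _).2 ?_
      rintro _ ⟨ψ, hψ, t, rfl⟩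
      obtain ⟨i, rfl⟩ := mem_powers_iff_mem_zpowers.2 hψ
      show j ((a ^ i) t * t⁻¹) ∈ W
      rw [map_mul, map_inv, hpow]
      exact hcomm i _ (hjT t)
    intro u v hu hv hu1 hv1
    obtain ⟨i, hi⟩ := htrans _ (hle hu) _ (hle hv) (fun h => hu1 (hj (h.trans (map_one j).symm)))
      (fun h => hv1 (hj (h.trans (map_one j).symm)))
    exact ⟨a ^ i, Subgroup.npow_mem_zpowers a i, hj (by rw [hpow]; exact hi)⟩

end Cfsg.Agent.S5278
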