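import Cfsg.Statements.S5284
import Cfsg.Agent.H88.DistinctInvariants
import Cfsg.Agent.H88.AutSystem
-- import your own Cfsg.Agent.* helpers here

set_option autoImplicit false
open Cfsg

namespace Cfsg.Agent.S5284

/-- Let S be a finite abelian p-group. Every saturated fusion system over S is supersoluble (S has a chain of F-strongly closed subgroups from 1 to S with cyclic steps) if and only if the invariants of S are pairwise distinct, that is, S is not isomorphic to a direct product (Z/p^n × Z/p^n) × H with n ≥ 1. -/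
theorem result {Ω : Type*} [Group Ω] {S : Subgroup Ω} [Finite S] (p : ℕ) [Fact p.Prime] (hS : IsPGroup p ↥S) (hab : IsMulCommutative ↥S) : (∀ F : Cfsg.FusionSystem S, F.IsSaturated p → (∃ (m : ℕ) (c : Fin (m + 1) → Subgroup Ω), c 0 = ⊥ ∧ c (Fin.last m) = S ∧ (∀ i : Fin (m + 1), F.StronglyClosed (c i)) ∧ ∀ i : Fin m, c i.castSucc ≤ c i.succ ∧ ∃ x ∈ S, c i.succ = c i.castSucc ⊔ Subgroup.zpowers x)) ↔ ¬ ∃ (n : ℕ) (H : Type) (_ : CommGroup H), 0 < n ∧ Nonempty (↥S ≃* (Multiplicative (ZMod (p ^ n)) × Multiplicative (ZMod (p ^ n))) × H) := by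
  classical
  haveI := hab
  letI : CommGroup S := IsMulCommutative.instCommGroup
  haveI : Finite (MulAut S) := Finite.of_injective _ DFunLike.coe_injective
  have hp : p.Prime := Fact.out
  constructor
  · rintro h ⟨n, H, hHg, hn, ⟨e⟩⟩
    letI := hHg
    -- a `p'`-group of automorphisms acting irreducibly on the repeated pair
    obtain ⟨B, hBp, v, hv1, hvB⟩ :=
      H88.exists_irreducible_pair_auts p hn e hS
    obtain ⟨m, c, h0, hm, hsc, hst⟩ := h _ (H88.autSystem_saturated hS hBp)
    have key : ∀ i, (v : Ω) ∈ c i → i ≠ 0 := fun i hi he => hv1 (Subtype.ext (by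
      rw [he, h0] at hi
      exact Subgroup.mem_bot.1 hi))
    have main : ∀ i : Fin (m + 1), ¬ (v : Ω) ∈ c i := by
      intro i
      induction i using Fin.induction with
      | zero => exact fun hi => key 0 hi rfl
      | succ i ih =>
        intro hi
        obtain ⟨x, hxS, hx⟩ := (hst i).2
        haveI := H88.subgroupOf_normal_of_sc (hsc i.castSucc)
        refine ih (hvB ((c i.castSucc).subgroupOf S) ((c i.succ).subgroupOf S) ⟨x, hxS⟩
          (fun y hy => (hst i).1 hy) hi
          (show (⟨x, hxS⟩ : S) ∈ (c i.succ).subgroupOf S by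
            rw [Subgroup.mem_subgroupOf, hx]
            exact Subgroup.mem_sup_right (Subgroup.mem_zpowers _))
          (fun y hy => ?_)
          (fun β hβ y hy => H88.invariant_of_sc (hsc _) (H88.mem_autSystem_autGroup hβ) y hy)
          (fun β hβ y hy => H88.invariant_of_sc (hsc _) (H88.mem_autSystem_autGroup hβ) y hy))
        rw [Subgroup.mem_subgroupOf, hx] at hy
        obtain ⟨a, ha, b, hb, hab'⟩ := H88.exists_mul_of_mem_sup
          (T := c i.castSucc) (A := Subgroup.zpowers x)
          (Subgroup.zpowers_le.2 (H88.sc_normalizer (hsc _) hxS))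
          (by rwa [sup_comm] at hy)
        obtain ⟨k, rfl⟩ := Subgroup.mem_zpowers_iff.1 ha
        refine ⟨k, ?_⟩
        rw [Subgroup.mem_subgroupOf]
        have h1 : (y * ((⟨x, hxS⟩ : S) ^ k)⁻¹ : S) = ⟨b, (hsc i.castSucc).1 hb⟩ := by
          rw [mul_inv_eq_iff_eq_mul, mul_comm]
          exact Subtype.ext (by simpa using hab'.symm)
        rw [h1]
        exact hb
    exact main (Fin.last m) (hm ▸ v.2)
  · intro hno F hF
    exact H88.chain_of_scReach (H88.scReach_of_distinct hS hF hab hno)

end Cfsg.Agent.S5284
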