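import Cfsg.Statements.S5286
import Cfsg.Agent.H8.EdgePaths
-- import your own Cfsg.Agent.* helpers here

set_option autoImplicit false
universe u
open Cfsg

namespace Cfsg.Agent.S5286

open H8.EdgePaths

section Perm

variable {T : Type u} [Group T] [Finite T]

/-- two embeddings of a group into a finite group are conjugate in the symmetric group, via the regular action -/
theorem exists_intertwine {P : Type*} [Group P] (A B : P →* T) (hA : Function.Injective A)
    (hB : Function.Injective B) :
    ∃ k : Equiv.Perm T, ∀ x : P,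
      MulAction.toPermHom T T (A x) * k = k * MulAction.toPermHom T T (B x) := by
  have key : ∀ C : P →* T, Function.Injective C →
      Function.Bijective (fun q : (T ⧸ C.range) × P => C q.2 * q.1.out⁻¹) := by
    intro C hC
    constructor
    · rintro ⟨q, x⟩ ⟨q', x'⟩ h
      dsimp at h
      have h1 : q.out * (C x)⁻¹ = q'.out * (C x')⁻¹ := by
        have := congrArg (·⁻¹) h
        simpa [mul_inv_rev] using this
      have hq : q = q' := by
        rw [← q.out_eq', ← q'.out_eq', QuotientGroup.eq]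
        refine ⟨x⁻¹ * x', ?_⟩
        rw [map_mul, map_inv]
        calc (C x)⁻¹ * C x' = q.out⁻¹ * (q.out * (C x)⁻¹) * C x' := by group
          _ = q.out⁻¹ * (q'.out * (C x')⁻¹) * C x' := by rw [h1]
          _ = _ := by group
      subst hq
      have := hC (mul_right_cancel h)
      rw [this]
    · intro y
      obtain ⟨z, hz⟩ := QuotientGroup.mk_out_eq_mul C.range y⁻¹
      obtain ⟨x, hx⟩ := z.2
      refine ⟨(↑y⁻¹, x), ?_⟩
      dsimp
      rw [hz, hx]
      group
  let eA := Equiv.ofBijective _ (key A hA)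
  let eB := Equiv.ofBijective _ (key B hB)
  have hcard : Nat.card (T ⧸ B.range) = Nat.card (T ⧸ A.range) := by
    have hPfin : Finite P := Finite.of_injective A hA
    have h1 := Nat.card_congr eA
    have h2 := Nat.card_congr eB
    rw [Nat.card_prod] at h1 h2
    exact Nat.eq_of_mul_eq_mul_right Nat.card_pos (h2.trans h1.symm)
  let π : (T ⧸ B.range) ≃ (T ⧸ A.range) := (Finite.card_eq.mp hcard).some
  refine ⟨eB.symm.trans ((π.prodCongr (Equiv.refl P)).trans eA), fun x => Equiv.ext fun y => ?_⟩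
  obtain ⟨⟨q, z⟩, rfl⟩ := eB.surjective y
  simp only [Equiv.Perm.mul_apply, MulAction.toPermHom_apply, MulAction.toPerm_apply, smul_eq_mul,
    Equiv.trans_apply, Equiv.symm_apply_apply, Equiv.prodCongr_apply, Prod.map_apply, Equiv.refl_apply]
  have h : B x * eB (q, z) = eB (q, x * z) := by
    simp only [eB, Equiv.ofBijective_apply, map_mul, mul_assoc]
  rw [h, Equiv.symm_apply_apply]
  simp only [eA, Equiv.ofBijective_apply, Prod.map_apply, Equiv.refl_apply, id, map_mul, mul_assoc]

theorem toPermHom_inj : Function.Injective (MulAction.toPermHom T T) := by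
  intro a b h
  have := congrArg (fun f : Equiv.Perm T => f 1) h
  simpa using this

end Perm

variable {Ω : Type u} [Group Ω] {S : Subgroup Ω}

/-- index set: all maps of the system -/
abbrev Idx (F : FusionSystem S) : Type u := Σ P : Subgroup Ω, {φ : P →* Ω // φ ∈ F.Hom P}

section Build

variable (F : FusionSystem S)

/-- the source map of an index -/
def srcHom (i : Idx F) : i.1 →* S := i.1.subtype.codRestrict S fun x => (F.le_of_mem i.2.2).1 x.2

/-- the value map of an index -/
def tgtHom (i : Idx F) : i.1 →* S := i.2.1.codRestrict S (F.le_of_mem i.2.2).2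

theorem srcHom_inj (i : Idx F) : Function.Injective (srcHom F i) := fun _ _ h =>
  Subtype.ext (congrArg Subtype.val h :)

theorem tgtHom_inj (i : Idx F) : Function.Injective (tgtHom F i) := fun _ _ h =>
  F.injective_of_mem i.2.2 (congrArg Subtype.val h :)

variable (S) in
/-- the regular permutation action of `S` -/
def reg : S →* Equiv.Perm S := MulAction.toPermHom S S

/-- edges of the graph of groups cover -/
abbrev Edge : Type u := Σ i : Idx F, Equiv.Perm S ⧸ ((reg S).comp (srcHom F i)).range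

variable (S) in
/-- vertices -/
abbrev Vert : Type u := Equiv.Perm S ⧸ (reg S).range

/-- action on edges -/
def edgeAct : Equiv.Perm S →* Equiv.Perm (Edge F) where
  toFun k := Equiv.sigmaCongrRight fun _ => MulAction.toPerm k
  map_one' := Equiv.ext fun e => by
    rcases e with ⟨i, q⟩; simp
  map_mul' a b := Equiv.ext fun e => by
    rcases e with ⟨i, q⟩; simp [mul_smul]

@[simp] theorem edgeAct_mk (k c : Equiv.Perm S) (i : Idx F) :
    edgeAct F k ⟨i, (c : Equiv.Perm S ⧸ _)⟩ = ⟨i, ((k * c : Equiv.Perm S) : Equiv.Perm S ⧸ _)⟩ :=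
  rfl

variable (S) in
/-- action on vertices -/
def vertAct : Equiv.Perm S →* Equiv.Perm (Vert S) := MulAction.toPermHom _ _

@[simp] theorem vertAct_mk (k c : Equiv.Perm S) :
    vertAct S k (c : Vert S) = ((k * c : Equiv.Perm S) : Vert S) := rfl

variable (k : Idx F → Equiv.Perm S)
  (hk : ∀ i x, reg S (srcHom F i x) * k i = k i * reg S (tgtHom F i x))

/-- source vertex -/
def srcV : Edge F → Vert S := fun e => Quotient.liftOn' e.2 (fun c => (c : Vert S)) (by
  intro a b h
  rw [QuotientGroup.leftRel_apply] at h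
  obtain ⟨x, hx⟩ := h
  exact QuotientGroup.eq.2 ⟨_, hx⟩)

/-- target vertex -/
def tgtV : Edge F → Vert S := fun e =>
  Quotient.liftOn' e.2 (fun c => ((c * k e.1 : Equiv.Perm S) : Vert S)) (by
    intro a b h
    rw [QuotientGroup.leftRel_apply] at h
    obtain ⟨x, hx⟩ := h
    refine QuotientGroup.eq.2 ⟨tgtHom F e.1 x, ?_⟩
    have hx' : reg S (srcHom F e.1 x) = a⁻¹ * b := hx
    calc reg S (tgtHom F e.1 x) = (k e.1)⁻¹ * (k e.1 * reg S (tgtHom F e.1 x)) := by group
      _ = (k e.1)⁻¹ * (a⁻¹ * b * k e.1) := by rw [← hk, hx']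
      _ = _ := by group)

theorem srcV_act (g : Equiv.Perm S) (e : Edge F) :
    srcV F (edgeAct F g e) = vertAct S g (srcV F e) := by
  rcases e with ⟨i, q⟩
  induction q using QuotientGroup.induction_on with
  | _ c => rfl

theorem tgtV_act (g : Equiv.Perm S) (e : Edge F) :
    tgtV F k hk (edgeAct F g e) = vertAct S g (tgtV F k hk e) := by
  rcases e with ⟨i, q⟩
  induction q using QuotientGroup.induction_on with
  | _ c =>
    show ((g * c * k i : Equiv.Perm S) : Vert S) = ((g * (c * k i) : Equiv.Perm S) : Vert S)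
    rw [mul_assoc]

theorem edge_fix {g : Equiv.Perm S} {i : Idx F} {c : Equiv.Perm S}
    (h : edgeAct F g ⟨i, (c : Equiv.Perm S ⧸ _)⟩ = ⟨i, (c : Equiv.Perm S ⧸ _)⟩) :
    ∃ y : i.1, g = c * reg S (srcHom F i y) * c⁻¹ := by
  rw [edgeAct_mk] at h
  have h' := eq_of_heq (Sigma.mk.inj h).2
  obtain ⟨y, hy⟩ := QuotientGroup.eq.1 h'.symm
  refine ⟨y, ?_⟩
  have hy' : reg S (srcHom F i y) = c⁻¹ * (g * c) := hy
  rw [hy']
  group

include hk in
/-- conjugation along a walk gives a map of the system -/
theorem hom_of_path [Finite S] : ∀ (L : List (Edge F × Bool)) (a b : Equiv.Perm S),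
    Path (srcV F) (tgtV F k hk) (a : Vert S) L (b : Vert S) →
    ∀ (P : Subgroup Ω) (hP : P ≤ S) (φ : P →* Ω) (hφ : ∀ x : P, φ x ∈ S),
    (∀ x : P, a * reg S ⟨x, hP x.2⟩ * a⁻¹ = b * reg S ⟨φ x, hφ x⟩ * b⁻¹) →
    (∀ l ∈ L, ∀ x : P, edgeAct F (a * reg S ⟨x, hP x.2⟩ * a⁻¹) l.1 = l.1) →
    φ ∈ F.Hom P := by
  intro L
  induction L with
  | nil =>
    intro a b hab P hP φ hφ heq _
    obtain ⟨s, hs⟩ := QuotientGroup.eq.1 (hab : (a : Vert S) = (b : Vert S))
    have he : φ = conjHom P ((s : Ω)⁻¹) := by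
      ext x
      have h1 : reg S ⟨φ x, hφ x⟩ = reg S (s⁻¹ * ⟨x, hP x.2⟩ * s) := by
        rw [map_mul, map_mul, map_inv, hs]
        calc reg S ⟨φ x, hφ x⟩ = b⁻¹ * (b * reg S ⟨φ x, hφ x⟩ * b⁻¹) * b := by group
          _ = b⁻¹ * (a * reg S ⟨x, hP x.2⟩ * a⁻¹) * b := by rw [heq]
          _ = _ := by group
      have h2 := congrArg Subtype.val (toPermHom_inj h1)
      simpa [conjHom] using h2
    rw [he]
    exact F.conj_mem hP (inv_mem s.2)
  | cons l L ih =>
    intro a b hab P hP φ hφ heq hfix
    suffices hstep : ∃ (χ : P →* Ω) (hχ : χ ∈ F.Hom P) (a' : Equiv.Perm S),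
        (a' : Vert S) = en (srcV F) (tgtV F k hk) l ∧
        ∀ x : P, a * reg S ⟨x, hP x.2⟩ * a⁻¹ = a' * reg S ⟨χ x, (F.le_of_mem hχ).2 x⟩ * a'⁻¹ by
      obtain ⟨χ, hχ, a', ha', hTa⟩ := hstep
      obtain ⟨ψ0, hψ0, hψ0v⟩ := F.inv_mem hχ
      have hmem : ∀ y : χ.range, ψ0 y ∈ P := by
        rintro ⟨_, x, rfl⟩
        rw [hψ0v x]; exact x.2
      have hR : χ.range ≤ S := (F.le_of_mem hψ0).1
      let ψ : χ.range →* Ω := φ.comp (ψ0.codRestrict P hmem)
      have hv : ∀ x : P, ψ ⟨χ x, ⟨x, rfl⟩⟩ = φ x := fun x =>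
        congrArg φ (Subtype.ext (hψ0v x))
      have hψS : ∀ y : χ.range, ψ y ∈ S := fun y => hφ _
      have hψ : ψ ∈ F.Hom χ.range := by
        refine ih a' b (by rw [ha']; exact hab.2) χ.range hR ψ hψS ?_ ?_
        · rintro ⟨_, x, rfl⟩
          have e1 : (⟨ψ ⟨χ x, ⟨x, rfl⟩⟩, hψS _⟩ : S) = ⟨φ x, hφ x⟩ := Subtype.ext (hv x)
          rw [e1, ← heq x, hTa x]
        · rintro l' hl' ⟨_, x, rfl⟩
          have := hfix l' (List.mem_cons_of_mem _ hl') x
          rw [hTa x] at this
          exact this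
      have e : φ = ψ.comp (χ.codRestrict χ.range fun x => ⟨x, rfl⟩) := by
        ext x; exact (hv x).symm
      rw [e]
      exact F.comp_mem hχ hψ _
    obtain ⟨⟨i, q⟩, d⟩ := l
    have hf : ∀ x : P, edgeAct F (a * reg S ⟨x, hP x.2⟩ * a⁻¹) ⟨i, q⟩ = ⟨i, q⟩ := fun x =>
      hfix _ List.mem_cons_self x
    obtain ⟨c, rfl⟩ := QuotientGroup.mk_surjective q
    obtain ⟨P', φ', hφ'⟩ := i
    set i : Idx F := ⟨P', φ', hφ'⟩ with hi
    choose y hy using fun x => edge_fix F (hf x)
    cases d
    · -- backwards along the edge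
      obtain ⟨s, hs⟩ := QuotientGroup.eq.1
        (hab.1 : ((c * k i : Equiv.Perm S) : Vert S) = (a : Vert S))
      have hy2 : ∀ x : P, tgtHom F i (y x) = s * ⟨x, hP x.2⟩ * s⁻¹ := by
        intro x
        apply toPermHom_inj
        show reg S _ = reg S _
        calc reg S (tgtHom F i (y x)) = (k i)⁻¹ * (k i * reg S (tgtHom F i (y x))) := by group
          _ = (k i)⁻¹ * (c⁻¹ * (c * reg S (srcHom F i (y x)) * c⁻¹) * c * k i) := by
            rw [← hk]; group
          _ = (c * k i)⁻¹ * (a * reg S ⟨x, hP x.2⟩ * a⁻¹) * (c * k i) := by rw [← hy x]; group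
          _ = _ := by rw [map_mul, map_mul, map_inv, hs]; group
      have hmem : ∀ x : P, conjHom P (s : Ω) x ∈ φ'.range := fun x =>
        ⟨y x, by simpa [conjHom, tgtHom, hi] using congrArg Subtype.val (hy2 x)⟩
      obtain ⟨θ, hθ, hθv⟩ := F.inv_mem hφ'
      have hχ := F.comp_mem (F.conj_mem hP s.2) hθ hmem
      refine ⟨_, hχ, c, rfl, fun x => ?_⟩
      rw [hy x]
      congr 3
      apply Subtype.ext
      show ((y x : P') : Ω) = θ _
      rw [← hθv (y x)]
      congr 1
      apply Subtype.ext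
      simpa [conjHom, tgtHom, hi] using congrArg Subtype.val (hy2 x)
    · -- forwards along the edge
      obtain ⟨s, hs⟩ := QuotientGroup.eq.1 (hab.1 : (c : Vert S) = (a : Vert S))
      have hy2 : ∀ x : P, srcHom F i (y x) = s * ⟨x, hP x.2⟩ * s⁻¹ := by
        intro x
        apply toPermHom_inj
        show reg S _ = reg S _
        calc reg S (srcHom F i (y x)) = c⁻¹ * (c * reg S (srcHom F i (y x)) * c⁻¹) * c := by group
          _ = c⁻¹ * (a * reg S ⟨x, hP x.2⟩ * a⁻¹) * c := by rw [← hy x]
          _ = _ := by rw [map_mul, map_mul, map_inv, hs]; group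
      have hmem : ∀ x : P, conjHom P (s : Ω) x ∈ P' := fun x => by
        have h3 : ((y x : P') : Ω) = conjHom P (s : Ω) x := by
          simpa [conjHom, srcHom, hi] using congrArg Subtype.val (hy2 x)
        rw [← h3]; exact (y x).2
      have hχ := F.comp_mem (F.conj_mem hP s.2) hφ' hmem
      refine ⟨_, hχ, c * k i, rfl, fun x => ?_⟩
      rw [hy x]
      calc c * reg S (srcHom F i (y x)) * c⁻¹
          = c * (reg S (srcHom F i (y x)) * k i) * (k i)⁻¹ * c⁻¹ := by group
        _ = c * k i * reg S (tgtHom F i (y x)) * (c * k i)⁻¹ := by rw [hk]; group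
        _ = _ := by
          congr 3
          apply Subtype.ext
          show φ' (y x) = φ' _
          congr 1
          apply Subtype.ext
          simpa [conjHom, srcHom, hi] using congrArg Subtype.val (hy2 x)

end Build


/-- Every fusion system F over a finite p-group S, saturated or not, is realized by a possibly infinite group: there are a group G and an injective homomorphism ι of S into G such that the maps of F are exactly the conjugations by elements of G between subgroups of ι(S), every finite subgroup of G is conjugate to a subgroup of ι(S), and G has a free normal subgroup whose index divides (#S)!. -/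
theorem result {Ω : Type u} [Group Ω] {S : Subgroup Ω} [Finite S] (p : ℕ) [Fact p.Prime] (hS : IsPGroup p ↥S) (F : Cfsg.FusionSystem S) : ∃ (G : Type u) (_ : Group G) (ι : ↥S →* G), F.IsRealizedBy ι ∧ (∀ H : Subgroup G, Finite ↥H → ∃ g : G, ∀ h ∈ H, g * h * g⁻¹ ∈ ι.range) ∧ ∃ N : Subgroup G, N.Normal ∧ IsFreeGroup ↥N ∧ N.index ∣ (Nat.card ↥S).factorial := by
  classical
  have hk' : ∀ i : Idx F, ∃ k : Equiv.Perm S, ∀ x,
      reg S (srcHom F i x) * k = k * reg S (tgtHom F i x) := fun i =>
    exists_intertwine _ _ (srcHom_inj F i) (tgtHom_inj F i)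
  choose k hk using hk'
  let o : Vert S := ((1 : Equiv.Perm S) : Vert S)
  have vone : ∀ s : S, ((reg S s : Equiv.Perm S) : Vert S) = o := fun s =>
    QuotientGroup.eq.2 ⟨s⁻¹, by simp⟩
  let W := FreeGroup (Edge F) ⋊[freeAct (edgeAct F)] Equiv.Perm S
  let Γ : Subgroup W := walkGroup (edgeAct F) (vertAct S) (srcV_act F) (tgtV_act F k hk) o
  let ι0 : S →* W := SemidirectProduct.inr.comp (reg S)
  let gen : Idx F → W := fun i =>
    ⟨FreeGroup.of ⟨i, ((1 : Equiv.Perm S) : Equiv.Perm S ⧸ _)⟩, k i⟩
  let G : Subgroup W := Subgroup.closure (Set.range ι0 ∪ Set.range gen)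
  have hιG : ∀ s, ι0 s ∈ G := fun s => Subgroup.subset_closure (Or.inl ⟨s, rfl⟩)
  have hgenG : ∀ i, gen i ∈ G := fun i => Subgroup.subset_closure (Or.inr ⟨i, rfl⟩)
  have hGΓ : G ≤ Γ := by
    refine (Subgroup.closure_le _).2 ?_
    rintro g (⟨s, rfl⟩ | ⟨i, rfl⟩)
    · show IsWalk _ _ _ o (vertAct S (ι0 s).right o)
      have : ((ι0 s).right : Equiv.Perm S) = reg S s := rfl
      rw [this, show (ι0 s).left = 1 from rfl, vertAct_mk, mul_one, vone]
      exact isWalk_one o
    · show IsWalk (srcV F) (tgtV F k hk) _ o (vertAct S (gen i).right o)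
      show Path _ _ o (FreeGroup.of _).toWord _
      rw [FreeGroup.toWord_of]
      refine ⟨rfl, ?_⟩
      show ((1 * k i : Equiv.Perm S) : Vert S) = ((k i * 1 : Equiv.Perm S) : Vert S)
      rw [one_mul, mul_one]
  let ι : S →* G := ι0.codRestrict G hιG
  -- every walk from the base vertex comes from an element of `G`
  have lift : ∀ (L : List (Edge F × Bool)) (v : Vert S) (g : W), g ∈ G →
      Path (srcV F) (tgtV F k hk) ((g.right : Equiv.Perm S) : Vert S) L v →
      ∃ g' ∈ G, g'.left = g.left * FreeGroup.mk L ∧ ((g'.right : Equiv.Perm S) : Vert S) = v := by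
    intro L
    induction L with
    | nil =>
      intro v g hg hp
      exact ⟨g, hg, by rw [← FreeGroup.one_eq_mk, mul_one], hp⟩
    | cons l L ih =>
      intro v g hg hp
      suffices hstep : ∃ g1 ∈ G, g1.left = g.left * FreeGroup.mk [l] ∧
          ((g1.right : Equiv.Perm S) : Vert S) = en (srcV F) (tgtV F k hk) l by
        obtain ⟨g1, hg1, h1, h2⟩ := hstep
        obtain ⟨g', hg', h3, h4⟩ := ih v g1 hg1 (by rw [h2]; exact hp.2)
        exact ⟨g', hg', by rw [h3, h1, mul_assoc, FreeGroup.mul_mk]; rfl, h4⟩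
      obtain ⟨⟨i, q⟩, d⟩ := l
      obtain ⟨c, rfl⟩ := QuotientGroup.mk_surjective q
      cases d
      · obtain ⟨s, hs⟩ := QuotientGroup.eq.1
          (hp.1 : ((c * k i : Equiv.Perm S) : Vert S) = ((g.right : Equiv.Perm S) : Vert S))
        have hr : g.right * reg S s⁻¹ = c * k i := by rw [map_inv, hs]; group
        refine ⟨g * ι0 s⁻¹ * (gen i)⁻¹, mul_mem (mul_mem hg (hιG _)) (inv_mem (hgenG i)), ?_, ?_⟩
        · rw [SemidirectProduct.mul_left, SemidirectProduct.mul_left, SemidirectProduct.mul_right,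
            SemidirectProduct.inv_left, show (ι0 s⁻¹).left = 1 from rfl,
            show ((ι0 s⁻¹).right : Equiv.Perm S) = reg S s⁻¹ from rfl, hr, map_one, mul_one]
          rw [← MulAut.mul_apply, ← map_mul,
            show (c * k i) * ((gen i).right)⁻¹ = c from mul_inv_cancel_right c (k i)]
          rw [map_inv, freeAct_apply]
          congr 1
        · rw [SemidirectProduct.mul_right, SemidirectProduct.mul_right,
            show ((ι0 s⁻¹).right : Equiv.Perm S) = reg S s⁻¹ from rfl, hr,
            SemidirectProduct.inv_right,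
            show (c * k i) * ((gen i).right)⁻¹ = c from mul_inv_cancel_right c (k i)]
          rfl
      · obtain ⟨s, hs⟩ := QuotientGroup.eq.1
          (hp.1 : (c : Vert S) = ((g.right : Equiv.Perm S) : Vert S))
        have hr : g.right * reg S s⁻¹ = c := by rw [map_inv, hs]; group
        refine ⟨g * ι0 s⁻¹ * gen i, mul_mem (mul_mem hg (hιG _)) (hgenG i), ?_, ?_⟩
        · rw [SemidirectProduct.mul_left, SemidirectProduct.mul_left, SemidirectProduct.mul_right,
            show (ι0 s⁻¹).left = 1 from rfl,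
            show ((ι0 s⁻¹).right : Equiv.Perm S) = reg S s⁻¹ from rfl, hr, map_one, mul_one]
          congr 1
        · rw [SemidirectProduct.mul_right, SemidirectProduct.mul_right,
            show ((ι0 s⁻¹).right : Equiv.Perm S) = reg S s⁻¹ from rfl, hr]
          rfl
  refine ⟨G, inferInstance, ι, ⟨?_, ?_⟩, ?_, ?_⟩
  · intro a b h
    exact toPermHom_inj (congrArg (fun g : G => (g : W).right) h :)
  · intro P hP φ hφ
    constructor
    · intro hmem
      let i : Idx F := ⟨P, φ, hmem⟩
      refine ⟨⟨(gen i)⁻¹, inv_mem (hgenG i)⟩, fun x => Subtype.ext ?_⟩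
      show ι0 ⟨φ x, hφ x⟩ = (gen i)⁻¹ * ι0 ⟨x, hP x.2⟩ * (gen i)⁻¹⁻¹
      rw [inv_inv, mul_assoc, eq_inv_mul_iff_mul_eq]
      apply SemidirectProduct.ext
      · show FreeGroup.of _ * freeAct (edgeAct F) (k i) 1
          = 1 * FreeGroup.map (edgeAct F (reg S ⟨x, hP x.2⟩)) (FreeGroup.of _)
        rw [map_one, mul_one, one_mul, FreeGroup.map.of, edgeAct_mk, mul_one]
        congr 2
        exact QuotientGroup.eq.2 ⟨(show i.1 from x), by simp; rfl⟩
      · show k i * reg S ⟨φ x, hφ x⟩ = reg S ⟨x, hP x.2⟩ * k i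
        exact (hk i x).symm
    · rintro ⟨g, hg⟩
      set g' : W := (g : W)⁻¹ with hg'
      have hmem' : g' ∈ Γ := hGΓ (inv_mem g.2)
      have heq : ∀ x : P, ι0 ⟨x, hP x.2⟩ * g' = g' * ι0 ⟨φ x, hφ x⟩ := by
        intro x
        have h1 : ι0 ⟨φ x, hφ x⟩ = (g : W) * ι0 ⟨x, hP x.2⟩ * (g : W)⁻¹ :=
          congrArg Subtype.val (hg x)
        rw [h1, hg']
        calc ι0 ⟨x, hP x.2⟩ * (g : W)⁻¹ = ((g : W)⁻¹ * (g : W)) * (ι0 ⟨x, hP x.2⟩ * (g : W)⁻¹) := by
              rw [inv_mul_cancel (g : W), one_mul]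
          _ = _ := by simp only [mul_assoc]
      refine hom_of_path F k hk g'.left.toWord 1 g'.right ?_ P hP φ hφ ?_ ?_
      · have := hmem'
        show Path _ _ o g'.left.toWord _
        have e : vertAct S g'.right o = ((g'.right : Equiv.Perm S) : Vert S) := by
          rw [vertAct_mk, mul_one]
        rw [← e]
        exact this
      · intro x
        have h1 : reg S ⟨x, hP x.2⟩ * g'.right = g'.right * reg S ⟨φ x, hφ x⟩ :=
          congrArg SemidirectProduct.right (heq x)
        rw [one_mul, inv_one, mul_one, ← h1]; group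
      · intro l hl x
        rw [one_mul, inv_one, mul_one]
        have h1 : 1 * freeAct (edgeAct F) (reg S ⟨x, hP x.2⟩) g'.left
            = g'.left * freeAct (edgeAct F) g'.right 1 :=
          congrArg SemidirectProduct.left (heq x)
        rw [map_one, one_mul, mul_one, freeAct_apply] at h1
        have h2 := congrArg FreeGroup.toWord h1
        rw [toWord_congr] at h2
        rw [← List.map_id g'.left.toWord, List.map_map] at h2
        have h3 := List.map_inj_left.1 h2 l hl
        exact congrArg Prod.fst h3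
  · intro H hH
    haveI : Finite H := hH
    haveI : Finite (H.map G.subtype) :=
      Finite.of_equiv H (Subgroup.equivMapOfInjective H G.subtype G.subtype_injective).toEquiv
    obtain ⟨u, v, hu, hfix⟩ := exists_fixed (edgeAct F) (vertAct S) (srcV_act F) (tgtV_act F k hk) o
      (H.map G.subtype) (by
        rintro _ ⟨g, -, rfl⟩
        exact hGΓ g.2)
    obtain ⟨g0, hg0, h0l, h0r⟩ := lift u.toWord v 1 G.one_mem hu
    rw [SemidirectProduct.one_left, one_mul, FreeGroup.mk_toWord] at h0l
    refine ⟨⟨g0, hg0⟩⁻¹, fun h hh => ?_⟩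
    obtain ⟨hf1, hf2⟩ := hfix (h : W) ⟨h, hh, rfl⟩
    obtain ⟨s, hs⟩ : ∃ s : S, reg S s = g0.right⁻¹ * ((h : W).right * g0.right) := by
      rw [← h0r, vertAct_mk] at hf2
      exact QuotientGroup.eq.1 hf2.symm
    refine ⟨s, Subtype.ext ?_⟩
    show ι0 s = g0⁻¹ * (h : W) * g0⁻¹⁻¹
    rw [inv_inv, mul_assoc, eq_inv_mul_iff_mul_eq]
    apply SemidirectProduct.ext
    · show g0.left * freeAct (edgeAct F) g0.right 1 = (h : W).left * freeAct (edgeAct F) (h : W).right g0.left
      rw [map_one, mul_one, h0l, hf1]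
    · show g0.right * reg S s = (h : W).right * g0.right
      rw [hs]; group
  · let ρ : G →* Equiv.Perm S := SemidirectProduct.rightHom.comp G.subtype
    let f : ρ.ker →* FreeGroup (Edge F) :=
      { toFun := fun g => ((g : G) : W).left
        map_one' := rfl
        map_mul' := fun a b => by
          show ((a : G) : W).left * freeAct (edgeAct F) ((a : G) : W).right _ = _
          rw [show ((a : G) : W).right = 1 from a.2, map_one]
          rfl }
    have hf : Function.Injective f := by
      intro a b h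
      refine Subtype.ext (Subtype.ext (SemidirectProduct.ext h ?_))
      exact (a.2 : ((a : G) : W).right = 1).trans (b.2 : ((b : G) : W).right = 1).symm
    refine ⟨ρ.ker, inferInstance, ?_, ?_⟩
    · haveI : IsFreeGroup f.range := subgroupIsFreeOfIsFree f.range
      exact IsFreeGroup.ofMulEquiv (MonoidHom.ofInjective hf).symm
    · rw [Subgroup.index_ker]
      refine (Subgroup.card_subgroup_dvd_card ρ.range).trans ?_
      rw [Nat.card_perm]

end Cfsg.Agent.S5286
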