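import Cfsg.Statements.S5287
import Cfsg.Agent.S5283
import Cfsg.Agent.S5284
import Cfsg.Agent.S1896
import Cfsg.Agent.H67.MetacyclicAuto
import Cfsg.Agent.H67.Metacyclic2
import Cfsg.Agent.H67.NonResistant
import Cfsg.Agent.H85.Normal

set_option autoImplicit false
open Cfsg

namespace Cfsg.Agent.S5287

/-- Let S be a finite metacyclic p-group (an extension of a cyclic group by a cyclic group). Every saturated fusion system over S is supersoluble (S has a chain of F-strongly closed subgroups from 1 to S with cyclic steps) if and only if S is not homocyclic of rank two (isomorphic to Z/p^n × Z/p^n with n ≥ 1) and, when p = 2, S is not dihedral of order at least 4, not quasi-dihedral (semidihedral) and not generalized quaternion of order at least 8. -/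
theorem result {Ω : Type*} [Group Ω] {S : Subgroup Ω} [Finite S] (p : ℕ) [Fact p.Prime] (hS : IsPGroup p ↥S) (hm : Cfsg.IsMetacyclic ↥S) : (∀ F : Cfsg.FusionSystem S, F.IsSaturated p → (∃ (m : ℕ) (c : Fin (m + 1) → Subgroup Ω), c 0 = ⊥ ∧ c (Fin.last m) = S ∧ (∀ i : Fin (m + 1), F.StronglyClosed (c i)) ∧ ∀ i : Fin m, c i.castSucc ≤ c i.succ ∧ ∃ x ∈ S, c i.succ = c i.castSucc ⊔ Subgroup.zpowers x)) ↔ ¬ ((∃ n : ℕ, 0 < n ∧ Nonempty (↥S ≃* Multiplicative (ZMod (p ^ n)) × Multiplicative (ZMod (p ^ n)))) ∨ (p = 2 ∧ ((∃ n : ℕ, 2 ≤ n ∧ Nonempty (↥S ≃* DihedralGroup n)) ∨ Cfsg.IsQuasiDihedral ↥S ∨ (∃ n : ℕ, 2 ≤ n ∧ Nonempty (↥S ≃* QuaternionGroup n))))) := by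
  constructor
  · intro h
    rintro (⟨n, hn, ⟨e⟩⟩ | ⟨rfl, hsh⟩)
    · have hab : IsMulCommutative S := ⟨⟨fun a b => e.injective (by rw [map_mul, map_mul, mul_comm])⟩⟩
      exact (Cfsg.Agent.S5284.result p hS hab).mp h
        ⟨n, PUnit, inferInstance, hn, ⟨e.trans MulEquiv.prodUnique.symm⟩⟩
    obtain ⟨k, hk⟩ := IsPGroup.iff_card.mp hS
    rcases hsh with ⟨n, hn, ⟨e⟩⟩ | hqd | ⟨n, hn, ⟨e⟩⟩
    · have hc := Nat.card_congr e.toEquiv
      rw [hk, DihedralGroup.nat_card] at hc
      obtain ⟨j, -, rfl⟩ := (Nat.dvd_prime_pow Nat.prime_two).mp (Dvd.intro_left 2 hc.symm)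
      rcases Nat.lt_or_ge j 2 with hj | hj
      · interval_cases j
        · simp at hn
        · have hab : ∀ a b : S, a * b = b * a := fun a b => e.injective (by
            rw [map_mul, map_mul]
            revert b a
            intro a b
            generalize e a = u
            generalize e b = w
            revert u w
            decide)
          have hexp : ∀ a : S, a ^ 2 = 1 := fun a => e.injective (by
            rw [map_pow, map_one]
            generalize e a = u
            revert u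
            decide)
          obtain ⟨e'⟩ := H67.homocyclic_of_card (e := 2 ^ 1) (by norm_num) hm hab hexp
            (by rw [Nat.card_congr e.toEquiv, DihedralGroup.nat_card]; norm_num)
          exact (Cfsg.Agent.S5284.result 2 hS ⟨⟨hab⟩⟩).mp h
            ⟨1, PUnit, inferInstance, by norm_num, ⟨e'.trans MulEquiv.prodUnique.symm⟩⟩
      · exact H67.not_all_supersoluble_small hS (Or.inl ⟨j, hj, ⟨e⟩⟩) h
    · exact H67.not_all_supersoluble_small hS (Or.inr (Or.inr hqd)) h
    · haveI : NeZero n := ⟨by omega⟩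
      have hc := Nat.card_congr e.toEquiv
      rw [hk, Nat.card_eq_fintype_card, QuaternionGroup.card] at hc
      obtain ⟨j, -, rfl⟩ := (Nat.dvd_prime_pow Nat.prime_two).mp (Dvd.intro_left 4 hc.symm)
      rcases j with _ | j
      · simp at hn
      · exact H67.not_all_supersoluble_small hS
          (Or.inr (Or.inl ⟨j + 2, by omega, ⟨e⟩⟩)) h
  · intro hno
    refine (Cfsg.Agent.S5283.result p hS).mpr ⟨fun F hF => ?_, fun H hH => ?_⟩
    · have hcl : F.StronglyClosed S := ⟨le_rfl, fun R _ φ hφ x => H85.map_mem hφ x⟩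
      refine H85.isNormal_of_essential hS hF fun E hE => ?_
      have hES : E ≤ S := by
        rcases hE with rfl | hE
        · exact le_rfl
        · exact hE.1.1
      have hPE : S ≤ E := by
        rcases hE with rfl | hE
        · exact le_rfl
        · by_cases hp : p = 2
          · subst hp
            refine H67.le_essential_of_stronglyClosed hS hcl hm ?_ hE
            rintro (⟨k, ⟨e⟩⟩ | ⟨k, hcard, a, b, ha, hb, hab⟩ | ⟨k, ⟨e⟩⟩)
            · exact hno (Or.inr ⟨rfl, Or.inl ⟨_, Nat.le_self_pow (by omega) 2, ⟨e⟩⟩⟩)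
            · exact hno (Or.inr ⟨rfl, Or.inr (Or.inl ⟨k + 3, by omega, hcard, a, b, ha, hb, hab⟩)⟩)
            · exact hno (Or.inr ⟨rfl, Or.inr (Or.inr ⟨_, Nat.le_self_pow (by omega) 2, ⟨e⟩⟩)⟩)
          · exact H67.le_essential_of_stronglyClosed_odd hp hS hF hcl hm hE
      refine ⟨hPE, fun α hα => ?_⟩
      haveI := H85.finite_of_le hES
      exact H85.map_eq_of_mapsTo fun x hx =>
        hcl.2 S le_rfl _ (H85.restrict ((H85.mem_autGroup hES).1 hα) hPE) ⟨x, hx⟩
    · by_cases hp : p = 2
      · subst hp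
        haveI : Finite (MulAut S) := Finite.of_injective _ DFunLike.coe_injective
        have hA : IsPGroup 2 (MulAut S) := by
          by_contra hA
          rcases Cfsg.Agent.S1896.result hS hm hA with ⟨⟨q⟩⟩ | ⟨n, ⟨e⟩⟩
          · exact hno (Or.inr ⟨rfl, Or.inr (Or.inr ⟨2, le_rfl, ⟨q⟩⟩)⟩)
          · rcases n with _ | n
            · haveI : Subsingleton S :=
                (Nat.card_eq_one_iff_unique.mp (by rw [Nat.card_congr e.toEquiv, Nat.card_prod]; simp)).1
              exact hA fun a => ⟨0, MulEquiv.ext fun w => Subsingleton.elim _ _⟩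
            · exact hno (Or.inl ⟨n + 1, by omega, ⟨e⟩⟩)
        obtain ⟨m, hm'⟩ := IsPGroup.iff_card.mp (hA.to_subgroup H)
        have h1 : Nat.card H = 1 := Nat.Coprime.eq_one_of_dvd
          (hH.pow_right m) (hm'.dvd)
        have hbot : H = ⊥ := Subgroup.card_eq_one.mp h1
        refine ⟨⟨⟨fun u v => Subtype.ext ?_⟩⟩, fun u hu => ?_⟩
        · rw [Subgroup.coe_mul, Subgroup.coe_mul,
            Subgroup.mem_bot.mp (hbot ▸ u.2 : (u : MulAut S) ∈ (⊥ : Subgroup (MulAut S))), one_mul,
            mul_one]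
        · rw [Subgroup.mem_bot.mp (hbot ▸ hu : u ∈ (⊥ : Subgroup (MulAut S))), one_pow]
      · exact H67.coprime_aut_abelian hp hS hm
          (fun ⟨n, hn, he⟩ => hno (Or.inl ⟨n, hn, he⟩)) H hH

end Cfsg.Agent.S5287
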