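import Cfsg.Statements.S5289
import Cfsg.Agent.H88.RankTwoNormal
import Cfsg.Agent.H88.SmallOmegaNormal
import Cfsg.Agent.H6.OmegaOdd
-- import your own Cfsg.Agent.* helpers here

set_option autoImplicit false
open Cfsg

namespace Cfsg.Agent.S5289

/-- Let p ≥ 5 be a prime and S a finite p-group of p-rank two (it has an elementary abelian subgroup of order p² and none of order p³) which is not the extraspecial group of order p³ and exponent p. Then S is resistant: for every saturated fusion system F over S, S is normal in F, that is, every map of F extends to an F-automorphism of S. -/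
theorem result {Ω : Type*} [Group Ω] {S : Subgroup Ω} [Finite S] (p : ℕ) [Fact p.Prime] (hS : IsPGroup p S)
    (F : Cfsg.FusionSystem S) (hF : F.IsSaturated p)
    (hp : 5 ≤ p)
    (hrank2 : ∃ E : Subgroup Ω, E ≤ S ∧ Cfsg.IsElementaryAbelian p E ∧ Nat.card E = p ^ 2)
    (hrank3 : ∀ E : Subgroup Ω, E ≤ S → Cfsg.IsElementaryAbelian p E → Nat.card E ≤ p ^ 2)
    (hnotE : ¬ (Nat.card S = p ^ 3 ∧ Monoid.exponent ↥S = p)) : F.IsNormal S := by
  classical
  have hpr : p.Prime := Fact.out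
  have hrk : ∀ E : Subgroup S, Cfsg.IsElementaryAbelian p E → Nat.card E ≤ p ^ 2 := by
    intro E hE
    rw [← Subgroup.card_map_of_injective S.subtype_injective]
    refine hrank3 _ (Subgroup.map_subtype_le E) ⟨⟨⟨fun a b => ?_⟩⟩, ?_⟩
    · obtain ⟨a', ha', ha⟩ := a.2
      obtain ⟨b', hb', hb⟩ := b.2
      refine Subtype.ext ?_
      show (a : Ω) * b = b * a
      rw [← ha, ← hb, ← map_mul, ← map_mul]
      exact congrArg S.subtype (congrArg Subtype.val (hE.1.1.1 ⟨a', ha'⟩ ⟨b', hb'⟩))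
    · rintro _ ⟨a, ha, rfl⟩
      rw [← map_pow, hE.2 a ha, map_one]
  have hmul : ∀ x y : S, x ^ p = 1 → y ^ p = 1 → (x * y) ^ p = 1 := fun x y hx hy =>
    H6.mul_pow_eq_one_rank_two (by omega) hS hrk ⊤ x (Subgroup.mem_top _) y (Subgroup.mem_top _)
      hx hy
  by_cases hab : ∀ x y : S, x ^ p = 1 → y ^ p = 1 → x * y = y * x
  · let W : Subgroup Ω :=
      { carrier := {t | t ∈ S ∧ t ^ p = 1}
        one_mem' := ⟨one_mem _, one_pow p⟩
        mul_mem' := fun {a b} ha hb => by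
          refine ⟨mul_mem ha.1 hb.1, ?_⟩
          have := hmul ⟨a, ha.1⟩ ⟨b, hb.1⟩ (Subtype.ext ha.2) (Subtype.ext hb.2)
          exact congrArg Subtype.val this
        inv_mem' := fun {a} ha => ⟨inv_mem ha.1, by rw [inv_pow, ha.2, inv_one]⟩ }
    have hW : Cfsg.omegaOne p S = W :=
      le_antisymm ((Subgroup.closure_le _).2 fun t ht => ht) fun t ht => Subgroup.subset_closure ht
    have hWc : ∀ a ∈ W, ∀ b ∈ W, a * b = b * a := fun a ha b hb =>
      congrArg Subtype.val (hab ⟨a, ha.1⟩ ⟨b, hb.1⟩ (Subtype.ext ha.2) (Subtype.ext hb.2))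
    refine H88.isNormal_of_small_omega hS hF (by omega)
      ⟨le_rfl, fun R _ φ hφ x => H85.map_mem hφ x⟩ (fun x hx => (hW ▸ hx : x ∈ W).2)
      (fun x hx y hy => hWc x (hW ▸ hx) y (hW ▸ hy)) ?_
    rw [hW]
    refine hrank3 W (fun t ht => ht.1) ⟨⟨⟨fun a b => ?_⟩⟩, fun a ha => ha.2⟩
    exact Subtype.ext (hWc a a.2 b b.2)
  · have hna : ∃ x y : S, x ^ p = 1 ∧ y ^ p = 1 ∧ x * y ≠ y * x := by
      by_contra h
      exact hab fun x y hx hy => not_not.1 fun hne => h ⟨x, y, hx, hy, hne⟩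
    obtain ⟨x, y, hx, hy, hxy⟩ := hna
    obtain ⟨D⟩ := H88.RankTwo.exists_data hp hS hmul hrk ⟨x, y, hx, hy, hxy⟩
    refine H88.RankTwo.isNormal_of_data D hF ?_
    by_contra hno
    have hall : ∀ g : S, g ∈ D.U := fun g => not_not.1 fun h => hno ⟨g, h⟩
    refine hnotE ⟨?_, ?_⟩
    · rw [← D.card_U, show D.U = ⊤ from eq_top_iff.2 fun g _ => hall g, Subgroup.card_top]
    · have hexp : Monoid.exponent ↥S ∣ p :=
        Monoid.exponent_dvd_iff_forall_pow_eq_one.2 fun g => (D.mem_U g).1 (hall g)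
      refine ((Nat.dvd_prime hpr).1 hexp).resolve_left fun h => hxy ?_
      haveI : Subsingleton S := Monoid.exp_eq_one_iff.1 h
      exact Subsingleton.elim _ _

end Cfsg.Agent.S5289
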