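import Cfsg.Statements.S5292
import Cfsg.Agent.H89.SimpleRealize
import Cfsg.Agent.H10.PSolvable
import Cfsg.Agent.H85.ModelExists
import Cfsg.Agent.H85.ModelUnique
import Cfsg.Agent.H86.Constrained
import Cfsg.Agent.H87.NormalFunctor
-- import your own Cfsg.Agent.* helpers here

set_option autoImplicit false
universe u
open Cfsg

namespace Cfsg.Agent.S5292

/-- Let F be a saturated fusion system over a finite p-group S. Then F is the fusion system of some finite p-solvable group on a Sylow p-subgroup if and only if F is constrained (some subgroup normal in F is centric in F) and the group of automorphisms that F induces on its largest normal subgroup O_p(F) is p-solvable. -/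
theorem result {Ω : Type u} [Group Ω] {S : Subgroup Ω} [Finite S] (p : ℕ) [Fact p.Prime] (hS : IsPGroup p S)
    (F : Cfsg.FusionSystem S) (hF : F.IsSaturated p) :
    (∃ (G : Type u) (_ : Group G) (_ : Finite G) (ι : S →* G), Cfsg.IsPSolvable p G ∧ F.IsRealizedBy ι ∧
        ∃ T : Sylow p G, (T : Subgroup G) = ι.range) ↔
      (F.IsConstrained p ∧ Cfsg.IsPSolvable p ↥(F.autGroup F.core)) := by
  constructor
  · rintro ⟨G, hG, hfin, ι, hsol, h, T, hT⟩
    have hcopN : (Nat.card ↥(Cfsg.pPrimeCore p G)).Coprime p := H1.card_pPrimeCore_coprime p G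
    obtain ⟨h', T', hT'⟩ := H89.realizes_quotient h T hT (Cfsg.pPrimeCore p G) hcopN
    have hsolq := H10.isPSolvable_quotient hsol (Cfsg.pPrimeCore p G)
    refine ⟨H85.isConstrained_of_model (G := G ⧸ Cfsg.pPrimeCore p G)
      ⟨inferInstance, h', ⟨T', hT'⟩,
        H10.centralizer_pCore_le hsolq H10.pPrimeCore_quotient_pPrimeCore⟩, ?_⟩
    have hQ := (H87.isNormal_core F).1
    have hK := H10.isPSolvable_subgroup hsol
      (Subgroup.normalizer (H85.rimg ι F.core : Set G))
    refine H10.isPSolvable_of_surjective hK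
      ((H85.normAut ι h.1 F.core hQ).codRestrict (F.autGroup F.core)
        fun n => (H85.normAut_range h hQ).le ⟨n, rfl⟩) ?_
    rintro ⟨α, hα⟩
    obtain ⟨n, hn⟩ := (H85.normAut_range h hQ).ge hα
    exact ⟨n, Subtype.ext hn⟩
  · rintro ⟨hcon, hsol⟩
    obtain ⟨G, hG, ι, hm⟩ := H85.exists_model_of_constrained hS hcon
    obtain ⟨hfin, h, ⟨T, hT⟩, hC⟩ := id hm
    obtain ⟨hQn, hQc, -⟩ := H86.core_spec hS hcon
    haveI := hfin
    refine ⟨G, hG, hfin, ι, ?_, h, T, hT⟩
    haveI := H85.model_rimg_normal hm hQn
    set Q := H85.rimg ι F.core with hQ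
    have hcen := H85.model_centralizer_le hS hm hQn hQc
    set f : G →* F.autGroup F.core :=
      ((H85.normAut ι h.1 F.core hQn.1).codRestrict (F.autGroup F.core)
        fun n => (H85.normAut_range h hQn.1).le ⟨n, rfl⟩).comp
        ((MonoidHom.id G).codRestrict (Subgroup.normalizer (Q : Set G)) fun g => by
          rw [Subgroup.normalizer_eq_top_iff.2 inferInstance]
          exact Subgroup.mem_top g) with hf
    have hker : f.ker ≤ Subgroup.centralizer (Q : Set G) := by
      intro g hg
      rw [Subgroup.mem_centralizer_iff]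
      intro y hy
      obtain ⟨x, hx, rfl⟩ := H85.mem_rimg.1 hy
      have h1 : H85.normAut ι h.1 F.core hQn.1 ⟨g, _⟩ = 1 := congrArg Subtype.val hg
      have h2 := congrArg (fun y : F.core => (H85.rimgIso ι h.1 F.core hQn.1 y : G))
        (DFunLike.congr_fun h1 (⟨x, hx⟩ : F.core))
      simp only [H85.normAut, MonoidHom.comp_apply, MulAut.one_apply] at h2
      simp at h2
      exact (mul_inv_eq_iff_eq_mul.1 h2).symm
    have hp : IsPGroup p f.ker :=
      ((hS.to_subgroup (F.core.subgroupOf S)).map ι).to_le (hker.trans hcen)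
    obtain ⟨k, hk⟩ := hp.exists_card_eq
    refine H10.isPSolvable_of_quotient_of_card f.ker (Or.inl ⟨k, hk⟩) ?_
    exact H10.isPSolvable_of_injective hsol (QuotientGroup.kerLift f)
      (QuotientGroup.kerLift_injective f)

end Cfsg.Agent.S5292
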