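import Cfsg.Statements.S5294
import Cfsg.Agent.H85.Normal
import Cfsg.Agent.H86.Join
import Cfsg.Prelude.Def_FusionComponents

set_option autoImplicit false
universe u
open Cfsg

namespace Cfsg.Agent.S5294

/-- Let F be a saturated fusion system over a finite p-group S whose centre Z(S) lies in the largest subgroup O_p(F) normal in F. Then the centre Z(F) of F is a direct factor of Z(S): there is a subgroup K of Z(S) with Z(F) ∩ K = 1 and Z(F)K = Z(S). -/
theorem result {Ω : Type u} [Group Ω] {S : Subgroup Ω} [Finite S] (p : ℕ) [Fact p.Prime] (hS : IsPGroup p S)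
    (F : Cfsg.FusionSystem S) (hF : F.IsSaturated p) (hZ : (S ⊓ Subgroup.centralizer (S : Set Ω)) ≤ F.core) :
    ∃ K : Subgroup Ω, K ≤ (S ⊓ Subgroup.centralizer (S : Set Ω)) ∧ F.center ⊓ K = ⊥ ∧ F.center ⊔ K = (S ⊓ Subgroup.centralizer (S : Set Ω)) := by
  classical
  set Q := F.core with hQdef
  have hQn : F.IsNormal Q :=
    H86.sSup_mem_of_sup_closed (fun R hR => hR.1) (H86.isNormal_bot F) fun R T hR hT =>
      H86.isNormal_sup F hR hT
  set ZS : Subgroup Ω := S ⊓ Subgroup.centralizer (S : Set Ω) with hZS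
  haveI := H85.finite_of_le hQn.1
  set A := F.autGroup Q with hA
  haveI : Finite A := H85.finite_autGroup F hQn.1
  have hfn : F.IsFullyNormalized Q := by
    refine ⟨hQn.1, fun R hR => ?_⟩
    have : Cfsg.FusionSystem.normalizerIn S Q = S :=
      le_antisymm inf_le_left fun g hg => ⟨hg, H85.normalizer_of_normalSubgroup hQn hg⟩
    rw [this]
    exact Nat.card_le_card_of_injective _
      (Subgroup.inclusion_injective (H85.normalizerIn_le R))
  obtain ⟨-, R₀, hR₀⟩ := H85.fullyAutomized_of_fullyNormalized hS hF hfn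
  set B : Subgroup A := (R₀ : Subgroup A) with hB
  haveI := Fintype.ofFinite (A ⧸ B)
  set m := Fintype.card (A ⧸ B) with hm
  have hpm : ¬ p ∣ m := by
    rw [hm, ← Nat.card_eq_fintype_card]
    exact R₀.not_dvd_index
  -- central elements
  have hcentre : ∀ z : Ω, z ∈ F.center → z ∈ ZS ∧ ∀ (hz : z ∈ Q), ∀ α ∈ A, α ⟨z, hz⟩ = ⟨z, hz⟩ := by
    intro z hz
    have hc : F.IsCentral F.center :=
      H86.sSup_mem_of_sup_closed (fun R hR => hR.1) (H86.isCentral_bot F) fun R T hR hT =>
        H86.isCentral_sup F hR hT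
    refine ⟨⟨hc.1 hz, F.center_le_centralizer hz⟩, fun hzQ α hα => ?_⟩
    obtain ⟨ψ, -, hψQ, hψZ⟩ := hc.2 Q _ ((H85.mem_autGroup hQn.1).1 hα)
    apply Subtype.ext
    exact (hψQ ⟨z, hzQ⟩).symm.trans (hψZ ⟨z, hz⟩)
  have hcentre' : ∀ z : Ω, ∀ hz : z ∈ Q, (∀ α ∈ A, α ⟨z, hz⟩ = ⟨z, hz⟩) → z ∈ F.center := by
    intro z hz hfix
    have hzQ : Subgroup.zpowers z ≤ Q := Subgroup.zpowers_le.2 hz
    refine (le_sSup (show F.IsCentral (Subgroup.zpowers z) from ?_) :
      Subgroup.zpowers z ≤ F.center) (Subgroup.mem_zpowers z)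
    refine ⟨hzQ.trans hQn.1, fun P φ hφ => ?_⟩
    obtain ⟨ψ, hψ, hψP, hψQ⟩ := hQn.2 P φ hφ
    replace hψQ : H85.img ψ Q = Q := hψQ
    let α : MulAut Q := (H85.resIso ψ (F.injective_of_mem hψ) le_sup_right).trans
      (MulEquiv.subgroupCongr hψQ)
    have hα : α ∈ A := (H85.mem_autGroup hQn.1).2
      (H85.hom_congr (H85.restrict hψ le_sup_right) fun x => rfl)
    refine ⟨_, H85.restrict hψ (sup_le_sup_left hzQ P), fun x => hψP x, ?_⟩
    rintro ⟨x, hx⟩
    obtain ⟨k, rfl⟩ := Subgroup.mem_zpowers_iff.1 hx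
    have h1 : α (⟨z, hz⟩ ^ k) = ⟨z, hz⟩ ^ k := by rw [map_zpow, hfix α hα]
    exact congrArg Subtype.val h1
  letI : CommGroup ↥(Subgroup.center ↥Q) :=
    { (inferInstance : Group ↥(Subgroup.center ↥Q)) with
      mul_comm := fun a b => Subtype.ext (Subgroup.mem_center_iff.1 b.2 a) }
  -- `Z(S)` inside `Z(Q)`
  let toQ : ↥ZS →* ↥(Subgroup.center ↥Q) :=
    { toFun := fun z => ⟨⟨z, hZ z.2⟩, Subgroup.mem_center_iff.2 fun q =>
        Subtype.ext (z.2.2 q (hQn.1 q.2))⟩
      map_one' := rfl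
      map_mul' := fun _ _ => rfl }
  let res : A → (↥(Subgroup.center ↥Q) →* ↥(Subgroup.center ↥Q)) := fun a =>
    { toFun := fun z => ⟨(a : MulAut Q) z, Subgroup.mem_center_iff.2 fun q => by
        obtain ⟨q', rfl⟩ := (a : MulAut Q).surjective q
        rw [← map_mul, ← map_mul, Subgroup.mem_center_iff.1 z.2 q']⟩
      map_one' := Subtype.ext (map_one _)
      map_mul' := fun z w => Subtype.ext (map_mul _ _ _) }
  have hBfix : ∀ b ∈ B, ∀ z : ↥ZS, res b (toQ z) = toQ z := by
    intro b hb z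
    rw [hR₀] at hb
    obtain ⟨g, hg, hgb⟩ := H85.mem_autInducedBy.1 hb
    refine Subtype.ext (Subtype.ext ?_)
    refine (hgb _).trans ?_
    show g * (z : Ω) * g⁻¹ = z
    rw [z.2.2 g hg, mul_inv_cancel_right]
  let term : ↥ZS → A ⧸ B → ↥(Subgroup.center ↥Q) := fun z =>
    Quotient.lift (fun a : A => res a (toQ z)) (by
      intro a b hab
      have hab' : a⁻¹ * b ∈ B := QuotientGroup.leftRel_apply.1 hab
      have h := hBfix _ hab' z
      show res a (toQ z) = res b (toQ z)
      conv_lhs => rw [← h]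
      refine Subtype.ext ?_
      show (a : MulAut Q) (((a : MulAut Q)⁻¹ * (b : MulAut Q)) _) = (b : MulAut Q) _
      rw [MulAut.mul_apply, MulAut.apply_inv_self])
  let T : ↥ZS →* ↥(Subgroup.center ↥Q) :=
    { toFun := fun z => ∏ c : A ⧸ B, term z c
      map_one' := Finset.prod_eq_one fun c _ => by
        induction c using QuotientGroup.induction_on with
        | H a => exact (congrArg (res a) (map_one toQ)).trans (map_one _)
      map_mul' := fun z w => by
        rw [← Finset.prod_mul_distrib]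
        refine Finset.prod_congr rfl fun c _ => ?_
        induction c using QuotientGroup.induction_on with
        | H a => exact (congrArg (res a) (map_mul toQ z w)).trans (map_mul _ _ _) }
  have hTfix : ∀ (α : A) z, res α (T z) = T z := by
    intro α z
    show res α (∏ c : A ⧸ B, term z c) = _
    rw [map_prod]
    refine Fintype.prod_equiv (MulAction.toPerm α) _ _ fun c => ?_
    induction c using QuotientGroup.induction_on with
    | H a => rfl
  have hTc : ∀ z, (((T z : ↥(Subgroup.center ↥Q)) : ↥Q) : Ω) ∈ F.center := fun z =>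
    hcentre' _ (T z : ↥Q).2 fun α hα => congrArg Subtype.val (hTfix ⟨α, hα⟩ z)
  have hTid : ∀ z : ↥ZS, (z : Ω) ∈ F.center → T z = toQ z ^ m := by
    intro z hz
    show ∏ c : A ⧸ B, term z c = _
    rw [hm, ← Finset.card_univ, ← Finset.prod_const]
    refine Finset.prod_congr rfl fun c _ => ?_
    induction c using QuotientGroup.induction_on with
    | H a => exact Subtype.ext ((hcentre _ hz).2 _ a a.2)
  have htoQ : Function.Injective toQ := fun a b h => by
    have h2 : ((toQ a : ↥Q) : Ω) = ((toQ b : ↥Q) : Ω) := by rw [h]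
    exact Subtype.ext h2
  have hZSp : IsPGroup p ↥ZS := hS.to_le inf_le_left
  haveI : Finite ↥ZS := H85.finite_of_le inf_le_left
  obtain ⟨e, he⟩ := IsPGroup.iff_card.1 hZSp
  have hcop : (Nat.card ↥ZS).Coprime m := by
    rw [he]
    exact Nat.Coprime.pow_left e ((Nat.Prime.coprime_iff_not_dvd Fact.out).2 hpm)
  refine ⟨T.ker.map ZS.subtype, Subgroup.map_subtype_le _, eq_bot_iff.2 ?_,
    le_antisymm (sup_le (fun z hz => (hcentre z hz).1) (Subgroup.map_subtype_le _)) fun x hx => ?_⟩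
  · rintro _ ⟨hzc, z, hzk, rfl⟩
    have h : z ^ m = 1 := htoQ (by rw [map_pow, ← hTid z hzc, map_one]; exact hzk)
    have h2 : z = 1 := by
      rw [← orderOf_eq_one_iff]
      exact Nat.eq_one_of_dvd_coprimes hcop (orderOf_dvd_natCard _) (orderOf_dvd_of_pow_eq_one h)
    exact Subgroup.mem_bot.2 (by rw [h2]; rfl)
  · obtain ⟨z, hz⟩ := (powCoprime hcop).surjective ⟨x, hx⟩
    let t : ↥ZS := ⟨_, (hcentre _ (hTc z)).1⟩
    have ht : T t = T z ^ m := by
      rw [hTid t (hTc z)]
      congr 1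
    have hker : t⁻¹ * z ^ m ∈ T.ker := by
      rw [MonoidHom.mem_ker, map_mul, map_inv, ht, map_pow, inv_mul_cancel]
    have hxz : x = (t : Ω) * ((t⁻¹ * z ^ m : ↥ZS) : Ω) := by
      rw [← Subgroup.coe_mul, mul_inv_cancel_left]
      exact (congrArg Subtype.val hz).symm
    rw [hxz]
    exact Subgroup.mul_mem_sup (hTc z) ⟨_, hker, rfl⟩

end Cfsg.Agent.S5294
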