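import Cfsg.Statements.S5295
import Cfsg.Agent.H89.CentralEltApps
import Cfsg.Agent.S5294
import Cfsg.Agent.H85.LocalSystems

set_option autoImplicit false
universe u
open Cfsg

namespace Cfsg.Agent.S5295

/-- Let F be a saturated fusion system over a finite p-group S with p odd. Then the centre Z(F) of F is a direct factor of Z(S): there is a subgroup K of Z(S) with Z(F) ∩ K = 1 and Z(F)K = Z(S). (At the prime 2 this can fail.) -/
theorem result {Ω : Type u} [Group Ω] {S : Subgroup Ω} [Finite S] (p : ℕ) [Fact p.Prime] (hp : p ≠ 2) (hS : IsPGroup p S)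
    (F : Cfsg.FusionSystem S) (hF : F.IsSaturated p) :
    ∃ K : Subgroup Ω, K ≤ (S ⊓ Subgroup.centralizer (S : Set Ω)) ∧ F.center ⊓ K = ⊥ ∧ F.center ⊔ K = (S ⊓ Subgroup.centralizer (S : Set Ω)) := by
  have hJS : Cfsg.thompsonSubgroupAOf S ≤ S := Subgroup.map_subtype_le _
  set N := H85.normalizerSystem F (Cfsg.thompsonSubgroupAOf S) hJS with hN0
  have hN := H85.normalizerSystem_spec F (Cfsg.thompsonSubgroupAOf S) hJS
  have hT : Cfsg.FusionSystem.normalizerIn S (Cfsg.thompsonSubgroupAOf S) = S :=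
    H89.normalizerIn_char fun e => H74.JA.map_thompsonSubgroupA e
  haveI : Finite (Cfsg.FusionSystem.normalizerIn S (Cfsg.thompsonSubgroupAOf S)) :=
    H85.finite_of_le (H85.normalizerIn_le _)
  have hfn : F.IsFullyNormalized (Cfsg.thompsonSubgroupAOf S) := by
    refine ⟨hJS, fun R _ => ?_⟩
    rw [hT]
    exact Subgroup.card_le_of_le (H85.normalizerIn_le R)
  have hsat := H85.isSaturated_normalizerSystem hS hF hfn N hN
  have he : p ∣ p.choose 2 * 1 := by
    rw [mul_one]
    exact (Fact.out : p.Prime).dvd_choose_self two_ne_zero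
      (lt_of_le_of_ne (Fact.out : p.Prime).two_le (Ne.symm hp))
  have hcen : N.center = F.center := by
    refine le_antisymm (fun z hz => ?_) (H89.center_le_normalizer_center hN hJS)
    have hzS : z ∈ (S ⊓ Subgroup.centralizer (S : Set Ω) : Subgroup Ω) :=
      ⟨H85.normalizerIn_le _ (H89.center_le N hz), Subgroup.mem_centralizer_iff.2 fun g hg =>
        Subgroup.mem_centralizer_iff.1 (N.center_le_centralizer hz) g (hT.ge hg)⟩
    have := H89.mem_center_of_thompson hS hF he hN hzS (by rwa [pow_one])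
    rwa [pow_one] at this
  have hcore : (Cfsg.FusionSystem.normalizerIn S (Cfsg.thompsonSubgroupAOf S) ⊓
      Subgroup.centralizer (Cfsg.FusionSystem.normalizerIn S (Cfsg.thompsonSubgroupAOf S) : Set Ω))
      ≤ N.core := by
    refine le_trans ?_ (le_sSup (H89.isNormal_normalizerSystem hJS hN) :
      Cfsg.thompsonSubgroupAOf S ≤ N.core)
    rw [hT]
    rintro z ⟨hzS, hzC⟩
    exact ⟨⟨z, hzS⟩, H89.center_le_thompsonA _ (Subgroup.mem_center_iff.2 fun g =>
      Subtype.ext (Subgroup.mem_centralizer_iff.1 hzC g g.2)), rfl⟩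
  obtain ⟨K, hK1, hK2, hK3⟩ :=
    Cfsg.Agent.S5294.result p (hS.to_le (H85.normalizerIn_le _)) N hsat hcore
  rw [hcen] at hK2 hK3
  rw [hT] at hK1 hK3
  exact ⟨K, hK1, hK2, hK3⟩

end Cfsg.Agent.S5295
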