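import Cfsg.Statements.S5296
import Cfsg.Agent.H89.AbelianControl

set_option autoImplicit false
universe u
open Cfsg

namespace Cfsg.Agent.S5296

/-- Small-exponent abelian subgroups of the hyperfocal subgroup control fusion. Let E and F be saturated fusion systems over the same finite p-group S with E contained in F. Suppose that E and F have the same maps between A and B for all subgroups A, B of the hyperfocal subgroup of F that are elementary abelian when p is odd, respectively abelian of exponent dividing 4 when p = 2. Then E = F. -/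
theorem result {Ω : Type u} [Group Ω] {S : Subgroup Ω} [Finite S] (p : ℕ) [Fact p.Prime] (hS : IsPGroup p S)
    (E F : Cfsg.FusionSystem S) (hE : E.IsSaturated p) (hF : F.IsSaturated p) (hEF : E.IsSubsystemOf F)
    (hodd : p ≠ 2 → ∀ A B : Subgroup Ω, A ≤ (F.hyperfocalSubgroup p) → B ≤ (F.hyperfocalSubgroup p) →
      Cfsg.IsElementaryAbelian p A → Cfsg.IsElementaryAbelian p B → E.homSet A B = F.homSet A B)
    (htwo : p = 2 → ∀ A B : Subgroup Ω, A ≤ (F.hyperfocalSubgroup p) → B ≤ (F.hyperfocalSubgroup p) →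
      IsMulCommutative ↥A → IsMulCommutative ↥B → (∀ a ∈ A, a ^ 4 = 1) → (∀ b ∈ B, b ^ 4 = 1) → E.homSet A B = F.homSet A B) :
    ∀ P : Subgroup Ω, E.Hom P = F.Hom P := by
  refine H89.AbCtl.hom_eq hS hE hF hEF fun A φ hG hφ => ?_
  have hG' := H89.AbCtl.good_of_isConj hS hF hG ⟨φ, hφ, rfl⟩
  have hc : ∀ {B : Subgroup Ω}, H89.AbCtl.Good F p B → IsMulCommutative ↥B := fun h =>
    ⟨⟨fun a b => Subtype.ext (h.comm a a.2 b b.2)⟩⟩
  have hmem : φ ∈ F.homSet A φ.range := ⟨hφ, fun x => ⟨x, rfl⟩⟩
  by_cases h2 : p = 2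
  · have he : ∀ {B : Subgroup Ω}, H89.AbCtl.Good F p B → ∀ b ∈ B, b ^ 4 = 1 := fun h b hb => by
      have := h.exp b hb
      rwa [H89.AbFix.smallExp, if_pos h2] at this
    rw [← htwo h2 A φ.range (hG.le) (hG'.le) (hc hG) (hc hG') (he hG) (he hG')] at hmem
    exact hmem.1
  · have he : ∀ {B : Subgroup Ω}, H89.AbCtl.Good F p B → IsElementaryAbelian p B := fun h =>
      ⟨hc h, fun b hb => by
        have := h.exp b hb
        rwa [H89.AbFix.smallExp, if_neg h2] at this⟩
    rw [← hodd h2 A φ.range (hG.le) (hG'.le) (he hG) (he hG')] at hmem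
    exact hmem.1

end Cfsg.Agent.S5296
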