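import Cfsg.Statements.S5297
import Cfsg.Agent.H89.SmallCyclic

set_option autoImplicit false
universe u
open Cfsg

namespace Cfsg.Agent.S5297

/-- Let F be a saturated fusion system over a finite p-group S. If every map of F between cyclic subgroups of the hyperfocal subgroup of F of order p or 4 is a map of the normalizer system of S (it extends to a map of F defined on all of S), then S is normal in F. -/
theorem result {Ω : Type u} [Group Ω] {S : Subgroup Ω} [Finite S] (p : ℕ) [Fact p.Prime] (hS : IsPGroup p S)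
    (F : Cfsg.FusionSystem S) (hF : F.IsSaturated p)
    (h : ∀ A B : Subgroup Ω, A ≤ (F.hyperfocalSubgroup p) → B ≤ (F.hyperfocalSubgroup p) → IsCyclic ↥A → (Nat.card ↥A = p ∨ Nat.card ↥A = 4) → IsCyclic ↥B → (Nat.card ↥B = p ∨ Nat.card ↥B = 4) →
      F.homSet A B ⊆ F.normalizerHom S A) :
    F.IsNormal S := by
  classical
  refine H89.isNormal_top_of_p_normal hS hF fun R hR _ _ => ?_
  have hP := hR.1
  haveI := H85.finite_of_le hP
  haveI := H85.finite_autGroup F hP
  have hsc := H86.hyperfocal_stronglyClosed hS hF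
  set A := F.autGroup R with hA
  obtain ⟨C, hC, hinv, hdet⟩ := H89.exists_detecting hS hP (F.hyperfocalSubgroup p) A
    (fun α hα x hx => hsc.2 (Subgroup.zpowers (x : Ω)) (Subgroup.zpowers_le.2 hx) _
        (H85.restrict ((H85.mem_autGroup hP).1 hα) (Subgroup.zpowers_le.2 x.2))
        ⟨x, Subgroup.mem_zpowers _⟩)
    (fun a ha hcop x => H89.inv_mul_mem_hyperfocal hP ha hcop x)
  have hL : ∀ α ∈ A, ∀ x ∈ C, ∀ i, (x : Ω) ∈ S.lowerCentralSeries i →
      ((α x : R) : Ω) ∈ S.lowerCentralSeries i := by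
    intro α hα x hxC i hx
    by_cases hx1 : x = 1
    · subst hx1; simp
    obtain ⟨hle, hmap, hcA, hcB⟩ := H89.exists_cyclic_map (p := p) hP hα hx1 (hC x hxC).2
    obtain ⟨-, -, -, ψ, hψ, hψx, hψS⟩ := h _ _ (Subgroup.zpowers_le.2 (hC x hxC).1)
      (Subgroup.zpowers_le.2 (hC _ (hinv α hα x hxC)).1)
      inferInstance hcA inferInstance hcB hmap
    have e := hψx ⟨x, Subgroup.mem_zpowers _⟩
    have h1 := H89.hom_top_lcs (H85.restrict hψ (le_sup_right (a := Subgroup.zpowers (x : Ω))))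
      i ⟨x, hP x.2⟩ hx
    have e' : ((α x : R) : Ω) = ψ ⟨x, Subgroup.mem_sup_left (Subgroup.mem_zpowers _)⟩ := e.symm
    rw [e']
    exact h1
  let K : Subgroup (MulAut R) :=
    { carrier := {α | α ∈ A ∧ ∀ i, ∀ x ∈ C, (x : Ω) ∈ S.lowerCentralSeries i →
        (x : Ω)⁻¹ * (α x : R) ∈ S.lowerCentralSeries (i + 1)}
      one_mem' := ⟨one_mem _, fun i x _ _ => by simp⟩
      mul_mem' := fun {a b} ha hb => ⟨mul_mem ha.1 hb.1, fun i x hxC hx => by
        have h1 := hb.2 i x hxC hx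
        have h2 := ha.2 i (b x) (hinv b hb.1 x hxC) (hL b hb.1 x hxC i hx)
        have := mul_mem h1 h2
        rwa [mul_assoc, mul_inv_cancel_left] at this⟩
      inv_mem' := fun {a} ha => ⟨inv_mem ha.1, fun i x hxC hx => by
        have h1 := ha.2 i (a⁻¹ x) (hinv _ (inv_mem ha.1) x hxC) (hL _ (inv_mem ha.1) x hxC i hx)
        rw [MulAut.apply_inv_self] at h1
        have := inv_mem h1
        rwa [mul_inv_rev, inv_inv] at this⟩ }
  have hKA : K ≤ A := fun α hα => hα.1
  haveI : Finite K := Finite.of_injective _ (Subgroup.inclusion_injective hKA)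
  refine ⟨K, hKA, H89.isPGroup_of_no_coprime _ fun a ha hcop => hdet a ha.1 hcop ?_, ?_, ?_⟩
  · obtain ⟨n, hn⟩ := H89.exists_lcs_eq_bot hS
    exact H89.fixes_of_series hS hP C S.lowerCentralSeries hn
      (fun x hx => hP x.2) a hcop (hinv a ha.1) fun i x hxC hx => ha.2 i x hxC hx
  · intro α hα
    refine ⟨H85.autInducedBy_le_autGroup F hP hα, fun i x hxC hx => ?_⟩
    obtain ⟨g, hg, hgα⟩ := H85.mem_autInducedBy.1 hα
    rw [hgα x]
    exact H89.inv_mul_conj_mem_lcs hx hg
  · intro α hα k hk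
    refine ⟨mul_mem (mul_mem hα hk.1) (inv_mem hα), fun i x hxC hx => ?_⟩
    have hy := hinv _ (inv_mem hα) x hxC
    have hd := hk.2 i _ hy (hL _ (inv_mem hα) x hxC i hx)
    have := hL α hα ((α⁻¹ x)⁻¹ * k (α⁻¹ x)) (C.mul_mem (C.inv_mem hy) (hinv k hk.1 _ hy)) (i + 1) hd
    rw [map_mul, map_inv, MulAut.apply_inv_self] at this
    exact this

end Cfsg.Agent.S5297
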