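import Cfsg.Statements.S5298
import Cfsg.Agent.H89.SmallCyclic
import Cfsg.Agent.H85.Alperin

set_option autoImplicit false
universe u
open Cfsg

namespace Cfsg.Agent.S5298

/-- Let F be a saturated fusion system over a finite p-group S. If every map of F between cyclic subgroups of the hyperfocal subgroup of F of order p or 4 is conjugation by an element of S, then F is the inner fusion system of S. -/
theorem result {Ω : Type u} [Group Ω] {S : Subgroup Ω} [Finite S] (p : ℕ) [Fact p.Prime] (hS : IsPGroup p S)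
    (F : Cfsg.FusionSystem S) (hF : F.IsSaturated p)
    (h : ∀ A B : Subgroup Ω, A ≤ (F.hyperfocalSubgroup p) → B ≤ (F.hyperfocalSubgroup p) → IsCyclic ↥A → (Nat.card ↥A = p ∨ Nat.card ↥A = 4) → IsCyclic ↥B → (Nat.card ↥B = p ∨ Nat.card ↥B = 4) →
      F.homSet A B ⊆ (Cfsg.innerFusionSystem S).Hom A) :
    ∀ P : Subgroup Ω, F.Hom P = (Cfsg.innerFusionSystem S).Hom P := by
  classical
  intro P
  refine H88.inner_of_pGroup hS hF (fun R hR => ?_) P
  have hP := hR.1
  haveI := H85.finite_of_le hP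
  haveI := H85.finite_autGroup F hP
  have hsc := H86.hyperfocal_stronglyClosed hS hF
  obtain ⟨C, hC, hinv, hdet⟩ := H89.exists_detecting hS hP (F.hyperfocalSubgroup p) (F.autGroup R)
    (fun α hα x hx => by
      exact hsc.2 (Subgroup.zpowers (x : Ω)) (Subgroup.zpowers_le.2 hx) _
        (H85.restrict ((H85.mem_autGroup hP).1 hα) (Subgroup.zpowers_le.2 x.2))
        ⟨x, Subgroup.mem_zpowers _⟩)
    (fun a ha hcop x => H89.inv_mul_mem_hyperfocal hP ha hcop x)
  refine H89.isPGroup_of_no_coprime _ fun a ha hcop => hdet a ha hcop ?_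
  obtain ⟨n, hn⟩ := H89.exists_lcs_eq_bot hS
  refine H89.fixes_of_series hS hP C S.lowerCentralSeries hn
    (fun x hx => hP x.2) a hcop (hinv a ha) fun i x hxC hx => ?_
  by_cases hx1 : x = 1
  · subst hx1; simp
  obtain ⟨hle, hmap, hcA, hcB⟩ := H89.exists_cyclic_map (p := p) hP ha hx1 (hC x hxC).2
  obtain ⟨-, g, hg, hφ⟩ := h _ _ (Subgroup.zpowers_le.2 (hC x hxC).1)
    (Subgroup.zpowers_le.2 (hC _ (hinv a ha x hxC)).1)
    inferInstance hcA inferInstance hcB hmap
  have e : ((a x : R) : Ω) = g * (x : Ω) * g⁻¹ := hφ ⟨x, Subgroup.mem_zpowers _⟩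
  rw [e]
  exact H89.inv_mul_conj_mem_lcs hx hg

end Cfsg.Agent.S5298
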