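import Cfsg.Statements.S5299
-- import your own Cfsg.Agent.* helpers here

set_option autoImplicit false
universe u
open Cfsg

namespace Cfsg.Agent.S5299

/-- A quotient of a group that embeds in `W` is involved in `W`. -/
theorem involves_of_embedding {P W Q : Type*} [Group P] [Group W] [Group Q] (j : P →* W)
    (hj : Function.Injective j) (g : P →* Q) (hg : Function.Surjective g) : Cfsg.Involves Q W := by
  let h : j.range →* Q := g.comp (MonoidHom.ofInjective hj).symm.toMonoidHom
  have hh : Function.Surjective h := hg.comp (MonoidHom.ofInjective hj).symm.surjective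
  have he : (h.ker.map j.range.subtype).subgroupOf j.range = h.ker :=
    Subgroup.comap_map_eq_self_of_injective Subtype.coe_injective _
  haveI hn : ((h.ker.map j.range.subtype).subgroupOf j.range).Normal := he.symm ▸ h.normal_ker
  exact ⟨j.range, h.ker.map j.range.subtype, hn,
    ⟨(QuotientGroup.quotientMulEquivOfEq he).trans (QuotientGroup.quotientKerEquivOfSurjective h hh)⟩⟩

/-- Let F be a saturated fusion system over a finite p-group S, H a finite group and Q a p-subgroup of H. If Q is not involved in S (no section of S is isomorphic to Q), then F is H-free: H is involved in no model of the normalizer system of a fully normalized centric subgroup. -/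
theorem result {Ω : Type u} [Group Ω] {S : Subgroup Ω} [Finite S] (p : ℕ) [Fact p.Prime] (hS : IsPGroup p S)
    (F : Cfsg.FusionSystem S) (hF : F.IsSaturated p) (H : Type*) [Group H] [Finite H] (Q : Subgroup H) (hQ : IsPGroup p Q)
    (hfree : ¬ Cfsg.Involves (↥Q) (↥S)) : F.IsSectionFree p H := by
  intro U _ _ N _ L _ ι hmodel hinv
  obtain ⟨hLfin, hreal, ⟨T, hT⟩, -⟩ := hmodel
  haveI := hLfin
  obtain ⟨K, R, hRn, ⟨e⟩⟩ := hinv
  haveI := hRn
  let f : K →* H := e.toMonoidHom.comp (QuotientGroup.mk' (R.subgroupOf K))
  have hf : Function.Surjective f := e.surjective.comp (QuotientGroup.mk'_surjective _)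
  let K' : Subgroup K := Q.comap f
  let f' : K' →* Q := (f.comp K'.subtype).codRestrict Q fun x => x.2
  have hf' : Function.Surjective f' := by
    rintro ⟨q, hq⟩
    obtain ⟨k, rfl⟩ := hf q
    exact ⟨⟨k, hq⟩, rfl⟩
  obtain ⟨P₀⟩ : Nonempty (Sylow p K') := inferInstance
  have hQtop : (((P₀.mapSurjective hf') : Sylow p Q) : Subgroup Q) = ⊤ :=
    (P₀.mapSurjective hf').3 (hQ.to_subgroup ⊤) le_top |>.symm
  let P : Subgroup L := ((P₀ : Subgroup K').map K'.subtype).map K.subtype
  have hP : IsPGroup p P := (P₀.isPGroup'.map _).map _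
  obtain ⟨T', hT'⟩ := hP.exists_le_sylow
  obtain ⟨l, hl⟩ := MulAction.exists_smul_eq L T' T
  have hmem : ∀ x : (P₀ : Subgroup K'), l * (((x : K') : K) : L) * l⁻¹ ∈ ι.range := by
    intro x
    rw [← hT, ← hl, Sylow.coe_subgroup_smul]
    exact Subgroup.smul_mem_pointwise_smul _ (MulAut.conj l) _
      (hT' ⟨((x : K') : K), ⟨x, x.2, rfl⟩, rfl⟩)
  let c : (P₀ : Subgroup K') →* L :=
    (MulAut.conj l).toMonoidHom.comp (K.subtype.comp (K'.subtype.comp (P₀ : Subgroup K').subtype))
  have hc : Function.Injective c := fun a b hab => by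
    have := (MulAut.conj l).injective hab
    exact Subtype.ext (Subtype.ext (Subtype.ext this))
  let j : (P₀ : Subgroup K') →* ↥S :=
    (Subgroup.inclusion (show Cfsg.FusionSystem.normalizerIn S U ≤ S from inf_le_left)).comp
      ((MonoidHom.ofInjective hreal.1).symm.toMonoidHom.comp (c.codRestrict ι.range hmem))
  have hj : Function.Injective j := by
    intro a b hab
    have h1 := Subgroup.inclusion_injective
      (show Cfsg.FusionSystem.normalizerIn S U ≤ S from inf_le_left) hab
    have h2 := (MonoidHom.ofInjective hreal.1).symm.injective h1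
    exact hc (congrArg Subtype.val h2)
  refine hfree (involves_of_embedding j hj (f'.comp (P₀ : Subgroup K').subtype) ?_)
  intro q
  have : q ∈ (((P₀.mapSurjective hf') : Sylow p Q) : Subgroup Q) := hQtop ▸ Subgroup.mem_top q
  obtain ⟨x, hx, rfl⟩ := this
  exact ⟨⟨x, hx⟩, rfl⟩

end Cfsg.Agent.S5299
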