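import Cfsg.Statements.S5300
import Cfsg.Agent.H89.SmallCyclic

set_option autoImplicit false
universe u
open Cfsg

namespace Cfsg.Agent.S5300

/-- Let F be a saturated fusion system over a finite p-group S. If every cyclic subgroup of the focal subgroup of F of order p (of order 2 or 4 when p = 2) is normal in S, then S is normal in F. -/
theorem result {Ω : Type u} [Group Ω] {S : Subgroup Ω} [Finite S] (p : ℕ) [Fact p.Prime] (hS : IsPGroup p S)
    (F : Cfsg.FusionSystem S) (hF : F.IsSaturated p)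
    (hnorm : ∀ x ∈ F.focalSubgroup, (x ^ p = 1 ∨ (p = 2 ∧ x ^ 4 = 1)) → ∀ s ∈ S, s * x * s⁻¹ ∈ Subgroup.zpowers x) :
    F.IsNormal S := by
  classical
  have hcen : ∀ x ∈ F.focalSubgroup, x ∈ S → x ^ p = 1 → ∀ s ∈ S, s * x * s⁻¹ = x := by
    intro x hx hxS hxp s hs
    by_cases hx1 : x = 1
    · subst hx1; simp
    set xs : S := ⟨x, hxS⟩ with hxs
    set N := Subgroup.zpowers xs with hN
    haveI hNn : N.Normal := by
      refine ⟨fun y hy g => ?_⟩
      obtain ⟨k, rfl⟩ := Subgroup.mem_zpowers_iff.1 hy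
      obtain ⟨j, hj⟩ := Subgroup.mem_zpowers_iff.1 (hnorm x hx (Or.inl hxp) g g.2)
      refine Subgroup.mem_zpowers_iff.2 ⟨j * k, Subtype.ext ?_⟩
      rw [← conj_zpow, zpow_mul]
      show (x ^ j) ^ k = ((g : Ω) * x * (g : Ω)⁻¹) ^ k
      rw [hj]
    have hne : N ≠ ⊥ := fun hb => hx1 (congrArg Subtype.val (Subgroup.zpowers_eq_bot.1 hb))
    have h2 := H80.pgroup_normal_inf_center_ne_bot hS N hne
    have hcard : Nat.card N = p := by
      rw [hN, Nat.card_zpowers]
      exact orderOf_eq_prime (Subtype.ext hxp) fun h => hx1 (congrArg Subtype.val h)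
    haveI : Fact (Nat.card N).Prime := ⟨hcard ▸ Fact.out⟩
    rcases ((Subgroup.center S).subgroupOf N).eq_bot_or_eq_top_of_prime_card with hb | ht
    · exact absurd (eq_bot_iff.2 fun y hy => by
        have : (⟨y, hy.1⟩ : N) ∈ (Subgroup.center S).subgroupOf N := hy.2
        rw [hb, Subgroup.mem_bot] at this
        exact Subgroup.mem_bot.2 (congrArg Subtype.val this)) h2
    · have h3 := Subgroup.mem_center_iff.1
        (Subgroup.subgroupOf_eq_top.1 ht (Subgroup.mem_zpowers xs)) ⟨s, hs⟩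
      have h4 : s * x = x * s := congrArg Subtype.val h3
      rw [h4, mul_inv_cancel_right]
  refine H89.isNormal_top_of_p_normal hS hF fun R hR _ _ => ?_
  have hP := hR.1
  haveI := H85.finite_of_le hP
  haveI := H85.finite_autGroup F hP
  set A := F.autGroup R with hA
  have hfoc : ∀ α ∈ A, ∀ x : R, (x : Ω)⁻¹ * ((α x : R) : Ω) ∈ F.focalSubgroup := fun α hα x =>
    Subgroup.subset_closure ⟨R, _, x, (H85.mem_autGroup hP).1 hα, rfl⟩
  obtain ⟨C, hC, hinv, hdet⟩ := H89.exists_detecting (p := p) hS hP F.focalSubgroup A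
    (fun α hα x hx => by
      have := mul_mem hx (hfoc α hα x)
      rwa [mul_inv_cancel_left] at this)
    (fun a ha _ x => hfoc a ha x)
  have hcomm : ∀ x ∈ C, ∀ y : R, (x : Ω) ^ p = 1 → Commute x y := fun x hx y hxp => by
    refine Subtype.ext ?_
    have := hcen x (hC x hx).1 (hP x.2) hxp y (hP y.2)
    calc (x : Ω) * y = ((y : Ω) * x * (y : Ω)⁻¹) * y := by rw [this]
      _ = y * x := by group
  let K : Subgroup (MulAut R) :=
    { carrier := {α | α ∈ A ∧ (∀ x ∈ C, x ^ p = 1 → α x = x) ∧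
        ∀ x ∈ C, (x⁻¹ * α x) ^ p = 1}
      one_mem' := ⟨one_mem _, fun x _ _ => rfl, fun x _ => by simp⟩
      mul_mem' := fun {a b} ha hb => ⟨mul_mem ha.1 hb.1,
        fun x hx hxp => by rw [MulAut.mul_apply, hb.2.1 x hx hxp, ha.2.1 x hx hxp],
        fun x hx => by
          have hb' := hinv b hb.1 x hx
          have h1 := hb.2.2 x hx
          have h2 := ha.2.2 (b x) hb'
          have hd : x⁻¹ * b x ∈ C := C.mul_mem (C.inv_mem hx) hb'
          have h3 : x⁻¹ * (a * b) x = (x⁻¹ * b x) * ((b x)⁻¹ * a (b x)) := by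
            rw [MulAut.mul_apply]; group
          rw [h3, (hcomm _ hd _ (congrArg Subtype.val h1)).mul_pow, h1, h2, one_mul]⟩
      inv_mem' := fun {a} ha => ⟨inv_mem ha.1,
        fun x hx hxp => by
          conv_lhs => rw [← ha.2.1 x hx hxp]
          exact MulAut.inv_apply_self _ _ _,
        fun x hx => by
          have h1 := ha.2.2 (a⁻¹ x) (hinv _ (inv_mem ha.1) x hx)
          rw [MulAut.apply_inv_self] at h1
          rw [show x⁻¹ * a⁻¹ x = ((a⁻¹ x)⁻¹ * x)⁻¹ by group, inv_pow, h1, inv_one]⟩ }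
  have hKA : K ≤ A := fun α hα => hα.1
  haveI : Finite K := Finite.of_injective _ (Subgroup.inclusion_injective hKA)
  refine ⟨K, hKA, H89.isPGroup_of_no_coprime _ fun a ha hcop => hdet a ha.1 hcop ?_, ?_, ?_⟩
  · intro x hx
    exact H6.apply_eq_self_of_displacement_fixed (hS.to_le hP) a hcop
      (ha.2.1 _ (C.mul_mem (C.inv_mem hx) (hinv a ha.1 x hx)) (ha.2.2 x hx))
  · intro α hα
    obtain ⟨g, hg, hgα⟩ := H85.mem_autInducedBy.1 hα
    refine ⟨H85.autInducedBy_le_autGroup F hP hα, fun x hx hxp => Subtype.ext ?_, fun x hx => ?_⟩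
    · rw [hgα x]
      exact hcen x (hC x hx).1 (hP x.2) (congrArg Subtype.val hxp) g hg
    · refine Subtype.ext ?_
      show ((x : Ω)⁻¹ * (α x : R)) ^ p = 1
      obtain ⟨j, hj⟩ := Subgroup.mem_zpowers_iff.1 (hnorm x (hC x hx).1 (hC x hx).2 g hg)
      have hfix : g * (x : Ω) ^ p * g⁻¹ = (x : Ω) ^ p := by
        rcases (hC x hx).2 with hxp | ⟨h2, hx4⟩
        · simp [hxp]
        · refine hcen _ (pow_mem (hC x hx).1 p) (pow_mem (hP x.2) p) ?_ g hg
          subst h2
          rw [← pow_mul]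
          exact hx4
      rw [hgα x, ← hj, ((Commute.refl (x : Ω)).inv_left.zpow_right j).mul_pow, hj, conj_pow, hfix,
        inv_pow, inv_mul_cancel]
  · intro α hα k hk
    refine ⟨mul_mem (mul_mem hα hk.1) (inv_mem hα), fun x hx hxp => ?_, fun x hx => ?_⟩
    · rw [MulAut.mul_apply, MulAut.mul_apply,
        hk.2.1 _ (hinv _ (inv_mem hα) x hx) (by rw [← map_pow, hxp, map_one]), MulAut.apply_inv_self]
    · have h1 := congrArg α (hk.2.2 _ (hinv _ (inv_mem hα) x hx))
      rw [map_pow, map_mul, map_inv, MulAut.apply_inv_self, map_one] at h1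
      exact h1

end Cfsg.Agent.S5300
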