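import Cfsg.Statements.S5301
import Cfsg.Agent.H89.Generation
import Cfsg.Agent.H1.Cores

set_option autoImplicit false
universe u
open Cfsg

namespace Cfsg.Agent.S5301

/-- Let F be a saturated fusion system over a finite p-group S. If for every subgroup P of S that is fully normalized, centric and radical in F the automorphism group that F induces on P has a normal Sylow p-subgroup, then S is normal in F. -/
theorem result {Ω : Type u} [Group Ω] {S : Subgroup Ω} [Finite S] (p : ℕ) [Fact p.Prime] (hS : IsPGroup p S)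
    (F : Cfsg.FusionSystem S) (hF : F.IsSaturated p)
    (hcl : ∀ P : Subgroup Ω, F.IsFullyNormalized P → F.IsCentric P → F.IsRadical p P →
      ∃ R : Sylow p ↥(F.autGroup P), (R : Subgroup ↥(F.autGroup P)).Normal) :
    F.IsNormal S := by
  refine H89.isNormal_top_of hS hF fun P hP hc hPS => ?_
  set A := F.autGroup P with hA
  haveI : Finite A := H85.finite_autGroup F hP.1
  haveI hKn : (Cfsg.pCore p A).Normal := H1.pCore_normal' p A
  let K : Subgroup (MulAut P) := (Cfsg.pCore p A).map A.subtype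
  have hKA : K ≤ A := Subgroup.map_subtype_le _
  have hKS : K ≤ Cfsg.autInducedBy S P := by
    obtain ⟨R, hR⟩ := (H85.fullyAutomized_of_fullyNormalized hS hF hP).2
    rintro _ ⟨k, hk, rfl⟩
    have := H1.pCore_le_sylow R hk
    rw [hR] at this
    exact this
  have hnorm : ∀ α ∈ A, ∀ k ∈ K, α * k * α⁻¹ ∈ K := by
    rintro α hα _ ⟨k, hk, rfl⟩
    exact ⟨_, hKn.conj_mem k hk ⟨α, hα⟩, rfl⟩
  refine ⟨K, hKS, hnorm, fun hout => ?_⟩
  have hInnA : Cfsg.Inn P ≤ A := H85.inn_le_autGroup F hP.1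
  have hinnS : Cfsg.Inn P ≤ Cfsg.autInducedBy S P := H85.inn_le_autInducedBy hP.1
  have hinnn : ((Cfsg.Inn P).subgroupOf A).Normal := by
    refine ⟨?_⟩
    rintro ⟨k, _⟩ ⟨u, hu⟩ ⟨a, _⟩
    refine ⟨a u, ?_⟩
    show MulAut.conj (a u) = a * k * a⁻¹
    rw [← (show MulAut.conj u = k from hu)]
    ext x
    simp
  have hle : (Cfsg.Inn P).subgroupOf A ≤ Cfsg.pCore p A := by
    haveI := hinnn
    refine H1.le_pCore ?_
    exact ((H85.autInducedBy_isPGroup hS P).to_le hinnS).of_equiv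
      (Subgroup.subgroupOfEquivOfLe hInnA).symm
  have hrad : F.IsRadical p P := by
    refine ⟨hP.1, le_antisymm hout ?_⟩
    intro a ha
    exact ⟨⟨a, hInnA ha⟩, hle ha, rfl⟩
  obtain ⟨R, hR⟩ := hcl P hP hc hrad
  haveI := hR
  obtain ⟨R', hR'⟩ := (H85.fullyAutomized_of_fullyNormalized hS hF hP).2
  have hRp : (R : Subgroup A) ≤ Cfsg.pCore p A := H1.le_pCore R.isPGroup'
  obtain ⟨a, ha⟩ := MulAction.exists_smul_eq A R R'
  have hR'le : (R' : Subgroup A) ≤ Cfsg.pCore p A := by
    rw [← ha, Sylow.coe_subgroup_smul]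
    rintro _ ⟨r, hr, rfl⟩
    exact hKn.conj_mem r (hRp hr) a
  have hS' : Cfsg.autInducedBy S P ≤ Cfsg.Inn P := fun x hx => by
    refine hout ⟨⟨x, H85.autInducedBy_le_autGroup F hP.1 hx⟩, hR'le ?_, rfl⟩
    rw [hR']
    exact hx
  exact H89.autInducedBy_not_le_inn hS hc hPS hS'

end Cfsg.Agent.S5301
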