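import Cfsg.Statements.S5311
import Cfsg.Agent.H89.TransportComponent

set_option autoImplicit false
open Cfsg

namespace Cfsg.Agent.S5311

/-- The layer of a saturated fusion system F over a finite p-group S is characteristic in F: for every automorphism α of S that is an automorphism of F (α and its inverse are morphisms from F to F) and every layer E of F over T, α carries T onto T and, for every map φ of E with source P, the map induced by α on α(P) (that is, α ∘ φ ∘ α⁻¹) is a map of E. -/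
theorem result {Ω : Type*} [Group Ω] {S : Subgroup Ω} [Finite S] (p : ℕ) [Fact p.Prime] (hS : IsPGroup p S) (F : Cfsg.FusionSystem S) (hF : F.IsSaturated p)
    (α : ↥S ≃* ↥S) (hα : F.IsMorphism F (S.subtype.comp α.toMonoidHom))
    (hα' : F.IsMorphism F (S.subtype.comp α.symm.toMonoidHom))
    {T : Subgroup Ω} (E : Cfsg.FusionSystem T) (hE : E.IsLayerOf F p) :
    Cfsg.FusionSystem.imageAlong (S.subtype.comp α.toMonoidHom) T = T ∧
      ∀ (P : Subgroup Ω) (φ : ↥P →* Ω), φ ∈ E.Hom P →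
        ∀ φ' : ↥(Cfsg.FusionSystem.imageAlong (S.subtype.comp α.toMonoidHom) P) →* Ω,
          Cfsg.FusionSystem.InducedAlong (S.subtype.comp α.toMonoidHom) φ φ' →
            φ' ∈ E.Hom (Cfsg.FusionSystem.imageAlong (S.subtype.comp α.toMonoidHom) P) := by
  have htr : ∀ β : ↥S ≃* ↥S, F.IsMorphism F (S.subtype.comp β.toMonoidHom) →
      F.IsMorphism F (S.subtype.comp β.symm.toMonoidHom) → H89.Tp.Tr β F F := by
    intro β hβ hβ'
    refine ⟨le_rfl, H89.Tp.im_top β, hβ.2, fun P' φ' hφ' => ?_⟩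
    obtain ⟨φ, hφ, hi⟩ := hβ'.2 P' φ' hφ'
    have hP'S : P' ≤ S := (F.le_of_mem hφ').1
    have hle : Cfsg.FusionSystem.preimageAlong (H89.Tp.hom β) P' ≤
        H89.Tp.im β.symm P' := (H89.Tp.im_symm β P').ge
    refine ⟨_, H86.restrict_mem F hle hφ, ?_⟩
    obtain ⟨hA, hB, hC', he⟩ := H89.Tp.induced_symm (f := β.symm) hi le_rfl
    refine ⟨fun x hx => hA (hle hx), fun x => hB _, fun x => hC' (Subgroup.inclusion hle x),
      fun x => he (Subgroup.inclusion hle x)⟩
  have hTS : T ≤ S := hE.1.1.2.2.2.1.1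
  have key : ∀ β : ↥S ≃* ↥S, H89.Tp.Tr β F F → ∀ E' : Cfsg.FusionSystem (H89.Tp.im β T),
      H89.Tp.Tr β E E' → E.IsSubsystemOf E' := by
    intro β hβ E' hE'
    refine hE.2.2 _ E' (hE'.normal hS hβ hE.1) fun V C hC => ?_
    have hVS : V ≤ S := H89.Tp.subnormal_le hC.1
    obtain ⟨C₀, hC₀⟩ := H89.Tp.exists_tr β.symm C hVS
    have h1 := hC₀.component hS hβ.symm hC
    have h2 := hC₀.symm
    rw [show β.symm.symm = β from MulEquiv.symm_symm β] at h2
    exact h2.subsystem hE' (hE.2.1 _ C₀ h1)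
  obtain ⟨E', hE'⟩ := H89.Tp.exists_tr α E hTS
  obtain ⟨E'', hE''⟩ := H89.Tp.exists_tr α.symm E hTS
  have hα₀ := htr α hα hα'
  have h1 : E.IsSubsystemOf E' := key α hα₀ E' hE'
  have h2 : E'.IsSubsystemOf E := by
    have h3 := hE''.symm
    rw [show α.symm.symm = α from MulEquiv.symm_symm α] at h3
    exact hE'.subsystem h3 (key α.symm hα₀.symm E'' hE'')
  have hTeq : H89.Tp.im α T = T :=
    le_antisymm (E.le_of_mem (h2 _ (H86.subtype_mem E' le_rfl))).1
      (E'.le_of_mem (h1 _ (H86.subtype_mem E le_rfl))).1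
  refine ⟨hTeq, fun P φ hφ φ' hi => h2 _ ?_⟩
  obtain ⟨hA, hB, hC', he⟩ := hi
  exact hE'.mem_of_induced hφ fun x hx hy => he x

end Cfsg.Agent.S5311
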