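import Cfsg.Statements.S5315
import Cfsg.Agent.H85.Focal
import Cfsg.Agent.H86.Join
import Cfsg.Agent.H86.Quotient
import Cfsg.Agent.H85.Alperin

set_option autoImplicit false
open Cfsg

namespace Cfsg.Agent.S5315

open scoped commutatorElement

/-- An analogue of Grün's lemma for fusion systems. Let F be a saturated fusion system over a finite p-group S that is perfect in the sense that its hyperfocal subgroup is all of S (F coincides with its p-residual subsystem). Then the second centre of F equals its centre: every fusion system over S/(Z(F) ∩ S) that is the factor system of F modulo its centre Z(F), read through the quotient map, has trivial centre. -/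
theorem result {Ω : Type*} [Group Ω] {S : Subgroup Ω} [Finite S] (p : ℕ) [Fact p.Prime] (hS : IsPGroup p S) (F : Cfsg.FusionSystem S) (hF : F.IsSaturated p)
    (hperf : F.hyperfocalSubgroup p = S)
    (E : Cfsg.FusionSystem (⊤ : Subgroup (↥S ⧸ (F.center).subgroupOf S)))
    (hE : F.IsFactorSystem F.center (QuotientGroup.mk' ((F.center).subgroupOf S)) E) : E.center = ⊥ := by
  classical
  set Z := F.center with hZdef
  set θ := QuotientGroup.mk' ((F.center).subgroupOf S) with hθ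
  have hker : ∀ s : ↥S, θ s = 1 ↔ (s : Ω) ∈ Z := hE.2.1
  have hZc : F.IsCentral Z :=
    H86.sSup_mem_of_sup_closed (fun R hR => hR.1) (H86.isCentral_bot F) fun R T hR hT =>
      H86.isCentral_sup F hR hT
  -- every map fixes the centre pointwise
  have hfix : ∀ (P : Subgroup Ω) (φ : P →* Ω), φ ∈ F.Hom P → ∀ x : P, (x : Ω) ∈ Z → φ x = x := by
    intro P φ hφ x hx
    obtain ⟨ψ, -, hψP, hψZ⟩ := hZc.2 P φ hφ
    exact (hψP x).symm.trans (hψZ ⟨x, hx⟩)
  have hZsc : F.StronglyClosed Z :=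
    ⟨hZc.1, fun R hR φ hφ x => by rw [hfix R φ hφ x (hR x.2)]; exact hR x.2⟩
  refine eq_bot_iff.2 (sSup_le fun Qb hQb => ?_)
  intro qb hqb
  obtain ⟨q, rfl⟩ := QuotientGroup.mk'_surjective ((F.center).subgroupOf S) qb
  rw [Subgroup.mem_bot]
  refine (hker q).2 ?_
  -- lifts of the maps of `F` fixing the class of `q`
  have hlift : ∀ (P : Subgroup Ω) (φ : P →* Ω), φ ∈ F.Hom P → ∃ (T : Subgroup Ω) (ψ : T →* Ω)
      (hPT : P ≤ T) (hqT : (q : Ω) ∈ T), ψ ∈ F.Hom T ∧
      (∀ x : P, (φ x)⁻¹ * ψ (Subgroup.inclusion hPT x) ∈ Z) ∧ (q : Ω)⁻¹ * ψ ⟨q, hqT⟩ ∈ Z := by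
    intro P φ hφ
    have hP := H85.source_le hφ
    obtain ⟨φ₁, hφ₁, hext, -⟩ := hZc.2 P φ hφ
    set P' := Cfsg.FusionSystem.imageAlong θ P with hP'
    have hpre : Cfsg.FusionSystem.preimageAlong θ P' = P ⊔ Z :=
      H86.preimageAlong_imageAlong hZsc hker hP
    have hφ₂ := H85.restrict hφ₁ hpre.le
    obtain ⟨φ', hφ'⟩ := H86.exists_induced (P' := P') hZsc hker hφ₂
      (fun x => (H86.mem_preimageAlong.1 x.2).2) (fun y => by
        obtain ⟨s, hs, hsy⟩ := H86.mem_imageAlong.1 y.2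
        refine ⟨⟨(s : Ω), H86.mem_preimageAlong.2 ⟨s.2, ?_⟩⟩, hsy⟩
        exact H86.mem_imageAlong.2 ⟨s, hs, rfl⟩)
    have hφ'E : φ' ∈ E.Hom P' := (hE.2.2.2 P' φ').2 ⟨le_top, _, hφ₂, hφ'⟩
    obtain ⟨ψ', hψ'E, hψ'P, hψ'Q⟩ := hQb.2 P' φ' hφ'E
    obtain ⟨-, ψ, hψ, hT, hψS, hψP', hψeq⟩ := (hE.2.2.2 _ ψ').1 hψ'E
    have hPT : P ≤ Cfsg.FusionSystem.preimageAlong θ (P' ⊔ Qb) := fun x hx =>
      H86.mem_preimageAlong.2 ⟨hP hx, Subgroup.mem_sup_left (H86.mem_imageAlong.2 ⟨_, hx, rfl⟩)⟩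
    have hqT : (q : Ω) ∈ Cfsg.FusionSystem.preimageAlong θ (P' ⊔ Qb) :=
      H86.mem_preimageAlong.2 ⟨q.2, Subgroup.mem_sup_right hqb⟩
    refine ⟨_, ψ, hPT, hqT, hψ, fun x => ?_, ?_⟩
    · obtain ⟨h₁, h₂, h₃, h₄⟩ := hφ'
      have hxpre : (x : Ω) ∈ Cfsg.FusionSystem.preimageAlong θ P' := by
        rw [hpre]; exact Subgroup.mem_sup_left x.2
      have e1 := hψeq (Subgroup.inclusion hPT x)
      have e2 := h₄ ⟨x, hxpre⟩
      have e3 : φ₁.comp (Subgroup.inclusion hpre.le) ⟨x, hxpre⟩ = φ x :=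
        (congrArg φ₁ (Subtype.ext rfl)).trans (hext x)
      have e4 : θ ⟨φ x, H85.map_mem hφ x⟩ = θ ⟨ψ (Subgroup.inclusion hPT x), hψS _⟩ := by
        rw [← e1]
        refine Eq.trans ?_ (hψ'P ⟨θ ⟨x, hP x.2⟩, h₃ ⟨x, hxpre⟩⟩).symm
        refine Eq.trans ?_ e2.symm
        exact congrArg θ (Subtype.ext e3.symm)
      have e5 := (hker ((⟨φ x, H85.map_mem hφ x⟩ : ↥S)⁻¹ * ⟨ψ (Subgroup.inclusion hPT x), hψS _⟩)).1
        (by rw [map_mul, map_inv, e4, inv_mul_cancel])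
      exact e5
    · have e1 := hψeq ⟨q, hqT⟩
      have e2 : θ q = θ ⟨ψ ⟨q, hqT⟩, hψS _⟩ := by
        rw [← e1]
        exact (hψ'Q ⟨θ q, hqb⟩).symm
      exact (hker (q⁻¹ * ⟨ψ ⟨q, hqT⟩, hψS _⟩)).1 (by rw [map_mul, map_inv, e2, inv_mul_cancel])
  have hZcomm : ∀ z ∈ Z, ∀ s ∈ S, s * z = z * s := fun z hz s hs => F.center_le_centralizer hz s hs
  -- commutators with `q`
  have hχ : ∀ x ∈ S, ⁅(q : Ω), x⁆ ∈ Z := by
    intro x hx
    have hqc := Cfsg.FusionSystem.center_le_centralizer E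
      ((le_sSup hQb : Qb ≤ E.center) hqb) (θ ⟨x, hx⟩) (by trivial)
    have h := (hker ⁅q, (⟨x, hx⟩ : ↥S)⁆).1 (by
      rw [map_commutatorElement, commutatorElement_eq_one_iff_mul_comm]
      exact hqc.symm)
    exact h
  have hcalc : ∀ (a b z w : Ω), z ∈ Z → w ∈ Z → a ∈ S → b ∈ S → ⁅a * z, b * w⁆ = ⁅a, b⁆ := by
    intro a b z w hz hw ha hb
    have cz : ∀ s ∈ S, s * z = z * s := hZcomm z hz
    have cw : ∀ s ∈ S, s * w = w * s := hZcomm w hw
    have h1 : a * z * (b * w) = a * b * (z * w) := by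
      calc a * z * (b * w) = a * (z * b) * w := by group
        _ = a * (b * z) * w := by rw [cz b hb]
        _ = a * b * (z * w) := by group
    have h2 : b * w * (a * z) = b * a * (z * w) := by
      calc b * w * (a * z) = b * (w * a) * z := by group
        _ = b * (a * w) * z := by rw [cw a ha]
        _ = b * a * (w * z) := by group
        _ = b * a * (z * w) := by rw [cz w (hZc.1 hw)]
    calc ⁅a * z, b * w⁆ = (a * z * (b * w)) * (b * w * (a * z))⁻¹ := by
          rw [commutatorElement_def]; group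
      _ = (a * b) * (b * a)⁻¹ := by rw [h1, h2]; group
      _ = ⁅a, b⁆ := by rw [commutatorElement_def]; group
  let χ : ↥S →* Ω :=
    { toFun := fun x => ⁅(q : Ω), (x : Ω)⁆
      map_one' := by rw [OneMemClass.coe_one, commutatorElement_one_right]
      map_mul' := fun x y => by
        rw [Subgroup.coe_mul]
        have hc := hZcomm _ (hχ y y.2) x x.2
        calc ⁅(q : Ω), (x : Ω) * y⁆ = ⁅(q : Ω), (x : Ω)⁆ * ((x : Ω) * ⁅(q : Ω), (y : Ω)⁆ * (x : Ω)⁻¹) := by
              simp only [commutatorElement_def]; group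
          _ = ⁅(q : Ω), (x : Ω)⁆ * ⁅(q : Ω), (y : Ω)⁆ := by rw [hc, mul_inv_cancel_right] }
  have hfoc : F.focalSubgroup ≤ χ.ker.map S.subtype := by
    refine (Subgroup.closure_le _).2 ?_
    rintro _ ⟨P, φ, x, hφ, rfl⟩
    have hxS := H85.source_le hφ x.2
    refine ⟨(⟨x, hxS⟩ : ↥S)⁻¹ * ⟨φ x, H85.map_mem hφ x⟩, ?_, rfl⟩
    obtain ⟨T, ψ, hPT, hqT, hψ, hψx, hψq⟩ := hlift P φ hφ
    let c : T := ⁅(⟨q, hqT⟩ : T), Subgroup.inclusion hPT x⁆
    have hc : (c : Ω) ∈ Z := hχ x hxS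
    have e1 : ψ c = (c : Ω) := hfix T ψ hψ c hc
    rw [map_commutatorElement] at e1
    have e2 : ⁅(q : Ω), φ x⁆ = ⁅(q : Ω), (x : Ω)⁆ := by
      rw [← hcalc _ _ _ _ hψq (hψx x) q.2 (H85.map_mem hφ x), mul_inv_cancel_left, mul_inv_cancel_left]
      exact e1
    rw [SetLike.mem_coe, MonoidHom.mem_ker, map_mul, map_inv]
    show (⁅(q : Ω), (x : Ω)⁆)⁻¹ * ⁅(q : Ω), φ x⁆ = 1
    rw [e2, inv_mul_cancel]
  have hqS : ∀ x ∈ S, x * (q : Ω) = (q : Ω) * x := by
    intro x hx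
    have hxf : x ∈ F.focalSubgroup := by
      rw [H85.focalSubgroup_eq hS hF]
      exact Subgroup.mem_sup_left (hperf.ge hx)
    obtain ⟨y, hy, rfl⟩ := hfoc hxf
    exact (commutatorElement_eq_one_iff_mul_comm.1 hy).symm
  have hqC : S ≤ Cfsg.FusionSystem.centralizerIn S (Subgroup.zpowers (q : Ω)) := fun x hx =>
    H85.mem_centralizerIn.2 ⟨hx, fun y hy => by
      obtain ⟨k, rfl⟩ := Subgroup.mem_zpowers_iff.1 hy
      exact ((Commute.symm (hqS x hx)).zpow_left k).eq⟩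
  have hzS : Subgroup.zpowers (q : Ω) ≤ S := Subgroup.zpowers_le.2 q.2
  have hle : F ≤ H85.centralizerSystemTop F (Subgroup.zpowers (q : Ω)) hzS hqC := by
    refine H85.le_of_essential hS hF _ fun R hR α hα => ?_
    have hc : F.IsCentric R ∧ F.IsFullyNormalized R := by
      rcases hR with rfl | hR
      · exact ⟨H85.centric_top F, H85.fullyNormalized_top F⟩
      · exact ⟨hR.1, hR.2.1⟩
    have hRS := hc.1.1
    haveI := H85.finite_of_le hRS
    haveI := H85.finite_autGroup F hRS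
    have hqR : (q : Ω) ∈ R := H85.centric_self hc.1
      (H85.mem_centralizerIn.2 ⟨q.2, fun x hx => hqS x (hRS hx)⟩)
    have hzmem : ∀ β ∈ F.autGroup R, (q : Ω)⁻¹ * ((β ⟨q, hqR⟩ : R) : Ω) ∈ Z := by
      intro β hβ
      obtain ⟨T, ψ, hPT, hqT, -, hψx, hψq⟩ := hlift R _ ((H85.mem_autGroup hRS).1 hβ)
      have h1 : ((β ⟨q, hqR⟩ : R) : Ω)⁻¹ * ψ ⟨q, hqT⟩ ∈ Z := hψx ⟨q, hqR⟩
      have h2 := Z.mul_mem hψq (Z.inv_mem h1)
      simpa [mul_inv_rev, mul_assoc] using h2
    let K : Subgroup (F.autGroup R) :=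
      { carrier := {β | (β : MulAut R) ⟨q, hqR⟩ = ⟨q, hqR⟩}
        one_mem' := rfl
        mul_mem' := fun {a b} ha hb => by
          simp only [Set.mem_setOf_eq, Subgroup.coe_mul, MulAut.mul_apply] at *
          rw [hb, ha]
        inv_mem' := fun {a} ha => by
          simp only [Set.mem_setOf_eq, Subgroup.coe_inv] at *
          conv_lhs => rw [← ha]
          exact MulAut.inv_apply_self _ _ _ }
    obtain ⟨-, R₀, hR₀⟩ := H85.fullyAutomized_of_fullyNormalized hS hF hc.2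
    have htop : (⊤ : Subgroup (F.autGroup R)) ≤ K := by
      rw [← H86.pResidual_sup_sylow R₀]
      refine sup_le ?_ ?_
      · refine (Subgroup.closure_le _).2 fun β hβ => ?_
        set qR : R := ⟨q, hqR⟩ with hqRdef
        set w : R := qR⁻¹ * (β : MulAut R) qR with hw
        have hwZ : (w : Ω) ∈ Z := hzmem β β.2
        have hwfix : (β : MulAut R) w = w :=
          Subtype.ext (hfix R _ ((H85.mem_autGroup hRS).1 β.2) w hwZ)
        have hiter : ∀ n : ℕ, ((β : MulAut R) ^ n) qR = qR * w ^ n := by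
          intro n
          induction n with
          | zero => simp
          | succ n ih =>
            rw [pow_succ', MulAut.mul_apply, ih, map_mul, map_pow, hwfix, pow_succ', ← mul_assoc]
            congr 1
            rw [hw, mul_inv_cancel_left]
        have h1 := hiter (orderOf β)
        rw [← Subgroup.coe_pow, pow_orderOf_eq_one, Subgroup.coe_one, MulAut.one_apply,
          left_eq_mul] at h1
        obtain ⟨k, hk⟩ := (hS.to_le hRS) w
        have hw1 : w = 1 := by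
          rw [← orderOf_eq_one_iff]
          exact Nat.eq_one_of_dvd_coprimes (Nat.Coprime.pow_right k hβ)
            (orderOf_dvd_of_pow_eq_one h1) (orderOf_dvd_of_pow_eq_one hk)
        show (β : MulAut R) qR = qR
        rw [hw, inv_mul_eq_one] at hw1
        exact hw1.symm
      · intro β hβ
        rw [hR₀] at hβ
        obtain ⟨g, hg, hgβ⟩ := H85.mem_autInducedBy.1 hβ
        refine Subtype.ext ((hgβ _).trans ?_)
        show g * (q : Ω) * g⁻¹ = q
        rw [hqS g hg, mul_inv_cancel_right]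
    have hαq : (α ⟨q, hqR⟩ : R) = ⟨q, hqR⟩ := htop (Subgroup.mem_top (⟨α, hα⟩ : F.autGroup R))
    have hαF := (H85.mem_autGroup hRS).1 hα
    refine (H85.mem_autGroup hRS).2 ⟨hαF, hRS.trans hqC, fun x => hqC (H85.map_mem hαF x), _,
      H85.restrict hαF (sup_le le_rfl (Subgroup.zpowers_le.2 hqR)), fun x => rfl, ?_⟩
    rintro ⟨y, hy⟩
    obtain ⟨k, rfl⟩ := Subgroup.mem_zpowers_iff.1 hy
    have : α (⟨q, hqR⟩ ^ k) = ⟨q, hqR⟩ ^ k := by rw [map_zpow, hαq]
    exact congrArg Subtype.val this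
  have hcen : F.IsCentral (Subgroup.zpowers (q : Ω)) :=
    ⟨hzS, fun P φ hφ => (hle P hφ).2.2.2⟩
  exact (le_sSup hcen : _ ≤ F.center) (Subgroup.mem_zpowers _)

end Cfsg.Agent.S5315
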