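import Cfsg.Statements.S5316
import Cfsg.Agent.H60.MaxClassCube
import Cfsg.Agent.H87.AbelianEssential
import Cfsg.Agent.H34.MaxClassDichotomy

set_option autoImplicit false
open Cfsg

namespace Cfsg.Agent.S5316

theorem maxCls_of {Ω : Type*} [Group Ω] {S : Subgroup Ω} [Finite S] {p : ℕ} [Fact p.Prime] {n : ℕ}
    (hn : Nat.card S = p ^ n) (h5 : 5 ≤ n) (hmax : Subgroup.lowerCentralSeries S (n - 2) ≠ ⊥) :
    H30.MaxCls S p n := by
  refine ⟨hn, le_antisymm (H6.nilpotencyClass_le_pred n S hn (by omega)) ?_, by omega⟩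
  haveI := (IsPGroup.of_card hn).isNilpotent
  by_contra hlt
  refine hmax ?_
  have h2 := Subgroup.lowerCentralSeries_eq_bot_iff_nilpotencyClass_le.2
    (show Group.nilpotencyClass S ≤ n - 2 by omega)
  have h3 := Subgroup.map_lowerCentralSeries (⊤ : Subgroup S) S.subtype (n - 2)
  rw [h2, Subgroup.map_bot, ← MonoidHom.range_eq_map, Subgroup.range_subtype] at h3
  exact h3.symm

/-- Let p ≥ 5 be a prime, S a finite p-group of maximal class of order p^n with n ≥ 5 (nilpotency class n − 1), F a saturated fusion system over S, and E an F-essential subgroup that is not a pearl (not elementary abelian of order p² and not extraspecial of order p³ and exponent p). Then E has order at least p⁴. -/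
theorem result {Ω : Type*} [Group Ω] {S : Subgroup Ω} [Finite S] (p : ℕ) [Fact p.Prime] (hp : 5 ≤ p) (hS : IsPGroup p ↥S) (n : ℕ) (hn : Nat.card S = p ^ n) (h5 : 5 ≤ n)
    (hmax : Subgroup.lowerCentralSeries S (n - 2) ≠ ⊥) (F : Cfsg.FusionSystem S) (hF : F.IsSaturated p)
    (E : Subgroup Ω) (hE : F.IsEssential p E)
    (hnp : ¬ ((Nat.card ↥E = p ^ 2 ∧ Cfsg.IsElementaryAbelian p E) ∨ (Nat.card ↥E = p ^ 3 ∧ Cfsg.IsExtraspecial p ↥E ∧ Monoid.exponent ↥E = p))) :
    p ^ 4 ≤ Nat.card ↥E := by
  by_contra hlt
  haveI := H87.essential_finite hE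
  have hEp := H87.essential_isPGroup hS hE
  obtain ⟨k, hk⟩ := hEp.exists_card_eq
  have hk3 : k ≤ 3 := by
    by_contra h'
    exact hlt (hk ▸ Nat.pow_le_pow_right (Fact.out : p.Prime).pos (by omega))
  have hp1 : 1 < p := (Fact.out : p.Prime).one_lt
  rcases (show k = 0 ∨ k = 1 ∨ k = 2 ∨ k = 3 by omega) with rfl | rfl | rfl | rfl
  · haveI : Subsingleton E := (Nat.card_eq_one_iff_unique.1 (by simpa using hk)).1
    exact H87.essential_not_cyclic hS hE inferInstance
  · exact H87.essential_not_cyclic hS hE (isCyclic_of_prime_card (by simpa using hk))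
  · exact hnp (Or.inl ⟨hk, (H87.essential_card_sq hS hE hk).1⟩)
  by_cases hab : IsMulCommutative E
  · by_cases hexp : ∀ x : E, x ^ p = 1
    · obtain ⟨w⟩ := H60.exists_eworld hS hF hE hab
      set E0 := E.subgroupOf S
      have r : E0 ≃* E := Subgroup.subgroupOfEquivOfLe hE.1.1
      haveI : IsMulCommutative E0 :=
        ⟨⟨fun a b => r.injective (by rw [map_mul, map_mul]; exact hab.is_comm.comm _ _)⟩⟩
      refine H60.Cube.false_of_world hp (maxCls_of hn h5 hmax) h5
        (fun x => r.injective (by rw [map_pow, map_one]; exact hexp _)) ?_ w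
      rw [Nat.card_congr r.toEquiv, hk]
    · push Not at hexp
      obtain ⟨x, hx⟩ := hexp
      have hrk : (frattini E).index ≤ p ^ 2 := by
        have hne : frattini E ≠ ⊥ := fun h0 => hx (by
          have := H31.pow_mem_frattini hEp x
          rwa [h0, Subgroup.mem_bot] at this)
        have h1 := (frattini E).card_mul_index
        have h2 : p ≤ Nat.card (frattini E) := by
          obtain ⟨j, hj⟩ := (hEp.to_subgroup (frattini E)).exists_card_eq
          rcases j.eq_zero_or_pos with rfl | hj0
          · exact absurd (Subgroup.eq_bot_of_card_eq _ (by simpa using hj)) hne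
          · rw [hj]; exact Nat.le_self_pow hj0.ne' p
        have h3 := Nat.mul_le_mul_right (frattini E).index h2
        rw [h1, hk, pow_succ' p 2] at h3
        exact Nat.le_of_mul_le_mul_left h3 (by omega)
      rcases H87.essential_abelian_rank_two hS hE hab hrk with ⟨-, hc⟩ | ⟨hp3, -⟩
      · rw [hk] at hc
        have := Nat.pow_right_injective (Fact.out : p.Prime).two_le hc
        omega
      · omega
  haveI : Group.IsNilpotent E := hEp.isNilpotent
  have hcl : Group.nilpotencyClass E = 2 := by
    refine le_antisymm (H6.nilpotencyClass_le_pred 3 E hk (by omega)) ?_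
    by_contra h1
    refine hab ⟨⟨fun a b => commutatorElement_eq_one_iff_mul_comm.1 ?_⟩⟩
    have h2 := Subgroup.lowerCentralSeries_eq_bot_iff_nilpotencyClass_le.2
      (show Group.nilpotencyClass E ≤ 1 by omega)
    rw [Subgroup.top_lowerCentralSeries_one] at h2
    rw [← Subgroup.mem_bot, ← h2]
    exact Subgroup.commutator_mem_commutator (Subgroup.mem_top a) (Subgroup.mem_top b)
  have hm : H30.MaxCls E p 3 := ⟨hk, hcl, by omega⟩
  have hZ : Nat.card (Subgroup.center E) = p := (H6.maximalClass_center (le_refl 3) hk hcl).1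
  have hcc : Nat.card (commutator E) = p := by
    have h1 := (commutator E).card_mul_index
    rw [H6.maximalClass_index_commutator 3 E hk (by omega) hcl, hk, pow_succ' p 2] at h1
    exact Nat.eq_of_mul_eq_mul_right (pow_pos (by omega) 2) h1
  have hcne : commutator E ≠ ⊥ := fun h0 => by
    rw [h0, Subgroup.card_bot] at hcc
    omega
  have hcZ : commutator E = Subgroup.center E :=
    (Subgroup.eq_of_le_of_card_ge (H6.center_le_commutator_of_card hEp hZ hcne) (by rw [hZ, hcc])).symm
  have hfr : frattini E = commutator E := by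
    refine (Subgroup.eq_of_le_of_card_ge (H31.commutator_le_frattini hEp) ?_).symm
    by_contra h1
    have h2 := (frattini E).card_mul_index
    rw [hcc] at h1
    obtain ⟨j, hj⟩ := (hEp.to_subgroup (frattini E)).exists_card_eq
    rw [hj] at h1 h2
    have hj2 : 2 ≤ j := by
      by_contra h'
      exact h1 (le_of_le_of_eq (Nat.pow_le_pow_right (by omega) (show j ≤ 1 by omega)) (pow_one p))
    refine hab ?_
    have h4 : (frattini E).index ≤ p := by
      refine Nat.le_of_mul_le_mul_left ?_ (pow_pos (show 0 < p by omega) 2)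
      rw [← pow_succ, show 2 + 1 = 3 from rfl, ← hk, ← h2]
      exact Nat.mul_le_mul_right _ (Nat.pow_le_pow_right (by omega) hj2)
    obtain ⟨i, hi⟩ := hEp.index (frattini E)
    have hi1 : i ≤ 1 := (Nat.pow_le_pow_iff_right hp1).1 (by rw [pow_one, ← hi]; exact h4)
    rcases (show i = 0 ∨ i = 1 by omega) with rfl | rfl
    · exfalso
      have h5 : frattini E = ⊤ := Subgroup.index_eq_one.1 (by simpa using hi)
      have h6 : (⊥ : Subgroup E) = ⊤ := frattini_nongenerating (by rw [bot_sup_eq, h5])
      exact hcne (eq_bot_iff.2 (h6 ▸ le_top))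
    obtain ⟨x, -, hx⟩ := SetLike.exists_of_lt (lt_top_iff_ne_top.2 (fun h0 => by
      rw [h0, Subgroup.index_top] at hi
      simp at hi
      omega : frattini E ≠ ⊤))
    have htop : Subgroup.zpowers x ⊔ frattini E = ⊤ := by
      haveI : Fact (frattini E).index.Prime := ⟨by rw [hi, pow_one]; exact Fact.out⟩
      rw [sup_comm]
      by_contra h7
      have hlt' : frattini E < frattini E ⊔ Subgroup.zpowers x :=
        left_lt_sup.2 fun hh => hx (hh (Subgroup.mem_zpowers x))
      have h8 := H30.card_mul_le_of_lt hEp hlt'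
      have h9 := H30.card_mul_le_of_lt hEp (lt_top_iff_ne_top.2 h7)
      rw [Subgroup.card_top, hk] at h9
      rw [hi, pow_one, ← pow_succ, hk] at h2
      rw [hj] at h8
      have := (Nat.mul_le_mul_left p h8).trans h9
      rw [← pow_succ', ← pow_succ'] at this
      have := (Nat.pow_le_pow_iff_right hp1).1 this
      have := Nat.pow_right_injective (Fact.out : p.Prime).two_le h2
      omega
    haveI : IsCyclic E := isCyclic_iff_exists_zpowers_eq_top.2 ⟨x, frattini_nongenerating htop⟩
    exact IsCyclic.commutative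
  have hpz : ∀ x : E, x ^ p ∈ Subgroup.center E := fun x => hcZ ▸ hfr ▸ H31.pow_mem_frattini hEp x
  by_cases hexp : ∀ x : E, x ^ p = 1
  · refine hnp (Or.inr ⟨hk, ⟨⟨hEp, hfr.trans hcZ, hcZ⟩, hZ⟩, ?_⟩)
    rcases (Nat.dvd_prime (Fact.out : p.Prime)).1 (Monoid.exponent_dvd_of_forall_pow_eq_one hexp) with h1 | h1
    · exfalso
      haveI : Subsingleton E := Monoid.exp_eq_one_iff.1 h1
      rw [Nat.card_unique] at hk
      exact absurd hk.symm (Nat.one_lt_pow (by norm_num) hp1).ne'
    · exact h1
  have hexpC : ∀ x ∈ commutator E, x ^ p = 1 := fun x hx => by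
    have := congrArg Subtype.val (pow_card_eq_one' (x := (⟨x, hx⟩ : commutator E)))
    rwa [hcc] at this
  have hpow : ∀ a b : E, (a * b) ^ p = a ^ p * b ^ p :=
    H11.mul_pow_prime_of_small_class (Subgroup.lowerCentralSeries_eq_bot_iff_nilpotencyClass_le.2
      (show Group.nilpotencyClass E ≤ p - 1 by omega)) hexpC
  let P : E →* E := MonoidHom.mk' (fun x => x ^ p) hpow
  refine H34.Dichotomy.index_ne_prime hS hE hm P.ker (fun α _ r hr => ?_) ?_
  · rw [MonoidHom.mem_ker] at hr ⊢
    show α r ^ p = 1
    rw [← map_pow, show r ^ p = 1 from hr, map_one]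
  · rw [Subgroup.index_ker]
    refine le_antisymm ?_ ?_
    · rw [← hZ]
      exact Subgroup.card_le_of_le (by rintro _ ⟨x, rfl⟩; exact hpz x)
    · obtain ⟨j, hj⟩ := (hEp.to_subgroup P.range).exists_card_eq
      rcases j.eq_zero_or_pos with rfl | hj0
      · exfalso
        have h0 := Subgroup.eq_bot_of_card_eq _ (by simpa using hj : Nat.card P.range = 1)
        exact hexp fun x => Subgroup.mem_bot.1 (h0 ▸ (⟨x, rfl⟩ : P x ∈ P.range))
      · rw [hj]; exact Nat.le_self_pow hj0.ne' p

end Cfsg.Agent.S5316
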