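import Cfsg.Statements.S5317
import Cfsg.Agent.H89.PSL2Inv
import Cfsg.Agent.H89.DihedralSylow
import Cfsg.Agent.H89.SimpleCrit
import Cfsg.Agent.H85.GroupSystem

set_option autoImplicit false
open Cfsg

namespace Cfsg.Agent.S5317

/-- Let F be a finite field of odd order q with q² ≡ 1 mod 16 (so that a Sylow 2-subgroup of PSL(2,q), dihedral of order the 2-part of (q²−1)/2, has order at least 8). Then the 2-fusion system of PSL(2,F) on a Sylow 2-subgroup is simple: saturated, over a nontrivial 2-group, with no normal subsystem other than the trivial one and itself. -/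
theorem result {F : Type*} [Field F] [Fintype F] (hodd : Fintype.card F % 2 = 1) (h16 : 16 ∣ Fintype.card F ^ 2 - 1)
    (S : Sylow 2 (Matrix.ProjectiveSpecialLinearGroup (Fin 2) F)) :
    (Cfsg.groupFusionSystem (S : Subgroup (Matrix.ProjectiveSpecialLinearGroup (Fin 2) F))).IsSimple 2 := by
  classical
  haveI : Fact (Nat.Prime 2) := ⟨Nat.prime_two⟩
  set G := Matrix.ProjectiveSpecialLinearGroup (Fin 2) F
  have h2 : (2 : F) ≠ 0 := by
    refine Ring.two_ne_zero fun h => ?_
    have := FiniteField.even_card_of_char_two h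
    omega
  have hGD : H89.GenDihedral (H89.zEl (F := F)) H89.rotSub :=
    ⟨H89.zEl_sq, H89.zEl_ne_one, H89.rotSub_le, fun _ hx _ hy => H89.rotSub_comm h2 hx hy,
      fun _ hx hx2 => H89.rotSub_involution h2 hx hx2, fun _ hx hxT => H89.outer_sq h2 hx hxT,
      fun _ hx _ hy hxT hyT => H89.outer_mul h2 hx hxT hy hyT, H89.exists_outer h2⟩
  have hone : ∀ x : G, x ≠ 1 → x * x = 1 → ∃ g : G, g * H89.zEl * g⁻¹ = x :=
    fun x hx hx2 => H89.exists_conj_zEl h2 hx hx2
  -- the order
  have h8 : 8 ∣ Nat.card G := by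
    have hc := H37.card_PSL_fin (F := F) 2 (by norm_num)
    rw [Nat.card_eq_fintype_card (α := F), Fin.prod_univ_two] at hc
    set q := Fintype.card F
    have hq : 1 < q := Fintype.one_lt_card
    have hgcd : Nat.gcd 2 (q - 1) = 2 := Nat.gcd_eq_left (by omega)
    rw [hgcd] at hc
    simp only [Fin.val_zero, Fin.val_one, pow_zero, pow_one] at hc
    have hc' : (q - 1) * (2 * Nat.card G) = (q - 1) * ((q + 1) * (q * (q - 1))) := by
      have e1 : q ^ 2 - 1 = (q + 1) * (q - 1) := by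
        rw [← one_pow 2, Nat.sq_sub_sq, one_pow]
      have e2 : q ^ 2 - q = q * (q - 1) := by rw [Nat.mul_sub_one, pow_two]
      rw [e1, e2] at hc
      calc (q - 1) * (2 * Nat.card G) = 2 * ((q - 1) * Nat.card G) := by ring
        _ = _ := hc
        _ = _ := by ring
    have h3 := Nat.eq_of_mul_eq_mul_left (by omega) hc'
    have e1 : q ^ 2 - 1 = (q + 1) * (q - 1) := by rw [← one_pow 2, Nat.sq_sub_sq, one_pow]
    obtain ⟨k, hk⟩ := h16
    refine ⟨q * k, ?_⟩
    have : 2 * Nat.card G = 16 * (q * k) := by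
      rw [h3]
      calc (q + 1) * (q * (q - 1)) = q * ((q + 1) * (q - 1)) := by ring
        _ = q * (16 * k) := by rw [← e1, hk]
        _ = _ := by ring
    omega
  have hS8 : 8 ≤ Nat.card (S : Subgroup G) := by
    have h := S.pow_dvd_card_of_pow_dvd_card (n := 3) h8
    exact Nat.le_of_dvd Nat.card_pos h
  obtain ⟨hgen, hnorm⟩ := H89.genDihedral_sylow hGD hone S hS8
  have hS1 : (S : Subgroup G) ≠ ⊥ := by
    intro h
    rw [h, Subgroup.card_bot] at hS8
    omega
  refine H89.simple_of_inner_top 2 _ (H85.isSaturated_groupFusionSystem S) hS1 ?_ ?_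
  · refine le_antisymm (fun α hα => ?_) (H85.inn_le_autGroup _ le_rfl)
    obtain ⟨-, -, g, hg⟩ := (H85.mem_autGroup le_rfl).1 hα
    have hgS : g ∈ (S : Subgroup G) := by
      rw [← hnorm]
      exact H85.mem_normalizer_of_induced (α := α) hg
    exact ⟨⟨g, hgS⟩, MulEquiv.ext fun x => Subtype.ext (hg x).symm⟩
  · intro T hT
    by_cases hT1 : T = ⊥
    · exact Or.inl hT1
    refine Or.inr (le_antisymm hT.1 ?_)
    have hTp : IsPGroup 2 T := S.isPGroup'.to_le hT.1
    haveI : Nontrivial ↥T := (Subgroup.nontrivial_iff_ne_bot T).mpr hT1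
    obtain ⟨n, hn, hcard⟩ := hTp.nontrivial_iff_card.mp inferInstance
    obtain ⟨t, ht⟩ := exists_prime_orderOf_dvd_card' 2 (G := ↥T) (hcard ▸ dvd_pow_self 2 hn.ne')
    have ht' : orderOf (t : G) = 2 := (Subgroup.orderOf_coe t).trans ht
    rw [← hgen, Subgroup.closure_le]
    rintro x ⟨hxS, hx⟩
    have hne : ∀ y : G, orderOf y = 2 → y ≠ 1 := fun y hy h1 => by
      rw [h1, orderOf_one] at hy; omega
    have hsq : ∀ y : G, orderOf y = 2 → y * y = 1 := fun y hy => by
      rw [← pow_two]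
      exact orderOf_dvd_iff_pow_eq_one.1 hy.dvd
    obtain ⟨g₁, hg₁⟩ := hone _ (hne _ ht') (hsq _ ht')
    obtain ⟨g₂, hg₂⟩ := hone x (hne x hx) (hsq x hx)
    let g := g₂ * g₁⁻¹
    have hgt : g * (t : G) * g⁻¹ = x := by
      have e : g₁⁻¹ * (t : G) * g₁ = H89.zEl := by rw [← hg₁]; group
      calc g * (t : G) * g⁻¹ = g₂ * (g₁⁻¹ * (t : G) * g₁) * g₂⁻¹ := by simp only [g]; group
        _ = x := by rw [e, hg₂]
    have hTle : Subgroup.zpowers (t : G) ≤ T := Subgroup.zpowers_le.2 t.2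
    have hφS : ∀ y : Subgroup.zpowers (t : G), g * (y : G) * g⁻¹ ∈ (S : Subgroup G) := by
      rintro ⟨y, hy⟩
      obtain ⟨k, rfl⟩ := Subgroup.mem_zpowers_iff.1 hy
      show g * (t : G) ^ k * g⁻¹ ∈ _
      rw [← conj_zpow, hgt]
      exact zpow_mem hxS k
    have := hT.2 _ hTle (Cfsg.conjHom _ g) ⟨hTle.trans hT.1, hφS, g, fun _ => rfl⟩
      ⟨(t : G), Subgroup.mem_zpowers _⟩
    simpa [Cfsg.conjHom, hgt] using this

end Cfsg.Agent.S5317
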