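import Cfsg.Statements.S5322
import Cfsg.Agent.S2135
import Cfsg.Agent.H94.J3.Perm
import Cfsg.Agent.H99.J3Fusion
-- import your own Cfsg.Agent.* helpers here

set_option autoImplicit false
open Cfsg

namespace Cfsg.Agent.S5322

/-- For a finite group G isomorphic to the third Janko group J₃, the 2-fusion system of G on a Sylow 2-subgroup is simple: saturated, over a nontrivial 2-group, with no normal subsystem other than the trivial one and itself. -/
theorem result {G : Type*} [Group G] [Finite G] (hG : Cfsg.Spor.IsoJ3 G) (S : Sylow 2 G) : (Cfsg.groupFusionSystem (S : Subgroup G)).IsSimple 2 := by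
  obtain ⟨F, _, _, ω, hF, hω, ⟨e⟩⟩ := hG
  obtain ⟨hconj, t, ht, Q, hQn, hex, hQ, -, ⟨H, hH⟩, ⟨ε⟩⟩ := Cfsg.Agent.S2135.result hF ω hω
  obtain ⟨-, -, -, hcard⟩ := H94.J3.threeJ3_facts hF hω
  haveI : Finite (Cfsg.Spor.J3 F ω) := Finite.of_equiv G e.toEquiv
  obtain ⟨R, χ, h⟩ := H99.J3Fus.exists_data hconj ht Q hex hQ H hH ε
    ⟨392445, by decide, by rw [hcard]⟩
  exact H99.J3Fus.data_transfer e h S

end Cfsg.Agent.S5322
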