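import Cfsg.Statements.S5330
import Cfsg.Agent.H89.AbelianSystem

set_option autoImplicit false
open Cfsg

namespace Cfsg.Agent.S5330

/-- Let F be a saturated fusion system over a finite abelian p-group S. Then S is the internal direct product of the centre of the system and the focal subgroup: Z(F) ∩ foc(F) = 1 and Z(F)·foc(F) = S. -/
theorem result {Ω : Type*} [Group Ω] {S : Subgroup Ω} [Finite S] (p : ℕ) [Fact p.Prime] (hS : IsPGroup p S) (F : Cfsg.FusionSystem S) (hF : F.IsSaturated p) (hab : ∀ x ∈ S, ∀ y ∈ S, x * y = y * x) : F.center ⊓ F.focalSubgroup = ⊥ ∧ F.center ⊔ F.focalSubgroup = S := by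
  classical
  letI : CommGroup ↥S :=
    { (inferInstance : Group ↥S) with mul_comm := fun a b => Subtype.ext (hab a a.2 b b.2) }
  set A := F.autGroup S with hA
  haveI : Finite A := H85.finite_autGroup F (le_refl S)
  haveI := Fintype.ofFinite A
  have hm : ¬ p ∣ Fintype.card A := by
    rw [← Nat.card_eq_fintype_card]
    exact H89.autGroup_top_not_dvd hS hF hab
  obtain ⟨n, hn⟩ := IsPGroup.iff_card.1 hS
  have hcop : (Nat.card ↥S).Coprime (Fintype.card A) := by
    rw [hn]
    exact Nat.Coprime.pow_left n ((Nat.Prime.coprime_iff_not_dvd Fact.out).2 hm)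
  let N : ↥S →* ↥S :=
    { toFun := fun x => ∏ α : A, (α : MulAut ↥S) x
      map_one' := by simp
      map_mul' := fun x y => by simp [Finset.prod_mul_distrib] }
  have hNinv : ∀ (β : A) (x : ↥S), N ((β : MulAut ↥S) x) = N x := fun β x =>
    Fintype.prod_equiv (Equiv.mulRight β) _ _ fun α => rfl
  have hNfix : ∀ (β : A) (x : ↥S), (β : MulAut ↥S) (N x) = N x := fun β x => by
    show (β : MulAut ↥S) (∏ α : A, (α : MulAut ↥S) x) = _
    rw [map_prod]
    exact Fintype.prod_equiv (Equiv.mulLeft β) _ _ fun α => rfl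
  have hNZ : ∀ x : ↥S, ((N x : ↥S) : Ω) ∈ F.center := fun x => by
    rw [H89.center_eq_fixTop hS hF hab]
    exact H89.mem_fixTop.2 ⟨(N x).2, fun α hα => hNfix ⟨α, hα⟩ x⟩
  have hfS : F.focalSubgroup ≤ S := (H89.focal_gen_mem hS hF hab).trans (Subgroup.map_subtype_le _)
  constructor
  · rw [eq_bot_iff]
    rintro z ⟨hzZ, hzf⟩
    rw [H89.center_eq_fixTop hS hF hab] at hzZ
    obtain ⟨hzS, hfix⟩ := H89.mem_fixTop.1 hzZ
    obtain ⟨y, hy, hyz⟩ := H89.focal_gen_mem hS hF hab hzf
    have hyker : y ∈ N.ker := by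
      refine (Subgroup.closure_le _).2 ?_ hy
      rintro _ ⟨α, hα, x, rfl⟩
      show N (x⁻¹ * α x) = 1
      rw [map_mul, map_inv, hNinv ⟨α, hα⟩ x, inv_mul_cancel]
    have hyz' : y = ⟨z, hzS⟩ := Subtype.ext hyz
    rw [hyz'] at hyker
    have h1 : (⟨z, hzS⟩ : ↥S) ^ Fintype.card A = 1 := by
      rw [← hyker]
      show _ = ∏ α : A, (α : MulAut ↥S) ⟨z, hzS⟩
      rw [Finset.prod_congr rfl fun (α : A) _ => hfix α α.2, Finset.prod_const, Finset.card_univ]
    have h2 : (⟨z, hzS⟩ : ↥S) = 1 := by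
      rw [← orderOf_eq_one_iff]
      exact Nat.eq_one_of_dvd_coprimes hcop (orderOf_dvd_natCard _) (orderOf_dvd_of_pow_eq_one h1)
    exact Subgroup.mem_bot.2 (congrArg Subtype.val h2)
  · refine le_antisymm (sup_le ?_ hfS) fun x hx => ?_
    · exact sSup_le fun Q hQ => hQ.1
    have hrel : ∀ y : ↥S, ((y ^ Fintype.card A : ↥S) : Ω) ∈ F.center ⊔ F.focalSubgroup := by
      intro y
      have e : y ^ Fintype.card A = N y * ∏ α : A, ((α : MulAut ↥S) y)⁻¹ * y := by
        show _ = (∏ α : A, (α : MulAut ↥S) y) * _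
        rw [← Finset.prod_mul_distrib]
        simp [Finset.prod_const]
      rw [e, Subgroup.coe_mul]
      refine Subgroup.mul_mem_sup (hNZ y) ?_
      have : (∏ α : A, ((α : MulAut ↥S) y)⁻¹ * y) ∈ (F.focalSubgroup).subgroupOf S := by
        refine Subgroup.prod_mem _ fun α _ => ?_
        rw [Subgroup.mem_subgroupOf, Subgroup.coe_mul, Subgroup.coe_inv]
        have hmem := (H85.mem_autGroup (le_refl S)).1 α.2
        have h := Subgroup.inv_mem _ (Subgroup.subset_closure
          (show (y : Ω)⁻¹ * (((α : MulAut ↥S) y : ↥S) : Ω) ∈ _ from ⟨S, _, y, hmem, rfl⟩) :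
            (y : Ω)⁻¹ * (((α : MulAut ↥S) y : ↥S) : Ω) ∈ F.focalSubgroup)
        rw [mul_inv_rev, inv_inv] at h
        exact h
      exact this
    obtain ⟨y, hy⟩ := (powCoprime hcop).surjective ⟨x, hx⟩
    have hxy : ((y ^ Fintype.card A : ↥S) : Ω) = x := congrArg Subtype.val hy
    rw [← hxy]
    exact hrel y

end Cfsg.Agent.S5330
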