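import Cfsg.Statements.S5331
import Cfsg.Agent.H89.AbelianSystem

set_option autoImplicit false
open Cfsg

namespace Cfsg.Agent.S5331

/-- An automorphism of odd order of an abelian 2-group with pairwise distinct invariants is trivial. -/
theorem aut_trivial (n : ℕ) (a : Fin n → ℕ) (ha : Function.Injective a)
    (σ : ((i : Fin n) → ZMod (2 ^ a i)) ≃+ ((i : Fin n) → ZMod (2 ^ a i)))
    (m : ℕ) (hm : Odd m) (hσ : ∀ v, (fun w => σ w)^[m] v = v) : ∀ v, σ v = v := by
  classical
  set M := (i : Fin n) → ZMod (2 ^ a i)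
  -- an element whose difference is fixed and killed by a power of two is fixed
  have step : ∀ v w : M, σ v = v + w → σ w = w → m • w = 0 := by
    intro v w hv hw
    have : ∀ j : ℕ, (fun w => σ w)^[j] v = v + j • w := by
      intro j
      induction j with
      | zero => simp
      | succ j ih =>
        rw [Function.iterate_succ_apply', ih]
        show σ (v + j • w) = _
        rw [map_add, map_nsmul, hw, hv, succ_nsmul]
        abel
    have h := this m
    rw [hσ v] at h
    exact left_eq_add.1 h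
  have two : ∀ (k : ℕ) (w : M), 2 ^ k • w = 0 → m • w = 0 → w = 0 := by
    intro k w h1 h2
    have hc : Nat.Coprime (2 ^ k) m := Nat.Coprime.pow_left k (Nat.coprime_two_left.2 hm)
    have hd : addOrderOf w = 1 := Nat.eq_one_of_dvd_coprimes hc
      (addOrderOf_dvd_of_nsmul_eq_zero h1) (addOrderOf_dvd_of_nsmul_eq_zero h2)
    exact AddMonoid.addOrderOf_eq_one_iff.1 hd
  -- the filtration of the elements of order two
  let V : ℕ → Set M := fun k => {v | 2 • v = 0 ∧ ∀ i, a i ≤ k → v i = 0}
  have hpre : ∀ k (v : M), v ∈ V k ↔ (2 • v = 0 ∧ ∃ u : M, 2 ^ k • u = v) := by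
    intro k v
    constructor
    · rintro ⟨h2, hv⟩
      refine ⟨h2, ?_⟩
      have : ∀ i, ∃ u : ZMod (2 ^ a i), 2 ^ k • u = v i := by
        intro i
        by_cases hik : a i ≤ k
        · exact ⟨0, by rw [hv i hik, smul_zero]⟩
        push_neg at hik
        obtain ⟨c, hc⟩ := ZMod.natCast_zmod_surjective (v i)
        have h2i : (2 : ℕ) • v i = 0 := congrFun h2 i
        rw [← hc, nsmul_eq_mul, ← Nat.cast_mul, ZMod.natCast_eq_zero_iff] at h2i
        obtain ⟨d, hd⟩ := h2i
        obtain ⟨e, he⟩ : ∃ e, a i = k + 1 + e := ⟨a i - (k + 1), by omega⟩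
        refine ⟨((2 ^ e * d : ℕ) : ZMod (2 ^ a i)), ?_⟩
        rw [← hc, nsmul_eq_mul, ← Nat.cast_mul]
        congr 1
        have h3 : 2 * c = 2 * (2 ^ k * (2 ^ e * d)) := by
          rw [hd, he]; ring
        omega
      choose u hu using this
      exact ⟨u, funext hu⟩
    · rintro ⟨h2, u, rfl⟩
      refine ⟨h2, fun i hi => ?_⟩
      show 2 ^ k • u i = 0
      rw [nsmul_eq_mul]
      have : ((2 ^ k : ℕ) : ZMod (2 ^ a i)) = 0 :=
        (ZMod.natCast_eq_zero_iff _ _).2 (pow_dvd_pow 2 hi)
      rw [this, zero_mul]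
  have hσV : ∀ k v, v ∈ V k → σ v ∈ V k := by
    intro k v hv
    obtain ⟨h2, u, rfl⟩ := (hpre k v).1 hv
    exact (hpre k _).2 ⟨by rw [← map_nsmul, h2, map_zero], σ u, by rw [map_nsmul]⟩
  have hfix : ∀ d k : ℕ, (∀ i, a i < k + d) → ∀ v ∈ V k, σ v = v := by
    intro d
    induction d with
    | zero =>
      intro k hk v hv
      have : v = 0 := funext fun i => hv.2 i (hk i).le
      rw [this, map_zero]
    | succ d ih =>
      intro k hk v hv
      have ih' := ih (k + 1) (fun i => by have := hk i; omega)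
      by_cases hv1 : v ∈ V (k + 1)
      · exact ih' v hv1
      have hw : σ v - v ∈ V (k + 1) := by
        refine ⟨by rw [nsmul_sub, ← map_nsmul, hv.1, map_zero, sub_zero], fun i hi => ?_⟩
        rcases Nat.lt_or_eq_of_le hi with hlt | heq
        · show σ v i - v i = 0
          rw [(hσV k v hv).2 i (by omega), hv.2 i (by omega), sub_zero]
        · -- the unique coordinate of height `k + 1`
          have huniq : ∀ u ∈ V k, u ∉ V (k + 1) → u i ≠ 0 := by
            intro u hu hu1 h0
            refine hu1 ⟨hu.1, fun j hj => ?_⟩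
            rcases Nat.lt_or_eq_of_le hj with hlt' | heq'
            · exact hu.2 j (by omega)
            · rw [ha (heq'.trans heq.symm)]; exact h0
          have hsv : σ v ∉ V (k + 1) := fun h => hv1 (by
            have := ih' _ h
            rw [σ.injective this] at h
            exact h)
          have hval : ∀ x : ZMod (2 ^ a i), 2 • x = 0 → x ≠ 0 → x = ((2 ^ k : ℕ) : ZMod (2 ^ a i)) := by
            intro x hx hx0
            obtain ⟨c, rfl⟩ := ZMod.natCast_zmod_surjective x
            rw [nsmul_eq_mul, ← Nat.cast_mul, ZMod.natCast_eq_zero_iff, heq, pow_succ'] at hx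
            rw [Ne, ZMod.natCast_eq_zero_iff, heq] at hx0
            obtain ⟨e, rfl⟩ : 2 ^ k ∣ c := Nat.dvd_of_mul_dvd_mul_left two_pos hx
            rw [← ZMod.natCast_mod]
            rw [ZMod.natCast_eq_natCast_iff']
            rcases Nat.even_or_odd e with ⟨f, hf⟩ | ⟨f, hf⟩
            · exfalso
              exact hx0 ⟨f, by rw [hf, pow_succ]; ring⟩
            · rw [Nat.mod_mod, hf, heq, pow_succ,
                show 2 ^ k * (2 * f + 1) = 2 ^ k + 2 ^ k * 2 * f by ring, Nat.add_mul_mod_self_left]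
          have e1 := hval _ (congrFun (hσV k v hv).1 i) (huniq _ (hσV k v hv) hsv)
          have e2 := hval _ (congrFun hv.1 i) (huniq _ hv hv1)
          show σ v i - v i = 0
          rw [e1, e2, sub_self]
      have h1 := step v (σ v - v) (by abel) (ih' _ hw)
      exact sub_eq_zero.1 (two 1 _ (by rw [pow_one]; exact hw.1) h1)
  have hV0 : ∀ v : M, 2 • v = 0 → σ v = v := by
    intro v hv
    refine hfix (Finset.univ.sup a + 1) 0 (fun i => ?_) v ⟨hv, fun i hi => ?_⟩
    · have := Finset.le_sup (f := a) (Finset.mem_univ i)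
      omega
    · haveI : Subsingleton (ZMod (2 ^ a i)) := by
        rw [Nat.le_zero.1 hi, pow_zero]
        infer_instance
      exact Subsingleton.elim _ _
  have hall : ∀ k : ℕ, ∀ v : M, 2 ^ k • v = 0 → σ v = v := by
    intro k
    induction k with
    | zero =>
      intro v hv
      rw [pow_zero, one_smul] at hv
      rw [hv, map_zero]
    | succ k ih =>
      intro v hv
      have h2v : σ (2 • v) = 2 • v := ih _ (by rw [← mul_smul, ← pow_succ, hv])
      have hw : 2 • (σ v - v) = 0 := by rw [nsmul_sub, ← map_nsmul, h2v, sub_self]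
      have h1 := step v (σ v - v) (by abel) (hV0 _ hw)
      exact sub_eq_zero.1 (two 1 _ (by rw [pow_one]; exact hw) h1)
  intro v
  refine hall (Finset.univ.sup a) v (funext fun i => ?_)
  show 2 ^ Finset.univ.sup a • v i = 0
  rw [nsmul_eq_mul, (ZMod.natCast_eq_zero_iff _ _).2
    (pow_dvd_pow 2 (Finset.le_sup (f := a) (Finset.mem_univ i))), zero_mul]

/-- Let S be a finite abelian 2-group that is a direct product of cyclic groups of pairwise distinct orders 2^{a_1} < 2^{a_2} < ⋯ < 2^{a_n} (all a_i ≥ 1). Then every saturated fusion system over S is the inner one: its maps are exactly the conjugations by elements of S. -/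
theorem result {Ω : Type*} [Group Ω] {S : Subgroup Ω} [Finite S] (n : ℕ) (a : Fin n → ℕ) (ha : StrictMono a) (ha1 : ∀ i, 1 ≤ a i) (e : ↥S ≃* Multiplicative ((i : Fin n) → ZMod (2 ^ a i))) (F : Cfsg.FusionSystem S) (hF : F.IsSaturated 2) (P : Subgroup Ω) : F.Hom P = (Cfsg.innerFusionSystem S).Hom P := by
  classical
  haveI : Fact (Nat.Prime 2) := ⟨Nat.prime_two⟩
  have hS : IsPGroup 2 ↥S := by
    refine IsPGroup.of_card (n := ∑ i, a i) ?_
    rw [Nat.card_congr e.toEquiv, Nat.card_congr Multiplicative.toAdd, Nat.card_pi,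
      ← Finset.prod_pow_eq_pow_sum]
    exact Finset.prod_congr rfl fun i _ => Nat.card_zmod _
  have hab : ∀ x ∈ S, ∀ y ∈ S, x * y = y * x := fun x hx y hy =>
    congrArg Subtype.val (e.injective (by rw [map_mul, map_mul, mul_comm]) :
      (⟨x, hx⟩ : ↥S) * ⟨y, hy⟩ = ⟨y, hy⟩ * ⟨x, hx⟩)
  refine H89.hom_eq_inner_of_autGroup_top hS hF hab (eq_bot_iff.2 fun α hα => ?_) P
  haveI := H85.finite_autGroup F (le_refl S)
  have hodd : Odd (orderOf α) := by
    rw [← Nat.not_even_iff_odd, even_iff_two_dvd]
    intro h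
    refine H89.autGroup_top_not_dvd hS hF hab (h.trans ?_)
    rw [← Subgroup.orderOf_mk α hα]
    exact orderOf_dvd_natCard _
  let σ : ((i : Fin n) → ZMod (2 ^ a i)) ≃+ ((i : Fin n) → ZMod (2 ^ a i)) :=
    MulEquiv.toAdditiveLeft.symm.symm ((e.symm.trans α).trans e) |> fun f => f
  have hσ : ∀ v, σ v = Multiplicative.toAdd (e (α (e.symm (Multiplicative.ofAdd v)))) := fun v => rfl
  have hpow : ∀ (j : ℕ) v, (fun w => σ w)^[j] v =
      Multiplicative.toAdd (e ((α ^ j) (e.symm (Multiplicative.ofAdd v)))) := by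
    intro j v
    induction j with
    | zero => simp
    | succ j ih =>
      rw [Function.iterate_succ_apply', ih, hσ, ofAdd_toAdd, MulEquiv.symm_apply_apply, pow_succ',
        MulAut.mul_apply]
  have h := aut_trivial n a ha.injective σ (orderOf α) hodd fun v => by
    rw [hpow, pow_orderOf_eq_one, MulAut.one_apply, MulEquiv.apply_symm_apply, toAdd_ofAdd]
  refine Subgroup.mem_bot.2 (MulEquiv.ext fun x => ?_)
  have h1 := h (Multiplicative.toAdd (e x))
  rw [hσ, ofAdd_toAdd, MulEquiv.symm_apply_apply] at h1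
  exact e.injective (Multiplicative.toAdd.injective h1)

end Cfsg.Agent.S5331
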