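import Cfsg.Statements.S5343
import Cfsg.Agent.H89.SimpleRealize

set_option autoImplicit false
universe u
open Cfsg

namespace Cfsg.Agent.S5343

/-- Let F be a simple saturated fusion system over a finite p-group S that is realized by some finite group on a Sylow p-subgroup. Then F is realized by a finite simple group on a Sylow p-subgroup. -/
theorem result {Ω : Type u} [Group Ω] {S : Subgroup Ω} [Finite S] (p : ℕ) [Fact p.Prime] (hS : IsPGroup p S) (F : Cfsg.FusionSystem S) (hsimple : F.IsSimple p) (hreal : F.IsRealizable p) : ∃ (G : Type u) (_ : Group G) (_ : Finite G) (_ : IsSimpleGroup G) (ι : ↥S →* G), F.IsRealizedBy ι ∧ ∃ T : Sylow p G, (T : Subgroup G) = ι.range := by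
  classical
  have hex : ∃ n : ℕ, ∃ (G : Type u) (_ : Group G) (_ : Finite G) (ι : ↥S →* G),
      (F.IsRealizedBy ι ∧ ∃ T : Sylow p G, (T : Subgroup G) = ι.range) ∧ Nat.card G = n := by
    obtain ⟨G, i1, i2, ι, h⟩ := hreal
    exact ⟨_, G, i1, i2, ι, h, rfl⟩
  obtain ⟨G, i1, i2, ι, ⟨h, T, hT⟩, hcard⟩ := Nat.find_spec hex
  have hmin : ∀ (H : Type u) (_ : Group H) (_ : Finite H) (j : ↥S →* H), F.IsRealizedBy j →
      (∃ U : Sylow p H, (U : Subgroup H) = j.range) → Nat.card G ≤ Nat.card H := by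
    intro H j1 j2 j hj hU
    rw [hcard]
    exact Nat.find_min' hex ⟨H, j1, j2, j, ⟨hj, hU⟩, rfl⟩
  haveI := H1.pPrimeCore_normal' p G
  have hcore : Cfsg.pPrimeCore p G = ⊥ := by
    set N := Cfsg.pPrimeCore p G with hN
    obtain ⟨h1, h2⟩ := H89.realizes_quotient h T hT N (H1.card_pPrimeCore_coprime p G)
    have h3 := hmin (G ⧸ N) inferInstance inferInstance _ h1 h2
    have h4 := Subgroup.card_eq_card_quotient_mul_card_subgroup N
    have h5 : 0 < Nat.card (G ⧸ N) := Nat.card_pos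
    refine Subgroup.eq_bot_of_card_eq N ?_
    have h6 : 0 < Nat.card N := Nat.card_pos
    by_contra h7
    have h8 : Nat.card (G ⧸ N) * 2 ≤ Nat.card (G ⧸ N) * Nat.card N :=
      Nat.mul_le_mul_left _ (by omega)
    omega
  refine ⟨G, i1, i2, H89.isSimpleGroup_of_minimal hsimple h T hT hcore ?_, ι, h, T, hT⟩
  intro N _ hιN hreal'
  let j : ↥S →* N := ι.codRestrict N hιN
  have hj : F.IsRealizedBy j := by
    refine ⟨fun a b hab => h.1 (congrArg Subtype.val hab), fun P hP φ hφ => ⟨fun hφF => ?_, ?_⟩⟩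
    · obtain ⟨n, hn, hnx⟩ := hreal' P hP φ hφ hφF
      exact ⟨⟨n, hn⟩, fun x => Subtype.ext (hnx x)⟩
    · rintro ⟨g, hg⟩
      exact (h.2 P hP φ hφ).2 ⟨g, fun x => congrArg Subtype.val (hg x)⟩
  have hle : (T : Subgroup G) ≤ N := by
    rw [hT]
    rintro _ ⟨x, rfl⟩
    exact hιN x
  have hU : ((T.subtype hle : Sylow p N) : Subgroup N) = j.range := by
    rw [Sylow.coe_subtype]
    ext y
    rw [Subgroup.mem_subgroupOf, hT]
    exact ⟨fun ⟨x, hx⟩ => ⟨x, Subtype.ext hx⟩, fun ⟨x, hx⟩ => ⟨x, congrArg Subtype.val hx⟩⟩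
  exact Subgroup.eq_top_of_le_card N (hmin N inferInstance inferInstance j hj ⟨_, hU⟩)

end Cfsg.Agent.S5343
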