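import Cfsg.Statements.S5348
import Cfsg.Agent.H99.TTCores

set_option autoImplicit false
open Cfsg

namespace Cfsg.Agent.S5348

/-- Let D be a conjugation-invariant generating set of 3-transpositions of a finite group G and d a member of D. Let V be the set of members of D commuting with exactly the same members of D as d, and W the set of members w of D such that the members of D other than w commuting with w are precisely the members of D other than d commuting with d. Then V = {d} or W = {d}. -/
theorem result {G : Type*} [Group G] [Finite G] {D : Set G} (hD : Cfsg.IsThreeTranspositionGroup D) {d : G} (hd : d ∈ D) : {v : G | v ∈ D ∧ ∀ e ∈ D, Commute v e ↔ Commute d e} = {d} ∨ {w : G | w ∈ D ∧ {y : G | y ∈ D ∧ y ≠ d ∧ Commute d y} = {y : G | y ∈ D ∧ y ≠ w ∧ Commute w y}} = {d} := by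
  obtain ⟨hT, hconj, -⟩ := hD
  by_cases hv : ∀ v ∈ D, H99.VRel D d v → v = d
  · exact Or.inl (Set.eq_singleton_iff_unique_mem.2
      ⟨⟨hd, fun _ _ => Iff.rfl⟩, fun v h => hv v h.1 h.2⟩)
  · push Not at hv
    obtain ⟨v, hvD, hV, hvd⟩ := hv
    exact Or.inr (Set.eq_singleton_iff_unique_mem.2
      ⟨⟨hd, rfl⟩, fun w h => (H99.v_or_w_trivial hd hvD h.1 hV h.2).resolve_left hvd⟩)

end Cfsg.Agent.S5348
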