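import Cfsg.Statements.S5354
import Cfsg.Agent.H99.TTFischer
-- import your own Cfsg.Agent.* helpers here

set_option autoImplicit false
open Cfsg

namespace Cfsg.Agent.S5354

/-- Let D be a conjugation-invariant generating set of 3-transpositions of the finite group G on which G acts primitively by conjugation, and suppose two different members of D commute (width at least 2). Then G has a quasisimple normal subgroup L of index at most 2 with the generalized Fitting subgroup of G equal to L times the centre, the commuting graph of D is connected, and for d in D the subgroup generated by the members of D commuting with d is a maximal D-subgroup: it is proper, and every subgroup generated by members of D that contains it is either it or G. -/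
theorem result {G : Type*} [Group G] [Finite G] {D : Set G} (hD : Cfsg.IsThreeTranspositionGroup D) (hprim : Cfsg.IsPrimitiveUnderConj D) (hw : ∃ a ∈ D, ∃ b ∈ D, a ≠ b ∧ Commute a b) : (∃ L : Subgroup G, L.Normal ∧ Cfsg.IsQuasisimple L ∧ L.index ≤ 2 ∧ Cfsg.generalizedFittingSubgroup G = L ⊔ Subgroup.center G) ∧ (Cfsg.commutingGraph D).Connected ∧ ∀ d ∈ D, Subgroup.closure {y : G | y ∈ D ∧ Commute d y} ≠ ⊤ ∧ ∀ H : Subgroup G, Cfsg.IsDSubgroup D H → Subgroup.closure {y : G | y ∈ D ∧ Commute d y} ≤ H → H = Subgroup.closure {y : G | y ∈ D ∧ Commute d y} ∨ H = ⊤ := by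
  have hcl := H99.class_of_primitive hD hprim
  obtain ⟨L, hLn, hL, hidx, hF⟩ := H99.prim_component hcl hprim hw
  refine ⟨⟨L, hLn, hL.2, hidx, hF⟩, H99.connected_of_primitive hcl hprim hw, fun d hd => ⟨?_, ?_⟩⟩
  · intro htop
    obtain ⟨e, he, hde⟩ := H99.class_exists_not_commute hcl hprim.2.1 hd
    exact hde (H99.perpIns_commute (D := D) (htop ▸ Subgroup.mem_top e : e ∈ _)).symm
  · intro H hH hle
    by_cases h : ∃ e, e ∈ D ∧ e ∈ H ∧ ¬ Commute d e
    · right
      obtain ⟨e, he, heH, hde⟩ := h
      rw [eq_top_iff, ← hD.2.2, Subgroup.closure_le]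
      intro x hx
      by_cases hdx : Commute d x
      · exact hle (Subgroup.subset_closure ⟨hx, hdx⟩)
      · obtain ⟨k, hk, rfl⟩ := H99.trans_on_noncommuting hcl hprim hw hd he hde hx hdx
        exact mul_mem (mul_mem (hle hk) heH) (inv_mem (hle hk))
    · left
      push Not at h
      refine le_antisymm ?_ hle
      rw [← show Subgroup.closure {x : G | x ∈ D ∧ x ∈ H} = H from hH, Subgroup.closure_le]
      exact fun x hx => Subgroup.subset_closure ⟨hx.1, h x hx.1 hx.2⟩

end Cfsg.Agent.S5354
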