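import Cfsg.Statements.S5363


set_option autoImplicit false
open Cfsg

namespace Cfsg.Agent.S5363

/-- Let D be a conjugation-invariant set of involutions of a finite group G. Then every product of two members of D has odd order or order 2 if and only if, for every a in D and every b in D different from a and commuting with a, the members of D commuting with a b are exactly those commuting with both a and b. -/
theorem result {G : Type*} [Group G] [Finite G] {D : Set G} (hinv : ∀ d ∈ D, orderOf d = 2) (hconj : ∀ g : G, ∀ d ∈ D, g * d * g⁻¹ ∈ D) : (∀ a ∈ D, ∀ b ∈ D, Odd (orderOf (a * b)) ∨ orderOf (a * b) = 2) ↔ ∀ a ∈ D, ∀ b ∈ D, b ≠ a → Commute a b → {y : G | y ∈ D ∧ Commute (a * b) y} = {y : G | y ∈ D ∧ Commute a y} ∩ {y : G | y ∈ D ∧ Commute b y} := by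
  have sq : ∀ d ∈ D, d * d = 1 := by
    intro d hd
    have := pow_orderOf_eq_one d
    rwa [hinv d hd, pow_two] at this
  have inv_self : ∀ d ∈ D, d⁻¹ = d := fun d hd => inv_eq_of_mul_eq_one_right (sq d hd)
  have comm2 : ∀ u ∈ D, ∀ v ∈ D, (u * v) ^ 2 = 1 → Commute u v := by
    intro u hu v hv h
    rw [pow_two] at h
    have h2 : (u * v)⁻¹ = u * v := inv_eq_of_mul_eq_one_right h
    rw [mul_inv_rev, inv_self u hu, inv_self v hv] at h2
    exact h2.symm
  constructor
  · intro hodd a ha b hb hne hab
    ext y
    simp only [Set.mem_setOf_eq, Set.mem_inter_iff]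
    refine ⟨fun ⟨hy, hc⟩ => ?_, fun ⟨⟨hy, h1⟩, ⟨_, h2⟩⟩ => ⟨hy, h1.mul_left h2⟩⟩
    suffices h1 : Commute a y by
      refine ⟨⟨hy, h1⟩, hy, ?_⟩
      have h3 := (h1.inv_left).mul_left hc
      simpa [← mul_assoc] using h3
    by_contra hn
    have hay : Odd (orderOf (a * y)) := by
      rcases hodd a ha y hy with h | h
      · exact h
      · exfalso
        have h4 := pow_orderOf_eq_one (a * y)
        rw [h] at h4
        exact hn (comm2 a ha y hy h4)
    set a' := y * a * y⁻¹ with ha'
    set b' := y * b * y⁻¹ with hb'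
    set r := a * a' with hr
    have hb'D : b' ∈ D := hconj y b hb
    have ha'D : a' ∈ D := hconj y a ha
    have hba : b' * a' = b * a := by
      calc b' * a' = y * (b * a) * y⁻¹ := by rw [ha', hb']; group
        _ = (b * a) * y * y⁻¹ := by rw [← hab.eq, hc.eq]
        _ = b * a := by group
    have hb'eq : b' = b * a * a' := by
      rw [← hba, mul_assoc, sq a' ha'D, mul_one]
    have hbr : b * b' = r := by
      rw [hb'eq, hr]; simp [← mul_assoc, sq b hb]
    have hbr2 : b' * b = r⁻¹ := by
      rw [← hbr, mul_inv_rev, inv_self b hb, inv_self b' hb'D]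
    have har2 : a' * a = r⁻¹ := by
      rw [hr, mul_inv_rev, inv_self a ha, inv_self a' ha'D]
    have hcomm : Commute (a * b) r := by
      have e2 : a * r⁻¹ * a = r := by
        rw [← har2, hr]; simp [mul_assoc, sq a ha]
      have e1 : b * r * b = r⁻¹ := by
        rw [← hbr2, ← hbr]; simp [← mul_assoc, sq b hb]
      show a * b * r = r * (a * b)
      calc a * b * r = a * (b * r * b) * b := by simp [mul_assoc, sq b hb]
        _ = a * r⁻¹ * b := by rw [e1]
        _ = (a * r⁻¹ * a) * (a * b) := by rw [← mul_assoc _ a b, mul_assoc (a * r⁻¹) a a, sq a ha, mul_one]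
        _ = r * (a * b) := by rw [e2]
    have hrsq : r = (a * y) ^ 2 := by
      rw [hr, ha', inv_self y hy, pow_two]; group
    have hrodd : Odd (orderOf r) := by
      rw [hrsq]
      exact hay.of_dvd_nat (orderOf_pow_dvd 2)
    have hab2 : orderOf (a * b) = 2 := by
      haveI : Fact (Nat.Prime 2) := ⟨Nat.prime_two⟩
      refine orderOf_eq_prime ?_ ?_
      · rw [hab.mul_pow, pow_two, pow_two, sq a ha, sq b hb, mul_one]
      · intro h
        apply hne
        rw [← inv_self a ha]
        exact (inv_eq_of_mul_eq_one_right h).symm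
    have hab' : a * b' = a * b * r := by
      rw [← hbr]; simp [mul_assoc]; simp [← mul_assoc, sq b hb]
    have hord : orderOf (a * b') = 2 * orderOf r := by
      rw [hab', hcomm.orderOf_mul_eq_mul_orderOf_of_coprime, hab2]
      rw [hab2]
      exact Nat.coprime_two_left.mpr hrodd
    have hr1 : orderOf r = 1 := by
      rcases hodd a ha b' hb'D with h | h
      · rw [hord] at h
        exact absurd h (by simp [Nat.odd_iff])
      · omega
    rw [orderOf_eq_one_iff, hrsq] at hr1
    exact hn (comm2 a ha y hy hr1)
  · intro hC a ha b hb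
    by_contra hcon
    obtain ⟨hodd, h2⟩ := not_or.1 hcon
    rw [Nat.not_odd_iff_even] at hodd
    obtain ⟨m, hm⟩ := hodd
    have hpos := orderOf_pos (a * b)
    have hm2 : 2 ≤ m := by omega
    set z := (a * b) ^ m with hz
    have hz1 : z ≠ 1 := by
      intro h
      have := Nat.le_of_dvd (by omega) (orderOf_dvd_of_pow_eq_one h)
      omega
    have hzz : z * z = 1 := by
      rw [hz, ← pow_add, ← hm, pow_orderOf_eq_one]
    have hswap : ∀ k : ℕ, a * (a * b) ^ k = (b * a) ^ k * a := by
      intro k
      have : SemiconjBy a (a * b) (b * a) := by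
        show a * (a * b) = b * a * a
        simp [mul_assoc, sq a ha]; simp [← mul_assoc, sq a ha]
      exact this.pow_right k
    have hbainv : (b * a) = (a * b)⁻¹ := by rw [mul_inv_rev, inv_self a ha, inv_self b hb]
    have hzinv : (b * a) ^ m = z := by
      rw [hbainv, inv_pow, ← hz]; exact inv_eq_of_mul_eq_one_right hzz
    have hza : Commute a z := by
      show a * z = z * a
      rw [hz, hswap m, hzinv]
    have hzab : Commute z (a * b) := Commute.pow_self (a * b) m
    have hzb : Commute z b := by
      have := (hza.symm.inv_right).mul_right hzab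
      simpa [← mul_assoc] using this
    have hcD : a * z ∈ D := by
      rcases Nat.even_or_odd m with ⟨k, hk⟩ | ⟨k, hk⟩
      · have : a * z = (b * a) ^ k * a * ((b * a) ^ k)⁻¹ := by
          rw [hz, hk, pow_add, ← mul_assoc, hswap k, hbainv, inv_pow, inv_inv]
        rw [this]; exact hconj _ a ha
      · have : a * z = (b * a) ^ k * b * ((b * a) ^ k)⁻¹ := by
          rw [hz, hk, show 2 * k + 1 = k + (1 + k) by ring, pow_add, pow_add, pow_one,
            ← mul_assoc, hswap k, hbainv, inv_pow, inv_inv, mul_assoc, ← mul_assoc a,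
            ← mul_assoc a a b, sq a ha, one_mul, ← mul_assoc]
        rw [this]; exact hconj _ b hb
    have hne : a * z ≠ a := by simpa using hz1
    have hcomm : Commute a (a * z) := (Commute.refl a).mul_right hza
    have hset := hC a ha (a * z) hcD hne hcomm
    have hmem : b ∈ {y : G | y ∈ D ∧ Commute (a * (a * z)) y} := by
      refine ⟨hb, ?_⟩
      rw [← mul_assoc, sq a ha, one_mul]; exact hzb
    rw [hset] at hmem
    have hab : Commute a b := hmem.1.2
    have : (a * b) ^ 2 = 1 := by rw [hab.mul_pow, pow_two, pow_two, sq a ha, sq b hb, mul_one]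
    have := Nat.le_of_dvd (by omega) (orderOf_dvd_of_pow_eq_one this)
    omega

end Cfsg.Agent.S5363
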