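import Cfsg.Statements.S5364
import Cfsg.Agent.H99.TTBasic

set_option autoImplicit false
open Cfsg

namespace Cfsg.Agent.S5364

/-- Let D be a conjugation-invariant set of involutions of a finite group G and t an involution in the centre of G such that d t does not lie in D for any d in D. If the images of the members of D in G modulo the subgroup generated by t satisfy the 3-transposition order conditions (each has order 2 and any two have product of order at most 3), then so do the members of D. -/
theorem result {G : Type*} [Group G] [Finite G] {D : Set G} (hinv : ∀ d ∈ D, orderOf d = 2) (hconj : ∀ g : G, ∀ d ∈ D, g * d * g⁻¹ ∈ D) (t : G) (ht : orderOf t = 2) (htZ : t ∈ Subgroup.center G) (hDt : ∀ d ∈ D, d * t ∉ D) [(Subgroup.zpowers t).Normal] (himg : Cfsg.IsThreeTranspositionSet ((QuotientGroup.mk : G → G ⧸ Subgroup.zpowers t) '' D)) : Cfsg.IsThreeTranspositionSet D := by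
  set N := Subgroup.zpowers t with hN
  have tt : t * t = 1 := by
    have := pow_orderOf_eq_one t
    rwa [ht, pow_two] at this
  have hmem : ∀ x ∈ N, x = 1 ∨ x = t := by
    intro x hx
    obtain ⟨k, rfl⟩ := hx
    rcases Int.even_or_odd k with ⟨j, rfl⟩ | ⟨j, rfl⟩
    · left
      show t ^ (j + j) = 1
      rw [zpow_add, ← (Commute.refl t).mul_zpow, tt, one_zpow]
    · right
      show t ^ (2 * j + 1) = t
      rw [zpow_add_one, two_mul, zpow_add, ← (Commute.refl t).mul_zpow, tt, one_zpow, one_mul]
  have sq : ∀ d ∈ D, d * d = 1 := by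
    intro d hd
    have := pow_orderOf_eq_one d
    rwa [hinv d hd, pow_two] at this
  have inv_self : ∀ d ∈ D, d⁻¹ = d := fun d hd => inv_eq_of_mul_eq_one_right (sq d hd)
  refine ⟨hinv, fun d hd e he => ?_⟩
  have h := himg.2 _ ⟨d, hd, rfl⟩ _ ⟨e, he, rfl⟩
  rcases h with h | h
  · left
    have h' : (d * e) ^ 2 ∈ N := by
      rw [← QuotientGroup.eq_one_iff]; simpa using h
    rcases hmem _ h' with h1 | h1
    · exact h1
    · exfalso
      apply hDt d hd
      have : d * t = e * d * e⁻¹ := by
        rw [← h1, inv_self e he, pow_two]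
        simp only [← mul_assoc]; rw [sq d hd, one_mul]
      rw [this]; exact hconj e d hd
  · right
    have h' : (d * e) ^ 3 ∈ N := by
      rw [← QuotientGroup.eq_one_iff]; simpa using h
    rcases hmem _ h' with h1 | h1
    · exact h1
    · exfalso
      apply hDt d hd
      have : d * t = (e * d) * e * (e * d)⁻¹ := by
        rw [← h1, mul_inv_rev, inv_self e he, inv_self d hd, pow_succ, pow_two]
        simp only [← mul_assoc]; rw [sq d hd, one_mul]
      rw [this]; exact hconj (e * d) e he

end Cfsg.Agent.S5364
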