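import Cfsg.Statements.S5375
import Cfsg.Agent.H65.Fischer.Orders
import Cfsg.Agent.H65.Fischer.Width
import Cfsg.Agent.H99.TTFischer
import Cfsg.Agent.H49.Parity.Commutator
-- import your own Cfsg.Agent.* helpers here

set_option autoImplicit false
open Cfsg

namespace Cfsg.Agent.S5375

/-- Let G be a finite group with trivial centre generated by a conjugation-invariant set D of 3-transpositions on which it acts primitively, of type M(24). Then the layer of G (its largest semisimple normal subgroup) has index 2, D has exactly 306936 members, G has order 2^22 · 3^16 · 5^2 · 7^3 · 11 · 13 · 17 · 23 · 29, the width of D is 24, and for every d in D the subgroup generated by the members of D other than d commuting with d is the centralizer of d. -/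
theorem result {G : Type*} [Group G] [Finite G] {D : Set G} (hD : Cfsg.IsThreeTranspositionGroup D) (hprim : Cfsg.IsPrimitiveUnderConj D) (ht : Cfsg.IsOfTypeM24 G D) : (Cfsg.layer G).index = 2 ∧ D.ncard = 306936 ∧ Nat.card G = 2 ^ 22 * 3 ^ 16 * 5 ^ 2 * 7 ^ 3 * 11 * 13 * 17 * 23 * 29 ∧ Cfsg.commutingWidth D = 24 ∧ ∀ d ∈ D, Subgroup.closure {y : G | y ∈ D ∧ y ≠ d ∧ Commute d y} = Subgroup.centralizer ({d} : Set G) := by
  have hS := H65.Fischer.m24_setting hD hprim ht
  refine ⟨?_, (H65.Fischer.m24_good hD hprim ht).srg.card, H65.Fischer.card_m24 hD hprim ht,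
    H65.Fischer.width_m24 hD hprim ht,
    fun d hd => ((H65.Fischer.m24_good hD hprim ht).cent d hd).symm⟩
  obtain ⟨L, hLn, hL, hlayer, -⟩ := H99.exists_quasisimple hS.cls hprim.2.1
    (H99.prim_pCore_two hS.cls hprim) (H99.prim_pCore_three hS.cls hprim hS.wide)
  have h2 : L.index ≤ 2 := H99.index_le_two_of_connected hS.cls hL
    (H99.connected_of_primitive hS.cls hprim hS.wide)
  rw [hlayer]
  obtain ⟨φ, hφ⟩ := H49.Parity.exists_parity_m24 hD hprim ht
  have hLk : L ≤ φ.ker := by
    have hperf : commutator ↥L = ⊤ := hL.2.1.commutator_eq_top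
    refine le_trans ?_ (H49.Parity.commutator_le_ker φ)
    have h := congrArg (Subgroup.map L.subtype) hperf
    rw [← MonoidHom.range_eq_map, Subgroup.range_subtype, commutator_def,
      Subgroup.map_commutator] at h
    rw [← h, commutator_def]
    exact Subgroup.commutator_mono le_top le_top
  have hker : φ.ker.index ≠ 1 := by
    intro h1
    rw [Subgroup.index_eq_one] at h1
    obtain ⟨d, hd, -⟩ := ht.2
    have h' : φ d = 1 := MonoidHom.mem_ker.1 (h1 ▸ Subgroup.mem_top d)
    rw [hφ d hd] at h'
    exact absurd h' (by decide)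
  have h1 : L.index ≠ 1 := fun h1 => hker (Nat.eq_one_of_dvd_one (h1 ▸ Subgroup.index_dvd_of_le hLk))
  have h0 : L.index ≠ 0 := Subgroup.index_ne_zero_of_finite
  omega

end Cfsg.Agent.S5375
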