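import Cfsg.Statements.S5379
import Cfsg.Agent.H73.Suz.Setup
import Cfsg.Agent.H73.Suz.NotConj

set_option autoImplicit false
open Cfsg

namespace Cfsg.Agent.S5379

/-- Let G be a finite group of Suzuki sporadic type: it has an involution z whose centralizer C has generalized Fitting subgroup Q extraspecial of order 2^7 with C/Q isomorphic to the commutator subgroup of the isometry group of the elliptic quadratic form in dimension 6 over the field with two elements, and some conjugate of z other than z lies in Q. Then G has exactly two conjugacy classes of involutions. -/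
theorem result {G : Type*} [Group G] [Finite G] (z : G) (hz : orderOf z = 2) (Q : Subgroup (Subgroup.centralizer ({z} : Set G))) [Q.Normal] (hF : Cfsg.generalizedFittingSubgroup (Subgroup.centralizer ({z} : Set G)) = Q) (hQ : Cfsg.IsExtraspecial 2 Q) (hcard : Nat.card Q = 2 ^ 7) (e : (Subgroup.centralizer ({z} : Set G)) ⧸ Q ≃* Cfsg.Omega (ZMod 2) (Cfsg.quadFormMinus 2 (ZMod 2) 1 1)) (hnwc : ∃ g : G, (∃ hq : g * z * g⁻¹ ∈ Subgroup.centralizer ({z} : Set G), (⟨g * z * g⁻¹, hq⟩ : Subgroup.centralizer ({z} : Set G)) ∈ Q) ∧ g * z * g⁻¹ ≠ z) : ∃ a b : G, orderOf a = 2 ∧ orderOf b = 2 ∧ ¬ IsConj a b ∧ ∀ x : G, orderOf x = 2 → IsConj x a ∨ IsConj x b := by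
  classical
  obtain ⟨co, H⟩ := H73.Suz.exists_data z hz Q hF hQ hcard e hnwc
  obtain ⟨s, hs, hs1⟩ := H.surj 1 (by norm_num)
  obtain ⟨r, q, hr, hA, hq, hqv, hinv, hcl⟩ := H.exists_second hs hs1
  have hnot := H.not_conj_z hs hs1 hr hA hq hqv hinv
  have ht1 : r * q ≠ 1 := fun h => by
    have hrQ : r ∈ Q.map (Subgroup.centralizer ({z} : Set G)).subtype := by
      rw [eq_inv_of_mul_eq_one_left h]; exact inv_mem hq
    have h4 := H.acts_unique hA (H.acts_mem hrQ) 4 (by norm_num)
    revert h4; decide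
  refine ⟨z, r * q, hz, orderOf_eq_prime (by rw [pow_two, hinv]) ht1, fun h => hnot h.symm, ?_⟩
  intro x hx
  have hxx : x * x = 1 := by rw [← pow_two, ← hx, pow_orderOf_eq_one]
  have hx1 : x ≠ 1 := fun h => by rw [h, orderOf_one] at hx; omega
  obtain ⟨g, hg⟩ := H.exists_conj_centralizer hxx hx1
  have hc : IsConj x (g * x * g⁻¹) := isConj_iff.mpr ⟨g, rfl⟩
  rcases hcl (g * x * g⁻¹)
      (by rw [show g * x * g⁻¹ * (g * x * g⁻¹) = g * (x * x) * g⁻¹ by group, hxx]; group)
      (by rwa [Ne, conj_eq_one_iff]) hg with h | h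
  · exact Or.inl (hc.trans h)
  · exact Or.inr (hc.trans h)

end Cfsg.Agent.S5379
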