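import Cfsg.Statements.S5387
import Cfsg.Agent.H76.L34Multiplier

set_option autoImplicit false
open Cfsg
open scoped commutatorElement

namespace Cfsg.Agent.S5387

open Subgroup in
theorem bijective_of_card {H L S : Type*} [Group H] [Group L] [Group S] [Finite H] [Finite L]
    (π : H →* S) (hπs : Function.Surjective π) (hcard : Nat.card π.ker ≤ 4)
    (f : L →* S) (g : H →* L) (sf : Function.Surjective f) (kf : f.ker = center L)
    (pf : _root_.commutator L = ⊤) (cf : Nat.card (center L) = 4) (hfg : f.comp g = π) :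
    Function.Bijective g := by
  have hgs : g.range = ⊤ := by
    have hsup : g.range ⊔ center L = ⊤ := by
      rw [eq_top_iff]
      intro x _
      obtain ⟨h, hh⟩ := hπs (f x)
      rw [← hfg, MonoidHom.comp_apply] at hh
      have : (g h)⁻¹ * x ∈ center L := by
        rw [← kf, MonoidHom.mem_ker, map_mul, map_inv, hh, inv_mul_cancel]
      have hx := mul_mem (mem_sup_left (show g h ∈ g.range from ⟨h, rfl⟩))
        (mem_sup_right (S := g.range) this)
      rwa [mul_inv_cancel_left] at hx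
    rw [eq_top_iff, ← pf, _root_.commutator_def, ← hsup, Subgroup.commutator_le]
    intro a ha b hb
    obtain ⟨a', ha', za, hza, rfl⟩ := mem_sup_of_normal_right.1 ha
    obtain ⟨b', hb', zb, hzb, rfl⟩ := mem_sup_of_normal_right.1 hb
    have : ⁅a' * za, b' * zb⁆ = ⁅a', b'⁆ := by
      rw [commutatorElement_mul_left_eq_conj_mul, commutatorElement_mul_right_eq_mul_conj,
        commutatorElement_mul_right_eq_mul_conj,
        commutatorElement_eq_one_iff_mul_comm.2 (mem_center_iff.1 hza b').symm,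
        commutatorElement_eq_one_iff_mul_comm.2 (mem_center_iff.1 hza zb).symm,
        commutatorElement_eq_one_iff_mul_comm.2 (mem_center_iff.1 hzb a')]
      group
    rw [this, commutatorElement_def]
    exact mul_mem (mul_mem (mul_mem ha' hb') (inv_mem ha')) (inv_mem hb')
  have hgs' : Function.Surjective g := MonoidHom.range_eq_top.1 hgs
  refine (Nat.bijective_iff_surjective_and_card g).2 ⟨hgs', le_antisymm ?_
    (Nat.card_le_card_of_surjective g hgs')⟩
  rw [Subgroup.card_eq_card_quotient_mul_card_subgroup π.ker,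
    Subgroup.card_eq_card_quotient_mul_card_subgroup f.ker,
    Nat.card_congr (QuotientGroup.quotientKerEquivOfSurjective π hπs).toEquiv,
    Nat.card_congr (QuotientGroup.quotientKerEquivOfSurjective f sf).toEquiv, kf, cf]
  exact Nat.mul_le_mul_left _ hcard

open Subgroup in
/-- Two quotients of the central extension with centre of order 4 are isomorphic. -/
theorem iso_of_le_four {L₁ L₂ : Type*} [Group L₁] [Finite L₁] [Group L₂] [Finite L₂]
    {S : Type*} [Group S] (f₁ : L₁ →* S) (f₂ : L₂ →* S) (s₁ : Function.Surjective f₁)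
    (s₂ : Function.Surjective f₂) (k₁ : f₁.ker = center L₁) (k₂ : f₂.ker = center L₂)
    (p₁ : _root_.commutator L₁ = ⊤) (p₂ : _root_.commutator L₂ = ⊤)
    (c₁ : Nat.card (center L₁) = 4) (c₂ : Nat.card (center L₂) = 4)
    (he₁ : ∀ x ∈ center L₁, x * x = 1) (he₂ : ∀ x ∈ center L₂, x * x = 1)
    (hb : ∀ (H : Subgroup (L₁ × L₂)) (π : H →* S), Function.Surjective π → π.ker ≤ center H →
      (∀ z ∈ π.ker, z * z = 1) → _root_.commutator H = ⊤ → Nat.card π.ker ≤ 4) :
    Nonempty (L₁ ≃* L₂) := by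
  haveI : Finite S := Finite.of_surjective f₁ s₁
  let K : Subgroup (L₁ × L₂) :=
    MonoidHom.eqLocus (f₁.comp (MonoidHom.fst L₁ L₂)) (f₂.comp (MonoidHom.snd L₁ L₂))
  let ρ : (L₁ × L₂) →* S := f₁.comp (MonoidHom.fst L₁ L₂)
  have hKS : K.map ρ = ⊤ := by
    rw [eq_top_iff]
    intro s _
    obtain ⟨a, ha⟩ := s₁ s
    obtain ⟨b, hb'⟩ := s₂ s
    exact ⟨(a, b), show f₁ a = f₂ b from ha.trans hb'.symm, ha⟩
  obtain ⟨H, ⟨hHK, hHS⟩, hmin⟩ := Set.Finite.exists_minimal
    (s := {H : Subgroup (L₁ × L₂) | H ≤ K ∧ H.map ρ = ⊤}) (Set.toFinite _) ⟨K, le_rfl, hKS⟩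
  have pS : _root_.commutator S = ⊤ := by
    rw [_root_.commutator_def, ← f₁.range_eq_top_of_surjective s₁, MonoidHom.range_eq_map,
      ← Subgroup.map_commutator, ← _root_.commutator_def, p₁]
  have hd : ⁅H, H⁆ = H := by
    refine le_antisymm H.commutator_le_self (hmin ⟨H.commutator_le_self.trans hHK, ?_⟩ H.commutator_le_self)
    rw [Subgroup.map_commutator, hHS, ← _root_.commutator_def, pS]
  have hperf : _root_.commutator H = ⊤ := by
    apply Subgroup.map_injective H.subtype_injective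
    rw [Subgroup.map_subtype_commutator, hd, ← MonoidHom.range_eq_map, Subgroup.range_subtype]
  let π : H →* S := ρ.comp H.subtype
  have hπs : Function.Surjective π := by
    intro s
    obtain ⟨x, hx, rfl⟩ := hHS.ge (Subgroup.mem_top s)
    exact ⟨⟨x, hx⟩, rfl⟩
  have hz : ∀ z ∈ π.ker, (z : L₁ × L₂).1 ∈ center L₁ ∧ (z : L₁ × L₂).2 ∈ center L₂ := by
    intro z hz
    have h1 : f₁ (z : L₁ × L₂).1 = 1 := hz
    have h2 : f₂ (z : L₁ × L₂).2 = 1 := (hHK z.2).symm.trans h1
    exact ⟨k₁ ▸ h1, k₂ ▸ h2⟩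
  have hzc : π.ker ≤ center H := fun z h => mem_center_iff.2 fun g => Subtype.ext
    (Prod.ext (mem_center_iff.1 (hz z h).1 _) (mem_center_iff.1 (hz z h).2 _))
  have hz2 : ∀ z ∈ π.ker, z * z = 1 := fun z h => Subtype.ext
    (Prod.ext (he₁ _ (hz z h).1) (he₂ _ (hz z h).2))
  have hcard := hb H π hπs hzc hz2 hperf
  have b1 := bijective_of_card π hπs hcard f₁ ((MonoidHom.fst L₁ L₂).comp H.subtype) s₁ k₁ p₁ c₁ rfl
  have b2 := bijective_of_card π hπs hcard f₂ ((MonoidHom.snd L₁ L₂).comp H.subtype) s₂ k₂ p₂ c₂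
    (MonoidHom.ext fun h => (hHK h.2).symm)
  exact ⟨(MulEquiv.ofBijective _ b1).symm.trans (MulEquiv.ofBijective _ b2)⟩

/-- Up to isomorphism there is at most one quasisimple group whose centre is elementary abelian of order 4 and whose central quotient is isomorphic to the projective special linear group of dimension 3 over the field with four elements: any two such groups are isomorphic. -/
theorem result {L₁ L₂ : Type*} [Group L₁] [Finite L₁] [Group L₂] [Finite L₂] (F : Type) [Field F] [Fintype F] (hF : Fintype.card F = 4) (h₁ : Cfsg.IsQuasisimple L₁) (h₂ : Cfsg.IsQuasisimple L₂) (hc₁ : Nat.card (Subgroup.center L₁) = 4) (hc₂ : Nat.card (Subgroup.center L₂) = 4) (he₁ : ∀ x ∈ Subgroup.center L₁, x * x = 1) (he₂ : ∀ x ∈ Subgroup.center L₂, x * x = 1) (e₁ : L₁ ⧸ Subgroup.center L₁ ≃* Matrix.ProjectiveSpecialLinearGroup (Fin 3) F) (e₂ : L₂ ⧸ Subgroup.center L₂ ≃* Matrix.ProjectiveSpecialLinearGroup (Fin 3) F) : Nonempty (L₁ ≃* L₂) := by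
  obtain ⟨p₁, -⟩ := h₁
  obtain ⟨p₂, -⟩ := h₂
  exact iso_of_le_four (e₁.toMonoidHom.comp (QuotientGroup.mk' _))
    (e₂.toMonoidHom.comp (QuotientGroup.mk' _))
    (e₁.surjective.comp (QuotientGroup.mk'_surjective _))
    (e₂.surjective.comp (QuotientGroup.mk'_surjective _))
    (by ext; simp)
    (by ext; simp)
    p₁.commutator_eq_top p₂.commutator_eq_top hc₁ hc₂ he₁ he₂
    (fun _ π hs hc h2 hp => H76.L34.card_ker_le_four hF π hs hc h2 hp)

end Cfsg.Agent.S5387
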