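import Cfsg.Agent.H90.Orbits

set_option autoImplicit false

namespace Cfsg.Agent.S5393

open H90

/-- If an invariant subspace contains a word supported on `s`, it contains the words supported on
all images of `s`. -/
theorem mem_of_image {W : Submodule (ZMod 2) (Cfsg.GolayPt → ZMod 2)}
    (hinv : ∀ σ ∈ Cfsg.M24, ∀ w ∈ W, (fun p => w (σ.symm p)) ∈ W)
    {σ : Equiv.Perm Cfsg.GolayPt} (hσ : σ ∈ Cfsg.M24) {w v : Cfsg.GolayPt → ZMod 2}
    (hw : w ∈ W) (h : (Cfsg.support₂ w).image σ = Cfsg.support₂ v) : v ∈ W := by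
  have : (fun p => w (σ.symm p)) = v := support₂_injective (by rw [support₂_comp_symm, h])
  exact this ▸ hinv σ hσ w hw

theorem octad_case {W : Submodule (ZMod 2) (Cfsg.GolayPt → ZMod 2)} (hle : W ≤ Cfsg.golayCode)
    (hinv : ∀ σ ∈ Cfsg.M24, ∀ w ∈ W, (fun p => w (σ.symm p)) ∈ W)
    {w : Cfsg.GolayPt → ZMod 2} (hw : w ∈ W) (h8 : hammingNorm w = 8) : W = Cfsg.golayCode := by
  have ho : Cfsg.support₂ w ∈ Cfsg.octads :=
    ⟨⟨w, hle hw, rfl⟩, by rw [← hammingNorm_eq_card_support₂, h8]⟩
  have hrows : rows.all (fun r => Nat.beq (popc r) 8 && Nat.beq (encode (r % 4096)) r) = true := by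
    decide +kernel
  refine le_antisymm hle fun x hx => ?_
  obtain ⟨n, -, rfl⟩ := mem_golayCode_iff.mp hx
  refine wordOf_xorSel_mem rows n fun r hr => ?_
  have hr' := List.all_eq_true.mp hrows r hr
  rw [Bool.and_eq_true] at hr'
  have e := Nat.eq_of_beq_eq_true hr'.2
  have hr8 : setOf' r ∈ Cfsg.octads := by
    rw [← e]
    exact octad_of_code (Nat.mod_lt _ (by norm_num)) (by rw [e]; exact Nat.eq_of_beq_eq_true hr'.1)
  obtain ⟨σ, hσ, h⟩ := exists_M24_octad ho hr8
  exact mem_of_image hinv hσ hw (by rw [h, support₂_wordOf])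

/-- The length-24 code built from the squares modulo 23 contains the all-ones word, and the code modulo the all-ones word is an irreducible module over the field with two elements for the code's automorphism group: a subspace of the code that contains the all-ones word and is invariant under every coordinate permutation preserving the code is either the span of the all-ones word or the whole code. -/
theorem result : (fun _ : Cfsg.GolayPt => (1 : ZMod 2)) ∈ Cfsg.golayCode ∧ ∀ W : Submodule (ZMod 2) (Cfsg.GolayPt → ZMod 2), (fun _ => (1 : ZMod 2)) ∈ W → W ≤ Cfsg.golayCode → (∀ σ ∈ Cfsg.M24, ∀ w ∈ W, (fun p => w (σ.symm p)) ∈ W) → W = Submodule.span (ZMod 2) {fun _ => (1 : ZMod 2)} ∨ W = Cfsg.golayCode := by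
  refine ⟨Submodule.subset_span (Or.inr rfl), fun W h1 hle hinv => ?_⟩
  by_cases hsmall : W ≤ Submodule.span (ZMod 2) {fun _ => (1 : ZMod 2)}
  · exact Or.inl (le_antisymm hsmall (Submodule.span_le.mpr (Set.singleton_subset_iff.mpr h1)))
  right
  obtain ⟨w, hw, hns⟩ := SetLike.not_le_iff_exists.mp hsmall
  have hsum : hammingNorm (w + fun _ => (1 : ZMod 2)) + hammingNorm w = 24 := by
    rw [hammingNorm_eq_card_support₂, hammingNorm_eq_card_support₂]
    have : Cfsg.support₂ (w + fun _ => (1 : ZMod 2)) = (Cfsg.support₂ w)ᶜ := by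
      ext p
      simp only [Cfsg.support₂, Finset.mem_filter, Finset.mem_univ, true_and, Finset.mem_compl,
        Pi.add_apply]
      rcases zmod2_cases (w p) with h | h <;> rw [h] <;> decide
    rw [this, add_comm, Finset.card_add_card_compl, card_golayPt]
  have h0 : w ≠ 0 := fun e => hns (e ▸ Submodule.zero_mem _)
  rcases weight_cases w (hle hw) with h | h | h | h | h
  · exact absurd (hammingNorm_eq_zero.mp h) h0
  · exact octad_case hle hinv hw h
  · have hd : Cfsg.support₂ w ∈ Cfsg.dodecads :=
      ⟨⟨w, hle hw, rfl⟩, by rw [← hammingNorm_eq_card_support₂, h]⟩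
    have hmem : ∀ n < 4096, popc (encode n) = 12 → wordOf (encode n) ∈ W := by
      intro n hn h12
      obtain ⟨σ, hσ, hi⟩ := exists_M24_dodecad hd
        (mem_wordsOfWeight_iff.mpr ⟨n, hn, h12, rfl⟩ : setOf' (encode n) ∈ Cfsg.dodecads)
      exact mem_of_image hinv hσ hw (by rw [hi, support₂_wordOf])
    refine octad_case hle hinv
      (W.add_mem (hmem 13 (by norm_num) (by decide +kernel)) (hmem 14 (by norm_num) (by decide +kernel))) ?_
    rw [← wordOf_xor, hammingNorm_wordOf]
    decide +kernel
  · exact octad_case hle hinv (W.add_mem hw h1) (by omega)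
  · refine absurd ?_ hns
    have hz : w + (fun _ => (1 : ZMod 2)) = 0 := hammingNorm_eq_zero.mp (by omega)
    have hw1 : w = fun _ => (1 : ZMod 2) := by
      funext p
      have := congrFun hz p
      simp only [Pi.add_apply, Pi.zero_apply] at this
      rcases zmod2_cases (w p) with h | h <;> rw [h] at this ⊢
      exact absurd this (by decide)
    exact hw1 ▸ Submodule.subset_span rfl

end Cfsg.Agent.S5393
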