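import Cfsg.Agent.H90.Involutions

set_option autoImplicit false

namespace Cfsg.Agent.S5394

open H90

/-- The automorphism group of the length-24 code built from the squares modulo 23 has exactly two conjugacy classes of involutions: an involution either fixes exactly the eight points of an octad or has no fixed points, both kinds occur, and any two involutions of the same kind are conjugate in the group. -/
theorem result : (∀ g ∈ Cfsg.M24, orderOf g = 2 → (Finset.univ.filter fun p => g p = p) ∈ Cfsg.octads ∨ ∀ p, g p ≠ p) ∧ (∃ g ∈ Cfsg.M24, orderOf g = 2 ∧ (Finset.univ.filter fun p => g p = p) ∈ Cfsg.octads) ∧ (∃ g ∈ Cfsg.M24, orderOf g = 2 ∧ ∀ p, g p ≠ p) ∧ ∀ g ∈ Cfsg.M24, ∀ h ∈ Cfsg.M24, orderOf g = 2 → orderOf h = 2 → ((∀ p, g p ≠ p) ↔ (∀ p, h p ≠ p)) → ∃ k ∈ Cfsg.M24, k * g * k⁻¹ = h := by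
  have hord : ∀ n : ℕ, ((List.range 24).all fun i => Nat.beq (img n (img n i)) i) = true →
      ∀ ρ : Equiv.Perm Cfsg.GolayPt, Repr ρ n → ρ ≠ 1 → orderOf ρ = 2 := by
    intro n hn ρ hr hne
    refine orderOf_eq_prime ?_ hne
    ext1 p
    apply idx_injective
    apply Fin.ext
    rw [pow_two, Equiv.Perm.mul_apply, hr.apply, hr.apply, Equiv.Perm.one_apply]
    exact Nat.eq_of_beq_eq_true (List.all_eq_true.mp hn _ (List.mem_range.mpr (idx p).isLt))
  have hi := isPerm_invs
  simp only [Bool.and_eq_true] at hi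
  refine ⟨fun g hg h2 => ?_, ?_, ?_, fun g hg h hh g2 h2 hiff => ?_⟩
  · obtain ⟨k, -, ρ, -, -, hc | hc⟩ := involution_class hg h2
    · exact Or.inl hc.2
    · exact Or.inr hc.2
  · obtain ⟨ρ, hρ, hr⟩ := exists_M24_repr hi.1.1.1 hi.1.1.2
    refine ⟨ρ, hρ, hord _ (by decide +kernel) ρ hr fun e => ?_, by
      rw [invA_fixed hr]; exact invA_fixed_mem⟩
    subst e
    have hmem := invA_fixed_mem.2
    rw [← invA_fixed hr] at hmem
    simp [card_golayPt] at hmem
  · obtain ⟨ρ, hρ, hr⟩ := exists_M24_repr hi.1.2 hi.2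
    exact ⟨ρ, hρ, hord _ (by decide +kernel) ρ hr fun e => invB_fixed hr none (by rw [e]; rfl),
      invB_fixed hr⟩
  · obtain ⟨a, ha, ρ, hρ, hae, hca⟩ := involution_class hg g2
    obtain ⟨b, hb, ρ', hρ', hbe, hcb⟩ := involution_class hh h2
    have hρρ : ρ = ρ' := by
      rcases hca with hca | hca <;> rcases hcb with hcb | hcb
      · exact hca.1.unique hcb.1
      · exact absurd (hiff.mpr hcb.2) (octad_fixed_not_free hca.2)
      · exact absurd (hiff.mp hca.2) (octad_fixed_not_free hcb.2)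
      · exact hca.1.unique hcb.1
    refine ⟨b * a⁻¹, mul_mem hb (inv_mem ha), ?_⟩
    rw [← hae, ← hbe, hρρ]
    group

end Cfsg.Agent.S5394
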