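import Cfsg.Statements.S5395


set_option autoImplicit false
open Cfsg

namespace Cfsg.Agent.S5395

/-- For a finite extraspecial 2-group E, an automorphism of E that induces the identity on E modulo its centre is inner (so these automorphisms form exactly the inner automorphism group, an elementary abelian 2-group of order |E|/2). -/
theorem result {E : Type*} [Group E] [Finite E] (hE : Cfsg.IsExtraspecial 2 E) (φ : E ≃* E) (hφ : ∀ x : E, φ x * x⁻¹ ∈ Subgroup.center E) : ∃ g : E, ∀ x : E, φ x = g * x * g⁻¹ := by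
  obtain ⟨⟨-, -, hcomm⟩, hcard⟩ := hE
  let C : Subgroup E := Subgroup.center E
  letI : CommGroup (E ⧸ Subgroup.center E) :=
    { (inferInstance : Group (E ⧸ Subgroup.center E)) with
      mul_comm := by
        intro a b
        induction a using QuotientGroup.induction_on with
        | H x =>
          induction b using QuotientGroup.induction_on with
          | H y =>
            rw [← QuotientGroup.mk_mul, ← QuotientGroup.mk_mul, QuotientGroup.eq, ← hcomm,
              commutator_def]
            have := Subgroup.commutator_mem_commutator (Subgroup.mem_top y⁻¹) (Subgroup.mem_top x⁻¹)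
            rw [commutatorElement_def] at this
            simpa [mul_assoc] using this }
  -- homomorphisms into the centre
  have central : ∀ (z : E), z ∈ Subgroup.center E → ∀ w, w * z = z * w := fun z hz w =>
    Subgroup.mem_center_iff.1 hz w
  have key : ∀ ψ : E ≃* E, (∀ x, ψ x * x⁻¹ ∈ Subgroup.center E) →
      ∃ F : (E ⧸ Subgroup.center E) →* Subgroup.center E, ∀ x : E, (F x : E) = ψ x * x⁻¹ := by
    intro ψ hψ
    let F₀ : E →* Subgroup.center E := MonoidHom.mk' (fun x => ⟨ψ x * x⁻¹, hψ x⟩) (by
      intro a b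
      apply Subtype.ext
      show ψ (a * b) * (a * b)⁻¹ = ψ a * a⁻¹ * (ψ b * b⁻¹)
      rw [map_mul, mul_inv_rev, mul_assoc (ψ a) (ψ b), ← mul_assoc (ψ b) b⁻¹,
        ← central _ (hψ b) a⁻¹, ← mul_assoc (ψ a)])
    refine ⟨QuotientGroup.lift (Subgroup.center E) F₀ ?_, fun x => rfl⟩
    intro z hz
    rw [MonoidHom.mem_ker]
    apply Subtype.ext
    show ψ z * z⁻¹ = 1
    rw [mul_inv_eq_one]
    by_cases h1 : z = 1
    · simp [h1]
    have hψz : ψ z ∈ Subgroup.center E := by
      rw [Subgroup.mem_center_iff]
      intro w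
      obtain ⟨v, rfl⟩ := ψ.surjective w
      rw [← map_mul, central z hz v, map_mul]
    have h2 : ψ z ≠ 1 := by simpa using h1
    by_contra hne
    have h3 := hcard
    rw [Nat.card_eq_two_iff' (1 : Subgroup.center E)] at h3
    exact hne (congrArg Subtype.val
      (h3.unique (y₁ := ⟨ψ z, hψz⟩) (y₂ := ⟨z, hz⟩) (by simpa [Subtype.ext_iff] using h2)
        (by simpa [Subtype.ext_iff] using h1)))
  -- inner automorphisms give homomorphisms
  have hconj : ∀ g : E, ∀ x : E, MulAut.conj g x * x⁻¹ ∈ Subgroup.center E := by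
    intro g x
    rw [← hcomm, commutator_def]
    exact Subgroup.commutator_mem_commutator (Subgroup.mem_top g) (Subgroup.mem_top x)
  choose Φ hΦ using fun g => key (MulAut.conj g) (hconj g)
  let Ψ : E ⧸ Subgroup.center E → ((E ⧸ Subgroup.center E) →* Subgroup.center E) :=
    fun q => Φ q.out
  have hinj : Function.Injective Ψ := by
    intro p q h
    rw [← QuotientGroup.out_eq' p, ← QuotientGroup.out_eq' q, QuotientGroup.eq,
      Subgroup.mem_center_iff]
    intro x
    have h1 := hΦ p.out x
    have h2 := hΦ q.out x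
    rw [show Φ p.out = Φ q.out from h, h2, MulAut.conj_apply, MulAut.conj_apply] at h1
    have h4 : q.out * x * q.out⁻¹ = p.out * x * p.out⁻¹ := by simpa using h1
    calc x * (p.out⁻¹ * q.out) = p.out⁻¹ * (p.out * x * p.out⁻¹) * q.out := by group
      _ = p.out⁻¹ * (q.out * x * q.out⁻¹) * q.out := by rw [h4]
      _ = p.out⁻¹ * q.out * x := by group
  haveI : Fact (Nat.Prime 2) := ⟨Nat.prime_two⟩
  have hroots : Nat.card (rootsOfUnity 2 ℂ) = 2 := by
    exact Complex.card_rootsOfUnity 2
  let ι : Subgroup.center E →* ℂˣ :=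
    (rootsOfUnity 2 ℂ).subtype.comp (mulEquivOfPrimeCardEq hcard hroots).toMonoidHom
  have hι : Function.Injective ι := Subtype.val_injective.comp (MulEquiv.injective _)
  let J : ((E ⧸ Subgroup.center E) →* Subgroup.center E) → ((E ⧸ Subgroup.center E) →* ℂˣ) :=
    fun f => ι.comp f
  have hJ : Function.Injective J := by
    intro f g h
    apply MonoidHom.ext
    intro x
    exact hι (DFunLike.congr_fun h x)
  have hc : Nat.card ((E ⧸ Subgroup.center E) →* ℂˣ) = Nat.card (E ⧸ Subgroup.center E) :=
    CommGroup.card_monoidHom_of_hasEnoughRootsOfUnity _ _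
  haveI : Finite ((E ⧸ Subgroup.center E) →* ℂˣ) :=
    Nat.finite_of_card_ne_zero (by rw [hc]; exact Nat.card_pos.ne')
  have hsurj : Function.Bijective (J ∘ Ψ) :=
    (Nat.bijective_iff_injective_and_card _).2 ⟨hJ.comp hinj, hc.symm⟩
  obtain ⟨F, hF⟩ := key φ hφ
  obtain ⟨q, hq⟩ := hsurj.2 (J F)
  have hq' : Φ q.out = F := hJ hq
  refine ⟨q.out, fun x => ?_⟩
  have h1 := hΦ q.out x
  rw [hq', hF, MulAut.conj_apply] at h1
  exact mul_right_cancel h1

end Cfsg.Agent.S5395
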