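import Cfsg.Statements.S5397
import Cfsg.Agent.H19.Co1M24.Split
import Cfsg.Agent.H79.Co1T.Build
-- import your own Cfsg.Agent.* helpers here

set_option autoImplicit false
open Cfsg

namespace Cfsg.Agent.S5397

/-- Let G be a finite group of Conway type (involution z with generalized Fitting subgroup Q of its centralizer C extraspecial of order 2^9, C/Q the commutator subgroup of the isometry group of the hyperbolic quadratic form in dimension 8 over the field with two elements, z not weakly closed in Q). Then G has an elementary abelian subgroup A of order 2^11 containing z whose normalizer N is a split extension of A with N/A isomorphic to the automorphism group of the length-24 code built from the squares modulo 23, and N has exactly two orbits on the non-identity elements of A. -/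
theorem result {G : Type*} [Group G] [Finite G] (z : G) (hz : orderOf z = 2) (Q : Subgroup (Subgroup.centralizer ({z} : Set G))) [Q.Normal] (hF : Cfsg.generalizedFittingSubgroup (Subgroup.centralizer ({z} : Set G)) = Q) (hQ : Cfsg.IsExtraspecial 2 Q) (hcard : Nat.card Q = 2 ^ 9) (e : (Subgroup.centralizer ({z} : Set G)) ⧸ Q ≃* Cfsg.Omega (ZMod 2) (Cfsg.quadFormPlus 4 (ZMod 2))) (hnwc : ∃ g : G, (∃ hq : g * z * g⁻¹ ∈ Subgroup.centralizer ({z} : Set G), (⟨g * z * g⁻¹, hq⟩ : Subgroup.centralizer ({z} : Set G)) ∈ Q) ∧ g * z * g⁻¹ ≠ z) : ∃ A : Subgroup G, Cfsg.IsElementaryAbelian 2 A ∧ Nat.card A = 2 ^ 11 ∧ z ∈ A ∧ ∃ _ : (A.subgroupOf (Subgroup.normalizer (A : Set G))).Normal, Nonempty (↥(Subgroup.normalizer (A : Set G)) ⧸ A.subgroupOf (Subgroup.normalizer (A : Set G)) ≃* ↥Cfsg.M24) ∧ (∃ K : Subgroup ↥(Subgroup.normalizer (A : Set G)), (A.subgroupOf (Subgroup.normalizer (A : Set G))).IsComplement' K) ∧ ∃ a ∈ A, ∃ b ∈ A, a ≠ 1 ∧ b ≠ 1 ∧ (∀ n ∈ Subgroup.normalizer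 (A : Set G), n * a * n⁻¹ ≠ b) ∧ ∀ c ∈ A, c ≠ 1 → ∃ n ∈ Subgroup.normalizer (A : Set G), n * c * n⁻¹ = a ∨ n * c * n⁻¹ = b := by
  classical
  obtain ⟨F, W⟩ := H79.Co1T.exists_world z hz Q hF hQ hcard e hnwc
  obtain ⟨π, ρ, e', f, a, ψ, K⟩ := H19.C1M.exists_co W
  obtain ⟨θ, hθ⟩ := K.exists_hom
  have hN : ((H19.C1M.Chart.Cen z e').subgroupOf
      (Subgroup.normalizer (H19.C1M.Chart.Cen z e' : Set G))).Normal := by
    rw [← K.ker_eq θ hθ]; infer_instance
  refine ⟨H19.C1M.Chart.Cen z e', ⟨⟨⟨fun x y => Subtype.ext (K.B.good _ x.2 _ y.2)⟩⟩, fun y hy => ?_⟩,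
    ?_, ?_, hN, ⟨(QuotientGroup.quotientMulEquivOfEq (K.ker_eq θ hθ).symm).trans
      (QuotientGroup.quotientKerEquivOfSurjective θ (K.surjective θ hθ))⟩, K.split, K.two_orbits θ hθ⟩
  · obtain ⟨n, -, rfl⟩ := K.B.el_surj hy
    rw [pow_two]; exact K.B.el_sq n
  · rw [K.B.card_Cen]; norm_num
  · have h := K.B.el_mem 1
    rwa [K.B.el_z] at h

end Cfsg.Agent.S5397
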