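import Cfsg.Statements.S5407
import Cfsg.Agent.H56.MonsterCore

set_option autoImplicit false
open Cfsg

namespace Cfsg.Agent.S5407

/-- Let G be a finite group of Monster type at the involution z with Q the extraspecial normal subgroup of order 2^25 of C = C_G(z) (so C/Q is identified with the first Conway group with Q modulo its centre the Leech lattice modulo 2, and z is not weakly closed in Q). Then under any such identification ψ of the Leech lattice modulo 2 with Q modulo its centre, an element x of Q is a conjugate of z other than z exactly when x modulo the centre is the image under ψ of a lattice vector of squared length 64 in the coordinates used here, that is, of norm 8 in the customary normalisation in which the minimal vectors have norm 4 (twice the minimal norm). -/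
theorem result {G : Type*} [Group G] [Finite G] (z : G) (Q : Subgroup (Subgroup.centralizer ({z} : Set G))) [Q.Normal] (hM : Cfsg.IsOfMonsterType z Q) (e : (Subgroup.centralizer ({z} : Set G)) ⧸ Q ≃* Cfsg.Spor.Co1) (ψ : Cfsg.leechLattice → Q ⧸ Subgroup.center Q) (hψ : Cfsg.IsLeechModTwoIso Q e ψ) (x : Q) : (IsConj z ((x : Subgroup.centralizer ({z} : Set G)) : G) ∧ ((x : Subgroup.centralizer ({z} : Set G)) : G) ≠ z) ↔ ∃ v : Cfsg.leechLattice, Cfsg.sqNorm (v : Cfsg.GolayPt → ℤ) = 64 ∧ ψ v = QuotientGroup.mk x := by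
  let D : H56M.Data z Q := ⟨hM.1, e, ψ, hψ⟩
  have hxQ : ((x : Subgroup.centralizer ({z} : Set G)) : G) ∈ H56M.QG Q := ⟨_, x.2, rfl⟩
  constructor
  · rintro ⟨hc, hne⟩
    obtain ⟨v, ⟨q, hq, hv⟩, h64⟩ := D.conj_class hxQ hc hne
    refine ⟨v, by rw [H95.sqNorm_eq_ldot]; exact h64, ?_⟩
    obtain rfl : q = x := Subtype.ext (Subtype.ext hq)
    exact hv
  · rintro ⟨v, hv, hψv⟩
    have hx : D.Rep ((x : Subgroup.centralizer ({z} : Set G)) : G) v := ⟨x, rfl, hψv⟩
    obtain ⟨g, ⟨hgc, hgQ⟩, hgz⟩ := hM.1.2.2.2.2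
    have hs : IsConj z (g * z * g⁻¹) := isConj_iff.mpr ⟨g, rfl⟩
    have hs' : g * z * g⁻¹ ∈ H56M.QG Q := ⟨_, hgQ, rfl⟩
    obtain ⟨w, hw, hw64⟩ := D.conj_class hs' hs hgz
    obtain ⟨a, ha⟩ := H56M.exists_to_eight (v := v) (by rw [← H95.sqNorm_eq_ldot]; exact hv)
    obtain ⟨b, hb⟩ := H56M.exists_to_eight hw64
    have hw0 : H56M.cls w ≠ 0 := fun h0 => by
      rcases D.rep_zero_cases hw h0 with h | h
      · exact D.t_ne_one (g := g) rfl h
      · exact hgz h
    obtain ⟨h, hh, hhs⟩ := D.conj_of_same hw hx hw0 (g := a⁻¹ * b)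
      (by rw [mul_smul, hb, ← ha, inv_smul_smul])
    refine ⟨hs.trans (isConj_iff.mpr ⟨h, hhs⟩), fun hxz => hgz ?_⟩
    have hhz : h * z = z * h := H56M.mem_CZ.mp hh
    have e' : h * (g * z * g⁻¹) * h⁻¹ = z := hhs.trans hxz
    calc g * z * g⁻¹ = h⁻¹ * (h * (g * z * g⁻¹) * h⁻¹) * h := by group
      _ = h⁻¹ * (z * h) := by rw [e']; group
      _ = z := by rw [← hhz]; group

end Cfsg.Agent.S5407
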