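import Cfsg.Statements.S5408
import Cfsg.Agent.H56.MonsterCore

set_option autoImplicit false
open Cfsg

namespace Cfsg.Agent.S5408

/-- Let G be a finite group of Monster type at the involution z with Q the extraspecial normal subgroup of order 2^25 of C = C_G(z) (so C/Q is identified with the first Conway group with Q modulo its centre the Leech lattice modulo 2, and z is not weakly closed in Q). Then Q is of plus type: it contains an elementary abelian subgroup of order 2^13. -/
theorem result {G : Type*} [Group G] [Finite G] (z : G) (Q : Subgroup (Subgroup.centralizer ({z} : Set G))) [Q.Normal] (hM : Cfsg.IsOfMonsterType z Q) : ∃ E : Subgroup Q, Cfsg.IsElementaryAbelian 2 E ∧ Nat.card E = 2 ^ 13 := by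
  obtain ⟨D₀⟩ := H56M.nonempty_data hM
  obtain ⟨g, ⟨hgc, hgQ⟩, hgz⟩ := D₀.hS.2.2.2.2
  have hs' : g * z * g⁻¹ ∈ H56M.QG Q := ⟨_, hgQ, rfl⟩
  obtain ⟨D, hD⟩ := D₀.exists_twist64 hs' (isConj_iff.mpr ⟨g, rfl⟩) hgz
  obtain ⟨hcard, -⟩ := D.inter_facts rfl hD hgz
  let f : Q →* G := (Subgroup.centralizer ({z} : Set G)).subtype.comp Q.subtype
  have hf : Function.Injective f :=
    (Subgroup.centralizer ({z} : Set G)).subtype_injective.comp Q.subtype_injective
  refine ⟨(H56M.QG Q ⊓ H56M.RG Q g).comap f, ⟨⟨⟨fun a b => Subtype.ext (hf ?_)⟩⟩, fun a ha => hf ?_⟩, ?_⟩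
  · simp only [Subgroup.coe_mul, map_mul]
    exact (D.inter_elem rfl a.2.1 a.2.2 b.2.1 b.2.2 hgz).1
  · rw [map_pow, map_one, sq]
    exact (D.inter_elem rfl ha.1 ha.2 ha.1 ha.2 hgz).2
  · rw [← hcard, Nat.card_congr (Subgroup.equivMapOfInjective _ f hf).toEquiv,
      Subgroup.map_comap_eq_self]
    intro y hy
    obtain ⟨w, hw, rfl⟩ := hy.1
    exact ⟨⟨w, hw⟩, rfl⟩

end Cfsg.Agent.S5408
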