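import Cfsg.Statements.S5410
import Cfsg.Agent.H56.MonsterSign

set_option autoImplicit false
open Cfsg

namespace Cfsg.Agent.S5410

/-- Let G be a finite group of Monster type at the involution z with Q the extraspecial normal subgroup of order 2^25 of C = C_G(z) (so C/Q is identified with the first Conway group with Q modulo its centre the Leech lattice modulo 2, and z is not weakly closed in Q). Let g in G with s = g z g⁻¹ a member of Q other than z, let X be the image in C/Q of the centralizer of s in C, and let E be the image in C/Q of the intersection of g Q g⁻¹ with C. Then E is a normal subgroup of X, elementary abelian of order 2^11, and it has a complement in X isomorphic to the Mathieu group of degree 24 (the automorphism group of the length-24 binary Golay code). -/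
theorem result {G : Type*} [Group G] [Finite G] (z : G) (Q : Subgroup (Subgroup.centralizer ({z} : Set G))) [Q.Normal] (hM : Cfsg.IsOfMonsterType z Q) (s : G) (hsQ : ∃ hsc : s ∈ Subgroup.centralizer ({z} : Set G), (⟨s, hsc⟩ : Subgroup.centralizer ({z} : Set G)) ∈ Q) (hs : IsConj z s) (hs1 : s ≠ z) (g : G) (hg : g * z * g⁻¹ = s) (X E : Subgroup ((Subgroup.centralizer ({z} : Set G)) ⧸ Q)) (hX : X = ((Subgroup.centralizer ({z} : Set G) ⊓ Subgroup.centralizer ({s} : Set G)).subgroupOf (Subgroup.centralizer ({z} : Set G))).map (QuotientGroup.mk' Q)) (hE : E = (((Q.map (Subgroup.centralizer ({z} : Set G)).subtype).map (MulAut.conj g).toMonoidHom ⊓ Subgroup.centralizer ({z} : Set G)).subgroupOf (Subgroup.centralizer ({z} : Set G))).map (QuotientGroup.mk' Q)) : E ≤ X ∧ (∀ x ∈ X, ∀ y ∈ E, x * y * x⁻¹ ∈ E) ∧ Cfsg.IsElementaryAbelian 2 E ∧ Nat.card E = 2 ^ 11 ∧ ∃ K : Subgroup ((Subgroup.centralizer ({z} : Set G)) ⧸ Q), K ≤ X ∧ E ⊓ K = ⊥ ∧ E ⊔ K = X ∧ Nonempty (K ≃* Cfsg.M24)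 := by
  obtain ⟨D₀⟩ := H56M.nonempty_data hM
  obtain ⟨hsc, hsQ⟩ := hsQ
  have hs' : s ∈ H56M.QG Q := ⟨_, hsQ, rfl⟩
  obtain ⟨D, hD⟩ := D₀.exists_twist64 hs' hs hs1
  obtain ⟨-, hsigns⟩ := D.inter_facts hg hD hs1
  have hF := D.frame_ne hg hD hs1
  have hX' : X = (H56M.sgn.range ⊔ H56M.permHom.range).comap D.e.toMonoidHom := by
    subst hX
    ext x
    rw [Subgroup.mem_comap, Subgroup.mem_map]
    constructor
    · rintro ⟨c, hc, rfl⟩
      obtain ⟨g₀, hl⟩ := D.exists_lift_of_mem c.2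
      have hcs : (c : G) * s = s * (c : G) :=
        Subgroup.mem_centralizer_singleton_iff.mp (Subgroup.mem_subgroupOf.mp hc).2
      have h1 := hD.conj hl
      rw [hcs, mul_inv_cancel_right] at h1
      obtain ⟨hh, he⟩ := hl
      exact he ▸ H56M.stab_iff.mp (h1.unique hD)
    · intro hx
      obtain ⟨g₀, hg₀⟩ := QuotientGroup.mk_surjective (D.e x)
      obtain ⟨h, hl, hh⟩ := D.exists_lift_fix hD hF (H56M.stab_iff.mpr
        (show (QuotientGroup.mk g₀ : Spor.Co1) ∈ H56M.sgn.range ⊔ H56M.permHom.range from hg₀ ▸ hx))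
      refine ⟨⟨h, hl.1⟩, Subgroup.mem_subgroupOf.mpr
        ⟨hl.1, Subgroup.mem_centralizer_singleton_iff.mpr hh⟩, D.e.injective ?_⟩
      exact hl.2.symm.trans hg₀
  have hE' : E = H56M.sgn.range.comap D.e.toMonoidHom := by
    subst hE
    ext x
    rw [Subgroup.mem_comap, Subgroup.mem_map]
    constructor
    · rintro ⟨c, hc, rfl⟩
      obtain ⟨g₀, hl⟩ := D.exists_lift_of_mem c.2
      have h1 := D.R_lift_signs hg hD hs1 (Subgroup.mem_subgroupOf.mp hc).1 hl
      obtain ⟨hh, he⟩ := hl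
      exact he ▸ h1
    · intro hx
      obtain ⟨a, ha⟩ := hx
      obtain ⟨r, hr, hl⟩ := hsigns _ (H56M.supp_mem a)
      refine ⟨⟨r, hl.1⟩, Subgroup.mem_subgroupOf.mpr ⟨hr, hl.1⟩, D.e.injective ?_⟩
      exact hl.2.symm.trans ha
  subst hX' hE'
  refine ⟨Subgroup.comap_mono le_sup_left, fun x hx y hy => ?_, ⟨⟨⟨fun a b => ?_⟩⟩, fun a ha => ?_⟩, ?_,
    H56M.permHom.range.comap D.e.toMonoidHom, Subgroup.comap_mono le_sup_right, ?_, ?_, ?_⟩
  · rw [Subgroup.mem_comap, map_mul, map_mul, map_inv]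
    exact H56M.sgn_normal hx hy
  · obtain ⟨a', ha'⟩ := a.2
    obtain ⟨b', hb'⟩ := b.2
    apply Subtype.ext
    apply D.e.injective
    rw [Subgroup.coe_mul, Subgroup.coe_mul, map_mul, map_mul]
    change D.e.toMonoidHom a.1 * D.e.toMonoidHom b.1 = D.e.toMonoidHom b.1 * D.e.toMonoidHom a.1
    rw [← ha', ← hb', ← map_mul, ← map_mul, mul_comm a']
  · apply D.e.injective
    rw [map_pow, map_one, sq]
    exact H56M.sgn_sq ha
  · rw [Subgroup.comap_equiv_eq_map_symm', ← Nat.card_congr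
      (Subgroup.equivMapOfInjective _ _ D.e.symm.injective).toEquiv, H56M.card_sgn_range]
  · rw [← Subgroup.comap_inf, H56M.sgn_inf_perm, MonoidHom.comap_bot,
      MonoidHom.ker_eq_bot_iff]
    exact D.e.injective
  · rw [Subgroup.comap_sup_eq _ _ _ D.e.surjective]
  · exact ⟨((D.e.symm.subgroupMap _).trans (MulEquiv.subgroupCongr
      (Subgroup.comap_equiv_eq_map_symm' D.e _).symm)).symm.trans
      (MonoidHom.ofInjective H56M.permHom_injective).symm⟩

end Cfsg.Agent.S5410
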