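import Cfsg.Statements.S5411
import Cfsg.Agent.H56.MonsterCore

set_option autoImplicit false
open Cfsg

namespace Cfsg.Agent.S5411

/-- Let G be a finite group of Monster type at the involution z with Q the extraspecial normal subgroup of order 2^25 of C = C_G(z) (so C/Q is identified with the first Conway group with Q modulo its centre the Leech lattice modulo 2, and z is not weakly closed in Q). Then C acts transitively by conjugation on the involutions of Q that are not conjugate to z in G. -/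
theorem result {G : Type*} [Group G] [Finite G] (z : G) (Q : Subgroup (Subgroup.centralizer ({z} : Set G))) [Q.Normal] (hM : Cfsg.IsOfMonsterType z Q) (s t : G) (hsQ : ∃ hsc : s ∈ Subgroup.centralizer ({z} : Set G), (⟨s, hsc⟩ : Subgroup.centralizer ({z} : Set G)) ∈ Q) (htQ : ∃ htc : t ∈ Subgroup.centralizer ({z} : Set G), (⟨t, htc⟩ : Subgroup.centralizer ({z} : Set G)) ∈ Q) (hs2 : orderOf s = 2) (ht2 : orderOf t = 2) (hs : ¬ IsConj z s) (ht : ¬ IsConj z t) : ∃ h ∈ Subgroup.centralizer ({z} : Set G), h * s * h⁻¹ = t := by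
  obtain ⟨D⟩ := H56M.nonempty_data hM
  obtain ⟨hsc, hsQ⟩ := hsQ
  obtain ⟨htc, htQ⟩ := htQ
  have key : ∀ x : G, x ∈ H56M.QG Q → orderOf x = 2 → ¬ IsConj z x →
      ∃ v, D.Rep x v ∧ H95.ldot v v = 32 := by
    intro x hx ho hc
    have h1 : x ≠ 1 := fun h => by rw [h, orderOf_one] at ho; omega
    have hz : x ≠ z := fun h => hc (h ▸ IsConj.refl z)
    obtain ⟨v, hv, h | h⟩ := D.involution_rep hx (by rw [← sq, ← ho]; exact pow_orderOf_eq_one x) h1 hz
    · exact ⟨v, hv, h⟩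
    · exfalso
      obtain ⟨g, ⟨hgc, hgQ⟩, hgz⟩ := D.hS.2.2.2.2
      have hs : IsConj z (g * z * g⁻¹) := isConj_iff.mpr ⟨g, rfl⟩
      obtain ⟨w, hw, hw64⟩ := D.conj_class (x := g * z * g⁻¹) ⟨_, hgQ, rfl⟩ hs hgz
      obtain ⟨a, ha⟩ := H56M.exists_to_eight h
      obtain ⟨b, hb⟩ := H56M.exists_to_eight hw64
      have hw0 : H56M.cls w ≠ 0 := fun h0 => by
        rcases D.rep_zero_cases hw h0 with h | h
        · exact D.t_ne_one (g := g) rfl h
        · exact hgz h
      obtain ⟨k, hk, hks⟩ := D.conj_of_same hw hv hw0 (g := a⁻¹ * b)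
        (by rw [mul_smul, hb, ← ha, inv_smul_smul])
      exact hc (hs.trans (isConj_iff.mpr ⟨k, hks⟩))
  obtain ⟨v, hv, hv32⟩ := key s ⟨_, hsQ, rfl⟩ hs2 hs
  obtain ⟨w, hw, hw32⟩ := key t ⟨_, htQ, rfl⟩ ht2 ht
  obtain ⟨g, hg⟩ := H56M.exists_to_vBase hv32
  obtain ⟨g', hg'⟩ := H56M.exists_to_vBase hw32
  refine D.conj_of_same hv hw (fun h0 => ?_) (g := g'⁻¹ * g) (by rw [mul_smul, hg, ← hg', inv_smul_smul])
  rcases D.rep_zero_cases hv h0 with e | e
  · rw [e, orderOf_one] at hs2; omega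
  · exact hs (e ▸ IsConj.refl z)

end Cfsg.Agent.S5411
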