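import Cfsg.Statements.S5412
import Cfsg.Agent.H56.MonsterBabyType
-- import your own Cfsg.Agent.* helpers here

set_option autoImplicit false
open Cfsg

namespace Cfsg.Agent.S5412

/-- Let G be a finite group of Monster type at the involution z with Q the extraspecial normal subgroup of order 2^25 of C = C_G(z) (so C/Q is identified with the first Conway group with Q modulo its centre the Leech lattice modulo 2, and z is not weakly closed in Q). Let t be an involution of Q not conjugate to z in G. Then the centralizer of t modulo the subgroup generated by t is a group of Baby Monster type (an involution whose centralizer D has generalized Fitting subgroup R extraspecial of order 2^23 with D/R identified with the second Conway group acting on R modulo its centre as on the vectors of the Leech lattice modulo 2 orthogonal to a short vector, modulo that vector; the involution not weakly closed in R). -/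
theorem result {G : Type*} [Group G] [Finite G] (z : G) (Q : Subgroup (Subgroup.centralizer ({z} : Set G))) [Q.Normal] (hM : Cfsg.IsOfMonsterType z Q) (t : G) (htQ : ∃ htc : t ∈ Subgroup.centralizer ({z} : Set G), (⟨t, htc⟩ : Subgroup.centralizer ({z} : Set G)) ∈ Q) (ht2 : orderOf t = 2) (ht : ¬ IsConj z t) [hn : ((Subgroup.zpowers t).subgroupOf (Subgroup.centralizer ({t} : Set G))).Normal] : Cfsg.IsOfBabyMonsterType (↥(Subgroup.centralizer ({t} : Set G)) ⧸ (Subgroup.zpowers t).subgroupOf (Subgroup.centralizer ({t} : Set G))) := by
  obtain ⟨D⟩ := H56M.nonempty_data hM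
  obtain ⟨htc, htQ⟩ := htQ
  have hx : t ∈ H56M.QG Q := ⟨_, htQ, rfl⟩
  have h1 : t ≠ 1 := fun h => by rw [h, orderOf_one] at ht2; omega
  have hz : t ≠ z := fun h => ht (h ▸ IsConj.refl z)
  obtain ⟨v, hv, hv32 | hv64⟩ := D.involution_rep hx
    (by rw [← sq, ← ht2]; exact pow_orderOf_eq_one t) h1 hz
  · obtain ⟨g, hg⟩ := H56M.exists_to_vBase hv32
    have hrep : (D.twist g⁻¹).Rep t H95.vBase := by
      rw [D.rep_twist, ← hg, inv_smul_smul]; exact hv
    exact H56M.isOfBabyMonsterType_quot (D.twist g⁻¹) hrep
  · exact absurd (D.conj_z_of_64 hv hv64) ht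

end Cfsg.Agent.S5412
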