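import Cfsg.Statements.S5413
import Cfsg.Agent.H3.Monster5.Main

set_option autoImplicit false
open Cfsg

namespace Cfsg.Agent.S5413

/-- Let G be a finite group of Monster type at the involution z with Q the extraspecial normal subgroup of order 2^25 of C = C_G(z) (so C/Q is identified with the first Conway group with Q modulo its centre the Leech lattice modulo 2, and z is not weakly closed in Q). Let s be a conjugate of z in Q other than z and let B be a Sylow 5-subgroup of the joint centralizer of z and s. Then the centralizer of B modulo B is a group of Harada–Norton type (an involution whose centralizer D has generalized Fitting subgroup R extraspecial of order 2^9 with D/R the wreath product of the alternating group of degree 5 by a group of order 2, the involution not weakly closed in R). -/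
theorem result {G : Type*} [Group G] [Finite G] (z : G) (Q : Subgroup (Subgroup.centralizer ({z} : Set G))) [Q.Normal] (hM : Cfsg.IsOfMonsterType z Q) (s : G) (hsQ : ∃ hsc : s ∈ Subgroup.centralizer ({z} : Set G), (⟨s, hsc⟩ : Subgroup.centralizer ({z} : Set G)) ∈ Q) (hs : IsConj z s) (hs1 : s ≠ z) (B : Subgroup G) (hB : B ≤ Subgroup.centralizer ({z, s} : Set G)) (hBp : Nat.card B = 5 ^ (Nat.card ↥(Subgroup.centralizer ({z, s} : Set G))).factorization 5) [hn : (B.subgroupOf (Subgroup.centralizer (B : Set G))).Normal] : Cfsg.IsOfHaradaNortonType (↥(Subgroup.centralizer (B : Set G)) ⧸ B.subgroupOf (Subgroup.centralizer (B : Set G))) := by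
  classical
  have := Fact.mk (show Nat.Prime 5 by norm_num)
  obtain ⟨D₀⟩ := H56M.nonempty_data hM
  have hsQG : s ∈ H56M.QG Q := hsQ.elim fun hsc h => ⟨⟨s, hsc⟩, h, rfl⟩
  obtain ⟨D₁, hrep⟩ := D₀.exists_twist64 hsQG hs hs1
  have hf : (Nat.card ↥(Subgroup.centralizer ({z, s} : Set G))).factorization 5 = 1 := by
    obtain ⟨x, hx, hx5⟩ := H3.Monster5.exists_five hrep hs hs1
    have h1 : 5 ∣ Nat.card ↥(Subgroup.centralizer ({z, s} : Set G)) :=
      hx5 ▸ Subgroup.orderOf_dvd_natCard _ hx
    have h2 : ¬ 5 ^ 2 ∣ Nat.card ↥(Subgroup.centralizer ({z, s} : Set G)) := fun h => by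
      have := H12.Monster.odd_dvd_card hrep (by norm_num) (by norm_num) h
      rw [H90.natCard_M24] at this
      norm_num at this
    have h3 := (Nat.Prime.pow_dvd_iff_le_factorization (by norm_num : Nat.Prime 5)
      Nat.card_pos.ne').mp (by simpa using h1 : 5 ^ 1 ∣ _)
    have h4 := mt (Nat.Prime.pow_dvd_iff_le_factorization (by norm_num : Nat.Prime 5)
      Nat.card_pos.ne').mpr h2
    omega
  rw [hf, pow_one] at hBp
  obtain ⟨⟨y, hy⟩, hyord⟩ := exists_prime_orderOf_dvd_card' (G := B) 5 (by rw [hBp])
  rw [Subgroup.orderOf_mk] at hyord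
  obtain ⟨hyz, hys⟩ := H12.Monster.mem_L.mp (hB hy)
  obtain ⟨D₂, σ, hσ, S⟩ := H12.Monster.exists_perm (by norm_num : Nat.Prime 5) ⟨2, rfl⟩ hyord
    hyz hys hrep hs hs1
  obtain ⟨j, τ, hj, hje⟩ := H3.Monster5.sylow_twist hσ
  have S' := H3.Monster5.setup_pow S hj
  rw [← map_pow] at S'
  have S'' := S'.twist_perm hje
  obtain rfl : Subgroup.zpowers (y ^ j) = B :=
    Subgroup.eq_of_le_of_card_ge (Subgroup.zpowers_le.mpr (pow_mem hy j))
      (by rw [hBp, Nat.card_zpowers, S''.ord])
  exact H3.Monster5.harada_norton S''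

end Cfsg.Agent.S5413
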