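import Cfsg.Statements.S5414
import Cfsg.Agent.H12.Monster.Standard
import Cfsg.Agent.H12.ThreeC.Kernel
import Cfsg.Agent.H12.ThreeC.Classes

set_option autoImplicit false
open Cfsg

namespace Cfsg.Agent.S5414

open Cfsg H12.Monster H12.ThreeC

theorem fix_count : (fixCls s3).ncard = 2 ^ (2 * 4) := by
  have h : fixCls s3 = F '' Set.Iio 256 := by
    ext c
    constructor
    · rintro ⟨v, hv, rfl⟩
      obtain ⟨k, hk, e⟩ := exists_F hv
      exact ⟨k, hk, e.symm⟩
    · rintro ⟨k, -, rfl⟩
      exact ⟨vecK k, vecK_fixed k, rfl⟩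
  have hi : Set.InjOn F (Set.Iio 256) := fun a ha b hb e => F_inj ha hb e
  rw [h, Set.ncard_image_of_injOn hi, Set.ncard_eq_toFinset_card', Set.toFinset_Iio, Nat.card_Iio]
  norm_num

theorem alt_core (T : Subgroup (alternatingGroup (Fin 9))) (hn : T.Normal) (hp : IsPGroup 2 T) :
    T = ⊥ := by
  have hs : IsSimpleGroup (alternatingGroup (Fin 9)) := alternatingGroup.isSimpleGroup (by simp)
  rcases IsSimpleGroup.eq_bot_or_eq_top_of_normal T hn with h | h
  · exact h
  · exfalso
    subst h
    have h2 : IsPGroup 2 (alternatingGroup (Fin 9)) := hp.of_equiv Subgroup.topEquiv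
    obtain ⟨n, hn⟩ := IsPGroup.iff_card.mp h2
    have h3 : 3 ∣ Nat.card (alternatingGroup (Fin 9)) := by
      have := two_mul_card_alternatingGroup (α := Fin 9)
      rw [Fintype.card_perm, Fintype.card_fin, ← Nat.card_eq_fintype_card] at this
      have h4 : Nat.factorial 9 = 2 * 181440 := by decide
      exact ⟨60480, by omega⟩
    rw [hn] at h3
    exact absurd (Nat.prime_three.dvd_of_dvd_pow h3) (by norm_num)

/-- Let G be a finite group of Monster type at the involution z with Q the extraspecial normal subgroup of order 2^25 of C = C_G(z) (so C/Q is identified with the first Conway group with Q modulo its centre the Leech lattice modulo 2, and z is not weakly closed in Q). Let s be a conjugate of z in Q other than z and let Y be a subgroup of order 3 of the joint centralizer L of z and s that is not 3-central in L (Y lies in the centre of no Sylow 3-subgroup of L). Then the centralizer of Y modulo Y is a group of Thompson type (an involution whose centralizer D has generalized Fitting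 subgroup R extraspecial of order 2^9 with D/R the alternating group of degree 9, the involution not weakly closed in R). -/
theorem result {G : Type*} [Group G] [Finite G] (z : G) (Q : Subgroup (Subgroup.centralizer ({z} : Set G))) [Q.Normal] (hM : Cfsg.IsOfMonsterType z Q) (s : G) (hsQ : ∃ hsc : s ∈ Subgroup.centralizer ({z} : Set G), (⟨s, hsc⟩ : Subgroup.centralizer ({z} : Set G)) ∈ Q) (hs : IsConj z s) (hs1 : s ≠ z) (Y : Subgroup G) (hY : Y ≤ Subgroup.centralizer ({z, s} : Set G)) (hY3 : Nat.card Y = 3) (hnc : ∀ P : Sylow 3 ↥(Subgroup.centralizer ({z, s} : Set G)), ¬ Y.subgroupOf (Subgroup.centralizer ({z, s} : Set G)) ≤ (Subgroup.center ↥(P : Subgroup ↥(Subgroup.centralizer ({z, s} : Set G)))).map (P : Subgroup ↥(Subgroup.centralizer ({z, s} : Set G))).subtype) [hn : (Y.subgroupOf (Subgroup.centralizer (Y : Set G))).Normal] : Cfsg.IsOfThompsonType (↥(Subgroup.centralizer (Y : Set G)) ⧸ Y.subgroupOf (Subgroup.centralizer (Y : Set G))) := by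
  classical
  have := Fact.mk Nat.prime_three
  obtain ⟨D₀⟩ := H56M.nonempty_data hM
  have hsQG : s ∈ H56M.QG Q := hsQ.elim fun hsc h => ⟨⟨s, hsc⟩, h, rfl⟩
  obtain ⟨D₁, hrep⟩ := D₀.exists_twist64 hsQG hs hs1
  obtain ⟨⟨y, hy⟩, hyord⟩ := exists_prime_orderOf_dvd_card' (G := Y) 3 (by rw [hY3])
  rw [Subgroup.orderOf_mk] at hyord
  obtain rfl : Subgroup.zpowers y = Y :=
    Subgroup.eq_of_le_of_card_ge (Subgroup.zpowers_le.mpr hy) (by rw [hY3, Nat.card_zpowers, hyord])
  obtain ⟨hyz, hys⟩ := mem_L.mp (hY hy)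
  obtain ⟨D₂, σ, hσ, S⟩ := exists_perm Nat.prime_three ⟨1, rfl⟩ hyord hyz hys hrep hs hs1
  rcases classes_three hσ with ⟨τ, hτ⟩ | h27
  · obtain ⟨Z, R, hR, hset, ⟨e⟩, -, -⟩ := (S.twist_perm hτ).setting (w := 4) (by norm_num)
      fix_count betaA betaA_surjective (fun a => betaA_eq_one.trans beta_eq_one_iff)
      (fun a ha => betaA_eq_one.mpr (act_trivial ha)) alt_core
    exact ⟨Z, R, hR, hset, ⟨e⟩⟩
  · exfalso
    have hd := h27.trans S.dvd_card_cent
    set L := Subgroup.centralizer ({z, s} : Set G) with hL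
    set W := L ⊓ Subgroup.centralizer ({y} : Set G) with hW
    have hyW : y ∈ W := ⟨hY hy, Subgroup.mem_centralizer_singleton_iff.mpr rfl⟩
    obtain ⟨P₀, hP₀⟩ := (IsPGroup.of_card (G := Subgroup.zpowers (⟨y, hyW⟩ : W)) (p := 3) (n := 1)
      (by rw [Nat.card_zpowers, Subgroup.orderOf_mk, hyord, pow_one])).exists_le_sylow
    set T : Subgroup L := (P₀ : Subgroup W).map (Subgroup.inclusion inf_le_left) with hT
    have hcT : 27 ∣ Nat.card T := by
      rw [hT, Subgroup.card_map_of_injective (Subgroup.inclusion_injective _)]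
      exact P₀.pow_dvd_card_of_pow_dvd_card (n := 3) hd
    obtain ⟨P, hP⟩ := (P₀.isPGroup'.map (Subgroup.inclusion
      (inf_le_left : W ≤ L))).exists_le_sylow
    obtain ⟨m, hm⟩ := IsPGroup.iff_card.mp P.isPGroup'
    have hm3 : m ≤ 3 := by
      by_contra hcon
      have h81 : 3 ^ 4 ∣ Nat.card L := (pow_dvd_pow 3 (show 4 ≤ m by omega)).trans
        (hm ▸ Subgroup.card_subgroup_dvd_card _)
      have := odd_dvd_card hrep Nat.prime_three (by norm_num) h81
      rw [H90.natCard_M24] at this
      norm_num at this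
    have hPT : T = (P : Subgroup L) := Subgroup.eq_of_le_of_card_ge hP (by
      rw [hm]
      calc 3 ^ m ≤ 3 ^ 3 := Nat.pow_le_pow_right (by norm_num) hm3
        _ = 27 := by norm_num
        _ ≤ Nat.card T := Nat.le_of_dvd Nat.card_pos hcT)
    refine hnc P fun x hx => ?_
    obtain ⟨k, hk⟩ := Subgroup.mem_zpowers_iff.mp (Subgroup.mem_subgroupOf.mp hx)
    have hxP : x ∈ (P : Subgroup L) := by
      rw [← hPT]
      refine ⟨(⟨y, hyW⟩ : W) ^ k, hP₀ (Subgroup.zpow_mem _ (Subgroup.mem_zpowers _) k),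
        Subtype.ext ?_⟩
      simpa using hk
    refine ⟨⟨x, hxP⟩, Subgroup.mem_center_iff.mpr ?_, rfl⟩
    rintro ⟨a, ha⟩
    rw [← hPT] at ha
    obtain ⟨w, -, hw⟩ := ha
    apply Subtype.ext; apply Subtype.ext
    show (a : G) * (x : G) = (x : G) * (a : G)
    rw [← hk, ← hw]
    exact ((show Commute ((w : W) : G) y from
      Subgroup.mem_centralizer_singleton_iff.mp w.2.2).zpow_right k).eq

end Cfsg.Agent.S5414
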