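import Cfsg.Statements.S5422
import Cfsg.Agent.H69.PairTop
import Cfsg.Agent.H93.Large

set_option autoImplicit false
open Cfsg

namespace Cfsg.Agent.S5422


/-- Let Q be an extraspecial 2-subgroup of the finite group G whose centralizer in G is its centre Z and which is normal in the centralizer of Z; suppose Q has width at least 2 (order 2^(2w+1) with w ≥ 2) and g is an element of G not normalizing Z with g Z g⁻¹ inside Q. Then Z lies inside g Q g⁻¹; writing V for the subgroup generated by Z and g Z g⁻¹ (a four-group), the normalizer of V induces on V its full automorphism group, that is, the centralizer of V has index 6 in the normalizer of V; and Q is a large extraspecial 2-subgroup of G. -/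
theorem result {G : Type*} [Group G] [Finite G] (Q : Subgroup G) (hL1 : Cfsg.IsExtraspecial 2 ↥Q) (hL2 : Subgroup.centralizer (Q : Set G) = ((Subgroup.center ↥Q).map Q.subtype)) (hL3 : Subgroup.centralizer (((Subgroup.center ↥Q).map Q.subtype) : Set G) ≤ Subgroup.normalizer (Q : Set G)) (w : ℕ) (hw : 2 ≤ w) (hcard : Nat.card ↥Q = 2 ^ (2 * w + 1)) (g : G) (hg : g ∉ Subgroup.normalizer (((Subgroup.center ↥Q).map Q.subtype) : Set G)) (hZg : (((Subgroup.center ↥Q).map Q.subtype)).map (MulAut.conj g).toMonoidHom ≤ Q) : ((Subgroup.center ↥Q).map Q.subtype) ≤ (Q).map (MulAut.conj g).toMonoidHom ∧ (Subgroup.centralizer ((((Subgroup.center ↥Q).map Q.subtype) ⊔ (((Subgroup.center ↥Q).map Q.subtype)).map (MulAut.conj g).toMonoidHom : Subgroup G) : Set G)).relIndex (Subgroup.normalizer ((((Subgroup.center ↥Q).map Q.subtype) ⊔ (((Subgroup.center ↥Q).map Q.subtype)).map (MulAut.conj g).toMonoidHom : Subgroup G) : Set G)) = 6 ∧ Cfsg.IsLargeExtraspecial Q := by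
  have hpre : H69.PreLarge Q := ⟨hL1, hL2, hL3, trivial⟩
  obtain ⟨z, hz2, hZ⟩ := H93.exists_centre_gen hL1
  rw [hZ] at hg hZg ⊢
  have hgQ : g * z * g⁻¹ ∈ Q := hZg ⟨z, Subgroup.mem_zpowers z, rfl⟩
  have hgH : g ∉ Subgroup.centralizer ({z} : Set G) := fun h =>
    hg (Subgroup.centralizer_le_normalizer _ (by
      rwa [Subgroup.zpowers_eq_closure, Subgroup.centralizer_closure]))
  have hmap : (Subgroup.zpowers z).map (MulAut.conj g).toMonoidHom = Subgroup.zpowers (g * z * g⁻¹) :=
    MonoidHom.map_zpowers _ z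
  have hVe : Subgroup.zpowers z ⊔ Subgroup.zpowers (g * z * g⁻¹) =
      Subgroup.closure ({z, g * z * g⁻¹} : Set G) := by
    rw [Subgroup.zpowers_eq_closure, Subgroup.zpowers_eq_closure, ← Subgroup.closure_union,
      Set.singleton_union]
  rw [hmap, hVe]
  have P := H69.pair_of_preLarge hpre hZ hz2 g hgH hgQ
  have hsym := H69.lx_symm hpre hZ hz2 g hgQ
  refine ⟨(Subgroup.zpowers_le).mpr hsym, ?_, ?_⟩
  · obtain ⟨φ, hφ⟩ := P.exists_action
    obtain ⟨-, -, -, -, hN⟩ := P.structure_top
    have hker : (Subgroup.centralizer ((Subgroup.closure ({z, g * z * g⁻¹} : Set G)) : Set G)).subgroupOf (Subgroup.normalizer ((Subgroup.closure ({z, g * z * g⁻¹} : Set G)) : Set G)) = φ.ker := by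
      ext n
      rw [MonoidHom.mem_ker, Subgroup.mem_subgroupOf]
      refine ⟨fun h => Equiv.ext fun i => P.three_injective ?_, fun h => ?_⟩
      · rw [← hφ n i, Equiv.Perm.one_apply]
        exact mul_inv_eq_of_eq_mul (Subgroup.mem_centralizer_iff.mp h _ (P.three_mem i).1).symm
      · have h0 : ∀ i, (n : G) * H69.Pair.three z (g * z * g⁻¹) i * (n : G)⁻¹ =
            H69.Pair.three z (g * z * g⁻¹) i := fun i => by rw [hφ n i, h]; rfl
        exact P.mem_centralizer_four.mpr
          ⟨mul_inv_eq_iff_eq_mul.mp (h0 0), mul_inv_eq_iff_eq_mul.mp (h0 1)⟩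
    show ((Subgroup.centralizer ((Subgroup.closure ({z, g * z * g⁻¹} : Set G)) : Set G)).subgroupOf (Subgroup.normalizer ((Subgroup.closure ({z, g * z * g⁻¹} : Set G)) : Set G))).index = 6
    rw [hker, Subgroup.index_ker]
    have hsurj : φ.range = ⊤ := by
      obtain ⟨q, hq, p, hp, hqv, hpu, -⟩ := P.normal_forms
      have hsw : ∀ (n : ↥(Subgroup.normalizer ((Subgroup.closure ({z, g * z * g⁻¹} : Set G)) : Set G))) (σ : Equiv.Perm (Fin 3)),
          (∀ i, (n : G) * H69.Pair.three z (g * z * g⁻¹) i * (n : G)⁻¹ =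
            H69.Pair.three z (g * z * g⁻¹) (σ i)) → σ ∈ φ.range :=
        fun n σ h => ⟨n, Equiv.ext fun i => P.three_injective ((hφ n i).symm.trans (h i))⟩
      have hqu : q * z * q⁻¹ = z := mul_inv_eq_of_eq_mul (P.cu hq)
      have hpv : p * (g * z * g⁻¹) * p⁻¹ = g * z * g⁻¹ := mul_inv_eq_of_eq_mul (P.symm.cu hp)
      have h12 : Equiv.swap (1 : Fin 3) 2 ∈ φ.range := by
        refine hsw ⟨q, P.sup_le_normalizer_four (Subgroup.mem_sup_left hq)⟩ _ fun i => ?_
        fin_cases i
        · exact hqu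
        · exact hqv
        · show q * (z * (g * z * g⁻¹)) * q⁻¹ = g * z * g⁻¹
          rw [← conj_mul, hqu, hqv, ← mul_assoc, P.uu, one_mul]
      have h02 : Equiv.swap (0 : Fin 3) 2 ∈ φ.range := by
        refine hsw ⟨p, P.sup_le_normalizer_four (Subgroup.mem_sup_right hp)⟩ _ fun i => ?_
        fin_cases i
        · exact hpu
        · exact hpv
        · show p * (z * (g * z * g⁻¹)) * p⁻¹ = z
          rw [← conj_mul, hpu, hpv, mul_assoc, P.vv, mul_one]
      rw [eq_top_iff]
      intro σ _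
      have hall : ∀ σ : Equiv.Perm (Fin 3), σ = 1 ∨ σ = Equiv.swap 1 2 ∨ σ = Equiv.swap 0 2 ∨
          σ = Equiv.swap 1 2 * Equiv.swap 0 2 ∨ σ = Equiv.swap 0 2 * Equiv.swap 1 2 ∨
          σ = Equiv.swap 1 2 * Equiv.swap 0 2 * Equiv.swap 1 2 := by decide
      rcases hall σ with rfl | rfl | rfl | rfl | rfl | rfl
      exacts [one_mem _, h12, h02, mul_mem h12 h02, mul_mem h02 h12, mul_mem (mul_mem h12 h02) h12]
    rw [hsurj, Subgroup.card_top, Nat.card_eq_fintype_card, Fintype.card_perm]
    rfl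
  · have hv2 : orderOf (g * z * g⁻¹) = 2 := by
      rw [← MulAut.conj_apply, MulEquiv.orderOf_eq]; exact hz2
    refine H93.large_of_centre_in_twoCore_centralizer hL1 hL2 hL3 hgQ (fun h => ?_) hv2 ?_
    · rw [hZ] at h
      rcases H93.zpowers_two_cases hz2 h with h | h
      · exact P.L.ne_one P.sv h
      · exact P.ne h.symm
    · rw [hZ, Subgroup.zpowers_le]
      obtain ⟨q, hq, hqz⟩ := hsym
      set C := Subgroup.centralizer ({g * z * g⁻¹} : Set G) with hC
      have hle : Q.map (MulAut.conj g).toMonoidHom ≤ C := by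
        rw [← H69.lxQ_self hpre hZ g]
        exact fun x hx => Subgroup.mem_centralizer_singleton_iff.mpr (P.L.hcomm _ x hx).eq
      have hn : ((Q.map (MulAut.conj g).toMonoidHom).subgroupOf C).Normal :=
        ⟨fun x hx c => by
          rw [Subgroup.mem_subgroupOf, Subgroup.coe_mul, Subgroup.coe_mul, Subgroup.coe_inv]
          rw [← H69.lxQ_self hpre hZ g]
          exact P.L.conj_mem (by rw [H69.lxQ_self hpre hZ g]; exact hx)
            (Subgroup.mem_centralizer_singleton_iff.mp c.2)⟩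
      have hp : IsPGroup 2 ((Q.map (MulAut.conj g).toMonoidHom).subgroupOf C) :=
        (hL1.1.1.map _).comap_subtype
      exact ⟨⟨z, hle ⟨q, hq, hqz⟩⟩, (le_sSup (show (Q.map (MulAut.conj g).toMonoidHom).subgroupOf C ∈
        {N : Subgroup C | N.Normal ∧ IsPGroup 2 N} from ⟨hn, hp⟩)) (Subgroup.mem_subgroupOf.mpr ⟨q, hq, hqz⟩), rfl⟩

end Cfsg.Agent.S5422
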