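import Cfsg.Agent.H90.CentralizerOdd
import Cfsg.Prelude.Def_MonsterType

set_option autoImplicit false

namespace Cfsg.Agent.S5425

open H90

/-- In the Mathieu group of degree 24 (the automorphism group of the length-24 binary Golay code, acting on the 24 coordinates), let z be an involution whose fixed points form an octad (the support of a code word of weight 8), and let Q be the largest normal 2-subgroup of the centralizer C of z. Then Q is extraspecial of order 2^7 with an elementary abelian subgroup of order 16 (plus type), Q is a large extraspecial 2-subgroup, and C is the split extension of Q by the special linear group of degree 3 over the field with two elements. -/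
theorem result (z : ↥Cfsg.M24) (hz : orderOf z = 2) (hfix : (Finset.univ.filter fun p : Cfsg.GolayPt => (z : Equiv.Perm Cfsg.GolayPt) p = p) ∈ Cfsg.octads) (Q : Subgroup ↥Cfsg.M24) (hQ : Q = (Cfsg.pCore 2 ↥(Subgroup.centralizer ({z} : Set ↥Cfsg.M24))).map (Subgroup.centralizer ({z} : Set ↥Cfsg.M24)).subtype) : Cfsg.IsExtraspecial 2 ↥Q ∧ Nat.card ↥Q = 2 ^ 7 ∧ (∃ E : Subgroup ↥Cfsg.M24, E ≤ Q ∧ Cfsg.IsElementaryAbelian 2 E ∧ Nat.card ↥E = 2 ^ 4) ∧ Cfsg.IsLargeExtraspecial Q ∧ ∃ K : Subgroup ↥Cfsg.M24, K ≤ Subgroup.centralizer ({z} : Set ↥Cfsg.M24) ∧ Q ⊓ K = ⊥ ∧ Q ⊔ K = Subgroup.centralizer ({z} : Set ↥Cfsg.M24) ∧ Nonempty (↥K ≃* Matrix.SpecialLinearGroup (Fin 3) (ZMod 2)) := by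
  have h2 : orderOf z.1 = 2 := by rw [Subgroup.orderOf_coe]; exact hz
  obtain ⟨k', hk', ρ, hρ, he, hc⟩ := involution_class z.2 h2
  obtain ⟨hr, -⟩ : Repr ρ invAN ∧ True := by
    rcases hc with hc | hc
    · exact ⟨hc.1, trivial⟩
    · exact absurd hc.2 (octad_fixed_not_free hfix)
  set k : ↥Cfsg.M24 := ⟨k', hk'⟩
  have hzr : CRepr k z invAN := by
    have hρ' : (k⁻¹ * z * k : ↥Cfsg.M24).1 = ρ := by
      show k'⁻¹ * z.1 * k' = ρ
      rw [← he]; group
    show Repr (k⁻¹ * z * k : ↥Cfsg.M24).1 invAN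
    rw [hρ']; exact hr
  have hle := coreSub_le_centralizer hzr
  have hQeq : Q = coreSub k := by
    rw [hQ, pCore_eq_coreSub hzr, Subgroup.subgroupOf_map_subtype, inf_eq_left.mpr hle]
  subst hQeq
  refine ⟨isExtraspecial_coreSub hzr, by rw [natCard_coreSub]; norm_num,
    ⟨fourSub k, fourSub_le, fourSub_elementaryAbelian hzr, by rw [natCard_fourSub]; norm_num⟩, ?_, ?_⟩
  · refine ⟨isExtraspecial_coreSub hzr, centralizer_coreSub hzr, ?_, odd_normalized_eq_bot hzr⟩
    rw [center_map_coreSub hzr]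
    intro g hg
    refine coreSub_normalized hzr (Subgroup.mem_centralizer_singleton_iff.mpr ?_)
    exact (Subgroup.mem_centralizer_iff.mp hg z (Subgroup.mem_zpowers z)).symm
  · refine ⟨(compHom k).range, ?_, ?_, ?_, ⟨(MonoidHom.ofInjective (compHom_injective k)).symm⟩⟩
    · rintro _ ⟨A, rfl⟩
      exact compHom_mem_centralizer hzr A
    · rw [Subgroup.eq_bot_iff_forall]
      rintro _ ⟨hq, A, rfl⟩
      rw [compHom_disjoint hq, map_one]
    · refine le_antisymm (sup_le hle ?_) fun g hg => ?_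
      · rintro _ ⟨A, rfl⟩
        exact compHom_mem_centralizer hzr A
      · obtain ⟨q, hq, A, rfl⟩ := exists_factor hzr hg
        exact mul_mem (Subgroup.mem_sup_left hq) (Subgroup.mem_sup_right ⟨A, rfl⟩)

end Cfsg.Agent.S5425
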