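import Cfsg.Statements.S5426
import Cfsg.Agent.H69.Simple
import Cfsg.Agent.H69.PiSimple
import Cfsg.Agent.H69.ExtraSub
import Cfsg.Agent.H69.Char2
import Cfsg.Agent.H61.CharSimple
import Cfsg.Agent.H1.Cores
import Cfsg.Agent.H30.Basic
import Cfsg.Agent.H6.Extraspecial
import Cfsg.Agent.S1265
import Cfsg.Agent.S1325

set_option autoImplicit false
open Cfsg

namespace Cfsg.Agent.S5426

open scoped commutatorElement

variable {G : Type*} [Group G] [Finite G]

theorem H69_not_two {S : Type*} [Group S] [Finite S] [IsSimpleGroup S] (hS : ¬ ∀ a b : S, a * b = b * a) :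
    ¬ IsPGroup 2 S := by
  intro h
  have := Fact.mk Nat.prime_two
  have hne := H6.inf_center_ne_bot h (N := (⊤ : Subgroup S)) top_ne_bot
  rw [top_inf_eq, H69.simple_center_eq_bot hS] at hne
  exact hne rfl

theorem H69_core_two {K : Subgroup G} [K.Normal] (hK : IsPGroup 2 K) : K ≤ Cfsg.pCore 2 G :=
  le_sSup ⟨inferInstance, hK⟩

/-- a nontrivial subgroup normalised by an extraspecial `Q` and inside it contains the centre -/
theorem H69_mem_of_invariant {Q : Subgroup G} (hE : Cfsg.IsExtraspecial 2 Q) {z : G} (hz : orderOf z = 2)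
    (hZ : (Subgroup.center Q).map Q.subtype = Subgroup.zpowers z) {D : Subgroup G} (hDQ : D ≤ Q)
    (hinv : ∀ q ∈ Q, ∀ d ∈ D, q * d * q⁻¹ ∈ D) {d : G} (hd : d ∈ D) (hd1 : d ≠ 1) : z ∈ D := by
  by_cases hc : d ∈ (Subgroup.center Q).map Q.subtype
  · rw [hZ] at hc
    exact ((H93.zpowers_two_cases hz hc).resolve_left hd1) ▸ hd
  · obtain ⟨q, hq, e⟩ := H93.exists_conj_eq_mul_z hE hz hZ (hDQ hd) hc
    have h1 : z = q * d * q⁻¹ * d⁻¹ := by rw [e]; group
    rw [h1]
    exact mul_mem (hinv q hq d hd) (inv_mem hd)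

theorem H69_fstar_abelian {Q : Subgroup G} (hQ : Cfsg.IsLargeExtraspecial Q) {z : G} (hz : orderOf z = 2)
    (hZ : (Subgroup.center Q).map Q.subtype = Subgroup.zpowers z)
    (hab : IsMulCommutative ↥(Subgroup.normalClosure ({z} : Set G))) :
    Cfsg.generalizedFittingSubgroup G = Cfsg.pCore 2 G := by
  have := Fact.mk Nat.prime_two
  have hfull := hQ
  obtain ⟨hE, hC, hL3, hodd⟩ := hQ
  set M := Subgroup.normalClosure ({z} : Set G) with hM
  have hMn : M.Normal := Subgroup.normalClosure_normal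
  have hzz : z * z = 1 := by rw [← pow_two, ← hz, pow_orderOf_eq_one]
  have hcom : ∀ a ∈ M, ∀ b ∈ M, a * b = b * a := fun a ha b hb =>
    congrArg Subtype.val (hab.is_comm.comm ⟨a, ha⟩ ⟨b, hb⟩)
  let T : Subgroup G :=
    { carrier := {x | x ∈ M ∧ x * x = 1}
      one_mem' := ⟨one_mem _, one_mul 1⟩
      mul_mem' := fun {a b} ha hb => ⟨mul_mem ha.1 hb.1, by
        calc a * b * (a * b) = a * (b * a) * b := by group
          _ = a * (a * b) * b := by rw [hcom b hb.1 a ha.1]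
          _ = (a * a) * (b * b) := by group
          _ = 1 := by rw [ha.2, hb.2, one_mul]⟩
      inv_mem' := fun {a} ha => ⟨inv_mem ha.1, by rw [← mul_inv_rev, ha.2, inv_one]⟩ }
  have hzM : z ∈ M := Subgroup.subset_normalClosure rfl
  have hTn : T.Normal := ⟨fun x hx g => ⟨hMn.conj_mem x hx.1 g, by
    calc g * x * g⁻¹ * (g * x * g⁻¹) = g * (x * x) * g⁻¹ := by group
      _ = 1 := by rw [hx.2]; group⟩⟩
  have hMT : M ≤ T := Subgroup.normalClosure_le_normal (by
    intro x hx; rw [Set.mem_singleton_iff] at hx; subst hx; exact ⟨hzM, hzz⟩)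
  have hM2 : IsPGroup 2 M := fun x => ⟨1, Subtype.ext (by simpa [pow_two] using (hMT x.2).2)⟩
  have hzO : z ∈ Cfsg.pCore 2 G := H69_core_two hM2 hzM
  apply H69.fStar_eq_of_char_two
  show Subgroup.centralizer (Cfsg.pCore 2 G : Set G) ≤ Cfsg.pCore 2 G
  haveI : (Cfsg.pCore 2 G).Normal := H93.pCore_normal' 2
  set D := Subgroup.centralizer (Cfsg.pCore 2 G : Set G) with hD
  have hDz : ∀ d ∈ D, d * z = z * d := fun d hd => (Subgroup.mem_centralizer_iff.mp hd z hzO).symm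
  have hDN : ∀ d ∈ D, ∀ q ∈ Q, d * q * d⁻¹ ∈ Q := fun d hd q hq =>
    (Subgroup.mem_normalizer_iff.mp (hL3 (Subgroup.mem_centralizer_iff.mpr fun x hx => by
      rw [SetLike.mem_coe, hZ] at hx
      rcases H93.zpowers_two_cases hz hx with rfl | rfl
      · simp
      · exact (hDz d hd).symm)) q).mp hq
  -- commutators with `Q`
  have hcQ : ∀ q ∈ Q, ∀ d ∈ D, q * d * q⁻¹ * d⁻¹ ∈ Q ⊓ D := fun q hq d hd => by
    refine ⟨?_, Subgroup.mul_mem _ ((inferInstance : D.Normal).conj_mem d hd q) (Subgroup.inv_mem _ hd)⟩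
    rw [show q * d * q⁻¹ * d⁻¹ = q * (d * q⁻¹ * d⁻¹) by group]
    exact mul_mem hq (hDN d hd _ (inv_mem hq))
  have hQD : Q ⊓ D ≤ Cfsg.pCore 2 G := by
    -- the 2-core of `D` lies in the 2-core of `G`
    have h1 : (Cfsg.pCore 2 D).map D.subtype ≤ Cfsg.pCore 2 G := by
      haveI : (Cfsg.pCore 2 D).Characteristic := H1.pCore_characteristic 2 ↥D
      haveI : ((Cfsg.pCore 2 D).map D.subtype).Normal := ConjAct.normal_of_characteristic_of_normal
      exact H69_core_two ((H93.isPGroup_pCore 2).map _)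
    have hn : ((Q ⊓ D).subgroupOf D).Normal := ⟨fun x hx d => ⟨hDN d d.2 x hx.1, (d * x * d⁻¹).2⟩⟩
    have h2 : (Q ⊓ D).subgroupOf D ≤ Cfsg.pCore 2 D :=
      H69_core_two (G := D) ((hE.1.1.to_le inf_le_left).comap_subtype)
    intro x hx
    exact h1 ⟨⟨x, hx.2⟩, h2 (show (⟨x, hx.2⟩ : D) ∈ (Q ⊓ D).subgroupOf D from hx), rfl⟩
  have hDQD : ∀ d ∈ D, ∀ x ∈ Q ⊓ D, d * x = x * d := fun d hd x hx =>
    (Subgroup.mem_centralizer_iff.mp hd x (hQD hx)).symm
  -- commutators of `D` centralise `Q`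
  have hder : ⁅D, D⁆ ≤ Subgroup.centralizer (Q : Set G) := by
    rw [Subgroup.commutator_le]
    intro a ha b hb
    rw [Subgroup.mem_centralizer_iff]
    intro q hq
    have key : ∀ a ∈ D, ∀ b ∈ D, q * (a * b) * q⁻¹ * (a * b)⁻¹ =
        (q * a * q⁻¹ * a⁻¹) * (q * b * q⁻¹ * b⁻¹) := fun a ha b hb => by
      calc q * (a * b) * q⁻¹ * (a * b)⁻¹
          = (q * a * q⁻¹ * a⁻¹) * (a * (q * b * q⁻¹ * b⁻¹)) * a⁻¹ := by group
        _ = (q * a * q⁻¹ * a⁻¹) * ((q * b * q⁻¹ * b⁻¹) * a) * a⁻¹ := by rw [hDQD a ha _ (hcQ q hq b hb)]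
        _ = _ := by group
    have hinv : ∀ a ∈ D, q * a⁻¹ * q⁻¹ * a⁻¹⁻¹ = (q * a * q⁻¹ * a⁻¹)⁻¹ := fun a ha => by
      refine eq_inv_of_mul_eq_one_right ?_
      rw [← key a ha a⁻¹ (inv_mem ha)]; group
    have h1 : q * ⁅a, b⁆ * q⁻¹ * ⁅a, b⁆⁻¹ = 1 := by
      rw [commutatorElement_def, key _ (mul_mem (mul_mem ha hb) (inv_mem ha)) _ (inv_mem hb),
        key _ (mul_mem ha hb) _ (inv_mem ha), key a ha b hb, hinv a ha, hinv b hb]
      have hc := hDQD _ (hcQ q hq a ha).2 _ (hcQ q hq b hb)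
      rw [hc]; group
    exact mul_inv_eq_iff_eq_mul.mp (mul_inv_eq_one.mp h1)
  rw [hC, hZ] at hder
  -- hence every element of odd order is central in `D`
  let Dodd : Subgroup G := Subgroup.closure {d | d ∈ D ∧ Odd (orderOf d)}
  have hcomm : ∀ a ∈ D, Odd (orderOf a) → ∀ b ∈ D, a * b = b * a := by
    intro a ha hodda b hb
    have h1 : b * a * b⁻¹ * a⁻¹ ∈ Subgroup.zpowers z :=
      hder (by rw [← commutatorElement_def]; exact Subgroup.commutator_mem_commutator hb ha)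
    rcases H93.zpowers_two_cases hz h1 with h | h
    · exact (mul_inv_eq_iff_eq_mul.mp (mul_inv_eq_one.mp h)).symm
    · exfalso
      have h2 : b * a * b⁻¹ = z * a := mul_inv_eq_iff_eq_mul.mp h
      have h3 : (z * a) ^ orderOf a = 1 := by rw [← h2, conj_pow, pow_orderOf_eq_one]; group
      rw [(show Commute z a from (hDz a ha).symm).mul_pow, pow_orderOf_eq_one, mul_one] at h3
      have h4 : orderOf z ∣ orderOf a := orderOf_dvd_of_pow_eq_one h3
      rw [hz] at h4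
      exact (Nat.not_even_iff_odd.mpr hodda) (even_iff_two_dvd.mpr h4)
  let K : Subgroup G :=
    { carrier := {d | d ∈ D ∧ Odd (orderOf d)}
      one_mem' := ⟨one_mem _, by simp⟩
      mul_mem' := fun {a b} ha hb => ⟨mul_mem ha.1 hb.1, Odd.of_dvd_nat (ha.2.mul hb.2)
        (Commute.orderOf_mul_dvd_mul_orderOf (hcomm a ha.1 ha.2 b hb.1))⟩
      inv_mem' := fun {a} ha => ⟨inv_mem ha.1, by rw [orderOf_inv]; exact ha.2⟩ }
  have hKn : K.Normal := ⟨fun x hx g => ⟨(inferInstance : D.Normal).conj_mem x hx.1 g, by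
    rw [← MulAut.conj_apply, MulEquiv.orderOf_eq]; exact hx.2⟩⟩
  have hKodd : Odd (Nat.card K) := by
    rw [← Nat.not_even_iff_odd, even_iff_two_dvd]
    intro h
    obtain ⟨x, hx⟩ := exists_prime_orderOf_dvd_card' 2 h
    have h2 := x.2.2
    rw [Subgroup.orderOf_coe, hx] at h2
    exact absurd h2 (by decide)
  have hK1 : K = ⊥ := hodd K hKodd (Subgroup.normalizer_eq_top_iff.mpr hKn ▸ le_top)
  have hDp : IsPGroup 2 D := by
    intro x
    obtain ⟨k, m, hm, he⟩ := Nat.exists_eq_two_pow_mul_odd (n := orderOf (x : G)) (orderOf_pos _).ne'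
    refine ⟨k, Subtype.ext ?_⟩
    have h1 : (x : G) ^ (2 ^ k) ∈ K := ⟨pow_mem x.2 _, by
      refine Odd.of_dvd_nat hm (orderOf_dvd_of_pow_eq_one ?_)
      rw [← pow_mul, ← he, pow_orderOf_eq_one]⟩
    rw [hK1, Subgroup.mem_bot] at h1
    simpa using h1
  exact H69_core_two hDp


theorem H69_mapSurj_mem {A B : Type*} [Group A] [Group B] [Finite A] [Finite B] {p : ℕ} [Fact p.Prime]
    {f : A →* B} {hf : Function.Surjective f} (P : Sylow p A) (y : B) :
    y ∈ (P.mapSurjective hf : Subgroup B) ↔ ∃ x ∈ (P : Subgroup A), f x = y := by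
  rw [Sylow.coe_mapSurjective]; exact Subgroup.mem_map

theorem exists_ne_two {m : ℕ} (h : 3 ≤ m) (a b : Fin m) : ∃ k, k ≠ a ∧ k ≠ b := by
  by_contra hn
  push Not at hn
  have h0 := hn ⟨0, by omega⟩
  have h1 := hn ⟨1, by omega⟩
  have h2 := hn ⟨2, by omega⟩
  have key : ∀ k l : Fin m, k.1 ≠ l.1 → k ≠ l := fun k l h e => h (congrArg Fin.val e)
  by_cases e0 : (⟨0, by omega⟩ : Fin m) = a
  · have e1 := h1 (fun e => key ⟨1, by omega⟩ ⟨0, by omega⟩ (by simp) (e.trans e0.symm))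
    have e2 := h2 (fun e => key ⟨2, by omega⟩ ⟨0, by omega⟩ (by simp) (e.trans e0.symm))
    exact key ⟨1, by omega⟩ ⟨2, by omega⟩ (by simp) (e1.trans e2.symm)
  · have e0' := h0 e0
    by_cases e1 : (⟨1, by omega⟩ : Fin m) = a
    · have e2 := h2 (fun e => key ⟨2, by omega⟩ ⟨1, by omega⟩ (by simp) (e.trans e1.symm))
      exact key ⟨0, by omega⟩ ⟨2, by omega⟩ (by simp) (e0'.trans e2.symm)
    · exact key ⟨0, by omega⟩ ⟨1, by omega⟩ (by simp) (e0'.trans (h1 e1).symm)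

theorem H69_sylow_normal (P : Sylow 2 G) (M : Subgroup G) [M.Normal] :
    ∃ PM : Sylow 2 M, (PM : Subgroup M) = (P : Subgroup G).subgroupOf M := by
  have := Fact.mk Nat.prime_two
  obtain ⟨S, hS⟩ := (P.isPGroup'.comap_subtype (K := M)).exists_le_sylow
  refine ⟨S, (Subgroup.eq_of_le_of_card_ge hS ?_).symm⟩
  obtain ⟨T, hT⟩ := (S.isPGroup'.map M.subtype).exists_le_sylow
  obtain ⟨g, rfl⟩ := MulAction.exists_smul_eq G P T
  have hmem : ∀ x : (S : Subgroup M), g⁻¹ * ((x : M) : G) * g ∈ (P : Subgroup G) := by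
    intro x
    have h1 : ((x : M) : G) ∈ ((g • P : Sylow 2 G) : Set G) := hT ⟨x, x.2, rfl⟩
    rw [Sylow.coe_smul] at h1
    obtain ⟨y, hy, e⟩ := Set.mem_smul_set.mp h1
    rw [← e, MulAut.smul_def, MulAut.conj_apply]
    rw [show g⁻¹ * (g * y * g⁻¹) * g = y by group]
    exact hy
  refine Nat.card_le_card_of_injective (fun x => (⟨⟨g⁻¹ * ((x : M) : G) * g, ?_⟩, hmem x⟩ :
    ↥((P : Subgroup G).subgroupOf M))) ?_
  · simpa using (inferInstance : M.Normal).conj_mem _ (x : M).2 g⁻¹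
  · intro a b h
    have := congrArg (fun t : ↥((P : Subgroup G).subgroupOf M) => ((t : M) : G)) h
    exact Subtype.ext (Subtype.ext (by simpa using this))

theorem H69_big {S : Type*} [Group S] [Finite S] [IsSimpleGroup S] (hS : ¬ ∀ a b : S, a * b = b * a)
    (R : Sylow 2 S) {z₀ : S} (hz₀ : z₀ ≠ 1) (hR : ∀ r, r ∈ (R : Subgroup S) ↔ r * z₀ = z₀ * r) :
    ∃ r, r * z₀ = z₀ * r ∧ r ≠ 1 ∧ r ≠ z₀ := by
  have := Fact.mk Nat.prime_two
  by_contra hn
  push Not at hn
  have htwo : ∀ r ∈ (R : Subgroup S), r = 1 ∨ r = z₀ := fun r hr => by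
    by_cases h : r = 1
    · exact Or.inl h
    · exact Or.inr (hn r ((hR r).mp hr) h)
  have hzR : z₀ ∈ (R : Subgroup S) := (hR z₀).mpr rfl
  have hcomm : ∀ n ∈ Subgroup.normalizer ((R : Subgroup S) : Set S), n * z₀ = z₀ * n := by
    intro n hn'
    rcases htwo _ ((Subgroup.mem_normalizer_iff.mp hn' z₀).mp hzR) with h | h
    · exact absurd (conj_eq_one_iff.mp h) hz₀
    · exact mul_inv_eq_iff_eq_mul.mp h
  have hN : Subgroup.normalizer ((R : Subgroup S) : Set S) ≤ Subgroup.centralizer ((R : Subgroup S) : Set S) := by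
    intro n hn'
    rw [Subgroup.mem_centralizer_iff]
    intro r hr
    rcases htwo r hr with rfl | rfl
    · simp
    · exact (hcomm n hn').symm
  have hcompl := MonoidHom.ker_transferSylow_isComplement' R hN
  rcases Subgroup.Normal.eq_bot_or_eq_top (inferInstance : (MonoidHom.transferSylow R hN).ker.Normal) with h | h
  · rw [h, Subgroup.isComplement'_bot_left] at hcompl
    refine hS fun a b => ?_
    rcases htwo a (hcompl ▸ Subgroup.mem_top a) with rfl | rfl <;>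
      rcases htwo b (hcompl ▸ Subgroup.mem_top b) with rfl | rfl <;> simp
  · rw [h, Subgroup.isComplement'_top_left] at hcompl
    rw [hcompl, Subgroup.mem_bot] at hzR
    exact hz₀ hzR

theorem H69_count {Q : Subgroup G} (hE : Cfsg.IsExtraspecial 2 Q) {z : G} (hz : orderOf z = 2)
    (hZ : (Subgroup.center Q).map Q.subtype = Subgroup.zpowers z) {M : Subgroup G} (hMn : M.Normal)
    {S : Type} [Group S] {m : ℕ} (hm : 3 ≤ m) (e : M ≃* (Fin m → S)) (hzM : z ∈ M)
    (J : Fin m → S → G) (hJM : ∀ i s, J i s ∈ M) (hJe : ∀ i s (h : J i s ∈ M), e ⟨J i s, h⟩ = Pi.mulSingle i s)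
    (hJz : ∀ i s, (J i s * z = z * J i s ↔ s * e ⟨z, hzM⟩ i = e ⟨z, hzM⟩ i * s))
    (σ : G → Fin m → Fin m) (α : G → Fin m → S →* S) (hαi : ∀ g i, Function.Injective (α g i))
    (hact : ∀ g i s, g * J i s * g⁻¹ = J (σ g i) (α g i s))
    (hcoord : ∀ (g : G) (i : Fin m) (x : G) (hx : x ∈ M),
      e ⟨g * x * g⁻¹, hMn.conj_mem x hx g⟩ (σ g i) = α g i (e ⟨x, hx⟩ i))
    (hσm : ∀ a b i, σ (a * b) i = σ a (σ b i)) (hσ1 : ∀ i, σ 1 i = i) (hσinj : ∀ g, Function.Injective (σ g))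
    (hzne : ∀ i, e ⟨z, hzM⟩ i ≠ 1) (hmove : ∀ i, ∃ q ∈ Q, σ q i ≠ i)
    (htrans : ∀ i j, ∃ q ∈ Q, σ q i = j)
    (hce : ∀ q ∈ Q, ∀ i s (k : Fin m) (hmem : q * J i s * q⁻¹ * (J i s)⁻¹ ∈ M),
      e ⟨q * J i s * q⁻¹ * (J i s)⁻¹, hmem⟩ k =
        (Pi.mulSingle (σ q i) (α q i s) : Fin m → S) k * ((Pi.mulSingle i s : Fin m → S) k)⁻¹)
    (hcQ : ∀ q ∈ Q, ∀ i s, J i s * z = z * J i s → q * J i s * q⁻¹ * (J i s)⁻¹ ∈ Q)
    (hMQ : ∀ q ∈ Q, ∀ i s, q * J i s * q⁻¹ * (J i s)⁻¹ ∈ M)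
    (i : Fin m) (r : S) (hr : r * e ⟨z, hzM⟩ i = e ⟨z, hzM⟩ i * r) (hr1 : r ≠ 1) (hrz : r ≠ e ⟨z, hzM⟩ i) :
    False := by
  classical
  have := Fact.mk Nat.prime_two
  set zc := e ⟨z, hzM⟩ with hzc
  have hzQ : z ∈ Q := H93.centerMap_le Q (hZ ▸ Subgroup.mem_zpowers z)
  have hzq : ∀ q ∈ Q, q * z = z * q := (H93.mem_centerMap.mp (hZ ▸ Subgroup.mem_zpowers z)).2
  have hcm : ∀ q ∈ Q, ∀ d ∈ Q, q * d * q⁻¹ = d ∨ q * d * q⁻¹ = z * d := fun q hq d hd => by
    have h := H69.extra_comm_mem hE hq hd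
    rw [hZ, commutatorElement_def] at h
    rcases H93.zpowers_two_cases hz h with h | h
    · exact Or.inl (mul_inv_eq_one.mp h)
    · exact Or.inr (mul_inv_eq_iff_eq_mul.mp h)
  have hsingle : ∀ d, ∀ hd : d ∈ M, d ∈ Q → (∀ k, k ≠ i → e ⟨d, hd⟩ k = 1) → d = 1 := by
    intro d hd hdQ hsupp
    suffices h : e ⟨d, hd⟩ i = 1 by
      have : e ⟨d, hd⟩ = 1 := funext fun k => by
        by_cases hk : k = i
        · subst hk; exact h
        · exact hsupp k hk
      exact congrArg Subtype.val ((map_eq_one_iff _ e.injective).mp this)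
    obtain ⟨q, hq, hqi⟩ := hmove i
    rcases hcm q hq d hdQ with h | h
    · apply hαi q i
      rw [map_one, ← hcoord q i d hd]
      have h' : (⟨q * d * q⁻¹, hMn.conj_mem d hd q⟩ : M) = ⟨d, hd⟩ := Subtype.ext h
      rw [h']; exact hsupp _ hqi
    · exfalso
      obtain ⟨k, hk1, hk2⟩ := exists_ne_two hm i (σ q i)
      obtain ⟨k', hk'⟩ := (Finite.injective_iff_surjective.mp (hσinj q)) k
      have h' : (⟨q * d * q⁻¹, hMn.conj_mem d hd q⟩ : M) = ⟨z, hzM⟩ * ⟨d, hd⟩ := Subtype.ext h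
      have h2 := hcoord q k' d hd
      rw [h', map_mul, hk', Pi.mul_apply, hsupp k hk1, mul_one, hsupp k' (fun h => hk2 (by rw [← hk', h])), map_one] at h2
      exact hzne k h2
  let Q1 : Subgroup ↥Q :=
    { carrier := {q | σ (q : G) i = i}
      one_mem' := hσ1 i
      mul_mem' := fun {a b} ha hb => by
        show σ ((a : G) * b) i = i
        rw [hσm, show σ (b : G) i = i from hb]; exact ha
      inv_mem' := fun {a} ha => by
        show σ ((a : G)⁻¹) i = i
        have h := hσm (a : G)⁻¹ a i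
        rw [inv_mul_cancel, hσ1, show σ (a : G) i = i from ha] at h
        exact h.symm }
  have hzfix : σ z i = i := by
    have h := hact z i (zc i)
    rw [mul_inv_eq_of_eq_mul ((hJz i (zc i)).mpr rfl).symm] at h
    have h' := congrArg e (Subtype.ext h : (⟨J i (zc i), hJM _ _⟩ : M) = ⟨J (σ z i) (α z i (zc i)), hJM _ _⟩)
    rw [hJe, hJe] at h'
    by_contra hne
    have h2 := congrFun h' i
    rw [Pi.mulSingle_eq_same, Pi.mulSingle_eq_of_ne (Ne.symm hne)] at h2
    exact hzne i h2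
  have hcen : Subgroup.center ↥Q ≤ Q1 := by
    intro x hx
    have : (x : G) ∈ Subgroup.zpowers z := hZ ▸ ⟨x, hx, rfl⟩
    show σ (x : G) i = i
    rcases H93.zpowers_two_cases hz this with h | h <;> rw [h]
    exacts [hσ1 i, hzfix]
  have hQ1n : ∀ q ∈ Q, ∀ q₁ ∈ Q, σ q₁ i = i → σ (q⁻¹ * q₁ * q) i = i := by
    intro q hq q₁ hq₁ h1
    rcases hcm q⁻¹ (inv_mem hq) q₁ hq₁ with h | h <;> rw [inv_inv] at h <;> rw [h]
    · exact h1
    · rw [hσm, h1, hzfix]
  set W := Subgroup.centralizer (Q1 : Set ↥Q) with hW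
  -- the candidates
  have hfix : ∀ s, s * zc i = zc i * s → ∀ q₁ ∈ Q, σ q₁ i = i → q₁ * J i s = J i s * q₁ := by
    intro s hs q₁ hq₁ h1
    refine mul_inv_eq_iff_eq_mul.mp (mul_inv_eq_one.mp
      (hsingle _ (hMQ q₁ hq₁ i s) (hcQ q₁ hq₁ i s ((hJz i s).mpr hs)) fun k hk => ?_))
    rw [hce q₁ hq₁, h1, Pi.mulSingle_eq_of_ne hk, Pi.mulSingle_eq_of_ne hk, one_mul, inv_one]
  have hcW : ∀ s, ∀ hs : s * zc i = zc i * s, ∀ q (hq : q ∈ Q),
      (⟨q * J i s * q⁻¹ * (J i s)⁻¹, hcQ q hq i s ((hJz i s).mpr hs)⟩ : ↥Q) ∈ W := by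
    intro s hs q hq
    rw [hW, Subgroup.mem_centralizer_iff]
    intro q₁ hq₁
    apply Subtype.ext
    have h1 : (show Prop from Commute (q₁ : G) (J i s)) := hfix s hs q₁ q₁.2 hq₁
    have h2 : Commute (q₁ : G) (q * J i s * q⁻¹) := by
      have h3 := hfix s hs (q⁻¹ * (q₁ : G) * q) (mul_mem (mul_mem (inv_mem hq) q₁.2) hq) (hQ1n q hq q₁ q₁.2 hq₁)
      calc (q₁ : G) * (q * J i s * q⁻¹) = q * ((q⁻¹ * q₁ * q) * J i s) * q⁻¹ := by group
        _ = q * (J i s * (q⁻¹ * q₁ * q)) * q⁻¹ := by rw [h3]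
        _ = q * J i s * q⁻¹ * q₁ := by group
    exact (h2.mul_right h1.inv_right).eq
  choose qq hqq hqqj using fun j => htrans i j
  let rs : Fin 3 → S := ![r, zc i, r * zc i]
  have hzc2 : zc i * zc i = 1 := by
    rw [← Pi.mul_apply, hzc, ← map_mul, show (⟨z, hzM⟩ * ⟨z, hzM⟩ : M) = 1 from Subtype.ext
      (show z * z = 1 by rw [← pow_two, ← hz, pow_orderOf_eq_one]), map_one]; rfl
  have hrs : ∀ a, rs a * zc i = zc i * rs a ∧ rs a ≠ 1 := by
    intro a
    fin_cases a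
    · exact ⟨hr, hr1⟩
    · exact ⟨rfl, hzne i⟩
    · refine ⟨?_, fun h => hrz ?_⟩
      · show r * zc i * zc i = zc i * (r * zc i)
        rw [← mul_assoc (zc i), ← hr]
      · have h' : r * zc i = 1 := h
        calc r = r * zc i * zc i := by rw [mul_assoc, hzc2, mul_one]
          _ = zc i := by rw [h', one_mul]
  have hrsi : Function.Injective rs := by
    have h1 : r * zc i ≠ r := fun h => hzne i (mul_eq_left.mp h)
    have h2 : r * zc i ≠ zc i := fun h => hr1 (mul_eq_right.mp h)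
    intro a b h
    fin_cases a <;> fin_cases b
    exacts [rfl, absurd h hrz, absurd h.symm h1, absurd h.symm hrz, rfl, absurd h.symm h2,
      absurd h h1, absurd h h2, rfl]
  let f : {j : Fin m // j ≠ i} × Fin 3 → ↥W := fun p => ⟨_, hcW (rs p.2) (hrs p.2).1 (qq p.1.1) (hqq p.1.1)⟩
  have hfe : ∀ p k (h : ((f p : ↥Q) : G) ∈ M), e ⟨((f p : ↥Q) : G), h⟩ k =
      (Pi.mulSingle p.1.1 (α (qq p.1.1) i (rs p.2)) : Fin m → S) k * ((Pi.mulSingle i (rs p.2) : Fin m → S) k)⁻¹ := by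
    intro p k h
    rw [hce (qq p.1.1) (hqq p.1.1) i (rs p.2) k h, hqqj]
  have hfM : ∀ p, ((f p : ↥Q) : G) ∈ M := fun p => hMQ _ (hqq p.1.1) i _
  have hαne : ∀ p : {j : Fin m // j ≠ i} × Fin 3, α (qq p.1.1) i (rs p.2) ≠ 1 :=
    fun p h => (hrs p.2).2 (hαi _ i (h.trans (map_one _).symm))
  have hfi : Function.Injective f := by
    rintro p p' h
    have hh : ((f p : ↥Q) : G) = ((f p' : ↥Q) : G) := by rw [h]
    have hk : ∀ k, e ⟨_, hfM p⟩ k = e ⟨_, hfM p'⟩ k := fun k => by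
      rw [show (⟨_, hfM p⟩ : M) = ⟨_, hfM p'⟩ from Subtype.ext hh]
    have hi := hk i
    rw [hfe, hfe, Pi.mulSingle_eq_of_ne (Ne.symm p.1.2), Pi.mulSingle_eq_of_ne (Ne.symm p'.1.2),
      Pi.mulSingle_eq_same, Pi.mulSingle_eq_same, one_mul, one_mul] at hi
    have h2 : p.2 = p'.2 := hrsi (inv_injective hi)
    have hj := hk p.1.1
    rw [hfe, hfe, Pi.mulSingle_eq_same, Pi.mulSingle_eq_of_ne p.1.2, Pi.mulSingle_eq_of_ne p.1.2] at hj
    by_cases hjj : p.1.1 = p'.1.1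
    · exact Prod.ext (Subtype.ext hjj) h2
    · rw [Pi.mulSingle_eq_of_ne hjj, inv_one, mul_one, mul_one] at hj
      exact absurd hj (hαne p)
  have hf1 : ∀ p, ((f p : ↥Q) : G) ≠ 1 ∧ ((f p : ↥Q) : G) ≠ z := by
    intro p
    obtain ⟨k, hk1, hk2⟩ := exists_ne_two hm i p.1.1
    constructor <;> intro h
    · have h' := hfe p i (hfM p)
      rw [show (⟨_, hfM p⟩ : M) = 1 from Subtype.ext h, map_one, Pi.one_apply,
        Pi.mulSingle_eq_of_ne (Ne.symm p.1.2), Pi.mulSingle_eq_same, one_mul] at h'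
      exact (hrs p.2).2 (inv_eq_one.mp h'.symm)
    · have h' := hfe p k (hfM p)
      rw [show (⟨_, hfM p⟩ : M) = ⟨z, hzM⟩ from Subtype.ext h, Pi.mulSingle_eq_of_ne hk2,
        Pi.mulSingle_eq_of_ne hk1, one_mul, inv_one] at h'
      exact hzne k h'
  have hzW : (⟨z, hzQ⟩ : ↥Q) ∈ W := Subgroup.mem_centralizer_iff.mpr fun x _ => Subtype.ext (hzq x x.2)
  let g' : ({j : Fin m // j ≠ i} × Fin 3) ⊕ Fin 2 → ↥W := Sum.elim f ![1, ⟨⟨z, hzQ⟩, hzW⟩]
  have hgi : Function.Injective g' := by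
    refine Function.Injective.sumElim hfi ?_ fun p b => ?_
    · have hne : z ≠ 1 := fun h => by simp [h] at hz
      intro a b h
      have h' := congrArg (fun w : ↥W => ((w : ↥Q) : G)) h
      fin_cases a <;> fin_cases b
      exacts [rfl, absurd h'.symm hne, absurd h' hne, rfl]
    · intro h
      have h' := congrArg (fun w : ↥W => ((w : ↥Q) : G)) h
      fin_cases b
      · exact (hf1 p).1 h'
      · exact (hf1 p).2 h'
  have h1 := Nat.card_le_card_of_injective g' hgi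
  rw [Nat.card_sum, Nat.card_prod, Nat.card_eq_fintype_card (α := Fin 3), Nat.card_eq_fintype_card (α := Fin 2),
    Fintype.card_fin, Fintype.card_fin, Nat.card_eq_fintype_card, Fintype.card_subtype_compl,
    Fintype.card_fin, Fintype.card_subtype_eq] at h1
  -- the bound
  have hcomm2 : Nat.card ↥⁅Q1, (⊤ : Subgroup ↥Q)⁆ ≤ 2 := by
    rw [← hE.2]
    refine Subgroup.card_le_of_le ?_
    rw [Subgroup.commutator_le]
    exact fun a _ b _ => H6.extraspecial_commutator_mem_center hE a b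
  have hrel := H30.relIndex_eq_relIndex hE.1.1 Q1 ⊤ hcomm2
  rw [Subgroup.coe_top, Subgroup.centralizer_univ, inf_eq_right.mpr hcen, top_inf_eq,
    Subgroup.relIndex_top_right, ← hW] at hrel
  have h2 := Subgroup.relIndex_mul_relIndex ⊥ (Subgroup.center ↥Q) Q1 bot_le hcen
  rw [Subgroup.relIndex_bot_left, Subgroup.relIndex_bot_left, hE.2, hrel] at h2
  have h3 : Q1.index ≤ m := by
    have hi : Function.Injective (Quotient.lift (s := QuotientGroup.leftRel Q1) (fun q : ↥Q => σ (q : G) i)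
        (fun a b hab => by
          have h' : σ ((a : G)⁻¹ * b) i = i := QuotientGroup.leftRel_apply.mp hab
          show σ (a : G) i = σ (b : G) i
          conv_rhs => rw [show (b : G) = a * ((a : G)⁻¹ * b) by group, hσm, h'])) := by
      rintro ⟨a⟩ ⟨b⟩ h
      refine Quotient.sound (QuotientGroup.leftRel_apply.mpr ?_)
      show σ ((a : G)⁻¹ * b) i = i
      rw [hσm, show σ (b : G) i = σ (a : G) i from h.symm, ← hσm, inv_mul_cancel, hσ1]
    have h' := Nat.card_le_card_of_injective _ hi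
    rw [Nat.card_eq_fintype_card (α := Fin m), Fintype.card_fin] at h'
    exact h'
  have h4 := W.card_mul_index
  have h5 := Q1.card_mul_index
  have hpos : 0 < W.index := Nat.pos_of_ne_zero Subgroup.index_ne_zero_of_finite
  have h6 : Nat.card ↥W ≤ 2 * m := by
    have : Nat.card ↥W * W.index = (2 * Q1.index) * W.index := by
      rw [h4, ← h5, ← h2]; ring
    rw [Nat.eq_of_mul_eq_mul_right hpos this]
    omega
  omega

theorem H69_semisimple {Q : Subgroup G} (hQ : Cfsg.IsLargeExtraspecial Q) {z : G} (hz : orderOf z = 2)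
    (hZ : (Subgroup.center Q).map Q.subtype = Subgroup.zpowers z) (M : Subgroup G) [hMn : M.Normal]
    {S : Type} [Group S] [Finite S] [IsSimpleGroup S] (hS : ¬ ∀ a b : S, a * b = b * a) {m : ℕ}
    (hm : 1 ≤ m) (e : M ≃* (Fin m → S)) (hzM : z ∈ M) :
    IsSimpleGroup ↥M ∨ ∃ (L : Subgroup G) (u : G), u ∈ Q ∧ IsSimpleGroup ↥L ∧ ¬ IsMulCommutative ↥L ∧
      L ⊓ (L).map (MulAut.conj u).toMonoidHom = ⊥ ∧ (∀ x ∈ L, ∀ y ∈ (L).map (MulAut.conj u).toMonoidHom, x * y = y * x) ∧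
      L ⊔ (L).map (MulAut.conj u).toMonoidHom = M ∧ ∃ z₁ ∈ L, z = z₁ * (u * z₁ * u⁻¹) ∧
      (∃ R : Sylow 2 ↥L, (R : Subgroup ↥L) = (Subgroup.centralizer ({z₁} : Set G)).subgroupOf L ∧
        (frattini ↥(R : Subgroup ↥L)).map ((L.subtype).comp (R : Subgroup ↥L).subtype) ≤ Subgroup.zpowers z₁) ∧
      Q ≠ (Cfsg.pCore 2 ↥(Subgroup.centralizer ({z} : Set G))).map (Subgroup.centralizer ({z} : Set G)).subtype := by
  classical
  have := Fact.mk Nat.prime_two
  by_cases hm1 : m = 1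
  · subst hm1
    exact Or.inl (e.trans (MulEquiv.funUnique (Fin 1) S)).isSimpleGroup
  right
  obtain ⟨hE, hC, hL3, hodd⟩ := hQ
  have hzz : z * z = 1 := by rw [← pow_two, ← hz, pow_orderOf_eq_one]
  have hzQ : z ∈ Q := H93.centerMap_le Q (hZ ▸ Subgroup.mem_zpowers z)
  have hzq : ∀ q ∈ Q, q * z = z * q := (H93.mem_centerMap.mp (hZ ▸ Subgroup.mem_zpowers z)).2
  have hCQ : ∀ x, (∀ q ∈ Q, q * x = x * q) → x = 1 ∨ x = z := fun x h =>
    H93.zpowers_two_cases hz (hZ ▸ hC ▸ Subgroup.mem_centralizer_iff.mpr h)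
  have hNQ : ∀ x, x * z = z * x → ∀ q ∈ Q, x * q * x⁻¹ ∈ Q := fun x hx q hq =>
    (Subgroup.mem_normalizer_iff.mp (hL3 (Subgroup.mem_centralizer_iff.mpr fun y hy => by
      rw [SetLike.mem_coe, hZ] at hy
      rcases H93.zpowers_two_cases hz hy with rfl | rfl
      · simp
      · exact hx.symm)) q).mp hq
  set zc := e ⟨z, hzM⟩ with hzc
  set J := fun (i : Fin m) (s : S) => ((e.symm (Pi.mulSingle i s) : M) : G) with hJ
  have hJmul : ∀ i s t, J i (s * t) = J i s * J i t := fun i s t => by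
    simp [hJ, Pi.mulSingle_mul]
  have hJ1 : ∀ i s, J i s = 1 → s = 1 := fun i s h => by
    have h' : e.symm (Pi.mulSingle i s) = 1 := Subtype.ext h
    simpa using congrFun ((map_eq_one_iff _ e.symm.injective).mp h') i
  have hJe : ∀ i s, e ⟨J i s, (e.symm (Pi.mulSingle i s)).2⟩ = Pi.mulSingle i s := fun i s => by
    simp [hJ]
  have hJM : ∀ i s, J i s ∈ M := fun i s => (e.symm (Pi.mulSingle i s)).2
  have hJz : ∀ i s, (J i s * z = z * J i s ↔ s * zc i = zc i * s) := fun i s => by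
    rw [← H69.mulSingle_comm_iff zc i s]
    constructor
    · intro h
      have h' : (⟨J i s, hJM i s⟩ : M) * ⟨z, hzM⟩ = ⟨z, hzM⟩ * ⟨J i s, hJM i s⟩ := Subtype.ext h
      have := congrArg e h'
      rwa [map_mul, map_mul, hJe] at this
    · intro h
      have h' : (⟨J i s, hJM i s⟩ : M) * ⟨z, hzM⟩ = ⟨z, hzM⟩ * ⟨J i s, hJM i s⟩ :=
        e.injective (by rw [map_mul, map_mul, hJe]; exact h)
      exact congrArg Subtype.val h'
  -- the action on the factors
  choose σ α hαi hαs hαc using fun (g : G) (i : Fin m) =>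
    H69.exists_factor_perm hS ((e.symm.trans (MulAut.conjNormal g : MulAut M)).trans e) i
  have hact : ∀ g i s, g * J i s * g⁻¹ = J (σ g i) (α g i s) := fun g i s => by
    have h := hαs g i s
    have h2 : (MulAut.conjNormal g : MulAut M) (e.symm (Pi.mulSingle i s)) = e.symm (Pi.mulSingle (σ g i) (α g i s)) := by
      rw [← h]; simp
    have h3 := congrArg (fun x : M => (x : G)) h2
    simpa [hJ] using h3
  have hcoord : ∀ (g : G) (i : Fin m) (x : G) (hx : x ∈ M),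
      e ⟨g * x * g⁻¹, hMn.conj_mem x hx g⟩ (σ g i) = α g i (e ⟨x, hx⟩ i) := fun g i x hx => by
    have h := hαc g i (e ⟨x, hx⟩)
    simp only [MulEquiv.trans_apply, MulEquiv.symm_apply_apply] at h
    rw [← h]
    congr 2
  obtain ⟨s₁, hs₁⟩ := exists_ne (1 : S)
  have hJinj : ∀ i j s t, J i s = J j t → s ≠ 1 → i = j ∧ s = t := by
    intro i j s t h hs
    have h' : (Pi.mulSingle i s : Fin m → S) = Pi.mulSingle j t := by
      rw [← hJe i s, ← hJe j t]; exact congrArg e (Subtype.ext h)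
    have hij : i = j := by
      by_contra hij
      have := congrFun h' i
      rw [Pi.mulSingle_eq_same, Pi.mulSingle_eq_of_ne hij] at this
      exact hs this
    subst hij
    exact ⟨rfl, by simpa using congrFun h' i⟩
  have hσm : ∀ a b i, σ (a * b) i = σ a (σ b i) := by
    intro a b i
    have h : J (σ (a * b) i) (α (a * b) i s₁) = J (σ a (σ b i)) (α a (σ b i) (α b i s₁)) := by
      rw [← hact, ← hact, ← hact]; group
    exact (hJinj _ _ _ _ h fun h1 => hs₁ (hαi _ i (h1.trans (map_one _).symm))).1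
  have hσ1 : ∀ i, σ 1 i = i := by
    intro i
    have h : J i s₁ = J (σ 1 i) (α 1 i s₁) := by rw [← hact]; group
    exact (hJinj _ _ _ _ h hs₁).1.symm
  have hσinj : ∀ g, Function.Injective (σ g) := fun g i j h => by
    have hi := hσm g⁻¹ g i
    have hj := hσm g⁻¹ g j
    rw [inv_mul_cancel, hσ1] at hi hj
    rw [hi, hj, h]
  have hαz : ∀ g, g * z = z * g → ∀ i, α g i (zc i) = zc (σ g i) := fun g hg i => by
    have h' : (⟨g * z * g⁻¹, hMn.conj_mem z hzM g⟩ : M) = ⟨z, hzM⟩ := Subtype.ext (mul_inv_eq_of_eq_mul hg)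
    rw [hzc, ← hcoord g i z hzM, h']
  -- commutators
  have hcQ : ∀ q ∈ Q, ∀ i s, J i s * z = z * J i s → q * J i s * q⁻¹ * (J i s)⁻¹ ∈ Q := fun q hq i s h => by
    rw [show q * J i s * q⁻¹ * (J i s)⁻¹ = q * (J i s * q⁻¹ * (J i s)⁻¹) by group]
    exact mul_mem hq (hNQ _ h _ (inv_mem hq))
  have hMQ : ∀ q ∈ Q, ∀ i s, q * J i s * q⁻¹ * (J i s)⁻¹ ∈ M := fun q _ i s =>
    mul_mem (hMn.conj_mem _ (hJM i s) q) (inv_mem (hJM i s))
  have hce : ∀ q ∈ Q, ∀ i s (k : Fin m) (hmem : q * J i s * q⁻¹ * (J i s)⁻¹ ∈ M),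
      e ⟨q * J i s * q⁻¹ * (J i s)⁻¹, hmem⟩ k =
        (Pi.mulSingle (σ q i) (α q i s) : Fin m → S) k * ((Pi.mulSingle i s : Fin m → S) k)⁻¹ := by
    intro q _ i s k hmem
    have h : (⟨q * J i s * q⁻¹ * (J i s)⁻¹, hmem⟩ : M) =
        ⟨J (σ q i) (α q i s), hJM _ _⟩ * (⟨J i s, hJM i s⟩ : M)⁻¹ := Subtype.ext (by simp [← hact])
    rw [h, map_mul, map_inv, hJe, hJe]
    rfl
  -- every coordinate of `z` is nontrivial
  have hzne : ∀ i, zc i ≠ 1 := by
    intro i hi
    have hcz : ∀ s, J i s * z = z * J i s := fun s => (hJz i s).mpr (by rw [hi]; simp)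
    let P : Subgroup S := ((Q ⊓ M).subgroupOf M).map ((Pi.evalMonoidHom (fun _ : Fin m => S) i).comp e.toMonoidHom)
    have hPn : P.Normal := by
      refine ⟨fun p hp b => ?_⟩
      obtain ⟨d, hd, rfl⟩ := hp
      refine ⟨⟨J i b, hJM i b⟩ * d * (⟨J i b, hJM i b⟩ : M)⁻¹, ⟨hNQ _ (hcz b) d hd.1, M.mul_mem (M.mul_mem (hJM i b) d.2) (M.inv_mem (hJM i b))⟩, ?_⟩
      simp [hJe]
    have hP2 : IsPGroup 2 P := ((hE.1.1.to_le inf_le_left).comap_subtype).map _
    have hP : P = ⊥ := hPn.eq_bot_or_eq_top.resolve_right fun h =>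
      H69_not_two hS ((hP2.of_equiv ((MulEquiv.subgroupCongr h).trans Subgroup.topEquiv)))
    have hcent : ∀ d, d ∈ Q → d ∈ M → ∀ s, J i s * d = d * J i s := by
      intro d hdQ hdM s
      have h1 : e ⟨d, hdM⟩ i = 1 := Subgroup.mem_bot.mp (hP ▸ ⟨⟨d, hdM⟩, ⟨hdQ, hdM⟩, rfl⟩)
      have h' : (⟨J i s, hJM i s⟩ : M) * ⟨d, hdM⟩ = ⟨d, hdM⟩ * ⟨J i s, hJM i s⟩ :=
        e.injective (by rw [map_mul, map_mul, hJe, H69.mulSingle_comm_iff, h1]; simp)
      exact congrArg Subtype.val h'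
    have hall : ∀ q ∈ Q, ∀ s, q * J i s = J i s * q := by
      intro q hq s
      let ψ : S →* Q := MonoidHom.mk' (fun s => ⟨_, hcQ q hq i s (hcz s)⟩) fun a b => Subtype.ext (by
        have hb := hcent _ (hcQ q hq i b (hcz b)) (hMQ q hq i b) a
        show q * J i (a * b) * q⁻¹ * (J i (a * b))⁻¹ = _
        calc q * J i (a * b) * q⁻¹ * (J i (a * b))⁻¹
            = (q * J i a * q⁻¹ * (J i a)⁻¹) * (J i a * (q * J i b * q⁻¹ * (J i b)⁻¹)) * (J i a)⁻¹ := by
              rw [hJmul]; group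
          _ = (q * J i a * q⁻¹ * (J i a)⁻¹) * ((q * J i b * q⁻¹ * (J i b)⁻¹) * J i a) * (J i a)⁻¹ := by rw [hb]
          _ = _ := by simp only [Subgroup.coe_mul]; group)
      rcases (inferInstance : ψ.ker.Normal).eq_bot_or_eq_top with h | h
      · exact absurd (hE.1.1.of_injective ψ ((MonoidHom.ker_eq_bot_iff ψ).mp h)) (H69_not_two hS)
      · have h1 : ψ s = 1 := MonoidHom.mem_ker.mp (h ▸ Subgroup.mem_top s)
        exact mul_inv_eq_iff_eq_mul.mp (mul_inv_eq_one.mp (congrArg Subtype.val h1))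
    rcases hCQ (J i s₁) (fun q hq => hall q hq s₁) with h | h
    · exact hs₁ (hJ1 i s₁ h)
    · apply hs₁
      have h' : zc = Pi.mulSingle i s₁ := by
        rw [hzc, ← hJe i s₁]; exact congrArg e (Subtype.ext h.symm)
      have := congrFun h' i
      rw [hi, Pi.mulSingle_eq_same] at this
      exact this.symm
  have hJzi : ∀ i, J i (zc i) * z = z * J i (zc i) := fun i => (hJz i _).mpr rfl
  have hoff : ∀ i : Fin m, ∃ j, j ≠ i := fun i => by
    have : 1 < m := by omega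
    haveI : Nontrivial (Fin m) := Fin.nontrivial_iff_two_le.mpr (by omega)
    exact exists_ne i
  -- nobody fixes a factor
  have hmove : ∀ i, ∃ q ∈ Q, σ q i ≠ i := by
    intro i
    by_contra hn
    push Not at hn
    let E : Subgroup G :=
      { carrier := {x | ∃ hx : x ∈ M, x ∈ Q ∧ ∀ k, k ≠ i → e ⟨x, hx⟩ k = 1}
        one_mem' := ⟨one_mem _, one_mem _, fun k _ => by
          rw [show (⟨1, one_mem M⟩ : M) = 1 from rfl, map_one]; rfl⟩
        mul_mem' := fun {a b} ⟨ha, ha', ha''⟩ ⟨hb, hb', hb''⟩ => ⟨mul_mem ha hb, mul_mem ha' hb', fun k hk => by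
          rw [show (⟨a * b, mul_mem ha hb⟩ : M) = ⟨a, ha⟩ * ⟨b, hb⟩ from rfl, map_mul, Pi.mul_apply, ha'' k hk, hb'' k hk, one_mul]⟩
        inv_mem' := fun {a} ⟨ha, ha', ha''⟩ => ⟨inv_mem ha, inv_mem ha', fun k hk => by
          rw [show (⟨a⁻¹, inv_mem ha⟩ : M) = (⟨a, ha⟩ : M)⁻¹ from rfl, map_inv, Pi.inv_apply, ha'' k hk, inv_one]⟩ }
    have hinv : ∀ q ∈ Q, ∀ d ∈ E, q * d * q⁻¹ ∈ E := by
      rintro q hq d ⟨hd, hd', hd''⟩
      refine ⟨hMn.conj_mem d hd q, mul_mem (mul_mem hq hd') (inv_mem hq), fun k hk => ?_⟩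
      obtain ⟨k', rfl⟩ := (Finite.injective_iff_surjective.mp (hσinj q)) k
      rw [hcoord q k' d hd, hd'' k' (fun h => hk (by rw [h, hn q hq])), map_one]
    have hE1 : ∀ d ∈ E, d = 1 := fun d hd => by
      by_contra hd1
      obtain ⟨hz', -, hz''⟩ := H69_mem_of_invariant hE hz hZ (D := E) (fun x hx => hx.2.1) hinv hd hd1
      obtain ⟨j, hj⟩ := hoff i
      exact hzne j (hz'' j hj)
    have hall : ∀ q ∈ Q, q * J i (zc i) = J i (zc i) * q := fun q hq => by
      refine mul_inv_eq_iff_eq_mul.mp (mul_inv_eq_one.mp (hE1 _ ⟨hMQ q hq i _, hcQ q hq i _ (hJzi i), fun k hk => ?_⟩))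
      rw [hce q hq, hn q hq, Pi.mulSingle_eq_of_ne hk, Pi.mulSingle_eq_of_ne hk, one_mul, inv_one]
    rcases hCQ _ hall with h | h
    · exact hzne i (hJ1 i _ h)
    · obtain ⟨j, hj⟩ := hoff i
      have h' : zc = Pi.mulSingle i (zc i) := by
        conv_lhs => rw [hzc]
        rw [← hJe i (zc i)]; exact congrArg e (Subtype.ext h.symm)
      exact hzne j (by rw [h', Pi.mulSingle_eq_of_ne hj])
  -- transitivity
  have htrans : ∀ i j, ∃ q ∈ Q, σ q i = j := by
    intro i j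
    by_contra hn
    push Not at hn
    let O : Set (Fin m) := {k | ∃ q ∈ Q, σ q i = k}
    let E : Subgroup G :=
      { carrier := {x | ∃ hx : x ∈ M, x ∈ Q ∧ ∀ k, k ∉ O → e ⟨x, hx⟩ k = 1}
        one_mem' := ⟨one_mem _, one_mem _, fun k _ => by
          rw [show (⟨1, one_mem M⟩ : M) = 1 from rfl, map_one]; rfl⟩
        mul_mem' := fun {a b} ⟨ha, ha', ha''⟩ ⟨hb, hb', hb''⟩ => ⟨mul_mem ha hb, mul_mem ha' hb', fun k hk => by
          rw [show (⟨a * b, mul_mem ha hb⟩ : M) = ⟨a, ha⟩ * ⟨b, hb⟩ from rfl, map_mul, Pi.mul_apply, ha'' k hk, hb'' k hk, one_mul]⟩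
        inv_mem' := fun {a} ⟨ha, ha', ha''⟩ => ⟨inv_mem ha, inv_mem ha', fun k hk => by
          rw [show (⟨a⁻¹, inv_mem ha⟩ : M) = (⟨a, ha⟩ : M)⁻¹ from rfl, map_inv, Pi.inv_apply, ha'' k hk, inv_one]⟩ }
    have hinv : ∀ q ∈ Q, ∀ d ∈ E, q * d * q⁻¹ ∈ E := by
      rintro q hq d ⟨hd, hd', hd''⟩
      refine ⟨hMn.conj_mem d hd q, mul_mem (mul_mem hq hd') (inv_mem hq), fun k hk => ?_⟩
      obtain ⟨k', rfl⟩ := (Finite.injective_iff_surjective.mp (hσinj q)) k
      rw [hcoord q k' d hd, hd'' k' (fun ⟨q', hq', h⟩ => hk ⟨q * q', mul_mem hq hq', by rw [hσm, h]⟩), map_one]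
    obtain ⟨q, hq, hqi⟩ := hmove i
    have hcE : q * J i (zc i) * q⁻¹ * (J i (zc i))⁻¹ ∈ E := by
      refine ⟨hMQ q hq i _, hcQ q hq i _ (hJzi i), fun k hk => ?_⟩
      rw [hce q hq, Pi.mulSingle_eq_of_ne (fun h => hk ⟨q, hq, h.symm⟩),
        Pi.mulSingle_eq_of_ne (fun h => hk ⟨1, one_mem _, by rw [h, hσ1]⟩), one_mul, inv_one]
    have hne : q * J i (zc i) * q⁻¹ * (J i (zc i))⁻¹ ≠ 1 := fun h => by
      have h' := hce q hq i (zc i) i (hMQ q hq i _)
      rw [show (⟨q * J i (zc i) * q⁻¹ * (J i (zc i))⁻¹, hMQ q hq i _⟩ : M) = 1 from Subtype.ext h,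
        map_one, Pi.one_apply, Pi.mulSingle_eq_of_ne (Ne.symm hqi), Pi.mulSingle_eq_same, one_mul] at h'
      exact hzne i (inv_eq_one.mp h'.symm)
    obtain ⟨hz', -, hz''⟩ := H69_mem_of_invariant hE hz hZ (D := E) (fun x hx => hx.2.1) hinv hcE hne
    exact hzne j (hz'' j (fun ⟨q', hq', h⟩ => hn q' hq' h))
  -- squares in the coordinate centralizers
  have hCzQ : ∀ d ∈ Q, d * d = 1 ∨ d * d = z := fun d hd =>
    H93.zpowers_two_cases hz (hZ ▸ H69.extra_sq_mem hE hd)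
  have hsq : ∀ i r, r * zc i = zc i * r → r * r = 1 ∨ (r * r = zc i ∧ m = 2) := by
    intro i r hr
    obtain ⟨q, hq, hqi⟩ := hmove i
    have hc := hcQ q hq i r ((hJz i r).mpr hr)
    have hco : ∀ k, e (⟨_, hMQ q hq i r⟩ * ⟨_, hMQ q hq i r⟩) k =
        ((Pi.mulSingle (σ q i) (α q i r) : Fin m → S) k * ((Pi.mulSingle i r : Fin m → S) k)⁻¹) *
        ((Pi.mulSingle (σ q i) (α q i r) : Fin m → S) k * ((Pi.mulSingle i r : Fin m → S) k)⁻¹) := fun k => by
      rw [map_mul, Pi.mul_apply, hce q hq i r k]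
    have hci := hco i
    rw [Pi.mulSingle_eq_of_ne (Ne.symm hqi), Pi.mulSingle_eq_same, one_mul, ← mul_inv_rev] at hci
    rcases hCzQ _ hc with h | h
    · rw [show (⟨_, hMQ q hq i r⟩ * ⟨_, hMQ q hq i r⟩ : M) = 1 from Subtype.ext h, map_one, Pi.one_apply] at hci
      exact Or.inl (inv_eq_one.mp hci.symm)
    · have e1 : (⟨_, hMQ q hq i r⟩ * ⟨_, hMQ q hq i r⟩ : M) = ⟨z, hzM⟩ := Subtype.ext h
      rw [e1, ← hzc] at hci
      have hzi : zc i * zc i = 1 := by
        rw [← Pi.mul_apply, hzc, ← map_mul, show (⟨z, hzM⟩ * ⟨z, hzM⟩ : M) = 1 from Subtype.ext hzz, map_one]; rfl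
      have h2 : r * r = zc i := by
        rw [show r * r = ((r * r)⁻¹)⁻¹ by rw [inv_inv], ← hci]
        exact inv_eq_of_mul_eq_one_right hzi
      refine Or.inr ⟨h2, ?_⟩
      by_contra hm2
      obtain ⟨k, hk1, hk2⟩ : ∃ k, k ≠ i ∧ k ≠ σ q i := exists_ne_two (by omega) i (σ q i)
      have hck := hco k
      rw [e1, ← hzc, Pi.mulSingle_eq_of_ne hk2, Pi.mulSingle_eq_of_ne hk1, inv_one, one_mul, one_mul] at hck
      exact hzne k hck
  have hzi2 : ∀ i, zc i * zc i = 1 := fun i => by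
    rw [← Pi.mul_apply, hzc, ← map_mul, show (⟨z, hzM⟩ * ⟨z, hzM⟩ : M) = 1 from Subtype.ext hzz, map_one]; rfl
  -- Sylow subgroups of the factor
  set C := Subgroup.centralizer ({zc} : Set (Fin m → S)) with hCdef
  have hCmem : ∀ X, X ∈ C ↔ ∀ k, X k * zc k = zc k * X k := fun X => by
    rw [hCdef, Subgroup.mem_centralizer_singleton_iff, funext_iff]
    rfl
  have hCp : IsPGroup 2 C := fun X => ⟨2, Subtype.ext (funext fun k => by
    have hX := (hCmem _).mp X.2 k
    have h1 : ((X : Fin m → S) k) ^ (2 ^ 2) = 1 := by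
      rw [show (2:ℕ) ^ 2 = 2 * 2 from rfl, pow_mul, pow_two, pow_two]
      rcases hsq k _ hX with h | ⟨h, -⟩
      · rw [h, one_mul]
      · rw [h, hzi2]
    simpa using h1)⟩
  obtain ⟨P, hP⟩ := hE.1.1.exists_le_sylow
  have hzP : z ∈ (P : Subgroup G) := hP hzQ
  have hPc : ∀ x ∈ (P : Subgroup G), x * z = z * x := by
    intro x hx
    have hne : Nontrivial ↥(P : Subgroup G) := ⟨⟨⟨z, hzP⟩, 1, fun h => by
      have : z = 1 := congrArg Subtype.val h
      simp [this] at hz⟩⟩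
    have := P.isPGroup'.center_nontrivial
    obtain ⟨c, hc⟩ := exists_ne (1 : Subgroup.center ↥(P : Subgroup G))
    have hcc : ∀ q ∈ (P : Subgroup G), q * (c.1 : G) = c.1 * q := fun q hq =>
      congrArg Subtype.val (Subgroup.mem_center_iff.mp c.2 ⟨q, hq⟩)
    rcases hCQ _ (fun q hq => hcc q (hP hq)) with h | h
    · exact absurd (Subtype.ext (Subtype.ext h)) hc
    · rw [← h]; exact hcc x hx
  obtain ⟨PM, hPM⟩ : ∃ PM : Sylow 2 M, (PM : Subgroup M) = (P : Subgroup G).subgroupOf M :=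
    H69_sylow_normal P M
  set T := Sylow.mapSurjective (f := e.toMonoidHom) e.surjective PM with hT
  have hTC : ((T : Sylow 2 (Fin m → S)) : Subgroup (Fin m → S)) = C := by
    refine (T.is_maximal' hCp ?_).symm
    intro X hX
    obtain ⟨x, hx, rfl⟩ := (H69_mapSurj_mem (f := e.toMonoidHom) (hf := e.surjective) PM X).mp hX
    rw [hPM] at hx
    rw [hCdef, Subgroup.mem_centralizer_singleton_iff]
    show e x * zc = zc * e x
    rw [hzc, ← map_mul, ← map_mul]
    exact congrArg e (Subtype.ext (hPc _ hx))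
  have hSyl : ∀ i, ∃ R : Sylow 2 S, ∀ r, r ∈ (R : Subgroup S) ↔ r * zc i = zc i * r := fun i => by
    refine ⟨Sylow.mapSurjective (f := Pi.evalMonoidHom (fun _ : Fin m => S) i)
      (fun s => ⟨Pi.mulSingle i s, by simp⟩) T, fun r => ?_⟩
    refine (H69_mapSurj_mem _ _).trans ?_
    rw [hTC]
    refine ⟨?_, fun h => ⟨Pi.mulSingle i r, (hCmem _).mpr fun k => ?_, by simp⟩⟩
    · rintro ⟨X, hX, rfl⟩
      exact (hCmem X).mp hX i
    · by_cases hk : k = i
      · subst hk; simpa using h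
      · simp [hk]
  have hbig : ∀ i, ∃ r, r * zc i = zc i * r ∧ r ≠ 1 ∧ r ≠ zc i := fun i => by
    obtain ⟨R, hR⟩ := hSyl i
    exact H69_big hS R (hzne i) hR
  by_cases hm2 : m = 2
  · subst hm2
    obtain ⟨u, hu, hu0⟩ := hmove 0
    have hu1 : σ u 0 = 1 := by
      have : ∀ a : Fin 2, a ≠ 0 → a = 1 := by decide
      exact this _ hu0
    set f₀ : S →* G := M.subtype.comp (e.symm.toMonoidHom.comp (MonoidHom.mulSingle (fun _ : Fin 2 => S) 0)) with hf₀
    have hf : ∀ s, f₀ s = J 0 s := fun s => rfl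
    have hfi : Function.Injective f₀ := by
      intro a b h
      have := congrArg e (Subtype.ext h : e.symm (Pi.mulSingle 0 a) = e.symm (Pi.mulSingle 0 b))
      simpa using congrFun this 0
    set L := f₀.range with hL
    set eL : S ≃* L := MonoidHom.ofInjective hfi with heL
    have heLv : ∀ s, (eL s : G) = J 0 s := fun s => rfl
    set z₁ := J 0 (zc 0) with hz₁
    have hmap : ∀ y, y ∈ L.map (MulAut.conj u).toMonoidHom ↔ ∃ s, y = J 1 (α u 0 s) := by
      intro y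
      constructor
      · rintro ⟨x, ⟨s, rfl⟩, rfl⟩
        exact ⟨s, by simp only [MulEquiv.coe_toMonoidHom, MulAut.conj_apply]; rw [hf, hact, hu1]⟩
      · rintro ⟨s, rfl⟩
        exact ⟨J 0 s, ⟨s, hf s⟩, by simp only [MulEquiv.coe_toMonoidHom, MulAut.conj_apply]; rw [hact, hu1]⟩
    have hαsurj : Function.Surjective (α u 0) := Finite.injective_iff_surjective.mp (hαi u 0)
    have hzdec : z = z₁ * (u * z₁ * u⁻¹) := by
      rw [hz₁, hact, hu1, hαz u (hzq u hu) 0, hu1]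
      have h' : (⟨z, hzM⟩ : M) = ⟨J 0 (zc 0), hJM _ _⟩ * ⟨J 1 (zc 1), hJM _ _⟩ := by
        apply e.injective
        rw [map_mul, hJe, hJe, ← hzc]
        funext k
        fin_cases k <;> simp
      exact congrArg Subtype.val h'
    have hcent : ∀ s, (eL s : G) ∈ Subgroup.centralizer ({z₁} : Set G) ↔ s * zc 0 = zc 0 * s := fun s => by
      rw [Subgroup.mem_centralizer_singleton_iff, heLv, hz₁, ← hJmul, ← hJmul]
      exact ⟨fun h => by
        have := congrArg e (Subtype.ext h : (e.symm (Pi.mulSingle 0 (s * zc 0))) = e.symm (Pi.mulSingle 0 (zc 0 * s)))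
        simpa using congrFun this 0, fun h => by rw [h]⟩
    obtain ⟨R, hR⟩ := hSyl 0
    set RL := Sylow.mapSurjective (f := eL.toMonoidHom) eL.surjective R with hRL
    have hRLe : (RL : Subgroup L) = (Subgroup.centralizer ({z₁} : Set G)).subgroupOf L := by
      ext x
      obtain ⟨s, rfl⟩ := eL.surjective x
      rw [hRL]
      refine (H69_mapSurj_mem _ _).trans ?_
      rw [Subgroup.mem_subgroupOf, hcent, ← hR]
      exact ⟨fun ⟨t, ht, h⟩ => eL.injective h ▸ ht, fun h => ⟨s, h, rfl⟩⟩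
    refine ⟨L, u, hu, eL.symm.isSimpleGroup, fun h => hS fun a b => eL.injective (by
      rw [map_mul, map_mul]; exact h.is_comm.comm _ _), ?_, ?_, ?_, z₁, ⟨zc 0, hf _⟩, hzdec, ⟨RL, hRLe, ?_⟩, ?_⟩
    · rw [Subgroup.eq_bot_iff_forall]
      rintro x ⟨⟨s, rfl⟩, hx⟩
      obtain ⟨t, ht⟩ := (hmap _).mp hx
      by_contra hne
      have hs : s ≠ 1 := fun h => hne (by rw [h, map_one])
      exact absurd (hJinj 0 1 s _ (by rw [← hf, ht]) hs).1 (by decide)
    · rintro x ⟨s, rfl⟩ y hy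
      obtain ⟨t, rfl⟩ := (hmap _).mp hy
      have h' : (⟨J 0 s, hJM _ _⟩ : M) * ⟨J 1 (α u 0 t), hJM _ _⟩ = ⟨J 1 (α u 0 t), hJM _ _⟩ * ⟨J 0 s, hJM _ _⟩ :=
        e.injective (by rw [map_mul, map_mul, hJe, hJe, H69.mulSingle_comm_iff]; simp)
      exact congrArg Subtype.val h'
    · refine le_antisymm (sup_le ?_ ?_) fun x hx => ?_
      · rintro x ⟨s, rfl⟩; exact hJM 0 s
      · intro y hy
        obtain ⟨t, rfl⟩ := (hmap _).mp hy
        exact hJM 1 _
      · obtain ⟨t, ht⟩ := hαsurj (e ⟨x, hx⟩ 1)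
        have h' : (⟨x, hx⟩ : M) = ⟨J 0 (e ⟨x, hx⟩ 0), hJM _ _⟩ * ⟨J 1 (α u 0 t), hJM _ _⟩ := by
          apply e.injective
          rw [map_mul, hJe, hJe, ht]
          funext k
          fin_cases k <;> simp
        rw [show x = J 0 (e ⟨x, hx⟩ 0) * J 1 (α u 0 t) from congrArg Subtype.val h']
        exact Subgroup.mul_mem_sup ⟨_, hf _⟩ ((hmap _).mpr ⟨t, rfl⟩)
    · -- the Frattini subgroup
      rintro x ⟨y, hy, rfl⟩
      set N := (Subgroup.zpowers z₁).comap ((L.subtype).comp (RL : Subgroup L).subtype) with hN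
      have hcent' : ∀ a : (RL : Subgroup L), ∀ n ∈ Subgroup.zpowers z₁, ((a : L) : G) * n = n * ((a : L) : G) := by
        intro a n hn
        have ha : ((a : L) : G) ∈ Subgroup.centralizer ({z₁} : Set G) :=
          Subgroup.mem_subgroupOf.mp ((SetLike.ext_iff.mp hRLe _).mp a.2)
        obtain ⟨k, rfl⟩ := hn
        exact ((show Commute ((a : L) : G) z₁ from Subgroup.mem_centralizer_singleton_iff.mp ha).zpow_right k).eq
      haveI : N.Normal := ⟨fun n hn a => by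
        show ((a : L) : G) * ((n : L) : G) * ((a : L) : G)⁻¹ ∈ Subgroup.zpowers z₁
        have h' : ((a : L) : G) * ((n : L) : G) * ((a : L) : G)⁻¹ = ((n : L) : G) :=
          mul_inv_eq_of_eq_mul (hcent' a _ hn)
        rw [h']
        exact hn⟩
      have hsqN : ∀ g : (RL : Subgroup L), ((g : L) : G) * ((g : L) : G) ∈ Subgroup.zpowers z₁ := by
        intro g
        obtain ⟨s, hs⟩ := eL.surjective (g : L)
        have hg : ((g : L) : G) ∈ Subgroup.centralizer ({z₁} : Set G) :=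
          Subgroup.mem_subgroupOf.mp ((SetLike.ext_iff.mp hRLe _).mp g.2)
        rw [← hs] at hg ⊢
        rw [heLv, ← hJmul]
        rcases hsq 0 s ((hcent s).mp hg) with h | ⟨h, -⟩ <;> rw [h]
        · rw [show J 0 (1 : S) = 1 by rw [← hf, map_one]]; exact one_mem _
        · exact Subgroup.mem_zpowers _
      refine (H6.frattini_le_of_quotient (p := 2) N ?_ fun g => ?_) hy
      · rw [commutator_def, Subgroup.commutator_le]
        intro a _ b _
        show ((L.subtype).comp (RL : Subgroup L).subtype) ⁅a, b⁆ ∈ Subgroup.zpowers z₁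
        rw [show ⁅a, b⁆ = (a * a) * (a⁻¹ * b * (a⁻¹ * b)) * (b * b)⁻¹ by rw [commutatorElement_def]; group,
          map_mul, map_mul, map_inv]
        exact mul_mem (mul_mem (hsqN a) (hsqN (a⁻¹ * b))) (inv_mem (hsqN b))
      · show ((L.subtype).comp (RL : Subgroup L).subtype) (g ^ 2) ∈ Subgroup.zpowers z₁
        rw [pow_two]; exact hsqN g
    · -- `Q` is not the whole 2-core of the centralizer of `z`
      intro hQO
      obtain ⟨r, hr, hr1, hrz⟩ := hbig 0
      set CM := M ⊓ Subgroup.centralizer ({z} : Set G) with hCM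
      have hCMp : IsPGroup 2 CM := by
        refine IsPGroup.of_injective hCp
          (((e.toMonoidHom.comp (Subgroup.inclusion inf_le_left)).codRestrict C fun x => ?_)) ?_
        · rw [hCdef, Subgroup.mem_centralizer_singleton_iff]
          show e ⟨(x : G), x.2.1⟩ * zc = zc * e ⟨(x : G), x.2.1⟩
          rw [hzc, ← map_mul, ← map_mul]
          exact congrArg e (Subtype.ext (Subgroup.mem_centralizer_singleton_iff.mp x.2.2))
        · intro a b h
          exact Subgroup.inclusion_injective inf_le_left (e.injective (congrArg Subtype.val h))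
      have hCMn : (CM.subgroupOf (Subgroup.centralizer ({z} : Set G))).Normal :=
        ⟨fun x hx c => ⟨hMn.conj_mem _ hx.1 c, (c * x * c⁻¹).2⟩⟩
      have hrQ : J 0 r ∈ Q := by
        rw [hQO]
        have hmem : J 0 r ∈ CM := ⟨hJM 0 r, Subgroup.mem_centralizer_singleton_iff.mpr ((hJz 0 r).mpr hr)⟩
        exact ⟨⟨J 0 r, hmem.2⟩, (le_sSup (show CM.subgroupOf (Subgroup.centralizer ({z} : Set G)) ∈
          {N : Subgroup ↥(Subgroup.centralizer ({z} : Set G)) | N.Normal ∧ IsPGroup 2 N} from ⟨hCMn, hCMp.comap_subtype⟩))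
          (show (⟨J 0 r, hmem.2⟩ : Subgroup.centralizer ({z} : Set G)) ∈
            CM.subgroupOf _ from hmem), rfl⟩
      have hc : u * J 0 r * u⁻¹ * (J 0 r)⁻¹ ∈ Subgroup.zpowers z := by
        rw [← hZ]
        simpa [commutatorElement_def] using H69.extra_comm_mem hE hu hrQ
      have hk := hce u hu 0 r 0 (hMQ u hu 0 r)
      rw [Pi.mulSingle_eq_of_ne (show (0 : Fin 2) ≠ σ u 0 from Ne.symm hu0), Pi.mulSingle_eq_same, one_mul] at hk
      rcases H93.zpowers_two_cases hz hc with h | h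
      · rw [show (⟨_, hMQ u hu 0 r⟩ : M) = 1 from Subtype.ext h, map_one, Pi.one_apply] at hk
        exact hr1 (inv_eq_one.mp hk.symm)
      · rw [show (⟨_, hMQ u hu 0 r⟩ : M) = ⟨z, hzM⟩ from Subtype.ext h, ← hzc] at hk
        exact hrz (by rw [show r = (r⁻¹)⁻¹ by rw [inv_inv], ← hk]; exact inv_eq_of_mul_eq_one_right (hzi2 0))
  · -- more than two factors is impossible
    exfalso
    have hm3 : 3 ≤ m := by omega
    obtain ⟨i⟩ : Nonempty (Fin m) := ⟨⟨0, by omega⟩⟩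
    obtain ⟨r, hr, hr1, hrz⟩ := hbig i
    exact H69_count (Q := Q) hE hz hZ hMn hm3 e hzM J hJM (fun i s _ => hJe i s) hJz σ α hαi hact hcoord
      hσm hσ1 hσinj hzne hmove htrans hce hcQ hMQ i r hr hr1 hrz

/-- Let Q be a large extraspecial 2-subgroup of the finite group G (extraspecial; centralizer equal to its centre; normal in the centralizer of its centre; normalizing no non-trivial subgroup of odd order) with centre generated by z, and let M be the normal closure of z in G. Then one of the following holds: Q is normal in G; or M is abelian and the generalized Fitting subgroup of G is its largest normal 2-subgroup; or M is the generalized Fitting subgroup of G and is a non-abelian simple group; or M is the generalized Fitting subgroup of G and is the direct product of a non-abelian simple subgroup L and its conjugate u L u⁻¹ by some u in Q (the two meet trivially and commute elementwise), with z = z₁ (u z₁ u⁻¹) for some z₁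 in L whose centralizer in L is a Sylow 2-subgroup of L with Frattini subgroup inside the subgroup generated by z₁, and Q is not the largest normal 2-subgroup of the centralizer of z. -/
theorem result {G : Type*} [Group G] [Finite G] (Q : Subgroup G) (hQ : Cfsg.IsLargeExtraspecial Q) (z : G) (hz : ((Subgroup.center ↥Q).map Q.subtype) = Subgroup.zpowers z) (M : Subgroup G) (hM : M = Subgroup.normalClosure ({z} : Set G)) : Q.Normal ∨ (IsMulCommutative ↥M ∧ Cfsg.generalizedFittingSubgroup G = Cfsg.pCore 2 G) ∨ (M = Cfsg.generalizedFittingSubgroup G ∧ IsSimpleGroup ↥M ∧ ¬ IsMulCommutative ↥M) ∨ (M = Cfsg.generalizedFittingSubgroup G ∧ ∃ (L : Subgroup G) (u : G), u ∈ Q ∧ IsSimpleGroup ↥L ∧ ¬ IsMulCommutative ↥L ∧ L ⊓ (L).map (MulAut.conj u).toMonoidHom = ⊥ ∧ (∀ x ∈ L, ∀ y ∈ (L).map (MulAut.conj u).toMonoidHom, x * y = y * x) ∧ L ⊔ (L).map (MulAut.conj u).toMonoidHom = M ∧ ∃ z₁ ∈ L, z = z₁ * (u * z₁ * u⁻¹) ∧ (∃ R : Sylow 2 ↥L, (R : Subgroup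 ↥L) = (Subgroup.centralizer ({z₁} : Set G)).subgroupOf L ∧ (frattini ↥(R : Subgroup ↥L)).map ((L.subtype).comp (R : Subgroup ↥L).subtype) ≤ Subgroup.zpowers z₁) ∧ Q ≠ (Cfsg.pCore 2 ↥(Subgroup.centralizer ({z} : Set G))).map (Subgroup.centralizer ({z} : Set G)).subtype) := by
  have hfull := hQ
  have hz2 : orderOf z = 2 := by rw [← Nat.card_zpowers, ← hz]; exact H93.card_centerMap hQ.1
  have hMn : M.Normal := hM ▸ Subgroup.normalClosure_normal
  have hzM : z ∈ M := hM ▸ Subgroup.subset_normalClosure rfl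
  have hmin : ∀ N : Subgroup G, N.Normal → N ≠ ⊥ → M ≤ N := fun N hN hN1 => by
    rw [hM]
    refine Subgroup.normalClosure_le_normal ?_
    intro x hx
    rw [Set.mem_singleton_iff] at hx
    subst hx
    exact H69.large_mem_of_normal hfull hz2 hz N hN1
  by_cases hab : IsMulCommutative ↥M
  · refine Or.inr (Or.inl ⟨hab, H69_fstar_abelian hQ hz2 hz ?_⟩)
    subst hM; exact hab
  have hchar : ∀ H : Subgroup M, H.Characteristic → H = ⊥ ∨ H = ⊤ := by
    intro H hH
    by_cases hb : H = ⊥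
    · exact Or.inl hb
    refine Or.inr ?_
    haveI := hH
    haveI : (H.map M.subtype).Normal := ConjAct.normal_of_characteristic_of_normal
    have hle := hmin (H.map M.subtype) inferInstance
      (fun h => hb ((Subgroup.map_eq_bot_iff_of_injective _ M.subtype_injective).mp h))
    rw [eq_top_iff]
    intro x _
    obtain ⟨y, hy, e⟩ := hle x.2
    exact Subtype.ext e ▸ hy
  haveI : Nontrivial M := ⟨⟨⟨z, hzM⟩, 1, fun h => by
    have : z = 1 := congrArg Subtype.val h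
    simp [this] at hz2⟩⟩
  obtain ⟨S, _, _, m, hm, ⟨e⟩⟩ := H61.exists_mulEquiv_pi_of_charSimple hchar
  haveI : Finite S := Finite.of_injective (fun s => e.symm (Pi.mulSingle ⟨0, hm⟩ s))
    (e.symm.injective.comp (Pi.mulSingle_injective _))
  have hS : ¬ ∀ a b : S, a * b = b * a := fun h => hab ⟨⟨fun a b => e.injective (by
    rw [map_mul, map_mul]; funext k; exact h _ _)⟩⟩
  have hZM : Subgroup.centralizer (M : Set G) = ⊥ := by
    by_contra hne
    have hle := hmin _ inferInstance hne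
    exact hab ⟨⟨fun a b => Subtype.ext (Subgroup.mem_centralizer_iff.mp (hle b.2) a a.2)⟩⟩
  have hfstar : M = Cfsg.generalizedFittingSubgroup G := by
    refine le_antisymm ?_ ?_
    · refine hmin _ inferInstance fun h => ?_
      have h1 := Cfsg.Agent.S1265.result (G := G)
      rw [h] at h1
      have h2 : z ∈ Subgroup.centralizer ((⊥ : Subgroup G) : Set G) :=
        Subgroup.mem_centralizer_iff.mpr fun x hx => by
          rw [SetLike.mem_coe, Subgroup.mem_bot] at hx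
          rw [hx, one_mul, mul_one]
      have := Subgroup.mem_bot.mp (h1 h2)
      simp [this] at hz2
    · refine Cfsg.Agent.S1325.result M ?_ (hZM ▸ bot_le)
      by_cases hF : Cfsg.fittingSubgroup G = ⊥
      · rw [hF]; exact bot_le
      · exfalso
        have hle := hmin _ inferInstance hF
        haveI : Group.IsNilpotent ↥(Cfsg.fittingSubgroup G) := Cfsg.Comp.fitting_isNilpotent
        haveI hMnil : Group.IsNilpotent M := Group.nilpotent_of_mulEquiv (Subgroup.subgroupOfEquivOfLe hle)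
        have hnil : Group.IsNilpotent (Fin m → S) := Group.nilpotent_of_mulEquiv e
        haveI := hnil
        have hnilS : Group.IsNilpotent S := Group.nilpotent_of_surjective
          (Pi.evalMonoidHom (fun _ : Fin m => S) ⟨0, hm⟩) (fun s => ⟨Pi.mulSingle ⟨0, hm⟩ s, by simp⟩)
        exact hS (IsSimpleGroup.comm_iff_isSolvable.mpr inferInstance)
  rcases H69_semisimple hQ hz2 hz M hS hm e hzM with h | h
  · exact Or.inr (Or.inr (Or.inl ⟨hfstar, h, hab⟩))
  · exact Or.inr (Or.inr (Or.inr ⟨hfstar, h⟩))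

end Cfsg.Agent.S5426
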