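import Cfsg.Statements.S5427
import Cfsg.Agent.H69.Simple

set_option autoImplicit false
open Cfsg

namespace Cfsg.Agent.S5427


/-- Let z be an involution of the finite group G whose centralizer C has generalized Fitting subgroup Q, an extraspecial 2-group of width at least 2 (order 2^(2w+1), w ≥ 2). Let K be a subgroup of G such that the subgroup U generated by the K-conjugates of z is abelian and C is generated by the C-conjugates of U. Suppose that either some K-conjugate of z other than z lies in Q, or some element u of U ∩ Q outside the subgroup generated by z has z in the largest normal 2-subgroup of its centralizer. Then G is simple and Q is a large extraspecial 2-subgroup of G. -/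
theorem result {G : Type*} [Group G] [Finite G] (z : G) (hz : orderOf z = 2) (Q : Subgroup G) (hQC : Q ≤ Subgroup.centralizer ({z} : Set G)) (hF : (Cfsg.generalizedFittingSubgroup ↥(Subgroup.centralizer ({z} : Set G))).map (Subgroup.centralizer ({z} : Set G)).subtype = Q) (hQ : Cfsg.IsExtraspecial 2 ↥Q) (w : ℕ) (hw : 2 ≤ w) (hcard : Nat.card ↥Q = 2 ^ (2 * w + 1)) (K U : Subgroup G) (hU : U = Subgroup.closure {x : G | ∃ k ∈ K, x = k * z * k⁻¹}) (hUab : IsMulCommutative ↥U) (hgen : Subgroup.closure {x : G | ∃ c ∈ Subgroup.centralizer ({z} : Set G), ∃ u ∈ U, x = c * u * c⁻¹} = Subgroup.centralizer ({z} : Set G)) (h3 : (∃ k ∈ K, k * z * k⁻¹ ∈ Q ∧ k * z * k⁻¹ ≠ z) ∨ ∃ u ∈ U ⊓ Q, u ∉ Subgroup.zpowers z ∧ (∃ hz' : z ∈ Subgroup.centralizer ({u} : Set G), (⟨z, hz'⟩ : ↥(Subgroup.centralizer ({u} : Set G))) ∈ Cfsg.pCore 2 ↥(Subgroup.centralizer ({u} : Set G)))) : IsSimpleGroup G ∧ Cfsg.IsLargeExtraspecial Q := by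
  obtain ⟨hpre, hZ, -⟩ := H69.fstar_setting hz hQC hF hQ
  have hz1 : z ≠ 1 := fun h => by simp [h] at hz
  have hL : Cfsg.IsLargeExtraspecial Q := by
    rcases h3 with ⟨k, -, hkQ, hkz⟩ | ⟨u, ⟨huU, huQ⟩, huz, hz', hcore⟩
    · exact H69.large_of_fstar hz hpre hZ k hkQ hkz
    · have hsq : ∀ x ∈ U, x * x = 1 := by
        intro x hx
        have hcomm : ∀ a ∈ U, ∀ b ∈ U, a * b = b * a := fun a ha b hb =>
          congrArg Subtype.val (hUab.is_comm.comm ⟨a, ha⟩ ⟨b, hb⟩)
        have hzz : z * z = 1 := by rw [← pow_two, ← hz, pow_orderOf_eq_one]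
        rw [hU] at hx
        induction hx using Subgroup.closure_induction with
        | mem y hy =>
          obtain ⟨k, -, rfl⟩ := hy
          calc k * z * k⁻¹ * (k * z * k⁻¹) = k * (z * z) * k⁻¹ := by group
            _ = 1 := by rw [hzz]; group
        | one => simp
        | mul a b ha hb iha ihb =>
          rw [← hU] at ha hb
          calc a * b * (a * b) = a * (b * a) * b := by group
            _ = a * (a * b) * b := by rw [hcomm b hb a ha]
            _ = (a * a) * (b * b) := by group
            _ = 1 := by rw [iha, ihb, one_mul]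
        | inv a _ iha => rw [← mul_inv_rev, iha, inv_one]
      have := Fact.mk Nat.prime_two
      have hu1 : u ≠ 1 := fun h => huz (h ▸ one_mem _)
      refine H93.large_of_centre_in_twoCore_centralizer hQ hpre.2.1 hpre.2.2.1 huQ
        (fun h => huz (hZ ▸ h)) (orderOf_eq_prime (by rw [pow_two]; exact hsq u huU) hu1) ?_
      rw [hZ, Subgroup.zpowers_le]
      exact ⟨_, hcore, rfl⟩
  refine ⟨?_, hL⟩
  haveI : Nontrivial G := ⟨⟨z, 1, hz1⟩⟩
  refine ⟨fun N hN => ?_⟩
  by_cases hN1 : N = ⊥
  · exact Or.inl hN1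
  refine Or.inr ?_
  have hzN := H69.large_mem_of_normal hL hz hZ N hN1
  have hUN : U ≤ N := by
    rw [hU, Subgroup.closure_le]
    rintro x ⟨k, -, rfl⟩
    exact hN.conj_mem z hzN k
  have hCN : Subgroup.centralizer ({z} : Set G) ≤ N := by
    rw [← hgen, Subgroup.closure_le]
    rintro x ⟨c, -, u, hu, rfl⟩
    exact hN.conj_mem u (hUN hu) c
  have := H93.large_frattini hL N (hQC.trans hCN)
  rwa [sup_eq_left.mpr ((H69.normalizer_le_centralizer hpre hz hZ).trans hCN)] at this

end Cfsg.Agent.S5427
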