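import Cfsg.Statements.S5428
import Cfsg.Agent.H69.Setting
import Cfsg.Agent.H69.ExtraSub
import Cfsg.Agent.H68.ExtraComm
import Cfsg.Prelude.Def_CaseTheorems

set_option autoImplicit false
open Cfsg

namespace Cfsg.Agent.S5428

theorem H69_normalizer_le {G : Type*} [Group G] (A : Subgroup G) :
    Subgroup.normalizer (A : Set G) ≤ Subgroup.normalizer (Subgroup.centralizer (A : Set G) : Set G) := by
  intro n hn
  have key : ∀ m ∈ Subgroup.normalizer (A : Set G), ∀ c ∈ Subgroup.centralizer (A : Set G),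
      m * c * m⁻¹ ∈ Subgroup.centralizer (A : Set G) := by
    intro m hm c hc
    rw [Subgroup.mem_centralizer_iff]
    intro a ha
    have ha' : m⁻¹ * a * m ∈ A := by
      simpa using (Subgroup.mem_normalizer_iff.mp (inv_mem hm) a).mp ha
    have h2 := Subgroup.mem_centralizer_iff.mp hc _ ha'
    calc a * (m * c * m⁻¹) = m * ((m⁻¹ * a * m) * c) * m⁻¹ := by group
      _ = m * (c * (m⁻¹ * a * m)) * m⁻¹ := by rw [h2]
      _ = m * c * m⁻¹ * a := by group
  rw [Subgroup.mem_normalizer_iff]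
  refine fun c => ⟨key n hn c, fun hc => ?_⟩
  simpa [mul_assoc] using key n⁻¹ (inv_mem hn) _ hc

theorem H69_le_oddCore {X : Type*} [Group X] [Finite X] (N : Subgroup X) (hN : N.Normal)
    (hodd : Odd (Nat.card N)) : N ≤ Cfsg.oddCore X :=
  le_sSup ⟨hN, Nat.coprime_two_right.mpr hodd⟩

theorem H69_odd_part {G : Type*} [Group G] [Finite G] {z : G} (hz : orderOf z = 2) {X A : Subgroup G}
    (hzX : z ∈ X) (hzc : ∀ x ∈ X, x * z = z * x) (h4 : ¬ 4 ∣ Nat.card X)
    (hO : (Cfsg.oddCore X).map X.subtype ≤ A) : X ≤ A ⊔ Subgroup.zpowers z := by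
  have := Fact.mk Nat.prime_two
  set zX : X := ⟨z, hzX⟩ with hzXdef
  have hord : orderOf zX = 2 := by
    rw [← hz, hzXdef, Subgroup.orderOf_mk]
  set T := Subgroup.zpowers zX with hT
  have hTcard : Nat.card T = 2 := by rw [hT, Nat.card_zpowers, hord]
  have hTp : IsPGroup 2 T := IsPGroup.of_card (n := 1) (by rw [hTcard, pow_one])
  have hTidx : ¬ 2 ∣ T.index := fun h => h4 (by
    rw [← T.card_mul_index, hTcard]
    obtain ⟨k, hk⟩ := h
    exact ⟨k, by rw [hk]; ring⟩)
  set S : Sylow 2 X := hTp.toSylow hTidx with hS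
  have hN : Subgroup.normalizer ((S : Subgroup X) : Set X) ≤ Subgroup.centralizer ((S : Subgroup X) : Set X) := by
    intro n _
    rw [Subgroup.mem_centralizer_iff]
    intro y hy
    have hy' : y ∈ T := hy
    obtain ⟨k, rfl⟩ := hy'
    exact ((show Commute n zX from Subtype.ext (hzc n n.2)).zpow_right k).eq.symm
  have hcompl := MonoidHom.ker_transferSylow_isComplement' S hN
  set N := (MonoidHom.transferSylow S hN).ker with hNdef
  have hNodd : Odd (Nat.card N) := by
    rw [← Nat.not_even_iff_odd, even_iff_two_dvd]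
    exact MonoidHom.not_dvd_card_ker_transferSylow S hN
  have hNle : N ≤ Cfsg.oddCore X := H69_le_oddCore N inferInstance hNodd
  intro x hx
  have hxs : (⟨x, hx⟩ : X) ∈ N ⊔ (S : Subgroup X) := by
    rw [hcompl.sup_eq_top]; exact Subgroup.mem_top _
  rw [Subgroup.mem_sup_of_normal_left] at hxs
  obtain ⟨a, ha, b, hb, e⟩ := hxs
  have e' : x = (a : G) * b := by rw [← Subgroup.coe_mul, e]
  rw [e']
  refine Subgroup.mul_mem_sup (hO ⟨a, hNle ha, rfl⟩) ?_
  have hb' : b ∈ T := hb
  obtain ⟨k, rfl⟩ := hb'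
  exact ⟨k, by simp [hzXdef]⟩

/-- Let z be an involution of the finite group G whose centralizer C has generalized Fitting subgroup Q extraspecial (as a 2-group), let A be a subgroup of C of odd order, and let R be the centralizer of A in Q; suppose R has order at least 32, the largest normal subgroup of odd order of the centralizer of the subgroup generated by A and R lies in A, the order of that centralizer is not divisible by 4, and g is an element of G with g z g⁻¹ in R but outside the centre Z of Q. Let M be the subgroup generated by A and the centralizer of A (A is normal in it). Then: the centralizer in M of the subgroup generated by R and A, joined with A, equals the subgroup generated by A and Z; the image of R in M/A is a large extraspecial 2-subgroup of M/A; and g z g⁻¹ is conjugate to z inside the subgroup generated by R and the centralizer of A in g Q g⁻¹. -/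
theorem result {G : Type*} [Group G] [Finite G] (z : G) (hz : orderOf z = 2) (Q : Subgroup G) (hQC : Q ≤ Subgroup.centralizer ({z} : Set G)) (hF : (Cfsg.generalizedFittingSubgroup ↥(Subgroup.centralizer ({z} : Set G))).map (Subgroup.centralizer ({z} : Set G)).subtype = Q) (hQ : Cfsg.IsExtraspecial 2 ↥Q) (A : Subgroup G) (hA : A ≤ Subgroup.centralizer ({z} : Set G)) (hAodd : Odd (Nat.card ↥A)) (R : Subgroup G) (hR : R = Q ⊓ Subgroup.centralizer (A : Set G)) (hR32 : 32 ≤ Nat.card ↥R) (hO : (Cfsg.oddCore ↥(Subgroup.centralizer ((A ⊔ R : Subgroup G) : Set G))).map (Subgroup.centralizer ((A ⊔ R : Subgroup G) : Set G)).subtype ≤ A) (h4 : ¬ 4 ∣ Nat.card ↥(Subgroup.centralizer ((A ⊔ R : Subgroup G) : Set G))) (g : G) (hgR : g * z * g⁻¹ ∈ R) (hgZ : g * z * g⁻¹ ∉ ((Subgroup.center ↥Q).map Q.subtype)) (M : Subgroup G) (hM : M = Subgroup.centralizer (A : Set G) ⊔ A) [hn : (A.subgroupOf M).Normal] : (M ⊓ Subgroup.centralizer ((R ⊔ A : Subgroup G) : Set G)) ⊔ A = A ⊔ ((Subgroup.center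 ↥Q).map Q.subtype) ∧ Cfsg.IsLargeExtraspecial ((R.subgroupOf M).map (QuotientGroup.mk' (A.subgroupOf M))) ∧ ∃ x ∈ R ⊔ ((Q).map (MulAut.conj g).toMonoidHom ⊓ Subgroup.centralizer (A : Set G)), x * (g * z * g⁻¹) * x⁻¹ = z := by
  obtain ⟨hpre, hZ, hnorm⟩ := H69.fstar_setting hz hQC hF hQ
  subst hR hM
  have hvz : g * z * g⁻¹ ≠ z := fun h => hgZ (by rw [h, hZ]; exact Subgroup.mem_zpowers z)
  have P₀ := H69.pair_of_preLarge hpre hZ hz g
    (fun h => hvz (mul_inv_eq_of_eq_mul (Subgroup.mem_centralizer_singleton_iff.mp h))) hgR.1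
  have hFz := H69.lxQ_base hpre hZ
  have hFs := H69.lxQ_self hpre hZ g
  generalize H69.lxQ Q z = F at P₀ hFz hFs
  generalize hv : g * z * g⁻¹ = v at *
  rw [← hFs]
  have hAz : ∀ a ∈ A, a * z = z * a := fun a ha => Subgroup.mem_centralizer_singleton_iff.mp (hA ha)
  set CA := Subgroup.centralizer (A : Set G) with hCA
  have hmemCA : ∀ x, x ∈ CA ↔ ∀ a ∈ A, a * x = x * a := fun x => Subgroup.mem_centralizer_iff
  set R := Q ⊓ CA with hR
  have hzQ : z ∈ Q := by rw [← hFz]; exact P₀.u_mem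
  have hzR : z ∈ R := ⟨hzQ, (hmemCA z).mpr hAz⟩
  have hAN : A ≤ Subgroup.normalizer (Q : Set G) := fun a ha =>
    hpre.2.2.1 (Subgroup.mem_centralizer_iff.mpr fun x hx => by
      rw [SetLike.mem_coe, hZ] at hx
      rcases H93.zpowers_two_cases hz hx with rfl | rfl
      · simp
      · exact (hAz a ha).symm)
  have hZA : ∀ x ∈ (Subgroup.center Q).map Q.subtype, ∀ a ∈ A, a * x = x * a := fun x hx a ha => by
    rw [hZ] at hx
    rcases H93.zpowers_two_cases hz hx with rfl | rfl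
    · simp
    · exact hAz a ha
  have hRc : ∀ x ∈ R, (∀ r ∈ R, r * x = x * r) → x ∈ (Subgroup.center Q).map Q.subtype :=
    fun x hx h => H69.central_of_fixed hQ hAN hAodd hZA hx h
  have hRna : ∃ a ∈ R, ∃ b ∈ R, a * b ≠ b * a := by
    by_contra hn
    push Not at hn
    have hle : R ≤ (Subgroup.center Q).map Q.subtype := fun x hx => hRc x hx fun r hr => hn r hr x hx
    have h2 := Subgroup.card_le_of_le hle
    rw [hZ, Nat.card_zpowers, hz] at h2
    omega
  have hRex := H69.isExtraspecial_two_sub hQ inf_le_left hRc hRna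
  set X := Subgroup.centralizer ((A ⊔ R : Subgroup G) : Set G) with hX
  have hXmem : ∀ x, x ∈ X ↔ x ∈ CA ∧ ∀ r ∈ R, r * x = x * r := by
    intro x
    rw [hX, Subgroup.mem_centralizer_iff, hmemCA]
    refine ⟨fun h => ⟨fun a ha => h a (Subgroup.mem_sup_left ha), fun r hr => h r (Subgroup.mem_sup_right hr)⟩,
      fun h y hy => ?_⟩
    have hle : A ⊔ R ≤ Subgroup.centralizer ({x} : Set G) :=
      sup_le (fun a ha => Subgroup.mem_centralizer_singleton_iff.mpr (h.1 a ha))
        (fun r hr => Subgroup.mem_centralizer_singleton_iff.mpr (h.2 r hr))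
    exact Subgroup.mem_centralizer_singleton_iff.mp (hle hy)
  have hzX : z ∈ X := (hXmem z).mpr ⟨hzR.2, fun r hr => P₀.cu (hFz.symm ▸ hr.1)⟩
  have hXle : X ≤ A ⊔ Subgroup.zpowers z :=
    H69_odd_part hz hzX (fun x hx => (((hXmem x).mp hx).2 z hzR).symm) h4 hO
  -- the quotient by `A`
  set M := CA ⊔ A with hM
  set π := QuotientGroup.mk' (A.subgroupOf M) with hπ
  have hπ1 : ∀ x : M, π x = 1 ↔ (x : G) ∈ A := fun x => by
    rw [hπ, QuotientGroup.mk'_apply, QuotientGroup.eq_one_iff, Subgroup.mem_subgroupOf]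
  have hCAn : A ≤ Subgroup.normalizer (CA : Set G) :=
    le_trans Subgroup.le_normalizer (H69_normalizer_le A)
  have hrep : ∀ X : M ⧸ A.subgroupOf M, ∃ x : M, (x : G) ∈ CA ∧ π x = X := by
    intro X
    obtain ⟨y, rfl⟩ := QuotientGroup.mk'_surjective _ X
    have hy : (y : G) ∈ ((CA ⊔ A : Subgroup G) : Set G) := y.2
    rw [Subgroup.coe_mul_of_right_le_normalizer_left _ _ hCAn] at hy
    obtain ⟨c, hc, a, ha, e⟩ := hy
    refine ⟨⟨c, Subgroup.mem_sup_left hc⟩, hc, ?_⟩
    have ey : y = ⟨c, Subgroup.mem_sup_left hc⟩ * ⟨a, Subgroup.mem_sup_right ha⟩ := Subtype.ext e.symm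
    rw [ey, map_mul, (hπ1 ⟨a, Subgroup.mem_sup_right ha⟩).mpr ha, mul_one]
  have htwoA : ∀ a ∈ A, ∀ S : Subgroup G, IsPGroup 2 S → a ∈ S → a = 1 := fun a ha S hS haS =>
    H93.eq_one_of_mem_odd_of_mem_two hAodd hS ha haS
  have hlift : ∀ x y : M, (x : G) ∈ CA → (y : G) ∈ CA → ((y : G) * y = 1 ∨ ((y : G) * y) * (y * y) = 1) →
      π x * π y = π y * π x → (x : G) * y = y * x := by
    intro x y hx hy hy2 h
    have h1 : π (x * y * x⁻¹ * y⁻¹) = 1 := by
      rw [map_mul, map_mul, map_mul, map_inv, map_inv, h]; group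
    rw [hπ1] at h1
    simp only [Subgroup.coe_mul, Subgroup.coe_inv] at h1
    set a := (x : G) * y * (x : G)⁻¹ * (y : G)⁻¹ with ha
    have hay : a * y = y * a := (hmemCA _).mp hy a h1
    have hca : Commute a (y : G) := hay
    have h4' : ((y : G) * y) * (y * y) = 1 := by
      rcases hy2 with h | h
      · rw [h, one_mul]
      · exact h
    have hy4 : (y : G) ^ 4 = 1 := by rw [← h4', pow_succ, pow_succ, pow_two, mul_assoc ((y : G) * y)]
    have hay4 : (a * y) ^ 4 = 1 := by
      rw [show a * (y : G) = x * y * (x : G)⁻¹ by rw [ha]; group, conj_pow, hy4]; group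
    rw [hca.mul_pow, hy4, mul_one] at hay4
    have h5 : orderOf a ∣ 4 := orderOf_dvd_of_pow_eq_one hay4
    have h6 : orderOf a ∣ Nat.card A := Subgroup.orderOf_dvd_natCard A h1
    have h7 : Nat.Coprime 4 (Nat.card A) :=
      Nat.Coprime.pow_left 2 (Nat.coprime_two_left.mpr hAodd)
    have ha1 : a = 1 := orderOf_eq_one_iff.mp (Nat.eq_one_of_dvd_coprimes h7 h5 h6)
    rw [ha] at ha1
    exact mul_inv_eq_iff_eq_mul.mp (mul_inv_eq_one.mp ha1)
  have hsq4 : ∀ r ∈ Q, r * r = 1 ∨ (r * r) * (r * r) = 1 := by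
    intro r hr
    rw [← hFz] at hr
    rcases P₀.L.mul_self_cases P₀.su hr with h | h
    · exact Or.inl h
    · exact Or.inr (by rw [h, P₀.uu])
  set T := (R.subgroupOf M).map π with hT
  have hRM : R ≤ M := inf_le_right.trans le_sup_left
  have hinj : Function.Injective (π.comp (Subgroup.inclusion hRM)) := by
    rw [injective_iff_map_eq_one]
    intro r hr
    rw [MonoidHom.comp_apply, hπ1] at hr
    exact Subtype.ext (htwoA _ hr Q hQ.1.1 r.2.1)
  have hrange : (π.comp (Subgroup.inclusion hRM)).range = T := by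
    ext Y
    constructor
    · rintro ⟨r, rfl⟩; exact ⟨Subgroup.inclusion hRM r, r.2, rfl⟩
    · rintro ⟨x, hx, rfl⟩; exact ⟨⟨x, hx⟩, rfl⟩
  have hTex : Cfsg.IsExtraspecial 2 T :=
    H68.isExtraspecial_of_equiv ((MonoidHom.ofInjective hinj).trans (MulEquiv.subgroupCongr hrange)) hRex
  set zc : M := ⟨z, hRM hzR⟩ with hzc
  have hzT : π zc ∈ T := ⟨zc, hzR, rfl⟩
  have hzbc : π zc ∈ (Subgroup.center T).map T.subtype := by
    refine H93.mem_centerMap.mpr ⟨hzT, ?_⟩
    rintro - ⟨x, hx, rfl⟩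
    rw [← map_mul, ← map_mul]
    have hx' : (x : G) ∈ Q := hx.1
    rw [← hFz] at hx'
    exact congrArg π (Subtype.ext (P₀.cu hx'))
  have hπz : π zc ≠ 1 := fun h => P₀.L.ne_one P₀.su (htwoA z ((hπ1 zc).mp h) Q hQ.1.1 hzQ)
  have hTc : ∀ Y, Y ∈ (Subgroup.center T).map T.subtype → Y = 1 ∨ Y = π zc := by
    obtain ⟨w, hw, hwZ⟩ := H93.exists_centre_gen hTex
    rw [hwZ] at hzbc ⊢
    intro Y hY
    have e := (H93.zpowers_two_cases hw hzbc).resolve_left hπz
    rw [e]
    exact H93.zpowers_two_cases hw hY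
  have hcentT : ∀ x : M, (x : G) ∈ CA → (∀ Y ∈ T, Y * π x = π x * Y) → (x : G) ∈ X := by
    intro x hx h
    refine (hXmem x).mpr ⟨hx, fun r hr => (hlift x ⟨r, hRM hr⟩ hx hr.2 (hsq4 r hr.1) ?_).symm⟩
    exact (h _ ⟨⟨r, hRM hr⟩, hr, rfl⟩).symm
  have hT2 : Subgroup.centralizer (T : Set (M ⧸ A.subgroupOf M)) = (Subgroup.center T).map T.subtype := by
    refine le_antisymm (fun Y hY => ?_) (fun Y hY => Subgroup.mem_centralizer_iff.mpr (H93.mem_centerMap.mp hY).2)
    obtain ⟨x, hx, rfl⟩ := hrep Y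
    have hxX := hXle (hcentT x hx (Subgroup.mem_centralizer_iff.mp hY))
    rw [sup_comm] at hxX
    have hnA : A ≤ Subgroup.normalizer (Subgroup.zpowers z : Set G) := fun a ha =>
      Subgroup.centralizer_le_normalizer _ (by
        rw [Subgroup.mem_centralizer_iff]; rintro y ⟨k, rfl⟩
        exact ((show Commute a z from hAz a ha).zpow_right k).eq.symm)
    have hxX' : (x : G) ∈ ((Subgroup.zpowers z ⊔ A : Subgroup G) : Set G) := hxX
    rw [Subgroup.coe_mul_of_right_le_normalizer_left _ _ hnA] at hxX'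
    obtain ⟨c, hc, a, ha, e⟩ := hxX'
    rcases H93.zpowers_two_cases hz hc with h | h
    · have : (x : G) ∈ A := by rw [← e, h]; simpa using ha
      rw [(hπ1 x).mpr this]; exact one_mem _
    · have : x = zc * ⟨a, Subgroup.mem_sup_right ha⟩ := Subtype.ext (by rw [← e, h]; rfl)
      rw [this, map_mul, (hπ1 _).mpr (show ((⟨a, Subgroup.mem_sup_right ha⟩ : M) : G) ∈ A from ha), mul_one]
      exact hzbc
  have hT3 : Subgroup.centralizer (((Subgroup.center T).map T.subtype : Subgroup _) : Set (M ⧸ A.subgroupOf M)) ≤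
      Subgroup.normalizer (T : Set (M ⧸ A.subgroupOf M)) := by
    intro Y hY
    obtain ⟨c, hc, rfl⟩ := hrep Y
    have hcz := hlift c zc hc hzR.2 (hsq4 z hzQ) (Subgroup.mem_centralizer_iff.mp hY _ hzbc).symm
    have key : ∀ d : M, (d : G) ∈ CA → (d : G) * z = z * d → ∀ Y ∈ T, π d * Y * (π d)⁻¹ ∈ T := by
      rintro d hdA hd - ⟨x, hx, rfl⟩
      rw [← map_inv, ← map_mul, ← map_mul]
      exact ⟨d * x * d⁻¹, ⟨hnorm _ hd _ hx.1, CA.mul_mem (CA.mul_mem hdA hx.2) (CA.inv_mem hdA)⟩, rfl⟩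
    rw [Subgroup.mem_normalizer_iff]
    refine fun Y => ⟨key c hc hcz Y, fun hY => ?_⟩
    have := key c⁻¹ (CA.inv_mem hc) (Commute.inv_left (show Commute (c : G) z from hcz)).eq _ hY
    rw [map_inv, inv_inv] at this
    convert this using 1
    group
  -- the fixed subgroup in the other attached group
  set U := F v ⊓ CA with hU
  have hvR : v ∈ R := hgR
  have hAN' : A ≤ Subgroup.normalizer (F v : Set G) := by
    intro a ha
    have hav : Commute a v := (hmemCA v).mp hvR.2 a ha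
    rw [Subgroup.mem_normalizer_iff]
    refine fun x => ⟨fun hx => P₀.L.conj_mem hx hav, fun hx => ?_⟩
    simpa [mul_assoc] using P₀.L.conj_mem hx hav.inv_left
  have hFvE : Cfsg.IsExtraspecial 2 (F v) := by
    rw [hFs]
    exact H68.isExtraspecial_of_equiv (Subgroup.equivMapOfInjective Q _ (MulAut.conj g).injective) hQ
  have hFvZ : ∀ x ∈ (Subgroup.center (F v)).map (F v).subtype, ∀ a ∈ A, a * x = x * a := by
    intro x hx a ha
    obtain ⟨hxF, hxc⟩ := H93.mem_centerMap.mp hx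
    rcases P₀.L.center_cases P₀.sv hxF (fun b hb => (hxc b hb).symm) with rfl | rfl
    · simp
    · exact (hmemCA _).mp hvR.2 a ha
  obtain ⟨q, hq, hqv⟩ : ∃ q ∈ R, q * v * q⁻¹ = z * v := by
    by_contra hn
    push Not at hn
    refine hgZ (hRc v hvR fun r hr => ?_)
    have hr' : r ∈ F z := hFz.symm ▸ hr.1
    rcases P₀.cm hr' P₀.uv with h | h
    · exact h
    · exact absurd (by rw [h]; group) (hn r hr)
  obtain ⟨p, hp, hpz⟩ : ∃ p ∈ U, p * z * p⁻¹ = v * z := by
    by_contra hn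
    push Not at hn
    have hzc' := H69.central_of_fixed hFvE hAN' hAodd hFvZ (x := z) ⟨P₀.vu, hzR.2⟩ fun c hc => by
      rcases P₀.symm.cm hc.1 P₀.vu with h | h
      · exact h
      · exact absurd (by rw [h]; group) (hn c hc)
    obtain ⟨hzF, hzc''⟩ := H93.mem_centerMap.mp hzc'
    rcases P₀.L.center_cases P₀.sv hzF (fun b hb => (hzc'' b hb).symm) with h | h
    · exact P₀.L.ne_one P₀.su h
    · exact hvz h.symm
  refine ⟨?_, ?_, p * q, mul_mem (Subgroup.mem_sup_right hp) (Subgroup.mem_sup_left hq), ?_⟩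
  · -- the centralizer
    refine le_antisymm (sup_le (fun x hx => ?_) le_sup_left) (sup_le le_sup_right ?_)
    · rw [hZ]
      refine hXle ?_
      rw [hX, sup_comm A R]
      exact hx.2
    · rw [hZ, Subgroup.zpowers_le]
      refine Subgroup.mem_sup_left ⟨hRM hzR, ?_⟩
      rw [sup_comm R A]
      exact hzX
  · set vc : M := ⟨v, hRM hvR⟩ with hvc
    refine H93.large_of_centre_in_twoCore_centralizer hTex hT2 hT3 (b := π vc) ⟨vc, hvR, rfl⟩ (fun h => ?_) ?_ ?_
    · rcases hTc _ h with h | h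
      · exact P₀.L.ne_one P₀.sv (htwoA v ((hπ1 vc).mp h) Q hQ.1.1 hvR.1)
      · have := hinj (a₁ := ⟨v, hvR⟩) (a₂ := ⟨z, hzR⟩) h
        exact hvz (congrArg Subtype.val this)
    · have := Fact.mk Nat.prime_two
      refine orderOf_eq_prime ?_ fun h => P₀.L.ne_one P₀.sv (htwoA v ((hπ1 vc).mp h) Q hQ.1.1 hvR.1)
      rw [pow_two, ← map_mul, ← map_one π]; exact congrArg π (Subtype.ext P₀.vv)
    · intro Y hY
      set D := Subgroup.centralizer ({π vc} : Set (M ⧸ A.subgroupOf M)) with hD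
      set W := (U.subgroupOf M).map π with hW
      have hWD : W ≤ D := by
        rintro - ⟨x, hx, rfl⟩
        rw [hD, Subgroup.mem_centralizer_singleton_iff, ← map_mul, ← map_mul]
        exact congrArg π (Subtype.ext (P₀.symm.cu hx.1))
      have hWn : (W.subgroupOf D).Normal := by
        refine ⟨fun Y hY d => ?_⟩
        obtain ⟨c, hc, hcd⟩ := hrep (d : M ⧸ A.subgroupOf M)
        obtain ⟨x, hx, e⟩ := hY
        have hdc : π c * π vc = π vc * π c := by
          rw [hcd]; exact Subgroup.mem_centralizer_singleton_iff.mp d.2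
        have hcv : (c : G) * v = v * c := hlift c vc hc hvR.2 (hsq4 v hvR.1) hdc
        rw [Subgroup.mem_subgroupOf, Subgroup.coe_mul, Subgroup.coe_mul, Subgroup.coe_inv, ← hcd]
        refine ⟨c * x * c⁻¹, ⟨P₀.L.conj_mem hx.1 hcv, CA.mul_mem (CA.mul_mem hc hx.2) (CA.inv_mem hc)⟩, ?_⟩
        rw [map_mul, map_mul, map_inv, e]
        rfl
      have hWp : IsPGroup 2 (W.subgroupOf D) :=
        (((hFvE.1.1.to_le inf_le_left).comap_subtype).map π).comap_subtype
      have hzW : π zc ∈ W := ⟨zc, ⟨P₀.vu, hzR.2⟩, rfl⟩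
      rcases hTc Y hY with rfl | rfl
      · exact one_mem _
      · exact ⟨⟨π zc, hWD hzW⟩, (le_sSup (show W.subgroupOf D ∈ {N : Subgroup D | N.Normal ∧
          IsPGroup 2 N} from ⟨hWn, hWp⟩)) (show (⟨π zc, hWD hzW⟩ : D) ∈ W.subgroupOf D from hzW), rfl⟩
  · calc p * q * v * (p * q)⁻¹ = p * (q * v * q⁻¹) * p⁻¹ := by group
      _ = (p * z * p⁻¹) * (p * v * p⁻¹) := by rw [hqv]; group
      _ = v * z * v := by rw [hpz, mul_inv_eq_of_eq_mul (P₀.symm.cu hp.1)]
      _ = z * (v * v) := by rw [← P₀.huv]; group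
      _ = z := by rw [P₀.vv, mul_one]

end Cfsg.Agent.S5428
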