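import Cfsg.Statements.S5429
import Cfsg.Agent.H69.Setting

set_option autoImplicit false
open Cfsg

namespace Cfsg.Agent.S5429

open H69 LXFam in
theorem H69_double {G : Type*} [Group G] [Finite G] {F : G → Subgroup G} {z u t : G} (L : H69.LXFam F z)
    (su : H69.LXFam.Sing z u) (ht : t ∈ F u) (ht2 : t * t = 1) (hne : t ≠ 1 ∧ t ≠ u) :
    (∃ q ∈ F u, q * t * q⁻¹ = u * t) ∧
    ∀ x ∈ F u, (∀ y ∈ F u, y * t = t * y → x * y = y * x) → x = 1 ∨ x = u ∨ x = t ∨ x = u * t := by
  have huu := L.sq_one su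
  have hcu : ∀ {y}, y ∈ F u → y * u = u * y := fun hy => (L.commute_of_mem hy).eq
  have cm : ∀ {a b}, a ∈ F u → b ∈ F u → a * b = b * a ∨ a * b = u * (b * a) := by
    intro a b ha hb
    rcases L.comm_cases su ha hb with h | h
    · exact Or.inl (mul_inv_eq_iff_eq_mul.mp h)
    · exact Or.inr (by rw [mul_inv_eq_iff_eq_mul.mp h, hcu hb, mul_assoc])
  obtain ⟨q, hq, hqt⟩ : ∃ q ∈ F u, q * t ≠ t * q := by
    by_contra hn
    push Not at hn
    rcases L.center_cases su ht (fun b hb => (hn b hb).symm) with h | h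
    exacts [hne.1 h, hne.2 h]
  have eq' := (cm hq ht).resolve_left hqt
  refine ⟨⟨q, hq, by rw [eq']; group⟩, fun x hx h => ?_⟩
  have key : ∀ d, (∀ y ∈ F u, y * t = t * y → d * y = y * d) → d * q = q * d → ∀ b ∈ F u, Commute d b := by
    intro d hd hdq b hb
    by_cases hbt : b * t = t * b
    · exact hd b hb hbt
    · have eb := (cm hb ht).resolve_left hbt
      have h1 : d * (q * b) = q * b * d := hd _ (mul_mem hq hb) (by
        calc q * b * t = q * (b * t) := by group
          _ = (q * u) * t * b := by rw [eb]; group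
          _ = u * (q * t) * b := by rw [hcu hq]; group
          _ = (u * u) * (t * (q * b)) := by rw [eq']; group
          _ = t * (q * b) := by rw [huu, one_mul])
      have := (show Commute d q from hdq).inv_right.mul_right (show Commute d (q * b) from h1)
      simpa using this
  rcases cm hx hq with h' | h'
  · rcases L.center_cases su hx (key x h h') with e | e
    exacts [Or.inl e, Or.inr (Or.inl e)]
  · have h2 : ∀ y ∈ F u, y * t = t * y → x * t * y = y * (x * t) := fun y hy hyt => by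
      rw [mul_assoc, ← hyt, ← mul_assoc, h y hy hyt, mul_assoc]
    have h3 : x * t * q = q * (x * t) := by
      calc x * t * q = x * (u * u) * (t * q) := by rw [huu, mul_one]; group
        _ = (x * u) * (u * (t * q)) := by group
        _ = (u * x) * (q * t) := by rw [hcu hx, ← eq']
        _ = u * (x * q) * t := by group
        _ = (u * u) * (q * (x * t)) := by rw [h']; group
        _ = q * (x * t) := by rw [huu, one_mul]
    rcases L.center_cases su (mul_mem hx ht) (key _ h2 h3) with e | e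
    · refine Or.inr (Or.inr (Or.inl ?_))
      calc x = x * t * t := by rw [mul_assoc, ht2, mul_one]
        _ = t := by rw [e, one_mul]
    · refine Or.inr (Or.inr (Or.inr ?_))
      calc x = x * t * t := by rw [mul_assoc, ht2, mul_one]
        _ = u * t := by rw [e]

/-- Let z be an involution of the finite group G with centralizer C whose generalized Fitting subgroup Q is extraspecial of width at least 3 (order 2^(2w+1), w ≥ 3); let g be an element of G with g z g⁻¹ in Q but outside the centre Z of Q, and t an involution lying in both Q and g Q g⁻¹ that is not conjugate to z; write P for the centralizer of t in Q and suppose that the elements of C acting trivially by conjugation on P modulo the subgroup generated by t and z are exactly the elements of Q. Then the image of P in the centralizer of t modulo the subgroup generated by t is a large extraspecial 2-subgroup there, and g z g⁻¹ is conjugate to z inside the subgroup generated by P and the centralizer of t in g Q g⁻¹.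 -/
theorem result {G : Type*} [Group G] [Finite G] (z : G) (hz : orderOf z = 2) (Q : Subgroup G) (hQC : Q ≤ Subgroup.centralizer ({z} : Set G)) (hF : (Cfsg.generalizedFittingSubgroup ↥(Subgroup.centralizer ({z} : Set G))).map (Subgroup.centralizer ({z} : Set G)).subtype = Q) (hQ : Cfsg.IsExtraspecial 2 ↥Q) (w : ℕ) (hw : 3 ≤ w) (hcard : Nat.card ↥Q = 2 ^ (2 * w + 1)) (g : G) (hgQ : g * z * g⁻¹ ∈ Q) (hgZ : g * z * g⁻¹ ∉ ((Subgroup.center ↥Q).map Q.subtype)) (t : G) (ht : orderOf t = 2) (htQ : t ∈ Q ⊓ (Q).map (MulAut.conj g).toMonoidHom) (htz : ¬ IsConj z t) (P : Subgroup G) (hP : P = Q ⊓ Subgroup.centralizer ({t} : Set G)) (hCP : ∀ c ∈ Subgroup.centralizer ({z} : Set G), (∀ x ∈ P, ∃ y ∈ Subgroup.closure ({t, z} : Set G), c * x * c⁻¹ = x * y) ↔ c ∈ Q) [hn : ((Subgroup.zpowers t).subgroupOf (Subgroup.centralizer ({t} : Set G))).Normal] : Cfsg.IsLargeExtraspecial ((P.subgroupOf (Subgroup.centralizer ({t} : Set G))).map (QuotientGroup.mk' ((Subgroup.zpowers t).subgroupOf (Subgroup.centralizer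 ({t} : Set G))))) ∧ ∃ x ∈ P ⊔ ((Q).map (MulAut.conj g).toMonoidHom ⊓ Subgroup.centralizer ({t} : Set G)), x * (g * z * g⁻¹) * x⁻¹ = z := by
  obtain ⟨hpre, hZ, hnorm⟩ := H69.fstar_setting hz hQC hF hQ
  subst hP
  have hsz : g * z * g⁻¹ ≠ z := fun h => hgZ (by rw [h, hZ]; exact Subgroup.mem_zpowers z)
  have P₀ := H69.pair_of_preLarge hpre hZ hz g
    (fun h => hsz (mul_inv_eq_of_eq_mul (Subgroup.mem_centralizer_singleton_iff.mp h))) hgQ
  have hFz := H69.lxQ_base hpre hZ
  have hFs := H69.lxQ_self hpre hZ g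
  rw [← hFs] at htQ ⊢
  generalize H69.lxQ Q z = F at P₀ hFz hFs htQ ⊢
  subst hFz
  have hsc0 : IsConj z (g * z * g⁻¹) := isConj_iff.mpr ⟨g, rfl⟩
  generalize hs : g * z * g⁻¹ = s at *
  have htF := htQ.1
  have htF' := htQ.2
  have htz' : t * z = z * t := P₀.cu htF
  have hts : t * s = s * t := P₀.symm.cu htF'
  have ht2 : t * t = 1 := by rw [← pow_two, ← ht, pow_orderOf_eq_one]
  have ht1 : t ≠ 1 := fun h => by simp [h] at ht
  have htne : t ≠ z := fun h => htz (h ▸ IsConj.refl z)
  have htns : t ≠ s := fun h => htz (h ▸ hsc0)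
  have hzs : IsConj z (z * s) := by
    obtain ⟨q, -, hq⟩ := P₀.exists_mover
    exact hsc0.trans (isConj_iff.mpr ⟨q, hq⟩)
  have htnzs : t ≠ z * s := fun h => htz (h ▸ hzs)
  have hzz := P₀.uu
  obtain ⟨⟨qt, hqt, hqtt⟩, hdc⟩ := H69_double P₀.L P₀.su htF ht2 ⟨ht1, htne⟩
  obtain ⟨⟨pt, hpt, hptt⟩, hdc'⟩ := H69_double P₀.L P₀.sv htF' ht2 ⟨ht1, htns⟩
  have hPm : ∀ x, x ∈ F z ⊓ Subgroup.centralizer ({t} : Set G) ↔ x ∈ F z ∧ x * t = t * x :=
    fun x => ⟨fun h => ⟨h.1, Subgroup.mem_centralizer_singleton_iff.mp h.2⟩,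
      fun h => ⟨h.1, Subgroup.mem_centralizer_singleton_iff.mpr h.2⟩⟩
  -- movers inside the centralizer of `t`
  obtain ⟨q, hq, hqt', hqs⟩ : ∃ q ∈ F z, q * t = t * q ∧ q * s * q⁻¹ = z * s := by
    by_contra hn
    push Not at hn
    rcases hdc s P₀.uv (fun y hy hyt => by
      rcases P₀.cm hy P₀.uv with h | h
      · exact h.symm
      · exact absurd (by rw [h]; group) (hn y hy hyt)) with h | h | h | h
    · exact P₀.L.ne_one P₀.sv h
    · exact hsz h
    · exact htns h.symm
    · exact htnzs (by rw [h, ← mul_assoc, hzz, one_mul])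
  obtain ⟨p, hp, hpt', hpz⟩ : ∃ p ∈ F s, p * t = t * p ∧ p * z * p⁻¹ = s * z := by
    by_contra hn
    push Not at hn
    rcases hdc' z P₀.vu (fun y hy hyt => by
      rcases P₀.symm.cm hy P₀.vu with h | h
      · exact h.symm
      · exact absurd (by rw [h]; group) (hn y hy hyt)) with h | h | h | h
    · exact P₀.L.ne_one P₀.su h
    · exact hsz h.symm
    · exact htne h.symm
    · exact htnzs (by rw [h, hts.symm, mul_assoc, P₀.vv, mul_one])
  refine ⟨?_, p * q, mul_mem (Subgroup.mem_sup_right ⟨hp, Subgroup.mem_centralizer_singleton_iff.mpr hpt'⟩)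
    (Subgroup.mem_sup_left ((hPm q).mpr ⟨hq, hqt'⟩)), ?_⟩
  swap
  · calc p * q * s * (p * q)⁻¹ = p * (q * s * q⁻¹) * p⁻¹ := by group
      _ = (p * z * p⁻¹) * (p * s * p⁻¹) := by rw [hqs]; group
      _ = s * z * s := by rw [hpz, mul_inv_eq_of_eq_mul (P₀.symm.cu hp)]
      _ = z * (s * s) := by rw [← P₀.huv]; group
      _ = z := by rw [P₀.vv, mul_one]
  -- the quotient by `t`
  set Ct := Subgroup.centralizer ({t} : Set G) with hCt
  set π := QuotientGroup.mk' ((Subgroup.zpowers t).subgroupOf Ct) with hπ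
  have hmemCt : ∀ x, x ∈ Ct ↔ x * t = t * x := fun x => Subgroup.mem_centralizer_singleton_iff
  have hπeq : ∀ x y : Ct, π x = π y ↔ ((y : G) = x ∨ (y : G) = x * t) := by
    intro x y
    rw [hπ, QuotientGroup.mk'_apply, QuotientGroup.mk'_apply, QuotientGroup.eq, Subgroup.mem_subgroupOf]
    simp only [Subgroup.coe_mul, Subgroup.coe_inv]
    refine ⟨fun h => ?_, fun h => ?_⟩
    · rcases H93.zpowers_two_cases ht h with h' | h'
      · exact Or.inl (inv_mul_eq_one.mp h').symm
      · exact Or.inr (inv_mul_eq_iff_eq_mul.mp h')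
    · rcases h with h | h <;> rw [h]
      · simp
      · simp
  set P := F z ⊓ Ct with hP
  set T := (P.subgroupOf Ct).map π with hT
  have hmemT : ∀ x : Ct, (x : G) ∈ P → π x ∈ T := fun x hx => ⟨x, hx, rfl⟩
  have hzP : z ∈ P := (hPm z).mpr ⟨P₀.u_mem, htz'.symm⟩
  have htP : t ∈ P := (hPm t).mpr ⟨htF, rfl⟩
  set zc : Ct := ⟨z, hzP.2⟩ with hzc
  set zb : T := ⟨π zc, hmemT zc hzP⟩ with hzb
  -- `z * t` is not conjugate to `z`
  have hzt : ∀ c, c * t = t * c → c * z * c⁻¹ ≠ z * t := fun c _ h =>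
    htz ((isConj_iff.mpr ⟨c, h⟩ : IsConj z (z * t)).trans (isConj_iff.mpr ⟨qt, hqtt⟩).symm)
  have hcentz : ∀ c : Ct, π c * π zc = π zc * π c → (c : G) * z = z * c := by
    intro c h
    have h' : π (c * zc * c⁻¹) = π zc := by rw [map_mul, map_mul, map_inv, h]; group
    rcases (hπeq zc (c * zc * c⁻¹)).mp h'.symm with e | e <;>
      simp only [Subgroup.coe_mul, Subgroup.coe_inv, hzc] at e
    · exact mul_inv_eq_iff_eq_mul.mp e
    · exact absurd e (hzt c ((hmemCt c).mp c.2))
  -- the structure of `T`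
  have hlift : ∀ X : T, ∃ x : Ct, (x : G) ∈ P ∧ π x = X := fun X => by
    obtain ⟨x, hx, e⟩ := X.2; exact ⟨x, hx, e⟩
  have hPcm : ∀ x y : Ct, (x : G) ∈ P → (y : G) ∈ P → π x * π y = π y * π x ∨ π x * π y = π zc * (π y * π x) := by
    intro x y hx hy
    rcases P₀.cm ((hPm _).mp hx).1 ((hPm _).mp hy).1 with h | h
    · left; rw [← map_mul, ← map_mul]; exact congrArg π (Subtype.ext h)
    · right; rw [← map_mul, ← map_mul, ← map_mul]; exact congrArg π (Subtype.ext h)
  have hTp : IsPGroup 2 T := ((hQ.1.1.to_le inf_le_left).comap_subtype).map π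
  have hdcP : ∀ x, x ∈ P → (∀ y ∈ P, x * y = y * x) → x = 1 ∨ x = z ∨ x = t ∨ x = z * t :=
    fun x hx h => hdc x ((hPm x).mp hx).1 fun y hy hyt => h y ((hPm y).mpr ⟨hy, hyt⟩)
  have hfour : ∀ (x : Ct), ((x : G) = 1 ∨ (x : G) = z ∨ (x : G) = t ∨ (x : G) = z * t) →
      π x = 1 ∨ π x = π zc := by
    intro x hx
    rcases hx with h | h | h | h
    · left; rw [show x = 1 from Subtype.ext h, map_one]
    · right; rw [show x = zc from Subtype.ext h]
    · left; rw [← map_one π]; exact ((hπeq 1 x).mpr (Or.inr (by simp [h]))).symm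
    · right; exact ((hπeq zc x).mpr (Or.inr (by simp [h, hzc]))).symm
  -- centralising `T`
  have hcentT : ∀ c : Ct, (∀ X ∈ T, X * π c = π c * X) → π c = 1 ∨ π c = π zc := by
    intro c h
    have hcz : (c : G) * z = z * c := hcentz c (h _ (hmemT zc hzP)).symm
    have hyc : ∀ x, x ∈ P → (c : G) * x * (c : G)⁻¹ = x ∨ (c : G) * x * (c : G)⁻¹ = x * t := by
      intro x hx
      have h1 : π (c * ⟨x, hx.2⟩ * c⁻¹) = π ⟨x, hx.2⟩ := by
        rw [map_mul, map_mul, map_inv, ← h _ (hmemT ⟨x, hx.2⟩ hx)]; group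
      rcases (hπeq ⟨x, hx.2⟩ (c * ⟨x, hx.2⟩ * c⁻¹)).mp h1.symm with e | e <;>
        simp only [Subgroup.coe_mul, Subgroup.coe_inv] at e
      exacts [Or.inl e, Or.inr e]
    have hcQ : (c : G) ∈ F z := by
      refine (hCP c (Subgroup.mem_centralizer_singleton_iff.mpr hcz)).mp fun x hx => ?_
      rcases hyc x hx with e | e
      · exact ⟨1, one_mem _, by rw [e, mul_one]⟩
      · exact ⟨t, Subgroup.subset_closure (by simp), e⟩
    refine hfour c (hdcP c ((hPm _).mpr ⟨hcQ, (hmemCt c).mp c.2⟩) fun y hy => ?_)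
    rcases hyc y hy with e | e
    · exact mul_inv_eq_iff_eq_mul.mp e
    · rcases P₀.cm hcQ ((hPm y).mp hy).1 with h' | h'
      · exact h'
      · exfalso
        apply htne
        have h3 : (c : G) * y * (c : G)⁻¹ = z * y := by rw [h']; group
        have hty : t * y = y * t := ((hPm y).mp hy).2.symm
        rw [e, ← hty] at h3
        exact mul_right_cancel h3
  have hTex : Cfsg.IsExtraspecial 2 T := by
    refine H69.isExtraspecial_two_of zb hTp (fun X => ?_) (fun X Y => ?_) ?_ (fun X hX => ?_)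
    · obtain ⟨x, hx, e⟩ := hlift X
      rcases P₀.L.mul_self_cases P₀.su ((hPm _).mp hx).1 with h | h
      · left; apply Subtype.ext; simp only [Subgroup.coe_mul, Subgroup.coe_one]
        rw [← e, ← map_mul, ← map_one π]; exact congrArg π (Subtype.ext h)
      · right; apply Subtype.ext; simp only [Subgroup.coe_mul, hzb]
        rw [← e, ← map_mul]; exact congrArg π (Subtype.ext h)
    · obtain ⟨x, hx, e⟩ := hlift X
      obtain ⟨y, hy, e'⟩ := hlift Y
      rcases hPcm x y hx hy with h | h <;> rw [e, e'] at h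
      exacts [Or.inl (Subtype.ext h), Or.inr (Subtype.ext h)]
    · refine ⟨⟨π ⟨q, (hmemCt q).mpr hqt'⟩, hmemT _ ((hPm q).mpr ⟨hq, hqt'⟩)⟩,
        ⟨π ⟨s, (hmemCt s).mpr hts.symm⟩, hmemT _ ((hPm s).mpr ⟨P₀.uv, hts.symm⟩)⟩, fun h => ?_⟩
      have h' := congrArg Subtype.val h
      simp only [Subgroup.coe_mul, ← map_mul] at h'
      rcases (hπeq _ _).mp h' with e | e <;> simp only [Subgroup.coe_mul] at e
      · exact P₀.mover_not_comm hqs e.symm
      · have e1 : q * s = s * q * t⁻¹ := by rw [e]; group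
        have e2 : q * s * q⁻¹ = s * t⁻¹ := by
          calc q * s * q⁻¹ = s * (q * t⁻¹) * q⁻¹ := by rw [e1]; group
            _ = s * (t⁻¹ * q) * q⁻¹ := by rw [(show Commute q t from hqt').inv_right.eq]
            _ = s * t⁻¹ := by group
        rw [hqs, inv_eq_of_mul_eq_one_right ht2, P₀.huv] at e2
        exact htne (mul_left_cancel e2).symm
    · obtain ⟨x, hx, e⟩ := hlift X
      rcases hcentT x (fun Y hY => by
        rw [e]; exact congrArg Subtype.val (hX ⟨Y, hY⟩)) with h | h <;> rw [e] at h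
      exacts [Or.inl (Subtype.ext h), Or.inr (Subtype.ext h)]
  have hzbc : π zc ∈ (Subgroup.center T).map T.subtype := by
    refine H93.mem_centerMap.mpr ⟨hmemT zc hzP, ?_⟩
    rintro - ⟨x, hx, rfl⟩
    rw [← map_mul, ← map_mul]
    exact congrArg π (Subtype.ext (P₀.cu ((hPm _).mp hx).1))
  have hπz : π zc ≠ 1 := fun h => by
    rw [← map_one π] at h
    rcases (hπeq zc 1).mp h with e | e <;> simp only [hzc, Subgroup.coe_one] at e
    · exact P₀.L.ne_one P₀.su e.symm
    · exact htne (by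
        calc t = z * (z * t) := by rw [← mul_assoc, hzz, one_mul]
          _ = z := by rw [← e, mul_one])
  have hTc : ∀ X, X ∈ (Subgroup.center T).map T.subtype → X = 1 ∨ X = π zc := by
    intro X hX
    obtain ⟨hXT, hX'⟩ := H93.mem_centerMap.mp hX
    obtain ⟨x, -, rfl⟩ := hXT
    exact hcentT x hX'
  have hT3 : Subgroup.centralizer (((Subgroup.center T).map T.subtype : Subgroup _) : Set _) ≤
      Subgroup.normalizer (T : Set (↥Ct ⧸ (Subgroup.zpowers t).subgroupOf Ct)) := by
    intro X hX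
    obtain ⟨c, rfl⟩ := QuotientGroup.mk'_surjective _ X
    have hcz := hcentz c (Subgroup.mem_centralizer_iff.mp hX _ hzbc).symm
    have key : ∀ d : Ct, (d : G) * z = z * d → ∀ Y ∈ T, π d * Y * (π d)⁻¹ ∈ T := by
      rintro d hd - ⟨x, hx, rfl⟩
      rw [← map_inv, ← map_mul, ← map_mul]
      exact hmemT _ ((hPm _).mpr ⟨hnorm _ hd _ ((hPm _).mp hx).1, (hmemCt _).mp (d * x * d⁻¹).2⟩)
    rw [Subgroup.mem_normalizer_iff]
    refine fun Y => ⟨key c hcz Y, fun hY => ?_⟩
    have := key c⁻¹ (Commute.inv_left (show Commute (c : G) z from hcz)).eq _ hY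
    rw [map_inv, inv_inv] at this
    convert this using 1
    simp only [hπ]
    group
  have hT2 : Subgroup.centralizer (T : Set _) = (Subgroup.center T).map T.subtype := by
    refine le_antisymm (fun X hX => ?_) (fun X hX => Subgroup.mem_centralizer_iff.mpr (H93.mem_centerMap.mp hX).2)
    obtain ⟨c, rfl⟩ := QuotientGroup.mk'_surjective _ X
    rcases hcentT c (Subgroup.mem_centralizer_iff.mp hX) with h | h <;> rw [h]
    exacts [one_mem _, hzbc]
  set sc : Ct := ⟨s, (hmemCt s).mpr hts.symm⟩ with hsc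
  refine H93.large_of_centre_in_twoCore_centralizer hTex hT2 hT3 (b := π sc)
    (hmemT sc ((hPm s).mpr ⟨P₀.uv, hts.symm⟩)) (fun h => ?_) ?_ ?_
  · rcases hTc _ h with h | h
    · rw [← map_one π] at h
      rcases (hπeq sc 1).mp h with e | e <;> simp only [hsc, Subgroup.coe_one] at e
      · exact P₀.L.ne_one P₀.sv e.symm
      · exact htns (by
          calc t = s * (s * t) := by rw [← mul_assoc, P₀.vv, one_mul]
            _ = s := by rw [← e, mul_one])
    · rcases (hπeq sc zc).mp h with e | e <;> simp only [hsc, hzc] at e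
      · exact hsz e.symm
      · exact htnzs (by rw [e, mul_assoc, hts, ← mul_assoc, P₀.vv, one_mul])
  · have := Fact.mk Nat.prime_two
    refine orderOf_eq_prime ?_ fun h => ?_
    · rw [pow_two, ← map_mul, ← map_one π]; exact congrArg π (Subtype.ext P₀.vv)
    · rw [← map_one π] at h
      rcases (hπeq sc 1).mp h with e | e <;> simp only [hsc, Subgroup.coe_one] at e
      · exact P₀.L.ne_one P₀.sv e.symm
      · exact htns (by
          calc t = s * (s * t) := by rw [← mul_assoc, P₀.vv, one_mul]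
            _ = s := by rw [← e, mul_one])
  · -- the centre lies in the 2-core of the centraliser of the image of `s`
    intro X hX
    have hst : ∀ c, c * t = t * c → c * s * c⁻¹ ≠ s * t := fun c _ h => htz
      ((isConj_iff.mpr ⟨c * g, by rw [← h, ← hs]; group⟩ : IsConj z (s * t)).trans
        (isConj_iff.mpr ⟨pt, hptt⟩).symm)
    set D := Subgroup.centralizer ({π sc} : Set _) with hD
    set U := ((F s ⊓ Ct).subgroupOf Ct).map π with hU
    have hUD : U ≤ D := by
      rintro - ⟨x, hx, rfl⟩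
      rw [hD, Subgroup.mem_centralizer_singleton_iff, ← map_mul, ← map_mul]
      exact congrArg π (Subtype.ext (P₀.symm.cu hx.1))
    have hUn : (U.subgroupOf D).Normal := by
      refine ⟨fun Y hY d => ?_⟩
      obtain ⟨c, hc⟩ := QuotientGroup.mk'_surjective _ (d : Ct ⧸ (Subgroup.zpowers t).subgroupOf Ct)
      obtain ⟨x, hx, e⟩ := hY
      have hdc : π c * π sc = π sc * π c := by
        rw [hc]; exact Subgroup.mem_centralizer_singleton_iff.mp d.2
      have h' : π (c * sc * c⁻¹) = π sc := by rw [map_mul, map_mul, map_inv, hdc]; group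
      have hcs : (c : G) * s = s * c := by
        rcases (hπeq sc (c * sc * c⁻¹)).mp h'.symm with e | e <;>
          simp only [Subgroup.coe_mul, Subgroup.coe_inv, hsc] at e
        · exact mul_inv_eq_iff_eq_mul.mp e
        · exact absurd e (hst c ((hmemCt c).mp c.2))
      rw [Subgroup.mem_subgroupOf, Subgroup.coe_mul, Subgroup.coe_mul, Subgroup.coe_inv, ← hc]
      refine ⟨c * x * c⁻¹, ⟨P₀.L.conj_mem hx.1 hcs, (c * x * c⁻¹).2⟩, ?_⟩
      rw [map_mul, map_mul, map_inv, e]
      rfl
    have hFp : IsPGroup 2 (F s) := by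
      rw [hFs]; exact hQ.1.1.map _
    have hUp : IsPGroup 2 (U.subgroupOf D) :=
      (((hFp.to_le inf_le_left).comap_subtype).map π).comap_subtype
    have hzU : π zc ∈ U := ⟨zc, ⟨P₀.vu, hzP.2⟩, rfl⟩
    rcases hTc X hX with rfl | rfl
    · exact one_mem _
    · exact ⟨⟨π zc, hUD hzU⟩, (le_sSup (show U.subgroupOf D ∈ {N : Subgroup D | N.Normal ∧
        IsPGroup 2 N} from ⟨hUn, hUp⟩)) (show (⟨π zc, hUD hzU⟩ : D) ∈ U.subgroupOf D from hzU), rfl⟩

end Cfsg.Agent.S5429
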