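import Cfsg.Statements.S5430
import Cfsg.Agent.H69.PairTop
import Cfsg.Agent.H93.Basic

set_option autoImplicit false
open Cfsg

namespace Cfsg.Agent.S5430

theorem H69_S3_no_two : ∀ x : Equiv.Perm (Fin 3), x ≠ 1 → x * x = 1 →
    ∃ y : Equiv.Perm (Fin 3), (x * (y * x * y⁻¹)) * (x * (y * x * y⁻¹)) * ((x * (y * x * y⁻¹)) *
      (x * (y * x * y⁻¹))) ≠ 1 := by decide +kernel

theorem H69_S3_two_power : ∀ x : Equiv.Perm (Fin 3), x * x * (x * x) = 1 → x * x = 1 := by
  decide +kernel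

theorem H69_S3_pow {x : Equiv.Perm (Fin 3)} {k : ℕ} (h : x ^ (2 ^ k) = 1) : x * x = 1 := by
  have h6 : x ^ 6 = 1 := by
    have := pow_card_eq_one' (x := x)
    rwa [Nat.card_eq_fintype_card, Fintype.card_perm] at this
  have h2 : orderOf x ∣ Nat.gcd (2 ^ k) 6 :=
    Nat.dvd_gcd (orderOf_dvd_of_pow_eq_one h) (orderOf_dvd_of_pow_eq_one h6)
  have h3 : Nat.gcd (2 ^ k) 6 ∣ 2 := by
    have : Nat.Coprime (Nat.gcd (2 ^ k) 6) 3 :=
      Nat.Coprime.coprime_dvd_left (Nat.gcd_dvd_left _ _) (Nat.Coprime.pow_left _ (by decide))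
    exact this.dvd_of_dvd_mul_right (Nat.gcd_dvd_right (2 ^ k) 6)
  have := orderOf_dvd_iff_pow_eq_one.mp (h2.trans h3)
  rwa [pow_two] at this

/-- Let Q be a large extraspecial 2-subgroup of the finite group G (extraspecial; centralizer equal to its centre; normal in the centralizer of its centre; normalizing no non-trivial subgroup of odd order) with centre generated by z, an involution, of width w ≥ 2 (order 2^(2w+1)); let g be an element outside the centralizer H of z with g z g⁻¹ in Q; write V for the subgroup generated by z and g z g⁻¹, X for the subgroup generated by Q and g Q g⁻¹, R for the subgroup generated by the centralizer of z in g Q g⁻¹ and the centralizer of g z g⁻¹ in Q, and E for the intersection of Q and g Q g⁻¹. Then R is the centralizer of V in X and is the largest normal 2-subgroup of X, and X/R is isomorphic to the symmetric group of degree 3; moreover the normalizer of V is the product of X and the centralizer of V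 in H, X is normal in it, and modulo R it is the direct product of X/R and of the centralizer of V in H modulo R. -/
theorem result {G : Type*} [Group G] [Finite G] (Q : Subgroup G) (hQ : Cfsg.IsLargeExtraspecial Q) (z : G) (hz : ((Subgroup.center ↥Q).map Q.subtype) = Subgroup.zpowers z) (hz2 : orderOf z = 2) (w : ℕ) (hw : 2 ≤ w) (hcard : Nat.card ↥Q = 2 ^ (2 * w + 1)) (g : G) (hgH : g ∉ Subgroup.centralizer ({z} : Set G)) (hgQ : g * z * g⁻¹ ∈ Q) (V X R E : Subgroup G) (hV : V = Subgroup.closure ({z, g * z * g⁻¹} : Set G)) (hX : X = Q ⊔ (Q).map (MulAut.conj g).toMonoidHom) (hR : R = ((Q).map (MulAut.conj g).toMonoidHom ⊓ Subgroup.centralizer ({z} : Set G)) ⊔ (Q ⊓ Subgroup.centralizer ({g * z * g⁻¹} : Set G))) (hE : E = Q ⊓ (Q).map (MulAut.conj g).toMonoidHom) : R = X ⊓ Subgroup.centralizer (V : Set G) ∧ R = (Cfsg.pCore 2 ↥X).map X.subtype ∧ (∃ h : (R.subgroupOf X).Normal, Nonempty (↥X ⧸ R.subgroupOf X ≃* Equiv.Perm (Fin 3))) ∧ Subgroup.normalizer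 (V : Set G) = X ⊔ (Subgroup.centralizer ({z} : Set G) ⊓ Subgroup.centralizer (V : Set G)) ∧ (∀ y ∈ Subgroup.normalizer (V : Set G), ∀ x ∈ X, y * x * y⁻¹ ∈ X) ∧ R ≤ Subgroup.centralizer ({z} : Set G) ⊓ Subgroup.centralizer (V : Set G) ∧ (∀ x ∈ X, ∀ c ∈ Subgroup.centralizer ({z} : Set G) ⊓ Subgroup.centralizer (V : Set G), x * c * x⁻¹ * c⁻¹ ∈ R) ∧ X ⊓ (Subgroup.centralizer ({z} : Set G) ⊓ Subgroup.centralizer (V : Set G)) = R := by
  have P := H69.pair_of_large hQ hz hz2 g hgH hgQ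
  have hu := H69.lxQ_base (H69.preLarge_of_large hQ) hz
  have hvv := H69.lxQ_self (H69.preLarge_of_large hQ) hz g
  generalize H69.lxQ Q z = F at P hu hvv
  rw [← hvv] at hX hR hE
  subst hu
  subst hV hX hR hE
  set v := g * z * g⁻¹ with hv
  obtain ⟨hRX, φ, hsurj, hker, hN⟩ := P.structure_top
  set R := H69.Pair.half F v z ⊔ H69.Pair.half F z v with hR
  have hRle : R ≤ F z ⊔ F v := P.rad_le
  have hk : R.subgroupOf (F z ⊔ F v) = φ.ker := by
    ext x; rw [MonoidHom.mem_ker, hker, Subgroup.mem_subgroupOf]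
  have hnorm : (R.subgroupOf (F z ⊔ F v)).Normal := hk ▸ φ.normal_ker
  set C := Subgroup.centralizer ({z} : Set G) ⊓
    Subgroup.centralizer (Subgroup.closure ({z, v} : Set G) : Set G) with hC
  have hCz : ∀ c ∈ Subgroup.centralizer (Subgroup.closure ({z, v} : Set G) : Set G), c ∈ C := fun c hc =>
    ⟨Subgroup.mem_centralizer_singleton_iff.mpr (P.mem_centralizer_four.mp hc).1, hc⟩
  have hCX : ∀ c ∈ C, ∀ x ∈ F z ⊔ F v, c * x * c⁻¹ ∈ F z ⊔ F v := by
    intro c hc x hx
    obtain ⟨h1, h2⟩ := P.mem_centralizer_four.mp hc.2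
    have hle : F z ⊔ F v ≤ (F z ⊔ F v).comap (MulAut.conj c).toMonoidHom := by
      refine sup_le (fun a ha => ?_) (fun a ha => ?_)
      · exact Subgroup.mem_sup_left (P.L.conj_mem ha h1)
      · exact Subgroup.mem_sup_right (P.L.conj_mem ha h2)
    exact hle hx
  have hNV := P.sup_le_normalizer_four
  refine ⟨hRX, ?_, ⟨hnorm, ⟨(QuotientGroup.quotientMulEquivOfEq hk).trans
      (QuotientGroup.quotientKerEquivOfSurjective φ hsurj)⟩⟩, ?_, ?_,
    fun r hr => hCz r ((le_of_eq hRX hr).2), ?_, ?_⟩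
  · refine le_antisymm ?_ ?_
    · intro r hr
      refine ⟨⟨r, hRle hr⟩, ?_, rfl⟩
      have hp : IsPGroup 2 (R.subgroupOf (F z ⊔ F v)) := P.rad_pGroup.comap_subtype
      exact (le_sSup (show R.subgroupOf (F z ⊔ F v) ∈ {N : Subgroup ↥(F z ⊔ F v) | N.Normal ∧
        IsPGroup 2 N} from ⟨hnorm, hp⟩)) (show _ ∈ R.subgroupOf (F z ⊔ F v) from hr)
    · rintro y ⟨x, hx, rfl⟩
      refine (hker x).mp ?_
      have hp := H93.isPGroup_pCore (G := ↥(F z ⊔ F v)) 2
      have hn := H93.pCore_normal' (G := ↥(F z ⊔ F v)) 2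
      have htwo : ∀ y ∈ Cfsg.pCore 2 ↥(F z ⊔ F v), φ y * φ y = 1 := fun y hy => by
        obtain ⟨k, hk'⟩ := hp ⟨y, hy⟩
        exact H69_S3_pow (k := k) (by rw [← map_pow, show y ^ (2 ^ k) = 1 from congrArg Subtype.val hk', map_one])
      by_contra hne
      obtain ⟨s, hs⟩ := H69_S3_no_two (φ x) hne (htwo x hx)
      obtain ⟨y, rfl⟩ := hsurj s
      apply hs
      have h1 := htwo _ (mul_mem hx (hn.conj_mem x hx y))
      simp only [map_mul, map_inv] at h1
      rw [h1, one_mul]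
  · refine le_antisymm (fun n hn => ?_) (sup_le hNV fun c hc => ?_)
    · obtain ⟨x, hx⟩ := hN n hn
      rw [show n = (x : G) * ((x : G)⁻¹ * n) by group]
      exact Subgroup.mul_mem_sup x.2 (hCz _ hx)
    · exact Subgroup.centralizer_le_normalizer _ hc.2
  · intro y hy x hx
    obtain ⟨x₀, hx₀⟩ := hN y hy
    have h1 := hCX _ (hCz _ hx₀) x hx
    rw [show y * x * y⁻¹ = (x₀ : G) * (((x₀ : G)⁻¹ * y) * x * ((x₀ : G)⁻¹ * y)⁻¹) * (x₀ : G)⁻¹ by group]
    exact mul_mem (mul_mem x₀.2 h1) (inv_mem x₀.2)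
  · intro x hx c hc
    rw [hRX]
    refine ⟨?_, ?_⟩
    · rw [show x * c * x⁻¹ * c⁻¹ = x * (c * x⁻¹ * c⁻¹) by group]
      exact mul_mem hx (hCX c hc _ (inv_mem hx))
    · refine Subgroup.mul_mem _ ?_ (Subgroup.inv_mem _ hc.2)
      have hn' := hNV hx
      rw [Subgroup.mem_centralizer_iff]
      intro w hw
      have hw' : x⁻¹ * w * x ∈ Subgroup.closure ({z, v} : Set G) :=
        (Subgroup.mem_normalizer_iff'.mp hn' (x⁻¹ * w)).mpr (by simpa [mul_assoc] using hw)
      have h2 := Subgroup.mem_centralizer_iff.mp hc.2 _ hw'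
      calc w * (x * c * x⁻¹) = x * ((x⁻¹ * w * x) * c) * x⁻¹ := by group
        _ = x * (c * (x⁻¹ * w * x)) * x⁻¹ := by rw [h2]
        _ = x * c * x⁻¹ * w := by group
  · exact le_antisymm (fun x hx => hRX ▸ ⟨hx.1, hx.2.2⟩)
      (fun r hr => ⟨hRle hr, hCz r ((le_of_eq hRX hr).2)⟩)

end Cfsg.Agent.S5430
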