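import Cfsg.Statements.S5431
import Cfsg.Agent.H69.PairTop
import Cfsg.Agent.H93.Basic

set_option autoImplicit false
open Cfsg

namespace Cfsg.Agent.S5431

open scoped commutatorElement

/-- Let Q be a large extraspecial 2-subgroup of the finite group G (extraspecial; centralizer equal to its centre; normal in the centralizer of its centre; normalizing no non-trivial subgroup of odd order) with centre generated by z, an involution, of width w ≥ 2 (order 2^(2w+1)); let g be an element outside the centralizer H of z with g z g⁻¹ in Q; write V for the subgroup generated by z and g z g⁻¹, X for the subgroup generated by Q and g Q g⁻¹, R for the subgroup generated by the centralizer of z in g Q g⁻¹ and the centralizer of g z g⁻¹ in Q, and E for the intersection of Q and g Q g⁻¹. Then V is the centre of R, E lies in the second centre of R, R is nilpotent of class at most 3, E and R/E are elementary abelian, R/E is the direct product of the images of the centralizer of g z g⁻¹ in Q and of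 the centralizer of z in g Q g⁻¹ (R is their product and they meet in E), and the commutator subgroup of X and E lies in V. -/
theorem result {G : Type*} [Group G] [Finite G] (Q : Subgroup G) (hQ : Cfsg.IsLargeExtraspecial Q) (z : G) (hz : ((Subgroup.center ↥Q).map Q.subtype) = Subgroup.zpowers z) (hz2 : orderOf z = 2) (w : ℕ) (hw : 2 ≤ w) (hcard : Nat.card ↥Q = 2 ^ (2 * w + 1)) (g : G) (hgH : g ∉ Subgroup.centralizer ({z} : Set G)) (hgQ : g * z * g⁻¹ ∈ Q) (V X R E : Subgroup G) (hV : V = Subgroup.closure ({z, g * z * g⁻¹} : Set G)) (hX : X = Q ⊔ (Q).map (MulAut.conj g).toMonoidHom) (hR : R = ((Q).map (MulAut.conj g).toMonoidHom ⊓ Subgroup.centralizer ({z} : Set G)) ⊔ (Q ⊓ Subgroup.centralizer ({g * z * g⁻¹} : Set G))) (hE : E = Q ⊓ (Q).map (MulAut.conj g).toMonoidHom) : (Subgroup.center ↥R).map R.subtype = V ∧ E ≤ (Subgroup.upperCentralSeries ↥R 2).map R.subtype ∧ Subgroup.upperCentralSeries ↥R 3 = ⊤ ∧ Cfsg.IsElementaryAbelian 2 E ∧ (∀ x ∈ R, ∀ y ∈ R, x * y * x⁻¹ * y⁻¹ ∈ E ∧ x ^ 2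 ∈ E) ∧ ((Q).map (MulAut.conj g).toMonoidHom ⊓ Subgroup.centralizer ({z} : Set G)) ⊓ (Q ⊓ Subgroup.centralizer ({g * z * g⁻¹} : Set G)) = E ∧ ⁅X, E⁆ ≤ V := by
  have P := H69.pair_of_large hQ hz hz2 g hgH hgQ
  have hu := H69.lxQ_base (H69.preLarge_of_large hQ) hz
  have hvv := H69.lxQ_self (H69.preLarge_of_large hQ) hz g
  generalize H69.lxQ Q z = F at P hu hvv
  rw [← hvv] at hX hR hE ⊢
  subst hu
  subst hV hX hR hE
  set v := g * z * g⁻¹ with hv
  set R := H69.Pair.half F v z ⊔ H69.Pair.half F z v with hR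
  have hVR : ∀ w ∈ Subgroup.closure ({z, v} : Set G), w ∈ R ∧ ∀ x ∈ R, x * w = w * x := by
    intro w hw
    refine ⟨P.inf_le_rad (P.four_le_inf hw), fun x hx => ?_⟩
    exact (Subgroup.mem_centralizer_iff.mp (P.mem_centralizer_four.mpr (P.rad_comm hx)) w hw).symm
  have hcen : ∀ c : R, c ∈ Subgroup.center R ↔ (c : G) ∈ Subgroup.closure ({z, v} : Set G) := by
    intro c
    refine ⟨fun h => P.mem_four.mpr (P.center_rad c.2 fun x hx =>
      congrArg Subtype.val (Subgroup.mem_center_iff.mp h ⟨x, hx⟩)), fun h => ?_⟩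
    exact Subgroup.mem_center_iff.mpr fun x => Subtype.ext ((hVR _ h).2 x x.2)
  have hcom : ∀ x ∈ R, ∀ e ∈ F z ⊓ F v, x * e * x⁻¹ * e⁻¹ ∈ Subgroup.closure ({z, v} : Set G) :=
    fun x hx => P.comm_four (P.rad_le hx)
  have hZ2 : ∀ e : R, (e : G) ∈ F z ⊓ F v → e ∈ Subgroup.upperCentralSeries R 2 := by
    intro e he
    refine Subgroup.mem_upperCentralSeries_succ_iff.mpr fun y => ?_
    rw [Subgroup.upperCentralSeries_one, hcen]
    have h1 := inv_mem (hcom y y.2 e he)
    simpa [commutatorElement_def, mul_assoc] using h1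
  refine ⟨?_, ?_, ?_, ⟨⟨⟨fun a b => Subtype.ext (P.inf_comm a.2 b.2)⟩⟩, fun a ha => ?_⟩,
    fun x hx y hy => ⟨P.rad_commutator hx hy, by rw [pow_two]; exact P.rad_sq hx⟩, P.half_inf, ?_⟩
  · refine le_antisymm ?_ fun w hw => ⟨⟨w, (hVR w hw).1⟩, (hcen _).mpr hw, rfl⟩
    rintro w ⟨c, hc, rfl⟩
    exact (hcen c).mp hc
  · exact fun e he => ⟨⟨e, P.inf_le_rad he⟩, hZ2 _ he, rfl⟩
  · rw [eq_top_iff]
    intro x _
    refine Subgroup.mem_upperCentralSeries_succ_iff.mpr fun y => hZ2 _ ?_
    have h1 := P.rad_commutator x.2 y.2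
    simpa [commutatorElement_def] using h1
  · rw [pow_two]; exact P.inf_sq ha
  · rw [Subgroup.commutator_le]
    intro x hx e he
    rw [commutatorElement_def]
    exact P.comm_four hx e he

end Cfsg.Agent.S5431
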