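import Cfsg.Statements.S5432
import Cfsg.Agent.H29.ExtraspecialOut
import Cfsg.Agent.H29.ExtraspecialCoords
import Cfsg.Agent.H44.Basic
-- import your own Cfsg.Agent.* helpers here

set_option autoImplicit false
open Cfsg

namespace Cfsg.Agent.S5432

theorem q2_add : ∀ a b c d : ZMod 2,
    (a + c) ^ 2 + 1 * (a + c) * (b + d) + 1 * (b + d) ^ 2 =
      (a ^ 2 + 1 * a * b + 1 * b ^ 2) + (c ^ 2 + 1 * c * d + 1 * d ^ 2) + (a * d + b * c) := by
  decide

theorem q2_anisotropic : ∀ w : Fin 2 → ZMod 2,
    w 0 ^ 2 + 1 * w 0 * w 1 + 1 * w 1 ^ 2 = 0 → w = 0 := by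
  decide

theorem val_eq_one : ∀ t : ZMod 2, t ≠ 0 → t.val = 1 := by decide

/-- Let E be an extraspecial 2-group of order 2^(2n+1), n ≥ 1. If E contains an elementary abelian subgroup of order 2^(n+1) (plus type), then its outer automorphism group is isomorphic to the full isometry group of the hyperbolic quadratic form in dimension 2n over the field with two elements; otherwise (minus type) it is isomorphic to the full isometry group of the elliptic quadratic form in dimension 2n over that field. -/
theorem result {E : Type*} [Group E] [Finite E] (hE : Cfsg.IsExtraspecial 2 E) (n : ℕ) (hn : 1 ≤ n) (hcard : Nat.card E = 2 ^ (2 * n + 1)) : ((∃ A : Subgroup E, Cfsg.IsElementaryAbelian 2 A ∧ Nat.card ↥A = 2 ^ (n + 1)) → Nonempty (Cfsg.Out E ≃* Cfsg.isometryGroup (ZMod 2) (Cfsg.quadFormPlus n (ZMod 2)))) ∧ ((¬ ∃ A : Subgroup E, Cfsg.IsElementaryAbelian 2 A ∧ Nat.card ↥A = 2 ^ (n + 1)) → Nonempty (Cfsg.Out E ≃* Cfsg.isometryGroup (ZMod 2) (Cfsg.quadFormMinus (n - 1) (ZMod 2) 1 1))) := by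
  classical
  haveI : Fact (Nat.Prime 2) := ⟨Nat.prime_two⟩
  obtain ⟨z, m, x, y, ε, hz, hzu, hf⟩ := H5.exists_frame hE (Or.inl rfl)
  have hm : m = n := by
    have h1 := hf.2.2.2
    rw [Subgroup.card_top, hcard] at h1
    have := Nat.pow_right_injective le_rfl h1
    omega
  subst m
  have hzc : Subgroup.center E = Subgroup.zpowers z := by
    refine (Subgroup.eq_of_le_of_card_ge ?_ ?_).symm
    · rw [Subgroup.zpowers_le, Subgroup.mem_center_iff]
      exact fun g => (hzu g).symm
    · rw [Nat.card_zpowers, hz, hE.2]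
  have hsqc : ∀ u : E, u * u ∈ Subgroup.center E := fun u => by
    rw [← sq]; exact H6.extraspecial_pow_mem_center hE u
  obtain ⟨φ, hφ, hker, hQ⟩ := H29.exists_coords hz hzu hzc
    (H6.extraspecial_commutator_mem_center hE) hsqc hf
  have hcz : Nat.card φ.ker = 2 := by rw [hker, hE.2]
  cases ε with
  | false =>
    have hQp := hQ (Cfsg.quadFormPlus n (ZMod 2))
      (fun v w => by
        simp only [Cfsg.quadFormPlus, Pi.add_apply, ← Finset.sum_add_distrib]
        exact Finset.sum_congr rfl fun i _ => by ring)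
      (fun j => by simp [Cfsg.quadFormPlus, H5.twistData, Pi.single_apply])
      (fun j => by simp [Cfsg.quadFormPlus, H5.twistData, Pi.single_apply])
    refine ⟨fun _ => H29.out_equiv_isometryGroup hE hz hzc φ hφ hker _ hQp, fun hno => ?_⟩
    exfalso
    apply hno
    let ψ : E →* Multiplicative (Fin n → ZMod 2) := MonoidHom.mk'
      (fun g => Multiplicative.ofAdd fun i => Multiplicative.toAdd (φ g) (.inr i))
      (fun g h => by rw [← ofAdd_add, map_mul]; rfl)
    refine ⟨ψ.ker, ?_, ?_⟩
    · have hsq : ∀ g ∈ ψ.ker, g * g = 1 := by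
        intro g hg
        have h1 : ∀ i, Multiplicative.toAdd (φ g) (.inr i) = 0 := fun i =>
          congrFun (congrArg Multiplicative.toAdd (MonoidHom.mem_ker.1 hg)) i
        rw [hQp g]
        simp [Cfsg.quadFormPlus, h1]
      refine ⟨⟨⟨fun a b => ?_⟩⟩, fun a ha => by rw [sq]; exact hsq a ha⟩
      have hi : ∀ u : ψ.ker, u⁻¹ = u := fun u =>
        inv_eq_of_mul_eq_one_right (Subtype.ext (hsq _ u.2))
      calc a * b = (a * b)⁻¹ := (hi _).symm
        _ = b⁻¹ * a⁻¹ := mul_inv_rev _ _
        _ = b * a := by rw [hi, hi]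
    · have hψ : Function.Surjective ψ := by
        intro w
        obtain ⟨g, hg⟩ := hφ (Multiplicative.ofAdd (Sum.elim (fun _ => 0) (Multiplicative.toAdd w)))
        refine ⟨g, ?_⟩
        show Multiplicative.ofAdd (fun i => Multiplicative.toAdd (φ g) (.inr i)) = w
        rw [hg]
        rfl
      have h1 := Subgroup.card_eq_card_quotient_mul_card_subgroup ψ.ker
      rw [Nat.card_congr (QuotientGroup.quotientKerEquivOfSurjective ψ hψ).toEquiv, hcard] at h1
      simp only [Nat.card_congr Multiplicative.toAdd, Nat.card_eq_fintype_card, Fintype.card_fun,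
        ZMod.card, Fintype.card_fin] at h1
      rw [show 2 * n + 1 = n + (n + 1) by omega, pow_add] at h1
      exact (Nat.eq_of_mul_eq_mul_left (pow_pos (by norm_num) n) h1).symm
  | true =>
    obtain ⟨k, rfl⟩ : ∃ k, n = k + 1 := ⟨n - 1, by omega⟩
    let ρ : Multiplicative (Fin (k + 1) ⊕ Fin (k + 1) → ZMod 2) →*
        Multiplicative ((Fin k ⊕ Fin k) ⊕ Fin 2 → ZMod 2) := AddMonoidHom.toMultiplicative
      (AddMonoidHom.mk' (fun v => Sum.elim
        (Sum.elim (fun i => v (.inl i.castSucc)) (fun i => v (.inr i.castSucc)))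
        ![v (.inl (Fin.last k)), v (.inr (Fin.last k))]) (fun v w => by
          funext i
          rcases i with (i | i) | i
          · rfl
          · rfl
          · fin_cases i <;> rfl))
    have hρinj : Function.Injective ρ := by
      intro v w h
      have h' := congrArg Multiplicative.toAdd h
      apply Multiplicative.toAdd.injective
      funext i
      rcases i with i | i <;> induction i using Fin.lastCases
      · exact congrFun h' (.inr 0)
      · next i => exact congrFun h' (.inl (.inl i))
      · exact congrFun h' (.inr 1)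
      · next i => exact congrFun h' (.inl (.inr i))
    have hρsurj : Function.Surjective ρ :=
      ((Fintype.bijective_iff_injective_and_card ρ).2 ⟨hρinj, by simp [two_mul]; ring⟩).2
    let R : (Fin (k + 1) ⊕ Fin (k + 1) → ZMod 2) → ((Fin k ⊕ Fin k) ⊕ Fin 2 → ZMod 2) := fun v =>
      Multiplicative.toAdd (ρ (Multiplicative.ofAdd v))
    have hQm := hQ (fun v => Cfsg.quadFormMinus k (ZMod 2) 1 1 (R v))
      (fun v w => by
        simp only [R, ρ, Cfsg.quadFormMinus, AddMonoidHom.toMultiplicative, Fin.sum_univ_castSucc]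
        simp only [Equiv.coe_fn_mk, MonoidHom.coe_mk, OneHom.coe_mk, AddMonoidHom.mk'_apply,
          toAdd_ofAdd, Sum.elim_inl, Sum.elim_inr, Pi.add_apply, Matrix.cons_val_zero,
          Matrix.cons_val_one]
        have hs : ∀ a b c d : Fin k → ZMod 2, ∑ i, (a i + c i) * (b i + d i) =
            ∑ i, a i * b i + ∑ i, c i * d i + ∑ i, (a i * d i + b i * c i) := fun a b c d => by
          simp only [← Finset.sum_add_distrib]
          exact Finset.sum_congr rfl fun i _ => by ring
        rw [q2_add, hs]
        ring)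
      (fun j => by
        induction j using Fin.lastCases <;>
          simp [R, ρ, Cfsg.quadFormMinus, H5.twistData, Pi.single_apply, Fin.castSucc_ne_last,
            (Fin.is_lt _).ne])
      (fun j => by
        induction j using Fin.lastCases <;>
          simp [R, ρ, Cfsg.quadFormMinus, H5.twistData, Pi.single_apply, Fin.castSucc_ne_last,
            (Fin.is_lt _).ne])
    have hker' : (ρ.comp φ).ker = Subgroup.center E := by
      rw [← hker]
      ext g
      rw [MonoidHom.mem_ker, MonoidHom.mem_ker, MonoidHom.comp_apply, map_eq_one_iff ρ hρinj]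
    refine ⟨fun hA => ?_, fun _ => H29.out_equiv_isometryGroup hE hz hzc (ρ.comp φ)
      (hρsurj.comp hφ) hker' (Cfsg.quadFormMinus k (ZMod 2) 1 1) hQm⟩
    exfalso
    obtain ⟨A, ⟨-, hA2⟩, hAcard⟩ := hA
    let W := A.map (ρ.comp φ)
    have hW : Nat.card A ≤ Nat.card W * 2 := by
      let f := (ρ.comp φ).subgroupMap A
      have hf : Function.Surjective f := (ρ.comp φ).subgroupMap_surjective A
      have h1 := Subgroup.card_eq_card_quotient_mul_card_subgroup f.ker
      rw [Nat.card_congr (QuotientGroup.quotientKerEquivOfSurjective f hf).toEquiv] at h1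
      rw [h1]
      refine Nat.mul_le_mul_left _ ?_
      refine le_of_le_of_eq (Nat.card_le_card_of_injective
        (fun a : f.ker => (⟨((a.1 : A) : E), ?_⟩ : φ.ker)) ?_) hcz
      · rw [hker, ← hker', MonoidHom.mem_ker]
        exact congrArg Subtype.val (MonoidHom.mem_ker.1 a.2)
      · intro a b h
        exact Subtype.ext (Subtype.ext
          (congrArg (fun u : φ.ker => (u : E)) h : ((a.1 : A) : E) = b.1))
    let U : Submodule (ZMod 2) ((Fin k ⊕ Fin k) ⊕ Fin 2 → ZMod 2) :=
      AddSubgroup.toZModSubmodule 2 (Subgroup.toAddSubgroup' W)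
    let p : Fin 2 → ((Fin k ⊕ Fin k) ⊕ Fin 2 → ZMod 2) →ₗ[ZMod 2] (Fin k → ZMod 2) :=
      fun j => LinearMap.funLeft _ _ fun i => if j = 0 then .inl (.inl i) else .inl (.inr i)
    have hle := H44.finrank_le_of_totally_singular (k := k) (p 0) (p 1)
      (LinearMap.funLeft (ZMod 2) (ZMod 2) (Sum.inr : Fin 2 → (Fin k ⊕ Fin k) ⊕ Fin 2))
      (fun v h0 h1 h2 => by
        funext i
        rcases i with (i | i) | i
        · exact congrFun h0 i
        · exact congrFun h1 i
        · exact congrFun h2 i)
      (Cfsg.quadFormMinus k (ZMod 2) 1 1)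
      (fun w => w 0 ^ 2 + 1 * w 0 * w 1 + 1 * w 1 ^ 2) q2_anisotropic (fun v => rfl) U
      (fun u hu => by
        obtain ⟨g, hg, hgu⟩ := Subgroup.mem_map.1
          (show Multiplicative.ofAdd u ∈ W from hu)
        have h1 : g * g = 1 := by rw [← sq]; exact hA2 g hg
        rw [hQm g] at h1
        have h2 : (Multiplicative.toAdd ((ρ.comp φ) g)) = u := by rw [hgu]; rfl
        rw [← h2]
        by_contra hne
        have h4 := val_eq_one _ hne
        change z ^ (Cfsg.quadFormMinus k (ZMod 2) 1 1 (Multiplicative.toAdd ((ρ.comp φ) g))).val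
          = 1 at h1
        rw [h4, pow_one] at h1
        rw [h1, orderOf_one] at hz
        omega)
    have hU : Nat.card W = 2 ^ Module.finrank (ZMod 2) U := by
      have h1 : Nat.card U = Nat.card W := Nat.card_congr
        ⟨fun u => ⟨Multiplicative.ofAdd u.1, u.2⟩, fun w => ⟨Multiplicative.toAdd w.1, w.2⟩,
          fun _ => rfl, fun _ => rfl⟩
      rw [← h1, Module.natCard_eq_pow_finrank (K := ZMod 2), Nat.card_zmod]
    rw [hAcard, hU, ← pow_succ, pow_le_pow_iff_right₀ one_lt_two] at hW
    omega

end Cfsg.Agent.S5432
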