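import Cfsg.Statements.S5434
import Cfsg.Agent.H69.ExtraSub
import Cfsg.Agent.H83.CoprimeAbelian

set_option autoImplicit false
open Cfsg

namespace Cfsg.Agent.S5434

open scoped commutatorElement

/-- Let Q be a large extraspecial 2-subgroup of the finite group G (extraspecial; centralizer equal to its centre; normal in the centralizer of its centre; normalizing no non-trivial subgroup of odd order), and A a non-trivial subgroup of odd order of the normalizer of Q. Then Q is the central product of the centralizer of A in Q and the commutator subgroup [Q, A] (they generate Q and commute elementwise), [Q, A] is extraspecial, and the centralizer of A in Q is either the centre of Q or extraspecial. -/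
theorem result {G : Type*} [Group G] [Finite G] (Q : Subgroup G) (hQ : Cfsg.IsLargeExtraspecial Q) (A : Subgroup G) (hA : A ≤ Subgroup.normalizer (Q : Set G)) (hAodd : Odd (Nat.card ↥A)) (hA1 : A ≠ ⊥) : (Q ⊓ Subgroup.centralizer (A : Set G)) ⊔ ⁅Q, A⁆ = Q ∧ (∀ x ∈ Q ⊓ Subgroup.centralizer (A : Set G), ∀ y ∈ ⁅Q, A⁆, x * y = y * x) ∧ Cfsg.IsExtraspecial 2 ↥⁅Q, A⁆ ∧ (Q ⊓ Subgroup.centralizer (A : Set G) = ((Subgroup.center ↥Q).map Q.subtype) ∨ Cfsg.IsExtraspecial 2 ↥(Q ⊓ Subgroup.centralizer (A : Set G))) := by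
  obtain ⟨hE, hCQ, -, -⟩ := hQ
  have hfact := Fact.mk Nat.prime_two
  obtain ⟨z, hz, hZ⟩ := H93.exists_centre_gen hE
  have hsol : Group.IsSolvable Q := by
    haveI := hE.1.1.isNilpotent
    infer_instance
  have hcop : (Nat.card A).Coprime (Nat.card Q) := by
    obtain ⟨n, hn⟩ := IsPGroup.iff_card.mp hE.1.1
    rw [hn]
    exact (Nat.Coprime.pow_left n (Nat.coprime_two_left.mpr hAodd)).symm
  have hzQ : z ∈ Q := H93.centerMap_le Q (hZ ▸ Subgroup.mem_zpowers z)
  have hzc : ∀ q ∈ Q, q * z = z * q := (H93.mem_centerMap.mp (hZ ▸ Subgroup.mem_zpowers z)).2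
  have hzA : ∀ a ∈ A, a * z = z * a := by
    intro a ha
    have h1 : a * z * a⁻¹ ∈ (Subgroup.center Q).map Q.subtype := by
      refine H93.mem_centerMap.mpr ⟨(Subgroup.mem_normalizer_iff.mp (hA ha) z).mp hzQ, fun q hq => ?_⟩
      have hq' : a⁻¹ * q * a ∈ Q := by
        simpa using (Subgroup.mem_normalizer_iff.mp (hA (inv_mem ha)) q).mp hq
      calc q * (a * z * a⁻¹) = a * ((a⁻¹ * q * a) * z) * a⁻¹ := by group
        _ = a * (z * (a⁻¹ * q * a)) * a⁻¹ := by rw [hzc _ hq']
        _ = (a * z * a⁻¹) * q := by group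
    rw [hZ] at h1
    rcases H93.zpowers_two_cases hz h1 with h | h
    · rw [conj_eq_one_iff.mp h, orderOf_one] at hz
      omega
    · exact mul_inv_eq_iff_eq_mul.mp h
  set C := Q ⊓ Subgroup.centralizer (A : Set G) with hC
  set P := ⁅Q, A⁆ with hP
  have hZC : (Subgroup.center Q).map Q.subtype ≤ C := by
    rw [hZ, Subgroup.zpowers_le]
    exact ⟨hzQ, Subgroup.mem_centralizer_iff.mpr hzA⟩
  have hsup : C ⊔ P = Q := by rw [sup_comm]; exact H83.commutator_sup_centralizer hA hsol hcop
  have hPQ : P ≤ Q := H83.commutator_le_of_le_normalizer hA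
  have hAC : ⁅A, C⁆ = ⊥ := by
    rw [Subgroup.commutator_comm, Subgroup.commutator_eq_bot_iff_le_centralizer]
    exact inf_le_right
  have hCQA : ⁅⁅C, Q⁆, A⁆ = ⊥ := by
    rw [Subgroup.commutator_eq_bot_iff_le_centralizer]
    refine le_trans ?_ (inf_le_right : C ≤ _)
    refine le_trans ?_ hZC
    rw [Subgroup.commutator_le]
    exact fun x hx y hy => H69.extra_comm_mem hE hx.1 hy
  have hPC : ⁅P, C⁆ = ⊥ :=
    Subgroup.commutator_commutator_eq_bot_of_rotate (H₁ := Q) (H₂ := A) (H₃ := C)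
      (by rw [hAC, Subgroup.commutator_bot_left]) hCQA
  have hcomm : ∀ x ∈ C, ∀ y ∈ P, x * y = y * x := fun x hx y hy =>
    (commutatorElement_eq_one_iff_mul_comm.mp
      ((Subgroup.eq_bot_iff_forall _).mp hPC _ (Subgroup.commutator_mem_commutator hy hx))).symm
  -- centres of the factors lie in the centre of Q
  have hcen : ∀ x, x ∈ Q → (∀ c ∈ C, c * x = x * c) → (∀ p ∈ P, p * x = x * p) →
      x ∈ (Subgroup.center Q).map Q.subtype := by
    intro x hx h1 h2
    refine H93.mem_centerMap.mpr ⟨hx, ?_⟩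
    have : C ⊔ P ≤ Subgroup.centralizer ({x} : Set G) := by
      refine sup_le (fun c hc => ?_) (fun p hp => ?_)
      · exact Subgroup.mem_centralizer_singleton_iff.mpr (h1 c hc)
      · exact Subgroup.mem_centralizer_singleton_iff.mpr (h2 p hp)
    intro q hq
    exact Subgroup.mem_centralizer_singleton_iff.mp (this (hsup.symm ▸ hq))
  have hcenP : ∀ x ∈ P, (∀ p ∈ P, p * x = x * p) → x ∈ (Subgroup.center Q).map Q.subtype :=
    fun x hx h => hcen x (hPQ hx) (fun c hc => hcomm c hc x hx) h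
  have hcenC : ∀ x ∈ C, (∀ p ∈ C, p * x = x * p) → x ∈ (Subgroup.center Q).map Q.subtype :=
    fun x hx h => hcen x hx.1 h (fun p hp => (hcomm x hx p hp).symm)
  refine ⟨hsup, hcomm, H69.isExtraspecial_two_sub hE hPQ hcenP ?_, ?_⟩
  · -- nonabelian
    by_contra hab
    push Not at hab
    have hPZ : P ≤ C := fun x hx => hZC (hcenP x hx fun p hp => hab p hp x hx)
    have hPA : ⁅P, A⁆ = ⊥ := by
      rw [Subgroup.commutator_eq_bot_iff_le_centralizer]
      exact hPZ.trans inf_le_right
    have h1 := H83.le_centralizer_of_commutator_commutator_eq_bot hA hcop hPA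
    rw [hCQ] at h1
    apply hA1
    rw [Subgroup.eq_bot_iff_forall]
    exact fun a ha => H93.eq_one_of_mem_odd_of_mem_two hAodd hE.1.1 ha (H93.centerMap_le Q (h1 ha))
  · by_cases hab : ∀ a ∈ C, ∀ b ∈ C, a * b = b * a
    · exact Or.inl (le_antisymm (fun x hx => hcenC x hx fun p hp => hab p hp x hx) hZC)
    · push Not at hab
      exact Or.inr (H69.isExtraspecial_two_sub hE inf_le_left hcenC hab)

end Cfsg.Agent.S5434
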