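import Cfsg.Statements.S5435
import Cfsg.Agent.H93.Basic
import Cfsg.Agent.H6.Extraspecial
import Cfsg.Agent.H6.Transfer
import Cfsg.Agent.H85.BrauerSuzuki
import Cfsg.Agent.H65.Dihedral
import Cfsg.Agent.H1.Cores

set_option autoImplicit false
open Cfsg

namespace Cfsg.Agent.S5435

theorem H69_conj_ne {G : Type*} [Group G] {x z : G} (hz1 : z ≠ 1) {u : G} (h : u = z * u) : False :=
  hz1 (mul_eq_right.mp h.symm)

/-- conjugates of an involution whose centraliser is a class-two Sylow with squares in `⟨z⟩` -/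
structure H69_Data {L : Type*} [Group L] (z : L) : Prop where
  z2 : z * z = 1
  z1 : z ≠ 1
  sq : ∀ x : L, x * z = z * x → x * x = 1 ∨ x * x = z
  cm : ∀ x y : L, x * z = z * x → y * z = z * y → x * y = y * x ∨ x * y = z * (y * x)
  burn : ∀ g x : L, x * z = z * x → (∀ r : L, r * z = z * r → r * x = x * r) →
    (g * x * g⁻¹) * z = z * (g * x * g⁻¹) →
    (∀ r : L, r * z = z * r → r * (g * x * g⁻¹) = g * x * g⁻¹ * r) → g * x * g⁻¹ = x

theorem H69_conj_data {L : Type*} [Group L] {z : L} (D : H69_Data z) (g : L) :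
    H69_Data (g * z * g⁻¹) := by
  have key : ∀ x, x * (g * z * g⁻¹) = g * z * g⁻¹ * x → (g⁻¹ * x * g) * z = z * (g⁻¹ * x * g) := by
    intro x hx
    calc (g⁻¹ * x * g) * z = g⁻¹ * (x * (g * z * g⁻¹)) * g := by group
      _ = g⁻¹ * (g * z * g⁻¹ * x) * g := by rw [hx]
      _ = z * (g⁻¹ * x * g) := by group
  refine ⟨?_, ?_, ?_, ?_, ?_⟩
  · calc g * z * g⁻¹ * (g * z * g⁻¹) = g * (z * z) * g⁻¹ := by group
      _ = 1 := by rw [D.z2]; group
  · exact fun h => D.z1 (conj_eq_one_iff.mp h)
  · intro x hx
    have e : x * x = g * ((g⁻¹ * x * g) * (g⁻¹ * x * g)) * g⁻¹ := by group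
    rcases D.sq _ (key x hx) with h | h
    · left; rw [e, h]; group
    · right; rw [e, h]
  · intro x y hx hy
    have e : x * y = g * ((g⁻¹ * x * g) * (g⁻¹ * y * g)) * g⁻¹ := by group
    rcases D.cm _ _ (key x hx) (key y hy) with h | h
    · left; rw [e, h]; group
    · right; rw [e, h]; group
  · intro h x hx hxc hx' hxc'
    have key' : ∀ r, r * z = z * r → (g * r * g⁻¹) * (g * z * g⁻¹) = g * z * g⁻¹ * (g * r * g⁻¹) := by
      intro r hr
      calc (g * r * g⁻¹) * (g * z * g⁻¹) = g * (r * z) * g⁻¹ := by group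
        _ = g * (z * r) * g⁻¹ := by rw [hr]
        _ = _ := by group
    have h1 := D.burn (g⁻¹ * h * g) (g⁻¹ * x * g) (key x hx) (fun r hr => by
        have := hxc _ (key' r hr)
        calc r * (g⁻¹ * x * g) = g⁻¹ * ((g * r * g⁻¹) * x) * g := by group
          _ = g⁻¹ * (x * (g * r * g⁻¹)) * g := by rw [this]
          _ = g⁻¹ * x * g * r := by group)
      (by
        have e : (g⁻¹ * h * g) * (g⁻¹ * x * g) * (g⁻¹ * h * g)⁻¹ = g⁻¹ * (h * x * h⁻¹) * g := by group
        rw [e]; exact key _ hx')
      (fun r hr => by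
        have := hxc' _ (key' r hr)
        have e : (g⁻¹ * h * g) * (g⁻¹ * x * g) * (g⁻¹ * h * g)⁻¹ = g⁻¹ * (h * x * h⁻¹) * g := by group
        rw [e]
        calc r * (g⁻¹ * (h * x * h⁻¹) * g) = g⁻¹ * ((g * r * g⁻¹) * (h * x * h⁻¹)) * g := by group
          _ = g⁻¹ * ((h * x * h⁻¹) * (g * r * g⁻¹)) * g := by rw [this]
          _ = g⁻¹ * (h * x * h⁻¹) * g * r := by group)
    calc h * x * h⁻¹ = g * ((g⁻¹ * h * g) * (g⁻¹ * x * g) * (g⁻¹ * h * g)⁻¹) * g⁻¹ := by group
      _ = g * (g⁻¹ * x * g) * g⁻¹ := by rw [h1]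
      _ = x := by group

theorem H69_central_eq {L : Type*} [Group L] {z u : L} (D : H69_Data z) (hu : IsConj z u)
    (huz : u * z = z * u) (h : ∀ r : L, r * z = z * r → r * u = u * r) : u = z := by
  obtain ⟨g, rfl⟩ := isConj_iff.mp hu
  exact D.burn g z rfl (fun r hr => hr) huz h

/-- the product of two commuting distinct conjugates of `z` is again a conjugate -/
theorem H69_mul_isConj {L : Type*} [Group L] {z a b : L} (D : H69_Data z) (ha : IsConj z a)
    (hb : IsConj z b) (hab : a * b = b * a) (hne : a ≠ b) : IsConj z (a * b) := by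
  obtain ⟨g, rfl⟩ := isConj_iff.mp ha
  have D' := H69_conj_data D g
  by_cases hc : ∀ r : L, r * (g * z * g⁻¹) = g * z * g⁻¹ * r → r * b = b * r
  · exact absurd (H69_central_eq D' (ha.symm.trans hb) hab.symm hc).symm hne
  · push Not at hc
    obtain ⟨r, hr, hne'⟩ := hc
    rcases D'.cm r b hr hab.symm with h | h
    · exact absurd h hne'
    · refine hb.trans (isConj_iff.mpr ⟨r, ?_⟩)
      rw [mul_inv_eq_iff_eq_mul, h]; group

theorem H69_core {L : Type*} [Group L] [Finite L] (z : L) (hz : orderOf z = 2)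
    (h : Cfsg.pPrimeCore 2 L = ⊤) : False := by
  have h1 := H1.card_pPrimeCore_coprime 2 L
  rw [h, Subgroup.card_top] at h1
  have h2 : 2 ∣ Nat.card L := hz ▸ orderOf_dvd_natCard z
  have := Nat.eq_one_of_dvd_coprimes h1 h2 dvd_rfl
  omega

theorem H69_not_mem {L : Type*} [Group L] {z u u' w : L} (D : H69_Data z) (hu2 : u * u = 1)
    (huz : u * z = z * u) (huz' : u' * z = z * u') (hu' : IsConj z u') (hwu : w * u = u * w)
    (hw : w ≠ 1 ∧ w ≠ z ∧ w ≠ u ∧ w ≠ z * u) (hu'z : u' ≠ z)
    (horb : u * u' = u' * u → u' = u ∨ u' = z * u) :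
    w ∉ Subgroup.closure ({z, u, u'} : Set L) := by
  have hu'2 : u' * u' = 1 := by
    obtain ⟨g, rfl⟩ := isConj_iff.mp hu'; exact (H69_conj_data D g).z2
  have hzu : u * (z * u) = z := by rw [← mul_assoc, huz, mul_assoc, hu2, mul_one]
  have hzu' : z * u * z = u := by rw [mul_assoc, huz, ← mul_assoc, D.z2, one_mul]
  have hzu2 : z * u * (z * u) = 1 := by rw [mul_assoc, hzu, D.z2]
  have hzu3 : z * u * u = z := by rw [mul_assoc, hu2, mul_one]
  have hzu4 : z * (z * u) = u := by rw [← mul_assoc, D.z2, one_mul]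
  have hzi : z⁻¹ = z := inv_eq_of_mul_eq_one_right D.z2
  have hui : u⁻¹ = u := inv_eq_of_mul_eq_one_right hu2
  let V : Subgroup L :=
    { carrier := {1, z, u, z * u}
      one_mem' := by simp
      mul_mem' := by
        rintro a b (rfl | rfl | rfl | rfl) (rfl | rfl | rfl | rfl) <;>
          simp only [Set.mem_insert_iff, Set.mem_singleton_iff, one_mul, mul_one, D.z2, hu2, huz, hzu,
            hzu', hzu2, hzu3, hzu4, true_or, or_true]
      inv_mem' := by
        rintro a (rfl | rfl | rfl | rfl)
        · simp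
        · rw [hzi]; simp
        · rw [hui]; simp
        · rw [mul_inv_rev, hzi, hui, huz]; simp }
  have hmemV : ∀ a, a ∈ V ↔ a = 1 ∨ a = z ∨ a = u ∨ a = z * u := fun a => Iff.rfl
  have hwV : w ∉ V := by
    rw [hmemV]; rintro (h | h | h | h)
    exacts [hw.1 h, hw.2.1 h, hw.2.2.1 h, hw.2.2.2 h]
  have hVc : ∀ a ∈ V, a * u = u * a := by
    intro a ha
    rcases (hmemV a).mp ha with rfl | rfl | rfl | rfl
    · simp
    · exact huz.symm
    · rfl
    · rw [hzu3, hzu]
  by_cases hcom : u * u' = u' * u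
  · intro hmem
    apply hwV
    refine (?_ : Subgroup.closure ({z, u, u'} : Set L) ≤ V) hmem
    rw [Subgroup.closure_le]
    rintro a (rfl | rfl | rfl) <;> rw [SetLike.mem_coe, hmemV]
    · simp
    · simp
    · rcases horb hcom with h | h <;> simp [h]
  have he := (D.cm u' u huz' huz).resolve_left (Ne.symm hcom)
  have hn : ∀ v ∈ V, u' * v * u' ∈ V := by
    intro v hv
    rcases (hmemV v).mp hv with rfl | rfl | rfl | rfl <;> rw [hmemV]
    · simp [hu'2]
    · refine Or.inr (Or.inl ?_)
      rw [huz', mul_assoc, hu'2, mul_one]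
    · refine Or.inr (Or.inr (Or.inr ?_))
      rw [he, mul_assoc, mul_assoc, hu'2, mul_one]
    · refine Or.inr (Or.inr (Or.inl ?_))
      rw [← mul_assoc u' z u, huz', mul_assoc z u' u, he, mul_assoc z, mul_assoc z, mul_assoc u, hu'2, mul_one, ← mul_assoc, D.z2, one_mul]
  let K : Subgroup L :=
    { carrier := {a | a ∈ V ∨ a * u' ∈ V}
      one_mem' := Or.inl V.one_mem
      mul_mem' := by
        rintro a b (ha | ha) (hb | hb)
        · exact Or.inl (V.mul_mem ha hb)
        · exact Or.inr (by rw [mul_assoc]; exact V.mul_mem ha hb)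
        · refine Or.inr ?_
          have : a * b * u' = (a * u') * (u' * b * u') := by
            calc a * b * u' = a * (u' * u') * b * u' := by rw [hu'2, mul_one]
              _ = _ := by group
          rw [this]; exact V.mul_mem ha (hn b hb)
        · refine Or.inl ?_
          have : a * b = (a * u') * (u' * (b * u') * u') := by
            calc a * b = a * (u' * u') * b * (u' * u') := by rw [hu'2, mul_one, mul_one]
              _ = _ := by group
          rw [this]; exact V.mul_mem ha (hn _ hb)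
      inv_mem' := by
        have hi : u'⁻¹ = u' := inv_eq_of_mul_eq_one_right hu'2
        rintro a (ha | ha)
        · exact Or.inl (V.inv_mem ha)
        · refine Or.inr ?_
          have : a⁻¹ * u' = u' * (a * u')⁻¹ * u' := by
            rw [mul_inv_rev, hi, ← mul_assoc u' u', hu'2, one_mul]
          rw [this]; exact hn _ (V.inv_mem ha) }
  intro hmem
  have hK : w ∈ K := (?_ : Subgroup.closure ({z, u, u'} : Set L) ≤ K) hmem
  · rcases hK with h | h
    · exact hwV h
    · apply hcom
      have h1 := hVc _ h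
      calc u * u' = w⁻¹ * (w * u) * u' := by group
        _ = w⁻¹ * (u * (w * u')) := by rw [hwu]; group
        _ = w⁻¹ * (w * u' * u) := by rw [h1]
        _ = u' * u := by group
  · rw [Subgroup.closure_le]
    rintro a (rfl | rfl | rfl)
    · exact Or.inl (by rw [hmemV]; simp)
    · exact Or.inl (by rw [hmemV]; simp)
    · exact Or.inr (by rw [hu'2]; exact V.one_mem)

theorem H69_relIndex {L : Type*} [Group L] {z w : L} (D : H69_Data z) {R M : Subgroup L}
    (hmemR : ∀ x : L, x ∈ R ↔ x * z = z * x) (hMR : M ≤ R) (hzM : z ∈ M) (hwz : w * z = z * w)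
    (hwM : w ∉ M) (hmax : ∀ N : Subgroup L, N ≤ R → M < N → w ∈ N) : M.relIndex R = 2 := by
  have hconj : ∀ x ∈ R, ∀ m ∈ M, x * m * x⁻¹ ∈ M := by
    intro x hx m hm
    rcases D.cm x m ((hmemR x).mp hx) ((hmemR m).mp (hMR hm)) with h | h
    · rw [mul_inv_eq_of_eq_mul h]; exact hm
    · have : x * m * x⁻¹ = z * m := by rw [h]; group
      rw [this]; exact mul_mem hzM hm
  have hsq : ∀ x ∈ R, x * x ∈ M := fun x hx => by
    rcases D.sq x ((hmemR x).mp hx) with h | h <;> rw [h]
    exacts [one_mem _, hzM]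
  have hcos : ∀ x ∈ R, x ∉ M → w * x ∈ M := by
    intro x hx hxM
    let N : Subgroup L :=
      { carrier := {a | a ∈ M ∨ a * x ∈ M}
        one_mem' := Or.inl M.one_mem
        mul_mem' := by
          rintro a b (ha | ha) (hb | hb)
          · exact Or.inl (M.mul_mem ha hb)
          · exact Or.inr (by rw [mul_assoc]; exact M.mul_mem ha hb)
          · refine Or.inr ?_
            have e : a * b * x = (a * x) * (x⁻¹ * b * x⁻¹⁻¹) := by group
            rw [e]; exact M.mul_mem ha (hconj _ (inv_mem hx) b hb)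
          · refine Or.inl ?_
            have e : a * b = (a * x) * (x⁻¹ * (b * x) * x⁻¹⁻¹) * (x * x)⁻¹ := by group
            rw [e]
            exact M.mul_mem (M.mul_mem ha (hconj _ (inv_mem hx) _ hb)) (inv_mem (hsq x hx))
        inv_mem' := by
          rintro a (ha | ha)
          · exact Or.inl (M.inv_mem ha)
          · refine Or.inr ?_
            have e : a⁻¹ * x = (x * (a * x)⁻¹ * x⁻¹) * (x * x) := by group
            rw [e]
            exact M.mul_mem (hconj x hx _ (inv_mem ha)) (hsq x hx) }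
    have hNR : N ≤ R := by
      rintro a (ha | ha)
      · exact hMR ha
      · simpa using mul_mem (hMR ha) (inv_mem hx)
    have hMN : M < N :=
      lt_of_le_of_ne (fun a ha => Or.inl ha) fun h => hxM (by rw [h]; exact Or.inr (hsq x hx))
    exact (hmax N hNR hMN).resolve_left hwM
  rw [Subgroup.relIindex_eq_two_iff']
  refine ⟨w, (hmemR w).mpr hwz, fun b hb => ?_⟩
  by_cases hbM : b ∈ M
  · refine Or.inr ⟨hbM, fun h => hwM ?_⟩
    simpa using mul_mem h (inv_mem hbM)
  · exact Or.inl ⟨hcos b hb hbM, hbM⟩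

theorem H69_sylow_le {L : Type*} [Group L] [Finite L] (R : Sylow 2 L) {g : L} {A C : Subgroup L}
    (hA : IsPGroup 2 A) (hAC : A ≤ C)
    (hRC : ∀ r ∈ (R : Subgroup L), g * r * g⁻¹ ∈ C) :
    ∃ c ∈ C, ∀ a ∈ A, ∃ r ∈ (R : Subgroup L), a = c * (g * r * g⁻¹) * c⁻¹ := by
  have := Fact.mk Nat.prime_two
  have hle : ((g • R : Sylow 2 L) : Subgroup L) ≤ C := by
    intro x hx
    have hx' : x ∈ ((g • R : Sylow 2 L) : Set L) := hx
    rw [Sylow.coe_smul] at hx'
    obtain ⟨r, hr, rfl⟩ := Set.mem_smul_set.mp hx'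
    simpa using hRC r hr
  obtain ⟨S, hS⟩ := (hA.comap_of_injective C.subtype C.subtype_injective).exists_le_sylow
  obtain ⟨c, hc⟩ := MulAction.exists_smul_eq C ((g • R).subtype hle) S
  refine ⟨c, c.2, fun a ha => ?_⟩
  have h1 : (⟨a, hAC ha⟩ : C) ∈ (S : Set C) := hS ha
  rw [← hc, Sylow.coe_smul] at h1
  obtain ⟨y, hy, hy'⟩ := Set.mem_smul_set.mp h1
  have hy2 : (y : L) ∈ ((g • R : Sylow 2 L) : Set L) := hy
  rw [Sylow.coe_smul] at hy2
  obtain ⟨r, hr, hry⟩ := Set.mem_smul_set.mp hy2
  refine ⟨r, hr, ?_⟩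
  have e1 := congrArg Subtype.val hy'
  simp only [MulAut.smul_def, MulAut.conj_apply] at e1 hry
  rw [hry]
  simpa using e1.symm

theorem H69_no_conj {L : Type*} [Group L] [Finite L] {z w : L} (D : H69_Data z) {R : Sylow 2 L}
    {M : Subgroup L} (hmemR : ∀ x : L, x ∈ (R : Subgroup L) ↔ x * z = z * x)
    (hMR : M ≤ (R : Subgroup L)) (hwz : w * z = z * w)
    (hwcen : ∀ r, r * z = z * r → r * w = w * r) (hwM : w ∉ M) (hzM : z ∈ M)
    (hVM : ∀ v, IsConj z v → v * z = z * v → v ∈ M) (g : L) : g * w * g⁻¹ ∉ M := by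
  intro hg
  set t := g * w * g⁻¹ with ht
  have htz : t * z = z * t := (hmemR t).mp (hMR hg)
  -- Sylow in the centralizer of t
  obtain ⟨c, hc, hconj⟩ := H69_sylow_le R (g := g)
    (A := (R : Subgroup L) ⊓ Subgroup.centralizer ({t} : Set L))
    (C := Subgroup.centralizer ({t} : Set L)) (R.isPGroup'.to_le inf_le_left) inf_le_right
    (fun r hr => by
      rw [Subgroup.mem_centralizer_singleton_iff]
      calc g * r * g⁻¹ * t = g * (r * w) * g⁻¹ := by rw [ht]; group
        _ = g * (w * r) * g⁻¹ := by rw [hwcen r ((hmemR r).mp hr)]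
        _ = t * (g * r * g⁻¹) := by rw [ht]; group)
  set h := c * g with hh
  have hhw : h * w * h⁻¹ = t := by
    rw [Subgroup.mem_centralizer_singleton_iff] at hc
    calc h * w * h⁻¹ = c * t * c⁻¹ := by rw [hh, ht]; group
      _ = t := mul_inv_eq_of_eq_mul hc
  set z' := h * z * h⁻¹ with hz'
  have hz'c : IsConj z z' := isConj_iff.mpr ⟨h, rfl⟩
  have hcz : ∀ a, a * z = z * a → a * t = t * a → a * z' = z' * a := by
    intro a ha hat
    obtain ⟨r, hr, rfl⟩ := hconj a ⟨(hmemR a).mpr ha, Subgroup.mem_centralizer_singleton_iff.mpr hat⟩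
    calc c * (g * r * g⁻¹) * c⁻¹ * z' = h * (r * z) * h⁻¹ := by rw [hz', hh]; group
      _ = h * (z * r) * h⁻¹ := by rw [(hmemR r).mp hr]
      _ = z' * (c * (g * r * g⁻¹) * c⁻¹) := by rw [hz', hh]; group
  have hz'z : z' * z = z * z' := (hcz z rfl htz.symm).symm
  have hz'M : z' ∈ M := hVM z' hz'c hz'z
  by_cases he : z' = z
  · apply hwM
    have hhz : h * z = z * h := mul_inv_eq_iff_eq_mul.mp he
    have : t = w := by rw [← hhw, hwcen h hhz]; group
    rw [← this]; exact hg
  -- y moves z', y' moves z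
  obtain ⟨y, hy, hyz⟩ : ∃ y, y * z = z * y ∧ y * z' ≠ z' * y := by
    by_contra hn
    push Not at hn
    exact he (H69_central_eq D hz'c hz'z hn)
  obtain ⟨y', hy', hy'z⟩ : ∃ y', y' * z' = z' * y' ∧ y' * z ≠ z * y' := by
    by_contra hn
    push Not at hn
    exact he (H69_central_eq (H69_conj_data D h) hz'c.symm hz'z.symm hn).symm
  have ey := (D.cm y z' hy hz'z).resolve_left hyz
  have ey' := ((H69_conj_data D h).cm y' z hy' hz'z.symm).resolve_left hy'z
  rw [← hz'] at ey'
  have hyi : y * z' * y⁻¹ = z * z' := by rw [ey]; group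
  have hy'i : y' * z * y'⁻¹ = z' * z := by rw [ey']; group
  have hwz' : w * z' = z' * w := (hwcen z' hz'z).symm
  have hk : (y * y') * z * (y * y')⁻¹ = z' := by
    calc (y * y') * z * (y * y')⁻¹ = y * (y' * z * y'⁻¹) * y⁻¹ := by group
      _ = y * (z' * z) * y⁻¹ := by rw [hy'i]
      _ = (y * z' * y⁻¹) * (y * z * y⁻¹) := by group
      _ = z * z' * z := by rw [hyi, mul_inv_eq_of_eq_mul hy]
      _ = z' * (z * z) := by rw [← hz'z]; group
      _ = z' := by rw [D.z2, mul_one]
  set k := y * y' with hkdef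
  have hr : (k⁻¹ * h) * z = z * (k⁻¹ * h) := by
    calc (k⁻¹ * h) * z = k⁻¹ * z' * h := by rw [hz']; group
      _ = k⁻¹ * (k * z * k⁻¹) * h := by rw [hk]
      _ = z * (k⁻¹ * h) := by group
  have htk : t = k * w * k⁻¹ := by
    calc t = k * ((k⁻¹ * h) * w) * h⁻¹ := by rw [← hhw]; group
      _ = k * (w * (k⁻¹ * h)) * h⁻¹ := by rw [hwcen _ hr]
      _ = k * w * k⁻¹ := by group
  have hyw : y * w * y⁻¹ = w := mul_inv_eq_of_eq_mul (hwcen y hy)
  rcases (H69_conj_data D h).cm y' w hy' (by rw [← hz']; exact hwz') with e | e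
  · apply hwM
    have : t = w := by
      calc t = y * (y' * w * y'⁻¹) * y⁻¹ := by rw [htk, hkdef]; group
        _ = y * w * y⁻¹ := by rw [mul_inv_eq_of_eq_mul e]
        _ = w := hyw
    rw [← this]; exact hg
  · rw [← hz'] at e
    apply hwM
    have : t = z * z' * w := by
      calc t = y * (y' * w * y'⁻¹) * y⁻¹ := by rw [htk, hkdef]; group
        _ = y * (z' * w) * y⁻¹ := by rw [e]; group
        _ = (y * z' * y⁻¹) * (y * w * y⁻¹) := by group
        _ = z * z' * w := by rw [hyi, hyw]
    have hw' : w = (z * z')⁻¹ * t := by rw [this]; group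
    rw [hw']; exact M.mul_mem (M.inv_mem (M.mul_mem hzM hz'M)) hg


/-- Let L be a finite non-abelian simple group with an involution z whose centralizer R is a Sylow 2-subgroup of L whose Frattini subgroup is the subgroup generated by z. Then R is dihedral of order 8. -/
theorem result {L : Type*} [Group L] [Finite L] [IsSimpleGroup L] (hL : ¬ IsMulCommutative L) (z : L) (hz : orderOf z = 2) (R : Sylow 2 L) (hR : (R : Subgroup L) = Subgroup.centralizer ({z} : Set L)) (hΦ : (frattini ↥(R : Subgroup L)).map (R : Subgroup L).subtype = Subgroup.zpowers z) : Nonempty (↥(R : Subgroup L) ≃* DihedralGroup 4) := by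
  have hfact := Fact.mk Nat.prime_two
  have hfin : (R : Subgroup L).FiniteIndex := inferInstance
  have hRp : IsPGroup 2 (R : Subgroup L) := R.isPGroup'
  have hmemR : ∀ x : L, x ∈ (R : Subgroup L) ↔ x * z = z * x := fun x => by
    rw [hR]; exact Subgroup.mem_centralizer_singleton_iff
  have hz2 : z * z = 1 := by rw [← pow_two, ← hz, pow_orderOf_eq_one]
  have hz1 : z ≠ 1 := fun h => by simp [h] at hz
  have hzz : ∀ x ∈ Subgroup.zpowers z, x = 1 ∨ x = z := fun x hx => H93.zpowers_two_cases hz hx
  have hfr : ∀ x : (R : Subgroup L), x ∈ frattini (R : Subgroup L) → (x : L) = 1 ∨ (x : L) = z :=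
    fun x hx => hzz _ (hΦ ▸ ⟨x, hx, rfl⟩)
  have hzR : z ∈ (R : Subgroup L) := (hmemR z).mpr rfl
  -- normalizer of R
  have hN : ∀ n ∈ Subgroup.normalizer ((R : Subgroup L) : Set L), n * z = z * n := by
    intro n hn
    obtain ⟨x, hx, hxz⟩ : z ∈ (frattini (R : Subgroup L)).map (R : Subgroup L).subtype :=
      hΦ ▸ Subgroup.mem_zpowers z
    let φ : MulAut (R : Subgroup L) := Subgroup.normalizerMonoidHom _ ⟨n, hn⟩
    have h1 : φ x ∈ frattini (R : Subgroup L) := by
      have hch : (frattini (R : Subgroup L)).map φ.toMonoidHom = frattini (R : Subgroup L) :=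
        Subgroup.characteristic_iff_map_eq.mp frattini_characteristic φ
      exact hch ▸ Subgroup.mem_map_of_mem _ hx
    have h2 : ((φ x : (R : Subgroup L)) : L) = n * z * n⁻¹ := by rw [← hxz]; rfl
    rcases hfr _ h1 with h | h
    · rw [h2] at h; exact absurd (conj_eq_one_iff.mp h) hz1
    · rw [h2] at h; exact mul_inv_eq_iff_eq_mul.mp h
  -- the basic data
  have D : H69_Data z := by
    refine ⟨hz2, hz1, fun x hx => ?_, fun x y hx hy => ?_, fun g x hx hxc hx' hxc' => ?_⟩
    · have := hfr _ (H6.pow_prime_mem_frattini hRp ⟨x, (hmemR x).mpr hx⟩)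
      simpa [pow_two] using this
    · have h := H6.commutator_le_frattini hRp (Subgroup.commutator_mem_commutator
        (Subgroup.mem_top (⟨x, (hmemR x).mpr hx⟩ : (R : Subgroup L)))
        (Subgroup.mem_top (⟨y, (hmemR y).mpr hy⟩ : (R : Subgroup L))))
      rcases hfr _ h with h | h
      · left
        have h' : x * y * x⁻¹ * y⁻¹ = 1 := by simpa [commutatorElement_def] using h
        calc x * y = (x * y * x⁻¹ * y⁻¹) * (y * x) := by group
          _ = y * x := by rw [h', one_mul]
      · right
        have h' : x * y * x⁻¹ * y⁻¹ = z := by simpa [commutatorElement_def] using h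
        calc x * y = (x * y * x⁻¹ * y⁻¹) * (y * x) := by group
          _ = z * (y * x) := by rw [h']
    · obtain ⟨n, hn, e⟩ := R.conj_eq_normalizer_conj_of_mem_centralizer x g⁻¹
        (Subgroup.mem_centralizer_iff.mpr fun r hr => hxc r ((hmemR r).mp hr))
        (Subgroup.mem_centralizer_iff.mpr fun r hr => by
          rw [inv_inv]; exact hxc' r ((hmemR r).mp hr))
      rw [inv_inv] at e
      rw [e, mul_assoc, ← hxc n (hN n hn)]
      group
  -- R is not abelian
  have hna : ∃ a b : L, a * z = z * a ∧ b * z = z * b ∧ a * b ≠ b * a := by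
    by_contra hc
    push Not at hc
    have hP : Subgroup.normalizer ((R : Subgroup L) : Set L) ≤
        Subgroup.centralizer ((R : Subgroup L) : Set L) := fun n hn =>
      Subgroup.mem_centralizer_iff.mpr fun r hr => hc r n ((hmemR r).mp hr) (hN n hn)
    have hcompl := MonoidHom.ker_transferSylow_isComplement' R hP
    rcases Subgroup.Normal.eq_bot_or_eq_top
      (inferInstance : (MonoidHom.transferSylow R hP).ker.Normal) with h | h
    · rw [h, Subgroup.isComplement'_bot_left] at hcompl
      refine hL ⟨⟨fun a b => ?_⟩⟩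
      exact hc a b ((hmemR a).mp (hcompl ▸ Subgroup.mem_top a))
        ((hmemR b).mp (hcompl ▸ Subgroup.mem_top b))
    · rw [h, Subgroup.isComplement'_top_left] at hcompl
      rw [hcompl, Subgroup.mem_bot] at hzR
      exact hz1 hzR
  -- a conjugate of z in R other than z
  obtain ⟨u, hu, huz, hune⟩ : ∃ u, IsConj z u ∧ u * z = z * u ∧ u ≠ z := by
    by_contra hc
    push Not at hc
    have hiso : Cfsg.IsIsolatedInvolution z :=
      ⟨hz, fun g hg => hc _ (isConj_iff.mpr ⟨g, rfl⟩) hg.symm.eq⟩
    have hcore : Cfsg.pPrimeCore 2 L = ⊥ := by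
      refine (Subgroup.Normal.eq_bot_or_eq_top ?_).resolve_right fun h => ?_
      · exact Subgroup.sSup_normal _ fun N hN => hN.1
      · exact H69_core z hz h
    have hcen : ∀ g : L, g * z = z * g := by
      intro g
      have := H85.zStar hiso g
      rw [hcore, Subgroup.mem_bot] at this
      exact (mul_inv_eq_iff_eq_mul.mp (mul_inv_eq_one.mp this)).symm
    obtain ⟨a, b, -, -, hab⟩ := hna
    have hzc : z ∈ Subgroup.center L := Subgroup.mem_center_iff.mpr hcen
    rcases Subgroup.Normal.eq_bot_or_eq_top (inferInstance : (Subgroup.center L).Normal) with h | h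
    · rw [h, Subgroup.mem_bot] at hzc; exact hz1 hzc
    · exact hab (Subgroup.mem_center_iff.mp (h ▸ Subgroup.mem_top b) a)
  -- T = C_R(u)
  have hu2 : u * u = 1 := by
    obtain ⟨g, rfl⟩ := isConj_iff.mp hu
    exact (H69_conj_data D g).z2
  have hnc : ∀ v, IsConj z v → v * z = z * v → v ≠ z → ∃ x, x * z = z * x ∧ x * v ≠ v * x := by
    intro v hv hvz hvne
    by_contra hc
    push Not at hc
    exact hvne (H69_central_eq D hv hvz hc)
  -- products outside a conjugate's centralizer
  have hidx : ∀ v x y, x * z = z * x → y * z = z * y → v * z = z * v → x * v ≠ v * x → y * v ≠ v * y →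
      (x * y) * v = v * (x * y) := by
    intro v x y hx hy hv hxv hyv
    have ex := (D.cm x v hx hv).resolve_left hxv
    have ey := (D.cm y v hy hv).resolve_left hyv
    calc (x * y) * v = x * (y * v) := by group
      _ = x * (z * (v * y)) := by rw [ey]
      _ = (x * z) * v * y := by group
      _ = z * (x * v) * y := by rw [hx]; group
      _ = z * (z * (v * x)) * y := by rw [ex]
      _ = (z * z) * (v * (x * y)) := by group
      _ = v * (x * y) := by rw [hz2, one_mul]
  have hTsq : ∀ v, IsConj z v → v ≠ z → ∀ t, t * z = z * t → t * v = v * t → t * t = 1 := by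
    intro v hv hvne t htz htv
    obtain ⟨g, rfl⟩ := isConj_iff.mp hv
    rcases D.sq t htz with h | h
    · exact h
    · rcases (H69_conj_data D g).sq t htv with h' | h'
      · exact h'
      · exact absurd (h'.symm.trans h) hvne
  have hTcomm : ∀ v, IsConj z v → v * z = z * v → v ≠ z → ∀ s t, s * z = z * s → s * v = v * s →
      t * z = z * t → t * v = v * t → s * t = t * s := by
    intro v hv hvz hvne s t hs1 hs2 ht1 ht2
    have h1 := hTsq v hv hvne s hs1 hs2
    have h2 := hTsq v hv hvne t ht1 ht2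
    have h3 := hTsq v hv hvne (s * t) (by rw [mul_assoc, ht1, ← mul_assoc, hs1, mul_assoc])
      (by rw [mul_assoc, ht2, ← mul_assoc, hs2, mul_assoc])
    calc s * t = s * (s * t * (s * t)) * t := by rw [h3, mul_one]
      _ = (s * s) * (t * s) * (t * t) := by group
      _ = t * s := by rw [h1, h2, one_mul, mul_one]
  -- commuting conjugates
  have horb : ∀ v v', IsConj z v → v * z = z * v → v ≠ z → IsConj z v' → v' * z = z * v' → v' ≠ z →
      v * v' = v' * v → v' = v ∨ v' = z * v := by
    intro v v' hv hvz hvne hv' hvz' hvne' hcom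
    by_contra hc
    push Not at hc
    have hc1 := H69_mul_isConj D hv hv' hcom (Ne.symm hc.1)
    have hmove : ∀ x, x * z = z * x → x * v ≠ v * x → x * v' ≠ v' * x := by
      intro x hx hxv hxv'
      obtain ⟨y, hy, hyv'⟩ := hnc v' hv' hvz' hvne'
      apply hyv'
      by_cases hyv : y * v = v * y
      · exact hTcomm v hv hvz hvne y v' hy hyv hvz' hcom.symm
      · have hm := hidx v x y hx hy hvz hxv hyv
        have hm' := hTcomm v hv hvz hvne (x * y) v' (by rw [mul_assoc, hy, ← mul_assoc, hx, mul_assoc])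
          hm hvz' hcom.symm
        calc y * v' = x⁻¹ * (x * y * v') := by group
          _ = x⁻¹ * (v' * (x * y)) := by rw [hm']
          _ = x⁻¹ * (v' * x) * y := by group
          _ = x⁻¹ * (x * v') * y := by rw [hxv']
          _ = v' * y := by group
    have heq : v * v' = z := by
      refine H69_central_eq D hc1 (by rw [mul_assoc, hvz', ← mul_assoc, hvz, mul_assoc]) fun r hr => ?_
      by_cases hrv : r * v = v * r
      · have := hTcomm v hv hvz hvne r v' hr hrv hvz' hcom.symm
        rw [← mul_assoc, hrv, mul_assoc, this, ← mul_assoc]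
      · have e1 := (D.cm r v hr hvz).resolve_left hrv
        have e2 := (D.cm r v' hr hvz').resolve_left (hmove r hr hrv)
        calc r * (v * v') = (r * v) * v' := by group
          _ = z * (v * (r * v')) := by rw [e1]; group
          _ = z * ((v * z) * (v' * r)) := by rw [e2]; group
          _ = z * ((z * v) * (v' * r)) := by rw [hvz]
          _ = (z * z) * (v * v' * r) := by group
          _ = v * v' * r := by rw [hz2, one_mul]
    refine hc.2 ?_
    calc v' = (v * v) * v' := by
          rw [hTsq v hv hvne v hvz rfl, one_mul]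
      _ = v * (v * v') := by group
      _ = z * v := by rw [heq, hvz]
  by_cases hsmall : ∀ t, t * z = z * t → t * u = u * t → t = 1 ∨ t = z ∨ t = u ∨ t = z * u
  · -- R is dihedral of order 8
    obtain ⟨x, hx, hxu⟩ := hnc u hu huz hune
    obtain ⟨ρ, hρ, hρu, hρ2⟩ : ∃ ρ, ρ * z = z * ρ ∧ ρ * u ≠ u * ρ ∧ ρ * ρ = z := by
      rcases D.sq x hx with h | h
      · refine ⟨x * u, by rw [mul_assoc, huz, ← mul_assoc, hx, mul_assoc], ?_, ?_⟩
        · intro h'
          apply hxu
          calc x * u = x * u * (u * u) := by rw [hu2, mul_one]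
            _ = x * u * u * u := by group
            _ = u * (x * u) * u := by rw [h']
            _ = u * x * (u * u) := by group
            _ = u * x := by rw [hu2, mul_one]
        · have e := (D.cm x u hx huz).resolve_left hxu
          calc x * u * (x * u) = (x * u) * x * u := by group
            _ = z * u * (x * x) * u := by rw [e]; group
            _ = z := by rw [h, mul_one, mul_assoc, hu2, mul_one]
      · exact ⟨x, hx, hxu, h⟩
    have hy2 : (u * ρ) * (u * ρ) = 1 := by
      have e := (D.cm ρ u hρ huz).resolve_left hρu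
      calc (u * ρ) * (u * ρ) = u * (ρ * u) * ρ := by group
        _ = (u * z) * u * (ρ * ρ) := by rw [e]; group
        _ = (z * u) * u * z := by rw [huz, hρ2]
        _ = z * (u * u) * z := by group
        _ = 1 := by rw [hu2, mul_one, hz2]
    have hu1 : u ≠ 1 := fun h => hxu (by rw [h]; group)
    have huord : orderOf u = 2 := orderOf_eq_prime (by rw [pow_two]; exact hu2) hu1
    have hy1 : u * ρ ≠ 1 := fun h => hρu (by
      have : ρ = u⁻¹ := eq_inv_of_mul_eq_one_right h
      rw [this]; group)
    have hyord : orderOf (u * ρ) = 2 := orderOf_eq_prime (by rw [pow_two]; exact hy2) hy1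
    have hne : u ≠ u * ρ := fun h => hρu (by
      have : ρ = 1 := mul_eq_left.mp h.symm
      rw [this]; group)
    have hprod : u * (u * ρ) = ρ := by rw [← mul_assoc, hu2, one_mul]
    have hord : orderOf ρ = 4 := by
      have : orderOf ρ = 2 ^ (1 + 1) := by
        refine orderOf_eq_prime_pow ?_ ?_
        · rw [pow_one, pow_two, hρ2]; exact hz1
        · rw [show (2:ℕ) ^ (1 + 1) = 2 * 2 from rfl, pow_mul, pow_two, pow_two, hρ2, hz2]
      simpa using this
    have hcl : Subgroup.closure ({u, u * ρ} : Set L) = (R : Subgroup L) := by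
      refine le_antisymm ?_ ?_
      · rw [Subgroup.closure_le]
        rintro w (rfl | rfl)
        · exact (hmemR _).mpr huz
        · exact mul_mem ((hmemR _).mpr huz) ((hmemR _).mpr hρ)
      · intro w hw
        set K := Subgroup.closure ({u, u * ρ} : Set L) with hK
        have huK : u ∈ K := Subgroup.subset_closure (by simp)
        have hρK : ρ ∈ K := hprod ▸ mul_mem huK (Subgroup.subset_closure (by simp))
        have hzK : z ∈ K := hρ2 ▸ mul_mem hρK hρK
        have hTK : ∀ t, t * z = z * t → t * u = u * t → t ∈ K := fun t h1 h2 => by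
          rcases hsmall t h1 h2 with rfl | rfl | rfl | rfl
          · exact one_mem _
          · exact hzK
          · exact huK
          · exact mul_mem hzK huK
        rw [hmemR] at hw
        by_cases hwu : w * u = u * w
        · exact hTK w hw hwu
        · have := hTK (w * ρ) (by rw [mul_assoc, hρ, ← mul_assoc, hw, mul_assoc])
            (hidx u w ρ hw hρ huz hwu hρu)
          simpa using mul_mem this (inv_mem hρK)
    obtain ⟨e⟩ := H65.nonempty_mulEquiv_dihedral huord hyord hne
    rw [hprod, hord] at e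
    exact ⟨(MulEquiv.subgroupCongr hcl.symm).trans e⟩
  · -- otherwise there is a subgroup of index 2
    exfalso
    push Not at hsmall
    obtain ⟨t, htz, htu, ht⟩ := hsmall
    obtain ⟨x₀, hx₀, hx₀u⟩ := hnc u hu huz hune
    -- a central element of T outside V
    obtain ⟨w, hwz, hwu, hw, hwc⟩ : ∃ w, w * z = z * w ∧ w * u = u * w ∧
        (w ≠ 1 ∧ w ≠ z ∧ w ≠ u ∧ w ≠ z * u) ∧ (w * x₀ = x₀ * w) := by
      rcases D.cm t x₀ htz hx₀ with h | h
      · exact ⟨t, htz, htu, ht, h⟩
      · refine ⟨t * u, by rw [mul_assoc, huz, ← mul_assoc, htz, mul_assoc],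
          by rw [mul_assoc, hu2, ← mul_assoc, ← htu, mul_assoc, hu2], ?_, ?_⟩
        · have e : ∀ a, t * u = a → t = a * u := fun a ha => by rw [← ha, mul_assoc, hu2, mul_one]
          exact ⟨fun h1 => ht.2.2.1 (by rw [e 1 h1, one_mul]), fun h1 => ht.2.2.2 (e z h1),
            fun h1 => ht.1 (by rw [e u h1, hu2]),
            fun h1 => ht.2.1 (by rw [e _ h1, mul_assoc, hu2, mul_one])⟩
        · have e2 := (D.cm x₀ u hx₀ huz).resolve_left hx₀u
          calc t * u * x₀ = t * (z * z * (u * x₀)) := by rw [hz2, one_mul]; group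
            _ = t * z * (z * (u * x₀)) := by group
            _ = z * t * (x₀ * u) := by rw [← e2, htz]
            _ = z * (t * x₀) * u := by group
            _ = (z * z) * (x₀ * t) * u := by rw [h]; group
            _ = x₀ * (t * u) := by rw [hz2, one_mul, mul_assoc]
    have hwcen : ∀ r, r * z = z * r → r * w = w * r := by
      intro r hr
      by_cases hru : r * u = u * r
      · exact hTcomm u hu huz hune r w hr hru hwz hwu
      · have h1 := hidx u r x₀ hr hx₀ huz hru hx₀u
        have h2 := hTcomm u hu huz hune (r * x₀) w (by rw [mul_assoc, hx₀, ← mul_assoc, hr, mul_assoc])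
          h1 hwz hwu
        calc r * w = (r * x₀) * w * x₀⁻¹ := by rw [mul_assoc r x₀ w, ← hwc]; group
          _ = w * (r * x₀) * x₀⁻¹ := by rw [h2]
          _ = w * r := by group
    have hw2 : w * w = 1 := hTsq u hu hune w hwz hwu
    -- second conjugate
    obtain ⟨u', hu', huz', hu'z, hall⟩ : ∃ u', IsConj z u' ∧ u' * z = z * u' ∧ u' ≠ z ∧
        ∀ v, IsConj z v → v * z = z * v → v = z ∨ v = u ∨ v = z * u ∨ v = u' ∨ v = z * u' := by
      by_cases hc : ∃ v, IsConj z v ∧ v * z = z * v ∧ v * u ≠ u * v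
      · obtain ⟨u', hu', huz', hu'u⟩ := hc
        have hu'z : u' ≠ z := fun h => hu'u (by rw [h, huz])
        refine ⟨u', hu', huz', hu'z, fun v hv hvz => ?_⟩
        by_cases hvne : v = z
        · exact Or.inl hvne
        by_cases hvu : v * u = u * v
        · rcases horb u v hu huz hune hv hvz hvne hvu.symm with h | h
          · exact Or.inr (Or.inl h)
          · exact Or.inr (Or.inr (Or.inl h))
        · have hm := hTsq u hu hune (v * u') (by rw [mul_assoc, huz', ← mul_assoc, hvz, mul_assoc])
            (hidx u v u' hvz huz' huz hvu hu'u)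
          have hv2 : v * v = 1 := by
            obtain ⟨g, rfl⟩ := isConj_iff.mp hv; exact (H69_conj_data D g).z2
          have hu'2 : u' * u' = 1 := by
            obtain ⟨g, rfl⟩ := isConj_iff.mp hu'; exact (H69_conj_data D g).z2
          have hcom : u' * v = v * u' := by
            calc u' * v = (v * v) * (u' * v) * (u' * u') := by rw [hv2, hu'2, one_mul, mul_one]
              _ = v * (v * u' * (v * u')) * u' := by group
              _ = v * u' := by rw [hm, mul_one]
          rcases horb u' v hu' huz' hu'z hv hvz hvne hcom with h | h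
          · exact Or.inr (Or.inr (Or.inr (Or.inl h)))
          · exact Or.inr (Or.inr (Or.inr (Or.inr h)))
      · push Not at hc
        refine ⟨u, hu, huz, hune, fun v hv hvz => ?_⟩
        by_cases hvne : v = z
        · exact Or.inl hvne
        rcases horb u v hu huz hune hv hvz hvne (hc v hv hvz).symm with h | h
        · exact Or.inr (Or.inl h)
        · exact Or.inr (Or.inr (Or.inl h))
    -- the maximal subgroup
    set S₀ := Subgroup.closure ({z, u, u'} : Set L) with hS₀
    have hS₀R : S₀ ≤ (R : Subgroup L) := by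
      rw [hS₀, Subgroup.closure_le]
      rintro a (rfl | rfl | rfl)
      · exact hzR
      · exact (hmemR _).mpr huz
      · exact (hmemR _).mpr huz'
    have hwS₀ : w ∉ S₀ := H69_not_mem D hu2 huz huz' hu' hwu hw hu'z
      (fun h => horb u u' hu huz hune hu' huz' hu'z h)
    obtain ⟨M, hM, hmax⟩ := (Set.toFinite {M : Subgroup L | S₀ ≤ M ∧ M ≤ (R : Subgroup L) ∧ w ∉ M}).exists_maximal
      ⟨S₀, le_rfl, hS₀R, hwS₀⟩
    obtain ⟨hSM, hMR, hwM⟩ := hM
    have hzM : z ∈ M := hSM (Subgroup.subset_closure (by simp))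
    have hVM : ∀ v, IsConj z v → v * z = z * v → v ∈ M := fun v hv hvz => by
      have h1 : u ∈ M := hSM (Subgroup.subset_closure (by simp))
      have h2 : u' ∈ M := hSM (Subgroup.subset_closure (by simp))
      rcases hall v hv hvz with rfl | rfl | rfl | rfl | rfl
      · exact hzM
      · exact h1
      · exact mul_mem hzM h1
      · exact h2
      · exact mul_mem hzM h2
    have hMi : M.relIndex (R : Subgroup L) = 2 :=
      H69_relIndex D hmemR hMR hzM hwz hwM fun N hN1 hN2 => by
        by_contra hwN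
        exact hN2.2 (hmax ⟨hSM.trans hN2.1, hN1, hwN⟩ hN2.1)
    have hword : orderOf w = 2 := orderOf_eq_prime (by rw [pow_two]; exact hw2) hw.1
    rcases H6.thompson_transfer R M hMR hMi w hword with ⟨K, hKn, hKi, hwK⟩ | ⟨g, hg⟩
    · rcases Subgroup.Normal.eq_bot_or_eq_top hKn with h | h
      · rw [h, Subgroup.index_bot] at hKi
        haveI : IsCyclic L := isCyclic_of_prime_card hKi
        exact hL ⟨⟨mul_comm'⟩⟩
      · exact hwK (h ▸ Subgroup.mem_top w)
    · exact H69_no_conj D hmemR hMR hwz hwcen hwM hzM hVM g hg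

end Cfsg.Agent.S5435
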