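import Cfsg.Statements.S5436
import Cfsg.Agent.H69.Simple
import Cfsg.Agent.H68.ExtraComm

set_option autoImplicit false
open Cfsg

namespace Cfsg.Agent.S5436


/-- Let z be an involution of the finite group G with centralizer H whose generalized Fitting subgroup Q is extraspecial of width at least 2 (order 2^(2w+1), w ≥ 2); suppose some conjugate of z other than z lies in Q, H/Q is a non-abelian simple group, H acts irreducibly by conjugation on Q modulo the subgroup generated by z (the only H-invariant subgroups of Q containing z are that subgroup and Q), and Q is not the subgroup generated by the conjugates of z lying in H. Then G is simple. -/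
theorem result {G : Type*} [Group G] [Finite G] (z : G) (hz : orderOf z = 2) (Q : Subgroup (Subgroup.centralizer ({z} : Set G))) [Q.Normal] (hF : Cfsg.generalizedFittingSubgroup ↥(Subgroup.centralizer ({z} : Set G)) = Q) (hQ : Cfsg.IsExtraspecial 2 ↥Q) (w : ℕ) (hw : 2 ≤ w) (hcard : Nat.card ↥Q = 2 ^ (2 * w + 1)) (hnwc : ∃ g : G, (∃ hq : g * z * g⁻¹ ∈ Subgroup.centralizer ({z} : Set G), (⟨g * z * g⁻¹, hq⟩ : Subgroup.centralizer ({z} : Set G)) ∈ Q) ∧ g * z * g⁻¹ ≠ z) (hsimp : IsSimpleGroup (↥(Subgroup.centralizer ({z} : Set G)) ⧸ Q)) (hna : ¬ IsMulCommutative (↥(Subgroup.centralizer ({z} : Set G)) ⧸ Q)) (hirr : ∀ W : Subgroup (Subgroup.centralizer ({z} : Set G)), W.Normal → W ≤ Q → (W = Q ∨ ∀ x ∈ W, (x : G) ∈ Subgroup.zpowers z)) (hwcl : Subgroup.closure {x : Subgroup.centralizer ({z} : Set G) | IsConj z (x : G)} ≠ Q) : IsSimpleGroup G := by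
  set Q' := Q.map (Subgroup.centralizer ({z} : Set G)).subtype with hQ'
  have hQC : Q' ≤ (Subgroup.centralizer ({z} : Set G)) := Subgroup.map_subtype_le Q
  have hQex : Cfsg.IsExtraspecial 2 Q' :=
    H68.isExtraspecial_of_equiv (Subgroup.equivMapOfInjective Q (Subgroup.centralizer ({z} : Set G)).subtype (Subgroup.centralizer ({z} : Set G)).subtype_injective) hQ
  have hF' : (Cfsg.generalizedFittingSubgroup ↥(Subgroup.centralizer ({z} : Set G))).map (Subgroup.centralizer ({z} : Set G)).subtype = Q' := by rw [hF]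
  obtain ⟨hpre, hZ, -⟩ := H69.fstar_setting hz hQC hF' hQex
  obtain ⟨g, ⟨hq, hgQ⟩, hne⟩ := hnwc
  have hgQ' : g * z * g⁻¹ ∈ Q' := ⟨_, hgQ, rfl⟩
  have hL := H69.large_of_fstar hz hpre hZ g hgQ' hne
  have hz1 : z ≠ 1 := fun h => by simp [h] at hz
  haveI : Nontrivial G := ⟨⟨z, 1, hz1⟩⟩
  refine ⟨fun N hN => ?_⟩
  by_cases hN1 : N = ⊥
  · exact Or.inl hN1
  refine Or.inr ?_
  have hzN := H69.large_mem_of_normal hL hz hZ N hN1
  have hall : ∀ x : (Subgroup.centralizer ({z} : Set G)), IsConj z (x : G) → (x : G) ∈ N := fun x hx => by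
    obtain ⟨c, hc⟩ := isConj_iff.mp hx
    exact hc ▸ hN.conj_mem z hzN c
  set W := {x : (Subgroup.centralizer ({z} : Set G)) | IsConj z (x : G)} with hW
  set D := Subgroup.closure W with hD
  have hDn : D.Normal := by
    refine ⟨fun x hx h => ?_⟩
    induction hx using Subgroup.closure_induction with
    | mem y hy =>
      exact Subgroup.subset_closure ((show IsConj z (y : G) from hy).trans (isConj_iff.mpr ⟨h, by simp⟩))
    | one => simp
    | mul a b _ _ iha ihb =>
      rw [show h * (a * b) * h⁻¹ = (h * a * h⁻¹) * (h * b * h⁻¹) by group]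
      exact mul_mem iha ihb
    | inv a _ iha =>
      rw [show h * a⁻¹ * h⁻¹ = (h * a * h⁻¹)⁻¹ by group]
      exact inv_mem iha
  have hDN : D.map (Subgroup.centralizer ({z} : Set G)).subtype ≤ N := by
    rw [Subgroup.map_le_iff_le_comap, hD, Subgroup.closure_le]
    exact hall
  have hgD : (⟨g * z * g⁻¹, hq⟩ : (Subgroup.centralizer ({z} : Set G))) ∈ D := Subgroup.subset_closure (isConj_iff.mpr ⟨g, rfl⟩)
  have hQD : Q ≤ D := by
    rcases hirr (D ⊓ Q) inferInstance inf_le_right with h | h
    · exact inf_eq_right.mp h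
    · rcases H93.zpowers_two_cases hz (h _ ⟨hgD, hgQ⟩) with e | e
      · exact absurd (conj_eq_one_iff.mp e) hz1
      · exact absurd e hne
  have hDtop : D = ⊤ := by
    have hn' : (D.map (QuotientGroup.mk' Q)).Normal := hDn.map _ (QuotientGroup.mk'_surjective Q)
    rcases hn'.eq_bot_or_eq_top with h | h
    · refine absurd (le_antisymm ?_ hQD) hwcl
      rwa [Subgroup.map_eq_bot_iff, QuotientGroup.ker_mk'] at h
    · have := congrArg (Subgroup.comap (QuotientGroup.mk' Q)) h
      rwa [Subgroup.comap_map_eq, QuotientGroup.ker_mk', Subgroup.comap_top, sup_eq_left.mpr hQD] at this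
  have hHN : (Subgroup.centralizer ({z} : Set G)) ≤ N := fun x hx => hDN ⟨⟨x, hx⟩, hDtop ▸ Subgroup.mem_top _, rfl⟩
  have := H93.large_frattini hL N (hQC.trans hHN)
  rwa [sup_eq_left.mpr ((H69.normalizer_le_centralizer hpre hz hZ).trans hHN)] at this

end Cfsg.Agent.S5436
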