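import Cfsg.Statements.S5437


set_option autoImplicit false
open Cfsg

namespace Cfsg.Agent.S5437

/-- Let I be a set of involutions of the finite group G closed under conjugation, and H a subgroup of G. The following are equivalent: (1) for every member x of I lying in H, the conjugates of x lying in H form a single H-class and the centralizer of x lies in H; (2) for every g outside H, no member of I lies in both H and g H g⁻¹; (3) every member of I lying in H fixes exactly one coset in the action of G on the cosets of H. -/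
theorem result {G : Type*} [Group G] [Finite G] (I : Set G) (hI : ∀ x ∈ I, orderOf x = 2) (hIc : ∀ g : G, ∀ x ∈ I, g * x * g⁻¹ ∈ I) (H : Subgroup G) : ((∀ x ∈ I, x ∈ H → (∀ g : G, g * x * g⁻¹ ∈ H → ∃ h ∈ H, h * x * h⁻¹ = g * x * g⁻¹) ∧ Subgroup.centralizer ({x} : Set G) ≤ H) ↔ (∀ g : G, g ∉ H → ∀ x ∈ I, ¬ (x ∈ H ∧ x ∈ (H : Subgroup G).map (MulAut.conj g).toMonoidHom))) ∧ ((∀ g : G, g ∉ H → ∀ x ∈ I, ¬ (x ∈ H ∧ x ∈ (H : Subgroup G).map (MulAut.conj g).toMonoidHom)) ↔ ∀ x ∈ I, x ∈ H → ∃! c : G ⧸ H, x • c = c) := by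
  have hfix : ∀ (g x : G), (x • (g : G ⧸ H) = g) ↔ g⁻¹ * x * g ∈ H := fun g x => by
    show ((x * g : G) : G ⧸ H) = g ↔ _
    rw [eq_comm, QuotientGroup.eq, ← mul_assoc]
  have hmap : ∀ (g x : G), x ∈ (H : Subgroup G).map (MulAut.conj g).toMonoidHom ↔ g⁻¹ * x * g ∈ H := by
    intro g x
    constructor
    · rintro ⟨h, hh, rfl⟩
      simpa [mul_assoc] using hh
    · intro h
      exact ⟨_, h, by simp [mul_assoc]⟩
  simp only [hmap]
  constructor
  · constructor
    · rintro h1 g hg x hx ⟨hxH, hgx⟩
      obtain ⟨h, hh, he⟩ := (h1 x hx hxH).1 g⁻¹ (by simpa using hgx)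
      have hc : g * h ∈ Subgroup.centralizer ({x} : Set G) := by
        refine Subgroup.mem_centralizer_singleton_iff.mpr ?_
        rw [inv_inv] at he
        calc g * h * x = g * (h * x * h⁻¹) * h := by group
          _ = g * (g⁻¹ * x * g) * h := by rw [he]
          _ = x * (g * h) := by group
      exact hg (by simpa using mul_mem ((h1 x hx hxH).2 hc) (inv_mem hh))
    · intro h2 x hx hxH
      refine ⟨fun g hg => ⟨g, ?_, rfl⟩, fun g hg => ?_⟩
      · by_contra hgH
        exact h2 g⁻¹ (fun h => hgH (by simpa using inv_mem h)) x hx ⟨hxH, by simpa using hg⟩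
      · by_contra hgH
        have hc : g * x = x * g := Subgroup.mem_centralizer_singleton_iff.mp hg
        exact h2 g hgH x hx ⟨hxH, by rw [mul_assoc, ← hc]; simpa using hxH⟩
  · constructor
    · intro h2 x hx hxH
      refine ⟨((1 : G) : G ⧸ H), (hfix 1 x).mpr (by simpa using hxH), ?_⟩
      intro c hc
      induction c using QuotientGroup.induction_on with
      | _ g =>
        rw [QuotientGroup.eq, mul_one]
        refine inv_mem ?_
        by_contra hgH
        exact h2 g hgH x hx ⟨hxH, (hfix g x).mp hc⟩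
    · rintro h3 g hg x hx ⟨hxH, hgx⟩
      have := (h3 x hx hxH).unique ((hfix g x).mpr hgx) ((hfix 1 x).mpr (by simpa using hxH))
      rw [QuotientGroup.eq, mul_one] at this
      exact hg (by simpa using inv_mem this)

end Cfsg.Agent.S5437
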