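import Cfsg.Statements.S5438


set_option autoImplicit false
open Cfsg

namespace Cfsg.Agent.S5438

/-- Let z be a 2-central involution of the finite group G (an involution central in some Sylow 2-subgroup) and H a subgroup containing z such that the coset H is the only coset of H fixed by z (in the action of G on the cosets of H). Then H has odd index in G, and for every 2-element x of H the conjugates of x lying in H form a single H-class. -/
theorem result {G : Type*} [Group G] [Finite G] (z : G) (hz : Cfsg.IsTwoCentralInvolution z) (H : Subgroup G) (hzH : z ∈ H) (hfix : ∀ g : G, g⁻¹ * z * g ∈ H → g ∈ H) : Odd H.index ∧ ∀ x ∈ H, (∃ k : ℕ, orderOf x = 2 ^ k) → ∀ g : G, g * x * g⁻¹ ∈ H → ∃ h ∈ H, h * x * h⁻¹ = g * x * g⁻¹ := by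
  obtain ⟨hz2, S, hzS, hSc⟩ := hz
  have := Fact.mk Nat.prime_two
  have hindex : Odd H.index := by
    have hP : IsPGroup 2 (Subgroup.zpowers z) := IsPGroup.of_card (n := 1) (by rw [Nat.card_zpowers, hz2, pow_one])
    have hmod := hP.card_modEq_card_fixedPoints (G ⧸ H)
    have hone : Nat.card (MulAction.fixedPoints (Subgroup.zpowers z) (G ⧸ H)) = 1 := by
      rw [Nat.card_eq_one_iff_exists]
      refine ⟨⟨((1 : G) : G ⧸ H), fun c => ?_⟩, fun d => ?_⟩
      · obtain ⟨c, hc⟩ := c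
        show ((c * 1 : G) : G ⧸ H) = ((1 : G) : G ⧸ H)
        rw [QuotientGroup.eq, mul_one, mul_one]
        exact inv_mem (Subgroup.zpowers_le.mpr hzH hc)
      · obtain ⟨d, hd⟩ := d
        induction d using QuotientGroup.induction_on with
        | _ g =>
          have h1 : ((z * g : G) : G ⧸ H) = g := hd ⟨z, Subgroup.mem_zpowers z⟩
          rw [eq_comm, QuotientGroup.eq, ← mul_assoc] at h1
          refine Subtype.ext ?_
          show ((g : G) : G ⧸ H) = ((1 : G) : G ⧸ H)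
          rw [QuotientGroup.eq, mul_one]
          exact inv_mem (hfix g h1)
    rw [hone] at hmod
    exact Nat.odd_iff.mpr hmod
  refine ⟨hindex, ?_⟩
  have hle : ∀ T : Subgroup G, IsPGroup 2 T → z ∈ T → T ≤ H := by
    intro T hT hzT
    by_contra hTH
    have hne : H.subgroupOf T < ⊤ := lt_top_iff_ne_top.mpr fun h => hTH (Subgroup.subgroupOf_eq_top.mp h)
    have : Group.IsNilpotent T := hT.isNilpotent
    obtain ⟨⟨t, ht⟩, htn, htH⟩ := SetLike.exists_of_lt (Group.normalizerCondition_of_isNilpotent (G := T) _ hne)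
    apply htH
    exact hfix t ((Subgroup.mem_normalizer_iff'.mp htn (⟨t, ht⟩⁻¹ * ⟨z, hzT⟩)).mpr (by
      simpa [mul_assoc, Subgroup.mem_subgroupOf] using hzH))
  intro x hxH hx g hg
  obtain ⟨S', hS'⟩ : ∃ P : Sylow 2 H, (P : Subgroup H) = (S : Subgroup G).subgroupOf H :=
    ⟨S.subtype (hle _ S.isPGroup' hzS), rfl⟩
  have hy2 : ∀ {a : G}, a ∈ H → (∃ k : ℕ, orderOf a = 2 ^ k) → ∃ h ∈ H, z * (h * a * h⁻¹) = h * a * h⁻¹ * z := by
    rintro a ha ⟨k, hk⟩
    have hP : IsPGroup 2 (Subgroup.zpowers (⟨a, ha⟩ : H)) :=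
      IsPGroup.of_card (n := k) (by rw [Nat.card_zpowers, Subgroup.orderOf_mk, hk])
    obtain ⟨P, hP⟩ := hP.exists_le_sylow
    obtain ⟨h, hh⟩ := MulAction.exists_smul_eq H P S'
    refine ⟨h, h.2, ?_⟩
    have hm : h * ⟨a, ha⟩ * h⁻¹ ∈ (S' : Subgroup H) := by
      rw [← hh]
      show h * ⟨a, ha⟩ * h⁻¹ ∈ ((h • P : Sylow 2 H) : Subgroup H)
      rw [Sylow.coe_subgroup_smul]
      exact Subgroup.smul_mem_pointwise_smul _ (MulAut.conj h) _ (hP (Subgroup.mem_zpowers _))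
    rw [hS'] at hm
    exact (hSc _ hm).symm
  obtain ⟨h1, hh1, hc1⟩ := hy2 hxH hx
  obtain ⟨h2, hh2, hc2⟩ := hy2 hg (by
    obtain ⟨k, hk⟩ := hx
    exact ⟨k, by rw [← hk]; exact orderOf_injective (MulAut.conj g).toMonoidHom (MulAut.conj g).injective x⟩)
  set x' := h1 * x * h1⁻¹ with hx'
  set y' := h2 * (g * x * g⁻¹) * h2⁻¹ with hy'
  set g' := h2 * g * h1⁻¹ with hg'
  have hgy : g' * x' * g'⁻¹ = y' := by rw [hg', hx', hy']; group
  let C := Subgroup.centralizer ({y'} : Set G)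
  have hzC : z ∈ C := Subgroup.mem_centralizer_singleton_iff.mpr hc2
  have hwC : g' * z * g'⁻¹ ∈ C := by
    refine Subgroup.mem_centralizer_singleton_iff.mpr ?_
    rw [← hgy]
    calc g' * z * g'⁻¹ * (g' * x' * g'⁻¹) = g' * (z * x') * g'⁻¹ := by group
      _ = g' * (x' * z) * g'⁻¹ := by rw [hc1]
      _ = g' * x' * g'⁻¹ * (g' * z * g'⁻¹) := by group
  have hP1 : IsPGroup 2 (Subgroup.zpowers (⟨z, hzC⟩ : C)) :=
    IsPGroup.of_card (n := 1) (by rw [Nat.card_zpowers, Subgroup.orderOf_mk, hz2, pow_one])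
  have hP2 : IsPGroup 2 (Subgroup.zpowers (⟨g' * z * g'⁻¹, hwC⟩ : C)) := by
    refine IsPGroup.of_card (n := 1) ?_
    rw [Nat.card_zpowers, Subgroup.orderOf_mk, pow_one, ← hz2]
    exact orderOf_injective (MulAut.conj g').toMonoidHom (MulAut.conj g').injective z
  obtain ⟨T, hT⟩ := hP1.exists_le_sylow
  obtain ⟨T2, hT2⟩ := hP2.exists_le_sylow
  obtain ⟨c, hc⟩ := MulAction.exists_smul_eq C T2 T
  have hTH : (T : Subgroup C).map C.subtype ≤ H :=
    hle _ (T.isPGroup'.map _) ⟨_, hT (Subgroup.mem_zpowers _), rfl⟩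
  have hmem : c * ⟨g' * z * g'⁻¹, hwC⟩ * c⁻¹ ∈ (T : Subgroup C) := by
    rw [← hc]
    show c * ⟨g' * z * g'⁻¹, hwC⟩ * c⁻¹ ∈ ((c • T2 : Sylow 2 C) : Subgroup C)
    rw [Sylow.coe_subgroup_smul]
    exact Subgroup.smul_mem_pointwise_smul _ (MulAut.conj c) _ (hT2 (Subgroup.mem_zpowers _))
  have hk : (c * g') ∈ H := by
    have h3 : ((c : G) * (g' * z * g'⁻¹) * (c : G)⁻¹) ∈ H := hTH ⟨_, hmem, rfl⟩
    have := inv_mem (hfix ((c : G) * g')⁻¹ (by simpa [mul_assoc] using h3))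
    simpa using this
  refine ⟨h2⁻¹ * ((c : G) * g') * h1, mul_mem (mul_mem (inv_mem hh2) hk) hh1, ?_⟩
  have hcy : (c : G) * y' * (c : G)⁻¹ = y' :=
    mul_inv_eq_iff_eq_mul.mpr (Subgroup.mem_centralizer_singleton_iff.mp c.2)
  calc h2⁻¹ * ((c : G) * g') * h1 * x * (h2⁻¹ * ((c : G) * g') * h1)⁻¹
      = h2⁻¹ * ((c : G) * (g' * x' * g'⁻¹) * (c : G)⁻¹) * h2 := by rw [hx']; group
    _ = h2⁻¹ * y' * h2 := by rw [hgy, hcy]
    _ = g * x * g⁻¹ := by rw [hy']; group

end Cfsg.Agent.S5438
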