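import Cfsg.Statements.S5439


set_option autoImplicit false
open Cfsg

namespace Cfsg.Agent.S5439

/-- Let I and J be two different conjugacy classes of involutions of the finite group G and H a subgroup such that every member of I ∪ J fixes exactly one coset in the action on the cosets of H, and such that for every a in I ∩ H and every b in (I ∪ J) ∩ H different from a and commuting with it, the centralizer of a b lies in H. Then H = G. -/
theorem result {G : Type*} [Group G] [Finite G] (I J : Set G) (a₀ b₀ : G) (ha₀ : orderOf a₀ = 2) (hb₀ : orderOf b₀ = 2) (hI : I = {x | IsConj a₀ x}) (hJ : J = {x | IsConj b₀ x}) (hIJ : I ≠ J) (H : Subgroup G) (hfix : ∀ x ∈ I ∪ J, ∃! c : G ⧸ H, x • c = c) (hcent : ∀ a ∈ I, a ∈ H → ∀ b ∈ I ∪ J, b ∈ H → a ≠ b → a * b = b * a → Subgroup.centralizer ({a * b} : Set G) ≤ H) : H = ⊤ := by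
  subst hI hJ
  have hfixiff : ∀ (g x : G), (x • (g : G ⧸ H) = g) ↔ g⁻¹ * x * g ∈ H := fun g x => by
    show ((x * g : G) : G ⧸ H) = g ↔ _
    rw [eq_comm, QuotientGroup.eq, ← mul_assoc]
  have hconj : ∀ {p x y : G}, IsConj p x → IsConj p (y * x * y⁻¹) := fun {p x y} h =>
    h.trans (isConj_iff.mpr ⟨y, rfl⟩)
  have hstab : ∀ x ∈ ({x | IsConj a₀ x} ∪ {x | IsConj b₀ x} : Set G), x ∈ H → ∀ g : G, g⁻¹ * x * g ∈ H → g ∈ H := by
    intro x hx hxH g hg
    have := (hfix x hx).unique ((hfixiff g x).mpr hg) ((hfixiff 1 x).mpr (by simpa using hxH))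
    rw [QuotientGroup.eq, mul_one] at this
    simpa using inv_mem this
  have hdis : ∀ x, IsConj a₀ x → ¬ IsConj b₀ x := fun x h1 h2 => hIJ (Set.ext fun y =>
    ⟨fun h => (h2.trans h1.symm).trans h, fun h => (h1.trans h2.symm).trans h⟩)
  obtain ⟨c, hc, -⟩ := hfix a₀ (Or.inl (IsConj.refl a₀))
  induction c using QuotientGroup.induction_on with
  | _ g₀ =>
    have haH : g₀⁻¹ * a₀ * g₀ ∈ H := (hfixiff g₀ a₀).mp hc
    have haI : IsConj a₀ (g₀⁻¹ * a₀ * g₀) := isConj_iff.mpr ⟨g₀⁻¹, by group⟩
    generalize g₀⁻¹ * a₀ * g₀ = a at haH haI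
    have hord : ∀ {p x : G}, orderOf p = 2 → IsConj p x → x * x = 1 := by
      intro p x hp h
      obtain ⟨y, rfl⟩ := isConj_iff.mp h
      have hpp : p * p = 1 := by rw [← pow_two, ← hp, pow_orderOf_eq_one]
      calc y * p * y⁻¹ * (y * p * y⁻¹) = y * (p * p) * y⁻¹ := by group
        _ = 1 := by rw [hpp]; group
    have hJH : ∀ b, IsConj b₀ b → b ∈ H := by
      intro b hb
      have haa := hord ha₀ haI
      have hbb := hord hb₀ hb
      have hai : a⁻¹ = a := inv_eq_of_mul_eq_one_right haa
      have hbi : b⁻¹ = b := inv_eq_of_mul_eq_one_right hbb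
      set r := a * b with hr
      have har : a * r * a⁻¹ = r⁻¹ := by
        calc a * r * a⁻¹ = (a * a) * b * a⁻¹ := by rw [hr]; group
          _ = b⁻¹ * a⁻¹ := by rw [haa, hbi, one_mul]
          _ = r⁻¹ := by rw [hr]; group
      have hbr : b * r * b⁻¹ = r⁻¹ := by
        calc b * r * b⁻¹ = b * a * (b * b⁻¹) := by rw [hr]; group
          _ = b⁻¹ * a⁻¹ := by rw [mul_inv_cancel, mul_one, hai, hbi]
          _ = r⁻¹ := by rw [hr]; group
      have hpow : ∀ j : ℕ, a * r ^ j * a⁻¹ = (r ^ j)⁻¹ := fun j => by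
        rw [← conj_pow, har, inv_pow]
      obtain ⟨m, hm⟩ := Nat.even_or_odd' (orderOf r)
      rcases hm with hm | hm
      swap
      · exfalso
        refine hdis b ?_ hb
        refine haI.trans (isConj_iff.mpr ⟨r ^ m, ?_⟩)
        have h1 : a * (r ^ m)⁻¹ = r ^ m * a := by
          rw [← hpow m]
          calc a * (a * r ^ m * a⁻¹) = (a * a) * (r ^ m * a⁻¹) := by group
            _ = r ^ m * a := by rw [haa, one_mul, hai]
        have h2 : r ^ (2 * m) * r = 1 := by rw [← pow_succ, ← hm, pow_orderOf_eq_one]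
        calc r ^ m * a * (r ^ m)⁻¹ = r ^ m * (r ^ m * a) := by rw [mul_assoc, h1]
          _ = r ^ (2 * m) * r * b⁻¹ := by rw [hr, two_mul, pow_add]; group
          _ = b := by rw [h2, one_mul, hbi]
      set t := r ^ m with ht
      have htt : t * t = 1 := by rw [ht, ← pow_add, ← two_mul, ← hm, pow_orderOf_eq_one]
      have hti : t⁻¹ = t := inv_eq_of_mul_eq_one_right htt
      have hta : a * t = t * a := by
        have := hpow m
        rw [← ht, hti] at this
        exact mul_inv_eq_iff_eq_mul.mp this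
      have htb : b * t = t * b := by
        have : b * r ^ m * b⁻¹ = (r ^ m)⁻¹ := by rw [← conj_pow, hbr, inv_pow]
        rw [← ht, hti] at this
        exact mul_inv_eq_iff_eq_mul.mp this
      have htne : t ≠ 1 := by
        intro h
        have hd := orderOf_dvd_of_pow_eq_one h
        have h0 : 0 < orderOf r := orderOf_pos r
        have := Nat.le_of_dvd (by omega) hd
        omega
      have haU : a ∈ ({x | IsConj a₀ x} ∪ {x | IsConj b₀ x} : Set G) := Or.inl haI
      have htH : t ∈ H := by
        have hh : t⁻¹ * a * t ∈ H := by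
          rw [mul_assoc, hta, inv_mul_cancel_left]; exact haH
        exact hstab a haU haH t hh
      have hw : a * t ∈ ({x | IsConj a₀ x} ∪ {x | IsConj b₀ x} : Set G) := by
        obtain ⟨j, hj⟩ := Nat.even_or_odd' m
        have key : ∀ i : ℕ, (r ^ i)⁻¹ * a * r ^ i = a * r ^ (2 * i) := by
          intro i
          rw [← hpow i, two_mul, pow_add]
          calc a * r ^ i * a⁻¹ * a * r ^ i = a * r ^ i * r ^ i := by group
            _ = a * (r ^ i * r ^ i) := by group
        rcases hj with hj | hj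
        · refine Or.inl (haI.trans (isConj_iff.mpr ⟨(r ^ j)⁻¹, ?_⟩))
          rw [inv_inv, key, ht, hj]
        · refine Or.inr (hb.trans (isConj_iff.mpr ⟨(r ^ j)⁻¹, ?_⟩))
          have e : a * r = b := by rw [hr, ← mul_assoc, haa, one_mul]
          rw [inv_inv, ← e, ht, hj, pow_succ]
          calc (r ^ j)⁻¹ * (a * r) * r ^ j = (r ^ j)⁻¹ * a * (r * r ^ j) := by group
            _ = (r ^ j)⁻¹ * a * r ^ j * r := by rw [← pow_succ', pow_succ]; group
            _ = a * (r ^ (2 * j) * r) := by rw [key]; group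
      have hne : a ≠ a * t := fun h => htne (mul_left_cancel (a := a) (by rw [mul_one]; exact h.symm))
      have hcomm : a * (a * t) = a * t * a := by
        calc a * (a * t) = a * (t * a) := by rw [hta]
          _ = a * t * a := by group
      have hC := hcent a haI haH (a * t) hw (mul_mem haH htH) hne hcomm
      apply hC
      rw [← mul_assoc, haa, one_mul]
      exact Subgroup.mem_centralizer_singleton_iff.mpr htb
    refine eq_top_iff.mpr fun g _ => hstab b₀ (Or.inr (IsConj.refl _)) (hJH _ (IsConj.refl _)) g ?_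
    exact hJH _ (isConj_iff.mpr ⟨g⁻¹, by group⟩)

end Cfsg.Agent.S5439
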