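import Cfsg.Statements.S5440
import Cfsg.Agent.H16.Fi24.Exists
import Cfsg.Agent.H16.Fi24.Orbits

set_option autoImplicit false
open Cfsg

namespace Cfsg.Agent.S5440

/-- Let G be a finite group of large Fischer type at the involution z: the generalized Fitting subgroup Q of H = C_G(z) is extraspecial of order 2^13, H has normal subgroups Q ≤ H₁ ≤ H₂ with H₁/Q of order 3, H₂/H₁ the projective special unitary group of dimension 4 over the field with nine elements and H₂ of index 2 in H, and some conjugate of z other than z lies in Q. Then H has exactly two orbits, under conjugation, on the involutions of Q other than z. -/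
theorem result {G : Type*} [Group G] [Finite G] (z : G) (Q : Subgroup (Subgroup.centralizer ({z} : Set G))) [Q.Normal] (hF : Cfsg.IsOfLargeFischerTypeAt z Q) : ∃ s t : Subgroup.centralizer ({z} : Set G), s ∈ Q ∧ t ∈ Q ∧ orderOf s = 2 ∧ orderOf t = 2 ∧ (s : G) ≠ z ∧ (t : G) ≠ z ∧ (¬ ∃ h : Subgroup.centralizer ({z} : Set G), h * s * h⁻¹ = t) ∧ ∀ x : Subgroup.centralizer ({z} : Set G), x ∈ Q → orderOf x = 2 → (x : G) ≠ z → (∃ h : Subgroup.centralizer ({z} : Set G), h * s * h⁻¹ = x) ∨ ∃ h : Subgroup.centralizer ({z} : Set G), h * t * h⁻¹ = x := by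
  obtain ⟨D⟩ := H16.Fi24.nonempty_model hF
  obtain ⟨s, hs, es, hs2, hsz⟩ := D.exists_rep (k := 2) le_rfl (by norm_num)
  obtain ⟨t, ht, et, ht2, htz⟩ := D.exists_rep (k := 3) (by norm_num) (by norm_num)
  have ls : H16.Fi24.lab (D.Φ s) = 2 := es ▸ (H16.Fi24.rep_facts 2 (by norm_num) le_rfl).2.2
  have lt : H16.Fi24.lab (D.Φ t) = 3 := et ▸ (H16.Fi24.rep_facts 3 (by norm_num) (by norm_num)).2.2
  refine ⟨s, t, hs, ht, hs2, ht2, hsz, htz, ?_, fun x hx hx2 hxz => ?_⟩
  · rintro ⟨h, rfl⟩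
    rw [D.lab_conj hs, ls] at lt
    omega
  · have h2 := D.lab_involution hx hx2 hxz
    have h3 := (H16.Fi24.lab_cases (D.Φ x)).2.1
    rcases (show H16.Fi24.lab (D.Φ x) = 2 ∨ H16.Fi24.lab (D.Φ x) = 3 by omega) with e | e
    · exact Or.inl (D.conj_of_lab hs hx ls.ge (e.trans ls.symm))
    · exact Or.inr (D.conj_of_lab ht hx (by omega) (e.trans lt.symm))

end Cfsg.Agent.S5440
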