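import Cfsg.Statements.S5448
import Cfsg.Agent.H33.FiLocal.PairStab
import Cfsg.Agent.H33.FiLocal.CountT
import Cfsg.Agent.H59.Fischer.Quot
import Cfsg.Agent.H59.Fischer.Final
import Cfsg.Agent.H73.FiM24.Labels
-- import your own Cfsg.Agent.* helpers here

set_option autoImplicit false
open scoped Pointwise
open Cfsg

namespace Cfsg.Agent.S5448

/-- Let G be a finite group of large Fischer type at the involution z: the generalized Fitting subgroup Q of H = C_G(z) is extraspecial of order 2^13, H has normal subgroups Q ≤ H₁ ≤ H₂ with H₁/Q of order 3, H₂/H₁ the projective special unitary group of dimension 4 over the field with nine elements and H₂ of index 2 in H, and some conjugate of z other than z lies in Q. Let T be a Sylow 2-subgroup of G, A its Thompson subgroup, M = N_G(A) its normalizer, and t an involution of A not conjugate to z in G. Then the centralizer of t in M, modulo A, is isomorphic to the setwise stabilizer of a two-element subset of the 24 points in the Mathieu group of degree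 24 (the automorphism group of the smaller Mathieu group on 22 points). -/
theorem result {G : Type*} [Group G] [Finite G] (z : G) (Q : Subgroup (Subgroup.centralizer ({z} : Set G))) [Q.Normal] (hF : Cfsg.IsOfLargeFischerTypeAt z Q) (T : Sylow 2 G) (A M : Subgroup G) (hA : A = Cfsg.thompsonSubgroupOf 2 (T : Subgroup G)) (hM : M = Subgroup.normalizer (A : Set G)) (t : G) (htA : t ∈ A) (ht2 : orderOf t = 2) (ht : ¬ IsConj z t) : ∃ _ : (A.subgroupOf (M ⊓ Subgroup.centralizer ({t} : Set G))).Normal, Nonempty (↥(M ⊓ Subgroup.centralizer ({t} : Set G)) ⧸ A.subgroupOf (M ⊓ Subgroup.centralizer ({t} : Set G)) ≃* ↥(Cfsg.M24 ⊓ MulAction.stabilizer (Equiv.Perm Cfsg.GolayPt) ({none, some 0} : Set Cfsg.GolayPt))) := by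
  obtain ⟨D⟩ := H16.Fi24.nonempty_model hF
  obtain ⟨P⟩ := H33.FiLocal.nonempty_parts hF D
  obtain ⟨L, φ, hφ, hbij, hT⟩ := H73.FiM24.exists_labels hF D P
  obtain ⟨hel, hcard, hn, ⟨f⟩⟩ := H59.Fi24.thompson_quot hF D P L φ hφ hbij hT T A M hA hM
  obtain ⟨-, -, -, horb⟩ := H59.Fi24.fusion_and_orbits hF D P T A M hA hM
  haveI := hn
  have hcount : {a : G | a ∈ A ∧ a ≠ 1 ∧ ¬ IsConj z a}.ncard = 276 := H33.FiLocal.count_thompson hF T A hA
  have hc : ∀ a ∈ A, ∀ b ∈ A, a * b = b * a := fun a ha b hb => congrArg Subtype.val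
    (hel.1.is_comm.comm ⟨a, ha⟩ ⟨b, hb⟩)
  have hAM : A ≤ M := hM ▸ Subgroup.le_normalizer
  refine H33.FiLocal.pair_stab hc hAM f htA ?_
  rw [← hcount]
  congr 1
  ext b
  constructor
  · rintro ⟨m, hm, rfl⟩
    refine ⟨((Subgroup.mem_normalizer_iff.mp (hM ▸ hm)) t).mp htA, ?_, fun h => ht ?_⟩
    · intro h
      have : t = 1 := conj_eq_one_iff.1 h
      rw [this, orderOf_one] at ht2; omega
    · exact h.trans (isConj_iff.2 ⟨m⁻¹, by group⟩)
  · rintro ⟨hb, hb1, hbz⟩
    obtain ⟨m, hm, e⟩ := horb t htA b hb (fun h => by rw [h, orderOf_one] at ht2; omega) hb1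
      ⟨fun h => absurd h ht, fun h => absurd h hbz⟩
    exact ⟨m, hm, e⟩

end Cfsg.Agent.S5448
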