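import Cfsg.Statements.S5454
import Cfsg.Agent.S5452
import Cfsg.Agent.H72.U6.Final

set_option autoImplicit false
open Cfsg

namespace Cfsg.Agent.S5454

/-- Let G be a finite group with an involution d whose centralizer C is quasisimple with C modulo the subgroup generated by d isomorphic to the projective special unitary group of dimension 6 over the field with four elements, and suppose some conjugate of d other than d commutes with d. Let S be a Sylow 2-subgroup of C and A the Thompson subgroup of S (generated by the elementary abelian subgroups of S of largest order), regarded as a subgroup of G. Then A is elementary abelian of order 2^10, exactly 22 conjugates of d lie in A, and the normalizer of A permutes them transitively. -/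
theorem result {G : Type*} [Group G] [Finite G] (d : G) (hd : orderOf d = 2) (hq : Cfsg.IsQuasisimple ↥(Subgroup.centralizer ({d} : Set G))) [hzn : ((Subgroup.zpowers d).subgroupOf (Subgroup.centralizer ({d} : Set G))).Normal] (K : Type) [Field K] [Fintype K] (hK : Fintype.card K = 4) (e : ↥(Subgroup.centralizer ({d} : Set G)) ⧸ (Subgroup.zpowers d).subgroupOf (Subgroup.centralizer ({d} : Set G)) ≃* Cfsg.PSU 6 K 2) (hnwc : ∃ g : G, g * d * g⁻¹ ∈ Subgroup.centralizer ({d} : Set G) ∧ g * d * g⁻¹ ≠ d) (S : Sylow 2 ↥(Subgroup.centralizer ({d} : Set G))) (A : Subgroup G) (hA : A = (Cfsg.thompsonSubgroupOf 2 (S : Subgroup ↥(Subgroup.centralizer ({d} : Set G)))).map (Subgroup.centralizer ({d} : Set G)).subtype) : Cfsg.IsElementaryAbelian 2 A ∧ Nat.card A = 2 ^ 10 ∧ Set.ncard {x : G | x ∈ A ∧ IsConj d x} = 22 ∧ ∀ x ∈ A, ∀ y ∈ A, IsConj d x → IsConj d y → ∃ n ∈ Subgroup.normalizer (A : Set G), n * x * n⁻¹ = y := by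
  classical
  have hd2 : d * d = 1 := by rw [← pow_two, ← hd, pow_orderOf_eq_one]
  have hdC : d ∈ Subgroup.centralizer ({d} : Set G) := Subgroup.mem_centralizer_singleton_iff.2 rfl
  have hd1 : d ≠ 1 := fun h => by rw [h, orderOf_one] at hd; exact absurd hd (by norm_num)
  set z : ↥(Subgroup.centralizer ({d} : Set G)) := ⟨d, hdC⟩ with hzdef
  let π : ↥(Subgroup.centralizer ({d} : Set G)) →* Cfsg.PSU 6 K 2 :=
    e.toMonoidHom.comp (QuotientGroup.mk' ((Subgroup.zpowers d).subgroupOf (Subgroup.centralizer ({d} : Set G))))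
  have hker : ∀ x, π x = 1 → x = 1 ∨ x = z := by
    intro x hx
    have hx' : (QuotientGroup.mk x : ↥(Subgroup.centralizer ({d} : Set G)) ⧸
        (Subgroup.zpowers d).subgroupOf (Subgroup.centralizer ({d} : Set G))) = 1 :=
      e.map_eq_one_iff.1 hx
    rw [QuotientGroup.eq_one_iff, Subgroup.mem_subgroupOf,
      (isOfFinOrder_of_finite d).mem_zpowers_iff_mem_range_orderOf, hd] at hx'
    obtain ⟨i, hi, hi'⟩ := Finset.mem_image.1 hx'
    rw [Finset.mem_range] at hi
    interval_cases i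
    · exact Or.inl (Subtype.ext (by rw [pow_zero] at hi'; exact hi'.symm))
    · exact Or.inr (Subtype.ext (by rw [pow_one] at hi'; exact hi'.symm))
  have hzk : π z = 1 := by
    refine e.map_eq_one_iff.2 ?_
    show (QuotientGroup.mk z : ↥(Subgroup.centralizer ({d} : Set G)) ⧸
        (Subgroup.zpowers d).subgroupOf (Subgroup.centralizer ({d} : Set G))) = 1
    rw [QuotientGroup.eq_one_iff, Subgroup.mem_subgroupOf]
    exact Subgroup.mem_zpowers d
  let c : H72.U6R.Cov ↥(Subgroup.centralizer ({d} : Set G)) K :=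
    ⟨π, e.surjective.comp (QuotientGroup.mk'_surjective _), z, hker, hzk,
      fun h => hd1 (congrArg Subtype.val h), Subtype.ext hd2,
      fun x => Subtype.ext (Subgroup.mem_centralizer_singleton_iff.1 x.2).symm⟩
  have hF : Fintype.card K = 2 ^ 2 := by rw [hK]; norm_num
  obtain ⟨fr⟩ := H72.U6R.exists_frame hF
  obtain ⟨g, hg⟩ := H72.U6R.thompson_eq c hF fr S
  set k : G := (g : G) with hk
  set B := H72.U6R.bigRad c fr with hB
  have hAB : A = B.map (MulAut.conj k).toMonoidHom := by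
    rw [hA, hg, hB, H72.U6R.bigRad, Subgroup.map_map, Subgroup.map_map]
    rfl
  obtain ⟨⟨hBc, hB2⟩, hBcard⟩ := H72.U6R.bigRad_elem c hF fr rfl
  have hnsq : ¬ ∃ g : G, g ^ 2 = d := (Cfsg.Agent.S5452.result d hd hq K hK e hnwc).2
  have hcount := H72.U6R.count c hF fr rfl hq.1 hnwc hnsq
  have hconj : ∀ x : G, IsConj d (k * x * k⁻¹) ↔ IsConj d x := fun x => by
    have h : IsConj x (k * x * k⁻¹) := isConj_iff.2 ⟨k, rfl⟩
    exact ⟨fun h' => h'.trans h.symm, fun h' => h'.trans h⟩
  subst hAB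
  refine ⟨⟨⟨⟨fun a b => Subtype.ext ?_⟩⟩, ?_⟩, ?_, ?_, ?_⟩
  · obtain ⟨a', ha', hae⟩ := a.2
    obtain ⟨b', hb', hbe⟩ := b.2
    show (a : G) * b = b * a
    rw [← hae, ← hbe, ← map_mul, ← map_mul]
    exact congrArg _ (congrArg Subtype.val (hBc.is_comm.comm ⟨a', ha'⟩ ⟨b', hb'⟩))
  · rintro _ ⟨x, hx, rfl⟩
    rw [← map_pow, hB2 x hx, map_one]
  · rw [Subgroup.card_map_of_injective (MulEquiv.injective _), hBcard]
    norm_num
  · rw [← hcount, show {x : G | x ∈ B.map (MulAut.conj k).toMonoidHom ∧ IsConj d x} =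
        (fun x => k * x * k⁻¹) '' {x : G | x ∈ B ∧ IsConj d x} from ?_]
    · exact Set.ncard_image_of_injective _ fun x y h => by simpa using h
    ext x
    constructor
    · rintro ⟨⟨y, hy, rfl⟩, hc⟩
      exact ⟨y, ⟨hy, (hconj y).1 hc⟩, rfl⟩
    · rintro ⟨y, ⟨hy, hc⟩, rfl⟩
      exact ⟨⟨y, hy, rfl⟩, (hconj y).2 hc⟩
  · rintro _ ⟨x, hx, rfl⟩ _ ⟨y, hy, rfl⟩ hcx hcy
    obtain ⟨m, hm, hmx⟩ := H72.U6R.exists_normalizer_conj c hF fr rfl hx ((hconj x).1 hcx)
    obtain ⟨m', hm', hmy⟩ := H72.U6R.exists_normalizer_conj c hF fr rfl hy ((hconj y).1 hcy)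
    refine ⟨k * (m' * m⁻¹) * k⁻¹, Subgroup.mem_normalizer_iff.2 fun b => ?_, ?_⟩
    · have h := Subgroup.mem_normalizer_iff.1 (mul_mem hm' (inv_mem hm)) (k⁻¹ * b * k)
      have hmem : ∀ w : G, w ∈ B.map (MulAut.conj k).toMonoidHom ↔ k⁻¹ * w * k ∈ B := fun w => by
        constructor
        · rintro ⟨v, hv, rfl⟩
          simpa [mul_assoc] using hv
        · intro hv
          exact ⟨_, hv, by simp [mul_assoc]⟩
      rw [hmem, hmem]
      refine h.trans (iff_of_eq ?_)
      congr 1
      group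
    · simp only [MulEquiv.coe_toMonoidHom, MulAut.conj_apply]
      rw [← hmy, ← hmx]
      simp only [H72.U6R.bigRad] at *
      group

end Cfsg.Agent.S5454
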