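import Cfsg.Statements.S5455
import Cfsg.Agent.H6.M22Cover.Final
import Cfsg.Agent.S5453
-- import your own Cfsg.Agent.* helpers here

set_option autoImplicit false
open Cfsg

namespace Cfsg.Agent.S5455

/-- Let G be a finite group with an involution d whose centralizer C is quasisimple, such that C modulo the subgroup generated by d is of type M(22) with respect to some conjugacy class of 3-transpositions generating it and also has an involution whose own centralizer is quasisimple with quotient by it isomorphic to the projective special unitary group of dimension 6 over the field with four elements and which is not weakly closed in that centralizer; and suppose some conjugate of d other than d commutes with d. Let S be a Sylow 2-subgroup of C and A the Thompson subgroup of S, regarded as a subgroup of G. Then A is elementary abelian of order 2^11, exactly 23 conjugates of d lie in A, and the normalizer of A permutes them transitively. -/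
theorem result {G : Type*} [Group G] [Finite G] (d : G) (hd : orderOf d = 2) (hq : Cfsg.IsQuasisimple ↥(Subgroup.centralizer ({d} : Set G))) [hzn : ((Subgroup.zpowers d).subgroupOf (Subgroup.centralizer ({d} : Set G))).Normal] (htype : ∃ E : Set (↥(Subgroup.centralizer ({d} : Set G)) ⧸ (Subgroup.zpowers d).subgroupOf (Subgroup.centralizer ({d} : Set G))), Cfsg.IsThreeTranspositionClass E ∧ Cfsg.IsOfTypeM22 _ E) (hinvol : ∃ d' : ↥(Subgroup.centralizer ({d} : Set G)) ⧸ (Subgroup.zpowers d).subgroupOf (Subgroup.centralizer ({d} : Set G)), orderOf d' = 2 ∧ Cfsg.IsQuasisimple ↥(Subgroup.centralizer ({d'} : Set _)) ∧ (∃ (K : Type) (_ : Field K) (_ : Fintype K), Fintype.card K = 4 ∧ ∃ _ : ((Subgroup.zpowers d').subgroupOf (Subgroup.centralizer ({d'} : Set _))).Normal, Nonempty (↥(Subgroup.centralizer ({d'} : Set _)) ⧸ (Subgroup.zpowers d').subgroupOf (Subgroup.centralizer ({d'} : Set _)) ≃* Cfsg.PSU 6 K 2)) ∧ ∃ g, g * d' * g⁻¹ ∈ Subgroup.centralizer ({d'} : Set _) ∧ g * d' * g⁻¹ ≠ d') (hnwc : ∃ g : G, g * d * g⁻¹ ∈ Subgroup.centralizer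 ({d} : Set G) ∧ g * d * g⁻¹ ≠ d) (S : Sylow 2 ↥(Subgroup.centralizer ({d} : Set G))) (A : Subgroup G) (hA : A = (Cfsg.thompsonSubgroupOf 2 (S : Subgroup ↥(Subgroup.centralizer ({d} : Set G)))).map (Subgroup.centralizer ({d} : Set G)).subtype) : Cfsg.IsElementaryAbelian 2 A ∧ Nat.card A = 2 ^ 11 ∧ Set.ncard {x : G | x ∈ A ∧ IsConj d x} = 23 ∧ ∀ x ∈ A, ∀ y ∈ A, IsConj d x → IsConj d y → ∃ n ∈ Subgroup.normalizer (A : Set G), n * x * n⁻¹ = y := by
  classical
  have hd2 : d * d = 1 := by rw [← pow_two, ← hd, pow_orderOf_eq_one]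
  have hdC : d ∈ Subgroup.centralizer ({d} : Set G) := Subgroup.mem_centralizer_singleton_iff.2 rfl
  obtain ⟨E, hE, h22⟩ := htype
  have hd1 : d ≠ 1 := fun h => by rw [h, orderOf_one] at hd; exact absurd hd (by norm_num)
  let c : H6.M22Cover.Dbl ↥(Subgroup.centralizer ({d} : Set G))
      (↥(Subgroup.centralizer ({d} : Set G)) ⧸
        (Subgroup.zpowers d).subgroupOf (Subgroup.centralizer ({d} : Set G))) E :=
    { π := QuotientGroup.mk' _
      surj := QuotientGroup.mk'_surjective _
      z := ⟨d, hdC⟩
      ker := by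
        intro x hx
        have hx' : (QuotientGroup.mk x : ↥(Subgroup.centralizer ({d} : Set G)) ⧸
            (Subgroup.zpowers d).subgroupOf (Subgroup.centralizer ({d} : Set G))) = 1 := hx
        rw [QuotientGroup.eq_one_iff, Subgroup.mem_subgroupOf,
          (isOfFinOrder_of_finite d).mem_zpowers_iff_mem_range_orderOf, hd] at hx'
        obtain ⟨i, hi, hi'⟩ := Finset.mem_image.1 hx'
        rw [Finset.mem_range] at hi
        interval_cases i
        · exact Or.inl (Subtype.ext (by rw [pow_zero] at hi'; exact hi'.symm))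
        · exact Or.inr (Subtype.ext (by rw [pow_one] at hi'; exact hi'.symm))
      kerz := (QuotientGroup.eq_one_iff _).2 (by
        rw [Subgroup.mem_subgroupOf]; exact Subgroup.mem_zpowers d)
      ne := fun h => hd1 (congrArg Subtype.val h)
      sq := Subtype.ext hd2
      central := fun x => Subtype.ext (Subgroup.mem_centralizer_singleton_iff.1 x.2).symm
      cls := hE
      typ := h22
      simp' := H6.M22Cover.simple_quotient d hq h22.1 }
  obtain ⟨K, hK, hJ⟩ := c.thompson_eq S
  have hA' : A = H6.M22Cover.bigRad c K := by rw [hA, hJ]; rfl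
  subst hA'
  obtain ⟨hel, hcard⟩ := H6.M22Cover.bigRad_elem c rfl hK
  have hnsq : ¬ ∃ g : G, g ^ 2 = d :=
    (Cfsg.Agent.S5453.result d hd hq ⟨E, hE, h22⟩ hinvol hnwc).2
  refine ⟨hel, hcard.trans (by norm_num), (H6.M22Cover.count c rfl hK hq.1 hnwc hnsq).1,
    fun x hx y hy hxc hyc => ?_⟩
  obtain ⟨n, hn, rfl⟩ := H6.M22Cover.exists_normalizer_conj c rfl hK hx hxc
  obtain ⟨m, hm, rfl⟩ := H6.M22Cover.exists_normalizer_conj c rfl hK hy hyc
  exact ⟨m * n⁻¹, mul_mem hm (inv_mem hn), by group⟩

end Cfsg.Agent.S5455
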