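import Cfsg.Statements.S5458
import Cfsg.Agent.H38.Fischer.Clique22

set_option autoImplicit false
open Cfsg

namespace Cfsg.Agent.S5458

open H38.Fischer22 H65.Fischer H5.TT H99

/-- Let G be a finite group with trivial centre generated by a conjugation-invariant set D of 3-transpositions on which it acts primitively, of type M(22), and suppose G also has an involution whose centralizer is quasisimple with quotient by it the projective special unitary group of dimension 6 over the field with four elements and which is not weakly closed in that centralizer. Let T be a Sylow 2-subgroup of G. Then the subgroup generated by the members of D lying in T is the Thompson subgroup of T (generated by the elementary abelian subgroups of T of largest order). -/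
theorem result {G : Type*} [Group G] [Finite G] {D : Set G} (hD : Cfsg.IsThreeTranspositionGroup D) (hprim : Cfsg.IsPrimitiveUnderConj D) (h22 : Cfsg.IsOfTypeM22 G D) (hM : ∃ d : G, orderOf d = 2 ∧ Cfsg.IsQuasisimple ↥(Subgroup.centralizer ({d} : Set G)) ∧ (∃ (_ : ((Subgroup.zpowers d).subgroupOf (Subgroup.centralizer ({d} : Set G))).Normal) (K : Type) (_ : Field K) (_ : Fintype K), Fintype.card K = 4 ∧ Nonempty (↥(Subgroup.centralizer ({d} : Set G)) ⧸ (Subgroup.zpowers d).subgroupOf (Subgroup.centralizer ({d} : Set G)) ≃* Cfsg.PSU 6 K 2)) ∧ ∃ g : G, g * d * g⁻¹ ∈ Subgroup.centralizer ({d} : Set G) ∧ g * d * g⁻¹ ≠ d) (T : Sylow 2 G) : Subgroup.closure {x : G | x ∈ D ∧ x ∈ (T : Subgroup G)} = Cfsg.thompsonSubgroupOf 2 (T : Subgroup G) := by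
  classical
  obtain ⟨F, hFi, hFf, hF, hloc⟩ := exists_loc22 hD hprim h22
  obtain ⟨F', hFi', hFf', -, hall⟩ := m22_down hD hprim h22
  have hG := m22_good hD hprim h22
  obtain ⟨d, hd⟩ := Set.nonempty_of_ncard_ne_zero (s := D) (by rw [hG.srg.card]; norm_num)
  have hV := (hall d hd).1.twin
  have hT := hD.1
  obtain ⟨K, hK, hKT, hnorm⟩ := exists_fixed_clique hT hD.2.1 (cliques_odd hF hloc hG.srg.card) T
  have hclq : GClq D {x : G | x ∈ D ∧ x ∈ (T : Subgroup G)} := by
    refine ⟨fun x hx => hx.1, fun a ha b hb => ?_⟩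
    by_contra hne
    have h3 := tt_cube_of_not_commute hT ha.1 hb.1 hne
    have h1 : a * b = 1 := by
      have := T.isPGroup' ⟨a * b, mul_mem ha.2 hb.2⟩
      obtain ⟨k, hk⟩ := this
      have hk' : (a * b) ^ 2 ^ k = 1 := congrArg Subtype.val hk
      have hcop : Nat.Coprime (2 ^ k) 3 := Nat.Coprime.pow_left k (by norm_num)
      exact orderOf_eq_one_iff.1 (Nat.eq_one_of_dvd_coprimes hcop
        (orderOf_dvd_of_pow_eq_one hk') (orderOf_dvd_of_pow_eq_one h3))
    exact hne (eq_inv_of_mul_eq_one_left h1 ▸ (Commute.refl b).inv_left)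
  have hXK : {x : G | x ∈ D ∧ x ∈ (T : Subgroup G)} = K := by
    refine (Set.eq_of_subset_of_ncard_le (s := K) (t := {x : G | x ∈ D ∧ x ∈ (T : Subgroup G)}) (fun x hx => ⟨hK.1.1 hx, hKT hx⟩) ?_ (Set.toFinite _)).symm
    rw [hK.2]
    exact gclq_le hF hloc hclq
  rw [hXK]
  set A := Subgroup.closure K with hA
  have hAT : A ≤ (T : Subgroup G) := (Subgroup.closure_le _).2 hKT
  obtain ⟨hAc, hAs⟩ := closure_elementary hT hK.1
  have hAel : IsElementaryAbelian 2 (A.subgroupOf (T : Subgroup G)) :=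
    ⟨⟨⟨fun a b => Subtype.ext (Subtype.ext (hAc _ a.2 _ b.2).eq)⟩⟩,
      fun a ha => Subtype.ext (by rw [pow_two]; exact hAs _ ha)⟩
  have hmax : ∀ E ∈ maxElementaryAbelianSubgroups 2 ↥(T : Subgroup G),
      E.map (T : Subgroup G).subtype = A := by
    rintro E ⟨⟨hEc, hEs⟩, hEmax⟩
    refine elementary_unique hF hloc hT hV hK _ ?_ ?_ ?_ ?_
    · rintro _ ⟨b, hb, rfl⟩
      have := congrArg Subtype.val (hEs b hb)
      rw [pow_two] at this
      exact this
    · rintro _ ⟨b, hb, rfl⟩ _ ⟨c, hc, rfl⟩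
      exact congrArg Subtype.val (congrArg Subtype.val (hEc.is_comm.comm ⟨b, hb⟩ ⟨c, hc⟩))
    · rintro _ ⟨b, -, rfl⟩ x hx
      exact hnorm b b.2 x hx
    · rw [← Nat.card_congr (E.equivMapOfInjective _ (Subgroup.subtype_injective _)).toEquiv,
        ← Nat.card_congr (Subgroup.subgroupOfEquivOfLe hAT).toEquiv]
      exact hEmax _ hAel
  obtain ⟨E, hE, hEmax⟩ := Set.exists_max_image {E : Subgroup ↥(T : Subgroup G) | IsElementaryAbelian 2 E}
    (fun E => Nat.card E) (Set.toFinite _) ⟨_, hAel⟩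
  have hEM : E ∈ maxElementaryAbelianSubgroups 2 ↥(T : Subgroup G) := ⟨hE, hEmax⟩
  refine le_antisymm ?_ (Subgroup.map_le_iff_le_comap.2 (sSup_le fun E' hE' =>
    Subgroup.map_le_iff_le_comap.1 (hmax E' hE').le))
  rw [← hmax E hEM]
  exact Subgroup.map_mono (le_sSup hEM)

end Cfsg.Agent.S5458
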