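import Cfsg.Statements.S5459


set_option autoImplicit false
open Cfsg

namespace Cfsg.Agent.S5459

/-- Let G be a finite group with a quasisimple normal subgroup L and an involution d such that G is generated by L and d, the centre of L has odd order, and d inverts every element of the centre of L. If the commuting graph on the conjugacy class of the image of d in G modulo the centre of L is connected, then the commuting graph on the conjugacy class of d is connected. -/
theorem result {G : Type*} [Group G] [Finite G] (L : Subgroup G) [L.Normal] (hL : Cfsg.IsQuasisimple ↥L) (d : G) (hd : orderOf d = 2) (hgen : L ⊔ Subgroup.zpowers d = ⊤) (hodd : Odd (Nat.card ↥(Subgroup.center ↥L))) (hinv : ∀ c ∈ (Subgroup.center ↥L).map L.subtype, d * c * d⁻¹ = c⁻¹) [hn : ((Subgroup.center ↥L).map L.subtype).Normal] (hconn : (Cfsg.commutingGraph (conjugatesOf (QuotientGroup.mk d : G ⧸ (Subgroup.center ↥L).map L.subtype))).Connected) : (Cfsg.commutingGraph (conjugatesOf d)).Connected := by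
  classical
  set Zc : Subgroup G := (Subgroup.center ↥L).map L.subtype with hZcdef
  have hdd : d * d = 1 := by rw [← pow_two, ← hd, pow_orderOf_eq_one]
  have hdi : d⁻¹ = d := inv_eq_of_mul_eq_one_right hdd
  let D : Set G := conjugatesOf d
  have hD : ∀ {x : G}, x ∈ D → ∀ g : G, g * x * g⁻¹ ∈ D := fun {x} hx g =>
    IsConj.trans hx (isConj_iff.mpr ⟨g, rfl⟩)
  have hZab : ∀ c ∈ Zc, ∀ c' ∈ Zc, c * c' = c' * c := by
    rintro c ⟨c, hc, rfl⟩ c' ⟨c', hc', rfl⟩
    exact congrArg Subtype.val (Subgroup.mem_center_iff.mp hc' c)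
  have hoddc : Odd (Nat.card Zc) := by
    rw [hZcdef, ← Nat.card_congr (Subgroup.equivMapOfInjective _ L.subtype L.subtype_injective).toEquiv]
    exact hodd
  have hDinv : ∀ x ∈ D, ∀ c ∈ Zc, x * c * x⁻¹ = c⁻¹ := by
    intro x hx c hc
    obtain ⟨g, rfl⟩ := isConj_iff.mp hx
    have h1 : g⁻¹ * c * g ∈ Zc := by simpa using hn.conj_mem c hc g⁻¹
    calc g * d * g⁻¹ * c * (g * d * g⁻¹)⁻¹ = g * (d * (g⁻¹ * c * g) * d⁻¹) * g⁻¹ := by group
      _ = c⁻¹ := by rw [hinv _ h1]; group
  have hroot : ∀ c ∈ Zc, ∃ r ∈ Zc, r * r = c := by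
    intro c hc
    obtain ⟨k, hk⟩ := hoddc
    refine ⟨c ^ (k + 1), pow_mem hc _, ?_⟩
    rw [← pow_add, show k + 1 + (k + 1) = (2 * k + 1) + 1 by ring, pow_succ, ← hk]
    have h : ((⟨c, hc⟩ : Zc) : Zc) ^ Nat.card Zc = 1 := pow_card_eq_one'
    have := congrArg Subtype.val h
    simp only [SubgroupClass.coe_pow, OneMemClass.coe_one] at this
    rw [this, one_mul]
  have hfib : ∀ x ∈ D, ∀ c ∈ Zc, ∃ r ∈ Zc, r * x * r⁻¹ = x * c := by
    intro x hx c hc
    obtain ⟨r, hr, hrr⟩ := hroot c⁻¹ (inv_mem hc)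
    refine ⟨r, hr, ?_⟩
    have h := hDinv x hx r hr
    have h1 : r * x = x * r⁻¹ := by
      calc r * x = (x * r * x⁻¹)⁻¹ * x := by rw [h, inv_inv]
        _ = x * r⁻¹ := by group
    rw [h1, mul_assoc, ← mul_inv_rev, hrr, inv_inv]
  let x₀ : conjugatesOf d := ⟨d, mem_conjugatesOf_self⟩
  let gr := Cfsg.commutingGraph (conjugatesOf d)
  let R : conjugatesOf d → Prop := fun y => gr.Reachable x₀ y
  let conjF : G → conjugatesOf d → conjugatesOf d := fun g y => ⟨g * y.1 * g⁻¹, hD y.2 g⟩
  have hadj : ∀ a b : conjugatesOf d, Commute (a : G) b → gr.Reachable a b := by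
    intro a b h
    by_cases hab : a = b
    · exact hab ▸ SimpleGraph.Reachable.rfl
    · exact SimpleGraph.Adj.reachable ((SimpleGraph.fromRel_adj _ _ _).mpr ⟨hab, Or.inl h⟩)
  have hmap : ∀ g a b, gr.Reachable a b → gr.Reachable (conjF g a) (conjF g b) := by
    intro g a b hab
    refine hab.map (⟨conjF g, ?_⟩ : gr →g gr)
    intro p q hpq
    obtain ⟨hne, hor⟩ := (SimpleGraph.fromRel_adj _ _ _).mp hpq
    refine (SimpleGraph.fromRel_adj _ _ _).mpr ⟨fun h => hne ?_, ?_⟩
    · have := congrArg Subtype.val h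
      exact Subtype.ext (mul_left_cancel (mul_right_cancel this))
    · refine hor.imp (fun h => ?_) (fun h => ?_) <;>
      · exact h.map (MulAut.conj g).toMonoidHom
  let H : Subgroup G :=
    { carrier := {g | gr.Reachable x₀ (conjF g x₀)}
      one_mem' := by
        show gr.Reachable x₀ (conjF 1 x₀)
        rw [show conjF 1 x₀ = x₀ from Subtype.ext (by simp [conjF])]
      mul_mem' := by
        intro a b ha hb
        show gr.Reachable x₀ (conjF (a * b) x₀)
        rw [show conjF (a * b) x₀ = conjF a (conjF b x₀) from Subtype.ext (by simp [conjF, mul_assoc])]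
        exact ha.trans (hmap a _ _ hb)
      inv_mem' := by
        intro a ha
        show gr.Reachable x₀ (conjF a⁻¹ x₀)
        have := hmap a⁻¹ _ _ ha
        rw [show conjF a⁻¹ (conjF a x₀) = x₀ from Subtype.ext (by simp [conjF, mul_assoc])] at this
        exact this.symm }
  -- members of the component stabilise it
  have hmemH : ∀ y, R y → y.1 ∈ H := by
    intro y hy
    have := hmap y.1 _ _ hy
    rw [show conjF y.1 y = y from Subtype.ext (by simp [conjF])] at this
    exact hy.trans this.symm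
  -- every fibre meets the component
  have hlift : ∀ {u v}, (Cfsg.commutingGraph (conjugatesOf (QuotientGroup.mk d : G ⧸ Zc))).Walk u v →
      ∀ y : conjugatesOf d, R y → (QuotientGroup.mk y.1 : G ⧸ Zc) = u.1 →
      ∃ y' : conjugatesOf d, R y' ∧ (QuotientGroup.mk y'.1 : G ⧸ Zc) = v.1 := by
    intro u v w
    induction w with
    | nil => exact fun y hy h => ⟨y, hy, h⟩
    | @cons u w v hstep w' ih =>
      intro y hy hyu
      obtain ⟨g, hg⟩ := isConj_iff.mp w.2
      obtain ⟨g, rfl⟩ := QuotientGroup.mk_surjective g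
      have he : g * d * g⁻¹ ∈ D := hD mem_conjugatesOf_self g
      set e := g * d * g⁻¹ with hedef
      have hew : (QuotientGroup.mk e : G ⧸ Zc) = w.1 := by
        rw [← hg, hedef, QuotientGroup.mk_mul, QuotientGroup.mk_mul, QuotientGroup.mk_inv]
      have hcom : Commute (QuotientGroup.mk y.1 : G ⧸ Zc) (QuotientGroup.mk e) := by
        rw [hyu, hew]
        obtain ⟨-, h⟩ := (SimpleGraph.fromRel_adj _ _ _).mp hstep
        rcases h with h | h
        · exact h
        · exact h.symm
      have hsq : ∀ x ∈ D, x * x = 1 := by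
        intro x hx
        obtain ⟨a, rfl⟩ := isConj_iff.mp hx
        calc a * d * a⁻¹ * (a * d * a⁻¹) = a * (d * d) * a⁻¹ := by group
          _ = 1 := by rw [hdd]; group
      have hc : (y.1 * e) * (y.1 * e) ∈ Zc := by
        rw [← QuotientGroup.eq_one_iff, QuotientGroup.mk_mul, QuotientGroup.mk_mul]
        have h1 : (QuotientGroup.mk y.1 : G ⧸ Zc) * QuotientGroup.mk y.1 = 1 := by
          rw [← QuotientGroup.mk_mul, hsq y.1 y.2, QuotientGroup.mk_one]
        have h2 : (QuotientGroup.mk e : G ⧸ Zc) * QuotientGroup.mk e = 1 := by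
          rw [← QuotientGroup.mk_mul, hsq e he, QuotientGroup.mk_one]
        calc _ = (QuotientGroup.mk y.1 : G ⧸ Zc) * (QuotientGroup.mk e * QuotientGroup.mk y.1) * QuotientGroup.mk e := by group
          _ = (QuotientGroup.mk y.1 * QuotientGroup.mk y.1) * (QuotientGroup.mk e * QuotientGroup.mk e) := by rw [← hcom.eq]; group
          _ = 1 := by rw [h1, h2, one_mul]
      set c := (y.1 * e) * (y.1 * e) with hcdef
      obtain ⟨r, hr, hrr⟩ := hroot c hc
      -- e' = r * e
      obtain ⟨s, hs, hse⟩ := hfib e he (e⁻¹ * r * e) (by simpa using hn.conj_mem r hr e⁻¹)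
      have he' : r * e ∈ D := by
        have := hD he s
        rwa [hse, show e * (e⁻¹ * r * e) = r * e by group] at this
      have hz : ∀ z ∈ Zc, Commute (y.1 * e) z := by
        intro z hz
        refine mul_inv_eq_iff_eq_mul.mp ?_
        calc y.1 * e * z * (y.1 * e)⁻¹ = y.1 * (e * z * e⁻¹) * y.1⁻¹ := by group
          _ = z := by rw [hDinv e he z hz, hDinv y.1 y.2 _ (inv_mem hz), inv_inv]
      have hcomm : Commute y.1 (r * e) := by
        have h1 : y.1 * r = r⁻¹ * y.1 := mul_inv_eq_iff_eq_mul.mp (hDinv y.1 y.2 r hr)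
        have hsq2 : (y.1 * (r * e)) * (y.1 * (r * e)) = 1 := by
          rw [show y.1 * (r * e) = r⁻¹ * (y.1 * e) by rw [← mul_assoc, h1, mul_assoc]]
          calc r⁻¹ * (y.1 * e) * (r⁻¹ * (y.1 * e)) = r⁻¹ * ((y.1 * e) * r⁻¹) * (y.1 * e) := by group
            _ = r⁻¹ * (r⁻¹ * (y.1 * e)) * (y.1 * e) := by rw [(hz r⁻¹ (inv_mem hr)).eq]
            _ = (r * r)⁻¹ * c := by rw [hcdef]; group
            _ = 1 := by rw [hrr, inv_mul_cancel]
        have h2 := inv_eq_of_mul_eq_one_right hsq2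
        rw [mul_inv_rev, inv_eq_of_mul_eq_one_right (hsq _ y.2), inv_eq_of_mul_eq_one_right (hsq _ he')] at h2
        exact h2.symm
      refine ih ⟨r * e, he'⟩ (hy.trans (hadj y ⟨r * e, he'⟩ hcomm)) ?_
      show (QuotientGroup.mk (r * e) : G ⧸ Zc) = w.1
      rw [QuotientGroup.mk_mul, (QuotientGroup.eq_one_iff r).mpr hr, one_mul, hew]
  have hsurj : ∀ x ∈ D, ∃ y : conjugatesOf d, R y ∧ y.1⁻¹ * x ∈ Zc := by
    intro x hx
    have hx' : (QuotientGroup.mk x : G ⧸ Zc) ∈ conjugatesOf (QuotientGroup.mk d : G ⧸ Zc) :=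
      ((QuotientGroup.mk' Zc).map_isConj hx)
    obtain ⟨w⟩ := hconn.preconnected ⟨_, mem_conjugatesOf_self⟩ ⟨_, hx'⟩
    obtain ⟨y, hy, hyx⟩ := hlift w x₀ SimpleGraph.Reachable.rfl rfl
    exact ⟨y, hy, QuotientGroup.eq.mp hyx⟩
  -- the centre of L stabilises the component
  have hZH : Zc ≤ H := by
    let N : Subgroup G := Subgroup.normalClosure {d}
    have hNH : ∀ n ∈ N, ∃ h ∈ H, h⁻¹ * n ∈ Zc := by
      have : N ≤ H ⊔ Zc := by
        show Subgroup.closure (Group.conjugatesOfSet {d}) ≤ _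
        rw [Subgroup.closure_le, Group.conjugatesOfSet]
        simp only [Set.mem_singleton_iff, Set.iUnion_iUnion_eq_left]
        intro x hx
        obtain ⟨y, hy, hyx⟩ := hsurj x hx
        have : y.1 * (y.1⁻¹ * x) ∈ H ⊔ Zc :=
          mul_mem (Subgroup.mem_sup_left (hmemH y hy)) (Subgroup.mem_sup_right hyx)
        simpa using this
      intro n hn'
      obtain ⟨h, hh, z, hz, rfl⟩ := Subgroup.mem_sup_of_normal_right.mp (this hn')
      exact ⟨h, hh, by simpa using hz⟩
    have hnL : (N.subgroupOf L).Normal := inferInstance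
    have : IsSimpleGroup (↥L ⧸ Subgroup.center ↥L) := hL.2
    have hperf : commutator ↥L = ⊤ := hL.1.commutator_eq_top
    rcases (hnL.map (QuotientGroup.mk' (Subgroup.center ↥L)) (QuotientGroup.mk'_surjective _)).eq_bot_or_eq_top with hbot | htop
    · -- d centralises L
      have hc : ∀ l : L, d * l.1 * d⁻¹ * l.1⁻¹ ∈ Zc := by
        intro l
        have hm : d * l.1 * d⁻¹ * l.1⁻¹ ∈ N := by
          have hdN : d ∈ N := Subgroup.subset_normalClosure rfl
          have := mul_mem hdN ((inferInstance : N.Normal).conj_mem _ (inv_mem hdN) l.1)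
          simpa [mul_assoc] using this
        have hmL : d * l.1 * d⁻¹ * l.1⁻¹ ∈ L :=
          mul_mem ((inferInstance : L.Normal).conj_mem _ l.2 d) (inv_mem l.2)
        have hmem : QuotientGroup.mk' (Subgroup.center ↥L) ⟨_, hmL⟩ ∈ (N.subgroupOf L).map (QuotientGroup.mk' (Subgroup.center ↥L)) := ⟨_, hm, rfl⟩
        rw [hbot, Subgroup.mem_bot, QuotientGroup.mk'_apply, QuotientGroup.eq_one_iff] at hmem
        exact ⟨_, hmem, rfl⟩
      let φ : L →* G :=
        { toFun := fun l => d * l.1 * d⁻¹ * l.1⁻¹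
          map_one' := by simp
          map_mul' := by
            intro a b
            obtain ⟨c, hcc, hce⟩ := hc b
            have hcm : a.1 * c.1 = c.1 * a.1 := congrArg Subtype.val (Subgroup.mem_center_iff.mp hcc a)
            have hce' : d * b.1 * d⁻¹ * b.1⁻¹ = c.1 := hce.symm
            rw [hce']
            simp only [Subgroup.coe_mul, mul_inv_rev]
            calc d * (a.1 * b.1) * d⁻¹ * (b.1⁻¹ * a.1⁻¹)
                = d * a.1 * d⁻¹ * (d * b.1 * d⁻¹ * b.1⁻¹) * a.1⁻¹ := by group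
              _ = d * a.1 * d⁻¹ * c.1 * a.1⁻¹ := by rw [hce']
              _ = d * a.1 * d⁻¹ * (a.1⁻¹ * (a.1 * c.1)) * a.1⁻¹ := by group
              _ = d * a.1 * d⁻¹ * (a.1⁻¹ * (c.1 * a.1)) * a.1⁻¹ := by rw [hcm]
              _ = d * a.1 * d⁻¹ * a.1⁻¹ * c.1 := by group }
      have hker : commutator ↥L ≤ φ.ker := by
        show ⁅(⊤ : Subgroup ↥L), ⊤⁆ ≤ _
        rw [Subgroup.commutator_le]
        intro a _ b _
        simp only [MonoidHom.mem_ker, commutatorElement_def, map_mul, map_inv]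
        have : φ a * φ b = φ b * φ a := hZab _ (hc a) _ (hc b)
        rw [this]; group
      rw [hperf] at hker
      intro c hcZ
      have h0 : d * c * d⁻¹ * c⁻¹ = 1 := hker (Subgroup.mem_top ⟨c, Subgroup.map_subtype_le _ hcZ⟩)
      rw [hinv c hcZ] at h0
      have hcc : (c * c) = 1 := by
        have := congrArg (·⁻¹) h0
        simpa using this
      have : c = 1 := by
        obtain ⟨k, hk⟩ := hoddc
        have h : (⟨c, hcZ⟩ : Zc) ^ Nat.card Zc = 1 := pow_card_eq_one'
        have h' := congrArg Subtype.val h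
        simp only [SubgroupClass.coe_pow, OneMemClass.coe_one] at h'
        rw [hk, pow_succ, pow_mul, pow_two, hcc, one_pow, one_mul] at h'
        exact h'
      rw [this]; exact one_mem _
    · -- N contains L
      have hall : ∀ l : L, ∃ h : L, h.1 ∈ H ∧ ∃ z ∈ Subgroup.center ↥L, l = h * z := by
        intro l
        have : QuotientGroup.mk' (Subgroup.center ↥L) l ∈ (N.subgroupOf L).map (QuotientGroup.mk' (Subgroup.center ↥L)) := by
          rw [htop]; trivial
        obtain ⟨n, hn', hnl⟩ := this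
        obtain ⟨h, hh, hhn⟩ := hNH n.1 hn'
        have hhL : h ∈ L := by
          have := mul_mem n.2 (inv_mem (Subgroup.map_subtype_le _ hhn))
          simpa using this
        obtain ⟨c, hc, hce⟩ := hhn
        refine ⟨⟨h, hhL⟩, hh, c * (n⁻¹ * l), mul_mem hc (QuotientGroup.eq.mp hnl), ?_⟩
        have : n = ⟨h, hhL⟩ * c := by
          apply Subtype.ext
          rw [Subgroup.coe_mul, show (c : G) = h⁻¹ * n.1 from hce]
          group
        rw [← mul_assoc, ← this]
        group
      have hker : commutator ↥L ≤ H.subgroupOf L := by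
        show ⁅(⊤ : Subgroup ↥L), ⊤⁆ ≤ _
        rw [Subgroup.commutator_le]
        intro a _ b _
        obtain ⟨h1, hh1, z1, hz1, rfl⟩ := hall a
        obtain ⟨h2, hh2, z2, hz2, rfl⟩ := hall b
        have e : h1 * z1 * (h2 * z2) * (h1 * z1)⁻¹ * (h2 * z2)⁻¹ = h1 * h2 * h1⁻¹ * h2⁻¹ := by
          have a1 := Subgroup.mem_center_iff.mp hz1
          have a2 := Subgroup.mem_center_iff.mp hz2
          simp only [mul_inv_rev]
          calc h1 * z1 * (h2 * z2) * (z1⁻¹ * h1⁻¹) * (z2⁻¹ * h2⁻¹)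
              = h1 * (z1 * (h2 * z2)) * (z1⁻¹ * h1⁻¹) * (z2⁻¹ * h2⁻¹) := by group
            _ = h1 * ((h2 * z2) * z1) * (z1⁻¹ * h1⁻¹) * (z2⁻¹ * h2⁻¹) := by rw [← a1 (h2 * z2)]
            _ = h1 * h2 * (z2 * h1⁻¹) * (z2⁻¹ * h2⁻¹) := by group
            _ = h1 * h2 * (h1⁻¹ * z2) * (z2⁻¹ * h2⁻¹) := by rw [a2 h1⁻¹]
            _ = h1 * h2 * h1⁻¹ * h2⁻¹ := by group
        rw [commutatorElement_def, e]
        exact Subgroup.mem_subgroupOf.mpr (by
          simp only [Subgroup.coe_mul, Subgroup.coe_inv]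
          exact mul_mem (mul_mem (mul_mem hh1 hh2) (inv_mem hh1)) (inv_mem hh2))
      rw [hperf] at hker
      intro c hcZ
      exact hker (Subgroup.mem_top ⟨c, Subgroup.map_subtype_le _ hcZ⟩)
  have hreach : ∀ x : conjugatesOf d, R x := by
    intro x
    obtain ⟨y, hy, hyx⟩ := hsurj x.1 x.2
    obtain ⟨r, hr, hrx⟩ := hfib y.1 y.2 _ hyx
    have h2 : x = conjF r y := Subtype.ext (by
      show x.1 = r * y.1 * r⁻¹
      rw [hrx]; group)
    rw [h2]
    exact (hZH hr).trans (hmap r _ _ hy)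
  exact (SimpleGraph.connected_iff _).mpr ⟨fun a b => (hreach a).symm.trans (hreach b), ⟨x₀⟩⟩

end Cfsg.Agent.S5459
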