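import Cfsg.Statements.S5463
import Cfsg.Agent.H5.TT.Triples

set_option autoImplicit false
open Cfsg

namespace Cfsg.Agent.S5463

/-- Let G be a finite group with trivial centre generated by a conjugation-invariant set D of 3-transpositions on which it acts primitively, such that for some d in D the subgroup generated by the members of D other than d commuting with d has central largest normal 2- and 3-subgroups, and suppose G with D is of type M(22). A product j of two distinct commuting members of D determines the pair: any two 2-element sets of commuting members of D with product j coincide. A product j of three distinct pairwise commuting members of D arises from exactly two such 3-element sets. -/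
theorem result {G : Type*} [Group G] [Finite G] {D : Set G} (hD : Cfsg.IsThreeTranspositionGroup D) (hprim : Cfsg.IsPrimitiveUnderConj D) (d₀ : G) (hd₀ : d₀ ∈ D) (h3 : Cfsg.pCore 3 ↥(Subgroup.closure {y : G | y ∈ D ∧ y ≠ d₀ ∧ Commute d₀ y}) ≤ Subgroup.center ↥(Subgroup.closure {y : G | y ∈ D ∧ y ≠ d₀ ∧ Commute d₀ y})) (h2 : Cfsg.pCore 2 ↥(Subgroup.closure {y : G | y ∈ D ∧ y ≠ d₀ ∧ Commute d₀ y}) ≤ Subgroup.center ↥(Subgroup.closure {y : G | y ∈ D ∧ y ≠ d₀ ∧ Commute d₀ y})) (h22 : Cfsg.IsOfTypeM22 G D) : (∀ (j : G) (l l' : List G), (l.Nodup ∧ l.length = 2 ∧ (∀ a ∈ l, a ∈ D) ∧ (∀ a ∈ l, ∀ b ∈ l, Commute a b) ∧ l.prod = j) → (l'.Nodup ∧ l'.length = 2 ∧ (∀ a ∈ l', a ∈ D) ∧ (∀ a ∈ l', ∀ b ∈ l', Commute a b) ∧ l'.prod = j) → (∀ x : G, x ∈ l ↔ x ∈ l')) ∧ ∀ (j : G) (l₀ : List G), (l₀.Nodup ∧ l₀.length = 3 ∧ (∀ a ∈ l₀, a ∈ D) ∧ (∀ a ∈ l₀, ∀ b ∈ l₀, Commute a b) ∧ l₀.prod = j) → ∃ l₁ l₂ : List G, (l₁.Nodup ∧ l₁.length = 3 ∧ (∀ a ∈ l₁, a ∈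 D) ∧ (∀ a ∈ l₁, ∀ b ∈ l₁, Commute a b) ∧ l₁.prod = j) ∧ (l₂.Nodup ∧ l₂.length = 3 ∧ (∀ a ∈ l₂, a ∈ D) ∧ (∀ a ∈ l₂, ∀ b ∈ l₂, Commute a b) ∧ l₂.prod = j) ∧ ¬ (∀ x : G, x ∈ l₁ ↔ x ∈ l₂) ∧ ∀ l : List G, (l.Nodup ∧ l.length = 3 ∧ (∀ a ∈ l, a ∈ D) ∧ (∀ a ∈ l, ∀ b ∈ l, Commute a b) ∧ l.prod = j) → ((∀ x : G, x ∈ l ↔ x ∈ l₁) ∨ (∀ x : G, x ∈ l ↔ x ∈ l₂)) := by
  obtain ⟨hZ, d, hd, c, -, -, ⟨F, hFi, hFf, hFc, ⟨e⟩⟩, -⟩ := h22
  have hF : Fintype.card F = 2 ^ 2 := by rw [hFc]; norm_num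
  have hcl := H99.class_of_primitive hD hprim
  have hV : H5.TT.Fac.NoTwin D := fun a ha v hv => H99.prim_vRel_eq hcl hprim ha hv
  refine ⟨fun j l l' hl hl' => H5.TT.Fac.pair_list hD.1 hV hl hl', ?_⟩
  intro j l₀ h₀
  have hU := H5.TT.Fac.exists_coord hD e hF (fun s hs => hprim.1 d hd s hs)
  have hdesc : ∀ a ∈ D, H5.TT.Fac.Desc D a := fun a ha => by
    obtain ⟨U⟩ := hU a ha
    exact (H5.TT.Fac.top_desc hD hprim ha (U.nc hF)).2.2
  have h₀' := h₀
  obtain ⟨hn, hl, hm, hc, hp⟩ := h₀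
  obtain ⟨a, b, c, rfl⟩ := List.length_eq_three.1 hl
  simp only [List.nodup_cons, List.mem_cons, List.not_mem_nil, or_false, not_or,
    List.nodup_nil, and_true] at hn
  obtain ⟨⟨hab, hac⟩, hbc, -⟩ := hn
  have ha := hm a (by simp)
  have pb : b ∈ H99.perp D a := ⟨hm b (by simp), Ne.symm hab, hc a (by simp) b (by simp)⟩
  have pc : c ∈ H99.perp D a := ⟨hm c (by simp), Ne.symm hac, hc a (by simp) c (by simp)⟩
  have cbc : Commute b c := hc b (by simp) c (by simp)
  obtain ⟨p, q, r, hp', hq', hr', hpq, hpr, hqr, hone, hall⟩ :=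
    H5.TT.Fac.exists_hexad hF hcl hprim hZ hdesc hU ha pb pc hbc cbc
  have cpq : Commute p q := hq'.2.2.2 p hp'.1 (hp'.2.2.2 b pb (Commute.refl b) cbc).symm
    (hp'.2.2.2 c pc cbc.symm (Commute.refl c)).symm
  have cpr : Commute p r := hr'.2.2.2 p hp'.1 (hp'.2.2.2 b pb (Commute.refl b) cbc).symm
    (hp'.2.2.2 c pc cbc.symm (Commute.refl c)).symm
  have cqr : Commute q r := hr'.2.2.2 q hq'.1 (hq'.2.2.2 b pb (Commute.refl b) cbc).symm
    (hq'.2.2.2 c pc cbc.symm (Commute.refl c)).symm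
  have hj : j = a * b * c := by rw [← hp]; simp [mul_assoc]
  have hpqr : p * q * r * (p * q * r) = 1 := by
    calc p * q * r * (p * q * r) = p * q * (r * p) * q * r := by group
      _ = p * (q * p) * (r * q) * r := by rw [← cpr.eq]; group
      _ = (p * p) * (q * q) * (r * r) := by rw [← cpq.eq, ← cqr.eq]; group
      _ = 1 := by
        rw [H99.tt_mul_self hD.1 hp'.1.1, H99.tt_mul_self hD.1 hq'.1.1,
          H99.tt_mul_self hD.1 hr'.1.1]
        simp
  have h₂ : H5.TT.Fac.IsFac D 3 j [p, q, r] := by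
    refine ⟨by simp [hpq, hpr, hqr], rfl, ?_, ?_, ?_⟩
    · simp only [List.forall_mem_cons, List.not_mem_nil, false_imp_iff, implies_true, and_true]
      exact ⟨hp'.1.1, hq'.1.1, hr'.1.1⟩
    · intro x hx y hy
      simp only [List.mem_cons, List.not_mem_nil, or_false] at hx hy
      rcases hx with rfl | rfl | rfl <;> rcases hy with rfl | rfl | rfl <;>
        first | exact Commute.refl _ | assumption | (exact Commute.symm ‹_›)
    · rw [hj]
      calc [p, q, r].prod = 1 * (p * q * r) := by simp [mul_assoc]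
        _ = a * b * c * (p * q * r * (p * q * r)) := by rw [← hone]; group
        _ = a * b * c := by rw [hpqr, mul_one]
  refine ⟨[a, b, c], [p, q, r], h₀', h₂, fun h => ?_, fun l hl => ?_⟩
  · have := (h a).1 (by simp)
    simp only [List.mem_cons, List.not_mem_nil, or_false] at this
    rcases this with e' | e' | e'
    · exact hp'.1.2.1 e'.symm
    · exact hq'.1.2.1 e'.symm
    · exact hr'.1.2.1 e'.symm
  · by_cases hs : ∃ m, m ∈ l ∧ m ∈ [a, b, c]
    · obtain ⟨m, hm1, hm2⟩ := hs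
      exact Or.inl (H5.TT.Fac.list_share hD.1 hV hl h₀' hm1 hm2)
    refine Or.inr ?_
    push Not at hs
    have hsub : l ⊆ [p, q, r] := by
      intro x hx
      have hne := hs x hx
      simp only [List.mem_cons, List.not_mem_nil, or_false, not_or] at hne
      obtain ⟨hxa, hxb, hxc⟩ := hne
      have hcx := H5.TT.Fac.cross_commute hD.1 h₀' hl x hx
      have := hall x ⟨⟨hl.2.2.1 x hx, hxa, (hcx a (by simp)).symm⟩, hxb, hxc,
        fun w hw hwb hwc => H5.TT.Fac.commute_factor hD.1 hl hw.1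
          (H5.TT.Fac.commute_prod h₀' (by
            simp only [List.forall_mem_cons, List.not_mem_nil, false_imp_iff, implies_true, and_true]
            exact ⟨hw.2.2.symm, hwb, hwc⟩)) x hx⟩
      simpa using this
    have hperm := (List.subperm_of_subset hl.1 hsub).perm_of_length_le (by simp [hl.2.1])
    exact fun x => hperm.mem_iff

end Cfsg.Agent.S5463
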