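import Cfsg.Statements.S5467
import Cfsg.Agent.H49.Sextet.Main
-- import your own Cfsg.Agent.* helpers here

set_option autoImplicit false
open Cfsg

namespace Cfsg.Agent.S5467

open scoped commutatorElement

/-- The kernel of the parity is the commutator subgroup. -/
lemma ker_eq_commutator {G : Type*} [Group G] {D : Set G} (hD : Cfsg.IsThreeTranspositionGroup D)
    (hp : Cfsg.IsPrimitiveUnderConj D) {φ : G →* ℤˣ} (hφ : ∀ d ∈ D, φ d = -1) :
    commutator G = φ.ker := by
  refine le_antisymm (Abelianization.commutator_subset_ker φ) ?_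
  obtain ⟨d, hd, -⟩ := hp.2.1
  have hK : commutator G ⊔ Subgroup.zpowers d = ⊤ := by
    rw [eq_top_iff, ← hD.2.2, Subgroup.closure_le]
    intro x hx
    obtain ⟨g, rfl⟩ := hp.1 d hd x hx
    rw [show g * d * g⁻¹ = ⁅g, d⁆ * d by simp only [commutatorElement_def]; group]
    exact Subgroup.mul_mem_sup (Subgroup.commutator_mem_commutator (Subgroup.mem_top g) (Subgroup.mem_top d))
      (Subgroup.mem_zpowers d)
  intro g hg
  obtain ⟨c, hc, y, hy, rfl⟩ := Subgroup.mem_sup_of_normal_left.1 (hK.symm ▸ Subgroup.mem_top g : g ∈ commutator G ⊔ Subgroup.zpowers d)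
  obtain ⟨n, rfl⟩ := Subgroup.mem_zpowers_iff.1 hy
  have h1 : φ (c * d ^ n) = 1 := hg
  rw [map_mul, show φ c = 1 from Abelianization.commutator_subset_ker φ hc, map_zpow, hφ d hd,
    one_mul] at h1
  have h2 : d ^ (2 : ℤ) = 1 := by rw [zpow_two]; exact H99.tt_mul_self hD.1 hd
  rcases Int.even_or_odd' n with ⟨j, rfl | rfl⟩
  · rw [zpow_mul, h2, one_zpow, mul_one]; exact hc
  · rw [zpow_add, zpow_mul, zpow_one] at h1
    norm_num at h1

end Cfsg.Agent.S5467

namespace Cfsg.Agent.S5467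

/-- Let G be a finite group with trivial centre generated by a conjugation-invariant set D of 3-transpositions on which it acts primitively, such that for some d in D the subgroup generated by the members of D other than d commuting with d has central largest normal 2- and 3-subgroups, and suppose G with D is of type M(24), and let L be the commutator subgroup of G. Let z be the product of four distinct pairwise commuting members of D (an involution of L) and C its centralizer in L. Then the generalized Fitting subgroup Q of C is extraspecial of order 2^13, and C has normal subgroups Q ≤ N ≤ M with N/Q of order 3, M/N isomorphic to the projective special unitary group of dimension 4 over the field with nine elements, and M of index 2 in C. -/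
theorem result {G : Type*} [Group G] [Finite G] {D : Set G} (hD : Cfsg.IsThreeTranspositionGroup D) (hprim : Cfsg.IsPrimitiveUnderConj D) (d₀ : G) (hd₀ : d₀ ∈ D) (h3 : Cfsg.pCore 3 ↥(Subgroup.closure {y : G | y ∈ D ∧ y ≠ d₀ ∧ Commute d₀ y}) ≤ Subgroup.center ↥(Subgroup.closure {y : G | y ∈ D ∧ y ≠ d₀ ∧ Commute d₀ y})) (h2 : Cfsg.pCore 2 ↥(Subgroup.closure {y : G | y ∈ D ∧ y ≠ d₀ ∧ Commute d₀ y}) ≤ Subgroup.center ↥(Subgroup.closure {y : G | y ∈ D ∧ y ≠ d₀ ∧ Commute d₀ y})) (h24 : Cfsg.IsOfTypeM24 G D) (L : Subgroup G) (hL : L = commutator G) (z : G) (l : List G) (hl : (l.Nodup ∧ l.length = 4 ∧ (∀ a ∈ l, a ∈ D) ∧ (∀ a ∈ l, ∀ b ∈ l, Commute a b) ∧ l.prod = z)) (C : Subgroup G) (hC : C = L ⊓ Subgroup.centralizer ({z} : Set G)) : ∃ (Q : Subgroup ↥C) (_ : Q.Normal), Cfsg.generalizedFittingSubgroup ↥C = Q ∧ Cfsg.IsExtraspecial 2 ↥Q ∧ Nat.card Q = 2 ^ 13 ∧ ∃ (N M : Subgroup ↥C) (_ : N.Normal) (_ : M.Normal), Q ≤ N ∧ N ≤ M ∧ Nat.card N = 3 * Nat.card Q ∧ (∃ (K : Type) (_ : Field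 K) (_ : Fintype K), Fintype.card K = 9 ∧ Nonempty (↥M ⧸ N.subgroupOf M ≃* Cfsg.PSU 4 K 3)) ∧ M.index = 2 := by
  classical
  obtain ⟨φ, hφ⟩ := H49.Parity.exists_parity_m24 hD hprim h24
  obtain ⟨a, b, c, p, q, hstd⟩ := H49.Parity.exists_std hD hprim h24
  have S : H49.Parity.Ctx D := ⟨hD.1, hD.2.1, fun d g hd hgd hg => by
      obtain ⟨i, hi⟩ := H65.Fischer.kernel (H65.Fischer.m24_setting hD hprim h24)
        (H65.Fischer.m24_good hD hprim h24).srg H65.Fischer.num_24 hd hgd hg
      rw [← hi]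
      have h2 : d ^ (2 : ℤ) = 1 := by rw [zpow_two, H99.tt_mul_self hD.1 hd]
      rcases Int.even_or_odd' i with ⟨j, rfl | rfl⟩
      · exact Or.inl (by simp [zpow_mul, h2])
      · exact Or.inr (by simp [zpow_add, zpow_mul, h2]),
    a, b, c, p, q, hstd, H65.Fischer.card_m24 hD hprim h24⟩
  obtain ⟨hn, h4, hlD, hlc, hlz⟩ := hl
  have hT : H49.Sextet.IsTet D z l.toFinset :=
    ⟨⟨fun y hy => hlD y (List.mem_toFinset.1 (Finset.mem_coe.1 hy)), fun u hu v hv =>
      hlc u (List.mem_toFinset.1 hu) v (List.mem_toFinset.1 hv)⟩,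
      by rw [List.toFinset_card_of_nodup hn, h4],
      by rw [H49.Sextet.pp_toFinset l hn hlc, hlz]⟩
  rw [ker_eq_commutator hD hprim hφ] at hL
  subst hL hC
  exact H49.Sextet.centraliser_structure S φ hφ ⟨_, hT⟩

end Cfsg.Agent.S5467
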