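import Cfsg.Statements.S5469
import Cfsg.Agent.H5.Gq.Quotient
import Cfsg.Agent.H20.AutPSU4Two
-- import your own Cfsg.Agent.* helpers here

set_option autoImplicit false
open Cfsg

namespace Cfsg.Agent.S5469

/-- Let G be a finite group with trivial centre generated by a conjugation-invariant set D of 3-transpositions on which it acts primitively, such that for some d in D the subgroup generated by the members of D other than d commuting with d has central largest normal 2- and 3-subgroups, and suppose G with D is of type M(22). Let d₁, d₂ be distinct commuting members of D, j = d₁ d₂, K the joint centralizer of d₁ and d₂, C the centralizer of j and V the subgroup generated by d₁ and d₂. Then K has index 2 in C, V is the centre of K, and C has a normal subgroup E containing V with E/V elementary abelian of order 2^8 and C/E isomorphic to the full automorphism group of the projective special unitary group of dimension 4 over the field with four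 elements. -/
theorem result {G : Type*} [Group G] [Finite G] {D : Set G} (hD : Cfsg.IsThreeTranspositionGroup D) (hprim : Cfsg.IsPrimitiveUnderConj D) (d₀ : G) (hd₀ : d₀ ∈ D) (h3 : Cfsg.pCore 3 ↥(Subgroup.closure {y : G | y ∈ D ∧ y ≠ d₀ ∧ Commute d₀ y}) ≤ Subgroup.center ↥(Subgroup.closure {y : G | y ∈ D ∧ y ≠ d₀ ∧ Commute d₀ y})) (h2 : Cfsg.pCore 2 ↥(Subgroup.closure {y : G | y ∈ D ∧ y ≠ d₀ ∧ Commute d₀ y}) ≤ Subgroup.center ↥(Subgroup.closure {y : G | y ∈ D ∧ y ≠ d₀ ∧ Commute d₀ y})) (h22 : Cfsg.IsOfTypeM22 G D) (d₁ d₂ : G) (h₁ : d₁ ∈ D) (h₂ : d₂ ∈ D) (hne : d₁ ≠ d₂) (hc : Commute d₁ d₂) (K C V : Subgroup G) (hK : K = Subgroup.centralizer ({d₁, d₂} : Set G)) (hC : C = Subgroup.centralizer ({d₁ * d₂} : Set G)) (hV : V = Subgroup.closure ({d₁, d₂} : Set G)) : K ≤ C ∧ (K.subgroupOf C).index = 2 ∧ (Subgroup.center ↥K).map K.subtype = V ∧ ∃ E : Subgroup G, V ≤ E ∧ E ≤ C ∧ (∀ c ∈ C, ∀ x ∈ E, c * x * c⁻¹ ∈ E) ∧ Nat.card E = 2 ^ 10 ∧ (∀ x ∈ E, ∀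 y ∈ E, x * y * x⁻¹ * y⁻¹ ∈ V ∧ x ^ 2 ∈ V) ∧ ∃ (_ : (E.subgroupOf C).Normal) (F : Type) (_ : Field F) (_ : Fintype F), Fintype.card F = 4 ∧ Nonempty (↥C ⧸ E.subgroupOf C ≃* MulAut (Cfsg.PSU 4 F 2)) := by
  subst hV
  obtain ⟨F, iF, jF, S⟩ := H5.Gq.exists_setup hD hprim h22
  obtain ⟨T⟩ := S.exists_duo h₁ h₂ hne hc
  obtain rfl : C = T.cen := hC
  obtain rfl : K = T.both := hK
  have hKC : T.both ≤ T.cen :=
    T.both_le
  have hidx : ((T.both).subgroupOf
      (T.cen)).index = 2 := by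
    have h := ((T.both).subgroupOf
      (T.cen)).card_mul_index
    rw [Nat.card_congr (Subgroup.subgroupOfEquivOfLe hKC).toEquiv] at h
    rw [T.card_cen, mul_comm 2] at h
    exact Nat.eq_of_mul_eq_mul_left Nat.card_pos h
  have hkb : ∀ {x : G}, x ∈ T.ker → x ∈ T.both := fun hx => T.mem_both.2 (T.ker_commute hx)
  refine ⟨hKC, hidx, ?_, T.ker, T.span_le_ker, fun x hx => T.both_le (hkb hx), ?_, ?_, ?_, ?_⟩
  · apply le_antisymm
    · rintro _ ⟨z, hz, rfl⟩
      exact T.centralizer_ker (hKC z.2) fun h hh =>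
        (congrArg Subtype.val (Subgroup.mem_center_iff.1 hz ⟨h, hkb hh⟩)).symm
    · intro v hv
      refine ⟨⟨v, hkb (T.span_le_ker hv)⟩, Subgroup.mem_center_iff.2 fun g => Subtype.ext ?_, rfl⟩
      have hg := T.mem_both.1 (g.2 : (g : G) ∈ T.both)
      show (g : G) * v = v * g
      rcases T.mem_span.1 hv with h | h | h | h <;> rw [h]
      exacts [(Commute.one_right _).eq, hg.1.eq, hg.2.eq, (hg.1.mul_right hg.2).eq]
  · intro c hc x hx
    have h := T.act.normal_ker.conj_mem ⟨x, T.both_le (hkb hx)⟩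
      (T.ker_subgroupOf ▸ Subgroup.mem_subgroupOf.2 hx) ⟨c, hc⟩
    rw [← T.ker_subgroupOf] at h
    exact h
  · rw [T.card_ker]; norm_num
  · intro x hx y hy
    have hz : ∀ {u : G}, u ∈ Subgroup.zpowers (d₁ * d₂) →
        u ∈ Subgroup.closure ({d₁, d₂} : Set G) := fun hu =>
      Subgroup.zpowers_le.2 (T.mem_span.2 (Or.inr (Or.inr (Or.inr rfl)))) hu
    exact ⟨hz (T.comm_mem hx hy), hz (T.sq_mem hx)⟩
  · have hEK : T.ker.subgroupOf (T.cen) = T.act.ker :=
      T.ker_subgroupOf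
    obtain ⟨ψ⟩ := T.quot_iso
    haveI hn : (T.ker.subgroupOf (T.cen)).Normal := by
      rw [hEK]; exact T.act.normal_ker
    refine ⟨hn, ?_⟩
    obtain ⟨F4, i4, j4, h4⟩ : ∃ (F : Type) (_ : Field F) (_ : Fintype F), Fintype.card F = 4 :=
      ⟨F, iF, jF, by rw [S.field]; norm_num⟩
    obtain ⟨e4⟩ := H20.AutPSU4.nonempty_iso F4 h4
    exact ⟨F4, i4, j4, h4, ⟨((QuotientGroup.quotientMulEquivOfEq hEK).trans ψ).trans e4⟩⟩

end Cfsg.Agent.S5469
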