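import Cfsg.Statements.S5470
import Cfsg.Agent.S5463
import Cfsg.Agent.H65.Fischer.Triple22

set_option autoImplicit false
open Cfsg

namespace Cfsg.Agent.S5470

/-- Let G be a finite group with trivial centre generated by a conjugation-invariant set D of 3-transpositions on which it acts primitively, such that for some d in D the subgroup generated by the members of D other than d commuting with d has central largest normal 2- and 3-subgroups, and suppose G with D is of type M(22). Then the centralizer of a product of three distinct pairwise commuting members of D has order 2^16 · 3^3. -/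
theorem result {G : Type*} [Group G] [Finite G] {D : Set G} (hD : Cfsg.IsThreeTranspositionGroup D) (hprim : Cfsg.IsPrimitiveUnderConj D) (d₀ : G) (hd₀ : d₀ ∈ D) (h3 : Cfsg.pCore 3 ↥(Subgroup.closure {y : G | y ∈ D ∧ y ≠ d₀ ∧ Commute d₀ y}) ≤ Subgroup.center ↥(Subgroup.closure {y : G | y ∈ D ∧ y ≠ d₀ ∧ Commute d₀ y})) (h2 : Cfsg.pCore 2 ↥(Subgroup.closure {y : G | y ∈ D ∧ y ≠ d₀ ∧ Commute d₀ y}) ≤ Subgroup.center ↥(Subgroup.closure {y : G | y ∈ D ∧ y ≠ d₀ ∧ Commute d₀ y})) (h22 : Cfsg.IsOfTypeM22 G D) (d₁ d₂ d₃ : G) (h₁ : d₁ ∈ D) (h₂ : d₂ ∈ D) (h₃ : d₃ ∈ D) (h12 : d₁ ≠ d₂) (h13 : d₁ ≠ d₃) (h23 : d₂ ≠ d₃) (c12 : Commute d₁ d₂) (c13 : Commute d₁ d₃) (c23 : Commute d₂ d₃) : Nat.card ↥(Subgroup.centralizer ({d₁ * d₂ * d₃} : Set G)) = 2 ^ 16 * 3 ^ 3 := by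
  classical
  have ht : (d₁, d₂, d₃) ∈ H65.Fischer.triples D :=
    ⟨h₁, ⟨h₂, h12.symm, c12⟩, ⟨h₃, h13.symm, c13⟩, ⟨h₃, h23.symm, c23⟩⟩
  set j := d₁ * d₂ * d₃ with hj
  obtain ⟨l₁, l₂, ⟨n1, len1, m1, k1, p1⟩, ⟨n2, len2, m2, k2, p2⟩, hne, hall⟩ :=
    (Cfsg.Agent.S5463.result hD hprim d₀ hd₀ h3 h2 h22).2 j [d₁, d₂, d₃] ⟨by simp [h12, h13, h23], rfl,
      by simp [h₁, h₂, h₃],
      (by
        intro x hx y hy
        simp only [List.mem_cons, List.not_mem_nil, or_false] at hx hy
        rcases hx with rfl | rfl | rfl <;> rcases hy with rfl | rfl | rfl <;>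
          first | exact Commute.refl _ | assumption | exact Commute.symm ‹_›),
      by simp [hj, mul_assoc]⟩
  obtain ⟨a, b, c, rfl⟩ := List.length_eq_three.1 len1
  obtain ⟨p, q, r, rfl⟩ := List.length_eq_three.1 len2
  let u : Fin 2 → Fin 3 → G := ![![a, b, c], ![p, q, r]]
  have hu : ∀ i k, u i k ∈ (![[a, b, c], [p, q, r]] i : List G) := by
    intro i k; fin_cases i <;> fin_cases k <;> simp [u]
  have huinj : ∀ i, Function.Injective (u i) := by
    intro i s t he
    fin_cases i <;> fin_cases s <;> fin_cases t <;> simp_all [u]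
  have huD : ∀ i k, u i k ∈ D := by
    intro i k; fin_cases i
    · exact m1 _ (hu 0 k)
    · exact m2 _ (hu 1 k)
  have huc : ∀ i k k', Commute (u i k) (u i k') := by
    intro i k k'; fin_cases i
    · exact k1 _ (hu 0 k) _ (hu 0 k')
    · exact k2 _ (hu 1 k) _ (hu 1 k')
  let f : Fin 2 × Equiv.Perm (Fin 3) → G × G × G :=
    fun x => (u x.1 (x.2 0), u x.1 (x.2 1), u x.1 (x.2 2))
  have hprod : ∀ i, u i 0 * u i 1 * u i 2 = j := by
    intro i; fin_cases i
    · simpa [u, mul_assoc] using p1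
    · simpa [u, mul_assoc] using p2
  have hperm : ∀ i (σ : Equiv.Perm (Fin 3)), u i (σ 0) * u i (σ 1) * u i (σ 2) = j := by
    intro i σ
    have hp : [σ 0, σ 1, σ 2].Perm [(0 : Fin 3), 1, 2] := by revert σ; decide
    have := (hp.map (u i)).prod_eq' (List.pairwise_of_forall_mem_list fun x hx y hy => by
      simp only [List.mem_map] at hx hy
      obtain ⟨x, -, rfl⟩ := hx
      obtain ⟨y, -, rfl⟩ := hy
      exact huc i x y)
    simp only [List.map_cons, List.map_nil, List.prod_cons, List.prod_nil, mul_one] at this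
    rw [← hprod i, mul_assoc, mul_assoc, this]
  have hfinj : Function.Injective f := by
    rintro ⟨i, σ⟩ ⟨i', σ'⟩ he
    simp only [f, Prod.mk.injEq] at he
    have hi : i = i' := by
      by_contra hii
      have key : ∀ k, u i (σ k) = u i' (σ' k) := fun k => by fin_cases k <;> simp [he]
      have hall' : ∀ x, x ∈ [a, b, c] ↔ x ∈ [p, q, r] := by
        have e1 : ∀ k, ∃ k', u i k = u i' k' := fun k => ⟨σ' (σ.symm k), by simpa using key (σ.symm k)⟩
        have e2 : ∀ k, ∃ k', u i' k = u i k' := fun k =>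
          ⟨σ (σ'.symm k), by simpa using (key (σ'.symm k)).symm⟩
        have hmem : ∀ i x, x ∈ (![[a, b, c], [p, q, r]] i : List G) ↔ ∃ k, u i k = x := by
          intro i x; fin_cases i <;> simp [u, Fin.exists_fin_succ, eq_comm]
        intro x
        have h01 : (i = 0 ∧ i' = 1) ∨ (i = 1 ∧ i' = 0) := by omega
        refine ((hmem 0 x).trans ?_).trans (hmem 1 x).symm
        rcases h01 with ⟨rfl, rfl⟩ | ⟨rfl, rfl⟩
        · exact ⟨fun ⟨k, hk⟩ => let ⟨k', hk'⟩ := e1 k; ⟨k', hk'.symm.trans hk⟩,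
            fun ⟨k, hk⟩ => let ⟨k', hk'⟩ := e2 k; ⟨k', hk'.symm.trans hk⟩⟩
        · exact ⟨fun ⟨k, hk⟩ => let ⟨k', hk'⟩ := e2 k; ⟨k', hk'.symm.trans hk⟩,
            fun ⟨k, hk⟩ => let ⟨k', hk'⟩ := e1 k; ⟨k', hk'.symm.trans hk⟩⟩
      exact hne hall'
    subst hi
    refine Prod.ext rfl (Equiv.ext fun k => huinj i ?_)
    fin_cases k <;> simp [he]
  have hset : {t ∈ H65.Fischer.triples D | t.1 * t.2.1 * t.2.2 = j} = Set.range f := by
    ext ⟨x, y, z⟩
    constructor
    · rintro ⟨⟨hx, hy, hz⟩, hxyz⟩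
      have hfac := hall [x, y, z] ⟨by simp [hy.2.1.symm, hz.1.2.1.symm, hz.2.2.1.symm], rfl,
        by simp [hx, hy.1, hz.1.1],
        (by
          intro v hv w hw
          have c1 := hy.2.2
          have c2 := hz.1.2.2
          have c3 := hz.2.2.2
          simp only [List.mem_cons, List.not_mem_nil, or_false] at hv hw
          rcases hv with rfl | rfl | rfl <;> rcases hw with rfl | rfl | rfl <;>
            first | exact Commute.refl _ | assumption | exact Commute.symm ‹_›),
        by simpa [mul_assoc] using hxyz⟩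
      obtain ⟨i, hi⟩ : ∃ i, ∀ v, v ∈ [x, y, z] → ∃ k, u i k = v := by
        rcases hfac with hh | hh
        · exact ⟨0, fun v hv => by
            have := (hh v).1 hv
            simpa [u, Fin.exists_fin_succ, eq_comm] using this⟩
        · exact ⟨1, fun v hv => by
            have := (hh v).1 hv
            simpa [u, Fin.exists_fin_succ, eq_comm] using this⟩
      obtain ⟨kx, hkx⟩ := hi x (by simp)
      obtain ⟨ky, hky⟩ := hi y (by simp)
      obtain ⟨kz, hkz⟩ := hi z (by simp)
      have hinj : Function.Injective ![kx, ky, kz] := by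
        have n1 : kx ≠ ky := fun e => hy.2.1 (by rw [← hky, ← e, hkx])
        have n2 : kx ≠ kz := fun e => hz.1.2.1 (by rw [← hkz, ← e, hkx])
        have n3 : ky ≠ kz := fun e => hz.2.2.1 (by rw [← hkz, ← e, hky])
        intro s t he
        fin_cases s <;> fin_cases t <;> simp_all [n1.symm, n2.symm, n3.symm]
      refine ⟨(i, Equiv.ofBijective _ (Finite.injective_iff_bijective.1 hinj)), ?_⟩
      simp only [f, Equiv.ofBijective_apply, Matrix.cons_val, hkx, hky, hkz]
    · rintro ⟨⟨i, σ⟩, he⟩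
      rw [← he]
      have hne' : ∀ s t : Fin 3, s ≠ t → u i (σ s) ≠ u i (σ t) := fun s t hst e =>
        hst (σ.injective (huinj i e))
      exact ⟨⟨huD _ _, ⟨huD _ _, hne' 1 0 (by decide), huc _ _ _⟩,
        ⟨huD _ _, hne' 2 0 (by decide), huc _ _ _⟩, ⟨huD _ _, hne' 2 1 (by decide), huc _ _ _⟩⟩,
        hperm i σ⟩
  have h12' : {t ∈ H65.Fischer.triples D | t.1 * t.2.1 * t.2.2 = j}.ncard = 12 := by
    rw [hset, ← Nat.card_coe_set_eq, Nat.card_range_of_injective hfinj, Nat.card_eq_fintype_card,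
      Fintype.card_prod, Fintype.card_perm, Fintype.card_fin, Fintype.card_fin]
    rfl
  have hcount := H65.Fischer.card_centralizer_prod hD hprim h22 ht h12'
  rw [H65.Fischer.card_m22 hD hprim h22] at hcount
  exact Nat.eq_of_mul_eq_mul_right (m := 3510 * 693 * 180) (by norm_num) (hcount.trans (by norm_num))

end Cfsg.Agent.S5470
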