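import Cfsg.Statements.S5471
import Cfsg.Agent.H5.TT.Triples

set_option autoImplicit false
open Cfsg

namespace Cfsg.Agent.S5471

/-- Let G be a finite group with trivial centre generated by a conjugation-invariant set D of 3-transpositions on which it acts primitively, such that for some d in D the subgroup generated by the members of D other than d commuting with d has central largest normal 2- and 3-subgroups, and suppose G with D is of type M(23). Let d₁, d₂, d₃ be distinct pairwise commuting members of D and j their product. Then the joint centralizer of d₁, d₂, d₃ is normal in the centralizer of j with quotient isomorphic to the symmetric group of degree 3. -/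
theorem result {G : Type*} [Group G] [Finite G] {D : Set G} (hD : Cfsg.IsThreeTranspositionGroup D) (hprim : Cfsg.IsPrimitiveUnderConj D) (d₀ : G) (hd₀ : d₀ ∈ D) (h3 : Cfsg.pCore 3 ↥(Subgroup.closure {y : G | y ∈ D ∧ y ≠ d₀ ∧ Commute d₀ y}) ≤ Subgroup.center ↥(Subgroup.closure {y : G | y ∈ D ∧ y ≠ d₀ ∧ Commute d₀ y})) (h2 : Cfsg.pCore 2 ↥(Subgroup.closure {y : G | y ∈ D ∧ y ≠ d₀ ∧ Commute d₀ y}) ≤ Subgroup.center ↥(Subgroup.closure {y : G | y ∈ D ∧ y ≠ d₀ ∧ Commute d₀ y})) (h23 : Cfsg.IsOfTypeM23 G D) (d₁ d₂ d₃ : G) (h₁ : d₁ ∈ D) (h₂ : d₂ ∈ D) (h₃ : d₃ ∈ D) (h12 : d₁ ≠ d₂) (h13 : d₁ ≠ d₃) (h23 : d₂ ≠ d₃) (c12 : Commute d₁ d₂) (c13 : Commute d₁ d₃) (c23 : Commute d₂ d₃) (K C : Subgroup G) (hK : K = Subgroup.centralizer ({d₁, d₂, d₃} : Set G)) (hC : C = Subgroup.centralizer ({d₁ * d₂ * d₃} : Set G)) : K ≤ C ∧ ∃ _ : (K.subgroupOf C).Normal, Nonempty (↥C ⧸ K.subgroupOf C ≃* Equiv.Perm (Fin 3)) := by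
  have hV : H5.TT.Fac.NoTwin D :=
    fun a ha v hv => H99.prim_vRel_eq (H99.class_of_primitive hD hprim) hprim ha hv
  have h6 := H5.TT.Fac.noSix_m23 hD hprim hd₀ h2 h3 ‹Cfsg.IsOfTypeM23 G D›
  obtain ⟨d, hd, hm, -⟩ := H5.TT.Fac.m23_mid hD hprim hd₀ h2 h3 ‹Cfsg.IsOfTypeM23 G D›
  set t : Fin 3 → G := ![d₁, d₂, d₃] with ht
  have tD : ∀ i, t i ∈ D := by intro i; fin_cases i <;> simp [ht, h₁, h₂, h₃]
  have tc : ∀ i k, Commute (t i) (t k) := by
    intro i k
    fin_cases i <;> fin_cases k <;> simp [ht, c12, c12.symm, c13, c13.symm, c23, c23.symm]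
  have tinj : Function.Injective t := by
    intro i k e
    fin_cases i <;> fin_cases k <;> simp_all [ht, h12.symm, h13.symm, h23.symm]
  have hKmem : ∀ g : G, g ∈ K ↔ ∀ i, g * t i * g⁻¹ = t i := by
    intro g
    rw [hK, Subgroup.mem_centralizer_iff, Fin.forall_fin_succ, Fin.forall_fin_two]
    simp only [ht, Set.mem_insert_iff, Set.mem_singleton_iff, forall_eq_or_imp, forall_eq]
    simp only [mul_inv_eq_iff_eq_mul, Matrix.cons_val_zero, Matrix.cons_val_succ,
      Matrix.cons_val_one]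
    tauto
  have hCmem : ∀ g : G, g ∈ C ↔ g * (d₁ * d₂ * d₃) * g⁻¹ = d₁ * d₂ * d₃ := by
    intro g
    rw [hC, Subgroup.mem_centralizer_singleton_iff, mul_inv_eq_iff_eq_mul]
  have hKC : K ≤ C := by
    intro g hg
    have h := (hKmem g).1 hg
    rw [hCmem]
    calc g * (d₁ * d₂ * d₃) * g⁻¹ = g * t 0 * g⁻¹ * (g * t 1 * g⁻¹) * (g * t 2 * g⁻¹) := by
          simp [ht, mul_assoc]
      _ = d₁ * d₂ * d₃ := by rw [h, h, h]; rfl
  have hfac : ∀ g : G, g ∈ C → ∀ i, ∃ k, g * t i * g⁻¹ = t k := by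
    intro g hg i
    have hl : ∀ g : G, g ∈ C → H5.TT.Fac.IsFac D 3 (d₁ * d₂ * d₃)
        [g * t 0 * g⁻¹, g * t 1 * g⁻¹, g * t 2 * g⁻¹] := by
      intro g hg
      refine ⟨?_, rfl, ?_, ?_, ?_⟩
      · have : ∀ a b : Fin 3, a ≠ b → g * t a * g⁻¹ ≠ g * t b * g⁻¹ := fun a b hab e =>
          hab (tinj (mul_left_cancel (mul_right_cancel e)))
        simp only [List.nodup_cons, List.mem_cons, List.not_mem_nil, or_false, not_or,
          List.nodup_nil, and_true, not_false_eq_true]
        exact ⟨⟨this 0 1 (by decide), this 0 2 (by decide)⟩, this 1 2 (by decide)⟩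
      · simp only [List.forall_mem_cons, List.not_mem_nil, false_imp_iff, implies_true, and_true]
        exact ⟨hD.2.1 g _ (tD 0), hD.2.1 g _ (tD 1), hD.2.1 g _ (tD 2)⟩
      · intro a ha b hb
        simp only [List.mem_cons, List.not_mem_nil, or_false] at ha hb
        rcases ha with rfl | rfl | rfl <;> rcases hb with rfl | rfl | rfl <;>
          exact (H99.conj_commute_iff g _ _).2 (tc _ _)
      · refine Eq.trans ?_ ((hCmem g).1 hg)
        simp [ht]; group
    have h1 := H5.TT.Fac.triple_unique hD.1 hV h6 (hl g hg) (hl 1 (one_mem C)) (g * t i * g⁻¹)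
    have : g * t i * g⁻¹ ∈ [g * t 0 * g⁻¹, g * t 1 * g⁻¹, g * t 2 * g⁻¹] := by
      fin_cases i <;> simp
    have h2 := h1.1 this
    simp only [List.mem_cons, List.not_mem_nil, or_false, one_mul, inv_one, mul_one] at h2
    rcases h2 with h | h | h
    · exact ⟨0, h⟩
    · exact ⟨1, h⟩
    · exact ⟨2, h⟩
  choose p hp using fun g : C => hfac g.1 g.2
  have pinj : ∀ g : C, Function.Injective (p g) := fun g i k e => tinj (by
    have := (hp g i).trans ((congrArg t e).trans (hp g k).symm)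
    exact mul_left_cancel (mul_right_cancel this))
  let f : C →* Equiv.Perm (Fin 3) :=
    MonoidHom.mk' (fun g => Equiv.ofBijective (p g) (Finite.injective_iff_bijective.1 (pinj g)))
      (fun g g' => by
        ext i : 1
        apply tinj
        show t (p (g * g') i) = t (p g (p g' i))
        rw [← hp, ← hp g (p g' i), ← hp g' i]
        push_cast
        group)
  have hf : ∀ g : C, f g = 1 ↔ g ∈ K.subgroupOf C := by
    intro g
    rw [Subgroup.mem_subgroupOf, hKmem, Equiv.ext_iff]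
    refine forall_congr' fun i => ?_
    show p g i = i ↔ _
    rw [hp g i]
    exact ⟨fun e => congrArg t e, fun e => tinj e⟩
  have hker : f.ker = K.subgroupOf C := Subgroup.ext fun g => by rw [MonoidHom.mem_ker, hf]
  have hswap : ∀ i k l : Fin 3, i ≠ k → i ≠ l → k ≠ l → Equiv.swap k l ∈ f.range := by
    intro i k l hik hil hkl
    obtain ⟨g, g0, g1, g2⟩ := H5.TT.Fac.exists_swap hd hm (tD i)
      (b := t k) (c := t l) ⟨tD k, fun e => hik (tinj e).symm, tc i k⟩
      ⟨tD l, fun e => hil (tinj e).symm, tc i l⟩ (fun e => hkl (tinj e)) (tc k l)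
    have hall : ∀ m : Fin 3, g * t m * g⁻¹ = t (Equiv.swap k l m) := by
      intro m
      have : m = i ∨ m = k ∨ m = l := by omega
      rcases this with rfl | rfl | rfl
      · rw [Equiv.swap_apply_of_ne_of_ne hik hil, g0]
      · rw [Equiv.swap_apply_left, g1]
      · rw [Equiv.swap_apply_right, g2]
    have hgC : g ∈ C := by
      rw [hCmem]
      have e : ∀ σ : Equiv.Perm (Fin 3), t (σ 0) * t (σ 1) * t (σ 2) = t 0 * t 1 * t 2 := by
        intro σ
        have hperm : [σ 0, σ 1, σ 2].Perm [(0 : Fin 3), 1, 2] := by revert σ; decide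
        have := (hperm.map t).prod_eq' (List.pairwise_of_forall_mem_list fun a ha b hb => by
          simp only [List.mem_map] at ha hb
          obtain ⟨a, -, rfl⟩ := ha
          obtain ⟨b, -, rfl⟩ := hb
          exact tc a b)
        simpa [mul_assoc] using this
      calc g * (d₁ * d₂ * d₃) * g⁻¹ = g * t 0 * g⁻¹ * (g * t 1 * g⁻¹) * (g * t 2 * g⁻¹) := by
            simp [ht, mul_assoc]
        _ = d₁ * d₂ * d₃ := by rw [hall, hall, hall, e]; rfl
    refine ⟨⟨g, hgC⟩, Equiv.ext fun m => tinj ?_⟩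
    show t (p ⟨g, hgC⟩ m) = _
    rw [← hp, hall]
  have hsurj : Function.Surjective f := by
    rw [← MonoidHom.range_eq_top, eq_top_iff, ← Equiv.Perm.closure_isSwap, Subgroup.closure_le]
    rintro σ ⟨k, l, hkl, rfl⟩
    obtain ⟨i, hi⟩ : ∃ i : Fin 3, i ≠ k ∧ i ≠ l := by
      revert k l; decide
    exact hswap i k l hi.1 hi.2 hkl
  haveI : (K.subgroupOf C).Normal := hker ▸ f.normal_ker
  exact ⟨hKC, inferInstance, ⟨(QuotientGroup.quotientMulEquivOfEq hker.symm).trans
    (QuotientGroup.quotientKerEquivOfSurjective f hsurj)⟩⟩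

end Cfsg.Agent.S5471
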