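import Cfsg.Statements.S5472
import Cfsg.Agent.H99.FiTwoTwo.Iso
import Cfsg.Agent.H99.Fischer.Wiring
import Cfsg.Agent.H46.Fi22Aut.CentSymp
import Cfsg.Agent.H46.Fi22Aut.CentMinus

set_option autoImplicit false
open Cfsg

namespace Cfsg.Agent.S5472

/-- isomorphisms carry the 2-core into the 2-core -/
theorem pCore_map_le {X Y : Type*} [Group X] [Group Y] (f : X ≃* Y) :
    (Cfsg.pCore 2 X).map f.toMonoidHom ≤ Cfsg.pCore 2 Y := by
  rw [Cfsg.pCore, Subgroup.map_le_iff_le_comap]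
  refine sSup_le fun N ⟨hN, hp⟩ => ?_
  rw [← Subgroup.map_le_iff_le_comap]
  exact le_sSup ⟨hN.map _ f.surjective, hp.map _⟩

/-- Let G be a finite group with trivial centre generated by a conjugation-invariant set D of 3-transpositions on which it acts primitively, such that for some d in D the subgroup generated by the members of D other than d commuting with d has central largest normal 2- and 3-subgroups, and suppose G with D is of type M(22). Then G has a non-inner automorphism s of order 2 whose fixed-point subgroup is isomorphic to the full automorphism group of Ω⁺(8, 2) (the commutator subgroup of the isometry group of the hyperbolic quadratic form in dimension 8 over the field with two elements), together with distinct commuting members a, b of D fixed by s such that: s, s composed with conjugation by a, and s composed with conjugation by a b represent the three classes (under the automorphism group) of non-inner automorphisms of order 2;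 the elements fixed by the automorphism s composed with conjugation by a are exactly those fixed by s and commuting with a, and they form a group isomorphic to the direct product of a group of order 2 and the symplectic group of dimension 6 over the field with two elements; and the elements fixed by the automorphism s composed with conjugation by a b form a group whose largest normal 2-subgroup is elementary abelian of order 64 with quotient isomorphic to the full isometry group of the elliptic quadratic form in dimension 6 over the field with two elements. -/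
theorem result {G : Type*} [Group G] [Finite G] {D : Set G} (hD : Cfsg.IsThreeTranspositionGroup D) (hprim : Cfsg.IsPrimitiveUnderConj D) (d₀ : G) (hd₀ : d₀ ∈ D) (h3 : Cfsg.pCore 3 ↥(Subgroup.closure {y : G | y ∈ D ∧ y ≠ d₀ ∧ Commute d₀ y}) ≤ Subgroup.center ↥(Subgroup.closure {y : G | y ∈ D ∧ y ≠ d₀ ∧ Commute d₀ y})) (h2 : Cfsg.pCore 2 ↥(Subgroup.closure {y : G | y ∈ D ∧ y ≠ d₀ ∧ Commute d₀ y}) ≤ Subgroup.center ↥(Subgroup.closure {y : G | y ∈ D ∧ y ≠ d₀ ∧ Commute d₀ y})) (h22 : Cfsg.IsOfTypeM22 G D) : ∃ (s : MulAut G) (a b : G) (Cs : Subgroup G), orderOf s = 2 ∧ s ∉ (MulAut.conj : G →* MulAut G).range ∧ (∀ g : G, g ∈ Cs ↔ s g = g) ∧ Nonempty (↥Cs ≃* MulAut (Cfsg.Omega (ZMod 2) (Cfsg.quadFormPlus 4 (ZMod 2)))) ∧ a ∈ D ∧ b ∈ D ∧ a ≠ b ∧ Commute a b ∧ s a = a ∧ s b = b ∧ (∀ t : MulAut G, orderOf t = 2 → t ∉ (MulAut.conj : G →* MulAut G).range → (IsConj t s ∨ IsConj t (s * MulAut.conj a) ∨ IsConj t (s * MulAut.conj (a * b)))) ∧ ¬ IsConj s (s * MulAut.conj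 a) ∧ ¬ IsConj s (s * MulAut.conj (a * b)) ∧ ¬ IsConj (s * MulAut.conj a) (s * MulAut.conj (a * b)) ∧ (∀ g : G, (s * MulAut.conj a) g = g ↔ g ∈ Cs ⊓ Subgroup.centralizer ({a} : Set G)) ∧ Nonempty (↥(Cs ⊓ Subgroup.centralizer ({a} : Set G)) ≃* Multiplicative (ZMod 2) × Cfsg.PSp 3 (ZMod 2)) ∧ ∃ Csab O : Subgroup G, (∀ g : G, g ∈ Csab ↔ (s * MulAut.conj (a * b)) g = g) ∧ O = (Cfsg.pCore 2 ↥Csab).map Csab.subtype ∧ Cfsg.IsElementaryAbelian 2 O ∧ Nat.card O = 64 ∧ ∃ _ : (O.subgroupOf Csab).Normal, Nonempty (↥Csab ⧸ O.subgroupOf Csab ≃* Cfsg.isometryGroup (ZMod 2) (Cfsg.quadFormMinus 2 (ZMod 2) 1 1)) := by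
  haveI := H96.Fi22O7.finite_G
  obtain ⟨e, he⟩ := H99.FiTwoTwo.exists_equiv hD hprim h22
  set E : MulAut Cfsg.Spor.Fi22 ≃* MulAut G := MulAut.congr e with hE
  have happ : ∀ (α : MulAut Cfsg.Spor.Fi22) (x : G), E α x = e (α (e.symm x)) := fun _ _ => rfl
  have happ' : ∀ (φ : MulAut G) (x : Cfsg.Spor.Fi22), E.symm φ x = e.symm (φ (e x)) :=
    fun _ _ => rfl
  have hconj : ∀ x, E (MulAut.conj x) = MulAut.conj (e x) := fun x =>
    MulEquiv.ext fun y => by simp [happ]
  have hfix : ∀ (α : MulAut Cfsg.Spor.Fi22) (g : G), E α g = g ↔ α (e.symm g) = e.symm g :=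
    fun α g => by rw [happ, ← e.eq_symm_apply]
  have hmem : ∀ {k : ℕ}, k < 9 → e (H96.Fi22O7.gen k) ∈ D := fun {k} hk => by
    obtain ⟨c, rfl⟩ := H93.Fi22ATable.fit.exists_ix (show k < H96.Fi22O7.D.ng from hk)
    rw [show H96.Fi22O7.gen (H93.Fi22ATable.ix c) = _ from H93.Fi22ATable.fit.gen_ix c]
    exact he c
  have hclass : ∀ d ∈ D, ∃ c, e.symm d = H46.Fi22Aut.Tn c := fun d hd => by
    obtain ⟨g, hg⟩ := hprim.1 _ (hmem (k := 0) (by norm_num)) d hd
    refine ⟨H96.Fi22O7.act (e.symm g) H96.Fi22Out.z0, ?_⟩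
    rw [← hg, map_mul, map_mul, map_inv, e.symm_apply_apply]
    exact H46.Fi22Aut.Tn_eq rfl
  set β := H96.Fi22Out.beta with hβ
  set a := H96.Fi22O7.gen 0 with ha
  set b := H96.Fi22O7.gen 2 with hb
  have hCs : ∀ g : G, g ∈ (H46.Fi22Aut.Cent.Cs.map e.toMonoidHom) ↔ E β g = g := fun g => by
    rw [Subgroup.mem_map_equiv, H46.Fi22Aut.Cent.mem_fixedSub, hfix]
  have hcent : Subgroup.centralizer ({e a} : Set G) =
      (Subgroup.centralizer ({a} : Set Cfsg.Spor.Fi22)).map e.toMonoidHom := by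
    ext g
    rw [Subgroup.mem_map_equiv, Subgroup.mem_centralizer_singleton_iff,
      Subgroup.mem_centralizer_singleton_iff, ← e.injective.eq_iff (a := e.symm g * a)]
    simp
  obtain ⟨h9, hA, hAB, hdF, hdA, hdS, lF, lA, lS⟩ := H46.Fi22Aut.Cent.fix_lists
  obtain ⟨eCs⟩ := H46.Fi22Aut.Cent.Cs_iso
  obtain ⟨eCa⟩ := H46.Fi22Aut.Cent.Csa_iso
  obtain ⟨C, O, hC, hO, hel, hcard, hn, ⟨eQ⟩⟩ := H46.Fi22Aut.Cent.Cab_structure
  have h2ne : a ≠ b := fun h => by
    rw [← H46.Fi22Aut.Cent.tg_six] at hb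
    rw [ha, hb, ← H46.Fi22Aut.Cent.tg_zero, H46.Fi22Aut.Cent.tg, H46.Fi22Aut.Cent.tg,
      H46.Fi22Aut.Cent.ev_tw H46.Fi22Aut.Cent.gens_listed.2.2.2.2.1,
      H46.Fi22Aut.Cent.ev_tw H46.Fi22Aut.Cent.gens_listed.2.2.2.2.2.1] at h
    exact absurd (congrArg Fin.val (H46.Fi22Aut.Tn_inj h)) (by simp [H46.Fi22Aut.Cent.nd])
  have hcab : Commute a b := H96.Fi22O7.commute_zero (H96.Fi22O7.mem_A_of_fix
    (Fin.ext ((H96.Fi22U6.act_gen (by norm_num) _).trans
      (show H96.Fi22O7.D.T 2 0 = 0 by decide +kernel))))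
  have hsq : β * β = 1 := H46.Fi22Aut.beta_sq
  have hcomm : ∀ {u v : MulAut Cfsg.Spor.Fi22}, IsConj (E u) (E v) → IsConj u v := fun h => by
    simpa using E.symm.toMonoidHom.map_isConj h
  refine ⟨E β, e a, e b, H46.Fi22Aut.Cent.Cs.map e.toMonoidHom, ?_, ?_, hCs,
    ⟨(e.subgroupMap _).symm.trans eCs⟩, hmem (by norm_num), hmem (by norm_num),
    fun h => h2ne (e.injective h), hcab.map e.toMonoidHom, ?_, ?_, ?_, ?_, ?_, ?_, ?_, ?_, ?_⟩
  · rw [MulEquiv.orderOf_eq]
    refine orderOf_eq_prime (by rw [pow_two]; exact hsq) fun h1 => ?_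
    obtain ⟨c, hc⟩ : ∃ c : Fin H96.Fi22O7.D.n, c.val ∉ H46.Fi22Aut.Cent.fixF :=
      ⟨⟨9, by decide⟩, by decide +kernel⟩
    refine hc ((H46.Fi22Aut.Cent.mem_fix h9 c).mpr ?_)
    rw [H46.Fi22Aut.Cent.Wd_beta, ← hβ, h1, MulAut.one_apply]
  · rintro ⟨x, hx⟩
    have h1 : MulAut.conj (e.symm x) = β := E.injective (by rw [hconj, e.apply_symm_apply, hx])
    exact H96.Fi22Out.beta_not_inner _ h1
  · rw [hfix, e.symm_apply_apply]; exact H46.Fi22Aut.beta_gen_zero
  · rw [hfix, e.symm_apply_apply]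
    exact H46.Fi22Aut.beta_fix (by norm_num) (by norm_num)
  · intro t ht hout
    obtain ⟨d, hdD, hd⟩ := H99.Fi.fixed_aut_m22 hD hprim h22 t ht
    obtain ⟨c, hc⟩ := hclass d hdD
    have h := H46.Fi22Aut.outer_classes (t := E.symm t) (by rw [MulEquiv.orderOf_eq]; exact ht)
      (fun ⟨x, hx⟩ => hout ⟨e x, by rw [← hconj, hx, E.apply_symm_apply]⟩)
      ⟨c, by rw [happ', ← hc, e.apply_symm_apply, hd]⟩
    rcases h with h | h | h
    · exact Or.inl (by simpa using E.toMonoidHom.map_isConj h)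
    · exact Or.inr (Or.inl (by simpa [hconj] using E.toMonoidHom.map_isConj h))
    · exact Or.inr (Or.inr (by simpa [hconj] using E.toMonoidHom.map_isConj h))
  · rw [← hconj, ← map_mul]
    intro h
    have h1 := hcomm h
    rw [← H46.Fi22Aut.Cent.Wd_tau, hβ, ← H46.Fi22Aut.Cent.Wd_beta] at h1
    have := H46.Fi22Aut.Cent.isConj_length h9 hA hdF hdA h1
    omega
  · rw [← map_mul e, ← hconj, ← map_mul]
    intro h
    have h1 := hcomm h
    rw [← H46.Fi22Aut.Cent.Wd_tau2, hβ, ← H46.Fi22Aut.Cent.Wd_beta] at h1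
    have := H46.Fi22Aut.Cent.isConj_length h9 hAB hdF hdS h1
    omega
  · rw [← map_mul e, ← hconj, ← hconj, ← map_mul, ← map_mul]
    intro h
    have h1 := hcomm h
    rw [← H46.Fi22Aut.Cent.Wd_tau2, ← H46.Fi22Aut.Cent.Wd_tau] at h1
    have := H46.Fi22Aut.Cent.isConj_length hA hAB hdA hdS h1
    omega
  · intro g
    rw [← hconj, ← map_mul, hfix, H46.Fi22Aut.Cent.tau_fixed_iff, hcent,
      ← Subgroup.map_inf_eq _ _ _ e.injective, Subgroup.mem_map_equiv]
  · rw [hcent, ← Subgroup.map_inf_eq _ _ _ e.injective]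
    exact ⟨(e.subgroupMap _).symm.trans eCa⟩
  · set C' := C.map e.toMonoidHom with hC'
    let f : ↥C ≃* ↥C' := e.subgroupMap C
    have hiso : (Cfsg.pCore 2 C).map f.toMonoidHom = Cfsg.pCore 2 C' := by
      refine le_antisymm (pCore_map_le f) fun y hy => ?_
      exact ⟨f.symm y, pCore_map_le f.symm ⟨y, hy, rfl⟩, f.apply_symm_apply y⟩
    have hO' : O.map e.toMonoidHom = (Cfsg.pCore 2 C').map C'.subtype := by
      rw [← hiso, hO, Subgroup.map_map, Subgroup.map_map]
      exact congrArg (fun φ => (Cfsg.pCore 2 C).map φ) (MonoidHom.ext fun _ => rfl)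
    have hq : (O.subgroupOf C).map f.toMonoidHom = (O.map e.toMonoidHom).subgroupOf C' := by
      ext y
      constructor
      · rintro ⟨x, hx, rfl⟩
        exact ⟨x.1, hx, rfl⟩
      · rintro ⟨x, hx, hxy⟩
        obtain ⟨y, x', hx', rfl⟩ := y
        obtain rfl : x = x' := e.injective hxy
        exact ⟨⟨x, hx'⟩, hx, rfl⟩
    have hn' : ((O.map e.toMonoidHom).subgroupOf C').Normal := by
      rw [← hq]; exact hn.map _ f.surjective
    haveI := hn
    haveI := hn'
    refine ⟨C', O.map e.toMonoidHom, fun g => ?_, hO', ⟨?_, ?_⟩, ?_, hn', ?_⟩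
    · rw [Subgroup.mem_map_equiv, hC, ← map_mul e, ← hconj, ← map_mul, hfix]
    · refine ⟨⟨?_⟩⟩
      rintro ⟨_, x, hx, rfl⟩ ⟨_, y, hy, rfl⟩
      refine Subtype.ext ?_
      show e x * e y = e y * e x
      have h := congrArg Subtype.val (hel.1.is_comm.comm (⟨x, hx⟩ : O) ⟨y, hy⟩)
      rw [← map_mul, ← map_mul]
      exact congrArg e h
    · rintro _ ⟨x, hx, rfl⟩
      rw [← map_pow, hel.2 x hx, map_one]
    · rw [← hcard]
      exact (Nat.card_congr (O.equivMapOfInjective e.toMonoidHom e.injective).toEquiv).symm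
    · exact ⟨(QuotientGroup.congr _ _ f hq).symm.trans eQ⟩

end Cfsg.Agent.S5472
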