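import Cfsg.Statements.S5514
import Cfsg.Agent.H94.O7.Main

set_option autoImplicit false
open Cfsg

namespace Cfsg.Agent.S5514

/-- The commutator subgroup of the isometry group of a non-degenerate 7-dimensional quadratic form over the field with three elements, modulo its (trivial) centre — the simple group Ω(7, 3) — has exactly seven conjugacy classes of subgroups of order 3. -/
theorem result : ∃ Y : Fin 7 → Subgroup (Cfsg.POmega (ZMod 3) (Cfsg.quadFormOdd 3 (ZMod 3))), (∀ i, Nat.card (Y i) = 3) ∧ (∀ i j, (∃ g : Cfsg.POmega (ZMod 3) (Cfsg.quadFormOdd 3 (ZMod 3)), (Y i).map (MulAut.conj g).toMonoidHom = Y j) → i = j) ∧ (∀ X : Subgroup (Cfsg.POmega (ZMod 3) (Cfsg.quadFormOdd 3 (ZMod 3))), Nat.card X = 3 → ∃ i, ∃ g : Cfsg.POmega (ZMod 3) (Cfsg.quadFormOdd 3 (ZMod 3)), X.map (MulAut.conj g).toMonoidHom = Y i) := by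
  classical
  let φ := H94.O7.isoP
  haveI : Fact (Nat.Prime 3) := ⟨by norm_num⟩
  have hord : ∀ i, orderOf (φ (H94.O7.rootW i)) = 3 := fun i => by
    refine orderOf_eq_prime (by rw [← map_pow, H94.O7.rootW_cube, map_one]) ?_
    exact fun e => H94.O7.rootW_ne_one i (φ.injective (e.trans (map_one φ).symm))
  refine ⟨fun i => Subgroup.zpowers (φ (H94.O7.rootW i)), fun i => ?_, ?_, ?_⟩
  · rw [Nat.card_zpowers, hord]
  · rintro i j ⟨g, hg⟩
    have hmem : g * φ (H94.O7.rootW i) * g⁻¹ ∈ Subgroup.zpowers (φ (H94.O7.rootW j)) := by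
      have hg' : Subgroup.map (MulAut.conj g).toMonoidHom (Subgroup.zpowers (φ (H94.O7.rootW i))) =
          Subgroup.zpowers (φ (H94.O7.rootW j)) := hg
      rw [← hg']; exact ⟨_, Subgroup.mem_zpowers _, by simp⟩
    rw [IsOfFinOrder.mem_zpowers_iff_mem_range_orderOf (orderOf_pos_iff.1 (by rw [hord]; norm_num)), hord,
      Finset.mem_image] at hmem
    obtain ⟨e, he, hpe⟩ := hmem
    have he' : e = 1 ∨ e = 2 := by
      rw [Finset.mem_range] at he
      rcases Nat.eq_zero_or_pos e with rfl | h0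
      · exfalso
        rw [pow_zero, eq_comm, conj_eq_one_iff] at hpe
        have := hord i
        rw [hpe, orderOf_one] at this
        norm_num at this
      · omega
    obtain ⟨g', rfl⟩ := φ.surjective g
    refine H94.O7.rootW_sep i j g' he' (φ.injective ?_)
    rw [map_mul, map_mul, map_inv, map_pow]
    exact hpe.symm
  · intro X hX
    haveI : IsCyclic X := isCyclic_of_prime_card hX
    obtain ⟨y, hy⟩ := IsCyclic.exists_generator (α := X)
    obtain ⟨x, hx⟩ := φ.surjective (y : Cfsg.POmega (ZMod 3) (Cfsg.quadFormOdd 3 (ZMod 3)))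
    have hy3 : orderOf y = 3 := by rw [orderOf_eq_card_of_forall_mem_zpowers hy, hX]
    have hXy : X = Subgroup.zpowers (y : Cfsg.POmega (ZMod 3) (Cfsg.quadFormOdd 3 (ZMod 3))) := by
      refine le_antisymm (fun z hz => ?_) (Subgroup.zpowers_le.2 y.2)
      obtain ⟨k, hk⟩ := Subgroup.mem_zpowers_iff.1 (hy ⟨z, hz⟩)
      exact ⟨k, by simpa using congrArg Subtype.val hk⟩
    have hxo : orderOf x = 3 := by
      rw [← orderOf_injective φ.toMonoidHom φ.injective x]
      show orderOf (φ x) = 3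
      rw [hx, Subgroup.orderOf_coe, hy3]
    obtain ⟨j, e, g, he, hg⟩ := H94.O7.cover x (orderOf_dvd_iff_pow_eq_one.1 (dvd_of_eq hxo))
      (fun h => by rw [h, orderOf_one] at hxo; norm_num at hxo)
    refine ⟨j, φ g, ?_⟩
    rw [hXy, MonoidHom.map_zpowers]
    have hc : (MulAut.conj (φ g)).toMonoidHom (y : Cfsg.POmega (ZMod 3) (Cfsg.quadFormOdd 3 (ZMod 3))) =
        φ (H94.O7.rootW j) ^ e := by
      rw [← hx, ← map_pow, ← hg]
      simp
    rw [hc]
    rcases he with rfl | rfl
    · rw [pow_one]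
    · refine le_antisymm (Subgroup.zpowers_le.2 (Subgroup.pow_mem _ (Subgroup.mem_zpowers _) _))
        (Subgroup.zpowers_le.2 ⟨2, ?_⟩)
      have h4 : (φ (H94.O7.rootW j) ^ 2) ^ 2 = φ (H94.O7.rootW j) := by
        rw [← pow_mul, show 2 * 2 = 3 + 1 from rfl, pow_succ, orderOf_dvd_iff_pow_eq_one.1 (dvd_of_eq (hord j)), one_mul]
      exact (zpow_natCast _ 2).trans h4

end Cfsg.Agent.S5514
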