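import Cfsg.Statements.S5515
import Cfsg.Agent.H43.Extension
import Cfsg.Agent.H43.D4.OutD4
import Cfsg.Agent.H43.Bal.Orth
-- import your own Cfsg.Agent.* helpers here

set_option autoImplicit false
open Cfsg

namespace Cfsg.Agent.S5515

/-- Let G and G′ be finite groups whose generalized Fitting subgroups are isomorphic to PΩ⁺(8, 3) (the commutator subgroup of the isometry group of the hyperbolic quadratic form in dimension 8 over the field with three elements, modulo its centre) with quotients isomorphic to the symmetric group of degree 3. Then G and G′ are isomorphic. -/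
theorem result {G G' : Type*} [Group G] [Finite G] [Group G'] [Finite G'] (hF : Nonempty (↥(Cfsg.generalizedFittingSubgroup G) ≃* Cfsg.POmega (ZMod 3) (Cfsg.quadFormPlus 4 (ZMod 3)))) (hF' : Nonempty (↥(Cfsg.generalizedFittingSubgroup G') ≃* Cfsg.POmega (ZMod 3) (Cfsg.quadFormPlus 4 (ZMod 3)))) [hn : (Cfsg.generalizedFittingSubgroup G).Normal] [hn' : (Cfsg.generalizedFittingSubgroup G').Normal] (hq : Nonempty (G ⧸ Cfsg.generalizedFittingSubgroup G ≃* Equiv.Perm (Fin 3))) (hq' : Nonempty (G' ⧸ Cfsg.generalizedFittingSubgroup G' ≃* Equiv.Perm (Fin 3))) : Nonempty (G ≃* G') := by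
  classical
  obtain ⟨e⟩ := hF
  obtain ⟨e'⟩ := hF'
  obtain ⟨qe⟩ := hq
  obtain ⟨qe'⟩ := hq'
  haveI : Fact (Nat.Prime 3) := ⟨by norm_num⟩
  have hK : Function.Injective (MulAut.conj : Cfsg.POmega (ZMod 3) (Cfsg.quadFormPlus 4 (ZMod 3)) → _) := by
    rw [← H43.coe_qPlus]
    exact H43.Bal.conj_inj (H43.qPlus_nondeg 4) (by simp)
  obtain ⟨φ⟩ := (H43.D4.out_plus_eight (K := ZMod 3) (p := 3) (f := 1) (le_refl 1) (by simp)).2 (by norm_num)
  haveI : Subsingleton (Multiplicative (ZMod 1)) := inferInstanceAs (Subsingleton (ZMod 1))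
  let ψ := φ.trans (MulEquiv.prodUnique : Equiv.Perm (Fin 4) × Multiplicative (ZMod 1) ≃* Equiv.Perm (Fin 4))
  have hc := Cfsg.Comp.centralizer_fStar_le (G := G)
  have hc' := Cfsg.Comp.centralizer_fStar_le (G := G')
  set H := (H43.Ext.toAut _ e).range.map (QuotientGroup.mk' (Cfsg.Inn _))
  set H' := (H43.Ext.toAut _ e').range.map (QuotientGroup.mk' (Cfsg.Inn _))
  have hH : Nat.card (H.map ψ.toMonoidHom) = 6 := by
    rw [← Nat.card_congr (H.equivMapOfInjective _ ψ.injective).toEquiv, H43.Ext.card_image _ e hc hK, Nat.card_congr qe.toEquiv, Nat.card_perm, Nat.card_fin, show Nat.factorial 3 = 6 from rfl]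
  have hH' : Nat.card (H'.map ψ.toMonoidHom) = 6 := by
    rw [← Nat.card_congr (H'.equivMapOfInjective _ ψ.injective).toEquiv, H43.Ext.card_image _ e' hc' hK, Nat.card_congr qe'.toEquiv, Nat.card_perm, Nat.card_fin, show Nat.factorial 3 = 6 from rfl]
  obtain ⟨s, hs⟩ := H43.Ext.exists_conj_six _ _ hH hH'
  refine H43.Ext.iso_of_conj_images _ e _ e' hc hc' hK (ψ.symm s) ?_
  apply Subgroup.map_injective (f := ψ.toMonoidHom) ψ.injective
  rw [← hs]
  refine (Subgroup.map_map H _ _).trans (Eq.trans ?_ (Subgroup.map_map H _ _).symm)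
  congr 1
  refine MonoidHom.ext fun x => ?_
  show ψ (ψ.symm s * x * (ψ.symm s)⁻¹) = MulAut.conj s (ψ x)
  rw [MulAut.conj_apply]
  rw [map_mul, map_mul, map_inv, MulEquiv.apply_symm_apply]

end Cfsg.Agent.S5515
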