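import Cfsg.Statements.S5516
import Cfsg.Agent.H43.Extension
import Cfsg.Agent.H43.Bal.Orth
import Cfsg.Agent.H7.O8.Classes

set_option autoImplicit false
open Cfsg

namespace Cfsg.Agent.S5516

open H43 H43.D4 H43.AutPO H7.O8

/-- PΩ⁺(8, 3) (the commutator subgroup of the isometry group of the hyperbolic quadratic form in dimension 8 over the field with three elements, modulo its centre) has exactly 13 conjugacy classes of subgroups of order 3; and a finite group G whose generalized Fitting subgroup L is isomorphic to PΩ⁺(8, 3) with G/L the symmetric group of degree 3 has exactly 7 orbits, under conjugation, on the subgroups of L of order 3. -/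
theorem result {G : Type*} [Group G] [Finite G] (L : Subgroup G) (hL : L = Cfsg.generalizedFittingSubgroup G) (hF : Nonempty (↥L ≃* Cfsg.POmega (ZMod 3) (Cfsg.quadFormPlus 4 (ZMod 3)))) [hn : L.Normal] (hq : Nonempty (G ⧸ L ≃* Equiv.Perm (Fin 3))) : (∃ Y : Fin 13 → Subgroup (Cfsg.POmega (ZMod 3) (Cfsg.quadFormPlus 4 (ZMod 3))), (∀ i, Nat.card (Y i) = 3) ∧ (∀ i j, (∃ g : Cfsg.POmega (ZMod 3) (Cfsg.quadFormPlus 4 (ZMod 3)), (Y i).map (MulAut.conj g).toMonoidHom = Y j) → i = j) ∧ (∀ X : Subgroup (Cfsg.POmega (ZMod 3) (Cfsg.quadFormPlus 4 (ZMod 3))), Nat.card X = 3 → ∃ i, ∃ g : Cfsg.POmega (ZMod 3) (Cfsg.quadFormPlus 4 (ZMod 3)), X.map (MulAut.conj g).toMonoidHom = Y i)) ∧ ∃ Y : Fin 7 → Subgroup G, (∀ i, Y i ≤ L ∧ Nat.card (Y i) = 3) ∧ (∀ i j, (∃ g : G, (Y i).map (MulAut.conj g).toMonoidHom = Y j) → i = j) ∧ ∀ X : Subgroup G, X ≤ L → Nat.card X = 3 → ∃ i, ∃ g : G, X.map (MulAut.conj g).toMonoidHom = Y i := by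
  classical
  obtain ⟨e₀⟩ := hF
  obtain ⟨qe⟩ := hq
  have φ : Cfsg.POmega (ZMod 3) (Cfsg.quadFormPlus 4 (ZMod 3)) ≃* P := by
    rw [← coe_qPlus]; exact pomegaEquiv _
  constructor
  · refine ⟨fun i => (rootS i).map φ.symm.toMonoidHom, fun i => ?_, ?_, ?_⟩
    · rw [← Nat.card_congr ((rootS i).equivMapOfInjective _ φ.symm.injective).toEquiv, card_rootS]
    · rintro i j ⟨g, hg⟩
      refine rootS_sep (g := φ g) (Subgroup.map_injective (f := φ.symm.toMonoidHom) φ.symm.injective ?_)
      dsimp only at hg ⊢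
      rw [← hg, Subgroup.map_map, Subgroup.map_map]
      congr 1
      exact MonoidHom.ext fun x => by simp
    · intro X hX
      obtain ⟨c, g, hg⟩ := rootS_cover (X.map φ.toMonoidHom)
        (by rw [← Nat.card_congr (X.equivMapOfInjective _ φ.injective).toEquiv, hX])
      refine ⟨c, φ.symm g, ?_⟩
      dsimp only
      rw [← hg, Subgroup.map_map, Subgroup.map_map]
      congr 1
      exact MonoidHom.ext fun x => by simp
  haveI : Fact (Nat.Prime 3) := ⟨by norm_num⟩
  set e : ↥L ≃* P := e₀.trans φ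
  have hK : Function.Injective (MulAut.conj : P → MulAut P) := conj_pom_injective
  obtain ⟨θ, hP, hθ⟩ := exists_triality_hom (F := F3)
  obtain ⟨ψ₀⟩ := (out_plus_eight (K := ZMod 3) (p := 3) (f := 1) (le_refl 1) (by simp)).2 (by norm_num)
  obtain ⟨ψ₁⟩ := out_congr φ.symm
  haveI : Subsingleton (Multiplicative (ZMod 1)) := inferInstanceAs (Subsingleton (ZMod 1))
  let ψ := ψ₁.trans (ψ₀.trans
    (MulEquiv.prodUnique : Equiv.Perm (Fin 4) × Multiplicative (ZMod 1) ≃* Equiv.Perm (Fin 4)))
  have hc : Subgroup.centralizer (L : Set G) ≤ L := by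
    subst hL; exact Cfsg.Comp.centralizer_fStar_le
  set π := QuotientGroup.mk' (Cfsg.Inn P)
  set R := (H43.Ext.toAut L e).range
  haveI := finite_out (F := F3)
  have hR : Nat.card (R.map π) = 6 := by
    rw [H43.Ext.card_image L e hc hK, Nat.card_congr qe.toEquiv, Nat.card_perm, Nat.card_fin,
      show Nat.factorial 3 = 6 from rfl]
  have hGmap : (Gam θ).map π = Subgroup.closure {omk F3 θ, omk F3 (rho F3)} := by
    rw [Gam, MonoidHom.map_closure, Set.image_union, Set.image_pair]
    refine le_antisymm ((Subgroup.closure_le _).2 ?_) (Subgroup.closure_mono Set.subset_union_right)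
    rintro x (⟨y, hy, rfl⟩ | hx)
    · rw [show π y = 1 from (QuotientGroup.eq_one_iff y).2 hy]
      exact one_mem _
    · exact Subgroup.subset_closure hx
  have hG : Nat.card ((Gam θ).map π) = 6 := by
    rw [hGmap]; exact (braid_out hθ hP).card_closure
  obtain ⟨s, hs⟩ := H43.Ext.exists_conj_six (((Gam θ).map π).map ψ.toMonoidHom)
    ((R.map π).map ψ.toMonoidHom)
    (by rw [← Nat.card_congr (((Gam θ).map π).equivMapOfInjective _ ψ.injective).toEquiv, hG])
    (by rw [← Nat.card_congr ((R.map π).equivMapOfInjective _ ψ.injective).toEquiv, hR])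
  obtain ⟨σ, hσ⟩ := QuotientGroup.mk'_surjective (Cfsg.Inn P) (ψ.symm s)
  have hmem : ∀ a, a ∈ R ↔ σ⁻¹ * a * σ ∈ Gam θ := by
    intro a
    have hg : ∀ (H : Subgroup (MulAut P)), Cfsg.Inn P ≤ H → ∀ x, π x ∈ H.map π ↔ x ∈ H := by
      intro H hH x
      rw [← Subgroup.mem_comap, Subgroup.comap_map_eq_self]
      rw [QuotientGroup.ker_mk']; exact hH
    rw [← hg R (H43.Ext.inn_le_range L e) a, ← hg (Gam θ) inn_le_Gam, map_mul, map_mul, map_inv,
      show π σ = ψ.symm s from hσ, ← Subgroup.mem_map_iff_mem (f := ψ.toMonoidHom) ψ.injective, ← hs,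
      ← Subgroup.mem_map_iff_mem (f := ψ.toMonoidHom) (K := (Gam θ).map π) ψ.injective]
    rw [Subgroup.mem_map_equiv, MulAut.conj_symm_apply]
    simp only [MulEquiv.coe_toMonoidHom, map_mul, map_inv, MulEquiv.apply_symm_apply]
  set f : ↥L ≃* P := e
  let Yg : Fin 7 → Subgroup G := fun i =>
    (((rootS (first i)).map σ.toMonoidHom).map f.symm.toMonoidHom).map L.subtype
  have hYle : ∀ i, Yg i ≤ L := fun i => Subgroup.map_subtype_le _
  have htr : ∀ (g : G) (A : Subgroup P),
      ((A.map f.symm.toMonoidHom).map L.subtype).map (MulAut.conj g).toMonoidHom =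
      ((A.map (H43.Ext.toAut L e g).toMonoidHom).map f.symm.toMonoidHom).map L.subtype := by
    intro g A
    simp only [Subgroup.map_map]
    congr 1
    refine MonoidHom.ext fun x => ?_
    obtain ⟨n, rfl⟩ := f.surjective x
    simp [H43.Ext.toAut_apply, f]
  have hinj : ∀ A B : Subgroup P, (A.map f.symm.toMonoidHom).map L.subtype =
      (B.map f.symm.toMonoidHom).map L.subtype → A = B := fun A B h =>
    Subgroup.map_injective (f := f.symm.toMonoidHom) f.symm.injective
      (Subgroup.map_injective L.subtype_injective h)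
  refine ⟨Yg, fun i => ⟨hYle i, ?_⟩, ?_, ?_⟩
  · rw [Subgroup.card_map_of_injective L.subtype_injective,
      Subgroup.card_map_of_injective f.symm.injective, Subgroup.card_map_of_injective σ.injective,
      card_rootS]
  · rintro i j ⟨g, hg⟩
    rw [htr] at hg
    have h1 := hinj _ _ hg
    have h2 : (rootS (first i)).map (σ⁻¹ * H43.Ext.toAut L e g * σ).toMonoidHom = rootS (first j) := by
      rw [← map_map_aut, ← map_map_aut, h1, map_map_aut, inv_mul_cancel]
      exact Subgroup.map_id _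
    exact seven_sep hθ ((hmem _).1 ⟨g, rfl⟩) h2
  · intro X hX hX3
    set A := (X.subgroupOf L).map f.toMonoidHom with hA
    have hXA : (A.map f.symm.toMonoidHom).map L.subtype = X := by
      rw [hA, Subgroup.map_map, Subgroup.map_map]
      rw [show (L.subtype.comp f.symm.toMonoidHom).comp f.toMonoidHom = L.subtype from
        MonoidHom.ext fun x => by simp]
      rw [Subgroup.subgroupOf, Subgroup.map_comap_eq, Subgroup.range_subtype, inf_eq_right.2 hX]
    have hA3 : Nat.card (A.map σ.symm.toMonoidHom) = 3 := by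
      rw [Subgroup.card_map_of_injective σ.symm.injective, hA,
        Subgroup.card_map_of_injective f.injective,
        Nat.card_congr (Subgroup.subgroupOfEquivOfLe hX).toEquiv, hX3]
    obtain ⟨a, α, hα, h⟩ := seven_cover hθ _ hA3
    obtain ⟨g, hg⟩ : σ * α * σ⁻¹ ∈ R := (hmem _).2 (by
      rw [show σ⁻¹ * (σ * α * σ⁻¹) * σ = α by group]; exact hα)
    refine ⟨a, g, ?_⟩
    conv_lhs => rw [← hXA]
    rw [htr, hg]
    show _ = (((rootS (first a)).map σ.toMonoidHom).map f.symm.toMonoidHom).map L.subtype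
    rw [← h, map_map_aut, show σ.symm.toMonoidHom = (σ⁻¹ : MulAut P).toMonoidHom from rfl,
      map_map_aut]

end Cfsg.Agent.S5516
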