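import Cfsg.Statements.S5517
import Cfsg.Agent.H99.FiTwoTwo.Iso
import Cfsg.Agent.H96.Fi22O7
-- import your own Cfsg.Agent.* helpers here

set_option autoImplicit false
open Cfsg

namespace Cfsg.Agent.S5517

/-- Let G be a finite group with trivial centre generated by a conjugation-invariant set D of 3-transpositions on which it acts primitively, such that for some d in D the subgroup generated by the members of D other than d commuting with d has central largest normal 2- and 3-subgroups, and suppose G with D is of type M(22). Then G has a subgroup L generated by the members of D it contains and isomorphic to Ω(7, 3) (the commutator subgroup of the isometry group of a non-degenerate 7-dimensional quadratic form over the field with three elements, modulo its centre), and every Sylow 3-subgroup of L is a Sylow 3-subgroup of G. -/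
theorem result {G : Type*} [Group G] [Finite G] {D : Set G} (hD : Cfsg.IsThreeTranspositionGroup D) (hprim : Cfsg.IsPrimitiveUnderConj D) (d₀ : G) (hd₀ : d₀ ∈ D) (h3 : Cfsg.pCore 3 ↥(Subgroup.closure {y : G | y ∈ D ∧ y ≠ d₀ ∧ Commute d₀ y}) ≤ Subgroup.center ↥(Subgroup.closure {y : G | y ∈ D ∧ y ≠ d₀ ∧ Commute d₀ y})) (h2 : Cfsg.pCore 2 ↥(Subgroup.closure {y : G | y ∈ D ∧ y ≠ d₀ ∧ Commute d₀ y}) ≤ Subgroup.center ↥(Subgroup.closure {y : G | y ∈ D ∧ y ≠ d₀ ∧ Commute d₀ y})) (h22 : Cfsg.IsOfTypeM22 G D) : ∃ L : Subgroup G, Cfsg.IsDSubgroup D L ∧ Nonempty (↥L ≃* Cfsg.POmega (ZMod 3) (Cfsg.quadFormOdd 3 (ZMod 3))) ∧ ∀ P : Sylow 3 ↥L, ∃ P' : Sylow 3 G, (P : Subgroup ↥L).map L.subtype = (P' : Subgroup G) := by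
  obtain ⟨e, he⟩ := H99.FiTwoTwo.exists_equiv hD hprim h22
  haveI := H96.Fi22O7.finite_G
  obtain ⟨i⟩ := H96.Fi22O7.main
  set L : Subgroup G := H96.Fi22O7.HS.map e.toMonoidHom with hL
  let eL : ↥H96.Fi22O7.HS ≃* ↥L := e.subgroupMap H96.Fi22O7.HS
  refine ⟨L, ?_, ⟨eL.symm.trans i⟩, fun P => ?_⟩
  · refine le_antisymm ((Subgroup.closure_le _).2 fun d hd => hd.2) ?_
    rw [hL, H96.Fi22O7.hs_eq, MonoidHom.map_closure]
    refine Subgroup.closure_mono ?_
    rintro _ ⟨_, ⟨k, rfl⟩, rfl⟩
    refine ⟨?_, Subgroup.subset_closure ⟨_, ⟨k, rfl⟩, rfl⟩⟩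
    have hlt : k.val + 1 < H93.Fi22ATable.gens.length := by
      show k.val + 1 < 9
      omega
    show e (H93.Coset.coxGen _ _ _ (k.val + 1)) ∈ D
    simp only [H93.Coset.coxGen, List.getElem?_eq_getElem hlt]
    exact he _
  · haveI : Finite ↥L := inferInstance
    have hLcard : Nat.card L = 4585351680 := by
      rw [← Nat.card_congr eL.toEquiv, H96.Fi22O7.card_hs]
    have hGcard : Nat.card G = 64561751654400 := by
      rw [← Nat.card_congr e.toEquiv, H93.Fi22Order.isFi22.2]
    have hP : Nat.card ((P : Subgroup ↥L).map L.subtype) = 3 ^ (Nat.card G).factorization 3 := by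
      rw [Subgroup.card_map_of_injective L.subtype_injective, Sylow.card_eq_multiplicity, hLcard,
        hGcard]
      congr 1
      have hf : ∀ n m : ℕ, m ≠ 0 → ¬ 3 ∣ m → n = 3 ^ 9 * m → n.factorization 3 = 9 := by
        rintro n m hm hd rfl
        rw [Nat.factorization_mul (by norm_num) hm, Finsupp.add_apply,
          Nat.factorization_eq_zero_of_not_dvd hd, add_zero, Nat.Prime.factorization_pow Nat.prime_three,
          Finsupp.single_eq_same]
      rw [hf 4585351680 232960 (by norm_num) (by norm_num) (by norm_num),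
        hf 64561751654400 3280076800 (by norm_num) (by norm_num) (by norm_num)]
    exact ⟨Sylow.ofCard _ hP, (Sylow.coe_ofCard _ hP).symm⟩

end Cfsg.Agent.S5517
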