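import Cfsg.Statements.S5518
import Cfsg.Agent.H24.Fischer.Fi24PairOrbits
import Cfsg.Agent.H24.Fischer.Thirteen24


set_option autoImplicit false
open Cfsg

namespace Cfsg.Agent.S5518

/-- Let G be a finite group with trivial centre generated by a conjugation-invariant set D of 3-transpositions on which it acts primitively, such that for some d in D the subgroup generated by the members of D other than d commuting with d has central largest normal 2- and 3-subgroups, and suppose G with D is of type M(24). Then any two subgroups of order 13 are conjugate; and there are members a, b, c, d of D generating the direct product T of two symmetric groups of degree 3 (a, d non-commuting; b, c non-commuting; b and c commuting with a and d) whose centralizer K is isomorphic to the Chevalley group G₂(3), such that for every subgroup B of K of order 13: the normalizer of B lies in the normalizer of K, the normalizer F of B in K is a Frobenius group of order 78 with kernel B (order 78, centralizer of B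 in it equal to B), and the subgroup generated by F and T has index 2 in the normalizer of B. -/
theorem result {G : Type*} [Group G] [Finite G] {D : Set G} (hD : Cfsg.IsThreeTranspositionGroup D) (hprim : Cfsg.IsPrimitiveUnderConj D) (d₀ : G) (hd₀ : d₀ ∈ D) (h3 : Cfsg.pCore 3 ↥(Subgroup.closure {y : G | y ∈ D ∧ y ≠ d₀ ∧ Commute d₀ y}) ≤ Subgroup.center ↥(Subgroup.closure {y : G | y ∈ D ∧ y ≠ d₀ ∧ Commute d₀ y})) (h2 : Cfsg.pCore 2 ↥(Subgroup.closure {y : G | y ∈ D ∧ y ≠ d₀ ∧ Commute d₀ y}) ≤ Subgroup.center ↥(Subgroup.closure {y : G | y ∈ D ∧ y ≠ d₀ ∧ Commute d₀ y})) (h24 : Cfsg.IsOfTypeM24 G D) : (∀ X Y : Subgroup G, Nat.card X = 13 → Nat.card Y = 13 → ∃ g : G, X.map (MulAut.conj g).toMonoidHom = Y) ∧ ∃ (a b c d : G) (T K : Subgroup G), (∀ x ∈ [a, b, c, d], x ∈ D) ∧ ¬ Commute a d ∧ ¬ Commute b c ∧ Commute a b ∧ Commute a c ∧ Commute d b ∧ Commute d c ∧ T = Subgroup.closure ({a, b, c, d} : Set G) ∧ K = Subgroup.centralizer (T : Set G) ∧ Nonempty (↥K ≃* ↥(Cfsg.Lie.chevG2.group (ZMod 3))) ∧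 ∀ B : Subgroup G, B ≤ K → Nat.card B = 13 → Subgroup.normalizer ((B : Subgroup G) : Set G) ≤ Subgroup.normalizer ((K : Subgroup G) : Set G) ∧ Nat.card ↥(K ⊓ Subgroup.normalizer ((B : Subgroup G) : Set G)) = 78 ∧ K ⊓ Subgroup.centralizer ((B : Subgroup G) : Set G) = B ∧ (((K ⊓ Subgroup.normalizer ((B : Subgroup G) : Set G)) ⊔ T).subgroupOf (Subgroup.normalizer ((B : Subgroup G) : Set G))).index = 2 := by
  refine ⟨fun X Y hX hY => H24.Fischer.conjugate_thirteen hD hprim h24 hX hY, ?_⟩
  have hs := H82.Fischer.m24_step hD hprim h24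
  obtain ⟨a, ha, d, hd, had⟩ : ∃ a ∈ D, ∃ d ∈ D, ¬ Commute a d := by
    obtain ⟨a, ha, hlt⟩ : ∃ a ∈ D, (H99.perp D a).ncard + 1 < D.ncard :=
      ⟨d₀, hd₀, by rw [hs.good.srg.deg d₀ hd₀, hs.good.srg.card]; norm_num⟩
    have hins : (insert a (H99.perp D a)).ncard < D.ncard :=
      (Set.ncard_insert_le _ _).trans_lt hlt
    obtain ⟨d, hd, hnot⟩ := Set.exists_mem_notMem_of_ncard_lt_ncard hins (Set.toFinite _)
    refine ⟨a, ha, d, hd, fun hc => hnot ?_⟩
    by_cases e : d = a
    · exact Or.inl e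
    · exact Or.inr ⟨hd, e, hc⟩
  obtain ⟨b₁, c₁, b, c, hmem, -, hbc, -, -, -, ⟨e⟩⟩ :=
    H24.Fischer.m24_pair_orbits hD hprim h24 ha hd had
  obtain ⟨hbD, hab, hdb⟩ := hmem b (by simp)
  obtain ⟨hcD, hac, hdc⟩ := hmem c (by simp)
  have hset : ({a, b, c, d} : Set G) = {a, d, b, c} := by
    ext x; simp only [Set.mem_insert_iff, Set.mem_singleton_iff]; tauto
  have hK : Subgroup.centralizer ((Subgroup.closure ({a, b, c, d} : Set G) : Subgroup G) : Set G) =
      Subgroup.centralizer ({a, b, c, d} : Set G) := Subgroup.centralizer_closure _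
  refine ⟨a, b, c, d, _, _, ?_, had, hbc, hab, hac, hdb, hdc, rfl, rfl, ?_, fun B hB hB13 => ?_⟩
  · intro x hx
    simp only [List.mem_cons, List.not_mem_nil, or_false] at hx
    rcases hx with rfl | rfl | rfl | rfl <;> assumption
  · rw [hK, hset]; exact ⟨e⟩
  · rw [hK] at hB
    have hf : ∀ y ∈ ({a, b, c, d} : Set G), y ∈ D → y ∈ H82.Fischer.fixSet D B := fun y hy hyD =>
      ⟨hyD, Subgroup.mem_centralizer_iff.2 fun x hx =>
        (Subgroup.mem_centralizer_iff.1 (hB hx) y hy).symm⟩
    have h := H24.Fischer.thirteen24_main hD hprim h24 (hf a (by simp) ha) (hf b (by simp) hbD)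
      (hf c (by simp) hcD) (hf d (by simp) hd) had hbc hab hac hdb hdc hB13
    refine ⟨h.1, ?_⟩
    rw [hK]
    exact h.2

end Cfsg.Agent.S5518
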