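import Cfsg.Statements.S5519
import Cfsg.Agent.H5.Gq.Quotient
-- import your own Cfsg.Agent.* helpers here

set_option autoImplicit false
open Cfsg

namespace Cfsg.Agent.S5519

/-- Let G be a finite group with trivial centre generated by a conjugation-invariant set D of 3-transpositions on which it acts primitively, such that for some d in D the subgroup generated by the members of D other than d commuting with d has central largest normal 2- and 3-subgroups, and suppose G with D is of type M(22). Let d₁, d₂ be distinct commuting members of D and C the centralizer of their product. Then the generalized Fitting subgroup of C is the direct product of a group of order 2 and an extraspecial 2-group of order 2^9, and C modulo it is isomorphic to the full isometry group of the elliptic quadratic form in dimension 6 over the field with two elements. -/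
theorem result {G : Type*} [Group G] [Finite G] {D : Set G} (hD : Cfsg.IsThreeTranspositionGroup D) (hprim : Cfsg.IsPrimitiveUnderConj D) (d₀ : G) (hd₀ : d₀ ∈ D) (h3 : Cfsg.pCore 3 ↥(Subgroup.closure {y : G | y ∈ D ∧ y ≠ d₀ ∧ Commute d₀ y}) ≤ Subgroup.center ↥(Subgroup.closure {y : G | y ∈ D ∧ y ≠ d₀ ∧ Commute d₀ y})) (h2 : Cfsg.pCore 2 ↥(Subgroup.closure {y : G | y ∈ D ∧ y ≠ d₀ ∧ Commute d₀ y}) ≤ Subgroup.center ↥(Subgroup.closure {y : G | y ∈ D ∧ y ≠ d₀ ∧ Commute d₀ y})) (h22 : Cfsg.IsOfTypeM22 G D) (d₁ d₂ : G) (h₁ : d₁ ∈ D) (h₂ : d₂ ∈ D) (hne : d₁ ≠ d₂) (hc : Commute d₁ d₂) (C : Subgroup G) (hC : C = Subgroup.centralizer ({d₁ * d₂} : Set G)) [hn : (Cfsg.generalizedFittingSubgroup ↥C).Normal] : (∃ (E : Type) (_ : Group E) (_ : Finite E), Cfsg.IsExtraspecial 2 E ∧ Nat.card E = 2 ^ 9 ∧ Nonempty (↥(Cfsg.generalizedFittingSubgroup ↥C) ≃* Multiplicative (ZMod 2) × E)) ∧ Nonempty (↥C ⧸ Cfsg.generalizedFittingSubgroup ↥C ≃* Cfsg.isometryGroup (ZMod 2) (Cfsg.quadFormMinus 2 (ZMod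 2) 1 1)) := by
  obtain ⟨F, _, _, S⟩ := H5.Gq.exists_setup hD hprim h22
  obtain ⟨T⟩ := S.exists_duo h₁ h₂ hne hc
  obtain rfl : C = T.cen := hC
  have hF : Cfsg.generalizedFittingSubgroup ↥T.cen = T.act.ker := T.fStar
  have e0 : ↥(Cfsg.generalizedFittingSubgroup ↥T.cen) ≃* ↥T.ker :=
    (MulEquiv.subgroupCongr hF).trans
      (T.act.ker.equivMapOfInjective T.cen.subtype T.cen.subtype_injective)
  obtain ⟨E, hE, hcard, ⟨e⟩⟩ := T.ker_split
  obtain ⟨ψ⟩ := T.quot_iso
  let e' : {i : Fin (Nat.card ↥E) // True} ≃ ↥E :=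
    (Equiv.subtypeUnivEquiv fun _ => trivial).trans (Finite.equivFin ↥E).symm
  letI : Group {i : Fin (Nat.card ↥E) // True} := e'.group
  refine ⟨⟨{i : Fin (Nat.card ↥E) // True}, inferInstance, inferInstance, ?_, ?_, ?_⟩,
    ⟨(QuotientGroup.quotientMulEquivOfEq hF).trans ψ⟩⟩
  · exact H5.Gq.extraspecial_congr e'.mulEquiv.symm hE
  · rw [Nat.card_congr e', hcard]
  · exact ⟨(e0.trans e).trans (MulEquiv.prodCongr (MulEquiv.refl _) e'.mulEquiv.symm)⟩

end Cfsg.Agent.S5519
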