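import Cfsg.Statements.S5520
import Cfsg.Agent.H57.UFour.Transfer
-- import your own Cfsg.Agent.* helpers here

set_option autoImplicit false
open Cfsg

namespace Cfsg.Agent.S5520

/-- In the special unitary group of dimension 6 over the field with four elements (determinant-one matrices preserving the standard Hermitian form), the subgroups K whose centre has order 3 with K modulo its centre isomorphic to the projective special unitary group of dimension 4 over the field with nine elements fall into exactly three conjugacy classes. -/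
theorem result (F : Type) [Field F] [Fintype F] (hF : Fintype.card F = 4) (F9 : Type) [Field F9] [Fintype F9] (hF9 : Fintype.card F9 = 9) : ∃ K₁ K₂ K₃ : Subgroup ↥(Cfsg.SU 6 F 2), (∀ K ∈ [K₁, K₂, K₃], Nat.card ↥(Subgroup.center ↥K) = 3 ∧ Nonempty (↥K ⧸ Subgroup.center ↥K ≃* Cfsg.PSU 4 F9 3)) ∧ (¬ ∃ g : ↥(Cfsg.SU 6 F 2), K₁.map (MulAut.conj g).toMonoidHom = K₂) ∧ (¬ ∃ g : ↥(Cfsg.SU 6 F 2), K₁.map (MulAut.conj g).toMonoidHom = K₃) ∧ (¬ ∃ g : ↥(Cfsg.SU 6 F 2), K₂.map (MulAut.conj g).toMonoidHom = K₃) ∧ ∀ K : Subgroup ↥(Cfsg.SU 6 F 2), Nat.card ↥(Subgroup.center ↥K) = 3 → Nonempty (↥K ⧸ Subgroup.center ↥K ≃* Cfsg.PSU 4 F9 3) → ∃ g : ↥(Cfsg.SU 6 F 2), K.map (MulAut.conj g).toMonoidHom = K₁ ∨ K.map (MulAut.conj g).toMonoidHom = K₂ ∨ K.map (MulAut.conj g).toMonoidHom = K₃ := by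
  classical
  have hK4 : Fintype.card H35.G24.K4 = Fintype.card F := by rw [H35.G24.K4.card_eq, hF]
  let φ : H35.G24.K4 ≃+* F := FiniteField.ringEquivOfCardEq hK4
  let e := H57.U43.suEquiv φ 6 2
  obtain ⟨hfacts, hne, hall⟩ := H57.U43.three_classes (F := F9) hF9
  let Ks : Fin 3 → Subgroup ↥(Cfsg.SU 6 F 2) := fun k => (H57.U43.konK k).map e.toMonoidHom
  have hK : ∀ k, Nat.card (Subgroup.center ↥(Ks k)) = 3 ∧
      Nonempty (↥(Ks k) ⧸ Subgroup.center ↥(Ks k) ≃* Cfsg.PSU 4 F9 3) := by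
    intro k
    obtain ⟨h1, ⟨i1⟩⟩ := hfacts k
    obtain ⟨h2, ⟨i2⟩⟩ := H57.U43.quot_congr
      ((H57.U43.konK k).equivMapOfInjective e.toMonoidHom e.injective)
    exact ⟨h2.symm.trans h1, ⟨i2.symm.trans i1⟩⟩
  have hnc : ∀ j k, j ≠ k →
      ¬ ∃ g : ↥(Cfsg.SU 6 F 2), (Ks j).map (MulAut.conj g).toMonoidHom = Ks k := by
    rintro j k hjk ⟨g, hg⟩
    obtain ⟨g', rfl⟩ := e.surjective g
    refine hne j k hjk g' (Subgroup.map_injective (f := e.toMonoidHom) e.injective ?_)
    rw [H57.U43.map_conj_equiv]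
    exact hg
  refine ⟨Ks 0, Ks 1, Ks 2, ?_, hnc 0 1 (by decide), hnc 0 2 (by decide), hnc 1 2 (by decide), ?_⟩
  · intro K hKm
    simp only [List.mem_cons, List.not_mem_nil, or_false] at hKm
    rcases hKm with rfl | rfl | rfl <;> exact hK _
  · intro K hc hi
    obtain ⟨h2, ⟨i2⟩⟩ := H57.U43.quot_congr
      (K.equivMapOfInjective e.symm.toMonoidHom e.symm.injective)
    obtain ⟨g, k, hg⟩ := hall (K.map e.symm.toMonoidHom) (h2.symm.trans hc)
      ⟨i2.symm.trans hi.some⟩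
    have hback : (K.map e.symm.toMonoidHom).map e.toMonoidHom = K := by
      rw [Subgroup.map_map]
      conv_rhs => rw [← Subgroup.map_id K]
      congr 1
      ext x
      simp
    have hfin : K.map (MulAut.conj (e g)).toMonoidHom = Ks k := by
      show _ = (H57.U43.konK k).map e.toMonoidHom
      rw [← hg, H57.U43.map_conj_equiv, hback]
    refine ⟨e g, ?_⟩
    fin_cases k
    · exact Or.inl hfin
    · exact Or.inr (Or.inl hfin)
    · exact Or.inr (Or.inr hfin)

end Cfsg.Agent.S5520
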