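import Cfsg.Statements.S5521
import Cfsg.Agent.H94.PointSix

set_option autoImplicit false
open Cfsg

namespace Cfsg.Agent.S5521

/-- The Mathieu group M₂₄ in its natural action on the 24 coordinate positions of the binary Golay code has minimal base size exactly 7: every set of at most 6 positions is fixed pointwise by some non-identity element of M₂₄, while some set of 7 positions is fixed pointwise only by the identity. -/
theorem result :
    (∀ B : Finset Cfsg.GolayPt, B.card ≤ 6 → ∃ g ∈ Cfsg.M24, g ≠ 1 ∧ ∀ b ∈ B, g b = b) ∧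
    (∃ B : Finset Cfsg.GolayPt, B.card = 7 ∧ ∀ g ∈ Cfsg.M24, (∀ b ∈ B, g b = b) → g = 1) := by
  classical
  constructor
  · intro B hB
    obtain ⟨T, hBT, -, hT⟩ := Finset.exists_subsuperset_card_eq (Finset.subset_univ B) hB
      (show 6 ≤ (Finset.univ : Finset Cfsg.GolayPt).card by simp [Cfsg.GolayPt])
    let e : Fin 6 ≃ ↥T := (Fintype.equivFinOfCardEq (by rw [Fintype.card_coe, hT])).symm
    let a : ℕ → Cfsg.GolayPt := fun i => if h : i < 6 then e ⟨i, h⟩ else none
    have haval : ∀ i (h : i < 6), a i = e ⟨i, h⟩ := fun i h => by simp [a, h]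
    have ha : ∀ i < 6, ∀ j < 6, a i = a j → i = j := by
      intro i hi j hj h
      rw [haval i hi, haval j hj] at h
      exact congrArg Fin.val (e.injective (Subtype.ext h))
    have hcard := H94.card_fix_six ha
    have h1 : 1 < Nat.card {g : Equiv.Perm Cfsg.GolayPt // g ∈ Cfsg.M24 ∧ ∀ i < 6, g (a i) = a i} := by
      rw [hcard]; split_ifs <;> norm_num
    rw [Finite.one_lt_card_iff_nontrivial] at h1
    obtain ⟨g, hg⟩ := exists_ne
      (⟨1, Cfsg.M24.one_mem, fun i _ => rfl⟩ :
        {g : Equiv.Perm Cfsg.GolayPt // g ∈ Cfsg.M24 ∧ ∀ i < 6, g (a i) = a i})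
    refine ⟨g.1, g.2.1, fun e1 => hg (Subtype.ext e1), fun b hb => ?_⟩
    have := g.2.2 (e.symm ⟨b, hBT hb⟩) (e.symm ⟨b, hBT hb⟩).2
    rwa [haval _ (e.symm ⟨b, hBT hb⟩).2, Fin.eta, Equiv.apply_symm_apply] at this
  · refine ⟨H90.setOf' 191, ?_, fun g hg hfix => H94.eq_one_of_fix_base hg fun i hi => hfix _ ?_⟩
    · rw [H90.card_setOf']; decide +kernel
    · have h := (show ∀ i ∈ ([0, 1, 2, 3, 4, 7, 5] : List ℕ), i < 24 ∧ H94.bitB 191 i = true by
        decide +kernel) i hi
      rw [H94.mem_setOf'_ptN h.1, ← H94.bitB_eq]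
      exact h.2

end Cfsg.Agent.S5521
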