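import Cfsg.Statements.S5522
import Cfsg.Agent.H94.FixCounts
import Cfsg.Agent.H94.DodecadSharp
import Cfsg.Agent.H87.MathieuCert

set_option autoImplicit false
open scoped Pointwise
open Cfsg

namespace Cfsg.Agent.S5522

/-- The Mathieu group M₁₁, realised as the stabiliser of one point of the dodecad of squares inside the stabiliser M₁₂ of that dodecad in M₂₄, acts on the twelve coordinate positions outside the dodecad of squares (its 3-transitive action of degree 12); in this action every element of prime order fixes a point, i.e. the action is elusive. -/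
theorem result (g : Equiv.Perm Cfsg.GolayPt) (hg : g ∈ Cfsg.Spor.M11) (hord : (orderOf g).Prime) :
    ∃ x : Cfsg.GolayPt, x ∉ Cfsg.Spor.squareDodecad ∧ g x = x := by
  classical
  obtain ⟨⟨hgM, hgd⟩, hg0⟩ := hg
  have hgd' : g • Cfsg.Spor.squareDodecad = Cfsg.Spor.squareDodecad := hgd
  have hg0' : g (some 0) = some 0 := hg0
  by_contra hno
  push Not at hno
  have hsub : ∀ p, g p = p → p ∈ Cfsg.Spor.squareDodecad := fun p hp => by
    by_contra h; exact hno p h hp
  have hbig : (Finset.univ.filter fun p => g p = p).card < 5 := by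
    by_contra hb
    have := H94.dodecad_eq_one_of_fix H87.squareDodecad_mem (s := Finset.univ.filter fun p => g p = p)
      (by omega) (fun p hp => hsub p (Finset.mem_filter.mp hp).2) hgM hgd'
      (fun p hp => (Finset.mem_filter.mp hp).2)
    rw [this, orderOf_one] at hord
    exact Nat.not_prime_one hord
  have hne : (Finset.univ.filter fun p => g p = p).card ≠ 0 := by
    rw [← Finset.card_pos.symm.trans Nat.pos_iff_ne_zero]
    exact ⟨some 0, Finset.mem_filter.mpr ⟨Finset.mem_univ _, hg0'⟩⟩
  by_cases h2 : orderOf g = 2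
  · rcases H94.class_two_fix hgM h2 with ⟨h, -⟩ | ⟨h, -⟩ <;> omega
  by_cases h3 : orderOf g = 3
  · rcases H94.class_three_fix hgM h3 with ⟨h, -⟩ | ⟨h, -⟩ <;> omega
  haveI : Fact (orderOf g).Prime := ⟨hord⟩
  have hinv : ∀ x, g x ∉ Cfsg.Spor.squareDodecad ↔ x ∉ Cfsg.Spor.squareDodecad := fun x => by
    rw [not_iff_not]
    conv_lhs => rw [← hgd', ← Equiv.Perm.smul_def, Finset.smul_mem_smul_finset_iff]
  have hcard : Fintype.card {x // x ∉ Cfsg.Spor.squareDodecad} = 12 := by
    rw [Fintype.card_subtype_compl, Fintype.card_coe, H87.squareDodecad_mem.2]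
    simp [Cfsg.GolayPt]
  have hdiv : ¬ orderOf g ∣ Nat.card {x // x ∉ Cfsg.Spor.squareDodecad} := by
    rw [Nat.card_eq_fintype_card, hcard]
    intro h
    have : orderOf g ≤ 12 := Nat.le_of_dvd (by norm_num) h
    interval_cases orderOf g <;> simp_all (config := { decide := true })
  have hpow : (g.subtypePerm (p := fun x => x ∉ Cfsg.Spor.squareDodecad) hinv) ^ (orderOf g) ^ 1 = 1 := by
    rw [pow_one, Equiv.Perm.subtypePerm_pow]
    ext x
    simp [pow_orderOf_eq_one]
  obtain ⟨⟨x, hx⟩, hfix⟩ := Equiv.Perm.exists_fixed_point_of_prime (p := orderOf g) (n := 1)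
    (by rwa [Nat.card_eq_fintype_card] at hdiv) hpow
  exact hno x hx (congrArg Subtype.val hfix)

end Cfsg.Agent.S5522
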