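import Cfsg.Statements.S5541
-- import your own Cfsg.Agent.* helpers here

set_option autoImplicit false
open Cfsg

namespace Cfsg.Agent.S5541

/-- Let ρ be a representation of a group H on a finite-dimensional real vector space U whose only ρ-invariant subspaces are the zero subspace and U, and suppose U carries a non-zero ρ-invariant symmetric bilinear form. Then the following are equivalent: (1) there is a non-zero ρ-equivariant commutative bilinear product on U of which every ρ-equivariant bilinear product is a scalar multiple; (2) there is a non-zero ρ-invariant trilinear form on U that is symmetric under all permutations of its arguments and of which every ρ-invariant trilinear form is a scalar multiple. -/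
theorem result {H : Type*} [Group H] {U : Type*} [AddCommGroup U] [Module ℝ U] [FiniteDimensional ℝ U] (ρ : Representation ℝ H U) (hirr : ∀ W : Submodule ℝ U, (∀ g : H, W.map (ρ g) ≤ W) → W = ⊥ ∨ W = ⊤) (B : LinearMap.BilinForm ℝ U) (hB0 : B ≠ 0) (hBs : ∀ u v, B u v = B v u) (hBi : ∀ (g : H) (u v : U), B (ρ g u) (ρ g v) = B u v) : (∃ m : U →ₗ[ℝ] U →ₗ[ℝ] U, m ≠ 0 ∧ (∀ u v, m u v = m v u) ∧ (∀ (g : H) (u v : U), m (ρ g u) (ρ g v) = ρ g (m u v)) ∧ ∀ m' : U →ₗ[ℝ] U →ₗ[ℝ] U, (∀ (g : H) (u v : U), m' (ρ g u) (ρ g v) = ρ g (m' u v)) → ∃ c : ℝ, m' = c • m) ↔ (∃ t : U →ₗ[ℝ] U →ₗ[ℝ] U →ₗ[ℝ] ℝ, t ≠ 0 ∧ (∀ u v w, t u v w = t v u w ∧ t u v w = t u w v) ∧ (∀ (g : H) (u v w : U), t (ρ g u) (ρ g v) (ρ g w) = t u v w) ∧ ∀ t' : U →ₗ[ℝ] U →ₗ[ℝ] U →ₗ[ℝ] ℝ, (∀ (g : H) (u v w : U), t' (ρ g u) (ρ g v) (ρ g w) = t' u v w) → ∃ c : ℝ, t' = c • t) := by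
  classical
  have hinv : ∀ (g : H) (v : U), ρ g (ρ g⁻¹ v) = v := fun g v => by
    rw [← Module.End.mul_apply, ← map_mul, mul_inv_cancel, map_one, Module.End.one_apply]
  have hK : LinearMap.ker B = ⊥ := by
    refine (hirr (LinearMap.ker B) fun g => ?_).resolve_right fun h => hB0 (LinearMap.ker_eq_top.1 h)
    rintro _ ⟨u, hu, rfl⟩
    rw [LinearMap.mem_ker]
    refine LinearMap.ext fun v => ?_
    rw [← hinv g v, hBi, LinearMap.mem_ker.1 hu, LinearMap.zero_apply, LinearMap.zero_apply]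
  have hinj : Function.Injective B := LinearMap.ker_eq_bot.1 hK
  let e : U ≃ₗ[ℝ] Module.Dual ℝ U :=
    LinearMap.linearEquivOfInjective B hinj (Subspace.dual_finrank_eq).symm
  have he : ∀ u, e u = B u := fun u => rfl
  let T : (U →ₗ[ℝ] U →ₗ[ℝ] U) → (U →ₗ[ℝ] U →ₗ[ℝ] U →ₗ[ℝ] ℝ) := fun m => m.compr₂ B
  let M : (U →ₗ[ℝ] U →ₗ[ℝ] U →ₗ[ℝ] ℝ) → (U →ₗ[ℝ] U →ₗ[ℝ] U) := fun t => t.compr₂ e.symm.toLinearMap
  have hT : ∀ m u v w, T m u v w = B (m u v) w := fun m u v w => rfl
  have hM : ∀ t u v, B (M t u v) = t u v := fun t u v => by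
    rw [← he]; exact e.apply_symm_apply _
  have hTinv : ∀ m : U →ₗ[ℝ] U →ₗ[ℝ] U, (∀ g u v, m (ρ g u) (ρ g v) = ρ g (m u v)) →
      ∀ g u v w, T m (ρ g u) (ρ g v) (ρ g w) = T m u v w := fun m hm g u v w => by
    rw [hT, hT, hm, hBi]
  have hMinv : ∀ t : U →ₗ[ℝ] U →ₗ[ℝ] U →ₗ[ℝ] ℝ,
      (∀ g u v w, t (ρ g u) (ρ g v) (ρ g w) = t u v w) →
      ∀ g u v, M t (ρ g u) (ρ g v) = ρ g (M t u v) := fun t ht g u v => by
    apply hinj
    refine LinearMap.ext fun w => ?_
    rw [hM, ← hinv g w, ht, hBi, hM]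
  constructor
  · rintro ⟨m, hm0, hms, hmi, hmu⟩
    have huniq : ∀ t' : U →ₗ[ℝ] U →ₗ[ℝ] U →ₗ[ℝ] ℝ,
        (∀ g u v w, t' (ρ g u) (ρ g v) (ρ g w) = t' u v w) → ∃ c : ℝ, t' = c • T m := by
      intro t' ht'
      obtain ⟨c, hc⟩ := hmu (M t') (hMinv t' ht')
      refine ⟨c, LinearMap.ext₂ fun u v => ?_⟩
      rw [← hM t' u v, hc]
      exact map_smul B c _
    have hT0 : T m ≠ 0 := fun h => hm0 (LinearMap.ext₂ fun u v => hinj (by
      rw [LinearMap.zero_apply, LinearMap.zero_apply, map_zero]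
      exact LinearMap.congr_fun₂ h u v))
    refine ⟨T m, hT0, fun u v w => ⟨by rw [hT, hT, hms], ?_⟩, hTinv m hmi, huniq⟩
    let S : U →ₗ[ℝ] U →ₗ[ℝ] U →ₗ[ℝ] ℝ :=
      LinearMap.lflip.toLinearMap.comp (T m)
    have hS : ∀ a b c, S a b c = T m a c b := fun a b c => rfl
    obtain ⟨c, hc⟩ := huniq S fun g a b d => by rw [hS, hS, hTinv m hmi]
    have hc' : ∀ a b d, T m a d b = c * T m a b d := fun a b d => by
      rw [← hS, hc]; rfl
    have hsym : ∀ a b d, T m a b d = T m b a d := fun a b d => by rw [hT, hT, hms]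
    by_cases hc1 : c = 1
    · rw [hc' u v w, hc1, one_mul]
    · exfalso
      apply hT0
      refine LinearMap.ext fun a => LinearMap.ext fun b => LinearMap.ext fun d => ?_
      simp only [LinearMap.zero_apply]
      by_contra hne
      have hcc : c * c = 1 := by
        apply mul_right_cancel₀ hne
        rw [one_mul, mul_assoc, ← hc', ← hc']
      have hcm : c = -1 := by
        rcases mul_self_eq_one_iff.1 hcc with h | h
        · exact absurd h hc1
        · exact h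
      apply hne
      have k1 := hc' a b d
      have k2 := hc' d a b
      have k3 := hc' b d a
      rw [hcm] at k1 k2 k3
      have s1 := hsym a d b
      have s2 := hsym d b a
      have s3 := hsym b a d
      linarith
  · rintro ⟨t, ht0, hts, hti, htu⟩
    refine ⟨M t, fun h => ht0 (LinearMap.ext₂ fun u v => ?_), fun u v => hinj ?_, hMinv t hti,
      fun m' hm' => ?_⟩
    · rw [← hM t u v, h]
      simp
    · rw [hM, hM]
      exact LinearMap.ext fun w => (hts u v w).1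
    · obtain ⟨c, hc⟩ := htu (T m') (hTinv m' hm')
      refine ⟨c, LinearMap.ext₂ fun u v => hinj ?_⟩
      rw [LinearMap.smul_apply, LinearMap.smul_apply, map_smul, hM]
      exact LinearMap.congr_fun₂ hc u v

end Cfsg.Agent.S5541
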