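import Cfsg.Statements.S5550
import Cfsg.Agent.H94.CosetMoved

set_option autoImplicit false
open scoped Pointwise
open Cfsg

namespace Cfsg.Agent.S5550

/-- Let u be a word of the length-24 binary Golay code of the definitions (possibly zero or all-ones) and w any binary word of length 24 outside the code. Then some automorphism of the code (a coordinate permutation preserving it) fixes u but moves w to a word not congruent to w modulo the code: the stabilizer of a codeword fixes no non-zero element of the quotient of the space of all words by the code. -/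
theorem result (u : (Cfsg.GolayPt → ZMod 2)) (hu : u ∈ Cfsg.golayCode) (w : (Cfsg.GolayPt → ZMod 2)) (hw : w ∉ Cfsg.golayCode) : ∃ σ ∈ Cfsg.M24, (fun p => u (σ.symm p)) = u ∧ (fun p => w (σ.symm p)) - w ∉ Cfsg.golayCode := by
  classical
  obtain ⟨s, hsd⟩ : ∃ s, s = Cfsg.support₂ u := ⟨_, rfl⟩
  have key : ∀ σ : Equiv.Perm Cfsg.GolayPt, σ • s = s → (fun p => u (σ.symm p)) = u := by
    intro σ hσ
    apply H90.support₂_injective
    show _ = Cfsg.support₂ u
    rw [← hsd]
    conv_rhs => rw [← hσ, hsd]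
    ext q
    simp [Cfsg.support₂, Finset.mem_smul_finset, Equiv.Perm.smul_def, ← Equiv.eq_symm_apply]
  have hsup : s ∈ Cfsg.supports (Cfsg.golayCode : Set (Cfsg.GolayPt → ZMod 2)) := ⟨u, hu, hsd ▸ rfl⟩
  have hn : hammingNorm u = s.card := by rw [hsd, H90.hammingNorm_eq_card_support₂]
  have hcompl : Finset.univ \ s ∈ Cfsg.supports (Cfsg.golayCode : Set (Cfsg.GolayPt → ZMod 2)) := by
    have h1 : H90.wordOf (H90.encode 4095) ∈ Cfsg.golayCode := H90.wordOf_encode_mem _
    refine ⟨u + 1, Cfsg.golayCode.add_mem hu ((show (1 : Cfsg.GolayPt → ZMod 2) =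
      H90.wordOf (H90.encode 4095) from funext H90.one_eq) ▸ h1), ?_⟩
    ext q
    rcases H90.zmod2_cases (u q) with e | e <;> simp [hsd, Cfsg.support₂, e] <;> decide
  have hcs : ∀ σ : Equiv.Perm Cfsg.GolayPt, σ • (Finset.univ \ s) = Finset.univ \ s → σ • s = s := by
    intro σ h
    rw [Finset.smul_finset_sdiff, Finset.smul_finset_univ] at h
    have := congrArg (fun t => Finset.univ \ t) h
    simpa [Finset.sdiff_sdiff_eq_self] using this
  have hc : (Finset.univ \ s).card = 24 - s.card := by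
    rw [Finset.card_univ_sdiff]; simp [Cfsg.GolayPt]
  obtain ⟨σ, hσ, hσs, hσw⟩ : ∃ σ ∈ Cfsg.M24, σ • s = s ∧ H94.actW σ w - w ∉ Cfsg.golayCode := by
    rcases H90.weight_cases u hu with h | h | h | h | h <;> rw [hn] at h
    · exact H94.coset_moved' (Or.inl (Finset.card_eq_zero.mp h)) hw
    · exact H94.coset_moved' (Or.inr (Or.inl ⟨hsup, h⟩)) hw
    · exact H94.coset_moved' (Or.inr (Or.inr ⟨hsup, h⟩)) hw
    · obtain ⟨σ, h1, h2, h3⟩ := H94.coset_moved' (Or.inr (Or.inl ⟨hcompl, by rw [hc, h]⟩)) hw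
      exact ⟨σ, h1, hcs σ h2, h3⟩
    · obtain ⟨σ, h1, h2, h3⟩ := H94.coset_moved'
        (Or.inl (Finset.card_eq_zero.mp (show (Finset.univ \ s).card = 0 by rw [hc, h]))) hw
      exact ⟨σ, h1, hcs σ h2, h3⟩
  exact ⟨σ, hσ, key σ hσs, hσw⟩

end Cfsg.Agent.S5550
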