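import Cfsg.Statements.S5560
import Cfsg.Agent.H85.BrauerSuzuki
import Cfsg.Agent.H1.CoprimeAction2
import Cfsg.Agent.H10.Basic
import Cfsg.Agent.S0007

set_option autoImplicit false
open Cfsg

namespace Cfsg.Agent.S5560

/-- A Z*-type result for an odd prime p. Let G be a finite group and d an involution of G such that the product of any two conjugates of d has order a power of p. Then the product of any two conjugates of d lies in the largest normal p-subgroup O_p(G); in other words the conjugacy class of d lies in the coset O_p(G)d, and d is central modulo O_p(G). -/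
theorem result {G : Type*} [Group G] [Finite G] {p : ℕ} (hp : p.Prime) (hp2 : p ≠ 2)
    (d : G) (hd : orderOf d = 2)
    (hprod : ∀ a ∈ conjugatesOf d, ∀ b ∈ conjugatesOf d, ∃ k : ℕ, orderOf (a * b) = p ^ k) :
    ∀ a ∈ conjugatesOf d, ∀ b ∈ conjugatesOf d, a * b ∈ Cfsg.pCore p G := by
  haveI : Fact p.Prime := ⟨hp⟩
  have hdd : d * d = 1 := by rw [← sq, ← hd, pow_orderOf_eq_one]
  have hdinv : d⁻¹ = d := inv_eq_of_mul_eq_one_right hdd
  have hmem : ∀ g : G, g * d * g⁻¹ ∈ conjugatesOf d := fun g =>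
    isConj_iff.mpr ⟨g, rfl⟩
  have hdmem : d ∈ conjugatesOf d := mem_conjugatesOf_self
  -- `d` is isolated, so central modulo the odd core
  have hiso : Cfsg.IsIsolatedInvolution d := by
    refine ⟨hd, fun g hc => ?_⟩
    obtain ⟨k, hk⟩ := hprod d hdmem _ (hmem g)
    have h2 : (d * (g * d * g⁻¹)) ^ 2 = 1 := by
      rw [hc.mul_pow, sq, sq, hdd, one_mul]
      calc g * d * g⁻¹ * (g * d * g⁻¹) = g * (d * d) * g⁻¹ := by group
        _ = 1 := by rw [hdd, mul_one, mul_inv_cancel]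
    have h3 := orderOf_dvd_of_pow_eq_one h2
    rw [hk] at h3
    have h1 : p ^ k = 1 := by
      rcases (Nat.dvd_prime Nat.prime_two).mp h3 with h | h
      · exact h
      · exfalso
        have : Odd (p ^ k) := (hp.odd_of_ne_two hp2).pow
        rw [h] at this
        exact absurd this (by decide)
    rw [h1, orderOf_eq_one_iff] at hk
    have h5 := eq_inv_of_mul_eq_one_right hk
    rwa [hdinv] at h5
  have hz := H85.zStar hiso
  set K := Cfsg.pPrimeCore 2 G with hKdef
  haveI hKn : K.Normal := H10.pPrimeCore_normal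
  have hKodd : (Nat.card K).Coprime 2 := H10.pPrimeCore_coprime
  have hcomm : ∀ g : G, d * g * d⁻¹ * g⁻¹ ∈ K := hz
  have hppow : ∀ g : G, ∃ k : ℕ, orderOf (d * g * d⁻¹ * g⁻¹) = p ^ k := by
    intro g
    obtain ⟨k, hk⟩ := hprod d hdmem _ (hmem g)
    refine ⟨k, ?_⟩
    rw [← hk, hdinv, mul_assoc, mul_assoc, mul_assoc]
  set A := Subgroup.zpowers d with hA
  have hAcard : Nat.card A = 2 := by rw [hA, Nat.card_zpowers, hd]
  have hcop : (Nat.card A).Coprime (Nat.card K) := by rw [hAcard]; exact hKodd.symm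
  have hsol : Group.IsSolvable A ∨ Group.IsSolvable K := Or.inl inferInstance
  have hAK : A ≤ Subgroup.normalizer (K : Set G) := by
    rw [Subgroup.normalizer_eq_top]; exact le_top
  have hdA : d ∈ A := Subgroup.mem_zpowers d
  set C := K ⊓ Subgroup.centralizer (A : Set G) with hC
  -- invariant Sylow subgroups for primes other than `p` are centralised
  have hq : ∀ q : ℕ, q.Prime → q ≠ p → ¬ q ∣ C.relIndex K := by
    intro q hq hqp
    haveI : Fact q.Prime := ⟨hq⟩
    obtain ⟨Q, hQ⟩ := H1.exists_invariant_sylow hAK hcop hsol q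
    have hle : (Q : Subgroup K) ≤ C.subgroupOf K := by
      intro x hx
      refine ⟨x.2, Subgroup.mem_centralizer_iff.mpr fun a ha => ?_⟩
      have hdx : d * (x : G) = x * d := by
        obtain ⟨k, hk⟩ := hppow (x : G)
        have hin : d * (x : G) * d⁻¹ * (x : G)⁻¹ ∈ (Q : Subgroup K).map K.subtype :=
          mul_mem ((Subgroup.mem_normalizer_iff.mp (hQ hdA) _).mp (Subgroup.mem_map_of_mem _ hx))
            (inv_mem (Subgroup.mem_map_of_mem _ hx))
        obtain ⟨y, hy, hye⟩ := hin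
        obtain ⟨j, hj⟩ := Q.isPGroup' ⟨y, hy⟩
        have hyj : y ^ q ^ j = 1 := by simpa using congrArg Subtype.val hj
        have h1 : orderOf (d * (x : G) * d⁻¹ * (x : G)⁻¹) ∣ q ^ j := by
          rw [← hye]
          exact orderOf_dvd_of_pow_eq_one (by rw [← map_pow, hyj, map_one])
        rw [hk] at h1
        have h2 : p ^ k = 1 :=
          Nat.eq_one_of_dvd_coprimes (Nat.Coprime.pow k j ((Nat.coprime_primes hp hq).mpr (Ne.symm hqp)))
            dvd_rfl h1
        rw [h2, orderOf_eq_one_iff, mul_inv_eq_one, mul_inv_eq_iff_eq_mul] at hk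
        exact hk
      obtain ⟨i, rfl⟩ := ha
      exact ((show Commute d (x : G) from hdx).zpow_left i).eq
    intro hdvd
    exact Q.not_dvd_index (hdvd.trans (Subgroup.index_dvd_of_le hle))
  -- an invariant Sylow `p`-subgroup supplements the centralizer
  obtain ⟨P, hP⟩ := H1.exists_invariant_sylow hAK hcop hsol p
  have hprodK : ∀ g : K, ∃ x ∈ (P : Subgroup K), ∃ y ∈ C.subgroupOf K, g = x * y := by
    refine (Cfsg.Agent.S0007.result _ _ ?_).2
    refine Nat.coprime_of_dvd fun q hqprime h1 h2 => ?_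
    rcases eq_or_ne q p with rfl | hne
    · exact P.not_dvd_index h1
    · exact hq q hqprime hne h2
  set P' := (P : Subgroup K).map K.subtype with hP'
  have hKP : ∀ x ∈ K, d * x * d⁻¹ * x⁻¹ ∈ P' := by
    intro x hx
    obtain ⟨u, hu, c, hc, e⟩ := hprodK ⟨x, hx⟩
    have ex : x = (u : G) * c := congrArg Subtype.val e
    have hdc : d * (c : G) = c * d := Subgroup.mem_centralizer_iff.mp (Subgroup.mem_inf.mp hc).2 d hdA
    have : d * x * d⁻¹ * x⁻¹ = d * u * d⁻¹ * (u : G)⁻¹ := by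
      rw [ex]
      calc d * (↑u * ↑c) * d⁻¹ * (↑u * ↑c)⁻¹ = d * ↑u * d⁻¹ * (d * ↑c * d⁻¹ * (↑c)⁻¹) * (↑u)⁻¹ := by group
        _ = _ := by rw [hdc]; group
    rw [this]
    exact mul_mem ((Subgroup.mem_normalizer_iff.mp (hP hdA) _).mp (Subgroup.mem_map_of_mem _ hu))
      (inv_mem (Subgroup.mem_map_of_mem _ hu))
  -- the commutators of `d` with `K` generate a normal `p`-subgroup of `K`
  set W := Subgroup.closure {w | ∃ x ∈ K, w = d * x * d⁻¹ * x⁻¹} with hW
  have hWP : W ≤ P' := (Subgroup.closure_le _).mpr fun w ⟨x, hx, e⟩ => e ▸ hKP x hx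
  have hWK : W ≤ K := hWP.trans (Subgroup.map_subtype_le _)
  have hWnorm : (W.subgroupOf K).Normal := by
    refine Subgroup.normal_subgroupOf_of_le_normalizer fun k hk => ?_
    have hstab : ∀ z ∈ K, W ≤ W.comap (MulAut.conj z).toMonoidHom := by
      intro z hz
      refine (Subgroup.closure_le _).mpr ?_
      rintro _ ⟨x, hx, rfl⟩
      show z * (d * x * d⁻¹ * x⁻¹) * z⁻¹ ∈ W
      have hz' : d⁻¹ * z * d ∈ K := by simpa using hKn.conj_mem z hz d⁻¹
      have e : z * (d * x * d⁻¹ * x⁻¹) * z⁻¹ = (d * (d⁻¹ * z * d) * d⁻¹ * (d⁻¹ * z * d)⁻¹) *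
          (d⁻¹ * z * d * (d * x * d⁻¹ * x⁻¹) * (d⁻¹ * z * d)⁻¹) *
          (d * (d⁻¹ * z * d) * d⁻¹ * (d⁻¹ * z * d)⁻¹)⁻¹ := by group
      have key : ∀ w ∈ K, w * (d * x * d⁻¹ * x⁻¹) * w⁻¹ ∈ W := by
        intro w hw
        have hw' : d * w * d⁻¹ ∈ K := hKn.conj_mem w hw d
        have e2 : w * (d * x * d⁻¹ * x⁻¹) * w⁻¹ = (d * w * d⁻¹ * w⁻¹)⁻¹ * (d * (w * x) * d⁻¹ * (w * x)⁻¹) := by
          group
        rw [e2]
        exact mul_mem (inv_mem (Subgroup.subset_closure ⟨w, hw, rfl⟩))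
          (Subgroup.subset_closure ⟨w * x, mul_mem hw hx, rfl⟩)
      exact key z hz
    rw [Subgroup.mem_normalizer_iff]
    exact fun n => ⟨fun hn => hstab k hk hn, fun hn => by
      simpa [mul_assoc] using hstab k⁻¹ (inv_mem hk) hn⟩
  have hWp : IsPGroup p (W.subgroupOf K) := by
    intro w
    obtain ⟨y, hy, e⟩ := hWP w.2
    obtain ⟨j, hj⟩ := P.isPGroup' ⟨y, hy⟩
    refine ⟨j, Subtype.ext (Subtype.ext ?_)⟩
    have hyj : y ^ p ^ j = 1 := by simpa using congrArg Subtype.val hj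
    have : ((w : K) : G) ^ p ^ j = 1 := by
      have e' : (y : G) = ((w : K) : G) := e
      rw [← e', ← SubmonoidClass.coe_pow, hyj]; rfl
    simpa using this
  have hWcore : ∀ x ∈ K, d * x * d⁻¹ * x⁻¹ ∈ Cfsg.pCore p G := by
    have hchar : (Cfsg.pCore p K).map K.subtype ≤ Cfsg.pCore p G := by
      haveI := H10.instPCoreCharacteristic (p := p) (G := K)
      exact H10.le_pCore ConjAct.normal_of_characteristic_of_normal (H10.pCore_isPGroup.map _)
    intro x hx
    have hw : d * x * d⁻¹ * x⁻¹ ∈ W := Subgroup.subset_closure ⟨x, hx, rfl⟩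
    exact hchar ⟨⟨_, hWK hw⟩, H10.le_pCore hWnorm hWp (show (⟨_, hWK hw⟩ : K) ∈ W.subgroupOf K from hw), rfl⟩
  -- hence all `[d, g]` lie in `O_p(G)`
  haveI hPn : (Cfsg.pCore p G).Normal := H10.pCore_normal
  let π := QuotientGroup.mk' (Cfsg.pCore p G)
  have hall : ∀ g : G, d * g * d⁻¹ * g⁻¹ ∈ Cfsg.pCore p G := by
    intro g
    set w := d * g * d⁻¹ * g⁻¹ with hw
    have hwK : w ∈ K := hcomm g
    have h1 := hWcore w hwK
    have h2 : d * w * d⁻¹ = w⁻¹ := by
      rw [hw, hdinv]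
      simp only [mul_inv_rev, inv_inv, hdinv, ← mul_assoc, hdd, one_mul]
    rw [h2] at h1
    have hsq : π w ^ 2 = 1 := by
      have h3 : π (w⁻¹ * w⁻¹) = 1 := (QuotientGroup.eq_one_iff _).mpr h1
      rw [map_mul, map_inv, ← mul_inv_rev, inv_eq_one] at h3
      rw [sq]; exact h3
    have hodd : π w ^ Nat.card K = 1 := by
      rw [← map_pow, show w ^ Nat.card K = 1 from congrArg Subtype.val (pow_card_eq_one' (x := (⟨w, hwK⟩ : K))), map_one]
    have h4 := pow_gcd_eq_one.mpr ⟨hsq, hodd⟩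
    rw [Nat.Coprime.gcd_eq_one hKodd.symm, pow_one] at h4
    exact (QuotientGroup.eq_one_iff _).mp h4
  intro a ha b hb
  obtain ⟨g, rfl⟩ := isConj_iff.mp ha
  obtain ⟨h, rfl⟩ := isConj_iff.mp hb
  have e : g * d * g⁻¹ * (h * d * h⁻¹) = (d * g * d⁻¹ * g⁻¹)⁻¹ * (d * h * d⁻¹ * h⁻¹) := by
    simp only [mul_inv_rev, inv_inv, hdinv, ← mul_assoc]
    simp only [mul_assoc, hdinv, ← mul_assoc d d, hdd, one_mul]
  rw [e]
  exact mul_mem (inv_mem (hall g)) (hall h)

end Cfsg.Agent.S5560
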