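import Cfsg.Statements.S5562


set_option autoImplicit false
open Cfsg

namespace Cfsg.Agent.S5562

/-- Let G be a finite group, d an involution of G whose conjugates pairwise have products of odd order, and x any involution of G. Then the conjugacy class of d is the disjoint union, over the conjugates a of d commuting with x, of the sets of conjugates of d commuting with ax: every conjugate of d commutes with ax for exactly one conjugate a of d that commutes with x. -/
theorem result {G : Type*} [Group G] [Finite G] (d : G) (hd : orderOf d = 2)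
    (hodd : ∀ a ∈ conjugatesOf d, ∀ b ∈ conjugatesOf d, Odd (orderOf (a * b)))
    (x : G) (hx : orderOf x = 2) :
    ∀ e ∈ conjugatesOf d,
      ∃! a : G, a ∈ conjugatesOf d ∧ Commute a x ∧ Commute e (a * x) := by
  intro e he
  have hdd : ∀ {u : G}, u ∈ conjugatesOf d → u * u = 1 := by
    intro u hu
    obtain ⟨c, hc⟩ := isConj_iff.1 (show IsConj d u from hu)
    have h1 : d * d = 1 := by
      have := pow_orderOf_eq_one d
      rwa [hd, pow_two] at this
    rw [← hc, show c * d * c⁻¹ * (c * d * c⁻¹) = c * (d * d) * c⁻¹ by group, h1]; group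
  have hinv : ∀ {u : G}, u ∈ conjugatesOf d → u⁻¹ = u := fun h =>
    inv_eq_of_mul_eq_one_right (hdd h)
  have hcl : ∀ (g : G) {u : G}, u ∈ conjugatesOf d → g * u * g⁻¹ ∈ conjugatesOf d := fun g u hu =>
    (show IsConj d u from hu).trans (isConj_iff.2 ⟨g, rfl⟩)
  have hxx : x * x = 1 := by
    have := pow_orderOf_eq_one x
    rwa [hx, pow_two] at this
  have hxi : x⁻¹ = x := inv_eq_of_mul_eq_one_right hxx
  set e' := x * e * x⁻¹ with he'
  have he'D : e' ∈ conjugatesOf d := hcl x he
  set r := e * e' with hr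
  obtain ⟨k, hk⟩ := hodd e he e' he'D
  rw [← hr] at hk
  have hrn : r ^ (2 * k + 1) = 1 := by rw [← hk, pow_orderOf_eq_one]
  have her : e' = e * r := by rw [hr, ← mul_assoc, hdd he, one_mul]
  have hser : SemiconjBy e r r⁻¹ := by
    show e * r = r⁻¹ * e
    rw [hr, mul_inv_rev, hinv he, hinv he'D, mul_assoc e' e e, hdd he, mul_one, ← mul_assoc, hdd he,
      one_mul]
  have hsxr : SemiconjBy x r r⁻¹ := by
    show x * r = r⁻¹ * x
    rw [hr, mul_inv_rev, hinv he, hinv he'D, he', hxi]
    simp [mul_assoc]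
  -- conjugation of `e` by the half power of `r`
  set a := r ^ k * e with ha
  have haD : a ∈ conjugatesOf d := by
    have hj : ∃ j : ℕ, (r ^ j) * (r ^ j) = r ^ k := by
      refine ⟨(k + 1) * k, ?_⟩
      rw [← pow_add, show (k + 1) * k + (k + 1) * k = (2 * k + 1) * k + k by ring, pow_add, pow_mul,
        hrn, one_pow, one_mul]
    obtain ⟨j, hj⟩ := hj
    have : r ^ j * e * (r ^ j)⁻¹ = a := by
      have h1 := (hser.pow_right j).inv_right.eq
      rw [inv_pow, inv_inv] at h1
      rw [mul_assoc, h1, ← mul_assoc, hj]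
    rw [← this]; exact hcl _ he
  have hax : Commute a x := by
    have h1 : r ^ (k + 1) = (r ^ k)⁻¹ := by
      rw [eq_inv_iff_mul_eq_one, ← pow_add, show k + 1 + k = 2 * k + 1 by ring, hrn]
    have h2 := (hsxr.pow_right k).eq
    rw [inv_pow, ← h1] at h2
    have h3 : x * e = e' * x := by rw [he', inv_mul_cancel_right]
    show a * x = x * a
    rw [ha, ← mul_assoc x, h2, mul_assoc (r ^ (k + 1)), h3, her]
    have h4 : r * (e * r) = e := by
      rw [hser.eq, ← mul_assoc, mul_inv_cancel, one_mul]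
    rw [pow_succ, mul_assoc (r ^ k) r, ← mul_assoc r, h4, mul_assoc]
  have hae : Commute e (a * x) := by
    show e * (a * x) = a * x * e
    have h3 : x * e = e' * x := by rw [he', inv_mul_cancel_right]
    have h1 : r ^ (k + 1) = (r ^ k)⁻¹ := by
      rw [eq_inv_iff_mul_eq_one, ← pow_add, show k + 1 + k = 2 * k + 1 by ring, hrn]
    have h2 : e * a = a * e' := by
      have h5 := (hser.pow_right k).eq
      rw [inv_pow, ← h1] at h5
      rw [ha, ← mul_assoc, h5, mul_assoc, hdd he, mul_one, her, mul_assoc, ← mul_assoc e e, hdd he,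
        one_mul, pow_succ]
    rw [mul_assoc a x e, h3, ← mul_assoc, h2, mul_assoc]
  refine ⟨a, ⟨haD, hax, hae⟩, ?_⟩
  rintro b ⟨hbD, hbx, hbe⟩
  have hs : Commute e (a * b) := by
    have h5 := hae.mul_right hbe.inv_right
    rw [mul_inv_rev, hinv hbD, hxi, mul_assoc a x (x * b), ← mul_assoc x x, hxx, one_mul] at h5
    exact h5
  set s := a * b with hs'
  obtain ⟨m, hm⟩ := hodd a haD b hbD
  obtain ⟨l, hl⟩ := hodd e he a haD
  rw [← hs'] at hm
  have hsi : s⁻¹ = b * a := by rw [hs', mul_inv_rev, hinv haD, hinv hbD]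
  have h1 : (e * a) * s * (e * a)⁻¹ = s⁻¹ := by
    have : a * s * a⁻¹ = s⁻¹ := by
      rw [hsi, hs', hinv haD, ← mul_assoc a a, hdd haD, one_mul]
    calc (e * a) * s * (e * a)⁻¹ = e * (a * s * a⁻¹) * e⁻¹ := by group
      _ = e * s⁻¹ * e⁻¹ := by rw [this]
      _ = s⁻¹ := by rw [hs.inv_right.eq, mul_inv_cancel_right]
  have h2 : SemiconjBy (e * a) s s⁻¹ := by
    show e * a * s = s⁻¹ * (e * a)
    rw [← h1]; group
  have hc2 : Commute ((e * a) ^ 2) s := by
    have h6 : SemiconjBy (e * a) s⁻¹ s := by simpa using h2.inv_right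
    rw [pow_two]
    exact h6.mul_left h2
  have h3 : Commute (e * a) s := by
    have h7 : (e * a) = ((e * a) ^ 2) ^ (l + 1) := by
      rw [← pow_mul, show 2 * (l + 1) = (2 * l + 1) + 1 by ring, pow_succ, ← hl, pow_orderOf_eq_one,
        one_mul]
    rw [h7]; exact hc2.pow_left _
  have h4 : s = s⁻¹ := mul_right_cancel (h3.eq.symm.trans h2.eq)
  have hs1 : s = 1 := by
    have h5 : s ^ 2 = 1 := by rw [pow_two]; nth_rewrite 2 [h4]; rw [mul_inv_cancel]
    have h6 := pow_orderOf_eq_one s
    rw [hm, pow_add, pow_mul, h5, one_pow, one_mul, pow_one] at h6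
    exact h6
  rw [← hinv haD]
  exact (inv_eq_of_mul_eq_one_right (hs'.symm.trans hs1)).symm

end Cfsg.Agent.S5562
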