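import Cfsg.Statements.S5570
import Cfsg.Agent.H82.J4A10.Perm
import Cfsg.Agent.H9.J4A10.Seed
import Cfsg.Agent.H74.J4A10.Iso
import Cfsg.Agent.H54.J4A10.Api
-- import your own Cfsg.Agent.* helpers here

set_option autoImplicit false
open Cfsg

namespace Cfsg.Agent.S5570

/-- Let G be a finite non-abelian simple group of Janko-four type (an involution z whose centralizer H has an extraspecial largest normal 2-subgroup E of order 2^13 containing its centralizer in H, a normal subgroup N ≥ E of H with N/E of order 3 and H/N the automorphism group of M₂₂, and a subgroup P ≤ N of order 3 with C_E(P) = ⟨z⟩, N_H(P) ≠ C_H(P) and P ≤ C_H(P)′). Then G has self-centralizing elementary abelian subgroups of order 2^10, any two of them are conjugate, and for such a subgroup A the normalizer of A is a split extension of A by a complement isomorphic to L₅(2) under which A has no proper non-trivial invariant subgroup. -/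
theorem result {G : Type*} [Group G] [Finite G] [IsSimpleGroup G] (hG : ¬ IsMulCommutative G) (hJ : Cfsg.IsOfJankoFourType G) :
    (∃ A : Subgroup G, Cfsg.IsElementaryAbelian 2 A ∧ Nat.card ↥A = 2 ^ 10 ∧ Subgroup.centralizer (A : Set G) = A) ∧
    (∀ A A' : Subgroup G, Cfsg.IsElementaryAbelian 2 A → Nat.card ↥A = 2 ^ 10 → Subgroup.centralizer (A : Set G) = A → Cfsg.IsElementaryAbelian 2 A' → Nat.card ↥A' = 2 ^ 10 → Subgroup.centralizer (A' : Set G) = A' → ∃ g : G, A' = A.map (MulAut.conj g).toMonoidHom) ∧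
    ∀ A : Subgroup G, Cfsg.IsElementaryAbelian 2 A → Nat.card ↥A = 2 ^ 10 → Subgroup.centralizer (A : Set G) = A →
      (∃ B : Subgroup G, B ≤ Subgroup.normalizer (A : Set G) ∧ B ⊓ A = ⊥ ∧ B ⊔ A = Subgroup.normalizer (A : Set G) ∧
        Nonempty (↥B ≃* Matrix.SpecialLinearGroup (Fin 5) (ZMod 2))) ∧
      ∀ W : Subgroup G, W ≤ A → Subgroup.normalizer (A : Set G) ≤ Subgroup.normalizer (W : Set G) → W = ⊥ ∨ W = A := by
  obtain ⟨z, hz⟩ := id hJ
  have hapi : ∀ V : Subgroup G, H82.J4A10.IsEleven V → ∃ C : H54.J4A10.Cfg z V,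
      H82.J4A10.Api C ∧ (∀ a b, a < 1024 → b < 1024 → C.ael (a ^^^ b) = C.ael a * C.ael b) ∧
      ∃ S : Subgroup G, S ≤ Subgroup.normalizer (C.A0 : Set G) ∧ S ⊓ C.A0 = ⊥ ∧
        Nat.card S = 2 ^ 10 := fun V hV => by
    obtain ⟨C, hC⟩ := H54.J4A10.exists_api hG hz V hV
    exact ⟨C, hC, fun a b ha hb => H54.J4A10.Cfg.ael_xor C ha hb, H9.J4A10.exists_seed C⟩
  have M : H82.J4A10.Model z := H82.J4A10.model_of_api hG hz fun V hV => by
    obtain ⟨C, hC, -⟩ := hapi V hV
    exact ⟨C, hC⟩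
  refine ⟨?_, fun A A' h1 h2 h3 h4 h5 h6 =>
    H82.J4A10.conj_ten hz M ⟨h1, h2, h3⟩ ⟨h4, h5, h6⟩, fun A h1 h2 h3 => ⟨?_, ?_⟩⟩
  · obtain ⟨V, A, -, hA, -⟩ := M.exists_ten
    exact ⟨A, hA.elem, hA.card_A, hA.cent⟩
  · exact H82.J4A10.split_of hG hz hapi (fun B act hact hc => by
      obtain ⟨ρ, hinj, -, hx, hzc⟩ := hact.exists_perm
      exact H74.J4A10.iso_sl5_of_zCode ρ hinj hc (fun b a c d hd => by
        have e := hx b a c
        rwa [show (⟨(a : ℕ) ^^^ (c : ℕ), _⟩ : Fin 1024) = d from Fin.ext hd.symm] at e) hzc) ⟨h1, h2, h3⟩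
  · exact fun W => H82.J4A10.irreducible hG hz M ⟨h1, h2, h3⟩ W

end Cfsg.Agent.S5570
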