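import Cfsg.Statements.S5588
import Cfsg.Agent.H47.Y555.Arms

set_option autoImplicit false
open Cfsg

namespace Cfsg.Agent.S5588

/-- In the group presented by the sixteen involutions of the Y₅₅₅ Coxeter diagram subject only to the Coxeter relations and the single spider relation (a b₁ c₁ a b₂ c₂ a b₃ c₃)^10 = 1, each of the further relators used in the definitions' presentation of the Bimonster (each end node equals the ninth power of the Coxeter element of a sub-diagram of type E₇) already holds. Equivalently, the Y₅₅₅ diagram with the spider relation alone presents the Bimonster. -/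
theorem result :
    ∀ r ∈ Cfsg.Spor.Bimonster.extra,
      (PresentedGroup.mk (Cfsg.Spor.coxRelators Cfsg.Spor.Bimonster.edges ∪ {r' | r' ∈ [(Cfsg.Spor.Bimonster.a * Cfsg.Spor.Bimonster.b1 * Cfsg.Spor.Bimonster.c1 * Cfsg.Spor.Bimonster.a * Cfsg.Spor.Bimonster.b2 * Cfsg.Spor.Bimonster.c2 * Cfsg.Spor.Bimonster.a * Cfsg.Spor.Bimonster.b3 * Cfsg.Spor.Bimonster.c3) ^ 10]}) r) = 1 := by
  intro r hr
  set R := Cfsg.Spor.coxRelators Cfsg.Spor.Bimonster.edges ∪ {r' | r' ∈ [(Cfsg.Spor.Bimonster.a * Cfsg.Spor.Bimonster.b1 * Cfsg.Spor.Bimonster.c1 * Cfsg.Spor.Bimonster.a * Cfsg.Spor.Bimonster.b2 * Cfsg.Spor.Bimonster.c2 * Cfsg.Spor.Bimonster.a * Cfsg.Spor.Bimonster.b3 * Cfsg.Spor.Bimonster.c3) ^ 10]} with hR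
  set x : Cfsg.Spor.Bimonster.Gen → PresentedGroup R := fun g => PresentedGroup.mk R (FreeGroup.of g)
    with hx
  have hcox : ∀ u ∈ Cfsg.Spor.coxNodes Cfsg.Spor.Bimonster.edges,
      ∀ v ∈ Cfsg.Spor.coxNodes Cfsg.Spor.Bimonster.edges,
      (x u * x v) ^ Cfsg.Spor.coxLabel Cfsg.Spor.Bimonster.edges u v = 1 := by
    intro u hu v hv
    simp only [hx, ← map_mul, ← map_pow]
    exact PresentedGroup.one_of_mem (Or.inl ⟨u, hu, v, hv, rfl⟩)
  open H47.Y555 in
  have s123 : spiderProd x arm1 arm2 arm3 = 1 := by
    simp only [spiderProd, arm1, arm2, arm3, hx, ← map_mul, ← map_pow]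
    exact PresentedGroup.one_of_mem (Or.inr (by simp))
  open H47.Y555 in
  have s213 : spiderProd x arm2 arm1 arm3 = 1 := transpose_spider x hcox s123
  open H47.Y555 in
  have s231 := spider_rotate x s123
  open H47.Y555 in
  have s312 := spider_rotate x s231
  open H47.Y555 in
  have s132 := spider_rotate x s213
  open H47.Y555 in
  have s321 := spider_rotate x s132
  open H47.Y555 in
  have e1 := end_node x hcox (q := arm1) (r := arm2) (t := arm3) (by decide +kernel) s213
  open H47.Y555 in
  have e2 := end_node x hcox (q := arm1) (r := arm3) (t := arm2) (by decide +kernel) s312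
  open H47.Y555 in
  have e3 := end_node x hcox (q := arm2) (r := arm1) (t := arm3) (by decide +kernel) s123
  open H47.Y555 in
  have e4 := end_node x hcox (q := arm2) (r := arm3) (t := arm1) (by decide +kernel) s321
  open H47.Y555 in
  have e5 := end_node x hcox (q := arm3) (r := arm1) (t := arm2) (by decide +kernel) s132
  open H47.Y555 in
  have e6 := end_node x hcox (q := arm3) (r := arm2) (t := arm1) (by decide +kernel) s231
  simp only [H47.Y555.arm1, H47.Y555.arm2, H47.Y555.arm3, hx] at e1 e2 e3 e4 e5 e6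
  simp only [Cfsg.Spor.Bimonster.extra, List.mem_cons, List.not_mem_nil, or_false] at hr
  rcases hr with rfl | rfl | rfl | rfl | rfl | rfl | rfl
  · exact PresentedGroup.one_of_mem (Or.inr (by simp))
  all_goals
    rw [map_mul, map_inv, mul_inv_eq_one]
    simp only [map_pow, map_mul]
    first
      | exact e1
      | exact e2
      | exact e3
      | exact e4
      | exact e5
      | exact e6

end Cfsg.Agent.S5588
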