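import Cfsg.Statements.S5598
import Cfsg.Agent.H99.Singular

set_option autoImplicit false
open Cfsg

namespace Cfsg.Agent.S5598

/-- Setting: `z` is an involution of the finite group `G`; for each element `x`, `Q x` is the largest normal 2-subgroup of the centralizer of `x`; `Q z` is extraspecial and contains its own centralizer in `G`. A subgroup `U` is singular when it is elementary abelian, every non-identity element of `U` is conjugate to `z`, and any two non-identity elements `u`, `v` of `U` are orthogonal (`v ∈ Q u`). Write `QU` for the intersection of the `Q u` and `LU` for the join of the `Q u` over the non-identity `u` in `U`. If the singular subgroup `U` is generated by a set `T` of non-identity elements, then `QU` is already the intersection of the `Q t` over `t ∈ T`. -/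
theorem result {G : Type*} [Group G] [Finite G]
    (Q : G → Subgroup G)
    (hQ : ∀ x : G, Q x = (Cfsg.pCore 2 ↥(Subgroup.centralizer ({x} : Set G))).map (Subgroup.centralizer ({x} : Set G)).subtype)
    (z : G) (hz : orderOf z = 2) (hE : Cfsg.IsExtraspecial 2 ↥(Q z))
    (hC : Subgroup.centralizer ((Q z : Subgroup G) : Set G) ≤ Q z)
    (U : Subgroup G) (hU2 : ∀ u ∈ U, u * u = 1)
    (hS : ∀ u ∈ U, u ≠ 1 → ∃ g : G, g * z * g⁻¹ = u)
    (hO : ∀ u ∈ U, ∀ v ∈ U, u ≠ 1 → v ≠ 1 → v ∈ Q u)
    (QU LU : Subgroup G) (hQU : QU = ⨅ u ∈ ((U : Set G) \ {1}), Q u) (hLU : LU = ⨆ u ∈ ((U : Set G) \ {1}), Q u)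
    (T : Set G) (hT : Subgroup.closure T = U) (hT1 : (1 : G) ∉ T) :
    QU = ⨅ t ∈ T, Q t := by
  have L : H99.LargeExtra Q z := ⟨hQ, hz, hE, hC⟩
  have hTU : ∀ t ∈ T, t ∈ U ∧ t ≠ 1 := fun t ht =>
    ⟨hT ▸ Subgroup.subset_closure ht, fun h => hT1 (h ▸ ht)⟩
  refine le_antisymm (le_iInf₂ fun t ht x hx =>
    (H99.LargeExtra.mem_QU hQU).1 hx t (hTU t ht).1 (hTU t ht).2) fun x hx => ?_
  simp only [Subgroup.mem_iInf] at hx
  rw [H99.LargeExtra.mem_QU hQU]
  intro u hu hu1
  rw [← hT] at hu
  revert hu1
  induction hu using Subgroup.closure_induction with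
  | mem t ht => exact fun _ => hx t ht
  | one => exact fun h => absurd rfl h
  | inv a ha iha =>
    rw [show a⁻¹ = a from inv_eq_of_mul_eq_one_right (hU2 a (hT ▸ ha))]
    exact iha
  | mul a b ha hb iha ihb =>
    intro hab
    have haU : a ∈ U := hT ▸ ha
    have hbU : b ∈ U := hT ▸ hb
    by_cases ha1 : a = 1
    · subst ha1
      rw [one_mul] at hab ⊢
      exact ihb hab
    by_cases hb1 : b = 1
    · subst hb1
      rw [mul_one] at hab ⊢
      exact iha hab
    refine H99.LargeExtra.inf_le_Q_mul L hS hO haU ha1 hbU hb1 ?_ (iha ha1) (ihb hb1)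
    rintro rfl
    exact hab (hU2 a haU)

end Cfsg.Agent.S5598
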