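import Cfsg.Statements.S5599
import Cfsg.Agent.H94.FixCounts
import Cfsg.Agent.H87.MathieuCert
import Cfsg.Agent.H90.Orbits

set_option autoImplicit false
open scoped Pointwise
open Cfsg

namespace Cfsg.Agent.S5599

/-- In the automorphism group of the length-24 code, the two-point Mathieu group (permutations of the code's group fixing the extra point and the residue 0) has index 2 in the setwise stabiliser of that pair of points, and an element of the code's group interchanging the two points normalises the two-point group and induces on it, by conjugation, an automorphism that is not inner. -/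
theorem result (g : Equiv.Perm Cfsg.GolayPt) (hg : g ∈ Cfsg.M24) (h₁ : g none = some 0) (h₂ : g (some 0) = none) : Cfsg.Spor.M22.relIndex (Cfsg.M24 ⊓ MulAction.stabilizer (Equiv.Perm Cfsg.GolayPt) ({none, some 0} : Finset Cfsg.GolayPt)) = 2 ∧ (∀ x ∈ Cfsg.Spor.M22, g * x * g⁻¹ ∈ Cfsg.Spor.M22) ∧ ¬ ∃ h ∈ Cfsg.Spor.M22, ∀ x ∈ Cfsg.Spor.M22, g * x * g⁻¹ = h * x * h⁻¹ := by
  classical
  have hmem : ∀ x : Equiv.Perm Cfsg.GolayPt, x ∈ Cfsg.Spor.M22 ↔
      x ∈ Cfsg.M24 ∧ x none = none ∧ x (some 0) = some 0 := by
    intro x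
    simp [Cfsg.Spor.M22, Cfsg.Spor.M23, Subgroup.mem_inf, and_assoc]
  have hg' : g⁻¹ none = some 0 ∧ g⁻¹ (some 0) = none := by
    constructor <;> rw [Equiv.Perm.inv_eq_iff_eq]
    · exact h₂.symm
    · exact h₁.symm
  have h0 : (none : Cfsg.GolayPt) ≠ some 0 := by simp
  refine ⟨?_, ?_, ?_⟩
  · rw [Subgroup.relIndex, Subgroup.index_eq_two_iff]
    have hgK : g ∈ Cfsg.M24 ⊓ MulAction.stabilizer (Equiv.Perm Cfsg.GolayPt)
        ({none, some 0} : Finset Cfsg.GolayPt) := by
      refine ⟨hg, ?_⟩
      show g • ({none, some 0} : Finset Cfsg.GolayPt) = {none, some 0}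
      rw [Finset.smul_finset_insert, Finset.smul_finset_singleton, Equiv.Perm.smul_def,
        Equiv.Perm.smul_def, h₁, h₂, Finset.pair_comm]
    refine ⟨⟨g, hgK⟩, fun ⟨b, hbM, hb⟩ => ?_⟩
    replace hbM : b ∈ Cfsg.M24 := hbM
    have hb' : b • ({none, some 0} : Finset Cfsg.GolayPt) = {none, some 0} := hb
    have hn : b none = none ∨ b none = some 0 := by
      have : b none ∈ b • ({none, some 0} : Finset Cfsg.GolayPt) :=
        Finset.smul_mem_smul_finset (Finset.mem_insert_self _ _)
      rw [hb'] at this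
      simpa using this
    have hz : b (some 0) = none ∨ b (some 0) = some 0 := by
      have : b (some 0) ∈ b • ({none, some 0} : Finset Cfsg.GolayPt) :=
        Finset.smul_mem_smul_finset (by simp)
      rw [hb'] at this
      simpa using this
    rw [Subgroup.mem_subgroupOf, Subgroup.mem_subgroupOf]
    simp only [Subgroup.coe_mul, hmem, Equiv.Perm.mul_apply, h₁, h₂]
    have hbg : b * g ∈ Cfsg.M24 := Cfsg.M24.mul_mem hbM hg
    rcases hn with hn | hn
    · have hz' : b (some 0) = some 0 := hz.resolve_left fun e => h0 (b.injective (hn.trans e.symm))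
      simp [hn, hz', hbM, hbg, h0, Ne.symm h0, Xor']
    · have hz' : b (some 0) = none := hz.resolve_right fun e => h0 (b.injective (hn.trans e.symm))
      simp [hn, hz', hbM, hbg, h0, Ne.symm h0, Xor']
  · intro x hx
    rw [hmem] at hx ⊢
    refine ⟨Cfsg.M24.mul_mem (Cfsg.M24.mul_mem hg hx.1) (Cfsg.M24.inv_mem hg), ?_, ?_⟩
    · simp only [Equiv.Perm.mul_apply, hg'.1, hx.2.2, h₂]
    · simp only [Equiv.Perm.mul_apply, hg'.2, hx.2.1, h₁]
  · rintro ⟨h, hh, heq⟩
    have hh' := (hmem h).mp hh
    obtain ⟨k, hk⟩ : ∃ k, k = h⁻¹ * g := ⟨_, rfl⟩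
    have hkM : k ∈ Cfsg.M24 := hk ▸ Cfsg.M24.mul_mem (Cfsg.M24.inv_mem hh'.1) hg
    have hk1 : k none = some 0 := by
      rw [hk, Equiv.Perm.mul_apply, h₁, Equiv.Perm.inv_eq_iff_eq, hh'.2.2]
    have hk2 : k (some 0) = none := by
      rw [hk, Equiv.Perm.mul_apply, h₂, Equiv.Perm.inv_eq_iff_eq, hh'.2.1]
    have hcomm : ∀ x ∈ Cfsg.Spor.M22, k * x = x * k := by
      intro x hx
      have e := heq x hx
      rw [hk, mul_assoc]
      calc h⁻¹ * (g * x) = h⁻¹ * (g * x * g⁻¹) * g := by group
        _ = h⁻¹ * (h * x * h⁻¹) * g := by rw [e]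
        _ = _ := by group
    have hfix : ∀ p, p ≠ none → p ≠ some 0 → k p = p := by
      intro p hp hp'
      by_contra hne
      have hq : k p ≠ none := fun e => hp' (k.injective (e.trans hk2.symm))
      have hq' : k p ≠ some 0 := fun e => hp (k.injective (e.trans hk1.symm))
      obtain ⟨r, hr⟩ := H94.exists_other {none, some 0, p, k p}
        (lt_of_le_of_lt Finset.card_le_four (by norm_num))
      simp only [Finset.mem_insert, Finset.mem_singleton, not_or] at hr
      obtain ⟨hr1, hr2, hr3, hr4⟩ := hr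
      obtain ⟨w, hw⟩ := H94.exists_other {none, some 0, p, k p}
        (lt_of_le_of_lt Finset.card_le_four (by norm_num))
      obtain ⟨σ, hσ, hσi⟩ := H90.exists_move (k := 4) (by norm_num)
        ⟨![none, some 0, p, k p], by
          intro i j e
          fin_cases i <;> fin_cases j <;> simp at e <;>
            first | rfl | exact absurd e (by assumption) | exact absurd e.symm (by assumption)⟩
        ⟨![none, some 0, p, r], by
          intro i j e
          fin_cases i <;> fin_cases j <;> simp at e <;>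
            first | rfl | exact absurd e (by assumption) | exact absurd e.symm (by assumption)⟩
      have e0 : σ none = none := hσi 0
      have e1 : σ (some 0) = some 0 := hσi 1
      have e2 : σ p = p := hσi 2
      have e3 : σ (k p) = r := hσi 3
      have := Equiv.ext_iff.mp (hcomm σ ((hmem σ).mpr ⟨hσ, e0, e1⟩)) p
      simp only [Equiv.Perm.mul_apply, e2, e3] at this
      exact hr4 this.symm
    have hne1 : k ≠ 1 := fun e => by rw [e] at hk1; simp at hk1
    have hk22 : k ^ 2 = 1 := by
      ext1 p
      rw [pow_two, Equiv.Perm.mul_apply]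
      by_cases e : p = none
      · rw [e, hk1, hk2]; rfl
      by_cases e' : p = some 0
      · rw [e', hk2, hk1]; rfl
      rw [hfix p e e', hfix p e e']; rfl
    have hcard : 22 ≤ (Finset.univ.filter fun p => k p = p).card := by
      refine le_trans ?_ (Finset.card_le_card (show Finset.univ \ {none, some 0} ⊆
        Finset.univ.filter fun p => k p = p from fun p hp => ?_))
      · rw [Finset.card_univ_diff, Finset.card_pair h0]; simp [Cfsg.GolayPt]
      · simp only [Finset.mem_sdiff, Finset.mem_insert, Finset.mem_singleton, not_or] at hp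
        exact Finset.mem_filter.mpr ⟨Finset.mem_univ _, hfix p hp.2.1 hp.2.2⟩
    haveI : Fact (Nat.Prime 2) := ⟨by norm_num⟩
    rcases H94.class_two_fix hkM (orderOf_eq_prime hk22 hne1) with ⟨c, -⟩ | ⟨c, -⟩ <;> omega

end Cfsg.Agent.S5599
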