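import Cfsg.Statements.S5600
import Cfsg.Agent.H94.PointSix
import Cfsg.Agent.H94.FaithfulPerm

set_option autoImplicit false
open scoped Pointwise
open Cfsg

namespace Cfsg.Agent.S5600

/-- Although the group of the length-24 code is only 5-transitive on the 24 points, it induces the full symmetric group on every 6-element subset: every permutation of a 6-set E is the restriction of an element of the group mapping E to itself. The pointwise stabiliser of E has order 16 when E lies in an octad and order 3 otherwise; in the latter case the setwise stabiliser of E has order 2160. -/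
theorem result (E : Finset Cfsg.GolayPt) (hE : E.card = 6) : (∀ σ : Equiv.Perm ↥E, ∃ g ∈ Cfsg.M24, ∀ p : ↥E, g p = σ p) ∧ ((∃ o ∈ Cfsg.octads, E ⊆ o) → Nat.card {g : Equiv.Perm Cfsg.GolayPt // g ∈ Cfsg.M24 ∧ ∀ p ∈ E, g p = p} = 16) ∧ ((¬ ∃ o ∈ Cfsg.octads, E ⊆ o) → Nat.card {g : Equiv.Perm Cfsg.GolayPt // g ∈ Cfsg.M24 ∧ ∀ p ∈ E, g p = p} = 3 ∧ Nat.card ↥(MulAction.stabilizer Cfsg.M24 E) = 2160) := by
  classical
  let e : Fin 6 ≃ ↥E := (Fintype.equivFinOfCardEq (by rw [Fintype.card_coe, hE])).symm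
  let a : ℕ → Cfsg.GolayPt := fun i => if h : i < 6 then e ⟨i, h⟩ else none
  have haval : ∀ i (h : i < 6), a i = e ⟨i, h⟩ := fun i h => by simp [a, h]
  have haE : ∀ p ∈ E, ∃ i < 6, a i = p := fun p hp =>
    ⟨e.symm ⟨p, hp⟩, (e.symm ⟨p, hp⟩).2, by simp [haval _ (e.symm ⟨p, hp⟩).2]⟩
  have ha : ∀ i < 6, ∀ j < 6, a i = a j → i = j := by
    intro i hi j hj h
    rw [haval i hi, haval j hj] at h
    exact congrArg Fin.val (e.injective (Subtype.ext h))
  have hin : H94.InOctad a ↔ ∃ o ∈ Cfsg.octads, E ⊆ o := by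
    constructor
    · rintro ⟨o, ho, h⟩
      exact ⟨o, ho, fun p hp => by obtain ⟨i, hi, rfl⟩ := haE p hp; exact h i hi⟩
    · rintro ⟨o, ho, h⟩
      exact ⟨o, ho, fun i hi => h (by rw [haval i hi]; exact Subtype.coe_prop _)⟩
  have hsurj : ∀ σ : Equiv.Perm ↥E, ∃ g ∈ Cfsg.M24, ∀ p : ↥E, g p = σ p := by
    intro σ
    let b : ℕ → Cfsg.GolayPt := fun i => if h : i < 6 then σ (e ⟨i, h⟩) else none
    have hbval : ∀ i (h : i < 6), b i = σ (e ⟨i, h⟩) := fun i h => by simp [b, h]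
    have hb : ∀ i < 6, ∀ j < 6, b i = b j → i = j := by
      intro i hi j hj h
      rw [hbval i hi, hbval j hj] at h
      exact congrArg Fin.val (e.injective (σ.injective (Subtype.ext h)))
    have hbin : H94.InOctad b ↔ ∃ o ∈ Cfsg.octads, E ⊆ o := by
      constructor
      · rintro ⟨o, ho, h⟩
        refine ⟨o, ho, fun p hp => ?_⟩
        have h' := h (e.symm (σ.symm ⟨p, hp⟩)) (e.symm (σ.symm ⟨p, hp⟩)).2
        rw [hbval _ (e.symm (σ.symm ⟨p, hp⟩)).2] at h'
        simpa using h'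
      · rintro ⟨o, ho, h⟩
        exact ⟨o, ho, fun i hi => h (by rw [hbval i hi]; exact Subtype.coe_prop _)⟩
    obtain ⟨g, hg, hgab⟩ := H94.trans_six ha hb (hin.trans hbin.symm)
    refine ⟨g, hg, fun p => ?_⟩
    obtain ⟨j, rfl⟩ := e.surjective p
    have := hgab j j.2
    rwa [haval j j.2, hbval j j.2] at this
  have hfix : Nat.card {g : Equiv.Perm Cfsg.GolayPt // g ∈ Cfsg.M24 ∧ ∀ p ∈ E, g p = p} =
      if H94.InOctad a then 16 else 3 := by
    rw [← H94.card_fix_six ha]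
    refine Nat.card_congr (Equiv.subtypeEquivRight fun g => and_congr_right fun _ => ?_)
    exact ⟨fun h i hi => h _ (by rw [haval i hi]; exact Subtype.coe_prop _),
      fun h p hp => by obtain ⟨i, hi, rfl⟩ := haE p hp; exact h i hi⟩
  refine ⟨hsurj, fun h => by rw [hfix, if_pos (hin.mpr h)], fun h => ?_⟩
  have h3 : Nat.card {g : Equiv.Perm Cfsg.GolayPt // g ∈ Cfsg.M24 ∧ ∀ p ∈ E, g p = p} = 3 := by
    rw [hfix, if_neg (fun hh => h (hin.mp hh))]
  refine ⟨h3, ?_⟩
  let φ := H94.restrictHom Cfsg.M24 (MulAction.stabilizer Cfsg.M24 E) E (fun g hg => hg)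
  have hker : Nat.card φ.ker = 3 := by
    rw [← h3]
    refine Nat.card_congr
      { toFun := fun g => ⟨g.1.1.1, g.1.1.2, fun p hp =>
          congrArg Subtype.val (Equiv.ext_iff.mp g.2 ⟨p, hp⟩)⟩
        invFun := fun g => ⟨⟨⟨g.1, g.2.1⟩, ?_⟩, ?_⟩
        left_inv := fun g => rfl
        right_inv := fun g => rfl }
    · show g.1 • E = E
      refine Finset.eq_of_subset_of_card_le (fun p hp => ?_) (by rw [Finset.card_smul_finset])
      obtain ⟨q, hq, rfl⟩ := Finset.mem_smul_finset.mp hp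
      rw [Equiv.Perm.smul_def, g.2.2 q hq]; exact hq
    · exact Equiv.ext fun p => Subtype.ext (g.2.2 p p.2)
  have hrange : φ.range = ⊤ := by
    rw [eq_top_iff]
    intro σ _
    obtain ⟨g, hg, hgσ⟩ := hsurj σ
    have hgE : g • E = E := by
      refine Finset.eq_of_subset_of_card_le (fun p hp => ?_) (by rw [Finset.card_smul_finset])
      obtain ⟨q, hq, rfl⟩ := Finset.mem_smul_finset.mp hp
      rw [Equiv.Perm.smul_def, hgσ ⟨q, hq⟩]; exact Subtype.coe_prop _
    exact ⟨⟨⟨g, hg⟩, hgE⟩, Equiv.ext fun p => Subtype.ext (hgσ p)⟩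
  have hmul := φ.ker.card_mul_index
  rw [Subgroup.index_ker, hrange, Subgroup.card_top, hker, Nat.card_eq_fintype_card,
    Fintype.card_perm, Fintype.card_coe, hE] at hmul
  rw [← hmul]; rfl

end Cfsg.Agent.S5600
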