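import Cfsg.Statements.S5601
import Cfsg.Agent.H94.FixCounts

set_option autoImplicit false
open scoped Pointwise
open Cfsg

namespace Cfsg.Agent.S5601

/-- The group of the length-24 code has exactly two conjugacy classes of subgroups of order 3: a subgroup of order 3 fixes either exactly 6 of the 24 points or none of them, both cases occur, and two subgroups of order 3 with the same number of fixed points are conjugate. -/
theorem result : (∀ X : Subgroup ↥Cfsg.M24, Nat.card X = 3 → {p : Cfsg.GolayPt | ∀ x ∈ X, ((x : ↥Cfsg.M24) : Equiv.Perm Cfsg.GolayPt) p = p}.ncard = 6 ∨ {p : Cfsg.GolayPt | ∀ x ∈ X, ((x : ↥Cfsg.M24) : Equiv.Perm Cfsg.GolayPt) p = p}.ncard = 0) ∧ (∃ X : Subgroup ↥Cfsg.M24, Nat.card X = 3 ∧ {p : Cfsg.GolayPt | ∀ x ∈ X, ((x : ↥Cfsg.M24) : Equiv.Perm Cfsg.GolayPt) p = p}.ncard = 6) ∧ (∃ X : Subgroup ↥Cfsg.M24, Nat.card X = 3 ∧ {p : Cfsg.GolayPt | ∀ x ∈ X, ((x : ↥Cfsg.M24) : Equiv.Perm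 Cfsg.GolayPt) p = p}.ncard = 0) ∧ ∀ X Y : Subgroup ↥Cfsg.M24, Nat.card X = 3 → Nat.card Y = 3 → {p : Cfsg.GolayPt | ∀ x ∈ X, ((x : ↥Cfsg.M24) : Equiv.Perm Cfsg.GolayPt) p = p}.ncard = {p : Cfsg.GolayPt | ∀ x ∈ Y, ((x : ↥Cfsg.M24) : Equiv.Perm Cfsg.GolayPt) p = p}.ncard → ∃ k : ↥Cfsg.M24, MulAut.conj k • X = Y := by
  have gen : ∀ X : Subgroup ↥Cfsg.M24, Nat.card X = 3 → ∃ x : ↥Cfsg.M24,
      X = Subgroup.zpowers x ∧ orderOf (x : Equiv.Perm Cfsg.GolayPt) = 3 ∧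
      {p : Cfsg.GolayPt | ∀ y ∈ X, ((y : ↥Cfsg.M24) : Equiv.Perm Cfsg.GolayPt) p = p}.ncard =
        (Finset.univ.filter fun p => (x : Equiv.Perm Cfsg.GolayPt) p = p).card := by
    intro X hX
    haveI : Fact (Nat.Prime 3) := ⟨by norm_num⟩
    haveI : Nontrivial X := Finite.one_lt_card_iff_nontrivial.mp (by omega)
    obtain ⟨⟨x, hx⟩, hx1⟩ := exists_ne (1 : X)
    have hx1' : x ≠ 1 := fun e => hx1 (Subtype.ext e)
    have ho : orderOf x = 3 := by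
      refine orderOf_eq_prime ?_ hx1'
      have := pow_card_eq_one' (x := (⟨x, hx⟩ : X))
      rw [hX] at this
      exact congrArg Subtype.val this
    have hXe : X = Subgroup.zpowers x :=
      (Subgroup.eq_of_le_of_card_ge (Subgroup.zpowers_le.mpr hx)
        (by rw [Nat.card_zpowers, ho, hX])).symm
    refine ⟨x, hXe, by rw [Subgroup.orderOf_coe, ho], ?_⟩
    rw [← Set.ncard_coe_finset]
    congr 1
    ext p
    simp only [Set.mem_ofPred_eq, Finset.coe_filter, Finset.mem_univ, true_and]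
    refine ⟨fun h => h x hx, fun h y hy => ?_⟩
    rw [hXe, Subgroup.mem_zpowers_iff] at hy
    obtain ⟨k, rfl⟩ := hy
    rw [SubgroupClass.coe_zpow]
    exact Equiv.Perm.zpow_apply_eq_self_of_apply_eq_self h k
  have mkX : ∀ R : ℕ, H94.memB R = true → H94.peq (H94.pmul R (H94.pmul R R)) H94.pone = true →
      H94.peq R H94.pone = false → ∃ X : Subgroup ↥Cfsg.M24, Nat.card X = 3 ∧
      {p : Cfsg.GolayPt | ∀ y ∈ X, ((y : ↥Cfsg.M24) : Equiv.Perm Cfsg.GolayPt) p = p}.ncard =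
        H94.fixCount R := by
    intro R hm h3 hne
    obtain ⟨g, hg, hR⟩ := H94.exists_perm_of_memB hm
    haveI : Fact (Nat.Prime 3) := ⟨by norm_num⟩
    have ho : orderOf (⟨g, hg⟩ : ↥Cfsg.M24) = 3 := by
      refine orderOf_eq_prime (Subtype.ext ?_) fun e => ?_
      · show g ^ 3 = 1
        rw [pow_succ', pow_two]
        exact (hR.mul (hR.mul hR)).eq_of_peq H94.reps_one h3
      · have e' : g = 1 := congrArg Subtype.val e
        subst e'
        rw [hR.peq_of_eq H94.reps_one] at hne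
        simp at hne
    have hc : Nat.card (Subgroup.zpowers (⟨g, hg⟩ : ↥Cfsg.M24)) = 3 := by rw [Nat.card_zpowers, ho]
    obtain ⟨x, hxe, -, hfx⟩ := gen _ hc
    refine ⟨_, hc, ?_⟩
    rw [H94.fixCount, ← H94.card_fix_of_reps hR, ← Set.ncard_coe_finset]
    congr 1
    ext p
    simp only [Set.mem_ofPred_eq, Finset.coe_filter, Finset.mem_univ, true_and]
    refine ⟨fun h => h ⟨g, hg⟩ (Subgroup.mem_zpowers _), fun h y hy => ?_⟩
    obtain ⟨k, rfl⟩ := Subgroup.mem_zpowers_iff.mp hy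
    rw [SubgroupClass.coe_zpow]
    exact Equiv.Perm.zpow_apply_eq_self_of_apply_eq_self h k
  refine ⟨?_, ?_, ?_, ?_⟩
  · intro X hX
    obtain ⟨x, -, ho, hfx⟩ := gen X hX
    rcases H94.class_three_fix x.2 ho with ⟨h, -⟩ | ⟨h, -⟩
    · exact Or.inl (hfx.trans h)
    · exact Or.inr (hfx.trans h)
  · obtain ⟨X, hX, hf⟩ := mkX H94.rep3six (by decide +kernel) (by decide +kernel) (by decide +kernel)
    exact ⟨X, hX, hf.trans H94.fixCount_reps.1⟩
  · obtain ⟨X, hX, hf⟩ := mkX H94.rep3free (by decide +kernel) (by decide +kernel) (by decide +kernel)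
    exact ⟨X, hX, hf.trans H94.fixCount_reps.2.1⟩
  · intro X Y hX hY heq
    obtain ⟨x, rfl, hox, hfx⟩ := gen X hX
    obtain ⟨y, rfl, hoy, hfy⟩ := gen Y hY
    obtain ⟨R, u, v, hu, hv, hRu, hRv⟩ : ∃ R u v, u ∈ Cfsg.M24 ∧ v ∈ Cfsg.M24 ∧
        H94.Reps R (u * (x : Equiv.Perm Cfsg.GolayPt) * u⁻¹) ∧
        H94.Reps R (v * (y : Equiv.Perm Cfsg.GolayPt) * v⁻¹) := by
      rcases H94.class_three_fix x.2 hox with ⟨a, u, hu, hR⟩ | ⟨a, u, hu, hR⟩ <;>
        rcases H94.class_three_fix y.2 hoy with ⟨b, v, hv, hR'⟩ | ⟨b, v, hv, hR'⟩ <;>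
        first | exact ⟨_, u, v, hu, hv, hR, hR'⟩ | omega
    refine ⟨⟨v⁻¹ * u, Cfsg.M24.mul_mem (Cfsg.M24.inv_mem hv) hu⟩, ?_⟩
    have e : MulAut.conj (⟨v⁻¹ * u, Cfsg.M24.mul_mem (Cfsg.M24.inv_mem hv) hu⟩ : ↥Cfsg.M24) x = y := by
      apply Subtype.ext
      have := hRu.unique hRv
      show v⁻¹ * u * (x : Equiv.Perm Cfsg.GolayPt) * (v⁻¹ * u)⁻¹ = y
      calc _ = v⁻¹ * (u * (x : Equiv.Perm Cfsg.GolayPt) * u⁻¹) * v := by group
        _ = _ := by rw [this]; group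
    apply Subgroup.ext
    intro z
    rw [Subgroup.mem_pointwise_smul_iff_inv_smul_mem, Subgroup.mem_zpowers_iff, Subgroup.mem_zpowers_iff]
    constructor
    · rintro ⟨k, hk⟩
      exact ⟨k, by rw [← e, ← map_zpow, hk]; exact smul_inv_smul (MulAut.conj (⟨v⁻¹ * u, Cfsg.M24.mul_mem (Cfsg.M24.inv_mem hv) hu⟩ : ↥Cfsg.M24)) z⟩
    · rintro ⟨k, rfl⟩
      exact ⟨k, by rw [← e, ← map_zpow, ← MulAut.smul_def, inv_smul_smul]⟩

end Cfsg.Agent.S5601
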