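import Cfsg.Statements.S5604
import Cfsg.Agent.H94.Seven

set_option autoImplicit false
open scoped Pointwise
open Cfsg

namespace Cfsg.Agent.S5604

/-- For a subgroup S of order 7 of the group of the length-24 code (a Sylow 7-subgroup): the normaliser of S has order 126, the centraliser of S has order 42 and is non-abelian, and the whole normaliser leaves some trio invariant. (These are the orders of a Frobenius group of order 21 times a symmetric group of degree 3; the isomorphism type itself is not asserted here.) -/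
theorem result (S : Subgroup ↥Cfsg.M24) (hS : Nat.card S = 7) : Nat.card ↥(Subgroup.normalizer (S : Set ↥Cfsg.M24)) = 126 ∧ Nat.card ↥(Subgroup.centralizer (S : Set ↥Cfsg.M24)) = 42 ∧ (∃ x ∈ Subgroup.centralizer (S : Set ↥Cfsg.M24), ∃ y ∈ Subgroup.centralizer (S : Set ↥Cfsg.M24), x * y ≠ y * x) ∧ ∃ T ∈ Cfsg.trios, ∀ n ∈ Subgroup.normalizer (S : Set ↥Cfsg.M24), ((n : ↥Cfsg.M24) : Equiv.Perm Cfsg.GolayPt) • T = T := by
  obtain ⟨s, hSs, ho, u, hu, hR⟩ := H94.seven_conj hS
  have hM : ∀ c, c ∈ Cfsg.M24 ↔ u * c * u⁻¹ ∈ Cfsg.M24 := fun c =>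
    ⟨fun h => Cfsg.M24.mul_mem (Cfsg.M24.mul_mem hu h) (Cfsg.M24.inv_mem hu), fun h => by
      have := Cfsg.M24.mul_mem (Cfsg.M24.mul_mem (Cfsg.M24.inv_mem hu) h) hu
      simpa [mul_assoc] using this⟩
  have hrel : ∀ (c : Equiv.Perm Cfsg.GolayPt) (m : ℕ),
      (c * (s : Equiv.Perm Cfsg.GolayPt) = (s : Equiv.Perm Cfsg.GolayPt) ^ m * c ↔
        (u * c * u⁻¹) * (u * s * u⁻¹) = (u * s * u⁻¹) ^ m * (u * c * u⁻¹)) := by
    intro c m
    rw [conj_pow]
    simp only [mul_assoc, inv_mul_cancel_left, mul_right_inj]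
    simp only [← mul_assoc, mul_left_inj]
  have hN : ∀ n : ↥Cfsg.M24, n ∈ Subgroup.normalizer (S : Set ↥Cfsg.M24) ↔
      H94.Norm7 (u * s * u⁻¹) (u * n * u⁻¹) := by
    intro n
    rw [H94.mem_normalizer_seven hSs ho]
    refine exists_congr fun k => and_congr_right fun _ => ?_
    rw [← hrel, Subtype.ext_iff]
    simp only [Subgroup.coe_mul, SubmonoidClass.coe_pow]
  have hC : ∀ n : ↥Cfsg.M24, n ∈ Subgroup.centralizer (S : Set ↥Cfsg.M24) ↔
      (u * n * u⁻¹) * (u * s * u⁻¹) = (u * s * u⁻¹) * (u * n * u⁻¹) := by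
    intro n
    have h1 := hrel (n : Equiv.Perm Cfsg.GolayPt) 1
    rw [pow_one, pow_one] at h1
    rw [← h1, Subgroup.mem_centralizer_iff]
    constructor
    · intro h
      exact congrArg Subtype.val (h s (hSs ▸ Subgroup.mem_zpowers s)).symm
    · intro h y hy
      rw [hSs] at hy
      obtain ⟨j, rfl⟩ := Subgroup.mem_zpowers_iff.mp hy
      exact ((Commute.zpow_right (show Commute n s from Subtype.ext h)) j).eq.symm
  refine ⟨?_, ?_, ?_, ?_⟩
  · rw [← H94.card_norm7 hR]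
    exact Nat.card_congr
      { toFun := fun n => ⟨u * (n.1 : Equiv.Perm Cfsg.GolayPt) * u⁻¹, (hM _).mp n.1.2, (hN n.1).mp n.2⟩
        invFun := fun c => ⟨⟨u⁻¹ * c.1 * u, (hM _).mpr (by simpa [mul_assoc] using c.2.1)⟩,
          (hN _).mpr (by simpa [mul_assoc] using c.2.2)⟩
        left_inv := fun n => by ext1; ext1; simp [mul_assoc]
        right_inv := fun c => by ext1; simp [mul_assoc] }
  · rw [← H94.card_cent7 hR]
    exact Nat.card_congr
      { toFun := fun n => ⟨u * (n.1 : Equiv.Perm Cfsg.GolayPt) * u⁻¹, (hM _).mp n.1.2, (hC n.1).mp n.2⟩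
        invFun := fun c => ⟨⟨u⁻¹ * c.1 * u, (hM _).mpr (by simpa [mul_assoc] using c.2.1)⟩,
          (hC _).mpr (by simpa [mul_assoc] using c.2.2)⟩
        left_inv := fun n => by ext1; ext1; simp [mul_assoc]
        right_inv := fun c => by ext1; simp [mul_assoc] }
  · have hk := H94.seven_noncomm
    simp only [Bool.and_eq_true, Bool.not_eq_true'] at hk
    obtain ⟨a, ha, hRa⟩ := H94.exists_perm_of_memB hk.1.1.1.1
    obtain ⟨b, hb, hRb⟩ := H94.exists_perm_of_memB hk.1.1.1.2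
    have ha' := (hRa.mul hR).eq_of_peq (hR.mul hRa) hk.1.1.2
    have hb' := (hRb.mul hR).eq_of_peq (hR.mul hRb) hk.1.2
    refine ⟨⟨u⁻¹ * a * u, (hM _).mpr (by simpa [mul_assoc] using ha)⟩,
      (hC _).mpr (by simpa [mul_assoc] using ha'),
      ⟨u⁻¹ * b * u, (hM _).mpr (by simpa [mul_assoc] using hb)⟩,
      (hC _).mpr (by simpa [mul_assoc] using hb'), fun e => ?_⟩
    have e' : a * b = b * a := by
      have := congrArg (fun z : ↥Cfsg.M24 => u * (z : Equiv.Perm Cfsg.GolayPt) * u⁻¹) e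
      simpa [mul_assoc] using this
    rw [(e' ▸ hRa.mul hRb : H94.Reps _ (b * a)).peq_of_eq (hRb.mul hRa)] at hk
    exact Bool.noConfusion hk.2
  · have h := H94.norm7_ok.2.2.2.2
    rw [Bool.and_eq_true] at h
    refine ⟨u⁻¹ • H94.famOf 3 H94.sevenTrio, H94.smul_mem_trios (Cfsg.M24.inv_mem hu)
      (H94.mem_trios_iff.mpr ⟨_, (H94.any_beq_iff _ _).mp h.1, rfl⟩), fun n hn => ?_⟩
    rw [← smul_left_cancel_iff u, ← mul_smul, ← mul_smul, smul_inv_smul]
    exact H94.norm7_fixes_trio hR ((hM _).mp n.2) ((hN n).mp hn)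

end Cfsg.Agent.S5604
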