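import Cfsg.Statements.S5607
import Cfsg.Agent.H94.Centralisers

set_option autoImplicit false
open scoped Pointwise
open Cfsg

namespace Cfsg.Agent.S5607

/-- For a fixed-point-free involution t of the group of the length-24 code: its centraliser in that group has order 7680, is transitive on the 24 points, and is contained, together with t, in the stabiliser of some sextet. -/
theorem result (t : Equiv.Perm Cfsg.GolayPt) (ht : t ∈ Cfsg.M24) (h₂ : orderOf t = 2) (h₀ : ∀ p, t p ≠ p) : Nat.card {c : Equiv.Perm Cfsg.GolayPt // c ∈ Cfsg.M24 ∧ c * t = t * c} = 7680 ∧ (∀ p q : Cfsg.GolayPt, ∃ c ∈ Cfsg.M24, c * t = t * c ∧ c p = q) ∧ ∃ S ∈ Cfsg.sextets, t • S = S ∧ ∀ c ∈ Cfsg.M24, c * t = t * c → c • S = S := by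
  obtain ⟨h, -⟩ | ⟨-, u, hu, hR⟩ := H94.class_two_fix ht h₂
  · rw [H94.card_fix_zero h₀] at h; omega
  have hconv : ∀ c, (c * t = t * c ↔ (u * c * u⁻¹) * (u * t * u⁻¹) = (u * t * u⁻¹) * (u * c * u⁻¹)) :=
    fun c => by simp only [mul_assoc, inv_mul_cancel_left, mul_right_inj]; simp only [← mul_assoc, mul_left_inj]
  have hM : ∀ c, c ∈ Cfsg.M24 ↔ u * c * u⁻¹ ∈ Cfsg.M24 := fun c =>
    ⟨fun h => Cfsg.M24.mul_mem (Cfsg.M24.mul_mem hu h) (Cfsg.M24.inv_mem hu), fun h => by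
      have := Cfsg.M24.mul_mem (Cfsg.M24.mul_mem (Cfsg.M24.inv_mem hu) h) hu
      simpa [mul_assoc] using this⟩
  refine ⟨?_, ?_, ?_⟩
  · rw [← H94.cent_card hR]
    exact Nat.card_congr ((MulAut.conj u).toEquiv.subtypeEquiv fun c => and_congr (hM c) (hconv c))
  · intro p q
    obtain ⟨c, hc, hcc, hcp⟩ := H94.cent_transitive hR (u p) (u q)
    refine ⟨u⁻¹ * c * u, Cfsg.M24.mul_mem (Cfsg.M24.mul_mem (Cfsg.M24.inv_mem hu) hc) hu, ?_, ?_⟩
    · rw [hconv]
      simpa [mul_assoc] using hcc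
    · simp [Equiv.Perm.mul_apply, hcp, Equiv.Perm.inv_def]
  · have hS : H94.famOf 6 H94.centSextet ∈ Cfsg.sextets := by
      have h := H94.centSextet_ok
      rw [Bool.and_eq_true] at h
      exact H94.sextList_mem_sextets ((H94.any_beq_iff _ _).mp h.1)
    refine ⟨u⁻¹ • H94.famOf 6 H94.centSextet, H94.smul_mem_sextets (Cfsg.M24.inv_mem hu) hS, ?_, ?_⟩
    · rw [← smul_left_cancel_iff u, ← mul_smul, ← mul_smul, smul_inv_smul]
      exact H94.cent_fixes_sextet hR ((hM t).mp ht) ((hconv t).mp rfl)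
    · intro c hc hcc
      rw [← smul_left_cancel_iff u, ← mul_smul, ← mul_smul, smul_inv_smul]
      exact H94.cent_fixes_sextet hR ((hM c).mp hc) ((hconv c).mp hcc)

end Cfsg.Agent.S5607
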