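import Cfsg.Statements.S5608
import Cfsg.Agent.H94.Centralisers

set_option autoImplicit false
open scoped Pointwise
open Cfsg

namespace Cfsg.Agent.S5608

/-- If an element of order 3 and an involution of the group of the length-24 code commute, then either the element of order 3 has exactly 6 fixed points and the involution exactly 8, or both are fixed-point-free. -/
theorem result (x s : Equiv.Perm Cfsg.GolayPt) (hx : x ∈ Cfsg.M24) (hs : s ∈ Cfsg.M24) (h₃ : orderOf x = 3) (h₂ : orderOf s = 2) (hc : Commute x s) : ((Finset.univ.filter fun p => x p = p).card = 6 ∧ (Finset.univ.filter fun p => s p = p).card = 8) ∨ ((Finset.univ.filter fun p => x p = p).card = 0 ∧ (Finset.univ.filter fun p => s p = p).card = 0) := by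
  obtain ⟨h, u, hu, hR⟩ | ⟨h, u, hu, hR⟩ := H94.class_three_fix hx h₃
  · exact Or.inl ⟨h, H94.fix_of_commute H94.cent3six_ok hu hR hs h₂ hc⟩
  · exact Or.inr ⟨h, H94.fix_of_commute H94.cent3free_ok hu hR hs h₂ hc⟩

end Cfsg.Agent.S5608
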