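import Cfsg.Statements.S5609
import Cfsg.Agent.H94.OctadPairs

set_option autoImplicit false
open scoped Pointwise
open Cfsg

namespace Cfsg.Agent.S5609

/-- In the graph on the 759 octads of the length-24 code in which two octads are adjacent when they are disjoint, the graph is connected (of diameter 3) and two distinct octads are at distance 1, 2 or 3 exactly when they meet in 0, 4 or 2 points respectively. -/
theorem result (o o' : Finset Cfsg.GolayPt) (ho : o ∈ Cfsg.octads) (ho' : o' ∈ Cfsg.octads) (hne : o ≠ o') : (Cfsg.blockGraph Cfsg.octads).Connected ∧ ((Cfsg.blockGraph Cfsg.octads).dist ⟨o, ho⟩ ⟨o', ho'⟩ = 1 ↔ (o ∩ o').card = 0) ∧ ((Cfsg.blockGraph Cfsg.octads).dist ⟨o, ho⟩ ⟨o', ho'⟩ = 2 ↔ (o ∩ o').card = 4) ∧ ((Cfsg.blockGraph Cfsg.octads).dist ⟨o, ho⟩ ⟨o', ho'⟩ = 3 ↔ (o ∩ o').card = 2) := by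
  classical
  have hadj : ∀ a b : ↥Cfsg.octads, (Cfsg.blockGraph Cfsg.octads).Adj a b ↔
      Disjoint (a : Finset Cfsg.GolayPt) (b : Finset Cfsg.GolayPt) := by
    intro a b
    simp only [Cfsg.blockGraph, SimpleGraph.fromRel_adj]
    refine ⟨fun h => h.2.elim id (fun e => Disjoint.symm e), fun h => ⟨fun e => ?_, Or.inl h⟩⟩
    subst e
    have h8 : (a : Finset Cfsg.GolayPt).card = 8 := a.2.2
    rw [disjoint_self.mp h] at h8
    exact absurd h8 (by simp)
  have hroot : ∀ r ∈ H94.octOctData.roots, Nat.beq r H94.octad0 = true ∨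
      H94.fpopc (Nat.land H94.octad0 r) = 0 ∨
      (H94.fpopc (Nat.land H94.octad0 r) = 4 ∧ (H94.octList.any fun a =>
        Nat.beq (Nat.land H94.octad0 a) 0 && Nat.beq (Nat.land r a) 0) = true) ∨
      (H94.fpopc (Nat.land H94.octad0 r) = 2 ∧ (H94.octList.any fun a =>
        Nat.beq (Nat.land H94.octad0 a) 0 && Nat.beq (Nat.land r a) 0) = false ∧
        (H94.octList.any fun a => Nat.beq (Nat.land H94.octad0 a) 0 && H94.octList.any fun b =>
          Nat.beq (Nat.land a b) 0 && Nat.beq (Nat.land r b) 0) = true) := by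
    decide +kernel
  have key : ∀ o ∈ Cfsg.octads, ∀ o' ∈ Cfsg.octads, o ≠ o' →
      (o ∩ o').card = 0 ∨
      ((o ∩ o').card = 4 ∧ ∃ a ∈ Cfsg.octads, Disjoint o a ∧ Disjoint a o') ∨
      ((o ∩ o').card = 2 ∧ (¬ ∃ a ∈ Cfsg.octads, Disjoint o a ∧ Disjoint a o') ∧
        ∃ a ∈ Cfsg.octads, ∃ b ∈ Cfsg.octads, Disjoint o a ∧ Disjoint a b ∧ Disjoint b o') := by
    intro o ho o' ho' hne
    obtain ⟨⟨g, hg⟩, r, hr, e1, e2, hk⟩ := H94.octad_pair_reduce ho ho'
    have e1' : g • o = H90.setOf' H94.octad0 := e1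
    have e2' : g • o' = H90.setOf' r := e2
    have hdisj : ∀ s t : Finset Cfsg.GolayPt, Disjoint (g • s) (g • t) → Disjoint s t := by
      intro s t h
      rw [Finset.disjoint_iff_inter_eq_empty, ← Finset.smul_finset_inter] at h
      rw [Finset.disjoint_iff_inter_eq_empty]
      exact Finset.smul_finset_eq_empty.mp h
    have hdisj' : ∀ s t : Finset Cfsg.GolayPt, Disjoint s t → Disjoint (g • s) (g • t) := by
      intro s t h
      rw [Finset.disjoint_iff_inter_eq_empty] at h ⊢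
      rw [← Finset.smul_finset_inter, h, Finset.smul_finset_empty]
    have hwit : ∀ u v : ℕ, Nat.beq (Nat.land u v) 0 = true →
        Disjoint (H90.setOf' u) (H90.setOf' v) := fun u v h =>
      H94.disjoint_of_and_eq_zero (Nat.eq_of_beq_eq_true h)
    rcases hroot r hr with h | h | ⟨h4, ha⟩ | ⟨h2, hno, hex⟩
    · exact absurd (smul_left_cancel g (e1'.trans (Nat.eq_of_beq_eq_true h ▸ e2'.symm))) hne
    · exact Or.inl (hk.trans h)
    · refine Or.inr (Or.inl ⟨hk.trans h4, ?_⟩)
      obtain ⟨a, ha, hab⟩ := List.any_eq_true.mp ha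
      rw [Bool.and_eq_true] at hab
      refine ⟨g⁻¹ • H90.setOf' a,
        H94.smul_mem_octads (Cfsg.M24.inv_mem hg) (H94.mem_octList_lt ha).2, ?_, ?_⟩
      · exact hdisj _ _ (by rw [e1', smul_inv_smul]; exact hwit _ _ hab.1)
      · exact hdisj _ _ (by rw [e2', smul_inv_smul]; exact (hwit _ _ hab.2).symm)
    · refine Or.inr (Or.inr ⟨hk.trans h2, ?_, ?_⟩)
      · rintro ⟨a, ha, hoa, hao⟩
        obtain ⟨m, hm, hme⟩ := H94.mem_octads_iff.mp (H94.smul_mem_octads hg ha)
        have h1 := hdisj' _ _ hoa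
        have h2' := (hdisj' _ _ hao).symm
        rw [e1', ← hme] at h1
        rw [e2', ← hme] at h2'
        have : (H94.octList.any fun a =>
            Nat.beq (Nat.land H94.octad0 a) 0 && Nat.beq (Nat.land r a) 0) = true := by
          refine List.any_eq_true.mpr ⟨m, hm, ?_⟩
          rw [Bool.and_eq_true]
          refine ⟨?_, ?_⟩
          · rw [show Nat.land H94.octad0 m = H94.octad0 &&& m from rfl,
              H94.and_eq_zero_of_disjoint (by decide +kernel) h1]; rfl
          · rw [show Nat.land r m = r &&& m from rfl,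
              H94.and_eq_zero_of_disjoint (H94.octOct_root_lt hr).2 h2']; rfl
        rw [hno] at this
        simp at this
      · obtain ⟨a, ha, hab⟩ := List.any_eq_true.mp hex
        rw [Bool.and_eq_true] at hab
        obtain ⟨b, hb, hbr⟩ := List.any_eq_true.mp hab.2
        rw [Bool.and_eq_true] at hbr
        refine ⟨g⁻¹ • H90.setOf' a,
          H94.smul_mem_octads (Cfsg.M24.inv_mem hg) (H94.mem_octList_lt ha).2,
          g⁻¹ • H90.setOf' b,
          H94.smul_mem_octads (Cfsg.M24.inv_mem hg) (H94.mem_octList_lt hb).2, ?_, ?_, ?_⟩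
        · exact hdisj _ _ (by rw [e1', smul_inv_smul]; exact hwit _ _ hab.1)
        · exact hdisj _ _ (by rw [smul_inv_smul, smul_inv_smul]; exact hwit _ _ hbr.1)
        · exact hdisj _ _ (by rw [e2', smul_inv_smul]; exact (hwit _ _ hbr.2).symm)
  have hreach : ∀ a b : ↥Cfsg.octads, (Cfsg.blockGraph Cfsg.octads).Reachable a b := by
    intro a b
    by_cases e : a = b
    · subst e; exact SimpleGraph.Reachable.refl _
    rcases key a a.2 b b.2 (fun h => e (Subtype.ext h)) with h | ⟨-, c, hc, h1, h2⟩ |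
      ⟨-, -, c, hc, d, hd, h1, h2, h3⟩
    · exact ((hadj a b).mpr (Finset.disjoint_iff_inter_eq_empty.mpr
        (Finset.card_eq_zero.mp h))).reachable
    · exact (((hadj a ⟨c, hc⟩).mpr h1).reachable).trans (((hadj ⟨c, hc⟩ b).mpr h2).reachable)
    · exact (((hadj a ⟨c, hc⟩).mpr h1).reachable).trans ((((hadj ⟨c, hc⟩ ⟨d, hd⟩).mpr h2).reachable).trans
        (((hadj ⟨d, hd⟩ b).mpr h3).reachable))
  have hconn : (Cfsg.blockGraph Cfsg.octads).Connected :=
    (SimpleGraph.connected_iff _).mpr ⟨hreach, ⟨⟨o, ho⟩⟩⟩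
  refine ⟨hconn, ?_⟩
  have hwalk : ∀ (a b : ↥Cfsg.octads) (w : (Cfsg.blockGraph Cfsg.octads).Walk a b),
      w.length = 2 → ∃ c, (Cfsg.blockGraph Cfsg.octads).Adj a c ∧
        (Cfsg.blockGraph Cfsg.octads).Adj c b := by
    intro a b w hw
    cases w with
    | nil => simp at hw
    | cons h12 p =>
      cases p with
      | nil => simp at hw
      | cons h23 q =>
        cases q with
        | nil => exact ⟨_, h12, h23⟩
        | cons _ _ => simp at hw
  set u : ↥Cfsg.octads := ⟨o, ho⟩ with hu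
  set v : ↥Cfsg.octads := ⟨o', ho'⟩ with hv
  have hne' : u ≠ v := fun e => hne (congrArg Subtype.val e)
  have hd0 : (Cfsg.blockGraph Cfsg.octads).dist u v ≠ 0 := by
    rw [Ne, hconn.dist_eq_zero_iff]; exact hne'
  have hd1 : (Cfsg.blockGraph Cfsg.octads).dist u v = 1 ↔ (o ∩ o').card = 0 := by
    rw [SimpleGraph.dist_eq_one_iff_adj, hadj, Finset.card_eq_zero,
      ← Finset.disjoint_iff_inter_eq_empty]
  rcases key o ho o' ho' hne with h | ⟨h, c, hc, h1, h2⟩ | ⟨h, hno, c, hc, d, hd, h1, h2, h3⟩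
  · have := hd1.mpr h
    rw [h, this]; simp
  · have hle := (Cfsg.blockGraph Cfsg.octads).dist_le
      (SimpleGraph.Walk.cons ((hadj u ⟨c, hc⟩).mpr h1)
        (SimpleGraph.Walk.cons ((hadj ⟨c, hc⟩ v).mpr h2) SimpleGraph.Walk.nil))
    simp only [SimpleGraph.Walk.length_cons, SimpleGraph.Walk.length_nil] at hle
    have hne1 : (Cfsg.blockGraph Cfsg.octads).dist u v ≠ 1 := fun e => by
      have := hd1.mp e; omega
    have h2' : (Cfsg.blockGraph Cfsg.octads).dist u v = 2 := by omega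
    rw [h, h2']; simp
  · have hle := (Cfsg.blockGraph Cfsg.octads).dist_le
      (SimpleGraph.Walk.cons ((hadj u ⟨c, hc⟩).mpr h1)
        (SimpleGraph.Walk.cons ((hadj ⟨c, hc⟩ ⟨d, hd⟩).mpr h2)
          (SimpleGraph.Walk.cons ((hadj ⟨d, hd⟩ v).mpr h3) SimpleGraph.Walk.nil)))
    simp only [SimpleGraph.Walk.length_cons, SimpleGraph.Walk.length_nil] at hle
    have hne1 : (Cfsg.blockGraph Cfsg.octads).dist u v ≠ 1 := fun e => by
      have := hd1.mp e; omega
    have hne2 : (Cfsg.blockGraph Cfsg.octads).dist u v ≠ 2 := fun e => by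
      obtain ⟨w, hw⟩ := (hreach u v).exists_walk_length_eq_dist
      rw [e] at hw
      obtain ⟨c, h12, h23⟩ := hwalk u v w hw
      exact hno ⟨_, c.2, (hadj _ _).mp h12, (hadj _ _).mp h23⟩
    have h3' : (Cfsg.blockGraph Cfsg.octads).dist u v = 3 := by omega
    rw [h, h3']; simp

end Cfsg.Agent.S5609
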