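import Cfsg.Statements.S5610
import Cfsg.Agent.H94.OrbitForms
import Cfsg.Agent.H94.OrbOctTrio
import Cfsg.Agent.H94.OrbOctSext

set_option autoImplicit false
open scoped Pointwise
open Cfsg

namespace Cfsg.Agent.S5610

/-- The stabiliser of an octad in the group of the length-24 code has exactly three orbits on the 3795 trios, of sizes 15, 420 and 3360, and exactly three orbits on the 1771 sextets, of sizes 35, 840 and 896. -/
theorem result (o : Finset Cfsg.GolayPt) (ho : o ∈ Cfsg.octads) : (∃ X₁ ∈ Cfsg.trios, ∃ X₂ ∈ Cfsg.trios, ∃ X₃ ∈ Cfsg.trios, (MulAction.orbit ↥(MulAction.stabilizer Cfsg.M24 o) X₁).ncard = 15 ∧ (MulAction.orbit ↥(MulAction.stabilizer Cfsg.M24 o) X₂).ncard = 420 ∧ (MulAction.orbit ↥(MulAction.stabilizer Cfsg.M24 o) X₃).ncard = 3360 ∧ Cfsg.trios = MulAction.orbit ↥(MulAction.stabilizer Cfsg.M24 o) X₁ ∪ MulAction.orbit ↥(MulAction.stabilizer Cfsg.M24 o) X₂ ∪ MulAction.orbit ↥(MulAction.stabilizer Cfsg.M24 o) X₃) ∧ (∃ Y₁ ∈ Cfsg.sextets, ∃ Y₂ ∈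 Cfsg.sextets, ∃ Y₃ ∈ Cfsg.sextets, (MulAction.orbit ↥(MulAction.stabilizer Cfsg.M24 o) Y₁).ncard = 35 ∧ (MulAction.orbit ↥(MulAction.stabilizer Cfsg.M24 o) Y₂).ncard = 840 ∧ (MulAction.orbit ↥(MulAction.stabilizer Cfsg.M24 o) Y₃).ncard = 896 ∧ Cfsg.sextets = MulAction.orbit ↥(MulAction.stabilizer Cfsg.M24 o) Y₁ ∪ MulAction.orbit ↥(MulAction.stabilizer Cfsg.M24 o) Y₂ ∪ MulAction.orbit ↥(MulAction.stabilizer Cfsg.M24 o) Y₃) := by
  obtain ⟨g, hg⟩ := H94.octads_transitive (H94.octB_mem (m := 5279) (by decide +kernel)) ho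
  have hfam : H94.famOf H94.octTrioData.nR H94.octTrioData.R = {H90.setOf' 5279} :=
    H94.famOf_one (by norm_num : 5279 < 2 ^ 24)
  have hfam' : H94.famOf H94.octSextData.nR H94.octSextData.R = {H90.setOf' 5279} :=
    H94.famOf_one (by norm_num : 5279 < 2 ^ 24)
  constructor
  · obtain ⟨Xs, hlen, hmem, hsz, hcov⟩ := H94.octTrioData.summary H94.octTrioData_ok Cfsg.trios
      (fun S => H94.mem_trios_iff) (fun g hg S hS => H94.smul_mem_trios hg hS)
      H94.trioList_nodup [3360, 420, 15] (by decide +kernel)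
    rw [hfam, H94.stabilizer_singleton_fam] at hsz hcov
    match Xs, hlen with
    | [a, b, c], _ =>
      simp only [List.map_cons, List.map_nil, List.cons.injEq, and_true] at hsz
      exact H94.three_orbits g (H90.setOf' 5279) o hg Cfsg.trios
        (fun h S hS => H94.smul_mem_trios h.2 hS) c b a 15 420 3360 (hmem c (by simp))
        (hmem b (by simp)) (hmem a (by simp)) hsz.2.2 hsz.2.1 hsz.1
        (fun S => (hcov S).trans (by simp [or_comm, or_left_comm]))
  · obtain ⟨Xs, hlen, hmem, hsz, hcov⟩ := H94.octSextData.summary H94.octSextData_ok Cfsg.sextets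
      (fun S => H94.mem_sextets_iff) (fun g hg S hS => H94.smul_mem_sextets hg hS)
      H94.sextList_nodup [840, 896, 35] (by decide +kernel)
    rw [hfam', H94.stabilizer_singleton_fam] at hsz hcov
    match Xs, hlen with
    | [a, b, c], _ =>
      simp only [List.map_cons, List.map_nil, List.cons.injEq, and_true] at hsz
      exact H94.three_orbits g (H90.setOf' 5279) o hg Cfsg.sextets
        (fun h S hS => H94.smul_mem_sextets h.2 hS) c a b 35 840 896 (hmem c (by simp))
        (hmem a (by simp)) (hmem b (by simp)) hsz.2.2 hsz.1 hsz.2.1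
        (fun S => (hcov S).trans (by simp [or_comm, or_left_comm]))

end Cfsg.Agent.S5610
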