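import Cfsg.Statements.S5611
import Cfsg.Agent.H94.OrbitForms
import Cfsg.Agent.H94.OrbSextOct
import Cfsg.Agent.H94.OrbSextTrio

set_option autoImplicit false
open scoped Pointwise
open Cfsg

namespace Cfsg.Agent.S5611

/-- The stabiliser of a sextet in the group of the length-24 code has exactly three orbits on the 759 octads, of sizes 15, 360 and 384, and exactly four orbits on the 3795 trios, of sizes 15, 180, 720 and 2880. -/
theorem result (S : Finset (Finset Cfsg.GolayPt)) (hS : S ∈ Cfsg.sextets) : (∃ X₁ ∈ Cfsg.octads, ∃ X₂ ∈ Cfsg.octads, ∃ X₃ ∈ Cfsg.octads, (MulAction.orbit ↥(MulAction.stabilizer Cfsg.M24 S) X₁).ncard = 15 ∧ (MulAction.orbit ↥(MulAction.stabilizer Cfsg.M24 S) X₂).ncard = 360 ∧ (MulAction.orbit ↥(MulAction.stabilizer Cfsg.M24 S) X₃).ncard = 384 ∧ Cfsg.octads = MulAction.orbit ↥(MulAction.stabilizer Cfsg.M24 S) X₁ ∪ MulAction.orbit ↥(MulAction.stabilizer Cfsg.M24 S) X₂ ∪ MulAction.orbit ↥(MulAction.stabilizer Cfsg.M24 S) X₃) ∧ (∃ Y₁ ∈ Cfsg.trios,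 ∃ Y₂ ∈ Cfsg.trios, ∃ Y₃ ∈ Cfsg.trios, ∃ Y₄ ∈ Cfsg.trios, (MulAction.orbit ↥(MulAction.stabilizer Cfsg.M24 S) Y₁).ncard = 15 ∧ (MulAction.orbit ↥(MulAction.stabilizer Cfsg.M24 S) Y₂).ncard = 180 ∧ (MulAction.orbit ↥(MulAction.stabilizer Cfsg.M24 S) Y₃).ncard = 720 ∧ (MulAction.orbit ↥(MulAction.stabilizer Cfsg.M24 S) Y₄).ncard = 2880 ∧ Cfsg.trios = MulAction.orbit ↥(MulAction.stabilizer Cfsg.M24 S) Y₁ ∪ MulAction.orbit ↥(MulAction.stabilizer Cfsg.M24 S) Y₂ ∪ MulAction.orbit ↥(MulAction.stabilizer Cfsg.M24 S) Y₃ ∪ MulAction.orbit ↥(MulAction.stabilizer Cfsg.M24 S) Y₄) := by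
  have h0 : H94.famOf 6 H94.sextOctData.R ∈ Cfsg.sextets :=
    H94.sextList_mem_sextets ((H94.any_beq_iff _ _).mp (by decide +kernel))
  obtain ⟨g, hg⟩ := H94.sextets_transitive h0 hS
  constructor
  · obtain ⟨Xs, hlen, hmem, hsz, hcov⟩ := H94.sextOctData.summary H94.sextOctData_ok H94.octFams
      H94.mem_octFams_iff (fun g hg S hS => H94.smul_mem_octFams hg hS)
      H94.octList_nodup [360, 384, 15] (by decide +kernel)
    obtain ⟨os, hos, hsz', hcov'⟩ := H94.octad_summary _ Xs _ hmem hsz hcov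
    match os, congrArg List.length hsz' with
    | [a, b, c], _ =>
      simp only [List.map_cons, List.map_nil, List.cons.injEq, and_true] at hsz'
      exact H94.three_orbits g (H94.famOf H94.sextOctData.nR H94.sextOctData.R) S hg Cfsg.octads
        (fun h S hS => H94.smul_mem_octads h.2 hS) c a b 15 360 384 (hos c (by simp))
        (hos a (by simp)) (hos b (by simp)) hsz'.2.2 hsz'.1 hsz'.2.1
        (fun S => (hcov' S).trans (by
          simp only [List.mem_cons, List.not_mem_nil, or_false, exists_eq_or_imp, exists_eq_left]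
          tauto))
  · obtain ⟨Xs, hlen, hmem, hsz, hcov⟩ := H94.sextTrioData.summary H94.sextTrioData_ok Cfsg.trios
      (fun S => H94.mem_trios_iff) (fun g hg S hS => H94.smul_mem_trios hg hS)
      H94.trioList_nodup [720, 2880, 180, 15] (by decide +kernel)
    match Xs, hlen with
    | [a, b, c, d], _ =>
      simp only [List.map_cons, List.map_nil, List.cons.injEq, and_true] at hsz
      exact H94.four_orbits g (H94.famOf H94.sextTrioData.nR H94.sextTrioData.R) S hg Cfsg.trios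
        (fun h S hS => H94.smul_mem_trios h.2 hS) d c a b 15 180 720 2880 (hmem d (by simp))
        (hmem c (by simp)) (hmem a (by simp)) (hmem b (by simp)) hsz.2.2.2 hsz.2.2.1 hsz.1 hsz.2.1
        (fun S => (hcov S).trans (by
          simp only [List.mem_cons, List.not_mem_nil, or_false, exists_eq_or_imp, exists_eq_left]
          tauto))

end Cfsg.Agent.S5611
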