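import Cfsg.Statements.S5612
import Cfsg.Agent.H94.OrbitForms
import Cfsg.Agent.H94.OrbTrioOct
import Cfsg.Agent.H94.OrbTrioSext

set_option autoImplicit false
open scoped Pointwise
open Cfsg

namespace Cfsg.Agent.S5612

/-- The stabiliser of a trio in the group of the length-24 code has exactly three orbits on the 759 octads, of sizes 3, 84 and 672, and exactly four orbits on the 1771 sextets, of sizes 7, 84, 336 and 1344. -/
theorem result (T : Finset (Finset Cfsg.GolayPt)) (hT : T ∈ Cfsg.trios) : (∃ X₁ ∈ Cfsg.octads, ∃ X₂ ∈ Cfsg.octads, ∃ X₃ ∈ Cfsg.octads, (MulAction.orbit ↥(MulAction.stabilizer Cfsg.M24 T) X₁).ncard = 3 ∧ (MulAction.orbit ↥(MulAction.stabilizer Cfsg.M24 T) X₂).ncard = 84 ∧ (MulAction.orbit ↥(MulAction.stabilizer Cfsg.M24 T) X₃).ncard = 672 ∧ Cfsg.octads = MulAction.orbit ↥(MulAction.stabilizer Cfsg.M24 T) X₁ ∪ MulAction.orbit ↥(MulAction.stabilizer Cfsg.M24 T) X₂ ∪ MulAction.orbit ↥(MulAction.stabilizer Cfsg.M24 T) X₃) ∧ (∃ Y₁ ∈ Cfsg.sextets,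 ∃ Y₂ ∈ Cfsg.sextets, ∃ Y₃ ∈ Cfsg.sextets, ∃ Y₄ ∈ Cfsg.sextets, (MulAction.orbit ↥(MulAction.stabilizer Cfsg.M24 T) Y₁).ncard = 7 ∧ (MulAction.orbit ↥(MulAction.stabilizer Cfsg.M24 T) Y₂).ncard = 84 ∧ (MulAction.orbit ↥(MulAction.stabilizer Cfsg.M24 T) Y₃).ncard = 336 ∧ (MulAction.orbit ↥(MulAction.stabilizer Cfsg.M24 T) Y₄).ncard = 1344 ∧ Cfsg.sextets = MulAction.orbit ↥(MulAction.stabilizer Cfsg.M24 T) Y₁ ∪ MulAction.orbit ↥(MulAction.stabilizer Cfsg.M24 T) Y₂ ∪ MulAction.orbit ↥(MulAction.stabilizer Cfsg.M24 T) Y₃ ∪ MulAction.orbit ↥(MulAction.stabilizer Cfsg.M24 T) Y₄) := by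
  have h0 : H94.famOf 3 H94.trioOctData.R ∈ Cfsg.trios :=
    H94.mem_trios_iff.mpr ⟨_, (H94.any_beq_iff _ _).mp (by decide +kernel), rfl⟩
  obtain ⟨g, hg⟩ := H94.trios_transitive h0 hT
  constructor
  · obtain ⟨Xs, hlen, hmem, hsz, hcov⟩ := H94.trioOctData.summary H94.trioOctData_ok H94.octFams
      H94.mem_octFams_iff (fun g hg S hS => H94.smul_mem_octFams hg hS)
      H94.octList_nodup [672, 84, 3] (by decide +kernel)
    obtain ⟨os, hos, hsz', hcov'⟩ := H94.octad_summary _ Xs _ hmem hsz hcov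
    match os, congrArg List.length hsz' with
    | [a, b, c], _ =>
      simp only [List.map_cons, List.map_nil, List.cons.injEq, and_true] at hsz'
      exact H94.three_orbits g (H94.famOf H94.trioOctData.nR H94.trioOctData.R) T hg Cfsg.octads
        (fun h S hS => H94.smul_mem_octads h.2 hS) c b a 3 84 672 (hos c (by simp))
        (hos b (by simp)) (hos a (by simp)) hsz'.2.2 hsz'.2.1 hsz'.1
        (fun S => (hcov' S).trans (by
          simp only [List.mem_cons, List.not_mem_nil, or_false, exists_eq_or_imp, exists_eq_left]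
          tauto))
  · obtain ⟨Xs, hlen, hmem, hsz, hcov⟩ := H94.trioSextData.summary H94.trioSextData_ok Cfsg.sextets
      (fun S => H94.mem_sextets_iff) (fun g hg S hS => H94.smul_mem_sextets hg hS)
      H94.sextList_nodup [336, 1344, 84, 7] (by decide +kernel)
    match Xs, hlen with
    | [a, b, c, d], _ =>
      simp only [List.map_cons, List.map_nil, List.cons.injEq, and_true] at hsz
      exact H94.four_orbits g (H94.famOf H94.trioSextData.nR H94.trioSextData.R) T hg Cfsg.sextets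
        (fun h S hS => H94.smul_mem_sextets h.2 hS) d c a b 7 84 336 1344 (hmem d (by simp))
        (hmem c (by simp)) (hmem a (by simp)) (hmem b (by simp)) hsz.2.2.2 hsz.2.2.1 hsz.1 hsz.2.1
        (fun S => (hcov S).trans (by
          simp only [List.mem_cons, List.not_mem_nil, or_false, exists_eq_or_imp, exists_eq_left]
          tauto))

end Cfsg.Agent.S5612
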