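import Cfsg.Statements.S5614
import Cfsg.Agent.H94.OctadPairs
import Cfsg.Agent.H94.FaithfulPerm

set_option autoImplicit false
open scoped Pointwise
open Cfsg

namespace Cfsg.Agent.S5614

/-- In the group of the length-24 code, the joint stabiliser of two octads meeting in exactly two points is isomorphic to the symmetric group of degree 6. -/
theorem result (o o' : Finset Cfsg.GolayPt) (ho : o ∈ Cfsg.octads) (ho' : o' ∈ Cfsg.octads) (h₂ : (o ∩ o').card = 2) : Nonempty (↥(MulAction.stabilizer Cfsg.M24 o ⊓ MulAction.stabilizer Cfsg.M24 o') ≃* Equiv.Perm (Fin 6)) := by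
  classical
  have hB : H90.setOf' H94.octad0 ∈ Cfsg.octads := H94.octad0_mem
  have hR : H90.setOf' 168928 ∈ Cfsg.octads := H94.octB_mem (by decide +kernel)
  have hBR : (H90.setOf' 168928 ∩ H90.setOf' H94.octad0).card = 2 := by
    rw [← H90.setOf'_and, H90.card_setOf']; decide +kernel
  -- move to the standard pair
  obtain ⟨g₁, r₁, hr₁, e₁, e₁', k₁⟩ := H94.octad_pair_reduce ho ho'
  obtain ⟨g₂, r₂, hr₂, e₂, e₂', k₂⟩ := H94.octad_pair_reduce hR hB
  have huniq : ∀ r ∈ H94.octOctData.roots, ∀ r' ∈ H94.octOctData.roots,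
      H94.fpopc (Nat.land H94.octad0 r) = 2 → H94.fpopc (Nat.land H94.octad0 r') = 2 → r = r' := by
    decide +kernel
  obtain rfl := huniq r₁ hr₁ r₂ hr₂ (k₁.symm.trans h₂) (k₂.symm.trans hBR)
  obtain ⟨g, hgdef⟩ : ∃ g, g = g₂⁻¹ * g₁ := ⟨_, rfl⟩
  have hgo : g • o = H90.setOf' 168928 := by rw [hgdef, mul_smul, e₁, ← e₂, inv_smul_smul]
  have hgo' : g • o' = H90.setOf' H94.octad0 := by
    rw [hgdef, mul_smul, e₁', ← e₂', inv_smul_smul]
  have key : ∀ h : Equiv.Perm Cfsg.GolayPt, h ∈ Cfsg.M24 →
      (∀ i < 24, H94.bitB (H94.octad0 - Nat.land H94.octad0 168928) i = true →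
        h (H94.ptN i) = H94.ptN i) →
      h • H90.setOf' 168928 = H90.setOf' 168928 → h = 1 := by
    intro h hh hfix hhR
    have h5 : ∀ i < 5, i < 24 ∧ H94.bitB (H94.octad0 - Nat.land H94.octad0 168928) i = true := by
      decide +kernel
    obtain ⟨t, ht, hRt⟩ := H94.stab5_complete hh fun i hi => hfix i (h5 i hi).1 (h5 i hi).2
    have hchk : H94.stab5.all (fun t => !((List.range 24).all (fun i =>
        !H94.bitB (H94.octad0 - Nat.land H94.octad0 168928) i || Nat.beq (H94.pap t i) i) &&
          Nat.beq (H94.pmask t 168928) 168928) || H94.peq t H94.pone) = true := by decide +kernel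
    have hc := List.all_eq_true.mp hchk t ht
    have hfirst : (List.range 24).all (fun i =>
        !H94.bitB (H94.octad0 - Nat.land H94.octad0 168928) i || Nat.beq (H94.pap t i) i) = true := by
      rw [List.all_eq_true]
      intro i hi
      have hi' := List.mem_range.mp hi
      cases hb : H94.bitB (H94.octad0 - Nat.land H94.octad0 168928) i
      · rfl
      · rw [hRt i hi', hfix i hi' hb, H94.idxN_ptN hi', Nat.beq_refl]; rfl
    have hsecond : H94.pmask t 168928 = 168928 :=
      H90.setOf'_injOn (hRt.pmask_lt _) (by norm_num) (by rw [hRt.setOf', hhR])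
    rw [hfirst, hsecond, Nat.beq_refl, Bool.and_true, Bool.not_true, Bool.false_or] at hc
    exact hRt.eq_of_peq H94.reps_one hc
  have hD : (o' \ o).card = 6 := by
    rw [Finset.card_sdiff, ho'.2, h₂]
  refine H94.iso_perm_of_card Cfsg.M24 _ (o' \ o) (fun h hh => ?_) 6 hD (fun h hh hfix => ?_) ?_
  · rw [Finset.smul_finset_sdiff]
    rw [show (h : Equiv.Perm Cfsg.GolayPt) • o' = o' from hh.2,
      show (h : Equiv.Perm Cfsg.GolayPt) • o = o from hh.1]
  · have hRfix : (g * h * g⁻¹) • H90.setOf' 168928 = H90.setOf' 168928 := by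
      rw [← hgo, mul_smul, inv_smul_smul, mul_smul, show h • o = o from hh.1]
    have hone : g * h * g⁻¹ = 1 := by
      refine Subtype.ext (key _ (g * h * g⁻¹).2 (fun i hi hb => ?_) hRfix)
      have hp : H94.ptN i ∈ (g : Equiv.Perm Cfsg.GolayPt) • (o' \ o) := by
        rw [Finset.smul_finset_sdiff, show (g : Equiv.Perm Cfsg.GolayPt) • o' = _ from hgo',
          show (g : Equiv.Perm Cfsg.GolayPt) • o = _ from hgo, Finset.mem_sdiff,
          H94.mem_setOf'_ptN hi, H94.mem_setOf'_ptN hi, ← H94.bitB_eq, ← H94.bitB_eq]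
        have : ∀ i < 24, H94.bitB (H94.octad0 - Nat.land H94.octad0 168928) i = true →
            H94.bitB H94.octad0 i = true ∧ ¬ H94.bitB 168928 i = true := by decide +kernel
        exact this i hi hb
      obtain ⟨p, hp, hpe⟩ := Finset.mem_smul_finset.mp hp
      simp only [Equiv.Perm.smul_def] at hpe
      rw [← hpe]
      simp [Equiv.Perm.mul_apply, hfix p hp]
    calc h = g⁻¹ * (g * h * g⁻¹) * g := by group
      _ = 1 := by rw [hone]; group
  · have := H94.card_octad_pair_stabilizer ho ho'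
    rw [h₂, show H94.octOrbitSize 2 = 448 from rfl] at this
    rw [show Nat.factorial 6 = 720 from rfl]
    omega

end Cfsg.Agent.S5614
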