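import Cfsg.Statements.S5615
import Cfsg.Agent.H94.TrioPairs

set_option autoImplicit false
open scoped Pointwise
open Cfsg

namespace Cfsg.Agent.S5615

/-- An octad of the length-24 code lies in exactly 15 trios; the stabiliser of the octad in the code's group acts doubly transitively on these 15 trios, and the kernel of this action is the pointwise stabiliser of the octad. -/
theorem result (o : Finset Cfsg.GolayPt) (ho : o ∈ Cfsg.octads) : {T : Finset (Finset Cfsg.GolayPt) | T ∈ Cfsg.trios ∧ o ∈ T}.ncard = 15 ∧ (∀ T₁ T₂ T₁' T₂' : Finset (Finset Cfsg.GolayPt), T₁ ∈ Cfsg.trios → T₂ ∈ Cfsg.trios → T₁' ∈ Cfsg.trios → T₂' ∈ Cfsg.trios → o ∈ T₁ → o ∈ T₂ → o ∈ T₁' → o ∈ T₂' → T₁ ≠ T₂ → T₁' ≠ T₂' → ∃ g ∈ Cfsg.M24, g • o = o ∧ g • T₁ = T₁' ∧ g • T₂ = T₂') ∧ ∀ g ∈ Cfsg.M24, g • o = o → ((∀ T ∈ Cfsg.trios, o ∈ T → g • T = T) ↔ ∀ p ∈ o, g p = p) := by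
  obtain ⟨⟨c, hc⟩, hco⟩ := H94.octads_transitive ho H94.stdOctad_mem
  have hco' : c • o = H94.stdOctad := hco
  have hmem : ∀ {T : Finset (Finset Cfsg.GolayPt)}, o ∈ T → H94.stdOctad ∈ c • T :=
    fun {T} h => hco' ▸ Finset.smul_mem_smul_finset h
  refine ⟨?_, ?_, ?_⟩
  · rw [← H94.trios_through_std, ← Set.ncard_smul_set c]
    congr 1
    ext T
    rw [Set.mem_smul_set_iff_inv_smul_mem, Set.mem_ofPred_eq, Set.mem_ofPred_eq]
    constructor
    · rintro ⟨h1, h2⟩
      refine ⟨?_, ?_⟩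
      · have := H94.smul_mem_trios hc h1; rwa [smul_inv_smul] at this
      · have := hmem h2; rwa [smul_inv_smul] at this
    · rintro ⟨h1, h2⟩
      refine ⟨H94.smul_mem_trios (Cfsg.M24.inv_mem hc) h1, ?_⟩
      rw [← inv_smul_smul c o, hco']
      exact Finset.smul_mem_smul_finset h2
  · intro T₁ T₂ T₁' T₂' h1 h2 h1' h2' o1 o2 o1' o2' hne hne'
    obtain ⟨g, hg, hgo, hg1, hg2⟩ := H94.pair_to_first (H94.smul_mem_trios hc h1)
      (H94.smul_mem_trios hc h2) (hmem o1) (hmem o2) fun e => hne (smul_left_cancel c e)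
    obtain ⟨k, hk, hko, hk1, hk2⟩ := H94.pair_to_first (H94.smul_mem_trios hc h1')
      (H94.smul_mem_trios hc h2') (hmem o1') (hmem o2') fun e => hne' (smul_left_cancel c e)
    refine ⟨(k * c)⁻¹ * (g * c), Cfsg.M24.mul_mem (Cfsg.M24.inv_mem (Cfsg.M24.mul_mem hk hc))
      (Cfsg.M24.mul_mem hg hc), ?_, ?_, ?_⟩
    · rw [mul_smul, inv_smul_eq_iff, mul_smul, mul_smul, hco', hgo, hko]
    · rw [mul_smul, inv_smul_eq_iff, mul_smul, mul_smul, hg1, hk1]
    · rw [mul_smul, inv_smul_eq_iff, mul_smul, mul_smul, hg2, hk2]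
  · intro g hg hgo
    have hgM : c * g * c⁻¹ ∈ Cfsg.M24 :=
      Cfsg.M24.mul_mem (Cfsg.M24.mul_mem hc hg) (Cfsg.M24.inv_mem hc)
    have hgO : (c * g * c⁻¹) • H94.stdOctad = H94.stdOctad := by
      rw [← hco', mul_smul, inv_smul_smul, mul_smul, hgo]
    constructor
    · intro h p hp
      have h' : ∀ T ∈ Cfsg.trios, H94.stdOctad ∈ T → (c * g * c⁻¹) • T = T := by
        intro T hT hoT
        have := h (c⁻¹ • T) (H94.smul_mem_trios (Cfsg.M24.inv_mem hc) hT) (by
          rw [← inv_smul_smul c o, hco']; exact Finset.smul_mem_smul_finset hoT)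
        rw [mul_smul, mul_smul, this, smul_inv_smul]
      have h2 := H94.fix_pointwise_of_fix_trios hgM hgO h' (c p)
        (hco' ▸ Finset.smul_mem_smul_finset hp)
      simp only [Equiv.Perm.mul_apply, Equiv.Perm.inv_def, Equiv.symm_apply_apply] at h2
      exact c.injective h2
    · intro h T hT hoT
      have hp : ∀ q ∈ H94.stdOctad, (c * g * c⁻¹) q = q := by
        intro q hq
        rw [← hco'] at hq
        obtain ⟨p, hp, rfl⟩ := Finset.mem_smul_finset.mp hq
        simp [Equiv.Perm.smul_def, Equiv.Perm.mul_apply, h p hp]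
      have := H94.fix_trios_of_fix_pointwise hgM hp (c • T) (H94.smul_mem_trios hc hT) (hmem hoT)
      rw [mul_smul, inv_smul_smul, mul_smul] at this
      exact smul_left_cancel c this

end Cfsg.Agent.S5615
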