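import Cfsg.Statements.S5616
import Cfsg.Agent.H94.OrbitForms
import Cfsg.Agent.H94.Trans5
import Cfsg.Agent.H94.OrbYSext

set_option autoImplicit false
open scoped Pointwise
open Cfsg

namespace Cfsg.Agent.S5616

/-- Let Y be a set of 3 of the 24 points. The sextets of the length-24 code whose tetrads meeting Y number 1, 2 or 3 are respectively 21, 630 and 1120 in number, and two sextets with the same number of tetrads meeting Y are conjugate under the setwise stabiliser of Y in the code's group. -/
theorem result (Y : Finset Cfsg.GolayPt) (hY : Y.card = 3) : {S : Finset (Finset Cfsg.GolayPt) | S ∈ Cfsg.sextets ∧ (S.filter fun t => (t ∩ Y).Nonempty).card = 1}.ncard = 21 ∧ {S : Finset (Finset Cfsg.GolayPt) | S ∈ Cfsg.sextets ∧ (S.filter fun t => (t ∩ Y).Nonempty).card = 2}.ncard = 630 ∧ {S : Finset (Finset Cfsg.GolayPt) | S ∈ Cfsg.sextets ∧ (S.filter fun t => (t ∩ Y).Nonempty).card = 3}.ncard = 1120 ∧ ∀ S S' : Finset (Finset Cfsg.GolayPt), S ∈ Cfsg.sextets → S' ∈ Cfsg.sextets → (S.filter fun t => (t ∩ Y).Nonempty).card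 = (S'.filter fun t => (t ∩ Y).Nonempty).card → ∃ g ∈ Cfsg.M24, g • Y = Y ∧ g • S = S' := by
  classical
  obtain ⟨a, b, c, hab, hac, hbc, rfl⟩ := Finset.card_eq_three.mp hY
  obtain ⟨g, hg, hga⟩ := H94.exists_five_images
    (fun i => if i = 0 then a else if i = 1 then b else c) 3 (by norm_num) (by
      intro i hi j hj e
      interval_cases i <;> interval_cases j <;> simp_all)
  have hY0 : H90.setOf' 7 = ({H94.ptN 0, H94.ptN 1, H94.ptN 2} : Finset Cfsg.GolayPt) := by
    decide +kernel
  have hgY : g • H90.setOf' 7 = ({a, b, c} : Finset Cfsg.GolayPt) := by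
    rw [hY0, Finset.smul_finset_insert, Finset.smul_finset_insert, Finset.smul_finset_singleton]
    simp [hga 0, hga 1, hga 2]
  have hinv : ∀ (h : Equiv.Perm Cfsg.GolayPt) (S : Finset (Finset Cfsg.GolayPt))
      (Z : Finset Cfsg.GolayPt), ((h • S).filter fun t => (t ∩ h • Z).Nonempty).card =
        (S.filter fun t => (t ∩ Z).Nonempty).card := by
    intro h S Z
    rw [show h • S = S.image (h • ·) from rfl, Finset.filter_image,
      Finset.card_image_of_injective _ (MulAction.injective h)]
    congr 1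
    ext t
    simp [← Finset.smul_finset_inter]
  let meet : ℕ → ℕ := fun x => (H94.parts 6 x).countP fun t => !Nat.beq (Nat.land t 7) 0
  have hmeet : ∀ x ∈ H94.sextList,
      ((H94.famOf 6 x).filter fun t => (t ∩ H90.setOf' 7).Nonempty).card = meet x := by
    intro x hx
    have hok := H94.sextList_ok
    rw [Bool.and_eq_true] at hok
    have hb := List.all_eq_true.mp hok.1 x hx
    simp only [H94.sextB, H94.canB, Bool.and_eq_true] at hb
    have hnd := H94.incrB_nodup hb.1.1.2
    rw [H94.famOf, H94.famList, Finset.filter_image, Finset.card_image_of_injOn]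
    · have hiff : ∀ t, ((H90.setOf' t ∩ H90.setOf' 7).Nonempty ↔
          (!Nat.beq (Nat.land t 7) 0) = true) := by
        intro t
        rw [← H90.setOf'_and, Finset.nonempty_iff_ne_empty, Bool.not_eq_true',
          ← Bool.not_eq_true]
        refine not_congr ⟨fun h => ?_, fun h => ?_⟩
        · have h0 : H90.setOf' (t &&& 7) = H90.setOf' 0 := by
            rw [h]; ext p; simp [H90.mem_setOf']
          rw [show Nat.land t 7 = t &&& 7 from rfl, H90.setOf'_injOn
            (lt_of_le_of_lt Nat.and_le_right (by norm_num)) (by norm_num) h0]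
          rfl
        · rw [show t &&& 7 = 0 from Nat.eq_of_beq_eq_true h]
          ext p; simp [H90.mem_setOf']
      show _ = (H94.parts 6 x).countP _
      rw [List.countP_eq_length_filter, ← List.toFinset_card_of_nodup (hnd.filter _)]
      congr 1
      ext t
      simp only [Finset.mem_filter, List.mem_toFinset, List.mem_filter, hiff]
    · intro u hu v hv e
      simp only [Finset.coe_filter, List.mem_toFinset, Set.mem_ofPred_eq] at hu hv
      exact H90.setOf'_injOn (H94.parts_lt 6 x u hu.1) (H94.parts_lt 6 x v hv.1) e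
  have hfam : H94.famOf H94.ySextData.nR H94.ySextData.R = {H90.setOf' 7} :=
    H94.famOf_one (by norm_num : (7 : ℕ) < 2 ^ 24)
  have hcount : ∀ k, {S : Finset (Finset Cfsg.GolayPt) | S ∈ Cfsg.sextets ∧
      (S.filter fun t => (t ∩ ({a, b, c} : Finset Cfsg.GolayPt)).Nonempty).card = k}.ncard =
      (H94.sextList.filter fun x => Nat.beq (meet x) k).length := by
    intro k
    have e : {S : Finset (Finset Cfsg.GolayPt) | S ∈ Cfsg.sextets ∧
        (S.filter fun t => (t ∩ ({a, b, c} : Finset Cfsg.GolayPt)).Nonempty).card = k} =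
        ↑((H94.sextList.filter fun x => Nat.beq (meet x) k).toFinset.image
          fun x => g • H94.famOf 6 x) := by
      ext S
      simp only [Set.mem_ofPred_eq, Finset.coe_image, List.coe_toFinset, Set.mem_image,
        List.mem_filter]
      constructor
      · rintro ⟨hS, hk⟩
        obtain ⟨x, hx, hxe⟩ := H94.mem_sextets_iff.mp
          (H94.smul_mem_sextets (Cfsg.M24.inv_mem hg) hS)
        refine ⟨x, ⟨hx, ?_⟩, by rw [hxe, smul_inv_smul]⟩
        rw [← hmeet x hx, ← hinv g, hxe, smul_inv_smul, hgY, hk]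
        exact Nat.beq_refl k
      · rintro ⟨x, ⟨hx, hk⟩, rfl⟩
        refine ⟨H94.smul_mem_sextets hg (H94.sextList_mem_sextets hx), ?_⟩
        rw [← hgY, hinv g, hmeet x hx, Nat.eq_of_beq_eq_true hk]
    rw [e, Set.ncard_coe_finset, Finset.card_image_of_injOn,
      List.toFinset_card_of_nodup (H94.sextList_nodup.filter _)]
    intro u hu v hv huv
    simp only [List.coe_toFinset, Set.mem_ofPred_eq, List.mem_filter] at hu hv
    have hok := H94.sextList_ok
    rw [Bool.and_eq_true] at hok
    have hu' := List.all_eq_true.mp hok.1 u hu.1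
    have hv' := List.all_eq_true.mp hok.1 v hv.1
    simp only [H94.sextB, Bool.and_eq_true] at hu' hv'
    exact H94.famOf_injOn hu'.1.1 hv'.1.1 (smul_left_cancel g huv)
  refine ⟨?_, ?_, ?_, ?_⟩
  · rw [hcount]; decide +kernel
  · rw [hcount]; decide +kernel
  · rw [hcount]; decide +kernel
  · have key : ∀ S ∈ Cfsg.sextets, ∃ r ∈ H94.ySextData.roots,
        (S.filter fun t => (t ∩ ({a, b, c} : Finset Cfsg.GolayPt)).Nonempty).card = meet r ∧
        ∃ h ∈ Cfsg.M24, h • ({a, b, c} : Finset Cfsg.GolayPt) = H90.setOf' 7 ∧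
          h • S = H94.famOf 6 r := by
      intro S hS
      obtain ⟨x, hx, hxe⟩ := H94.mem_sextets_iff.mp
        (H94.smul_mem_sextets (Cfsg.M24.inv_mem hg) hS)
      obtain ⟨r, hr, -, h, hh, hhx⟩ := H94.ySextData.exists_smul H94.ySextData_ok (x := x) hx
      rw [hfam, H94.stabilizer_singleton_fam] at hh
      have hh' : (h : Equiv.Perm Cfsg.GolayPt) • H90.setOf' 7 = H90.setOf' 7 := hh
      change (h : Equiv.Perm Cfsg.GolayPt) • H94.famOf 6 x = H94.famOf 6 r at hhx
      have hrL : r ∈ H94.sextList := by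
        obtain ⟨r', hr', he⟩ : ∃ r' ∈ H94.sextList, Nat.beq r r' = true := by
          have := List.all_eq_true.mp (show H94.ySextData.roots.all
            (fun r => H94.sextList.any (Nat.beq r)) = true by decide +kernel) r hr
          exact List.any_eq_true.mp this
        exact Nat.eq_of_beq_eq_true he ▸ hr'
      have h1 : ((h : Equiv.Perm Cfsg.GolayPt) * g⁻¹) • ({a, b, c} : Finset Cfsg.GolayPt) =
          H90.setOf' 7 := by
        rw [mul_smul, ← hgY, inv_smul_smul, hh']
      have h2 : ((h : Equiv.Perm Cfsg.GolayPt) * g⁻¹) • S = H94.famOf 6 r := by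
        rw [mul_smul, ← hxe, hhx]
      refine ⟨r, hr, ?_, _, Cfsg.M24.mul_mem h.2 (Cfsg.M24.inv_mem hg), h1, h2⟩
      rw [← hmeet r hrL, ← h1, ← h2, hinv]
    intro S S' hS hS' e
    obtain ⟨r, hr, hm, h, hh, hhY, hhS⟩ := key S hS
    obtain ⟨r', hr', hm', h', hh', hhY', hhS'⟩ := key S' hS'
    have hrr : r = r' := by
      have := List.all_eq_true.mp (List.all_eq_true.mp (show (H94.ySextData.roots.all fun r =>
        H94.ySextData.roots.all fun r' => !Nat.beq (meet r) (meet r') || Nat.beq r r') = true by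
          decide +kernel) r hr) r' hr'
      rw [← hm, ← hm', e, Nat.beq_refl, Bool.not_true, Bool.false_or] at this
      exact Nat.eq_of_beq_eq_true this
    subst hrr
    exact ⟨h'⁻¹ * h, Cfsg.M24.mul_mem (Cfsg.M24.inv_mem hh') hh,
      by rw [mul_smul, hhY, ← hhY', inv_smul_smul], by rw [mul_smul, hhS, ← hhS', inv_smul_smul]⟩

end Cfsg.Agent.S5616
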