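import Cfsg.Statements.S5617
import Cfsg.Agent.H94.OrbitForms
import Cfsg.Agent.H94.DodFacts
import Cfsg.Agent.H94.OrbPairSext

set_option autoImplicit false
open scoped Pointwise
open Cfsg

namespace Cfsg.Agent.S5617

/-- The setwise stabiliser, in the group of the length-24 code, of a complementary pair of dodecads has exactly three orbits on the 1771 sextets, of sizes 396, 495 and 880. -/
theorem result (d : Finset Cfsg.GolayPt) (hd : d ∈ Cfsg.dodecads) : ∃ X₁ ∈ Cfsg.sextets, ∃ X₂ ∈ Cfsg.sextets, ∃ X₃ ∈ Cfsg.sextets, (MulAction.orbit ↥(MulAction.stabilizer Cfsg.M24 ({d, Finset.univ \ d} : Finset (Finset Cfsg.GolayPt))) X₁).ncard = 396 ∧ (MulAction.orbit ↥(MulAction.stabilizer Cfsg.M24 ({d, Finset.univ \ d} : Finset (Finset Cfsg.GolayPt))) X₂).ncard = 495 ∧ (MulAction.orbit ↥(MulAction.stabilizer Cfsg.M24 ({d, Finset.univ \ d} : Finset (Finset Cfsg.GolayPt))) X₃).ncard = 880 ∧ Cfsg.sextets = MulAction.orbit ↥(MulAction.stabilizer Cfsg.M24 ({d, Finset.univ \ d} : Finset (Finset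 Cfsg.GolayPt))) X₁ ∪ MulAction.orbit ↥(MulAction.stabilizer Cfsg.M24 ({d, Finset.univ \ d} : Finset (Finset Cfsg.GolayPt))) X₂ ∪ MulAction.orbit ↥(MulAction.stabilizer Cfsg.M24 ({d, Finset.univ \ d} : Finset (Finset Cfsg.GolayPt))) X₃ := by
  obtain ⟨D0, hD0⟩ : ∃ D0, D0 = (H94.parts H94.pairSextData.nR H94.pairSextData.R).head! := ⟨_, rfl⟩
  have hd0 : H90.setOf' D0 ∈ Cfsg.dodecads := H94.dodB_mem (by rw [hD0]; decide +kernel)
  have hfam : H94.famOf H94.pairSextData.nR H94.pairSextData.R =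
      ({H90.setOf' D0, Finset.univ \ H90.setOf' D0} : Finset (Finset Cfsg.GolayPt)) := by
    rw [hD0]; decide +kernel
  obtain ⟨g, hg⟩ := H94.dodecads_transitive hd0 hd
  have hpair : g • H94.famOf H94.pairSextData.nR H94.pairSextData.R =
      ({d, Finset.univ \ d} : Finset (Finset Cfsg.GolayPt)) := by
    rw [hfam, ← hg, Finset.smul_finset_insert, Finset.smul_finset_singleton,
      Finset.smul_finset_sdiff, Finset.smul_finset_univ]
  obtain ⟨Xs, hlen, hmem, hsz, hcov⟩ := H94.pairSextData.summary H94.pairSextData_ok Cfsg.sextets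
    (fun S => H94.mem_sextets_iff) (fun g hg S hS => H94.smul_mem_sextets hg hS)
    H94.sextList_nodup [396, 880, 495] (by decide +kernel)
  match Xs, hlen with
  | [a, b, c], _ =>
    simp only [List.map_cons, List.map_nil, List.cons.injEq, and_true] at hsz
    exact H94.three_orbits g _ _ hpair Cfsg.sextets
      (fun h S hS => H94.smul_mem_sextets h.2 hS) a c b 396 495 880 (hmem a (by simp))
      (hmem c (by simp)) (hmem b (by simp)) hsz.1 hsz.2.2 hsz.2.1
      (fun S => (hcov S).trans (by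
        simp only [List.mem_cons, List.not_mem_nil, or_false, exists_eq_or_imp, exists_eq_left]
        tauto))

end Cfsg.Agent.S5617
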