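import Cfsg.Statements.S5618
import Cfsg.Agent.H94.DodecadSharp

set_option autoImplicit false
open scoped Pointwise
open Cfsg

namespace Cfsg.Agent.S5618

/-- For a dodecad d of the length-24 code and a hexad C on it (a 6-point intersection of d with an octad): the joint stabiliser of d and C in the code's group is isomorphic to the symmetric group of degree 6, and it acts faithfully both on the six points of C and on the six points of d outside C. -/
theorem result (d : Finset Cfsg.GolayPt) (hd : d ∈ Cfsg.dodecads) (C : Finset Cfsg.GolayPt) (hC : C ∈ Cfsg.hexadsOn d) : Nonempty (↥(MulAction.stabilizer Cfsg.M24 d ⊓ MulAction.stabilizer Cfsg.M24 C) ≃* Equiv.Perm (Fin 6)) ∧ (∀ g ∈ MulAction.stabilizer Cfsg.M24 d ⊓ MulAction.stabilizer Cfsg.M24 C, (∀ p ∈ C, ((g : ↥Cfsg.M24) : Equiv.Perm Cfsg.GolayPt) p = p) → g = 1) ∧ ∀ g ∈ MulAction.stabilizer Cfsg.M24 d ⊓ MulAction.stabilizer Cfsg.M24 C, (∀ p ∈ d \ C, ((g : ↥Cfsg.M24)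 : Equiv.Perm Cfsg.GolayPt) p = p) → g = 1 := by
  classical
  have hC' := hC
  obtain ⟨hC6, o, ho, hoC⟩ := hC
  have hCd : C ⊆ d := hoC ▸ Finset.inter_subset_right
  have hmem : ∀ g : ↥Cfsg.M24, g ∈ MulAction.stabilizer Cfsg.M24 d ⊓ MulAction.stabilizer Cfsg.M24 C →
      (g : Equiv.Perm Cfsg.GolayPt) • d = d ∧ (g : Equiv.Perm Cfsg.GolayPt) • C = C :=
    fun g hg => hg
  have hfaith : ∀ s : Finset Cfsg.GolayPt, 5 ≤ s.card → s ⊆ d → ∀ g : ↥Cfsg.M24,
      g ∈ MulAction.stabilizer Cfsg.M24 d ⊓ MulAction.stabilizer Cfsg.M24 C →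
      (∀ p ∈ s, (g : Equiv.Perm Cfsg.GolayPt) p = p) → g = 1 :=
    fun s h5 hs g hg hfix =>
      Subtype.ext (H94.dodecad_eq_one_of_fix hd h5 hs g.2 (hmem g hg).1 hfix)
  refine ⟨?_, hfaith C (by omega) hCd,
    hfaith (d \ C) (by rw [Finset.card_sdiff_of_subset hCd, hd.2, hC6]; norm_num) Finset.sdiff_subset⟩
  exact H94.iso_perm_of_faithful Cfsg.M24 _ C (fun g hg => (hmem g hg).2) 6 hC6
    (hfaith C (by omega) hCd) fun σ => by
      obtain ⟨g, hg, hgd, hgC, hgσ⟩ := H94.hexad_stab_surjective hd hC' σ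
      exact ⟨⟨g, hg⟩, ⟨hgd, hgC⟩, hgσ⟩

end Cfsg.Agent.S5618
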