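import Cfsg.Statements.S5619
import Cfsg.Agent.H94.MNine
import Cfsg.Agent.H2.UniqueSubgroup

set_option autoImplicit false
open scoped Pointwise
open Cfsg

namespace Cfsg.Agent.S5619

/-- In the group of the length-24 code, the subgroup fixing a dodecad setwise and three of its points individually (a group of order 72) has a normal Sylow 3-subgroup that is elementary abelian of order 9, and its Sylow 2-subgroups are quaternion of order 8. -/
theorem result (d : Finset Cfsg.GolayPt) (hd : d ∈ Cfsg.dodecads) (p q r : Cfsg.GolayPt) (hp : p ∈ d) (hq : q ∈ d) (hr : r ∈ d) (hpq : p ≠ q) (hpr : p ≠ r) (hqr : q ≠ r) : (∀ Q : Sylow 3 ↥(MulAction.stabilizer Cfsg.M24 d ⊓ MulAction.stabilizer Cfsg.M24 p ⊓ MulAction.stabilizer Cfsg.M24 q ⊓ MulAction.stabilizer Cfsg.M24 r), (Q : Subgroup ↥(MulAction.stabilizer Cfsg.M24 d ⊓ MulAction.stabilizer Cfsg.M24 p ⊓ MulAction.stabilizer Cfsg.M24 q ⊓ MulAction.stabilizer Cfsg.M24 r)).Normal ∧ Nat.card ↥Q = 9 ∧ ∀ x ∈ (Q : Subgroup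 ↥(MulAction.stabilizer Cfsg.M24 d ⊓ MulAction.stabilizer Cfsg.M24 p ⊓ MulAction.stabilizer Cfsg.M24 q ⊓ MulAction.stabilizer Cfsg.M24 r)), x ^ 3 = 1) ∧ ∀ P : Sylow 2 ↥(MulAction.stabilizer Cfsg.M24 d ⊓ MulAction.stabilizer Cfsg.M24 p ⊓ MulAction.stabilizer Cfsg.M24 q ⊓ MulAction.stabilizer Cfsg.M24 r), Nonempty (↥P ≃* QuaternionGroup 2) := by
  classical
  obtain ⟨u, hu, hud, hup, huq, hur⟩ := H94.exists_nine_map hd hp hq hr hpq hpr hqr
  generalize hK : (MulAction.stabilizer Cfsg.M24 d ⊓ MulAction.stabilizer Cfsg.M24 p ⊓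
    MulAction.stabilizer Cfsg.M24 q ⊓ MulAction.stabilizer Cfsg.M24 r) = K
  have hin : ∀ x : ↥Cfsg.M24, x ∈ K ↔ H94.InNine (u * (x : Equiv.Perm Cfsg.GolayPt) * u⁻¹) := by
    intro x
    subst hK
    have hxM : u * (x : Equiv.Perm Cfsg.GolayPt) * u⁻¹ ∈ Cfsg.M24 :=
      Cfsg.M24.mul_mem (Cfsg.M24.mul_mem hu x.2) (Cfsg.M24.inv_mem hu)
    simp only [Subgroup.mem_inf, MulAction.mem_stabilizer_iff]
    constructor
    · rintro ⟨⟨⟨h1, h2⟩, h3⟩, h4⟩
      have h1' : (x : Equiv.Perm Cfsg.GolayPt) • d = d := h1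
      refine ⟨hxM, by rw [← hud, mul_smul, inv_smul_smul, mul_smul, h1'], fun i hi => ?_⟩
      have h2' : (x : Equiv.Perm Cfsg.GolayPt) p = p := h2
      have h3' : (x : Equiv.Perm Cfsg.GolayPt) q = q := h3
      have h4' : (x : Equiv.Perm Cfsg.GolayPt) r = r := h4
      interval_cases i
      · rw [← hup]; simp [Equiv.Perm.mul_apply, h2']
      · rw [← huq]; simp [Equiv.Perm.mul_apply, h3']
      · rw [← hur]; simp [Equiv.Perm.mul_apply, h4']
    · rintro ⟨-, h1, h3⟩
      rw [← hud, mul_smul, inv_smul_smul, mul_smul, smul_left_cancel_iff] at h1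
      have e : ∀ (z : Cfsg.GolayPt) (i : ℕ), i < 3 → u z = H94.ptN i →
          (x : Equiv.Perm Cfsg.GolayPt) z = z := fun z i hi hz => by
        have := h3 i hi
        rw [← hz] at this
        simpa [Equiv.Perm.mul_apply] using this
      exact ⟨⟨⟨h1, e p 0 (by norm_num) hup⟩, e q 1 (by norm_num) huq⟩, e r 2 (by norm_num) hur⟩
  let φ : ↥K →* Equiv.Perm Cfsg.GolayPt :=
    (MulAut.conj u).toMonoidHom.comp (Cfsg.M24.subtype.comp K.subtype)
  have hφ : Function.Injective φ := (MulAut.conj u).injective.comp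
    (Subtype.val_injective.comp Subtype.val_injective)
  have hφin : ∀ x : ↥K, H94.InNine (φ x) := fun x => (hin x.1).mp x.2
  have hcard : Nat.card K = 72 := by
    rw [← H94.card_nine]
    refine Nat.card_congr (Equiv.ofBijective (fun x => ⟨φ x, hφin x⟩) ⟨fun a b e => hφ
      (congrArg Subtype.val e), fun y => ?_⟩)
    refine ⟨⟨⟨u⁻¹ * y.1 * u, ?_⟩, (hin _).mpr ?_⟩, Subtype.ext ?_⟩
    · exact Cfsg.M24.mul_mem (Cfsg.M24.mul_mem (Cfsg.M24.inv_mem hu) y.2.1) hu
    · simpa [mul_assoc] using y.2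
    · simp [φ, mul_assoc]
  have back : ∀ (x : ↥K) (n : ℕ), φ x ^ n = 1 ↔ x ^ n = 1 := fun x n => by
    rw [← map_pow, map_eq_one_iff φ hφ]
  have props := fun x y : ↥K => H94.nine_props (hφin x) (hφin y)
  have hf2 : (Nat.card K).factorization 2 = 3 ∧ (Nat.card K).factorization 3 = 2 := by
    rw [hcard, show (72 : ℕ) = 2 ^ 3 * 3 ^ 2 from rfl,
      Nat.factorization_mul (by norm_num) (by norm_num),
      Nat.Prime.factorization_pow (by norm_num), Nat.Prime.factorization_pow (by norm_num)]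
    simp
  constructor
  · intro Q
    haveI : Fact (Nat.Prime 3) := ⟨by norm_num⟩
    have hQ : Nat.card ↥Q = 9 := by
      show Nat.card ↥(Q : Subgroup ↥K) = 9
      rw [Sylow.card_eq_multiplicity, hf2.2]; norm_num
    have h3 : ∀ x ∈ (Q : Subgroup ↥K), x ^ 3 = 1 := by
      intro x hx
      have h9 : (⟨x, hx⟩ : ↥(Q : Subgroup ↥K)) ^ 9 = 1 := hQ ▸ pow_card_eq_one'
      exact (back x 3).mp ((props x x).1 ((back x 9).mpr (congrArg Subtype.val h9)))
    let S : Subgroup ↥K :=
      { carrier := {x | x ^ 3 = 1}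
        one_mem' := one_pow 3
        mul_mem' := fun {a b} ha hb => (back (a * b) 3).mp (by
          rw [map_mul]; exact (props a b).2.2.1 ((back a 3).mpr ha) ((back b 3).mpr hb))
        inv_mem' := fun {a} ha => show a⁻¹ ^ 3 = 1 by rw [inv_pow, ha, inv_one] }
    have hS : IsPGroup 3 S := fun x => ⟨1, Subtype.ext (by rw [pow_one]; exact x.2)⟩
    have hQS : S = (Q : Subgroup ↥K) := Q.is_maximal' hS h3
    refine ⟨?_, hQ, h3⟩
    rw [← hQS]
    exact ⟨fun x hx g => show (g * x * g⁻¹) ^ 3 = 1 by rw [conj_pow, hx, mul_one, mul_inv_cancel]⟩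
  · intro P
    haveI : Fact (Nat.Prime 2) := ⟨by norm_num⟩
    have hP : Nat.card ↥P = 8 := by
      show Nat.card ↥(P : Subgroup ↥K) = 8
      rw [Sylow.card_eq_multiplicity, hf2.1]; norm_num
    have p8 : ∀ x : ↥P, x ^ 8 = 1 := fun x => hP ▸ pow_card_eq_one'
    have huniq : ∀ H J : Subgroup ↥P, Nat.card H = 2 → Nat.card J = 2 → H = J := by
      intro H J hH hJ
      have gen : ∀ H : Subgroup ↥P, Nat.card H = 2 → ∃ a, H = Subgroup.zpowers a ∧ a ^ 2 = 1 ∧ a ≠ 1 := by
        intro H hH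
        haveI : Nontrivial H := Finite.one_lt_card_iff_nontrivial.mp (by omega)
        obtain ⟨⟨a, ha⟩, ha1⟩ := exists_ne (1 : H)
        have ha1' : a ≠ 1 := fun e => ha1 (Subtype.ext e)
        have h2 : a ^ 2 = 1 := by
          have := pow_card_eq_one' (x := (⟨a, ha⟩ : H))
          rw [hH] at this
          exact congrArg Subtype.val this
        refine ⟨a, (Subgroup.eq_of_le_of_card_ge (Subgroup.zpowers_le.mpr ha) ?_).symm, h2, ha1'⟩
        rw [Nat.card_zpowers, orderOf_eq_prime h2 ha1', hH]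
      obtain ⟨a, rfl, ha2, ha1⟩ := gen H hH
      obtain ⟨b, rfl, hb2, hb1⟩ := gen J hJ
      have h3 : (a * b) ^ 3 = 1 := by
        apply Subtype.ext
        refine (back _ 3).mp ?_
        show φ ((a : ↥K) * (b : ↥K)) ^ 3 = 1
        rw [map_mul]
        refine (props a b).2.2.2 ((back _ 2).mpr (congrArg Subtype.val ha2)) (fun e => ha1 ?_)
          ((back _ 2).mpr (congrArg Subtype.val hb2)) (fun e => hb1 ?_)
        · exact Subtype.ext ((map_eq_one_iff φ hφ).mp e)
        · exact Subtype.ext ((map_eq_one_iff φ hφ).mp e)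
      have hab : a * b = 1 := by
        have h8 := p8 (a * b)
        rw [show (8 : ℕ) = 3 * 2 + 2 from rfl, pow_add, pow_mul, h3, one_pow, one_mul] at h8
        rw [pow_succ, h8, one_mul] at h3
        exact h3
      have : a = b := by
        rw [← mul_one a, ← hb2, pow_two, ← mul_assoc, hab, one_mul]
      rw [this]
    rcases H2.cyclic_or_quaternion P.isPGroup' huniq with hc | ⟨k, ⟨e⟩⟩
    · obtain ⟨a, ha⟩ := hc.exists_generator
      have h8 : orderOf a = 8 := (orderOf_eq_card_of_forall_mem_zpowers ha).trans hP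
      have h4 : a ^ 4 = 1 := Subtype.ext ((back _ 4).mp ((props a a).2.1 ((back _ 8).mpr
        (congrArg Subtype.val (p8 a)))))
      have := orderOf_dvd_of_pow_eq_one h4
      rw [h8] at this
      norm_num at this
    · have hk := Nat.card_congr e.toEquiv
      rw [show Nat.card ↥(P : Subgroup ↥K) = 8 from hP, Nat.card_eq_fintype_card,
        QuaternionGroup.card] at hk
      have h2 : 2 ^ k = 2 := by omega
      rw [h2] at e
      exact ⟨e⟩

end Cfsg.Agent.S5619
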