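import Cfsg.Statements.S5620
import Cfsg.Agent.H94.Perm
import Cfsg.Agent.H87.MathieuCert
import Cfsg.Agent.H90.Orbits

set_option autoImplicit false
open scoped Pointwise
open Cfsg

namespace Cfsg.Agent.S5620

/-- Inside the stabiliser of the dodecad of squares (a Mathieu group of degree 12), the stabiliser of the residue 0 (a point of the dodecad) and the stabiliser of the extra point (a point outside the dodecad) are isomorphic but not conjugate; conjugation by a suitable element of the code's group that maps the dodecad of squares onto its complement carries the first onto the second. -/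
theorem result : Nonempty (↥(Cfsg.Spor.M12 ⊓ MulAction.stabilizer (Equiv.Perm Cfsg.GolayPt) (none : Cfsg.GolayPt)) ≃* ↥Cfsg.Spor.M11) ∧ (¬ ∃ k ∈ Cfsg.Spor.M12, MulAut.conj k • Cfsg.Spor.M11 = Cfsg.Spor.M12 ⊓ MulAction.stabilizer (Equiv.Perm Cfsg.GolayPt) (none : Cfsg.GolayPt)) ∧ ∃ g ∈ Cfsg.M24, g • Cfsg.Spor.squareDodecad = Finset.univ \ Cfsg.Spor.squareDodecad ∧ MulAut.conj g • Cfsg.Spor.M11 = Cfsg.Spor.M12 ⊓ MulAction.stabilizer (Equiv.Perm Cfsg.GolayPt) (none : Cfsg.GolayPt) := by
  classical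
  obtain ⟨g, hg, hR⟩ := H94.exists_perm_of_memB
    (P := 547850719807608159117270023248958839) (by decide +kernel)
  have hgd : g • Cfsg.Spor.squareDodecad = Finset.univ \ Cfsg.Spor.squareDodecad := by
    rw [H87.squareDodecad_eq, ← hR.setOf']
    decide +kernel
  have hg0 : g (some 0) = none := by
    rw [hR.apply]
    decide +kernel
  have hcompl : ∀ (x : Equiv.Perm Cfsg.GolayPt) (s : Finset Cfsg.GolayPt),
      x • (Finset.univ \ s) = Finset.univ \ x • s := fun x s => by
    rw [Finset.smul_finset_sdiff, Finset.smul_finset_univ]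
  have hgd' : g⁻¹ • Cfsg.Spor.squareDodecad = Finset.univ \ Cfsg.Spor.squareDodecad := by
    rw [inv_smul_eq_iff, hcompl, hgd, Finset.sdiff_sdiff_eq_self (Finset.subset_univ _)]
  have hg0' : g⁻¹ none = some 0 := by rw [Equiv.Perm.inv_eq_iff_eq]; exact hg0.symm
  have hmem : ∀ x, x ∈ Cfsg.Spor.M12 ⊓ MulAction.stabilizer (Equiv.Perm Cfsg.GolayPt)
      (none : Cfsg.GolayPt) ↔ g⁻¹ * x * g ∈ Cfsg.Spor.M11 := by
    intro x
    simp only [Cfsg.Spor.M11, Cfsg.Spor.M12, Subgroup.mem_inf]
    refine and_congr (and_congr ?_ ?_) ?_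
    · rw [Subgroup.mul_mem_cancel_right _ hg, Subgroup.mul_mem_cancel_left _ (inv_mem hg)]
    · show x • Cfsg.Spor.squareDodecad = Cfsg.Spor.squareDodecad ↔
        (g⁻¹ * x * g) • Cfsg.Spor.squareDodecad = Cfsg.Spor.squareDodecad
      rw [mul_smul, mul_smul, hgd, inv_smul_eq_iff, hcompl, hgd]
      constructor
      · intro h; rw [h]
      · intro h
        have := congrArg (fun s => Finset.univ \ s) h
        simpa [Finset.sdiff_sdiff_eq_self] using this
    · show x none = none ↔ (g⁻¹ * x * g) (some 0) = some 0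
      rw [Equiv.Perm.mul_apply, Equiv.Perm.mul_apply, hg0, Equiv.Perm.inv_eq_iff_eq, hg0]
  have hconj : MulAut.conj g • Cfsg.Spor.M11 =
      Cfsg.Spor.M12 ⊓ MulAction.stabilizer (Equiv.Perm Cfsg.GolayPt) (none : Cfsg.GolayPt) := by
    ext x
    rw [Subgroup.mem_pointwise_smul_iff_inv_smul_mem, hmem]
    simp
  refine ⟨⟨(MulEquiv.trans (MulEquiv.subgroupCongr hconj.symm)
    (Subgroup.equivSMul (MulAut.conj g) Cfsg.Spor.M11).symm)⟩, ?_, g, hg, hgd, hconj⟩
  rintro ⟨k, hk, hkM⟩
  -- every point of the dodecad is moved by the second subgroup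
  obtain ⟨hkM24, hkd⟩ := hk
  have hkd' : k • Cfsg.Spor.squareDodecad = Cfsg.Spor.squareDodecad := hkd
  have h0d : (some 0 : Cfsg.GolayPt) ∈ Cfsg.Spor.squareDodecad := by
    rw [H87.squareDodecad_eq]; decide +kernel
  have hp : k (some 0) ∈ Cfsg.Spor.squareDodecad := by
    rw [← hkd']; exact Finset.smul_mem_smul_finset h0d
  have hq : g⁻¹ (k (some 0)) ∉ Cfsg.Spor.squareDodecad := by
    have : g⁻¹ (k (some 0)) ∈ g⁻¹ • Cfsg.Spor.squareDodecad := Finset.smul_mem_smul_finset hp
    rw [hgd', Finset.mem_sdiff] at this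
    exact this.2
  obtain ⟨r, hr, hrq⟩ : ∃ r, r ∉ Cfsg.Spor.squareDodecad ∧ r ≠ g⁻¹ (k (some 0)) := by
    by_contra hh
    push Not at hh
    have := Finset.card_le_card (show Finset.univ \ Cfsg.Spor.squareDodecad ⊆
      {g⁻¹ (k (some 0))} from fun r hr => Finset.mem_singleton.mpr (hh r (Finset.mem_sdiff.mp hr).2))
    rw [Finset.card_univ_diff, H87.squareDodecad_mem.2] at this
    simp [Cfsg.GolayPt] at this
  obtain ⟨x, hx, hxd, hx0⟩ : ∃ x ∈ Cfsg.M24, x • Cfsg.Spor.squareDodecad = Cfsg.Spor.squareDodecad ∧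
      x (some 0) = some 0 ∧ x (g⁻¹ (k (some 0))) = r := by
    obtain ⟨s, hs, hsq, hsr⟩ : ∃ s, s ∉ Cfsg.Spor.squareDodecad ∧ s ≠ g⁻¹ (k (some 0)) ∧ s ≠ r := by
      by_contra hh
      push Not at hh
      have := Finset.card_le_card (show Finset.univ \ Cfsg.Spor.squareDodecad ⊆
        {g⁻¹ (k (some 0)), r} from fun s hs => by
          rw [Finset.mem_insert, Finset.mem_singleton]
          by_cases e : s = g⁻¹ (k (some 0))
          · exact Or.inl e
          · exact Or.inr (hh s (Finset.mem_sdiff.mp hs).2 e))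
      rw [Finset.card_univ_diff, H87.squareDodecad_mem.2] at this
      have := this.trans Finset.card_le_two
      simp [Cfsg.GolayPt] at this
    obtain ⟨x, hx, hxd, hx0, hxi⟩ := H90.eleven_three_transitive H87.squareDodecad_mem h0d
      ⟨![g⁻¹ (k (some 0)), r, s], by
        intro i j e
        fin_cases i <;> fin_cases j <;> simp at e <;>
          first | rfl | exact absurd e (by assumption) | exact absurd e.symm (by assumption)⟩
      ⟨![r, g⁻¹ (k (some 0)), s], by
        intro i j e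
        fin_cases i <;> fin_cases j <;> simp at e <;>
          first | rfl | exact absurd e (by assumption) | exact absurd e.symm (by assumption)⟩
      (fun i => by fin_cases i <;> first | exact hq | exact hr | exact hs)
      (fun i => by fin_cases i <;> first | exact hq | exact hr | exact hs)
    exact ⟨x, hx, by rw [H90.smul_finset_eq_image]; exact hxd, hx0, hxi 0⟩
  have hxM : x ∈ Cfsg.Spor.M11 := ⟨⟨hx, hxd⟩, hx0.1⟩
  have hy : g * x * g⁻¹ ∈ MulAut.conj k • Cfsg.Spor.M11 := by
    rw [hkM, hmem]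
    simpa [mul_assoc] using hxM
  obtain ⟨z, hz, hzy⟩ := hy
  have hz0 : z (some 0) = some 0 := hz.2
  have := Equiv.ext_iff.mp hzy (k (some 0))
  simp [Equiv.Perm.mul_apply, hz0, hx0.2] at this
  apply hrq
  rw [← hx0.2, Equiv.Perm.inv_def]
  apply g.injective
  rw [Equiv.apply_symm_apply, ← this]

end Cfsg.Agent.S5620
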