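import Cfsg.Statements.S5623
import Cfsg.Agent.H94.AbstractGolay

set_option autoImplicit false
open Cfsg

namespace Cfsg.Agent.S5623

/-- Let C be a self-dual binary code of length 24 with minimum weight at least 8 (a 12-dimensional subspace of the 24-dimensional space over the field with two elements, any two of whose words have dot product zero, with no non-zero word of weight below 8 — an abstract extended binary Golay code). Then every coset w + C of C in the ambient space contains either exactly one word of weight at most 4, which then has weight at most 3, or exactly six words of weight at most 4, all of weight exactly 4 and with pairwise disjoint supports (a sextet). -/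
theorem result (C : Submodule (ZMod 2) (Fin 24 → ZMod 2)) (hdim : Module.finrank (ZMod 2) C = 12) (horth : ∀ v ∈ C, ∀ w ∈ C, ∑ i, v i * w i = 0) (hmin : ∀ w ∈ C, w ≠ 0 → 8 ≤ hammingNorm w) (w : Fin 24 → ZMod 2) : (∃ u : Fin 24 → ZMod 2, {u : Fin 24 → ZMod 2 | u - w ∈ C ∧ hammingNorm u ≤ 4} = {u} ∧ hammingNorm u ≤ 3) ∨ ({u : Fin 24 → ZMod 2 | u - w ∈ C ∧ hammingNorm u ≤ 4}.ncard = 6 ∧ ∀ u ∈ {u : Fin 24 → ZMod 2 | u - w ∈ C ∧ hammingNorm u ≤ 4}, hammingNorm u = 4 ∧ ∀ u' ∈ {u : Fin 24 → ZMod 2 | u - w ∈ C ∧ hammingNorm u ≤ 4}, u ≠ u' → Disjoint (Finset.univ.filter fun i => u i ≠ 0) (Finset.univ.filter fun i => u' i ≠ 0)) := by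
  have h : H94.GolayLike C := H94.GolayLike.mk (Fintype.card_fin 24) hdim hmin
  rcases h.coset_cases w with ⟨u, hu, hu3⟩ | ⟨S, hS6, hS⟩
  · refine Or.inl ⟨u, ?_, hu3⟩
    ext v
    constructor
    · rintro ⟨hv, hv4⟩
      refine h.eq_of_small ?_ (by omega)
      have := C.sub_mem hv hu
      simpa using this
    · rintro rfl
      exact ⟨hu, by omega⟩
  · right
    have hset : {u : Fin 24 → ZMod 2 | u - w ∈ C ∧ hammingNorm u ≤ 4} = ↑S := by
      ext v
      simp only [Set.mem_ofPred_eq, Finset.mem_coe, hS]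
      refine ⟨fun ⟨hv, hv4⟩ => ⟨hv, ?_⟩, fun ⟨hv, hv4⟩ => ⟨hv, hv4.le⟩⟩
      by_contra hne
      obtain ⟨u, hu⟩ := Finset.card_pos.mp (by omega : 0 < S.card)
      have hu' := (hS u).mp hu
      have := h.eq_of_small (u := v) (v := u) (by simpa using C.sub_mem hv hu'.1) (by omega)
      subst this
      omega
    rw [hset]
    refine ⟨by rw [Set.ncard_coe_finset]; exact hS6, fun u hu => ⟨((hS u).mp hu).2, fun u' hu' hne => ?_⟩⟩
    exact (h.disjoint_of_four (by simpa using C.sub_mem ((hS u).mp hu).1 ((hS u').mp hu').1) hne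
      ((hS u).mp hu).2 ((hS u').mp hu').2).1

end Cfsg.Agent.S5623
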