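import Cfsg.Statements.S5625
import Cfsg.Agent.H94.Steiner

set_option autoImplicit false
open Cfsg

namespace Cfsg.Agent.S5625

theorem result (α : Type*) [Fintype α] [DecidableEq α] (hα : Fintype.card α = 24) (B : Set (Finset α)) (hB : Cfsg.IsSteinerSystem 5 8 B) (Y : Finset α) (hY : Y.card = 3) : {b : Finset α | b ∈ B ∧ (b ∩ Y).card = 3}.ncard = 21 ∧ {b : Finset α | b ∈ B ∧ (b ∩ Y).card = 2}.ncard = 168 ∧ {b : Finset α | b ∈ B ∧ (b ∩ Y).card = 1}.ncard = 360 ∧ {b : Finset α | b ∈ B ∧ (b ∩ Y).card = 0}.ncard = 210 := by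
  classical
  simp only [H94.ncard_sep_eq]
  set F := H94.blockSet B
  set n : ℕ → ℕ := fun i => (F.filter fun b => (b ∩ Y).card = i).card with hn
  have hl : ∀ j, j ≤ 3 → ∀ m, (24 - j).choose (5 - j) = m * (8 - j).choose (5 - j) →
      ∑ b ∈ F, (b ∩ Y).card.choose j = Nat.choose 3 j * m := by
    intro j hj m hm
    rw [H94.sum_choose_inter, ← hY, ← Finset.card_powersetCard, ← smul_eq_mul, ← Finset.sum_const]
    refine Finset.sum_congr rfl fun S hS => ?_
    rw [Finset.mem_powersetCard] at hS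
    have h := H94.steiner_lambda hB S (by omega)
    rw [hS.2, hα, hm] at h
    exact Nat.eq_of_mul_eq_mul_right (Nat.choose_pos (by omega)) h
  have hsum : ∀ j, ∑ b ∈ F, (b ∩ Y).card.choose j = ∑ i ∈ Finset.range 4, i.choose j * n i := by
    intro j
    have h1 : ∀ b ∈ F, (b ∩ Y).card ∈ Finset.range 4 := by
      intro b _
      have := Finset.card_le_card (Finset.inter_subset_right (s₁ := b) (s₂ := Y))
      rw [Finset.mem_range]; omega
    rw [← Finset.sum_fiberwise_of_maps_to h1]
    refine Finset.sum_congr rfl fun i _ => ?_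
    rw [Finset.sum_congr rfl (fun b hb => by rw [(Finset.mem_filter.mp hb).2]), Finset.sum_const,
      smul_eq_mul, mul_comm]
  have h0 := (hsum 0).symm.trans (hl 0 (by omega) 759 (by decide))
  have h1 := (hsum 1).symm.trans (hl 1 (by omega) 253 (by decide))
  have h2 := (hsum 2).symm.trans (hl 2 (by omega) 77 (by decide))
  have h3 := (hsum 3).symm.trans (hl 3 (by omega) 21 (by decide))
  simp only [Finset.sum_range_succ, Finset.sum_range_zero, Nat.choose] at h0 h1 h2 h3
  simp only [hn] at h0 h1 h2 h3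
  omega

end Cfsg.Agent.S5625
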