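import Cfsg.Statements.S5631
import Cfsg.Agent.H42.SubspaceMove
import Cfsg.Agent.H49.Transvec

set_option autoImplicit false
open Cfsg

namespace Cfsg.Agent.S5631

/-- For a finite field F and n ≥ 13, the stabiliser in SL_n(F) of any proper non-zero subspace W of F^n is a maximal subgroup of SL_n(F). Here SL_n(F) is the kernel of the determinant inside GL_n(F) and the stabiliser is the set of elements of determinant one mapping W onto itself. -/
theorem result {F : Type*} [Field F] [Fintype F] (n : ℕ) (hn : 13 ≤ n) (W : Submodule F (Fin n → F)) (hW0 : W ≠ ⊥) (hW1 : W ≠ ⊤) : Cfsg.Geo.IsMaximalIn (Cfsg.Geo.specialLinear (Fin n) F) (Cfsg.Geo.subspaceStabilizer W ⊓ Cfsg.Geo.specialLinear (Fin n) F) := by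
  haveI : Nontrivial (Fin n) := Fin.nontrivial_iff_two_le.mpr (by omega)
  refine ⟨lt_of_le_of_ne inf_le_right fun he => ?_, fun H hle hHS => ?_⟩
  · obtain ⟨w, hw, hw0⟩ := W.exists_mem_ne_zero_of_ne_bot hW0
    obtain ⟨y, -, hy⟩ := SetLike.exists_of_lt (lt_top_iff_ne_top.2 hW1)
    have hwy : w ∉ (⊥ : Submodule F (Fin n → F)) ⊔ Submodule.span F {y} := by
      rw [bot_sup_eq, Submodule.mem_span_singleton]
      rintro ⟨c, rfl⟩
      refine hy ?_
      have hc : c ≠ 0 := by rintro rfl; simp at hw0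
      simpa [smul_smul, hc] using W.smul_mem c⁻¹ hw
    obtain ⟨g, hg, -, hgw⟩ := H42.exists_specialLinear_fix_move ⊥ w y hwy
    have h1 := ((Subgroup.mem_inf.1 (he.ge hg)).1 w).1 hw
    change (g : Matrix (Fin n) (Fin n) F).mulVec w ∈ W at h1
    rw [hgw] at h1
    exact hy (by simpa using W.sub_mem h1 hw)
  rcases hle.eq_or_lt with h | h
  · exact Or.inl h.symm
  refine Or.inr (le_antisymm hHS ?_)
  obtain ⟨g, hgH, hgP⟩ := SetLike.exists_of_lt h
  have hgS := hHS hgH
  obtain ⟨w, hwW, hgw⟩ : ∃ w ∈ W, (g : Matrix (Fin n) (Fin n) F).mulVec w ∉ W := by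
    by_contra hc
    push Not at hc
    refine hgP ⟨fun v => ⟨hc v, fun hv => ?_⟩, hgS⟩
    have hinj : Function.Injective fun x : W => (⟨_, hc x x.2⟩ : W) := fun x y e =>
      Subtype.ext (H49.gl_mulVec_injective g (congrArg Subtype.val e))
    obtain ⟨x, hx⟩ := (Finite.injective_iff_surjective.mp hinj) ⟨_, hv⟩
    have := H49.gl_mulVec_injective g (congrArg Subtype.val hx)
    exact this ▸ x.2
  let U : Set (Fin n → F) := {v | ∀ φ (h : dotProduct φ v = 0), H49.tr v φ h ∈ H}
  have hconj : ∀ (x : GL (Fin n) F) v, x ∈ H → v ∈ U → (x : Matrix _ _ F).mulVec v ∈ U := by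
    intro x v hx hv φ h
    have hψ : dotProduct (Matrix.vecMul φ (x : Matrix (Fin n) (Fin n) F)) v = 0 := by
      rw [← Matrix.dotProduct_mulVec, h]
    have heq : H49.tr ((x : Matrix _ _ F).mulVec v) φ h = x * H49.tr v _ hψ * x⁻¹ := by
      rw [eq_mul_inv_iff_mul_eq]
      refine H49.gl_ext_mulVec fun z => ?_
      rw [Units.val_mul, ← Matrix.mulVec_mulVec, H49.tr_mulVec, Units.val_mul, ← Matrix.mulVec_mulVec,
        H49.tr_mulVec, Matrix.mulVec_add, Matrix.mulVec_smul, Matrix.dotProduct_mulVec]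
    rw [heq]
    exact mul_mem (mul_mem hx (hv _ hψ)) (inv_mem hx)
  have hscale : ∀ (c : F), ∀ v ∈ U, c ≠ 0 → c • v ∈ U := fun c v hv hc φ h' => by
    have h2 : dotProduct (c • φ) v = 0 := by rw [smul_dotProduct, ← dotProduct_smul, h']
    have : H49.tr (c • v) φ h' = H49.tr v (c • φ) h2 := H49.gl_ext_mulVec fun z => by
      rw [H49.tr_mulVec, H49.tr_mulVec, smul_smul, smul_dotProduct, smul_eq_mul, mul_comm]
    rw [this]; exact hv _ h2
  have hW : ∀ v ∈ W, v ∈ U := fun v hv φ h' => hle ⟨fun z => by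
    change z ∈ W ↔ ((H49.tr v φ h' : GL (Fin n) F) : Matrix (Fin n) (Fin n) F).mulVec z ∈ W
    rw [H49.tr_mulVec]
    exact (Submodule.add_mem_iff_left W (W.smul_mem _ hv)).symm, H49.tr_mem_SL v φ h'⟩
  set u := (g : Matrix (Fin n) (Fin n) F).mulVec w with hu
  have huU : u ∈ U := hconj g w hgH (hW w hwW)
  have hmove : ∀ u' ∈ U, ∀ z, u' ∉ W ⊔ Submodule.span F {z - u'} → z ∈ U := by
    intro u' hu' z hz
    obtain ⟨t, ht, hfix, htu⟩ := H42.exists_specialLinear_fix_move W u' (z - u') hz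
    have := hconj t u' (hle (Subgroup.mem_inf.2 ⟨H42.mem_subspaceStabilizer_of_fix W t hfix, ht⟩)) hu'
    rwa [htu, add_sub_cancel] at this
  have hall : ∀ z, z ∈ U := by
    intro z
    by_cases hz : z ∈ W
    · exact hW z hz
    by_cases hzu : z ∈ W ⊔ Submodule.span F {u}
    · obtain ⟨a, ha, b, hb, rfl⟩ := Submodule.mem_sup.mp hzu
      obtain ⟨c, rfl⟩ := Submodule.mem_span_singleton.mp hb
      have hc : c ≠ 0 := by rintro rfl; simp [ha] at hz
      refine hmove _ (hscale c u huU hc) _ fun hm => ?_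
      rw [add_sub_cancel_right, sup_eq_left.mpr ((Submodule.span_singleton_le_iff_mem a W).mpr ha)] at hm
      exact hgw (by simpa [smul_smul, hc] using W.smul_mem c⁻¹ hm)
    · refine hmove u huU z fun hm => ?_
      obtain ⟨a, ha, b, hb, hab⟩ := Submodule.mem_sup.mp hm
      obtain ⟨c, rfl⟩ := Submodule.mem_span_singleton.mp hb
      by_cases hc : c = 0
      · rw [hc, zero_smul, add_zero] at hab
        exact hgw (hab ▸ ha)
      · refine hzu (Submodule.mem_sup.mpr ⟨-(c⁻¹ • a), W.neg_mem (W.smul_mem _ ha), (1 + c⁻¹) • u,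
          Submodule.smul_mem _ _ (Submodule.mem_span_singleton_self u), ?_⟩)
        have h3 : c⁻¹ • u = c⁻¹ • a + (z - u) := by
          conv_lhs => rw [← hab]
          rw [smul_add, inv_smul_smul₀ hc]
        rw [add_smul, one_smul, h3]
        abel
  intro x hx
  refine H49.sl_le_of_elem_mem H (fun i j hij c => hall _ _ _) x ?_
  have := congrArg Units.val (MonoidHom.mem_ker.mp hx)
  rwa [Matrix.GeneralLinearGroup.val_det_apply, Units.val_one] at this

end Cfsg.Agent.S5631
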