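import Cfsg.Statements.S5632
import Cfsg.Agent.H42.SubspaceMove

set_option autoImplicit false
open Cfsg

namespace Cfsg.Agent.S5632

/-- For a finite field F and subspaces 0 < W < U of F^n with dim W + dim U = n, the elements of SL_n(F) stabilising both W and U form a subgroup that is not maximal in SL_n(F): some subgroup lies strictly between it and SL_n(F). -/
theorem result {F : Type*} [Field F] [Fintype F] (n : ℕ) (W U : Submodule F (Fin n → F)) (hW0 : W ≠ ⊥) (hWU : W < U) (hdim : Module.finrank F W + Module.finrank F U = n) : ∃ K : Subgroup (Matrix.GeneralLinearGroup (Fin n) F), Cfsg.Geo.subspaceStabilizer W ⊓ Cfsg.Geo.subspaceStabilizer U ⊓ Cfsg.Geo.specialLinear (Fin n) F < K ∧ K < Cfsg.Geo.specialLinear (Fin n) F := by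
  have hUtop : U ≠ ⊤ := by
    rintro rfl
    rw [finrank_top, Module.finrank_fin_fun] at hdim
    exact hW0 (Submodule.finrank_eq_zero.1 (by omega))
  refine H42.exists_between_pair_stabilizer W U hW0 (ne_top_of_lt hWU) ?_
  obtain ⟨x, hxU, hxW⟩ := SetLike.exists_of_lt hWU
  obtain ⟨y, -, hy⟩ := SetLike.exists_of_lt (lt_top_iff_ne_top.2 hUtop)
  refine ⟨x, hxU, y, fun h => hy (by simpa using U.sub_mem h hxU), fun h => ?_⟩
  obtain ⟨w, hw, z, hz, hwz⟩ := Submodule.mem_sup.1 h
  obtain ⟨c, rfl⟩ := Submodule.mem_span_singleton.1 hz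
  by_cases hc : c = 0
  · subst hc; simp at hwz; exact hxW (hwz ▸ hw)
  · have hcy : c • y ∈ U := by
      have : c • y = x - w := by rw [← hwz]; abel
      rw [this]; exact U.sub_mem hxU (hWU.le hw)
    exact hy (by simpa [smul_smul, hc] using U.smul_mem c⁻¹ hcy)

end Cfsg.Agent.S5632
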