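import Cfsg.Statements.S5633
import Cfsg.Agent.H42.SubspaceMove

set_option autoImplicit false
open Cfsg

namespace Cfsg.Agent.S5633

/-- For a finite field F and complementary non-zero subspaces W ⊕ U = F^n with dim W < dim U, the elements of SL_n(F) stabilising both W and U form a subgroup that is not maximal in SL_n(F): some subgroup lies strictly between it and SL_n(F). -/
theorem result {F : Type*} [Field F] [Fintype F] (n : ℕ) (W U : Submodule F (Fin n → F)) (hW0 : W ≠ ⊥) (hWU : W ⊓ U = ⊥) (hWU' : W ⊔ U = ⊤) (hdim : Module.finrank F W < Module.finrank F U) : ∃ K : Subgroup (Matrix.GeneralLinearGroup (Fin n) F), Cfsg.Geo.subspaceStabilizer W ⊓ Cfsg.Geo.subspaceStabilizer U ⊓ Cfsg.Geo.specialLinear (Fin n) F < K ∧ K < Cfsg.Geo.specialLinear (Fin n) F := by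
  have hU0 : U ≠ ⊥ := by rintro rfl; simp at hdim
  refine H42.exists_between_pair_stabilizer W U hW0 ?_ ?_
  · rintro rfl; exact hU0 (by simpa using hWU)
  · obtain ⟨u, hu, hu0⟩ := U.exists_mem_ne_zero_of_ne_bot hU0
    obtain ⟨w, hw, hw0⟩ := W.exists_mem_ne_zero_of_ne_bot hW0
    refine ⟨u, hu, w, fun h => ?_, fun h => ?_⟩
    · have : w ∈ W ⊓ U := ⟨hw, by simpa using U.sub_mem h hu⟩
      rw [hWU] at this; exact hw0 (by simpa using this)
    · rw [sup_eq_left.2 ((Submodule.span_singleton_le_iff_mem _ _).2 hw)] at h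
      have : u ∈ W ⊓ U := ⟨h, hu⟩
      rw [hWU] at this; exact hu0 (by simpa using this)

end Cfsg.Agent.S5633
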