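import Cfsg.Statements.S5635
import Cfsg.Agent.H42.WeightForm
import Cfsg.Agent.H42.SubspaceMove

set_option autoImplicit false
set_option linter.style.haveILetI false
open Cfsg

namespace Cfsg.Agent.S5635

/-- For a finite field F with q elements and n ≥ 13, let D be a decomposition of F^n into t ≥ 2 independent subspaces of equal dimension m spanning F^n, where m = 1 and q ≤ 4, or m = 2 and q = 2. Then the elements of SL_n(F) permuting the members of D form a subgroup that is not maximal: some subgroup lies strictly between it and SL_n(F). -/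
theorem result {F : Type*} [Field F] [Fintype F] (n : ℕ) (hn : 13 ≤ n) {t : ℕ} (m : ℕ) (D : Fin t → Submodule F (Fin n → F)) (hD : Cfsg.Geo.IsMDecomposition m D) (h : (m = 1 ∧ Fintype.card F ≤ 4) ∨ (m = 2 ∧ Fintype.card F = 2)) : ∃ K : Subgroup (Matrix.GeneralLinearGroup (Fin n) F), Cfsg.Geo.decompositionStabilizer D ⊓ Cfsg.Geo.specialLinear (Fin n) F < K ∧ K < Cfsg.Geo.specialLinear (Fin n) F := by
  classical
  have hint : DirectSum.IsInternal D :=
    DirectSum.isInternal_submodule_of_iSupIndep_of_iSup_eq_top hD.indep hD.iSup_eq_top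
  let φi : ∀ i, D i ≃ₗ[F] (Fin m → F) := fun i =>
    LinearEquiv.ofFinrankEq _ _ (by rw [hD.finrank_eq i, Module.finrank_fin_fun])
  let e : (Fin n → F) ≃ₗ[F] (Fin t → (Fin m → F)) :=
    ((LinearEquiv.ofBijective (DirectSum.coeLinearMap D) hint).symm.trans
      (DirectSum.linearEquivFunOnFintype F (Fin t) fun i => D i)).trans (LinearEquiv.piCongrRight φi)
  -- single vectors
  let ι₀ : ∀ i, (Fin m → F) →ₗ[F] (Fin n → F) := fun i => (D i).subtype ∘ₗ (φi i).symm.toLinearMap
  have heι : ∀ i w, e (ι₀ i w) = Pi.single i w := by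
    intro i w
    have h1 : (LinearEquiv.ofBijective (DirectSum.coeLinearMap D) hint).symm (ι₀ i w)
        = DirectSum.lof F (Fin t) (fun i => D i) i ((φi i).symm w) := by
      apply (LinearEquiv.symm_apply_eq _).2
      exact (DirectSum.coeLinearMap_of D i ((φi i).symm w)).symm
    funext j
    simp only [e, LinearEquiv.trans_apply, h1, LinearEquiv.piCongrRight_apply,
      DirectSum.linearEquivFunOnFintype_lof]
    by_cases hij : j = i
    · subst hij; simp
    · simp [hij]
  have hmemD : ∀ i x, x ∈ D i → ∃ w, x = ι₀ i w := fun i x hx => ⟨φi i ⟨x, hx⟩, by simp [ι₀]⟩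
  have hιmem : ∀ i w, ι₀ i w ∈ D i := fun i w => ((φi i).symm w).2
  have hdecomp : ∀ v, v = ∑ i, ι₀ i (e v i) := by
    intro v
    apply e.injective
    rw [map_sum]
    simp only [heι]
    exact (Finset.univ_sum_single (e v)).symm
  have ht : 7 ≤ t := by
    have h1 := e.finrank_eq
    simp [Module.finrank_fin_fun, Module.finrank_pi_fintype] at h1
    rcases h with ⟨rfl, -⟩ | ⟨rfl, -⟩ <;> omega
  have hm : 0 < m := hD.pos
  let f : (Fin n → F) → F := fun v => ∑ i, H42.nzInd (e v i)
  -- the stabiliser of `D` preserves `f`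
  have hstab : ∀ g ∈ Cfsg.Geo.decompositionStabilizer D, ∀ v,
      f ((g : Matrix (Fin n) (Fin n) F).mulVec v) = f v := by
    rintro g ⟨σ, hσ⟩ v
    have himg : ∀ i w, ∃ w', (g : Matrix (Fin n) (Fin n) F).mulVec (ι₀ i w) = ι₀ (σ i) w' ∧ (w' = 0 ↔ w = 0) := by
      intro i w
      have hm : (g : Matrix (Fin n) (Fin n) F).mulVec (ι₀ i w) ∈ D (σ i) := by
        rw [← hσ i]; exact ⟨_, hιmem i w, Matrix.toLin'_apply _ _⟩
      obtain ⟨w', hw'⟩ := hmemD _ _ hm
      refine ⟨w', hw', ?_⟩
      constructor
      · rintro rfl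
        rw [map_zero] at hw'
        have h0 : ι₀ i w = 0 := Matrix.mulVec_injective_of_isUnit g.isUnit
          (show (g : Matrix (Fin n) (Fin n) F).mulVec (ι₀ i w) = (g : Matrix (Fin n) (Fin n) F).mulVec 0 by
            rw [hw', Matrix.mulVec_zero])
        have := heι i w
        rw [h0, map_zero] at this
        simpa using (congrFun this i).symm
      · rintro rfl
        rw [map_zero, Matrix.mulVec_zero] at hw'
        have := heι (σ i) w'
        rw [← hw', map_zero] at this
        simpa using (congrFun this (σ i)).symm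
    choose w' hw' hw0 using himg
    have hcomp : ∀ i, e ((g : Matrix (Fin n) (Fin n) F).mulVec v) (σ i) = w' i (e v i) := by
      intro i
      conv_lhs => rw [hdecomp v]
      simp only [Matrix.mulVec_sum, hw', map_sum, heι, Finset.sum_apply, Pi.single_apply,
        EmbeddingLike.apply_eq_iff_eq]
      simp
    simp only [f]
    rw [← Equiv.sum_comp σ]
    refine Finset.sum_congr rfl fun i _ => ?_
    rw [hcomp]
    simp only [H42.nzInd, hw0]
  refine ⟨Cfsg.isometryGroup F f ⊓ Cfsg.Geo.specialLinear (Fin n) F, ?_, ?_⟩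
  · refine lt_of_le_of_ne (fun g hg => ?_) ?_
    · exact Subgroup.mem_inf.2 ⟨fun u v => hstab g (Subgroup.mem_inf.1 hg).1 u, (Subgroup.mem_inf.1 hg).2⟩
    -- the mixing element
    let T : (Fin 4 ↪ Fin t) → (Fin t → Fin m → F) →ₗ[F] (Fin t → Fin m → F) := fun a =>
      { toFun := fun w i => if i ∈ Finset.univ.map a then w i + ∑ k, w (a k) else w i
        map_add' := fun w w' => by
          funext i; simp only [Pi.add_apply, Finset.sum_add_distrib]; split_ifs <;> abel
        map_smul' := fun c w => by
          funext i; simp only [Pi.smul_apply, ← Finset.smul_sum, RingHom.id_apply]; split_ifs <;> simp [smul_add] }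
    have h6 : (6 : F) = 0 := by
      have h0 : ((Fintype.card F : ℕ) : F) = 0 := Nat.cast_card_eq_zero F
      have hc := Fintype.one_lt_card (α := F)
      rcases (show Fintype.card F = 2 ∨ Fintype.card F = 3 ∨ Fintype.card F = 4 by omega) with hh | hh | hh
      · have := H42.two_eq_zero_of_card (Or.inl hh); linear_combination (3 : F) * this
      · rw [hh] at h0; push_cast at h0; linear_combination (2 : F) * h0
      · have := H42.two_eq_zero_of_card (Or.inr hh); linear_combination (3 : F) * this
    have hTsum : ∀ a w, ∑ k, T a w (a k) = (5 : F) • ∑ k, w (a k) := by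
      intro a w
      simp only [T, LinearMap.coe_mk, AddHom.coe_mk, Finset.mem_map, Finset.mem_univ, true_and,
        exists_apply_eq_apply, if_true, Finset.sum_add_distrib, Finset.sum_const, Finset.card_univ,
        Fintype.card_fin]
      module
    have hTT : ∀ a w, T a (T a w) = w := by
      intro a w
      funext i
      change (if i ∈ Finset.univ.map a then T a w i + ∑ k, T a w (a k) else T a w i) = w i
      rw [hTsum]
      change (if i ∈ Finset.univ.map a then (if i ∈ Finset.univ.map a then w i + ∑ k, w (a k) else w i) +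
        (5 : F) • ∑ k, w (a k) else (if i ∈ Finset.univ.map a then w i + ∑ k, w (a k) else w i)) = w i
      split_ifs with hi
      · have : (6 : F) • ∑ k, w (a k) = 0 := by rw [h6, zero_smul]
        linear_combination (norm := module) this
      · rfl
    have hTf : ∀ a w, ∑ i, H42.nzInd (T a w i) = ∑ i, H42.nzInd (w i) := by
      intro a w
      rw [← Finset.sum_add_sum_compl (Finset.univ.map a), ← Finset.sum_add_sum_compl (Finset.univ.map a)
        (fun i => H42.nzInd (w i))]
      congr 1
      · simp only [Finset.sum_map, T, LinearMap.coe_mk, AddHom.coe_mk, Finset.mem_map, Finset.mem_univ,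
          true_and, exists_apply_eq_apply, if_true, Fin.sum_univ_four]
        exact H42.nzInd_shift h (w (a 0)) (w (a 1)) (w (a 2)) (w (a 3))
      · refine Finset.sum_congr rfl fun i hi => ?_
        rw [Finset.mem_compl] at hi
        have hi' : ¬ ∃ k, a k = i := fun ⟨k, hk⟩ => hi (hk ▸ Finset.mem_map_of_mem a (Finset.mem_univ k))
        simp [T, hi']
    let a : Fin 4 ↪ Fin t := Fin.castLEEmb (by omega)
    let j4 : Fin t := ⟨4, by omega⟩
    let a' : Fin 4 ↪ Fin t := a.trans (Equiv.swap (a 3) j4).toEmbedding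
    let P : (Fin t → Fin m → F) ≃ₗ[F] (Fin t → Fin m → F) := LinearEquiv.funCongrLeft F (Fin m → F) (Equiv.swap (a 3) j4)
    have hconj : T a' = P.toLinearMap ∘ₗ T a ∘ₗ P.symm.toLinearMap := by
      refine LinearMap.ext fun w => funext fun i => ?_
      simp only [T, P, a', LinearMap.comp_apply, LinearEquiv.coe_coe, LinearMap.coe_mk, AddHom.coe_mk,
        LinearEquiv.funCongrLeft_apply, LinearEquiv.funCongrLeft_symm, LinearMap.funLeft_apply,
        Equiv.symm_swap, Function.Embedding.trans_apply, Equiv.coe_toEmbedding, Finset.mem_map,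
        Finset.mem_univ, true_and, Equiv.swap_apply_self, Equiv.swap_apply_eq_iff]
    have hdet : LinearMap.det (T a ∘ₗ T a') = 1 := by
      rw [LinearMap.det_comp, hconj, LinearMap.det_conj (T a) P, ← LinearMap.det_comp,
        show T a ∘ₗ T a = LinearMap.id from LinearMap.ext (hTT a), LinearMap.det_id]
    set G : (Fin n → F) →ₗ[F] (Fin n → F) := e.symm.toLinearMap ∘ₗ (T a ∘ₗ T a') ∘ₗ e.toLinearMap with hG
    have hGdet : LinearMap.det G = 1 := by
      rw [hG, show e.toLinearMap = e.symm.symm.toLinearMap from rfl, LinearMap.det_conj, hdet]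
    let g : GL (Fin n) F := Matrix.GeneralLinearGroup.mkOfDetNeZero (LinearMap.toMatrix' G)
      (by rw [LinearMap.det_toMatrix', hGdet]; exact one_ne_zero)
    have hgv : ∀ v, (g : Matrix (Fin n) (Fin n) F).mulVec v = e.symm (T a (T a' (e v))) := fun v =>
      LinearMap.toMatrix'_mulVec G v
    intro heq
    have hmem : g ∈ Cfsg.isometryGroup F f ⊓ Cfsg.Geo.specialLinear (Fin n) F := by
      refine Subgroup.mem_inf.2 ⟨fun u _ => ?_, ?_⟩
      · change f ((g : Matrix (Fin n) (Fin n) F).mulVec u) = f u
        simp only [f, hgv, LinearEquiv.apply_symm_apply, hTf]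
      · rw [Cfsg.Geo.specialLinear, MonoidHom.mem_ker]
        apply Units.ext
        rw [Matrix.GeneralLinearGroup.val_det_apply, Units.val_one]
        exact (LinearMap.det_toMatrix' G).trans hGdet
    rw [← heq] at hmem
    obtain ⟨σ, hσ⟩ := (Subgroup.mem_inf.1 hmem).1
    let z : Fin t := ⟨0, by omega⟩
    let w₀ : Fin m → F := fun _ => 1
    have himg : (g : Matrix (Fin n) (Fin n) F).mulVec (ι₀ z w₀) ∈ D (σ z) := by
      rw [← hσ z]; exact ⟨_, hιmem z w₀, Matrix.toLin'_apply _ _⟩
    obtain ⟨w', hw'⟩ := hmemD _ _ himg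
    have hx := congrArg e hw'
    rw [hgv, LinearEquiv.apply_symm_apply, heι, heι] at hx
    have ha0 : a 0 = z := rfl
    have key : ∀ i : Fin t, (i = a 1 ∨ i = j4) → T a (T a' (Pi.single z w₀)) i ⟨0, hm⟩ ≠ 0 := by
      intro i hi
      have hne : ∀ k k' : Fin 4, k ≠ k' → a k ≠ a k' := fun k k' hk hh => hk (a.injective hh)
      have hj : ∀ k : Fin 4, a k ≠ j4 := fun k hk => by
        have := congrArg Fin.val hk; simp [a, j4] at this; omega
      have a'0 : a' 0 = a 0 := Equiv.swap_apply_of_ne_of_ne (hne 0 3 (by decide)) (hj 0)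
      have a'1 : a' 1 = a 1 := Equiv.swap_apply_of_ne_of_ne (hne 1 3 (by decide)) (hj 1)
      have a'2 : a' 2 = a 2 := Equiv.swap_apply_of_ne_of_ne (hne 2 3 (by decide)) (hj 2)
      have a'3 : a' 3 = j4 := by simp [a']
      have mem' : ∀ x, x ∈ Finset.univ.map a' ↔ x = a 0 ∨ x = a 1 ∨ x = a 2 ∨ x = j4 := by
        intro x
        simp only [Finset.mem_map, Finset.mem_univ, true_and, Fin.exists_fin_succ, Fin.succ_zero_eq_one,
          Fin.succ_one_eq_two, show (2 : Fin 3).succ = 3 from rfl, IsEmpty.exists_iff, or_false]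
        rw [a'0, a'1, a'2, a'3]
        simp only [eq_comm]
      have n01 := hne 1 0 (by decide); have n02 := hne 2 0 (by decide); have n03 := hne 3 0 (by decide)
      have n31 := hne 3 1 (by decide); have n32 := hne 3 2 (by decide)
      have n04 := (hj 0).symm; have n14 := (hj 1).symm; have n24 := (hj 2).symm; have n34 := (hj 3)
      rw [← ha0]
      simp only [T, LinearMap.coe_mk, AddHom.coe_mk, mem', Fin.sum_univ_four, a'0, a'1, a'2, a'3]
      have n21 := hne 2 1 (by decide)
      rcases hi with rfl | rfl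
      · simp [n01, n02, n03, n31, n32, n04, n34, w₀]
        intro h5
        have h51 : (1 : F) = 0 := by linear_combination h6 - h5
        exact one_ne_zero h51
      · have hnot : ¬ ∃ k, a k = j4 := fun ⟨k, hk⟩ => hj k hk
        simp [n01, n02, n03, n04, n14, n24, hnot, w₀]
    have hne1 : a 1 ≠ j4 := fun hk => by have := congrArg Fin.val hk; simp [a, j4] at this
    have e1 := key (a 1) (Or.inl rfl)
    have e2 := key j4 (Or.inr rfl)
    rw [hx] at e1 e2
    by_cases hs : a 1 = σ z
    · rw [Pi.single_eq_of_ne (fun hh : j4 = σ z => hne1 (hs.trans hh.symm))] at e2; exact e2 rfl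
    · rw [Pi.single_eq_of_ne hs] at e1; exact e1 rfl
  · refine lt_of_le_of_ne inf_le_right fun heq => ?_
    let z : Fin t := ⟨0, by omega⟩
    let z' : Fin t := ⟨1, by omega⟩
    let w₀ : Fin m → F := fun _ => 1
    have hzz : z ≠ z' := fun hh => by simp [z, z'] at hh
    have hw0 : w₀ ≠ 0 := fun hh => one_ne_zero (α := F) (congrFun hh ⟨0, hm⟩)
    have hx : ι₀ z w₀ ∉ (⊥ : Submodule F (Fin n → F)) ⊔ Submodule.span F {ι₀ z' w₀} := by
      rw [bot_sup_eq, Submodule.mem_span_singleton]
      rintro ⟨c, hc⟩
      have := congrFun (congrArg e hc) z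
      rw [map_smul, heι, heι, Pi.smul_apply, Pi.single_eq_same, Pi.single_eq_of_ne hzz, smul_zero] at this
      exact hw0 this.symm
    obtain ⟨g, hg, -, hgx⟩ := H42.exists_specialLinear_fix_move ⊥ _ _ hx
    rw [← heq] at hg
    have hinv := (Subgroup.mem_inf.1 hg).1 (ι₀ z w₀) 0
    change f ((g : Matrix (Fin n) (Fin n) F).mulVec (ι₀ z w₀)) = f (ι₀ z w₀) at hinv
    rw [hgx] at hinv
    simp only [f, map_add, heι] at hinv
    rw [← Finset.sum_subset (Finset.subset_univ {z, z'}) (by
        intro i _ hi; simp at hi; simp [H42.nzInd, hi.1, hi.2]),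
      ← Finset.sum_subset (Finset.subset_univ {z}) (by
        intro i _ hi; simp at hi; simp [H42.nzInd, hi])] at hinv
    rw [Finset.sum_pair hzz] at hinv
    simp [H42.nzInd, hzz, hzz.symm, hw0] at hinv

end Cfsg.Agent.S5635
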