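import Cfsg.Statements.S5638
import Cfsg.Agent.H42.FieldSubalgebra
import Cfsg.Agent.H42.WeightForm

set_option autoImplicit false
open Cfsg

open scoped Kronecker

namespace Cfsg.Agent.S5638

/-- The elements conjugating `W` to itself or to its inverse. -/
def pmStabilizer {G : Type*} [Group G] (W : G) : Subgroup G where
  carrier := {g | g * W * g⁻¹ = W ∨ g * W * g⁻¹ = W⁻¹}
  one_mem' := Or.inl (by simp)
  inv_mem' := by
    intro a ha
    rcases ha with h | h
    · left
      conv_lhs => rw [← h]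
      group
    · right
      have hW : W = (a * W * a⁻¹)⁻¹ := by rw [h, inv_inv]
      conv_lhs => rw [hW]
      group
  mul_mem' := by
    intro a b ha hb
    have h1 : a * b * W * (a * b)⁻¹ = a * (b * W * b⁻¹) * a⁻¹ := by group
    have h2 : a * W⁻¹ * a⁻¹ = (a * W * a⁻¹)⁻¹ := by group
    rcases ha with ha | ha <;> rcases hb with hb | hb <;>
      simp only [Set.mem_setOf_eq, h1, hb, h2, ha, inv_inv, true_or, or_true]

variable {F : Type*} [Field F] [Fintype F]

/-- `[[0,1],[1,1]]`, of order three over the field with two elements. -/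
def omegaMat : Matrix (Fin 2) (Fin 2) F := !![0, 1; 1, 1]

omit [Fintype F] in
lemma omega_sq_add (h2 : (2 : F) = 0) : (omegaMat (F := F)) * (omegaMat + 1) = 1 := by
  ext i j
  fin_cases i <;> fin_cases j <;> simp [omegaMat, Matrix.mul_apply, Fin.sum_univ_two] <;>
    linear_combination h2

lemma conj_omega [DecidableEq F] (hq : Fintype.card F = 2) (a : GL (Fin 2) F) :
    (a : Matrix (Fin 2) (Fin 2) F) * omegaMat = omegaMat * (a : Matrix (Fin 2) (Fin 2) F) ∨
      (a : Matrix (Fin 2) (Fin 2) F) * omegaMat = (omegaMat + 1) * (a : Matrix (Fin 2) (Fin 2) F) := by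
  have h2 : (2 : F) = 0 := H42.two_eq_zero_of_card (Or.inl hq)
  have hd : (a : Matrix (Fin 2) (Fin 2) F).det ≠ 0 :=
    ((Matrix.isUnit_iff_isUnit_det _).1 a.isUnit).ne_zero
  rw [Matrix.det_fin_two] at hd
  have h11 : (1 : F) + 1 = 0 := by linear_combination h2
  have key : ∀ M : Matrix (Fin 2) (Fin 2) F, M 0 0 * M 1 1 - M 0 1 * M 1 0 ≠ 0 →
      M * omegaMat = omegaMat * M ∨ M * omegaMat = (omegaMat + 1) * M := by
    intro M hM
    simp only [← Matrix.ext_iff, Fin.forall_fin_two, omegaMat, Matrix.mul_apply, Fin.sum_univ_two,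
      Matrix.add_apply, Matrix.one_apply]
    rcases H42.eq_zero_or_one_of_card_two hq (M 0 0) with p | p <;>
    rcases H42.eq_zero_or_one_of_card_two hq (M 0 1) with q | q <;>
    rcases H42.eq_zero_or_one_of_card_two hq (M 1 0) with r | r <;>
    rcases H42.eq_zero_or_one_of_card_two hq (M 1 1) with s | s <;>
      simp_all
  exact key _ hd

/-- Over the field with 2 elements, for n = 2 n₂ ≥ 13, the stabiliser in SL_n of a tensor decomposition with factors of dimensions 2 and n₂ (the conjugate by any P of the Kronecker-product subgroup transported along any bijection Fin n ≃ Fin 2 × Fin n₂, intersected with SL_n) is not a maximal subgroup: some subgroup lies strictly between it and SL_n. -/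
theorem result {F : Type*} [Field F] [Fintype F] (n : ℕ) (hn : 13 ≤ n) (hq : Fintype.card F = 2) (n₂ : ℕ) (e : Fin n ≃ Fin 2 × Fin n₂) (P : Matrix.GeneralLinearGroup (Fin n) F) : ∃ K : Subgroup (Matrix.GeneralLinearGroup (Fin n) F), Cfsg.Geo.tensorProductSubgroup 2 n₂ e P ⊓ Cfsg.Geo.specialLinear (Fin n) F < K ∧ K < Cfsg.Geo.specialLinear (Fin n) F := by
  classical
  have hn2 : 2 ≤ n₂ := by
    have := Fintype.card_congr e
    simp [Fintype.card_prod] at this
    omega
  have h2 : (2 : F) = 0 := H42.two_eq_zero_of_card (Or.inl hq)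
  have hSL : Cfsg.Geo.specialLinear (Fin n) F = ⊤ := by
    rw [eq_top_iff]
    intro g _
    rw [Cfsg.Geo.specialLinear, MonoidHom.mem_ker]
    have hc : Fintype.card Fˣ = 1 := by rw [Fintype.card_units, hq]
    obtain ⟨x, hx⟩ := Fintype.card_eq_one_iff.1 hc
    rw [hx (Matrix.GeneralLinearGroup.det g), hx 1]
  rw [hSL, inf_top_eq]
  let W : GL (Fin 2 × Fin n₂) F :=
    ⟨omegaMat ⊗ₖ 1, (omegaMat + 1) ⊗ₖ 1, by
      rw [← Matrix.mul_kronecker_mul, omega_sq_add h2, one_mul, Matrix.one_kronecker_one], by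
      rw [← Matrix.mul_kronecker_mul, add_mul, one_mul, ← mul_add_one, omega_sq_add h2, one_mul,
        Matrix.one_kronecker_one]⟩
  let N₀ := pmStabilizer W
  have hmem : ∀ g : GL (Fin 2 × Fin n₂) F, g ∈ N₀ ↔
      ((g : Matrix (Fin 2 × Fin n₂) (Fin 2 × Fin n₂) F) * (omegaMat ⊗ₖ 1 : Matrix (Fin 2 × Fin n₂) (Fin 2 × Fin n₂) F) = (omegaMat ⊗ₖ 1 : Matrix (Fin 2 × Fin n₂) (Fin 2 × Fin n₂) F) * (g : Matrix (Fin 2 × Fin n₂) (Fin 2 × Fin n₂) F) ∨
       (g : Matrix (Fin 2 × Fin n₂) (Fin 2 × Fin n₂) F) * (omegaMat ⊗ₖ 1 : Matrix (Fin 2 × Fin n₂) (Fin 2 × Fin n₂) F) = ((omegaMat + 1) ⊗ₖ 1 : Matrix (Fin 2 × Fin n₂) (Fin 2 × Fin n₂) F) * (g : Matrix (Fin 2 × Fin n₂) (Fin 2 × Fin n₂) F)) := by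
    intro g
    change (g * W * g⁻¹ = W ∨ g * W * g⁻¹ = W⁻¹) ↔ _
    simp only [mul_inv_eq_iff_eq_mul, Units.ext_iff, Units.val_mul]
    exact Iff.rfl
  let z : Fin n₂ := ⟨0, by omega⟩
  let z' : Fin n₂ := ⟨1, by omega⟩
  have hzz : z ≠ z' := fun h => by simp [z, z'] at h
  let E : Matrix (Fin n₂) (Fin n₂) F := Matrix.single z z' 1
  have hE : E * E = 0 := Matrix.single_mul_single_of_ne 1 z z' z hzz.symm 1
  have hmk : ∀ A : Matrix (Fin 2) (Fin 2) F, ∃ g : GL (Fin 2 × Fin n₂) F,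
      (g : Matrix (Fin 2 × Fin n₂) (Fin 2 × Fin n₂) F) = 1 + A ⊗ₖ E := by
    intro A
    have hA : (A ⊗ₖ E) * (A ⊗ₖ E) = 0 := by
      rw [← Matrix.mul_kronecker_mul, hE, Matrix.kronecker_zero]
    refine ⟨⟨1 + A ⊗ₖ E, 1 - A ⊗ₖ E, ?_, ?_⟩, rfl⟩
    · rw [mul_sub, mul_one, add_mul, one_mul, hA]; abel
    · rw [mul_add, mul_one, sub_mul, one_mul, hA]; abel
  let Φ : GL (Fin 2 × Fin n₂) F →* GL (Fin n) F :=
    (MulAut.conj P).toMonoidHom.comp (Cfsg.Geo.glReindex e.symm).toMonoidHom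
  have hΦ : Function.Bijective Φ :=
    (MulAut.conj P).bijective.comp (Cfsg.Geo.glReindex e.symm).bijective
  have hT : Cfsg.Geo.tensorProductSubgroup 2 n₂ e P = (Cfsg.Geo.kroneckerSubgroup 2 n₂ F).map Φ := by
    rw [Cfsg.Geo.tensorProductSubgroup, Subgroup.map_map]
  have hTN : Cfsg.Geo.kroneckerSubgroup 2 n₂ F ≤ N₀ := by
    rintro g ⟨a, b, hg⟩
    rw [hmem, hg]
    rcases conj_omega hq a with h | h
    · left
      rw [← Matrix.mul_kronecker_mul, ← Matrix.mul_kronecker_mul, mul_one, one_mul, h]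
    · right
      rw [← Matrix.mul_kronecker_mul, ← Matrix.mul_kronecker_mul, mul_one, one_mul, h]
  refine ⟨N₀.map Φ, ?_, ?_⟩
  · rw [hT, Subgroup.map_lt_map_iff_of_injective hΦ.1]
    obtain ⟨g, hg⟩ := hmk omegaMat
    have hgN : g ∈ N₀ := by
      rw [hmem]
      left
      rw [hg, add_mul, mul_add, one_mul, mul_one, ← Matrix.mul_kronecker_mul, ← Matrix.mul_kronecker_mul,
        mul_one, one_mul]
    refine lt_of_le_of_ne hTN fun heq => ?_
    obtain ⟨a, b, hab⟩ := heq ▸ hgN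
    rw [hg] at hab
    have e1 := congrFun (congrFun hab (0, z)) (0, z)
    have e2 := congrFun (congrFun hab (0, z)) (1, z')
    have e3 := congrFun (congrFun hab (0, z)) (1, z)
    simp [E, omegaMat, Matrix.kroneckerMap_apply, hzz, hzz.symm] at e1 e2 e3
    rcases e3 with h | h
    · simp [h] at e2
    · simp [h] at e1
  · obtain ⟨g, hg⟩ := hmk (!![0, 1; 0, 0])
    refine lt_of_le_of_ne le_top fun heq => ?_
    have hgN : g ∈ N₀ := by
      have h := (Subgroup.mem_top (Φ g))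
      rw [← heq] at h
      obtain ⟨g', hg', hh⟩ := h
      rwa [← hΦ.1 hh]
    rw [hmem, hg] at hgN
    rcases hgN with h | h <;>
      rw [add_mul, mul_add, one_mul, mul_one, ← Matrix.mul_kronecker_mul, ← Matrix.mul_kronecker_mul,
        mul_one, one_mul] at h
    · have e1 := congrFun (congrFun h (0, z)) (0, z')
      simp [E, omegaMat, Matrix.kroneckerMap_apply, Matrix.mul_apply, Fin.sum_univ_two, hzz, hzz.symm] at e1
    · have e1 := congrFun (congrFun h (0, z)) (0, z)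
      simp [E, omegaMat, Matrix.kroneckerMap_apply, Matrix.mul_apply, Fin.sum_univ_two, hzz, hzz.symm] at e1

end Cfsg.Agent.S5638
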