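import Cfsg.Statements.S5642
import Cfsg.Agent.H49.SimilarityMax

set_option autoImplicit false
open Cfsg

namespace Cfsg.Agent.S5642

/-- For a finite field F and n ≥ 13, let f be a non-degenerate symplectic form on F^n (so n is even). Then the elements of SL_n(F) that are similarities of f (f(gu, gv) = c f(u, v) for a non-zero scalar c depending on g) form a maximal subgroup of SL_n(F). -/
theorem result {F : Type*} [Field F] [Fintype F] (n : ℕ) (hn : 13 ≤ n) (f : (Fin n → F) → (Fin n → F) → F) (hf : Cfsg.Geo.IsSymplecticForm f) : Cfsg.Geo.IsMaximalIn (Cfsg.Geo.specialLinear (Fin n) F) (Cfsg.Geo.similarityGroup f ⊓ Cfsg.Geo.specialLinear (Fin n) F) := by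
  haveI : Nontrivial (Fin n) := Fin.nontrivial_iff_two_le.mpr (by omega)
  have hstr : ∀ v c, H49.str hf v c ∈ Cfsg.Geo.similarityGroup f ⊓ Cfsg.Geo.specialLinear (Fin n) F :=
    fun v c => ⟨⟨1, fun u w => by simpa using H49.str_mem_isoGrp hf v c u w⟩, H49.tr_mem_SL _ _ _⟩
  refine ⟨lt_of_le_of_ne inf_le_right ?_, fun M hHM hMK => ?_⟩
  · -- a transvection that is not a similarity
    intro heq
    let i0 : Fin n := ⟨0, by omega⟩
    let i1 : Fin n := ⟨1, by omega⟩
    let i2 : Fin n := ⟨2, by omega⟩
    have h01 : i0 ≠ i1 := by simp [i0, i1]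
    have h02 : i0 ≠ i2 := by simp [i0, i2]
    have h12 : i1 ≠ i2 := by simp [i1, i2]
    let v : Fin n → F := Pi.single i0 1
    obtain ⟨w, hvw, hw⟩ : ∃ w : Fin n → F, f v w = 0 ∧ ∀ c : F, w ≠ c • v := by
      by_cases h1 : f v (Pi.single i1 1) = 0
      · exact ⟨_, h1, fun c e => by simpa [v, h01.symm] using congrFun e i1⟩
      · refine ⟨f v (Pi.single i1 1) • (Pi.single i2 1 : Fin n → F) -
          f v (Pi.single i2 1) • (Pi.single i1 1 : Fin n → F), ?_, fun c e => ?_⟩
        · rw [H49.sf_sub_right hf, hf.bilinear.smul_right, hf.bilinear.smul_right]; ring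
        · have := congrFun e i2
          simp [v, h02.symm, h12.symm, h1] at this
    have hd : H49.fvec f w ⬝ᵥ v = 0 := by rw [H49.fvec_dot hf, hvw]
    have hmem : H49.tr v _ hd ∈ Cfsg.Geo.similarityGroup f ⊓ Cfsg.Geo.specialLinear (Fin n) F := by
      rw [heq]; exact H49.tr_mem_SL _ _ _
    obtain ⟨⟨c, hc⟩, -⟩ := hmem
    have hv : v ≠ 0 := by simp [v]
    obtain ⟨y, hy⟩ := (hf.nondegenerate v hv).2
    have hexp : ∀ x y, f x y + f y w * f x v + f x w * f v y = (c : F) * f x y := by
      intro x y
      have h := hc x y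
      rw [H49.tr_mulVec, H49.tr_mulVec, H49.fvec_dot hf, H49.fvec_dot hf] at h
      simp only [hf.bilinear.add_left, hf.bilinear.add_right, hf.bilinear.smul_left,
        hf.bilinear.smul_right, hf.alternating] at h
      linear_combination h
    have hc1 : (c : F) = 1 := by
      have h := hexp v y
      rw [hf.alternating, hvw] at h
      exact mul_right_cancel₀ hy (by linear_combination -h)
    apply hw (f y w / f y v)
    by_contra hne
    obtain ⟨x, hx⟩ := (hf.nondegenerate _ (sub_ne_zero.mpr hne)).1
    apply hx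
    have h := hexp x y
    rw [hc1, one_mul, hf.skew v y] at h
    have hyv : f y v ≠ 0 := by rw [hf.skew]; simpa using hy
    rw [H49.sf_sub_right hf, hf.bilinear.smul_right]
    field_simp
    linear_combination -h
  · by_cases hle : M ≤ Cfsg.Geo.similarityGroup f
    · exact Or.inl (le_antisymm (le_inf hle hMK) hHM)
    · obtain ⟨g, hg, hns⟩ := SetLike.not_le_iff_exists.mp hle
      refine Or.inr (le_antisymm hMK fun s hs => ?_)
      refine H49.sl_le_of_not_similar hf M (fun v c => hHM (hstr v c)) g hg hns s ?_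
      exact congrArg Units.val (show Matrix.GeneralLinearGroup.det s = 1 from hs)

end Cfsg.Agent.S5642
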