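import Cfsg.Statements.S5648
import Cfsg.Agent.H45.SympDecomp
import Cfsg.Agent.H45.QuadChar2

set_option autoImplicit false
open Cfsg Cfsg.Geo H45

namespace Cfsg.Agent.S5648

/-- Over the field with 2 elements and for m ≥ 7, let D be a decomposition of F^(2m) into t pairwise orthogonal non-degenerate 2-dimensional subspaces for the standard alternating form (t = m ≥ 2). Then the elements of Sp_2m(2) permuting the members of D form a subgroup that is not maximal: some subgroup lies strictly between it and Sp_2m(2). -/
theorem result {F : Type*} [Field F] [Fintype F] (m : ℕ) (hm : 7 ≤ m) (hq : Fintype.card F = 2) {t : ℕ} (D : Fin t → Submodule F (Fin m ⊕ Fin m → F)) (hD : Cfsg.Geo.IsNondegenerateMDecomposition (Cfsg.sympForm m F) 2 D) : ∃ K : Subgroup (Matrix.GeneralLinearGroup (Fin m ⊕ Fin m) F), Cfsg.Geo.decompositionStabilizer D ⊓ Cfsg.spGL m F < K ∧ K < Cfsg.spGL m F := by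
  classical
  have hb := sympForm_bilinear m F
  have halt := sympForm_self m F
  -- the field is `{0, 1}`
  have hbool : ∀ x : F, x = 0 ∨ x = 1 := by
    intro x
    by_contra hx
    push Not at hx
    have h : ({0, 1, x} : Finset F).card ≤ Fintype.card F := Finset.card_le_univ _
    rw [Finset.card_insert_of_notMem (by simp [Ne.symm hx.1]), Finset.card_pair (Ne.symm hx.2), hq]
      at h
    omega
  have h2 : (2 : F) = 0 := by
    have h : (1 : F) + 1 = 0 ∨ (1 : F) + 1 = 1 := hbool _
    rcases h with h | h
    · rw [← one_add_one_eq_two]; exact h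
    · simp at h
  have h11 : (1 : F) + 1 = 0 := by rw [one_add_one_eq_two]; exact h2
  -- at least three members
  have ht : 3 ≤ t := by
    have hindep := hD.decomp.indep
    have h := DirectSum.isInternal_submodule_of_iSupIndep_of_iSup_eq_top hindep hD.decomp.iSup_eq_top
    have he := (LinearEquiv.ofBijective (DirectSum.coeLinearMap D) h).finrank_eq
    rw [Module.finrank_directSum] at he
    simp [hD.decomp.finrank_eq] at he
    omega
  set P := proj hb hD with hP
  let q : (Fin m ⊕ Fin m → F) → F := fun w => if w = 0 then 0 else 1
  let Q : (Fin m ⊕ Fin m → F) → F := fun x => ∑ i, q (P i x)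
  have hq2 : ∀ i, ∀ a ∈ D i, ∀ b ∈ D i, q (a + b) = q a + q b + sympForm m F a b := by
    intro i a ha b hb'
    by_cases ha0 : a = 0
    · subst ha0; simp [q, bl_zero_left hb]
    by_cases hb0 : b = 0
    · subst hb0; simp [q, bl_zero_right hb]
    by_cases hab : a = b
    · subst hab
      have : a + a = 0 := by rw [← two_smul F a, h2, zero_smul]
      simp [q, this, ha0, halt, h11]
    have hne : a + b ≠ 0 := by
      intro h
      apply hab
      calc a = a + (a + b) := by rw [h, add_zero]
        _ = (2 : F) • a + b := by rw [two_smul]; abel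
        _ = b := by rw [h2, zero_smul, zero_add]
    have hfab : sympForm m F a b = 1 := by
      refine (hbool _).resolve_left fun h0 => ?_
      -- `a` and `b` span the member, so `a` would be in its radical
      obtain ⟨x, hx, hfx⟩ := (hD.nondegenerate i a ha ha0).2
      have hspan : Submodule.span F {a, b} = D i := by
        refine Submodule.eq_of_le_of_finrank_le ?_ ?_
        · rw [Submodule.span_le]
          rintro y (rfl | rfl)
          exacts [ha, hb']
        · have hli : LinearIndependent F ![a, b] := by
            rw [LinearIndependent.pair_iff' ha0]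
            intro c hc
            rcases hbool c with rfl | rfl
            · exact hb0 (by simpa using hc.symm)
            · exact hab (by simpa using hc)
          have := finrank_span_eq_card hli
          rw [Matrix.range_cons_cons_empty, Fintype.card_fin] at this
          rw [hD.decomp.finrank_eq, this]
      rw [← hspan, Submodule.mem_span_pair] at hx
      obtain ⟨c, d, rfl⟩ := hx
      exact hfx (by rw [hb.add_right, hb.smul_right, hb.smul_right, halt, h0]; ring)
    simp only [q, if_neg ha0, if_neg hb0, if_neg hne, hfab]
    linear_combination -h2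
  have hQadd : ∀ x y, Q (x + y) = Q x + Q y + sympForm m F x y := by
    intro x y
    simp only [Q, form_eq_sum hb hD x y, ← Finset.sum_add_distrib]
    refine Finset.sum_congr rfl fun i _ => ?_
    rw [map_add]
    exact hq2 i _ (proj_mem hb hD i x) _ (proj_mem hb hD i y)
  have hQsmul : ∀ (c : F) (v : Fin m ⊕ Fin m → F), Q (c • v) = c ^ 2 * Q v := by
    intro c v
    rcases hbool c with rfl | rfl <;> simp [Q, q]
  have htv : ∀ v x : Fin m ⊕ Fin m → F,
      Q (act (stv v 1) x) = Q x + sympForm m F x v ^ 2 * (Q v + 1) := by
    intro v x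
    rw [act_tv, hQadd, hQsmul, hb.smul_right]
    ring
  -- the stabiliser preserves `Q`
  have hHQ : decompositionStabilizer D ⊓ spGL m F ≤ isometryGroup F Q := by
    rintro g ⟨hg, -⟩
    obtain ⟨σ, hσ⟩ := apply_mem_of_mem_decompositionStabilizer hg
    rw [mem_isometryGroup]
    intro x
    have hcomp : ∀ i, P (σ i) (act g x) = act g (P i x) := by
      intro i
      have h1 : act g x = ∑ j, act g (P (σ.symm j) x) := by
        rw [Equiv.sum_comp σ.symm (fun j => act g (P j x)), ← act_sum, hP, sum_proj hb hD x]
      rw [h1, hP, proj_sum hb hD (fun j => act g (proj hb hD (σ.symm j) x))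
        (fun j => by simpa using hσ (σ.symm j) _ (proj_mem hb hD _ x))]
      simp
    simp only [Q]
    rw [← Equiv.sum_comp σ]
    refine Finset.sum_congr rfl fun i _ => ?_
    rw [hcomp]
    simp only [q]
    by_cases h : P i x = 0
    · simp [h]
    · rw [if_neg h, if_neg]
      exact fun h' => h (act_injective g (h'.trans (act_zero g).symm))
  -- three members with hyperbolic pairs
  have hpair : ∀ i, ∃ e e', e ∈ D i ∧ e' ∈ D i ∧ sympForm m F e e' = 1 := by
    intro l
    obtain ⟨e, he, e', he', h⟩ := exists_hyperbolic_pair hb halt (hD.nondegenerate l) (d := 1)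
      (hD.decomp.finrank_eq l)
    exact ⟨e, e', he, he', h⟩
  choose e e' he he' hee using hpair
  have he0 : ∀ l, e l ≠ 0 := fun l h => by
    have := hee l; rw [h, bl_zero_left hb] at this; exact zero_ne_one this
  have hQe : ∀ l, Q (e l) = 1 := by
    intro l
    simp only [Q]
    rw [Finset.sum_eq_single l]
    · simp [q, hP, proj_self hb hD (he l), he0 l]
    · intro j _ hj
      simp [q, hP, proj_other hb hD hj (he l)]
    · simp
  let i : Fin t := ⟨0, by omega⟩
  let j : Fin t := ⟨1, by omega⟩
  let l : Fin t := ⟨2, by omega⟩
  have hij : i ≠ j := fun h => by simpa [i, j] using congrArg Fin.val h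
  have hil : i ≠ l := fun h => by simpa [i, l] using congrArg Fin.val h
  have hjl : j ≠ l := fun h => by simpa [j, l] using congrArg Fin.val h
  have hf : ∀ a b : Fin t, a ≠ b → sympForm m F (e a) (e b) = 0 := fun a b h =>
    hD.orthogonal a b h _ (he a) _ (he b)
  have hfe : sympForm m F (e' i) (e i) = 1 := by
    rw [alt_skew hb halt, hee]
    linear_combination -h2
  refine ⟨isometryGroup F Q ⊓ spGL m F,
    lt_of_le_of_ne (le_inf hHQ inf_le_right) fun h => ?_, lt_of_le_of_ne inf_le_right fun h => ?_⟩
  · -- a transvection of `Q` along a vector with three components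
    have hmem : stv (e i + e j + e l) (1 : F) ∈ isometryGroup F Q ⊓ spGL m F := by
      refine ⟨mem_isometryGroup.mpr fun x => ?_, stv_mem _ _⟩
      rw [htv, hQadd, hQadd, hQe, hQe, hQe, hb.add_left, hf i j hij, hf i l hil, hf j l hjl]
      linear_combination (2 * sympForm m F x (e i + e j + e l) ^ 2) * h2
    rw [← h] at hmem
    obtain ⟨σ, hσ⟩ := apply_mem_of_mem_decompositionStabilizer hmem.1
    have hx := hσ i (e' i) (he' i)
    rw [act_tv, one_mul, hb.add_right, hb.add_right, hfe, hD.orthogonal i j hij _ (he' i) _ (he j),
      hD.orthogonal i l hil _ (he' i) _ (he l), add_zero, add_zero, one_smul] at hx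
    have hz : ∀ a, a ≠ σ i → P a (e' i + (e i + e j + e l)) = 0 :=
      fun a ha => proj_other hb hD ha hx
    by_cases hσi : σ i = j
    · have := hz l (hσi ▸ Ne.symm hjl)
      rw [hP, map_add, map_add, map_add, proj_other hb hD (Ne.symm hil) (he' i),
        proj_other hb hD (Ne.symm hil) (he i), proj_other hb hD (Ne.symm hjl) (he j),
        proj_self hb hD (he l)] at this
      simp at this
      exact he0 l this
    · have := hz j (Ne.symm hσi)
      rw [hP, map_add, map_add, map_add, proj_other hb hD (Ne.symm hij) (he' i),
        proj_other hb hD (Ne.symm hij) (he i), proj_other hb hD hjl (he l),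
        proj_self hb hD (he j)] at this
      simp at this
      exact he0 j this
  · have hmem : stv (e i + e j) (1 : F) ∈ isometryGroup F Q ⊓ spGL m F := by
      rw [h]; exact stv_mem _ _
    have := mem_isometryGroup.mp hmem.1 (e' i)
    rw [htv, hQadd (e i), hQe, hQe, hf i j hij, hb.add_right, hfe,
      hD.orthogonal i j hij _ (he' i) _ (he j)] at this
    simp [h11] at this

end Cfsg.Agent.S5648
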