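import Cfsg.Statements.S5656
import Cfsg.Agent.H45.UnitTv

set_option autoImplicit false
open Cfsg Cfsg.Geo H45

namespace Cfsg.Agent.S5656

/-- Let F be the field with 4 elements (q = 2) and n ≥ 13. Let D be a decomposition of F^n into t pairwise orthogonal 2-dimensional subspaces, each non-degenerate for the standard unitary form Σ u_i v_i². Then the elements of SU_n(2) permuting the members of D form a subgroup that is not maximal: some subgroup lies strictly between it and SU_n(2). -/
theorem result {F : Type*} [Field F] [Fintype F] (n : ℕ) (hF : Fintype.card F = 4) (hn : 13 ≤ n) {t : ℕ} (D : Fin t → Submodule F (Fin n → F)) (hD : Cfsg.Geo.IsNondegenerateMDecomposition (Cfsg.hermForm n F 2) 2 D) : ∃ K : Subgroup (Matrix.GeneralLinearGroup (Fin n) F), Cfsg.Geo.decompositionStabilizer D ⊓ (Cfsg.GU n F 2 ⊓ Cfsg.Geo.specialLinear (Fin n) F) < K ∧ K < (Cfsg.GU n F 2 ⊓ Cfsg.Geo.specialLinear (Fin n) F) := by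
  classical
  have hF' : Fintype.card F = 2 ^ 2 := by norm_num [hF]
  have hp : CharP F 2 := by
    obtain ⟨p, k, hp, hpc, hq⟩ : ∃ p k : ℕ, p.Prime ∧ CharP F p ∧ Fintype.card F = p ^ k := by
      obtain ⟨k, hk, hq⟩ := FiniteField.card F (ringChar F)
      exact ⟨_, k, hk, ringChar.charP F, hq⟩
    have : p = 2 := by
      have h2 : p ∣ 2 ^ 2 := by
        rw [← hF', hq]; exact dvd_pow_self p (by rintro rfl; rw [pow_zero] at hq; omega)
      exact (Nat.prime_dvd_prime_iff_eq hp Nat.prime_two).mp (hp.dvd_of_dvd_pow h2)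
    exact this ▸ hpc
  have h11 : (1 : F) + 1 = 0 := CharTwo.add_self_eq_zero 1
  have hone : (1 : F) + 1 ^ 2 = 0 := by rw [one_pow]; exact h11
  have hcube : ∀ x : F, x ≠ 0 → x * x ^ 2 = 1 := fun x hx => by
    have := FiniteField.pow_card_sub_one_eq_one x hx
    rw [hF] at this
    linear_combination this
  -- an orthonormal pair in each member, and the only anisotropic lines of the member
  have hpair : ∀ i, ∃ b : Fin 2 → Fin n → F, (∀ j, b j ∈ D i) ∧ H50.IsON 2 b ∧
      ∀ w ∈ D i, ∃ x y : F, w = x • b 0 + y • b 1 := by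
    intro i
    have hW : H50.IsNondeg 2 (D i) := by
      intro u hu h
      by_contra hne
      obtain ⟨x, hx, hfx⟩ := (hD.nondegenerate i u hu hne).2
      exact hfx (h x hx)
    obtain ⟨b, hb, hbm, hspan⟩ := H50.exists_ON_basis hF' hW (hD.decomp.finrank_eq i)
    refine ⟨b, hbm, hb, fun w hw => ?_⟩
    rw [← hspan, Submodule.mem_span_range_iff_exists_fun] at hw
    obtain ⟨c, rfl⟩ := hw
    exact ⟨c 0, c 1, by rw [Fin.sum_univ_two]⟩
  choose b hbm hbON hbspan using hpair
  have hh : ∀ i j, hermForm n F 2 (b i j) (b i j) = 1 := fun i j => by simpa using hbON i j j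
  have hh01 : ∀ i, hermForm n F 2 (b i 0) (b i 1) = 0 := fun i => by simpa using hbON i 0 1
  have hh10 : ∀ i, hermForm n F 2 (b i 1) (b i 0) = 0 := fun i => by simpa using hbON i 1 0
  have hdisj : ∀ {i j}, i ≠ j → ∀ {w : Fin n → F}, w ∈ D i → w ∈ D j → w = 0 := by
    intro i j hij w hwi hwj
    by_contra hne
    obtain ⟨x, hx, hfx⟩ := (hD.nondegenerate j w hwj hne).2
    exact hfx (hD.orthogonal i j hij w hwi x hx)
  have hbne : ∀ i j, b i j ≠ 0 := fun i j h => by
    have := hh i j; rw [h, H50.h_zero_left] at this; exact zero_ne_one this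
  set V0 : Set (Fin n → F) := {v | ∃ i, v ∈ D i ∧ hermForm n F 2 v v ≠ 0} with hV0
  have hV0 : ∀ v, v ∈ V0 ↔ ∃ i k, ∃ x : F, x ≠ 0 ∧ v = x • b i k := by
    intro v
    constructor
    · rintro ⟨i, hv, hne⟩
      obtain ⟨x, y, rfl⟩ := hbspan i v hv
      rw [H50.h_add_left, H50.h_add_right hF', H50.h_add_right hF', H50.h_smul_left,
        H50.h_smul_left, H50.h_smul_left, H50.h_smul_left, H50.h_smul_right hF',
        H50.h_smul_right hF', H50.h_smul_right hF', H50.h_smul_right hF', hh, hh, hh01, hh10] at hne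
      by_cases hx : x = 0
      · refine ⟨i, 1, y, ?_, by simp [hx]⟩
        rintro rfl
        simp [hx] at hne
      · by_cases hy : y = 0
        · exact ⟨i, 0, x, hx, by simp [hy]⟩
        · refine absurd ?_ hne
          linear_combination hcube x hx + hcube y hy + h11
    · rintro ⟨i, k, x, hx, rfl⟩
      refine ⟨i, Submodule.smul_mem _ _ (hbm i k), ?_⟩
      rw [H50.h_smul_left, H50.h_smul_right hF', hh, mul_one, hcube x hx]
      exact one_ne_zero
  have ht : 3 ≤ t := by
    have h := DirectSum.isInternal_submodule_of_iSupIndep_of_iSup_eq_top hD.decomp.indep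
      hD.decomp.iSup_eq_top
    have he := (LinearEquiv.ofBijective (DirectSum.coeLinearMap D) h).finrank_eq
    rw [Module.finrank_directSum] at he
    simp [hD.decomp.finrank_eq] at he
    omega
  let i : Fin t := ⟨0, by omega⟩
  let j : Fin t := ⟨1, by omega⟩
  have hij : i ≠ j := fun h => by simpa [i, j] using congrArg Fin.val h
  have hcross : ∀ {l l'}, l ≠ l' → ∀ k k', hermForm n F 2 (b l k) (b l' k') = 0 := fun h k k' =>
    hD.orthogonal _ _ h _ (hbm _ k) _ (hbm _ k')
  refine ⟨stabilizing (glToMat (Fin n) F) V0 ⊓ (GU n F 2 ⊓ specialLinear (Fin n) F),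
    lt_of_le_of_ne (le_inf ?_ inf_le_right) fun h => ?_, lt_of_le_of_ne inf_le_right fun h => ?_⟩
  · -- the stabiliser of the decomposition preserves the set of anisotropic member vectors
    have key : ∀ g ∈ decompositionStabilizer D ⊓ (GU n F 2 ⊓ specialLinear (Fin n) F),
        ∀ v ∈ V0, act g v ∈ V0 := by
      rintro g ⟨hgD, hgU⟩ v ⟨l, hvl, hne⟩
      obtain ⟨σ, hσ⟩ := apply_mem_of_mem_decompositionStabilizer hgD
      exact ⟨σ l, hσ l v hvl, by rwa [(mem_GU_sl.mp hgU).1]⟩
    intro g hg v
    refine ⟨key g hg v, fun hv => ?_⟩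
    have := key g⁻¹ (inv_mem hg) _ hv
    change act g⁻¹ (act g v) ∈ V0 at this
    rwa [act_inv_act] at this
  · -- swapping two anisotropic lines of different members
    set d := b i 0 + b j 0 with hd
    have hdd : hermForm n F 2 d d = 0 := by
      rw [hd, H50.h_add_left, H50.h_add_right hF', H50.h_add_right hF', hh, hh, hcross hij,
        hcross (Ne.symm hij)]
      linear_combination h11
    have hd0 : hermForm n F 2 (b i 0) d = 1 := by
      rw [hd, H50.h_add_right hF', hh, hcross hij, add_zero]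
    have hd1 : hermForm n F 2 (b j 0) d = 1 := by
      rw [hd, H50.h_add_right hF', hh, hcross (Ne.symm hij), zero_add]
    have hsw : ∀ x, act (utv d hdd 1) x = x + hermForm n F 2 x d • d := fun x => by
      rw [act_utv, one_mul]
    have hsw0 : act (utv d hdd 1) (b i 0) = b j 0 := by
      rw [hsw, hd0, one_smul, hd, ← add_assoc, ← two_smul F, CharTwo.two_eq_zero, zero_smul,
        zero_add]
    have hinv : ∀ x, act (utv d hdd 1) (act (utv d hdd 1) x) = x := by
      intro x
      rw [hsw, hsw, H50.h_add_left, H50.h_smul_left, hdd, mul_zero, add_zero, add_assoc,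
        ← add_smul, CharTwo.add_self_eq_zero, zero_smul, add_zero]
    have hsw1 : act (utv d hdd 1) (b j 0) = b i 0 := by rw [← hsw0, hinv]
    have hfix : ∀ l k, b l k ≠ b i 0 → b l k ≠ b j 0 → act (utv d hdd 1) (b l k) = b l k := by
      intro l k h1 h2
      have hz : ∀ l', b l k ≠ b l' 0 → hermForm n F 2 (b l k) (b l' 0) = 0 := by
        intro l' hne
        by_cases hl : l = l'
        · subst hl
          fin_cases k
          · exact absurd rfl hne
          · exact hh10 l
        · exact hcross hl k 0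
      rw [hsw, hd, H50.h_add_right hF', hz i h1, hz j h2, add_zero, zero_smul, add_zero]
    have key : ∀ v ∈ V0, act (utv d hdd 1) v ∈ V0 := by
      intro v hv
      obtain ⟨l, k, x, hx, rfl⟩ := (hV0 v).mp hv
      rw [act_smul, hV0]
      by_cases h1 : b l k = b i 0
      · exact ⟨j, 0, x, hx, by rw [h1, hsw0]⟩
      by_cases h2 : b l k = b j 0
      · exact ⟨i, 0, x, hx, by rw [h2, hsw1]⟩
      exact ⟨l, k, x, hx, by rw [hfix l k h1 h2]⟩
    have hmem : utv d hdd 1 ∈
        stabilizing (glToMat (Fin n) F) V0 ⊓ (GU n F 2 ⊓ specialLinear (Fin n) F) := by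
      refine ⟨fun v => ⟨key v, fun hv => ?_⟩, utv_mem hF' d hdd hone⟩
      have h2 := key _ hv
      change act _ (act _ v) ∈ V0 at h2
      rwa [hinv] at h2
    rw [← h] at hmem
    obtain ⟨σ, hσ⟩ := apply_mem_of_mem_decompositionStabilizer hmem.1
    have e1 := hσ i _ (hbm i 0)
    have e2 := hσ i _ (hbm i 1)
    rw [hsw0] at e1
    have h10 : hermForm n F 2 (b i 1) d = 0 := by
      rw [hd, H50.h_add_right hF', hh10, hcross hij, add_zero]
    rw [hsw, h10, zero_smul, add_zero] at e2
    by_cases hσi : σ i = j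
    · rw [hσi] at e2
      exact hbne i 1 (hdisj hij (hbm i 1) e2)
    · exact hbne j 0 (hdisj hσi e1 (hbm j 0))
  · set d := b i 0 + b i 1 + (b j 0 + b j 1) with hd
    have hdd : hermForm n F 2 d d = 0 := by
      simp only [hd, H50.h_add_left, H50.h_add_right hF', hh, hh01, hh10, hcross hij,
        hcross (Ne.symm hij)]
      linear_combination 2 * h11
    have hmem : utv d hdd 1 ∈
        stabilizing (glToMat (Fin n) F) V0 ⊓ (GU n F 2 ⊓ specialLinear (Fin n) F) := by
      rw [h]; exact utv_mem hF' d hdd hone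
    have h1 : act (utv d hdd 1) (b i 0) ∈ V0 := (hmem.1 _).mp ⟨i, hbm i 0, by rw [hh]; exact one_ne_zero⟩
    have h2 : act (utv d hdd 1) (b i 0) = b i 1 + (b j 0 + b j 1) := by
      rw [act_utv, one_mul, hd, H50.h_add_right hF', H50.h_add_right hF', H50.h_add_right hF', hh,
        hh01, hcross hij, hcross hij, add_zero, add_zero, add_zero, one_smul,
        show b i 0 + (b i 0 + b i 1 + (b j 0 + b j 1)) =
          (b i 0 + b i 0) + (b i 1 + (b j 0 + b j 1)) by abel,
        ← two_smul F (b i 0), CharTwo.two_eq_zero, zero_smul, zero_add]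
    rw [h2] at h1
    obtain ⟨l, hl, -⟩ := h1
    have hp := hD.orthogonal l
    by_cases hli : l = i
    · subst hli
      have := hp j hij _ hl _ (hbm j 0)
      rw [H50.h_add_left, H50.h_add_left, hcross hij, hh, hh10, zero_add, add_zero] at this
      exact one_ne_zero this
    · have := hp i hli _ hl _ (hbm i 1)
      rw [H50.h_add_left, H50.h_add_left, hh, hcross (Ne.symm hij), hcross (Ne.symm hij)] at this
      simp at this

end Cfsg.Agent.S5656
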