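import Cfsg.Statements.S5657
import Cfsg.Agent.H51.PairStabU
-- import your own Cfsg.Agent.* helpers here

set_option autoImplicit false
open Cfsg
open Matrix H50 H51.StabMax

namespace Cfsg.Agent.S5657

/-- Let F be the field with q² elements and n = 2k ≥ 13. Let D be a decomposition of F^n into two complementary subspaces of dimension k on each of which the standard unitary form vanishes identically. Then the elements of SU_n(q) preserving or interchanging the two subspaces form a maximal subgroup of SU_n(q). -/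
theorem result {F : Type*} [Field F] [Fintype F] (n q : ℕ) (hF : Fintype.card F = q ^ 2) (hn : 13 ≤ n) (k : ℕ) (hk : 2 * k = n) (D : Fin 2 → Submodule F (Fin n → F)) (hD : Cfsg.Geo.IsMDecomposition k D) (hts : ∀ i, Cfsg.Geo.IsTotallySingularFor (Cfsg.hermForm n F q) (D i)) : Cfsg.Geo.IsMaximalIn (Cfsg.GU n F q ⊓ Cfsg.Geo.specialLinear (Fin n) F) (Cfsg.Geo.decompositionStabilizer D ⊓ (Cfsg.GU n F q ⊓ Cfsg.Geo.specialLinear (Fin n) F)) := by
  classical
  have hcompl : IsCompl (D 0) (D 1) := by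
    refine ⟨hD.indep.pairwiseDisjoint Fin.zero_ne_one, codisjoint_iff.2 (eq_top_iff.2 ?_)⟩
    rw [← hD.iSup_eq_top]
    refine iSup_le fun i => ?_
    fin_cases i
    · exact le_sup_left
    · exact le_sup_right
  have d : H51.PairU.UPair q k (D 0) (D 1) :=
    ⟨hF, hts 0, hts 1, hcompl, hD.finrank_eq 0, hD.finrank_eq 1, by omega, hk⟩
  have hperm : ∀ σ : Equiv.Perm (Fin 2), (σ 0 = 0 ∧ σ 1 = 1) ∨ (σ 0 = 1 ∧ σ 1 = 0) := by decide
  have hmem : ∀ s : SU n F q,
      suHom n F q s ∈ Cfsg.Geo.decompositionStabilizer D ↔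
        (H51.PairU.Fixes (D 0) (D 1) s ∨
          ((∀ x ∈ D 0, suMat s *ᵥ x ∈ D 1) ∧ ∀ x ∈ D 1, suMat s *ᵥ x ∈ D 0)) := by
    intro s
    have hinj : Function.Injective (Matrix.toLin' (suMat s)) := fun x y e => by
      rw [Matrix.toLin'_apply, Matrix.toLin'_apply] at e
      rw [← suMat_inv_mulVec s x, e, suMat_inv_mulVec]
    have heq : ∀ i j, (∀ x ∈ D i, suMat s *ᵥ x ∈ D j) → (D i).map (Matrix.toLin' (suMat s)) = D j := fun i j h =>
      Submodule.eq_of_le_of_finrank_eq (Submodule.map_le_iff_le_comap.2 h)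
        (by rw [← (Submodule.equivMapOfInjective _ hinj (D i)).finrank_eq, hD.finrank_eq, hD.finrank_eq])
    constructor
    · rintro ⟨σ, hσ⟩
      have h : ∀ i, ∀ x ∈ D i, suMat s *ᵥ x ∈ D (σ i) := fun i x hx => hσ i ▸ ⟨x, hx, rfl⟩
      rcases hperm σ with ⟨e0, e1⟩ | ⟨e0, e1⟩
      · exact Or.inl ⟨fun x hx => e0 ▸ h 0 x hx, fun x hx => e1 ▸ h 1 x hx⟩
      · exact Or.inr ⟨fun x hx => e0 ▸ h 0 x hx, fun x hx => e1 ▸ h 1 x hx⟩
    · rintro (⟨h0, h1⟩ | ⟨h0, h1⟩)
      · refine ⟨1, fun i => ?_⟩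
        rw [suHom_val]
        fin_cases i
        · exact heq 0 0 h0
        · exact heq 1 1 h1
      · refine ⟨Equiv.swap 0 1, fun i => ?_⟩
        rw [suHom_val]
        fin_cases i
        · exact heq 0 1 h0
        · exact heq 1 0 h1
  refine ⟨lt_of_le_of_ne inf_le_right ?_, fun M hHM hMK => ?_⟩
  · intro heq
    have h0 : D 0 ≠ ⊥ := fun e => by
      have := hD.finrank_eq 0
      rw [e, finrank_bot] at this
      omega
    obtain ⟨a, ha, ha0⟩ := (Submodule.ne_bot_iff _).1 h0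
    obtain ⟨c, hc, hc'⟩ : ∃ c : F, c ≠ 0 ∧ c + c ^ q = 0 := by
      obtain ⟨c, h1, h2⟩ := exists_trace_zero_ne_zero hF
      exact ⟨c, by assumption, by assumption⟩
    obtain ⟨b, hb, -, hab⟩ := d.exists_b (S := ⊥) bot_le ha (by simpa using ha0)
    set b' := c ^ q • b with hb'
    have hab' : hermForm n F q a b' = c := by rw [hb', h_smul_right hF, hab, pow_q_pow_q hF, mul_one]
    have hb'D : b' ∈ D 1 := (D 1).smul_mem _ hb
    have hvv : hermForm n F q (a + b') (a + b') = 0 := by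
      rw [h_add_left, h_add_right hF, h_add_right hF, hts 0 a ha a ha, hts 1 b' hb'D b' hb'D,
        h_symm hF a b', hab']
      linear_combination hc'
    obtain ⟨x, hx, hxb, -, hxnot⟩ := d.exists_avoid b' b' 0 0
    have hx0 : x ≠ 0 := fun e => hxnot (by rw [e]; exact Submodule.zero_mem _)
    have hg : suHom n F q (tv hF (a + b') c hvv hc') ∈ Cfsg.Geo.decompositionStabilizer D := by
      have := suHom_mem (tv hF (a + b') c hvv hc')
      rw [← heq] at this
      exact this.1
    have hgx : suMat (tv hF (a + b') c hvv hc') *ᵥ x = x := by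
      rw [tv_mulVec, h_add_right hF, hts 0 x hx a ha, hxb, add_zero, mul_zero, zero_smul, add_zero]
    rcases (hmem _).1 hg with ⟨h, -⟩ | ⟨h, -⟩
    · have := h a ha
      rw [tv_mulVec, h_add_right hF, hts 0 a ha a ha, hab', zero_add, smul_add, ← add_assoc,
        (D 0).add_mem_iff_right ((D 0).add_mem ha ((D 0).smul_mem _ ha))] at this
      have h2 := Submodule.disjoint_def.1 hcompl.disjoint _ this ((D 1).smul_mem _ hb'D)
      have hb'0 : b' ≠ 0 := fun e => hc (by rw [← hab', e, h_zero_right hF])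
      exact hb'0 ((smul_eq_zero.1 h2).resolve_left (mul_ne_zero hc hc))
    · have := h x hx
      rw [hgx] at this
      exact hx0 (Submodule.disjoint_def.1 hcompl.disjoint x hx this)
  by_cases hle : M ≤ Cfsg.Geo.decompositionStabilizer D
  · exact Or.inl (le_antisymm (le_inf hle hMK) hHM)
  obtain ⟨g, hgM, hgD⟩ := SetLike.not_le_iff_exists.mp hle
  obtain ⟨g', rfl⟩ := exists_suHom_eq (hMK hgM)
  refine Or.inr (le_antisymm hMK fun s hs => ?_)
  have hK : M.comap (suHom n F q) = ⊤ :=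
    d.eq_top_of_moves (fun a ha => hHM ⟨(hmem a).2 (Or.inl ha), suHom_mem a⟩)
      (fun w h0 h1 => hHM ⟨(hmem w).2 (Or.inr ⟨h0, h1⟩), suHom_mem w⟩)
      hgM (fun h => hgD ((hmem g').2 h))
  obtain ⟨s', rfl⟩ := exists_suHom_eq hs
  have : s' ∈ M.comap (suHom n F q) := by rw [hK]; trivial
  exact this

end Cfsg.Agent.S5657
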