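import Mathlib
import Cfsg.Prelude.Def_GeometricClasses
import Cfsg.Prelude.Def_LieClassical
import Cfsg.Agent.H38.SubSUBig
import Cfsg.Agent.S5660

set_option autoImplicit false
open Cfsg Matrix H50 H38 H38.SubSU
open scoped MatrixGroups
open H51.StabMax (suHom suHom_mem suHom_val exists_suHom_eq)

namespace Cfsg.Agent.S5658

variable {F : Type*} [Field F] [Fintype F] {n q : ℕ} {F₀ : Subfield F} {P : GL (Fin n) F}

theorem rt_emb (u : Fin n → F₀) : H38.SpSU.Rt F₀ P (emb P u) := fun i => by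
  rw [emb_apply_inv]; exact (u i).2

theorem exists_emb {v : Fin n → F} (h : H38.SpSU.Rt F₀ P v) : ∃ u : Fin n → F₀, v = emb P u :=
  ⟨fun i => ⟨_, h i⟩, (H49.gl_mulVec_inv P v).symm⟩

theorem emb_single (j : Fin n) :
    emb P (Pi.single j (1 : F₀)) = (P : Matrix (Fin n) (Fin n) F) *ᵥ Pi.single j 1 := by
  rw [emb]
  congr 1
  funext i
  by_cases h : i = j <;> simp [h]

variable (D : Setting n q F₀ P)
include D

theorem hasRat : HasRat D ((Cfsg.Geo.subfieldSubgroup F₀ P).comap (suHom n F q)) := by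
  intro u _ c hcF _ A hA
  rw [Subgroup.mem_comap, Cfsg.Agent.S5660.mem_subfield_iff]
  refine ⟨1, one_ne_zero, fun i j => ?_⟩
  have e : ((P⁻¹ * suHom n F q A * P : GL (Fin n) F) : Matrix (Fin n) (Fin n) F) i j =
      (((P⁻¹ * suHom n F q A * P : GL (Fin n) F) : Matrix (Fin n) (Fin n) F) *ᵥ
        Pi.single j 1) i := by
    simp
  rw [one_mul, e, Cfsg.Agent.S5660.conj_apply, suHom_val, hA, ← emb_single (F₀ := F₀) j, ut_mulVec,
    Matrix.mulVec_add, Matrix.mulVec_smul, Pi.add_apply, Pi.smul_apply, smul_eq_mul, emb_apply_inv,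
    emb_apply_inv]
  exact add_mem (Subtype.prop _) (mul_mem (mul_mem hcF (D.form _ _)) (Subtype.prop _))

/-- If all rational isotropic vectors go to rational points, so does every rational vector. -/
theorem points (hn : 7 ≤ n) (g : SU n F q)
    (h : ∀ u : Fin n → F₀, RIso D u → u ≠ 0 →
      ∃ (l : F) (w : Fin n → F₀), suMat g *ᵥ emb P u = l • emb P w) :
    suHom n F q g ∈ Cfsg.Geo.subfieldSubgroup F₀ P := by
  have hF := D.hF
  have hcard : 7 ≤ Fintype.card (Fin n) := by rw [Fintype.card_fin]; omega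
  have hinj : Function.Injective (fun y : Fin n → F => suMat g *ᵥ y) := fun y y' hyy => by
    have := congrArg (suMat g⁻¹ *ᵥ ·) hyy
    simp only [suMat_inv_mulVec] at this
    exact this
  obtain ⟨a, hai, -, han⟩ := exists_iso_extend (unitary₀ D) (⊥ : Submodule F₀ (Fin n → F₀))
    (fun x hx y _ => by rw [(Submodule.mem_bot F₀).1 hx, uf_zero_left (unitary₀ D)])
    (by rw [finrank_bot, Fintype.card_fin]; omega)
  have ha : RIso D a := congrArg Subtype.val hai
  have ha0 : a ≠ 0 := fun h0 => han (h0 ▸ Submodule.zero_mem _)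
  obtain ⟨L, wa, hwa⟩ := h a ha ha0
  let S : Submodule F₀ (Fin n → F₀) :=
    { carrier := {u | ∃ w, suMat g *ᵥ emb P u = L • emb P w}
      zero_mem' := ⟨(0 : Fin n → F₀), by rw [emb_zero (F₀ := F₀), Matrix.mulVec_zero, smul_zero]⟩
      add_mem' := by
        rintro x y ⟨w, hw⟩ ⟨w', hw'⟩
        exact ⟨w + w', by rw [emb_add, emb_add, Matrix.mulVec_add, hw, hw', smul_add]⟩
      smul_mem' := by
        rintro c x ⟨w, hw⟩
        exact ⟨c • w, by rw [emb_smul, emb_smul, Matrix.mulVec_smul, hw, smul_comm]⟩ }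
  have haS : a ∈ S := ⟨wa, hwa⟩
  have step : ∀ x y : Fin n → F₀, RIso D x → RIso D y → x ≠ 0 → (∀ k : F₀, y ≠ k • x) →
      Cfsg.hermForm n F q (emb P x) (emb P y) = 0 → x ∈ S → y ∈ S := by
    intro x y hx hy hx0 hind hxy hxS
    obtain ⟨wx, hwx⟩ := hxS
    have hy0 : y ≠ 0 := fun h0 => hind 0 (by rw [h0, zero_smul])
    obtain ⟨l, wy, hwy⟩ := h y hy hy0
    obtain ⟨l', w', hw'⟩ := h (x + y) (riso_add D hx hy hxy) fun h0 =>
      hind (-1) (by rw [neg_smul, one_smul]; exact eq_neg_of_add_eq_zero_right h0)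
    have hL : L ≠ 0 := fun h0 => by
      rw [h0, zero_smul] at hwx
      exact emb_ne_zero hx0 (hinj (hwx.trans (Matrix.mulVec_zero _).symm))
    have hwx0 : wx ≠ 0 := fun h0 => by
      rw [h0, emb_zero, smul_zero] at hwx
      exact emb_ne_zero hx0 (hinj (hwx.trans (Matrix.mulVec_zero _).symm))
    have hl : l ≠ 0 := fun h0 => by
      rw [h0, zero_smul] at hwy
      exact emb_ne_zero hy0 (hinj (hwy.trans (Matrix.mulVec_zero _).symm))
    have hwind : ∀ k : F₀, wy ≠ k • wx := by
      intro k hk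
      have h1 : suMat g *ᵥ emb P y = suMat g *ᵥ ((l * k / L) • emb P x) := by
        rw [Matrix.mulVec_smul, hwx, hwy, hk, emb_smul, smul_smul, smul_smul,
          div_mul_cancel₀ _ hL]
      have h2 := hinj h1
      obtain ⟨i, j, hD⟩ := exists_minor hx0 hind
      have e : ∀ i, (y i : F) = l * k / L * x i := fun i => by
        have := congrFun (congrArg (((P⁻¹ : GL (Fin n) F) : Matrix (Fin n) (Fin n) F) *ᵥ ·) h2) i
        simp only [Matrix.mulVec_smul, Pi.smul_apply, smul_eq_mul, emb_apply_inv] at this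
        exact this
      exact hD (by rw [e i, e j]; ring)
    have hr : L / l ∈ F₀ := ratio_of_rel (P := P) (c := l') (w := w') hwx0 hwind
      (by rw [← hwx, ← hwy, ← Matrix.mulVec_add, ← emb_add, hw']) hl
    have hr' : l / L ∈ F₀ := by rw [← inv_div]; exact F₀.inv_mem hr
    refine ⟨(⟨_, hr'⟩ : F₀) • wy, ?_⟩
    rw [emb_smul, smul_smul, hwy]
    congr 1
    rw [mul_div_cancel₀ _ hL]
  have hiso : ∀ b : Fin n → F₀, RIso D b → b ∈ S := by
    intro b hb
    by_cases hdep : ∃ k : F₀, b = k • a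
    · obtain ⟨k, rfl⟩ := hdep
      exact S.smul_mem k haS
    push Not at hdep
    by_cases hab : Cfsg.hermForm n F q (emb P a) (emb P b) = 0
    · exact step a b ha hb ha0 hdep hab haS
    have hindab : ∀ r s : F₀, r • a + s • b = 0 → r = 0 ∧ s = 0 := by
      intro r s h0
      by_cases hs : s = 0
      · rw [hs, zero_smul, add_zero, smul_eq_zero] at h0
        exact ⟨h0.resolve_right ha0, hs⟩
      · exfalso
        apply hdep (-s⁻¹ * r)
        have h' := congrArg (fun x => s⁻¹ • x) h0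
        simp only [smul_add, smul_smul, smul_zero, inv_mul_cancel₀ hs, one_smul] at h'
        rw [neg_mul, neg_smul, eq_neg_iff_add_eq_zero, ← h']
        abel
    obtain ⟨w, hwi, hwa', hwb', hw0⟩ := exists_iso_two (unitary₀ D) hcard a b hindab 0 0
    have hw : RIso D w := congrArg Subtype.val hwi
    have h1 : Cfsg.hermForm n F q (emb P w) (emb P a) = 0 := congrArg Subtype.val hwa'
    have h2 : Cfsg.hermForm n F q (emb P w) (emb P b) = 0 := congrArg Subtype.val hwb'
    have haw : ∀ k : F₀, w ≠ k • a := fun k hk => by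
      rw [hk, emb_smul, h_smul_left, mul_eq_zero] at h2
      exact hw0 (by rw [hk, show k = 0 from Subtype.ext (h2.resolve_right hab), zero_smul])
    have hwb : ∀ k : F₀, b ≠ k • w := fun k hk => by
      apply hab
      rw [hk, emb_smul, h_smul_right hF, (h_eq_zero_comm hF).1 h1, mul_zero]
    exact step w b hw hb hw0 hwb h2 (step a w ha hw ha0 haw ((h_eq_zero_comm hF).1 h1) haS)
  have hall : ∀ u, u ∈ S := by
    intro u
    by_contra hnm
    obtain ⟨ψ, hψ, hK⟩ := exists_dot_sep _ hnm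
    obtain ⟨y, hy⟩ := ufv_surjective (unitary₀ D) ψ
    have hy0 : y ≠ 0 := fun h0 => hψ (by
      rw [dotProduct_comm, ← hy, ufv_dot (unitary₀ D), h0, uf_zero_right (unitary₀ D)])
    obtain ⟨x, hx, hxy⟩ := exists_iso_one (unitary₀ D) hcard hy0 1
    have := hK x (hiso x (congrArg Subtype.val hx))
    rw [dotProduct_comm, ← hy, ufv_dot (unitary₀ D), hxy] at this
    exact one_ne_zero this
  refine Cfsg.Agent.S5660.mem_of_points (by omega) fun v hv _ => ?_
  obtain ⟨u, rfl⟩ := exists_emb hv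
  obtain ⟨w, hw⟩ := hall u
  exact ⟨L, _, rt_emb w, by rw [suHom_val]; exact hw⟩

omit D

/-- Let F be the field with q² elements, n ≥ 13, and F₀ a subfield with |F| = |F₀| ^ r for an odd prime r. Let P be an invertible matrix such that the standard unitary form takes values in F₀ on the F₀-span of the columns of P. Then the elements of SU_n(q) lying in the subfield group of P (the conjugate by P of the product of GL_n(F₀) with the scalars) form a maximal subgroup of SU_n(q). -/
theorem result {F : Type*} [Field F] [Fintype F] (n q : ℕ) (hF : Fintype.card F = q ^ 2) (hn : 13 ≤ n) (F₀ : Subfield F) (r : ℕ) (hr : r.Prime) (hro : Odd r) (hcard : Fintype.card F = Nat.card F₀ ^ r) (P : Matrix.GeneralLinearGroup (Fin n) F) (hP : Cfsg.Geo.IsFormRationalStructure (Cfsg.hermForm n F q) F₀ 1 P) : Cfsg.Geo.IsMaximalIn (Cfsg.GU n F q ⊓ Cfsg.Geo.specialLinear (Fin n) F) (Cfsg.Geo.subfieldSubgroup F₀ P ⊓ (Cfsg.GU n F q ⊓ Cfsg.Geo.specialLinear (Fin n) F)) := by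
  have D : Setting n q F₀ P := ⟨hF, ⟨r, hr, hro, by rw [Nat.card_eq_fintype_card]; exact hcard⟩,
    fun u v => by
      have := hP (fun i => u i) (fun i => v i) (fun i => (u i).2) (fun i => (v i).2)
      rwa [one_mul] at this⟩
  set H := Cfsg.Geo.subfieldSubgroup F₀ P with hH
  obtain ⟨θ, hθ⟩ : ∃ θ : F, θ ∉ F₀ := by
    by_contra hc
    push Not at hc
    have h1 : Nat.card F₀ = Fintype.card F := by
      rw [Nat.card_congr (Equiv.subtypeUnivEquiv hc), Nat.card_eq_fintype_card]
    rw [h1] at hcard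
    have := Nat.pow_lt_pow_right (Fintype.one_lt_card (α := F)) hr.one_lt
    rw [pow_one, ← hcard] at this
    omega
  have hθ0 : θ ≠ 0 := fun h0 => hθ (h0 ▸ F₀.zero_mem)
  obtain ⟨a, hai, -, han⟩ := exists_iso_extend (unitary₀ D) (⊥ : Submodule F₀ (Fin n → F₀))
    (fun x hx y _ => by rw [(Submodule.mem_bot F₀).1 hx, uf_zero_left (unitary₀ D)])
    (by rw [finrank_bot, Fintype.card_fin]; omega)
  have ha : RIso D a := congrArg Subtype.val hai
  have ha0 : a ≠ 0 := fun h0 => han (h0 ▸ Submodule.zero_mem _)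
  obtain ⟨b, hbi, hba, hbn⟩ := exists_iso_extend (unitary₀ D) (Submodule.span F₀ {a})
    (fun x hx y hy => by
      obtain ⟨s, rfl⟩ := Submodule.mem_span_singleton.1 hx
      obtain ⟨t, rfl⟩ := Submodule.mem_span_singleton.1 hy
      rw [(unitary₀ D).smul_left, uf_smul_right (unitary₀ D), hai, mul_zero, mul_zero])
    (by rw [finrank_span_singleton ha0, Fintype.card_fin]; omega)
  have hind : ∀ k : F₀, b ≠ k • a := fun k hk =>
    hbn (hk ▸ Submodule.smul_mem _ _ (Submodule.mem_span_singleton_self a))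
  have hab : Cfsg.hermForm n F q (emb P a) (emb P b) = 0 := (h_eq_zero_comm hF).1
    (congrArg Subtype.val (hba a (Submodule.mem_span_singleton_self a)))
  have hnp : ∀ (l : F) (u : Fin n → F₀), emb P a + θ • emb P b ≠ l • emb P u := by
    intro l u he
    have h1 : (1 : F) / θ ∈ F₀ := ratio_of_rel (P := P) (c := l) (w := u) ha0 hind (by rw [one_smul]; exact he) hθ0
    exact hθ (by have := F₀.inv_mem h1; rwa [one_div, inv_inv] at this)
  refine ⟨lt_of_le_not_ge inf_le_right fun hle => ?_, fun M hHM hMK => ?_⟩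
  · obtain ⟨t, -, ht⟩ := reach_isotropic hF (by omega) (emb_ne_zero ha0) ha
      (v := emb P a + θ • emb P b) (fun h0 => hnp 0 0 (by rw [h0, zero_smul]))
      (by
        rw [h_add_left, h_add_right hF, h_add_right hF, h_smul_left, h_smul_right hF,
          h_smul_right hF, h_smul_left, show Cfsg.hermForm n F q (emb P a) (emb P a) = 0 from ha,
          show Cfsg.hermForm n F q (emb P b) (emb P b) = 0 from congrArg Subtype.val hbi, hab,
          (h_eq_zero_comm hF).1 hab]
        simp)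
    obtain ⟨l, v, hv, he⟩ :=
      Cfsg.Agent.S5660.point_of_mem (Subgroup.mem_inf.1 (hle (suHom_mem t))).1 (rt_emb a)
    obtain ⟨u, rfl⟩ := exists_emb hv
    rw [suHom_val, ht] at he
    exact hnp l u he
  by_cases hle : M ≤ H
  · exact Or.inl (le_antisymm (le_inf hle hMK) hHM)
  obtain ⟨g, hgM, hgH⟩ := SetLike.not_le_iff_exists.mp hle
  obtain ⟨g', rfl⟩ := exists_suHom_eq (hMK hgM)
  refine Or.inr (le_antisymm hMK fun s hs => ?_)
  obtain ⟨s', rfl⟩ := exists_suHom_eq hs
  set K := M.comap (suHom n F q) with hKdef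
  have hK : HasRat D K := fun u hu c hcF hc A hA =>
    hHM ⟨hasRat D u hu c hcF hc A hA, suHom_mem A⟩
  obtain ⟨u, hu, -, hbad⟩ : ∃ u : Fin n → F₀, RIso D u ∧ u ≠ 0 ∧
      ∀ (l : F) (w : Fin n → F₀), suMat g' *ᵥ emb P u ≠ l • emb P w := by
    by_contra hc
    push Not at hc
    exact hgH (points D (by omega) g' hc)
  obtain ⟨c₀, hc₀0, hc₀⟩ := exists_anti₀ D
  have hc₀' : (c₀ : F) ≠ 0 := fun h0 => hc₀0 (Subtype.ext h0)
  have hz : Mem K (suMat g' *ᵥ emb P u) c₀ := mem_conj D (hK u hu _ c₀.2 hc₀) hgM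
  have hzz : Cfsg.hermForm n F q (suMat g' *ᵥ emb P u) (suMat g' *ᵥ emb P u) = 0 := by
    rw [suMat_h]; exact hu
  have hgood : GoodScalar D K := by
    by_cases hex : ∃ v : Fin n → F₀, RIso D v ∧ v ≠ 0 ∧
        Cfsg.hermForm n F q (suMat g' *ᵥ emb P u) (emb P v) = 0
    · obtain ⟨v, hv, hv0, hzv⟩ := hex
      exact exists_good_of_orth D (by omega) hK hz hc₀' hc₀ c₀.2 hzz hbad hv hv0 hzv
    · push Not at hex
      exact exists_good_of_no_orth D (by omega) hK hz hc₀' hc₀ hzz hex
  have htop := eq_top_of_good D (by omega) hK hgood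
  show s' ∈ K
  rw [htop]
  exact Subgroup.mem_top s'

end Cfsg.Agent.S5658
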