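import Cfsg.Statements.S5667
import Cfsg.Agent.H49.TensorThree

set_option autoImplicit false
open Cfsg
open scoped Kronecker

namespace Cfsg.Agent.S5667

/-- Over the field with 3 elements and for m ≥ 7, suppose the standard alternating form on F^(2m) is similar, through P and e, to the tensor product of a non-degenerate symplectic form f₁ on F^(n₁) and a non-degenerate symmetric bilinear form f₂ on F^3. Then the elements of Sp_2m(3) in the stabiliser of this tensor decomposition form a subgroup that is not maximal: some subgroup lies strictly between it and Sp_2m(3). -/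
theorem result {F : Type*} [Field F] [Fintype F] (m : ℕ) (hm : 7 ≤ m) (hq : Fintype.card F = 3) (n₁ : ℕ) (e : (Fin m ⊕ Fin m) ≃ Fin n₁ × Fin 3) (P : Matrix.GeneralLinearGroup (Fin m ⊕ Fin m) F) (f₁ : (Fin n₁ → F) → (Fin n₁ → F) → F) (f₂ : (Fin 3 → F) → (Fin 3 → F) → F) (hf₁ : Cfsg.Geo.IsSymplecticForm f₁) (hf₂ : Cfsg.Geo.IsSymmetricForm f₂) (hT : Cfsg.Geo.IsTensorFormStructure id (Cfsg.sympForm m F) f₁ f₂ e P) : ∃ K : Subgroup (Matrix.GeneralLinearGroup (Fin m ⊕ Fin m) F), Cfsg.Geo.tensorProductSubgroup n₁ 3 e P ⊓ Cfsg.spGL m F < K ∧ K < Cfsg.spGL m F := by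
  classical
  obtain ⟨c, hc, hT⟩ := hT
  obtain ⟨B, d, hd, hB⟩ := H49.exists_frame_three hq f₂ hf₂
  set G1 := Cfsg.Geo.gramMatrix f₁ with hG1
  set G2 := Cfsg.Geo.gramMatrix f₂ with hG2
  have hBdet : IsUnit B.det := by
    have h := congrArg Matrix.det hB
    rw [Matrix.det_mul, Matrix.det_mul, Matrix.det_transpose, Matrix.det_smul, Matrix.det_one, mul_one] at h
    exact isUnit_iff_ne_zero.2 fun e => pow_ne_zero _ hd (by rw [← h, e, mul_zero])
  have hBB : B * B⁻¹ = 1 := Matrix.mul_nonsing_inv B hBdet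
  have hBB' : B⁻¹ * B = 1 := Matrix.nonsing_inv_mul B hBdet
  set M : Matrix (Fin n₁ × Fin 3) (Fin n₁ × Fin 3) F := (1 : Matrix (Fin n₁) (Fin n₁) F) ⊗ₖ B with hM
  have hMinv : Invertible M := ⟨(1 : Matrix (Fin n₁) (Fin n₁) F) ⊗ₖ B⁻¹,
    by rw [hM, ← Matrix.mul_kronecker_mul, one_mul, hBB', Matrix.one_kronecker_one],
    by rw [hM, ← Matrix.mul_kronecker_mul, one_mul, hBB, Matrix.one_kronecker_one]⟩
  let Φ : (Fin n₁ × Fin 3 → F) ≃ₗ[F] (Fin m ⊕ Fin m → F) :=
    (Matrix.toLinearEquiv' M hMinv).trans ((LinearEquiv.funCongrLeft F F e).trans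
      (Matrix.toLinearEquiv' (P : Matrix (Fin m ⊕ Fin m) (Fin m ⊕ Fin m) F) P.invertible))
  have hΦ : ∀ X, Φ X = (P : Matrix (Fin m ⊕ Fin m) (Fin m ⊕ Fin m) F).mulVec ((M.mulVec X) ∘ e) := fun X => rfl
  set H : Matrix (Fin n₁ × Fin 3) (Fin n₁ × Fin 3) F := G1 ⊗ₖ (1 : Matrix (Fin 3) (Fin 3) F) with hH
  have hcd : c * d ≠ 0 := mul_ne_zero hc hd
  have hbil : ∀ (A N : Matrix (Fin n₁ × Fin 3) (Fin n₁ × Fin 3) F) X Y,
      dotProduct (N.mulVec X) (A.mulVec (N.mulVec Y)) = dotProduct X ((N.transpose * A * N).mulVec Y) := by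
    intro A N X Y
    rw [← Matrix.mulVec_mulVec, ← Matrix.mulVec_mulVec, Matrix.dotProduct_mulVec X, Matrix.vecMul_transpose]
  have hform : ∀ X Y, H48.sf (Φ X) (Φ Y) = c * d * dotProduct X (H.mulVec Y) := by
    intro X Y
    have h1 : H48.sf (Φ X) (Φ Y) = c * dotProduct (M.mulVec X) ((G1 ⊗ₖ G2).mulVec (M.mulVec Y)) := by
      refine (hT (M.mulVec X) (M.mulVec Y)).trans ?_
      simp [Cfsg.Geo.formOfGram, dotProduct, Matrix.mulVec, Finset.mul_sum, mul_assoc, hG1, hG2]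
    have h2 : M.transpose * (G1 ⊗ₖ G2) * M = d • H := by
      rw [hM, ← Matrix.kroneckerMap_transpose, ← Matrix.mul_kronecker_mul, ← Matrix.mul_kronecker_mul,
        Matrix.transpose_one, one_mul, mul_one, hB, Matrix.kronecker_smul]
    rw [h1, hbil, h2, Matrix.smul_mulVec, dotProduct_smul, smul_eq_mul, mul_assoc]
  -- a non-zero entry of the first Gram matrix
  obtain ⟨p₀, q₀, hpq⟩ : ∃ p q, G1 p q ≠ 0 := by
    by_contra hcon
    simp only [not_exists, not_not] at hcon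
    have hcard := Fintype.card_congr e
    simp only [Fintype.card_sum, Fintype.card_prod, Fintype.card_fin] at hcard
    haveI : Nonempty (Fin n₁) := ⟨⟨0, by omega⟩⟩
    obtain ⟨x, hx⟩ := (hf₁.nondegenerate (fun _ => 1) (fun h => one_ne_zero (congrFun h (Classical.arbitrary _)))).2
    apply hx
    let β : LinearMap.BilinForm F (Fin n₁ → F) := LinearMap.mk₂ F f₁ hf₁.bilinear.add_left
      hf₁.bilinear.smul_left hf₁.bilinear.add_right hf₁.bilinear.smul_right
    have hβ : β = 0 := (Pi.basisFun F (Fin n₁)).ext fun p => (Pi.basisFun F (Fin n₁)).ext fun q => by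
      have h : f₁ (Pi.single p 1) (Pi.single q 1) = 0 := hcon p q
      simpa [β] using h
    exact LinearMap.congr_fun (LinearMap.congr_fun hβ _) x
  have hne : p₀ ≠ q₀ := fun h => hpq (by rw [h]; exact hf₁.alternating _)
  have hqp : G1 q₀ p₀ ≠ 0 := by
    rw [show G1 q₀ p₀ = - G1 p₀ q₀ from hf₁.skew _ _]
    exact neg_ne_zero.2 hpq
  have hsingle : ∀ x y : Fin n₁ × Fin 3,
      H48.sf (Φ (Pi.single x 1)) (Φ (Pi.single y 1)) = c * d * H x y := fun x y => by
    rw [hform, Matrix.mulVec_single_one, single_dotProduct, one_mul]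
    rfl
  -- the three blocks
  let D : Fin 3 → Submodule F (Fin m ⊕ Fin m → F) := fun i =>
    ⨅ p : Fin n₁ × Fin 3, ⨅ (_ : p.2 ≠ i), LinearMap.ker ((LinearMap.proj p).comp Φ.symm.toLinearMap)
  have hD : ∀ i v, v ∈ D i ↔ ∀ p : Fin n₁ × Fin 3, p.2 ≠ i → Φ.symm v p = 0 := fun i v => by simp [D]
  let I := Cfsg.spGL m F
  let K := Cfsg.Geo.decompositionStabilizer D ⊓ I
  -- elements of the tensor group
  have htens : ∀ g ∈ Cfsg.Geo.tensorProductSubgroup n₁ 3 e P, ∃ (a : GL (Fin n₁) F) (C : Matrix (Fin 3) (Fin 3) F),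
      ∀ X, ((g : GL (Fin m ⊕ Fin m) F) : Matrix (Fin m ⊕ Fin m) (Fin m ⊕ Fin m) F).mulVec (Φ X) =
        Φ (((a : Matrix (Fin n₁) (Fin n₁) F) ⊗ₖ C).mulVec X) := by
    intro g hg
    obtain ⟨g1, ⟨k, ⟨a, b, hab⟩, rfl⟩, rfl⟩ := hg
    refine ⟨a, B⁻¹ * (b : Matrix (Fin 3) (Fin 3) F) * B, fun X => ?_⟩
    have hMk : M * ((a : Matrix (Fin n₁) (Fin n₁) F) ⊗ₖ (B⁻¹ * (b : Matrix (Fin 3) (Fin 3) F) * B)) =
        (k : Matrix (Fin n₁ × Fin 3) (Fin n₁ × Fin 3) F) * M := by
      rw [hab, hM, ← Matrix.mul_kronecker_mul, ← Matrix.mul_kronecker_mul, one_mul, mul_one, Matrix.mul_assoc B⁻¹,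
        Matrix.mul_nonsing_inv_cancel_left _ _ hBdet]
    rw [hΦ, hΦ, Matrix.mulVec_mulVec X M, hMk]
    show ((P * Cfsg.Geo.glReindex e.symm k * P⁻¹ : GL (Fin m ⊕ Fin m) F) :
      Matrix (Fin m ⊕ Fin m) (Fin m ⊕ Fin m) F).mulVec _ = _
    rw [Matrix.mulVec_mulVec, ← Units.val_mul, inv_mul_cancel_right, Units.val_mul, ← Matrix.mulVec_mulVec,
      ← Matrix.mulVec_mulVec]
    congr 1
    show ((k : Matrix (Fin n₁ × Fin 3) (Fin n₁ × Fin 3) F).submatrix e e).mulVec _ = _
    rw [Matrix.submatrix_mulVec_equiv]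
    congr 2
    funext p
    simp
  have hle : Cfsg.Geo.tensorProductSubgroup n₁ 3 e P ⊓ I ≤ K := by
    rintro g ⟨hg, hgI⟩
    refine ⟨?_, hgI⟩
    obtain ⟨a, C, hgX⟩ := htens g hg
    set A : Matrix (Fin n₁) (Fin n₁) F := (a : Matrix (Fin n₁) (Fin n₁) F) with hA
    have hpres : (A ⊗ₖ C).transpose * H * (A ⊗ₖ C) = H := by
      ext x y
      have h1 : H48.sf (Φ ((A ⊗ₖ C).mulVec (Pi.single x 1))) (Φ ((A ⊗ₖ C).mulVec (Pi.single y 1))) =
          H48.sf (Φ (Pi.single x 1)) (Φ (Pi.single y 1)) := by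
        rw [← hgX, ← hgX]
        exact hgI _ _
      rw [hform, hform, hbil] at h1
      have h2 := mul_left_cancel₀ hcd h1
      simpa [Matrix.mulVec_single_one, single_dotProduct] using h2
    rw [hH, ← Matrix.kroneckerMap_transpose, ← Matrix.mul_kronecker_mul, ← Matrix.mul_kronecker_mul,
      mul_one] at hpres
    set A' := A.transpose * G1 * A with hA'
    have hent : ∀ i j, A' p₀ q₀ * (C.transpose * C) i j = G1 p₀ q₀ * (1 : Matrix (Fin 3) (Fin 3) F) i j :=
      fun i j => congrFun (congrFun hpres (p₀, i)) (q₀, j)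
    have hA0 : A' p₀ q₀ ≠ 0 := fun h => hpq (by simpa [h] using (hent 0 0).symm)
    obtain ⟨π, s, hs, hC⟩ := H49.monomial_three hq C (G1 p₀ q₀ / A' p₀ q₀) (div_ne_zero hpq hA0) (by
      ext i j
      rw [Matrix.smul_apply, smul_eq_mul, div_mul_eq_mul_div, eq_div_iff hA0, mul_comm]
      exact hent i j)
    have hcoord : ∀ (X : Fin n₁ × Fin 3 → F) p j,
        (A ⊗ₖ C).mulVec X (p, π j) = s j * A.mulVec (fun q => X (q, j)) p := by
      intro X p j
      simp only [Matrix.mulVec, dotProduct, Fintype.sum_prod_type, Matrix.kroneckerMap_apply, hC,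
        π.injective.eq_iff, mul_ite, ite_mul, mul_zero, zero_mul, Finset.sum_ite_eq, Finset.mem_univ,
        if_true, Finset.mul_sum]
      exact Finset.sum_congr rfl fun q _ => by ring
    refine ⟨π, fun i => ?_⟩
    have hiff : ∀ X, Φ X ∈ D i ↔ Φ ((A ⊗ₖ C).mulVec X) ∈ D (π i) := by
      intro X
      rw [hD, hD]
      simp only [LinearEquiv.symm_apply_apply]
      constructor
      · rintro h ⟨p, j⟩ hj
        obtain ⟨j, rfl⟩ := π.surjective j
        have : (fun q => X (q, j)) = 0 := funext fun q => h (q, j) fun e => hj (congrArg π e)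
        rw [hcoord, this, Matrix.mulVec_zero]
        simp
      · rintro h ⟨p, j⟩ hj
        have h0 : A.mulVec (fun q => X (q, j)) = A.mulVec 0 := by
          funext p'
          have := h (p', π j) fun e => hj (π.injective e)
          rw [hcoord, mul_eq_zero] at this
          rw [Matrix.mulVec_zero]
          exact this.resolve_left (hs j)
        exact congrFun (Matrix.mulVec_injective_of_isUnit a.isUnit h0) p
    ext v
    rw [Submodule.mem_map]
    constructor
    · rintro ⟨w, hw, rfl⟩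
      obtain ⟨X, rfl⟩ := Φ.surjective w
      rw [Matrix.toLin'_apply, hgX]
      exact (hiff X).1 hw
    · intro hv
      refine ⟨((g⁻¹ : GL (Fin m ⊕ Fin m) F) : Matrix (Fin m ⊕ Fin m) (Fin m ⊕ Fin m) F).mulVec v, ?_, ?_⟩
      · obtain ⟨X, hX⟩ := Φ.surjective
          (((g⁻¹ : GL (Fin m ⊕ Fin m) F) : Matrix (Fin m ⊕ Fin m) (Fin m ⊕ Fin m) F).mulVec v)
        rw [← hX, hiff, ← hgX, hX, Matrix.mulVec_mulVec, ← Units.val_mul, mul_inv_cancel, Units.val_one,
          Matrix.one_mulVec]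
        exact hv
      · rw [Matrix.toLin'_apply, Matrix.mulVec_mulVec, ← Units.val_mul, mul_inv_cancel, Units.val_one,
          Matrix.one_mulVec]
  -- a transvection inside one block
  set v₀ := Φ (Pi.single (p₀, 0) 1) with hv₀
  have hfix : ∀ (t : F) i, ∀ x ∈ D i, H48.tv v₀ t • x ∈ D i := by
    intro t i x hx
    rw [H48.tv_smul]
    rcases eq_or_ne i 0 with rfl | hi
    · refine add_mem hx (Submodule.smul_mem _ _ ((hD _ _).2 fun p hp => ?_))
      rw [hv₀, LinearEquiv.symm_apply_apply, Pi.single_apply, if_neg fun e => hp (by rw [e])]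
    · have hz : H48.sf x v₀ = 0 := by
        obtain ⟨X, rfl⟩ := Φ.surjective x
        rw [hv₀, hform, Matrix.mulVec_single_one, dotProduct, Finset.sum_eq_zero, mul_zero]
        rintro ⟨q, j⟩ -
        rcases eq_or_ne j i with rfl | hj
        · simp [hH, hi]
        · have := (hD _ _).1 hx (q, j) hj
          rw [LinearEquiv.symm_apply_apply] at this
          simp [this]
      rw [hz, mul_zero, zero_smul, add_zero]
      exact hx
  have hL : ∀ s : Matrix.symplecticGroup (Fin m) F, Matrix.toLin' ((H49.spHom m F s : GL (Fin m ⊕ Fin m) F) :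
      Matrix (Fin m ⊕ Fin m) (Fin m ⊕ Fin m) F) =
        (DistribMulAction.toLinearEquiv F (Fin m ⊕ Fin m → F) s).toLinearMap := fun s => LinearMap.ext fun x => rfl
  have hgK : H49.spHom m F (H48.tv v₀ 1) ∈ K := by
    refine ⟨⟨1, fun i => ?_⟩, H49.spHom_mem_spGL _⟩
    rw [hL]
    exact Submodule.eq_of_le_of_finrank_eq (Submodule.map_le_iff_le_comap.2 (hfix 1 i))
      (LinearEquiv.finrank_map_eq _ _)
  have hgT : H49.spHom m F (H48.tv v₀ 1) ∉ Cfsg.Geo.tensorProductSubgroup n₁ 3 e P := by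
    intro hg
    obtain ⟨a, C, hgX⟩ := htens _ hg
    have hcol : ∀ x y : Fin n₁ × Fin 3, (a : Matrix (Fin n₁) (Fin n₁) F) x.1 y.1 * C x.2 y.2 =
        (Pi.single y 1 + (c * d * H y (p₀, 0)) • Pi.single (p₀, 0) 1 : Fin n₁ × Fin 3 → F) x := by
      intro x y
      have h := hgX (Pi.single y 1)
      rw [H49.spHom_mulVec, H48.tv_smul, hv₀, hsingle, one_mul, ← map_smul, ← map_add] at h
      have h' := congrFun (Φ.injective h) x
      rw [h', Matrix.mulVec_single_one]
      rfl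
    have e1 := hcol (p₀, 0) (q₀, 0)
    have e2 := hcol (p₀, 1) (q₀, 1)
    have e3 := hcol (q₀, 1) (q₀, 1)
    simp [hH, hne, hne.symm, Matrix.one_apply] at e1 e2 e3
    rcases e2 with e2 | e2
    · rw [e2, zero_mul] at e1
      exact mul_ne_zero hcd hqp e1.symm
    · rw [e2, mul_zero] at e3
      exact zero_ne_one e3
  -- a transvection across two blocks
  set v₁ := Φ (Pi.single (p₀, 0) 1 + Pi.single (p₀, 1) 1) with hv₁
  have hgI : H49.spHom m F (H48.tv v₁ 1) ∉ K := by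
    rintro ⟨⟨π, hπ⟩, -⟩
    have hw : Φ (Pi.single (q₀, 0) 1) ∈ D 0 := (hD _ _).2 fun p hp => by
      rw [LinearEquiv.symm_apply_apply, Pi.single_apply, if_neg fun e => hp (by rw [e])]
    have himg : H48.tv v₁ 1 • Φ (Pi.single (q₀, 0) 1) ∈ D (π 0) := hπ 0 ▸ ⟨_, hw, rfl⟩
    have hs : H48.sf (Φ (Pi.single (q₀, 0) 1)) v₁ = c * d * G1 q₀ p₀ := by
      rw [hv₁, map_add, map_add, hsingle, hsingle]
      simp [hH, Matrix.one_apply]
    rw [H48.tv_smul, hs, one_mul, hv₁, ← map_smul, ← map_add, hD] at himg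
    simp only [LinearEquiv.symm_apply_apply] at himg
    by_cases h0 : π 0 = 0
    · have := himg (p₀, 1) (by rw [h0]; exact one_ne_zero)
      simp [hcd, hqp] at this
    · have := himg (q₀, 0) (Ne.symm h0)
      simp [hne.symm] at this
  refine ⟨K, lt_of_le_of_ne hle fun h => ?_, lt_of_le_of_ne inf_le_right fun h => ?_⟩
  · apply hgT
    have := hgK
    rw [← h] at this
    exact this.1
  · apply hgI
    show _ ∈ K
    rw [h]
    exact H49.spHom_mem_spGL _

end Cfsg.Agent.S5667
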