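import Cfsg.Statements.S5673
import Cfsg.Agent.H45.OrthStructMain
import Cfsg.Agent.H51.FormAsch.OrthStd

set_option autoImplicit false
open Cfsg

namespace Cfsg.Agent.S5673

/-- Subgroup structure of the odd-dimensional orthogonal groups. Let F be a finite field of odd order and m ≥ 3, let Q be the standard quadratic form x₀² + Σ x_i y_i on F^(2m+1), and let Ω be the commutator subgroup of its isometry group, viewed inside GL_(2m+1)(F). Let H be a subgroup of Ω whose product with the scalar matrices in Ω is not all of Ω. Then either H is contained in a member of one of the geometric classes of subgroups of the isometry group (with the conditions built into InOrthogonalOddClass), or H is in the residual class: modulo scalars it is almost simple, and the perfect preimage of its socle acts absolutely irreducibly, is realisable over no proper subfield, and fixes no non-degenerate unitary form. -/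
theorem result {F : Type*} [Field F] [Fintype F] (hodd : Odd (Fintype.card F)) (m : ℕ) (hm : 3 ≤ m) (H : Subgroup (Matrix.GeneralLinearGroup (Unit ⊕ (Fin m ⊕ Fin m)) F)) (hH : H ≤ Cfsg.Geo.omegaGL (Cfsg.quadFormOdd m F)) (hproper : H ⊔ (Cfsg.Geo.scalars (Unit ⊕ (Fin m ⊕ Fin m)) F ⊓ Cfsg.Geo.omegaGL (Cfsg.quadFormOdd m F)) ≠ Cfsg.Geo.omegaGL (Cfsg.quadFormOdd m F)) : (∃ M : Subgroup (Matrix.GeneralLinearGroup (Unit ⊕ (Fin m ⊕ Fin m)) F), Cfsg.Geo.InOrthogonalOddClass m F M ∧ H ≤ M) ∨ Cfsg.Geo.InOrthogonalResidualClass H := by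
  have h2 : (2 : F) ≠ 0 := H43.two_ne_zero_of_odd_card hodd
  have hcard : Fintype.card (Unit ⊕ (Fin m ⊕ Fin m)) = 2 * m + 1 := by
    simp only [Fintype.card_sum, Fintype.card_unit, Fintype.card_fin]; omega
  rw [← H43.coe_qOdd] at hH
  have hiso := fun g (hg : g ∈ H) => H51.FormAsch.omega_isometry (hH hg)
  have hI : H ≤ Cfsg.isometryGroup F (Cfsg.quadFormOdd m F) := by
    intro g hg
    obtain ⟨g', -, rfl⟩ := hH hg
    rw [← H43.coe_qOdd]
    exact g'.2
  cases H45.OrthStruct.oddOutcome (H43.qOdd_nondeg h2 m) hodd (by omega) ⟨m, hcard⟩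
    H51.FormAsch.std_gram_mem hiso with
  | singular W hW hs h =>
    exact Or.inl ⟨_, Or.inl ⟨W, hW, by simpa only [H43.coe_qOdd] using hs, rfl⟩, le_inf h hI⟩
  | nondeg W hW ht hn h =>
    exact Or.inl ⟨_, Or.inr (Or.inl ⟨W, hW, ht, by simpa only [H43.coe_qOdd] using hn, rfl⟩), le_inf h hI⟩
  | decomp t k D hk hD h =>
    exact Or.inl ⟨_, Or.inr (Or.inr (Or.inl ⟨t, k, D, hk, by simpa only [H43.coe_qOdd] using hD, rfl⟩)),
      le_inf h hI⟩
  | frame t D hp hD h =>
    exact Or.inl ⟨_, Or.inr (Or.inr (Or.inr (Or.inl ⟨t, D, hp, by simpa only [H43.coe_qOdd] using hD, rfl⟩))),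
      le_inf h hI⟩
  | field r K hr hne hK hsa h =>
    exact Or.inl ⟨_, Or.inr (Or.inr (Or.inr (Or.inr (Or.inl
      ⟨r, K, hr, hcard ▸ hne, hK, by simpa only [H43.coe_qOdd] using hsa, rfl⟩)))), le_inf h hI⟩
  | tensor n₁ n₂ e P f₁ f₂ h1 h2' hf₁ hf₂ hs h =>
    exact Or.inl ⟨_, Or.inr (Or.inr (Or.inr (Or.inr (Or.inr (Or.inl
      ⟨n₁, n₂, e, P, f₁, f₂, h1, h2', hf₁, hf₂, by simpa only [H43.coe_qOdd] using hs, rfl⟩))))), le_inf h hI⟩
  | subfield F₀ r P hr hc hR h =>
    exact Or.inl ⟨_, Or.inr (Or.inr (Or.inr (Or.inr (Or.inr (Or.inr (Or.inl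
      ⟨F₀, r, P, hr, hc, by simpa only [H43.coe_qOdd] using hR, rfl⟩)))))), le_inf h hI⟩
  | power k t e P f₁ hk ht hex hf₁ hs h =>
    exact Or.inl ⟨_, Or.inr (Or.inr (Or.inr (Or.inr (Or.inr (Or.inr (Or.inr
      ⟨k, t, e, P, f₁, hk, ht, hex, hf₁, by simpa only [H43.coe_qOdd] using hs, rfl⟩)))))), le_inf h hI⟩
  | residual h => exact Or.inr h

end Cfsg.Agent.S5673
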