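import Cfsg.Statements.S5675
import Cfsg.Agent.H45.NondegFinal

set_option autoImplicit false
open Cfsg

namespace Cfsg.Agent.S5675

/-- Let F be a finite field of odd order q, m ≥ 6, Q the standard quadratic form on F^(2m+1) and Ω the commutator subgroup of its isometry group. Let W be a non-zero subspace of even dimension on which the polar form of Q is non-degenerate; exclude the case q = 3, dim W = 2 with Q vanishing on some line of W (a plus-type plane). Then the elements of Ω stabilising W (equivalently, stabilising its orthogonal complement, of odd dimension) form a maximal subgroup of Ω. -/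
theorem result {F : Type*} [Field F] [Fintype F] (hodd : Odd (Fintype.card F)) (m : ℕ) (hm : 6 ≤ m) (W : Submodule F (Unit ⊕ (Fin m ⊕ Fin m) → F)) (hW0 : W ≠ ⊥) (hev : Even (Module.finrank F W)) (hW : Cfsg.Geo.IsNondegenerateOn (QuadraticMap.polar (Cfsg.quadFormOdd m F)) W) (hex : ¬ (Fintype.card F = 3 ∧ Module.finrank F W = 2 ∧ Cfsg.Geo.IsPlusTypeOn (Cfsg.quadFormOdd m F) W)) : Cfsg.Geo.IsMaximalIn (Cfsg.Geo.omegaGL (Cfsg.quadFormOdd m F)) (Cfsg.Geo.subspaceStabilizer W ⊓ Cfsg.Geo.omegaGL (Cfsg.quadFormOdd m F)) := by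
  have h2 : (2 : F) ≠ 0 := Ring.two_ne_zero (H44.ringChar_ne_two_of_odd_card hodd)
  have hq := H43.qOdd_nondeg (F := F) h2 m
  rw [← H43.coe_qOdd] at hW hex ⊢
  have hcard : Fintype.card (Unit ⊕ (Fin m ⊕ Fin m)) = 2 * m + 1 := by
    simp only [Fintype.card_sum, Fintype.card_unit, Fintype.card_fin]; omega
  have hfin := H43.finrank_orth_add hq W
  rw [Module.finrank_pi, hcard] at hfin
  obtain ⟨j, hj⟩ := hev
  have hW1 : W ≠ ⊤ := fun h => by
    rw [h, finrank_top, Module.finrank_pi, hcard] at hj
    omega
  refine H45.subspaceStabilizer_maximal (by rw [hcard]; omega) _ hq W hW0 hW1 hW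
    (fun g hg => ?_) fun hc U hU hU2 hpl => ?_
  · have h := congrArg (fun X : Submodule F _ => Module.finrank F X) hg
    simp only [LinearEquiv.finrank_map_eq] at h
    omega
  · rcases hU with rfl | rfl
    · refine hex ⟨?_, hU2, hpl⟩
      have h1 : 1 < Fintype.card F := Fintype.one_lt_card
      obtain ⟨r, hr⟩ := hodd
      omega
    · omega

end Cfsg.Agent.S5675
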