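import Cfsg.Statements.S5689
import Cfsg.Agent.H45.NondegFinal

set_option autoImplicit false
open Cfsg

namespace Cfsg.Agent.S5689

/-- Let F be a finite field with q elements, n ≥ 13 even, Q a non-degenerate quadratic form on F^n of minus type (no subspace of dimension n/2 is totally singular), and Ω the commutator subgroup of the isometry group of Q, viewed inside GL_n(F). Let W be a non-zero proper subspace on which the polar form of Q is non-degenerate, not of odd dimension n/2. Exclude the case q ≤ 3 in which W, or its orthogonal complement, is a plane containing a line on which Q vanishes. Then the elements of Ω stabilising W form a maximal subgroup of Ω. -/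
theorem result {F : Type*} [Field F] [Fintype F] {n : ℕ} (hn : 13 ≤ n) (heven : Even n) (Q : (Fin n → F) → F) (hQ : Cfsg.Geo.IsNondegenerateQuadraticForm Q) (hminus : ¬ Cfsg.Geo.IsPlusTypeOn Q ⊤) (W : Submodule F (Fin n → F)) (hW0 : W ≠ ⊥) (hW1 : W ≠ ⊤) (hdim : ¬ (2 * Module.finrank F W = n ∧ Odd (Module.finrank F W))) (hW : Cfsg.Geo.IsNondegenerateOn (QuadraticMap.polar Q) W) (hex : ¬ (Fintype.card F ≤ 3 ∧ (∃ U : Submodule F (Fin n → F), Module.finrank F U = 2 ∧ Cfsg.Geo.IsNondegenerateOn (QuadraticMap.polar Q) U ∧ Cfsg.Geo.IsPlusTypeOn Q U ∧ (U = W ∨ (Cfsg.Geo.AreOrthogonalFor (QuadraticMap.polar Q) U W ∧ Module.finrank F U + Module.finrank F W = n))))) : Cfsg.Geo.IsMaximalIn (Cfsg.Geo.omegaGL Q) (Cfsg.Geo.subspaceStabilizer W ⊓ Cfsg.Geo.omegaGL Q) := by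
  obtain ⟨q, rfl, hq⟩ := H45.exists_quadForm hQ
  have hfin := H43.finrank_orth_add hq W
  rw [Module.finrank_pi, Fintype.card_fin] at hfin
  refine H45.subspaceStabilizer_maximal (by rw [Fintype.card_fin]; omega) q hq W hW0 hW1 hW
    (fun g hg => ?_) fun hc U hU hU2 hpl => ?_
  · have h := congrArg (fun X : Submodule F _ => Module.finrank F X) hg
    simp only [LinearEquiv.finrank_map_eq] at h
    have hk : Even (Module.finrank F W) :=
      Nat.not_odd_iff_even.mp fun ho => hdim ⟨by omega, ho⟩
    obtain ⟨U, hU, hU2⟩ :=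
      H45.exists_singular_half hq (H45.orth_inf_eq_bot_of_nondegenerateOn hW) hk g hg
    exact hminus ⟨U, le_top, hU, by rw [hU2, finrank_top]⟩
  · rcases hU with rfl | rfl
    · exact hex ⟨hc, U, hU2, hW, hpl, Or.inl rfl⟩
    · exact hex ⟨hc, _, hU2, H45.nondegenerateOn_orth hq hW, hpl,
        Or.inr ⟨fun u hu v hv => H45.polB_side' hu hv, by omega⟩⟩

end Cfsg.Agent.S5689
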