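import Cfsg.Statements.S5691
import Cfsg.Agent.H45.PointStab

set_option autoImplicit false
open Cfsg

namespace Cfsg.Agent.S5691

/-- Let F be a finite field with q elements, n ≥ 13 even, Q a non-degenerate quadratic form on F^n (of either type), and Ω the commutator subgroup of the isometry group of Q, viewed inside GL_n(F). Suppose q is even and v is a vector with Q(v) ≠ 0. Then the elements of Ω stabilising the line spanned by v form a maximal subgroup of Ω. -/
theorem result {F : Type*} [Field F] [Fintype F] {n : ℕ} (hn : 13 ≤ n) (heven : Even n) (Q : (Fin n → F) → F) (hQ : Cfsg.Geo.IsNondegenerateQuadraticForm Q) (hchar : ¬ Odd (Fintype.card F)) (v : (Fin n → F)) (hv : Q v ≠ 0) : Cfsg.Geo.IsMaximalIn (Cfsg.Geo.omegaGL Q) (Cfsg.Geo.subspaceStabilizer (Submodule.span F {v}) ⊓ Cfsg.Geo.omegaGL Q) := by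
  obtain ⟨q, rfl, hq⟩ := H45.exists_quadForm hQ
  have h2 : (2 : F) = 0 := by
    by_contra h
    exact hchar (Nat.odd_iff.mpr (FiniteField.odd_card_of_char_ne_two fun hc => h (by
      haveI := ringChar.of_eq hc
      exact CharTwo.two_eq_zero)))
  obtain ⟨r, hr⟩ := H43.isSquare_of_two_eq_zero h2 (q v)
  have hr0 : r ≠ 0 := fun h => hv (by rw [hr, h, mul_zero])
  have hspan : Submodule.span F {r⁻¹ • v} = Submodule.span F {v} :=
    Submodule.span_singleton_smul_eq (IsUnit.mk0 _ (inv_ne_zero hr0)) v
  have hv1 : q (r⁻¹ • v) = 1 := by rw [H43.qmap_smul, hr]; field_simp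
  rw [← hspan]
  exact H45.isMaximalIn_of_orth q _ _ (fun g _ => H45.toGL_mem_subspaceStabilizer_iff q g _)
    (H45.point_stab_maximal hq (by simp; omega) h2 hv1)

end Cfsg.Agent.S5691
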