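import Cfsg.Statements.S5692
import Cfsg.Agent.H45.PlaneFinal

set_option autoImplicit false
open Cfsg

namespace Cfsg.Agent.S5692

/-- Let F be a finite field with q elements, n ≥ 13 even, Q a non-degenerate quadratic form on F^n of plus type (some subspace of dimension n/2 is totally singular), and Ω the commutator subgroup of the isometry group of Q, viewed inside GL_n(F). Let D be a decomposition of F^n into t ≥ 2 pairwise orthogonal, pairwise Q-isometric subspaces of equal dimension k ≥ 2 on which the polar form is non-degenerate, such that: if k is even, either every member is of plus type or t is even; if k is odd, q is odd and the discriminant of Q is a square. Exclude the cases k = 2 with q = 3, k = 2 with plus-type members and q ∈ {2, 4, 5}, k = 3 with q = 3, and k = 4 with plus-type members and q = 2. Then the elements of Ω permuting the members of D form a maximal subgroup of Ω. -/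
theorem result {F : Type*} [Field F] [Fintype F] {n : ℕ} (hn : 13 ≤ n) (heven : Even n) (Q : (Fin n → F) → F) (hQ : Cfsg.Geo.IsNondegenerateQuadraticForm Q) (hplus : Cfsg.Geo.IsPlusTypeOn Q ⊤) {t : ℕ} (k : ℕ) (hk : 2 ≤ k) (D : Fin t → Submodule F (Fin n → F)) (hD : Cfsg.Geo.IsOrthogonalMDecomposition Q k D) (hke : Even k → ((∀ i, Cfsg.Geo.IsPlusTypeOn Q (D i)) ∨ Even t)) (hko : Odd k → (Odd (Fintype.card F) ∧ Cfsg.Geo.HasSquareDiscriminant Q)) (hex : ¬ ((k = 2 ∧ (Fintype.card F = 3 ∨ ((∀ i, Cfsg.Geo.IsPlusTypeOn Q (D i)) ∧ (Fintype.card F = 2 ∨ Fintype.card F = 4 ∨ Fintype.card F = 5)))) ∨ (k = 3 ∧ Fintype.card F = 3) ∨ (k = 4 ∧ Fintype.card F = 2 ∧ ∀ i, Cfsg.Geo.IsPlusTypeOn Q (D i)))) : Cfsg.Geo.IsMaximalIn (Cfsg.Geo.omegaGL Q) (Cfsg.Geo.decompositionStabilizer D ⊓ Cfsg.Geo.omegaGL Q) := by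
  obtain ⟨q, rfl, hq⟩ := H45.exists_quadForm hQ
  have hcard : 10 ≤ Fintype.card (Fin n) := by rw [Fintype.card_fin]; omega
  by_cases hk2 : k = 2
  · subst hk2
    have h3 : Fintype.card F ≠ 3 := fun h => hex (Or.inl ⟨rfl, Or.inl h⟩)
    refine H45.decomposition_maximal_two hcard hq hD h3 ?_
    by_cases hall : ∀ i, Cfsg.Geo.IsPlusTypeOn (⇑q) (D i)
    · refine Or.inl ?_
      have h1 := Fintype.one_lt_card (α := F)
      by_contra h7
      obtain ⟨p, _, e, hp, he⟩ := FiniteField.card' F
      have h6 : Fintype.card F ≠ 6 := by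
        intro h
        have h2 : (2 : ℕ) ∣ p ^ (e : ℕ) := by rw [← he, h]; norm_num
        have h3 : (3 : ℕ) ∣ p ^ (e : ℕ) := by rw [← he, h]; norm_num
        have e2 := (Nat.prime_dvd_prime_iff_eq Nat.prime_two hp).mp (Nat.prime_two.dvd_of_dvd_pow h2)
        have e3 := (Nat.prime_dvd_prime_iff_eq Nat.prime_three hp).mp (Nat.prime_three.dvd_of_dvd_pow h3)
        omega
      have hc : Fintype.card F = 2 ∨ Fintype.card F = 4 ∨ Fintype.card F = 5 := by omega
      exact hex (Or.inl ⟨rfl, Or.inr ⟨hall, hc⟩⟩)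
    · exact Or.inr hall
  · exact H45.decomposition_maximal hcard hq (by omega) hD
      (fun h => hex (Or.inr (Or.inl h)))
      (fun h h2 hall => hex (Or.inr (Or.inr ⟨h, h2, hall⟩)))

end Cfsg.Agent.S5692
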