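import Cfsg.Statements.S5700
import Cfsg.Agent.H49.OrthUnitaryOver
import Cfsg.Agent.H45.OrthTransfer

set_option autoImplicit false
open Cfsg
open Matrix

namespace Cfsg.Agent.S5700

/-- Let F be a finite field with q elements, n ≥ 13 even, Q a non-degenerate quadratic form on F^n (of either type), and Ω the commutator subgroup of the isometry group of Q, viewed inside GL_n(F). Let K be a subfield of the algebra of n × n matrices over F containing the scalars, of degree 2 over F, closed under adjoints for the polar form of Q but not consisting of self-adjoint elements, and such that every k in K rescales Q (Q(k v) = c Q(v) for a constant c depending on k). Then the elements of Ω normalising K form a maximal subgroup of Ω. -/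
theorem result {F : Type*} [Field F] [Fintype F] {n : ℕ} (hn : 13 ≤ n) (heven : Even n) (Q : (Fin n → F) → F) (hQ : Cfsg.Geo.IsNondegenerateQuadraticForm Q) (K : Subalgebra F (Matrix (Fin n) (Fin n) F)) (hK : Cfsg.Geo.IsFieldSubalgebra 2 K) (hac : Cfsg.Geo.IsAdjointClosedFor (QuadraticMap.polar Q) K) (hnsa : ¬ Cfsg.Geo.IsSelfAdjointFor (QuadraticMap.polar Q) K) (hsc : ∀ k ∈ K, ∃ c : F, ∀ v : (Fin n → F), Q (Matrix.mulVec k v) = c * Q v) : Cfsg.Geo.IsMaximalIn (Cfsg.Geo.omegaGL Q) (Cfsg.Geo.subalgebraNormalizer K ⊓ Cfsg.Geo.omegaGL Q) := by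
  classical
  haveI : Nonempty (Fin n) := ⟨⟨0, by omega⟩⟩
  obtain ⟨q, hqQ, hq⟩ := H45.exists_quadForm hQ
  subst hqQ
  have hpol : ∀ x y, QuadraticMap.polar ⇑q x y = H43.polB q x y := fun x y => rfl
  obtain ⟨j, hjK, u, v, huv⟩ : ∃ j ∈ K, ∃ u v, QuadraticMap.polar ⇑q (j *ᵥ u) v ≠ QuadraticMap.polar ⇑q u (j *ᵥ v) := by
    simpa [Cfsg.Geo.IsSelfAdjointFor] using hnsa
  have hjns : ∀ t : F, j ≠ t • 1 := by
    intro t ht
    apply huv
    rw [ht, smul_mulVec, smul_mulVec, one_mulVec, one_mulVec, hpol, hpol, map_smul, map_smul, LinearMap.smul_apply]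
  have hspan : Submodule.span F {(1 : Matrix (Fin n) (Fin n) F), j} = Subalgebra.toSubmodule K := by
    have hli : LinearIndependent F ![(1 : Matrix (Fin n) (Fin n) F), j] := by
      rw [LinearIndependent.pair_iff' one_ne_zero]
      exact fun t => (hjns t).symm
    refine Submodule.eq_of_le_of_finrank_eq ?_ ?_
    · rw [Submodule.span_le, Set.insert_subset_iff, Set.singleton_subset_iff]
      exact ⟨K.one_mem, hjK⟩
    · have h := finrank_span_eq_card hli
      rw [Matrix.range_cons, Matrix.range_cons, Matrix.range_empty, Set.union_empty, Set.singleton_union,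
        Fintype.card_fin] at h
      rw [h]
      exact hK.finrank_eq.symm
  have hmemK : ∀ x, x ∈ K ↔ ∃ a b : F, a • (1 : Matrix (Fin n) (Fin n) F) + b • j = x := fun x => by
    rw [← Subalgebra.mem_toSubmodule, ← hspan, Submodule.mem_span_pair]
  have hextm : ∀ X Y : Matrix (Fin n) (Fin n) F,
      (∀ x y, H43.polB q x (X *ᵥ y) = H43.polB q x (Y *ᵥ y)) → X = Y := by
    intro X Y h
    refine Matrix.ext_iff_mulVec.2 fun y => sub_eq_zero.1 (hq.2 _ fun x => ?_)
    rw [map_sub, h, sub_self]
  obtain ⟨j', hj', hadj⟩ := hac j hjK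
  simp only [hpol] at hadj huv
  obtain ⟨s, b, hsb⟩ := (hmemK _).1 hj'
  have hadj' : ∀ x y, H43.polB q x (j *ᵥ y) = H43.polB q (j' *ᵥ x) y := fun x y => by
    rw [H43.polB_comm (Q := q) (j' *ᵥ x) y, ← hadj, H43.polB_comm]
  have hbm : b = -1 := by
    have h1 : j = s • (1 : Matrix (Fin n) (Fin n) F) + b • j' := hextm _ _ fun x y => by
      rw [hadj']
      conv_lhs => rw [← hsb]
      simp only [add_mulVec, smul_mulVec, one_mulVec, map_add, map_smul, LinearMap.add_apply, LinearMap.smul_apply,
        hadj]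
    have h2 : (s + b * s) • (1 : Matrix (Fin n) (Fin n) F) + (b * b - 1) • j = 0 := by
      rw [← hsb] at h1
      linear_combination (norm := module) -h1
    obtain ⟨k1, k2⟩ : s + b * s = 0 ∧ b * b - 1 = 0 := by
      have hb : b * b - 1 = 0 := by
        by_contra hne
        refine hjns (-((b * b - 1)⁻¹ * (s + b * s))) ?_
        rw [neg_smul, ← smul_smul, ← smul_neg, eq_inv_smul_iff₀ hne]
        linear_combination (norm := module) h2
      rw [hb, zero_smul, add_zero, smul_eq_zero] at h2
      exact ⟨h2.resolve_right one_ne_zero, hb⟩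
    rcases mul_self_eq_one_iff.1 (sub_eq_zero.1 k2) with e | e
    · subst e
      by_cases h2' : (2 : F) = 0
      · linear_combination h2'
      · exfalso
        have hs : s = 0 := (mul_eq_zero.1 (show (2 : F) * s = 0 by linear_combination k1)).resolve_left h2'
        rw [hs, zero_smul, one_smul, zero_add] at hsb
        exact huv (by rw [hadj, ← hsb])
    · exact e
  subst hbm
  let L : (Fin n → F) →ₗ[F] (Fin n → F) := Matrix.toLin' j
  have hL : ∀ w, L w = j *ᵥ w := fun w => rfl
  obtain ⟨c, hc⟩ := hsc j hjK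
  obtain ⟨c', hc'⟩ := hsc _ (K.add_mem K.one_mem hjK)
  have hjj : j' * j = c • (1 : Matrix (Fin n) (Fin n) F) := hextm _ _ fun x y => by
    have e : H43.polB q (j *ᵥ x) (j *ᵥ y) = c * H43.polB q x y := by
      simp only [H43.polB_apply, QuadraticMap.polar, ← mulVec_add, hc]
      ring
    rw [← mulVec_mulVec, ← hadj, e, smul_mulVec, one_mulVec, map_smul, smul_eq_mul]
  have hsq : j * j = s • j - c • (1 : Matrix (Fin n) (Fin n) F) := by
    rw [← hjj, ← hsb, add_mul, smul_mul_assoc, smul_mul_assoc, one_mul]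
    module
  have hadjL : ∀ x y, H43.polB q (L x) y = H43.polB q x (s • y - L y) := fun x y => by
    rw [hL, hL, hadj, ← hsb, add_mulVec, smul_mulVec, smul_mulVec, one_mulVec, neg_one_smul, ← sub_eq_add_neg]
  have h' : ∀ x, H43.polB q x (L x) = (c' - 1 - c) * q x := fun x => by
    have := hc' x
    rw [add_mulVec, one_mulVec, H43.qmap_add, hc] at this
    rw [hL]
    linear_combination this
  have hs' : c' - 1 - c = s := by
    obtain ⟨x, hx⟩ := exists_ne (0 : Fin n → F)
    obtain ⟨y, hy⟩ := H43.exists_polB_ne_zero hq hx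
    have h0 := h' (x + y)
    rw [map_add L, map_add (H43.polB q), LinearMap.add_apply, map_add (H43.polB q x), map_add (H43.polB q y), h',
      h', H43.qmap_add, H43.polB_comm y (L x), hadjL, map_sub, map_smul, smul_eq_mul] at h0
    exact mul_right_cancel₀ hy (by linear_combination -h0)
  have d : H49.UOStr q L s c := by
    refine ⟨hq, fun x => ?_, hadjL, fun x => hc x, fun x => by rw [h', hs'], fun t ht => ?_, ?_⟩
    · rw [hL, hL, mulVec_mulVec, hsq, sub_mulVec, smul_mulVec, smul_mulVec, one_mulVec]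
    · have hne : j - t • 1 ≠ 0 := sub_ne_zero.2 (hjns t)
      obtain ⟨y, -, hy⟩ := hK.inv _ (sub_mem hjK (K.smul_mem K.one_mem t)) hne
      have hprod : (j - (s - t) • (1 : Matrix (Fin n) (Fin n) F)) * (j - t • 1) = 0 := by
        simp only [sub_mul, mul_sub, mul_smul_comm, smul_mul_assoc, one_mul, mul_one, hsq, smul_smul]
        have hc0 : c = (s - t) * t := by linear_combination ht
        rw [hc0]
        module
      have : (j - (s - t) • (1 : Matrix (Fin n) (Fin n) F)) * ((j - t • 1) * y) = 0 := by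
        rw [← mul_assoc, hprod, zero_mul]
      rw [hy, mul_one, sub_eq_zero] at this
      exact hjns _ this
    · obtain ⟨k, hk⟩ := heven
      rw [Module.finrank_pi, Fintype.card_fin]
      omega
  set N := (Cfsg.Geo.subalgebraNormalizer K).comap (H45.toGL q) with hN
  have hcrit : ∀ g : H43.orthGroup q, ∀ a b : F, b ≠ 0 → (∀ x, g.1 (L x) = a • g.1 x + b • L (g.1 x)) → g ∈ N := by
    intro g a b hb hg k
    set U := H45.toGL q g
    have hU : U.1 * j = (a • (1 : Matrix (Fin n) (Fin n) F) + b • j) * U.1 := Matrix.ext_iff_mulVec.2 fun x => by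
      rw [← mulVec_mulVec, ← mulVec_mulVec, H45.toGL_apply, H45.toGL_apply, add_mulVec, smul_mulVec, smul_mulVec,
        one_mulVec]
      exact hg x
    have hUj : U.1 * j * (U⁻¹ : GL (Fin n) F).1 = a • (1 : Matrix (Fin n) (Fin n) F) + b • j := by
      rw [hU, mul_assoc, Units.mul_inv, mul_one]
    constructor
    · intro hk
      obtain ⟨p, r, rfl⟩ := (hmemK _).1 hk
      refine (hmemK _).2 ⟨p + r * a, r * b, ?_⟩
      rw [mul_add, mul_smul_comm, mul_smul_comm, mul_one, add_mul, smul_mul_assoc, smul_mul_assoc, Units.mul_inv, hUj]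
      module
    · intro hk
      obtain ⟨p, r, hpr⟩ := (hmemK _).1 hk
      refine (hmemK _).2 ⟨p - b⁻¹ * r * a, b⁻¹ * r, ?_⟩
      rw [← Units.mul_right_inj U, ← Units.mul_left_inj U⁻¹, ← hpr, mul_add, mul_smul_comm, mul_smul_comm, mul_one,
        add_mul, smul_mul_assoc, smul_mul_assoc, Units.mul_inv, hUj]
      match_scalars <;> field_simp <;> ring
  refine H45.isMaximalIn_of_orth q _ N (fun g _ => Iff.rfl) ⟨lt_of_le_of_ne inf_le_right fun heq => ?_,
    fun M hHM hMC => ?_⟩
  · obtain ⟨g, hg, hgn⟩ := d.exists_not_normal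
    apply hgn
    have hgN : g ∈ N := by
      rw [← heq] at hg
      exact hg.1
    obtain ⟨a, b, hab⟩ := (hmemK _).1 ((hgN j).1 hjK)
    refine ⟨a, b, fun x => ?_⟩
    have h := congrArg (fun X => X *ᵥ ((H45.toGL q g).1 *ᵥ x)) hab
    simp only [add_mulVec, smul_mulVec, one_mulVec] at h
    conv at h => rhs; rw [mulVec_mulVec, mul_assoc, Units.inv_mul, mul_one, ← mulVec_mulVec]
    rw [H45.toGL_apply, H45.toGL_apply] at h
    exact h.symm
  by_cases hle : M ≤ N
  · exact Or.inl (le_antisymm (le_inf hle hMC) hHM)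
  obtain ⟨g, hgM, hgN⟩ := SetLike.not_le_iff_exists.mp hle
  refine Or.inr (le_antisymm hMC ?_)
  obtain ⟨v, hv, hmove⟩ : ∃ v, q v = 0 ∧ g.1 (L v) ∉ d.line (g.1 v) := by
    by_contra hcon
    simp only [not_exists, not_and, not_not] at hcon
    obtain ⟨a, b, hb, hg⟩ := d.normal_of_lines hcon
    exact hgN (hcrit g a b hb hg)
  exact d.commutator_le_of_moves
    (fun x hx hcom => hHM ⟨hcrit x 0 1 one_ne_zero fun y => by rw [zero_smul, zero_add, one_smul]; exact hcom y, hx⟩)
    hgM hv hmove

end Cfsg.Agent.S5700
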