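import Cfsg.Statements.S5701
import Cfsg.Agent.H49.OrthExtMatrix

set_option autoImplicit false
open Cfsg

namespace Cfsg.Agent.S5701

/-- Let F be a finite field with q elements, n ≥ 13 even, Q a non-degenerate quadratic form on F^n (of either type), and Ω the commutator subgroup of the isometry group of Q, viewed inside GL_n(F). Suppose q is odd. Let K be a subfield of the algebra of n × n matrices over F containing the scalars, of prime degree r over F with n/r ≥ 3, whose elements are self-adjoint for the polar form of Q. Then the elements of Ω normalising K form a maximal subgroup of Ω. -/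
theorem result {F : Type*} [Field F] [Fintype F] {n : ℕ} (hn : 13 ≤ n) (heven : Even n) (Q : (Fin n → F) → F) (hQ : Cfsg.Geo.IsNondegenerateQuadraticForm Q) (hodd : Odd (Fintype.card F)) (r : ℕ) (hr : r.Prime) (hnr : 3 * r ≤ n) (K : Subalgebra F (Matrix (Fin n) (Fin n) F)) (hK : Cfsg.Geo.IsFieldSubalgebra r K) (hsa : Cfsg.Geo.IsSelfAdjointFor (QuadraticMap.polar Q) K) : Cfsg.Geo.IsMaximalIn (Cfsg.Geo.omegaGL Q) (Cfsg.Geo.subalgebraNormalizer K ⊓ Cfsg.Geo.omegaGL Q) := by
  classical
  obtain ⟨q, hqQ, hq⟩ := H45.exists_quadForm hQ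
  subst hqQ
  have h2 : (2 : F) ≠ 0 := by
    intro h
    obtain ⟨k, hk⟩ := hodd
    have hc : (2 : ℕ) ∣ Fintype.card F := (FiniteField.even_card_iff_char_two).1 (CharP.ringChar_of_prime_eq_zero Nat.prime_two (by exact_mod_cast h)) |> Nat.dvd_of_mod_eq_zero
    omega
  refine H49.extension_normalizer_maximal q hq h2 (by rw [Fintype.card_fin]; omega) r hr ?_ K hK hsa
  rw [Fintype.card_fin]
  by_contra hlt
  haveI : Nonempty (Fin n) := ⟨⟨0, by omega⟩⟩
  have hF : IsField K := by
    refine ⟨⟨0, 1, zero_ne_one⟩, fun a b => Subtype.ext (hK.comm _ a.2 _ b.2), fun {a} ha => ?_⟩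
    obtain ⟨y, hy, hxy⟩ := hK.inv _ a.2 fun e => ha (Subtype.ext e)
    exact ⟨⟨y, hy⟩, Subtype.ext hxy⟩
  letI : Field K := hF.toField
  have h := Module.finrank_mul_finrank F K (Fin n → F)
  rw [hK.finrank_eq, Module.finrank_pi, Fintype.card_fin] at h
  obtain ⟨j, hj⟩ := heven
  rcases hr.eq_two_or_odd with hr2 | hr2
  · omega
  · have hk : Module.finrank K (Fin n → F) = 3 := by
      have h3 : 3 ≤ Module.finrank K (Fin n → F) :=
        Nat.le_of_mul_le_mul_left (by rw [h, mul_comm]; exact hnr) hr.pos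
      have h4 : Module.finrank K (Fin n → F) < 4 :=
        Nat.lt_of_mul_lt_mul_left (a := r) (by rw [h, mul_comm]; omega)
      omega
    rw [hk] at h
    omega

end Cfsg.Agent.S5701
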