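import Cfsg.Statements.S5707
import Cfsg.Agent.H45.SpinWreath
import Cfsg.Agent.H46.AschBasic

set_option autoImplicit false
open Cfsg

namespace Cfsg.Agent.S5707

/-- Let F be a finite field with q elements, n ≥ 13 even, Q a non-degenerate quadratic form on F^n of plus type (some subspace of dimension n/2 is totally singular), and Ω the commutator subgroup of the isometry group of Q, viewed inside GL_n(F). Suppose q is even and that, through P and e, the polar form of Q is similar to the t-fold tensor power (t ≥ 2) of a non-degenerate symplectic form f₁ on F^k with k ≤ 4 and (q, k) ≠ (2, 2), Q vanishing on the images of all pure tensors. Then the elements of Ω in the stabiliser of this decomposition form a subgroup that is not maximal: some subgroup lies strictly between it and Ω. -/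
theorem result {F : Type*} [Field F] [Fintype F] {n : ℕ} (hn : 13 ≤ n) (heven : Even n) (Q : (Fin n → F) → F) (hQ : Cfsg.Geo.IsNondegenerateQuadraticForm Q) (hplus : Cfsg.Geo.IsPlusTypeOn Q ⊤) (hchar : ¬ Odd (Fintype.card F)) (k t : ℕ) (ht : 2 ≤ t) (hk : k ≤ 4) (hex1 : ¬ (Fintype.card F = 2 ∧ k = 2)) (e : (Fin n) ≃ (Fin t → Fin k)) (P : Matrix.GeneralLinearGroup (Fin n) F) (f₁ : (Fin k → F) → (Fin k → F) → F) (hf₁ : Cfsg.Geo.IsSymplecticForm f₁) (hT : Cfsg.Geo.IsTensorPowerFormStructure id (QuadraticMap.polar Q) f₁ e P) (hpure : (∀ xs : Fin t → (Fin k → F), Q (Matrix.mulVec (P : Matrix (Fin n) (Fin n) F) ((fun a : Fin t → Fin k => ∏ i, xs i (a i)) ∘ e)) = 0)) : ∃ K : Subgroup (Matrix.GeneralLinearGroup (Fin n) F), Cfsg.Geo.tensorWreathSubgroup k t e P ⊓ Cfsg.Geo.omegaGL Q < K ∧ K < Cfsg.Geo.omegaGL Q := by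
  obtain ⟨q, rfl, hq'⟩ := H45.exists_quadForm hQ
  have h2 : (2 : F) = 0 := by
    haveI : CharP F 2 := ringChar.of_eq
      (FiniteField.even_card_iff_char_two.2 (Nat.even_iff.1 (Nat.not_odd_iff_even.1 hchar)))
    exact CharP.cast_eq_zero F 2
  have hcard : k ^ t = n := by
    simpa [Fintype.card_fun] using (Fintype.card_congr e).symm
  have hkeven : Even k := by
    simpa using H46.even_card_of_symplectic hf₁
  have hk0 : k ≠ 0 := by
    rintro rfl
    rw [zero_pow (by omega)] at hcard
    omega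
  obtain ⟨j, rfl⟩ := hkeven
  obtain rfl | rfl : j = 1 ∨ j = 2 := by omega
  · have ht4 : 4 ≤ t := by
      by_contra h
      have : (1 + 1 : ℕ) ^ t ≤ (1 + 1) ^ 3 := Nat.pow_le_pow_right (by norm_num) (by omega)
      omega
    have hskew : f₁ (Pi.single (1 : Fin 2) 1) (Pi.single 0 1) =
        f₁ (Pi.single (0 : Fin 2) 1) (Pi.single 1 1) := by
      rw [hf₁.skew, neg_eq_iff_add_eq_zero]
      linear_combination f₁ (Pi.single (0 : Fin 2) 1) (Pi.single 1 1) * h2
    have hG : Cfsg.Geo.gramMatrix f₁ =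
        f₁ (Pi.single (0 : Fin 2) 1) (Pi.single 1 1) • H45.Slots.hyp F := by
      ext i j
      fin_cases i <;> fin_cases j <;>
        simp [Cfsg.Geo.gramMatrix, H45.Slots.hyp, hf₁.alternating, hskew]
    refine H45.spin_two_nonmax h2 ht4 q e P f₁ _ (fun h0 => ?_) hG hT hpure
    rw [h0, zero_smul] at hG
    let β : LinearMap.BilinForm F (Fin 2 → F) := LinearMap.mk₂ F f₁ hf₁.bilinear.add_left
      hf₁.bilinear.smul_left hf₁.bilinear.add_right hf₁.bilinear.smul_right
    obtain ⟨x, hx⟩ := (hf₁.nondegenerate (Pi.single 0 1) (by simp)).2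
    have hβ : β = 0 := (Pi.basisFun F (Fin 2)).ext fun a => (Pi.basisFun F (Fin 2)).ext fun b => by
      simpa [β, Cfsg.Geo.gramMatrix] using congrFun (congrFun hG a) b
    exact hx (LinearMap.congr_fun (LinearMap.congr_fun hβ _) x)
  · obtain ⟨B, hB⟩ := H45.exists_hyp4_basis h2 hf₁
    exact H45.spin_four_nonmax h2 ht q e P f₁ B hB hT hpure

end Cfsg.Agent.S5707
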