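import Cfsg.Statements.S5712
import Cfsg.Agent.H38.SpRootOrth
import Cfsg.Agent.H38.SpRootTwoMain
import Cfsg.Agent.H38.SpRootSix
import Cfsg.Agent.H45.SympForm
import Cfsg.Agent.H49.StabMax
import Cfsg.Agent.S0247

set_option autoImplicit false
open Cfsg

namespace Cfsg.Agent.S5712

/-- Conjugation by the group preserves the image of a normal subgroup. -/
theorem map_conj_mem {G : Type*} [Group G] {H : Subgroup G} {N : Subgroup H} (hN : N.Normal)
    {g y : G} (hg : g ∈ H) (hy : y ∈ N.map H.subtype) : g * y * g⁻¹ ∈ N.map H.subtype := by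
  obtain ⟨h, hh, rfl⟩ := Subgroup.mem_map.1 hy
  exact Subgroup.mem_map.2 ⟨⟨g, hg⟩ * h * (⟨g, hg⟩ : H)⁻¹, hN.conj_mem h hh ⟨g, hg⟩, rfl⟩

open H38.SpX in
/-- The elements of `X` give all directions at the centre. -/
theorem proj_of_count {F : Type*} [Field F] [Finite F] {ι : Type} [Fintype ι] [DecidableEq ι]
    {B : (ι → F) →ₗ[F] (ι → F) →ₗ[F] F} (S : SForm B) {a : ι → F} (ha : a ≠ 0)
    (X : Subgroup (GL ι F)) (hrel : ∀ x ∈ X, ∃ (v : ι → F) (c : F), B a v = 0 ∧ x = rel B a v c)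
    (hcard : Nat.card X = Nat.card F ^ (Fintype.card ι - 2))
    (hntv : ∀ x ∈ X, ((x : Matrix ι ι F) - 1).rank ≠ 1) : Proj B X a := by
  obtain ⟨b, hab⟩ := exists_value S ha 1
  have htv : ∀ c, rel B a 0 c ∈ X → c = 0 := by
    intro c hc
    by_contra hc0
    refine hntv _ hc ?_
    have hr : LinearMap.range ((rel B a 0 c : Matrix ι ι F) - 1).mulVecLin = F ∙ a := by
      have happ : ∀ x, ((rel B a 0 c : Matrix ι ι F) - 1).mulVecLin x = (c * B x a) • a := fun x => by
        rw [Matrix.mulVecLin_apply, Matrix.sub_mulVec, Matrix.one_mulVec]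
        show H45.act (rel B a 0 c) x - x = _
        rw [act_rel S (map_zero _)]
        simp
      refine le_antisymm ?_ ?_
      · rintro _ ⟨x, rfl⟩
        rw [happ]
        exact Submodule.smul_mem _ _ (Submodule.mem_span_singleton_self a)
      · rw [Submodule.span_singleton_le_iff_mem]
        refine ⟨c⁻¹ • b, ?_⟩
        rw [happ, map_smul, LinearMap.smul_apply, symm S b a, hab, smul_eq_mul, mul_one,
          mul_inv_cancel₀ hc0, one_smul]
    rw [Matrix.rank, hr, finrank_span_singleton ha]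
  let f : (ι → F) →ₗ[F] (Fin 2 → F) := LinearMap.pi ![B a, B b]
  have hU : Nat.card (LinearMap.ker f) = Nat.card F ^ (Fintype.card ι - 2) := by
    rw [Module.natCard_eq_pow_finrank (K := F)]
    have hs : LinearMap.range f = ⊤ := LinearMap.range_eq_top.2 fun c => by
      refine ⟨c 0 • b + c 1 • a, funext fun i => ?_⟩
      fin_cases i <;> simp [f, S.alt, hab, symm S b a]
    have h := f.finrank_range_add_finrank_ker
    rw [hs, finrank_top, Module.finrank_pi, Module.finrank_pi, Fintype.card_fin] at h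
    congr 1
    omega
  have hnorm : ∀ x : X, ∃ v : LinearMap.ker f, ∃ c, (x : GL ι F) = rel B a v c := by
    intro x
    obtain ⟨v, c, hv, e⟩ := hrel x x.2
    refine ⟨⟨v + B b v • a, ?_⟩, c, by rw [e, rel_add_self S hv]⟩
    rw [LinearMap.mem_ker]
    funext i
    fin_cases i <;> simp [f, S.alt, hv, symm S b a, hab, add_self' S]
  choose φ c hφ using hnorm
  have hker : ∀ v : LinearMap.ker f, B a (v : ι → F) = 0 := fun v =>
    congrFun (LinearMap.mem_ker.1 v.2) 0
  have hinj : Function.Injective φ := by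
    intro x y h
    have h1 : (x : GL ι F) * y = rel B a 0 (c x + c y) := by
      rw [hφ x, hφ y, h, rel_mul S (hker _) (hker _), vadd_self S, S.alt, add_zero]
    have h2 := htv _ (h1 ▸ mul_mem x.2 y.2)
    apply Subtype.ext
    rw [hφ x, hφ y, h, show c x = c y by linear_combination h2 - add_self' S (c y)]
  have hbij := (Nat.bijective_iff_injective_and_card φ).2 ⟨hinj, by rw [hcard, hU]⟩
  intro v hv
  have hw : v + B b v • a ∈ LinearMap.ker f := by
    rw [LinearMap.mem_ker]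
    funext i
    fin_cases i <;> simp [f, S.alt, hv, symm S b a, hab, add_self' S]
  obtain ⟨x, hx⟩ := hbij.2 ⟨_, hw⟩
  refine ⟨c x, ?_⟩
  have := hφ x
  rw [hx, rel_add_self S hv] at this
  rw [← this]
  exact x.2

set_option maxHeartbeats 1600000 in
/-- Let F be a finite field of characteristic two, n ≥ 2, V = F^{2n} with the non-degenerate alternating form f(u, v) = Σ (u_i v_{n+i} + u_{n+i} v_i), and G the group of invertible matrices preserving f. Let a ≠ 0 be a vector, H its stabilizer in G, and X a subgroup of O₂(H) of order |F|^{2n−2} no element of which is a transvection (no element g has g − 1 of rank one). If L is a subgroup of G containing X that acts irreducibly on V (no proper non-zero L-invariant subspace), then L = G, or, for some quadratic form Q on V whose polar form is f, L is the isometry group of Q or its subgroup of the isometries g for which g − 1 has even rank, or |F| = 2, n = 2 and L is isomorphic to the alternating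 group of degree 6 or to the symmetric group of degree 5. -/
theorem result {F : Type*} [Field F] [Fintype F] [CharP F 2] {n : ℕ} (hn : 2 ≤ n) (a : (Fin n ⊕ Fin n → F)) (ha : a ≠ 0)
    (X : Subgroup (GL (Fin n ⊕ Fin n) F)) (hXG : X ≤ Cfsg.preserving (Units.coeHom (Matrix (Fin n ⊕ Fin n) (Fin n ⊕ Fin n) F)) (fun u v : (Fin n ⊕ Fin n → F) => ∑ i : Fin n, (u (Sum.inl i) * v (Sum.inr i) + u (Sum.inr i) * v (Sum.inl i))))
    (hXO : ∀ H : Subgroup (GL (Fin n ⊕ Fin n) F),
      (∀ g : GL (Fin n ⊕ Fin n) F, g ∈ H ↔ (g ∈ Cfsg.preserving (Units.coeHom (Matrix (Fin n ⊕ Fin n) (Fin n ⊕ Fin n) F)) (fun u v : (Fin n ⊕ Fin n → F) => ∑ i : Fin n, (u (Sum.inl i) * v (Sum.inr i) + u (Sum.inr i) * v (Sum.inl i))) ∧ Matrix.mulVec (g : Matrix (Fin n ⊕ Fin n) (Fin n ⊕ Fin n) F) a = a)) →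
      X ≤ (Cfsg.pCore 2 ↥H).map H.subtype)
    (hcard : Nat.card ↥X = Fintype.card F ^ (2 * n - 2))
    (hntv : ∀ x ∈ X, ((x : Matrix (Fin n ⊕ Fin n) (Fin n ⊕ Fin n) F) - 1).rank ≠ 1)
    (L : Subgroup (GL (Fin n ⊕ Fin n) F)) (hXL : X ≤ L) (hLG : L ≤ Cfsg.preserving (Units.coeHom (Matrix (Fin n ⊕ Fin n) (Fin n ⊕ Fin n) F)) (fun u v : (Fin n ⊕ Fin n → F) => ∑ i : Fin n, (u (Sum.inl i) * v (Sum.inr i) + u (Sum.inr i) * v (Sum.inl i))))
    (hirr : ∀ W : Submodule F (Fin n ⊕ Fin n → F), (∀ g ∈ L, ∀ w ∈ W, Matrix.mulVec (g : Matrix (Fin n ⊕ Fin n) (Fin n ⊕ Fin n) F) w ∈ W) → W = ⊥ ∨ W = ⊤) :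
    L = Cfsg.preserving (Units.coeHom (Matrix (Fin n ⊕ Fin n) (Fin n ⊕ Fin n) F)) (fun u v : (Fin n ⊕ Fin n → F) => ∑ i : Fin n, (u (Sum.inl i) * v (Sum.inr i) + u (Sum.inr i) * v (Sum.inl i))) ∨
    (∃ Q : QuadraticForm F (Fin n ⊕ Fin n → F), (∀ u v, QuadraticMap.polar ⇑Q u v = (fun u v : (Fin n ⊕ Fin n → F) => ∑ i : Fin n, (u (Sum.inl i) * v (Sum.inr i) + u (Sum.inr i) * v (Sum.inl i))) u v) ∧
      (L = Cfsg.isometryGroup F ⇑Q ∨
        ∀ g : GL (Fin n ⊕ Fin n) F, g ∈ L ↔ (g ∈ Cfsg.isometryGroup F ⇑Q ∧ Even ((g : Matrix (Fin n ⊕ Fin n) (Fin n ⊕ Fin n) F) - 1).rank))) ∨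
    (Fintype.card F = 2 ∧ n = 2 ∧ (Nonempty (↥L ≃* ↥(alternatingGroup (Fin 6))) ∨ Nonempty (↥L ≃* Equiv.Perm (Fin 5)))) := by
  classical
  obtain ⟨B, hB⟩ : ∃ B : (Fin n ⊕ Fin n → F) →ₗ[F] (Fin n ⊕ Fin n → F) →ₗ[F] F, ∀ u v, B u v =
      ∑ i : Fin n, (u (Sum.inl i) * v (Sum.inr i) + u (Sum.inr i) * v (Sum.inl i)) :=
    ⟨LinearMap.mk₂ F (fun u v : (Fin n ⊕ Fin n → F) =>
      ∑ i : Fin n, (u (Sum.inl i) * v (Sum.inr i) + u (Sum.inr i) * v (Sum.inl i)))
      (fun x y z => by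
        simp only [Pi.add_apply, ← Finset.sum_add_distrib]
        exact Finset.sum_congr rfl fun i _ => by ring)
      (fun k x z => by
        simp only [Pi.smul_apply, smul_eq_mul, Finset.mul_sum]
        exact Finset.sum_congr rfl fun i _ => by ring)
      (fun x y z => by
        simp only [Pi.add_apply, ← Finset.sum_add_distrib]
        exact Finset.sum_congr rfl fun i _ => by ring)
      (fun k x z => by
        simp only [Pi.smul_apply, smul_eq_mul, Finset.mul_sum]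
        exact Finset.sum_congr rfl fun i _ => by ring),
     fun u v => rfl⟩
  have h2 : (2 : F) = 0 := CharTwo.two_eq_zero
  have hsymp : ∀ u v, Cfsg.sympForm n F u v = B u v := fun u v => by
    rw [H45.sympForm_eq, hB]
    refine Finset.sum_congr rfl fun i _ => ?_
    rw [CharTwo.sub_eq_add]; ring
  have S : H38.SpX.SForm B := by
    refine ⟨h2, fun x => ?_, fun x hx => ?_⟩
    · rw [← hsymp, H45.sympForm_self]
    · obtain ⟨⟨y, hy⟩, -⟩ := H45.sympForm_nondegenerate n F x hx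
      first
      | exact ⟨y, by rw [← hsymp]; exact hy⟩
      | exact ⟨y, by rw [H38.SpX.symm (⟨h2, fun z => by rw [← hsymp, H45.sympForm_self], fun z hz => by
          obtain ⟨-, y, hy⟩ := H45.sympForm_nondegenerate n F z hz
          exact ⟨y, by rw [← hsymp]; exact hy⟩⟩ : H38.SpX.SForm B), ← hsymp]; exact hy⟩
  have hf : (fun u v : (Fin n ⊕ Fin n → F) => ∑ i : Fin n,
      (u (Sum.inl i) * v (Sum.inr i) + u (Sum.inr i) * v (Sum.inl i))) = fun u v => B u v :=
    funext fun u => funext fun v => (hB u v).symm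
  simp only [hf] at hXG hXO hLG ⊢
  change X ≤ H38.SpX.spG B at hXG
  change L ≤ H38.SpX.spG B at hLG
  -- the root elements in `X`
  obtain ⟨H, hH⟩ : ∃ H : Subgroup (GL (Fin n ⊕ Fin n) F),
      ∀ g, g ∈ H ↔ (g ∈ H38.SpX.spG B ∧ H45.act g a = a) :=
    ⟨{ carrier := {g | g ∈ H38.SpX.spG B ∧ H45.act g a = a}
       one_mem' := ⟨one_mem _, by simp [H45.act]⟩
       mul_mem' := fun {g h} hg hh => ⟨mul_mem hg.1 hh.1, by rw [H45.act_mul, hh.2, hg.2]⟩
       inv_mem' := fun {g} hg => ⟨inv_mem hg.1, by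
         conv_lhs => rw [← hg.2]
         rw [H45.act_inv_act]⟩ }, fun g => Iff.rfl⟩
  have hHc : ∀ (g : GL (Fin n ⊕ Fin n) F) (hg : g ∈ H), ∀ y ∈ (Cfsg.pCore 2 ↥H).map H.subtype,
      g * y * g⁻¹ ∈ (Cfsg.pCore 2 ↥H).map H.subtype :=
    fun g hg y hy => map_conj_mem (H1.pCore_normal' 2 ↥H) hg hy
  have hHle : ∀ y ∈ (Cfsg.pCore 2 ↥H).map H.subtype, y ∈ H := fun y hy =>
    Subgroup.map_subtype_le _ hy
  have hXN : X ≤ (Cfsg.pCore 2 ↥H).map H.subtype := hXO H hH
  have hrel : ∀ x ∈ X, ∃ (v : Fin n ⊕ Fin n → F) (c : F), B a v = 0 ∧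
      x = H38.SpX.rel B a v c := by
    intro x hx
    exact H38.SpX.exists_rel_of_core S ha _ ((H1.isPGroup_pCore 2 ↥H).map H.subtype)
      (fun y hy => (hH y).1 (hHle y hy)) (fun g hg hga y hy => hHc g ((hH g).2 ⟨hg, hga⟩) y hy)
      x (hXN hx)
  have hι : Fintype.card (Fin n ⊕ Fin n) = 2 * n := by
    rw [Fintype.card_sum, Fintype.card_fin]; ring
  have hPa : H38.SpX.Proj B L a := fun v hv => by
    obtain ⟨c, hc⟩ := proj_of_count S ha X hrel
      (by rw [hcard, hι, Nat.card_eq_fintype_card]) hntv v hv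
    exact ⟨c, hXL hc⟩
  -- a second centre
  obtain ⟨g, hg, hga⟩ : ∃ g ∈ L, B a (H45.act g a) ≠ 0 := by
    by_contra hcon
    push Not at hcon
    set W := Submodule.span F {y : Fin n ⊕ Fin n → F | ∃ g ∈ L, H45.act g a = y} with hW
    have hle : W ≤ LinearMap.ker (B a) := by
      rw [hW, Submodule.span_le]
      rintro _ ⟨g, hg, rfl⟩
      exact hcon g hg
    have haW : a ∈ W := Submodule.subset_span ⟨1, one_mem _, by simp [H45.act]⟩
    rcases hirr W (fun g hg w hw => by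
      induction hw using Submodule.span_induction with
      | mem y hy =>
        obtain ⟨h, hh, rfl⟩ := hy
        exact Submodule.subset_span ⟨g * h, mul_mem hg hh, H45.act_mul g h a⟩
      | zero => rw [Matrix.mulVec_zero]; exact zero_mem _
      | add x y _ _ hx hy => rw [Matrix.mulVec_add]; exact add_mem hx hy
      | smul c x _ hx => rw [Matrix.mulVec_smul]; exact Submodule.smul_mem _ _ hx) with h | h
    · exact ha (by rwa [h, Submodule.mem_bot] at haW)
    · obtain ⟨y, hy⟩ := S.nd a ha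
      exact hy (hle (by rw [h]; trivial))
  set t := (B a (H45.act g a))⁻¹ with ht
  have ht0 : t ≠ 0 := inv_ne_zero hga
  set b := t • H45.act g a with hbdef
  have hab : B a b = 1 := by rw [hbdef, map_smul, smul_eq_mul, ht, inv_mul_cancel₀ hga]
  have hPb : H38.SpX.Proj B L b :=
    H38.SpX.proj_smul S ht0 (H38.SpX.proj_conj S hLG hg hPa)
  have hb0 : b ≠ 0 := fun h => by rw [h, map_zero] at hab; exact zero_ne_one hab
  -- two vectors orthogonal to both
  obtain ⟨v, hva, hvb, hv0⟩ : ∃ v, B a v = 0 ∧ B b v = 0 ∧ v ≠ 0 := by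
    let f : (Fin n ⊕ Fin n → F) →ₗ[F] (Fin 2 → F) := LinearMap.pi ![B a, B b]
    have hf1 := f.finrank_range_add_finrank_ker
    have hf2 := Submodule.finrank_le (LinearMap.range f)
    rw [Module.finrank_pi, hι] at hf1
    rw [Module.finrank_pi, Fintype.card_fin] at hf2
    have hne : LinearMap.ker f ≠ ⊥ := fun h => by rw [h, finrank_bot] at hf1; omega
    obtain ⟨v, hv, hv0⟩ := Submodule.exists_mem_ne_zero_of_ne_bot hne
    exact ⟨v, congrFun (LinearMap.mem_ker.1 hv) 0, congrFun (LinearMap.mem_ker.1 hv) 1, hv0⟩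
  by_cases hR : H38.SpX.Rgd B L a
  swap
  · left
    refine le_antisymm hLG ?_
    obtain ⟨c₀, hac, hc₀⟩ : ∃ c, H38.SpX.Rt B L a 0 c ∧ c ≠ 0 := by
      simp only [H38.SpX.Rgd, not_forall] at hR
      obtain ⟨c, h1, h2⟩ := hR
      exact ⟨c, h1, h2⟩
    have hbd : H38.SpX.Rt B L b 0 ((t * t)⁻¹ * c₀) := by
      have h1 := H38.SpX.rt_conj S hLG hg hac
      rw [show H45.act g (0 : Fin n ⊕ Fin n → F) = 0 from Matrix.mulVec_zero _] at h1
      have h2 := H38.SpX.rt_smul S ht0 h1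
      rwa [smul_zero] at h2
    have hd₀ : (t * t)⁻¹ * c₀ ≠ 0 := mul_ne_zero (inv_ne_zero (mul_ne_zero ht0 ht0)) hc₀
    have hfb := H38.SpX.full_of_nonrigid S hLG hab hva hvb hv0 hPa hPb hc₀ hac hd₀ hbd
    have hfa := H38.SpX.full_of_nonrigid S hLG (by rw [H38.SpX.symm S, hab]) hvb hva hv0 hPb hPa
      hd₀ hbd hc₀ hac
    have hbil : Cfsg.Geo.IsBilinearForm fun u v => B u v :=
      ⟨fun x y z => by simp, fun c x z => by simp, fun x y z => by simp, fun c x z => by simp⟩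
    have hnd : Cfsg.Geo.IsNondegenerateForm fun u v => B u v := fun x hx => by
      obtain ⟨y, hy⟩ := S.nd x hx
      refine ⟨⟨y, ?_⟩, ⟨y, ?_⟩⟩ <;> first | exact hy | (show B y x ≠ 0; rw [H38.SpX.symm S]; exact hy)
    refine H45.preserving_le_of_tv_mem hbil S.alt hnd fun p c hp => ?_
    have h := (H38.SpX.fullT_all S hLG hab hfa hfb hPa hp c).2
    convert h using 1
    refine H45.gl_ext fun x => ?_
    rw [H45.act_tv, H38.SpX.act_rel S (map_zero _)]
    simp
  have hA : H38.SpX.Ctr B L a := ⟨ha, hPa, hR⟩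
  have hCb : H38.SpX.Ctr B L b :=
    H38.SpX.ctr_smul S hLG ht0 (H38.SpX.ctr_conj S hLG hg hA)
  by_cases hbig : (∃ x : F, x ≠ 0 ∧ x ≠ 1) ∨ 5 ≤ Fintype.card (Fin n ⊕ Fin n)
  · right; left
    have h4 : 4 ≤ Fintype.card (Fin n ⊕ Fin n) := by omega
    obtain ⟨Q, P⟩ := H38.SpX.exists_frame S hLG hbig hA hCb hab
    have hLQ : L ≤ Cfsg.isometryGroup F ⇑Q := fun g hg =>
      H38.SpX.mem_iso.2 (H38.SpX.le_orth S hLG hbig h4 P hirr g hg)
    refine ⟨Q, fun x y => by rw [QuadraticMap.polar, P.hadd, ← hB]; ring, ?_⟩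
    exact H38.SpX.orth_dichotomy S P.hadd P.qa P.qb hab h4 hbig hLQ
      (H38.SpX.eSub_le_of_two S P.hadd hLQ P.qa P.qb hab
        (fun v hv => H38.SpX.frame_rel S hLG P hv)
        (fun v hv => H38.SpX.frame_rel S hLG (P.swap S hLG) hv))
  push Not at hbig
  obtain ⟨hb2, hsmall⟩ := hbig
  have hn2 : n = 2 := by omega
  subst hn2
  have hbool : ∀ x : F, x = 0 ∨ x = 1 := fun x => (em (x = 0)).imp id (hb2 x)
  have hF2 : Fintype.card F = 2 := by
    rw [← Nat.card_eq_fintype_card]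
    exact Nat.card_eq_two_iff.2
      ⟨0, 1, zero_ne_one, Set.eq_univ_of_forall fun x => (hbool x).imp id id⟩
  have hvn : v ∉ Submodule.span F {a, b} := fun hm => by
    obtain ⟨r, s, rfl⟩ := Submodule.mem_span_pair.1 hm
    simp only [map_add, map_smul, smul_eq_mul, S.alt, hab, H38.SpX.symm S b a, mul_zero, mul_one,
      add_zero, zero_add] at hva hvb
    exact hv0 (by rw [hva, hvb, zero_smul, zero_smul, add_zero])
  obtain ⟨w, hwa, hwb, hvw⟩ := H38.SpX.exists_sep₂ S hvn 1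
  have K : H38.SpX.Two.Basis4 B a b v w :=
    ⟨S, hbool, by rw [hι], hab, hva, hwa, hvb, hwb, hvw⟩
  rcases H38.SpX.Two.main K hLG hA hCb with h120 | ⟨Q, hadd, hQ⟩
  swap
  · right; left
    exact ⟨Q, fun x y => by rw [QuadraticMap.polar, hadd, ← hB]; ring, hQ⟩
  -- the symmetric group of degree six
  obtain ⟨e₆⟩ := Cfsg.Agent.S0247.result hF2
  have hGeq : H38.SpX.spG B = Cfsg.spGL 2 F := by
    ext g
    simp only [H38.SpX.mem_spG]
    constructor
    · intro h x y
      show Cfsg.sympForm 2 F _ _ = _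
      rw [hsymp, hsymp]
      exact h x y
    · intro h x y
      have := h x y
      rw [hsymp, hsymp] at this
      exact this
  let φ : Matrix.symplecticGroup (Fin 2) F →* H38.SpX.spG B :=
    (H49.spHom 2 F).codRestrict _ fun s => by rw [hGeq]; exact H49.spHom_mem_spGL s
  have hφ : Function.Bijective φ := by
    refine ⟨fun x y h => ?_, fun g => ?_⟩
    · have := congrArg (fun z : H38.SpX.spG B => ((z : GL (Fin 2 ⊕ Fin 2) F) :
        Matrix (Fin 2 ⊕ Fin 2) (Fin 2 ⊕ Fin 2) F)) h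
      exact Subtype.ext this
    · obtain ⟨s, hs⟩ := H49.exists_spHom_eq (g := (g : GL (Fin 2 ⊕ Fin 2) F)) (by rw [← hGeq]; exact g.2)
      exact ⟨s, Subtype.ext hs⟩
  let e := (MulEquiv.ofBijective φ hφ).symm.trans e₆
  have hcardL : Nat.card (L.subgroupOf (H38.SpX.spG B)) = Nat.card L :=
    Nat.card_congr (Subgroup.subgroupOfEquivOfLe hLG).toEquiv
  rcases H38.SpX.six_cases e (L.subgroupOf (H38.SpX.spG B)) (hcardL ▸ h120) with h | hi | hi
  · left
    exact le_antisymm hLG (Subgroup.subgroupOf_eq_top.1 h)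
  · obtain ⟨i⟩ := hi
    exact Or.inr (Or.inr ⟨hF2, rfl, Or.inl ⟨(Subgroup.subgroupOfEquivOfLe hLG).symm.trans i⟩⟩)
  · obtain ⟨i⟩ := hi
    exact Or.inr (Or.inr ⟨hF2, rfl, Or.inr ⟨(Subgroup.subgroupOfEquivOfLe hLG).symm.trans i⟩⟩)


end Cfsg.Agent.S5712
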