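import Cfsg.Statements.S5713
import Cfsg.Agent.H46.MinDegree

set_option autoImplicit false
open Cfsg

namespace Cfsg.Agent.S5713

theorem result {G Ω : Type*} [Group G] [Finite G] [MulAction G Ω] [FaithfulSMul G Ω] [Fintype Ω] [DecidableEq Ω]
    (hprim : MulAction.IsPreprimitive G Ω)
    (hA : ¬ alternatingGroup Ω ≤ (MulAction.toPermHom G Ω).range)
    (g : G) (hg : g ≠ 1) :
    (Real.sqrt (Fintype.card Ω) - 1) / 2 ≤ (Fintype.card Ω : ℝ) - Nat.card (MulAction.fixedBy Ω g) := by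
  have hb := H46.card_le_moved_sq hA g hg
  set m := (MulAction.toPerm g : Equiv.Perm Ω).support.card with hm
  have hsplit : Nat.card (MulAction.fixedBy Ω g) + m = Fintype.card Ω := by
    rw [Nat.card_coe_set_eq, hm, ← Set.ncard_coe_finset]
    have : ((MulAction.toPerm g : Equiv.Perm Ω).support : Set Ω) = (MulAction.fixedBy Ω g)ᶜ := by
      ext z; simp [MulAction.mem_fixedBy]
    rw [this, Set.ncard_add_ncard_compl, Nat.card_eq_fintype_card]
  have hR : ((Fintype.card Ω : ℝ)) = (Nat.card (MulAction.fixedBy Ω g) : ℝ) + m := by exact_mod_cast hsplit.symm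
  have hb' : (Fintype.card Ω : ℝ) ≤ 4 * (m : ℝ) ^ 2 + 1 := by exact_mod_cast hb
  have hsq : Real.sqrt (Fintype.card Ω) ≤ 2 * (m : ℝ) + 1 := by
    rw [Real.sqrt_le_left (by positivity)]
    nlinarith [hb', (Nat.cast_nonneg m : (0:ℝ) ≤ m)]
  linarith

end Cfsg.Agent.S5713
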