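import Cfsg.Statements.S5726

set_option autoImplicit false
open Cfsg

namespace Cfsg.Agent.S5726

theorem result {G Ω : Type*} [Group G] [Finite G] [MulAction G Ω] [FaithfulSMul G Ω] [Fintype Ω] (htr : MulAction.IsPretransitive G Ω)
    (p k : ℕ) (hp : p.Prime) (hk : 1 ≤ k) (hΩ : Fintype.card Ω = p ^ k) :
    ∃ g : G, orderOf g = p ∧ ∀ ω : Ω, g • ω ≠ ω := by
  classical
  have : Fact p.Prime := ⟨hp⟩
  have : Nonempty Ω := by
    rw [← Fintype.card_pos_iff, hΩ]; exact pow_pos hp.pos k
  obtain ⟨ω₀⟩ := this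
  obtain ⟨P⟩ : Nonempty (Sylow p G) := inferInstance
  have hidx : (MulAction.stabilizer G ω₀).index = p ^ k := by
    rw [MulAction.index_stabilizer_of_transitive G ω₀, Nat.card_eq_fintype_card, hΩ]
  -- P is transitive
  have hPtr : MulAction.IsPretransitive (P : Subgroup G) Ω := by
    have hle : Nat.card (MulAction.orbit (P : Subgroup G) ω₀) ≤ p ^ k := by
      rw [← hΩ, ← Nat.card_eq_fintype_card]
      exact Nat.card_le_card_of_injective _ Subtype.coe_injective
    have h2 : Nat.card (MulAction.orbit (P : Subgroup G) ω₀) * Nat.card (MulAction.stabilizer (P : Subgroup G) ω₀) = Nat.card (P : Subgroup G) := by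
      rw [← Nat.card_prod]
      exact Nat.card_congr (MulAction.orbitProdStabilizerEquivGroup _ ω₀)
    have hst : Nat.card (MulAction.stabilizer (P : Subgroup G) ω₀) ∣ Nat.card (MulAction.stabilizer G ω₀) := by
      have e := (Subgroup.equivMapOfInjective (MulAction.stabilizer (P : Subgroup G) ω₀) (P : Subgroup G).subtype Subtype.coe_injective).toEquiv
      rw [Nat.card_congr e]
      apply Subgroup.card_dvd_of_le
      rintro x ⟨y, hy, rfl⟩
      exact hy
    obtain ⟨j, hj⟩ := (P.isPGroup'.to_subgroup (MulAction.stabilizer (P : Subgroup G) ω₀)).exists_card_eq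
    have hG := (MulAction.stabilizer G ω₀).card_mul_index
    rw [hidx] at hG
    have hPc : Nat.card (P : Subgroup G) = p ^ (Nat.card G).factorization p := P.card_eq_multiplicity
    have hdvd : p ^ (j + k) ∣ Nat.card G := by
      rw [← hG, pow_add]
      exact mul_dvd_mul_right (hj ▸ hst) _
    have hjk : j + k ≤ (Nat.card G).factorization p :=
      (hp.pow_dvd_iff_le_factorization Nat.card_pos.ne').1 hdvd
    rw [hj, hPc] at h2
    have heq : Nat.card (MulAction.orbit (P : Subgroup G) ω₀) = p ^ k := by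
      refine le_antisymm hle ?_
      by_contra hlt
      rw [not_le] at hlt
      have hh : p ^ (j + k) ≤ p ^ ((Nat.card G).factorization p) := Nat.pow_le_pow_right hp.pos hjk
      rw [← h2, pow_add] at hh
      have := Nat.mul_lt_mul_of_lt_of_le hlt (le_refl (p ^ j)) (pow_pos hp.pos j)
      linarith
    have h1 : MulAction.orbit (P : Subgroup G) ω₀ = Set.univ := by
      apply Set.eq_of_subset_of_ncard_le (Set.subset_univ _)
      rw [Set.ncard_univ, Nat.card_eq_fintype_card, hΩ, ← Nat.card_coe_set_eq, heq]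
    constructor
    intro x y
    have hx : x ∈ MulAction.orbit (P : Subgroup G) ω₀ := h1 ▸ Set.mem_univ x
    have hy : y ∈ MulAction.orbit (P : Subgroup G) ω₀ := h1 ▸ Set.mem_univ y
    obtain ⟨a, rfl⟩ := hx
    obtain ⟨b, rfl⟩ := hy
    exact ⟨b * a⁻¹, by simp [mul_smul]⟩
  have : Nontrivial P := by
    rw [← Finite.one_lt_card_iff_nontrivial]
    have : Nat.card Ω ≤ Nat.card P := Nat.card_le_card_of_surjective (fun g : P => g • ω₀) (fun y => MulAction.exists_smul_eq P ω₀ y)
    rw [Nat.card_eq_fintype_card, hΩ] at this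
    exact lt_of_lt_of_le (Nat.one_lt_pow (by omega) hp.one_lt) this
  have hc := P.isPGroup'.center_nontrivial
  obtain ⟨j, hj⟩ := (P.isPGroup'.to_subgroup (Subgroup.center P)).exists_card_eq
  have hj0 : j ≠ 0 := by
    rintro rfl
    rw [pow_zero] at hj
    exact (Finite.one_lt_card_iff_nontrivial.2 hc).ne' hj
  obtain ⟨z, hz⟩ := exists_prime_orderOf_dvd_card' p (hj ▸ dvd_pow_self p hj0)
  refine ⟨((z : P) : G), ?_, ?_⟩
  · rw [orderOf_submonoid, orderOf_submonoid]; exact hz
  · intro ω hω
    have hone : ((z : P) : G) = 1 := by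
      apply FaithfulSMul.eq_of_smul_eq_smul (α := Ω)
      intro y
      obtain ⟨q, rfl⟩ := MulAction.exists_smul_eq P ω y
      have : (z : P) * q = q * (z : P) := (Subgroup.mem_center_iff.1 z.2 q).symm
      rw [one_smul]
      show (z : P) • q • ω = q • ω
      rw [← mul_smul, this, mul_smul]
      congr 1
    have : orderOf z = 1 := by
      rw [orderOf_eq_one_iff]; exact Subtype.ext (Subtype.ext hone)
    exact hp.ne_one (hz ▸ this)

end Cfsg.Agent.S5726
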