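import Cfsg.Statements.S5727
import Cfsg.Agent.S5726

set_option autoImplicit false
open Cfsg

namespace Cfsg.Agent.S5727

theorem result {G Ω : Type*} [Group G] [Finite G] [MulAction G Ω] [FaithfulSMul G Ω] [Fintype Ω] (htr : MulAction.IsPretransitive G Ω)
    (p m : ℕ) (hp : p.Prime) (hm : 1 ≤ m) (hmp : m ≤ p) (hΩ : Fintype.card Ω = m * p) :
    ∃ g : G, orderOf g = p ∧ ∀ ω : Ω, g • ω ≠ ω := by
  classical
  by_cases hsq : m = p
  · exact S5726.result htr p 2 hp (by norm_num) (by rw [hΩ, hsq, sq])
  have hmlt : m < p := lt_of_le_of_ne hmp hsq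
  have : Fact p.Prime := ⟨hp⟩
  obtain ⟨S⟩ : Nonempty (Sylow p G) := inferInstance
  set P : Subgroup G := (S : Subgroup G) with hPdef
  have hPg : IsPGroup p P := S.isPGroup'
  have hPfin : Fintype P := Fintype.ofFinite P
  have hPc : Nat.card P = p ^ (Nat.card G).factorization p := S.card_eq_multiplicity
  -- every orbit has size p
  have horb : ∀ x : Ω, (MulAction.stabilizer P x).index = p := by
    intro x
    obtain ⟨j, hj⟩ := hPg.index (MulAction.stabilizer P x)
    have hle : p ^ j ≤ Fintype.card Ω := by
      rw [← hj, MulAction.index_stabilizer, ← Nat.card_eq_fintype_card, ← Set.ncard_univ]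
      exact Set.ncard_le_ncard (Set.subset_univ _)
    have hj0 : j ≠ 0 := by
      rintro rfl
      rw [pow_zero, Subgroup.index_eq_one] at hj
      have hle' : P ≤ MulAction.stabilizer G x := fun g hg => by
        have : (⟨g, hg⟩ : P) ∈ MulAction.stabilizer P x := hj ▸ Subgroup.mem_top _
        exact this
      have h1 := Subgroup.card_dvd_of_le hle'
      have h2 := (MulAction.stabilizer G x).card_mul_index
      rw [MulAction.index_stabilizer_of_transitive, Nat.card_eq_fintype_card (α := Ω), hΩ] at h2
      have h3 : p ^ ((Nat.card G).factorization p + 1) ∣ Nat.card G := by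
        rw [← h2, pow_succ]
        rw [hPc, ← h2] at h1
        exact mul_dvd_mul h1 (dvd_mul_left p m)
      have := (hp.pow_dvd_iff_le_factorization Nat.card_pos.ne').1 h3
      omega
    have hj1 : j < 2 := by
      by_contra h
      have h2 : p ^ 2 ≤ p ^ j := Nat.pow_le_pow_right hp.pos (by omega)
      have h3 : m * p < p * p := Nat.mul_lt_mul_of_pos_right hmlt hp.pos
      rw [sq] at h2
      omega
    rw [hj, show j = 1 by omega, pow_one]
  have hnorm : ∀ x : Ω, (MulAction.stabilizer P x).Normal := by
    intro x
    refine Subgroup.normal_of_index_eq_minFac_card ?_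
    rw [horb, hPc]
    rcases Nat.eq_zero_or_pos ((Nat.card G).factorization p) with h0 | h0
    · exfalso
      have := (MulAction.stabilizer P x).index_dvd_card
      rw [horb, hPc, h0, pow_zero] at this
      exact hp.one_lt.ne' (Nat.dvd_one.1 this)
    · rw [Nat.pow_minFac h0.ne', hp.minFac_eq]
  have hconst : ∀ (x : Ω) (g : P), MulAction.stabilizer P (g • x) = MulAction.stabilizer P x := by
    intro x g
    rw [MulAction.stabilizer_smul_eq_stabilizer_map_conj]
    ext h
    constructor
    · rintro ⟨k, hk, rfl⟩
      exact (hnorm x).conj_mem k hk g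
    · intro hh
      refine ⟨g⁻¹ * h * g, ?_, ?_⟩
      · have := (hnorm x).conj_mem h hh g⁻¹
        rwa [inv_inv] at this
      · simp [mul_assoc]
  -- number of orbits
  set Q := Quotient (MulAction.orbitRel P Ω)
  have hQ : Nat.card Q = m := by
    have h := Nat.card_congr (MulAction.selfEquivSigmaOrbits P Ω)
    rw [Nat.card_sigma, Nat.card_eq_fintype_card, hΩ] at h
    have hh : ∀ ω : Q, Nat.card (MulAction.orbit P ω.out) = p := fun ω => by
      rw [Nat.card_coe_set_eq, ← MulAction.index_stabilizer, horb]
    rw [Finset.sum_congr rfl (fun ω _ => hh ω), Finset.sum_const, Finset.card_univ, smul_eq_mul,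
      ← Nat.card_eq_fintype_card] at h
    exact Nat.eq_of_mul_eq_mul_right hp.pos h.symm
  by_contra hno
  push Not at hno
  -- every element of P fixes a point
  have hall : ∀ g : P, g ≠ 1 → ∃ x : Ω, g • x = x := by
    intro g hg1
    by_contra hc
    push Not at hc
    have hgp : g ^ p = 1 := by
      apply Subtype.ext
      apply FaithfulSMul.eq_of_smul_eq_smul (α := Ω)
      intro x
      rw [Subgroup.coe_one, one_smul]
      have := (hnorm x)
      have hm' := (MulAction.stabilizer P x).pow_index_mem g
      rw [horb] at hm'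
      exact hm'
    have hord : orderOf (g : G) = p := by
      rw [orderOf_submonoid]; exact orderOf_eq_prime hgp hg1
    obtain ⟨x, hx⟩ := hno (g : G) hord
    exact hc x hx
  have hcover : (Finset.univ : Finset P).erase 1 ⊆ (Finset.univ : Finset Q).biUnion
      (fun ω => (Finset.univ.filter (fun g : P => g ∈ MulAction.stabilizer P ω.out)).erase 1) := by
    intro g hg
    have hg1 := Finset.ne_of_mem_erase hg
    obtain ⟨x, hx⟩ := hall g hg1
    simp only [Finset.mem_biUnion, Finset.mem_erase, Finset.mem_filter, Finset.mem_univ, true_and]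
    let r : Setoid Ω := MulAction.orbitRel P Ω
    refine ⟨Quotient.mk r x, hg1, ?_⟩
    have hr : (Quotient.mk r x).out ∈ MulAction.orbit P x :=
      MulAction.orbitRel_apply.1 (Quotient.mk_out (s := r) x)
    obtain ⟨k, hk⟩ := hr
    have hk' : k • x = (Quotient.mk r x).out := hk
    rw [← hk', hconst]
    exact hx
  have hle := (Finset.card_le_card hcover).trans Finset.card_biUnion_le
  have hterm : ∀ ω : Q, ((Finset.univ.filter (fun g : P => g ∈ MulAction.stabilizer P ω.out)).erase 1).card + 1
      = Nat.card (MulAction.stabilizer P ω.out) := by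
    intro ω
    rw [Finset.card_erase_add_one (by simp), Nat.card_eq_fintype_card, Fintype.card_subtype]
  obtain ⟨a, ha⟩ : ∃ a, Nat.card P = a * p := by
    obtain ⟨x⟩ : Nonempty Ω := Fintype.card_pos_iff.1 (by rw [hΩ]; exact Nat.mul_pos (by omega) hp.pos)
    refine ⟨Nat.card (MulAction.stabilizer P x), ?_⟩
    have := (MulAction.stabilizer P x).card_mul_index
    rw [horb] at this
    exact this.symm
  have hsum : ∀ ω : Q, ((Finset.univ.filter (fun g : P => g ∈ MulAction.stabilizer P ω.out)).erase 1).card + 1 = a := by
    intro ω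
    rw [hterm]
    have := (MulAction.stabilizer P ω.out).card_mul_index
    rw [horb, ha] at this
    exact Nat.eq_of_mul_eq_mul_right hp.pos this
  rw [Finset.sum_congr rfl (fun ω _ => show _ = a - 1 by have := hsum ω; omega), Finset.sum_const,
    smul_eq_mul, Finset.card_univ, ← Nat.card_eq_fintype_card, hQ,
    Finset.card_erase_of_mem (Finset.mem_univ _), Finset.card_univ, ← Nat.card_eq_fintype_card, ha] at hle
  have hpos : 0 < a := by
    rcases Nat.eq_zero_or_pos a with h | h
    · rw [h, zero_mul] at ha
      exact absurd ha Nat.card_pos.ne'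
    · exact h
  obtain ⟨b, rfl⟩ : ∃ b, a = b + 1 := ⟨a - 1, by omega⟩
  have h2 := hp.two_le
  have : (b + 1) * p = b * p + p := by ring
  have : m * b ≤ p * b := Nat.mul_le_mul_right b hmp
  have : p * b = b * p := mul_comm _ _
  simp only [Nat.add_sub_cancel] at hle
  omega

end Cfsg.Agent.S5727
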