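import Cfsg.Statements.S5728

set_option autoImplicit false
open Cfsg

namespace Cfsg.Agent.S5728

/-- An elusive transitive action. Let p = 2^s − 1 be a prime and let F be the field with p² elements. Inside the group of affine maps x ↦ a·x + b of F (a ≠ 0), consider the subgroup of maps with both coefficients in the prime field. Then every element of prime order of the affine group is conjugate, within the affine group, to an element of that subgroup; equivalently, in the transitive action of the affine group on the cosets of that subgroup (of degree p(p + 1)) every element of prime order fixes a point. -/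
theorem result (p s : ℕ) [Fact p.Prime] (hs : p = 2 ^ s - 1)
    (g : Equiv.Perm (GaloisField p 2)) (hg : g ∈ Cfsg.affineGroup (GaloisField p 2)) (hord : (orderOf g).Prime) :
    ∃ x ∈ Cfsg.affineGroup (GaloisField p 2), ∃ a b : ZMod p, a ≠ 0 ∧
      ∀ y : GaloisField p 2, (x * g * x⁻¹) y = algebraMap (ZMod p) (GaloisField p 2) a * y + algebraMap (ZMod p) (GaloisField p 2) b := by
  classical
  obtain ⟨a, b, hg'⟩ := hg
  have hp : p.Prime := Fact.out
  by_cases ha : (a : GaloisField p 2) = 1
  · -- translations
    have hb : b ≠ 0 := by
      intro h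
      have : g = 1 := Equiv.ext fun x => by simp [hg', ha, h]
      rw [this, orderOf_one] at hord
      exact Nat.not_prime_one hord
    let x : Equiv.Perm (GaloisField p 2) := (Equiv.mulLeft₀ b⁻¹ (inv_ne_zero hb))
    refine ⟨x, ⟨Units.mk0 b⁻¹ (inv_ne_zero hb), 0, fun y => by simp [x]⟩, 1, 1, one_ne_zero, fun y => ?_⟩
    rw [Equiv.Perm.mul_apply, Equiv.Perm.mul_apply, hg', map_one, one_mul]
    have : x⁻¹ y = b * y := by
      rw [Equiv.Perm.inv_eq_iff_eq]
      simp [x, hb]
    rw [this]
    simp only [x, ha, Equiv.mulLeft₀_apply]
    field_simp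
  · set A : GaloisField p 2 := (a : GaloisField p 2) with hA
    have h1a : (1 : GaloisField p 2) - A ≠ 0 := sub_ne_zero.mpr (Ne.symm ha)
    set c := b / (1 - A) with hc
    have hfix : g c = c := by rw [hg', hc]; field_simp; ring
    let x : Equiv.Perm (GaloisField p 2) := Equiv.addRight (-c)
    have hxg : ∀ y, (x * g * x⁻¹) y = A * y := by
      intro y
      have : x⁻¹ y = y + c := by rw [Equiv.Perm.inv_eq_iff_eq]; simp [x]
      rw [Equiv.Perm.mul_apply, Equiv.Perm.mul_apply, this, hg']
      have h2 := hfix
      rw [hg'] at h2
      simp only [x, Equiv.coe_addRight]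
      linear_combination h2
    -- order of A is prime
    have hr : A ^ orderOf g = 1 := by
      have e : ∀ k : ℕ, ∀ y, ((x * g * x⁻¹) ^ k) y = A ^ k * y := by
        intro k
        induction k with
        | zero => intro y; simp
        | succ k ih => intro y; rw [pow_succ', Equiv.Perm.mul_apply, ih, hxg, pow_succ']; ring
      have := e (orderOf g) 1
      rw [conj_pow, pow_orderOf_eq_one, mul_one, mul_inv_cancel, mul_one] at this
      simpa using this.symm
    have hA0 : A ≠ 0 := a.ne_zero
    have hAsub : A ^ p = A := by
      haveI : Fintype (GaloisField p 2) := Fintype.ofFinite _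
      have hcard : A ^ (p ^ 2 - 1) = 1 := by
        rw [← GaloisField.card p 2 two_ne_zero, Nat.card_eq_fintype_card]
        exact FiniteField.pow_card_sub_one_eq_one A hA0
      have hdvd : orderOf A ∣ p - 1 := by
        have h1 : orderOf A = orderOf g := (hord.eq_one_or_self_of_dvd _ (orderOf_dvd_of_pow_eq_one hr)).resolve_left
          (fun h => ha (orderOf_eq_one_iff.mp h))
        have h2 : orderOf A ∣ p ^ 2 - 1 := orderOf_dvd_of_pow_eq_one hcard
        have hs1 : p + 1 = 2 ^ s := by have := hp.two_le; omega
        have h3 : p ^ 2 - 1 = 2 ^ s * (p - 1) := by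
          rw [← hs1]
          have h := Nat.sq_sub_sq p 1
          rwa [one_pow] at h
        rw [h3] at h2
        rcases (h1 ▸ hord).dvd_mul.mp h2 with h | h
        · have := (Nat.prime_dvd_prime_iff_eq (h1 ▸ hord) Nat.prime_two).mp ((h1 ▸ hord).dvd_of_dvd_pow h)
          rw [this]
          rcases hp.eq_two_or_odd with h' | h'
          · exfalso
            have h2s : 2 ^ s = 3 := by omega
            rcases Nat.eq_zero_or_pos s with rfl | hspos
            · simp at h2s
            · have : 2 ∣ 2 ^ s := dvd_pow_self 2 (by omega)
              omega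
          · omega
        · exact h
      have h4 := orderOf_dvd_iff_pow_eq_one.mp hdvd
      calc A ^ p = A ^ (p - 1) * A := by rw [← pow_succ, Nat.sub_add_cancel hp.one_le]
        _ = A := by rw [h4, one_mul]
    have hmem : A ∈ Set.range (algebraMap (ZMod p) (GaloisField p 2)) := by
      have h := (Subfield.mem_bot_iff_pow_eq_self (GaloisField p 2) p).mpr hAsub
      rw [← ZMod.fieldRange_castHom_eq_bot p] at h
      obtain ⟨z, hz⟩ := h
      exact ⟨z, by rw [← hz]; exact congrArg (fun φ : ZMod p →+* GaloisField p 2 => φ z) (Subsingleton.elim _ _)⟩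
    obtain ⟨a', ha'⟩ := hmem
    refine ⟨x, ⟨1, -c, fun y => by simp [x]⟩, a', 0, ?_, fun y => ?_⟩
    · rintro rfl
      rw [map_zero] at ha'
      exact hA0 ha'.symm
    · rw [hxg, ha', map_zero, add_zero]

end Cfsg.Agent.S5728
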