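import Cfsg.Statements.S5729
import Cfsg.Agent.H60.Derangement

set_option autoImplicit false
open Cfsg

namespace Cfsg.Agent.S5729

open MulAction

theorem result {G Ω : Type*} [Group G] [Finite G] [MulAction G Ω] [FaithfulSMul G Ω] [Fintype Ω] (htr : MulAction.IsPretransitive G Ω) (hn : 3 ≤ Fintype.card Ω) :
    ((MulAction.IsPretransitive G Ω ∧ (∃ g : G, g ≠ 1 ∧ ∃ ω : Ω, g • ω = ω) ∧ ∀ g : G, g ≠ 1 → Nat.card (MulAction.fixedBy Ω g) ≤ 1) ∧ Nat.card G = Fintype.card Ω * (Fintype.card Ω - 1) ∧ Fintype.card Ω * Nat.card {g : G // ∀ ω : Ω, g • ω ≠ ω} = Nat.card G) ∨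
    Nat.card G < Fintype.card Ω * Nat.card {g : G // ∀ ω : Ω, g • ω ≠ ω} := by
  classical
  haveI := Fintype.ofFinite G
  set n := Fintype.card Ω with hndef
  haveI : Nonempty Ω := Fintype.card_pos_iff.1 (by omega)
  let F : G → ℕ := fun g => Nat.card (fixedBy Ω g)
  set D := Nat.card {g : G // ∀ ω : Ω, g • ω ≠ ω} with hD
  set r := Nat.card (orbitRel.Quotient G (Ω × Ω)) with hr
  set N := Nat.card G with hN
  have hF0 : ∀ g, F g = 0 ↔ ∀ ω : Ω, g • ω ≠ ω := fun g => by
    simp only [F, Nat.card_eq_zero, or_iff_left (not_infinite_iff_finite.2 inferInstance)]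
    exact ⟨fun h ω e => h.false ⟨ω, e⟩, fun h => ⟨fun x => h x.1 x.2⟩⟩
  have hFn : ∀ g, F g ≤ n := fun g => by
    show Nat.card (fixedBy Ω g) ≤ n
    rw [hndef, ← Nat.card_eq_fintype_card]
    exact Nat.card_le_card_of_injective _ Subtype.coe_injective
  have hpt : ∀ g, F g ^ 2 + n ≤ (n + 1) * F g + n * (if F g = 0 then 1 else 0) := fun g => by
    by_cases h : F g = 0
    · simp [h]
    · rw [if_neg h]
      obtain ⟨j, hj⟩ : ∃ j, F g = j + 1 := ⟨F g - 1, by omega⟩
      obtain ⟨k, hk⟩ : ∃ k, n = j + 1 + k := ⟨n - (j + 1), by have := hFn g; omega⟩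
      rw [hj, hk]
      ring_nf
      omega
  have hs1 : ∑ g : G, F g = N := H60.sum_fix_eq_card (G := G) Ω
  have hs2 : ∑ g : G, F g ^ 2 = r * N := by
    rw [hr, hN, ← H60.sum_fix_eq (G := G) (Ω × Ω)]
    exact Finset.sum_congr rfl fun g _ => (H60.card_fixedBy_prod Ω g).symm
  have hs0 : ∑ g : G, (if F g = 0 then 1 else 0) = D := by
    rw [Finset.sum_boole, Nat.cast_id, hD, Nat.card_eq_fintype_card, Fintype.card_subtype]
    simp only [hF0]
  have hcard : ∑ _g : G, n = N * n := by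
    rw [Finset.sum_const, Finset.card_univ, smul_eq_mul, hN, Nat.card_eq_fintype_card]
  have hle : r * N + N * n ≤ (n + 1) * N + n * D := by
    have := Finset.sum_le_sum (s := Finset.univ) (fun g _ => hpt g)
    rw [Finset.sum_add_distrib, Finset.sum_add_distrib, hs2, hcard, ← Finset.mul_sum, hs1,
      ← Finset.mul_sum, hs0] at this
    exact this
  have hr2 : 2 ≤ r := by
    obtain ⟨a, b, hab⟩ : ∃ a b : Ω, a ≠ b := Fintype.one_lt_card_iff.1 (by omega)
    rw [hr]
    by_contra h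
    have hsub : Subsingleton (orbitRel.Quotient G (Ω × Ω)) :=
      Finite.card_le_one_iff_subsingleton.1 (by omega)
    have := (pretransitive_iff_subsingleton_quotient G (Ω × Ω)).2 hsub
    obtain ⟨g, hg⟩ := exists_smul_eq G ((a, a) : Ω × Ω) (a, b)
    exact hab (((congrArg Prod.fst hg).symm).trans (congrArg Prod.snd hg))
  have hN0 : 0 < N := Nat.card_pos
  by_cases hlt : N < n * D
  · exact Or.inr hlt
  left
  have hr2' : r = 2 := by
    by_contra h
    have : 3 * N ≤ r * N := Nat.mul_le_mul_right N (by omega)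
    have : N * n = n * N := mul_comm _ _
    rw [add_mul, one_mul] at hle
    omega
  have hnD : n * D = N := by
    rw [hr2', add_mul, one_mul, mul_comm N n] at hle
    omega
  have heq : ∑ g : G, (F g ^ 2 + n) = ∑ g : G, ((n + 1) * F g + n * (if F g = 0 then 1 else 0)) := by
    rw [Finset.sum_add_distrib, Finset.sum_add_distrib, hs2, hcard, ← Finset.mul_sum, hs1,
      ← Finset.mul_sum, hs0, hr2', hnD]
    ring
  have hpw := (Finset.sum_eq_sum_iff_of_le fun g _ => hpt g).1 heq
  have hfrob : ∀ g : G, g ≠ 1 → F g ≤ 1 := by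
    intro g hg
    by_contra h2
    have h := hpw g (Finset.mem_univ g)
    rw [if_neg (by omega), mul_zero, add_zero] at h
    have hne : F g ≠ n := fun e => by
      apply hg
      apply FaithfulSMul.eq_of_smul_eq_smul (α := Ω)
      intro x
      rw [one_smul]
      have : fixedBy Ω g = Set.univ := by
        apply Set.eq_of_subset_of_ncard_le (Set.subset_univ _)
        · rw [Set.ncard_univ, ← Nat.card_coe_set_eq, Nat.card_eq_fintype_card]
          exact le_of_eq e.symm
      exact Set.eq_univ_iff_forall.1 this x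
    obtain ⟨j, hj⟩ : ∃ j, F g = j + 2 := ⟨F g - 2, by omega⟩
    obtain ⟨k, hk⟩ : ∃ k, n = j + 2 + (k + 1) := ⟨n - (j + 3), by have := hFn g; omega⟩
    rw [hj, hk] at h
    ring_nf at h
    omega
  have hcardG : N = n * (n - 1) := by
    have hsum : ∑ g ∈ Finset.univ.erase (1 : G), F g ^ 2 = ∑ g ∈ Finset.univ.erase (1 : G), F g :=
      Finset.sum_congr rfl fun g hg => by
        have := hfrob g (Finset.ne_of_mem_erase hg)
        interval_cases (F g) <;> simp
    have hF1 : F 1 = n := by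
      show Nat.card (fixedBy Ω (1 : G)) = n
      rw [fixedBy_one_eq_univ, Nat.card_univ, Nat.card_eq_fintype_card]
    rw [← Finset.add_sum_erase _ _ (Finset.mem_univ (1 : G)), hF1] at hs1 hs2
    rw [hsum, hr2'] at hs2
    obtain ⟨k, hk⟩ : ∃ k, n = k + 1 := ⟨n - 1, by omega⟩
    rw [hk] at hs1 hs2 ⊢
    rw [Nat.add_sub_cancel]
    ring_nf at hs1 hs2 ⊢
    omega
  refine ⟨⟨htr, ?_, hfrob⟩, hcardG, hnD⟩
  obtain ⟨ω⟩ := (inferInstance : Nonempty Ω)
  have hst := (stabilizer G ω).card_mul_index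
  rw [index_stabilizer_of_transitive, Nat.card_eq_fintype_card (α := Ω), ← hndef, ← hN, hcardG,
    mul_comm] at hst
  have h2 : 1 < Nat.card (stabilizer G ω) := by
    have := Nat.eq_of_mul_eq_mul_left (by omega : 0 < n) hst
    omega
  haveI := Finite.one_lt_card_iff_nontrivial.1 h2
  obtain ⟨⟨g, hg⟩, hg1⟩ := exists_ne (1 : stabilizer G ω)
  exact ⟨g, fun e => hg1 (Subtype.ext e), ω, hg⟩

end Cfsg.Agent.S5729
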