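import Cfsg.Statements.S5730
import Cfsg.Agent.H35.Derangements3

set_option autoImplicit false
open Cfsg MulAction H35.Der

namespace Cfsg.Agent.S5730

/-- Let a finite group G act faithfully and transitively on a set with n ≥ 7 points. Then either G is a Frobenius permutation group (Frobenius as a permutation group: transitive, some non-identity element fixes a point, and no non-identity element fixes two points) of order n(n − 1)/a with a ∈ {1, 2}, in which case exactly a|G|/n of its elements are derangements, or the number of derangements is at least 2|G|/n. (Equality does occur: PSL₃(2) acting on the 7 points of the Fano plane has exactly 2|G|/7 derangements.) -/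
theorem result {G Ω : Type*} [Group G] [Finite G] [MulAction G Ω] [FaithfulSMul G Ω] [Fintype Ω] (htr : MulAction.IsPretransitive G Ω) (hn : 7 ≤ Fintype.card Ω) :
    (∃ a : ℕ, (a = 1 ∨ a = 2) ∧ (MulAction.IsPretransitive G Ω ∧ (∃ g : G, g ≠ 1 ∧ ∃ ω : Ω, g • ω = ω) ∧ ∀ g : G, g ≠ 1 → Nat.card (MulAction.fixedBy Ω g) ≤ 1) ∧ a * Nat.card G = Fintype.card Ω * (Fintype.card Ω - 1) ∧ Fintype.card Ω * Nat.card {g : G // ∀ ω : Ω, g • ω ≠ ω} = a * Nat.card G) ∨
    2 * Nat.card G ≤ Fintype.card Ω * Nat.card {g : G // ∀ ω : Ω, g • ω ≠ ω} := by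
  classical
  haveI : Fintype G := Fintype.ofFinite G
  haveI hne : Nonempty Ω := Fintype.card_pos_iff.1 (by omega)
  obtain ⟨n, hnn⟩ : ∃ n, n = Fintype.card Ω := ⟨_, rfl⟩
  have hδ : Nat.card {g : G // ∀ ω : Ω, g • ω ≠ ω} = nder G Ω := rfl
  have e1 : (∑ g : G, ((fix Ω g).card : ℤ)) = Nat.card G := by exact_mod_cast moment_one_eq htr
  have e3 : (∑ g : G, (1 : ℤ)) = Nat.card G := by simp [Nat.card_eq_fintype_card]
  let φ : G → ℤ := fun g => (((fix Ω g).card : ℤ) - 1) * (((fix Ω g).card : ℤ) - n)
  let ψ : G → ℤ := fun g => (n : ℤ) * (if ∀ ω : Ω, g • ω ≠ ω then 1 else 0)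
  have hφ : ∑ g : G, φ g = (∑ g : G, ((fix Ω g).card : ℤ) * (fix Ω g).card) - (n + 1) * Nat.card G
      + n * Nat.card G := by
    have : ∀ g : G, φ g = ((fix Ω g).card : ℤ) * (fix Ω g).card - (n + 1) * ((fix Ω g).card : ℤ) + n * 1 :=
      fun g => by simp only [φ]; ring
    rw [Finset.sum_congr rfl fun g _ => this g]
    simp only [Finset.sum_add_distrib, Finset.sum_sub_distrib, ← Finset.mul_sum]
    rw [e1, e3]
  have hψ : ∑ g : G, ψ g = (n : ℤ) * nder G Ω := by
    simp only [ψ, ← Finset.mul_sum, Finset.sum_boole]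
    rw [nder, Nat.card_eq_fintype_card, Fintype.card_subtype]
  have hd0 : ∀ g : G, (∀ ω : Ω, g • ω ≠ ω) ↔ (fix Ω g).card = 0 := by
    intro g
    rw [Finset.card_eq_zero, Finset.eq_empty_iff_forall_notMem]
    simp [mem_fix]
  have hle : ∀ g : G, φ g ≤ ψ g := by
    intro g
    have hu : (fix Ω g).card ≤ n := hnn ▸ Finset.card_le_univ _
    by_cases hd : ∀ ω : Ω, g • ω ≠ ω
    · simp only [φ, ψ, if_pos hd, (hd0 g).1 hd]; push_cast; linarith
    · have h0 : 1 ≤ (fix Ω g).card := Nat.one_le_iff_ne_zero.2 fun e => hd ((hd0 g).2 e)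
      simp only [φ, ψ, if_neg hd, mul_zero]
      exact mul_nonpos_of_nonneg_of_nonpos (by omega) (by omega)
  by_cases hsplit : ∀ a b c : Ω, b ≠ a → c ≠ a → c ∈ orb G a a b
  · have ht : TwoTrans G Ω := by
      intro a b a' b' hab hab'
      obtain ⟨g, rfl⟩ := htr.exists_smul_eq a a'
      obtain ⟨k, hk, hk'⟩ := mem_orb.1 (hsplit (g • a) (g • b) b' (fun e => hab (smul_left_cancel g e).symm) hab'.symm)
      exact ⟨k * g, by rw [mul_smul]; exact hk.1, by rw [mul_smul]; exact hk'⟩
    obtain ⟨a⟩ := hne
    obtain ⟨b, hb⟩ := Fintype.exists_ne_of_one_lt_card (by omega) a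
    have hab : a ≠ b := hb.symm
    rcases (show 1 ≤ Nat.card (st2 a b : Subgroup G) from Nat.card_pos).eq_or_lt' with h1 | h2
    · left
      have hG := card_group ht hab
      rw [h1, mul_one, ← hnn] at hG
      have hone : ∀ g : G, g ≠ 1 → (fix Ω g).card ≤ 1 := by
        intro g hg
        rw [Finset.card_le_one]
        intro p hp q hq
        by_contra hpq
        have hc : Nat.card (st2 p q : Subgroup G) = 1 := (card_st2 ht hab hpq).trans h1
        rw [Subgroup.card_eq_one, Subgroup.eq_bot_iff_forall] at hc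
        exact hg (hc g ⟨mem_fix.1 hp, mem_fix.1 hq⟩)
      have heq : ∀ g : G, φ g = ψ g := by
        intro g
        by_cases hd : ∀ ω : Ω, g • ω ≠ ω
        · simp only [φ, ψ, if_pos hd, (hd0 g).1 hd]; push_cast; ring
        · have h0 : 1 ≤ (fix Ω g).card := Nat.one_le_iff_ne_zero.2 fun e => hd ((hd0 g).2 e)
          simp only [φ, ψ, if_neg hd, mul_zero]
          by_cases hg : g = 1
          · have : (fix Ω g).card = n := by
              rw [hnn, ← Finset.card_univ]; congr 1; ext c; simp [mem_fix, hg]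
            rw [this]; ring
          · rw [show (fix Ω g).card = 1 by have := hone g hg; omega]; push_cast; ring
      have hs := Finset.sum_congr rfl fun g (_ : g ∈ (Finset.univ : Finset G)) => heq g
      have e2 : (∑ g : G, ((fix Ω g).card : ℤ) * (fix Ω g).card) = 2 * Nat.card G := by
        exact_mod_cast moment_two_eq ht (by omega)
      rw [hφ, hψ, e2] at hs
      refine ⟨1, Or.inl rfl, ⟨htr, ?_, fun g hg => ?_⟩, by rw [one_mul, hG, hnn], ?_⟩
      · by_contra hc
        have h3 := card_st2_mul ht hab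
        have : stabilizer G a = ⊥ := (Subgroup.eq_bot_iff_forall _).2
          fun g hg => by_contra fun e => hc ⟨g, e, a, hg⟩
        rw [this, Subgroup.card_bot, h1] at h3
        omega
      · rw [show fixedBy Ω g = (fix Ω g : Set Ω) by ext c; simp [mem_fix], Nat.card_coe_set_eq,
          Set.ncard_coe_finset]
        exact hone g hg
      · rw [hδ, one_mul, ← hnn]
        zify
        linarith
    · right
      rw [hδ]
      exact criterion ht hab h2 (not_lt.1 (not_fail ht hn hab h2))
  · right
    simp only [not_forall] at hsplit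
    obtain ⟨a, b, c, hb, hc, hbc⟩ := hsplit
    have horb : ∀ d : Ω, ∑ e ∈ orb G a a d, Nat.card (st2 a e : Subgroup G) = Nat.card (stabilizer G a) := by
      intro d
      have h := card_orb_mul (G := G) a a d
      rw [st3_self, st2_self] at h
      rw [← h]
      refine Finset.sum_const_nat fun e he => ?_
      have := st3_card_of_mem_orb he
      rwa [st3_self, st3_self] at this
    have haa : orb G a a a = {a} := by
      ext d
      simp only [mem_orb, Finset.mem_singleton, st2_self, mem_stabilizer_iff]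
      exact ⟨fun ⟨g, hg, e⟩ => e ▸ hg, fun e => ⟨1, one_smul _ _, by rw [e, one_smul]⟩⟩
    have hd1 : Disjoint (orb G a a a) (orb G a a b) := orb_disjoint (by rw [haa]; simpa using hb)
    have hd2 : Disjoint (orb G a a a ∪ orb G a a b) (orb G a a c) :=
      Finset.disjoint_union_left.2 ⟨orb_disjoint (by rw [haa]; simpa using hc), orb_disjoint hbc⟩
    have h3 : 3 * Nat.card (stabilizer G a) ≤ ∑ e : Ω, Nat.card (st2 a e : Subgroup G) := by
      refine le_trans (le_of_eq ?_) (Finset.sum_le_sum_of_subset (Finset.subset_univ (orb G a a a ∪ orb G a a b ∪ orb G a a c)))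
      rw [Finset.sum_union hd2, Finset.sum_union hd1, horb, horb, horb]; ring
    have hinv : ∀ p : Ω, ∑ e : Ω, Nat.card (st2 p e : Subgroup G) = ∑ e : Ω, Nat.card (st2 a e : Subgroup G) := by
      intro p
      obtain ⟨g, rfl⟩ := htr.exists_smul_eq a p
      rw [← Equiv.sum_comp (MulAction.toPerm g)]
      refine Finset.sum_congr rfl fun e _ => ?_
      show Nat.card (st2 (g • a) (g • e) : Subgroup G) = _
      rw [st2_smul, card_map_conj]
    have h4 : 3 * Nat.card G ≤ ∑ g : G, (fix Ω g).card * (fix Ω g).card := by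
      rw [moment_two, Finset.sum_congr rfl fun p _ => hinv p, Finset.sum_const, smul_eq_mul, Finset.card_univ,
        ← card_stab_mul htr a]
      calc 3 * (Nat.card (stabilizer G a) * Fintype.card Ω)
          = Fintype.card Ω * (3 * Nat.card (stabilizer G a)) := by ring
        _ ≤ _ := Nat.mul_le_mul_left _ h3
    have h4' : 3 * (Nat.card G : ℤ) ≤ ∑ g : G, ((fix Ω g).card : ℤ) * (fix Ω g).card := by exact_mod_cast h4
    have hs := Finset.sum_le_sum fun g (_ : g ∈ (Finset.univ : Finset G)) => hle g
    rw [hφ, hψ] at hs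
    rw [hδ, ← hnn]
    zify
    linarith

end Cfsg.Agent.S5730
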