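import Cfsg.Statements.S5737
import Cfsg.Agent.H57.SzBinary

set_option autoImplicit false
open Cfsg

namespace Cfsg.Agent.S5737

/-- The centre of a subgroup, as a subgroup of the whole group. -/
theorem mem_center_map {G : Type*} [Group G] {A : Subgroup G} {x : G} :
    x ∈ (Subgroup.center A).map A.subtype ↔ x ∈ A ∧ ∀ y ∈ A, y * x = x * y := by
  constructor
  · rintro ⟨⟨x, hx⟩, hc, rfl⟩
    exact ⟨hx, fun y hy => congrArg Subtype.val (Subgroup.mem_center_iff.mp hc ⟨y, hy⟩)⟩
  · rintro ⟨hx, h⟩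
    exact ⟨⟨x, hx⟩, Subgroup.mem_center_iff.mpr fun y => Subtype.ext (h y.1 y.2), rfl⟩

theorem center_map_transfer {G G' : Type*} [Group G] [Group G'] (e : G ≃* G') (A : Subgroup G)
    (B : Subgroup G') (hB : B = A.map e.toMonoidHom) :
    (Subgroup.center B).map B.subtype =
      ((Subgroup.center A).map A.subtype).map e.toMonoidHom := by
  subst hB
  ext x
  rw [mem_center_map]
  constructor
  · rintro ⟨⟨y, hy, rfl⟩, h⟩
    refine ⟨y, mem_center_map.mpr ⟨hy, fun z hz => e.injective ?_⟩, rfl⟩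
    simpa using h (e z) ⟨z, hz, rfl⟩
  · rintro ⟨y, hy, rfl⟩
    obtain ⟨hy, h⟩ := mem_center_map.mp hy
    refine ⟨⟨y, hy, rfl⟩, ?_⟩
    rintro _ ⟨z, hz, rfl⟩
    simpa using congrArg e (h z hz)

/-- Let G = Sz(q) be a Suzuki group, q = 2^(2a+1) with a ≥ 1 (realised inside Sp₄ over the field with q elements), and let H be a proper subgroup of G. Then the action of G on the cosets of H is binary if and only if H is trivial or H is the centre of a Sylow 2-subgroup of G. Here an action is binary (relational complexity 2) when, for every n ≥ 2 and all n-tuples I, J of points, if for every pair of positions some group element carries the corresponding pair of entries of I to those of J, then a single group element carries I to J. -/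
theorem result {F : Type*} [Field F] [Fintype F] (a : ℕ) (ha : 1 ≤ a) (hF : Fintype.card F = 2 ^ (2 * a + 1))
    (H : Subgroup (Cfsg.Lie.Sz F (2 ^ (a + 1)))) (hH : H ≠ ⊤) :
    (∀ (n : ℕ) (I J : Fin n → (Cfsg.Lie.Sz F (2 ^ (a + 1))) ⧸ H), 2 ≤ n →
        (∀ i j : Fin n, i ≠ j → ∃ g : (Cfsg.Lie.Sz F (2 ^ (a + 1))), g • I i = J i ∧ g • I j = J j) → ∃ g : (Cfsg.Lie.Sz F (2 ^ (a + 1))), ∀ i, g • I i = J i) ↔
      (H = ⊥ ∨ ∃ P : Sylow 2 (Cfsg.Lie.Sz F (2 ^ (a + 1))), H = (Subgroup.center (P : Subgroup (Cfsg.Lie.Sz F (2 ^ (a + 1))))).map (P : Subgroup (Cfsg.Lie.Sz F (2 ^ (a + 1)))).subtype) := by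
  haveI : Fact (Nat.Prime 2) := ⟨Nat.prime_two⟩
  set e := H57.lieSzEquiv ha hF with he
  set H' := H.map e.symm.toMonoidHom with hH'
  have hback : H'.map e.toMonoidHom = H := by
    rw [hH', Subgroup.map_map]; ext x; simp
  have hH'top : H' ≠ ⊤ := fun h => hH (by
    rw [← hback, h]; exact Subgroup.map_top_of_surjective _ e.surjective)
  have hiff : H57.IsBinaryCoset H ↔ H57.IsBinaryCoset H' :=
    ⟨fun h => h.map e.symm, fun h => hback ▸ h.map e⟩
  have hzc : H57.zc hF = (Subgroup.center (H57.tSub (m := a) hF)).map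
      (H57.tSub (m := a) hF).subtype := by
    rw [H57.center_tSub ha hF, H57.zc]
  show H57.IsBinaryCoset H ↔ _
  rw [hiff, H57.sz_binary_iff ha hF hH'top]
  constructor
  · rintro (h | ⟨s, hs⟩)
    · exact Or.inl (by rw [← hback, h, Subgroup.map_bot])
    · right
      let φ := (MulAut.conj s).trans e
      refine ⟨(H57.tSylow ha hF).mapSurjective (f := φ.toMonoidHom) φ.surjective, ?_⟩
      rw [center_map_transfer φ (H57.tSub hF) _
        (by rw [← H57.coe_tSylow ha hF]; exact Sylow.coe_mapSurjective _ _), ← hzc, ← hback, hs,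
        Subgroup.map_map]
      rfl
  · rintro (rfl | ⟨P, hP⟩)
    · exact Or.inl (Subgroup.map_bot _)
    · obtain ⟨Q, rfl⟩ := Sylow.mapSurjective_surjective (f := e.toMonoidHom) e.surjective 2 P
      obtain ⟨s, rfl⟩ := MulAction.exists_smul_eq (Cfsg.Sz F a) (H57.tSylow ha hF) Q
      refine Or.inr ⟨s, ?_⟩
      rw [hH', hP, center_map_transfer ((MulAut.conj s).trans e) (H57.tSub hF) _ ?_, ← hzc,
        Subgroup.map_map]
      · ext x; simp
      · refine (Sylow.coe_mapSurjective _ _).trans ?_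
        rw [Sylow.coe_subgroup_smul, H57.coe_tSylow]
        exact Subgroup.map_map _ _ _

end Cfsg.Agent.S5737
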