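import Cfsg.Statements.S5739
import Cfsg.Agent.H61.SingerBasic

set_option autoImplicit false
open Cfsg

namespace Cfsg.Agent.S5739

/-- Let F ⊆ K be finite fields with |F| = q and [K : F] = n ≥ 2, and let M ≤ GL_F(K) be the Singer group of multiplications by non-zero elements of K. If g ∈ GL_F(K) does not normalise M, then the order of M ∩ gMg⁻¹ divides q^r − 1 for some proper divisor r of n. In particular, when n is prime, that order divides q − 1. -/
theorem result {F K : Type*} [Field F] [Fintype F] [Field K] [Fintype K] [Algebra F K] (n : ℕ) (hn : 2 ≤ n) (hdim : Module.finrank F K = n)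
    (g : (Module.End F K)ˣ) (hg : ((Units.map ((Algebra.lmul F K : K →ₐ[F] Module.End F K) : K →* Module.End F K)).range).map (MulAut.conj g).toMonoidHom ≠ (Units.map ((Algebra.lmul F K : K →ₐ[F] Module.End F K) : K →* Module.End F K)).range) :
    ∃ r : ℕ, 1 ≤ r ∧ r ∣ n ∧ r < n ∧ Nat.card ↥(((Units.map ((Algebra.lmul F K : K →ₐ[F] Module.End F K) : K →* Module.End F K)).range).map (MulAut.conj g).toMonoidHom ⊓ (Units.map ((Algebra.lmul F K : K →ₐ[F] Module.End F K) : K →* Module.End F K)).range) ∣ Fintype.card F ^ r - 1 := by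
  classical
  set M := (H61.singerHom F K).range with hM
  set M' := M.map (MulAut.conj g).toMonoidHom with hM'
  let s : Set K := {a | ∃ u : Kˣ, (u : K) = a ∧ H61.singerHom F K u ∈ M'}
  set E := Algebra.adjoin F s with hE
  have hne : E ≠ ⊤ := by
    intro htop
    apply hg
    have hle : M' ≤ M := by
      intro z hz
      refine H61.mem_singer_of_commute_set z s htop ?_
      rintro a ⟨u, rfl, hu⟩ x
      have hcomm : Commute (H61.singerHom F K u) z := by
        obtain ⟨_, ⟨v, rfl⟩, hv⟩ := hu
        obtain ⟨_, ⟨w, rfl⟩, hw⟩ := hz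
        rw [← hv, ← hw]
        exact ((Commute.all v w).map (H61.singerHom F K)).map (MulAut.conj g).toMonoidHom
      exact (congrArg (fun f : (Module.End F K)ˣ => (f : Module.End F K) x) hcomm.eq).symm
    refine Subgroup.eq_of_le_of_card_ge hle ?_
    rw [hM', Subgroup.card_map_of_injective (MulAut.conj g).injective]
  let E' : IntermediateField F K := E.toIntermediateField fun x hx => E.inv_mem_of_algebraic (x := ⟨x, hx⟩) (Algebra.IsAlgebraic.isAlgebraic _)
  have hr : Module.finrank F E' ∣ n := hdim ▸ ⟨_, (Module.finrank_mul_finrank F E' K).symm⟩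
  refine ⟨Module.finrank F E', Module.finrank_pos, hr, ?_, ?_⟩
  · refine lt_of_le_of_ne (Nat.le_of_dvd (by omega) hr) fun h => hne ?_
    exact Algebra.toSubmodule_eq_top.mp (Submodule.eq_top_of_finrank_eq (h.trans hdim.symm))
  · have hcard : Fintype.card F ^ Module.finrank F E' - 1 = Nat.card (E' : Type _)ˣ := by
      rw [Nat.card_units, Module.natCard_eq_pow_finrank (K := F), Nat.card_eq_fintype_card (α := F)]
    rw [hcard]
    let ι : (E' : Type _)ˣ →* (Module.End F K)ˣ :=
      (H61.singerHom F K).comp (Units.map ((E'.val : E' →ₐ[F] K) : E' →* K))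
    have hι : Function.Injective ι :=
      H61.singerHom_injective.comp (Units.map_injective (f := ((E'.val : E' →ₐ[F] K) : E' →* K)) E'.val.injective)
    rw [Nat.card_congr (MonoidHom.ofInjective hι).toEquiv]
    refine Subgroup.card_dvd_of_le ?_
    intro z hz
    obtain ⟨hz', u, rfl⟩ := hz
    have hu : (u : K) ∈ E' := Algebra.subset_adjoin ⟨u, rfl, hz'⟩
    have hu0 : (⟨(u : K), hu⟩ : E') ≠ 0 := fun h => u.ne_zero (congrArg Subtype.val h)
    refine ⟨Units.mk0 _ hu0, ?_⟩
    change H61.singerHom F K _ = _
    congr 1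
    exact Units.ext rfl

end Cfsg.Agent.S5739
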