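import Cfsg.Statements.S5747

set_option autoImplicit false
open Cfsg

namespace Cfsg.Agent.S5747

variable {G Ω : Type*} [Group G] [MulAction G Ω]

/-- Irredundant base of a subgroup. -/
def IrBase (H : Subgroup G) (t : ℕ) (f : Fin t → Ω) : Prop :=
  (∀ g ∈ H, (∀ i, g • f i = f i) → g = 1) ∧
    ∀ i, ∃ g ∈ H, (∀ j, j < i → g • f j = f j) ∧ g • f i ≠ f i

/-- Reordering keeps irredundant bases. -/
def Reord (Ω : Type*) [MulAction G Ω] (H : Subgroup G) : Prop :=
  ∀ (t : ℕ) (f : Fin t → Ω) (σ : Equiv.Perm (Fin t)), IrBase H t f → IrBase H t (f ∘ σ)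

theorem shrink (H : Subgroup G) : ∀ (t : ℕ) (f : Fin t → Ω),
    (∀ g ∈ H, (∀ i, g • f i = f i) → g = 1) → ∃ (t' : ℕ) (f' : Fin t' → Ω), t' ≤ t ∧ IrBase H t' f' := by
  intro t
  induction t with
  | zero => exact fun f h => ⟨0, f, le_rfl, h, fun i => i.elim0⟩
  | succ t ih =>
    intro f h
    by_cases hi : ∀ i, ∃ g ∈ H, (∀ j, j < i → g • f j = f j) ∧ g • f i ≠ f i
    · exact ⟨_, f, le_rfl, h, hi⟩
    · push Not at hi
      obtain ⟨i, hi⟩ := hi
      obtain ⟨t', f', ht', hb⟩ := ih (f ∘ i.succAbove) (fun g hg hfix => h g hg fun k => by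
        by_cases hk : k = i
        · subst hk
          refine hi g hg fun j hj => ?_
          obtain ⟨k', rfl⟩ := Fin.exists_succAbove_eq hj.ne
          exact hfix k'
        · obtain ⟨k', rfl⟩ := Fin.exists_succAbove_eq hk
          exact hfix k')
      exact ⟨t', f', ht'.trans t.le_succ, hb⟩

theorem cons_base (H : Subgroup G) (x : Ω) (hx : ∃ g ∈ H, g • x ≠ x) (t : ℕ) (f : Fin t → Ω) :
    IrBase H (t + 1) (Fin.cons x f) ↔ IrBase (H ⊓ MulAction.stabilizer G x) t f := by
  constructor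
  · rintro ⟨h1, h2⟩
    refine ⟨fun g hg hfix => h1 g hg.1 fun i => ?_, fun i => ?_⟩
    · cases i using Fin.cases with
      | zero => simpa using hg.2
      | succ i => simpa using hfix i
    · obtain ⟨g, hg, hj, hi⟩ := h2 i.succ
      refine ⟨g, ⟨hg, ?_⟩, fun j hji => ?_, by simpa using hi⟩
      · simpa using hj 0 (Fin.succ_pos i)
      · simpa using hj j.succ (Fin.succ_lt_succ_iff.2 hji)
  · rintro ⟨h1, h2⟩
    refine ⟨fun g hg hfix => h1 g ⟨hg, by simpa using hfix 0⟩ (fun i => by simpa using hfix i.succ),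
      Fin.cases ?_ ?_⟩
    · obtain ⟨g, hg, hgx⟩ := hx
      exact ⟨g, hg, fun j hj => absurd hj (Fin.not_lt_zero j), by simpa using hgx⟩
    · intro i
      obtain ⟨g, hg, hj, hi⟩ := h2 i
      refine ⟨g, hg.1, Fin.cases ?_ ?_, by simpa using hi⟩
      · intro _; simpa using hg.2
      · intro j hji; simpa using hj j (Fin.succ_lt_succ_iff.1 hji)

variable [Finite G] [Fintype Ω]

theorem same_size (n : ℕ) : ∀ (H : Subgroup G), Nat.card H ≤ n → Reord Ω H →
    ∀ (t t' : ℕ) (f : Fin t → Ω) (f' : Fin t' → Ω), IrBase H t f → IrBase H t' f' → t = t' := by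
  induction n using Nat.strong_induction_on with
  | _ n ih =>
    intro H hn hR t t' f f' hf hf'
    -- moved first point
    have first : ∀ {t : ℕ} {f : Fin (t + 1) → Ω}, IrBase H (t + 1) f → ∃ g ∈ H, g • f 0 ≠ f 0 :=
      fun hf => by
        obtain ⟨g, hg, -, h⟩ := hf.2 0
        exact ⟨g, hg, h⟩
    have zero : ∀ {t : ℕ} {f : Fin t → Ω}, IrBase H t f → (∀ g ∈ H, g = 1) → t = 0 := by
      intro t f hf h
      cases t with
      | zero => rfl
      | succ t =>
        obtain ⟨g, hg, hne⟩ := first hf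
        rw [h g hg, one_smul] at hne
        exact absurd rfl hne
    -- common length of bases beginning with a given moved point
    have sameHead : ∀ (x : Ω), (∃ g ∈ H, g • x ≠ x) → ∀ (s s' : ℕ) (u : Fin s → Ω) (u' : Fin s' → Ω),
        IrBase (H ⊓ MulAction.stabilizer G x) s u → IrBase (H ⊓ MulAction.stabilizer G x) s' u' → s = s' := by
      intro x hx
      obtain ⟨g, hg, hgx⟩ := hx
      have hlt : H ⊓ MulAction.stabilizer G x < H :=
        lt_of_le_of_ne inf_le_left fun e => hgx (by rw [← e] at hg; exact hg.2)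
      have hcard : Nat.card (H ⊓ MulAction.stabilizer G x : Subgroup G) < Nat.card H := by
        by_contra hge
        exact hlt.ne (Subgroup.eq_of_le_of_card_ge hlt.le (not_lt.1 hge))
      refine ih _ (lt_of_lt_of_le hcard hn) _ le_rfl ?_
      intro s u σ hu
      rw [← cons_base H x ⟨g, hg, hgx⟩] at hu ⊢
      have := hR _ _ ((finSuccEquiv s).trans ((Equiv.optionCongr σ).trans (finSuccEquiv s).symm)) hu
      convert this using 1
      funext i
      refine Fin.cases ?_ (fun j => ?_) i <;> simp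
    have ext : ∀ (K : Subgroup G), K ≤ H → ∃ s u, IrBase (Ω := Ω) K s u := by
      intro K hK
      obtain ⟨s, u, -, hu⟩ := shrink K (Fintype.card Ω) (fun i => (Fintype.equivFin Ω).symm i)
        (fun g hg hfix => hf.1 g (hK hg) fun i => by
          simpa using hfix (Fintype.equivFin Ω (f i)))
      exact ⟨s, u, hu⟩
    cases t with
    | zero =>
      exact (zero hf' fun g hg => hf.1 g hg fun i => i.elim0).symm
    | succ t =>
    cases t' with
    | zero => exact zero hf fun g hg => hf'.1 g hg fun i => i.elim0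
    | succ t' =>
      obtain ⟨hx, hy⟩ := And.intro (first hf) (first hf')
      rw [← Fin.cons_self_tail f, cons_base H _ hx] at hf
      rw [← Fin.cons_self_tail f', cons_base H _ hy] at hf'
      -- a point moved by the stabilizer of another
      have swapCase : ∀ (x y : Ω), (∃ g ∈ H, g • x ≠ x) → (∃ g ∈ H, g • y ≠ y) →
          (∃ g ∈ H ⊓ MulAction.stabilizer G x, g • y ≠ y) →
          ∃ s u v, IrBase (Ω := Ω) (H ⊓ MulAction.stabilizer G x) s u ∧
            IrBase (Ω := Ω) (H ⊓ MulAction.stabilizer G y) s v := by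
        intro x y hx hy hxy
        obtain ⟨s, u, hu⟩ := ext (H ⊓ MulAction.stabilizer G x ⊓ MulAction.stabilizer G y)
          (inf_le_left.trans inf_le_left)
        rw [← cons_base _ _ hxy] at hu
        have hb := hu
        rw [← cons_base H x hx] at hb
        have := hR _ _ (Equiv.swap 0 1) hb
        refine ⟨s + 1, Fin.cons y u, Fin.cons x u, hu, ?_⟩
        rw [← cons_base H y hy]
        convert this using 1
        funext i
        refine Fin.cases ?_ (fun j => ?_) i
        · simp [Fin.cons_one]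
        · refine Fin.cases ?_ (fun k => ?_) j
          · simp [Fin.cons_one]
          · have : Equiv.swap (0 : Fin (s + 1 + 1)) 1 k.succ.succ = k.succ.succ :=
              Equiv.swap_apply_of_ne_of_ne (Fin.succ_ne_zero _) (fun e => Fin.succ_ne_zero k (Fin.succ_injective _ e))
            simp [this]
      by_cases h1 : ∃ g ∈ H ⊓ MulAction.stabilizer G (f 0), g • f' 0 ≠ f' 0
      · obtain ⟨s, u, v, hu, hv⟩ := swapCase _ _ hx hy h1
        rw [sameHead _ hx _ _ _ _ hf hu, sameHead _ hy _ _ _ _ hf' hv]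
      by_cases h2 : ∃ g ∈ H ⊓ MulAction.stabilizer G (f' 0), g • f 0 ≠ f 0
      · obtain ⟨s, u, v, hu, hv⟩ := swapCase _ _ hy hx h2
        rw [sameHead _ hx _ _ _ _ hf hv, sameHead _ hy _ _ _ _ hf' hu]
      push Not at h1 h2
      have heq : H ⊓ MulAction.stabilizer G (f 0) = H ⊓ MulAction.stabilizer G (f' 0) :=
        le_antisymm (fun g hg => ⟨hg.1, h1 g hg⟩) (fun g hg => ⟨hg.1, h2 g hg⟩)
      rw [← heq] at hf'
      rw [sameHead _ hx _ _ _ _ hf hf']

theorem result {G Ω : Type*} [Group G] [Finite G] [MulAction G Ω] [Fintype Ω] :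
    (∀ (t t' : ℕ) (f : Fin t → Ω) (f' : Fin t' → Ω), ((∀ g : G, (∀ i : Fin t, g • f i = f i) → g = 1) ∧ ∀ i : Fin t, ∃ g : G, (∀ j : Fin t, j < i → g • f j = f j) ∧ g • f i ≠ f i) → ((∀ g : G, (∀ i : Fin t', g • f' i = f' i) → g = 1) ∧ ∀ i : Fin t', ∃ g : G, (∀ j : Fin t', j < i → g • f' j = f' j) ∧ g • f' i ≠ f' i) → t = t') ↔
    (∀ (t : ℕ) (f : Fin t → Ω) (σ : Equiv.Perm (Fin t)), ((∀ g : G, (∀ i : Fin t, g • f i = f i) → g = 1) ∧ ∀ i : Fin t, ∃ g : G, (∀ j : Fin t, j < i → g • f j = f j) ∧ g • f i ≠ f i) → ((∀ g : G, (∀ i : Fin t, g • (f ∘ σ) i = (f ∘ σ) i) → g = 1) ∧ ∀ i : Fin t, ∃ g : G, (∀ j : Fin t, j < i → g • (f ∘ σ) j = (f ∘ σ) j) ∧ g • (f ∘ σ) i ≠ (f ∘ σ) i)) := by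
  constructor
  · intro hsame t f σ hf
    have htriv : ∀ g : G, (∀ i, g • (f ∘ σ) i = (f ∘ σ) i) → g = 1 := fun g hg =>
      hf.1 g fun i => by simpa using hg (σ.symm i)
    refine ⟨htriv, fun i => ?_⟩
    by_contra hi
    push Not at hi
    cases t with
    | zero => exact i.elim0
    | succ t =>
      obtain ⟨t', f', ht', hb⟩ := shrink (⊤ : Subgroup G) t ((f ∘ σ) ∘ i.succAbove)
        (fun g _ hfix => htriv g fun k => by
          by_cases hk : k = i
          · subst hk
            refine hi g fun j hj => ?_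
            obtain ⟨k', rfl⟩ := Fin.exists_succAbove_eq hj.ne
            exact hfix k'
          · obtain ⟨k', rfl⟩ := Fin.exists_succAbove_eq hk
            exact hfix k')
      have := hsame _ _ f f' hf ⟨fun g hg => hb.1 g trivial hg, fun j => by
        obtain ⟨g, -, h⟩ := hb.2 j; exact ⟨g, h⟩⟩
      omega
  · intro hR t t' f f' hf hf'
    have conv : ∀ {s : ℕ} {u : Fin s → Ω}, ((∀ g : G, (∀ i, g • u i = u i) → g = 1) ∧ ∀ i, ∃ g : G, (∀ j, j < i → g • u j = u j) ∧ g • u i ≠ u i) ↔ IrBase (⊤ : Subgroup G) s u := by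
      intro s u
      simp [IrBase]
    refine same_size _ (⊤ : Subgroup G) le_rfl ?_ t t' f f' (conv.1 hf) (conv.1 hf')
    exact fun s u σ hu => conv.1 (hR s u σ (conv.2 hu))

end Cfsg.Agent.S5747
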