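import Cfsg.Statements.S5748
import Cfsg.Agent.H42.CTSimple

set_option autoImplicit false
open Cfsg

namespace Cfsg.Agent.S5748

/-- A finite non-abelian simple group in which commuting is a transitive relation on the non-identity elements (equivalently, every non-identity element has abelian centraliser) is isomorphic to PSL₂ over a field with 2^f elements for some f ≥ 2; conversely these groups have that property. -/
theorem result {G : Type*} [Group G] [Finite G] [IsSimpleGroup G] (hG : ¬ IsMulCommutative G) :
    (∀ a b c : G, a ≠ 1 → b ≠ 1 → c ≠ 1 → Commute a b → Commute b c → Commute a c) ↔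
    ∃ (F : Type) (_ : Field F) (_ : Fintype F) (f : ℕ), 2 ≤ f ∧ Fintype.card F = 2 ^ f ∧ Nonempty (G ≃* Matrix.ProjectiveSpecialLinearGroup (Fin 2) F) := by
  constructor
  · intro h
    refine H42.ct_iso_PSL hG fun a b c hb hab hbc => ?_
    by_cases ha : a = 1
    · exact ha ▸ Commute.one_left c
    by_cases hc : c = 1
    · exact hc ▸ Commute.one_right a
    exact h a b c ha hb hc hab hbc
  · rintro ⟨F, _, _, f, hf, hcard, ⟨e⟩⟩ a b c - hb - hab hbc
    haveI : Fact (Nat.Prime 2) := ⟨Nat.prime_two⟩
    haveI : CharP F 2 := charP_of_card_eq_prime_pow (f := f) hcard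
    have := H42.even_commute_trans (fun h => hb (e.map_eq_one_iff.1 h)) (hab.map e.toMonoidHom) (hbc.map e.toMonoidHom)
    exact e.injective (by rw [map_mul, map_mul]; exact this.eq)

end Cfsg.Agent.S5748
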