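import Cfsg.Statements.S5754

set_option autoImplicit false
open Cfsg

namespace Cfsg.Agent.S5754

open QuadraticMap

variable {F V : Type*} [Field F] [AddCommGroup V] [Module F V]

theorem refl_exists (Q : QuadraticForm F V) (hQ : Q.Anisotropic) (v v' : V) (h : Q v = Q v') :
    ∃ φ : Q.IsometryEquiv Q, φ v = v' ∧ ∀ y, polar Q y v = polar Q y v' → φ y = y := by
  by_cases hw : v = v'
  · exact ⟨QuadraticMap.IsometryEquiv.refl Q, hw, fun y _ => rfl⟩
  obtain ⟨w, hwdef⟩ : ∃ w, w = v - v' := ⟨_, rfl⟩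
  have hw0 : Q w ≠ 0 := fun e => hw (sub_eq_zero.1 (hwdef ▸ hQ w e))
  have hpw : polar Q v w = Q w := by
    rw [hwdef, sub_eq_add_neg, polar_add_right, polar_neg_right, polar_self]
    have hexp : Q (v + -v') = Q v + Q (-v') + polar Q v (-v') := QuadraticMap.map_add Q v (-v')
    rw [hexp, polar_neg_right, QuadraticMap.map_neg, ← h, two_smul]
  have hmul : ∀ x y : V, ∀ c : F, polar Q x (c • y) = c * polar Q x y := fun x y c => by
    rw [polar_smul_right, smul_eq_mul]
  have hsq : ∀ c : F, Q (c • w) = c * c * Q w := fun c => by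
    rw [QuadraticMap.map_smul, smul_eq_mul]
  let r : V →ₗ[F] V :=
    { toFun := fun x => x - (polar Q x w / Q w) • w
      map_add' := fun x y => by
        rw [polar_add_left, add_div, add_smul]; abel
      map_smul' := fun c x => by
        rw [polar_smul_left, smul_eq_mul, mul_div_assoc, mul_smul, RingHom.id_apply, smul_sub] }

  have hr : ∀ x, r x = x - (polar Q x w / Q w) • w := fun x => rfl
  have hinv : ∀ x, r (r x) = x := by
    intro x
    have hp : polar Q (r x) w = - polar Q x w := by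
      rw [hr x, sub_eq_add_neg x, polar_add_left, ← neg_smul, polar_smul_left, smul_eq_mul,
        polar_self, two_smul]
      field_simp
      ring
    rw [hr (r x), hp, neg_div, neg_smul, sub_neg_eq_add, hr, sub_add_cancel]
  let e : V ≃ₗ[F] V := LinearEquiv.ofLinearMap r r (LinearMap.ext hinv) (LinearMap.ext hinv)
  refine ⟨⟨e, fun x => ?_⟩, ?_, fun y hy => ?_⟩
  · show Q (r x) = Q x
    rw [hr, sub_eq_add_neg, ← neg_smul, QuadraticMap.map_add Q x, hsq, hmul]
    field_simp
    ring
  · show r v = v'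
    rw [hr, hpw, div_self hw0, one_smul, hwdef]
    abel
  · show r y = y
    have : polar Q y w = 0 := by
      rw [hwdef, sub_eq_add_neg, polar_add_right, polar_neg_right, hy, add_neg_cancel]
    rw [hr, this, zero_div, zero_smul, sub_zero]

theorem witt_tuple (Q : QuadraticForm F V) (hQ : Q.Anisotropic) : ∀ (n : ℕ) (v v' : Fin n → V),
    (∀ i, Q (v i) = Q (v' i)) → (∀ i j, polar Q (v i) (v j) = polar Q (v' i) (v' j)) →
    ∃ φ : Q.IsometryEquiv Q, ∀ i, φ (v i) = v' i := by
  intro n
  induction n with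
  | zero => exact fun v v' _ _ => ⟨QuadraticMap.IsometryEquiv.refl Q, fun i => i.elim0⟩
  | succ n ih =>
    intro v v' h1 h2
    obtain ⟨φ, hφ⟩ := ih (v ∘ Fin.castSucc) (v' ∘ Fin.castSucc) (fun i => h1 _) (fun i j => h2 _ _)
    have hφQ : ∀ x, Q (φ x) = Q x := φ.map_app
    obtain ⟨ψ, hψ, hψy⟩ := refl_exists Q hQ (φ (v (Fin.last n))) (v' (Fin.last n))
      ((hφQ _).trans (h1 _))
    refine ⟨φ.trans ψ, fun i => ?_⟩
    show ψ (φ (v i)) = v' i
    refine Fin.lastCases hψ (fun j => ?_) i
    rw [show φ (v j.castSucc) = v' j.castSucc from hφ j]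
    refine hψy _ ?_
    have : φ (v j.castSucc) = v' j.castSucc := hφ j
    rw [← this]
    have hp : polar Q (φ (v j.castSucc)) (φ (v (Fin.last n))) = polar Q (v j.castSucc) (v (Fin.last n)) := by
      have hadd : φ (v j.castSucc + v (Fin.last n)) = φ (v j.castSucc) + φ (v (Fin.last n)) :=
        map_add φ.toLinearEquiv _ _
      simp only [polar]
      rw [← hadd, hφQ, hφQ, hφQ]
    rw [hp, h2, this]

theorem result {F V : Type*} [Field F] [Finite F] [AddCommGroup V] [Module F V] [Module.Finite F V]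
    (Q : QuadraticForm F V) (hQ : Q.Anisotropic) (n : ℕ) (hn : 2 ≤ n) (u u' : Fin n → V)
    (h2 : ∀ i j : Fin n, i ≠ j → ∃ (φ : Q.IsometryEquiv Q) (c : V), φ (u i) + c = u' i ∧ φ (u j) + c = u' j) :
    ∃ (φ : Q.IsometryEquiv Q) (c : V), ∀ i, φ (u i) + c = u' i := by
  let z : Fin n := ⟨0, by omega⟩
  have hd : ∀ i j, Q (u i - u j) = Q (u' i - u' j) := by
    intro i j
    by_cases hij : i = j
    · subst hij; rw [sub_self, sub_self]
    obtain ⟨φ, c, h1, h3⟩ := h2 i j hij
    rw [← h1, ← h3, add_sub_add_right_eq_sub]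
    exact ((φ.map_app (u i - u j)).symm).trans (congrArg Q (map_sub φ.toLinearEquiv _ _))
  have key : ∀ (u : Fin n → V) i j, polar Q (u i - u z) (u j - u z)
      = Q (u i - u z) + Q (u j - u z) - Q (u i - u j) := by
    intro u i j
    have h1 : u i - u j = (u i - u z) + -(u j - u z) := by abel
    rw [h1, QuadraticMap.map_add Q (u i - u z), QuadraticMap.map_neg, polar_neg_right]
    ring
  obtain ⟨φ, hφ⟩ := witt_tuple Q hQ n (fun i => u i - u z) (fun i => u' i - u' z)
    (fun i => hd i z) (fun i j => by rw [key u, key u', hd i z, hd j z, hd i j])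
  refine ⟨φ, u' z - φ (u z), fun i => ?_⟩
  have hs : φ (u i - u z) = φ (u i) - φ (u z) := map_sub φ.toLinearEquiv _ _
  have hi : φ (u i - u z) = u' i - u' z := hφ i
  rw [hs] at hi
  rw [← sub_eq_zero]
  have : φ (u i) + (u' z - φ (u z)) - u' i = (φ (u i) - φ (u z)) - (u' i - u' z) := by abel
  rw [this, hi, sub_self]

end Cfsg.Agent.S5754
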