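import Cfsg.Statements.S5769
import Cfsg.Agent.H54.E7SixtyFiveMain
import Cfsg.Agent.H54.OrderSixtyFive
-- import your own Cfsg.Agent.* helpers here

set_option autoImplicit false
open Cfsg

namespace Cfsg.Agent.S5769

/-- A group with an element of order 65 does not embed. -/
theorem no_iso {G : Type*} [Group G] (H : Subgroup ↥(Cfsg.Lie.chevE7.group (ZMod 2)))
    (h : ∃ x : G, orderOf x = 65) : IsEmpty (↥H ≃* G) := by
  obtain ⟨x, hx⟩ := h
  refine ⟨fun e => H54.E7No65.no_order (ZMod.card 2)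
    ((e.symm x : ↥H) : ↥(Cfsg.Lie.chevE7.group (ZMod 2))) ?_⟩
  rw [Subgroup.orderOf_coe, MulEquiv.orderOf_eq, hx]

/-- The Chevalley group of type E₇ over the field with two elements (generated by its root elements in the adjoint representation) has no subgroup isomorphic to any of PSL₂(64), PSp₄(8), PSL₄(8), PSU₄(8) or PSp₆(8). Here F₈ and F₆₄ denote fields with 8 and 64 elements. -/
theorem result {F₈ F₆₄ : Type*} [Field F₈] [Fintype F₈] (h8 : Fintype.card F₈ = 8) [Field F₆₄] [Fintype F₆₄] (h64 : Fintype.card F₆₄ = 64)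
    (H : Subgroup ↥(Cfsg.Lie.chevE7.group (ZMod 2))) :
    IsEmpty (↥H ≃* Matrix.ProjectiveSpecialLinearGroup (Fin 2) F₆₄) ∧ IsEmpty (↥H ≃* Cfsg.PSp 2 F₈) ∧
    IsEmpty (↥H ≃* Matrix.ProjectiveSpecialLinearGroup (Fin 4) F₈) ∧ IsEmpty (↥H ≃* Cfsg.PSU 4 F₆₄ 8) ∧ IsEmpty (↥H ≃* Cfsg.PSp 3 F₈) := by
  exact ⟨no_iso H (H54.OrderSixtyFive.psl (n := 2) (F := F₆₄) (by norm_num) (by rw [h64]; decide)),
    no_iso H (H54.OrderSixtyFive.psp h8 (n := 2) le_rfl),
    no_iso H (H54.OrderSixtyFive.psl (n := 4) (F := F₈) (by norm_num) (by rw [h8]; decide)),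
    no_iso H (H54.OrderSixtyFive.psu h64),
    no_iso H (H54.OrderSixtyFive.psp h8 (n := 3) (by norm_num))⟩

end Cfsg.Agent.S5769
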