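import Cfsg.Statements.S5775
import Cfsg.Agent.H46.SL3Four

set_option autoImplicit false
open Cfsg

namespace Cfsg.Agent.S5775

/-- Every maximal subgroup of SL_3(q) is of one of the listed geometric types or lies in the residual class. Let F be a finite field with q elements and H a maximal subgroup of SL_3(F) (viewed inside GL_3(F)). Then H is the intersection with SL_3(F) of one of: the stabiliser of a proper non-zero subspace; for q ≥ 5, the stabiliser of a decomposition of F^3 into three independent lines; for q ≠ 4, the normaliser of a degree-3 subfield of the matrix algebra; a subfield group for a subfield F₀ with |F| = |F₀|^r, r prime; for q = p ≡ 1 mod 3 prime, the normaliser of an absolutely irreducible 3-subgroup R of exponent 3 with centre of order 3, all of whose characteristic abelian subgroups are cyclic, of order 3^(1+2m) for some m ≥ 1, with F the smallest field of characteristic p containing the cube roots of unity (so R is extraspecial of order 27); for q odd, the similarity group of a non-degenerate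 quadratic form; the similarity group of a non-degenerate unitary form — or else H lies in the residual class of the linear case (modulo scalars H is almost simple, with absolutely irreducible perfect socle preimage realisable over no proper subfield and fixing no non-degenerate quadratic, symplectic or unitary form). -/
theorem result {F : Type*} [Field F] [Fintype F] (H : Subgroup (Matrix.GeneralLinearGroup (Fin 3) F)) (hH : Cfsg.Geo.IsMaximalIn (Cfsg.Geo.specialLinear (Fin 3) F) H) :
    (∃ W : Submodule F (Fin 3 → F), W ≠ ⊥ ∧ W ≠ ⊤ ∧ H = Cfsg.Geo.subspaceStabilizer W ⊓ Cfsg.Geo.specialLinear (Fin 3) F) ∨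
    (5 ≤ Fintype.card F ∧ ∃ D : Fin 3 → Submodule F (Fin 3 → F), Cfsg.Geo.IsMDecomposition 1 D ∧ H = Cfsg.Geo.decompositionStabilizer D ⊓ Cfsg.Geo.specialLinear (Fin 3) F) ∨
    (Fintype.card F ≠ 4 ∧ ∃ K : Subalgebra F (Matrix (Fin 3) (Fin 3) F), Cfsg.Geo.IsFieldSubalgebra 3 K ∧ H = Cfsg.Geo.subalgebraNormalizer K ⊓ Cfsg.Geo.specialLinear (Fin 3) F) ∨
    (∃ (F₀ : Subfield F) (r : ℕ) (P : Matrix.GeneralLinearGroup (Fin 3) F), r.Prime ∧ Fintype.card F = Nat.card F₀ ^ r ∧ H = Cfsg.Geo.subfieldSubgroup F₀ P ⊓ Cfsg.Geo.specialLinear (Fin 3) F) ∨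
    (∃ (p : ℕ) (R : Subgroup (Matrix.GeneralLinearGroup (Fin 3) F)), p.Prime ∧ Fintype.card F = p ∧ p % 3 = 1 ∧ Cfsg.Geo.IsLinearSymplecticTypeData 3 R ∧ H = Cfsg.Geo.subgroupNormalizer R ⊓ Cfsg.Geo.specialLinear (Fin 3) F) ∨
    (Odd (Fintype.card F) ∧ ∃ Q : (Fin 3 → F) → F, Cfsg.Geo.IsNondegenerateQuadraticForm Q ∧ H = Cfsg.Geo.quadSimilarityGroup Q ⊓ Cfsg.Geo.specialLinear (Fin 3) F) ∨
    (∃ (σ : F ≃+* F) (f : (Fin 3 → F) → (Fin 3 → F) → F), Cfsg.Geo.IsUnitaryForm σ f ∧ H = Cfsg.Geo.similarityGroup f ⊓ Cfsg.Geo.specialLinear (Fin 3) F) ∨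
    Cfsg.Geo.InLinearResidualClass H := by
  have hn : 3 ≤ Fintype.card (Fin 3) := by simp
  cases H46.slMax hn hH with
  | reducible W hb ht h => exact Or.inl (⟨W, hb, ht, h⟩)
  | imprimitive t m D hD hcard h5 h3 h =>
    rw [Fintype.card_fin] at hcard
    have hm : m ∣ 3 := Dvd.intro_left t hcard.symm
    have ht := hD.two_le
    have hm' : m < 3 := by nlinarith [hD.pos]
    interval_cases m <;> first | omega | skip
    · obtain rfl : t = 3 := by omega
      exact Or.inr (Or.inl (⟨h5 rfl, D, hD, h⟩))
  | fieldExt r K hr hK hdvd h =>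
    rw [Fintype.card_fin] at hdvd
    have hle : r ≤ 3 := Nat.le_of_dvd (by norm_num) hdvd
    interval_cases r <;> first | omega | (norm_num at hr; done) | skip
    · by_cases hq : Fintype.card F = 4
      · obtain ⟨F₀, P, hc, hle'⟩ := H46.field_le_subfield_four (by simp) hq hK
        have hne : F₀ ≠ ⊤ := by
          intro htop
          rw [htop] at hc
          have : Nat.card (⊤ : Subfield F) = Fintype.card F := by
            rw [← Nat.card_eq_fintype_card]; exact Nat.card_congr (Equiv.Set.univ F)
          rw [this, hq] at hc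
          norm_num at hc
        have h' := H46.eq_inf_of_maximal hH (h.le.trans hle') (H46.not_sl_le_subfield hne P)
        exact Or.inr (Or.inr (Or.inr (Or.inl ⟨F₀, 2, P, Nat.prime_two, hc, h'⟩)))
      · exact Or.inr (Or.inr (Or.inl ⟨hq, K, hK, h⟩))
  | tensor n₁ n₂ e P h1 h2 hcard hq h =>
    rw [Fintype.card_fin] at hcard
    have hb : n₁ ≤ 3 := Nat.le_of_dvd (by norm_num) (Dvd.intro _ hcard.symm)
    exfalso; interval_cases n₁ <;> omega
  | subfield F₀ r P hr hc h => exact Or.inr (Or.inr (Or.inr (Or.inl (⟨F₀, r, P, hr, hc, h⟩))))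
  | symplecticType r k R hR hk hcard h =>
    rw [Fintype.card_fin] at hcard
    have hr := hR.symplecticType.prime
    obtain rfl : r = 3 := by
      have h1 : r ∣ 3 ^ 1 := ⟨r ^ (k - 1), by rw [← pow_succ', Nat.sub_add_cancel hk, ← hcard]; norm_num⟩
      exact (Nat.prime_dvd_prime_iff_eq hr (by norm_num)).1 (hr.dvd_of_dvd_pow h1)
    obtain ⟨p, e, hp, hchar, hq, hoe, hed, hmod, hne⟩ := H46.sympType_odd hR (by norm_num)
    have hele : e ≤ 2 := Nat.le_of_dvd (by norm_num) hed
    interval_cases e <;> first | omega | (norm_num at hoe; done) | skip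
    · exact Or.inr (Or.inr (Or.inr (Or.inr (Or.inl (⟨p, R, hp, (by simpa using hq), by simpa using hmod, hR, h⟩)))))
  | tensorWreath m t e P hm ht hcard h =>
    rw [Fintype.card_fin] at hcard
    exfalso
    have h1 : m ^ 2 ≤ m ^ t := Nat.pow_le_pow_right (by omega) ht
    have hm3 : m ≤ 3 := by nlinarith
    obtain rfl : m = 3 := by omega
    have ht' : t < 3 := hcard ▸ Nat.lt_pow_self (by norm_num)
    interval_cases t <;> norm_num at hcard
  | symplectic f hf he h =>
    rw [Fintype.card_fin] at he; exact absurd he (by decide)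
  | unitary σ f hf h => exact Or.inr (Or.inr (Or.inr (Or.inr (Or.inr (Or.inr (Or.inl (⟨σ, f, hf, h⟩)))))))
  | quadratic Q hQ ho h => exact Or.inr (Or.inr (Or.inr (Or.inr (Or.inr (Or.inl (⟨ho, Q, hQ, h⟩))))))
  | residual h => exact Or.inr (Or.inr (Or.inr (Or.inr (Or.inr (Or.inr (Or.inr (h)))))))

end Cfsg.Agent.S5775
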