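import Cfsg.Statements.S5778
import Cfsg.Agent.H38.SUMax.Arith
import Cfsg.Agent.H38.SUMax.FieldThree
import Cfsg.Agent.H38.SUMax.FieldFive
import Cfsg.Agent.H38.SUMax.MonFive
import Cfsg.Agent.H38.SUMax.HeisFive
import Cfsg.Agent.H38.SUMax.ThreeFrame

set_option autoImplicit false
open Cfsg

namespace Cfsg.Agent.S5778

/-- Every maximal subgroup of SU_3(q), q ≥ 3, is of one of the listed geometric types or lies in the residual class. Let F be the field with q² elements, f the standard unitary form Σ u_i v_i^q on F^3, and H a maximal subgroup of SU_3(q) (the determinant-one isometries of f, inside GL_3(F)). Then H is the intersection with SU_3(q) of one of: the stabiliser of a non-zero subspace on which f vanishes; the stabiliser of a non-degenerate 1-space; for q ≠ 5, the stabiliser of a decomposition into three mutually orthogonal non-degenerate 1-spaces; for q ≠ 3, 5, the normaliser of an adjoint-closed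 degree-3 subfield of the matrix algebra; a subfield group of odd prime index whose F₀-structure carries f; for q odd, q ≥ 7, a subfield group of index 2 whose F₀-structure carries f; for q = p ≡ 2 mod 3 prime with p ≥ 11, the normaliser of an absolutely irreducible subgroup of order 27 with centre of order 3, exponent 3 and all characteristic abelian subgroups cyclic, contained in the similarity group of f — or else H lies in the residual class of the unitary case. -/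
theorem result {F : Type*} [Field F] [Fintype F] (q : ℕ) (hF : Fintype.card F = q ^ 2) (hq : 3 ≤ q) (H : Subgroup (Matrix.GeneralLinearGroup (Fin 3) F)) (hH : Cfsg.Geo.IsMaximalIn (Cfsg.GU 3 F q ⊓ Cfsg.Geo.specialLinear (Fin 3) F) H) :
    (∃ W : Submodule F (Fin 3 → F), W ≠ ⊥ ∧ Cfsg.Geo.IsTotallySingularFor (Cfsg.hermForm 3 F q) W ∧ H = Cfsg.Geo.subspaceStabilizer W ⊓ (Cfsg.GU 3 F q ⊓ Cfsg.Geo.specialLinear (Fin 3) F)) ∨
    (∃ W : Submodule F (Fin 3 → F), W ≠ ⊥ ∧ Cfsg.Geo.IsNondegenerateOn (Cfsg.hermForm 3 F q) W ∧ 2 * Module.finrank F W < 3 ∧ H = Cfsg.Geo.subspaceStabilizer W ⊓ (Cfsg.GU 3 F q ⊓ Cfsg.Geo.specialLinear (Fin 3) F)) ∨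
    (q ≠ 5 ∧ ∃ D : Fin 3 → Submodule F (Fin 3 → F), Cfsg.Geo.IsNondegenerateMDecomposition (Cfsg.hermForm 3 F q) 1 D ∧ H = Cfsg.Geo.decompositionStabilizer D ⊓ (Cfsg.GU 3 F q ⊓ Cfsg.Geo.specialLinear (Fin 3) F)) ∨
    (q ≠ 3 ∧ q ≠ 5 ∧ ∃ K : Subalgebra F (Matrix (Fin 3) (Fin 3) F), Cfsg.Geo.IsFieldSubalgebra 3 K ∧ Cfsg.Geo.IsAdjointClosedFor (Cfsg.hermForm 3 F q) K ∧ H = Cfsg.Geo.subalgebraNormalizer K ⊓ (Cfsg.GU 3 F q ⊓ Cfsg.Geo.specialLinear (Fin 3) F)) ∨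
    (∃ (F₀ : Subfield F) (r : ℕ) (P : Matrix.GeneralLinearGroup (Fin 3) F), r.Prime ∧ Odd r ∧ Fintype.card F = Nat.card F₀ ^ r ∧ Cfsg.Geo.IsFormRationalStructure (Cfsg.hermForm 3 F q) F₀ 1 P ∧ H = Cfsg.Geo.subfieldSubgroup F₀ P ⊓ (Cfsg.GU 3 F q ⊓ Cfsg.Geo.specialLinear (Fin 3) F)) ∨
    (Odd q ∧ 7 ≤ q ∧ ∃ (F₀ : Subfield F) (P : Matrix.GeneralLinearGroup (Fin 3) F), Fintype.card F = Nat.card F₀ ^ 2 ∧ Cfsg.Geo.IsFormRationalStructure (Cfsg.hermForm 3 F q) F₀ 1 P ∧ H = Cfsg.Geo.subfieldSubgroup F₀ P ⊓ (Cfsg.GU 3 F q ⊓ Cfsg.Geo.specialLinear (Fin 3) F)) ∨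
    (∃ (p : ℕ) (R : Subgroup (Matrix.GeneralLinearGroup (Fin 3) F)), p.Prime ∧ q = p ∧ p % 3 = 2 ∧ 11 ≤ p ∧ Cfsg.Geo.IsSymplecticTypeGroup 3 R ∧ Cfsg.Geo.ActsAbsolutelyIrreducibly (Cfsg.Geo.matrixSet R) ∧ R ≤ Cfsg.Geo.similarityGroup (Cfsg.hermForm 3 F q) ∧ Nat.card R = 27 ∧ Nat.card (Subgroup.center R) = 3 ∧ H = Cfsg.Geo.subgroupNormalizer R ⊓ (Cfsg.GU 3 F q ⊓ Cfsg.Geo.specialLinear (Fin 3) F)) ∨
    Cfsg.Geo.InUnitaryResidualClass H := by
  rcases H38.SUMax.suList hF le_rfl (fun h => by omega) hH with ⟨W, h1, h2, h⟩ | ⟨W, h1, h2, h3, h⟩ |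
    ⟨t, m, D, h1, h2, h3, h⟩ | ⟨m, D, h1, -⟩ | ⟨r, K, h1, h2, h3, h4, h5, h⟩ |
    ⟨n₁, n₂, e, P, f₁, f₂, h1, h2, h3, -⟩ | ⟨F₁, r, P, hr, ho, hc, hrat, h⟩ |
    ⟨F₁, P, ho, hc, hrat, h⟩ | ⟨F₁, P, ζ, he, -⟩ |
    ⟨r, k, p, e, R, hR, habs, hiso, hsim, hk, hn, hrp, hmin, he, hqp, hz, hcard, h⟩ |
    ⟨a, t, e, P, f₁, h1, h2, h3, -⟩ | h
  · exact Or.inl ⟨W, h1, h2, h⟩
  · exact Or.inr (Or.inl ⟨W, h1, h2, h3, h⟩)
  · obtain ⟨rfl, rfl⟩ := H38.SUMax.prime_mul (show (3 : ℕ).Prime by norm_num) h1 h2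
    have hq5 : q ≠ 5 := fun e =>
      H38.SUMax.MonFive.no_frame hF e h3 hH (h.le.trans inf_le_left)
    exact Or.inr (Or.inr (Or.inl ⟨hq5, D, h3, h⟩))
  · omega
  · obtain rfl := H38.SUMax.eq_of_dvd_prime (show (3 : ℕ).Prime by norm_num) h1 h3
    have hq3 : q ≠ 3 := fun e =>
      H38.SUMax.FieldThree.no_field hF e h4 h5 hH (h.le.trans inf_le_left)
    have hq5 : q ≠ 5 := fun e =>
      H38.SUMax.FieldFive.no_field hF e h4 h5 hH (h.le.trans inf_le_left)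
    exact Or.inr (Or.inr (Or.inr (Or.inl ⟨hq3, hq5, K, h4, h5, h⟩)))
  · have hmem := H38.SUMax.divisor_pairs (by norm_num) h1 h3
    have hd : ∀ x ∈ (Finset.Icc 2 3 ×ˢ Finset.Icc 1 3).filter (fun x : ℕ × ℕ => x.1 * x.2 = 3),
        x.1 < x.2 → False := by decide
    exact (hd (n₁, n₂) hmem h2).elim
  · exact Or.inr (Or.inr (Or.inr (Or.inr (Or.inl ⟨F₁, r, P, hr, ho, hc, hrat, h⟩))))
  · by_cases h7 : 7 ≤ q
    · exact Or.inr (Or.inr (Or.inr (Or.inr (Or.inr (Or.inl ⟨ho, h7, F₁, P, hc, hrat, h⟩)))))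
    · have hq35 : q = 3 ∨ q = 5 := by
        obtain ⟨c, hc⟩ := ho
        omega
      rcases hq35 with hq3 | hq5
      · obtain ⟨D, hD, hDh⟩ :=
          H38.SUMax.ThreeFrame.exists_frame hF hq3 hc hrat hH (h.le.trans inf_le_left)
        exact Or.inr (Or.inr (Or.inl ⟨by omega, D, hD, hDh⟩))
      · exact (H38.SUMax.MonFive.no_real hF hq5 hc hrat hH (h.le.trans inf_le_left)).elim
  · exact absurd he (by decide)
  · obtain ⟨rfl, rfl⟩ := H38.SUMax.prime_pow_prime (show (3 : ℕ).Prime by norm_num) hR.prime hn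
    rcases hcard with ⟨-, hcen, hR'⟩ | ⟨h', -⟩
    swap
    · exact absurd h' (by decide)
    rw [hcen] at hz hmin
    have h2 : e ∣ 2 := H38.SUMax.minimal_degree_dvd hR.prime hrp hmin
    obtain rfl : e = 2 := by
      have h4 := Nat.le_of_dvd (by norm_num) h2
      obtain ⟨c, rfl⟩ := he
      rcases Nat.eq_zero_or_pos c with rfl | hc
      · simp at h2
      · omega
    have hqp' : q = p := by simpa using hqp
    obtain ⟨c, hc⟩ : 3 ∣ p + 1 := by simpa using hz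
    by_cases h11 : 11 ≤ p
    · exact Or.inr (Or.inr (Or.inr (Or.inr (Or.inr (Or.inr (Or.inl ⟨p, R, hmin.1, hqp', by omega, h11, hR,
        habs, hsim, by rw [hR']; norm_num, hcen, h⟩))))))
    · have hq5 : q = 5 := by
        have hp8 : p ≠ 8 := fun e => by
          have := hmin.1
          rw [e] at this
          norm_num at this
        omega
      exact (H38.SUMax.HeisFive.no_sympType hF hq5 hR habs hiso (by rw [hR']; norm_num) hcen hH
        (h.le.trans inf_le_left)).elim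
  · exact absurd h3 (H38.SUMax.no_power (by norm_num) (by norm_num) h1 h2)
  · exact Or.inr (Or.inr (Or.inr (Or.inr (Or.inr (Or.inr (Or.inr h))))))

end Cfsg.Agent.S5778
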