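import Cfsg.Statements.S5781
import Cfsg.Agent.H46.SL4Small

set_option autoImplicit false
open Cfsg

namespace Cfsg.Agent.S5781

/-- Every maximal subgroup of SL_4(q) is of one of the listed geometric types or lies in the residual class. Let F be a finite field with q elements and H a maximal subgroup of SL_4(F) (inside GL_4(F)). Then H is the intersection with SL_4(F) of one of: the stabiliser of a proper non-zero subspace; for q ≥ 7, the stabiliser of a decomposition into four independent lines; for q ≥ 4, the stabiliser of a decomposition into two independent planes; the normaliser of a degree-2 subfield of the matrix algebra; a subfield group for a subfield F₀ with |F| = |F₀|^r, r prime; for q = p ≡ 1 mod 4 prime, the normaliser of an absolutely irreducible 2-subgroup R of exponent 4 with centre of order 4, all of whose characteristic abelian subgroups are cyclic, of order 2^(2+2m) for some m (here |R| = 64), with 4 dividing p − 1; for q odd, the similarity group of a non-degenerate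 quadratic form; the similarity group of a non-degenerate symplectic form; the similarity group of a non-degenerate unitary form — or else H lies in the residual class of the linear case. -/
theorem result {F : Type*} [Field F] [Fintype F] (H : Subgroup (Matrix.GeneralLinearGroup (Fin 4) F)) (hH : Cfsg.Geo.IsMaximalIn (Cfsg.Geo.specialLinear (Fin 4) F) H) :
    (∃ W : Submodule F (Fin 4 → F), W ≠ ⊥ ∧ W ≠ ⊤ ∧ H = Cfsg.Geo.subspaceStabilizer W ⊓ Cfsg.Geo.specialLinear (Fin 4) F) ∨
    (7 ≤ Fintype.card F ∧ ∃ D : Fin 4 → Submodule F (Fin 4 → F), Cfsg.Geo.IsMDecomposition 1 D ∧ H = Cfsg.Geo.decompositionStabilizer D ⊓ Cfsg.Geo.specialLinear (Fin 4) F) ∨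
    (4 ≤ Fintype.card F ∧ ∃ D : Fin 2 → Submodule F (Fin 4 → F), Cfsg.Geo.IsMDecomposition 2 D ∧ H = Cfsg.Geo.decompositionStabilizer D ⊓ Cfsg.Geo.specialLinear (Fin 4) F) ∨
    (∃ K : Subalgebra F (Matrix (Fin 4) (Fin 4) F), Cfsg.Geo.IsFieldSubalgebra 2 K ∧ H = Cfsg.Geo.subalgebraNormalizer K ⊓ Cfsg.Geo.specialLinear (Fin 4) F) ∨
    (∃ (F₀ : Subfield F) (r : ℕ) (P : Matrix.GeneralLinearGroup (Fin 4) F), r.Prime ∧ Fintype.card F = Nat.card F₀ ^ r ∧ H = Cfsg.Geo.subfieldSubgroup F₀ P ⊓ Cfsg.Geo.specialLinear (Fin 4) F) ∨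
    (∃ (p : ℕ) (R : Subgroup (Matrix.GeneralLinearGroup (Fin 4) F)), p.Prime ∧ Fintype.card F = p ∧ p % 4 = 1 ∧ Cfsg.Geo.IsLinearSymplecticTypeData 2 R ∧ H = Cfsg.Geo.subgroupNormalizer R ⊓ Cfsg.Geo.specialLinear (Fin 4) F) ∨
    (Odd (Fintype.card F) ∧ ∃ Q : (Fin 4 → F) → F, Cfsg.Geo.IsNondegenerateQuadraticForm Q ∧ H = Cfsg.Geo.quadSimilarityGroup Q ⊓ Cfsg.Geo.specialLinear (Fin 4) F) ∨
    (∃ f : (Fin 4 → F) → (Fin 4 → F) → F, Cfsg.Geo.IsSymplecticForm f ∧ H = Cfsg.Geo.similarityGroup f ⊓ Cfsg.Geo.specialLinear (Fin 4) F) ∨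
    (∃ (σ : F ≃+* F) (f : (Fin 4 → F) → (Fin 4 → F) → F), Cfsg.Geo.IsUnitaryForm σ f ∧ H = Cfsg.Geo.similarityGroup f ⊓ Cfsg.Geo.specialLinear (Fin 4) F) ∨
    Cfsg.Geo.InLinearResidualClass H := by
  have hn : 3 ≤ Fintype.card (Fin 4) := by simp
  cases H46.slMax hn hH with
  | reducible W hb ht h => exact Or.inl (⟨W, hb, ht, h⟩)
  | imprimitive t m D hD hcard h5 h3 h =>
    rw [Fintype.card_fin] at hcard
    have hm : m ∣ 4 := Dvd.intro_left t hcard.symm
    have ht := hD.two_le
    have hm' : m < 4 := by nlinarith [hD.pos]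
    interval_cases m <;> first | omega | skip
    · obtain rfl : t = 4 := by omega
      have hq5 := h5 rfl
      by_cases hq7 : 7 ≤ Fintype.card F
      · exact Or.inr (Or.inl ⟨hq7, D, hD, h⟩)
      · obtain hq | hq : Fintype.card F = 5 ∨ Fintype.card F = 6 := by omega
        · exact (H46.monomial_not_maximal hq hH hD (h.le.trans inf_le_left)).elim
        · obtain ⟨p, n, hp, hn0, hpn⟩ := Fintype.isPrimePow_card_of_field (α := F)
          rw [hq] at hpn
          exfalso
          have hp' := hp.nat_prime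
          have hd : p ∣ 6 := hpn ▸ dvd_pow_self p hn0.ne'
          have hple : p ≤ 6 := Nat.le_of_dvd (by norm_num) hd
          interval_cases p <;> first | (norm_num at hp'; done) | omega | skip
          · have h3 : 3 ∣ 2 ^ n := hpn ▸ (by norm_num)
            exact absurd (Nat.prime_three.dvd_of_dvd_pow h3) (by norm_num)
          · have h2 : 2 ∣ 3 ^ n := hpn ▸ (by norm_num)
            exact absurd (Nat.prime_two.dvd_of_dvd_pow h2) (by norm_num)
    · obtain rfl : t = 2 := by omega
      by_cases hq4 : 4 ≤ Fintype.card F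
      · exact Or.inr (Or.inr (Or.inl (⟨hq4, D, hD, h⟩)))
      · obtain ⟨f, hf, hsim⟩ := H46.planes_three (by have := h3 rfl; omega) hD h.le
        have h' := H46.eq_inf_of_maximal hH hsim
          (H46.not_sl_le_similarity hn hf.bilinear.add_right hf.nondegenerate)
        exact Or.inr (Or.inr (Or.inr (Or.inr (Or.inr (Or.inr (Or.inr (Or.inl ⟨f, hf, h'⟩)))))))
  | fieldExt r K hr hK hdvd h =>
    rw [Fintype.card_fin] at hdvd
    have hle : r ≤ 4 := Nat.le_of_dvd (by norm_num) hdvd
    interval_cases r <;> first | omega | (norm_num at hr; done) | skip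
    · exact Or.inr (Or.inr (Or.inr (Or.inl (⟨K, hK, h⟩))))
  | tensor n₁ n₂ e P h1 h2 hcard hq h =>
    rw [Fintype.card_fin] at hcard
    have hb : n₁ ≤ 4 := Nat.le_of_dvd (by norm_num) (Dvd.intro _ hcard.symm)
    exfalso; interval_cases n₁ <;> omega
  | subfield F₀ r P hr hc h => exact Or.inr (Or.inr (Or.inr (Or.inr (Or.inl (⟨F₀, r, P, hr, hc, h⟩)))))
  | symplecticType r k R hR hk hcard h =>
    rw [Fintype.card_fin] at hcard
    have hr := hR.symplecticType.prime
    obtain rfl : r = 2 := by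
      have h1 : r ∣ 2 ^ 2 := ⟨r ^ (k - 1), by rw [← pow_succ', Nat.sub_add_cancel hk, ← hcard]; norm_num⟩
      exact (Nat.prime_dvd_prime_iff_eq hr (by norm_num)).1 (hr.dvd_of_dvd_pow h1)
    obtain ⟨p, hp, hq, hp4⟩ := H46.sympType_two hR hn
    exact Or.inr (Or.inr (Or.inr (Or.inr (Or.inr (Or.inl (⟨p, R, hp, hq, hp4, hR, h⟩))))))
  | tensorWreath m t e P hm ht hcard h =>
    rw [Fintype.card_fin] at hcard
    exfalso
    have h1 : m ^ 2 ≤ m ^ t := Nat.pow_le_pow_right (by omega) ht
    have hm3 : m ≤ 3 := by nlinarith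
    obtain rfl : m = 3 := by omega
    have ht' : t < 4 := hcard ▸ Nat.lt_pow_self (by norm_num)
    interval_cases t <;> norm_num at hcard
  | symplectic f hf he h =>
    exact Or.inr (Or.inr (Or.inr (Or.inr (Or.inr (Or.inr (Or.inr (Or.inl (⟨f, hf, h⟩))))))))
  | unitary σ f hf h => exact Or.inr (Or.inr (Or.inr (Or.inr (Or.inr (Or.inr (Or.inr (Or.inr (Or.inl (⟨σ, f, hf, h⟩)))))))))
  | quadratic Q hQ ho h => exact Or.inr (Or.inr (Or.inr (Or.inr (Or.inr (Or.inr (Or.inl (⟨ho, Q, hQ, h⟩)))))))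
  | residual h => exact Or.inr (Or.inr (Or.inr (Or.inr (Or.inr (Or.inr (Or.inr (Or.inr (Or.inr (h)))))))))

end Cfsg.Agent.S5781
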