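import Cfsg.Statements.S5784
import Cfsg.Agent.H38.SUMax.Arith
import Cfsg.Agent.H38.SUMax.FourThree
import Cfsg.Agent.H38.SUMax.PairSubfield

set_option autoImplicit false
open Cfsg

namespace Cfsg.Agent.S5784

/-- Every maximal subgroup of SU_4(q) is of one of the listed geometric types or lies in the residual class. Let F be the field with q² elements, f the standard unitary form Σ u_i v_i^q on F^4, and H a maximal subgroup of SU_4(q) (inside GL_4(F)). Then H is the intersection with SU_4(q) of one of: the stabiliser of a non-zero subspace on which f vanishes; the stabiliser of a non-degenerate 1-space; for q ≠ 3, the stabiliser of a decomposition into four mutually orthogonal non-degenerate 1-spaces; for q ≥ 3, of a decomposition into two orthogonal non-degenerate 2-spaces; for q ≥ 4, of a decomposition into two totally isotropic 2-spaces; a subfield group of odd prime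 index whose F₀-structure carries f; a subfield group of index 2 whose F₀-structure carries ζ f, vanishing on pairs (u, u), for some non-zero ζ with ζ + ζ^q = 0; for q odd, a subfield group of index 2 whose F₀-structure carries f; for q = p ≡ 3 mod 4 prime, the normaliser of an absolutely irreducible symplectic-type 2-group of exponent 4, order 64 and centre of order 4 inside the similarity group of f — or else H lies in the residual class of the unitary case. -/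
theorem result {F : Type*} [Field F] [Fintype F] (q : ℕ) (hF : Fintype.card F = q ^ 2) (H : Subgroup (Matrix.GeneralLinearGroup (Fin 4) F)) (hH : Cfsg.Geo.IsMaximalIn (Cfsg.GU 4 F q ⊓ Cfsg.Geo.specialLinear (Fin 4) F) H) :
    (∃ W : Submodule F (Fin 4 → F), W ≠ ⊥ ∧ Cfsg.Geo.IsTotallySingularFor (Cfsg.hermForm 4 F q) W ∧ H = Cfsg.Geo.subspaceStabilizer W ⊓ (Cfsg.GU 4 F q ⊓ Cfsg.Geo.specialLinear (Fin 4) F)) ∨
    (∃ W : Submodule F (Fin 4 → F), W ≠ ⊥ ∧ Cfsg.Geo.IsNondegenerateOn (Cfsg.hermForm 4 F q) W ∧ 2 * Module.finrank F W < 4 ∧ H = Cfsg.Geo.subspaceStabilizer W ⊓ (Cfsg.GU 4 F q ⊓ Cfsg.Geo.specialLinear (Fin 4) F)) ∨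
    (q ≠ 3 ∧ ∃ D : Fin 4 → Submodule F (Fin 4 → F), Cfsg.Geo.IsNondegenerateMDecomposition (Cfsg.hermForm 4 F q) 1 D ∧ H = Cfsg.Geo.decompositionStabilizer D ⊓ (Cfsg.GU 4 F q ⊓ Cfsg.Geo.specialLinear (Fin 4) F)) ∨
    (3 ≤ q ∧ ∃ D : Fin 2 → Submodule F (Fin 4 → F), Cfsg.Geo.IsNondegenerateMDecomposition (Cfsg.hermForm 4 F q) 2 D ∧ H = Cfsg.Geo.decompositionStabilizer D ⊓ (Cfsg.GU 4 F q ⊓ Cfsg.Geo.specialLinear (Fin 4) F)) ∨
    (4 ≤ q ∧ ∃ D : Fin 2 → Submodule F (Fin 4 → F), Cfsg.Geo.IsMDecomposition 2 D ∧ (∀ i, Cfsg.Geo.IsTotallySingularFor (Cfsg.hermForm 4 F q) (D i)) ∧ H = Cfsg.Geo.decompositionStabilizer D ⊓ (Cfsg.GU 4 F q ⊓ Cfsg.Geo.specialLinear (Fin 4) F)) ∨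
    (∃ (F₀ : Subfield F) (r : ℕ) (P : Matrix.GeneralLinearGroup (Fin 4) F), r.Prime ∧ Odd r ∧ Fintype.card F = Nat.card F₀ ^ r ∧ Cfsg.Geo.IsFormRationalStructure (Cfsg.hermForm 4 F q) F₀ 1 P ∧ H = Cfsg.Geo.subfieldSubgroup F₀ P ⊓ (Cfsg.GU 4 F q ⊓ Cfsg.Geo.specialLinear (Fin 4) F)) ∨
    (∃ (F₀ : Subfield F) (P : Matrix.GeneralLinearGroup (Fin 4) F) (ζ : F), Fintype.card F = Nat.card F₀ ^ 2 ∧ ζ ≠ 0 ∧ ζ + ζ ^ q = 0 ∧ Cfsg.Geo.IsFormRationalStructure (Cfsg.hermForm 4 F q) F₀ ζ P ∧ (∀ u : Fin 4 → F, (∀ i, u i ∈ F₀) → (Cfsg.hermForm 4 F q) (Matrix.mulVec (P : Matrix (Fin 4) (Fin 4) F) u) (Matrix.mulVec (P : Matrix (Fin 4) (Fin 4) F) u) = 0) ∧ H = Cfsg.Geo.subfieldSubgroup F₀ P ⊓ (Cfsg.GU 4 F q ⊓ Cfsg.Geo.specialLinear (Fin 4) F)) ∨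
    (Odd q ∧ ∃ (F₀ : Subfield F) (P : Matrix.GeneralLinearGroup (Fin 4) F), Fintype.card F = Nat.card F₀ ^ 2 ∧ Cfsg.Geo.IsFormRationalStructure (Cfsg.hermForm 4 F q) F₀ 1 P ∧ H = Cfsg.Geo.subfieldSubgroup F₀ P ⊓ (Cfsg.GU 4 F q ⊓ Cfsg.Geo.specialLinear (Fin 4) F)) ∨
    (∃ (p : ℕ) (R : Subgroup (Matrix.GeneralLinearGroup (Fin 4) F)), p.Prime ∧ q = p ∧ p % 4 = 3 ∧ Cfsg.Geo.IsSymplecticTypeGroup 2 R ∧ Cfsg.Geo.ActsAbsolutelyIrreducibly (Cfsg.Geo.matrixSet R) ∧ R ≤ Cfsg.Geo.similarityGroup (Cfsg.hermForm 4 F q) ∧ Nat.card R = 64 ∧ Nat.card (Subgroup.center R) = 4 ∧ H = Cfsg.Geo.subgroupNormalizer R ⊓ (Cfsg.GU 4 F q ⊓ Cfsg.Geo.specialLinear (Fin 4) F)) ∨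
    Cfsg.Geo.InUnitaryResidualClass H := by
  rcases H38.SUMax.suList hF (by norm_num) (by simp) hH with ⟨W, h1, h2, h⟩ | ⟨W, h1, h2, h3, h⟩ |
    ⟨t, m, D, h1, h2, h3, h⟩ | ⟨m, D, h1, h2, h3, h⟩ | ⟨r, K, h1, h2, h3, -⟩ |
    ⟨n₁, n₂, e, P, f₁, f₂, h1, h2, h3, -⟩ | ⟨F₁, r, P, hr, ho, hc, hrat, h⟩ |
    ⟨F₁, P, ho, hc, hrat, h⟩ | ⟨F₁, P, ζ, he, hc, hζ, hζq, hrat, hiso, h⟩ |
    ⟨r, k, p, e, R, hR, habs, hiso, hsim, hk, hn, hrp, hmin, he, hqp, hz, hcard, h⟩ |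
    ⟨a, t, e, P, f₁, h1, h2, h3, -⟩ | h
  · exact Or.inl ⟨W, h1, h2, h⟩
  · exact Or.inr (Or.inl ⟨W, h1, h2, h3, h⟩)
  · have hmem := H38.SUMax.divisor_pairs (by norm_num) h1 h2
    have hcases : (t = 4 ∧ m = 1) ∨ (t = 2 ∧ m = 2) := by
      revert hmem
      have hd : ∀ x ∈ (Finset.Icc 2 4 ×ˢ Finset.Icc 1 4).filter (fun x : ℕ × ℕ => x.1 * x.2 = 4),
          (x.1 = 4 ∧ x.2 = 1) ∨ (x.1 = 2 ∧ x.2 = 2) := by decide
      exact hd (t, m)
    rcases hcases with ⟨rfl, rfl⟩ | ⟨rfl, rfl⟩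
    · have hq : q ≠ 3 := fun e =>
        H38.SUMax.FourThree.no_frame hF e h3 hH (h.le.trans inf_le_left)
      exact Or.inr (Or.inr (Or.inl ⟨hq, D, h3, h⟩))
    · by_cases hq : 3 ≤ q
      · exact Or.inr (Or.inr (Or.inr (Or.inl ⟨hq, D, h3, h⟩)))
      · have hq2 : q = 2 := by have := H50.two_le hF; omega
        obtain ⟨E, hE, hEh⟩ := H38.SUMax.lines_of_planes hF hq2 (by norm_num) (by norm_num) h3 hH h
        exact Or.inr (Or.inr (Or.inl ⟨by omega, E, hE, hEh⟩))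
  · obtain rfl : m = 2 := by omega
    by_cases hq : 4 ≤ q
    · exact Or.inr (Or.inr (Or.inr (Or.inr (Or.inl ⟨hq, D, h2, h3, h⟩))))
    · obtain ⟨F₁, P, ζ, hc, hζ, hζq, hrat, hiso, hle⟩ :=
        H38.SUMax.exists_subfield_of_pair hF (by omega) h2 h3 hH.1.le (h.le.trans inf_le_left)
      have htop : F₁ ≠ ⊤ := H38.SUMax.not_dvd_of_subfield Nat.prime_two hc
      exact Or.inr (Or.inr (Or.inr (Or.inr (Or.inr (Or.inr (Or.inl ⟨F₁, P, ζ, hc, hζ, hζq, hrat, hiso, H38.SUMax.eq_inf_max hH hle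
        (H38.SUMax.not_su_le_subfield hF (by norm_num) (by simp) htop P)⟩))))))
  · have hd : ∀ x ∈ Finset.range 5, x ∣ 4 → x.Prime → Odd x → False := by decide
    exact (hd r (Finset.mem_range.2 (by have := Nat.le_of_dvd (by norm_num) h3; omega)) h3 h1 h2).elim
  · have hmem := H38.SUMax.divisor_pairs (by norm_num) h1 h3
    have hd : ∀ x ∈ (Finset.Icc 2 4 ×ˢ Finset.Icc 1 4).filter (fun x : ℕ × ℕ => x.1 * x.2 = 4),
        x.1 < x.2 → False := by decide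
    exact (hd (n₁, n₂) hmem h2).elim
  · exact Or.inr (Or.inr (Or.inr (Or.inr (Or.inr (Or.inl ⟨F₁, r, P, hr, ho, hc, hrat, h⟩)))))
  · exact Or.inr (Or.inr (Or.inr (Or.inr (Or.inr (Or.inr (Or.inr (Or.inl ⟨ho, F₁, P, hc, hrat, h⟩)))))))
  · exact Or.inr (Or.inr (Or.inr (Or.inr (Or.inr (Or.inr (Or.inl ⟨F₁, P, ζ, hc, hζ, hζq, hrat, hiso, h⟩))))))
  · obtain rfl : r = 2 := ((Nat.prime_dvd_prime_iff_eq hR.prime Nat.prime_two).1
      (hR.prime.dvd_of_dvd_pow (show r ∣ 2 ^ 2 by rw [show 2 ^ 2 = r ^ k from hn]; exact dvd_pow_self r (by omega))))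
    obtain rfl : k = 2 := Nat.pow_right_injective le_rfl (hn.symm.trans (by norm_num : (4 : ℕ) = 2 ^ 2))
    rcases hcard with ⟨h', -⟩ | ⟨-, hcen, hR'⟩
    · exact absurd h' (by decide)
    rw [hcen] at hz
    obtain rfl : e = 2 := H45.minimal_four hmin hcen he (Ne.symm hrp)
    refine Or.inr (Or.inr (Or.inr (Or.inr (Or.inr (Or.inr (Or.inr (Or.inr (Or.inl ⟨p, R, hmin.1, by simpa using hqp, ?_, hR, habs, hsim, by rw [hR']; norm_num, hcen, h⟩))))))))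
    obtain ⟨c, hc⟩ : 4 ∣ p + 1 := by simpa using hz
    omega
  · exact absurd h3 (H38.SUMax.no_power (by norm_num) (by norm_num) h1 h2)
  · exact Or.inr (Or.inr (Or.inr (Or.inr (Or.inr (Or.inr (Or.inr (Or.inr (Or.inr (h)))))))))

end Cfsg.Agent.S5784
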