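import Cfsg.Statements.S5787
import Cfsg.Agent.H51.FormAsch.UnitThree
-- import your own Cfsg.Agent.* helpers here

set_option autoImplicit false
open Cfsg

namespace Cfsg.Agent.S5787

/-- Every maximal subgroup of Sp_4(q), q odd, is of one of the listed geometric types or lies in the residual class. Let F be a finite field of odd order q, f the standard alternating form on F^4 (coordinates Fin 2 ⊕ Fin 2), and H a maximal subgroup of the isometry group Sp_4(F) (inside GL_4(F)). Then H is the intersection with Sp_4(F) of one of: the stabiliser of a non-zero totally isotropic subspace; the stabiliser of a decomposition into two orthogonal non-degenerate 2-spaces; for q ≥ 5, of a decomposition into two totally isotropic 2-spaces; the normaliser of a degree-2 subfield K of the matrix algebra, self-adjoint with f(k v, v) = 0; for q ≥ 5, the normaliser of a degree-2 subfield closed under adjoints but not self-adjoint;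 a subfield group whose F₀-structure carries a non-zero multiple of f, |F| = |F₀|^r with r prime; for q = p prime, the normaliser of an absolutely irreducible symplectic-type 2-group of exponent 4, order 32, centre of order 2 and minus type inside the similarity group of f — or else H lies in the residual class of the symplectic case. -/
theorem result {F : Type*} [Field F] [Fintype F] (hodd : Odd (Fintype.card F)) (H : Subgroup (Matrix.GeneralLinearGroup (Fin 2 ⊕ Fin 2) F)) (hH : Cfsg.Geo.IsMaximalIn (Cfsg.spGL 2 F) H) :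
    (∃ W : Submodule F (Fin 2 ⊕ Fin 2 → F), W ≠ ⊥ ∧ Cfsg.Geo.IsTotallySingularFor (Cfsg.sympForm 2 F) W ∧ H = Cfsg.Geo.subspaceStabilizer W ⊓ Cfsg.spGL 2 F) ∨
    (∃ D : Fin 2 → Submodule F (Fin 2 ⊕ Fin 2 → F), Cfsg.Geo.IsNondegenerateMDecomposition (Cfsg.sympForm 2 F) 2 D ∧ H = Cfsg.Geo.decompositionStabilizer D ⊓ Cfsg.spGL 2 F) ∨
    (5 ≤ Fintype.card F ∧ ∃ D : Fin 2 → Submodule F (Fin 2 ⊕ Fin 2 → F), Cfsg.Geo.IsMDecomposition 2 D ∧ (∀ i, Cfsg.Geo.IsTotallySingularFor (Cfsg.sympForm 2 F) (D i)) ∧ H = Cfsg.Geo.decompositionStabilizer D ⊓ Cfsg.spGL 2 F) ∨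
    (∃ K : Subalgebra F (Matrix (Fin 2 ⊕ Fin 2) (Fin 2 ⊕ Fin 2) F), Cfsg.Geo.IsFieldSubalgebra 2 K ∧ Cfsg.Geo.IsSelfAdjointFor (Cfsg.sympForm 2 F) K ∧ (∀ k ∈ K, ∀ v : (Fin 2 ⊕ Fin 2 → F), (Cfsg.sympForm 2 F) (Matrix.mulVec k v) v = 0) ∧ H = Cfsg.Geo.subalgebraNormalizer K ⊓ Cfsg.spGL 2 F) ∨
    (5 ≤ Fintype.card F ∧ ∃ K : Subalgebra F (Matrix (Fin 2 ⊕ Fin 2) (Fin 2 ⊕ Fin 2) F), Cfsg.Geo.IsFieldSubalgebra 2 K ∧ Cfsg.Geo.IsAdjointClosedFor (Cfsg.sympForm 2 F) K ∧ ¬ Cfsg.Geo.IsSelfAdjointFor (Cfsg.sympForm 2 F) K ∧ H = Cfsg.Geo.subalgebraNormalizer K ⊓ Cfsg.spGL 2 F) ∨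
    (∃ (F₀ : Subfield F) (r : ℕ) (P : Matrix.GeneralLinearGroup (Fin 2 ⊕ Fin 2) F) (ζ : F), r.Prime ∧ Fintype.card F = Nat.card F₀ ^ r ∧ ζ ≠ 0 ∧ Cfsg.Geo.IsFormRationalStructure (Cfsg.sympForm 2 F) F₀ ζ P ∧ H = Cfsg.Geo.subfieldSubgroup F₀ P ⊓ Cfsg.spGL 2 F) ∨
    (∃ (p : ℕ) (R : Subgroup (Matrix.GeneralLinearGroup (Fin 2 ⊕ Fin 2) F)), p.Prime ∧ Fintype.card F = p ∧ Cfsg.Geo.IsSymplecticTypeGroup 2 R ∧ Cfsg.Geo.ActsAbsolutelyIrreducibly (Cfsg.Geo.matrixSet R) ∧ R ≤ Cfsg.Geo.similarityGroup (Cfsg.sympForm 2 F) ∧ Nat.card R = 32 ∧ Nat.card (Subgroup.center R) = 2 ∧ Cfsg.Geo.IsOfMinusType 2 R ∧ H = Cfsg.Geo.subgroupNormalizer R ⊓ Cfsg.spGL 2 F) ∨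
    Cfsg.Geo.InSymplecticResidualClass H := by
  classical
  have hf := H51.FormAsch.isSymplecticForm_sympForm (F := F) (m := 2)
  have hc4 : Fintype.card (Fin 2 ⊕ Fin 2) = 4 := by simp
  have hq : 5 ≤ Fintype.card F ∨ Fintype.card F = 3 := by
    obtain ⟨j, hj⟩ := hodd
    have := Fintype.one_lt_card (α := F)
    omega
  have hiso : ∀ g ∈ H, ∀ u v, Cfsg.sympForm 2 F (Matrix.mulVec (g : Matrix (Fin 2 ⊕ Fin 2) (Fin 2 ⊕ Fin 2) F) u)
      (Matrix.mulVec (g : Matrix (Fin 2 ⊕ Fin 2) (Fin 2 ⊕ Fin 2) F) v) = Cfsg.sympForm 2 F u v :=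
    fun g hg => hH.1.le hg
  rcases H51.FormAsch.spMax (by norm_num) hH with
    ⟨W, hW, hs, h⟩ | ⟨W, hW, hn, hlt, h⟩ | ⟨t, k, D, hc, hk, hk2, hD, h⟩ | ⟨D, ho, hD, hs, h⟩ |
    ⟨r, K, hr, hdvd, hK, hs, ha, h⟩ | ⟨K, ho, hK, ha, hns, h⟩ |
    ⟨n₁, n₂, e, P, f₁, f₂, ho, h1, h2', hc, hq', hf₁, hf₂, hT, h⟩ | ⟨F₀, r, P, ζ, hr, hc, hζ, hR, h⟩ |
    ⟨Q, he, hQ, hp, h⟩ | ⟨a, k, hk, hc, hor, hd⟩ | h
  · exact .inl ⟨W, hW, hs, h⟩
  · exfalso
    have h1 := H51.FormAsch.two_dvd_finrank hf hn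
    have h0 : Module.finrank F W ≠ 0 := fun h0 => hW (Submodule.finrank_eq_zero.1 h0)
    omega
  · have h2t := hD.decomp.two_le
    obtain ⟨j, rfl⟩ := hk
    have hj0 : 0 < j := by have := hD.decomp.pos; omega
    obtain ⟨rfl, rfl⟩ : t = 2 ∧ j = 1 := by
      have : j ≤ 1 := by nlinarith
      interval_cases j <;> omega
    exact .inr <| .inl ⟨D, hD, h⟩
  · rcases hq with h5 | h3
    · exact .inr <| .inr <| .inl ⟨h5, D, hD, hs, h⟩
    obtain ⟨E, hE, hle⟩ := H51.FormAsch.decomp_of_pair_three h3 hf hc4 hD hs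
    exact .inr <| .inl ⟨E, hE, H46.eq_inf_of_maximal hH
      (fun g hg => hle g (show g ∈ Cfsg.Geo.decompositionStabilizer D from (h.le hg).1) (hiso g hg))
      fun h' => H51.FormAsch.not_transv_decomposition hf hE.decomp le_rfl (H51.FormAsch.spGL_transvection 2 h')⟩
  · obtain rfl : r = 2 := (Nat.prime_dvd_prime_iff_eq hr Nat.prime_two).1 hdvd
    exact .inr <| .inr <| .inr <| .inl ⟨K, hK, hs, ha, h⟩
  · rcases hq with h5 | h3
    · exact .inr <| .inr <| .inr <| .inr <| .inl ⟨h5, K, hK, ha, hns, h⟩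
    obtain ⟨p, R, hp, hFp, hst, habs, hR, hcard, hcen, hminus, hinv, hN⟩ :=
      H51.FormAsch.sympType_of_unitField_three h3 hf hc4 hK ha hns
    refine .inr <| .inr <| .inr <| .inr <| .inr <| .inr <| .inl ⟨p, R, hp, hFp, hst, habs,
      fun x hx => ⟨1, fun u v => by rw [Units.val_one, one_mul]; exact hR x hx u v⟩, hcard, hcen, hminus,
      H46.eq_inf_of_maximal hH (fun g hg => hN g (h.le hg).1 (hiso g hg)) fun h' =>
        H51.FormAsch.not_transv_sympType hf (H51.FormAsch.two_ne_of_three h3) hR (fun x hx => ?_) hinv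
          (H51.FormAsch.spGL_transvection 2 h')⟩
    have h1 := Monoid.pow_exponent_eq_one (⟨x, hx⟩ : R)
    rw [hst.exponent_eq] at h1
    simpa using congrArg Subtype.val h1
  · exfalso
    obtain ⟨j, rfl⟩ := h1
    rcases Nat.eq_zero_or_pos j with rfl | hj
    · simp at hc
    · nlinarith
  · exact .inr <| .inr <| .inr <| .inr <| .inr <| .inl ⟨F₀, r, P, ζ, hr, hc, hζ, hR, h⟩
  · exact absurd hodd he
  · rcases hd with hd | hd
    · obtain ⟨rfl, hd'⟩ := H51.FormAsch.sp_abelian_case le_rfl hH hd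
      rcases hd' with ⟨p, R, hp, -, hqp, hst, habs, hsim, hcard, hcen, hminus, h⟩ |
        ⟨F₁, s, P₁, ζ, hs, hc', hζ, hR, h⟩
      · obtain rfl : k = 2 := Nat.pow_right_injective le_rfl (show 2 ^ k = 2 ^ 2 by omega)
        exact .inr <| .inr <| .inr <| .inr <| .inr <| .inr <| .inl
          ⟨p, R, hp, hqp, hst, habs, hsim, hcard, hcen, hminus, h⟩
      · exact .inr <| .inr <| .inr <| .inr <| .inr <| .inl ⟨F₁, s, P₁, ζ, hs, hc', hζ, hR, h⟩
    · exfalso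
      obtain ⟨rfl, rfl⟩ : a = 2 ∧ k = 2 := by
        have ha := hd.two_le_deg
        have hk2 := hd.two_le_num
        have hc8 : a ^ k = 4 := by omega
        have h1 : a ^ 2 ≤ 4 := (Nat.pow_le_pow_right (by omega) hk2).trans hc8.le
        obtain rfl : a = 2 := by nlinarith
        exact ⟨rfl, Nat.pow_right_injective le_rfl (show 2 ^ k = 2 ^ 2 by omega)⟩
      rcases H51.FormAsch.sp_power_case le_rfl hH hd with ⟨-, -, hk, -⟩ | ⟨he, -⟩
      · exact absurd hk (by decide)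
      · exact he hodd
  · exact .inr <| .inr <| .inr <| .inr <| .inr <| .inr <| .inr h

end Cfsg.Agent.S5787
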