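import Cfsg.Statements.S5790
import Cfsg.Agent.H51.FormAsch.SpTools
import Cfsg.Agent.H51.FormAsch.PowerQuad

set_option autoImplicit false
open Cfsg

namespace Cfsg.Agent.S5790

/-- Every maximal subgroup of Sp_4(q), q ≥ 4 even, is of one of the listed geometric types or lies in the residual class. Let F be a finite field of even order q ≥ 4, f the standard alternating form on F^4 (coordinates Fin 2 ⊕ Fin 2), and H a maximal subgroup of Sp_4(F) (inside GL_4(F)). Then H is the intersection with Sp_4(F) of one of: the stabiliser of a non-zero totally isotropic subspace; the stabiliser of a decomposition into two orthogonal non-degenerate 2-spaces; the normaliser of a degree-2 subfield K of the matrix algebra, self-adjoint with f(k v, v) = 0; a subfield group whose F₀-structure carries a non-zero multiple of f, |F| = |F₀|^r with r prime; the similarity group of a non-degenerate quadratic form whose polar form is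 f — or else H lies in the residual class of the symplectic case. -/
theorem result {F : Type*} [Field F] [Fintype F] (heven : ¬ Odd (Fintype.card F)) (h4 : 4 ≤ Fintype.card F) (H : Subgroup (Matrix.GeneralLinearGroup (Fin 2 ⊕ Fin 2) F)) (hH : Cfsg.Geo.IsMaximalIn (Cfsg.spGL 2 F) H) :
    (∃ W : Submodule F (Fin 2 ⊕ Fin 2 → F), W ≠ ⊥ ∧ Cfsg.Geo.IsTotallySingularFor (Cfsg.sympForm 2 F) W ∧ H = Cfsg.Geo.subspaceStabilizer W ⊓ Cfsg.spGL 2 F) ∨
    (∃ D : Fin 2 → Submodule F (Fin 2 ⊕ Fin 2 → F), Cfsg.Geo.IsNondegenerateMDecomposition (Cfsg.sympForm 2 F) 2 D ∧ H = Cfsg.Geo.decompositionStabilizer D ⊓ Cfsg.spGL 2 F) ∨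
    (∃ K : Subalgebra F (Matrix (Fin 2 ⊕ Fin 2) (Fin 2 ⊕ Fin 2) F), Cfsg.Geo.IsFieldSubalgebra 2 K ∧ Cfsg.Geo.IsSelfAdjointFor (Cfsg.sympForm 2 F) K ∧ (∀ k ∈ K, ∀ v : (Fin 2 ⊕ Fin 2 → F), (Cfsg.sympForm 2 F) (Matrix.mulVec k v) v = 0) ∧ H = Cfsg.Geo.subalgebraNormalizer K ⊓ Cfsg.spGL 2 F) ∨
    (∃ (F₀ : Subfield F) (r : ℕ) (P : Matrix.GeneralLinearGroup (Fin 2 ⊕ Fin 2) F) (ζ : F), r.Prime ∧ Fintype.card F = Nat.card F₀ ^ r ∧ ζ ≠ 0 ∧ Cfsg.Geo.IsFormRationalStructure (Cfsg.sympForm 2 F) F₀ ζ P ∧ H = Cfsg.Geo.subfieldSubgroup F₀ P ⊓ Cfsg.spGL 2 F) ∨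
    (∃ Q : (Fin 2 ⊕ Fin 2 → F) → F, Cfsg.Geo.IsNondegenerateQuadraticForm Q ∧ (∀ u v : (Fin 2 ⊕ Fin 2 → F), QuadraticMap.polar Q u v = (Cfsg.sympForm 2 F) u v) ∧ H = Cfsg.Geo.quadSimilarityGroup Q ⊓ Cfsg.spGL 2 F) ∨
    Cfsg.Geo.InSymplecticResidualClass H := by
  have h2 : (2 : F) = 0 := by
    by_contra h
    exact heven (H51.FormAsch.odd_card_of_two h)
  have hf : Cfsg.Geo.IsSymplecticForm (Cfsg.sympForm 2 F) :=
    ⟨H45.sympForm_bilinear 2 F, fun v w => H48.sf_swap w v, H45.sympForm_self 2 F,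
      H45.sympForm_nondegenerate 2 F⟩
  rcases H51.FormAsch.spMax (by norm_num) hH with
    ⟨W, hW, hs, h⟩ | ⟨W, hW, hn, hlt, h⟩ | ⟨t, k, D, hc, hk, hq, hD, h⟩ | ⟨D, ho, hD, hs, h⟩ |
    ⟨r, K, hr, hdvd, hK, hs, ha, h⟩ | ⟨K, ho, hK, ha, hns, h⟩ |
    ⟨n₁, n₂, e, P, f₁, f₂, ho, h1, h2', hc, hq, hf₁, hf₂, hT, h⟩ | ⟨F₀, r, P, ζ, hr, hc, hζ, hR, h⟩ |
    ⟨Q, he, hQ, hp, h⟩ | ⟨a, k, hk, hc, hor, hd⟩ | h
  · exact .inl ⟨W, hW, hs, h⟩
  · exfalso
    have h1 := H51.FormAsch.two_dvd_finrank hf hn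
    have h0 : Module.finrank F W ≠ 0 := fun h0 => hW (Submodule.finrank_eq_zero.1 h0)
    omega
  · have h2t := hD.decomp.two_le
    obtain ⟨j, rfl⟩ := hk
    have hj0 : 0 < j := by have := hD.decomp.pos; omega
    obtain ⟨rfl, rfl⟩ : t = 2 ∧ j = 1 := by
      have : j ≤ 1 := by nlinarith
      interval_cases j <;> omega
    exact .inr <| .inl ⟨D, hD, h⟩
  · exact absurd ho heven
  · obtain rfl : r = 2 := (Nat.prime_dvd_prime_iff_eq hr Nat.prime_two).1 hdvd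
    exact .inr <| .inr <| .inl ⟨K, hK, hs, ha, h⟩
  · exact absurd ho heven
  · exact absurd ho heven
  · exact .inr <| .inr <| .inr <| .inl ⟨F₀, r, P, ζ, hr, hc, hζ, hR, h⟩
  · exact .inr <| .inr <| .inr <| .inr <| .inl ⟨Q, hQ, hp, h⟩
  · have hn : 3 ≤ Fintype.card (Fin 2 ⊕ Fin 2) := by simp
    rcases hd with hd | hd
    · refine absurd ?_ hd.card_ne
      simp only [Fintype.card_sum, Fintype.card_fin]
      linear_combination (2 : F) * h2
    · obtain rfl : a = 2 := by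
        have ha := hd.two_le_deg
        have hk2 := hd.two_le_num
        have : a ^ 2 ≤ 4 := (Nat.pow_le_pow_right (by omega) hk2).trans hc.ge
        nlinarith
      have hG : H ⊔ Cfsg.Geo.scalars (Fin 2 ⊕ Fin 2) F ≤ Cfsg.Geo.similarityGroup (Cfsg.sympForm 2 F) :=
        H51.FormAsch.spSup_le_similarity hH.1.le
      obtain ⟨-, e, P, c, -, hmem, hform⟩ := H51.FormAsch.power_two hf hG hd
      obtain ⟨Q, hQ, hp, hle⟩ := H51.FormAsch.quad_of_power_two hf h2 hG hd.two_le_num e P c hmem hform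
      exact .inr <| .inr <| .inr <| .inr <| .inl ⟨Q, hQ, hp, H46.eq_inf_of_maximal hH (le_sup_left.trans hle)
        fun h' => H51.FormAsch.not_transv_quad hf hn hQ hp (H51.FormAsch.spGL_transvection 2 h')⟩
  · exact .inr <| .inr <| .inr <| .inr <| .inr h

end Cfsg.Agent.S5790
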