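import Cfsg.Statements.S5793
import Cfsg.Agent.H46.AschSmall

set_option autoImplicit false
open Cfsg

namespace Cfsg.Agent.S5793

/-- Every maximal subgroup of SL_5(q) is of one of the listed geometric types or lies in the residual class. Let F be a finite field with q elements (p its characteristic) and H a maximal subgroup of SL_5(F) (inside GL_5(F)). Then H is the intersection with SL_5(F) of one of: the stabiliser of a proper non-zero subspace; for q ≥ 5, the stabiliser of a decomposition into 5 independent 1-spaces; the normaliser of a degree-5 subfield of the matrix algebra; a subfield group for a subfield F₀ with |F| = |F₀|^r, r prime; for q = p prime with p ≡ 1 mod 5, the normaliser of an absolutely irreducible 5-subgroup R of exponent 5 and order 5^(1+2m) with centre of order 5, all of whose characteristic abelian subgroups are cyclic, F being the smallest field of characteristic p containing the fifth roots of unity (here R is extraspecial of order 125); for q odd, the similarity group of a non-degenerate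 quadratic form; the similarity group of a non-degenerate unitary form — or else H lies in the residual class of the linear case (modulo scalars H is almost simple, with absolutely irreducible perfect socle preimage realisable over no proper subfield and fixing no non-degenerate quadratic, symplectic or unitary form). -/
theorem result {F : Type*} [Field F] [Fintype F] (H : Subgroup (Matrix.GeneralLinearGroup (Fin 5) F)) (hH : Cfsg.Geo.IsMaximalIn (Cfsg.Geo.specialLinear (Fin 5) F) H) :
    (∃ W : Submodule F (Fin 5 → F), W ≠ ⊥ ∧ W ≠ ⊤ ∧ H = Cfsg.Geo.subspaceStabilizer W ⊓ Cfsg.Geo.specialLinear (Fin 5) F) ∨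
    (5 ≤ Fintype.card F ∧ ∃ D : Fin 5 → Submodule F (Fin 5 → F), Cfsg.Geo.IsMDecomposition 1 D ∧ H = Cfsg.Geo.decompositionStabilizer D ⊓ Cfsg.Geo.specialLinear (Fin 5) F) ∨
    (∃ K : Subalgebra F (Matrix (Fin 5) (Fin 5) F), Cfsg.Geo.IsFieldSubalgebra 5 K ∧ H = Cfsg.Geo.subalgebraNormalizer K ⊓ Cfsg.Geo.specialLinear (Fin 5) F) ∨
    (∃ (F₀ : Subfield F) (r : ℕ) (P : Matrix.GeneralLinearGroup (Fin 5) F), r.Prime ∧ Fintype.card F = Nat.card F₀ ^ r ∧ H = Cfsg.Geo.subfieldSubgroup F₀ P ⊓ Cfsg.Geo.specialLinear (Fin 5) F) ∨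
    ((∃ p : ℕ, p.Prime ∧ Fintype.card F = p ∧ (p % 5 = 1)) ∧ ∃ R : Subgroup (Matrix.GeneralLinearGroup (Fin 5) F), Cfsg.Geo.IsLinearSymplecticTypeData 5 R ∧ H = Cfsg.Geo.subgroupNormalizer R ⊓ Cfsg.Geo.specialLinear (Fin 5) F) ∨
    (Odd (Fintype.card F) ∧ ∃ Q : (Fin 5 → F) → F, Cfsg.Geo.IsNondegenerateQuadraticForm Q ∧ H = Cfsg.Geo.quadSimilarityGroup Q ⊓ Cfsg.Geo.specialLinear (Fin 5) F) ∨
    (∃ (σ : F ≃+* F) (f : (Fin 5 → F) → (Fin 5 → F) → F), Cfsg.Geo.IsUnitaryForm σ f ∧ H = Cfsg.Geo.similarityGroup f ⊓ Cfsg.Geo.specialLinear (Fin 5) F) ∨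
    Cfsg.Geo.InLinearResidualClass H := by
  have hn : 3 ≤ Fintype.card (Fin 5) := by simp
  cases H46.slMax hn hH with
  | reducible W hb ht h => exact Or.inl (⟨W, hb, ht, h⟩)
  | imprimitive t m D hD hcard h5 h3 h =>
    rw [Fintype.card_fin] at hcard
    have hm : m ∣ 5 := Dvd.intro_left t hcard.symm
    have ht := hD.two_le
    have hm' : m < 5 := by nlinarith [hD.pos]
    interval_cases m <;> first | omega | skip
    · obtain rfl : t = 5 := by omega
      exact Or.inr (Or.inl (⟨h5 rfl, D, hD, h⟩))
  | fieldExt r K hr hK hdvd h =>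
    rw [Fintype.card_fin] at hdvd
    have hle : r ≤ 5 := Nat.le_of_dvd (by norm_num) hdvd
    interval_cases r <;> first | omega | (norm_num at hr; done) | skip
    · exact Or.inr (Or.inr (Or.inl (⟨K, hK, h⟩)))
  | tensor n₁ n₂ e P h1 h2 hcard hq h =>
    rw [Fintype.card_fin] at hcard
    have hb : n₁ ≤ 5 := Nat.le_of_dvd (by norm_num) (Dvd.intro _ hcard.symm)
    exfalso; interval_cases n₁ <;> omega
  | subfield F₀ r P hr hc h => exact Or.inr (Or.inr (Or.inr (Or.inl (⟨F₀, r, P, hr, hc, h⟩))))
  | symplecticType r k R hR hk hcard h =>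
    rw [Fintype.card_fin] at hcard
    have hr := hR.symplecticType.prime
    obtain rfl : r = 5 := by
      have h1 : r ∣ 5 ^ 1 := ⟨r ^ (k - 1), by rw [← pow_succ', Nat.sub_add_cancel hk, ← hcard]; norm_num⟩
      exact (Nat.prime_dvd_prime_iff_eq hr (by norm_num)).1 (hr.dvd_of_dvd_pow h1)
    obtain ⟨p, e, hp, hchar, hq, hoe, hed, hmod, hne⟩ := H46.sympType_odd hR (by norm_num)
    have hele : e ≤ 4 := Nat.le_of_dvd (by norm_num) hed
    interval_cases e <;> first | omega | (norm_num at hoe; done) | skip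
    · exact Or.inr (Or.inr (Or.inr (Or.inr (Or.inl (⟨⟨p, hp, (by simpa using hq), by simpa using hmod⟩, R, hR, h⟩)))))
  | tensorWreath m t e P hm ht hcard h =>
    rw [Fintype.card_fin] at hcard
    exfalso
    have h1 : m ^ 2 ≤ m ^ t := Nat.pow_le_pow_right (by omega) ht
    have hm3 : m ≤ 3 := by nlinarith
    obtain rfl : m = 3 := by omega
    have ht' : t < 5 := hcard ▸ Nat.lt_pow_self (by norm_num)
    interval_cases t <;> norm_num at hcard
  | symplectic f hf he h =>
    rw [Fintype.card_fin] at he; exact absurd he (by decide)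
  | unitary σ f hf h => exact Or.inr (Or.inr (Or.inr (Or.inr (Or.inr (Or.inr (Or.inl (⟨σ, f, hf, h⟩)))))))
  | quadratic Q hQ ho h => exact Or.inr (Or.inr (Or.inr (Or.inr (Or.inr (Or.inl (⟨ho, Q, hQ, h⟩))))))
  | residual h => exact Or.inr (Or.inr (Or.inr (Or.inr (Or.inr (Or.inr (Or.inr (h)))))))

end Cfsg.Agent.S5793
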