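import Cfsg.Statements.S5796
import Cfsg.Agent.H38.SUMax.Arith
import Cfsg.Agent.H38.SUMax.FiveTwo

set_option autoImplicit false
open Cfsg

namespace Cfsg.Agent.S5796

/-- Every maximal subgroup of SU_5(q) is of one of the listed geometric types or lies in the residual class. Let F be the field with q² elements (characteristic p), f the standard unitary form Σ u_i v_i^q on F^5, and H a maximal subgroup of SU_5(q) (inside GL_5(F)). Then H is the intersection with SU_5(q) of one of: the stabiliser of a non-zero totally isotropic subspace; the stabiliser of a non-degenerate 1-space or 2-space; the stabiliser of a decomposition into five mutually orthogonal non-degenerate 1-spaces; for q ≥ 3, the normaliser of an adjoint-closed degree-5 subfield of the matrix algebra; a subfield group of odd prime index whose F₀-structure carries f; for q odd, a subfield group of index 2 whose F₀-structure carries f; for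 q = p ≡ 4 mod 5 or q = p² with p ≡ 2, 3 mod 5, the normaliser of an absolutely irreducible 5-group of exponent 5, order 125 and centre of order 5 with all characteristic abelian subgroups cyclic inside the similarity group of f — or else H lies in the residual class of the unitary case. -/
theorem result {F : Type*} [Field F] [Fintype F] (q : ℕ) (hF : Fintype.card F = q ^ 2) (H : Subgroup (Matrix.GeneralLinearGroup (Fin 5) F)) (hH : Cfsg.Geo.IsMaximalIn (Cfsg.GU 5 F q ⊓ Cfsg.Geo.specialLinear (Fin 5) F) H) :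
    (∃ W : Submodule F (Fin 5 → F), W ≠ ⊥ ∧ Cfsg.Geo.IsTotallySingularFor (Cfsg.hermForm 5 F q) W ∧ H = Cfsg.Geo.subspaceStabilizer W ⊓ (Cfsg.GU 5 F q ⊓ Cfsg.Geo.specialLinear (Fin 5) F)) ∨
    (∃ W : Submodule F (Fin 5 → F), W ≠ ⊥ ∧ Cfsg.Geo.IsNondegenerateOn (Cfsg.hermForm 5 F q) W ∧ 2 * Module.finrank F W < 5 ∧ H = Cfsg.Geo.subspaceStabilizer W ⊓ (Cfsg.GU 5 F q ⊓ Cfsg.Geo.specialLinear (Fin 5) F)) ∨
    (∃ D : Fin 5 → Submodule F (Fin 5 → F), Cfsg.Geo.IsNondegenerateMDecomposition (Cfsg.hermForm 5 F q) 1 D ∧ H = Cfsg.Geo.decompositionStabilizer D ⊓ (Cfsg.GU 5 F q ⊓ Cfsg.Geo.specialLinear (Fin 5) F)) ∨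
    (3 ≤ q ∧ ∃ K : Subalgebra F (Matrix (Fin 5) (Fin 5) F), Cfsg.Geo.IsFieldSubalgebra 5 K ∧ Cfsg.Geo.IsAdjointClosedFor (Cfsg.hermForm 5 F q) K ∧ H = Cfsg.Geo.subalgebraNormalizer K ⊓ (Cfsg.GU 5 F q ⊓ Cfsg.Geo.specialLinear (Fin 5) F)) ∨
    (∃ (F₀ : Subfield F) (r : ℕ) (P : Matrix.GeneralLinearGroup (Fin 5) F), r.Prime ∧ Odd r ∧ Fintype.card F = Nat.card F₀ ^ r ∧ Cfsg.Geo.IsFormRationalStructure (Cfsg.hermForm 5 F q) F₀ 1 P ∧ H = Cfsg.Geo.subfieldSubgroup F₀ P ⊓ (Cfsg.GU 5 F q ⊓ Cfsg.Geo.specialLinear (Fin 5) F)) ∨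
    (Odd q ∧ ∃ (F₀ : Subfield F) (P : Matrix.GeneralLinearGroup (Fin 5) F), Fintype.card F = Nat.card F₀ ^ 2 ∧ Cfsg.Geo.IsFormRationalStructure (Cfsg.hermForm 5 F q) F₀ 1 P ∧ H = Cfsg.Geo.subfieldSubgroup F₀ P ⊓ (Cfsg.GU 5 F q ⊓ Cfsg.Geo.specialLinear (Fin 5) F)) ∨
    (∃ (p : ℕ) (R : Subgroup (Matrix.GeneralLinearGroup (Fin 5) F)), p.Prime ∧ CharP F p ∧ ((q = p ∧ p % 5 = 4) ∨ (q = p ^ 2 ∧ (p % 5 = 2 ∨ p % 5 = 3))) ∧ Cfsg.Geo.IsSymplecticTypeGroup 5 R ∧ Cfsg.Geo.ActsAbsolutelyIrreducibly (Cfsg.Geo.matrixSet R) ∧ R ≤ Cfsg.Geo.similarityGroup (Cfsg.hermForm 5 F q) ∧ Nat.card R = 125 ∧ Nat.card (Subgroup.center R) = 5 ∧ H = Cfsg.Geo.subgroupNormalizer R ⊓ (Cfsg.GU 5 F q ⊓ Cfsg.Geo.specialLinear (Fin 5) F)) ∨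
    Cfsg.Geo.InUnitaryResidualClass H := by
  rcases H38.SUMax.suList hF (by norm_num) (by simp) hH with ⟨W, h1, h2, h⟩ | ⟨W, h1, h2, h3, h⟩ |
    ⟨t, m, D, h1, h2, h3, h⟩ | ⟨m, D, h1, -⟩ | ⟨r, K, h1, h2, h3, h4, h5, h⟩ |
    ⟨n₁, n₂, e, P, f₁, f₂, h1, h2, h3, -⟩ | ⟨F₁, r, P, hr, ho, hc, hrat, h⟩ |
    ⟨F₁, P, ho, hc, hrat, h⟩ | ⟨F₁, P, ζ, he, -⟩ |
    ⟨r, k, p, e, R, hR, habs, hiso, hsim, hk, hn, hrp, hmin, he, hqp, hz, hcard, h⟩ |
    ⟨a, t, e, P, f₁, h1, h2, h3, -⟩ | h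
  · exact Or.inl ⟨W, h1, h2, h⟩
  · exact Or.inr (Or.inl ⟨W, h1, h2, h3, h⟩)
  · obtain ⟨rfl, rfl⟩ := H38.SUMax.prime_mul (show (5 : ℕ).Prime by norm_num) h1 h2
    exact Or.inr (Or.inr (Or.inl ⟨D, h3, h⟩))
  · omega
  · obtain rfl := H38.SUMax.eq_of_dvd_prime (show (5 : ℕ).Prime by norm_num) h1 h3
    have hq : 3 ≤ q := by
      by_contra hq
      exact H38.SUMax.FiveTwo.no_field hF (by have := H50.two_le hF; omega) h4 h5 hH
        (h.le.trans inf_le_left)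
    exact Or.inr (Or.inr (Or.inr (Or.inl ⟨hq, K, h4, h5, h⟩)))
  · have hmem := H38.SUMax.divisor_pairs (by norm_num) h1 h3
    have hd : ∀ x ∈ (Finset.Icc 2 5 ×ˢ Finset.Icc 1 5).filter (fun x : ℕ × ℕ => x.1 * x.2 = 5),
        x.1 < x.2 → False := by decide
    exact (hd (n₁, n₂) hmem h2).elim
  · exact Or.inr (Or.inr (Or.inr (Or.inr (Or.inl ⟨F₁, r, P, hr, ho, hc, hrat, h⟩))))
  · exact Or.inr (Or.inr (Or.inr (Or.inr (Or.inr (Or.inl ⟨ho, F₁, P, hc, hrat, h⟩)))))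
  · exact absurd he (by decide)
  · obtain ⟨rfl, rfl⟩ := H38.SUMax.prime_pow_prime (show (5 : ℕ).Prime by norm_num) hR.prime hn
    rcases hcard with ⟨-, hcen, hR'⟩ | ⟨h', -⟩
    swap
    · exact absurd h' (by decide)
    rw [hcen] at hz hmin
    have hcases : (q = p ∧ p % 5 = 4) ∨ (q = p ^ 2 ∧ (p % 5 = 2 ∨ p % 5 = 3)) := by
      have hd : ∀ x ∈ Finset.range 5, x ∣ 4 → x ≠ 0 → Even x → x = 2 ∨ x = 4 := by decide
      have h2 : e ∣ 4 := H38.SUMax.minimal_degree_dvd hR.prime hrp hmin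
      have he0 : e ≠ 0 := by rintro rfl; simp at h2
      rcases hd e (Finset.mem_range.2 (by have := Nat.le_of_dvd (by norm_num) h2; omega)) h2 he0 he with rfl | rfl
      · exact Or.inl ⟨by simpa using hqp, by obtain ⟨c, hc⟩ : 5 ∣ p + 1 := by simpa using hz
                                             omega⟩
      · refine Or.inr ⟨by simpa using hqp, ?_⟩
        have hmod : (p ^ 2 + 1) % 5 = 0 := Nat.mod_eq_zero_of_dvd (by simpa using hz)
        rw [Nat.add_mod, Nat.pow_mod] at hmod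
        have hp : p % 5 < 5 := Nat.mod_lt _ (by norm_num)
        revert hmod hp
        generalize p % 5 = x
        intro hmod hp
        interval_cases x <;> first | (left; rfl) | (right; rfl) | norm_num at hmod
    exact Or.inr (Or.inr (Or.inr (Or.inr (Or.inr (Or.inr (Or.inl ⟨p, R, hmin.1, hmin.2.1, hcases, hR, habs, hsim, by rw [hR']; norm_num, hcen, h⟩))))))
  · exact absurd h3 (H38.SUMax.no_power (by norm_num) (by norm_num) h1 h2)
  · exact Or.inr (Or.inr (Or.inr (Or.inr (Or.inr (Or.inr (Or.inr (h)))))))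

end Cfsg.Agent.S5796
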