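import Cfsg.Statements.S5802
import Cfsg.Agent.H38.SUMax.Arith
import Cfsg.Agent.H38.SUMax.SixTwo
import Cfsg.Agent.H38.SUMax.FieldSubfield

set_option autoImplicit false
open Cfsg

namespace Cfsg.Agent.S5802

/-- Every maximal subgroup of SU_6(q) is of one of the listed geometric types or lies in the residual class. Let F be the field with q² elements, f the standard unitary form Σ u_i v_i^q on F^6, and H a maximal subgroup of SU_6(q) (inside GL_6(F)). Then H is the intersection with SU_6(q) of one of: the stabiliser of a non-zero totally isotropic subspace; the stabiliser of a non-degenerate 1- or 2-space; for q ≥ 3, the stabiliser of a decomposition into six mutually orthogonal non-degenerate 1-spaces; for q ≥ 3, of a decomposition into three mutually orthogonal non-degenerate 2-spaces; of a decomposition into two orthogonal non-degenerate 3-spaces; of a decomposition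 into two totally isotropic 3-spaces; for q ≥ 3, the normaliser of an adjoint-closed degree-3 subfield of the matrix algebra; for q ≥ 3, the stabiliser of a tensor decomposition of f into unitary forms on F^2 and F^3; a subfield group of odd prime index whose F₀-structure carries f; a subfield group of index 2 and symplectic type; for q odd, a subfield group of index 2 and orthogonal type — or else H lies in the residual class of the unitary case. -/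
theorem result {F : Type*} [Field F] [Fintype F] (q : ℕ) (hF : Fintype.card F = q ^ 2) (H : Subgroup (Matrix.GeneralLinearGroup (Fin 6) F)) (hH : Cfsg.Geo.IsMaximalIn (Cfsg.GU 6 F q ⊓ Cfsg.Geo.specialLinear (Fin 6) F) H) :
    (∃ W : Submodule F (Fin 6 → F), W ≠ ⊥ ∧ Cfsg.Geo.IsTotallySingularFor (Cfsg.hermForm 6 F q) W ∧ H = Cfsg.Geo.subspaceStabilizer W ⊓ (Cfsg.GU 6 F q ⊓ Cfsg.Geo.specialLinear (Fin 6) F)) ∨
    (∃ W : Submodule F (Fin 6 → F), W ≠ ⊥ ∧ Cfsg.Geo.IsNondegenerateOn (Cfsg.hermForm 6 F q) W ∧ 2 * Module.finrank F W < 6 ∧ H = Cfsg.Geo.subspaceStabilizer W ⊓ (Cfsg.GU 6 F q ⊓ Cfsg.Geo.specialLinear (Fin 6) F)) ∨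
    (3 ≤ q ∧ ∃ D : Fin 6 → Submodule F (Fin 6 → F), Cfsg.Geo.IsNondegenerateMDecomposition (Cfsg.hermForm 6 F q) 1 D ∧ H = Cfsg.Geo.decompositionStabilizer D ⊓ (Cfsg.GU 6 F q ⊓ Cfsg.Geo.specialLinear (Fin 6) F)) ∨
    (3 ≤ q ∧ ∃ D : Fin 3 → Submodule F (Fin 6 → F), Cfsg.Geo.IsNondegenerateMDecomposition (Cfsg.hermForm 6 F q) 2 D ∧ H = Cfsg.Geo.decompositionStabilizer D ⊓ (Cfsg.GU 6 F q ⊓ Cfsg.Geo.specialLinear (Fin 6) F)) ∨
    (∃ D : Fin 2 → Submodule F (Fin 6 → F), Cfsg.Geo.IsNondegenerateMDecomposition (Cfsg.hermForm 6 F q) 3 D ∧ H = Cfsg.Geo.decompositionStabilizer D ⊓ (Cfsg.GU 6 F q ⊓ Cfsg.Geo.specialLinear (Fin 6) F)) ∨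
    (∃ D : Fin 2 → Submodule F (Fin 6 → F), Cfsg.Geo.IsMDecomposition 3 D ∧ (∀ i, Cfsg.Geo.IsTotallySingularFor (Cfsg.hermForm 6 F q) (D i)) ∧ H = Cfsg.Geo.decompositionStabilizer D ⊓ (Cfsg.GU 6 F q ⊓ Cfsg.Geo.specialLinear (Fin 6) F)) ∨
    (3 ≤ q ∧ ∃ K : Subalgebra F (Matrix (Fin 6) (Fin 6) F), Cfsg.Geo.IsFieldSubalgebra 3 K ∧ Cfsg.Geo.IsAdjointClosedFor (Cfsg.hermForm 6 F q) K ∧ H = Cfsg.Geo.subalgebraNormalizer K ⊓ (Cfsg.GU 6 F q ⊓ Cfsg.Geo.specialLinear (Fin 6) F)) ∨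
    (3 ≤ q ∧ ∃ (e : Fin 6 ≃ Fin 2 × Fin 3) (P : Matrix.GeneralLinearGroup (Fin 6) F) (f₁ : (Fin 2 → F) → (Fin 2 → F) → F) (f₂ : (Fin 3 → F) → (Fin 3 → F) → F), Cfsg.Geo.IsUnitaryFormPow q f₁ ∧ Cfsg.Geo.IsUnitaryFormPow q f₂ ∧ Cfsg.Geo.IsTensorFormStructure (fun x : F => x ^ q) (Cfsg.hermForm 6 F q) f₁ f₂ e P ∧ H = Cfsg.Geo.tensorProductSubgroup 2 3 e P ⊓ (Cfsg.GU 6 F q ⊓ Cfsg.Geo.specialLinear (Fin 6) F)) ∨
    (∃ (F₀ : Subfield F) (r : ℕ) (P : Matrix.GeneralLinearGroup (Fin 6) F), r.Prime ∧ Odd r ∧ Fintype.card F = Nat.card F₀ ^ r ∧ Cfsg.Geo.IsFormRationalStructure (Cfsg.hermForm 6 F q) F₀ 1 P ∧ H = Cfsg.Geo.subfieldSubgroup F₀ P ⊓ (Cfsg.GU 6 F q ⊓ Cfsg.Geo.specialLinear (Fin 6) F)) ∨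
    (∃ (F₀ : Subfield F) (P : Matrix.GeneralLinearGroup (Fin 6) F) (ζ : F), Fintype.card F = Nat.card F₀ ^ 2 ∧ ζ ≠ 0 ∧ ζ + ζ ^ q = 0 ∧ Cfsg.Geo.IsFormRationalStructure (Cfsg.hermForm 6 F q) F₀ ζ P ∧ (∀ u : Fin 6 → F, (∀ i, u i ∈ F₀) → (Cfsg.hermForm 6 F q) (Matrix.mulVec (P : Matrix (Fin 6) (Fin 6) F) u) (Matrix.mulVec (P : Matrix (Fin 6) (Fin 6) F) u) = 0) ∧ H = Cfsg.Geo.subfieldSubgroup F₀ P ⊓ (Cfsg.GU 6 F q ⊓ Cfsg.Geo.specialLinear (Fin 6) F)) ∨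
    (Odd q ∧ ∃ (F₀ : Subfield F) (P : Matrix.GeneralLinearGroup (Fin 6) F), Fintype.card F = Nat.card F₀ ^ 2 ∧ Cfsg.Geo.IsFormRationalStructure (Cfsg.hermForm 6 F q) F₀ 1 P ∧ H = Cfsg.Geo.subfieldSubgroup F₀ P ⊓ (Cfsg.GU 6 F q ⊓ Cfsg.Geo.specialLinear (Fin 6) F)) ∨
    Cfsg.Geo.InUnitaryResidualClass H := by
  rcases H38.SUMax.suList hF (by norm_num) (by simp) hH with ⟨W, h1, h2, h⟩ | ⟨W, h1, h2, h3, h⟩ |
    ⟨t, m, D, h1, h2, h3, h⟩ | ⟨m, D, h1, h2, h3, h⟩ | ⟨r, K, h1, h2, h3, h4, h5, h⟩ |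
    ⟨n₁, n₂, e, P, f₁, f₂, h1, h2, h3, h4, h5, h6, h⟩ | ⟨F₁, r, P, hr, ho, hc, hrat, h⟩ |
    ⟨F₁, P, ho, hc, hrat, h⟩ | ⟨F₁, P, ζ, he, hc, hζ, hζq, hrat, hiso, h⟩ |
    ⟨r, k, p, e, R, hR, habs, hiso, hsim, hk, hn, -⟩ |
    ⟨a, t, e, P, f₁, h1, h2, h3, -⟩ | h
  · exact Or.inl ⟨W, h1, h2, h⟩
  · exact Or.inr (Or.inl ⟨W, h1, h2, h3, h⟩)
  · have hmem := H38.SUMax.divisor_pairs (by norm_num) h1 h2
    have hcases : (t = 6 ∧ m = 1) ∨ (t = 3 ∧ m = 2) ∨ (t = 2 ∧ m = 3) := by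
      revert hmem
      have hd : ∀ x ∈ (Finset.Icc 2 6 ×ˢ Finset.Icc 1 6).filter (fun x : ℕ × ℕ => x.1 * x.2 = 6),
          (x.1 = 6 ∧ x.2 = 1) ∨ (x.1 = 3 ∧ x.2 = 2) ∨ (x.1 = 2 ∧ x.2 = 3) := by decide
      exact hd (t, m)
    rcases hcases with ⟨rfl, rfl⟩ | ⟨rfl, rfl⟩ | ⟨rfl, rfl⟩
    · by_cases hq : 3 ≤ q
      · exact Or.inr (Or.inr (Or.inl ⟨hq, D, h3, h⟩))
      · have hq2 : q = 2 := by have := H50.two_le hF; omega
        exact (H38.SUMax.SixTwo.no_frame hF hq2 h3 hH (h.le.trans inf_le_left)).elim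
    · by_cases hq : 3 ≤ q
      · exact Or.inr (Or.inr (Or.inr (Or.inl ⟨hq, D, h3, h⟩)))
      · have hq2 : q = 2 := by have := H50.two_le hF; omega
        obtain ⟨E, hE, hEh⟩ := H38.SUMax.lines_of_planes hF hq2 (by norm_num) (by norm_num) h3 hH h
        exact (H38.SUMax.SixTwo.no_frame hF hq2 hE hH (hEh.le.trans inf_le_left)).elim
    · exact Or.inr (Or.inr (Or.inr (Or.inr (Or.inl ⟨D, h3, h⟩))))
  · obtain rfl : m = 3 := by omega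
    exact Or.inr (Or.inr (Or.inr (Or.inr (Or.inr (Or.inl ⟨D, h2, h3, h⟩)))))
  · obtain rfl : r = 3 := by
      have hd : ∀ x ∈ Finset.range 7, x ∣ 6 → x.Prime → Odd x → x = 3 := by decide
      exact hd r (Finset.mem_range.2 (by have := Nat.le_of_dvd (by norm_num) h3; omega)) h3 h1 h2
    by_cases hq : 3 ≤ q
    · exact Or.inr (Or.inr (Or.inr (Or.inr (Or.inr (Or.inr (Or.inl ⟨hq, K, h4, h5, h⟩))))))
    · obtain ⟨F₁, P, ζ, hc, hζ, hζq, hrat, hiso, hle⟩ :=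
        H38.SUMax.exists_subfield_of_field hF (by have := H50.two_le hF; omega) h4 h5 hH.1.le
          (h.le.trans inf_le_left)
      have htop : F₁ ≠ ⊤ := H38.SUMax.not_dvd_of_subfield Nat.prime_two hc
      exact Or.inr (Or.inr (Or.inr (Or.inr (Or.inr (Or.inr (Or.inr (Or.inr (Or.inr (Or.inl ⟨F₁, P, ζ, hc, hζ, hζq, hrat, hiso, H38.SUMax.eq_inf_max hH hle
        (H38.SUMax.not_su_le_subfield hF (by norm_num) (by simp) htop P)⟩)))))))))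
  · have hcases : (n₁ = 2 ∧ n₂ = 3) := by
      have hmem := H38.SUMax.divisor_pairs (by norm_num) h1 h3
      have hd : ∀ x ∈ (Finset.Icc 2 6 ×ˢ Finset.Icc 1 6).filter (fun x : ℕ × ℕ => x.1 * x.2 = 6),
          x.1 < x.2 → (x.1 = 2 ∧ x.2 = 3) := by decide
      exact hd (n₁, n₂) hmem h2
    rcases hcases with ⟨rfl, rfl⟩
    by_cases hq : 3 ≤ q
    · exact Or.inr (Or.inr (Or.inr (Or.inr (Or.inr (Or.inr (Or.inr (Or.inl ⟨hq, e, P, f₁, f₂, h4, h5, h6, h⟩)))))))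
    · have hq2 : q = 2 := by have := H50.two_le hF; omega
      obtain ⟨D, hD, hDh⟩ := H38.SUMax.halves_of_tensor hF hq2 (by norm_num) (by norm_num) e P h4 h5 h6 hH h
      exact Or.inr (Or.inr (Or.inr (Or.inr (Or.inl ⟨D, hD, hDh⟩))))
  · exact Or.inr (Or.inr (Or.inr (Or.inr (Or.inr (Or.inr (Or.inr (Or.inr (Or.inl ⟨F₁, r, P, hr, ho, hc, hrat, h⟩))))))))
  · exact Or.inr (Or.inr (Or.inr (Or.inr (Or.inr (Or.inr (Or.inr (Or.inr (Or.inr (Or.inr (Or.inl ⟨ho, F₁, P, hc, hrat, h⟩))))))))))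
  · exact Or.inr (Or.inr (Or.inr (Or.inr (Or.inr (Or.inr (Or.inr (Or.inr (Or.inr (Or.inl ⟨F₁, P, ζ, hc, hζ, hζq, hrat, hiso, h⟩)))))))))
  · exact (H38.SUMax.not_prime_pow hR.prime hn (a := 2) (b := 3) (by norm_num) (by norm_num) (by norm_num)
      (by norm_num) (by norm_num)).elim
  · exact absurd h3 (H38.SUMax.no_power (by norm_num) (by norm_num) h1 h2)
  · exact Or.inr (Or.inr (Or.inr (Or.inr (Or.inr (Or.inr (Or.inr (Or.inr (Or.inr (Or.inr (Or.inr (h)))))))))))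

end Cfsg.Agent.S5802
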