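import Cfsg.Statements.S5811
import Cfsg.Agent.H38.SUMax.Arith

set_option autoImplicit false
open Cfsg

namespace Cfsg.Agent.S5811

/-- Every maximal subgroup of SU_7(q) is of one of the listed geometric types or lies in the residual class. Let F be the field with q² elements (characteristic p), f the standard unitary form Σ u_i v_i^q on F^7, and H a maximal subgroup of SU_7(q) (inside GL_7(F)). Then H is the intersection with SU_7(q) of one of: the stabiliser of a non-zero totally isotropic subspace; the stabiliser of a non-degenerate 1-, 2- or 3-space; the stabiliser of a decomposition into seven mutually orthogonal non-degenerate 1-spaces; the normaliser of an adjoint-closed degree-7 subfield of the matrix algebra; a subfield group of odd prime index whose F₀-structure carries f; for q odd, a subfield group of index 2 whose F₀-structure carries f; for q = p prime with p ≡ 6 mod 7, or q = p³ with p ≡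 3 or 5 mod 7, the normaliser of an absolutely irreducible 7-group R of exponent 7, order 343 and centre of order 7, all of whose characteristic abelian subgroups are cyclic, contained in the similarity group of f — or else H lies in the residual class of the unitary case (modulo scalars H is almost simple, with absolutely irreducible perfect socle preimage realisable over no proper subfield and fixing no non-degenerate quadratic or symplectic form). -/
theorem result {F : Type*} [Field F] [Fintype F] (q : ℕ) (hF : Fintype.card F = q ^ 2) (H : Subgroup (Matrix.GeneralLinearGroup (Fin 7) F)) (hH : Cfsg.Geo.IsMaximalIn (Cfsg.GU 7 F q ⊓ Cfsg.Geo.specialLinear (Fin 7) F) H) :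
    (∃ W : Submodule F (Fin 7 → F), W ≠ ⊥ ∧ Cfsg.Geo.IsTotallySingularFor (Cfsg.hermForm 7 F q) W ∧ H = Cfsg.Geo.subspaceStabilizer W ⊓ (Cfsg.GU 7 F q ⊓ Cfsg.Geo.specialLinear (Fin 7) F)) ∨
    (∃ W : Submodule F (Fin 7 → F), W ≠ ⊥ ∧ Cfsg.Geo.IsNondegenerateOn (Cfsg.hermForm 7 F q) W ∧ 2 * Module.finrank F W < 7 ∧ H = Cfsg.Geo.subspaceStabilizer W ⊓ (Cfsg.GU 7 F q ⊓ Cfsg.Geo.specialLinear (Fin 7) F)) ∨
    (∃ D : Fin 7 → Submodule F (Fin 7 → F), Cfsg.Geo.IsNondegenerateMDecomposition (Cfsg.hermForm 7 F q) 1 D ∧ H = Cfsg.Geo.decompositionStabilizer D ⊓ (Cfsg.GU 7 F q ⊓ Cfsg.Geo.specialLinear (Fin 7) F)) ∨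
    (∃ K : Subalgebra F (Matrix (Fin 7) (Fin 7) F), Cfsg.Geo.IsFieldSubalgebra 7 K ∧ Cfsg.Geo.IsAdjointClosedFor (Cfsg.hermForm 7 F q) K ∧ H = Cfsg.Geo.subalgebraNormalizer K ⊓ (Cfsg.GU 7 F q ⊓ Cfsg.Geo.specialLinear (Fin 7) F)) ∨
    (∃ (F₀ : Subfield F) (r : ℕ) (P : Matrix.GeneralLinearGroup (Fin 7) F), r.Prime ∧ Odd r ∧ Fintype.card F = Nat.card F₀ ^ r ∧ Cfsg.Geo.IsFormRationalStructure (Cfsg.hermForm 7 F q) F₀ 1 P ∧ H = Cfsg.Geo.subfieldSubgroup F₀ P ⊓ (Cfsg.GU 7 F q ⊓ Cfsg.Geo.specialLinear (Fin 7) F)) ∨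
    (Odd q ∧ ∃ (F₀ : Subfield F) (P : Matrix.GeneralLinearGroup (Fin 7) F), Fintype.card F = Nat.card F₀ ^ 2 ∧ Cfsg.Geo.IsFormRationalStructure (Cfsg.hermForm 7 F q) F₀ 1 P ∧ H = Cfsg.Geo.subfieldSubgroup F₀ P ⊓ (Cfsg.GU 7 F q ⊓ Cfsg.Geo.specialLinear (Fin 7) F)) ∨
    (∃ (p : ℕ) (R : Subgroup (Matrix.GeneralLinearGroup (Fin 7) F)), p.Prime ∧ CharP F p ∧ ((q = p ∧ p % 7 = 6) ∨ (q = p ^ 3 ∧ (p % 7 = 3 ∨ p % 7 = 5))) ∧ Cfsg.Geo.IsSymplecticTypeGroup 7 R ∧ Cfsg.Geo.ActsAbsolutelyIrreducibly (Cfsg.Geo.matrixSet R) ∧ R ≤ Cfsg.Geo.similarityGroup (Cfsg.hermForm 7 F q) ∧ Nat.card R = 343 ∧ Nat.card (Subgroup.center R) = 7 ∧ H = Cfsg.Geo.subgroupNormalizer R ⊓ (Cfsg.GU 7 F q ⊓ Cfsg.Geo.specialLinear (Fin 7) F)) ∨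
    Cfsg.Geo.InUnitaryResidualClass H := by
  have hp : Nat.Prime 7 := by norm_num
  rcases H38.SUMax.suList hF (by norm_num) (by simp) hH with ⟨W, h1, h2, h⟩ | ⟨W, h1, h2, h3, h⟩ |
    ⟨t, m, D, h1, h2, h3, h⟩ | ⟨m, D, h1, h2, h3, h⟩ | ⟨r, K, h1, h2, h3, h4, h5, h⟩ |
    ⟨n₁, n₂, e, P, f₁, f₂, h1, h2, h3, h4, h5, h6, h⟩ | ⟨F₁, r, P, hr, ho, hc, hrat, h⟩ |
    ⟨F₁, P, ho, hc, hrat, h⟩ | ⟨F₁, P, ζ, he, -⟩ |
    ⟨r, k, p, e, R, hR, habs, hiso, hsim, hk, hn, hrp, hmin, he, hqp, hz, hcard, h⟩ |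
    ⟨a, t, e, P, f₁, h1, h2, h3, -⟩ | h
  · exact Or.inl ⟨W, h1, h2, h⟩
  · exact Or.inr (Or.inl ⟨W, h1, h2, h3, h⟩)
  · obtain ⟨rfl, rfl⟩ := H38.SUMax.prime_mul hp h1 h2
    exact Or.inr (Or.inr (Or.inl ⟨D, h3, h⟩))
  · omega
  · obtain rfl := H38.SUMax.eq_of_dvd_prime hp h1 h3
    exact Or.inr (Or.inr (Or.inr (Or.inl ⟨K, h4, h5, h⟩)))
  · obtain ⟨e1, e2⟩ := H38.SUMax.prime_mul hp h1 h3
    omega
  · exact Or.inr (Or.inr (Or.inr (Or.inr (Or.inl ⟨F₁, r, P, hr, ho, hc, hrat, h⟩))))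
  · exact Or.inr (Or.inr (Or.inr (Or.inr (Or.inr (Or.inl ⟨ho, F₁, P, hc, hrat, h⟩)))))
  · exact absurd he (by decide)
  · obtain ⟨rfl, rfl⟩ := H38.SUMax.prime_pow_prime hp hR.prime hn
    rcases hcard with ⟨-, hcen, hR'⟩ | ⟨h', -⟩
    swap
    · norm_num at h'
    rw [hcen] at hmin hz
    have hed : e ∣ 6 := H38.SUMax.minimal_degree_dvd hp hrp hmin
    have hcases : e = 2 ∨ e = 6 := by
      have := Nat.le_of_dvd (by norm_num) hed
      obtain ⟨j, rfl⟩ := he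
      have hj : j ≤ 6 := by omega
      interval_cases j <;> first | omega | norm_num at hed
    refine Or.inr (Or.inr (Or.inr (Or.inr (Or.inr (Or.inr (Or.inl ⟨p, R, hmin.1, hmin.2.1, ?_, hR, habs,
      hsim, by rw [hR']; norm_num, hcen, h⟩))))))
    rcases hcases with rfl | rfl
    · left
      refine ⟨by simpa using hqp, ?_⟩
      obtain ⟨c, hc⟩ : 7 ∣ p + 1 := by simpa using hz
      omega
    · right
      refine ⟨hqp, ?_⟩
      have h1 : ¬ 7 ∣ p + 1 := H38.SUMax.not_dvd_succ hmin (by norm_num)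
      have h2 : (p ^ 3 + 1) % 7 = 0 := Nat.mod_eq_zero_of_dvd hz
      rw [Nat.add_mod, Nat.pow_mod] at h2
      have h3 : p % 7 < 7 := Nat.mod_lt _ (by norm_num)
      interval_cases h4 : p % 7 <;> omega
  · exact absurd h3 (H38.SUMax.no_power (by norm_num) (by norm_num) h1 h2)
  · exact Or.inr (Or.inr (Or.inr (Or.inr (Or.inr (Or.inr (Or.inr h))))))

end Cfsg.Agent.S5811
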