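import Cfsg.Statements.S5823
import Cfsg.Agent.H51.FormAsch.PlusFour
import Cfsg.Agent.H51.FormAsch.PowerThree

set_option autoImplicit false
open Cfsg

namespace Cfsg.Agent.S5823

/-- Every maximal subgroup of Sp_8(q) is of one of the listed geometric types or lies in the residual class. Let F be a finite field with q elements, f the standard alternating form on F^8 (coordinates Fin 4 ⊕ Fin 4), and H a maximal subgroup of Sp_8(F) (inside GL_8(F)). Then H is the intersection with Sp_8(F) of one of: the stabiliser of a non-zero totally isotropic subspace; the stabiliser of a non-degenerate 2-space; for q ≥ 3, the stabiliser of a decomposition into four mutually orthogonal non-degenerate 2-spaces; of a decomposition into two orthogonal non-degenerate 4-spaces; for q odd, of a decomposition into two totally isotropic 4-spaces; the normaliser of a degree-2 subfield K, self-adjoint with f(k v, v) = 0;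 for q odd, the normaliser of a degree-2 subfield closed under adjoints but not self-adjoint; for q odd, the stabiliser of a tensor decomposition of f into an alternating form on F^2 and a minus-type symmetric form on F^4; a subfield group (|F| = |F₀|^r, r prime) whose F₀-structure carries a non-zero multiple of f; for q = p an odd prime, the normaliser of an absolutely irreducible extraspecial group 2_-^(1+6) of exponent 4 inside the similarity group of f; for q odd, q ≥ 5, the stabiliser of a tensor decomposition of f as a third tensor power of an alternating form on F^2; for q even, the similarity group of a non-degenerate quadratic form polarising to f — or else H lies in the residual class of the symplectic case. -/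
theorem result {F : Type*} [Field F] [Fintype F] (H : Subgroup (Matrix.GeneralLinearGroup (Fin 4 ⊕ Fin 4) F)) (hH : Cfsg.Geo.IsMaximalIn (Cfsg.spGL 4 F) H) :
    (∃ W : Submodule F (Fin 4 ⊕ Fin 4 → F), W ≠ ⊥ ∧ Cfsg.Geo.IsTotallySingularFor (Cfsg.sympForm 4 F) W ∧ H = Cfsg.Geo.subspaceStabilizer W ⊓ Cfsg.spGL 4 F) ∨
    (∃ W : Submodule F (Fin 4 ⊕ Fin 4 → F), W ≠ ⊥ ∧ Cfsg.Geo.IsNondegenerateOn (Cfsg.sympForm 4 F) W ∧ Module.finrank F W < 4 ∧ H = Cfsg.Geo.subspaceStabilizer W ⊓ Cfsg.spGL 4 F) ∨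
    (3 ≤ Fintype.card F ∧ ∃ D : Fin 4 → Submodule F (Fin 4 ⊕ Fin 4 → F), Cfsg.Geo.IsNondegenerateMDecomposition (Cfsg.sympForm 4 F) 2 D ∧ H = Cfsg.Geo.decompositionStabilizer D ⊓ Cfsg.spGL 4 F) ∨
    (∃ D : Fin 2 → Submodule F (Fin 4 ⊕ Fin 4 → F), Cfsg.Geo.IsNondegenerateMDecomposition (Cfsg.sympForm 4 F) 4 D ∧ H = Cfsg.Geo.decompositionStabilizer D ⊓ Cfsg.spGL 4 F) ∨
    (Odd (Fintype.card F) ∧ ∃ D : Fin 2 → Submodule F (Fin 4 ⊕ Fin 4 → F), Cfsg.Geo.IsMDecomposition 4 D ∧ (∀ i, Cfsg.Geo.IsTotallySingularFor (Cfsg.sympForm 4 F) (D i)) ∧ H = Cfsg.Geo.decompositionStabilizer D ⊓ Cfsg.spGL 4 F) ∨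
    (∃ K : Subalgebra F (Matrix (Fin 4 ⊕ Fin 4) (Fin 4 ⊕ Fin 4) F), Cfsg.Geo.IsFieldSubalgebra 2 K ∧ Cfsg.Geo.IsSelfAdjointFor (Cfsg.sympForm 4 F) K ∧ (∀ k ∈ K, ∀ v : (Fin 4 ⊕ Fin 4 → F), (Cfsg.sympForm 4 F) (Matrix.mulVec k v) v = 0) ∧ H = Cfsg.Geo.subalgebraNormalizer K ⊓ Cfsg.spGL 4 F) ∨
    (Odd (Fintype.card F) ∧ ∃ K : Subalgebra F (Matrix (Fin 4 ⊕ Fin 4) (Fin 4 ⊕ Fin 4) F), Cfsg.Geo.IsFieldSubalgebra 2 K ∧ Cfsg.Geo.IsAdjointClosedFor (Cfsg.sympForm 4 F) K ∧ ¬ Cfsg.Geo.IsSelfAdjointFor (Cfsg.sympForm 4 F) K ∧ H = Cfsg.Geo.subalgebraNormalizer K ⊓ Cfsg.spGL 4 F) ∨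
    (Odd (Fintype.card F) ∧ ∃ (e : (Fin 4 ⊕ Fin 4) ≃ Fin 2 × Fin 4) (P : Matrix.GeneralLinearGroup (Fin 4 ⊕ Fin 4) F) (f₁ : (Fin 2 → F) → (Fin 2 → F) → F) (f₂ : (Fin 4 → F) → (Fin 4 → F) → F), Cfsg.Geo.IsSymplecticForm f₁ ∧ Cfsg.Geo.IsSymmetricForm f₂ ∧ ¬ Cfsg.Geo.IsPlusTypeOn (fun v : Fin 4 → F => f₂ v v) ⊤ ∧ Cfsg.Geo.IsTensorFormStructure id (Cfsg.sympForm 4 F) f₁ f₂ e P ∧ H = Cfsg.Geo.tensorProductSubgroup 2 4 e P ⊓ Cfsg.spGL 4 F) ∨
    (∃ (F₀ : Subfield F) (r : ℕ) (P : Matrix.GeneralLinearGroup (Fin 4 ⊕ Fin 4) F) (ζ : F), r.Prime ∧ Fintype.card F = Nat.card F₀ ^ r ∧ ζ ≠ 0 ∧ Cfsg.Geo.IsFormRationalStructure (Cfsg.sympForm 4 F) F₀ ζ P ∧ H = Cfsg.Geo.subfieldSubgroup F₀ P ⊓ Cfsg.spGL 4 F) ∨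
    (∃ (p : ℕ) (R : Subgroup (Matrix.GeneralLinearGroup (Fin 4 ⊕ Fin 4) F)), p.Prime ∧ Odd p ∧ Fintype.card F = p ∧ Cfsg.Geo.IsSymplecticTypeGroup 2 R ∧ Cfsg.Geo.ActsAbsolutelyIrreducibly (Cfsg.Geo.matrixSet R) ∧ R ≤ Cfsg.Geo.similarityGroup (Cfsg.sympForm 4 F) ∧ Nat.card R = 128 ∧ Nat.card (Subgroup.center R) = 2 ∧ Cfsg.Geo.IsOfMinusType 3 R ∧ H = Cfsg.Geo.subgroupNormalizer R ⊓ Cfsg.spGL 4 F) ∨
    (Odd (Fintype.card F) ∧ 5 ≤ Fintype.card F ∧ ∃ (e : (Fin 4 ⊕ Fin 4) ≃ (Fin 3 → Fin 2)) (P : Matrix.GeneralLinearGroup (Fin 4 ⊕ Fin 4) F) (f₁ : (Fin 2 → F) → (Fin 2 → F) → F), Cfsg.Geo.IsSymplecticForm f₁ ∧ Cfsg.Geo.IsTensorPowerFormStructure id (Cfsg.sympForm 4 F) f₁ e P ∧ H = Cfsg.Geo.tensorWreathSubgroup 2 3 e P ⊓ Cfsg.spGL 4 F) ∨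
    (¬ Odd (Fintype.card F) ∧ ∃ Q : (Fin 4 ⊕ Fin 4 → F) → F, Cfsg.Geo.IsNondegenerateQuadraticForm Q ∧ (∀ u v : (Fin 4 ⊕ Fin 4 → F), QuadraticMap.polar Q u v = (Cfsg.sympForm 4 F) u v) ∧ H = Cfsg.Geo.quadSimilarityGroup Q ⊓ Cfsg.spGL 4 F) ∨
    Cfsg.Geo.InSymplecticResidualClass H := by
  classical
  have hf := H51.FormAsch.isSymplecticForm_sympForm (F := F) (m := 4)
  rcases H51.FormAsch.spMax (by norm_num) hH with
    ⟨W, hW, hs, h⟩ | ⟨W, hW, hn, hlt, h⟩ | ⟨t, k, D, hc, hk, hq, hD, h⟩ | ⟨D, ho, hD, hs, h⟩ |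
    ⟨r, K, hr, hdvd, hK, hs, ha, h⟩ | ⟨K, ho, hK, ha, hns, h⟩ |
    ⟨n₁, n₂, e, P, f₁, f₂, ho, h1, h2', hc, hq, hf₁, hf₂, hT, h⟩ | ⟨F₀, r, P, ζ, hr, hc, hζ, hR, h⟩ |
    ⟨Q, he, hQ, hp, h⟩ | ⟨a, k, hk, hc, hor, hd⟩ | h
  · exact .inl ⟨W, hW, hs, h⟩
  · exact .inr <| .inl ⟨W, hW, hn, hlt, h⟩
  · have h2t := hD.decomp.two_le
    obtain ⟨j, rfl⟩ := hk
    have hj0 : 0 < j := by have := hD.decomp.pos; omega
    obtain ⟨rfl, rfl⟩ | ⟨rfl, rfl⟩ : (t = 4 ∧ j = 1) ∨ (t = 2 ∧ j = 2) := by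
      have : j ≤ 2 := by nlinarith
      interval_cases j <;> omega
    · exact .inr <| .inr <| .inl ⟨hq rfl, D, hD, h⟩
    · exact .inr <| .inr <| .inr <| .inl ⟨D, hD, h⟩
  · exact .inr <| .inr <| .inr <| .inr <| .inl ⟨ho, D, hD, hs, h⟩
  · obtain rfl : r = 2 := by
      have h4 : r ∣ 2 ^ 2 := hdvd
      exact (Nat.prime_dvd_prime_iff_eq hr Nat.prime_two).1 (hr.dvd_of_dvd_pow h4)
    exact .inr <| .inr <| .inr <| .inr <| .inr <| .inl ⟨K, hK, hs, ha, h⟩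
  · exact .inr <| .inr <| .inr <| .inr <| .inr <| .inr <| .inl ⟨ho, K, hK, ha, hns, h⟩
  · obtain ⟨j, rfl⟩ := h1
    obtain ⟨rfl, rfl⟩ : j = 1 ∧ n₂ = 4 := by
      have : j ≤ 1 := by nlinarith
      interval_cases j <;> omega
    by_cases hpl : Cfsg.Geo.IsPlusTypeOn (fun v : Fin 4 → F => f₂ v v) ⊤
    swap
    · exact .inr <| .inr <| .inr <| .inr <| .inr <| .inr <| .inr <| .inl
        ⟨ho, e, P, f₁, f₂, hf₁, hf₂, hpl, hT, h⟩
    have h2 : (2 : F) ≠ 0 := fun h => H51.FormAsch.not_odd_card_of_two h ho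
    have hle : H ≤ Cfsg.Geo.tensorProductSubgroup (2 * 1) 4 e P := h ▸ inf_le_left
    obtain ⟨e', P', c, hc0, hform, hmem⟩ := H51.FormAsch.power_of_plus_four h2 hf e P hle
      ((le_sup_left (b := Cfsg.Geo.scalars _ F)).trans (H51.FormAsch.spSup_le_similarity hH.1.le))
      hf₁ hf₂ hpl hT
    have hW : H ≤ Cfsg.Geo.tensorWreathSubgroup 2 3 e' P' := fun g hg => by
      obtain ⟨s, x, rfl⟩ := hmem g hg
      refine H46.mem_tensorWreathSubgroup e' P' _ ?_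
      rw [MulEquiv.symm_apply_apply]
      exact mul_mem (Subgroup.subset_closure (Or.inr ⟨s, fun u v => rfl⟩))
        (Subgroup.subset_closure (Or.inl ⟨x, fun u v => rfl⟩))
    by_cases h5 : 5 ≤ Fintype.card F
    · refine .inr <| .inr <| .inr <| .inr <| .inr <| .inr <| .inr <| .inr <| .inr <| .inr <| .inl
        ⟨ho, h5, e', P', Cfsg.Geo.formOfGram (id : F → F) (H51.FormAsch.altTwo F),
          H51.FormAsch.isSymplecticForm_altTwo, ⟨c, hc0, fun x y => ?_⟩,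
          H46.eq_inf_of_maximal hH hW fun h' => H51.FormAsch.not_transv_power hf h2 (by norm_num) e' P' c hc0
            hform (H51.FormAsch.spGL_transvection 4 h')⟩
      rw [H51.FormAsch.gramMatrix_formOfGram]
      exact hform x y
    have h3 : Fintype.card F = 3 := by
      obtain ⟨j, hj⟩ := ho
      have := Fintype.one_lt_card (α := F)
      omega
    rcases H51.FormAsch.sympType_of_power_three hf h3 (by norm_num) e' P' c hform with
      ⟨p, R, hp, hpo, hqp, hst, habs, hiso, hcard, hcen, hminus, hinv, hN⟩ |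
        ⟨F₁, s, P₁, ζ, hs, hc, hζ, hR, hN⟩
    · refine .inr <| .inr <| .inr <| .inr <| .inr <| .inr <| .inr <| .inr <| .inr <| .inl
        ⟨p, R, hp, hpo, hqp, hst, habs, fun x hx => ⟨1, fun u v => by rw [Units.val_one, one_mul]; exact hiso x hx u v⟩,
          hcard, hcen, hminus, H46.eq_inf_of_maximal hH (hW.trans hN) fun h' =>
            H51.FormAsch.not_transv_sympType hf h2 hiso (fun x hx => ?_) hinv
              (H51.FormAsch.spGL_transvection 4 h')⟩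
      have h1 := Monoid.pow_exponent_eq_one (⟨x, hx⟩ : R)
      rw [hst.exponent_eq] at h1
      simpa using congrArg Subtype.val h1
    · exact .inr <| .inr <| .inr <| .inr <| .inr <| .inr <| .inr <| .inr <| .inl ⟨F₁, s, P₁, ζ, hs, hc, hζ, hR,
        H46.eq_inf_of_maximal hH (hW.trans hN) fun h' => H51.FormAsch.not_transv_subfield hf (by simp)
          (H51.FormAsch.subfield_ne_top hs hc) P₁ (H51.FormAsch.spGL_transvection 4 h')⟩
  · exact .inr <| .inr <| .inr <| .inr <| .inr <| .inr <| .inr <| .inr <| .inl ⟨F₀, r, P, ζ, hr, hc, hζ, hR, h⟩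
  · exact .inr <| .inr <| .inr <| .inr <| .inr <| .inr <| .inr <| .inr <| .inr <| .inr <| .inr <| .inl
      ⟨he, Q, hQ, hp, h⟩
  · rcases hd with hd | hd
    · obtain ⟨rfl, hd'⟩ := H51.FormAsch.sp_abelian_case (by norm_num) hH hd
      rcases hd' with ⟨p, R, hp, hpo, hqp, hst, habs, hsim, hcard, hcen, hminus, h⟩ |
        ⟨F₁, s, P₁, ζ, hs, hc', hζ, hR, h⟩
      · obtain rfl : k = 3 := by
          have h8 : 2 ^ k = 2 ^ 3 := by omega
          exact Nat.pow_right_injective le_rfl h8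
        exact .inr <| .inr <| .inr <| .inr <| .inr <| .inr <| .inr <| .inr <| .inr <| .inl
          ⟨p, R, hp, hpo, hqp, hst, habs, hsim, hcard, hcen, hminus, h⟩
      · exact .inr <| .inr <| .inr <| .inr <| .inr <| .inr <| .inr <| .inr <| .inl
          ⟨F₁, s, P₁, ζ, hs, hc', hζ, hR, h⟩
    · obtain ⟨rfl, rfl⟩ : a = 2 ∧ k = 3 := by
        have ha := hd.two_le_deg
        have hk2 := hd.two_le_num
        have hc8 : a ^ k = 8 := by omega
        have ha3 : a ≤ 2 := by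
          by_contra hlt
          have h1 : 3 ^ k ≤ a ^ k := Nat.pow_le_pow_left (by omega) k
          have h3 : 3 ^ 2 ≤ 3 ^ k := Nat.pow_le_pow_right (by norm_num) hk2
          omega
        obtain rfl : a = 2 := by omega
        exact ⟨rfl, Nat.pow_right_injective le_rfl (show 2 ^ k = 2 ^ 3 by omega)⟩
      rcases H51.FormAsch.sp_power_case (by norm_num) hH hd with
        ⟨ho, h5, -, e, P, f₁, hf₁, hT, h⟩ | ⟨he, Q, hQ, hp, h⟩
      · exact .inr <| .inr <| .inr <| .inr <| .inr <| .inr <| .inr <| .inr <| .inr <| .inr <| .inl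
          ⟨ho, h5, e, P, f₁, hf₁, hT, h⟩
      · exact .inr <| .inr <| .inr <| .inr <| .inr <| .inr <| .inr <| .inr <| .inr <| .inr <| .inr <| .inl
          ⟨he, Q, hQ, hp, h⟩
  · exact .inr <| .inr <| .inr <| .inr <| .inr <| .inr <| .inr <| .inr <| .inr <| .inr <| .inr <| .inr h

end Cfsg.Agent.S5823
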