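import Cfsg.Statements.S5825
import Cfsg.Agent.H46.OrthEightMinus
import Cfsg.Agent.H45.SubSevenForm
import Cfsg.Agent.H49.OrthExtMatrix
-- import your own Cfsg.Agent.* helpers here

set_option autoImplicit false
open Cfsg

namespace Cfsg.Agent.S5825

/-- Maximal subgroups of Ω_8^-(q) of geometric type (any q). Let F be a finite field with q elements, Q a non-degenerate quadratic form on F^8 (non-degenerate polar form) of minus type (Witt index 3: no totally singular 4-space), and Ω = Ω_8^-(q) the commutator subgroup of the isometry group of Q, inside GL_8(F). Each of the following, intersected with Ω, is a maximal subgroup of Ω: (1) the stabiliser of any non-zero subspace on which Q vanishes identically (totally singular 1-, 2- and 3-spaces); (2) for q odd, the stabiliser of any proper subspace of odd dimension (1, 3, 5 or 7) on which the polar form of Q is non-degenerate; (3) the stabiliser of any non-degenerate 2-space of minus type (containing no non-zero singular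 vector); (4) for q ≥ 4, the stabiliser of any non-degenerate 2-space of plus type (containing a non-zero singular vector); (5) the stabiliser of any non-degenerate 4-space (its orthogonal complement is then a non-degenerate 4-space of the opposite type); (6) for q even, the stabiliser of the 1-space spanned by any non-singular vector v (Q(v) ≠ 0); (7) for q odd, the normaliser of any degree-2 subfield K of the matrix algebra whose elements are self-adjoint for the polar form of Q (Q is then the trace of a quadratic form over K); (8) every subfield group for a subfield F₀ of odd prime index r in F whose F₀-structure carries a non-zero scalar multiple of Q. -/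
theorem result {F : Type*} [Field F] [Fintype F] (Q : (Fin 8 → F) → F) (hQ : Cfsg.Geo.IsNondegenerateQuadraticForm Q) (hminus : ¬ Cfsg.Geo.IsPlusTypeOn Q ⊤) :
    (∀ W : Submodule F (Fin 8 → F), W ≠ ⊥ → Cfsg.Geo.IsTotallySingularQuad Q W → Cfsg.Geo.IsMaximalIn (Cfsg.Geo.omegaGL Q) (Cfsg.Geo.subspaceStabilizer W ⊓ Cfsg.Geo.omegaGL Q)) ∧
    (Odd (Fintype.card F) → ∀ W : Submodule F (Fin 8 → F), W ≠ ⊥ → W ≠ ⊤ → Odd (Module.finrank F W) → Cfsg.Geo.IsNondegenerateOn (QuadraticMap.polar Q) W → Cfsg.Geo.IsMaximalIn (Cfsg.Geo.omegaGL Q) (Cfsg.Geo.subspaceStabilizer W ⊓ Cfsg.Geo.omegaGL Q)) ∧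
    (∀ W : Submodule F (Fin 8 → F), Module.finrank F W = 2 → Cfsg.Geo.IsNondegenerateOn (QuadraticMap.polar Q) W → ¬ Cfsg.Geo.IsPlusTypeOn Q W → Cfsg.Geo.IsMaximalIn (Cfsg.Geo.omegaGL Q) (Cfsg.Geo.subspaceStabilizer W ⊓ Cfsg.Geo.omegaGL Q)) ∧
    (4 ≤ Fintype.card F → ∀ W : Submodule F (Fin 8 → F), Module.finrank F W = 2 → Cfsg.Geo.IsNondegenerateOn (QuadraticMap.polar Q) W → Cfsg.Geo.IsPlusTypeOn Q W → Cfsg.Geo.IsMaximalIn (Cfsg.Geo.omegaGL Q) (Cfsg.Geo.subspaceStabilizer W ⊓ Cfsg.Geo.omegaGL Q)) ∧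
    (∀ W : Submodule F (Fin 8 → F), Module.finrank F W = 4 → Cfsg.Geo.IsNondegenerateOn (QuadraticMap.polar Q) W → Cfsg.Geo.IsMaximalIn (Cfsg.Geo.omegaGL Q) (Cfsg.Geo.subspaceStabilizer W ⊓ Cfsg.Geo.omegaGL Q)) ∧
    (¬ Odd (Fintype.card F) → ∀ v : (Fin 8 → F), Q v ≠ 0 → Cfsg.Geo.IsMaximalIn (Cfsg.Geo.omegaGL Q) (Cfsg.Geo.subspaceStabilizer (Submodule.span F {v}) ⊓ Cfsg.Geo.omegaGL Q)) ∧
    (Odd (Fintype.card F) → ∀ K : Subalgebra F (Matrix (Fin 8) (Fin 8) F), Cfsg.Geo.IsFieldSubalgebra 2 K → Cfsg.Geo.IsSelfAdjointFor (QuadraticMap.polar Q) K → Cfsg.Geo.IsMaximalIn (Cfsg.Geo.omegaGL Q) (Cfsg.Geo.subalgebraNormalizer K ⊓ Cfsg.Geo.omegaGL Q)) ∧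
    (∀ (F₀ : Subfield F) (r : ℕ) (P : Matrix.GeneralLinearGroup (Fin 8) F) (ζ : F), r.Prime → Odd r → Fintype.card F = Nat.card F₀ ^ r → ζ ≠ 0 → Cfsg.Geo.IsQuadFormRationalStructure (fun v : Fin 8 → F => ζ * Q v) F₀ P → Cfsg.Geo.IsMaximalIn (Cfsg.Geo.omegaGL Q) (Cfsg.Geo.subfieldSubgroup F₀ P ⊓ Cfsg.Geo.omegaGL Q)) := by
  have h1F : 1 < Fintype.card F := Fintype.one_lt_card
  refine ⟨H46.Eight.sing_clause hQ hminus,
    fun hodd W _ hW1 ho hW => H46.Eight.odd_clause hQ hodd W hW1 ho hW,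
    fun W hd hW hmin => H46.Eight.plane_clause hQ W hd hW fun _ => hmin,
    fun h4 W hd hW _ => H46.Eight.plane_clause hQ W hd hW fun h => absurd h (by omega),
    H46.Eight.four_clause hQ hminus, H46.Eight.point_clause hQ, fun hodd K hK hsa => ?_,
    fun F₀ r P ζ hr _ hc hζ hP => H45.SubO7.subfield_maximal_form (by norm_num) hQ F₀ r hr hc P ζ hζ hP⟩
  obtain ⟨q, rfl, hq⟩ := H45.exists_quadForm hQ
  refine H49.extension_normalizer_maximal' q hq
    (Ring.two_ne_zero (H44.ringChar_ne_two_of_odd_card hodd)) (Or.inl (Fintype.card_fin 8)) 2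
    Nat.prime_two (by simp) (fun _ _ U hU => ?_) K hK hsa
  by_contra hcon
  simp only [not_exists, not_and, not_not] at hcon
  exact hminus ⟨U, le_top, hcon, by rw [hU, finrank_top, Module.finrank_fin_fun]⟩

end Cfsg.Agent.S5825
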