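import Cfsg.Statements.S5826
import Cfsg.Agent.H98.OrthEven.Final

set_option autoImplicit false
open Cfsg

namespace Cfsg.Agent.S5826

/-- Every maximal subgroup of Ω_8^-(q) is of one of the listed geometric types or lies in the residual class. Let F be a finite field with q elements, Q a non-degenerate quadratic form on F^8 of minus type (no totally singular 4-space), Ω the commutator subgroup of its isometry group, and H a maximal subgroup of Ω (inside GL_8(F)). Then H is the intersection with Ω of one of: the stabiliser of a non-zero totally singular subspace; for q odd, the stabiliser of a non-degenerate subspace of odd dimension; the stabiliser of a non-degenerate 2-space of minus type; for q ≥ 4, the stabiliser of a non-degenerate 2-space of plus type; the stabiliser of a non-degenerate 4-space; for q even, the stabiliser of the span of a non-singular vector; the normaliser of a degree-2 subfield of the matrix algebra; a subfield group of odd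 prime index whose F₀-structure carries a non-zero multiple of Q — or else H lies in the residual class of the orthogonal case (modulo scalars H is almost simple, with absolutely irreducible perfect socle preimage realisable over no proper subfield and fixing no non-degenerate unitary form). -/
theorem result {F : Type*} [Field F] [Fintype F] (Q : (Fin 8 → F) → F) (hQ : Cfsg.Geo.IsNondegenerateQuadraticForm Q) (hminus : ¬ Cfsg.Geo.IsPlusTypeOn Q ⊤) (H : Subgroup (Matrix.GeneralLinearGroup (Fin 8) F)) (hH : Cfsg.Geo.IsMaximalIn (Cfsg.Geo.omegaGL Q) H) :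
    (∃ W : Submodule F (Fin 8 → F), W ≠ ⊥ ∧ Cfsg.Geo.IsTotallySingularQuad Q W ∧ H = Cfsg.Geo.subspaceStabilizer W ⊓ Cfsg.Geo.omegaGL Q) ∨
    (Odd (Fintype.card F) ∧ ∃ W : Submodule F (Fin 8 → F), W ≠ ⊥ ∧ W ≠ ⊤ ∧ Odd (Module.finrank F W) ∧ Cfsg.Geo.IsNondegenerateOn (QuadraticMap.polar Q) W ∧ H = Cfsg.Geo.subspaceStabilizer W ⊓ Cfsg.Geo.omegaGL Q) ∨
    (∃ W : Submodule F (Fin 8 → F), Module.finrank F W = 2 ∧ Cfsg.Geo.IsNondegenerateOn (QuadraticMap.polar Q) W ∧ ¬ Cfsg.Geo.IsPlusTypeOn Q W ∧ H = Cfsg.Geo.subspaceStabilizer W ⊓ Cfsg.Geo.omegaGL Q) ∨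
    (4 ≤ Fintype.card F ∧ ∃ W : Submodule F (Fin 8 → F), Module.finrank F W = 2 ∧ Cfsg.Geo.IsNondegenerateOn (QuadraticMap.polar Q) W ∧ Cfsg.Geo.IsPlusTypeOn Q W ∧ H = Cfsg.Geo.subspaceStabilizer W ⊓ Cfsg.Geo.omegaGL Q) ∨
    (∃ W : Submodule F (Fin 8 → F), Module.finrank F W = 4 ∧ Cfsg.Geo.IsNondegenerateOn (QuadraticMap.polar Q) W ∧ H = Cfsg.Geo.subspaceStabilizer W ⊓ Cfsg.Geo.omegaGL Q) ∨
    (¬ Odd (Fintype.card F) ∧ ∃ v : (Fin 8 → F), Q v ≠ 0 ∧ H = Cfsg.Geo.subspaceStabilizer (Submodule.span F {v}) ⊓ Cfsg.Geo.omegaGL Q) ∨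
    (∃ K : Subalgebra F (Matrix (Fin 8) (Fin 8) F), Cfsg.Geo.IsFieldSubalgebra 2 K ∧ H = Cfsg.Geo.subalgebraNormalizer K ⊓ Cfsg.Geo.omegaGL Q) ∨
    (∃ (F₀ : Subfield F) (r : ℕ) (P : Matrix.GeneralLinearGroup (Fin 8) F) (ζ : F), r.Prime ∧ Odd r ∧ Fintype.card F = Nat.card F₀ ^ r ∧ ζ ≠ 0 ∧ Cfsg.Geo.IsQuadFormRationalStructure (fun v : Fin 8 → F => ζ * Q v) F₀ P ∧ H = Cfsg.Geo.subfieldSubgroup F₀ P ⊓ Cfsg.Geo.omegaGL Q) ∨
    Cfsg.Geo.InOrthogonalResidualClass H := by
  obtain ⟨q, rfl, hq⟩ := H45.exists_quadForm hQ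
  classical
  have hn : Fintype.card (Fin 8) = 8 := Fintype.card_fin 8
  have hn' : Fintype.card (Fin 8) = 8 ∨ Fintype.card (Fin 8) = 10 ∨ Fintype.card (Fin 8) = 12 := Or.inl hn
  have h5 : 5 ≤ Fintype.card (Fin 8) := by omega
  by_cases hirr : H98.OE.Irr H
  swap
  · cases H98.OE.redOutcome hq hn' hH.1.le hirr with
    | singular W hb hs _ h =>
      exact Or.inl ⟨W, hb, hs,
        H98.OE.eq_stab hq h5 hH hb (H98.OE.singular_ne_top hq (by omega) hs) h⟩
    | oddDim hodd W hb ht hd _ hnd h =>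
      exact Or.inr (Or.inl ⟨hodd, W, hb, ht, hd, hnd, H98.OE.eq_stab hq h5 hH hb ht h⟩)
    | minusPlane W hd hnd hp h =>
      exact Or.inr (Or.inr (Or.inl
        ⟨W, hd, hnd, hp, H98.OE.eq_stab_of_lt hq h5 hH (by omega) (by omega) h⟩))
    | plusPlane h4 W hd hnd hp h =>
      exact Or.inr (Or.inr (Or.inr (Or.inl
        ⟨h4, W, hd, hnd, hp, H98.OE.eq_stab_of_lt hq h5 hH (by omega) (by omega) h⟩)))
    | four W hd hnd h =>
      exact Or.inr (Or.inr (Or.inr (Or.inr (Or.inl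
        ⟨W, hd, hnd, H98.OE.eq_stab_of_lt hq h5 hH (by omega) (by omega) h⟩))))
    | half W hd hnd h =>
      exact Or.inr (Or.inr (Or.inr (Or.inr (Or.inl
        ⟨W, by omega, hnd, H98.OE.eq_stab_of_lt hq h5 hH (by omega) (by omega) h⟩))))
    | point he v hv h =>
      exact Or.inr (Or.inr (Or.inr (Or.inr (Or.inr (Or.inl
        ⟨he, v, hv, H98.OE.eq_point hq h5 hH hv h⟩)))))
  cases H98.OE.irrOutcome hq hn' hH.1.le hirr with
  | decomp t k D hc hD h =>
    exfalso
    have ht : Even t := by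
      have h1 : t ∣ 2 ^ 3 := ⟨k, by rw [← hc, hn]; norm_num⟩
      obtain ⟨a, -, rfl⟩ := (Nat.dvd_prime_pow Nat.prime_two).1 h1
      have := hD.decomp.two_le
      rcases Nat.eq_zero_or_pos a with rfl | ha
      · omega
      · exact (Nat.even_pow.2 ⟨even_two, by omega⟩)
    exact hminus (H98.OE.decomp_plus hq (H98.OE.orth_of_irr hirr (H98.OE.max_isometry hH) hD h) ht
      (m := 4) (by omega) ⟨2, rfl⟩)
  | pair k D hc hD hts h => exact (H98.OE.not_pair_minus hq hminus hc hD hts).elim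
  | selfField r K hr hK hdvd hs h =>
    obtain rfl : r = 2 := by
      rcases hr with e | e
      · exact e
      · rw [e, hn] at hdvd; norm_num at hdvd
    exact Or.inr (Or.inr (Or.inr (Or.inr (Or.inr (Or.inr (Or.inl
      ⟨K, hK, H98.OE.eq_field hq (by omega) hH le_rfl hK h⟩))))))
  | unitField K hK _ _ _ h =>
    exact Or.inr (Or.inr (Or.inr (Or.inr (Or.inr (Or.inr (Or.inl
      ⟨K, hK, H98.OE.eq_field hq (by omega) hH le_rfl hK h⟩))))))
  | plus8 _ hp => exact absurd hp hminus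
  | tensorAlt h12 => omega
  | tensorSym h12 => omega
  | subfield F₀ r P ζ hr hc hζ hR h =>
    exact Or.inr (Or.inr (Or.inr (Or.inr (Or.inr (Or.inr (Or.inr (Or.inl
      ⟨F₀, r, P, ζ, hr, H98.OE.odd_of_minus hq (m := 4) (by omega) hminus hr hc hζ hR, hc, hζ, hR,
        H98.OE.eq_subfield hq h5 hH hr hc h⟩)))))))
  | core h => exact Or.inr (Or.inr (Or.inr (Or.inr (Or.inr (Or.inr (Or.inr (Or.inr h)))))))

end Cfsg.Agent.S5826
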