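import Cfsg.Statements.S5832
import Cfsg.Agent.H38.SUMax.Arith
import Cfsg.Agent.H38.SUMax.Small

set_option autoImplicit false
open Cfsg

namespace Cfsg.Agent.S5832

/-- Every maximal subgroup of SU_9(q) is of one of the listed geometric types or lies in the residual class. Let F be the field with q² elements, f the standard unitary form Σ u_i v_i^q on F^9, and H a maximal subgroup of SU_9(q) (inside GL_9(F)). Then H is the intersection with SU_9(q) of one of: the stabiliser of a non-zero totally isotropic subspace; the stabiliser of a non-degenerate 1-, 2-, 3- or 4-space; the stabiliser of a decomposition into nine mutually orthogonal non-degenerate 1-spaces; of a decomposition into three mutually orthogonal non-degenerate 3-spaces; the normaliser of an adjoint-closed degree-3 subfield of the matrix algebra; a subfield group of odd prime index whose F₀-structure carries f; for q odd,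 a subfield group of index 2 whose F₀-structure carries f; for q = p ≡ 2 mod 3 prime, the normaliser of an absolutely irreducible extraspecial group 3_+^(1+4) of exponent 3 inside the similarity group of f; for q ≥ 3, the stabiliser of a tensor decomposition of f as a tensor square of a unitary form on F^3 — or else H lies in the residual class of the unitary case. -/
theorem result {F : Type*} [Field F] [Fintype F] (q : ℕ) (hF : Fintype.card F = q ^ 2) (H : Subgroup (Matrix.GeneralLinearGroup (Fin 9) F)) (hH : Cfsg.Geo.IsMaximalIn (Cfsg.GU 9 F q ⊓ Cfsg.Geo.specialLinear (Fin 9) F) H) :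
    (∃ W : Submodule F (Fin 9 → F), W ≠ ⊥ ∧ Cfsg.Geo.IsTotallySingularFor (Cfsg.hermForm 9 F q) W ∧ H = Cfsg.Geo.subspaceStabilizer W ⊓ (Cfsg.GU 9 F q ⊓ Cfsg.Geo.specialLinear (Fin 9) F)) ∨
    (∃ W : Submodule F (Fin 9 → F), W ≠ ⊥ ∧ Cfsg.Geo.IsNondegenerateOn (Cfsg.hermForm 9 F q) W ∧ 2 * Module.finrank F W < 9 ∧ H = Cfsg.Geo.subspaceStabilizer W ⊓ (Cfsg.GU 9 F q ⊓ Cfsg.Geo.specialLinear (Fin 9) F)) ∨
    (∃ D : Fin 9 → Submodule F (Fin 9 → F), Cfsg.Geo.IsNondegenerateMDecomposition (Cfsg.hermForm 9 F q) 1 D ∧ H = Cfsg.Geo.decompositionStabilizer D ⊓ (Cfsg.GU 9 F q ⊓ Cfsg.Geo.specialLinear (Fin 9) F)) ∨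
    (∃ D : Fin 3 → Submodule F (Fin 9 → F), Cfsg.Geo.IsNondegenerateMDecomposition (Cfsg.hermForm 9 F q) 3 D ∧ H = Cfsg.Geo.decompositionStabilizer D ⊓ (Cfsg.GU 9 F q ⊓ Cfsg.Geo.specialLinear (Fin 9) F)) ∨
    (∃ K : Subalgebra F (Matrix (Fin 9) (Fin 9) F), Cfsg.Geo.IsFieldSubalgebra 3 K ∧ Cfsg.Geo.IsAdjointClosedFor (Cfsg.hermForm 9 F q) K ∧ H = Cfsg.Geo.subalgebraNormalizer K ⊓ (Cfsg.GU 9 F q ⊓ Cfsg.Geo.specialLinear (Fin 9) F)) ∨
    (∃ (F₀ : Subfield F) (r : ℕ) (P : Matrix.GeneralLinearGroup (Fin 9) F), r.Prime ∧ Odd r ∧ Fintype.card F = Nat.card F₀ ^ r ∧ Cfsg.Geo.IsFormRationalStructure (Cfsg.hermForm 9 F q) F₀ 1 P ∧ H = Cfsg.Geo.subfieldSubgroup F₀ P ⊓ (Cfsg.GU 9 F q ⊓ Cfsg.Geo.specialLinear (Fin 9) F)) ∨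
    (Odd q ∧ ∃ (F₀ : Subfield F) (P : Matrix.GeneralLinearGroup (Fin 9) F), Fintype.card F = Nat.card F₀ ^ 2 ∧ Cfsg.Geo.IsFormRationalStructure (Cfsg.hermForm 9 F q) F₀ 1 P ∧ H = Cfsg.Geo.subfieldSubgroup F₀ P ⊓ (Cfsg.GU 9 F q ⊓ Cfsg.Geo.specialLinear (Fin 9) F)) ∨
    (∃ (p : ℕ) (R : Subgroup (Matrix.GeneralLinearGroup (Fin 9) F)), p.Prime ∧ q = p ∧ p % 3 = 2 ∧ Cfsg.Geo.IsSymplecticTypeGroup 3 R ∧ Cfsg.Geo.ActsAbsolutelyIrreducibly (Cfsg.Geo.matrixSet R) ∧ R ≤ Cfsg.Geo.similarityGroup (Cfsg.hermForm 9 F q) ∧ Nat.card R = 243 ∧ Nat.card (Subgroup.center R) = 3 ∧ H = Cfsg.Geo.subgroupNormalizer R ⊓ (Cfsg.GU 9 F q ⊓ Cfsg.Geo.specialLinear (Fin 9) F)) ∨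
    (3 ≤ q ∧ ∃ (e : Fin 9 ≃ (Fin 2 → Fin 3)) (P : Matrix.GeneralLinearGroup (Fin 9) F) (f₁ : (Fin 3 → F) → (Fin 3 → F) → F), Cfsg.Geo.IsUnitaryFormPow q f₁ ∧ Cfsg.Geo.IsTensorPowerFormStructure (fun x : F => x ^ q) (Cfsg.hermForm 9 F q) f₁ e P ∧ H = Cfsg.Geo.tensorWreathSubgroup 3 2 e P ⊓ (Cfsg.GU 9 F q ⊓ Cfsg.Geo.specialLinear (Fin 9) F)) ∨
    Cfsg.Geo.InUnitaryResidualClass H := by
  rcases H38.SUMax.suList hF (by norm_num) (by simp) hH with ⟨W, h1, h2, h⟩ | ⟨W, h1, h2, h3, h⟩ |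
    ⟨t, m, D, h1, h2, h3, h⟩ | ⟨m, D, h1, -⟩ | ⟨r, K, h1, h2, h3, h4, h5, h⟩ |
    ⟨n₁, n₂, e, P, f₁, f₂, h1, h2, h3, -⟩ | ⟨F₁, r, P, hr, ho, hc, hrat, h⟩ |
    ⟨F₁, P, ho, hc, hrat, h⟩ | ⟨F₁, P, ζ, he, -⟩ |
    ⟨r, k, p, e, R, hR, habs, hiso, hsim, hk, hn, hrp, hmin, he, hqp, hz, hcard, h⟩ |
    ⟨a, t, e, P, f₁, h1, h2, h3, hex, h4, h5, h⟩ | h
  · exact Or.inl ⟨W, h1, h2, h⟩
  · exact Or.inr (Or.inl ⟨W, h1, h2, h3, h⟩)
  · have hmem := H38.SUMax.divisor_pairs (by norm_num) h1 h2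
    have hcases : (t = 9 ∧ m = 1) ∨ (t = 3 ∧ m = 3) := by
      revert hmem
      have hd : ∀ x ∈ (Finset.Icc 2 9 ×ˢ Finset.Icc 1 9).filter (fun x : ℕ × ℕ => x.1 * x.2 = 9),
          (x.1 = 9 ∧ x.2 = 1) ∨ (x.1 = 3 ∧ x.2 = 3) := by decide
      exact hd (t, m)
    rcases hcases with ⟨rfl, rfl⟩ | ⟨rfl, rfl⟩
    · exact Or.inr (Or.inr (Or.inl ⟨D, h3, h⟩))
    · exact Or.inr (Or.inr (Or.inr (Or.inl ⟨D, h3, h⟩)))
  · omega
  · obtain rfl : r = 3 := by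
      have hd : ∀ x ∈ Finset.range 10, x ∣ 9 → x.Prime → x = 3 := by decide
      exact hd r (Finset.mem_range.2 (by have := Nat.le_of_dvd (by norm_num) h3; omega)) h3 h1
    exact Or.inr (Or.inr (Or.inr (Or.inr (Or.inl ⟨K, h4, h5, h⟩))))
  · have hmem := H38.SUMax.divisor_pairs (by norm_num) h1 h3
    have hd : ∀ x ∈ (Finset.Icc 2 9 ×ˢ Finset.Icc 1 9).filter (fun x : ℕ × ℕ => x.1 * x.2 = 9),
        x.1 < x.2 → False := by decide
    exact (hd (n₁, n₂) hmem h2).elim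
  · exact Or.inr (Or.inr (Or.inr (Or.inr (Or.inr (Or.inl ⟨F₁, r, P, hr, ho, hc, hrat, h⟩)))))
  · exact Or.inr (Or.inr (Or.inr (Or.inr (Or.inr (Or.inr (Or.inl ⟨ho, F₁, P, hc, hrat, h⟩))))))
  · exact absurd he (by decide)
  · obtain rfl : r = 3 := (Nat.prime_dvd_prime_iff_eq hR.prime Nat.prime_three).1
      (hR.prime.dvd_of_dvd_pow (show r ∣ 3 ^ 2 by rw [show 3 ^ 2 = r ^ k from hn]; exact dvd_pow_self r (by omega)))
    obtain rfl : k = 2 := Nat.pow_right_injective (by norm_num) (hn.symm.trans (by norm_num : (9 : ℕ) = 3 ^ 2))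
    rcases hcard with ⟨-, hcen, hR'⟩ | ⟨h', -⟩
    swap
    · exact absurd h' (by decide)
    rw [hcen] at hz hmin
    obtain rfl : e = 2 := by
      have h2 := H38.SUMax.minimal_degree_dvd Nat.prime_three hrp hmin
      obtain ⟨j, rfl⟩ := he
      have h3 := Nat.le_of_dvd (by norm_num) h2
      rcases (show j = 0 ∨ j = 1 by omega) with rfl | rfl
      · simp at h2
      · rfl
    refine Or.inr (Or.inr (Or.inr (Or.inr (Or.inr (Or.inr (Or.inr (Or.inl ⟨p, R, hmin.1, by simpa using hqp, ?_, hR, habs, hsim, by rw [hR']; norm_num, hcen, h⟩)))))))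
    obtain ⟨c, hc⟩ : 3 ∣ p + 1 := by simpa using hz
    omega
  · obtain ⟨rfl, rfl⟩ : a = 3 ∧ t = 2 := by
      have ha : a ≤ 3 := by
        by_contra hlt
        have h6 : a ^ 2 ≤ a ^ t := Nat.pow_le_pow_right (by omega) h2
        have h7 : 4 ^ 2 ≤ a ^ 2 := Nat.pow_le_pow_left (by omega) 2
        omega
      obtain rfl : a = 3 := by omega
      exact ⟨rfl, Nat.pow_right_injective (le_refl 3 |>.trans' (by norm_num)) (h3.symm.trans (by norm_num : (9 : ℕ) = 3 ^ 2))⟩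
    have hq : 3 ≤ q := by
      have h6 : q ≠ 2 := fun e => hex ⟨e, rfl⟩
      have := H50.two_le hF
      omega
    exact Or.inr (Or.inr (Or.inr (Or.inr (Or.inr (Or.inr (Or.inr (Or.inr (Or.inl ⟨hq, e, P, f₁, h4, h5, h⟩))))))))
  · exact Or.inr (Or.inr (Or.inr (Or.inr (Or.inr (Or.inr (Or.inr (Or.inr (Or.inr (h)))))))))

end Cfsg.Agent.S5832
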