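import Cfsg.Statements.S5835
import Cfsg.Agent.H45.OrthStructMain
import Cfsg.Agent.H51.FormAsch.OrthStd
import Cfsg.Agent.H51.FormAsch.OrthPower
import Cfsg.Agent.H98.OrthEven.SmallDecomp
import Cfsg.Agent.H98.OrthEven.Disc
-- import your own Cfsg.Agent.* helpers here

set_option autoImplicit false
open Cfsg

namespace Cfsg.Agent.S5835

/-- Every maximal subgroup of Ω_9(q), q odd, is of one of the listed geometric types or lies in the residual class. Let F be a finite field of odd order q, Q the standard quadratic form x₀² + Σ x_i y_i on F^9 (coordinates Unit ⊕ (Fin 4 ⊕ Fin 4)), Ω the commutator subgroup of its isometry group, and H a maximal subgroup of Ω (inside GL_9(F)). Then H is the intersection with Ω of one of: the stabiliser of a non-zero totally singular subspace; the stabiliser of a non-zero non-degenerate subspace of even dimension (not a plus-type plane when q = 3); for q prime, the stabiliser of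 a decomposition into nine pairwise orthogonal, pairwise isometric non-degenerate 1-spaces; for q ≥ 5, the stabiliser of a decomposition into three pairwise orthogonal, pairwise isometric non-degenerate 3-spaces; the normaliser of a degree-3 subfield of the matrix algebra, self-adjoint for the polar form; a subfield group (|F| = |F₀|^r, r prime) whose F₀-structure carries Q; for q ≥ 5, the stabiliser of a tensor decomposition of the polar form as a tensor square of a symmetric form on F^3 — or else H lies in the residual class of the orthogonal case (modulo scalars H is almost simple, with absolutely irreducible perfect socle preimage realisable over no proper subfield and fixing no non-degenerate unitary form). -/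
theorem result {F : Type*} [Field F] [Fintype F] (hodd : Odd (Fintype.card F)) (H : Subgroup (Matrix.GeneralLinearGroup (Unit ⊕ (Fin 4 ⊕ Fin 4)) F)) (hH : Cfsg.Geo.IsMaximalIn (Cfsg.Geo.omegaGL (Cfsg.quadFormOdd 4 F)) H) :
    (∃ W : Submodule F (Unit ⊕ (Fin 4 ⊕ Fin 4) → F), W ≠ ⊥ ∧ Cfsg.Geo.IsTotallySingularQuad (Cfsg.quadFormOdd 4 F) W ∧ H = Cfsg.Geo.subspaceStabilizer W ⊓ Cfsg.Geo.omegaGL (Cfsg.quadFormOdd 4 F)) ∨
    (∃ W : Submodule F (Unit ⊕ (Fin 4 ⊕ Fin 4) → F), W ≠ ⊥ ∧ Even (Module.finrank F W) ∧ Cfsg.Geo.IsNondegenerateOn (QuadraticMap.polar (Cfsg.quadFormOdd 4 F)) W ∧ ¬ (Fintype.card F = 3 ∧ Module.finrank F W = 2 ∧ Cfsg.Geo.IsPlusTypeOn (Cfsg.quadFormOdd 4 F) W) ∧ H = Cfsg.Geo.subspaceStabilizer W ⊓ Cfsg.Geo.omegaGL (Cfsg.quadFormOdd 4 F)) ∨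
    ((Fintype.card F).Prime ∧ ∃ D : Fin 9 → Submodule F (Unit ⊕ (Fin 4 ⊕ Fin 4) → F), Cfsg.Geo.IsOrthogonalMDecomposition (Cfsg.quadFormOdd 4 F) 1 D ∧ H = Cfsg.Geo.decompositionStabilizer D ⊓ Cfsg.Geo.omegaGL (Cfsg.quadFormOdd 4 F)) ∨
    (5 ≤ Fintype.card F ∧ ∃ D : Fin 3 → Submodule F (Unit ⊕ (Fin 4 ⊕ Fin 4) → F), Cfsg.Geo.IsOrthogonalMDecomposition (Cfsg.quadFormOdd 4 F) 3 D ∧ H = Cfsg.Geo.decompositionStabilizer D ⊓ Cfsg.Geo.omegaGL (Cfsg.quadFormOdd 4 F)) ∨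
    (∃ K : Subalgebra F (Matrix (Unit ⊕ (Fin 4 ⊕ Fin 4)) (Unit ⊕ (Fin 4 ⊕ Fin 4)) F), Cfsg.Geo.IsFieldSubalgebra 3 K ∧ Cfsg.Geo.IsSelfAdjointFor (QuadraticMap.polar (Cfsg.quadFormOdd 4 F)) K ∧ H = Cfsg.Geo.subalgebraNormalizer K ⊓ Cfsg.Geo.omegaGL (Cfsg.quadFormOdd 4 F)) ∨
    (∃ (F₀ : Subfield F) (r : ℕ) (P : Matrix.GeneralLinearGroup (Unit ⊕ (Fin 4 ⊕ Fin 4)) F), r.Prime ∧ Fintype.card F = Nat.card F₀ ^ r ∧ Cfsg.Geo.IsQuadFormRationalStructure (Cfsg.quadFormOdd 4 F) F₀ P ∧ H = Cfsg.Geo.subfieldSubgroup F₀ P ⊓ Cfsg.Geo.omegaGL (Cfsg.quadFormOdd 4 F)) ∨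
    (5 ≤ Fintype.card F ∧ ∃ (e : (Unit ⊕ (Fin 4 ⊕ Fin 4)) ≃ (Fin 2 → Fin 3)) (P : Matrix.GeneralLinearGroup (Unit ⊕ (Fin 4 ⊕ Fin 4)) F) (f₁ : (Fin 3 → F) → (Fin 3 → F) → F), Cfsg.Geo.IsSymmetricForm f₁ ∧ Cfsg.Geo.IsTensorPowerFormStructure id (QuadraticMap.polar (Cfsg.quadFormOdd 4 F)) f₁ e P ∧ H = Cfsg.Geo.tensorWreathSubgroup 3 2 e P ⊓ Cfsg.Geo.omegaGL (Cfsg.quadFormOdd 4 F)) ∨
    Cfsg.Geo.InOrthogonalResidualClass H := by
  classical
  have h2 : (2 : F) ≠ 0 := H43.two_ne_zero_of_odd_card hodd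
  have hcard : Fintype.card (Unit ⊕ (Fin 4 ⊕ Fin 4)) = 9 := by simp
  rw [← H43.coe_qOdd] at hH ⊢
  have hq := H43.qOdd_nondeg h2 4 (F := F)
  have hn : 5 ≤ Fintype.card (Unit ⊕ (Fin 4 ⊕ Fin 4)) := by omega
  have ho : Odd (Fintype.card (Unit ⊕ (Fin 4 ⊕ Fin 4))) := ⟨4, hcard⟩
  have hs := H51.FormAsch.sform_polar hq
  have hstd := @H51.FormAsch.std_gram_mem F _ 4
  have hiso : ∀ g ∈ H, ∀ x, (H43.qOdd 4 F) (Matrix.mulVec (g : Matrix _ _ F) x) = (H43.qOdd 4 F) x :=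
    fun g hg => H51.FormAsch.omega_isometry (hH.1.le hg)
  have h35 : Fintype.card F = 3 ∨ 5 ≤ Fintype.card F := by
    obtain ⟨j, hj⟩ := hodd
    have := Fintype.one_lt_card (α := F)
    omega
  -- the cases already treated in general
  suffices H51.FormAsch.OrthMaxCases (H43.qOdd 4 F) H ∨
      (5 ≤ Fintype.card F ∧ ∃ D : Fin 3 → Submodule F (Unit ⊕ (Fin 4 ⊕ Fin 4) → F),
        Cfsg.Geo.IsOrthogonalMDecomposition ⇑(H43.qOdd 4 F) 3 D ∧
        H = Cfsg.Geo.decompositionStabilizer D ⊓ Cfsg.Geo.omegaGL ⇑(H43.qOdd 4 F)) ∨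
      (∃ K : Subalgebra F (Matrix (Unit ⊕ (Fin 4 ⊕ Fin 4)) (Unit ⊕ (Fin 4 ⊕ Fin 4)) F),
        Cfsg.Geo.IsFieldSubalgebra 3 K ∧ Cfsg.Geo.IsSelfAdjointFor (QuadraticMap.polar ⇑(H43.qOdd 4 F)) K ∧
        H = Cfsg.Geo.subalgebraNormalizer K ⊓ Cfsg.Geo.omegaGL ⇑(H43.qOdd 4 F)) ∨
      (5 ≤ Fintype.card F ∧ ∃ (e : (Unit ⊕ (Fin 4 ⊕ Fin 4)) ≃ (Fin 2 → Fin 3))
        (P : Matrix.GeneralLinearGroup (Unit ⊕ (Fin 4 ⊕ Fin 4)) F) (f₁ : (Fin 3 → F) → (Fin 3 → F) → F),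
        Cfsg.Geo.IsSymmetricForm f₁ ∧
        Cfsg.Geo.IsTensorPowerFormStructure id (QuadraticMap.polar ⇑(H43.qOdd 4 F)) f₁ e P ∧
        H = Cfsg.Geo.tensorWreathSubgroup 3 2 e P ⊓ Cfsg.Geo.omegaGL ⇑(H43.qOdd 4 F)) by
    rcases this with (⟨W, hW, hs, h⟩ | ⟨W, hW, he, hn, hex, h⟩ | ⟨t, D, hc, hp, hD, h⟩ |
      ⟨F₀, r, P, hr, hc, hR, h⟩ | h) | h | h | h
    · exact .inl ⟨W, hW, hs, h⟩
    · exact .inr <| .inl ⟨W, hW, he, hn, hex, h⟩
    · obtain rfl : t = 9 := by rw [← hc, hcard]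
      exact .inr <| .inr <| .inl ⟨hp, D, hD, h⟩
    · exact .inr <| .inr <| .inr <| .inr <| .inr <| .inl ⟨F₀, r, P, hr, hc, hR, h⟩
    · exact .inr <| .inr <| .inr <| .inr <| .inr <| .inr <| .inr h
    · exact .inr <| .inr <| .inr <| .inl h
    · exact .inr <| .inr <| .inr <| .inr <| .inl h
    · exact .inr <| .inr <| .inr <| .inr <| .inr <| .inr <| .inl h
  have hsing : ∀ W : Submodule F (Unit ⊕ (Fin 4 ⊕ Fin 4) → F), W ≠ ⊥ →
      Cfsg.Geo.IsTotallySingularQuad ⇑(H43.qOdd 4 F) W → H ≤ Cfsg.Geo.subspaceStabilizer W →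
      H51.FormAsch.OrthMaxCases (H43.qOdd 4 F) H := by
    intro W hW hsq h
    refine .singular W hW hsq (H46.eq_inf_of_maximal hH h fun e => ?_)
    have htop := H51.FormAsch.omega_irreducible hq h2 hn e hW
    obtain ⟨v, hv⟩ := H43.exists_qmap_eq hq (by rw [Module.finrank_pi]; omega) 1 one_ne_zero
    exact one_ne_zero (α := F) (by rw [← hv, hsq v (htop ▸ Submodule.mem_top)])
  have hnondeg : ∀ W : Submodule F (Unit ⊕ (Fin 4 ⊕ Fin 4) → F), W ≠ ⊥ → W ≠ ⊤ →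
      Cfsg.Geo.IsNondegenerateOn (QuadraticMap.polar ⇑(H43.qOdd 4 F)) W →
      H ≤ Cfsg.Geo.subspaceStabilizer W → H51.FormAsch.OrthMaxCases (H43.qOdd 4 F) H := by
    intro W hW ht hnd h
    refine H51.FormAsch.nondeg_case hq h2 hn ho hH hW ht ?_ h
    rw [eq_bot_iff]
    rintro x ⟨hx, hx'⟩
    rw [Submodule.mem_bot]
    by_contra hx0
    obtain ⟨y, hy, hyx⟩ := (hnd x hx hx0).1
    exact hyx (hs.eq_zero_comm (hx' y hy))
  by_cases hirr : Cfsg.Geo.ActsIrreducibly (Cfsg.Geo.matrixSet H)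
  swap
  · refine .inl ?_
    have hHsim : H ≤ Cfsg.Geo.similarityGroup (QuadraticMap.polar ⇑(H43.qOdd 4 F)) := fun g hg => ⟨1, fun u v => by
      simp only [QuadraticMap.polar, ← Matrix.mulVec_add, hiso g hg, Units.val_one, one_mul]⟩
    obtain ⟨W, hb, ht, h⟩ := H46.exists_invariant_of_not_irreducible hirr
    rcases hs.of_reducible hHsim hb ht h with ⟨U, h1, h2', h3⟩ | ⟨U, h1, h2', h3, h4⟩ | ⟨k, D, h1, -⟩
    · refine hsing U h1 (fun w hw => ?_) h3
      have h5 := h2' w hw w hw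
      rw [← H43.polB_apply, H43.polB_self] at h5
      exact (mul_eq_zero.1 h5).resolve_left h2
    · refine hnondeg U h1 (fun e => ?_) h2' h4
      rw [e, finrank_top, Module.finrank_fintype_fun_eq_card] at h3
      omega
    · omega
  cases H45.OrthStruct.oddOutcome hq hodd (by omega) ho hstd hiso with
  | singular W hW hsq h => exact .inl (hsing W hW hsq h)
  | nondeg W hW ht hnd h => exact .inl (hnondeg W hW ht hnd h)
  | decomp t k D hk hD h =>
    have hc : t * k = 9 := by rw [← hcard, H98.OE.card_eq_mul hD.decomp.decomp]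
    have h2t := hD.decomp.decomp.two_le
    obtain ⟨rfl, rfl⟩ : t = 3 ∧ k = 3 := by
      have : t ≤ 4 := by nlinarith
      have : k ≤ 4 := by nlinarith
      interval_cases t <;> interval_cases k <;> omega
    rcases h35 with h3 | h5
    · obtain ⟨D', hD', h'⟩ := H98.OE.block_three hq (H98.OE.irr_iff.2 hirr) hiso h3 hD h
      exact .inl (H51.FormAsch.frame_case hq h2 hn ho hstd hH hcard hD'.decomp h')
    · exact .inr <| .inl ⟨h5, D, hD, H46.eq_inf_of_maximal hH h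
        (H98.OE.omega_not_decomp hq hn hD.decomp (by omega))⟩
  | frame t D hp hD h =>
    have hc : Fintype.card (Unit ⊕ (Fin 4 ⊕ Fin 4)) = t := by
      rw [H98.OE.card_eq_mul hD.decomp.decomp, mul_one]
    exact .inl (H51.FormAsch.frame_case hq h2 hn ho hstd hH hc hD.decomp h)
  | field r K hr hne hK hsa h =>
    obtain rfl : r = 3 := by
      have h9 : r ∣ 3 ^ 2 := by
        have := H46.dvd_card_of_isFieldSubalgebra hK
        rwa [hcard] at this
      exact (Nat.prime_dvd_prime_iff_eq hr Nat.prime_three).1 (hr.dvd_of_dvd_pow h9)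
    exact .inr <| .inr <| .inl ⟨K, hK, hsa,
      H46.eq_inf_of_maximal hH h (H98.OE.omega_not_field hq (by omega) (by norm_num) hK)⟩
  | tensor n₁ n₂ e P f₁ f₂ h1 h12 hf₁ hf₂ hT h =>
    exfalso
    have hc : n₁ * n₂ = 9 := by
      rw [← hcard, Fintype.card_congr e, Fintype.card_prod, Fintype.card_fin, Fintype.card_fin]
    nlinarith
  | subfield F₀ r P hr hc hR h =>
    refine .inl (.subfield F₀ r P hr hc hR (H46.eq_inf_of_maximal hH h
      (H51.FormAsch.omega_not_subfield hq h2 hn (fun e => ?_) P)))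
    subst e
    rw [Nat.card_congr (Subfield.topEquiv (K := F)).toEquiv, Nat.card_eq_fintype_card] at hc
    exact (Nat.pow_lt_pow_right Fintype.one_lt_card hr.one_lt).ne (by rw [pow_one]; exact hc)
  | power k t e P f₁ hk ht hex hf₁ hT h =>
    have hc : k ^ t = 9 := by rw [← hcard, Fintype.card_congr e, Fintype.card_fun, Fintype.card_fin, Fintype.card_fin]
    obtain ⟨rfl, rfl⟩ : k = 3 ∧ t = 2 := by
      have h1 : k ^ 2 ≤ 9 := (Nat.pow_le_pow_right (by omega) ht).trans hc.le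
      obtain rfl : k = 3 := by nlinarith
      exact ⟨rfl, Nat.pow_right_injective (by norm_num) (show 3 ^ t = 3 ^ 2 by omega)⟩
    exact .inr <| .inr <| .inr ⟨h35.resolve_left fun h3 => hex ⟨h3, rfl⟩, e, P, f₁, hf₁, hT,
      H46.eq_inf_of_maximal hH h (H51.FormAsch.omega_not_power_two hq h2 hn le_rfl e P)⟩
  | residual h => exact .inl (.residual h)

end Cfsg.Agent.S5835
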