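import Cfsg.Statements.S5850
import Cfsg.Agent.H98.OrthEven.Final

set_option autoImplicit false
open Cfsg

namespace Cfsg.Agent.S5850

/-- Every maximal subgroup of Ω_10^-(q) is of one of the listed geometric types or lies in the residual class. Let F be a finite field with q elements (characteristic p), Q a non-degenerate quadratic form on F^10 of minus type (Witt index 4: no totally singular 5-space), Ω the commutator subgroup of its isometry group, and H a maximal subgroup of Ω (inside GL_10(F)). Then H is the intersection with Ω of one of: the stabiliser of a non-zero totally singular subspace; for q odd, the stabiliser of a non-degenerate subspace of odd dimension ≠ 5; the stabiliser of a non-degenerate 2-space of minus type; for q ≥ 4, the stabiliser of a non-degenerate 2-space of plus type; the stabiliser of a non-degenerate 4-space; for q even, the stabiliser of the span of a non-singular vector; for q = p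 prime with p ≡ 3 mod 4, the stabiliser of a decomposition into 10 pairwise orthogonal, pairwise isometric non-degenerate 1-spaces; for q ≠ 3, the stabiliser of a decomposition into 5 pairwise orthogonal, pairwise isometric non-degenerate 2-spaces; for q ≡ 3 mod 4, the stabiliser of a decomposition into 2 pairwise orthogonal, pairwise isometric non-degenerate 5-spaces; for q ≡ 1 mod 4, the stabiliser of a decomposition into two orthogonal, non-isometric non-degenerate 5-spaces; for q odd, the normaliser of a degree-2 subfield of the matrix algebra, self-adjoint for the polar form; the normaliser of a degree-2 subfield K, adjoint-closed but not self-adjoint, acting by similarities of Q; a subfield group (|F| = |F₀|^r, r odd prime) whose F₀-structure carries a non-zero multiple of Q — or else H lies in the residual class of the orthogonal case (modulo scalars H is almost simple, with absolutely irreducible perfect socle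 preimage realisable over no proper subfield and fixing no non-degenerate unitary form). -/
theorem result {F : Type*} [Field F] [Fintype F] (Q : (Fin 10 → F) → F) (hQ : Cfsg.Geo.IsNondegenerateQuadraticForm Q) (hminus : ¬ Cfsg.Geo.IsPlusTypeOn Q ⊤) (H : Subgroup (Matrix.GeneralLinearGroup (Fin 10) F)) (hH : Cfsg.Geo.IsMaximalIn (Cfsg.Geo.omegaGL Q) H) :
    (∃ W : Submodule F (Fin 10 → F), W ≠ ⊥ ∧ Cfsg.Geo.IsTotallySingularQuad Q W ∧ H = Cfsg.Geo.subspaceStabilizer W ⊓ Cfsg.Geo.omegaGL Q) ∨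
    (Odd (Fintype.card F) ∧ ∃ W : Submodule F (Fin 10 → F), W ≠ ⊥ ∧ W ≠ ⊤ ∧ Odd (Module.finrank F W) ∧ 2 * Module.finrank F W ≠ 10 ∧ Cfsg.Geo.IsNondegenerateOn (QuadraticMap.polar Q) W ∧ H = Cfsg.Geo.subspaceStabilizer W ⊓ Cfsg.Geo.omegaGL Q) ∨
    (∃ W : Submodule F (Fin 10 → F), Module.finrank F W = 2 ∧ Cfsg.Geo.IsNondegenerateOn (QuadraticMap.polar Q) W ∧ ¬ Cfsg.Geo.IsPlusTypeOn Q W ∧ H = Cfsg.Geo.subspaceStabilizer W ⊓ Cfsg.Geo.omegaGL Q) ∨
    (4 ≤ Fintype.card F ∧ ∃ W : Submodule F (Fin 10 → F), Module.finrank F W = 2 ∧ Cfsg.Geo.IsNondegenerateOn (QuadraticMap.polar Q) W ∧ Cfsg.Geo.IsPlusTypeOn Q W ∧ H = Cfsg.Geo.subspaceStabilizer W ⊓ Cfsg.Geo.omegaGL Q) ∨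
    (∃ W : Submodule F (Fin 10 → F), Module.finrank F W = 4 ∧ Cfsg.Geo.IsNondegenerateOn (QuadraticMap.polar Q) W ∧ H = Cfsg.Geo.subspaceStabilizer W ⊓ Cfsg.Geo.omegaGL Q) ∨
    (¬ Odd (Fintype.card F) ∧ ∃ v : (Fin 10 → F), Q v ≠ 0 ∧ H = Cfsg.Geo.subspaceStabilizer (Submodule.span F {v}) ⊓ Cfsg.Geo.omegaGL Q) ∨
    ((∃ p : ℕ, p.Prime ∧ Fintype.card F = p ∧ (p % 4 = 3)) ∧ ∃ D : Fin 10 → Submodule F (Fin 10 → F), Cfsg.Geo.IsOrthogonalMDecomposition Q 1 D ∧ H = Cfsg.Geo.decompositionStabilizer D ⊓ Cfsg.Geo.omegaGL Q) ∨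
    (Fintype.card F ≠ 3 ∧ ∃ D : Fin 5 → Submodule F (Fin 10 → F), Cfsg.Geo.IsOrthogonalMDecomposition Q 2 D ∧ H = Cfsg.Geo.decompositionStabilizer D ⊓ Cfsg.Geo.omegaGL Q) ∨
    (Fintype.card F % 4 = 3 ∧ ∃ D : Fin 2 → Submodule F (Fin 10 → F), Cfsg.Geo.IsOrthogonalMDecomposition Q 5 D ∧ H = Cfsg.Geo.decompositionStabilizer D ⊓ Cfsg.Geo.omegaGL Q) ∨
    (Fintype.card F % 4 = 1 ∧ ∃ D : Fin 2 → Submodule F (Fin 10 → F), Cfsg.Geo.IsNondegenerateMDecomposition (QuadraticMap.polar Q) 5 D ∧ ¬ Cfsg.Geo.AreIsometricFor Q (D 0) (D 1) ∧ H = Cfsg.Geo.decompositionStabilizer D ⊓ Cfsg.Geo.omegaGL Q) ∨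
    (Odd (Fintype.card F) ∧ ∃ K : Subalgebra F (Matrix (Fin 10) (Fin 10) F), Cfsg.Geo.IsFieldSubalgebra 2 K ∧ Cfsg.Geo.IsSelfAdjointFor (QuadraticMap.polar Q) K ∧ H = Cfsg.Geo.subalgebraNormalizer K ⊓ Cfsg.Geo.omegaGL Q) ∨
    (∃ K : Subalgebra F (Matrix (Fin 10) (Fin 10) F), Cfsg.Geo.IsFieldSubalgebra 2 K ∧ Cfsg.Geo.IsAdjointClosedFor (QuadraticMap.polar Q) K ∧ ¬ Cfsg.Geo.IsSelfAdjointFor (QuadraticMap.polar Q) K ∧ (∀ k ∈ K, ∃ c : F, ∀ v : (Fin 10 → F), Q (Matrix.mulVec k v) = c * Q v) ∧ H = Cfsg.Geo.subalgebraNormalizer K ⊓ Cfsg.Geo.omegaGL Q) ∨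
    (∃ (F₀ : Subfield F) (r : ℕ) (P : Matrix.GeneralLinearGroup (Fin 10) F) (ζ : F), r.Prime ∧ Odd r ∧ Fintype.card F = Nat.card F₀ ^ r ∧ ζ ≠ 0 ∧ Cfsg.Geo.IsQuadFormRationalStructure (fun v : Fin 10 → F => ζ * Q v) F₀ P ∧ H = Cfsg.Geo.subfieldSubgroup F₀ P ⊓ Cfsg.Geo.omegaGL Q) ∨
    Cfsg.Geo.InOrthogonalResidualClass H := by
  obtain ⟨q, rfl, hq⟩ := H45.exists_quadForm hQ
  classical
  have hn : Fintype.card (Fin 10) = 10 := Fintype.card_fin 10
  have hn' : Fintype.card (Fin 10) = 8 ∨ Fintype.card (Fin 10) = 10 ∨ Fintype.card (Fin 10) = 12 :=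
    Or.inr (Or.inl hn)
  have h5 : 5 ≤ Fintype.card (Fin 10) := by omega
  have hiso := H98.OE.max_isometry hH
  by_cases hirr : H98.OE.Irr H
  swap
  · cases H98.OE.redOutcome hq hn' hH.1.le hirr with
    | singular W hb hs _ h =>
      exact Or.inl (⟨W, hb, hs, H98.OE.eq_stab hq h5 hH hb (H98.OE.singular_ne_top hq (by omega) hs) h⟩)
    | oddDim hodd W hb ht hd hne hnd h =>
      exact Or.inr (Or.inl (⟨hodd, W, hb, ht, hd, by omega, hnd, H98.OE.eq_stab hq h5 hH hb ht h⟩))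
    | minusPlane W hd hnd hp h =>
      exact Or.inr (Or.inr (Or.inl (⟨W, hd, hnd, hp, H98.OE.eq_stab_of_lt hq h5 hH (by omega) (by omega) h⟩)))
    | plusPlane h4 W hd hnd hp h =>
      exact Or.inr (Or.inr (Or.inr (Or.inl (⟨h4, W, hd, hnd, hp, H98.OE.eq_stab_of_lt hq h5 hH (by omega) (by omega) h⟩))))
    | four W hd hnd h =>
      exact Or.inr (Or.inr (Or.inr (Or.inr (Or.inl (⟨W, hd, hnd, H98.OE.eq_stab_of_lt hq h5 hH (by omega) (by omega) h⟩)))))
    | half W hd hnd h =>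
      obtain ⟨D, hD, hle⟩ := H98.OE.half_decomp hq hiso (k := 5) (by norm_num) (by omega) (by omega) hnd h
      have heq := H98.OE.eq_decomp hq h5 hH hD (by omega) hle
      have h2 := H98.OE.odd_decomp_char ⟨2, rfl⟩ hD
      by_cases hI : Cfsg.Geo.AreIsometricFor ⇑q (D 0) (D 1)
      · have h43 : Fintype.card F % 4 = 3 := (H98.OE.mod_four h2).resolve_left fun e =>
          hminus ((H98.OE.plus_iff_mod_four hq (H98.OE.isOrth_pair hD hI) ⟨1, rfl⟩ ⟨2, rfl⟩ (m := 5)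
            (by omega) ⟨2, rfl⟩).2 e)
        exact Or.inr (Or.inr (Or.inr (Or.inr (Or.inr (Or.inr (Or.inr (Or.inr (Or.inl (⟨h43, D, H98.OE.isOrth_pair hD hI, heq⟩)))))))))
      · have h41 : Fintype.card F % 4 = 1 := (H98.OE.mod_four h2).resolve_right fun e =>
          hminus ((H98.OE.split_odd hq h2 (j := 2) hD hI).2 (by
            rw [FiniteField.isSquare_neg_one_iff, not_not]; exact e))
        exact Or.inr (Or.inr (Or.inr (Or.inr (Or.inr (Or.inr (Or.inr (Or.inr (Or.inr (Or.inl (⟨h41, D, hD, hI, heq⟩))))))))))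
    | point he v hv h =>
      exact Or.inr (Or.inr (Or.inr (Or.inr (Or.inr (Or.inl (⟨he, v, hv, H98.OE.eq_point hq h5 hH hv h⟩))))))
  cases H98.OE.irrOutcome hq hn' hH.1.le hirr with
  | decomp t k D hc hD h =>
    have hO := H98.OE.orth_of_irr hirr hiso hD h
    rcases H98.OE.decomp_ten (hc.symm.trans hn) hD.decomp.two_le with ⟨rfl, rfl⟩ | ⟨rfl, rfl⟩ | ⟨rfl, rfl⟩
    ·
      obtain ⟨h2, ⟨hp, heq⟩ | ⟨F₀, r, P, ζ, hr, hc, hζ, hR, heq⟩⟩ := H98.OE.frame_max hq h5 hH hO h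
      · have h43 : Fintype.card F % 4 = 3 := (H98.OE.mod_four h2).resolve_left fun e =>
          hminus ((H98.OE.plus_iff_mod_four hq hO ⟨5, rfl⟩ odd_one (m := 5) (by omega) ⟨2, rfl⟩).2 e)
        exact Or.inr (Or.inr (Or.inr (Or.inr (Or.inr (Or.inr (Or.inl (⟨⟨_, hp, rfl, h43⟩, D, hO, heq⟩)))))))
      · exact Or.inr (Or.inr (Or.inr (Or.inr (Or.inr (Or.inr (Or.inr (Or.inr (Or.inr (Or.inr (Or.inr (Or.inr (Or.inl (⟨F₀, r, P, ζ, hr, H98.OE.odd_of_minus hq (m := 5) (by omega) hminus hr hc hζ hR, hc, hζ, hR, heq⟩)))))))))))))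
    · have hp : ∀ i, ¬ Cfsg.Geo.IsPlusTypeOn ⇑q (D i) := fun i hp =>
        hminus ((H98.OE.decomp_odd hq hO ⟨2, rfl⟩ (j := 1) rfl i).2 hp)
      by_cases h3 : Fintype.card F = 3
      · obtain ⟨D', hD', hle⟩ := H98.OE.plane_three hq hirr hiso h3 hD hp h
        obtain ⟨h2, ⟨hp, heq⟩ | ⟨F₀, r, P, ζ, hr, hc, hζ, hR, heq⟩⟩ := H98.OE.frame_max hq h5 hH hD' hle
        · have h43 : Fintype.card F % 4 = 3 := (H98.OE.mod_four h2).resolve_left fun e =>
            hminus ((H98.OE.plus_iff_mod_four hq hD' ⟨5, rfl⟩ odd_one (m := 5) (by omega) ⟨2, rfl⟩).2 e)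
          exact Or.inr (Or.inr (Or.inr (Or.inr (Or.inr (Or.inr (Or.inl (⟨⟨_, hp, rfl, h43⟩, D', hD', heq⟩)))))))
        · exact Or.inr (Or.inr (Or.inr (Or.inr (Or.inr (Or.inr (Or.inr (Or.inr (Or.inr (Or.inr (Or.inr (Or.inr (Or.inl (⟨F₀, r, P, ζ, hr, H98.OE.odd_of_minus hq (m := 5) (by omega) hminus hr hc hζ hR, hc, hζ, hR, heq⟩)))))))))))))
      · exact Or.inr (Or.inr (Or.inr (Or.inr (Or.inr (Or.inr (Or.inr (Or.inl (⟨h3, D, hO, H98.OE.eq_decomp hq h5 hH hD (by omega) h⟩))))))))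
    · have h43 : Fintype.card F % 4 = 3 := (H98.OE.mod_four (H98.OE.odd_decomp_char ⟨2, rfl⟩ hD)).resolve_left
        fun e => hminus ((H98.OE.plus_iff_mod_four hq hO ⟨1, rfl⟩ ⟨2, rfl⟩ (m := 5) (by omega) ⟨2, rfl⟩).2 e)
      exact Or.inr (Or.inr (Or.inr (Or.inr (Or.inr (Or.inr (Or.inr (Or.inr (Or.inl (⟨h43, D, hO, H98.OE.eq_decomp hq h5 hH hD (by omega) h⟩)))))))))
  | pair k D hc hD hts h => exact (H98.OE.not_pair_minus hq hminus hc hD hts).elim
  | selfField r K hr hK hdvd hs h =>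
    obtain rfl : r = 2 := by
      rcases hr with e | e
      · exact e
      · rw [e, hn] at hdvd; norm_num at hdvd
    have h2 : (2 : F) ≠ 0 := fun h2 => by
      have := H98.OE.two_mul_dvd hq h2 hK hs
      rw [hn] at this
      norm_num at this
    exact Or.inr (Or.inr (Or.inr (Or.inr (Or.inr (Or.inr (Or.inr (Or.inr (Or.inr (Or.inr (Or.inl (⟨H51.FormAsch.odd_card_of_two h2, K, hK, hs, H98.OE.eq_field hq (by omega) hH le_rfl hK h⟩)))))))))))
  | unitField K hK ha hns hQK h =>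
    exact Or.inr (Or.inr (Or.inr (Or.inr (Or.inr (Or.inr (Or.inr (Or.inr (Or.inr (Or.inr (Or.inr (Or.inl (⟨K, hK, ha, hns, hQK, H98.OE.eq_field hq (by omega) hH le_rfl hK h⟩))))))))))))
  | plus8 h8 => omega
  | tensorAlt h12 => omega
  | tensorSym h12 => omega
  | subfield F₀ r P ζ hr hc hζ hR h =>
    exact Or.inr (Or.inr (Or.inr (Or.inr (Or.inr (Or.inr (Or.inr (Or.inr (Or.inr (Or.inr (Or.inr (Or.inr (Or.inl (⟨F₀, r, P, ζ, hr, H98.OE.odd_of_minus hq (m := 5) (by omega) hminus hr hc hζ hR, hc, hζ, hR, H98.OE.eq_subfield hq h5 hH hr hc h⟩)))))))))))))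
  | core h => exact Or.inr (Or.inr (Or.inr (Or.inr (Or.inr (Or.inr (Or.inr (Or.inr (Or.inr (Or.inr (Or.inr (Or.inr (Or.inr (h)))))))))))))

end Cfsg.Agent.S5850
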