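import Cfsg.Statements.S5858
import Cfsg.Agent.H45.SingFinal
import Cfsg.Agent.H45.NondegFinal
import Cfsg.Agent.H45.FrameFinal
import Cfsg.Agent.H38.SubOFinal
import Cfsg.Agent.H44.Basic

set_option autoImplicit false
open Cfsg

namespace Cfsg.Agent.S5858

/-- Maximal subgroups of Ω_11(q) of geometric type, q odd. -/
theorem result {F : Type*} [Field F] [Fintype F] (hodd : Odd (Fintype.card F)) :
    (∀ W : Submodule F (Unit ⊕ (Fin 5 ⊕ Fin 5) → F), W ≠ ⊥ → Cfsg.Geo.IsTotallySingularQuad (Cfsg.quadFormOdd 5 F) W → Cfsg.Geo.IsMaximalIn (Cfsg.Geo.omegaGL (Cfsg.quadFormOdd 5 F)) (Cfsg.Geo.subspaceStabilizer W ⊓ Cfsg.Geo.omegaGL (Cfsg.quadFormOdd 5 F))) ∧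
    (∀ W : Submodule F (Unit ⊕ (Fin 5 ⊕ Fin 5) → F), W ≠ ⊥ → Even (Module.finrank F W) → Cfsg.Geo.IsNondegenerateOn (QuadraticMap.polar (Cfsg.quadFormOdd 5 F)) W → ¬ (Fintype.card F = 3 ∧ Module.finrank F W = 2 ∧ Cfsg.Geo.IsPlusTypeOn (Cfsg.quadFormOdd 5 F) W) → Cfsg.Geo.IsMaximalIn (Cfsg.Geo.omegaGL (Cfsg.quadFormOdd 5 F)) (Cfsg.Geo.subspaceStabilizer W ⊓ Cfsg.Geo.omegaGL (Cfsg.quadFormOdd 5 F))) ∧
    ((Fintype.card F).Prime → ∀ D : Fin 11 → Submodule F (Unit ⊕ (Fin 5 ⊕ Fin 5) → F), Cfsg.Geo.IsOrthogonalMDecomposition (Cfsg.quadFormOdd 5 F) 1 D → Cfsg.Geo.IsMaximalIn (Cfsg.Geo.omegaGL (Cfsg.quadFormOdd 5 F)) (Cfsg.Geo.decompositionStabilizer D ⊓ Cfsg.Geo.omegaGL (Cfsg.quadFormOdd 5 F))) ∧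
    (∀ (F₀ : Subfield F) (r : ℕ) (P : Matrix.GeneralLinearGroup (Unit ⊕ (Fin 5 ⊕ Fin 5)) F), r.Prime → Fintype.card F = Nat.card F₀ ^ r → Cfsg.Geo.IsQuadFormRationalStructure (Cfsg.quadFormOdd 5 F) F₀ P → Cfsg.Geo.IsMaximalIn (Cfsg.Geo.omegaGL (Cfsg.quadFormOdd 5 F)) (Cfsg.Geo.subfieldSubgroup F₀ P ⊓ Cfsg.Geo.omegaGL (Cfsg.quadFormOdd 5 F))) := by
  have h2 : (2 : F) ≠ 0 := Ring.two_ne_zero (H44.ringChar_ne_two_of_odd_card hodd)
  have hq := H43.qOdd_nondeg (F := F) h2 5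
  have hcard : Fintype.card (Unit ⊕ (Fin 5 ⊕ Fin 5)) = 11 := rfl
  rw [← H43.coe_qOdd]
  refine ⟨fun W hW0 hW => ?_, fun W hW0 hev hW hex => ?_, fun hprime D hD => ?_,
    fun F₀ r P hr hc hP => ?_⟩
  · exact H45.singStabilizer_maximal (by omega) _ hq W hW0 hW fun U _ _ => by omega
  · have hfin := H43.finrank_orth_add hq W
    rw [Module.finrank_pi, hcard] at hfin
    obtain ⟨j, hj⟩ := hev
    have hW1 : W ≠ ⊤ := fun h => by
      rw [h, finrank_top, Module.finrank_pi, hcard] at hj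
      omega
    refine H45.subspaceStabilizer_maximal (by omega) _ hq W hW0 hW1 hW
      (fun g hg => ?_) fun hc U hU hU2 hpl => ?_
    · have h := congrArg (fun X : Submodule F _ => Module.finrank F X) hg
      simp only [LinearEquiv.finrank_map_eq] at h
      omega
    · rcases hU with rfl | rfl
      · refine hex ⟨?_, hU2, hpl⟩
        have h1 : 1 < Fintype.card F := Fintype.one_lt_card
        obtain ⟨r, hr⟩ := hodd
        omega
      · omega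
  · exact H45.Frame.frame_maximal h2 (by omega) hprime hq hD
  · have h0 : Nat.card F₀ ≠ 2 := by
      intro h
      rw [h] at hc
      have : Even (Fintype.card F) := by
        rw [hc]; exact (Nat.even_pow).mpr ⟨even_two, hr.ne_zero⟩
      exact Nat.not_even_iff_odd.mpr hodd this
    have D : H38.SubO.Dat (H43.qOdd 5 F) F₀ P :=
      ⟨hq, by omega, fun u => hP _ fun i => (u i).2⟩
    exact H38.SubO.subfield_maximal D hr (by rw [Nat.card_eq_fintype_card]; exact hc)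

end Cfsg.Agent.S5858
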