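import Cfsg.Statements.S5870
import Cfsg.Agent.H46.OrthTwelve

set_option autoImplicit false
open Cfsg

namespace Cfsg.Agent.S5870

/-- Maximal subgroups of Ω_12^+(q) of geometric type (any q). Let F be a finite field with q elements (characteristic p), Q a non-degenerate quadratic form on F^12 (non-degenerate polar form) of plus type (Witt index 6: some totally singular 6-space), and Ω = Ω_12^+(q) the commutator subgroup of the isometry group of Q, inside GL_12(F). Each of the following, intersected with Ω, is a maximal subgroup of Ω: (1) the stabiliser of any non-zero subspace on which Q vanishes identically other than those of dimension 5 (totally singular subspaces, dimensions 1, 2, 3, 4 and 6); (2) for q odd, the stabiliser of any subspace of odd dimension on which the polar form of Q is non-degenerate; (3) the stabiliser of any non-degenerate 2-space of minus type (containing no non-zero singular vector); (4) for q ≥ 4, the stabiliser of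 any non-degenerate 2-space of plus type (containing a non-zero singular vector); (5) the stabiliser of any non-degenerate 4-space (either type); (6) for q even, the stabiliser of the 1-space spanned by any non-singular vector v (Q(v) ≠ 0); (7) for q = p an odd prime, the stabiliser of any decomposition of F^12 into 12 pairwise orthogonal, pairwise Q-isometric non-degenerate 1-spaces; (8) for q ≥ 7, the stabiliser of any decomposition of F^12 into 6 pairwise orthogonal, pairwise Q-isometric non-degenerate 2-spaces of plus type; (9) for q ≠ 3, the stabiliser of any decomposition of F^12 into 6 pairwise orthogonal, pairwise Q-isometric non-degenerate 2-spaces of minus type; (10) for q odd with q ≥ 5, the stabiliser of any decomposition of F^12 into 4 pairwise orthogonal, pairwise Q-isometric non-degenerate 3-spaces; (11) for q ≥ 3, the stabiliser of any decomposition of F^12 into 3 pairwise orthogonal, pairwise Q-isometric non-degenerate 4-spaces;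 (12) the stabiliser of any decomposition of F^12 into 2 pairwise orthogonal, pairwise Q-isometric non-degenerate 6-spaces; (13) the stabiliser of any decomposition into two totally singular 6-spaces; (14) for q odd, the normaliser of any degree-2 subfield K of the matrix algebra whose elements are self-adjoint for the polar form of Q (Q is then the trace of a quadratic form over K); (15) for q odd, the normaliser of any degree-3 subfield K of the matrix algebra whose elements are self-adjoint for the polar form of Q (Q is then the trace of a quadratic form over K); (16) the normaliser of any degree-2 subfield K of the matrix algebra, closed under adjoints for the polar form but not self-adjoint, whose elements act as similarities of Q (so F^12 becomes a 6-dimensional space over K with a hermitian form, and the subgroup is of the type of the unitary group GU_6(q)); (17) for q ≥ 3, the stabiliser of any tensor decomposition F^12 = F^2 ⊗ F^6 in which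 the polar form of Q is (alternating form) ⊗ (alternating form) up to a scalar and Q vanishes on all pure tensors; (18) every subfield group for a subfield F₀ with |F| = |F₀|^r, r prime, whose F₀-structure carries a non-zero scalar multiple of Q. -/
theorem result {F : Type*} [Field F] [Fintype F] (Q : (Fin 12 → F) → F) (hQ : Cfsg.Geo.IsNondegenerateQuadraticForm Q) (hplus : Cfsg.Geo.IsPlusTypeOn Q ⊤) :
    (∀ W : Submodule F (Fin 12 → F), W ≠ ⊥ → Cfsg.Geo.IsTotallySingularQuad Q W → Module.finrank F W ≠ 5 → Cfsg.Geo.IsMaximalIn (Cfsg.Geo.omegaGL Q) (Cfsg.Geo.subspaceStabilizer W ⊓ Cfsg.Geo.omegaGL Q)) ∧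
    (Odd (Fintype.card F) → ∀ W : Submodule F (Fin 12 → F), W ≠ ⊥ → W ≠ ⊤ → Odd (Module.finrank F W) → 2 * Module.finrank F W ≠ 12 → Cfsg.Geo.IsNondegenerateOn (QuadraticMap.polar Q) W → Cfsg.Geo.IsMaximalIn (Cfsg.Geo.omegaGL Q) (Cfsg.Geo.subspaceStabilizer W ⊓ Cfsg.Geo.omegaGL Q)) ∧
    (∀ W : Submodule F (Fin 12 → F), Module.finrank F W = 2 → Cfsg.Geo.IsNondegenerateOn (QuadraticMap.polar Q) W → ¬ Cfsg.Geo.IsPlusTypeOn Q W → Cfsg.Geo.IsMaximalIn (Cfsg.Geo.omegaGL Q) (Cfsg.Geo.subspaceStabilizer W ⊓ Cfsg.Geo.omegaGL Q)) ∧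
    (4 ≤ Fintype.card F → ∀ W : Submodule F (Fin 12 → F), Module.finrank F W = 2 → Cfsg.Geo.IsNondegenerateOn (QuadraticMap.polar Q) W → Cfsg.Geo.IsPlusTypeOn Q W → Cfsg.Geo.IsMaximalIn (Cfsg.Geo.omegaGL Q) (Cfsg.Geo.subspaceStabilizer W ⊓ Cfsg.Geo.omegaGL Q)) ∧
    (∀ W : Submodule F (Fin 12 → F), Module.finrank F W = 4 → Cfsg.Geo.IsNondegenerateOn (QuadraticMap.polar Q) W → Cfsg.Geo.IsMaximalIn (Cfsg.Geo.omegaGL Q) (Cfsg.Geo.subspaceStabilizer W ⊓ Cfsg.Geo.omegaGL Q)) ∧
    (¬ Odd (Fintype.card F) → ∀ v : (Fin 12 → F), Q v ≠ 0 → Cfsg.Geo.IsMaximalIn (Cfsg.Geo.omegaGL Q) (Cfsg.Geo.subspaceStabilizer (Submodule.span F {v}) ⊓ Cfsg.Geo.omegaGL Q)) ∧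
    ((∃ p : ℕ, p.Prime ∧ Odd p ∧ Fintype.card F = p) → ∀ D : Fin 12 → Submodule F (Fin 12 → F), Cfsg.Geo.IsOrthogonalMDecomposition Q 1 D → Cfsg.Geo.IsMaximalIn (Cfsg.Geo.omegaGL Q) (Cfsg.Geo.decompositionStabilizer D ⊓ Cfsg.Geo.omegaGL Q)) ∧
    (7 ≤ Fintype.card F → ∀ D : Fin 6 → Submodule F (Fin 12 → F), Cfsg.Geo.IsOrthogonalMDecomposition Q 2 D → (∀ i, Cfsg.Geo.IsPlusTypeOn Q (D i)) → Cfsg.Geo.IsMaximalIn (Cfsg.Geo.omegaGL Q) (Cfsg.Geo.decompositionStabilizer D ⊓ Cfsg.Geo.omegaGL Q)) ∧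
    (Fintype.card F ≠ 3 → ∀ D : Fin 6 → Submodule F (Fin 12 → F), Cfsg.Geo.IsOrthogonalMDecomposition Q 2 D → (∀ i, ¬ Cfsg.Geo.IsPlusTypeOn Q (D i)) → Cfsg.Geo.IsMaximalIn (Cfsg.Geo.omegaGL Q) (Cfsg.Geo.decompositionStabilizer D ⊓ Cfsg.Geo.omegaGL Q)) ∧
    (Odd (Fintype.card F) ∧ 5 ≤ Fintype.card F → ∀ D : Fin 4 → Submodule F (Fin 12 → F), Cfsg.Geo.IsOrthogonalMDecomposition Q 3 D → Cfsg.Geo.IsMaximalIn (Cfsg.Geo.omegaGL Q) (Cfsg.Geo.decompositionStabilizer D ⊓ Cfsg.Geo.omegaGL Q)) ∧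
    (3 ≤ Fintype.card F → ∀ D : Fin 3 → Submodule F (Fin 12 → F), Cfsg.Geo.IsOrthogonalMDecomposition Q 4 D → Cfsg.Geo.IsMaximalIn (Cfsg.Geo.omegaGL Q) (Cfsg.Geo.decompositionStabilizer D ⊓ Cfsg.Geo.omegaGL Q)) ∧
    (∀ D : Fin 2 → Submodule F (Fin 12 → F), Cfsg.Geo.IsOrthogonalMDecomposition Q 6 D → Cfsg.Geo.IsMaximalIn (Cfsg.Geo.omegaGL Q) (Cfsg.Geo.decompositionStabilizer D ⊓ Cfsg.Geo.omegaGL Q)) ∧
    (∀ D : Fin 2 → Submodule F (Fin 12 → F), Cfsg.Geo.IsMDecomposition 6 D → (∀ i, Cfsg.Geo.IsTotallySingularQuad Q (D i)) → Cfsg.Geo.IsMaximalIn (Cfsg.Geo.omegaGL Q) (Cfsg.Geo.decompositionStabilizer D ⊓ Cfsg.Geo.omegaGL Q)) ∧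
    (Odd (Fintype.card F) → ∀ K : Subalgebra F (Matrix (Fin 12) (Fin 12) F), Cfsg.Geo.IsFieldSubalgebra 2 K → Cfsg.Geo.IsSelfAdjointFor (QuadraticMap.polar Q) K → Cfsg.Geo.IsMaximalIn (Cfsg.Geo.omegaGL Q) (Cfsg.Geo.subalgebraNormalizer K ⊓ Cfsg.Geo.omegaGL Q)) ∧
    (Odd (Fintype.card F) → ∀ K : Subalgebra F (Matrix (Fin 12) (Fin 12) F), Cfsg.Geo.IsFieldSubalgebra 3 K → Cfsg.Geo.IsSelfAdjointFor (QuadraticMap.polar Q) K → Cfsg.Geo.IsMaximalIn (Cfsg.Geo.omegaGL Q) (Cfsg.Geo.subalgebraNormalizer K ⊓ Cfsg.Geo.omegaGL Q)) ∧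
    (∀ K : Subalgebra F (Matrix (Fin 12) (Fin 12) F), Cfsg.Geo.IsFieldSubalgebra 2 K → Cfsg.Geo.IsAdjointClosedFor (QuadraticMap.polar Q) K → ¬ Cfsg.Geo.IsSelfAdjointFor (QuadraticMap.polar Q) K → (∀ k ∈ K, ∃ c : F, ∀ v : (Fin 12 → F), Q (Matrix.mulVec k v) = c * Q v) → Cfsg.Geo.IsMaximalIn (Cfsg.Geo.omegaGL Q) (Cfsg.Geo.subalgebraNormalizer K ⊓ Cfsg.Geo.omegaGL Q)) ∧
    (3 ≤ Fintype.card F → ∀ (e : Fin 12 ≃ Fin 2 × Fin 6) (P : Matrix.GeneralLinearGroup (Fin 12) F) (f₁ : (Fin 2 → F) → (Fin 2 → F) → F) (f₂ : (Fin 6 → F) → (Fin 6 → F) → F), Cfsg.Geo.IsSymplecticForm f₁ → Cfsg.Geo.IsSymplecticForm f₂ → Cfsg.Geo.IsTensorFormStructure id (QuadraticMap.polar Q) f₁ f₂ e P → (∀ (x₁ : Fin 2 → F) (x₂ : Fin 6 → F), Q (Matrix.mulVec (P : Matrix (Fin 12) (Fin 12) F) ((fun a : Fin 2 × Fin 6 => x₁ a.1 * x₂ a.2) ∘ e)) = 0) → Cfsg.Geo.IsMaximalIn (Cfsg.Geo.omegaGL Q) (Cfsg.Geo.tensorProductSubgroup 2 6 e P ⊓ Cfsg.Geo.omegaGL Q)) ∧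
    (∀ (F₀ : Subfield F) (r : ℕ) (P : Matrix.GeneralLinearGroup (Fin 12) F) (ζ : F), r.Prime → Fintype.card F = Nat.card F₀ ^ r → ζ ≠ 0 → Cfsg.Geo.IsQuadFormRationalStructure (fun v : Fin 12 → F => ζ * Q v) F₀ P → Cfsg.Geo.IsMaximalIn (Cfsg.Geo.omegaGL Q) (Cfsg.Geo.subfieldSubgroup F₀ P ⊓ Cfsg.Geo.omegaGL Q)) := by
  haveI : NeZero (12 : ℕ) := ⟨by norm_num⟩
  have h1F : 1 < Fintype.card F := Fintype.one_lt_card
  refine ⟨fun W hW0 hW h5 => H46.OrthTwelve.sing_clause hQ W hW0 hW (Or.inl h5),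
    fun hodd W hW0 hW1 ho hhalf hW => ?_, fun W hd hW hmin => ?_, fun h4 W hd hW hpl => ?_,
    fun W hd hW => ?_, H46.OrthTwelve.point_clause hQ, fun hp D hD => ?_, fun h7 D hD _ => ?_,
    fun h3 D hD hall => ?_, fun h D hD => ?_, fun h3 D hD => ?_, fun D hD => ?_,
    fun D hD hts => ?_, fun hodd K hK hsa => ?_, fun hodd K hK hsa => ?_,
    fun K hK hac hnsa hsc => ?_, fun h3 e P f₁ f₂ hf₁ hf₂ hT hpure => ?_,
    fun F₀ r P ζ hr hc hζ hP => H46.OrthTwelve.subfield_clause hQ F₀ r hr hc P ζ hζ hP⟩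
  · obtain ⟨j, hj⟩ := ho
    exact H46.OrthTwelve.nondeg_clause hQ W hW0 hW1 hW (fun h => absurd h hhalf)
      ⟨by omega, fun h => by omega⟩
  · refine H46.OrthTwelve.nondeg_clause hQ W (fun h => by rw [h, finrank_bot] at hd; omega)
      (fun h => by rw [h, finrank_top, Module.finrank_fin_fun] at hd; omega) hW (fun h => by omega) ⟨by omega, fun _ _ => hmin⟩
  · refine H46.OrthTwelve.nondeg_clause hQ W (fun h => by rw [h, finrank_bot] at hd; omega)
      (fun h => by rw [h, finrank_top, Module.finrank_fin_fun] at hd; omega) hW (fun h => by omega) ⟨by omega, fun _ h => by omega⟩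
  · refine H46.OrthTwelve.nondeg_clause hQ W (fun h => by rw [h, finrank_bot] at hd; omega)
      (fun h => by rw [h, finrank_top, Module.finrank_fin_fun] at hd; omega) hW (fun h => by omega) ⟨by omega, fun h => by omega⟩
  · obtain ⟨p, hp, hpo, hpc⟩ := hp
    obtain ⟨q, rfl, hq⟩ := H45.exists_quadForm hQ
    exact H45.Frame.frame_maximal
      (Ring.two_ne_zero (H44.ringChar_ne_two_of_odd_card (hpc ▸ hpo))) (by simp) (hpc ▸ hp) hq hD
  · exact H46.OrthTwelve.plane_clause hQ (by omega) D hD (Or.inl h7)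
  · exact H46.OrthTwelve.plane_clause hQ h3 D hD (Or.inr fun h => hall 0 (h 0))
  · exact H46.OrthTwelve.wreath_clause hQ 3 le_rfl D hD (fun h' => by omega) (fun h' => by omega)
  · exact H46.OrthTwelve.wreath_clause hQ 4 (by omega) D hD (fun h' => by omega) (fun _ h' => by omega)
  · exact H46.OrthTwelve.wreath_clause hQ 6 (by omega) D hD (fun h' => by omega) (fun h' => by omega)
  · obtain ⟨q, rfl, hq⟩ := H45.exists_quadForm hQ
    exact H45.pair_maximal (by simp) q hq 6 (by simp) (by decide) D hD hts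
  · exact H46.OrthTwelve.ext_clause hQ hodd 2 Nat.prime_two (by norm_num) K hK hsa
  · exact H46.OrthTwelve.ext_clause hQ hodd 3 Nat.prime_three (by norm_num) K hK hsa
  · exact H46.OrthTwelve.unitaryOver_maximal (by norm_num) (by decide) Q hQ K hK hac hnsa hsc
  · exact H49.pairOmegaMax le_rfl Q hQ 2 6 (by norm_num) (fun h => by omega) e P f₁ f₂ hf₁ hf₂ hT
      hpure

end Cfsg.Agent.S5870
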