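import Cfsg.Statements.S5871
import Cfsg.Agent.H98.OrthEven.Final

set_option autoImplicit false
open Cfsg

namespace Cfsg.Agent.S5871

/-- Every maximal subgroup of Ω_12^+(q) is of one of the listed geometric types or lies in the residual class. Let F be a finite field with q elements (characteristic p), Q a non-degenerate quadratic form on F^12 of plus type (Witt index 6: some totally singular 6-space), Ω the commutator subgroup of its isometry group, and H a maximal subgroup of Ω (inside GL_12(F)). Then H is the intersection with Ω of one of: the stabiliser of a non-zero totally singular subspace of dimension ≠ 5; for q odd, the stabiliser of a non-degenerate subspace of odd dimension; the stabiliser of a non-degenerate 2-space of minus type; for q ≥ 4, the stabiliser of a non-degenerate 2-space of plus type; the stabiliser of a non-degenerate 4-space; for q even, the stabiliser of the span of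 a non-singular vector; for q = p an odd prime, the stabiliser of a decomposition into 12 pairwise orthogonal, pairwise isometric non-degenerate 1-spaces; for q ≥ 7, the stabiliser of a decomposition into 6 pairwise orthogonal, pairwise isometric non-degenerate 2-spaces of plus type; for q ≠ 3, the stabiliser of a decomposition into 6 pairwise orthogonal, pairwise isometric non-degenerate 2-spaces of minus type; for q odd with q ≥ 5, the stabiliser of a decomposition into 4 pairwise orthogonal, pairwise isometric non-degenerate 3-spaces; for q ≥ 3, the stabiliser of a decomposition into 3 pairwise orthogonal, pairwise isometric non-degenerate 4-spaces; the stabiliser of a decomposition into 2 pairwise orthogonal, pairwise isometric non-degenerate 6-spaces; of a decomposition into two totally singular 6-spaces; the normaliser of a degree-2 subfield of the matrix algebra; the normaliser of a degree-3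 subfield of the matrix algebra; the normaliser of a degree-2 subfield K, adjoint-closed but not self-adjoint, acting by similarities of Q; for q ≥ 3, the stabiliser of a tensor decomposition of Q into alternating forms on F^2 and F^6 (Q vanishing on pure tensors); a subfield group (|F| = |F₀|^r, r prime) whose F₀-structure carries a non-zero multiple of Q — or else H lies in the residual class of the orthogonal case (modulo scalars H is almost simple, with absolutely irreducible perfect socle preimage realisable over no proper subfield and fixing no non-degenerate unitary form). -/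
theorem result {F : Type*} [Field F] [Fintype F] (Q : (Fin 12 → F) → F) (hQ : Cfsg.Geo.IsNondegenerateQuadraticForm Q) (hplus : Cfsg.Geo.IsPlusTypeOn Q ⊤) (H : Subgroup (Matrix.GeneralLinearGroup (Fin 12) F)) (hH : Cfsg.Geo.IsMaximalIn (Cfsg.Geo.omegaGL Q) H) :
    (∃ W : Submodule F (Fin 12 → F), W ≠ ⊥ ∧ Cfsg.Geo.IsTotallySingularQuad Q W ∧ Module.finrank F W ≠ 5 ∧ H = Cfsg.Geo.subspaceStabilizer W ⊓ Cfsg.Geo.omegaGL Q) ∨
    (Odd (Fintype.card F) ∧ ∃ W : Submodule F (Fin 12 → F), W ≠ ⊥ ∧ W ≠ ⊤ ∧ Odd (Module.finrank F W) ∧ 2 * Module.finrank F W ≠ 12 ∧ Cfsg.Geo.IsNondegenerateOn (QuadraticMap.polar Q) W ∧ H = Cfsg.Geo.subspaceStabilizer W ⊓ Cfsg.Geo.omegaGL Q) ∨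
    (∃ W : Submodule F (Fin 12 → F), Module.finrank F W = 2 ∧ Cfsg.Geo.IsNondegenerateOn (QuadraticMap.polar Q) W ∧ ¬ Cfsg.Geo.IsPlusTypeOn Q W ∧ H = Cfsg.Geo.subspaceStabilizer W ⊓ Cfsg.Geo.omegaGL Q) ∨
    (4 ≤ Fintype.card F ∧ ∃ W : Submodule F (Fin 12 → F), Module.finrank F W = 2 ∧ Cfsg.Geo.IsNondegenerateOn (QuadraticMap.polar Q) W ∧ Cfsg.Geo.IsPlusTypeOn Q W ∧ H = Cfsg.Geo.subspaceStabilizer W ⊓ Cfsg.Geo.omegaGL Q) ∨
    (∃ W : Submodule F (Fin 12 → F), Module.finrank F W = 4 ∧ Cfsg.Geo.IsNondegenerateOn (QuadraticMap.polar Q) W ∧ H = Cfsg.Geo.subspaceStabilizer W ⊓ Cfsg.Geo.omegaGL Q) ∨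
    (¬ Odd (Fintype.card F) ∧ ∃ v : (Fin 12 → F), Q v ≠ 0 ∧ H = Cfsg.Geo.subspaceStabilizer (Submodule.span F {v}) ⊓ Cfsg.Geo.omegaGL Q) ∨
    ((∃ p : ℕ, p.Prime ∧ Odd p ∧ Fintype.card F = p) ∧ ∃ D : Fin 12 → Submodule F (Fin 12 → F), Cfsg.Geo.IsOrthogonalMDecomposition Q 1 D ∧ H = Cfsg.Geo.decompositionStabilizer D ⊓ Cfsg.Geo.omegaGL Q) ∨
    (7 ≤ Fintype.card F ∧ ∃ D : Fin 6 → Submodule F (Fin 12 → F), Cfsg.Geo.IsOrthogonalMDecomposition Q 2 D ∧ (∀ i, Cfsg.Geo.IsPlusTypeOn Q (D i)) ∧ H = Cfsg.Geo.decompositionStabilizer D ⊓ Cfsg.Geo.omegaGL Q) ∨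
    (Fintype.card F ≠ 3 ∧ ∃ D : Fin 6 → Submodule F (Fin 12 → F), Cfsg.Geo.IsOrthogonalMDecomposition Q 2 D ∧ (∀ i, ¬ Cfsg.Geo.IsPlusTypeOn Q (D i)) ∧ H = Cfsg.Geo.decompositionStabilizer D ⊓ Cfsg.Geo.omegaGL Q) ∨
    (Odd (Fintype.card F) ∧ 5 ≤ Fintype.card F ∧ ∃ D : Fin 4 → Submodule F (Fin 12 → F), Cfsg.Geo.IsOrthogonalMDecomposition Q 3 D ∧ H = Cfsg.Geo.decompositionStabilizer D ⊓ Cfsg.Geo.omegaGL Q) ∨
    (3 ≤ Fintype.card F ∧ ∃ D : Fin 3 → Submodule F (Fin 12 → F), Cfsg.Geo.IsOrthogonalMDecomposition Q 4 D ∧ H = Cfsg.Geo.decompositionStabilizer D ⊓ Cfsg.Geo.omegaGL Q) ∨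
    (∃ D : Fin 2 → Submodule F (Fin 12 → F), Cfsg.Geo.IsOrthogonalMDecomposition Q 6 D ∧ H = Cfsg.Geo.decompositionStabilizer D ⊓ Cfsg.Geo.omegaGL Q) ∨
    (∃ D : Fin 2 → Submodule F (Fin 12 → F), Cfsg.Geo.IsMDecomposition 6 D ∧ (∀ i, Cfsg.Geo.IsTotallySingularQuad Q (D i)) ∧ H = Cfsg.Geo.decompositionStabilizer D ⊓ Cfsg.Geo.omegaGL Q) ∨
    (∃ K : Subalgebra F (Matrix (Fin 12) (Fin 12) F), Cfsg.Geo.IsFieldSubalgebra 2 K ∧ H = Cfsg.Geo.subalgebraNormalizer K ⊓ Cfsg.Geo.omegaGL Q) ∨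
    (∃ K : Subalgebra F (Matrix (Fin 12) (Fin 12) F), Cfsg.Geo.IsFieldSubalgebra 3 K ∧ H = Cfsg.Geo.subalgebraNormalizer K ⊓ Cfsg.Geo.omegaGL Q) ∨
    (∃ K : Subalgebra F (Matrix (Fin 12) (Fin 12) F), Cfsg.Geo.IsFieldSubalgebra 2 K ∧ Cfsg.Geo.IsAdjointClosedFor (QuadraticMap.polar Q) K ∧ ¬ Cfsg.Geo.IsSelfAdjointFor (QuadraticMap.polar Q) K ∧ (∀ k ∈ K, ∃ c : F, ∀ v : (Fin 12 → F), Q (Matrix.mulVec k v) = c * Q v) ∧ H = Cfsg.Geo.subalgebraNormalizer K ⊓ Cfsg.Geo.omegaGL Q) ∨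
    (3 ≤ Fintype.card F ∧ ∃ (e : Fin 12 ≃ Fin 2 × Fin 6) (P : Matrix.GeneralLinearGroup (Fin 12) F) (f₁ : (Fin 2 → F) → (Fin 2 → F) → F) (f₂ : (Fin 6 → F) → (Fin 6 → F) → F), Cfsg.Geo.IsSymplecticForm f₁ ∧ Cfsg.Geo.IsSymplecticForm f₂ ∧ Cfsg.Geo.IsTensorFormStructure id (QuadraticMap.polar Q) f₁ f₂ e P ∧ (∀ (x₁ : Fin 2 → F) (x₂ : Fin 6 → F), Q (Matrix.mulVec (P : Matrix (Fin 12) (Fin 12) F) ((fun a : Fin 2 × Fin 6 => x₁ a.1 * x₂ a.2) ∘ e)) = 0) ∧ H = Cfsg.Geo.tensorProductSubgroup 2 6 e P ⊓ Cfsg.Geo.omegaGL Q) ∨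
    (∃ (F₀ : Subfield F) (r : ℕ) (P : Matrix.GeneralLinearGroup (Fin 12) F) (ζ : F), r.Prime ∧ Fintype.card F = Nat.card F₀ ^ r ∧ ζ ≠ 0 ∧ Cfsg.Geo.IsQuadFormRationalStructure (fun v : Fin 12 → F => ζ * Q v) F₀ P ∧ H = Cfsg.Geo.subfieldSubgroup F₀ P ⊓ Cfsg.Geo.omegaGL Q) ∨
    Cfsg.Geo.InOrthogonalResidualClass H := by
  obtain ⟨q, rfl, hq⟩ := H45.exists_quadForm hQ
  classical
  have hn : Fintype.card (Fin 12) = 12 := Fintype.card_fin 12
  have hn' : Fintype.card (Fin 12) = 8 ∨ Fintype.card (Fin 12) = 10 ∨ Fintype.card (Fin 12) = 12 :=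
    Or.inr (Or.inr hn)
  have h5 : 5 ≤ Fintype.card (Fin 12) := by omega
  have hiso := H98.OE.max_isometry hH
  by_cases hirr : H98.OE.Irr H
  swap
  · cases H98.OE.redOutcome hq hn' hH.1.le hirr with
    | singular W hb hs hd h =>
      exact Or.inl (⟨W, hb, hs, fun e => hd hplus (by omega), H98.OE.eq_stab hq h5 hH hb (H98.OE.singular_ne_top hq (by omega) hs) h⟩)
    | oddDim hodd W hb ht hd hne hnd h =>
      exact Or.inr (Or.inl (⟨hodd, W, hb, ht, hd, by omega, hnd, H98.OE.eq_stab hq h5 hH hb ht h⟩))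
    | minusPlane W hd hnd hp h =>
      exact Or.inr (Or.inr (Or.inl (⟨W, hd, hnd, hp, H98.OE.eq_stab_of_lt hq h5 hH (by omega) (by omega) h⟩)))
    | plusPlane h4 W hd hnd hp h =>
      exact Or.inr (Or.inr (Or.inr (Or.inl (⟨h4, W, hd, hnd, hp, H98.OE.eq_stab_of_lt hq h5 hH (by omega) (by omega) h⟩))))
    | four W hd hnd h =>
      exact Or.inr (Or.inr (Or.inr (Or.inr (Or.inl (⟨W, hd, hnd, H98.OE.eq_stab_of_lt hq h5 hH (by omega) (by omega) h⟩)))))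
    | half W hd hnd h =>
      obtain ⟨D, hD, hle⟩ := H98.OE.half_decomp hq hiso (k := 6) (by norm_num) (by omega) (by omega) hnd h
      exact Or.inr (Or.inr (Or.inr (Or.inr (Or.inr (Or.inr (Or.inr (Or.inr (Or.inr (Or.inr (Or.inr (Or.inl (⟨D, H98.OE.isOrth_pair hD (H98.OE.halves_isometric hq hplus (k := 6) hD ⟨3, rfl⟩), H98.OE.eq_decomp hq h5 hH hD (by omega) hle⟩))))))))))))
    | point he v hv h =>
      exact Or.inr (Or.inr (Or.inr (Or.inr (Or.inr (Or.inl (⟨he, v, hv, H98.OE.eq_point hq h5 hH hv h⟩))))))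
  cases H98.OE.irrOutcome hq hn' hH.1.le hirr with
  | decomp t k D hc hD h =>
    have hO := H98.OE.orth_of_irr hirr hiso hD h
    rcases H98.OE.decomp_twelve (hc.symm.trans hn) hD.decomp.two_le with
      ⟨rfl, rfl⟩ | ⟨rfl, rfl⟩ | ⟨rfl, rfl⟩ | ⟨rfl, rfl⟩ | ⟨rfl, rfl⟩
    ·
      obtain ⟨h2, ⟨hp, heq⟩ | ⟨F₀, r, P, ζ, hr, hc, hζ, hR, heq⟩⟩ := H98.OE.frame_max hq h5 hH hO h
      · exact Or.inr (Or.inr (Or.inr (Or.inr (Or.inr (Or.inr (Or.inl (⟨⟨_, hp, H51.FormAsch.odd_card_of_two h2, rfl⟩, D, hO, heq⟩)))))))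
      · exact Or.inr (Or.inr (Or.inr (Or.inr (Or.inr (Or.inr (Or.inr (Or.inr (Or.inr (Or.inr (Or.inr (Or.inr (Or.inr (Or.inr (Or.inr (Or.inr (Or.inr (Or.inl (⟨F₀, r, P, ζ, hr, hc, hζ, hR, heq⟩))))))))))))))))))
    · by_cases hp0 : Cfsg.Geo.IsPlusTypeOn ⇑q (D 0)
      · have hp : ∀ i, Cfsg.Geo.IsPlusTypeOn ⇑q (D i) := fun i =>
          H98.OE.plus_of_isometric (hO.isometric 0 i) hp0
        rcases Nat.lt_or_ge (Fintype.card F) 7 with hlt | hge
        swap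
        · exact Or.inr (Or.inr (Or.inr (Or.inr (Or.inr (Or.inr (Or.inr (Or.inl (⟨hge, D, hO, hp, H98.OE.eq_decomp hq h5 hH hD (by omega) h⟩))))))))
        have h6 := H98.OE.card_ne_six (F := F)
        rcases Nat.lt_or_ge (Fintype.card F) 4 with h3 | h4
        · exact (H98.OE.plane_small hq hirr hiso (by omega) hD hp h).elim
        by_cases hq4 : Fintype.card F = 4
        · obtain ⟨F₀, P, hc', hR, hle⟩ := H98.OE.plane_four hq hiso hq4 hD hp h
          exact Or.inr (Or.inr (Or.inr (Or.inr (Or.inr (Or.inr (Or.inr (Or.inr (Or.inr (Or.inr (Or.inr (Or.inr (Or.inr (Or.inr (Or.inr (Or.inr (Or.inr (Or.inl (⟨F₀, 2, P, 1, Nat.prime_two, hc', one_ne_zero, hR, H98.OE.eq_subfield hq h5 hH Nat.prime_two hc' hle⟩))))))))))))))))))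
        · obtain ⟨D', hD', hle⟩ := H98.OE.plane_five hq hirr hiso (by omega) hD hp h
          obtain ⟨h2, ⟨hp, heq⟩ | ⟨F₀, r, P, ζ, hr, hc, hζ, hR, heq⟩⟩ := H98.OE.frame_max hq h5 hH hD' hle
          · exact Or.inr (Or.inr (Or.inr (Or.inr (Or.inr (Or.inr (Or.inl (⟨⟨_, hp, H51.FormAsch.odd_card_of_two h2, rfl⟩, D', hD', heq⟩)))))))
          · exact Or.inr (Or.inr (Or.inr (Or.inr (Or.inr (Or.inr (Or.inr (Or.inr (Or.inr (Or.inr (Or.inr (Or.inr (Or.inr (Or.inr (Or.inr (Or.inr (Or.inr (Or.inl (⟨F₀, r, P, ζ, hr, hc, hζ, hR, heq⟩))))))))))))))))))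
      · have hp : ∀ i, ¬ Cfsg.Geo.IsPlusTypeOn ⇑q (D i) := fun i hp =>
          hp0 (H98.OE.plus_of_isometric (hO.isometric i 0) hp)
        by_cases h3 : Fintype.card F = 3
        · obtain ⟨D', hD', hle⟩ := H98.OE.plane_three hq hirr hiso h3 hD hp h
          obtain ⟨h2, ⟨hp, heq⟩ | ⟨F₀, r, P, ζ, hr, hc, hζ, hR, heq⟩⟩ := H98.OE.frame_max hq h5 hH hD' hle
          · exact Or.inr (Or.inr (Or.inr (Or.inr (Or.inr (Or.inr (Or.inl (⟨⟨_, hp, H51.FormAsch.odd_card_of_two h2, rfl⟩, D', hD', heq⟩)))))))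
          · exact Or.inr (Or.inr (Or.inr (Or.inr (Or.inr (Or.inr (Or.inr (Or.inr (Or.inr (Or.inr (Or.inr (Or.inr (Or.inr (Or.inr (Or.inr (Or.inr (Or.inr (Or.inl (⟨F₀, r, P, ζ, hr, hc, hζ, hR, heq⟩))))))))))))))))))
        · exact Or.inr (Or.inr (Or.inr (Or.inr (Or.inr (Or.inr (Or.inr (Or.inr (Or.inl (⟨h3, D, hO, hp, H98.OE.eq_decomp hq h5 hH hD (by omega) h⟩)))))))))
    · have hodd := H51.FormAsch.odd_card_of_two (H98.OE.odd_decomp_char ⟨1, rfl⟩ hD)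
      by_cases h3 : Fintype.card F = 3
      · obtain ⟨D', hD', hle⟩ := H98.OE.block_three hq hirr hiso h3 hO h
        obtain ⟨h2, ⟨hp, heq⟩ | ⟨F₀, r, P, ζ, hr, hc, hζ, hR, heq⟩⟩ := H98.OE.frame_max hq h5 hH hD' hle
        · exact Or.inr (Or.inr (Or.inr (Or.inr (Or.inr (Or.inr (Or.inl (⟨⟨_, hp, H51.FormAsch.odd_card_of_two h2, rfl⟩, D', hD', heq⟩)))))))
        · exact Or.inr (Or.inr (Or.inr (Or.inr (Or.inr (Or.inr (Or.inr (Or.inr (Or.inr (Or.inr (Or.inr (Or.inr (Or.inr (Or.inr (Or.inr (Or.inr (Or.inr (Or.inl (⟨F₀, r, P, ζ, hr, hc, hζ, hR, heq⟩))))))))))))))))))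
      · have hge : 5 ≤ Fintype.card F := by
          obtain ⟨j, hj⟩ := hodd
          have := Fintype.one_lt_card (α := F)
          omega
        exact Or.inr (Or.inr (Or.inr (Or.inr (Or.inr (Or.inr (Or.inr (Or.inr (Or.inr (Or.inl (⟨hodd, hge, D, hO, H98.OE.eq_decomp hq h5 hH hD (by omega) h⟩))))))))))
    · by_cases h3 : 3 ≤ Fintype.card F
      · exact Or.inr (Or.inr (Or.inr (Or.inr (Or.inr (Or.inr (Or.inr (Or.inr (Or.inr (Or.inr (Or.inl (⟨h3, D, hO, H98.OE.eq_decomp hq h5 hH hD (by omega) h⟩)))))))))))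
      · have h2 : Fintype.card F = 2 := by have := Fintype.one_lt_card (α := F); omega
        obtain ⟨D', hD', hle, hp⟩ := H98.OE.block_four hq hirr hiso h2 hD
          (fun i => (H98.OE.decomp_odd hq hO ⟨1, rfl⟩ (j := 2) rfl i).1 hplus) h
        exact Or.inr (Or.inr (Or.inr (Or.inr (Or.inr (Or.inr (Or.inr (Or.inr (Or.inl (⟨by omega, D', hD', hp, H98.OE.eq_decomp hq h5 hH hD'.decomp (by omega) hle⟩)))))))))
    · exact Or.inr (Or.inr (Or.inr (Or.inr (Or.inr (Or.inr (Or.inr (Or.inr (Or.inr (Or.inr (Or.inr (Or.inl (⟨D, hO, H98.OE.eq_decomp hq h5 hH hD (by omega) h⟩))))))))))))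
  | pair k D hc hD hts h =>
    obtain rfl : k = 6 := by omega
    exact Or.inr (Or.inr (Or.inr (Or.inr (Or.inr (Or.inr (Or.inr (Or.inr (Or.inr (Or.inr (Or.inr (Or.inr (Or.inl (⟨D, hD, hts, H46.eq_inf_of_maximal hH h (H98.OE.omega_not_big_decomp hq h5 hD (by norm_num))⟩)))))))))))))
  | selfField r K hr hK hdvd hs h =>
    rcases hr with rfl | rfl
    · exact Or.inr (Or.inr (Or.inr (Or.inr (Or.inr (Or.inr (Or.inr (Or.inr (Or.inr (Or.inr (Or.inr (Or.inr (Or.inr (Or.inl (⟨K, hK, H98.OE.eq_field hq (by omega) hH le_rfl hK h⟩))))))))))))))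
    · exact Or.inr (Or.inr (Or.inr (Or.inr (Or.inr (Or.inr (Or.inr (Or.inr (Or.inr (Or.inr (Or.inr (Or.inr (Or.inr (Or.inr (Or.inl (⟨K, hK, H98.OE.eq_field hq (by omega) hH (by omega) hK h⟩)))))))))))))))
  | unitField K hK ha hns hQK h =>
    exact Or.inr (Or.inr (Or.inr (Or.inr (Or.inr (Or.inr (Or.inr (Or.inr (Or.inr (Or.inr (Or.inr (Or.inr (Or.inr (Or.inr (Or.inr (Or.inl (⟨K, hK, ha, hns, hQK, H98.OE.eq_field hq (by omega) hH le_rfl hK h⟩))))))))))))))))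
  | plus8 h8 => omega
  | tensorAlt _ h3 _ e P f₁ f₂ h1 h2 ht hpure h =>
    exact Or.inr (Or.inr (Or.inr (Or.inr (Or.inr (Or.inr (Or.inr (Or.inr (Or.inr (Or.inr (Or.inr (Or.inr (Or.inr (Or.inr (Or.inr (Or.inr (Or.inl (⟨h3, e, P, f₁, f₂, h1, h2, ht, hpure, H46.eq_inf_of_maximal hH h (H98.OE.omega_not_tensor hq h5 le_rfl (by omega) e P)⟩)))))))))))))))))
  | tensorSym _ _ _ hp => exact absurd hplus hp
  | subfield F₀ r P ζ hr hc hζ hR h =>
    exact Or.inr (Or.inr (Or.inr (Or.inr (Or.inr (Or.inr (Or.inr (Or.inr (Or.inr (Or.inr (Or.inr (Or.inr (Or.inr (Or.inr (Or.inr (Or.inr (Or.inr (Or.inl (⟨F₀, r, P, ζ, hr, hc, hζ, hR, H98.OE.eq_subfield hq h5 hH hr hc h⟩))))))))))))))))))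
  | core h => exact Or.inr (Or.inr (Or.inr (Or.inr (Or.inr (Or.inr (Or.inr (Or.inr (Or.inr (Or.inr (Or.inr (Or.inr (Or.inr (Or.inr (Or.inr (Or.inr (Or.inr (Or.inr (h))))))))))))))))))

end Cfsg.Agent.S5871
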