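import Cfsg.Statements.S5874
import Cfsg.Agent.H98.OrthEven.Final

set_option autoImplicit false
open Cfsg

namespace Cfsg.Agent.S5874

/-- Every maximal subgroup of Ω_12^-(q) is of one of the listed geometric types or lies in the residual class. Let F be a finite field with q elements (characteristic p), Q a non-degenerate quadratic form on F^12 of minus type (Witt index 5: no totally singular 6-space), Ω the commutator subgroup of its isometry group, and H a maximal subgroup of Ω (inside GL_12(F)). Then H is the intersection with Ω of one of: the stabiliser of a non-zero totally singular subspace; for q odd, the stabiliser of a non-degenerate subspace of odd dimension; the stabiliser of a non-degenerate 2-space of minus type; for q ≥ 4, the stabiliser of a non-degenerate 2-space of plus type; the stabiliser of a non-degenerate 4-space; the stabiliser of a non-degenerate 6-space; for q even, the stabiliser of the span of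 a non-singular vector; the stabiliser of a decomposition into 3 pairwise orthogonal, pairwise isometric non-degenerate 4-spaces of minus type; the normaliser of a degree-2 subfield of the matrix algebra; the normaliser of a degree-3 subfield of the matrix algebra; for q odd with q ≥ 5, the stabiliser of a tensor decomposition of the polar form into symmetric forms on F^3 and F^4 (minus type); a subfield group (|F| = |F₀|^r, r odd prime) whose F₀-structure carries a non-zero multiple of Q — or else H lies in the residual class of the orthogonal case (modulo scalars H is almost simple, with absolutely irreducible perfect socle preimage realisable over no proper subfield and fixing no non-degenerate unitary form). -/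
theorem result {F : Type*} [Field F] [Fintype F] (Q : (Fin 12 → F) → F) (hQ : Cfsg.Geo.IsNondegenerateQuadraticForm Q) (hminus : ¬ Cfsg.Geo.IsPlusTypeOn Q ⊤) (H : Subgroup (Matrix.GeneralLinearGroup (Fin 12) F)) (hH : Cfsg.Geo.IsMaximalIn (Cfsg.Geo.omegaGL Q) H) :
    (∃ W : Submodule F (Fin 12 → F), W ≠ ⊥ ∧ Cfsg.Geo.IsTotallySingularQuad Q W ∧ H = Cfsg.Geo.subspaceStabilizer W ⊓ Cfsg.Geo.omegaGL Q) ∨
    (Odd (Fintype.card F) ∧ ∃ W : Submodule F (Fin 12 → F), W ≠ ⊥ ∧ W ≠ ⊤ ∧ Odd (Module.finrank F W) ∧ 2 * Module.finrank F W ≠ 12 ∧ Cfsg.Geo.IsNondegenerateOn (QuadraticMap.polar Q) W ∧ H = Cfsg.Geo.subspaceStabilizer W ⊓ Cfsg.Geo.omegaGL Q) ∨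
    (∃ W : Submodule F (Fin 12 → F), Module.finrank F W = 2 ∧ Cfsg.Geo.IsNondegenerateOn (QuadraticMap.polar Q) W ∧ ¬ Cfsg.Geo.IsPlusTypeOn Q W ∧ H = Cfsg.Geo.subspaceStabilizer W ⊓ Cfsg.Geo.omegaGL Q) ∨
    (4 ≤ Fintype.card F ∧ ∃ W : Submodule F (Fin 12 → F), Module.finrank F W = 2 ∧ Cfsg.Geo.IsNondegenerateOn (QuadraticMap.polar Q) W ∧ Cfsg.Geo.IsPlusTypeOn Q W ∧ H = Cfsg.Geo.subspaceStabilizer W ⊓ Cfsg.Geo.omegaGL Q) ∨
    (∃ W : Submodule F (Fin 12 → F), Module.finrank F W = 4 ∧ Cfsg.Geo.IsNondegenerateOn (QuadraticMap.polar Q) W ∧ H = Cfsg.Geo.subspaceStabilizer W ⊓ Cfsg.Geo.omegaGL Q) ∨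
    (∃ W : Submodule F (Fin 12 → F), Module.finrank F W = 6 ∧ Cfsg.Geo.IsNondegenerateOn (QuadraticMap.polar Q) W ∧ H = Cfsg.Geo.subspaceStabilizer W ⊓ Cfsg.Geo.omegaGL Q) ∨
    (¬ Odd (Fintype.card F) ∧ ∃ v : (Fin 12 → F), Q v ≠ 0 ∧ H = Cfsg.Geo.subspaceStabilizer (Submodule.span F {v}) ⊓ Cfsg.Geo.omegaGL Q) ∨
    (∃ D : Fin 3 → Submodule F (Fin 12 → F), Cfsg.Geo.IsOrthogonalMDecomposition Q 4 D ∧ (∀ i, ¬ Cfsg.Geo.IsPlusTypeOn Q (D i)) ∧ H = Cfsg.Geo.decompositionStabilizer D ⊓ Cfsg.Geo.omegaGL Q) ∨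
    (∃ K : Subalgebra F (Matrix (Fin 12) (Fin 12) F), Cfsg.Geo.IsFieldSubalgebra 2 K ∧ H = Cfsg.Geo.subalgebraNormalizer K ⊓ Cfsg.Geo.omegaGL Q) ∨
    (∃ K : Subalgebra F (Matrix (Fin 12) (Fin 12) F), Cfsg.Geo.IsFieldSubalgebra 3 K ∧ H = Cfsg.Geo.subalgebraNormalizer K ⊓ Cfsg.Geo.omegaGL Q) ∨
    (Odd (Fintype.card F) ∧ 5 ≤ Fintype.card F ∧ ∃ (e : Fin 12 ≃ Fin 3 × Fin 4) (P : Matrix.GeneralLinearGroup (Fin 12) F) (f₁ : (Fin 3 → F) → (Fin 3 → F) → F) (f₂ : (Fin 4 → F) → (Fin 4 → F) → F), Cfsg.Geo.IsSymmetricForm f₁ ∧ Cfsg.Geo.IsSymmetricForm f₂ ∧ ¬ Cfsg.Geo.IsPlusTypeOn (fun v : Fin 4 → F => f₂ v v) ⊤ ∧ Cfsg.Geo.IsTensorFormStructure id (QuadraticMap.polar Q) f₁ f₂ e P ∧ H = Cfsg.Geo.tensorProductSubgroup 3 4 e P ⊓ Cfsg.Geo.omegaGL Q) ∨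
    (∃ (F₀ : Subfield F) (r : ℕ) (P : Matrix.GeneralLinearGroup (Fin 12) F) (ζ : F), r.Prime ∧ Odd r ∧ Fintype.card F = Nat.card F₀ ^ r ∧ ζ ≠ 0 ∧ Cfsg.Geo.IsQuadFormRationalStructure (fun v : Fin 12 → F => ζ * Q v) F₀ P ∧ H = Cfsg.Geo.subfieldSubgroup F₀ P ⊓ Cfsg.Geo.omegaGL Q) ∨
    Cfsg.Geo.InOrthogonalResidualClass H := by
  obtain ⟨q, rfl, hq⟩ := H45.exists_quadForm hQ
  classical
  have hn : Fintype.card (Fin 12) = 12 := Fintype.card_fin 12
  have hn' : Fintype.card (Fin 12) = 8 ∨ Fintype.card (Fin 12) = 10 ∨ Fintype.card (Fin 12) = 12 :=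
    Or.inr (Or.inr hn)
  have h5 : 5 ≤ Fintype.card (Fin 12) := by omega
  by_cases hirr : H98.OE.Irr H
  swap
  · cases H98.OE.redOutcome hq hn' hH.1.le hirr with
    | singular W hb hs _ h =>
      exact Or.inl (⟨W, hb, hs, H98.OE.eq_stab hq h5 hH hb (H98.OE.singular_ne_top hq (by omega) hs) h⟩)
    | oddDim hodd W hb ht hd hne hnd h =>
      exact Or.inr (Or.inl (⟨hodd, W, hb, ht, hd, by omega, hnd, H98.OE.eq_stab hq h5 hH hb ht h⟩))
    | minusPlane W hd hnd hp h =>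
      exact Or.inr (Or.inr (Or.inl (⟨W, hd, hnd, hp, H98.OE.eq_stab_of_lt hq h5 hH (by omega) (by omega) h⟩)))
    | plusPlane h4 W hd hnd hp h =>
      exact Or.inr (Or.inr (Or.inr (Or.inl (⟨h4, W, hd, hnd, hp, H98.OE.eq_stab_of_lt hq h5 hH (by omega) (by omega) h⟩))))
    | four W hd hnd h =>
      exact Or.inr (Or.inr (Or.inr (Or.inr (Or.inl (⟨W, hd, hnd, H98.OE.eq_stab_of_lt hq h5 hH (by omega) (by omega) h⟩)))))
    | half W hd hnd h =>
      exact Or.inr (Or.inr (Or.inr (Or.inr (Or.inr (Or.inl (⟨W, by omega, hnd, H98.OE.eq_stab_of_lt hq h5 hH (by omega) (by omega) h⟩))))))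
    | point he v hv h =>
      exact Or.inr (Or.inr (Or.inr (Or.inr (Or.inr (Or.inr (Or.inl (⟨he, v, hv, H98.OE.eq_point hq h5 hH hv h⟩)))))))
  cases H98.OE.irrOutcome hq hn' hH.1.le hirr with
  | decomp t k D hc hD h =>
    have hO := H98.OE.orth_of_irr hirr (H98.OE.max_isometry hH) hD h
    have ht : Odd t := by
      rcases Nat.even_or_odd t with he | ho
      · exact absurd (H98.OE.decomp_plus hq hO he (m := 6) (by omega) ⟨3, rfl⟩) hminus
      · exact ho
    have h2 := hD.decomp.two_le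
    have hle : t ≤ 12 := Nat.le_of_dvd (by norm_num) ⟨k, by rw [← hc, hn]⟩
    obtain ⟨rfl, rfl⟩ : t = 3 ∧ k = 4 := by
      obtain ⟨j, rfl⟩ := ht
      rw [hn] at hc
      have hj : j ≤ 5 := by omega
      interval_cases j <;> omega
    exact Or.inr (Or.inr (Or.inr (Or.inr (Or.inr (Or.inr (Or.inr (Or.inl (⟨D, hO, fun i hp => hminus ((H98.OE.decomp_odd hq hO ⟨1, rfl⟩ (j := 2) rfl i).2 hp), H98.OE.eq_decomp hq h5 hH hD (by omega) h⟩))))))))
  | pair k D hc hD hts h => exact (H98.OE.not_pair_minus hq hminus hc hD hts).elim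
  | selfField r K hr hK hdvd hs h =>
    rcases hr with rfl | rfl
    · exact Or.inr (Or.inr (Or.inr (Or.inr (Or.inr (Or.inr (Or.inr (Or.inr (Or.inl (⟨K, hK, H98.OE.eq_field hq (by omega) hH le_rfl hK h⟩)))))))))
    · exact Or.inr (Or.inr (Or.inr (Or.inr (Or.inr (Or.inr (Or.inr (Or.inr (Or.inr (Or.inl (⟨K, hK, H98.OE.eq_field hq (by omega) hH (by omega) hK h⟩))))))))))
  | unitField K hK _ _ _ h =>
    exact Or.inr (Or.inr (Or.inr (Or.inr (Or.inr (Or.inr (Or.inr (Or.inr (Or.inl (⟨K, hK, H98.OE.eq_field hq (by omega) hH le_rfl hK h⟩)))))))))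
  | plus8 h8 => omega
  | tensorAlt _ _ hp => exact absurd hp hminus
  | tensorSym _ hodd h5' _ e P f₁ f₂ h1 h2 hp2 ht h =>
    exact Or.inr (Or.inr (Or.inr (Or.inr (Or.inr (Or.inr (Or.inr (Or.inr (Or.inr (Or.inr (Or.inl (⟨hodd, h5', e, P, f₁, f₂, h1, h2, hp2, ht, H46.eq_inf_of_maximal hH h (H98.OE.omega_not_tensor hq h5 (by omega) (by omega) e P)⟩)))))))))))
  | subfield F₀ r P ζ hr hc hζ hR h =>
    exact Or.inr (Or.inr (Or.inr (Or.inr (Or.inr (Or.inr (Or.inr (Or.inr (Or.inr (Or.inr (Or.inr (Or.inl (⟨F₀, r, P, ζ, hr, H98.OE.odd_of_minus hq (m := 6) (by omega) hminus hr hc hζ hR, hc, hζ, hR, H98.OE.eq_subfield hq h5 hH hr hc h⟩))))))))))))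
  | core h => exact Or.inr (Or.inr (Or.inr (Or.inr (Or.inr (Or.inr (Or.inr (Or.inr (Or.inr (Or.inr (Or.inr (Or.inr (h))))))))))))

end Cfsg.Agent.S5874
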