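import Cfsg.Statements.S5876
import Cfsg.Agent.H42.FixedSpace

set_option autoImplicit false
open Cfsg
open scoped commutatorElement

namespace Cfsg.Agent.S5876

/-- Iterated derived subgroups of `N`, inside the ambient group. -/
def derSeq {X : Type*} [Group X] (N : Subgroup X) : ℕ → Subgroup X
  | 0 => N
  | k + 1 => ⁅derSeq N k, derSeq N k⁆

/-- Fixed spaces in primitive soluble linear groups. Let F be a finite field and G a soluble subgroup of GL_n(F) acting irreducibly on F^n and preserving no decomposition of F^n into t ≥ 2 subspaces of equal dimension. Then every non-identity g ∈ G fixes a subspace of dimension at most 3n/4. -/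
theorem result {F : Type*} [Field F] [Fintype F] {n : ℕ} (G : Subgroup (Matrix.GeneralLinearGroup (Fin n) F)) (hsol : IsSolvable G) (hirr : Cfsg.Geo.ActsIrreducibly (Cfsg.Geo.matrixSet G)) (hprim : ∀ (m t : ℕ) (D : Fin t → Submodule F (Fin n → F)), 2 ≤ t → Cfsg.Geo.IsMDecomposition m D → ¬ G ≤ Cfsg.Geo.decompositionStabilizer D) (g : Matrix.GeneralLinearGroup (Fin n) F) (hg : g ∈ G) (hg1 : g ≠ 1) :
    4 * Module.finrank F (Module.End.eigenspace (Matrix.toLin' (g : Matrix (Fin n) (Fin n) F)) 1) ≤ 3 * n := by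
  classical
  change 4 * Module.finrank F (H42.fixSp g) ≤ 3 * n
  by_contra hd
  push Not at hd
  haveI := hsol
  let N : ℕ → Subgroup ↥G := derSeq (Subgroup.normalClosure {(⟨g, hg⟩ : G)})
  have hNn : ∀ k, (N k).Normal := by
    intro k
    induction k with
    | zero => exact Subgroup.normalClosure_normal
    | succ k ih => exact @Subgroup.commutator_normal _ _ (N k) (N k) ih ih
  have hNle : ∀ k, N k ≤ derivedSeries G k := by
    intro k
    induction k with
    | zero => rw [derivedSeries_zero]; exact le_top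
    | succ k ih => rw [derivedSeries_succ]; exact Subgroup.commutator_mono ih ih
  obtain ⟨m, hm⟩ := (show Group.IsSolvable G from hsol).solvable
  have hex : ∃ k, N k = ⊥ := ⟨m, le_bot_iff.1 (hm ▸ hNle m)⟩
  have hgN : (⟨g, hg⟩ : G) ∈ N 0 := Subgroup.subset_normalClosure rfl
  -- abelian normal subgroups of G act semiregularly
  have hsr : ∀ A : Subgroup G, A.Normal → (∀ a ∈ A, ∀ b ∈ A, Commute a b) → ∀ a ∈ A,
      0 < Module.finrank F (H42.fixSp (a : Matrix.GeneralLinearGroup (Fin n) F)) → a = 1 := by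
    intro A hA hab a ha hpos
    by_contra hne
    have h0 := H42.fixSp_eq_bot_of_abelian G hirr hprim (A.map G.subtype)
      (by
        rintro _ ⟨x, hx, rfl⟩ _ ⟨y, hy, rfl⟩
        exact (hab x hx y hy).map G.subtype)
      (by
        rintro h hh _ ⟨x, hx, rfl⟩
        exact ⟨⟨h, hh⟩ * x * ⟨h, hh⟩⁻¹, hA.conj_mem x hx ⟨h, hh⟩, rfl⟩)
      (a := (a : Matrix.GeneralLinearGroup (Fin n) F)) ⟨a, ha, rfl⟩ (fun e => hne (Subtype.ext e))
    rw [h0, finrank_bot] at hpos
    exact lt_irrefl _ hpos
  obtain ⟨k, hkb, hkmin⟩ : ∃ k, N k = ⊥ ∧ ∀ j, j < k → N j ≠ ⊥ :=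
    ⟨@Nat.find _ (Classical.decPred _) hex, @Nat.find_spec _ (Classical.decPred _) hex,
      fun j hj => @Nat.find_min _ (Classical.decPred _) hex j hj⟩
  have hk0 : k ≠ 0 := fun h => hg1 (by
    rw [h] at hkb
    rw [hkb, Subgroup.mem_bot] at hgN
    exact congrArg Subtype.val hgN)
  obtain ⟨j, hj⟩ := Nat.exists_eq_succ_of_ne_zero hk0
  rw [hj] at hkb
  have hjne : N j ≠ ⊥ := hkmin j (by omega)
  have habj : ∀ a ∈ N j, ∀ b ∈ N j, Commute a b := fun a ha b hb =>
    commutatorElement_eq_one_iff_commute.1 (Subgroup.mem_bot.1 (hkb ▸ Subgroup.commutator_mem_commutator ha hb))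
  rcases Nat.eq_zero_or_pos j with hj0 | hj0
  · subst hj0
    have hgg : (⟨g, hg⟩ : G) = 1 := hsr _ (hNn 0) habj _ hgN (by show 0 < Module.finrank F (H42.fixSp g); omega)
    exact hg1 (congrArg Subtype.val hgg)
  obtain ⟨i, rfl⟩ := Nat.exists_eq_succ_of_ne_zero hj0.ne'
  set x : G := ⟨g, hg⟩ with hx
  -- commutator dimensions
  have hcd : ∀ (a b : G), 2 * Module.finrank F (H42.fixSp (a : Matrix.GeneralLinearGroup (Fin n) F)) ≤
      Module.finrank F (H42.fixSp ((⁅a, b⁆ : G) : Matrix.GeneralLinearGroup (Fin n) F)) + n := by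
    intro a b
    rw [commutatorElement_def, Subgroup.coe_mul, Subgroup.coe_mul, Subgroup.coe_mul, Subgroup.coe_inv, Subgroup.coe_inv]
    exact H42.finrank_fixSp_commutator _ _
  have hcmem : ∀ (l : ℕ) (a : G), ∀ b ∈ N l, ⁅a, b⁆ ∈ N l := by
    intro l a b hb
    rw [commutatorElement_def]
    exact mul_mem ((hNn l).conj_mem b hb a) (inv_mem hb)
  have hN0 : ∀ l, N l ≤ N 0 := by
    intro l
    induction l with
    | zero => exact le_rfl
    | succ l ih =>
      exact le_trans (@Subgroup.commutator_le_right _ _ (N l) (N l) (hNn l)) ih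
  -- `g` centralises the last term
  have hcA : ∀ a ∈ N (i + 1), ∀ y ∈ N 0, Commute y a := by
    have h1 : x ∈ Subgroup.centralizer (N (i + 1) : Set G) := by
      rw [Subgroup.mem_centralizer_iff]
      intro a ha
      have h2 : ⁅x, a⁆ = 1 := hsr _ (hNn _) habj _ (hcmem (i + 1) x a ha) (by
        have := hcd x a
        have hxg : (x : Matrix.GeneralLinearGroup (Fin n) F) = g := rfl
        rw [hxg] at this; omega)
      exact (commutatorElement_eq_one_iff_commute.1 h2).eq.symm
    haveI := hNn (i + 1)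
    intro a ha y hy
    have h3 : N 0 ≤ Subgroup.centralizer (N (i + 1) : Set G) :=
      Subgroup.normalClosure_le_normal (Set.singleton_subset_iff.2 h1)
    exact ((Subgroup.mem_centralizer_iff.1 (h3 hy)) a ha).symm
  -- `g` centralises the term before
  have hcB : x ∈ Subgroup.centralizer (N i : Set G) := by
    rw [Subgroup.mem_centralizer_iff]
    intro b hb
    let Z : Subgroup G := N i ⊓ Subgroup.centralizer (N i : Set G)
    haveI := hNn i
    have hZn : Z.Normal := inferInstance
    have hZmem : ⁅x, b⁆ ∈ Z := by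
      refine ⟨hcmem i x b hb, ?_⟩
      show ⁅x, b⁆ ∈ Subgroup.centralizer (N i : Set G)
      rw [Subgroup.mem_centralizer_iff]
      intro b' hb'
      have h2 : ⁅⁅x, b⁆, b'⁆ = 1 := hsr _ (hNn (i + 1)) habj _
        (Subgroup.commutator_mem_commutator (hcmem i x b hb) hb') (by
          have e1 := hcd x b
          have e2 := hcd ⁅x, b⁆ b'
          have hxg : (x : Matrix.GeneralLinearGroup (Fin n) F) = g := rfl
          rw [hxg] at e1; omega)
      exact (commutatorElement_eq_one_iff_commute.1 h2).eq.symm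
    have h2 : ⁅x, b⁆ = 1 := hsr Z hZn
      (fun a ha c hc => ((Subgroup.mem_centralizer_iff.1 hc.2) a ha.1)) _ hZmem (by
        have := hcd x b
        have hxg : (x : Matrix.GeneralLinearGroup (Fin n) F) = g := rfl
        rw [hxg] at this; omega)
    exact (commutatorElement_eq_one_iff_commute.1 h2).eq.symm
  apply hjne
  rw [eq_bot_iff]
  haveI := hNn i
  have h3 : N 0 ≤ Subgroup.centralizer (N i : Set G) :=
    Subgroup.normalClosure_le_normal (Set.singleton_subset_iff.2 hcB)
  show ⁅N i, N i⁆ ≤ ⊥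
  rw [Subgroup.commutator_le]
  intro a ha b hb
  rw [Subgroup.mem_bot, commutatorElement_eq_one_iff_commute]
  exact ((Subgroup.mem_centralizer_iff.1 (h3 (hN0 i hb))) a ha)

end Cfsg.Agent.S5876
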