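import Cfsg.Statements.S5877
import Cfsg.Agent.H42.ExtraNormEigen

set_option autoImplicit false
set_option linter.style.haveILetI false
open Cfsg
open Matrix

namespace Cfsg.Agent.S5877

variable {F : Type*} [Field F] {n : ℕ}

theorem scalar_comm {s : GL (Fin n) F} (hs : s ∈ Cfsg.Geo.scalars (Fin n) F) (x : GL (Fin n) F) :
    s * x = x * s := by
  obtain ⟨c, hc⟩ := (Cfsg.Geo.mem_scalars_iff s).1 hs
  apply Units.ext
  rw [Units.val_mul, Units.val_mul, hc, smul_mul_assoc, one_mul, mul_smul_comm, mul_one]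

theorem scalar_fix {s : GL (Fin n) F} (hs : s ∈ Cfsg.Geo.scalars (Fin n) F) {v : Fin n → F} (hv : v ≠ 0)
    (h : (s : Matrix (Fin n) (Fin n) F) *ᵥ v = v) : s = 1 := by
  obtain ⟨c, hc⟩ := (Cfsg.Geo.mem_scalars_iff s).1 hs
  rw [hc, Matrix.smul_mulVec, Matrix.one_mulVec] at h
  have h1 : ((c : F) - 1) • v = 0 := by rw [sub_smul, one_smul, h, sub_self]
  apply Units.ext
  rw [hc, sub_eq_zero.1 ((smul_eq_zero.1 h1).resolve_right hv), one_smul, Units.val_one]

/-- Algebra in the endomorphism ring. -/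
theorem unipotent_of_quartic {A : Type*} [Ring A] {r ϖ : ℕ} (hr : r.Prime) (hr0 : (r : A) = 0)
    (hϖ : Odd ϖ) (t : A) (ht : t ^ ϖ = 1) (h4 : t ^ 4 - (t ^ 3 + t ^ 3) + (t + t) - 1 = 0) :
    (t - 1) ^ 4 = 0 ∧ (r ≠ 2 → (t - 1) ^ 3 = 0) := by
  have hq : (t - 1) ^ 3 * (t + 1) = 0 := by
    rw [← h4]; noncomm_ring
  rcases hr.eq_two_or_odd' with rfl | hodd
  · refine ⟨?_, fun h => absurd rfl h⟩
    have h2 : (2 : A) = 0 := by exact_mod_cast hr0
    have e : t - 1 = t + 1 := by rw [sub_eq_iff_eq_add, add_assoc, one_add_one_eq_two, h2, add_zero]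
    rw [pow_succ]
    nth_rewrite 2 [e]
    exact hq
  · obtain ⟨k, hk⟩ := hodd
    have hs : (t + 1) * (-∑ i ∈ Finset.range ϖ, (-t) ^ i) = -2 := by
      have h1 := mul_geom_sum (-t) ϖ
      rw [hϖ.neg_pow, ht] at h1
      rw [show (-2 : A) = -1 - 1 by norm_num, ← h1]
      generalize ∑ i ∈ Finset.range ϖ, (-t) ^ i = s
      noncomm_ring
    have h2inv : (2 : A) * ((k + 1 : ℕ) : A) = 1 := by
      have : ((2 * (k + 1) : ℕ) : A) = ((r + 1 : ℕ) : A) := by rw [hk]; ring_nf
      push_cast at this ⊢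
      rw [this, hr0, zero_add]
    have h3 : (t - 1) ^ 3 = 0 := by
      have : (t - 1) ^ 3 * (-2) * (-((k + 1 : ℕ) : A)) = 0 := by
        rw [← hs, ← mul_assoc, hq, zero_mul, zero_mul]
      rwa [mul_assoc, neg_mul_neg, h2inv, mul_one] at this
    exact ⟨by rw [pow_succ, h3, zero_mul], fun _ => h3⟩

theorem eq_one_of_unipotent {A : Type*} [Ring A] {r ϖ : ℕ} (hr : r.Prime) (hr0 : (r : A) = 0)
    (hϖ : ϖ.Prime) (hne : r ≠ ϖ) (t : A) (ht : t ^ ϖ = 1) (h4 : (t - 1) ^ 4 = 0) : t = 1 := by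
  rcases subsingleton_or_nontrivial A with hs | hn
  · exact Subsingleton.elim _ _
  haveI : Fact r.Prime := ⟨hr⟩
  haveI : CharP A r := (CharP.charP_iff_prime_eq_zero hr).2 hr0
  have h1 : (t - 1) ^ (r ^ 2) = t ^ (r ^ 2) - 1 := by
    rw [sub_pow_expChar_pow_of_commute r 2 (Commute.one_right t), one_pow]
  have h2 : 4 ≤ r ^ 2 := le_trans (by norm_num) (Nat.pow_le_pow_left hr.two_le 2)
  rw [← Nat.add_sub_cancel' h2, pow_add, h4, zero_mul, Nat.add_sub_cancel' h2] at h1
  have h3 := pow_gcd_eq_one.2 ⟨sub_eq_zero.1 h1.symm, ht⟩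
  have hcop : Nat.gcd (r ^ 2) ϖ = 1 := Nat.Coprime.pow_left 2 ((Nat.coprime_primes hr hϖ).2 hne)
  rwa [hcop, pow_one] at h3

/-- Eigenspaces of elements normalising an absolutely irreducible extraspecial group. Let F be a finite field, r a prime, and R ≤ GL_n(F) an absolutely irreducible extraspecial r-group (an r-group whose centre equals its derived subgroup and has order r) of exponent r or 4. Let g ∈ GL_n(F) normalise the product of R with the scalar matrices, have prime order ϖ and not be scalar, and let W be the eigenspace of g for any c ∈ F (W may be the zero subspace). Then dim W ≤ 3n/4 if ϖ = 2, dim W ≤ 2n/3 if ϖ = 3, and dim W ≤ n/2 if ϖ > 3; moreover if ϖ = 3 and 3 does not divide n then dim W ≤ n/2. -/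
theorem result {F : Type*} [Field F] [Fintype F] {n r ϖ : ℕ} (R : Subgroup (Matrix.GeneralLinearGroup (Fin n) F)) (hr : r.Prime) (hR : IsPGroup r R) (hZ : Nat.card (Subgroup.center R) = r) (hext : commutator R = Subgroup.center R) (hexp : Monoid.exponent R = r ∨ Monoid.exponent R = 4) (hirr : Cfsg.Geo.ActsAbsolutelyIrreducibly (Cfsg.Geo.matrixSet R)) (g : Matrix.GeneralLinearGroup (Fin n) F) (hg : g ∈ Cfsg.Geo.subgroupNormalizer (R ⊔ Cfsg.Geo.scalars (Fin n) F)) (hϖ : ϖ.Prime) (hord : orderOf g = ϖ) (hns : g ∉ Cfsg.Geo.scalars (Fin n) F) (c : F) :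
    (ϖ = 2 → 4 * Module.finrank F (Module.End.eigenspace (Matrix.toLin' (g : Matrix (Fin n) (Fin n) F)) c) ≤ 3 * n) ∧
    (ϖ = 3 → 3 * Module.finrank F (Module.End.eigenspace (Matrix.toLin' (g : Matrix (Fin n) (Fin n) F)) c) ≤ 2 * n) ∧
    (3 < ϖ → 2 * Module.finrank F (Module.End.eigenspace (Matrix.toLin' (g : Matrix (Fin n) (Fin n) F)) c) ≤ n) ∧
    (ϖ = 3 → ¬ 3 ∣ n → 2 * Module.finrank F (Module.End.eigenspace (Matrix.toLin' (g : Matrix (Fin n) (Fin n) F)) c) ≤ n) := by
  classical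
  have hR' := hR
  have hexp' := hexp
  show (ϖ = 2 → 4 * Module.finrank F (H42.eSp g c) ≤ 3 * n) ∧
    (ϖ = 3 → 3 * Module.finrank F (H42.eSp g c) ≤ 2 * n) ∧
    (3 < ϖ → 2 * Module.finrank F (H42.eSp g c) ≤ n) ∧
    (ϖ = 3 → ¬ 3 ∣ n → 2 * Module.finrank F (H42.eSp g c) ≤ n)
  set d := Module.finrank F (H42.eSp g c) with hd
  by_cases hhalf : 2 * d ≤ n
  · exact ⟨fun _ => by omega, fun _ => by omega, fun _ => hhalf, fun _ _ => hhalf⟩
  have hn0 : 0 < n := by
    rcases Nat.eq_zero_or_pos n with h | h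
    · exfalso; apply hns
      subst h
      rw [Subsingleton.elim g 1]; exact one_mem _
    · exact h
  have hc : c ≠ 0 := by
    rintro rfl
    rw [hd, H42.eSp_zero, finrank_bot] at hhalf; omega
  haveI : Fact r.Prime := ⟨hr⟩
  set Z := Cfsg.Geo.scalars (Fin n) F with hZdef
  have hcen : ∀ x : R, x ∈ Subgroup.center R → (x : GL (Fin n) F) ∈ Z := by
    intro x hx
    obtain ⟨a, ha⟩ := hirr.2 ((x : GL (Fin n) F) : Matrix (Fin n) (Fin n) F) (by
      rintro _ ⟨y, hy, rfl⟩
      exact congrArg (fun z : R => ((z : GL (Fin n) F) : Matrix (Fin n) (Fin n) F))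
        (Subgroup.mem_center_iff.1 hx ⟨y, hy⟩).symm)
    have ha0 : a ≠ 0 := by
      rintro rfl
      rw [zero_smul] at ha
      have h1 := congrArg Matrix.det ha
      haveI : Nonempty (Fin n) := ⟨⟨0, hn0⟩⟩
      rw [Matrix.det_zero] at h1
      exact (Matrix.GeneralLinearGroup.det (x : GL (Fin n) F)).ne_zero h1
    exact (Cfsg.Geo.mem_scalars_iff _).2 ⟨Units.mk0 a ha0, ha⟩
  -- the root of unity of the centre
  obtain ⟨ζ, z₀, hζ, hz₀⟩ : ∃ (ζ : F) (z₀ : R), IsPrimitiveRoot ζ r ∧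
      (((z₀ : R) : GL (Fin n) F) : Matrix (Fin n) (Fin n) F) = ζ • 1 ∧
      (∀ y ∈ Subgroup.center R, ∃ i, i < r ∧ y = z₀ ^ i) := by
    haveI : Nontrivial (Subgroup.center R) := by
      rw [← Finite.one_lt_card_iff_nontrivial, hZ]; exact hr.one_lt
    obtain ⟨z, hz⟩ := exists_ne (1 : Subgroup.center R)
    have hoz : orderOf z = r := orderOf_eq_prime (by rw [← hZ]; exact pow_card_eq_one') hz
    have hzR : orderOf (z : R) = r := by rw [Subgroup.orderOf_coe, hoz]
    obtain ⟨a, ha⟩ := (Cfsg.Geo.mem_scalars_iff _).1 (hcen z z.2)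
    have hpa : ∀ k : ℕ, (((z : R) ^ k : R) : GL (Fin n) F) = 1 ↔ (a : F) ^ k = 1 := by
      intro k
      rw [Units.ext_iff, SubgroupClass.coe_pow, Units.val_pow_eq_pow_val, ha, smul_pow, one_pow, Units.val_one]
      constructor
      · intro h
        have := congrFun (congrFun h ⟨0, hn0⟩) ⟨0, hn0⟩
        simpa using this
      · intro h; rw [h, one_smul]
    refine ⟨a, z, IsPrimitiveRoot.iff_orderOf.2 ?_, ha, fun y hy => ?_⟩
    · refine orderOf_eq_prime ((hpa r).1 ?_) ?_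
      · rw [← hzR, pow_orderOf_eq_one]; rfl
      · intro h1
        have h2 : (z : R) ^ 1 = 1 := Subtype.ext ((hpa 1).2 (by rw [pow_one, h1]))
        rw [pow_one] at h2
        exact hz (Subtype.ext h2)
    · have htop : Subgroup.zpowers z = ⊤ := Subgroup.eq_top_of_card_eq _ (by rw [Nat.card_zpowers, hoz, hZ])
      have hm : (⟨y, hy⟩ : Subgroup.center R) ∈ Subgroup.zpowers z := by rw [htop]; trivial
      rw [← mem_powers_iff_mem_zpowers] at hm
      obtain ⟨k, hk⟩ := hm
      refine ⟨k % r, Nat.mod_lt _ hr.pos, ?_⟩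
      have := congrArg Subtype.val hk
      simp only [SubgroupClass.coe_pow] at this
      rw [← this, ← hzR, pow_mod_orderOf]
  obtain ⟨hz₀m, hz₀gen⟩ := hz₀
  set S := R ⊔ Z with hS
  have hZnormal : Z.Normal := ⟨fun s hs x => by rwa [← scalar_comm hs x, mul_inv_cancel_right]⟩
  have hdecomp : ∀ x ∈ S, ∃ a ∈ R, ∃ s ∈ Z, x = a * s := by
    intro x hx
    haveI := hZnormal
    obtain ⟨a, ha, s, hs, rfl⟩ := Subgroup.mem_sup_of_normal_right.1 hx
    exact ⟨a, ha, s, hs, rfl⟩
  have hcomm : ∀ x ∈ S, ∀ y ∈ S, ∃ i, i < r ∧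
      ((x * y * x⁻¹ * y⁻¹ : GL (Fin n) F) : Matrix (Fin n) (Fin n) F) = ζ ^ i • 1 := by
    intro x hx y hy
    obtain ⟨a, ha, s, hs, rfl⟩ := hdecomp x hx
    obtain ⟨b, hb, t, ht, rfl⟩ := hdecomp y hy
    have h1 : a * s * (b * t) * (a * s)⁻¹ * (b * t)⁻¹ = a * b * a⁻¹ * b⁻¹ := by
      have e1 : a * s * (b * t) * (a * s)⁻¹ = a * (b * t) * a⁻¹ := by
        rw [_root_.mul_inv_rev, mul_assoc a s, scalar_comm hs (b * t)]; group
      rw [e1, show a * (b * t) * a⁻¹ = a * b * (t * a⁻¹) by group, scalar_comm ht a⁻¹]; group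
    have hm : (⟨a, ha⟩ * ⟨b, hb⟩ * (⟨a, ha⟩ : R)⁻¹ * (⟨b, hb⟩ : R)⁻¹ : R) ∈ Subgroup.center R := by
      rw [← hext, commutator_def]
      exact Subgroup.commutator_mem_commutator (Subgroup.mem_top _) (Subgroup.mem_top _)
    obtain ⟨i, hi, he⟩ := hz₀gen _ hm
    refine ⟨i, hi, ?_⟩
    have he' := congrArg (fun w : R => ((w : GL (Fin n) F) : Matrix (Fin n) (Fin n) F)) he
    simp only [SubgroupClass.coe_pow, Units.val_pow_eq_pow_val, hz₀m, smul_pow, one_pow] at he'
    rw [h1]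
    exact he'
  have hcommZ : ∀ x ∈ S, ∀ y ∈ S, x * y * x⁻¹ * y⁻¹ ∈ Z := by
    intro x hx y hy
    obtain ⟨i, -, h⟩ := hcomm x hx y hy
    exact (Cfsg.Geo.mem_scalars_iff _).2 ⟨(Units.mk0 ζ (hζ.ne_zero hr.ne_zero)) ^ i,
      by rw [h, Units.val_pow_eq_pow_val, Units.val_mk0]⟩
  have hrad : ∀ x : GL (Fin n) F, (∀ y ∈ R, x * y = y * x) → x ∈ Z := by
    intro x h
    obtain ⟨a, ha⟩ := hirr.2 (x : Matrix (Fin n) (Fin n) F) (by
      rintro _ ⟨y, hy, rfl⟩
      exact congrArg Units.val (h y hy))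
    have ha0 : a ≠ 0 := by
      rintro rfl
      rw [zero_smul] at ha
      haveI : Nonempty (Fin n) := ⟨⟨0, hn0⟩⟩
      have h1 := congrArg Matrix.det ha
      rw [Matrix.det_zero] at h1
      exact (Matrix.GeneralLinearGroup.det x).ne_zero h1
    exact (Cfsg.Geo.mem_scalars_iff _).2 ⟨Units.mk0 a ha0, ha⟩
  have hconjmat : ∀ (x y : GL (Fin n) F) (a : F),
      ((y * x * y⁻¹ * x⁻¹ : GL (Fin n) F) : Matrix (Fin n) (Fin n) F) = a • 1 →
      ((y * x * y⁻¹ : GL (Fin n) F) : Matrix (Fin n) (Fin n) F) = a • (x : Matrix (Fin n) (Fin n) F) := by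
    intro x y a h
    rw [show y * x * y⁻¹ = y * x * y⁻¹ * x⁻¹ * x by group, Units.val_mul _ x, h, smul_mul_assoc, one_mul]
  have hnonscalar : ∀ x ∈ S, x ∉ Z → ∃ y ∈ R, ∃ i, ¬ r ∣ i ∧
      ((y * x * y⁻¹ : GL (Fin n) F) : Matrix (Fin n) (Fin n) F) = ζ ^ i • (x : Matrix (Fin n) (Fin n) F) := by
    intro x hx hxZ
    obtain ⟨y, hy, hxy⟩ : ∃ y ∈ R, x * y ≠ y * x := by
      by_contra h; push Not at h; exact hxZ (hrad x h)
    obtain ⟨i, hi, h⟩ := hcomm y (Subgroup.mem_sup_left hy) x hx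
    refine ⟨y, hy, i, fun hri => hxy ?_, hconjmat x y _ h⟩
    have h1 := hconjmat x y _ h
    rw [show i = 0 from Nat.eq_zero_of_dvd_of_lt hri hi, pow_zero, one_smul] at h1
    exact (mul_inv_eq_iff_eq_mul.1 (Units.ext h1)).symm
  have hsmall : ∀ x ∈ S, x ∉ Z → ∀ l, r * Module.finrank F (H42.eSp x l) ≤ n := by
    intro x hx hxZ l
    obtain ⟨y, hy, i, hi, h⟩ := hnonscalar x hx hxZ
    exact H42.mul_finrank_eSp_le hr.pos x y (ζ ^ i)
      (hζ.pow_of_coprime i ((hr.coprime_iff_not_dvd.2 hi).symm)) h l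
  have hgS : ∀ x, x ∈ S → g * x * g⁻¹ ∈ S := fun x hx => (Subgroup.mem_normalizer_iff.1 hg x).1 hx
  -- commutators with g
  let E : GL (Fin n) F → Submodule F (Fin n → F) := fun x =>
    H42.eSp g c ⊓ (H42.eSp g c).map (Matrix.toLin' (x : Matrix (Fin n) (Fin n) F))
  have hEdim : ∀ x, 2 * d ≤ Module.finrank F (E x) + n := by
    intro x
    have h := Submodule.finrank_sup_add_finrank_inf_eq (H42.eSp g c)
      ((H42.eSp g c).map (Matrix.toLin' (x : Matrix (Fin n) (Fin n) F)))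
    have h2 := (Submodule.equivMapOfInjective _ (H42.toLin_injective_unit x) (H42.eSp g c)).finrank_eq
    have h3 : Module.finrank F (H42.eSp g c ⊔ (H42.eSp g c).map (Matrix.toLin' (x : Matrix (Fin n) (Fin n) F)) : Submodule F (Fin n → F)) ≤ n :=
      le_trans (Submodule.finrank_le _) (by simp)
    show 2 * d ≤ Module.finrank F (H42.eSp g c ⊓ (H42.eSp g c).map (Matrix.toLin' (x : Matrix (Fin n) (Fin n) F)) : Submodule F (Fin n → F)) + n
    omega
  have hEne : ∀ x, ∃ v ∈ E x, v ≠ 0 := by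
    intro x
    apply Submodule.exists_mem_ne_zero_of_ne_bot
    intro h
    have := hEdim x
    rw [h, finrank_bot] at this
    omega
  have hEfix : ∀ x, ∀ v ∈ E x, ((g * x * g⁻¹ * x⁻¹ : GL (Fin n) F) : Matrix (Fin n) (Fin n) F) *ᵥ v = v := by
    intro x v hv
    obtain ⟨hv1, w, hw, rfl⟩ := hv
    rw [SetLike.mem_coe, H42.mem_eSp] at hv1 hw
    rw [Matrix.toLin'_apply] at hv1 ⊢
    have hgi : ((g⁻¹ : GL (Fin n) F) : Matrix (Fin n) (Fin n) F) *ᵥ w = c⁻¹ • w := by
      conv_lhs => rw [← one_smul F w, ← inv_mul_cancel₀ hc, ← smul_smul, ← hw]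
      rw [Matrix.mulVec_smul, H42.mulVec_inv_cancel]
    rw [Units.val_mul _ x⁻¹, ← Matrix.mulVec_mulVec, H42.mulVec_inv_cancel, Units.val_mul, Units.val_mul,
      ← Matrix.mulVec_mulVec, ← Matrix.mulVec_mulVec, hgi, Matrix.mulVec_smul, Matrix.mulVec_smul, hv1,
      smul_smul, inv_mul_cancel₀ hc, one_smul]
  have hEfix' : ∀ x, ∀ v ∈ E x,
      ((g * (g * x * g⁻¹ * x⁻¹) * g⁻¹ : GL (Fin n) F) : Matrix (Fin n) (Fin n) F) *ᵥ v = v := by
    intro x v hv
    have hv1 : v ∈ H42.eSp g c := (Submodule.mem_inf.1 hv).1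
    rw [H42.mem_eSp] at hv1
    have hgi : ((g⁻¹ : GL (Fin n) F) : Matrix (Fin n) (Fin n) F) *ᵥ v = c⁻¹ • v := by
      conv_lhs => rw [← one_smul F v, ← inv_mul_cancel₀ hc, ← smul_smul, ← hv1]
      rw [Matrix.mulVec_smul, H42.mulVec_inv_cancel]
    rw [Units.val_mul, Units.val_mul g, ← Matrix.mulVec_mulVec, ← Matrix.mulVec_mulVec, hgi, Matrix.mulVec_smul,
      hEfix x v hv, Matrix.mulVec_smul, hv1, smul_smul, inv_mul_cancel₀ hc, one_smul]
  have huS : ∀ x ∈ S, g * x * g⁻¹ * x⁻¹ ∈ S := fun x hx => mul_mem (hgS x hx) (inv_mem hx)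
  -- `[g,x]` commutes with its conjugate
  have hiso : ∀ x ∈ S, (g * x * g⁻¹ * x⁻¹) * (g * (g * x * g⁻¹ * x⁻¹) * g⁻¹) *
      (g * x * g⁻¹ * x⁻¹)⁻¹ * (g * (g * x * g⁻¹ * x⁻¹) * g⁻¹)⁻¹ = 1 := by
    intro x hx
    obtain ⟨v, hv, hv0⟩ := hEne x
    refine scalar_fix (hcommZ _ (huS x hx) _ (hgS _ (huS x hx))) hv0 ?_
    have h1 := hEfix x v hv
    have h2 := hEfix' x v hv
    have hi : ∀ w : GL (Fin n) F, (w : Matrix (Fin n) (Fin n) F) *ᵥ v = v →
        ((w⁻¹ : GL (Fin n) F) : Matrix (Fin n) (Fin n) F) *ᵥ v = v := by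
      intro w hw; conv_lhs => rw [← hw]
      rw [H42.mulVec_inv_cancel]
    rw [Units.val_mul _ (g * (g * x * g⁻¹ * x⁻¹) * g⁻¹)⁻¹, Units.val_mul _ (g * x * g⁻¹ * x⁻¹)⁻¹,
      Units.val_mul (g * x * g⁻¹ * x⁻¹), ← Matrix.mulVec_mulVec, ← Matrix.mulVec_mulVec, ← Matrix.mulVec_mulVec,
      hi _ h2, hi _ h1, h2, h1]
  -- some commutator is not scalar
  obtain ⟨x₁, hx₁, hu₁⟩ : ∃ x ∈ S, g * x * g⁻¹ * x⁻¹ ∉ Z := by
    by_contra h
    push Not at h
    apply hns
    refine hrad g fun y hy => ?_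
    obtain ⟨v, hv, hv0⟩ := hEne y
    have h1 := scalar_fix (h y (Subgroup.mem_sup_left hy)) hv0 (hEfix y v hv)
    calc g * y = (g * y * g⁻¹ * y⁻¹) * (y * g) := by group
      _ = y * g := by rw [h1, one_mul]
  have hbound : 2 * r * d ≤ n + r * n := by
    have h1 : E x₁ ≤ H42.eSp (g * x₁ * g⁻¹ * x₁⁻¹) 1 := fun v hv => by
      rw [H42.mem_eSp, one_smul]; exact hEfix x₁ v hv
    have h2 := Submodule.finrank_mono h1
    have h3 := hsmall _ (huS x₁ hx₁) hu₁ 1
    have h4 := Nat.mul_le_mul_left r ((hEdim x₁).trans (Nat.add_le_add_right h2 n))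
    nlinarith
  -- `r` divides `n`
  have hrn : r ∣ n := by
    obtain ⟨y, hy, i, hi, h⟩ := hnonscalar _ (huS x₁ hx₁) hu₁
    have h1 := congrArg Matrix.det h
    rw [Units.val_mul, Units.val_mul, Matrix.det_units_conj, Matrix.det_smul, Fintype.card_fin] at h1
    have h2 : (ζ ^ i) ^ n = 1 := by
      have hu := (Matrix.GeneralLinearGroup.det (g * x₁ * g⁻¹ * x₁⁻¹)).ne_zero
      exact (mul_eq_right₀ hu).1 h1.symm
    rw [← pow_mul] at h2
    exact (hr.dvd_mul.1 (hζ.dvd_of_pow_eq_one _ h2)).resolve_left hi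
  have key : ϖ ≠ 2 → ¬ (ϖ = 3 ∧ r = 3) → False := by
    intro hϖ2 h33
    -- the quotient `S / Z` as an additive group
    set Z' : Subgroup S := Z.subgroupOf S with hZ'
    haveI hZ'n : Z'.Normal := ⟨fun s hs x => by
      have : x * s * x⁻¹ = s := Subtype.ext (by
        show (x : GL (Fin n) F) * s * (x : GL (Fin n) F)⁻¹ = s
        rw [← scalar_comm (Subgroup.mem_subgroupOf.1 hs) x, mul_inv_cancel_right])
      rwa [this]⟩
    have hZ'mem : ∀ x : S, (QuotientGroup.mk x : S ⧸ Z') = 1 ↔ (x : GL (Fin n) F) ∈ Z := fun x => by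
      rw [QuotientGroup.eq_one_iff]; exact Subgroup.mem_subgroupOf
    letI : CommGroup (S ⧸ Z') := { (inferInstance : Group (S ⧸ Z')) with
      mul_comm := by
        intro a b
        induction a using QuotientGroup.induction_on with | H a =>
        induction b using QuotientGroup.induction_on with | H b =>
        rw [← QuotientGroup.mk_mul, ← QuotientGroup.mk_mul, QuotientGroup.eq]
        refine Subgroup.mem_subgroupOf.2 ?_
        have h := hcommZ (b : GL (Fin n) F)⁻¹ (inv_mem b.2) (a : GL (Fin n) F)⁻¹ (inv_mem a.2)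
        simp only [Subgroup.coe_mul, Subgroup.coe_inv, _root_.mul_inv_rev]
        simpa [mul_assoc] using h }
    let T : S →* S :=
      { toFun := fun x => ⟨g * x * g⁻¹, hgS x x.2⟩
        map_one' := Subtype.ext (by simp)
        map_mul' := fun x y => Subtype.ext (by
          show g * ((x : GL (Fin n) F) * y) * g⁻¹ = g * x * g⁻¹ * (g * y * g⁻¹)
          group) }
    let Tq : (S ⧸ Z') →* (S ⧸ Z') := QuotientGroup.map Z' Z' T (by
      intro s hs
      rw [Subgroup.mem_comap, Subgroup.mem_subgroupOf]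
      show g * (s : GL (Fin n) F) * g⁻¹ ∈ Z
      have hs' := Subgroup.mem_subgroupOf.1 hs
      rwa [← scalar_comm hs' g, mul_inv_cancel_right])
    let t : AddMonoid.End (Additive (S ⧸ Z')) := MonoidHom.toAdditive Tq
    have ht : ∀ x : S, t (Additive.ofMul (QuotientGroup.mk x : S ⧸ Z')) =
        Additive.ofMul (QuotientGroup.mk (T x) : S ⧸ Z') := fun x => rfl
    have htk : ∀ (k : ℕ) (x : S), (t ^ k) (Additive.ofMul (QuotientGroup.mk x : S ⧸ Z')) =
        Additive.ofMul (QuotientGroup.mk ((⇑T)^[k] x) : S ⧸ Z') := by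
      intro k
      induction k with
      | zero => intro x; simp [AddMonoid.End.coe_one]
      | succ k ih =>
        intro x
        rw [pow_succ', AddMonoid.End.coe_mul, Function.comp_apply, ih, ht, Function.iterate_succ_apply']
    have hTk : ∀ (k : ℕ) (x : S), (((⇑T)^[k] x : S) : GL (Fin n) F) = g ^ k * (x : GL (Fin n) F) * (g ^ k)⁻¹ := by
      intro k
      induction k with
      | zero => intro x; simp
      | succ k ih =>
        intro x
        rw [Function.iterate_succ_apply']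
        show g * _ * g⁻¹ = _
        rw [ih, pow_succ', _root_.mul_inv_rev]; group
    have htϖ : t ^ ϖ = 1 := by
      refine AddMonoidHom.ext fun a => ?_
      obtain ⟨q, rfl⟩ := Additive.ofMul.surjective a
      induction q using QuotientGroup.induction_on with | H x =>
      show (t ^ ϖ) (Additive.ofMul (QuotientGroup.mk x : S ⧸ Z')) = Additive.ofMul (QuotientGroup.mk x : S ⧸ Z')
      rw [htk]
      congr 2
      apply Subtype.ext
      rw [hTk, ← hord, pow_orderOf_eq_one]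
      simp
    -- the commutator pairing
    letI : CommGroup Z := { (inferInstance : Group Z) with
      mul_comm := fun a b => Subtype.ext (scalar_comm a.2 b) }
    let β : S → S → Z := fun x y => ⟨_, hcommZ x x.2 y y.2⟩
    have β_def : ∀ x y : S, (β x y : GL (Fin n) F) = x * y * (x : GL (Fin n) F)⁻¹ * (y : GL (Fin n) F)⁻¹ :=
      fun x y => rfl
    have β_mul_left : ∀ x y w : S, β (x * y) w = β x w * β y w := by
      intro x y w
      apply Subtype.ext
      rw [Subgroup.coe_mul, β_def, β_def, β_def, Subgroup.coe_mul]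
      have hc := scalar_comm (hcommZ y y.2 w w.2)
      calc (x : GL (Fin n) F) * y * w * ((x : GL (Fin n) F) * y)⁻¹ * (w : GL (Fin n) F)⁻¹
          = (x : GL (Fin n) F) * ((y * w * (y : GL (Fin n) F)⁻¹ * (w : GL (Fin n) F)⁻¹) * (w * (x : GL (Fin n) F)⁻¹ * (w : GL (Fin n) F)⁻¹)) := by group
        _ = (x : GL (Fin n) F) * w * (x : GL (Fin n) F)⁻¹ * (w : GL (Fin n) F)⁻¹ * (y * w * (y : GL (Fin n) F)⁻¹ * (w : GL (Fin n) F)⁻¹) := by
            rw [hc]; group
    have β_swap : ∀ x y : S, β y x = (β x y)⁻¹ := by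
      intro x y
      apply Subtype.ext
      rw [Subgroup.coe_inv, β_def, β_def]; group
    have β_mul_right : ∀ x y w : S, β x (y * w) = β x y * β x w := by
      intro x y w
      rw [β_swap (y * w) x, β_mul_left, β_swap x y, β_swap x w, ← mul_inv, inv_inv]
    have β_self : ∀ x : S, β x x = 1 := fun x => Subtype.ext (by rw [β_def]; simp)
    have β_inv_left : ∀ x y : S, β x⁻¹ y = (β x y)⁻¹ := by
      intro x y
      have h1 : β 1 y = 1 := Subtype.ext (by rw [β_def]; simp)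
      exact eq_inv_of_mul_eq_one_left (by rw [← β_mul_left, inv_mul_cancel, h1])
    have β_inv_right : ∀ x y : S, β x y⁻¹ = (β x y)⁻¹ := by
      intro x y
      rw [β_swap y⁻¹ x, β_inv_left, inv_inv, β_swap x y]
    have β_T : ∀ x y : S, β (T x) (T y) = β x y := by
      intro x y
      apply Subtype.ext
      rw [β_def, β_def]
      have hs := scalar_comm (hcommZ x x.2 y y.2) g⁻¹
      show g * (x : GL (Fin n) F) * g⁻¹ * (g * y * g⁻¹) * (g * (x : GL (Fin n) F) * g⁻¹)⁻¹ * (g * (y : GL (Fin n) F) * g⁻¹)⁻¹ = _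
      calc _ = g * (((x : GL (Fin n) F) * y * (x : GL (Fin n) F)⁻¹ * (y : GL (Fin n) F)⁻¹) * g⁻¹) := by group
        _ = _ := by rw [hs]; group
    have hP : ∀ x : S, β x (T (T x)) = β x (T x) * β x (T x) := by
      intro x
      have h0 : β (T x * x⁻¹) (T (T x * x⁻¹)) = 1 := Subtype.ext (hiso x x.2)
      rw [map_mul, map_inv, β_mul_left, β_mul_right, β_mul_right, β_inv_right, β_inv_right, β_inv_left,
        β_inv_left, β_T, β_self, inv_one, mul_one, inv_inv] at h0
      generalize β x (T (T x)) = B at h0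
      generalize β x (T x) = A at h0
      have h1 : A * A * B⁻¹ = 1 := by rw [← h0]; simp only [mul_assoc, mul_comm, mul_left_comm]
      exact (mul_inv_eq_one.1 h1).symm
    have hpol : ∀ x y : S, β x (T (T y)) * β y (T (T x)) = (β x (T y) * β y (T x)) * (β x (T y) * β y (T x)) := by
      intro x y
      have h := hP (x * y)
      rw [map_mul, map_mul, β_mul_left, β_mul_right, β_mul_right, β_mul_left, β_mul_right, β_mul_right,
        hP x, hP y] at h
      generalize β x (T (T y)) = A at h ⊢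
      generalize β y (T (T x)) = B at h ⊢
      generalize β x (T y) = a at h ⊢
      generalize β y (T x) = b at h ⊢
      generalize β x (T x) = p at h
      generalize β y (T y) = q at h
      have h' : (p * p * (q * q)) * (A * B) = (p * p * (q * q)) * ((a * b) * (a * b)) := by
        rw [show (p * p * (q * q)) * (A * B) = (p * p * A) * (B * (q * q)) by
          simp only [mul_comm, mul_left_comm, mul_assoc], h]
        simp only [mul_comm, mul_left_comm, mul_assoc]
      exact mul_left_cancel h'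
    have hquart : ∀ w : S, (QuotientGroup.mk (T (T (T (T w))) * w⁻¹ *
        ((T (T (T w)))⁻¹ * T w) * ((T (T (T w)))⁻¹ * T w)) : S ⧸ Z') = 1 := by
      intro w
      rw [hZ'mem]
      refine hrad _ fun y hy => ?_
      let Y : S := ⟨y, Subgroup.mem_sup_left hy⟩
      have h := hpol Y (T (T w))
      rw [show β (T (T w)) (T (T Y)) = β w Y by rw [β_T, β_T],
        show β (T (T w)) (T Y) = β (T w) Y by rw [β_T], β_swap Y w, β_swap Y (T w)] at h
      have h1 : β Y (T (T (T (T w))) * w⁻¹ * ((T (T (T w)))⁻¹ * T w) * ((T (T (T w)))⁻¹ * T w)) = 1 := by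
        rw [β_mul_right, β_mul_right, β_mul_right, β_mul_right, β_inv_right, β_inv_right, h]
        generalize β Y (T (T (T w))) = a
        generalize β Y (T w) = b
        refine Eq.trans ?_ (mul_inv_cancel (a * b * (a * b)))
        simp only [mul_inv, inv_inv, mul_assoc, mul_left_comm, mul_comm]
      generalize (T (T (T (T w))) * w⁻¹ * ((T (T (T w)))⁻¹ * T w) * ((T (T (T w)))⁻¹ * T w)) = X at h1
      have h2 := congrArg Subtype.val h1
      rw [β_def, Subgroup.coe_one] at h2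
      show (X : GL (Fin n) F) * (Y : GL (Fin n) F) = (Y : GL (Fin n) F) * X
      calc (X : GL (Fin n) F) * (Y : GL (Fin n) F) = (((Y : GL (Fin n) F)) * X * (Y : GL (Fin n) F)⁻¹ * (X : GL (Fin n) F)⁻¹) * (X * (Y : GL (Fin n) F)) := by rw [h2, one_mul]
        _ = (Y : GL (Fin n) F) * X := by group
    have h4 : t ^ 4 - (t ^ 3 + t ^ 3) + (t + t) - 1 = 0 := by
      refine AddMonoidHom.ext fun a => ?_
      obtain ⟨q, rfl⟩ := Additive.ofMul.surjective a
      induction q using QuotientGroup.induction_on with | H x =>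
      have h := congrArg Additive.ofMul (hquart x)
      rw [QuotientGroup.mk_mul, QuotientGroup.mk_mul, QuotientGroup.mk_mul, QuotientGroup.mk_mul, QuotientGroup.mk_inv,
        QuotientGroup.mk_inv, ofMul_mul, ofMul_mul, ofMul_mul, ofMul_mul, ofMul_inv, ofMul_inv, ofMul_one] at h
      show (t ^ 4) (Additive.ofMul (QuotientGroup.mk x : S ⧸ Z')) -
        ((t ^ 3) (Additive.ofMul (QuotientGroup.mk x : S ⧸ Z')) + (t ^ 3) (Additive.ofMul (QuotientGroup.mk x : S ⧸ Z'))) +
        (t (Additive.ofMul (QuotientGroup.mk x : S ⧸ Z')) + t (Additive.ofMul (QuotientGroup.mk x : S ⧸ Z'))) -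
        Additive.ofMul (QuotientGroup.mk x : S ⧸ Z') = 0
      rw [htk, htk, ht]
      simp only [Function.iterate_succ_apply', Function.iterate_zero_apply]
      rw [← h]; abel
    have hr0 : (r : AddMonoid.End (Additive (S ⧸ Z'))) = 0 := by
      refine AddMonoidHom.ext fun a => ?_
      obtain ⟨q, rfl⟩ := Additive.ofMul.surjective a
      induction q using QuotientGroup.induction_on with | H x =>
      show r • Additive.ofMul (QuotientGroup.mk x : S ⧸ Z') = 0
      rw [← ofMul_pow, ← QuotientGroup.mk_pow, ← ofMul_one]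
      congr 1
      rw [hZ'mem]
      refine hrad _ fun y hy => ?_
      let Y : S := ⟨y, Subgroup.mem_sup_left hy⟩
      have h1 : ∀ k : ℕ, β (x ^ k) Y = β x Y ^ k := by
        intro k
        induction k with
        | zero => rw [pow_zero, pow_zero]; exact Subtype.ext (by rw [β_def]; simp)
        | succ k ih => rw [pow_succ, pow_succ, β_mul_left, ih]
      have h2 : β x Y ^ r = 1 := by
        obtain ⟨i, -, hi⟩ := hcomm x x.2 y Y.2
        apply Subtype.ext
        apply Units.ext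
        rw [SubgroupClass.coe_pow, Units.val_pow_eq_pow_val]
        show ((((x : GL (Fin n) F) * y * (x : GL (Fin n) F)⁻¹ * y⁻¹ : GL (Fin n) F)) : Matrix (Fin n) (Fin n) F) ^ r = 1
        rw [hi, smul_pow, one_pow, ← pow_mul, mul_comm, pow_mul, hζ.pow_eq_one, one_pow, one_smul]
      have h3 := congrArg Subtype.val ((h1 r).trans h2)
      rw [β_def, Subgroup.coe_one] at h3
      calc ((x ^ r : S) : GL (Fin n) F) * y
          = (((x ^ r : S) : GL (Fin n) F) * (Y : GL (Fin n) F) * ((x ^ r : S) : GL (Fin n) F)⁻¹ * (Y : GL (Fin n) F)⁻¹) * (y * ((x ^ r : S) : GL (Fin n) F)) := by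
            show _ = (((x ^ r : S) : GL (Fin n) F) * y * ((x ^ r : S) : GL (Fin n) F)⁻¹ * y⁻¹) * _
            group
        _ = _ := by rw [h3, one_mul]
    obtain ⟨hu4, hu3⟩ := unipotent_of_quartic hr hr0 (hϖ.odd_of_ne_two hϖ2) t htϖ h4
    have hDmem : ∀ x : S, (t - 1) (Additive.ofMul (QuotientGroup.mk x : S ⧸ Z')) =
        Additive.ofMul (QuotientGroup.mk (T x * x⁻¹) : S ⧸ Z') := by
      intro x
      show t (Additive.ofMul (QuotientGroup.mk x : S ⧸ Z')) - Additive.ofMul (QuotientGroup.mk x : S ⧸ Z') = _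
      rw [ht, QuotientGroup.mk_mul, QuotientGroup.mk_inv, ofMul_mul, ofMul_inv, sub_eq_add_neg]
    have ht1 : t - 1 ≠ 0 := by
      intro h
      apply hu₁
      have h1 := hDmem ⟨x₁, hx₁⟩
      rw [h] at h1
      change (0 : Additive (S ⧸ Z')) = _ at h1
      exact (hZ'mem _).1 (Additive.ofMul.injective (h1.symm.trans ofMul_one.symm))
    by_cases hrϖ : r = ϖ
    swap
    · exact ht1 (sub_eq_zero.2 (eq_one_of_unipotent hr hr0 hϖ hrϖ t htϖ hu4))
    -- now `r = ϖ ≥ 5`
    subst hrϖ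
    have hr5 : 5 ≤ r := by
      have h2 := hr.two_le
      have h4' : r ≠ 4 := fun h => by rw [h] at hr; norm_num at hr
      rcases Nat.lt_or_ge r 5 with h | h
      · exfalso; interval_cases r
        · exact hϖ2 rfl
        · exact h33 ⟨rfl, rfl⟩
        · exact h4' rfl
      · exact h
    obtain ⟨a, ha1, ha2⟩ : ∃ a, (t - 1) a ≠ 0 ∧ (t - 1) ((t - 1) a) = 0 := by
      obtain ⟨b, hb⟩ : ∃ b, (t - 1) b ≠ 0 := by
        by_contra h; push Not at h; exact ht1 (AddMonoidHom.ext h)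
      by_cases hb2 : (t - 1) ((t - 1) b) = 0
      · exact ⟨b, hb, hb2⟩
      · refine ⟨(t - 1) b, hb2, ?_⟩
        have h := DFunLike.congr_fun (hu3 (by omega)) b
        rw [pow_succ, pow_two] at h
        exact h
    obtain ⟨q, rfl⟩ := Additive.ofMul.surjective a
    induction q using QuotientGroup.induction_on with | H x =>
    rw [hDmem] at ha1 ha2
    rw [hDmem] at ha2
    set u : GL (Fin n) F := g * (x : GL (Fin n) F) * g⁻¹ * (x : GL (Fin n) F)⁻¹ with hu
    have huZ : u ∉ Z := by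
      intro h
      apply ha1
      rw [← ofMul_one]; congr 1
      exact (hZ'mem _).2 h
    have hgu : g * u * g⁻¹ * u⁻¹ ∈ Z :=
      (hZ'mem _).1 (Additive.ofMul.injective (ha2.trans ofMul_one.symm))
    obtain ⟨v, hv, hv0⟩ := hEne (x : GL (Fin n) F)
    have hgu1 : g * u = u * g := by
      have h := scalar_fix hgu hv0 (by
        rw [Units.val_mul, ← Matrix.mulVec_mulVec]
        conv_lhs => arg 2; arg 2; rw [← hEfix _ v hv]
        rw [H42.mulVec_inv_cancel]; exact hEfix' _ v hv)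
      calc g * u = (g * u * g⁻¹ * u⁻¹) * (u * g) := by group
        _ = u * g := by rw [h, one_mul]
    have hur : u ^ r = 1 := by
      have hmem : u ^ r ∈ Z := by
        have h := DFunLike.congr_fun hr0 (Additive.ofMul (QuotientGroup.mk (⟨u, huS _ x.2⟩ : S) : S ⧸ Z'))
        change r • Additive.ofMul (QuotientGroup.mk (⟨u, huS _ x.2⟩ : S) : S ⧸ Z') = 0 at h
        rw [← ofMul_pow, ← QuotientGroup.mk_pow, ← ofMul_one] at h
        exact (hZ'mem _).1 (Additive.ofMul.injective h)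
      refine scalar_fix hmem hv0 ?_
      have hpk : ∀ k : ℕ, ((u ^ k : GL (Fin n) F) : Matrix (Fin n) (Fin n) F) *ᵥ v = v := by
        intro k
        induction k with
        | zero => simp
        | succ k ih => rw [pow_succ', Units.val_mul, ← Matrix.mulVec_mulVec, ih]; exact hEfix _ v hv
      exact hpk r
    obtain ⟨γ, -, hγ⟩ := hcomm (x : GL (Fin n) F) x.2 u (huS _ x.2)
    exact hhalf (H42.two_finrank_le_of_quadratic hr5 ζ hζ g (x : GL (Fin n) F) u γ
      (by rw [hu]; group) hgu1 (hconjmat _ _ _ hγ) hur (hsmall u (huS _ x.2) huZ 1) c)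
  refine ⟨fun _ => ?_, fun h3 => ?_, fun h => ?_, fun h3 hn3 => ?_⟩
  · have h2 := Nat.mul_le_mul_right n hr.two_le
    nlinarith [hr.two_le]
  · by_cases hr3 : r = 3
    · subst hr3; omega
    · exact absurd (key (by omega) (fun h => hr3 h.2)) id
  · exact absurd (key (by omega) (fun h' => by omega)) id
  · exact absurd (key (by omega) (fun h => hn3 (h.2 ▸ hrn))) id

end Cfsg.Agent.S5877
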