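import Cfsg.Statements.S5883
import Cfsg.Agent.H92.FiH.Main

set_option autoImplicit false
open Cfsg

namespace Cfsg.Agent.S5883

/-- The constant 10 in the statement that H⁽¹⁰⁾ is perfect for every maximal subgroup H of a finite almost simple group cannot be lowered to 9: there exist a finite almost simple group G (with a non-abelian simple normal subgroup of trivial centralizer) and a maximal subgroup H of G whose ninth derived subgroup H⁽⁹⁾ is not perfect, i.e. H⁽¹⁰⁾ ≠ H⁽⁹⁾. (A solvable maximal subgroup of derived length 10 in the Fischer group Fi₂₃ is such an example.) -/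
theorem result :
    ∃ (G : Type) (_ : Group G) (_ : Finite G) (S H : Subgroup G), S.Normal ∧ IsSimpleGroup S ∧ ¬ IsMulCommutative S ∧
      Subgroup.centralizer (S : Set G) = ⊥ ∧ IsCoatom H ∧ derivedSeries H 10 ≠ derivedSeries H 9 := by
  haveI : IsSimpleGroup H92.FiM.G23 := H93.Fi23Order.isFi23.1
  haveI := H93.Fi23Cover.finite
  have hcenter := H92.FiH.eq_one_of_fix_gens.center_eq_bot
  refine ⟨H92.FiM.G23, inferInstance, inferInstance, ⊤, H92.FiH.M, inferInstance,
    Subgroup.topEquiv.isSimpleGroup_congr.mpr inferInstance, ?_, ?_, H92.FiH.M_coatom,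
    H92.FiH.derived_ten_ne⟩
  · intro hc
    have hall : Subgroup.center H92.FiM.G23 = ⊤ := by
      rw [eq_top_iff]
      intro x _
      rw [Subgroup.mem_center_iff]
      intro y
      exact congrArg Subtype.val
        (hc.is_comm.comm (⟨y, Subgroup.mem_top y⟩ : (⊤ : Subgroup H92.FiM.G23)) ⟨x, Subgroup.mem_top x⟩)
    rw [hcenter] at hall
    exact bot_ne_top hall
  · rw [Subgroup.coe_top, Subgroup.centralizer_univ]
    exact hcenter

end Cfsg.Agent.S5883
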