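import Cfsg.Statements.S5885
import Mathlib

set_option autoImplicit false
open Cfsg

namespace Cfsg.Agent.S5885

open MulAction
open scoped Pointwise

theorem primitive_on_orbit {G Ω : Type*} [Group G] [MulAction G Ω] [Fintype Ω] [DecidableEq Ω]
    (n : ℕ) (hn : Nat.card Ω = n) (hodd : Odd n)
    (halt : ∀ σ ∈ alternatingGroup Ω, ∃ g : G, ∀ x, g • x = σ x)
    (hP : ∀ L : Subgroup G, IsPreprimitive L Ω → ∀ σ ∈ alternatingGroup Ω, ∃ g ∈ L, ∀ x, g • x = σ x)
    (hGt : IsPretransitive G Ω) (a : Ω) {H K : Subgroup G} (hK : IsCoatom K)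
    (hHK : K ⊓ stabilizer G a = H) (hmax : IsCoatom (H.subgroupOf (stabilizer G a)))
    (hne : ¬ K ≤ stabilizer G a) : IsPreprimitive K (orbit K a) := by
  have hnc : Fintype.card Ω = n := by rw [← Nat.card_eq_fintype_card, hn]
  by_cases huniv : orbit K a = Set.univ
  · -- `K` is transitive, hence primitive
    haveI : IsPretransitive K Ω := by
      refine ⟨fun u v => ?_⟩
      obtain ⟨k1, h1⟩ : u ∈ orbit K a := huniv ▸ Set.mem_univ u
      obtain ⟨k2, h2⟩ : v ∈ orbit K a := huniv ▸ Set.mem_univ v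
      exact ⟨k2 * k1⁻¹, by rw [← h1, ← h2, mul_smul, inv_smul_smul]⟩
    suffices hp : IsPreprimitive K Ω by
      refine IsPreprimitive.of_surjective (f := { toFun := fun x => (⟨x, huniv ▸ Set.mem_univ x⟩ : orbit K a), map_smul' := fun _ _ => rfl : Ω →ₑ[@id K] orbit K a }) fun y => ⟨y, rfl⟩
    refine ⟨fun {B0} hB0 => ?_⟩
    by_contra htriv
    rw [IsTrivialBlock, not_or] at htriv
    obtain ⟨hsub0, huniv0⟩ := htriv
    obtain ⟨b, hb⟩ := (Set.not_subsingleton_iff.mp hsub0).nonempty
    obtain ⟨k, hk⟩ := exists_smul_eq K b a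
    set B := k • B0 with hBdef
    have hB : IsBlock K B := hB0.translate k
    have haB : a ∈ B := hk ▸ Set.smul_mem_smul_set hb
    have hsub : ¬ B.Subsingleton := fun h => hsub0 fun u hu v hv =>
      MulAction.injective k (h (Set.smul_mem_smul_set hu) (Set.smul_mem_smul_set hv))
    have hBuniv : B ≠ Set.univ := fun h => huniv0 (by
      rw [← smul_left_cancel_iff k, ← hBdef, h, Set.smul_set_univ])
    have key : ∀ g : G, g • a = a → (∀ x ∈ B, g • x = x) → g ∈ K := by
      intro g hga hgB
      have hle : H.subgroupOf (stabilizer G a) ≤ (stabilizer G B).subgroupOf (stabilizer G a) := by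
        intro h hh
        have hhK : (h : G) ∈ K ⊓ stabilizer G a := hHK.symm ▸ hh
        exact hB.smul_eq_of_mem (g := ⟨(h : G), hhK.1⟩) haB (by
          show (h : G) • a ∈ B
          rw [show (h : G) • a = a from hhK.2]; exact haB)
      rcases hle.eq_or_lt with he | hlt
      · have : (⟨g, hga⟩ : stabilizer G a) ∈ (stabilizer G B).subgroupOf (stabilizer G a) := by
          rw [Subgroup.mem_subgroupOf, mem_stabilizer_iff]
          refine Set.Subset.antisymm ?_ fun x hx => ⟨x, hx, hgB x hx⟩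
          rintro _ ⟨x, hx, rfl⟩
          show g • x ∈ B
          rw [hgB x hx]; exact hx
        rw [← he, Subgroup.mem_subgroupOf, ← hHK] at this
        exact this.1
      · exfalso
        have htop := hmax.2 _ hlt
        obtain ⟨b', hb'B, hb'a⟩ : ∃ b' ∈ B, b' ≠ a := by
          obtain ⟨u, hu, v, hv, huv⟩ := Set.not_subsingleton_iff.mp hsub
          by_cases hua : u = a
          · exact ⟨v, hv, fun e => huv (hua.trans e.symm)⟩
          · exact ⟨u, hu, hua⟩
        obtain ⟨z, hz⟩ := (Set.ne_univ_iff_exists_notMem B).mp hBuniv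
        have hza : z ≠ a := fun e => hz (e ▸ haB)
        have hzb : z ≠ b' := fun e => hz (e ▸ hb'B)
        obtain ⟨g', hg'⟩ : ∃ g' : G, g' • a = a ∧ g' • b' = z := by
          obtain ⟨w, hw⟩ : ∃ w, w ∉ ({a, b', z} : Finset Ω) ∨ Fintype.card Ω ≤ 3 := by
            rcases le_or_gt (Fintype.card Ω) 3 with h | h
            · exact ⟨a, Or.inr h⟩
            · obtain ⟨w, -, hw⟩ := Finset.exists_mem_notMem_of_card_lt_card (s := ({a, b', z} : Finset Ω))
                (t := Finset.univ) (by rw [Finset.card_univ]; exact lt_of_le_of_lt Finset.card_le_three h)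
              exact ⟨w, Or.inl hw⟩
          rcases hw with hw | hw
          · simp only [Finset.mem_insert, Finset.mem_singleton, not_or] at hw
            have hσ : Equiv.swap z w * Equiv.swap b' w ∈ alternatingGroup Ω := by
              rw [Equiv.Perm.mem_alternatingGroup, map_mul, Equiv.Perm.sign_swap (fun e => hw.2.2 e.symm),
                Equiv.Perm.sign_swap (fun e => hw.2.1 e.symm)]
              rfl
            obtain ⟨g', hg'⟩ := halt _ hσ
            refine ⟨g', ?_, ?_⟩
            · rw [hg', Equiv.Perm.mul_apply, Equiv.swap_apply_of_ne_of_ne hb'a.symm (fun e => hw.1 e.symm),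
                Equiv.swap_apply_of_ne_of_ne hza.symm (fun e => hw.1 e.symm)]
            · rw [hg', Equiv.Perm.mul_apply, Equiv.swap_apply_left, Equiv.swap_apply_right]
          · exfalso
            have h3 : n = 3 := by
              have : ({a, b', z} : Finset Ω).card = 3 := Finset.card_eq_three.mpr
                ⟨a, b', z, hb'a.symm, hza.symm, hzb.symm, rfl⟩
              have := Finset.card_le_univ ({a, b', z} : Finset Ω)
              omega
            have hd := hB.ncard_dvd_card ⟨a, haB⟩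
            rw [hn, h3, Nat.dvd_prime Nat.prime_three] at hd
            rcases hd with hd | hd
            · exact hsub (Set.ncard_le_one_iff_subsingleton.mp hd.le)
            · exact hBuniv (Set.eq_of_subset_of_ncard_le (Set.subset_univ _)
                (by rw [Set.ncard_univ, hn, h3, hd]))
        have : (⟨g', hg'.1⟩ : stabilizer G a) ∈ (stabilizer G B).subgroupOf (stabilizer G a) :=
          htop ▸ Subgroup.mem_top _
        rw [Subgroup.mem_subgroupOf, mem_stabilizer_iff] at this
        have h5 : g' • b' ∈ g' • B := Set.smul_mem_smul_set hb'B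
        rw [hg'.2] at h5
        change g' • B = B at this
        rw [this] at h5
        exact hz h5
    -- a second and a third block
    obtain ⟨x, hx⟩ := (Set.ne_univ_iff_exists_notMem B).mp hBuniv
    obtain ⟨k', hk'⟩ := exists_smul_eq K a x
    set B' := k' • B with hB'def
    have hxB' : x ∈ B' := hk' ▸ Set.smul_mem_smul_set haB
    have hB' : IsBlock K B' := hB.translate k'
    have hBB' : Disjoint B' B :=
      hB.disjoint_smul_of_ne fun e => hx (e ▸ hxB')
    have hcard : (B' ∪ B).ncard = 2 * B.ncard := by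
      rw [Set.ncard_union_eq hBB', hB'def, Set.ncard_smul_set, two_mul]
    obtain ⟨y, hy⟩ := (Set.ne_univ_iff_exists_notMem (B' ∪ B)).mp fun e => by
      rw [e, Set.ncard_univ, hn] at hcard
      obtain ⟨r, hr⟩ := hodd
      omega
    rw [Set.mem_union, not_or] at hy
    obtain ⟨x2, hx2B', hx2⟩ : ∃ x2 ∈ B', x2 ≠ x := by
      refine Set.exists_ne_of_one_lt_ncard ?_ x
      rw [hB'def, Set.ncard_smul_set]
      by_contra h
      exact hsub (Set.ncard_le_one_iff_subsingleton.mp (by omega))
    have hyx : y ≠ x := fun e => hy.1 (e ▸ hxB')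
    have hyx2 : y ≠ x2 := fun e => hy.1 (e ▸ hx2B')
    obtain ⟨g, hg⟩ := halt (Equiv.swap x y * Equiv.swap x2 x) (by
      rw [Equiv.Perm.mem_alternatingGroup, map_mul, Equiv.Perm.sign_swap hyx.symm, Equiv.Perm.sign_swap hx2]
      rfl)
    have hgfix : ∀ u ∈ B, g • u = u := by
      intro u hu
      have h1 : u ≠ x := fun e => hx (e ▸ hu)
      have h2 : u ≠ x2 := fun e => Set.disjoint_left.mp hBB' hx2B' (e ▸ hu)
      have h3 : u ≠ y := fun e => hy.2 (e ▸ hu)
      rw [hg, Equiv.Perm.mul_apply, Equiv.swap_apply_of_ne_of_ne h2 h1, Equiv.swap_apply_of_ne_of_ne h1 h3]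
    have hgK := key g (hgfix a haB) hgfix
    have h1 : g • x = x2 := by
      rw [hg, Equiv.Perm.mul_apply, Equiv.swap_apply_right, Equiv.swap_apply_of_ne_of_ne hx2 hyx2.symm]
    have e : (⟨g, hgK⟩ : K) • B' = B' := hB'.smul_eq_of_mem hxB' (show g • x ∈ B' from h1 ▸ hx2B')
    have h2 : g • x2 = y := by
      rw [hg, Equiv.Perm.mul_apply, Equiv.swap_apply_left, Equiv.swap_apply_left]
    exact hy.1 (h2 ▸ (e ▸ Set.smul_mem_smul_set (a := (⟨g, hgK⟩ : K)) hx2B' : g • x2 ∈ B'))
  · -- `K` is the full stabiliser of its orbit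
    set O := orbit K a with hO
    have hKS : K ≤ stabilizer G O := fun k hk => by
      rw [mem_stabilizer_iff]
      exact smul_orbit (⟨k, hk⟩ : K) a
    have hS : stabilizer G O = K := by
      refine ((hK.le_iff).mp hKS).resolve_left fun htop => huniv (Set.eq_univ_of_forall fun u => ?_)
      obtain ⟨g, hg⟩ := exists_smul_eq G a u
      have : g • O = O := (htop ▸ Subgroup.mem_top g : g ∈ stabilizer G O)
      exact hg ▸ this ▸ Set.smul_mem_smul_set (mem_orbit_self a)
    by_cases h2 : Nat.card O = 2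
    · haveI : IsPretransitive K O := inferInstance
      exact IsPreprimitive.of_prime_card (h2.symm ▸ Nat.prime_two)
    refine isPreprimitive_of_is_two_pretransitive ((is_two_pretransitive_iff).mpr ?_)
    intro p q u v hpq huv
    classical
    have hpq' : (p : Ω) ≠ q := fun e => hpq (Subtype.ext e)
    have huv' : (u : Ω) ≠ v := fun e => huv (Subtype.ext e)
    set τ : Equiv.Perm Ω := Equiv.swap (Equiv.swap (p : Ω) u q) v * Equiv.swap (p : Ω) u with hτ
    have hswap : ∀ c d : Ω, c ∈ O → d ∈ O → ∀ w ∈ O, Equiv.swap c d w ∈ O := by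
      intro c d hc hd w hw
      rw [Equiv.swap_apply_def]
      split_ifs <;> assumption
    have hτp : τ p = u := by
      rw [hτ, Equiv.Perm.mul_apply, Equiv.swap_apply_left]
      refine Equiv.swap_apply_of_ne_of_ne ?_ huv'
      intro e
      exact hpq' ((Equiv.swap (p : Ω) u).injective ((Equiv.swap_apply_left _ _).trans e))
    have hτq : τ q = v := by
      rw [hτ, Equiv.Perm.mul_apply, Equiv.swap_apply_left]
    have hτO : ∀ w ∈ O, τ w ∈ O := fun w hw =>
      hswap _ _ (hswap _ _ p.2 u.2 _ q.2) v.2 _ (hswap _ _ p.2 u.2 _ hw)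
    obtain ⟨σ, hσA, hσO, hσp, hσq⟩ : ∃ σ : Equiv.Perm Ω, σ ∈ alternatingGroup Ω ∧
        (∀ w ∈ O, σ w ∈ O) ∧ σ p = u ∧ σ q = v := by
      rcases Int.units_eq_one_or (Equiv.Perm.sign τ) with h | h
      · exact ⟨τ, Equiv.Perm.mem_alternatingGroup.mpr h, hτO, hτp, hτq⟩
      obtain ⟨c, d, hcd, hcu, hcv, hdu, hdv, hiff⟩ : ∃ c d : Ω, c ≠ d ∧ c ≠ u ∧ c ≠ v ∧ d ≠ u ∧ d ≠ v ∧
          (c ∈ O ↔ d ∈ O) := by
        by_cases hc : 2 ≤ Oᶜ.ncard
        · obtain ⟨c, hc1, d, hd1, hcd⟩ := (Set.one_lt_ncard (s := Oᶜ)).mp (by omega)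
          exact ⟨c, d, hcd, fun e => hc1 (e ▸ u.2), fun e => hc1 (e ▸ v.2), fun e => hd1 (e ▸ u.2),
            fun e => hd1 (e ▸ v.2), iff_of_false hc1 hd1⟩
        · have h1 := Set.ncard_add_ncard_compl O
          have hpos : 0 < Oᶜ.ncard := (Set.ncard_pos).mpr (by rwa [Set.nonempty_compl])
          have hO2 : 2 ≤ O.ncard := (Set.one_lt_ncard).mpr ⟨_, p.2, _, q.2, hpq'⟩
          rw [Nat.card_coe_set_eq] at h2
          obtain ⟨r, hr⟩ := hodd
          obtain ⟨c, hc1, d, hd1, hcd⟩ := (Set.one_lt_ncard (s := O \ {(u : Ω), (v : Ω)})).mp (by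
            have := Set.ncard_le_ncard_sdiff_add_ncard O {(u : Ω), (v : Ω)}
            rw [Set.ncard_pair huv'] at this
            omega)
          simp only [Set.mem_sdiff, Set.mem_insert_iff, Set.mem_singleton_iff, not_or] at hc1 hd1
          exact ⟨c, d, hcd, hc1.2.1, hc1.2.2, hd1.2.1, hd1.2.2, iff_of_true hc1.1 hd1.1⟩
      refine ⟨Equiv.swap c d * τ, ?_, fun w hw => ?_, ?_, ?_⟩
      · rw [Equiv.Perm.mem_alternatingGroup, map_mul, h, Equiv.Perm.sign_swap hcd]
        rfl
      · rw [Equiv.Perm.mul_apply, Equiv.swap_apply_def]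
        split_ifs with h1 h3
        · exact hiff.mp (h1 ▸ hτO w hw)
        · exact hiff.mpr (h3 ▸ hτO w hw)
        · exact hτO w hw
      · rw [Equiv.Perm.mul_apply, hτp, Equiv.swap_apply_of_ne_of_ne hcu.symm hdu.symm]
      · rw [Equiv.Perm.mul_apply, hτq, Equiv.swap_apply_of_ne_of_ne hcv.symm hdv.symm]
    obtain ⟨g, hg⟩ := halt σ hσA
    have hgO : g • O = O := by
      refine Set.eq_of_subset_of_ncard_le ?_ (by rw [Set.ncard_smul_set])
      rintro _ ⟨w, hw, rfl⟩
      show g • w ∈ O
      rw [hg]; exact hσO w hw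
    exact ⟨⟨g, hS ▸ hgO⟩, Subtype.ext ((hg p).trans hσp), Subtype.ext ((hg q).trans hσq)⟩

/-- Let n be an odd positive integer such that every primitive permutation group of degree n contains the alternating group (so the symmetric and alternating groups are the only primitive groups of degree n). Let G be a finite group, M a maximal subgroup of G of index n, and H a maximal subgroup of M. Then H is a second maximal subgroup of G: H is maximal in every maximal subgroup K of G containing H. -/
theorem result {G : Type*} [Group G]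
    [Finite G] (n : ℕ) (hodd : Odd n)
    (hA : ∀ P : Subgroup (Equiv.Perm (Fin n)), MulAction.IsPreprimitive P (Fin n) → alternatingGroup (Fin n) ≤ P)
    (M : Subgroup G) (hM : IsCoatom M) (hn : M.index = n) (H : Subgroup G) (hHM : H ≤ M)
    (hmax : IsCoatom (H.subgroupOf M)) (K : Subgroup G) (hK : IsCoatom K) (hHK : H ≤ K) :
    IsCoatom (H.subgroupOf K) := by
  classical
  by_cases hKM : K ≤ M
  · have := (hK.le_iff).mp hKM
    rcases this with h | h
    · exact absurd h hM.1
    · exact h.symm ▸ hmax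
  have hMK : ¬ M ≤ K := fun h => by
    rcases (hM.le_iff).mp h with h' | h'
    · exact hK.1 h'
    · exact hKM h'.le
  have hint : K ⊓ M = H := by
    have hle : H.subgroupOf M ≤ K.subgroupOf M := fun x hx => hHK hx
    rcases hle.eq_or_lt with he | hlt
    · refine le_antisymm (fun x hx => ?_) (le_inf hHK hHM)
      have : (⟨x, hx.2⟩ : M) ∈ K.subgroupOf M := hx.1
      rwa [← he] at this
    · exact absurd (Subgroup.subgroupOf_eq_top.mp (hmax.2 _ hlt)) hMK
  haveI : Fintype (G ⧸ M) := Fintype.ofFinite _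
  have hncard : Nat.card (G ⧸ M) = n := by rw [← Subgroup.index_eq_card, hn]
  have hn2 : 2 ≤ n := by
    rcases Nat.lt_or_ge M.index 2 with h | h
    · have : M.index = 1 := by have := Subgroup.index_ne_zero_of_finite (H := M); omega
      exact absurd (Subgroup.index_eq_one.mp this) hM.1
    · omega
  haveI : Nontrivial (G ⧸ M) := Finite.one_lt_card_iff_nontrivial.mp (by omega)
  obtain ⟨e⟩ : Nonempty (G ⧸ M ≃ Fin n) := Finite.card_eq.mp (by rw [hncard, Nat.card_fin])
  have hP : ∀ L : Subgroup G, IsPreprimitive L (G ⧸ M) → ∀ σ ∈ alternatingGroup (G ⧸ M),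
      ∃ g ∈ L, ∀ x, g • x = σ x := by
    intro L hL σ hσ
    set P : Subgroup (Equiv.Perm (Fin n)) :=
      L.map (e.permCongrHom.toMonoidHom.comp (MulAction.toPermHom G (G ⧸ M))) with hPdef
    let φ : L → P := fun g => ⟨_, Subgroup.mem_map_of_mem _ g.2⟩
    let f : (G ⧸ M) →ₑ[φ] Fin n :=
      { toFun := e
        map_smul' := fun g x => by
          show e ((g : G) • x) = e.permCongrHom (MulAction.toPermHom G (G ⧸ M) (g : G)) (e x)
          simp }
    have hp : IsPreprimitive P (Fin n) := IsPreprimitive.of_surjective (f := f) e.surjective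
    obtain ⟨g, hg, hge⟩ := hA P hp (show e.permCongr σ ∈ alternatingGroup (Fin n) by
      rw [Equiv.Perm.mem_alternatingGroup, Equiv.Perm.sign_permCongr]; exact hσ)
    refine ⟨g, hg, fun x => ?_⟩
    have := e.permCongrHom.injective hge
    exact Equiv.Perm.ext_iff.mp this x
  have hGp : IsPreprimitive G (G ⧸ M) := by
    refine (isCoatom_stabilizer_iff_preprimitive G ((1 : G) : G ⧸ M)).mp ?_
    rwa [MulAction.stabilizer_quotient]
  have halt : ∀ σ ∈ alternatingGroup (G ⧸ M), ∃ g : G, ∀ x, g • x = σ x := fun σ hσ => by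
    obtain ⟨g, -, hg⟩ := hP ⊤ (IsPreprimitive.of_surjective (f := { toFun := id, map_smul' := fun _ _ => rfl : (G ⧸ M) →ₑ[fun g : G => (⟨g, Subgroup.mem_top g⟩ : (⊤ : Subgroup G))] (G ⧸ M) }) Function.surjective_id) σ hσ
    exact ⟨g, hg⟩
  set a : G ⧸ M := ((1 : G) : G ⧸ M) with ha
  have hMa : stabilizer G a = M := MulAction.stabilizer_quotient M
  have hprim := primitive_on_orbit n hncard hodd halt hP hGp.toIsPretransitive a (H := H) (K := K) hK
    (by rw [hMa]; exact hint) (by rw [hMa]; exact hmax) (by rw [hMa]; exact hKM)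
  haveI : Nontrivial (orbit K a) := by
    obtain ⟨k, hk, hkM⟩ := SetLike.not_le_iff_exists.mp hKM
    refine ⟨⟨⟨(⟨k, hk⟩ : K) • a, mem_orbit a _⟩, ⟨a, mem_orbit_self a⟩, fun he => hkM ?_⟩⟩
    rw [← hMa]
    exact congrArg Subtype.val he
  have hco := (isCoatom_stabilizer_iff_preprimitive K (⟨a, mem_orbit_self a⟩ : orbit K a)).mpr hprim
  have he : stabilizer K (⟨a, mem_orbit_self a⟩ : orbit K a) = H.subgroupOf K := by
    ext k
    have hk' : (k : G) • a = a ↔ (k : G) ∈ M := SetLike.ext_iff.mp hMa (k : G)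
    rw [mem_stabilizer_iff, Subgroup.mem_subgroupOf, ← hint, Subgroup.mem_inf, ← hk', Subtype.ext_iff]
    exact ⟨fun h => ⟨k.2, h⟩, fun h => h.2⟩
  rwa [he] at hco

end Cfsg.Agent.S5885
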