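import Cfsg.Statements.S5886
import Cfsg.Agent.H42.ExtFieldMax
-- import your own Cfsg.Agent.* helpers here

set_option autoImplicit false
open Cfsg

namespace Cfsg.Agent.S5886

/-- Let F be a finite field, n a positive integer and r a prime that divides n with r < n. Let K be a subalgebra of the algebra of n × n matrices over F which is a field of degree r over F (commutative, every non-zero element invertible, of dimension r over F; it contains the scalars). Then the normaliser N of K in GL_n(F) — the invertible F-linear maps that are semilinear over the field K, a group of type ΓL_{n/r}(F_{q^r}) for |F| = q — is a maximal subgroup of GL_n(F), and N ∩ SL_n(F) is a maximal subgroup of SL_n(F). No lower bound on n is assumed. -/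
theorem result {F : Type*} [Field F]
    [Fintype F] (n r : ℕ) (hr : r.Prime) (hrn : r ∣ n) (hlt : r < n) (K : Subalgebra F (Matrix (Fin n) (Fin n) F))
    (hK : Cfsg.Geo.IsFieldSubalgebra r K) :
    IsCoatom (Cfsg.Geo.subalgebraNormalizer K) ∧
      Cfsg.Geo.IsMaximalIn (Cfsg.Geo.specialLinear (Fin n) F)
        (Cfsg.Geo.subalgebraNormalizer K ⊓ Cfsg.Geo.specialLinear (Fin n) F) := by
  obtain ⟨g, hgSL, -, hgN⟩ := H42.exists_centralizing_not_normalizing (F := F) hlt K hK ⊥ (by
    refine lt_of_le_of_ne bot_le fun h => ?_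
    have h1 := hK.finrank_eq
    haveI : NeZero n := ⟨by omega⟩
    rw [← h, Subalgebra.finrank_bot] at h1
    exact hr.ne_one h1.symm)
  have hcore := fun M hM => H42.ExtField.sl_le_or_le_normalizer hr hlt K hK M hM
  refine ⟨⟨fun h => hgN (h ▸ Subgroup.mem_top _), fun M hM => ?_⟩,
    ⟨lt_of_le_of_ne inf_le_right fun h => hgN ((h.symm ▸ hgSL : g ∈ Cfsg.Geo.subalgebraNormalizer K ⊓ Cfsg.Geo.specialLinear (Fin n) F)).1, fun M hM1 hM2 => ?_⟩⟩
  · rcases hcore M (le_trans inf_le_left hM.le) with h | h
    · rw [eq_top_iff]
      intro x _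
      obtain ⟨y, hy, hyN⟩ := H42.ExtField.exists_normalizing_det hlt K hK (Matrix.GeneralLinearGroup.det x)
      have h1 : x * y⁻¹ ∈ M := h (by
        rw [Cfsg.Geo.specialLinear, MonoidHom.mem_ker, map_mul, map_inv, hy, mul_inv_cancel])
      have h2 := mul_mem h1 (hM.le hyN)
      rwa [inv_mul_cancel_right] at h2
    · exact absurd h hM.not_ge
  · rcases hcore M hM1 with h | h
    · exact Or.inr (le_antisymm hM2 h)
    · exact Or.inl (le_antisymm (le_inf h hM2) hM1)

end Cfsg.Agent.S5886
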