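import Cfsg.Statements.S5887
import Cfsg.Agent.H42.FieldSubalgebra

set_option autoImplicit false
set_option linter.style.haveILetI false
open Cfsg

namespace Cfsg.Agent.S5887

open H42 in
/-- Let F be a finite field, n a positive integer and r a composite number (r > 1, not prime) that divides n with r < n. Let K be a subalgebra of the algebra of n × n matrices over F which is a field of degree r over F (commutative, every non-zero element invertible, of dimension r over F). Then the normaliser N of K in GL_n(F) (a group of type ΓL_{n/r}(F_{q^r})) is not a maximal subgroup of GL_n(F), and N ∩ SL_n(F) is not a maximal subgroup of SL_n(F): both lie properly inside the normaliser of an intermediate subfield of prime degree over F. -/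
theorem result {F : Type*} [Field F]
    [Fintype F] (n r : ℕ) (hr1 : 1 < r) (hrp : ¬ r.Prime) (hrn : r ∣ n) (hlt : r < n)
    (K : Subalgebra F (Matrix (Fin n) (Fin n) F)) (hK : Cfsg.Geo.IsFieldSubalgebra r K) :
    ¬ IsCoatom (Cfsg.Geo.subalgebraNormalizer K) ∧
      ¬ Cfsg.Geo.IsMaximalIn (Cfsg.Geo.specialLinear (Fin n) F)
        (Cfsg.Geo.subalgebraNormalizer K ⊓ Cfsg.Geo.specialLinear (Fin n) F) := by
  haveI : NeZero n := ⟨by omega⟩
  set q := Fintype.card F with hq
  have hq2 : 2 ≤ q := Fintype.one_lt_card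
  set d := r.minFac with hd
  have hdr : d ∣ r := Nat.minFac_dvd r
  have hd2 : 2 ≤ d := (Nat.minFac_prime (by omega)).two_le
  have hdlt : d < r := lt_of_le_of_ne (Nat.le_of_dvd (by omega) hdr)
    fun h => hrp (h ▸ Nat.minFac_prime (by omega))
  have hqd : q ^ 1 < q ^ d := Nat.pow_lt_pow_right hq2 hd2
  have hqr : q ^ d < q ^ r := Nat.pow_lt_pow_right hq2 hdlt
  letI : Field ↥K := (isField_of_isFieldSubalgebra hK).toField
  have hpowval : ∀ (x : ↥K) (m : ℕ), ((x ^ m : ↥K) : Matrix (Fin n) (Fin n) F) =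
      (x : Matrix (Fin n) (Fin n) F) ^ m := fun x m => map_pow K.val x m
  haveI : Finite ↥K := Module.finite_of_finite F
  haveI := Fintype.ofFinite ↥K
  let φ : ↥K →ₐ[F] ↥K := (FiniteField.frobeniusAlgHom F ↥K) ^ d
  have hφ : ∀ x : ↥K, φ x = x ^ q ^ d := by
    intro x
    simp [φ, AlgHom.coe_pow, FiniteField.coe_frobeniusAlgHom, pow_iterate, hq]
  set K1 := (AlgHom.equalizer φ (AlgHom.id F ↥K)).map K.val with hK1
  have hmem : ∀ x, x ∈ K1 ↔ x ∈ K ∧ x ^ q ^ d = x := by
    intro x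
    rw [hK1, Subalgebra.mem_map]
    constructor
    · rintro ⟨y, hy, rfl⟩
      rw [AlgHom.mem_equalizer, hφ] at hy
      exact ⟨y.2, (hpowval y _).symm.trans (congrArg Subtype.val hy)⟩
    · rintro ⟨hxK, hx⟩
      refine ⟨⟨x, hxK⟩, ?_, rfl⟩
      rw [AlgHom.mem_equalizer, hφ]
      exact Subtype.ext ((hpowval _ _).trans hx)
  obtain ⟨g, hg⟩ := IsCyclic.exists_ofOrder_eq_natCard (α := (↥K)ˣ)
  have hcard : Nat.card (↥K)ˣ = q ^ r - 1 := by
    rw [Nat.card_units, Module.natCard_eq_pow_finrank (K := F), hK.finrank_eq, Nat.card_eq_fintype_card]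
  rw [hcard] at hg
  have hdvd : q ^ d - 1 ∣ q ^ r - 1 := Nat.pow_sub_one_dvd_pow_sub_one q hdr
  rw [pow_one] at hqd
  have hpd : 0 < q ^ d - 1 := Nat.sub_pos_of_lt (lt_of_le_of_lt (by omega : 1 ≤ q) hqd)
  have hpr : 0 < q ^ r - 1 := Nat.sub_pos_of_lt (lt_trans (lt_of_le_of_lt (by omega : 1 ≤ q) hqd) hqr)
  set h := g ^ ((q ^ r - 1) / (q ^ d - 1)) with hh
  have hord : orderOf h = q ^ d - 1 := by
    rw [hh, orderOf_pow_of_dvd (Nat.div_pos (Nat.le_of_dvd hpr hdvd) hpd).ne'
      (by rw [hg]; exact Nat.div_dvd_of_dvd hdvd), hg, Nat.div_div_self hdvd hpr.ne']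
  have hh1 : ((h : ↥K) : Matrix (Fin n) (Fin n) F) ∈ K1 := by
    rw [hmem, ← hpowval]
    refine ⟨(h : ↥K).2, ?_⟩
    have : h ^ (q ^ d) = h := by
      rw [show q ^ d = (q ^ d - 1) + 1 by omega, pow_succ, ← hord, pow_orderOf_eq_one, one_mul]
    rw [← Units.val_pow_eq_pow_val, this]
  have hhbot : ((h : ↥K) : Matrix (Fin n) (Fin n) F) ∉ (⊥ : Subalgebra F (Matrix (Fin n) (Fin n) F)) := by
    rw [Algebra.mem_bot]
    rintro ⟨c, hc⟩
    have hch : algebraMap F ↥K c = (h : ↥K) := Subtype.ext hc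
    have hc0 : c ≠ 0 := by
      rintro rfl
      rw [map_zero] at hch
      exact h.ne_zero hch.symm
    have hpow : h ^ (q - 1) = 1 := by
      apply Units.ext
      rw [Units.val_pow_eq_pow_val, ← hch, ← map_pow, hq, FiniteField.pow_card_sub_one_eq_one c hc0,
        map_one, Units.val_one]
    have := Nat.le_of_dvd (by omega) (orderOf_dvd_of_pow_eq_one hpow)
    rw [hord] at this
    omega
  have hK1K : K1 < K := by
    refine lt_of_le_of_ne (fun x hx => ((hmem x).1 hx).1) fun heq => ?_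
    have hgm : ((g : ↥K) : Matrix (Fin n) (Fin n) F) ∈ K1 := (le_of_eq heq.symm) (g : ↥K).2
    rw [hmem, ← hpowval] at hgm
    replace hgm := hgm
    have h1 : g ^ (q ^ d) = g := Units.ext (by rw [Units.val_pow_eq_pow_val]; exact Subtype.ext hgm.2)
    have h2 : g ^ (q ^ d - 1) = 1 := by
      rw [← Nat.sub_add_cancel (show 1 ≤ q ^ d by omega), pow_succ] at h1
      exact mul_eq_right.1 h1
    have := Nat.le_of_dvd (by omega) (orderOf_dvd_of_pow_eq_one h2)
    omega
  have hK1f : Cfsg.Geo.IsFieldSubalgebra (Module.finrank F K1) K1 := by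
    refine ⟨fun x hx y hy => hK.comm x (hK1K.le hx) y (hK1K.le hy), ?_, rfl⟩
    intro x hx hx0
    rw [hK1, Subalgebra.mem_map] at hx
    obtain ⟨y, hy, rfl⟩ := hx
    have hy0 : y ≠ 0 := fun h0 => hx0 (by rw [h0, map_zero])
    refine ⟨K.val y⁻¹, ?_, ?_⟩
    · rw [hK1, Subalgebra.mem_map]
      refine ⟨y⁻¹, ?_, rfl⟩
      rw [AlgHom.mem_equalizer] at hy ⊢
      rw [map_inv₀, map_inv₀, hy]
    · rw [← map_mul, mul_inv_cancel₀ hy0, map_one]
  have hr1lt : Module.finrank F K1 < n := by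
    refine lt_of_le_of_lt ?_ hlt
    rw [← hK.finrank_eq]
    exact Submodule.finrank_mono (show Subalgebra.toSubmodule K1 ≤ Subalgebra.toSubmodule K from hK1K.le)
  obtain ⟨a, haSL, -, haN1⟩ := exists_centralizing_not_normalizing hr1lt K1 hK1f ⊥
    (bot_lt_iff_ne_bot.2 fun hbot => hhbot (hbot ▸ hh1))
  obtain ⟨b, hbSL, hbC, hbN⟩ := exists_centralizing_not_normalizing hlt K hK K1 hK1K
  have hle : Cfsg.Geo.subalgebraNormalizer K ≤ Cfsg.Geo.subalgebraNormalizer K1 := by
    intro x hx k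
    rw [hmem, hmem, ← hx k]
    refine and_congr_right fun _ => ?_
    rw [Units.conj_pow x k (q ^ d), Units.mul_left_inj, Units.mul_right_inj]
  have hb1 : b ∈ Cfsg.Geo.subalgebraNormalizer K1 := by
    intro k
    constructor
    · intro hk
      rw [hbC k hk, mul_assoc, Units.mul_inv, mul_one]
      exact hk
    · intro hk
      have h := hbC _ hk
      rw [mul_assoc _ _ (b : Matrix (Fin n) (Fin n) F), Units.inv_mul, mul_one, Units.mul_right_inj] at h
      rwa [h] at hk
  refine ⟨fun hco => ?_, fun hmax => ?_⟩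
  · have hlt' : Cfsg.Geo.subalgebraNormalizer K < Cfsg.Geo.subalgebraNormalizer K1 :=
      lt_of_le_of_ne hle fun heq => hbN (heq ▸ hb1)
    exact haN1 (hco.2 _ hlt' ▸ Subgroup.mem_top a)
  · rcases hmax.2 (Cfsg.Geo.subalgebraNormalizer K1 ⊓ Cfsg.Geo.specialLinear (Fin n) F)
      (inf_le_inf_right _ hle) inf_le_right with heq | heq
    · exact hbN (Subgroup.mem_inf.1 (heq ▸ Subgroup.mem_inf.2 ⟨hb1, hbSL⟩)).1
    · exact haN1 (Subgroup.mem_inf.1 (heq.symm ▸ haSL)).1

end Cfsg.Agent.S5887
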