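import Cfsg.Statements.S5892
import Cfsg.Agent.H42.PSL2Odd

set_option autoImplicit false
open Cfsg

namespace Cfsg.Agent.S5892

/-- Let F be a finite field of odd order q ≥ 5 and characteristic p, and let M be a maximal subgroup of PSL₂(F). Then one of the following holds: |M| = q(q − 1)/2 (the stabiliser of a point of the projective line); q ≥ 13 and M is dihedral of order q − 1; q ∉ {7, 9} and M is dihedral of order q + 1; q = q₀² and M ≅ PGL₂(F₀) with |F₀| = q₀; q = q₀^r for an odd prime r and M ≅ PSL₂(F₀) with |F₀| = q₀; q ≡ ±1 (mod 10) with q = p or q = p², p ≡ ±3 (mod 10), and M ≅ A₅; q = p ≡ ±3 (mod 8), q ≢ ±1 (mod 10), and M ≅ A₄; or q = p ≡ ±1 (mod 8) and M ≅ S₄. -/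
theorem result {F : Type*} [Field F] [Fintype F] (p : ℕ)
    [Fact p.Prime] [CharP F p] (hodd : Odd (Fintype.card F)) (h5 : 5 ≤ Fintype.card F)
    (M : Subgroup (Matrix.ProjectiveSpecialLinearGroup (Fin 2) F)) (hM : IsCoatom M) :
    2 * Nat.card M = Fintype.card F * (Fintype.card F - 1) ∨
    (13 ≤ Fintype.card F ∧ (∃ k : ℕ, 2 * k = Fintype.card F - 1 ∧ Nonempty (M ≃* DihedralGroup k))) ∨
    (Fintype.card F ≠ 7 ∧ Fintype.card F ≠ 9 ∧ (∃ k : ℕ, 2 * k = Fintype.card F + 1 ∧ Nonempty (M ≃* DihedralGroup k))) ∨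
    (∃ (F₀ : Type) (_ : Field F₀) (_ : Fintype F₀), Fintype.card F = Fintype.card F₀ ^ 2 ∧
        Nonempty (M ≃* Matrix.ProjGenLinGroup (Fin 2) F₀)) ∨
    (∃ (F₀ : Type) (_ : Field F₀) (_ : Fintype F₀) (r : ℕ), r.Prime ∧ Odd r ∧ Fintype.card F = Fintype.card F₀ ^ r ∧
        Nonempty (M ≃* Matrix.ProjectiveSpecialLinearGroup (Fin 2) F₀)) ∨
    ((Fintype.card F % 10 = 1 ∨ Fintype.card F % 10 = 9) ∧
        (Fintype.card F = p ∨ (Fintype.card F = p ^ 2 ∧ (p % 10 = 3 ∨ p % 10 = 7))) ∧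
        Nonempty (M ≃* alternatingGroup (Fin 5))) ∨
    (Fintype.card F = p ∧ (p % 8 = 3 ∨ p % 8 = 5) ∧ ¬ (p % 10 = 1 ∨ p % 10 = 9) ∧
        Nonempty (M ≃* alternatingGroup (Fin 4))) ∨
    (Fintype.card F = p ∧ (p % 8 = 1 ∨ p % 8 = 7) ∧ Nonempty (M ≃* Equiv.Perm (Fin 4))) := by
  classical
  have hd : Nat.gcd 2 (Fintype.card F - 1) = 2 := H39.gcd_eq_two hodd
  obtain ⟨j, hj⟩ := hodd
  rcases H42.maximal_cases p (by omega) M hM with ⟨P, h⟩ | ⟨c, hc, h⟩ | ⟨P, K, r, hr, hF, h⟩ |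
    ⟨-, hq, ⟨e⟩⟩ | ⟨-, hq, ⟨e⟩⟩ | ⟨-, hq, ⟨e⟩⟩
  · left
    rw [Nat.card_congr (H42.cjEquiv P M).toEquiv, h, H39.card_borelP, hd, ← mul_assoc, mul_comm 2, mul_assoc]
    congr 1; omega
  · obtain ⟨e⟩ := H39.normalizer_tor_dihedral p hc
    obtain ⟨hx1, hx2⟩ := H42.torus_exceptions p ⟨j, hj⟩ h5 hc (h ▸ hM)
    have h1 := (H39.tor_trichotomy p hc).1
    rw [hd] at h1
    rcases h1 with h1 | h1
    · exact Or.inr (Or.inr (Or.inl ⟨(hx2 h1).1, (hx2 h1).2, _, by omega,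
        ⟨(MulEquiv.subgroupCongr h).trans e⟩⟩))
    · exact Or.inr (Or.inl ⟨hx1 h1, _, by omega, ⟨(MulEquiv.subgroupCongr h).trans e⟩⟩)
  · haveI : Fintype K := Fintype.ofFinite K
    obtain ⟨F₀, i1, i2, hc0, ⟨e₀⟩⟩ := H42.exists_type0_field p K
    rcases hr.eq_two_or_odd' with rfl | hro
    · obtain ⟨e⟩ := (H42.nonempty_equiv_subfield hF h).1 (Or.inl even_two)
      exact Or.inr (Or.inr (Or.inr (Or.inl ⟨F₀, i1, i2, by rw [hc0]; exact hF, ⟨e.trans (H39.pglCongr e₀)⟩⟩)))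
    · obtain ⟨e⟩ := (H42.nonempty_equiv_subfield hF h).2 (Or.inl hro)
      exact Or.inr (Or.inr (Or.inr (Or.inr (Or.inl ⟨F₀, i1, i2, r, hr, hro, by rw [hc0]; exact hF,
        ⟨e.trans (H39.pslCongr e₀)⟩⟩))))
  · obtain ⟨h8, h10⟩ := H42.alt4_conditions p ⟨j, hj⟩ h5 hq hM e
    exact Or.inr (Or.inr (Or.inr (Or.inr (Or.inr (Or.inr (Or.inl ⟨hq, h8, h10, ⟨e⟩⟩))))))
  · have h16 := (H39.exists_perm4_iff p).1 ⟨M, ⟨e⟩⟩
    refine Or.inr (Or.inr (Or.inr (Or.inr (Or.inr (Or.inr (Or.inr ⟨hq, ?_, ⟨e⟩⟩))))))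
    rw [hq, Nat.pow_mod] at h16
    have := Nat.mod_lt p (show 16 > 0 by norm_num)
    interval_cases hr : p % 16 <;> simp at h16 <;> omega
  · obtain ⟨h10, h⟩ := H42.alt5_conditions p ⟨j, hj⟩ hM.1 hq e
    exact Or.inr (Or.inr (Or.inr (Or.inr (Or.inr (Or.inl ⟨h10, h, ⟨e⟩⟩)))))

end Cfsg.Agent.S5892
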