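import Cfsg.Statements.S5893
import Cfsg.Agent.H42.PSL2CaseTools

set_option autoImplicit false
open Cfsg

namespace Cfsg.Agent.S5893

/-- Let F be a finite field of even order q ≥ 4 and let M be a maximal subgroup of PSL₂(F) (= SL₂(F) = PGL₂(F)). Then one of the following holds: |M| = q(q − 1) (the stabiliser of a point of the projective line, elementary abelian of order q extended by a cyclic group of order q − 1); M is dihedral of order 2(q − 1); M is dihedral of order 2(q + 1); or q = q₀^r for a prime r with q₀ ≠ 2 and M ≅ PSL₂(F₀) with |F₀| = q₀. -/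
theorem result {F : Type*} [Field F] [Fintype F]
    (heven : Even (Fintype.card F)) (h4 : 4 ≤ Fintype.card F) (M : Subgroup (Matrix.ProjectiveSpecialLinearGroup (Fin 2) F)) (hM : IsCoatom M) :
    Nat.card M = Fintype.card F * (Fintype.card F - 1) ∨
    Nonempty (M ≃* DihedralGroup (Fintype.card F - 1)) ∨
    Nonempty (M ≃* DihedralGroup (Fintype.card F + 1)) ∨
    (∃ (F₀ : Type) (_ : Field F₀) (_ : Fintype F₀) (r : ℕ), r.Prime ∧ Fintype.card F₀ ≠ 2 ∧
        Fintype.card F = Fintype.card F₀ ^ r ∧ Nonempty (M ≃* Matrix.ProjectiveSpecialLinearGroup (Fin 2) F₀)) := by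
  classical
  obtain ⟨p, hp⟩ := CharP.exists F
  obtain ⟨b, hpp, hb⟩ := FiniteField.card F p
  haveI : Fact p.Prime := ⟨hpp⟩
  have hp2 : p = 2 := ((Nat.prime_dvd_prime_iff_eq Nat.prime_two hpp).1
    (Nat.prime_two.dvd_of_dvd_pow (hb ▸ even_iff_two_dvd.1 heven))).symm
  subst hp2
  have hd : Nat.gcd 2 (Fintype.card F - 1) = 1 := by
    rcases H39.gcd_two_cases (F := F) with e | e
    · exact e
    · have := Nat.gcd_dvd_right 2 (Fintype.card F - 1)
      rw [e] at this
      obtain ⟨j, hj⟩ := heven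
      omega
  have hring : ringChar F = 2 := ringChar.eq F 2
  have htor : ∀ c : Matrix.ProjectiveSpecialLinearGroup (Fin 2) F, c ^ 2 ≠ 1 →
      M = Subgroup.normalizer (H39.tor c : Set (Matrix.ProjectiveSpecialLinearGroup (Fin 2) F)) →
      Nonempty (M ≃* DihedralGroup (Fintype.card F - 1)) ∨
        Nonempty (M ≃* DihedralGroup (Fintype.card F + 1)) := by
    intro c hc hMc
    obtain ⟨e⟩ := H39.normalizer_tor_dihedral 2 hc
    have h1 := (H39.tor_trichotomy 2 hc).1
    rw [hd, Nat.div_one, Nat.div_one] at h1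
    rcases h1 with h1 | h1 <;> rw [h1] at e
    · exact Or.inr ⟨(MulEquiv.subgroupCongr hMc).trans e⟩
    · exact Or.inl ⟨(MulEquiv.subgroupCongr hMc).trans e⟩
  rcases H42.maximal_cases 2 h4 M hM with ⟨P, h⟩ | ⟨c, hc, h⟩ | ⟨P, K, r, hr, hF, h⟩ | ⟨ho, -⟩ | ⟨ho, -⟩ | ⟨ho, -⟩
  · left
    rw [Nat.card_congr (H42.cjEquiv P M).toEquiv, h, H39.card_borelP, hd, Nat.div_one]
  · rcases htor c hc h with h' | h'
    · exact Or.inr (Or.inl h')
    · exact Or.inr (Or.inr (Or.inl h'))
  · obtain ⟨e⟩ := (H42.nonempty_equiv_subfield hF h).2 (Or.inr hring)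
    by_cases hK2 : Nat.card K = 2
    · -- `M` is a group of order six
      have hM6 : Nat.card M = 6 := by
        have h3 := H42.card_PSL2_subfield K
        rw [hK2] at h3
        rw [Nat.card_congr e.toEquiv]
        simpa using h3
      haveI : Fact (Nat.Prime 3) := ⟨Nat.prime_three⟩
      obtain ⟨c, hc⟩ := exists_prime_orderOf_dvd_card' (G := M) 3 (by rw [hM6]; decide)
      have hc1 : (c : Matrix.ProjectiveSpecialLinearGroup (Fin 2) F) ≠ 1 := fun h => by
        rw [show c = 1 from Subtype.ext h, orderOf_one] at hc; omega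
      have hidx : (Subgroup.zpowers c).index = 2 := by
        have := (Subgroup.zpowers c).card_mul_index
        rw [Nat.card_zpowers, hc, hM6] at this; omega
      haveI := Subgroup.normal_of_index_eq_two hidx
      rcases H42.torus_or_borel 2 h4 hM hc1 (fun g hg => by
        have hcm := Subgroup.Normal.conj_mem inferInstance c (Subgroup.mem_zpowers c) (⟨g, hg⟩ : M)
          (H := Subgroup.zpowers c)
        obtain ⟨m, hm⟩ := Subgroup.mem_zpowers_iff.1 hcm
        have := congrArg Subtype.val hm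
        simp only [SubgroupClass.coe_zpow, Subgroup.coe_mul, Subgroup.coe_inv] at this
        rw [← this]
        exact zpow_mem (H39.self_mem_tor _) m) with ⟨P', h'⟩ | ⟨hc', h'⟩
      · left
        rw [Nat.card_congr (H42.cjEquiv P' M).toEquiv, h', H39.card_borelP, hd, Nat.div_one]
      · rcases htor _ hc' h' with h'' | h''
        · exact Or.inr (Or.inl h'')
        · exact Or.inr (Or.inr (Or.inl h''))
    · obtain ⟨F₀, i1, i2, hc0, ⟨e₀⟩⟩ := H42.exists_type0_field 2 K
      haveI : Fintype K := Fintype.ofFinite K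
      exact Or.inr (Or.inr (Or.inr ⟨F₀, i1, i2, r, hr, by rw [hc0]; exact hK2, by rw [hc0]; exact hF,
        ⟨e.trans (H39.pslCongr e₀)⟩⟩))
  all_goals exact absurd ho (Nat.not_odd_iff_even.2 heven)

end Cfsg.Agent.S5893
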