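import Cfsg.Statements.S5894

set_option autoImplicit false
open Cfsg

namespace Cfsg.Agent.S5894

open MulAction
open scoped Pointwise

theorem rot_apply (m : ℕ) (hm : 2 ≤ m) (i : Fin (2 * m)) (k : ℕ) :
    (((finRotate (2 * m) ^ k) i : Fin (2 * m)) : ℕ) = ((i : ℕ) + k) % (2 * m) := by
  haveI : NeZero (2 * m) := ⟨by omega⟩
  induction k with
  | zero => simp [Nat.mod_eq_of_lt i.isLt]
  | succ k ih =>
    rw [pow_succ', Equiv.Perm.mul_apply, finRotate_apply, Fin.val_add, ih, Fin.val_one', Nat.mod_add_mod,
      Nat.add_mod_mod, add_assoc]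

/-- For every m ≥ 2 the symmetric group on 2m letters has a maximal subgroup M of index 2m together with a maximal subgroup H of M that is not second maximal: some maximal subgroup K of the symmetric group contains H without H being maximal in K. (One may take M the stabiliser of a letter, H ≅ S_m × S_{m−1} inside it, and K ≅ S_m ≀ S₂ the stabiliser of a partition into two m-sets, with H < S_m × S_m < K.) So the prime-index hypothesis in the second-maximality criterion cannot be relaxed to any even index ≥ 4. -/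
theorem result (m : ℕ) (hm : 2 ≤ m) :
    ∃ M H K : Subgroup (Equiv.Perm (Fin (2 * m))), IsCoatom M ∧ M.index = 2 * m ∧ H ≤ M ∧ IsCoatom (H.subgroupOf M) ∧
      IsCoatom K ∧ H ≤ K ∧ ¬ IsCoatom (H.subgroupOf K) := by
  classical
  let Ω := Fin (2 * m)
  let z : Ω := ⟨0, by omega⟩
  let A : Set Ω := {i | (i : ℕ) < m}
  have hzA : z ∈ A := show (0 : ℕ) < m by omega
  let M : Subgroup (Equiv.Perm Ω) := stabilizer (Equiv.Perm Ω) z
  let L : Subgroup (Equiv.Perm Ω) := stabilizer (Equiv.Perm Ω) A
  let H := M ⊓ L
  let W : Subgroup (Equiv.Perm Ω) :=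
    { carrier := {g | g • A = A ∨ g • A = Aᶜ}
      mul_mem' := by
        rintro g h (hg | hg) (hh | hh) <;> simp only [Set.mem_ofPred_eq, mul_smul, hh]
        · exact Or.inl hg
        · right; rw [Set.smul_set_compl, hg]
        · exact Or.inr hg
        · left; rw [Set.smul_set_compl, hg, compl_compl]
      one_mem' := Or.inl (one_smul _ _)
      inv_mem' := by
        rintro g (hg | hg)
        · left; rw [inv_smul_eq_iff, hg]
        · right; rw [inv_smul_eq_iff, Set.smul_set_compl, hg, compl_compl] }
  -- the sets involved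
  have hAcard : A.ncard = m := by
    have : A = (fun i : Fin m => (⟨i, by omega⟩ : Ω)) '' Set.univ := by
      ext i
      refine ⟨fun hi => ⟨⟨i, hi⟩, trivial, Fin.ext rfl⟩, ?_⟩
      rintro ⟨j, _, rfl⟩
      exact j.isLt
    rw [this, Set.ncard_image_of_injective, Set.ncard_univ, Nat.card_eq_fintype_card, Fintype.card_fin]
    intro i j h
    exact Fin.ext (congrArg (fun q : Ω => (q : ℕ)) h)
  let w : Ω := ⟨1, by omega⟩
  have hwA : w ∈ A := show (1 : ℕ) < m by omega
  let u : Ω := ⟨m, by omega⟩
  have huA : u ∉ A := fun h => lt_irrefl m h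
  have hzw : z ≠ w := fun h => absurd (congrArg Fin.val h) (by simp [z, w])
  have hzu : z ≠ u := fun h => absurd (congrArg Fin.val h) (by change ¬ ((0 : ℕ) = m); omega)
  have hWne : W ≠ ⊤ := by
    intro h
    have h' : Equiv.swap w u ∈ W := h ▸ Subgroup.mem_top _
    rcases h' with h' | h'
    · apply huA
      rw [← h']
      exact ⟨w, hwA, Equiv.swap_apply_left _ _⟩
    · have hz : z ∈ Equiv.swap w u • A :=
        ⟨z, hzA, Equiv.swap_apply_of_ne_of_ne hzw hzu⟩
      rw [h'] at hz
      exact hz hzA
  obtain h | ⟨K, hK, hWK⟩ := eq_top_or_exists_le_coatom W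
  · exact absurd h hWne
  have hLW : L ≤ W := fun g hg => Or.inl hg
  have hHL : H < L := by
    refine lt_of_le_of_ne inf_le_right fun h => ?_
    have hs : Equiv.swap z w ∈ L := by
      rw [mem_stabilizer_set_iff_subset_smul_set (Set.toFinite A)]
      intro x hx
      refine ⟨Equiv.swap z w x, ?_, Equiv.swap_apply_self _ _ _⟩
      rcases eq_or_ne x z with rfl | h1
      · rw [Equiv.swap_apply_left]; exact hwA
      rcases eq_or_ne x w with rfl | h2
      · rw [Equiv.swap_apply_right]; exact hzA
      rwa [Equiv.swap_apply_of_ne_of_ne h1 h2]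
    rw [← h] at hs
    have := hs.1
    change Equiv.swap z w z = z at this
    rw [Equiv.swap_apply_left] at this
    exact hzw this.symm
  have hLW' : L < W := by
    refine lt_of_le_of_ne hLW fun h => ?_
    let e : Equiv.Perm Ω := finRotate (2 * m) ^ m
    have hsh : ∀ i : Ω, ((e i : Ω) : ℕ) = ((i : ℕ) + m) % (2 * m) := fun i => rot_apply m hm i m
    have hmem : e • A = Aᶜ := by
      ext x
      constructor
      · rintro ⟨i, hi, rfl⟩
        change ¬ ((e i : Ω) : ℕ) < m
        rw [hsh, Nat.mod_eq_of_lt (by have : (i : ℕ) < m := hi; omega)]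
        omega
      · intro hx
        have hx' : m ≤ (x : ℕ) := Nat.le_of_not_lt hx
        refine ⟨⟨(x : ℕ) - m, by omega⟩, show (x : ℕ) - m < m by omega, Fin.ext ?_⟩
        change ((e _ : Ω) : ℕ) = _
        rw [hsh, Nat.mod_eq_of_lt (by simp; omega)]
        simp; omega
    have : e ∈ L := h ▸ (Or.inr hmem : e ∈ W)
    have h2 : e • A = A := this
    rw [hmem] at h2
    exact (h2.symm ▸ hzA : z ∈ Aᶜ) hzA
  refine ⟨M, H, K, ?_, ?_, inf_le_left, ?_, hK, (inf_le_right.trans hLW).trans hWK, ?_⟩
  · rw [show M = stabilizer (Equiv.Perm Ω) ({z} : Set Ω) from (stabilizer_singleton z).symm]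
    refine Equiv.Perm.isCoatom_stabilizer (Set.singleton_nonempty z) ⟨w, hzw.symm⟩ ?_
    rw [Set.ncard_singleton, Nat.card_eq_fintype_card, Fintype.card_fin]
    omega
  · rw [index_stabilizer_of_transitive, Nat.card_eq_fintype_card, Fintype.card_fin]
  · -- maximality in the point stabiliser
    let Ψ := {x : Ω // x ≠ z}
    let ι : Equiv.Perm Ψ →* M := Equiv.Perm.ofSubtype.codRestrict M fun g => by
      change Equiv.Perm.ofSubtype g z = z
      exact Equiv.Perm.ofSubtype_apply_of_not_mem g (by simp)
    have hι : Function.Bijective ι := by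
      refine ⟨fun g h e => Equiv.Perm.ofSubtype_injective (congrArg Subtype.val e), ?_⟩
      rintro ⟨g, hg⟩
      have hg' : g z = z := hg
      refine ⟨g.subtypePerm (fun x => not_congr ⟨fun h => g.injective (h.trans hg'.symm), fun h => h ▸ hg'⟩), Subtype.ext ?_⟩
      refine Equiv.Perm.ofSubtype_subtypePerm _ fun x hx h => hx (h ▸ hg')
    let eM := MulEquiv.ofBijective ι hι
    let B : Set Ψ := {x | (x : Ω) ∈ A}
    have hB : stabilizer (Equiv.Perm Ψ) B = (H.subgroupOf M).comap eM.toMonoidHom := by
      ext g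
      have hfix : Equiv.Perm.ofSubtype g z = z := Equiv.Perm.ofSubtype_apply_of_not_mem g (by simp)
      rw [mem_stabilizer_set]
      change _ ↔ Equiv.Perm.ofSubtype g ∈ M ∧ Equiv.Perm.ofSubtype g ∈ L
      rw [show (Equiv.Perm.ofSubtype g ∈ L ↔ _) from mem_stabilizer_set]
      refine ⟨fun h => ⟨hfix, fun x => ?_⟩, fun h x => ?_⟩
      · by_cases hx : x = z
        · subst hx
          change Equiv.Perm.ofSubtype g _ ∈ A ↔ _
          rw [hfix]
        · have := h ⟨x, hx⟩
          change Equiv.Perm.ofSubtype g x ∈ A ↔ x ∈ A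
          rw [Equiv.Perm.ofSubtype_apply_of_mem g hx]
          exact this
      · have := h.2 (x : Ω)
        change Equiv.Perm.ofSubtype g (x : Ω) ∈ A ↔ _ at this
        rw [Equiv.Perm.ofSubtype_apply_coe] at this
        exact this
    have hco : IsCoatom (stabilizer (Equiv.Perm Ψ) B) := by
      have hBc : B.ncard + 1 = m := by
        have e : A = insert z (Subtype.val '' B) := by
          ext x
          constructor
          · intro hx
            by_cases h : x = z
            · exact Or.inl h
            · exact Or.inr ⟨⟨x, h⟩, hx, rfl⟩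
          · rintro (rfl | ⟨y, hy, rfl⟩)
            · exact hzA
            · exact hy
        rw [← hAcard, e, Set.ncard_insert_of_notMem (by rintro ⟨y, _, hy⟩; exact y.2 hy),
          Set.ncard_image_of_injective _ Subtype.val_injective]
      refine Equiv.Perm.isCoatom_stabilizer ?_ ⟨⟨u, hzu.symm⟩, huA⟩ ?_
      · exact ⟨⟨w, hzw.symm⟩, hwA⟩
      · have : Nat.card Ψ = 2 * m - 1 := by
          rw [Nat.card_eq_fintype_card, Fintype.card_subtype_compl, Fintype.card_fin, Fintype.card_subtype_eq]
        omega
    rw [hB, Subgroup.comap_equiv_eq_map_symm'] at hco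
    exact (OrderIso.isCoatom_iff eM.symm.mapSubgroup _).mp hco
  · intro hco
    have hLK : L ≤ K := hLW.trans hWK
    have h1 : H.subgroupOf K < L.subgroupOf K := by
      refine lt_of_le_of_ne (Subgroup.comap_mono hHL.le) fun h => hHL.ne ?_
      rw [Subgroup.subgroupOf_inj, inf_eq_left.mpr (hHL.le.trans hLK), inf_eq_left.mpr hLK] at h
      exact h
    have h2 := Subgroup.subgroupOf_eq_top.mp (hco.2 _ h1)
    exact hLW'.not_ge (hWK.trans h2)

end Cfsg.Agent.S5894
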