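import Cfsg.Statements.S5895
import Mathlib

set_option autoImplicit false
open Cfsg

namespace Cfsg.Agent.S5895

open MulAction

variable {F : Type} [Field F] {V : Type} [AddCommGroup V] [Module F V]

theorem affine_apply (g : V ≃ᵃ[F] V) (x : V) : g x = g.linear x + g 0 := by
  simpa using g.map_vadd 0 x

theorem affine_mem_of_translation {X : Subgroup (V ≃ᵃ[F] V)}
    (hM : ∀ g : V ≃ᵃ[F] V, g 0 = 0 → g ∈ X) (hT : ∀ a : V, AffineEquiv.constVAdd F V a ∈ X) :
    X = ⊤ := by
  refine (Subgroup.eq_top_iff' X).mpr fun g => ?_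
  have h : (AffineEquiv.constVAdd F V (g 0))⁻¹ * g ∈ X := by
    refine hM _ ?_
    show (AffineEquiv.constVAdd F V (g 0))⁻¹ (g 0) = 0
    rw [AffineEquiv.inv_def, AffineEquiv.symm_apply_eq]
    simp [AffineEquiv.constVAdd_apply]
  simpa using mul_mem (hT (g 0)) h

theorem exists_linearEquiv_apply [Nontrivial V] {a b : V} (ha : a ≠ 0) (hb : b ≠ 0) :
    ∃ A : V ≃ₗ[F] V, A a = b := by
  have := Projectivization.linearEquiv_is_two_pretransitive F V
  have : IsPretransitive (V ≃ₗ[F] V) (Projectivization F V) := isPretransitive_of_is_two_pretransitive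
  obtain ⟨A, hA⟩ := exists_smul_eq (V ≃ₗ[F] V) (Projectivization.mk F a ha) (Projectivization.mk F b hb)
  rw [Projectivization.smul_mk, Projectivization.mk_eq_mk_iff'] at hA
  obtain ⟨c, hc⟩ := hA
  have hc0 : c ≠ 0 := fun h => by
    rw [h, zero_smul] at hc
    exact ha (A.map_eq_zero_iff.mp hc.symm)
  refine ⟨A.trans (LinearEquiv.smulOfNeZero F V c⁻¹ (inv_ne_zero hc0)), ?_⟩
  show c⁻¹ • A a = b
  rw [show A a = c • b from hc.symm, inv_smul_smul₀ hc0]

theorem affine_example [Finite V] [Finite (V ≃ᵃ[F] V)] (e f : V) (he : e ≠ 0)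
    (hf : ∀ c : F, c • e ≠ f) :
    ∃ M H K : Subgroup (V ≃ᵃ[F] V), IsCoatom M ∧ M.index = Nat.card V ∧ H ≤ M ∧
      IsCoatom (H.subgroupOf M) ∧ IsCoatom K ∧ H ≤ K ∧ ¬ IsCoatom (H.subgroupOf K) := by
  haveI : Nontrivial V := ⟨⟨e, 0, he⟩⟩
  let act : (V ≃ᵃ[F] V) →* Equiv.Perm V :=
    { toFun := AffineEquiv.toEquiv, map_one' := rfl, map_mul' := fun _ _ => rfl }
  letI : MulAction (V ≃ᵃ[F] V) V := MulAction.compHom V act
  have hsmul : ∀ (g : V ≃ᵃ[F] V) (x : V), g • x = g x := fun _ _ => rfl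
  haveI : IsPretransitive (V ≃ᵃ[F] V) V :=
    ⟨fun x y => ⟨AffineEquiv.constVAdd F V (y - x), by
      rw [hsmul, AffineEquiv.constVAdd_apply, vadd_eq_add, sub_add_cancel]⟩⟩
  set M := stabilizer (V ≃ᵃ[F] V) (0 : V) with hMdef
  have hM : ∀ g, g ∈ M ↔ g 0 = 0 := fun g => Iff.rfl
  let L : Projectivization F V := Projectivization.mk F e he
  let St := stabilizer (V ≃ₗ[F] V) L
  let K := St.comap (AffineEquiv.linearHom : (V ≃ᵃ[F] V) →* V ≃ₗ[F] V)
  have hK : ∀ g, g ∈ K ↔ ∃ c : F, c • e = g.linear e := fun g => by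
    show g.linear • L = L ↔ _
    rw [Projectivization.smul_mk, Projectivization.mk_eq_mk_iff']
    rfl
  have hStc : IsCoatom St := by
    haveI : Nontrivial (Projectivization F V) := by
      refine ⟨⟨L, Projectivization.mk F f (fun h => hf 0 (by rw [zero_smul, h])), fun h => ?_⟩⟩
      obtain ⟨c, hc⟩ := (Projectivization.mk_eq_mk_iff' F e f he _).mp h
      rcases eq_or_ne c 0 with rfl | h0
      · exact he (by rw [← hc, zero_smul])
      · exact hf c⁻¹ (by rw [← hc, inv_smul_smul₀ h0])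
    have := isPreprimitive_of_is_two_pretransitive (Projectivization.linearEquiv_is_two_pretransitive F V)
    exact IsPreprimitive.isCoatom_stabilizer_of_isPreprimitive (V ≃ₗ[F] V) L
  have hsurj : Function.Surjective (AffineEquiv.linearHom : (V ≃ᵃ[F] V) →* V ≃ₗ[F] V) :=
    fun A => ⟨A.toAffineEquiv, rfl⟩
  have hsurjM : Function.Surjective ((AffineEquiv.linearHom : (V ≃ᵃ[F] V) →* V ≃ₗ[F] V).comp M.subtype) :=
    fun A => ⟨⟨A.toAffineEquiv, A.map_zero⟩, rfl⟩
  refine ⟨M, M ⊓ K, K, ?_, index_stabilizer_of_transitive _ _, inf_le_left, ?_,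
    Subgroup.isCoatom_comap_of_surjective hsurj hStc, inf_le_right, ?_⟩
  · refine ⟨fun h => ?_, fun X hX => ?_⟩
    · have h1 : AffineEquiv.constVAdd F V e ∈ M := h ▸ Subgroup.mem_top _
      rw [hM, AffineEquiv.constVAdd_apply, vadd_eq_add, add_zero] at h1
      exact he h1
    · obtain ⟨g, hgX, hgM⟩ := SetLike.exists_of_lt hX
      rw [hM] at hgM
      refine affine_mem_of_translation (fun g hg => hX.le hg) ?_
      have hg0 : AffineEquiv.constVAdd F V (g 0) ∈ X := by
        have h1 : g.linear.toAffineEquiv ∈ X := hX.le g.linear.map_zero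
        have e1 : g = AffineEquiv.constVAdd F V (g 0) * g.linear.toAffineEquiv := by
          ext x
          rw [affine_apply g x]
          show _ = g 0 + g.linear x
          exact add_comm _ _
        have h2 := mul_mem hgX (inv_mem h1)
        rwa [show g * (g.linear.toAffineEquiv)⁻¹ = AffineEquiv.constVAdd F V (g 0) from
          mul_inv_eq_iff_eq_mul.mpr e1] at h2
      intro a
      rcases eq_or_ne a 0 with rfl | ha
      · have : AffineEquiv.constVAdd F V (0 : V) = 1 := by ext x; simp [AffineEquiv.constVAdd_apply]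
        rw [this]; exact one_mem X
      obtain ⟨A, hA⟩ := exists_linearEquiv_apply (F := F) hgM ha
      have hAX : A.toAffineEquiv ∈ X := hX.le A.map_zero
      have e2 : AffineEquiv.constVAdd F V a * A.toAffineEquiv =
          A.toAffineEquiv * AffineEquiv.constVAdd F V (g 0) := by
        ext x
        show a + A x = A (g 0 + x)
        rw [map_add, hA]
      rw [eq_mul_inv_of_mul_eq e2]
      exact mul_mem (mul_mem hAX hg0) (inv_mem hAX)
  · rw [Subgroup.inf_subgroupOf_left]
    exact Subgroup.isCoatom_comap_of_surjective hsurjM hStc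
  · intro hc
    let J : Submonoid (V ≃ᵃ[F] V) :=
      { carrier := {g | g ∈ K ∧ ∃ c : F, c • e = g 0}
        one_mem' := ⟨one_mem K, 0, by simp⟩
        mul_mem' := by
          rintro g h ⟨hg, c, hc⟩ ⟨hh, c', hc'⟩
          obtain ⟨t, ht⟩ := (hK g).mp hg
          refine ⟨mul_mem hg hh, c' * t + c, ?_⟩
          show _ = g (h 0)
          rw [affine_apply g (h 0), ← hc', map_smul, ← ht, ← hc, add_smul, mul_smul] }
    have hJinv : ∀ x ∈ J, x⁻¹ ∈ J := by
      intro x hx
      obtain ⟨n, hn⟩ := (isOfFinOrder_of_finite x).mem_powers_iff_mem_zpowers.mpr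
        (Subgroup.mem_zpowers_iff.mpr ⟨-1, zpow_neg_one x⟩)
      exact (hn ▸ pow_mem hx n : x⁻¹ ∈ J)
    let J' : Subgroup (V ≃ᵃ[F] V) :=
      { toSubmonoid := J, inv_mem' := fun hx => hJinv _ hx }
    have hJK : J' ≤ K := fun g hg => hg.1
    have hlt : (M ⊓ K).subgroupOf K < J'.subgroupOf K := by
      refine lt_of_le_not_ge (fun g hg => ⟨g.2, 0, by rw [zero_smul]; exact (((hM _).mp hg.1)).symm⟩) fun hle => ?_
      have hT : AffineEquiv.constVAdd F V e ∈ K := (hK _).mpr ⟨1, by simp⟩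
      have h1 := (hM _).mp (Subgroup.mem_inf.mp (hle (show (⟨_, hT⟩ : K) ∈ J'.subgroupOf K from
        ⟨hT, 1, by simp [AffineEquiv.constVAdd_apply]⟩))).1
      change AffineEquiv.constVAdd F V e 0 = 0 at h1
      rw [AffineEquiv.constVAdd_apply, vadd_eq_add, add_zero] at h1
      exact he h1
    have hT : AffineEquiv.constVAdd F V f ∈ K := (hK _).mpr ⟨1, by simp⟩
    obtain ⟨-, c, hcf⟩ : AffineEquiv.constVAdd F V f ∈ J' :=
      (hc.2 _ hlt).ge (Subgroup.mem_top (⟨_, hT⟩ : K))
    rw [AffineEquiv.constVAdd_apply, vadd_eq_add, add_zero] at hcf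
    exact hf c hcf

/-- For every prime p and every d ≥ 2 there is a finite group G with a maximal subgroup M of index p^d and a maximal subgroup H of M that is not second maximal in G: some maximal subgroup K of G contains H without H being maximal in K. (One may take G the affine group V ⋊ GL(V) of V = 𝔽_p^d, M = GL(V), H the stabiliser in M of a line W of V, and K = V ⋊ H, with H < W ⋊ H < K.) So the prime-index hypothesis in the second-maximality criterion cannot be relaxed to prime-power index. -/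
theorem result (p d : ℕ) (hp : p.Prime)
    (hd : 2 ≤ d) :
    ∃ (G : Type) (_ : Group G) (_ : Finite G) (M H K : Subgroup G), IsCoatom M ∧ M.index = p ^ d ∧ H ≤ M ∧
      IsCoatom (H.subgroupOf M) ∧ IsCoatom K ∧ H ≤ K ∧ ¬ IsCoatom (H.subgroupOf K) := by
  haveI := Fact.mk hp
  let i0 : Fin d := ⟨0, by omega⟩
  let i1 : Fin d := ⟨1, by omega⟩
  have h01 : i1 ≠ i0 := by simp [i0, i1, Fin.ext_iff]
  haveI : Finite ((Fin d → ZMod p) ≃ᵃ[ZMod p] (Fin d → ZMod p)) :=
    Finite.of_injective _ AffineEquiv.toEquiv_injective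
  obtain ⟨M, H, K, h1, h2, h3, h4, h5, h6, h7⟩ := affine_example (F := ZMod p) (V := Fin d → ZMod p)
    (Pi.single i0 1) (Pi.single i1 1) (by simp [Pi.single_eq_zero_iff]) (fun c h => by
      have := congrFun h i1
      simp [Pi.single_eq_of_ne h01] at this)
  exact ⟨_, inferInstance, inferInstance, M, H, K, h1, by rw [h2]; simp, h3, h4, h5, h6, h7⟩

end Cfsg.Agent.S5895
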