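import Cfsg.Statements.S5896
import Mathlib

set_option autoImplicit false
open Cfsg

namespace Cfsg.Agent.S5896

open Matrix

variable {R : Type*} [CommRing R]

def up (x : R) : SpecialLinearGroup (Fin 2) R :=
  ⟨!![1, x; 0, 1], by rw [det_fin_two_of]; ring⟩

def low (y : R) : SpecialLinearGroup (Fin 2) R :=
  ⟨!![1, 0; y, 1], by rw [det_fin_two_of]; ring⟩

def dia (t : Rˣ) : SpecialLinearGroup (Fin 2) R :=
  ⟨!![(t : R), 0; 0, ((t⁻¹ : Rˣ) : R)], by rw [det_fin_two_of]; simp⟩

theorem coe_up (x : R) : ((up x : SpecialLinearGroup (Fin 2) R) : Matrix (Fin 2) (Fin 2) R) = !![1, x; 0, 1] := rfl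

theorem coe_low (y : R) : ((low y : SpecialLinearGroup (Fin 2) R) : Matrix (Fin 2) (Fin 2) R) = !![1, 0; y, 1] := rfl

theorem coe_dia (t : Rˣ) : ((dia t : SpecialLinearGroup (Fin 2) R) : Matrix (Fin 2) (Fin 2) R) = !![(t : R), 0; 0, ((t⁻¹ : Rˣ) : R)] := rfl

theorem up_add (x y : R) : up (x + y) = up x * up y := by
  ext i j; fin_cases i <;> fin_cases j <;> simp [coe_up, add_comm, Matrix.SpecialLinearGroup.coe_mul, Matrix.mul_apply, Fin.sum_univ_two]

theorem low_add (x y : R) : low (x + y) = low x * low y := by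
  ext i j; fin_cases i <;> fin_cases j <;> simp [coe_low, Matrix.SpecialLinearGroup.coe_mul, Matrix.mul_apply, Fin.sum_univ_two]

theorem up_zero : up (0 : R) = 1 := by
  ext i j; fin_cases i <;> fin_cases j <;> simp [coe_up, Matrix.SpecialLinearGroup.coe_mul, Matrix.mul_apply, Fin.sum_univ_two]

theorem low_zero : low (0 : R) = 1 := by
  ext i j; fin_cases i <;> fin_cases j <;> simp [coe_low, Matrix.SpecialLinearGroup.coe_mul, Matrix.mul_apply, Fin.sum_univ_two]

theorem up_inv (x : R) : (up x)⁻¹ = up (-x) := by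
  rw [inv_eq_iff_mul_eq_one, ← up_add, add_neg_cancel, up_zero]

theorem low_inv (x : R) : (low x)⁻¹ = low (-x) := by
  rw [inv_eq_iff_mul_eq_one, ← low_add, add_neg_cancel, low_zero]

theorem low_nsmul (c : R) (m : ℕ) : low ((m : R) * c) = low c ^ m := by
  induction m with
  | zero => simp [low_zero]
  | succ m ih => rw [pow_succ, ← ih, ← low_add]; congr 1; push_cast; ring

theorem dia_comm_up (t : Rˣ) (x : R) :
    dia t * up x * (dia t)⁻¹ * (up x)⁻¹ = up (((t : R) ^ 2 - 1) * x) := by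
  rw [mul_inv_eq_iff_eq_mul, mul_inv_eq_iff_eq_mul, ← up_add]
  ext i j; fin_cases i <;> fin_cases j <;> simp [coe_up, coe_dia, Matrix.SpecialLinearGroup.coe_mul, Matrix.mul_apply, Fin.sum_univ_two]
  linear_combination (-(t : R) * x) * t.mul_inv

theorem dia_comm_low (t : Rˣ) (x : R) :
    (dia t)⁻¹ * low x * ((dia t)⁻¹)⁻¹ * (low x)⁻¹ = low (((t : R) ^ 2 - 1) * x) := by
  rw [mul_inv_eq_iff_eq_mul, inv_inv, ← low_add, mul_assoc, inv_mul_eq_iff_eq_mul]
  ext i j; fin_cases i <;> fin_cases j <;> simp [coe_low, coe_dia, Matrix.SpecialLinearGroup.coe_mul, Matrix.mul_apply, Fin.sum_univ_two]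
  linear_combination (-(t : R) * x) * t.mul_inv

theorem eq_low_dia_up (g : SpecialLinearGroup (Fin 2) R) (a : Rˣ) (ha : g 0 0 = a) :
    g = low (g 1 0 * ((a⁻¹ : Rˣ) : R)) * dia a * up (g 0 1 * ((a⁻¹ : Rˣ) : R)) := by
  have hd : g 0 0 * g 1 1 - g 0 1 * g 1 0 = 1 := by
    rw [← det_fin_two]; exact g.2
  have h1 := a.mul_inv
  ext i j; fin_cases i <;> fin_cases j <;> simp [coe_low, coe_dia, coe_up, ha, Matrix.SpecialLinearGroup.coe_mul, Matrix.mul_apply, Fin.sum_univ_two]
  · linear_combination (-(g 0 1)) * h1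
  · rw [ha] at hd
    linear_combination ((a⁻¹ : Rˣ) : R) * hd - g 1 1 * h1

theorem eq_up_low_up (g : SpecialLinearGroup (Fin 2) R) (c : Rˣ) (hc : g 1 0 = c) :
    g = up ((g 0 0 - 1) * ((c⁻¹ : Rˣ) : R)) * low (g 1 0) * up ((g 1 1 - 1) * ((c⁻¹ : Rˣ) : R)) := by
  have hd : g 0 0 * g 1 1 - g 0 1 * g 1 0 = 1 := by
    rw [← det_fin_two]; exact g.2
  have h1 := c.mul_inv
  ext i j; fin_cases i <;> fin_cases j <;> simp [coe_low, coe_up, hc, Matrix.SpecialLinearGroup.coe_mul, Matrix.mul_apply, Fin.sum_univ_two]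
  · rw [hc] at hd
    linear_combination -((c⁻¹ : Rˣ) : R) * hd + (-(g 0 1)) * h1
  · linear_combination (1 - g 1 1) * h1

variable {k : ℕ}

theorem isUnit_of_cast_ne_zero (hk : k ≠ 0) {x : ZMod (5 ^ k)}
    (h : ZMod.castHom (dvd_pow_self 5 hk) (ZMod 5) x ≠ 0) : IsUnit x := by
  rw [← ZMod.natCast_zmod_val x, ZMod.isUnit_iff_coprime]
  refine Nat.Coprime.pow_right _ (Nat.Coprime.symm ((Nat.Prime.coprime_iff_not_dvd (by norm_num)).mpr fun hd => h ?_))
  rw [← ZMod.natCast_zmod_val x, map_natCast, ZMod.natCast_eq_zero_iff]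
  exact hd

theorem matrix_pow_five {M : Type*} [Ring M] (j : ℕ) (hj : 1 ≤ j) {g : M}
    (h : ∃ y : M, g = 1 + ((5 ^ j : ℕ) : M) * y) :
    ∃ y : M, g ^ 5 = 1 + ((5 ^ (j + 1) : ℕ) : M) * y := by
  obtain ⟨y, rfl⟩ := h
  set c : ℕ := 5 ^ j with hc
  obtain ⟨e, he⟩ : ∃ e, j = e + 1 := ⟨j - 1, by omega⟩
  have hcom : Commute ((c : ℕ) : M) y := Nat.cast_commute _ _
  have e1 : ∀ a : M, (1 + a) ^ 5 = 1 + (5 : ℕ) • a + (10 : ℕ) • a ^ 2 + (10 : ℕ) • a ^ 3 + (5 : ℕ) • a ^ 4 + a ^ 5 := by
    intro a; noncomm_ring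
  refine ⟨y + ((2 * c : ℕ) : M) * y ^ 2 + ((2 * c ^ 2 : ℕ) : M) * y ^ 3 + ((c ^ 3 : ℕ) : M) * y ^ 4 + ((c ^ 3 * 5 ^ e : ℕ) : M) * y ^ 5, ?_⟩
  rw [e1, hcom.mul_pow, hcom.mul_pow, hcom.mul_pow, hcom.mul_pow, nsmul_eq_mul, nsmul_eq_mul, nsmul_eq_mul, nsmul_eq_mul]
  simp only [← Nat.cast_pow, mul_add, ← mul_assoc, ← Nat.cast_mul, add_assoc]
  have h5 : 5 ^ (j + 1) = 5 * c := by rw [hc, pow_succ']
  have h6 : c = 5 * 5 ^ e := by rw [hc, he, pow_succ']
  rw [h5]
  have q4 : 5 * c * c ^ 3 * 5 ^ e = c ^ 5 := by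
    calc 5 * c * c ^ 3 * 5 ^ e = c ^ 4 * (5 * 5 ^ e) := by ring
      _ = c ^ 4 * c := by rw [← h6]
      _ = c ^ 5 := by ring
  rw [q4, show 5 * c * c ^ 3 = 5 * c ^ 4 by ring, show 5 * c * 2 * c ^ 2 = 10 * c ^ 3 by ring,
    show 5 * c * 2 * c = 10 * c ^ 2 by ring]

/-- Finite perfect groups have solvable maximal subgroups of unbounded derived length: for every d there is a finite perfect group G (equal to its commutator subgroup) with a solvable maximal subgroup H whose derived length exceeds d, i.e. the d-th term of the derived series of H is non-trivial. (Take the derived subgroup of a wreath product S ≀ A₅ with S solvable of large derived length, and H the preimage of a maximal subgroup of A₅.) -/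
theorem result (d : ℕ) :
    ∃ (G : Type) (_ : Group G) (_ : Finite G) (H : Subgroup G), commutator G = ⊤ ∧ IsCoatom H ∧ Group.IsSolvable H ∧
      derivedSeries H d ≠ ⊥ := by
  set k := 2 ^ d + 1 with hkdef
  have hk : k ≠ 0 := by rw [hkdef]; exact Nat.succ_ne_zero _
  haveI : NeZero ((5 : ℕ) ^ k) := ⟨pow_ne_zero _ (by norm_num)⟩
  have n2 : (2 : ZMod 5) ≠ 0 := by decide
  have n3 : (3 : ZMod 5) ≠ 0 := by decide
  have n6 : (6 : ZMod 5) ≠ 0 := by decide
  have n7 : (7 : ZMod 5) ≠ 0 := by decide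
  haveI : Fact (Nat.Prime 5) := ⟨by norm_num⟩
  let R := ZMod (5 ^ k)
  let π : R →+* ZMod 5 := ZMod.castHom (dvd_pow_self 5 hk) (ZMod 5)
  have hπ5 : π (5 : R) = 0 := by
    rw [map_ofNat]; rfl
  let H : Subgroup (SpecialLinearGroup (Fin 2) R) :=
    { carrier := {g | π (g 1 0) = 0}
      one_mem' := by simp
      mul_mem' := fun {g h} (hg : π (g 1 0) = 0) (hh : π (h 1 0) = 0) => by
        show π ((g * h : (SpecialLinearGroup (Fin 2) R)) 1 0) = 0
        rw [Matrix.SpecialLinearGroup.coe_mul, Matrix.mul_apply, Fin.sum_univ_two, map_add, map_mul, map_mul, hg, hh]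
        ring
      inv_mem' := fun {g} (hg : π (g 1 0) = 0) => by
        show π ((g⁻¹ : (SpecialLinearGroup (Fin 2) R)) 1 0) = 0
        rw [Matrix.SpecialLinearGroup.coe_inv, Matrix.adjugate_fin_two]
        simp [hg] }
  have hH : ∀ g : (SpecialLinearGroup (Fin 2) R), g ∈ H ↔ π (g 1 0) = 0 := fun _ => Iff.rfl
  have hup : ∀ x : R, up x ∈ H := fun x => by simp [hH, coe_up, Matrix.SpecialLinearGroup.coe_mul, Matrix.mul_apply, Fin.sum_univ_two]
  have hdia : ∀ t : Rˣ, dia t ∈ H := fun t => by simp [hH, coe_dia, Matrix.SpecialLinearGroup.coe_mul, Matrix.mul_apply, Fin.sum_univ_two]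
  -- generation by elementary matrices
  have hgen : ∀ S : Subgroup (SpecialLinearGroup (Fin 2) R), (∀ x, up x ∈ S) → (∀ x, low x ∈ S) → S = ⊤ := by
    intro S hu hl
    refine (Subgroup.eq_top_iff' S).mpr ?_
    have hc : ∀ g : (SpecialLinearGroup (Fin 2) R), π (g 1 0) ≠ 0 → g ∈ S := fun g hg => by
      obtain ⟨c, hc⟩ := isUnit_of_cast_ne_zero hk hg
      rw [eq_up_low_up g c hc.symm]
      exact mul_mem (mul_mem (hu _) (hl _)) (hu _)
    intro g
    by_cases hg : π (g 1 0) = 0
    · have ha : π (g 0 0) ≠ 0 := by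
        intro ha
        have hd : g 0 0 * g 1 1 - g 0 1 * g 1 0 = 1 := by
          rw [← det_fin_two]; exact g.2
        have := congrArg π hd
        rw [map_sub, map_mul, map_mul, ha, hg, map_one] at this
        simp at this
      have : π ((low 1 * g : (SpecialLinearGroup (Fin 2) R)) 1 0) ≠ 0 := by
        rw [Matrix.SpecialLinearGroup.coe_mul, Matrix.mul_apply, Fin.sum_univ_two]
        simpa [low, hg] using ha
      have := mul_mem (inv_mem (hl 1)) (hc _ this)
      rwa [inv_mul_cancel_left] at this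
    · exact hc g hg
  refine ⟨(SpecialLinearGroup (Fin 2) R), inferInstance, inferInstance, H, ?_, ⟨?_, ?_⟩, ?_, ?_⟩
  · -- perfect
    have h3 : IsUnit (3 : R) := by
      refine isUnit_of_cast_ne_zero hk ?_
      rw [map_ofNat]; exact n3
    have h2 : IsUnit (2 : R) := by
      refine isUnit_of_cast_ne_zero hk ?_
      rw [map_ofNat]; exact n2
    obtain ⟨t, ht⟩ := h2
    obtain ⟨u, hu⟩ := h3
    have hcm : ∀ a b : (SpecialLinearGroup (Fin 2) R), a * b * a⁻¹ * b⁻¹ ∈ commutator (SpecialLinearGroup (Fin 2) R) := fun a b =>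
      Subgroup.commutator_mem_commutator (Subgroup.mem_top a) (Subgroup.mem_top b)
    refine hgen _ (fun x => ?_) fun x => ?_
    · have := hcm (dia t) (up (((u⁻¹ : Rˣ) : R) * x))
      rwa [dia_comm_up, ht, show ((2 : R) ^ 2 - 1) = u by rw [hu]; norm_num, ← mul_assoc, u.mul_inv, one_mul] at this
    · have := hcm (dia t)⁻¹ (low (((u⁻¹ : Rˣ) : R) * x))
      rwa [dia_comm_low, ht, show ((2 : R) ^ 2 - 1) = u by rw [hu]; norm_num, ← mul_assoc, u.mul_inv, one_mul] at this
  · intro h
    have : low (1 : R) ∈ H := h ▸ Subgroup.mem_top _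
    simp [hH, coe_low, Matrix.SpecialLinearGroup.coe_mul, Matrix.mul_apply, Fin.sum_univ_two] at this
  · intro S hS
    obtain ⟨g, hgS, hgH⟩ := SetLike.exists_of_lt hS
    obtain ⟨c, hc⟩ := isUnit_of_cast_ne_zero hk hgH
    have hu : ∀ x, up x ∈ S := fun x => hS.le (hup x)
    refine hgen S hu fun z => ?_
    have h1 : low (g 1 0) ∈ S := by
      have h2 := eq_up_low_up g c hc.symm
      have : low (g 1 0) = (up ((g 0 0 - 1) * ((c⁻¹ : Rˣ) : R)))⁻¹ * g * (up ((g 1 1 - 1) * ((c⁻¹ : Rˣ) : R)))⁻¹ := by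
        conv_rhs => enter [1, 2]; rw [h2]
        group
      rw [this]
      exact mul_mem (mul_mem (inv_mem (hu _)) hgS) (inv_mem (hu _))
    have : low z = low (g 1 0) ^ (z * ((c⁻¹ : Rˣ) : R)).val := by
      rw [← low_nsmul, ZMod.natCast_zmod_val, mul_assoc, ← hc, c.inv_mul, mul_one]
    rw [this]
    exact pow_mem h1 _
  · -- solvable
    let χ : H →* (ZMod 5) :=
      { toFun := fun g => π ((g : (SpecialLinearGroup (Fin 2) R)) 0 0)
        map_one' := by simp
        map_mul' := fun g h => by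
          show π (((g : (SpecialLinearGroup (Fin 2) R)) * (h : (SpecialLinearGroup (Fin 2) R)) : (SpecialLinearGroup (Fin 2) R)) 0 0) = _
          rw [Matrix.SpecialLinearGroup.coe_mul, Matrix.mul_apply, Fin.sum_univ_two, map_add, map_mul, map_mul,
            (hH _).mp h.2]
          ring }
    let χ' := χ.toHomUnits
    have hker : IsPGroup 5 χ'.ker := by
      intro g
      refine ⟨k, Subtype.ext (Subtype.ext (Subtype.ext ?_))⟩
      have ha : π ((g : (SpecialLinearGroup (Fin 2) R)) 0 0) = 1 := congrArg Units.val g.2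
      have hc : π ((g : (SpecialLinearGroup (Fin 2) R)) 1 0) = 0 := (g : H).2
      have hd : π ((g : (SpecialLinearGroup (Fin 2) R)) 1 1) = 1 := by
        have hdet : (g : (SpecialLinearGroup (Fin 2) R)) 0 0 * (g : (SpecialLinearGroup (Fin 2) R)) 1 1 - (g : (SpecialLinearGroup (Fin 2) R)) 0 1 * (g : (SpecialLinearGroup (Fin 2) R)) 1 0 = 1 := by
          rw [← det_fin_two]; exact (g : (SpecialLinearGroup (Fin 2) R)).2
        have := congrArg π hdet
        rwa [map_sub, map_mul, map_mul, ha, hc, map_one, one_mul, mul_zero, sub_zero] at this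
      set A : Matrix (Fin 2) (Fin 2) R := ((g : (SpecialLinearGroup (Fin 2) R)) : Matrix (Fin 2) (Fin 2) R) with hA
      have h5 : ∀ x : R, π x = 0 → ∃ y, x = 5 * y := by
        intro x hx
        rw [← ZMod.natCast_zmod_val x, map_natCast, ZMod.natCast_eq_zero_iff] at hx
        obtain ⟨y, hy⟩ := hx
        exact ⟨(y : R), by rw [← ZMod.natCast_zmod_val x, hy]; push_cast; rfl⟩
      have hb : ∀ i j, π ((A ^ 5 - 1 : Matrix (Fin 2) (Fin 2) R) i j) = 0 := by
        intro i j
        have hm : π.mapMatrix A = !![1, π (A 0 1); 0, 1] := by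
          ext i j; fin_cases i <;> fin_cases j <;> simp [hA] <;> first | exact ha | exact hc | exact hd
        have : π.mapMatrix (A ^ 5 - 1) = 0 := by
          rw [map_sub, map_one, map_pow, hm]
          have hn : ∀ m : ℕ, !![(1 : ZMod 5), π (A 0 1); 0, 1] ^ m = !![1, (m : ZMod 5) * π (A 0 1); 0, 1] := by
            intro m
            induction m with
            | zero => ext i j; fin_cases i <;> fin_cases j <;> simp
            | succ m ih =>
              rw [pow_succ, ih]
              ext i j; fin_cases i <;> fin_cases j <;> simp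
              ring
          rw [hn, show ((5 : ℕ) : ZMod 5) = 0 from ZMod.natCast_self 5]
          ext i j; fin_cases i <;> fin_cases j <;> simp
        exact congrFun (congrFun this i) j
      have hbase : ∃ Y : Matrix (Fin 2) (Fin 2) R, A ^ 5 = 1 + ((5 ^ 1 : ℕ) : Matrix (Fin 2) (Fin 2) R) * Y := by
        choose y hy using fun i j => h5 _ (hb i j)
        refine ⟨Matrix.of y, ?_⟩
        rw [← sub_eq_iff_eq_add', pow_one, ← nsmul_eq_mul]
        ext i j
        rw [hy i j, Matrix.smul_apply, nsmul_eq_mul]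
        simp
      have hall : ∀ j, 1 ≤ j → ∃ Y : Matrix (Fin 2) (Fin 2) R, A ^ (5 ^ j) = 1 + ((5 ^ j : ℕ) : Matrix (Fin 2) (Fin 2) R) * Y := by
        intro j hj
        induction j, hj using Nat.le_induction with
        | base => simpa using hbase
        | succ j hj ih =>
          rw [pow_succ 5 j, pow_mul, ← pow_succ]
          exact matrix_pow_five j hj ih
      obtain ⟨Y, hY⟩ := hall k (Nat.one_le_iff_ne_zero.mpr hk)
      have h0 : ((5 ^ k : ℕ) : R) = 0 := ZMod.natCast_self _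
      have h0' : ((5 ^ k : ℕ) : Matrix (Fin 2) (Fin 2) R) = 0 := by
        rw [← map_natCast (Matrix.scalar (Fin 2)), h0, map_zero]
      rw [h0', zero_mul, add_zero] at hY
      simpa using hY
    haveI := hker.isNilpotent
    exact solvable_of_ker_le_range χ'.ker.subtype χ' (Subgroup.range_subtype _).ge
  · -- derived length
    have key : ∀ j, 2 ^ j < k → (∀ x : R, (⟨up (5 ^ (2 ^ j) * x), hup _⟩ : H) ∈ derivedSeries H j) ∧
        (∀ x : R, ∃ h : low (5 ^ (2 ^ j) * x) ∈ H, (⟨_, h⟩ : H) ∈ derivedSeries H j) ∧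
        ∃ (t w : Rˣ), (t : R) ^ 2 - 1 = 5 ^ (2 ^ j) * w ∧ (⟨dia t, hdia t⟩ : H) ∈ derivedSeries H j := by
      have hunit : ∀ x : R, π x ≠ 0 → ∃ w : Rˣ, (w : R) = x := fun x hx => isUnit_of_cast_ne_zero hk hx
      intro j
      induction j with
      | zero =>
        intro _
        refine ⟨fun x => Subgroup.mem_top _, fun x => ⟨by simp [hH, coe_low, hπ5, Matrix.SpecialLinearGroup.coe_mul, Matrix.mul_apply, Fin.sum_univ_two], Subgroup.mem_top _⟩, ?_⟩
        obtain ⟨t, ht⟩ := hunit (6 : R) (by rw [map_ofNat]; exact n6)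
        obtain ⟨w, hw⟩ := hunit (7 : R) (by rw [map_ofNat]; exact n7)
        exact ⟨t, w, by rw [ht, hw]; norm_num, Subgroup.mem_top _⟩
      | succ j ih =>
        intro hj
        have hjk : 2 ^ j < k := lt_of_le_of_lt (Nat.pow_le_pow_right (by norm_num) (Nat.le_succ j)) hj
        obtain ⟨hu, hl, t, w, htw, ht⟩ := ih hjk
        set s : R := 5 ^ (2 ^ j) with hs
        have hs2 : (5 : R) ^ (2 ^ (j + 1)) = s * s := by
          rw [hs, ← pow_add]; congr 1; rw [pow_succ, mul_two]
        have hcm : ∀ {a b : H}, a ∈ derivedSeries H j → b ∈ derivedSeries H j →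
            a * b * a⁻¹ * b⁻¹ ∈ derivedSeries H (j + 1) := fun ha hb =>
          Subgroup.commutator_mem_commutator ha hb
        have hu' : ∀ x : R, (⟨up (5 ^ (2 ^ (j + 1)) * x), hup _⟩ : H) ∈ derivedSeries H (j + 1) := by
          intro x
          convert! hcm ht (hu (((w⁻¹ : Rˣ) : R) * x)) using 1
          refine Subtype.ext ?_
          show up _ = dia t * up _ * (dia t)⁻¹ * (up _)⁻¹
          rw [dia_comm_up, htw, hs2]
          congr 1
          linear_combination (-(s * s * x)) * w.mul_inv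
        have hl' : ∀ x : R, ∃ h : low (5 ^ (2 ^ (j + 1)) * x) ∈ H, (⟨_, h⟩ : H) ∈ derivedSeries H (j + 1) := by
          intro x
          have h : low (5 ^ (2 ^ (j + 1)) * x) ∈ H := by simp [hH, coe_low, hπ5, Matrix.SpecialLinearGroup.coe_mul, Matrix.mul_apply, Fin.sum_univ_two]
          refine ⟨h, ?_⟩
          obtain ⟨h', hh'⟩ := hl (((w⁻¹ : Rˣ) : R) * x)
          convert! hcm (inv_mem ht) hh' using 1
          refine Subtype.ext ?_
          show low _ = (dia t)⁻¹ * low _ * ((dia t)⁻¹)⁻¹ * (low _)⁻¹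
          rw [dia_comm_low, htw, hs2]
          congr 1
          linear_combination (-(s * s * x)) * w.mul_inv
        obtain ⟨hls, hls'⟩ := hl 1
        have hA := hcm (hu 1) hls'
        simp only [mul_one] at hA hls
        set A : (SpecialLinearGroup (Fin 2) R) := up s * low s * (up s)⁻¹ * (low s)⁻¹ with hAdef
        have e00 : A 0 0 = 1 + s * s + s * s * (s * s) := by
          simp [hAdef, up_inv, low_inv, coe_up, coe_low, Matrix.SpecialLinearGroup.coe_mul, Matrix.mul_apply, Fin.sum_univ_two]; ring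
        have e01 : A 0 1 = s * s * -s := by
          simp [hAdef, up_inv, low_inv, coe_up, coe_low, Matrix.SpecialLinearGroup.coe_mul, Matrix.mul_apply, Fin.sum_univ_two]; ring
        have e10 : A 1 0 = s * s * s := by
          simp [hAdef, up_inv, low_inv, coe_up, coe_low, Matrix.SpecialLinearGroup.coe_mul, Matrix.mul_apply, Fin.sum_univ_two]; ring
        have hs0 : π s = 0 := by rw [hs, map_pow, hπ5, zero_pow (by positivity)]
        obtain ⟨a, ha⟩ := hunit (A 0 0) (by simp [e00, hs0])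
        obtain ⟨v, hv⟩ := hunit ((2 + s * s + s * s * (s * s)) * (1 + s * s)) (by
          simp [hs0, map_ofNat]; exact n2)
        refine ⟨hu', hl', a, v, ?_, ?_⟩
        · rw [ha, e00, hv, hs2]; ring
        · have hdec := eq_low_dia_up A a ha.symm
          obtain ⟨hL, hL'⟩ := hl' (s * ((a⁻¹ : Rˣ) : R))
          have hU' := hu' (-s * ((a⁻¹ : Rˣ) : R))
          have e : dia a = (low (A 1 0 * ((a⁻¹ : Rˣ) : R)))⁻¹ * A * (up (A 0 1 * ((a⁻¹ : Rˣ) : R)))⁻¹ := by
            conv_rhs => enter [1, 2]; rw [hdec]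
            group
          convert! mul_mem (mul_mem (inv_mem hL') hA) (inv_mem hU') using 1
          refine Subtype.ext ?_
          show dia a = (low _)⁻¹ * A * (up _)⁻¹
          rw [e, e10, e01, hs2]
          congr 2 <;> ring_nf
    intro hbot
    have hmem := (key d (by omega)).1 1
    rw [hbot, Subgroup.mem_bot] at hmem
    have h1 : ((5 : ℕ) ^ (2 ^ d) : R) = 0 := by
      have := congrArg (fun g : H => (g : (SpecialLinearGroup (Fin 2) R)) 0 1) hmem
      simpa [up] using this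
    rw [← Nat.cast_pow, ZMod.natCast_eq_zero_iff, Nat.pow_dvd_pow_iff_le_right (by norm_num)] at h1
    omega

end Cfsg.Agent.S5896
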