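import Cfsg.Statements.S5902
import Cfsg.Agent.H61.Complements

set_option autoImplicit false
open Cfsg

namespace Cfsg.Agent.S5902

/-- Let G be a finite group, X a subgroup whose own subgroup lattice is complemented, and suppose X lies in exactly one maximal subgroup M of G. Then every subgroup H of G not contained in the normal core of M has a complement in the subgroup lattice of G (some C with H ⊔ C = G and H ⊓ C = 1); in particular the subgroup lattice of G modulo the normal core of M is complemented. -/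
theorem result {G : Type*} [Group G] [Finite G] (X M : Subgroup G)
    (hK : ComplementedLattice (Subgroup X))
    (hM : IsCoatom M) (hXM : X ≤ M) (huniq : ∀ M' : Subgroup G, IsCoatom M' → X ≤ M' → M' = M) :
    (∀ H : Subgroup G, ¬ H ≤ M.normalCore → ∃ C : Subgroup G, H ⊔ C = ⊤ ∧ H ⊓ C = ⊥) ∧
    ComplementedLattice (Subgroup (G ⧸ M.normalCore)) := by
  classical
  have key : ∀ H : Subgroup G, ¬ H ≤ M.normalCore → ∃ C : Subgroup G, H ⊔ C = ⊤ ∧ H ⊓ C = ⊥ := by
    intro H hH
    rw [SetLike.not_le_iff_exists] at hH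
    obtain ⟨h, hh, hhc⟩ := hH
    obtain ⟨g, hg⟩ : ∃ g : G, g * h * g⁻¹ ∉ M := by
      by_contra hne
      push Not at hne
      exact hhc hne
    set e := MulAut.conj g with he
    obtain ⟨C, h1, h2⟩ := H61.exists_compl_of_interval ⊥ X M bot_le
      (H61.interval_bot_of_complemented X hK) huniq (H.map e.toMonoidHom)
      (fun hle => hg (hle ⟨h, hh, rfl⟩)) (inf_bot_eq _)
    refine ⟨C.map e.symm.toMonoidHom, ?_, ?_⟩
    · have hH' : (H.map e.toMonoidHom).map e.symm.toMonoidHom = H := by
        rw [Subgroup.map_map]; convert Subgroup.map_id H; ext x; simp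
      rw [← hH', ← Subgroup.map_sup, h1, Subgroup.map_top_of_surjective]
      exact e.symm.surjective
    · have hH' : (H.map e.toMonoidHom).map e.symm.toMonoidHom = H := by
        rw [Subgroup.map_map]; convert Subgroup.map_id H; ext x; simp
      rw [← hH', ← Subgroup.map_inf _ _ _ e.symm.injective, h2, Subgroup.map_bot]
  refine ⟨key, ⟨fun Hb => ?_⟩⟩
  set K := M.normalCore with hKdef
  set π := QuotientGroup.mk' K with hπ
  set H := Hb.comap π with hH
  have hsurj : Function.Surjective π := QuotientGroup.mk'_surjective K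
  have hKH : K ≤ H := by
    intro x hx
    rw [hH, Subgroup.mem_comap]
    rw [hπ, QuotientGroup.mk'_apply, (QuotientGroup.eq_one_iff x).mpr hx]
    exact Hb.one_mem
  have hmap : H.map π = Hb := Subgroup.map_comap_eq_self_of_surjective hsurj Hb
  by_cases hle : H ≤ K
  · refine ⟨⊤, ?_⟩
    have : Hb = ⊥ := by
      rw [← hmap, Subgroup.map_eq_bot_iff, hπ, QuotientGroup.ker_mk']; exact hle
    rw [this]; exact isCompl_bot_top
  obtain ⟨C, h1, h2⟩ := key H hle
  refine ⟨C.map π, ?_, ?_⟩
  · rw [disjoint_iff, eq_bot_iff]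
    rintro _ ⟨hx, c, hc, rfl⟩
    have hcH : c ∈ H ⊓ C := ⟨hx, hc⟩
    rw [h2, Subgroup.mem_bot] at hcH
    simp [hcH]
  · rw [codisjoint_iff, ← hmap, ← Subgroup.map_sup, h1, Subgroup.map_top_of_surjective _ hsurj]

end Cfsg.Agent.S5902
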