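import Cfsg.Statements.S5903
import Cfsg.Agent.H61.Complements

set_option autoImplicit false
open Cfsg

namespace Cfsg.Agent.S5903

/-- Let G be a finite simple group, X a subgroup lying in exactly one maximal subgroup M of G, and N a subgroup of prime order with N ≤ X that is central in M. If the subgroup lattice of X/N is complemented, then the subgroup lattice of G is complemented. -/
theorem result {G : Type*} [Group G] [Finite G] [IsSimpleGroup G] (X M N : Subgroup G)
    (hM : IsCoatom M) (hXM : X ≤ M) (huniq : ∀ M' : Subgroup G, IsCoatom M' → X ≤ M' → M' = M)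
    (hNX : N ≤ X) (hN : (Nat.card N).Prime) (hcen : ∀ n ∈ N, ∀ m ∈ M, m * n = n * m)
    [(N.subgroupOf X).Normal] (hK : ComplementedLattice (Subgroup (X ⧸ N.subgroupOf X))) :
    ComplementedLattice (Subgroup G) := by
  classical
  have hint : ∀ Y : Subgroup G, N ≤ Y → Y ≤ X →
      ∃ C : Subgroup G, N ≤ C ∧ C ≤ X ∧ Y ⊔ C = X ∧ Y ⊓ C = N := by
    intro Y hNY hYX
    set π := QuotientGroup.mk' (N.subgroupOf X) with hπ
    have hsurj : Function.Surjective π := QuotientGroup.mk'_surjective _
    obtain ⟨Cb, hCb⟩ := hK.exists_isCompl ((Y.subgroupOf X).map π)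
    have hY : ((Y.subgroupOf X).map π).comap π = Y.subgroupOf X := by
      rw [Subgroup.comap_map_eq_self]
      rw [hπ, QuotientGroup.ker_mk']
      exact fun x hx => hNY hx
    have hsupC := congrArg (Subgroup.comap π) hCb.sup_eq_top
    rw [← Subgroup.comap_sup_eq _ _ _ hsurj, hY, Subgroup.comap_top] at hsupC
    have hinfC := congrArg (Subgroup.comap π) hCb.inf_eq_bot
    rw [Subgroup.comap_inf, hY, MonoidHom.comap_bot, hπ, QuotientGroup.ker_mk'] at hinfC
    refine ⟨(Cb.comap π).map X.subtype, ?_, Subgroup.map_subtype_le _, ?_, ?_⟩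
    · refine (Subgroup.map_subgroupOf_eq_of_le hNX).ge.trans (Subgroup.map_mono ?_)
      exact (QuotientGroup.ker_mk' (N.subgroupOf X)).ge.trans (MonoidHom.ker_le_comap π Cb)
    · rw [← Subgroup.map_subgroupOf_eq_of_le hYX, ← Subgroup.map_sup, hsupC,
        ← MonoidHom.range_eq_map, Subgroup.range_subtype]
    · rw [← Subgroup.map_subgroupOf_eq_of_le hYX, ← Subgroup.map_inf _ _ _ X.subtype_injective,
        hinfC, Subgroup.map_subgroupOf_eq_of_le hNX]
  have hN1 : N ≠ ⊥ := by
    rintro rfl
    simp [Nat.not_prime_one] at hN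
  refine ⟨fun H => ?_⟩
  by_cases hHbot : H = ⊥
  · exact ⟨⊤, hHbot ▸ isCompl_bot_top⟩
  by_cases hHtop : H = ⊤
  · exact ⟨⊥, hHtop ▸ isCompl_top_bot⟩
  -- a conjugate of `H` outside `M` meeting `N` trivially
  obtain ⟨g, hgM, hgN⟩ : ∃ g : G, ¬ H.map (MulAut.conj g).toMonoidHom ≤ M ∧
      H.map (MulAut.conj g).toMonoidHom ⊓ N = ⊥ := by
    by_contra hne
    simp only [not_exists, not_and] at hne
    let P : G → G → Prop := fun g n => g⁻¹ * n * g ∈ H
    have hcases : ∀ g : G, (∀ n ∈ N, g⁻¹ * n * g ∈ H) ∨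
        (∀ n ∈ N, ∀ h ∈ H, (g⁻¹ * n * g) * h = h * (g⁻¹ * n * g)) := by
      intro g
      by_cases hle : H.map (MulAut.conj g).toMonoidHom ≤ M
      · right
        intro n hn h hh
        have hc : (g * h * g⁻¹) * n = n * (g * h * g⁻¹) := hcen n hn _ (hle ⟨h, hh, rfl⟩)
        calc g⁻¹ * n * g * h = g⁻¹ * (n * (g * h * g⁻¹)) * g := by group
          _ = g⁻¹ * ((g * h * g⁻¹) * n) * g := by rw [hc]
          _ = h * (g⁻¹ * n * g) := by group
      · left
        intro n hn
        haveI := Fact.mk hN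
        rcases ((H.map (MulAut.conj g).toMonoidHom).subgroupOf N).eq_bot_or_eq_top_of_prime_card with h' | h'
        · exact absurd (disjoint_iff.mp (Subgroup.subgroupOf_eq_bot.mp h')) (hne g hle)
        · obtain ⟨h, hh, he⟩ := Subgroup.subgroupOf_eq_top.mp h' hn
          rw [← he]
          simpa [mul_assoc] using hh
    set Z := Subgroup.centralizer (H : Set G) with hZ
    have hnc : Subgroup.normalClosure (N : Set G) ≤ H ⊔ Z := by
      refine (Subgroup.closure_le _).mpr ?_
      intro x hx
      obtain ⟨n, hn, hconj⟩ := Group.mem_conjugatesOfSet_iff.mp hx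
      obtain ⟨g, hg⟩ := isConj_iff.mp hconj
      have hxe : x = (g⁻¹)⁻¹ * n * g⁻¹ := by rw [inv_inv, hg]
      rcases hcases g⁻¹ with h | h
      · exact hxe ▸ Subgroup.mem_sup_left (h n hn)
      · exact hxe ▸ Subgroup.mem_sup_right (Subgroup.mem_centralizer_iff.mpr fun y hy => (h n hn y hy).symm)
    have hncT : Subgroup.normalClosure (N : Set G) = ⊤ := by
      rcases (Subgroup.normalClosure_normal (s := (N : Set G))).eq_bot_or_eq_top with h | h
      · exact absurd (le_bot_iff.mp (h ▸ Subgroup.le_normalClosure)) hN1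
      · exact h
    have hHn : H.Normal := by
      apply Subgroup.normalizer_eq_top_iff.mp
      rw [← top_le_iff, ← hncT]
      exact hnc.trans (sup_le Subgroup.le_normalizer (Subgroup.centralizer_le_normalizer _))
    exact (hHn.eq_bot_or_eq_top).elim hHbot hHtop
  obtain ⟨C, h1, h2⟩ := H61.exists_compl_of_interval N X M hNX hint huniq _ hgM hgN
  set e := MulAut.conj g with he
  have hH' : (H.map e.toMonoidHom).map e.symm.toMonoidHom = H := by
    rw [Subgroup.map_map]; convert Subgroup.map_id H; ext x; simp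
  refine ⟨C.map e.symm.toMonoidHom, ?_, ?_⟩
  · rw [disjoint_iff, ← hH', ← Subgroup.map_inf _ _ _ e.symm.injective, h2, Subgroup.map_bot]
  · rw [codisjoint_iff, ← hH', ← Subgroup.map_sup, h1, Subgroup.map_top_of_surjective]
    exact e.symm.surjective

end Cfsg.Agent.S5903
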