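import Cfsg.Statements.S5904

set_option autoImplicit false
open scoped Pointwise
open Cfsg

namespace Cfsg.Agent.S5904

theorem result {Ω : Type*} [Fintype Ω] [DecidableEq Ω] (hΩ : 2 < Fintype.card Ω)
    (O : Set Ω) (hO : Nat.card O = Nat.card ↥Oᶜ) :
    ¬ IsCoatom (MulAction.stabilizer (Equiv.Perm Ω) O) := by
  classical
  rintro ⟨_, hmax⟩
  have hcard : O.ncard + Oᶜ.ncard = Fintype.card Ω := by
    rw [Set.ncard_add_ncard_compl, Nat.card_eq_fintype_card]
  rw [Nat.card_coe_set_eq, Nat.card_coe_set_eq] at hO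
  have hO2 : 2 ≤ O.ncard := by omega
  obtain ⟨e⟩ : Nonempty (O ≃ ↥Oᶜ) := by
    apply Finite.card_eq.1
    rwa [Nat.card_coe_set_eq, Nat.card_coe_set_eq]
  -- the swap
  let t : Equiv.Perm Ω :=
    (Equiv.Set.sumCompl O).symm.trans ((Equiv.sumComm _ _).trans ((Equiv.sumCongr e.symm e).trans (Equiv.Set.sumCompl O)))
  have ht : ∀ x, t x ∈ O ↔ x ∉ O := by
    intro x
    by_cases hx : x ∈ O
    · simp [t, Equiv.Set.sumCompl_symm_apply_of_mem hx, hx]
      exact (e ⟨x, hx⟩).2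
    · simp [t, Equiv.Set.sumCompl_symm_apply_of_notMem hx, hx]
  have ht' : t • O = Oᶜ := by
    ext x
    rw [Set.mem_smul_set_iff_inv_smul_mem, Set.mem_compl_iff]
    have := ht (t⁻¹ • x)
    simp only [Equiv.Perm.smul_def, Equiv.Perm.inv_def, Equiv.apply_symm_apply] at this ⊢
    tauto
  have ht'' : t • Oᶜ = O := by
    rw [Set.smul_set_compl, ht', compl_compl]
  set M := MulAction.stabilizer (Equiv.Perm Ω) ({O, Oᶜ} : Set (Set Ω)) with hM
  have hle : MulAction.stabilizer (Equiv.Perm Ω) O ≤ M := by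
    intro g hg
    rw [MulAction.mem_stabilizer_iff] at hg
    have : g • Oᶜ = Oᶜ := by rw [Set.smul_set_compl, hg]
    rw [hM, MulAction.mem_stabilizer_iff]
    change (fun y => g • y) '' {O, Oᶜ} = _
    rw [Set.image_pair, hg, this]
  have hOne : O.Nonempty := Set.nonempty_of_ncard_ne_zero (by omega)
  have hlt : MulAction.stabilizer (Equiv.Perm Ω) O < M := by
    refine lt_of_le_of_ne hle fun h => ?_
    have : t ∈ M := by
      rw [hM, MulAction.mem_stabilizer_iff]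
      change (fun y => t • y) '' {O, Oᶜ} = _
      rw [Set.image_pair, ht', ht'', Set.pair_comm]
    rw [← h, MulAction.mem_stabilizer_iff, ht'] at this
    obtain ⟨x, hx⟩ := hOne
    exact ((Set.ext_iff.1 this x).2 hx) hx
  have hMtop := hmax M hlt
  obtain ⟨a, ha, a', ha', haa⟩ : ∃ a, a ∈ O ∧ ∃ a', a' ∈ O ∧ a' ≠ a := by
    obtain ⟨a, ha⟩ := hOne
    obtain ⟨a', ha', hne⟩ := Set.exists_ne_of_one_lt_ncard (show 1 < O.ncard by omega) a
    exact ⟨a, ha, a', ha', hne⟩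
  obtain ⟨b, hb⟩ : Oᶜ.Nonempty := Set.nonempty_of_ncard_ne_zero (by omega)
  have hsw : Equiv.swap a b ∈ M := hMtop ▸ Subgroup.mem_top _
  rw [hM, MulAction.mem_stabilizer_iff] at hsw
  have : Equiv.swap a b • O ∈ ({O, Oᶜ} : Set (Set Ω)) := by
    rw [← hsw]; exact Set.smul_mem_smul_set (Set.mem_insert _ _)
  have hbO : b ∈ Equiv.swap a b • O := ⟨a, ha, by simp⟩
  have ha'O : a' ∈ Equiv.swap a b • O := ⟨a', ha', by
    have : a' ≠ b := fun h => hb (h ▸ ha')
    simp [Equiv.swap_apply_of_ne_of_ne haa this]⟩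
  rcases this with h | h
  · exact hb (h ▸ hbO)
  · exact (Set.mem_singleton_iff.1 h ▸ ha'O) ha'

end Cfsg.Agent.S5904
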