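import Cfsg.Statements.S5909
import Cfsg.Agent.H46.Wreath

set_option autoImplicit false
open Cfsg

namespace Cfsg.Agent.S5909

theorem result {Ω : Type*} [Fintype Ω] [DecidableEq Ω] (h8 : Fintype.card Ω ≠ 8) (a b : ℕ) (ha : 2 ≤ a) (hb : 2 ≤ b)
    (f : Ω → Fin b) (hf : ∀ i : Fin b, Nat.card {x : Ω // f x = i} = a) :
    IsCoatom ((Subgroup.closure {g : Equiv.Perm Ω | ∀ x y : Ω, f x = f y ↔ f (g x) = f (g y)} ⊓ alternatingGroup Ω).subgroupOf (alternatingGroup Ω)) := by
  classical
  rw [H46.closure_eq_partStab]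
  change IsCoatom ((H46.evenPartStab f).subgroupOf (alternatingGroup Ω))
  have hKA : H46.evenPartStab f ≤ alternatingGroup Ω := inf_le_right
  obtain ⟨g₀, hg₀A, hg₀⟩ := H46.exists_not_mem_partStab f hf ha hb
  refine ⟨fun h => hg₀ ((Subgroup.subgroupOf_eq_top.1 h) hg₀A).1, fun M₀ hM₀ => ?_⟩
  set M := M₀.map (alternatingGroup Ω).subtype with hMdef
  have hMA : M ≤ alternatingGroup Ω := Subgroup.map_subtype_le M₀
  have hKM : H46.evenPartStab f ≤ M := fun x hx =>
    ⟨⟨x, hKA hx⟩, hM₀.le (Subgroup.mem_subgroupOf.2 hx), rfl⟩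
  obtain ⟨g, hgM₀, hgK⟩ := SetLike.exists_of_lt hM₀
  have hgM : (g : Equiv.Perm Ω) ∈ M := ⟨g, hgM₀, rfl⟩
  have hgW : (g : Equiv.Perm Ω) ∉ H46.partStab f :=
    fun h => hgK (Subgroup.mem_subgroupOf.2 ⟨h, g.2⟩)
  have finish : alternatingGroup Ω ≤ M → M₀ = ⊤ := fun h => by
    refine eq_top_iff.2 fun x _ => ?_
    obtain ⟨y, hy, e⟩ := h x.2
    rwa [Subtype.ext e] at hy
  by_cases hab : 3 ≤ a ∨ 3 ≤ b
  · by_cases hsmall : 3 ≤ a ∨ 5 ≤ b
    · have := H46.isPreprimitive_of_gt f hf ha hb hab M hKM (fun h => hgW (h hgM))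
      obtain ⟨c, hc, hc3⟩ : ∃ c ∈ M, c.IsThreeCycle := by
        rcases hsmall with h | h
        · have h3 : 2 < {x | f x = ⟨0, by omega⟩}.ncard := by
            rw [H46.ncard_fibre f hf]; omega
          obtain ⟨u, v, w, hu, hv, hw, huv, huw, hvw⟩ := (Set.two_lt_ncard_iff (Set.toFinite _)).1 h3
          have hc := Equiv.Perm.isThreeCycle_swap_mul_swap_same huv huw hvw
          exact ⟨_, hKM ⟨Subgroup.mul_mem _ (H46.swap_mem_partStab (hu.trans hv.symm))
            (H46.swap_mem_partStab (hu.trans hw.symm)), hc.mem_alternatingGroup⟩, hc⟩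
        · by_cases ha2 : a = 2
          · exact H46.exists_threeCycle_of_two f hf ha2 h M hKM g hgM hgW
          · have h3 : 2 < {x | f x = ⟨0, by omega⟩}.ncard := by
              rw [H46.ncard_fibre f hf]; omega
            obtain ⟨u, v, w, hu, hv, hw, huv, huw, hvw⟩ := (Set.two_lt_ncard_iff (Set.toFinite _)).1 h3
            have hc := Equiv.Perm.isThreeCycle_swap_mul_swap_same huv huw hvw
            exact ⟨_, hKM ⟨Subgroup.mul_mem _ (H46.swap_mem_partStab (hu.trans hv.symm))
              (H46.swap_mem_partStab (hu.trans hw.symm)), hc.mem_alternatingGroup⟩, hc⟩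
      exact finish (Equiv.Perm.alternatingGroup_le_of_isPreprimitive_of_isThreeCycle_mem this hc3 hc)
    · -- two points in each of three blocks
      obtain ⟨rfl, rfl⟩ : a = 2 ∧ b = 3 := by
        have hc := H46.card_eq_mul f hf
        rcases (show b = 3 ∨ b = 4 by omega) with rfl | rfl
        · exact ⟨by omega, rfl⟩
        · exfalso
          have : a = 2 := by omega
          omega
      have hcard : Nat.card Ω = 6 := by
        rw [Nat.card_eq_fintype_card, H46.card_eq_mul f hf]
      have h24 := (H46.two_dvd_card_ker f hf rfl (by omega)).2 rfl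
      have hA : Nat.card (alternatingGroup Ω) = 360 := by
        have : Nontrivial Ω := Fintype.one_lt_card_iff_nontrivial.1
          (by rw [← Nat.card_eq_fintype_card, hcard]; omega)
        rw [nat_card_alternatingGroup, hcard]
        rfl
      have hlt : Nat.card (H46.evenPartStab f) < Nat.card M₀ := by
        rw [← Nat.card_congr (Subgroup.subgroupOfEquivOfLe hKA).toEquiv]
        by_contra h
        exact hM₀.ne (Subgroup.eq_of_le_of_card_ge hM₀.le (not_lt.1 h))
      have hdM : Nat.card (H46.evenPartStab f) ∣ Nat.card M₀ := by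
        rw [← Nat.card_congr (Subgroup.subgroupOfEquivOfLe hKA).toEquiv]
        exact Subgroup.card_dvd_of_le hM₀.le
      have hMc := M₀.card_mul_index
      rw [hA] at hMc
      obtain ⟨k, hk⟩ := dvd_trans h24 hdM
      have hk2 : 2 ≤ k := by
        have := Nat.le_of_dvd Nat.card_pos h24
        omega
      have h15 : k * M₀.index = 15 := by rw [hk] at hMc; nlinarith
      have hidx : M₀.index ≤ 5 := by
        have hk' : k ∣ 15 := ⟨_, h15.symm⟩
        have : k ≠ 2 := by rintro rfl; omega
        have : 3 * M₀.index ≤ k * M₀.index := Nat.mul_le_mul_right _ (by omega)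
        omega
      by_contra hne
      have h1 : M₀.index ≠ 1 := fun h => hne (Subgroup.index_eq_one.1 h)
      have : IsSimpleGroup (alternatingGroup Ω) := alternatingGroup.isSimpleGroup (by omega)
      have hcore : M₀.normalCore = ⊥ := by
        rcases (IsSimpleGroup.eq_bot_or_eq_top_of_normal M₀.normalCore inferInstance) with h | h
        · exact h
        · exact absurd (top_le_iff.1 (h ▸ M₀.normalCore_le)) hne
      have hinj : Function.Injective (MulAction.toPermHom (alternatingGroup Ω) (alternatingGroup Ω ⧸ M₀)) := by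
        rw [← MonoidHom.ker_eq_bot_iff, ← Subgroup.normalCore_eq_ker, hcore]
      have := Nat.card_le_card_of_injective _ hinj
      rw [hA, Nat.card_perm, ← Subgroup.index_eq_card] at this
      have := this.trans (Nat.factorial_le hidx)
      norm_num [Nat.factorial] at this
  · -- four points
    obtain ⟨rfl, rfl⟩ : a = 2 ∧ b = 2 := by omega
    have hcard : Nat.card Ω = 4 := by rw [Nat.card_eq_fintype_card, H46.card_eq_mul f hf]
    have h4 := (H46.two_dvd_card_ker f hf rfl (by omega)).1
    have hA : Nat.card (alternatingGroup Ω) = 12 := by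
      have : Nontrivial Ω := Fintype.one_lt_card_iff_nontrivial.1
        (by rw [← Nat.card_eq_fintype_card, hcard]; omega)
      rw [nat_card_alternatingGroup, hcard]
      rfl
    have hKc : Nat.card ((H46.evenPartStab f).subgroupOf (alternatingGroup Ω)) = Nat.card (H46.evenPartStab f) :=
      Nat.card_congr (Subgroup.subgroupOfEquivOfLe hKA).toEquiv
    have hd := Subgroup.card_dvd_of_le hM₀.le
    have hlt : Nat.card (H46.evenPartStab f) < Nat.card M₀ := by
      rw [← hKc]
      by_contra h
      exact hM₀.ne (Subgroup.eq_of_le_of_card_ge hM₀.le (not_lt.1 h))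
    rw [hKc] at hd
    obtain ⟨k, hk⟩ := dvd_trans h4 hd
    have hMd : Nat.card M₀ ∣ 12 := hA ▸ Subgroup.card_subgroup_dvd_card M₀
    have h4le := Nat.le_of_dvd Nat.card_pos h4
    have : k ≤ 3 := by
      have := Nat.le_of_dvd (by omega) hMd
      omega
    have hk3 : k = 3 := by
      interval_cases k <;> simp_all <;> omega
    exact Subgroup.eq_top_of_card_eq _ (by rw [hA]; omega)

end Cfsg.Agent.S5909
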