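import Cfsg.Statements.S5910
import Cfsg.Agent.H46.Wreath

set_option autoImplicit false
open Cfsg

namespace Cfsg.Agent.S5910

/-- The eight points as `F₂³`, with the pairs as fibres of the projection to the first factor. -/
abbrev P2 := ZMod 2 × ZMod 2
abbrev V3 := P2 × ZMod 2

theorem fourth_point : ∀ a b c d : P2, a ≠ b → a ≠ c → a ≠ d → b ≠ c → b ≠ d → c ≠ d → a + b + c = d := by
  decide

theorem sum_new : ∀ x y z : P2, x ≠ y → x ≠ z → y ≠ z → x + y + z ≠ x ∧ x + y + z ≠ y ∧ x + y + z ≠ z := by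
  decide

theorem perm_affine (σ : Equiv.Perm P2) (x y z : P2) : σ (x + y + z) = σ x + σ y + σ z := by
  by_cases hxy : x = y
  · subst hxy
    have : ∀ a b : P2, a + a + b = b := by decide
    rw [this, this]
  by_cases hxz : x = z
  · subst hxz
    have : ∀ a b : P2, a + b + a = b := by decide
    rw [this, this]
  by_cases hyz : y = z
  · subst hyz
    have : ∀ a b : P2, a + b + b = a := by decide
    rw [this, this]
  obtain ⟨h1, h2, h3⟩ := sum_new x y z hxy hxz hyz
  exact (fourth_point _ _ _ _ (σ.injective.ne hxy) (σ.injective.ne hxz) (σ.injective.ne h1.symm)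
    (σ.injective.ne hyz) (σ.injective.ne h2.symm) (σ.injective.ne h3.symm)).symm

theorem sign_addRight : ∀ e : ZMod 2, Equiv.Perm.sign (Equiv.addRight e : Equiv.Perm (ZMod 2)) = if e = 0 then 1 else -1 := by
  decide

theorem even_affine : ∀ ε : P2 → ZMod 2, (∏ v : P2, (if ε v = 0 then (1 : ℤˣ) else -1)) = 1 →
    ∀ x y z : P2, ε (x + y + z) = ε x + ε y + ε z := by
  decide

theorem zmod2_shift : ∀ a b : ZMod 2, a ≠ b → b = a + 1 := by decide

/-- An even permutation preserving the pairs is affine. -/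
theorem even_pair_perm_affine (g : Equiv.Perm V3) (hg : ∀ u v : V3, u.1 = v.1 ↔ (g u).1 = (g v).1)
    (hs : Equiv.Perm.sign g = 1) (x y z : V3) : g (x + y + z) = g x + g y + g z := by
  have hσb : Function.Bijective (fun v : P2 => (g (v, 0)).1) :=
    Finite.injective_iff_bijective.1 fun u v h => (hg (u, 0) (v, 0)).2 h
  let σ : Equiv.Perm P2 := Equiv.ofBijective _ hσb
  let ε : P2 → ZMod 2 := fun v => (g (v, 0)).2
  have hform : ∀ v t, g (v, t) = (σ v, t + ε v) := by
    intro v t
    have h1 : (g (v, t)).1 = σ v := (hg (v, t) (v, 0)).1 rfl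
    refine Prod.ext h1 ?_
    rcases eq_or_ne t 0 with rfl | ht
    · exact (zero_add _).symm
    · have h2 : (g (v, 0)).2 ≠ (g (v, t)).2 := fun e => ht <| by
        have h3 : g (v, 0) = g (v, t) := Prod.ext h1.symm e
        exact (congrArg Prod.snd (g.injective h3)).symm
      have h4 : t = 0 + 1 := zmod2_shift 0 t ht.symm
      rw [zmod2_shift _ _ h2]
      show ε v + 1 = t + ε v
      rw [h4, zero_add, add_comm]
  have hdec : g = (Equiv.prodCongrLeft fun _ : ZMod 2 => σ) *
      (Equiv.prodCongrRight fun v : P2 => Equiv.addRight (ε v)) := by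
    ext1 ⟨v, t⟩
    rw [hform]
    rfl
  have hε : (∏ v : P2, (if ε v = 0 then (1 : ℤˣ) else -1)) = 1 := by
    rw [hdec, Equiv.Perm.sign_mul, Equiv.Perm.sign_prodCongrLeft, Equiv.Perm.sign_prodCongrRight,
      Finset.prod_const, Finset.card_univ, ZMod.card, Int.units_sq, one_mul] at hs
    refine Eq.trans ?_ hs
    exact Finset.prod_congr rfl fun v _ => (sign_addRight (ε v)).symm
  obtain ⟨x₁, x₂⟩ := x
  obtain ⟨y₁, y₂⟩ := y
  obtain ⟨z₁, z₂⟩ := z
  simp only [Prod.mk_add_mk, hform]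
  rw [perm_affine σ, even_affine ε hε]
  refine Prod.ext rfl ?_
  show x₂ + y₂ + z₂ + (ε x₁ + ε y₁ + ε z₁) = x₂ + ε x₁ + (y₂ + ε y₁) + (z₂ + ε z₁)
  abel

/-- The affine group of `F₂³`. -/
def affGrp : Subgroup (Equiv.Perm V3) where
  carrier := {g | ∀ x y z, g (x + y + z) = g x + g y + g z}
  one_mem' := fun _ _ _ => rfl
  mul_mem' := fun {g h} hg hh x y z => by
    simp only [Equiv.Perm.mul_apply]
    rw [hh x y z, hg]
  inv_mem' := fun {g} hg x y z => by
    apply g.injective
    rw [hg]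
    simp [Equiv.Perm.inv_def]

/-- Interchange of the last two coordinates. -/
def shear : Equiv.Perm V3 :=
  Equiv.swap (((0, 1), 0) : V3) ((0, 0), 1) * Equiv.swap (((1, 1), 0) : V3) ((1, 0), 1)

theorem shear_apply : ∀ v : V3, shear v = ((v.1.1, v.2), v.1.2) := by decide

theorem result {Ω : Type*} [Fintype Ω] [DecidableEq Ω] (h8 : Fintype.card Ω = 8)
    (f : Ω → Fin 4) (hf : ∀ i : Fin 4, Nat.card {x : Ω // f x = i} = 2) :
    ¬ IsCoatom ((Subgroup.closure {g : Equiv.Perm Ω | ∀ x y : Ω, f x = f y ↔ f (g x) = f (g y)} ⊓ alternatingGroup Ω).subgroupOf (alternatingGroup Ω)) := by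
  classical
  rw [H46.closure_eq_partStab]
  rintro ⟨-, hmax⟩
  let eb : Fin 4 ≃ P2 := (Fintype.equivFinOfCardEq (α := P2) (by rfl)).symm
  let c : Ω ≃ V3 := (H46.coord f hf).trans (Equiv.prodCongr eb (Fintype.equivFinOfCardEq (α := ZMod 2) (by rfl)).symm)
  have hc : ∀ x, (c x).1 = eb (f x) := fun x => rfl
  let C : Equiv.Perm Ω ≃* Equiv.Perm V3 := c.permCongrHom
  have hsign : ∀ g, Equiv.Perm.sign (C g) = Equiv.Perm.sign g := fun g => Equiv.Perm.sign_permCongr c g
  have hCval : ∀ g v, C g v = c (g (c.symm v)) := fun g v => rfl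
  let K : Subgroup (alternatingGroup Ω) :=
    affGrp.comap (C.toMonoidHom.comp (alternatingGroup Ω).subtype)
  have hle : (H46.partStab f ⊓ alternatingGroup Ω).subgroupOf (alternatingGroup Ω) ≤ K := by
    intro g hg
    obtain ⟨hgW, hgA⟩ := Subgroup.mem_subgroupOf.1 hg
    show C g ∈ affGrp
    intro x y z
    refine even_pair_perm_affine (C g) ?_ (by rw [hsign]; exact Equiv.Perm.mem_alternatingGroup.1 hgA) x y z
    intro u v
    obtain ⟨a, rfl⟩ := c.surjective u
    obtain ⟨b, rfl⟩ := c.surjective v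
    rw [hCval, hCval, c.symm_apply_apply, c.symm_apply_apply, hc, hc, hc, hc, eb.apply_eq_iff_eq,
      eb.apply_eq_iff_eq]
    exact hgW a b
  have hshA : C.symm shear ∈ alternatingGroup Ω := by
    rw [Equiv.Perm.mem_alternatingGroup, ← hsign, MulEquiv.apply_symm_apply, shear, Equiv.Perm.sign_mul,
      Equiv.Perm.sign_swap (by decide), Equiv.Perm.sign_swap (by decide)]
    rfl
  have hlt : (H46.partStab f ⊓ alternatingGroup Ω).subgroupOf (alternatingGroup Ω) < K := by
    refine lt_of_le_of_ne hle fun h => ?_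
    have hm : (⟨_, hshA⟩ : alternatingGroup Ω) ∈ K := by
      show C (C.symm shear) ∈ affGrp
      rw [MulEquiv.apply_symm_apply]
      intro x y z
      simp only [shear_apply]
      rfl
    rw [← h] at hm
    have h1 := (Subgroup.mem_subgroupOf.1 hm).1 (c.symm ((0, 0), 0)) (c.symm ((0, 0), 1))
    rw [← eb.apply_eq_iff_eq, ← eb.apply_eq_iff_eq, ← hc, ← hc, ← hc, ← hc, ← hCval, ← hCval] at h1
    simp only [Equiv.apply_symm_apply, MulEquiv.apply_symm_apply, shear_apply] at h1
    exact absurd (h1.1 trivial) (by decide)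
  have htop := hmax K hlt
  let t : Equiv.Perm V3 := Equiv.swap ((0, 0), 0) ((1, 0), 0) * Equiv.swap ((0, 0), 0) ((0, 1), 0)
  have htA : C.symm t ∈ alternatingGroup Ω := by
    rw [Equiv.Perm.mem_alternatingGroup, ← hsign, MulEquiv.apply_symm_apply, Equiv.Perm.sign_mul,
      Equiv.Perm.sign_swap (by decide), Equiv.Perm.sign_swap (by decide)]
    rfl
  have hm : (⟨_, htA⟩ : alternatingGroup Ω) ∈ K := htop ▸ Subgroup.mem_top _
  have hm' : C (C.symm t) ∈ affGrp := hm
  rw [MulEquiv.apply_symm_apply] at hm'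
  exact absurd (hm' ((0, 0), 0) ((1, 0), 0) ((0, 0), 1)) (by decide)

end Cfsg.Agent.S5910
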