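import Cfsg.Statements.S5911
import Cfsg.Agent.H46.Perm
-- import your own Cfsg.Agent.* helpers here

set_option autoImplicit false
open Cfsg

namespace Cfsg.Agent.S5911

/-- Let Ω be a finite set whose size n is not 6. Then every subgroup of the symmetric group on Ω of index n is the stabilizer of a point. -/
theorem result {Ω : Type*} [Fintype Ω] [DecidableEq Ω] (h6 : Fintype.card Ω ≠ 6)
    (H : Subgroup (Equiv.Perm Ω)) (hH : H.index = Fintype.card Ω) :
    ∃ x : Ω, H = MulAction.stabilizer (Equiv.Perm Ω) x := by
  classical
  by_cases htr : MulAction.IsPretransitive H Ω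
  · rcases Nat.lt_or_ge (Fintype.card Ω) 2 with h | h
    · have h0 : Fintype.card Ω ≠ 0 := fun e => H.index_ne_zero_of_finite (hH.trans e)
      obtain ⟨x⟩ : Nonempty Ω := Fintype.card_pos_iff.1 (by omega)
      have : Subsingleton Ω := Fintype.card_le_one_iff_subsingleton.1 (by omega)
      exact ⟨x, Subsingleton.elim _ _⟩
    · exact absurd htr (H46.not_transitive_of_index_eq_card H hH h h6)
  · exact H46.eq_stabilizer_of_index_eq_card_of_not_transitive H hH htr

end Cfsg.Agent.S5911
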