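import Cfsg.Statements.S5912
import Cfsg.Agent.H46.SixPoints

set_option autoImplicit false
open Cfsg

namespace Cfsg.Agent.S5912

theorem result {Ω : Type*} [Fintype Ω] [DecidableEq Ω] (h6 : Fintype.card Ω = 6) :
    ∃ H₁ H₂ : Subgroup (Equiv.Perm Ω), H₁.index = 6 ∧ H₂.index = 6 ∧
      (¬ ∃ g : Equiv.Perm Ω, Subgroup.map (MulAut.conj g).toMonoidHom H₁ = H₂) ∧
      ∀ H : Subgroup (Equiv.Perm Ω), H.index = 6 →
        ∃ g : Equiv.Perm Ω, Subgroup.map (MulAut.conj g).toMonoidHom H₁ = H ∨ Subgroup.map (MulAut.conj g).toMonoidHom H₂ = H := by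
  classical
  obtain ⟨x₀⟩ : Nonempty Ω := Fintype.card_pos_iff.1 (by omega)
  obtain ⟨T, hT, hTi⟩ := H46.exists_transitive_index_six h6
  refine ⟨MulAction.stabilizer (Equiv.Perm Ω) x₀, T, ?_, hTi, ?_, ?_⟩
  · rw [MulAction.index_stabilizer_of_transitive, Nat.card_eq_fintype_card, h6]
  · rintro ⟨g, hg⟩
    obtain ⟨y, hy⟩ : ∃ y, y ≠ g x₀ := Fintype.exists_ne_of_one_lt_card (by omega) _
    obtain ⟨⟨t, ht⟩, hty⟩ := MulAction.exists_smul_eq T (g x₀) y
    rw [← hg] at ht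
    obtain ⟨s, hs, rfl⟩ := ht
    have e : g (s (g⁻¹ (g x₀))) = y := hty
    have hs' : s x₀ = x₀ := hs
    simp [hs'] at e
    exact hy e.symm
  · intro H hH
    by_cases htr : MulAction.IsPretransitive H Ω
    · obtain ⟨g, hg⟩ := H46.conj_of_transitive_index_six h6 T H hTi hH
      exact ⟨g, Or.inr hg⟩
    · obtain ⟨x, rfl⟩ := H46.eq_stabilizer_of_index_eq_card_of_not_transitive H (by rw [hH, h6]) htr
      refine ⟨Equiv.swap x₀ x, Or.inl ?_⟩
      have := MulAction.stabilizer_smul_eq_stabilizer_map_conj (Equiv.swap x₀ x) x₀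
      rw [Equiv.Perm.smul_def, Equiv.swap_apply_left] at this
      exact this.symm

end Cfsg.Agent.S5912
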