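import Cfsg.Statements.S5913

set_option autoImplicit false
open Cfsg

namespace Cfsg.Agent.S5913

/-- Let S be a non-abelian simple group and n a natural number. Every normal subgroup N of the direct power S^n (functions Fin n → S) is a subproduct: there is a set T of coordinates such that N consists exactly of the elements whose coordinates outside T are trivial. In particular the minimal normal subgroups of S^n are its n factors. -/
theorem result {S : Type*} [Group S] [IsSimpleGroup S] (hS : ¬ IsMulCommutative S) (n : ℕ)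
    (N : Subgroup (Fin n → S)) [N.Normal] :
    ∃ T : Finset (Fin n), ∀ x : Fin n → S, x ∈ N ↔ ∀ i, i ∉ T → x i = 1 := by
  classical
  refine ⟨Finset.univ.filter (fun i => ∃ x ∈ N, x i ≠ 1), fun x => ⟨fun hx i hi => ?_, fun hx => ?_⟩⟩
  · by_contra h
    exact hi (Finset.mem_filter.mpr ⟨Finset.mem_univ _, x, hx, h⟩)
  have hcenter : Subgroup.center S = ⊥ := by
    rcases (inferInstance : (Subgroup.center S).Normal).eq_bot_or_eq_top with h | h
    · exact h
    · exact absurd ⟨⟨fun a b => (Subgroup.mem_center_iff.mp (h ▸ Subgroup.mem_top a) b).symm⟩⟩ hS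
  have key : ∀ i, (∃ y ∈ N, y i ≠ 1) → ∀ s : S, Pi.mulSingle i s ∈ N := by
    rintro i ⟨y, hy, hyi⟩
    obtain ⟨z, hz⟩ : ∃ z : S, z * y i ≠ y i * z := by
      by_contra h
      push Not at h
      have : y i ∈ Subgroup.center S := Subgroup.mem_center_iff.mpr h
      rw [hcenter] at this
      exact hyi (Subgroup.mem_bot.mp this)
    let P : Subgroup S := N.comap (MonoidHom.mulSingle (fun _ => S) i)
    have hPn : P.Normal := ‹N.Normal›.comap _
    have hmem : Pi.mulSingle i (z * y i * z⁻¹ * (y i)⁻¹) ∈ N := by
      have h1 : Pi.mulSingle i z * y * (Pi.mulSingle i z)⁻¹ * y⁻¹ ∈ N :=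
        N.mul_mem (‹N.Normal›.conj_mem y hy _) (N.inv_mem hy)
      convert h1 using 1
      ext j
      by_cases hj : j = i
      · subst hj; simp
      · simp [hj]
    rcases hPn.eq_bot_or_eq_top with h | h
    · exfalso
      have h2 : z * y i * z⁻¹ * (y i)⁻¹ ∈ P := hmem
      rw [h, Subgroup.mem_bot, mul_inv_eq_one, mul_inv_eq_iff_eq_mul] at h2
      exact hz h2
    · intro s
      exact (h ▸ Subgroup.mem_top s : s ∈ P)
  apply Subgroup.pi_mem_of_mulSingle_mem
  intro i
  by_cases h : ∃ y ∈ N, y i ≠ 1
  · exact key i h (x i)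
  · rw [hx i (by simp only [Finset.mem_filter, Finset.mem_univ, true_and]; exact h), Pi.mulSingle_one]
    exact N.one_mem

end Cfsg.Agent.S5913
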