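import Cfsg.Statements.S5914
import Cfsg.Agent.H61.CharSimple

set_option autoImplicit false
open Cfsg

namespace Cfsg.Agent.S5914

/-- A non-trivial finite group G is characteristically simple (its only characteristic subgroups are 1 and G) if and only if G is isomorphic to a direct power S^n (n ≥ 1) of some simple group S (possibly cyclic of prime order). -/
theorem result {G : Type*} [Group G] [Finite G] [Nontrivial G] :
    (∀ H : Subgroup G, H.Characteristic → H = ⊥ ∨ H = ⊤) ↔
    ∃ (S : Type) (_ : Group S) (_ : IsSimpleGroup S) (n : ℕ), 1 ≤ n ∧ Nonempty (G ≃* (Fin n → S)) := by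
  constructor
  · exact fun h => H61.exists_mulEquiv_pi_of_charSimple h
  · rintro ⟨S, gS, hS, n, hn, ⟨e⟩⟩ H hH
    have hch : (H.map e.toMonoidHom).Characteristic := by
      rw [Subgroup.characteristic_iff_map_le]
      rintro φ _ ⟨_, ⟨x, hx, rfl⟩, rfl⟩
      refine ⟨e.symm (φ (e x)), ?_, e.apply_symm_apply _⟩
      exact Subgroup.characteristic_iff_map_le.mp hH (e.trans (φ.trans e.symm)) ⟨x, hx, rfl⟩
    rcases H61.charSimple_pi _ hch with h | h
    · exact Or.inl ((Subgroup.map_eq_bot_iff_of_injective _ e.injective).mp h)
    · right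
      apply Subgroup.map_injective (f := e.toMonoidHom) e.injective
      rw [h, Subgroup.map_top_of_surjective _ e.surjective]

end Cfsg.Agent.S5914
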