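import Cfsg.Statements.S5942
import Cfsg.Agent.H42.PSL2Maximal

set_option autoImplicit false
open Cfsg

namespace Cfsg.Agent.S5942

/-- Let K and F be finite fields of odd characteristic with #F = (#K)^r for an odd prime r. Then PSL_2(F) has a maximal subgroup isomorphic to PSL_2(K). -/
theorem result {F K : Type*} [Field F] [Fintype F] [Field K] [Fintype K] (q r : ℕ) (hK : Fintype.card K = q) (hF : Fintype.card F = q ^ r) (hq : Odd q) (hr : r.Prime) (hr2 : r ≠ 2) : ∃ H : Subgroup (Matrix.ProjectiveSpecialLinearGroup (Fin 2) F), IsCoatom H ∧ Nonempty (H ≃* Matrix.ProjectiveSpecialLinearGroup (Fin 2) K) := by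
  classical
  obtain ⟨p, hp⟩ := CharP.exists F
  obtain ⟨⟨b, hb0⟩, hpp, hb⟩ := FiniteField.card F p
  haveI : Fact p.Prime := ⟨hpp⟩
  obtain ⟨p', hp'⟩ := CharP.exists K
  obtain ⟨⟨a, ha0⟩, hpp', ha⟩ := FiniteField.card K p'
  simp only [PNat.mk_coe] at hb ha
  rw [hK] at ha
  subst ha
  rw [hF, ← pow_mul] at hb
  obtain rfl : p' = p := by
    have h1 : p' ∣ p ^ b := hb ▸ dvd_pow_self p' (Nat.mul_ne_zero ha0.ne' (by exact hr.ne_zero))
    exact (Nat.prime_dvd_prime_iff_eq hpp' hpp).1 (hpp'.dvd_of_dvd_pow h1)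
  have hab : a * r = b := Nat.pow_right_injective hpp.two_le hb
  obtain ⟨K₀, hK₀⟩ := H42.exists_subfield_card (F := F) p' (a := a) (b := b)
    (by rw [hF, ← pow_mul, hab]) ha0.ne' (hab ▸ dvd_mul_right a _)
  haveI : Fintype K₀ := Fintype.ofFinite K₀
  let e : K₀ ≃+* K := FiniteField.ringEquivOfCardEq (by rw [← Nat.card_eq_fintype_card, hK₀, hK])
  have hdeg : Fintype.card F = Nat.card K₀ ^ r := by rw [hK₀, hF]
  exact ⟨H39.projField K₀, H42.isCoatom_projField p' K₀ hr hdeg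
      (by rw [hK₀]; intro h; rw [h] at hq; exact absurd hq (by decide)),
    ⟨(H42.projFieldPSL K₀ hdeg (Or.inl (hr.odd_of_ne_two hr2))).trans (H39.pslCongr e)⟩⟩

end Cfsg.Agent.S5942
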