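import Cfsg.Statements.S5944

set_option autoImplicit false
open Cfsg

namespace Cfsg.Agent.S5944

/-- For n ≠ 4, every proper subgroup of the symmetric group S_n other than the alternating group A_n has index at least n. -/
theorem result (n : ℕ) (hn : n ≠ 4) (H : Subgroup (Equiv.Perm (Fin n))) (hH : H ≠ ⊤) (hA : H ≠ alternatingGroup (Fin n)) : n ≤ H.index := by
  classical
  by_contra hlt
  push Not at hlt
  have h1 : H.index ≠ 1 := fun h => hH (Subgroup.index_eq_one.mp h)
  have h0 : H.index ≠ 0 := Subgroup.index_ne_zero_of_finite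
  have h2 : H.index ≠ 2 := fun h => hA (Equiv.Perm.eq_alternatingGroup_of_index_eq_two h)
  have hn5 : 5 ≤ n := by omega
  rcases subsingleton_or_nontrivial ↥(H.normalCore) with hs | hs
  · have hcore : H.normalCore = ⊥ := (Subgroup.eq_bot_iff_forall _).mpr fun x hx => congrArg Subtype.val (Subsingleton.elim (⟨x, hx⟩ : H.normalCore) 1)
    rw [Subgroup.normalCore_eq_ker] at hcore
    have hinj := (MonoidHom.ker_eq_bot_iff _).mp hcore
    have := Nat.card_le_card_of_injective _ hinj
    rw [Nat.card_perm, Nat.card_perm, Nat.card_fin, ← Subgroup.index_eq_card] at this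
    exact absurd this (not_le.mpr ((Nat.factorial_lt (by omega)).mpr hlt))
  · have : alternatingGroup (Fin n) ≤ H :=
      (Equiv.Perm.alternatingGroup_le_of_normal (by rw [Nat.card_fin]; exact hn5) hs).trans (Subgroup.normalCore_le H)
    have hd := Subgroup.index_dvd_of_le this
    haveI : Nontrivial (Fin n) := Fin.nontrivial_iff_two_le.mpr (by omega)
    rw [alternatingGroup.index_eq_two] at hd
    have := Nat.le_of_dvd two_pos hd
    omega

end Cfsg.Agent.S5944
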