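import Cfsg.Statements.S5945
import Cfsg.Agent.H46.Perm
import Cfsg.Agent.H46.SixPoints
import Mathlib

set_option autoImplicit false
open Cfsg

namespace Cfsg.Agent.S5945

open MulAction Equiv

/-- A point stabilizer of `Perm (Fin 6)` is a copy of `Perm (Fin 5)`. -/
theorem stabilizer_iso (a : Fin 6) : Nonempty (stabilizer (Perm (Fin 6)) a ≃* Perm (Fin 5)) := by
  obtain ⟨e⟩ : Nonempty ({x : Fin 6 // x ≠ a} ≃ Fin 5) := ⟨Fintype.equivFinOfCardEq (by
    rw [Fintype.card_subtype_compl, Fintype.card_fin, Fintype.card_subtype_eq])⟩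
  let ι : Perm {x : Fin 6 // x ≠ a} →* stabilizer (Perm (Fin 6)) a :=
    Perm.ofSubtype.codRestrict _ fun g => by
      change Perm.ofSubtype g a = a
      exact Perm.ofSubtype_apply_of_not_mem g (by simp)
  have hι : Function.Bijective ι := by
    refine ⟨fun g h e => Perm.ofSubtype_injective (congrArg Subtype.val e), ?_⟩
    rintro ⟨g, hg⟩
    have hg' : g a = a := hg
    refine ⟨g.subtypePerm (fun x => not_congr ⟨fun h => g.injective (h.trans hg'.symm), fun h => h ▸ hg'⟩), Subtype.ext ?_⟩
    exact Perm.ofSubtype_subtypePerm _ fun x hx h => hx (h ▸ hg')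
  exact ⟨(MulEquiv.ofBijective ι hι).symm.trans e.permCongrHom⟩

theorem index_stab (a : Fin 6) : (stabilizer (Perm (Fin 6)) a).index = 6 := by
  rw [index_stabilizer_of_transitive, Nat.card_fin]

theorem stab_not_transitive (a : Fin 6) : ¬ IsPretransitive (stabilizer (Perm (Fin 6)) a) (Fin 6) := by
  intro h
  obtain ⟨b, hb⟩ : ∃ b, b ≠ a := exists_ne a
  obtain ⟨g, hg⟩ := h.exists_smul_eq a b
  exact hb (hg.symm.trans g.2)

theorem stab_injective {a b : Fin 6} (h : stabilizer (Perm (Fin 6)) a = stabilizer (Perm (Fin 6)) b) : a = b := by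
  by_contra hne
  obtain ⟨c, hca, hcb⟩ : ∃ c, c ≠ a ∧ c ≠ b := by
    by_contra hc
    push Not at hc
    have : (Finset.univ : Finset (Fin 6)) ⊆ {a, b} := fun x _ => by
      simp only [Finset.mem_insert, Finset.mem_singleton]
      exact or_iff_not_imp_left.mpr (hc x)
    have := Finset.card_le_card this
    simp [Finset.card_pair hne] at this
  have hs : swap b c ∈ stabilizer (Perm (Fin 6)) a := swap_apply_of_ne_of_ne hne hca.symm
  rw [h] at hs
  have : c = b := by rw [← swap_apply_left b c]; exact hs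
  exact hcb this

/-- The symmetric group S_6 has exactly 12 subgroups of index 6; each of them is isomorphic to S_5, and at least one of them is not the stabilizer of any point. -/
theorem result : Nat.card {H : Subgroup (Equiv.Perm (Fin 6)) // H.index = 6} = 12 ∧ (∀ H : Subgroup (Equiv.Perm (Fin 6)), H.index = 6 → Nonempty (H ≃* Equiv.Perm (Fin 5))) ∧ ∃ H : Subgroup (Equiv.Perm (Fin 6)), H.index = 6 ∧ ∀ a : Fin 6, H ≠ MulAction.stabilizer (Equiv.Perm (Fin 6)) a := by
  classical
  have h6 : Fintype.card (Fin 6) = 6 := Fintype.card_fin 6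
  obtain ⟨H₀, hH₀t, hH₀⟩ := H46.exists_transitive_index_six (Ω := Fin 6) h6
  have hnstab : ∀ a, H₀ ≠ stabilizer (Perm (Fin 6)) a := fun a h => stab_not_transitive a (h ▸ hH₀t)
  have hiso : ∀ H : Subgroup (Perm (Fin 6)), H.index = 6 → Nonempty (H ≃* Perm (Fin 5)) := by
    intro H hH
    obtain ⟨Φ, hΦ⟩ := H46.exists_aut_map_stabilizer h6 H hH (0 : Fin 6)
    obtain ⟨e⟩ := stabilizer_iso (0 : Fin 6)
    have hmap : H.map Φ.toMonoidHom = stabilizer (Perm (Fin 6)) (0 : Fin 6) := by
      ext y
      refine ⟨?_, fun hy => ⟨Φ.symm y, (hΦ _).mpr (by rw [Φ.apply_symm_apply]; exact (hy : y 0 = 0)), Φ.apply_symm_apply y⟩⟩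
      rintro ⟨x, hx, rfl⟩
      exact (hΦ x).mp hx
    exact ⟨(H.equivMapOfInjective Φ.toMonoidHom Φ.injective).trans ((MulEquiv.subgroupCongr hmap).trans e)⟩
  refine ⟨?_, hiso, H₀, hH₀, hnstab⟩
  -- stabilisers and conjugates of `H₀`
  set N := Subgroup.normalizer (H₀ : Set (Perm (Fin 6))) with hN
  have hNH : N = H₀ := by
    refine le_antisymm (fun g hg => ?_) Subgroup.le_normalizer
    obtain ⟨Φ, hΦ⟩ := H46.exists_aut_map_stabilizer h6 H₀ hH₀ 0
    rw [hΦ]
    by_contra hne
    set b := Φ g 0 with hb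
    have hconj : ∀ y : Perm (Fin 6), y 0 = 0 → y b = b := by
      intro y hy
      have h1 : Φ.symm y ∈ H₀ := (hΦ _).mpr (by rw [Φ.apply_symm_apply]; exact hy)
      have h2 : g⁻¹ * Φ.symm y * g ∈ H₀ := by
        have := (Subgroup.mem_normalizer_iff.mp (N.inv_mem hg) (Φ.symm y)).mp h1
        rwa [inv_inv] at this
      have h3 := (hΦ _).mp h2
      rw [map_mul, map_mul, map_inv, Φ.apply_symm_apply, Perm.mul_apply, Perm.mul_apply, Perm.inv_eq_iff_eq] at h3
      exact h3
    have heq : stabilizer (Perm (Fin 6)) (0 : Fin 6) = stabilizer (Perm (Fin 6)) b :=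
      H46.eq_of_le_of_index_eq hconj (by rw [index_stab, index_stab])
    exact hne (stab_injective heq).symm
  let f : Fin 6 ⊕ (Perm (Fin 6) ⧸ H₀) → {H : Subgroup (Perm (Fin 6)) // H.index = 6} :=
    Sum.elim (fun a => ⟨stabilizer (Perm (Fin 6)) a, index_stab a⟩)
      (fun q => ⟨H₀.map (MulAut.conj q.out).toMonoidHom, by
        rw [Subgroup.index_map_of_bijective (MulAut.conj q.out).bijective]; exact hH₀⟩)
  have htrans : ∀ g : Perm (Fin 6), IsPretransitive ↥(H₀.map (MulAut.conj g).toMonoidHom) (Fin 6) := by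
    intro g
    refine ⟨fun x y => ?_⟩
    obtain ⟨h, hh⟩ := hH₀t.exists_smul_eq (g⁻¹ x) (g⁻¹ y)
    refine ⟨⟨_, ⟨h, h.2, rfl⟩⟩, ?_⟩
    change g (h.1 (g⁻¹ x)) = y
    rw [show h.1 (g⁻¹ x) = g⁻¹ y from hh]
    simp
  have hf : Function.Bijective f := by
    constructor
    · rintro (a | q) (b | r) h
      · exact congrArg Sum.inl (stab_injective (congrArg Subtype.val h))
      · exact absurd (htrans r.out) (fun ht => stab_not_transitive a (by
          rw [show stabilizer (Perm (Fin 6)) a = _ from congrArg Subtype.val h]; exact ht))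
      · exact absurd (htrans q.out) (fun ht => stab_not_transitive b (by
          rw [← show _ = stabilizer (Perm (Fin 6)) b from congrArg Subtype.val h]; exact ht))
      · refine congrArg Sum.inr ?_
        have h' : H₀.map (MulAut.conj q.out).toMonoidHom = H₀.map (MulAut.conj r.out).toMonoidHom :=
          congrArg Subtype.val h
        have hmem : r.out⁻¹ * q.out ∈ N := by
          rw [hN, Subgroup.mem_normalizer_iff_map_conj_eq]
          have := congrArg (fun K => Subgroup.map (MulAut.conj r.out⁻¹).toMonoidHom K) h'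
          simp only [Subgroup.map_map] at this
          convert this using 2
          · ext x; simp [mul_assoc]
          · convert (Subgroup.map_id H₀).symm; ext x; simp
        rw [hNH, ← QuotientGroup.eq, QuotientGroup.out_eq', QuotientGroup.out_eq'] at hmem
        exact hmem.symm
    · rintro ⟨H, hH⟩
      by_cases ht : IsPretransitive H (Fin 6)
      · obtain ⟨g, hg⟩ := H46.conj_of_transitive_index_six h6 H₀ H hH₀ hH
        refine ⟨Sum.inr (g : Perm (Fin 6) ⧸ H₀), Subtype.ext ?_⟩
        change H₀.map (MulAut.conj (g : Perm (Fin 6) ⧸ H₀).out).toMonoidHom = H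
        obtain ⟨k, hk⟩ := QuotientGroup.mk_out_eq_mul H₀ g
        rw [hk, map_mul, ← hg]
        have hkN : (k : Perm (Fin 6)) ∈ Subgroup.normalizer (H₀ : Set (Perm (Fin 6))) := Subgroup.le_normalizer k.2
        rw [Subgroup.mem_normalizer_iff_map_conj_eq] at hkN
        conv_rhs => rw [← hkN, Subgroup.map_map]
        rfl
      · obtain ⟨a, rfl⟩ := H46.eq_stabilizer_of_index_eq_card_of_not_transitive H (by rw [hH, h6]) ht
        exact ⟨Sum.inl a, rfl⟩
  rw [← Nat.card_eq_of_bijective f hf, Nat.card_sum, Nat.card_fin, ← Subgroup.index_eq_card, hH₀]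

end Cfsg.Agent.S5945
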