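import Cfsg.Statements.S5947
import Cfsg.Agent.H61.SingerBasic
import Cfsg.Agent.H42.SingerCentralizer
import Cfsg.Agent.H76.Zsigmondy
import Cfsg.Agent.H43.Primitive

set_option autoImplicit false
open Cfsg

namespace Cfsg.Agent.S5947


open Polynomial in
theorem conj_of_irreducible {F K : Type*} [Field F] [Fintype F] [Field K] [Fintype K] [Algebra F K]
    (x : (Module.End F K)ˣ) (hirr : Irreducible (minpoly F (x : Module.End F K)))
    (hdeg : (minpoly F (x : Module.End F K)).natDegree = Module.finrank F K) :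
    ∃ g : (Module.End F K)ˣ, ∀ u, Commute (u : (Module.End F K)ˣ) x →
      MulAut.conj g u ∈ (H61.singerHom F K).range := by
  classical
  haveI : Fact (Irreducible (minpoly F (x : Module.End F K))) := ⟨hirr⟩
  let L := AdjoinRoot (minpoly F (x : Module.End F K))
  let φ : L →ₐ[F] Module.End F K :=
    Ideal.Quotient.liftₐ _ (aeval (x : Module.End F K)) (fun a ha => by
      obtain ⟨c, rfl⟩ := Ideal.mem_span_singleton.1 ha
      rw [map_mul, minpoly.aeval, zero_mul])
  have hφmk : ∀ g : F[X], φ (AdjoinRoot.mk _ g) = aeval (x : Module.End F K) g := fun g => rfl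
  haveI : Module.Finite F L := (AdjoinRoot.powerBasis hirr.ne_zero).finite
  haveI : Finite L := Module.finite_of_finite F
  have hrank : Module.finrank F L = Module.finrank F K := by
    rw [(AdjoinRoot.powerBasis hirr.ne_zero).finrank, AdjoinRoot.powerBasis_dim, hdeg]
  obtain ⟨α⟩ : Nonempty (K →ₐ[F] L) := FiniteField.nonempty_algHom_of_finrank_dvd (by rw [hrank])
  let ψ : K →ₐ[F] Module.End F K := φ.comp α
  let g0 : K →ₗ[F] K :=
    { toFun := fun z => ψ z 1
      map_add' := fun a b => by rw [map_add]; rfl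
      map_smul' := fun c a => by rw [map_smul]; rfl }
  have hinj : Function.Injective g0 := by
    rw [injective_iff_map_eq_zero]
    intro z hz
    by_contra hne
    have e1 : ψ z⁻¹ * ψ z = 1 := by rw [← map_mul, inv_mul_cancel₀ hne, map_one]
    have e : ψ z⁻¹ (ψ z 1) = 1 := LinearMap.congr_fun e1 1
    rw [show ψ z 1 = 0 from hz, map_zero] at e
    exact zero_ne_one e
  let G : (Module.End F K)ˣ := LinearMap.GeneralLinearGroup.ofLinearEquiv
    (LinearEquiv.ofBijective g0 ⟨hinj, (LinearMap.injective_iff_surjective).1 hinj⟩)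
  refine ⟨G⁻¹, fun u hu => ?_⟩
  have hG : ∀ a z : K, (G : Module.End F K) (a * z) = ψ a ((G : Module.End F K) z) := fun a z => by
    show ψ (a * z) 1 = ψ a (ψ z 1)
    rw [map_mul]; rfl
  have hcomm : ∀ a z, (u : Module.End F K) (ψ a z) = ψ a ((u : Module.End F K) z) := by
    intro a z
    obtain ⟨p, hp⟩ := AdjoinRoot.mk_surjective (α a)
    have e : Commute (u : Module.End F K) (ψ a) := by
      show Commute (u : Module.End F K) (φ (α a))
      rw [← hp, hφmk]
      exact Algebra.commute_of_mem_adjoin_singleton_of_commute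
        (aeval_mem_adjoin_singleton F (x : Module.End F K)) hu.units_val
    exact LinearMap.congr_fun e.eq z
  refine H61.mem_singer_of_commute_set _ Set.univ (by simp [Algebra.adjoin_univ]) fun a _ z => ?_
  rw [MulAut.conj_apply, inv_inv, H61.mul_apply', H61.mul_apply', H61.mul_apply', H61.mul_apply']
  apply H61.units_injective G
  rw [← H61.mul_apply', mul_inv_cancel, hG, hG, hcomm, ← H61.mul_apply' G G⁻¹, mul_inv_cancel]
  rfl

theorem exists_primitive {p k n : ℕ} (hp : p.Prime) (hk : 0 < k) (hn : 2 ≤ n)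
    (h1 : ¬ (n = 6 ∧ p ^ k = 2)) (h2 : ¬ (n = 2 ∧ (p ^ k).Prime ∧ ∃ a : ℕ, p ^ k + 1 = 2 ^ a)) :
    ∃ r : ℕ, r.Prime ∧ r ∣ (p ^ k) ^ n - 1 ∧ orderOf ((p ^ k : ℕ) : ZMod r) = n := by
  have hq2 : 2 ≤ p ^ k := le_trans hp.two_le (Nat.le_self_pow (by omega) p)
  rcases eq_or_lt_of_le hn with hn2 | hn3
  · subst hn2
    by_cases hodd : ∃ r, r.Prime ∧ r ≠ 2 ∧ r ∣ p ^ k + 1
    · obtain ⟨r, hr, hr2, hrd⟩ := hodd
      haveI : Fact r.Prime := ⟨hr⟩
      haveI : Fact (2 < r) := ⟨lt_of_le_of_ne hr.two_le (Ne.symm hr2)⟩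
      refine ⟨r, hr, hrd.trans ⟨p ^ k - 1, ?_⟩, ?_⟩
      · rw [← Nat.sq_sub_sq, one_pow]
      · have e : ((p ^ k : ℕ) : ZMod r) = -1 := by
          rw [eq_neg_iff_add_eq_zero, ← Nat.cast_one, ← Nat.cast_add, ZMod.natCast_eq_zero_iff]
          exact hrd
        rw [e]
        exact orderOf_eq_prime (by simp) (ZMod.neg_one_ne_one)
    · exfalso
      push Not at hodd
      have ha : ∃ a, p ^ k + 1 = 2 ^ a :=
        ⟨_, Nat.eq_prime_pow_of_unique_prime_dvd (by omega) fun {d} hd hdd => by_contra fun h => hodd d hd h hdd⟩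
      refine h2 ⟨rfl, ?_, ha⟩
      obtain ⟨a, ha⟩ := ha
      suffices k = 1 by rw [this, pow_one]; exact hp
      have hpodd : Odd p := by
        rcases hp.eq_two_or_odd' with h | h
        · exfalso
          subst h
          rcases a with _ | a
          · rw [pow_zero] at ha
            omega
          · have hk2 : 2 ∣ 2 ^ k := dvd_pow_self 2 (by omega)
            have ha2 : 2 ∣ 2 ^ (a + 1) := dvd_pow_self 2 (by omega)
            omega
        · exact h
      have hkodd : Odd k := by
        rw [← Nat.not_even_iff_odd]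
        rintro ⟨j, hj⟩
        obtain ⟨c, hc⟩ := hpodd.pow (n := j)
        have hsq : p ^ k + 1 = 4 * (c * c + c) + 2 := by rw [hj, pow_add, hc]; ring
        rcases a with _ | _ | a
        · rw [pow_zero] at ha; omega
        · rw [zero_add, pow_one] at ha; omega
        · rw [ha, pow_add, pow_add] at hsq; omega
      obtain ⟨c, hc⟩ := Odd.nat_add_dvd_pow_add_pow p 1 hkodd
      rw [one_pow] at hc
      have hcodd : Odd c := by
        have hzc : ((c : ℤ)) = ∑ i ∈ Finset.range k, (-(p : ℤ)) ^ i := by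
          have h1 := geom_sum_mul_neg (-(p : ℤ)) k
          rw [hkodd.neg_pow] at h1
          have h2 : ((p : ℤ) + 1) * c = (p : ℤ) ^ k + 1 := by exact_mod_cast hc.symm
          refine mul_left_cancel₀ (show ((p : ℤ) + 1) ≠ 0 by omega) ?_
          rw [h2]
          linear_combination -h1
        have hsum : ((c : ℕ) : ZMod 2) = 1 := by
          have := congrArg (Int.cast (R := ZMod 2)) hzc
          push_cast at this
          have hp1 : (p : ZMod 2) = 1 := ZMod.natCast_eq_one_iff_odd.mpr hpodd
          rw [this, hp1, ZMod.neg_eq_self_mod_two]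
          simp [ZMod.natCast_eq_one_iff_odd.mpr hkodd]
        exact ZMod.natCast_eq_one_iff_odd.mp hsum
      have hc1 : c = 1 := by
        have hd : c ∣ 2 ^ a := ha ▸ hc ▸ dvd_mul_left c (p + 1)
        exact Nat.Coprime.eq_one_of_dvd (Nat.Coprime.pow_right a (Nat.coprime_two_right.mpr hcodd)) hd
      rw [hc1, mul_one] at hc
      exact Nat.pow_eq_self_iff hp.one_lt |>.mp (by omega)
  · rcases Nat.lt_or_ge (p ^ k) 3 with hq | hq
    · have e : p ^ k = 2 := by omega
      rw [e]
      simpa using H76.exists_primitive_two (n := n) (by omega) fun h => h1 ⟨h, e⟩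
    · exact H43.exists_primitive_prime hq (by omega)

/-- Let F ⊆ K be finite fields with |F| = q and [K : F] = n ≥ 2, regard K as an n-dimensional F-vector space, and let M ≤ GL_F(K) be the Singer group of multiplications by non-zero elements of K (cyclic of order q^n − 1). Assume (n, q) ≠ (6, 2), and that it is not the case that n = 2 with q a prime such that q + 1 is a power of 2. Then every abelian subgroup of GL_F(K) of order q^n − 1 is conjugate to M. -/
theorem result {F K : Type*} [Field F] [Fintype F] [Field K] [Fintype K] [Algebra F K] (n : ℕ) (hn : 2 ≤ n) (hdim : Module.finrank F K = n)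
    (hex1 : ¬ (n = 6 ∧ Fintype.card F = 2))
    (hex2 : ¬ (n = 2 ∧ (Fintype.card F).Prime ∧ ∃ a : ℕ, Fintype.card F + 1 = 2 ^ a))
    (U : Subgroup (Module.End F K)ˣ) (hU : IsMulCommutative U) (hcard : Nat.card U = Fintype.card K - 1) :
    ∃ g : (Module.End F K)ˣ, U.map (MulAut.conj g).toMonoidHom = (Units.map ((Algebra.lmul F K : K →ₐ[F] Module.End F K) : K →* Module.End F K)).range := by
  classical
  have hq := Fintype.one_lt_card (α := F)
  obtain ⟨p, hchar⟩ := CharP.exists F
  obtain ⟨k, hp, hk⟩ := FiniteField.card F p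
  obtain ⟨r, hr, hrd, hord⟩ := exists_primitive hp k.pos hn (by rw [← hk]; exact hex1) (by rw [← hk]; exact hex2)
  rw [← hk] at hrd hord
  haveI : Fact p.Prime := ⟨hp⟩
  haveI : Fact r.Prime := ⟨hr⟩
  have hrp : r ≠ p := by
    rintro rfl
    rw [hk, Nat.cast_pow, ZMod.natCast_self, zero_pow k.pos.ne'] at hord
    simp at hord
    omega
  have hKcard : Fintype.card K = Fintype.card F ^ n := by rw [Module.card_eq_pow_finrank (K := F) (V := K), hdim]
  haveI : Finite (Module.End F K) := Finite.of_injective _ DFunLike.coe_injective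
  haveI : Finite U := inferInstance
  obtain ⟨x, hx⟩ := exists_prime_orderOf_dvd_card' (G := U) r (by rw [hcard, hKcard]; exact hrd)
  let b : Module.Basis (Fin n) F K := Module.finBasisOfFinrankEq F K hdim
  let e : Module.End F K ≃ₐ[F] Matrix (Fin n) (Fin n) F := LinearMap.toMatrixAlgEquiv b
  let xm : GL (Fin n) F := Units.map (e.toMulEquiv.toMonoidHom) (x : (Module.End F K)ˣ)
  have hxm : orderOf xm = r := by
    rw [← hx, ← Subgroup.orderOf_coe x]
    exact orderOf_injective _ (Units.map_injective e.injective) _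
  have hmin := H42.minpoly_irreducible_of_primitive_order hr hrp hord xm hxm
  have he : minpoly F (xm : Matrix (Fin n) (Fin n) F) = minpoly F (((x : (Module.End F K)ˣ)) : Module.End F K) :=
    minpoly.algEquiv_eq e _
  rw [he] at hmin
  obtain ⟨g, hg⟩ := conj_of_irreducible (x : (Module.End F K)ˣ) hmin.1 (by rw [hmin.2, hdim])
  refine ⟨g, Subgroup.eq_of_le_of_card_ge ?_ ?_⟩
  · rintro _ ⟨u, hu, rfl⟩
    refine hg u ?_
    have := hU.is_comm.comm ⟨u, hu⟩ x
    exact congrArg Subtype.val this
  · rw [Subgroup.card_map_of_injective (MulAut.conj g).injective, hcard]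
    exact le_of_eq (H61.card_singer (F := F) (K := K))

end Cfsg.Agent.S5947
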