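import Cfsg.Statements.S5949
import Cfsg.Agent.H46.ElusiveCases

set_option autoImplicit false
open scoped MatrixGroups
open Cfsg

namespace Cfsg.Agent.S5949

/-- Elements of prime order of PSL_n(q) with no fixed `m`-space. Here `T = PSL_n(F)` for a field `F` with `q = p^f` elements (`n ≥ 2`, `(n, q) ≠ (2, 2), (2, 3)`); an element of `T` of prime order `r` is represented by a matrix `x` of determinant 1 with `x^r` scalar and `x` not scalar; `i` denotes the multiplicative order of `q` modulo `r` (when `r ≠ p`), and `(a)_r` the `r`-part of `a`. Let `1 ≤ m ≤ n/2` and let `r` be a prime dividing the number of `m`-dimensional subspaces of `F^n`. Then every element of `T` of order `r` fixes some `m`-dimensional subspace (the action on `m`-spaces is `r`-elusive) if and only if `r ≠ p` and either (i) `i = 1` and (`r ∣ m`, or `(q−1)_r ≥ (n)_r` where in addition `q ≡ 1 (mod 4)` is required when `r = 2` and `n` is even), or (ii) `2 ≤ i ≤ m` and `n mod i ≥ m mod i`. -/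
theorem result {F : Type*} [Field F] [Fintype F] {p : ℕ} [Fact p.Prime] [CharP F p] {q : ℕ} (hq : Fintype.card F = q)
    (n m : ℕ) (hn : 2 ≤ n) (hT : (n, q) ≠ (2, 2) ∧ (n, q) ≠ (2, 3)) (hm : 1 ≤ m) (hmn : 2 * m ≤ n)
    (r : ℕ) [Fact r.Prime] (hrΩ : r ∣ Nat.card {W : Submodule F (Fin n → F) // Module.finrank F ↥W = m}) :
    (∀ x : Matrix.SpecialLinearGroup (Fin n) F,
      (∃ c : F, ((x ^ r : Matrix.SpecialLinearGroup (Fin n) F) : Matrix (Fin n) (Fin n) F) = c • (1 : Matrix (Fin n) (Fin n) F)) →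
      (∀ c : F, (x : Matrix (Fin n) (Fin n) F) ≠ c • (1 : Matrix (Fin n) (Fin n) F)) →
      ∃ W : Submodule F (Fin n → F), Module.finrank F ↥W = m ∧ W.map (Matrix.toLin' (x : Matrix (Fin n) (Fin n) F)) ≤ W) ↔
    (r ≠ p ∧
      ((orderOf (q : ZMod r) = 1 ∧ (r ∣ m ∨ (padicValNat r n ≤ padicValNat r (q - 1) ∧ (r = 2 → Even n → q % 4 = 1)))) ∨
       (2 ≤ orderOf (q : ZMod r) ∧ orderOf (q : ZMod r) ≤ m ∧ m % orderOf (q : ZMod r) ≤ n % orderOf (q : ZMod r)))) := by
  classical
  subst hq
  have hr := (Fact.out : r.Prime)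
  obtain ⟨hrp, hrq, j, hjm, hjd⟩ := H46.Elusive.order_dvd_of_dvd_count (p := p) (by omega) hrΩ
  set i := orderOf ((Fintype.card F : ℕ) : ZMod r) with hidef
  have hipos : 0 < i := Nat.pos_of_dvd_of_pos hjd (by omega)
  have hin : i ≤ n := (Nat.le_of_dvd (by omega) hjd).trans (Nat.sub_le _ _)
  have hmod : n % i ≤ j := by
    rw [show n % i = j % i from ((Nat.modEq_iff_dvd' (show j ≤ n by omega)).2 hjd).symm]
    exact Nat.mod_le _ _
  constructor
  · intro h
    refine ⟨hrp, ?_⟩
    rcases (show i = 1 ∨ 2 ≤ i by omega) with hi1 | hi2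
    · refine Or.inl ⟨hi1, ?_⟩
      by_contra hcon
      rw [not_or] at hcon
      obtain ⟨x, c, hc, hxr, hxs⟩ := H46.Elusive.exists_nonpower_element (F := F) (r := r)
        (H46.Elusive.order_eq_one_iff.1 hi1) (n := n) (by omega) hcon.2
      obtain ⟨W, hWd, hW⟩ := h x ⟨c, hxr⟩ hxs
      exact hcon.1 (hWd ▸ H46.Elusive.prime_dvd_dim hc (H46.Elusive.toLin'_pow_eq x hxr) W hW)
    · refine Or.inr ⟨hi2, ?_⟩
      obtain ⟨x, hx1, hxr, hxk, hxs⟩ := H46.Elusive.exists_order_element (F := F) (r := r) hrq hi2 hin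
      obtain ⟨W, hWd, hW⟩ := h x ⟨1, hxr⟩ hxs
      have hmodeq := H46.Elusive.dim_modEq_fixed hrq _ hx1 W hW
      rw [hWd, ← hidef] at hmodeq
      have hle : Module.finrank F ↥(W ⊓ LinearMap.ker ((Matrix.toLin' (x : Matrix (Fin n) (Fin n) F) :
          Module.End F (Fin n → F)) - 1)) ≤ n % i := hxk ▸ Submodule.finrank_mono inf_le_right
      have hlt : n % i < i := Nat.mod_lt _ hipos
      have hme : m % i = Module.finrank F ↥(W ⊓ LinearMap.ker ((Matrix.toLin' (x : Matrix (Fin n) (Fin n) F) :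
          Module.End F (Fin n → F)) - 1)) := by
        rw [hmodeq]; exact Nat.mod_eq_of_lt (by omega)
      refine ⟨?_, by omega⟩
      by_contra him
      rw [not_le] at him
      rw [Nat.mod_eq_of_lt him] at hme
      omega
  · rintro ⟨-, hcond⟩ x ⟨c, hxr⟩ -
    have hT := H46.Elusive.toLin'_pow_eq x hxr
    have hdet : LinearMap.det (Matrix.toLin' (x : Matrix (Fin n) (Fin n) F)) = 1 := by
      rw [LinearMap.det_toLin', Matrix.SpecialLinearGroup.det_coe]
    have hc0 : c ≠ 0 := by
      rintro rfl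
      have h1 := congrArg Matrix.det hxr
      haveI : Nonempty (Fin n) := ⟨⟨0, by omega⟩⟩
      rw [Matrix.SpecialLinearGroup.det_coe, zero_smul, Matrix.det_zero] at h1
      exact one_ne_zero h1
    rcases H46.Elusive.nonpower_or_unipower (r := r) hc0 hT with hnon | ⟨l, hl, hl1⟩
    · have hi1 : i = 1 := H46.Elusive.order_eq_one_iff.2 (by
        by_contra hnd
        obtain ⟨b, hb⟩ := H46.Elusive.not_nonpower (F := F) hnd c
        exact hnon b hb)
      rcases hcond with ⟨-, hcond⟩ | ⟨h2, -⟩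
      · rcases hcond with ⟨k, rfl⟩ | ⟨hv, h4⟩
        · obtain ⟨W, hW, hWd, -⟩ := H46.Elusive.nonpower_structure (H46.Elusive.cast_ne_zero hrq) hnon hT k
            (by rw [Module.finrank_fin_fun, mul_comm]; omega)
          exact ⟨W, by rw [hWd, mul_comm], hW⟩
        · obtain ⟨k, hk, hdet'⟩ := H46.Elusive.det_of_nonpower hnon hT
          rw [Module.finrank_fin_fun] at hk
          rw [hdet] at hdet'
          exact absurd hdet'.symm (H46.Elusive.no_det_one (H46.Elusive.order_eq_one_iff.1 hi1) (by omega) hk hv h4 hnon)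
      · omega
    · obtain ⟨hle, hdvd, hex⟩ := H46.Elusive.unipower_structure hrq _ hl1
      rw [Module.finrank_fin_fun, ← hidef] at *
      generalize Module.finrank F (LinearMap.ker (l • Matrix.toLin' (x : Matrix (Fin n) (Fin n) F) - 1 :
        Module.End F (Fin n → F))) = a at *
      have hma : m % i ≤ a := by
        rcases hcond with ⟨hi1, -⟩ | ⟨-, -, hmn'⟩
        · rw [hi1, Nat.mod_one]; exact Nat.zero_le _
        · rw [show n % i = a % i from ((Nat.modEq_iff_dvd' hle).2 hdvd).symm] at hmn'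
          exact hmn'.trans (Nat.mod_le _ _)
      obtain ⟨s, hs⟩ := hdvd
      have hdm := Nat.div_add_mod m i
      obtain ⟨c', k', hc', hk', hm'⟩ : ∃ c' k', c' ≤ a ∧ k' * i ≤ n - a ∧ c' + k' * i = m := by
        by_cases hk : m / i ≤ s
        · refine ⟨m % i, m / i, hma, ?_, by rw [mul_comm]; omega⟩
          rw [hs, mul_comm i]; exact Nat.mul_le_mul_right _ hk
        · have : i * s ≤ m := (Nat.mul_le_mul_left i (by omega : s ≤ m / i)).trans (Nat.mul_div_le m i)
          exact ⟨m - i * s, s, by omega, by rw [hs, mul_comm], by rw [mul_comm s]; omega⟩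
      obtain ⟨W, hW, hWd, -⟩ := hex c' k' hc' hk'
      exact ⟨W, hWd.trans hm', H46.Elusive.map_smul_le hl hW⟩

end Cfsg.Agent.S5949
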