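import Cfsg.Statements.S5950
import Cfsg.Agent.H46.ElusiveUnip
import Cfsg.Agent.H46.ElusiveCases
import Cfsg.Agent.S5949

set_option autoImplicit false
open scoped MatrixGroups
open Cfsg

namespace Cfsg.Agent.S5950

/-- Partitions with parts one and two. -/
theorem two_parts {n m : ℕ} (hmn : m ≤ n) (h : Odd n ∨ Even m) (μ : Multiset ℕ)
    (hμ : ∀ a ∈ μ, 0 < a ∧ a ≤ 2) (hsum : μ.sum = n) : ∃ ν : Multiset ℕ, ν ≤ μ ∧ ν.sum = m := by
  have he : μ = Multiset.replicate (μ.count 1) 1 + Multiset.replicate (μ.count 2) 2 := by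
    refine Multiset.ext.2 fun a => ?_
    rw [Multiset.count_add, Multiset.count_replicate, Multiset.count_replicate]
    by_cases h1 : a = 1
    · subst h1; simp
    · by_cases h2 : a = 2
      · subst h2; simp
      · rw [if_neg (fun e => h1 e.symm), if_neg (fun e => h2 e.symm), Multiset.count_eq_zero.2]
        intro hm; have := hμ a hm; omega
  have hs : n = μ.count 1 + 2 * μ.count 2 := by
    rw [← hsum]
    conv_lhs => rw [he]
    simp [mul_comm]
  obtain ⟨c, k, hc, hk, hck⟩ : ∃ c k, c ≤ μ.count 1 ∧ k ≤ μ.count 2 ∧ c + 2 * k = m := by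
    by_cases hk : m / 2 ≤ μ.count 2
    · refine ⟨m % 2, m / 2, ?_, hk, by omega⟩
      rcases h with h | h
      · rw [Nat.odd_iff] at h; omega
      · rw [Nat.even_iff] at h; omega
    · exact ⟨m - 2 * μ.count 2, μ.count 2, by omega, le_rfl, by omega⟩
  refine ⟨Multiset.replicate c 1 + Multiset.replicate k 2, ?_, by simp [mul_comm]; omega⟩
  rw [he]
  exact add_le_add (Multiset.replicate_le_replicate 1 |>.2 hc) (Multiset.replicate_le_replicate 2 |>.2 hk)


/-- Elements of prime order of PSL_n(q) fixing no decomposition `F^n = U ⊕ W` with `dim U = m`. Here `T = PSL_n(F)` for a field `F` with `q = p^f` elements (`n ≥ 2`, `(n, q) ≠ (2, 2), (2, 3)`); an element of `T` of prime order `r` is represented by a matrix `x` of determinant 1 with `x^r` scalar and `x` not scalar; `i` denotes the multiplicative order of `q` modulo `r` (when `r ≠ p`), and `(a)_r` the `r`-part of `a`. Let `n ≥ 3`, `1 ≤ m < n/2`, and let `r` be a prime dividing the number of such decompositions (unordered pairs `{U, W}` of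 complementary subspaces with `dim U = m`; since `m ≠ n − m` these are the ordered pairs with `dim U = m`). Then every element of `T` of order `r` fixes such a pair (fixes both `U` and `W` for some complementary `U, W` with `dim U = m`) if and only if one of: (i) `r = p > 2` and every partition of `n` into parts of size at most `p` contains, as a sub-multiset, a partition of `m`; (ii) `r = p = 2` and `n` is odd or `m` is even; (iii) `r ≠ p`, `i = 1`, and `r ∣ m` or `(q−1)_r ≥ (n)_r` (with `q ≡ 1 (mod 4)` required when `r = 2` and `n` is even); (iv) `r ≠ p`, `2 ≤ i ≤ m` and `n mod i ≥ m mod i`. -/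
theorem result {F : Type*} [Field F] [Fintype F] {p : ℕ} [Fact p.Prime] [CharP F p] {q : ℕ} (hq : Fintype.card F = q)
    (n m : ℕ) (hn : 3 ≤ n) (hm : 1 ≤ m) (hmn : 2 * m < n)
    (r : ℕ) [Fact r.Prime]
    (hrΩ : r ∣ Nat.card {P : Submodule F (Fin n → F) × Submodule F (Fin n → F) // IsCompl P.1 P.2 ∧ Module.finrank F ↥P.1 = m}) :
    (∀ x : Matrix.SpecialLinearGroup (Fin n) F,
      (∃ c : F, ((x ^ r : Matrix.SpecialLinearGroup (Fin n) F) : Matrix (Fin n) (Fin n) F) = c • (1 : Matrix (Fin n) (Fin n) F)) →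
      (∀ c : F, (x : Matrix (Fin n) (Fin n) F) ≠ c • (1 : Matrix (Fin n) (Fin n) F)) →
      ∃ U W : Submodule F (Fin n → F), IsCompl U W ∧ Module.finrank F ↥U = m ∧
        U.map (Matrix.toLin' (x : Matrix (Fin n) (Fin n) F)) ≤ U ∧ W.map (Matrix.toLin' (x : Matrix (Fin n) (Fin n) F)) ≤ W) ↔
    ((r = p ∧ 2 < p ∧ (∀ μ : Multiset ℕ, (∀ a ∈ μ, 0 < a ∧ a ≤ p) → μ.sum = n → ∃ ν : Multiset ℕ, ν ≤ μ ∧ ν.sum = m)) ∨
     (r = p ∧ p = 2 ∧ (Odd n ∨ Even m)) ∨
     (r ≠ p ∧
      ((orderOf (q : ZMod r) = 1 ∧ (r ∣ m ∨ (padicValNat r n ≤ padicValNat r (q - 1) ∧ (r = 2 → Even n → q % 4 = 1)))) ∨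
       (2 ≤ orderOf (q : ZMod r) ∧ orderOf (q : ZMod r) ≤ m ∧ m % orderOf (q : ZMod r) ≤ n % orderOf (q : ZMod r))))) := by
  classical
  subst hq
  have hp := (Fact.out : p.Prime)
  by_cases hrp : r = p
  · subst hrp
    have hLHS : (∀ μ : Multiset ℕ, (∀ a ∈ μ, 0 < a ∧ a ≤ r) → μ.sum = n →
        ∃ ν : Multiset ℕ, ν ≤ μ ∧ ν.sum = m) →
      ∀ x : Matrix.SpecialLinearGroup (Fin n) F,
      (∃ c : F, ((x ^ r : Matrix.SpecialLinearGroup (Fin n) F) : Matrix (Fin n) (Fin n) F) = c • (1 : Matrix (Fin n) (Fin n) F)) →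
      (∀ c : F, (x : Matrix (Fin n) (Fin n) F) ≠ c • (1 : Matrix (Fin n) (Fin n) F)) →
      ∃ U W : Submodule F (Fin n → F), IsCompl U W ∧ Module.finrank F ↥U = m ∧
        U.map (Matrix.toLin' (x : Matrix (Fin n) (Fin n) F)) ≤ U ∧ W.map (Matrix.toLin' (x : Matrix (Fin n) (Fin n) F)) ≤ W := by
      rintro h x ⟨c, hxr⟩ -
      have hT := H46.Elusive.toLin'_pow_eq x hxr
      set T : Module.End F (Fin n → F) := Matrix.toLin' (x : Matrix (Fin n) (Fin n) F) with hTdef
      obtain ⟨b, hb⟩ := H46.Elusive.exists_pow_char (F := F) r c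
      have hTN : (T - b • 1) ^ r = 0 := by
        haveI : Nonempty (Fin n) := ⟨⟨0, by omega⟩⟩
        haveI : CharP (Module.End F (Fin n → F)) r :=
          charP_of_injective_algebraMap (algebraMap F _).injective r
        rw [sub_pow_char_of_commute r ((Commute.one_right T).smul_right b), hT, _root_.smul_pow, one_pow, hb,
          sub_self]
      obtain ⟨U, W, hc, hUd, hU, hW⟩ := H46.Elusive.exists_pair_of_partitions (T - b • 1) hTN h
      refine ⟨U, W, hc, hUd, ?_, ?_⟩
      · rintro _ ⟨u, hu, rfl⟩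
        have := U.add_mem (hU ⟨u, hu, rfl⟩) (U.smul_mem b hu)
        simpa using this
      · rintro _ ⟨u, hu, rfl⟩
        have := W.add_mem (hW ⟨u, hu, rfl⟩) (W.smul_mem b hu)
        simpa using this
    constructor
    · intro h
      have key : ∀ μ : Multiset ℕ, (∀ a ∈ μ, 0 < a ∧ a ≤ r) → μ.sum = n →
          ∃ ν : Multiset ℕ, ν ≤ μ ∧ ν.sum = m := by
        intro μ hμ hsum
        by_cases h1 : ∀ a ∈ μ, a = 1
        · have he := Multiset.eq_replicate_card.2 h1
          rw [he, Multiset.sum_replicate, smul_eq_mul, mul_one] at hsum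
          exact ⟨Multiset.replicate m 1, he ▸ (Multiset.replicate_le_replicate 1).2 (by omega), by simp⟩
        have hget : ∀ k, 0 < μ.toList.get k ∧ μ.toList.get k ≤ r := fun k =>
          hμ _ (Multiset.mem_toList.1 (List.get_mem _ k))
        have hmap : (Finset.univ : Finset (Fin μ.toList.length)).val.map (fun k => μ.toList.get k - 1 + 1) = μ := by
          rw [Fin.univ_val_map]
          conv_rhs => rw [← Multiset.coe_toList μ, ← List.ofFn_get μ.toList]
          refine congrArg _ (congrArg List.ofFn (funext fun k => ?_))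
          exact Nat.sub_add_cancel (hget k).1
        have hsum' : ∑ k, (μ.toList.get k - 1 + 1) = n := by
          rw [Finset.sum_eq_multiset_sum, hmap, hsum]
        obtain ⟨x, N, b, hb, hN, hxN, hxr⟩ := H46.Elusive.exists_unipotent_element (F := F) (p := r)
          (n := n) (by omega) (fun k => μ.toList.get k - 1) hsum' (fun k => by have := hget k; omega)
        have hns : ∀ z : F, (x : Matrix (Fin n) (Fin n) F) ≠ z • (1 : Matrix (Fin n) (Fin n) F) := by
          intro z hz
          rw [hz, map_smul, Matrix.toLin'_one, ← Module.End.one_eq_id] at hxN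
          have hN' : N = (z - 1) • 1 := by rw [eq_sub_of_add_eq' hxN.symm]; module
          obtain ⟨k, hk⟩ := hN
          haveI : Nonempty (Fin n) := ⟨⟨0, by omega⟩⟩
          rw [hN', _root_.smul_pow, one_pow, smul_eq_zero, or_iff_left one_ne_zero] at hk
          have hN0 : N = 0 := by rw [hN', eq_zero_of_pow_eq_zero hk, zero_smul]
          refine h1 fun a ha => ?_
          obtain ⟨k, rfl⟩ := List.mem_iff_get.1 (Multiset.mem_toList.2 ha)
          by_contra hne
          have hb0 := hb k 0
          rw [hN0, LinearMap.zero_apply, dif_pos (show ((0 : Fin (μ.toList.get k - 1 + 1)) : ℕ) + 1 <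
            μ.toList.get k - 1 + 1 by have := hget k; rw [Fin.val_zero]; omega)] at hb0
          exact b.ne_zero _ hb0.symm
        obtain ⟨U, W, hc, hUd, hU, hW⟩ := h x ⟨1, hxr⟩ hns
        rw [hxN] at hU hW
        have hstab : ∀ A : Submodule F (Fin n → F), A.map (1 + N) ≤ A → A.map N ≤ A := by
          rintro A hA _ ⟨u, hu, rfl⟩
          have := A.sub_mem (hA ⟨u, hu, rfl⟩) hu
          simpa using this
        obtain ⟨ν, hν, hνs⟩ := H46.Elusive.exists_sub_partition hN hb U W hc (hstab U hU) (hstab W hW)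
        exact ⟨ν, hν.trans hmap.le, hνs.trans hUd⟩
      rcases hp.eq_two_or_odd' with h2 | hodd
      · refine Or.inr (Or.inl ⟨rfl, h2, ?_⟩)
        rcases Nat.even_or_odd n with ⟨k, hk⟩ | hn'
        · obtain ⟨ν, hν, hνs⟩ := key (Multiset.replicate k 2)
            (fun a ha => by rw [Multiset.eq_of_mem_replicate ha]; omega)
            (by rw [Multiset.sum_replicate, smul_eq_mul]; omega)
          refine Or.inr ?_
          obtain ⟨l, -, rfl⟩ := Multiset.le_replicate_iff.1 hν
          rw [← hνs, Multiset.sum_replicate, smul_eq_mul]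
          exact even_two.mul_left l
        · exact Or.inl hn'
      · exact Or.inl ⟨rfl, lt_of_le_of_ne hp.two_le (fun e => by
          rw [Nat.odd_iff] at hodd; omega), key⟩
    · rintro (⟨-, -, h⟩ | ⟨-, h2, h⟩ | ⟨h, -⟩)
      · exact hLHS h
      · exact hLHS fun μ hμ hsum => two_parts (by omega) h μ (fun a ha => h2 ▸ hμ a ha) hsum
      · exact absurd rfl h
  · have hcount := H46.Elusive.dvd_count_of_dvd_pairs (p := p) hrp hrΩ
    have h49 := Cfsg.Agent.S5949.result (F := F) (p := p) rfl n m (by omega)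
      ⟨fun e => by rw [Prod.mk.injEq] at e; omega, fun e => by rw [Prod.mk.injEq] at e; omega⟩ hm (by omega) r hcount
    obtain ⟨-, hrq, -⟩ := H46.Elusive.order_dvd_of_dvd_count (p := p) (show m ≤ n by omega) hcount
    constructor
    · intro h
      refine Or.inr (Or.inr (h49.1 fun x hx hns => ?_))
      obtain ⟨U, W, -, hUd, hU, -⟩ := h x hx hns
      exact ⟨U, hUd, hU⟩
    · rintro (⟨h, -⟩ | ⟨h, -⟩ | h) x hx hns
      · exact absurd h hrp
      · exact absurd h hrp
      · obtain ⟨U, hUd, hU⟩ := h49.2 h x hx hns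
        obtain ⟨c, hxr⟩ := hx
        have hc0 : c ≠ 0 := by
          rintro rfl
          have h1 := congrArg Matrix.det hxr
          haveI : Nonempty (Fin n) := ⟨⟨0, by omega⟩⟩
          rw [Matrix.SpecialLinearGroup.det_coe, zero_smul, Matrix.det_zero] at h1
          exact one_ne_zero h1
        have hss := Module.End.isSemisimple_of_squarefree_aeval_eq_zero
          (H46.Elusive.squarefree_X_pow_sub (H46.Elusive.cast_ne_zero hrq) hc0)
          (H46.Elusive.aeval_X_pow_sub (H46.Elusive.toLin'_pow_eq x hxr))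
        obtain ⟨W, hW, hc⟩ := Module.End.isSemisimple_iff.1 hss U
          ((Module.End.mem_invtSubmodule _).2 (Submodule.map_le_iff_le_comap.1 hU))
        exact ⟨U, W, hc, hUd, hU, Submodule.map_le_iff_le_comap.2 ((Module.End.mem_invtSubmodule _).1 hW)⟩

end Cfsg.Agent.S5950
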