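import Cfsg.Statements.S5951
import Cfsg.Agent.H46.ElusiveCases
import Cfsg.Agent.H46.ElusiveFlag

set_option autoImplicit false
open scoped MatrixGroups
open Cfsg

namespace Cfsg.Agent.S5951

/-- Elements of prime order of PSL_n(q) fixing no pair of subspaces `U < W` with `dim U = m`, `dim W = n − m`. Here `T = PSL_n(F)` for a field `F` with `q = p^f` elements (`n ≥ 2`, `(n, q) ≠ (2, 2), (2, 3)`); an element of `T` of prime order `r` is represented by a matrix `x` of determinant 1 with `x^r` scalar and `x` not scalar; `i` denotes the multiplicative order of `q` modulo `r` (when `r ≠ p`), and `(a)_r` the `r`-part of `a`. Let `1 ≤ m < n/2` and let `r` be a prime dividing the number of such pairs. Then every element of `T` of order `r` fixes such a pair (both `U` and `W`) if and only if `r ≠ p` and either (i) `i = 1` and (`r ∣ m`, or `(q−1)_r ≥ (n)_r` with `q ≡ 1 (mod 4)` required when `r = 2` and `n` is even), or (ii) `2 ≤ i ≤ m` and `n mod i ≥ 2 (m mod i)`. -/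
theorem result {F : Type*} [Field F] [Fintype F] {p : ℕ} [Fact p.Prime] [CharP F p] {q : ℕ} (hq : Fintype.card F = q)
    (n m : ℕ) (hn : 2 ≤ n) (hT : (n, q) ≠ (2, 2) ∧ (n, q) ≠ (2, 3)) (hm : 1 ≤ m) (hmn : 2 * m < n)
    (r : ℕ) [Fact r.Prime]
    (hrΩ : r ∣ Nat.card {P : Submodule F (Fin n → F) × Submodule F (Fin n → F) //
        P.1 ≤ P.2 ∧ Module.finrank F ↥P.1 = m ∧ Module.finrank F ↥P.2 = n - m}) :
    (∀ x : Matrix.SpecialLinearGroup (Fin n) F,
      (∃ c : F, ((x ^ r : Matrix.SpecialLinearGroup (Fin n) F) : Matrix (Fin n) (Fin n) F) = c • (1 : Matrix (Fin n) (Fin n) F)) →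
      (∀ c : F, (x : Matrix (Fin n) (Fin n) F) ≠ c • (1 : Matrix (Fin n) (Fin n) F)) →
      ∃ U W : Submodule F (Fin n → F), U ≤ W ∧ Module.finrank F ↥U = m ∧ Module.finrank F ↥W = n - m ∧
        U.map (Matrix.toLin' (x : Matrix (Fin n) (Fin n) F)) ≤ U ∧ W.map (Matrix.toLin' (x : Matrix (Fin n) (Fin n) F)) ≤ W) ↔
    (r ≠ p ∧
      ((orderOf (q : ZMod r) = 1 ∧ (r ∣ m ∨ (padicValNat r n ≤ padicValNat r (q - 1) ∧ (r = 2 → Even n → q % 4 = 1)))) ∨
       (2 ≤ orderOf (q : ZMod r) ∧ orderOf (q : ZMod r) ≤ m ∧ 2 * (m % orderOf (q : ZMod r)) ≤ n % orderOf (q : ZMod r)))) := by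
  classical
  subst hq
  have hr := (Fact.out : r.Prime)
  rw [H46.Elusive.card_flags n m (by omega)] at hrΩ
  obtain ⟨hrp, hrq, hj⟩ : r ≠ p ∧ ((Fintype.card F : ℕ) : ZMod r) ≠ 0 ∧
      ∃ N j, (N = n ∨ N = n - m) ∧ j < m ∧ orderOf ((Fintype.card F : ℕ) : ZMod r) ∣ N - j := by
    rcases (Nat.Prime.dvd_mul hr).1 hrΩ with h | h
    · obtain ⟨a, b, j, h1, h2⟩ := H46.Elusive.order_dvd_of_dvd_count (p := p) (by omega) h
      exact ⟨a, b, n, j, Or.inl rfl, h1, h2⟩
    · obtain ⟨a, b, j, h1, h2⟩ := H46.Elusive.order_dvd_of_dvd_count (p := p) (by omega) h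
      exact ⟨a, b, n - m, j, Or.inr rfl, h1, h2⟩
  obtain ⟨N, j, hN, hjm, hjd⟩ := hj
  have hNn : N ≤ n := by omega
  have hjN : j < N := by omega
  set i := orderOf ((Fintype.card F : ℕ) : ZMod r) with hidef
  have hipos : 0 < i := Nat.pos_of_dvd_of_pos hjd (by omega)
  have hin : i ≤ n := (Nat.le_of_dvd (by omega) hjd).trans (by omega)
  have hNmod : N % i = j % i := ((Nat.modEq_iff_dvd' (show j ≤ N by omega)).2 hjd).symm
  constructor
  · intro h
    refine ⟨hrp, ?_⟩
    rcases (show i = 1 ∨ 2 ≤ i by omega) with hi1 | hi2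
    · refine Or.inl ⟨hi1, ?_⟩
      by_contra hcon
      rw [not_or] at hcon
      obtain ⟨x, c, hc, hxr, hxs⟩ := H46.Elusive.exists_nonpower_element (F := F) (r := r)
        (H46.Elusive.order_eq_one_iff.1 hi1) (n := n) (by omega) hcon.2
      obtain ⟨U, W, -, hUd, -, hU, -⟩ := h x ⟨c, hxr⟩ hxs
      exact hcon.1 (hUd ▸ H46.Elusive.prime_dvd_dim hc (H46.Elusive.toLin'_pow_eq x hxr) U hU)
    · refine Or.inr ⟨hi2, ?_⟩
      obtain ⟨x, hx1, hxr, hxk, hxs⟩ := H46.Elusive.exists_order_element (F := F) (r := r) hrq hi2 hin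
      obtain ⟨U, W, hUW, hUd, hWd, hU, hW⟩ := h x ⟨1, hxr⟩ hxs
      rw [← hidef] at hxk
      set C := LinearMap.ker ((Matrix.toLin' (x : Matrix (Fin n) (Fin n) F) :
          Module.End F (Fin n → F)) - 1)
      have hmu := H46.Elusive.dim_modEq_fixed hrq _ hx1 U hU
      have hmw := H46.Elusive.dim_modEq_fixed hrq _ hx1 W hW
      rw [hUd, ← hidef] at hmu
      rw [hWd, ← hidef] at hmw
      have h1 : Module.finrank F ↥(U ⊓ C) ≤ Module.finrank F ↥(W ⊓ C) :=
        Submodule.finrank_mono (inf_le_inf_right C hUW)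
      have h2 : Module.finrank F ↥(W ⊓ C) ≤ n % i := hxk ▸ Submodule.finrank_mono inf_le_right
      have hlt : n % i < i := Nat.mod_lt _ hipos
      have hc : m % i = Module.finrank F ↥(U ⊓ C) := by
        rw [hmu]; exact Nat.mod_eq_of_lt (lt_of_le_of_lt (h1.trans h2) hlt)
      have hc' : (n - m) % i = Module.finrank F ↥(W ⊓ C) := by
        rw [hmw]; exact Nat.mod_eq_of_lt (lt_of_le_of_lt h2 hlt)
      have hsum : (m % i + (n - m) % i) % i = n % i := by
        rw [← Nat.add_mod, Nat.add_sub_cancel' (show m ≤ n by omega)]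
      have key : 2 * (m % i) ≤ n % i := by
        by_cases hlt2 : m % i + (n - m) % i < i
        · rw [Nat.mod_eq_of_lt hlt2] at hsum; omega
        · rw [Nat.mod_eq_sub_mod (Nat.not_lt.1 hlt2), Nat.mod_eq_of_lt (by omega)] at hsum; omega
      refine ⟨?_, key⟩
      by_contra him
      rw [not_le] at him
      rw [Nat.mod_eq_of_lt him] at hc key
      have hjmod : N % i ≤ j := hNmod ▸ Nat.mod_le _ _
      rcases hN with rfl | rfl
      · omega
      · omega
  · rintro ⟨-, hcond⟩ x ⟨c, hxr⟩ -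
    have hT := H46.Elusive.toLin'_pow_eq x hxr
    have hdet : LinearMap.det (Matrix.toLin' (x : Matrix (Fin n) (Fin n) F)) = 1 := by
      rw [LinearMap.det_toLin', Matrix.SpecialLinearGroup.det_coe]
    have hc0 : c ≠ 0 := by
      rintro rfl
      have h1 := congrArg Matrix.det hxr
      haveI : Nonempty (Fin n) := ⟨⟨0, by omega⟩⟩
      rw [Matrix.SpecialLinearGroup.det_coe, zero_smul, Matrix.det_zero] at h1
      exact one_ne_zero h1
    rcases H46.Elusive.nonpower_or_unipower (r := r) hc0 hT with hnon | ⟨l, hl, hl1⟩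
    · have hi1 : i = 1 := H46.Elusive.order_eq_one_iff.2 (by
        by_contra hnd
        obtain ⟨b, hb⟩ := H46.Elusive.not_nonpower (F := F) hnd c
        exact hnon b hb)
      obtain ⟨k, hk, hdet'⟩ := H46.Elusive.det_of_nonpower hnon hT
      rw [Module.finrank_fin_fun] at hk
      rw [hdet] at hdet'
      rcases hcond with ⟨-, hcond⟩ | ⟨h2, -⟩
      · rcases hcond with ⟨k', rfl⟩ | ⟨hv, h4⟩
        · have hk2 : 2 * k' ≤ k := by
            by_contra hlt
            have := Nat.mul_le_mul_left r (show k + 1 ≤ 2 * k' by omega)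
            have e : r * (2 * k') = 2 * (r * k') := by ring
            rw [mul_add, mul_one] at this
            omega
          obtain ⟨W, hW, hWd, hsub⟩ := H46.Elusive.nonpower_structure (H46.Elusive.cast_ne_zero hrq) hnon hT
            (k - k') (by rw [Module.finrank_fin_fun, hk, mul_comm r]; exact Nat.mul_le_mul_right _ (by omega))
          obtain ⟨U, hUW, hU, hUd⟩ := hsub k' (by omega)
          exact ⟨U, W, hUW, by rw [hUd, mul_comm], by rw [hWd, hk, mul_comm, Nat.mul_sub], hU, hW⟩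
        · exact absurd hdet'.symm
            (H46.Elusive.no_det_one (H46.Elusive.order_eq_one_iff.1 hi1) (by omega) hk hv h4 hnon)
      · omega
    · obtain ⟨hle, hdvd, hex⟩ := H46.Elusive.unipower_structure hrq _ hl1
      rw [Module.finrank_fin_fun, ← hidef] at *
      generalize Module.finrank F (LinearMap.ker (l • Matrix.toLin' (x : Matrix (Fin n) (Fin n) F) - 1 :
        Module.End F (Fin n → F))) = a at *
      have hna : n % i = a % i := ((Nat.modEq_iff_dvd' hle).2 hdvd).symm
      have hl2 : 2 * (m % i) ≤ n % i := by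
        rcases hcond with ⟨hi1, -⟩ | ⟨-, -, hmn'⟩
        · rw [hi1, Nat.mod_one, mul_zero]; exact Nat.zero_le _
        · exact hmn'
      have ha : n % i ≤ a := hna ▸ Nat.mod_le _ _
      obtain ⟨s, hs⟩ := hdvd
      have hdm := Nat.div_add_mod m i
      have hd2 := Nat.div_add_mod (n - 2 * m) i
      have hrest : (n - 2 * m) % i = n % i - 2 * (m % i) := by
        have e : (n % i - 2 * (m % i)) % i = (n - 2 * m) % i := by
          refine Nat.ModEq.add_right_cancel' (2 * (m % i)) ?_
          rw [Nat.sub_add_cancel hl2]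
          refine (Nat.mod_modEq n i).trans ?_
          refine Nat.ModEq.trans (?_ : n ≡ (n - 2 * m) + 2 * m [MOD i]) ?_
          · rw [Nat.sub_add_cancel (by omega)]
          · exact Nat.ModEq.add_left _ ((Nat.mod_modEq m i).symm.mul_left 2)
        rw [← e]
        exact Nat.mod_eq_of_lt (lt_of_le_of_lt (Nat.sub_le _ _) (Nat.mod_lt _ hipos))
      -- choose the composition of the two subspaces
      obtain ⟨c₁, k₁, c₂, k₂, hc₁, hk₁, hc₂, hk₂, hm', hn'⟩ : ∃ c₁ k₁ c₂ k₂, c₁ ≤ c₂ ∧ k₁ ≤ k₂ ∧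
          c₂ ≤ a ∧ k₂ * i ≤ n - a ∧ c₁ + k₁ * i = m ∧ c₂ + k₂ * i = n - m := by
        by_cases hk : m / i ≤ s
        · by_cases hk' : (n - 2 * m) / i ≤ s - m / i
          · refine ⟨m % i, m / i, m % i + (n - 2 * m) % i, m / i + (n - 2 * m) / i, Nat.le_add_right _ _,
              Nat.le_add_right _ _, by omega, ?_, by rw [mul_comm]; omega, ?_⟩
            · rw [hs, mul_comm i]; exact Nat.mul_le_mul_right _ (by omega)
            · rw [add_mul, mul_comm (m / i), mul_comm ((n - 2 * m) / i)]; omega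
          · have h3 : i * (s - m / i) ≤ n - 2 * m :=
              (Nat.mul_le_mul_left i (by omega : s - m / i ≤ (n - 2 * m) / i)).trans (Nat.mul_div_le _ i)
            rw [Nat.mul_sub] at h3
            have h4 : i * (m / i) ≤ i * s := Nat.mul_le_mul_left i hk
            refine ⟨m % i, m / i, m % i + (n - 2 * m - (i * s - i * (m / i))), s, Nat.le_add_right _ _, hk,
              ?_, by rw [hs, mul_comm], by rw [mul_comm]; omega, by rw [mul_comm s]; omega⟩
            omega
        · have : i * s ≤ m := (Nat.mul_le_mul_left i (by omega : s ≤ m / i)).trans (Nat.mul_div_le m i)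
          exact ⟨m - i * s, s, n - m - i * s, s, by omega, le_rfl, by omega, by rw [hs, mul_comm],
            by rw [mul_comm s]; omega, by rw [mul_comm s]; omega⟩
      obtain ⟨W, hW, hWd, hsub⟩ := hex c₂ k₂ hc₂ hk₂
      obtain ⟨U, hUW, hU, hUd⟩ := hsub c₁ k₁ hc₁ hk₁
      exact ⟨U, W, hUW, hUd.trans hm', hWd.trans hn', H46.Elusive.map_smul_le hl hU,
        H46.Elusive.map_smul_le hl hW⟩

end Cfsg.Agent.S5951
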