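import Cfsg.Statements.S5952

set_option autoImplicit false
open Cfsg

namespace Cfsg.Agent.S5952

variable {F V : Type*} [Field F] [AddCommGroup V] [Module F V] [FiniteDimensional F V]

/-- Adding irreducible invariant subspaces changes the dimension of the intersection with an
invariant subspace by `0` or by the dimension of the piece. -/
theorem finrank_inf_sum (f : V →ₗ[F] V) (C : Submodule F V) (hC : C.map f ≤ C) {s a : ℕ}
    (U : Fin s → Submodule F V) (hUinv : ∀ j, (U j).map f ≤ U j)
    (hUdim : ∀ j, Module.finrank F ↥(U j) = a)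
    (hUirr : ∀ j, ∀ W : Submodule F V, W ≤ U j → W.map f ≤ W → W = ⊥ ∨ W = U j)
    (hsum : ∀ (S : Finset (Fin s)) (j : Fin s), j ∉ S → Disjoint (C ⊔ S.sup U) (U j))
    (W : Submodule F V) (hW : W.map f ≤ W) (S : Finset (Fin s)) :
    ∃ k, Module.finrank F ↥(W ⊓ (C ⊔ S.sup U)) = Module.finrank F ↥(W ⊓ C) + k * a := by
  classical
  induction S using Finset.induction with
  | empty => exact ⟨0, by rw [Finset.sup_empty, sup_bot_eq]; simp⟩
  | @insert j S hj ih =>
    obtain ⟨k, hk⟩ := ih
    set D := C ⊔ S.sup U with hD
    have hDinv : D.map f ≤ D := by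
      rw [hD, Submodule.map_sup]
      refine sup_le_sup hC ?_
      rw [Submodule.map_le_iff_le_comap]
      refine Finset.sup_le fun i hi => ?_
      rw [← Submodule.map_le_iff_le_comap]
      exact (hUinv i).trans (Finset.le_sup hi)
    have hdis : Disjoint D (U j) := hsum S j hj
    have he : C ⊔ (insert j S).sup U = D ⊔ U j := by
      rw [Finset.sup_insert, hD, sup_comm (U j), sup_assoc]
    set W' := (W ⊔ D) ⊓ U j with hW'
    have hW'inv : W'.map f ≤ W' := by
      refine le_inf (((Submodule.map_mono inf_le_left)).trans ?_) ((Submodule.map_mono inf_le_right).trans (hUinv j))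
      rw [Submodule.map_sup]; exact sup_le_sup hW hDinv
    rw [he]
    rcases hUirr j W' inf_le_right hW'inv with h | h
    · refine ⟨k, ?_⟩
      have : W ⊓ (D ⊔ U j) = W ⊓ D := by
        refine le_antisymm (le_inf inf_le_left ?_) (inf_le_inf_left W le_sup_left)
        intro x hx
        obtain ⟨d, hd, u, hu, rfl⟩ := Submodule.mem_sup.mp hx.2
        have : u ∈ W' := by
          refine ⟨?_, hu⟩
          have h1 : d + u ∈ W ⊔ D := Submodule.mem_sup_left hx.1
          have h2 := (W ⊔ D).sub_mem h1 (Submodule.mem_sup_right hd)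
          simpa using h2
        rw [h, Submodule.mem_bot] at this
        simpa [this] using hd
      rw [this, hk]
    · refine ⟨k + 1, ?_⟩
      have hle : U j ≤ W ⊔ D := h ▸ inf_le_left
      have hsup : W ⊔ (D ⊔ U j) = W ⊔ D :=
        le_antisymm (sup_le le_sup_left (sup_le le_sup_right hle)) (sup_le_sup_left le_sup_left W)
      have e1 := Submodule.finrank_sup_add_finrank_inf_eq W (D ⊔ U j)
      have e2 := Submodule.finrank_sup_add_finrank_inf_eq W D
      have e3 := Submodule.finrank_sup_add_finrank_inf_eq D (U j)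
      rw [hdis.eq_bot, finrank_bot, hUdim] at e3
      rw [hsup] at e1
      rw [Nat.succ_mul]
      omega

/-- Which dimensions of invariant subspaces a semisimple linear map has. Let `V` be a finite-dimensional vector space over a field `F` and `f` an invertible semisimple linear map of `V`. Suppose `V` is the internal direct sum of the fixed space `C_V(f)` (the eigenspace for 1) and subspaces `U_1, …, U_s`, each `f`-invariant of dimension `a ≥ 1` on which `f` acts irreducibly (no `f`-invariant subspaces other than 0 and `U_j`). Let `0 < m < dim V` and `ℓ = m mod a`. Then `f` leaves some `m`-dimensional subspace invariant if and only if `dim C_V(f) ≥ m`, or `a ≤ m` and `dim C_V(f) ≥ ℓ`. -/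
theorem result {F V : Type*} [Field F] [AddCommGroup V] [Module F V]
    [FiniteDimensional F V] (f : V →ₗ[F] V) (hf : Function.Bijective f) (hss : Module.End.IsSemisimple f)
    {s a : ℕ} (ha : 1 ≤ a) (U : Fin s → Submodule F V)
    (hUinv : ∀ j, (U j).map f ≤ U j) (hUdim : ∀ j, Module.finrank F ↥(U j) = a)
    (hUirr : ∀ j, ∀ W : Submodule F V, W ≤ U j → W.map f ≤ W → W = ⊥ ∨ W = U j)
    (hdec : DirectSum.IsInternal (fun o : Option (Fin s) => o.elim (Module.End.eigenspace f 1) U))
    (m : ℕ) (hm : 0 < m) (hmV : m < Module.finrank F V) :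
    (∃ W : Submodule F V, Module.finrank F ↥W = m ∧ W.map f ≤ W) ↔
    (m ≤ Module.finrank F ↥(Module.End.eigenspace f 1) ∨
      (a ≤ m ∧ m % a ≤ Module.finrank F ↥(Module.End.eigenspace f 1))) := by
  classical
  set C := Module.End.eigenspace f 1 with hC
  have hfC : ∀ x ∈ C, f x = x := fun x hx => by simpa using Module.End.mem_eigenspace_iff.mp hx
  have hCsub : ∀ C' : Submodule F V, C' ≤ C → C'.map f ≤ C' := by
    rintro C' hle _ ⟨x, hx, rfl⟩
    rwa [hfC x (hle hx)]
  set fam : Option (Fin s) → Submodule F V := fun o => o.elim C U with hfam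
  have hindep : iSupIndep fam := hdec.submodule_iSupIndep
  have htop : iSup fam = ⊤ := hdec.submodule_iSup_eq_top
  have hsum : ∀ (S : Finset (Fin s)) (j : Fin s), j ∉ S → Disjoint (C ⊔ S.sup U) (U j) := by
    intro S j hj
    refine Disjoint.symm ((hindep (some j)).mono_right (sup_le ?_ ?_))
    · exact le_iSup₂_of_le (f := fun k (_ : k ≠ some j) => fam k) none (by simp) le_rfl
    · refine Finset.sup_le fun i hi => ?_
      exact le_iSup₂_of_le (f := fun k (_ : k ≠ some j) => fam k) (some i)
        (fun h => hj (Option.some.inj h ▸ hi)) le_rfl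
  have huniv : C ⊔ (Finset.univ : Finset (Fin s)).sup U = ⊤ := by
    rw [← htop, iSup_option, Finset.sup_univ_eq_iSup]
    rfl
  have hdimS : ∀ S : Finset (Fin s), ∀ C' : Submodule F V, C' ≤ C →
      Module.finrank F ↥(C' ⊔ S.sup U) = Module.finrank F C' + S.card * a := by
    intro S
    induction S using Finset.induction with
    | empty => intro C' _; rw [Finset.sup_empty, sup_bot_eq]; simp
    | @insert j S hj ih =>
      intro C' hC'
      have hd : Disjoint (C' ⊔ S.sup U) (U j) := (hsum S j hj).mono_left (sup_le_sup_right hC' _)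
      have e := Submodule.finrank_sup_add_finrank_inf_eq (C' ⊔ S.sup U) (U j)
      rw [hd.eq_bot, finrank_bot, ih C' hC', hUdim] at e
      rw [Finset.sup_insert, sup_left_comm, sup_comm, Finset.card_insert_of_notMem hj, Nat.succ_mul]
      omega
  have hVdim : Module.finrank F V = Module.finrank F C + s * a := by
    have := hdimS Finset.univ C le_rfl
    rw [huniv, finrank_top, Finset.card_univ, Fintype.card_fin] at this
    exact this
  constructor
  · rintro ⟨W, hWm, hW⟩
    obtain ⟨k, hk⟩ := finrank_inf_sum f C (hCsub C le_rfl) U hUinv hUdim hUirr hsum W hW Finset.univ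
    rw [huniv, inf_top_eq, hWm] at hk
    have hle : Module.finrank F ↥(W ⊓ C) ≤ Module.finrank F C := Submodule.finrank_mono inf_le_right
    rcases Nat.eq_zero_or_pos k with rfl | hkp
    · left; omega
    · right
      refine ⟨by nlinarith, ?_⟩
      rw [hk, Nat.add_mul_mod_self_right]
      exact (Nat.mod_le _ _).trans hle
  · intro h
    obtain ⟨c, k, hc, hks, hmk⟩ : ∃ c k, c ≤ Module.finrank F C ∧ k ≤ s ∧ m = c + k * a := by
      rcases h with h | ⟨h1, h2⟩
      · exact ⟨m, 0, h, Nat.zero_le _, by simp⟩
      · by_cases hk : m / a ≤ s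
        · exact ⟨m % a, m / a, h2, hk, by rw [mul_comm]; exact (Nat.mod_add_div m a).symm⟩
        · have hsa : s * a ≤ m := (Nat.le_div_iff_mul_le (by omega)).mp (by omega)
          exact ⟨m - s * a, s, by omega, le_rfl, by omega⟩
    obtain ⟨L, hL⟩ := exists_linearIndependent_of_le_finrank (R := F) (M := C) hc
    let C' : Submodule F V := (Submodule.span F (Set.range L)).map C.subtype
    have hC'le : C' ≤ C := Submodule.map_subtype_le _ _
    have hC'dim : Module.finrank F C' = c := by
      rw [Submodule.finrank_map_subtype_eq, finrank_span_eq_card hL, Fintype.card_fin]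
    obtain ⟨S, _, hS⟩ := Finset.exists_subset_card_eq (s := (Finset.univ : Finset (Fin s))) (by simpa using hks)
    refine ⟨C' ⊔ S.sup U, by rw [hdimS S C' hC'le, hC'dim, hS, hmk], ?_⟩
    rw [Submodule.map_sup]
    refine sup_le_sup (hCsub C' hC'le) ?_
    rw [Submodule.map_le_iff_le_comap]
    refine Finset.sup_le fun i hi => ?_
    rw [← Submodule.map_le_iff_le_comap]
    exact (hUinv i).trans (Finset.le_sup hi)

end Cfsg.Agent.S5952
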