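import Cfsg.Statements.S5953
import Cfsg.Agent.H44.Elu.SUTwo
import Cfsg.Agent.H44.Elu.CountSU
-- import your own Cfsg.Agent.* helpers here

set_option autoImplicit false
open scoped MatrixGroups
open Cfsg

namespace Cfsg.Agent.S5953

/-- Elements of prime order of PSU_n(q) with no fixed totally isotropic `m`-space. Here `T = PSU_n(q)` (`n ≥ 3`, `(n, q) ≠ (3, 2)`), realised through the matrices of determinant 1 over the field `F` with `q²` elements preserving the Hermitian form `h(u, v) = Σ u_i v_i^q`; an element of `T` of prime order `r` is such a matrix `x` with `x^r` scalar and `x` not scalar. For `r ≠ p` let `i` be the multiplicative order of `q` modulo `r`, `b = i/2` for `i` even and `b = i` for `i` odd, `c = i, i/2, 2i` according as `i ≡ 0, 2 (mod 4)` or `i` odd, and write `k = n mod c`, `ℓ = m mod b`, `ℓ' = m mod c`, `n' = ⌊n/b⌋`, `m' = ⌊m/b⌋`, `s = (r−1)/b`; `(a)_r` is the `r`-part of `a`. Let `1 ≤ m ≤ n/2` and let `r` be a prime dividing the number of totally isotropic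 `m`-spaces. Then every element of `T` of order `r` fixes a totally isotropic `m`-space if and only if either (i) `r = 2`, `p ≠ 2`, and (`m < n/2` or `(q+1)_2 ≤ (n)_2`); or (ii) `r ≠ p`, `r > 2`, `b ≤ m`, `k ≥ 2ℓ`, and either `i ≢ 2 (mod 4)`, or `i ≡ 2 (mod 4)`, `n' − 2m' ≥ s` and (`i > 2`, or `i = 2` and (`r ∣ m` or `(q+1)_r ≥ (n)_r`)). -/
theorem result {F : Type*} [Field F] [Fintype F] {p : ℕ} [Fact p.Prime] [CharP F p] {q : ℕ} (hq : Fintype.card F = q ^ 2)
    (n m : ℕ) (hn : 3 ≤ n) (hT : (n, q) ≠ (3, 2)) (hm : 1 ≤ m) (hmn : 2 * m ≤ n)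
    (r : ℕ) [Fact r.Prime]
    (hrΩ : r ∣ Nat.card {W : Submodule F (Fin n → F) // Module.finrank F ↥W = m ∧ (∀ u ∈ W, ∀ v ∈ W, Cfsg.hermForm n F q u v = 0)})
    (i b c : ℕ) (hi : i = orderOf (q : ZMod r)) (hb : b = if Even i then i / 2 else i)
    (hc : c = if i % 4 = 0 then i else if i % 4 = 2 then i / 2 else 2 * i) :
    (∀ x : Matrix.SpecialLinearGroup (Fin n) F, x ∈ Cfsg.SU n F q →
      (∃ z : F, ((x ^ r : Matrix.SpecialLinearGroup (Fin n) F) : Matrix (Fin n) (Fin n) F) = z • (1 : Matrix (Fin n) (Fin n) F)) →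
      (∀ z : F, (x : Matrix (Fin n) (Fin n) F) ≠ z • (1 : Matrix (Fin n) (Fin n) F)) →
      ∃ W : Submodule F (Fin n → F), Module.finrank F ↥W = m ∧ (∀ u ∈ W, ∀ v ∈ W, Cfsg.hermForm n F q u v = 0) ∧
        W.map (Matrix.toLin' (x : Matrix (Fin n) (Fin n) F)) ≤ W) ↔
    ((r = 2 ∧ p ≠ 2 ∧ (2 * m < n ∨ padicValNat 2 (q + 1) ≤ padicValNat 2 n)) ∨
     (r ≠ p ∧ 2 < r ∧ b ≤ m ∧ 2 * (m % b) ≤ n % c ∧
       (i % 4 ≠ 2 ∨ (i % 4 = 2 ∧ (r - 1) / b + 2 * (m / b) ≤ n / b ∧
         (2 < i ∨ (i = 2 ∧ (r ∣ m ∨ padicValNat r n ≤ padicValNat r (q + 1)))))))) := by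
  classical
  have hr : r.Prime := Fact.out
  have hn0 : 0 < n := by omega
  have hq2 := H50.two_le hq
  obtain ⟨jc, hjm, hj1, hjn, hjdvd⟩ := H44.Elu.exists_of_dvd_TI_su hq hmn hr hrΩ
  rw [H44.Elu.suFac, show jc - 1 + 1 = jc by omega] at hjdvd
  by_cases hrp : r = p
  · exfalso
    obtain ⟨e, he⟩ := H44.Elu.prime_pow_q (p := p) hq 1
    rw [pow_one] at he
    have hpq : p ∣ q := by
      rw [he]
      exact dvd_pow_self p (fun h0 => by rw [h0, pow_zero] at he; omega)
    have h1 : p ∣ q ^ jc := hpq.trans (dvd_pow_self q (by omega))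
    subst hrp
    refine (Fact.out : r.Prime).ne_one (Nat.dvd_one.1 ?_)
    split_ifs at hjdvd with hev
    · exact (Nat.dvd_add_right h1).1 hjdvd
    · have h3 := Nat.dvd_sub h1 hjdvd
      rwa [Nat.sub_sub_self (Nat.one_le_pow _ _ (by omega))] at h3
  by_cases hr2 : r = 2
  · subst hr2
    have hp2 : p ≠ 2 := Ne.symm hrp
    have h2 : (2 : F) ≠ 0 := by exact_mod_cast H44.Elu.cast_ne_of_ne' (F := F) hrp
    have hqodd := H44.Elu.odd_q hq h2
    constructor
    · intro h
      refine Or.inl ⟨rfl, hp2, ?_⟩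
      by_contra hh
      push Not at hh
      obtain ⟨hmn', hv⟩ := hh
      have hcard : Nat.card Fˣ = (q + 1) * (q - 1) := by
        rw [Nat.card_units, Nat.card_eq_fintype_card, hq, ← Nat.sq_sub_sq, one_pow]
      obtain ⟨g, hg⟩ := IsCyclic.exists_ofOrder_eq_natCard (α := Fˣ)
      have hdvd : 2 ^ (padicValNat 2 n + 1) ∣ q + 1 :=
        (pow_dvd_pow 2 hv).trans pow_padicValNat_dvd
      obtain ⟨k, hk⟩ := hdvd.trans (hcard ▸ dvd_mul_right (q + 1) (q - 1))
      have hk0 : k ≠ 0 := fun h0 => by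
        rw [h0, mul_zero] at hk
        exact Nat.card_pos.ne' hk
      set w : F := ((g ^ k : Fˣ) : F) with hw
      have hord : orderOf w = 2 ^ (padicValNat 2 n + 1) := by
        rw [hw, orderOf_units, orderOf_pow' g hk0, hg, hk, Nat.gcd_mul_left_left,
          Nat.mul_div_cancel _ (Nat.pos_of_ne_zero hk0)]
      have hw1 : w ^ (q + 1) = 1 := orderOf_dvd_iff_pow_eq_one.1 (hord ▸ hdvd)
      have hwn : w ^ n = -1 := by
        have h1 : (w ^ n) ^ 2 = 1 := by
          rw [← pow_mul]
          refine orderOf_dvd_iff_pow_eq_one.1 (hord ▸ ?_)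
          rw [pow_succ]
          exact mul_dvd_mul_right pow_padicValNat_dvd 2
        refine (sq_eq_one_iff.1 h1).resolve_left fun h1 => ?_
        have h3 := hord ▸ orderOf_dvd_of_pow_eq_one h1
        rw [padicValNat_dvd_iff_le (by omega)] at h3
        omega
      let j0 : Fin n := ⟨0, hn0⟩
      let α : Fin n → F := fun j => if j = j0 then -w else w
      have hw0 : w ≠ 0 := Units.ne_zero _
      have hne : -w ≠ w := fun h0 => hw0 ((mul_eq_zero.1 (by linear_combination -h0 : (2 : F) * w = 0)).resolve_left h2)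
      have hprod : ∏ j, α j = 1 := by
        have e1 : α = fun j => w * (if j = j0 then -1 else 1) := funext fun j => by
          simp only [α]; split_ifs <;> simp
        rw [e1, Finset.prod_mul_distrib, Finset.prod_const, Finset.card_univ, Fintype.card_fin, hwn,
          Finset.prod_ite_eq', if_pos (Finset.mem_univ _)]
        ring
      obtain ⟨x, hxS, hx1, hx2, hx3⟩ := H44.Elu.exists_diag_witness (r := 2) hq (by exact_mod_cast h2)
        (by
          rw [← Nat.card_eq_fintype_card, ← Nat.card_units, hcard]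
          exact dvd_mul_of_dvd_left (even_iff_two_dvd.1 hqodd.add_one) _)
        (z := w ^ 2) (pow_ne_zero 2 hw0) α
        (fun j => by simp only [α]; split_ifs <;> simp)
        (fun j => by simp only [α]; split_ifs <;> simp [(Odd.add_one hqodd).neg_pow, hw1])
        hprod (j₁ := j0) (j₂ := ⟨1, by omega⟩) (by simp [α, j0, hne])
        {-w, w} (by
          intro a ha
          rcases Finset.mem_insert.1 ha with rfl | ha
          · rw [show (Finset.univ.filter fun j => α j = -w) = {j0} by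
              ext j
              simp only [Finset.mem_filter, Finset.mem_univ, true_and, Finset.mem_singleton, α]
              split_ifs with h0 <;> simp [h0, Ne.symm hne]]
            exact odd_one
          · rw [Finset.mem_singleton] at ha
            subst ha
            rw [show (Finset.univ.filter fun j => α j = w) = Finset.univ.erase j0 by
              ext j
              simp only [Finset.mem_filter, Finset.mem_univ, true_and, Finset.mem_erase, and_true, α]
              split_ifs with h0 <;> simp [h0, hne],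
              Finset.card_erase_of_mem (Finset.mem_univ _), Finset.card_univ, Fintype.card_fin]
            exact Nat.odd_iff.2 (by omega))
      obtain ⟨W, hWm, hWT, hW⟩ := h x hxS hx1 hx2
      have := hx3 W hW hWT
      rw [Finset.card_pair hne] at this
      omega
    · intro hcond x hxS ⟨z, hz⟩ _
      have hcond' : 2 * m < n ∨ padicValNat 2 (q + 1) ≤ padicValNat 2 n := by
        rcases hcond with ⟨-, -, h⟩ | ⟨-, h, -⟩
        · exact h
        · omega
      have hz1 := H44.Elu.scalar_norm hq hn0 hxS hz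
      obtain ⟨a, ha⟩ := H44.Elu.exists_sqrt hq h2 hz1
      have ha2 : (a ^ (q + 1)) ^ 2 = 1 := by rw [← pow_mul, mul_comm, pow_mul, ha, hz1]
      rcases sq_eq_one_iff.1 ha2 with ha1 | ha1
      · obtain ⟨T, hs, hTx, hTdef⟩ := H44.Elu.exists_setting_su hq hr (by exact_mod_cast h2) hxS hz ha ha1
        obtain ⟨hf, hm'⟩ := H44.Elu.shapes_invol_su hq h2 hs
        have hN := hs.finrank_add
        rw [Module.finrank_fin_fun] at hN
        have hpar : 2 * m < n ∨ 2 ∣ Module.finrank F (H44.Elu.movS T) := by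
          refine hcond'.imp_right fun hv => ?_
          by_contra hodd
          have hdet := H44.Elu.det_invol hs
          rw [hTdef, LinearMap.det_smul, LinearMap.det_toLin', Matrix.SpecialLinearGroup.det_coe, mul_one,
            Module.finrank_fin_fun, ← hTdef, Odd.neg_one_pow (Nat.odd_iff.2 (by omega)), inv_pow,
            inv_eq_iff_eq_inv, inv_neg, inv_one] at hdet
          obtain ⟨o, ho⟩ := pow_padicValNat_dvd (p := 2) (n := q + 1)
          have hoodd : Odd o := by
            by_contra he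
            obtain ⟨o', rfl⟩ := Nat.not_odd_iff_even.1 he
            have h5 : 2 ^ (padicValNat 2 (q + 1) + 1) ∣ q + 1 := ⟨o', by rw [pow_succ]; linarith⟩
            rw [padicValNat_dvd_iff_le (by omega)] at h5
            omega
          have hdvd : q + 1 ∣ n * o := by
            rw [ho]
            exact mul_dvd_mul_right ((pow_dvd_pow 2 hv).trans pow_padicValNat_dvd) o
          have h6 : a ^ (n * o) = 1 := by
            obtain ⟨l, hl⟩ := hdvd
            rw [hl, pow_mul, ha1, one_pow]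
          rw [pow_mul, hdet, hoodd.neg_one_pow] at h6
          exact h2 (by linear_combination -h6)
        obtain ⟨W, hW, hWT, hWd⟩ := hs.exists_TI hf hm' m fun K1 K h1 h3 =>
          ⟨min K1 m, m - min K1 m, min_le_left _ _, by rcases hpar with h | h <;> omega, by omega⟩
        exact ⟨W, hWd, hWT, hTx W hW⟩
      · obtain ⟨K, hK, hU⟩ := (H44.Elu.shape_neg_su hq h2 (H44.Elu.herm_hermB hq n) (H44.Elu.nd_hermB hq n)
          (H44.Elu.iso_su hq hxS) (H44.Elu.toLin_pow_sl hz) ha ha1).ti
        rw [finrank_top, Module.finrank_fin_fun] at hK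
        obtain ⟨W, -, hW, hWT, hWd⟩ := hU m (by omega)
        exact ⟨W, hWd.trans (mul_one m), hWT, hW⟩
  have h2r : 2 < r := by have := hr.two_le; omega
  have hrF := H44.Elu.cast_ne_of_ne' (F := F) hrp
  have hi0 := H44.Elu.i_pos hq hrp hi
  have hb0 := H44.Elu.b_pos hq hrp hi hb
  have hbo := H44.Elu.b_eq_order hq hi hb
  have hcb := H44.Elu.c_eq_block hb hc
  have hc0 : 0 < c := by rw [← hcb]; split_ifs <;> omega
  have hdvd := H44.Elu.c_dvd_su hr2 hi hc hj1 hjdvd (by omega)
  have hir : b ∣ r - 1 := by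
    rw [hbo]
    refine orderOf_dvd_of_pow_eq_one (ZMod.pow_card_sub_one_eq_one ?_)
    rw [hq, Nat.cast_pow]
    exact pow_ne_zero _ (H44.Elu.q_cast_ne hq hrp)
  have hsi : (r - 1) / b * b = r - 1 := Nat.div_mul_cancel hir
  have hi2data : i = 2 → b = 1 ∧ c = 1 ∧ r ∣ q + 1 ∧ ¬ r ∣ q - 1 := by
    intro h2
    have h := H44.Elu.pow_b_eq_neg_one (p := p) hq hrp hi (by omega)
    rw [show i / 2 = 1 by omega, pow_one] at h
    refine ⟨by rw [hb, h2]; rfl, by rw [hc, h2]; rfl, ?_, fun h3 => ?_⟩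
    · rw [← ZMod.natCast_eq_zero_iff, Nat.cast_add, Nat.cast_one, h, neg_add_cancel]
    · rw [← ZMod.natCast_eq_zero_iff, Nat.cast_sub (by omega), h, Nat.cast_one] at h3
      refine hr2 ((Nat.prime_dvd_prime_iff_eq hr Nat.prime_two).1 ?_)
      rw [← ZMod.natCast_eq_zero_iff, Nat.cast_ofNat]
      linear_combination -h3
  constructor
  · intro h
    refine Or.inr ⟨hrp, h2r, ?_⟩
    by_cases hi2 : i = 2
    · obtain ⟨hb1, hc1, hq1, hqm⟩ := hi2data hi2
      subst hb1 hc1
      refine ⟨hm, by omega, Or.inr ⟨by omega, ?_, Or.inr ⟨hi2, ?_⟩⟩⟩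
      · by_contra hlt
        simp only [Nat.div_one] at hlt
        obtain ⟨e, he0, ⟨j₁, j₂, hej⟩, S, hSc, hS⟩ := H44.Elu.exists_exps (r := r) hr2 (n := n) (o := n - 2 * m + 2)
          (by omega) (by omega) ⟨m - 1, by omega⟩ (by omega)
        have hrc : r ∣ Fintype.card F - 1 := by
          rw [hq, show q ^ 2 - 1 = (q + 1) * (q - 1) by rw [← Nat.sq_sub_sq, one_pow]]
          exact dvd_mul_of_dvd_left hq1 _
        obtain ⟨g, hg⟩ := exists_prime_orderOf_dvd_card' (G := Fˣ) r
          (by rwa [Nat.card_units, Nat.card_eq_fintype_card])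
        have hgr : (g : F) ^ r = 1 := orderOf_dvd_iff_pow_eq_one.1 (by rw [orderOf_units, hg])
        have hlt : ∀ k, k % orderOf (g : F) ∈ Set.Iio (orderOf (g : F)) :=
          fun k => Nat.mod_lt _ (by rw [orderOf_units, hg]; exact hr.pos)
        have hinj : Function.Injective fun v : ZMod r => (g : F) ^ v.val := fun v v' hv => by
          have h3 := pow_injOn_Iio_orderOf (hlt v.val) (hlt v'.val)
            ((pow_mod_orderOf _ _).trans (hv.trans (pow_mod_orderOf _ _).symm))
          rw [orderOf_units, hg, Nat.mod_eq_of_lt v.val_lt, Nat.mod_eq_of_lt v'.val_lt] at h3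
          exact ZMod.val_injective r h3
        obtain ⟨l, hl⟩ := hq1
        obtain ⟨x, hxS, hx1, hx2, hx3⟩ := H44.Elu.exists_diag_witness (r := r) hq hrF hrc (z := (1 : F)) one_ne_zero
          (fun j => (g : F) ^ (e j).val) (fun j => by rw [← pow_mul, mul_comm, pow_mul, hgr, one_pow])
          (fun j => by rw [← pow_mul, hl, mul_left_comm, pow_mul, hgr, one_pow])
          (by
            rw [Finset.prod_pow_eq_pow_sum, ← pow_mod_orderOf, orderOf_units, hg]
            have h5 : ((∑ j, (e j).val : ℕ) : ZMod r) = 0 := by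
              rw [Nat.cast_sum]
              simp only [ZMod.natCast_zmod_val]
              exact he0
            rw [Nat.dvd_iff_mod_eq_zero.1 ((ZMod.natCast_eq_zero_iff _ _).1 h5), pow_zero])
          (j₁ := j₁) (j₂ := j₂) (fun h5 => hej (hinj h5)) (S.image fun v : ZMod r => (g : F) ^ v.val) (by
            intro a ha
            obtain ⟨v, hv, rfl⟩ := Finset.mem_image.1 ha
            rw [show (Finset.univ.filter fun j => (g : F) ^ (e j).val = (g : F) ^ v.val) =
              Finset.univ.filter fun j => e j = v from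
              Finset.filter_congr fun j _ => ⟨fun h5 => hinj h5, fun h5 => by rw [h5]⟩]
            exact hS v hv)
        obtain ⟨W, hWm, hWT, hW⟩ := h x hxS hx1 hx2
        have := hx3 W hW hWT
        rw [Finset.card_image_of_injective _ hinj, hSc] at this
        omega
      · by_contra hh
        push Not at hh
        obtain ⟨hrm, hv⟩ := hh
        have h1 : r ^ (padicValNat r (q + 1) + 1) ∣ n := (pow_dvd_pow r hv).trans pow_padicValNat_dvd
        have h2 : r ∣ n := (dvd_pow_self r (by omega)).trans h1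
        obtain ⟨x, hxS, hx1, hx2, hx3⟩ := H44.Elu.exists_nonpower_witness (r := r) hq hrF hr2 hq1
          (A := n / r) (Nat.mul_div_cancel' h2) (Nat.div_pos (Nat.le_of_dvd hn0 h2) hr.pos)
          (Nat.dvd_div_of_mul_dvd (by rwa [← pow_succ']))
        obtain ⟨W, hWm, -, hW⟩ := h x hxS hx1 hx2
        exact hrm (hWm ▸ hx3 W hW)
    have hN : 0 < n / c := Nat.div_pos ((Nat.le_of_dvd (by omega) hdvd).trans hjn) hc0
    obtain ⟨x, hxS, hx1, hx2, hx3⟩ := H44.Elu.exists_dim_witness_su (n := n) hq hrp hr2 hi hb hi2 hN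
      (by rw [hcb]; exact Nat.div_mul_le_self n c)
    obtain ⟨W, hWm, hWT, hW⟩ := h x hxS hx1 hx2
    obtain ⟨u, k, hu, huk⟩ := (hx3 W hW).1 hWT
    have hsub : n - n / c * c = n % c := by
      have := Nat.mod_add_div n c
      rw [mul_comm c] at this; omega
    rw [hcb, hsub] at hu
    have h1 : 2 * (m % b) ≤ n % c := H44.Elu.arith_TI_dim (huk.trans hWm) hu le_rfl
    have hbm : b ≤ m := H44.Elu.le_of_count hdvd hjn hjm h1
    refine ⟨hbm, h1, ?_⟩
    by_cases h4 : i % 4 = 2
    swap
    · exact Or.inl h4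
    refine Or.inr ⟨h4, not_lt.1 fun hlt => ?_, Or.inl (by omega)⟩
    obtain ⟨A, o, ho1, hoA, hos, hev, hAn, hbad⟩ := H44.Elu.arith_TI_mult hb0
      (Nat.div_pos (Nat.le_of_dvd (by omega) hir) hb0) hbm hmn hlt
    obtain ⟨y, hyS, hy1, hy2, hy3⟩ := H44.Elu.exists_mult_witness_su (n := n) hq hrp hr2 hi hb h4 hi2 ho1 hoA
      (hsi ▸ Nat.mul_le_mul_right b hos) hev hAn
    obtain ⟨W', hWm', hWT', hW'⟩ := h y hyS hy1 hy2
    have := hy3 W' hW' hWT'
    omega
  · rintro (⟨h, -⟩ | ⟨-, -, -, h1, hcase⟩) x hxS ⟨z, hz⟩ hns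
    · exact absurd h hr2
    have hz1 := H44.Elu.scalar_norm hq hn0 hxS hz
    have hroot : (∃ w : F, w ^ r = z ∧ w ^ (q + 1) = 1) ∨ (i = 2 ∧ ∀ w : F, w ^ r ≠ z) := by
      by_cases hi2 : i = 2
      · by_cases hw : ∃ w : F, w ^ r = z
        · obtain ⟨w, hw⟩ := hw
          refine Or.inl ⟨w, hw, ?_⟩
          obtain ⟨-, -, -, hqm⟩ := hi2data hi2
          have h5 : (w ^ (q + 1)) ^ r = 1 := by rw [← pow_mul, mul_comm, pow_mul, hw, hz1]
          have hw0 : w ≠ 0 := fun h0 => by
            rw [h0, zero_pow hr.ne_zero] at hw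
            rw [← hw, zero_pow (by omega)] at hz1
            exact zero_ne_one hz1
          have h6 : (w ^ (q + 1)) ^ (q - 1) = 1 := by
            rw [← pow_mul, show (q + 1) * (q - 1) = Fintype.card F - 1 by rw [hq, ← Nat.sq_sub_sq, one_pow]]
            exact FiniteField.pow_card_sub_one_eq_one w hw0
          have h7 := pow_gcd_eq_one.2 ⟨h5, h6⟩
          rwa [(hr.coprime_iff_not_dvd.2 hqm).gcd_eq_one, pow_one] at h7
        · exact Or.inr ⟨hi2, fun w hw' => hw ⟨w, hw'⟩⟩
      · exact Or.inl (H44.Elu.exists_root_coprime hq (H44.Elu.not_dvd_q_add_one hr2 hi hi2) hz1)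
    rcases hroot with ⟨w, hw, hw1⟩ | ⟨hi2, hzn⟩
    · obtain ⟨T, hs, hTx, -⟩ := H44.Elu.exists_setting_su hq hr hrF hxS hz hw hw1
      have hN := hs.finrank_add
      rw [Module.finrank_fin_fun] at hN
      have hsh := H44.Elu.shape_mov_su hq hrp hr2 hi hb hs
      rw [hcb] at hsh
      obtain ⟨e, he⟩ := H44.Elu.prime_pow_q (p := p) hq 1
      rw [pow_one] at he
      obtain ⟨W, hW, hWT, hWd⟩ := hs.exists_TI
        (H44.Elu.shape_fix_herm hs (H44.Elu.conj_ne_id hq) (p := p) (Q1 := q) ⟨e, he⟩ fun a => rfl) hsh m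
        (H44.Elu.arith_TI (s := (r - 1) / b) hb0 hN (hsh.nd_dvd _ le_rfl H44.Elu.inv_movS hs.nd_mov) le_rfl h1 (by
          by_cases h4 : i % 4 = 2
          · refine Or.inr ⟨by rw [← hcb, if_pos h4], by rw [if_pos h4, hsi], ?_⟩
            exact (hcase.resolve_left (not_not.2 h4)).2.1
          · exact Or.inl ⟨by rw [← hcb, if_neg h4], if_neg h4, hmn⟩))
      exact ⟨W, hWd, hWT, hTx W hW⟩
    obtain ⟨-, -, hq1, hqm⟩ := hi2data hi2
    obtain ⟨-, hcase2⟩ := (hcase.resolve_left (fun h4 => h4 (by omega))).2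
    have hT := H44.Elu.toLin_pow_sl hz
    obtain ⟨K0, hK0, hdet⟩ := H46.Elusive.det_of_nonpower hzn hT
    rw [Module.finrank_fin_fun] at hK0
    have hK00 : 0 < K0 := Nat.pos_of_ne_zero fun h0 => by rw [h0, mul_zero] at hK0; omega
    have hrm : r ∣ m := by
      rcases hcase2.resolve_left (by omega) with ⟨-, hrm | hv⟩
      · exact hrm
      exfalso
      rw [LinearMap.det_toLin', Matrix.SpecialLinearGroup.det_coe, (hr.odd_of_ne_two hr2).add_one.neg_one_pow,
        one_mul] at hdet
      have hrc : r ∣ Fintype.card F - 1 := by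
        rw [hq, show q ^ 2 - 1 = (q + 1) * (q - 1) by rw [← Nat.sq_sub_sq, one_pow]]
        exact dvd_mul_of_dvd_left hq1 _
      refine H46.Elusive.pow_ne_one_of_nonpower hrc (fun h0 => hzn 0 (by rw [h0, zero_pow hr.ne_zero])) hzn hK00.ne'
        ?_ hdet.symm
      have h5 : padicValNat r n = 1 + padicValNat r K0 := by
        rw [hK0, padicValNat.mul hr.ne_zero hK00.ne', padicValNat_self]
      have h6 : padicValNat r (Fintype.card F - 1) = padicValNat r (q + 1) := by
        rw [hq, show q ^ 2 - 1 = (q + 1) * (q - 1) by rw [← Nat.sq_sub_sq, one_pow],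
          padicValNat.mul (by omega) (by omega), padicValNat.eq_zero_of_not_dvd hqm, add_zero]
      omega
    obtain ⟨k, rfl⟩ := hrm
    obtain ⟨K, hK, hU⟩ := (H44.Elu.shape_nonpower hq hrF hr2 hq1 hzn hz1 (H44.Elu.herm_hermB hq n)
      (H44.Elu.nd_hermB hq n) (H44.Elu.iso_su hq hxS) hT).ti
    rw [finrank_top, Module.finrank_fin_fun] at hK
    have hkK : k ≤ K := by
      by_contra hlt
      have h5 : (K + 1) * r ≤ k * r := Nat.mul_le_mul_right r (by omega)
      have h6 : (K + 1) * r = K * r + r := add_one_mul K r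
      rw [mul_comm r k] at hmn
      have := hr.pos
      omega
    obtain ⟨W, -, hW, hWT, hWd⟩ := hU k hkK
    exact ⟨W, hWd.trans (mul_comm k r), hWT, hW⟩

end Cfsg.Agent.S5953
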