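import Cfsg.Statements.S5954
import Cfsg.Agent.H44.Elu.SUNd
import Cfsg.Agent.H44.Elu.CountNd

set_option autoImplicit false
open scoped MatrixGroups
open Cfsg

namespace Cfsg.Agent.S5954

open Module H44.Elu

theorem ofNdOn {F : Type*} [Field F] [Fintype F] {q n : ℕ} (hq : Fintype.card F = q ^ 2)
    {W : Submodule F (Fin n → F)} (h : NdOn (hermB hq n) W) :
    ∀ u ∈ W, u ≠ 0 → ∃ v ∈ W, Cfsg.hermForm n F q u v ≠ 0 := fun u hu h0 => by
  by_contra hh
  push Not at hh
  exact h0 (h u hu hh)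

theorem odd_quot {n : ℕ} (hn : n ≠ 0) : ∃ o, Odd o ∧ n = 2 ^ padicValNat 2 n * o := by
  obtain ⟨o, ho⟩ := pow_padicValNat_dvd (p := 2) (n := n)
  refine ⟨o, ?_, ho⟩
  by_contra he
  obtain ⟨o', ho'⟩ := Nat.not_odd_iff_even.1 he
  have h5 : 2 ^ (padicValNat 2 n + 1) ∣ n := ⟨o', by
    conv_lhs => rw [ho, ho']
    rw [pow_succ]; ring⟩
  rw [padicValNat_dvd_iff_le hn] at h5
  omega

theorem neg_pow_ne_one {F : Type*} [Field F] (h2 : (2 : F) ≠ 0) {q N : ℕ} (hN : N ≠ 0) (h4 : q % 4 = 3)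
    (hv : padicValNat 2 (2 * N) ≤ padicValNat 2 (q + 1)) {a : F} (ha : a ^ (q + 1) = -1) :
    (-(a ^ 2)) ^ N ≠ 1 := by
  intro h
  obtain ⟨o, ho, hqo⟩ := odd_quot (show q + 1 ≠ 0 by omega)
  obtain ⟨w, hw, hNw⟩ := odd_quot hN
  rw [padicValNat.mul two_ne_zero hN, padicValNat_self] at hv
  obtain ⟨d, hd⟩ := Nat.exists_eq_add_of_le hv
  have hh : (q + 1) = 2 * (2 ^ (padicValNat 2 N + d) * o) := by
    conv_lhs => rw [hqo, hd]
    rw [show 1 + padicValNat 2 N + d = (padicValNat 2 N + d) + 1 by ring, pow_succ]; ring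
  have hev : Even (2 ^ (padicValNat 2 N + d) * o) := by rw [Nat.even_iff]; omega
  have h3 : (-(a ^ 2)) ^ (2 ^ (padicValNat 2 N + d) * o) = -1 := by
    rw [hev.neg_pow, ← pow_mul, ← hh, ha]
  have h5 := congrArg (fun x => x ^ (2 ^ d * o)) h
  simp only [one_pow, ← pow_mul] at h5
  have he : N * (2 ^ d * o) = 2 ^ (padicValNat 2 N + d) * o * w := by
    conv_lhs => rw [hNw]
    rw [pow_add]; ring
  rw [he, pow_mul, h3, hw.neg_one_pow] at h5
  exact h2 (by linear_combination -h5)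

/-- Elements of prime order of PSU_n(q) with no fixed nondegenerate `m`-space. Here `T = PSU_n(q)` (`n ≥ 3`, `(n, q) ≠ (3, 2)`), realised through the matrices of determinant 1 over the field `F` with `q²` elements preserving the Hermitian form `h(u, v) = Σ u_i v_i^q`; an element of `T` of prime order `r` is such a matrix `x` with `x^r` scalar and `x` not scalar. For `r ≠ p` let `i` be the multiplicative order of `q` modulo `r`, `b = i/2` for `i` even and `b = i` for `i` odd, `c = i, i/2, 2i` according as `i ≡ 0, 2 (mod 4)` or `i` odd, and write `k = n mod c`, `ℓ = m mod b`, `ℓ' = m mod c`, `n' = ⌊n/b⌋`, `m' = ⌊m/b⌋`, `s = (r−1)/b`; `(a)_r` is the `r`-part of `a`. Let `1 ≤ m < n/2` and let `r` be a prime dividing the number of nondegenerate `m`-spaces. Then every element of `T` of order `r` fixes a nondegenerate `m`-space if and only if one of: (i) `r = p > 2` and every partition of `n` into parts of size at most `p` contains (as a sub-multiset) a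 partition of `m`; (ii) `r = p = 2` and (`n` is odd or `m` is even); (iii) `r = 2 ≠ p` and (`n` is odd, or `m` is even, or `(q+1)_2 ≥ (n)_2` and `q ≡ 3 (mod 4)`); (iv) `r ≠ p`, `r > 2`, and either `i ≠ 2`, `c ≤ m` and `k ≥ ℓ'`, or `i = 2` and (`r ∣ m` or `(q+1)_r ≥ (n)_r`). -/
theorem result {F : Type*} [Field F] [Fintype F] {p : ℕ} [Fact p.Prime] [CharP F p] {q : ℕ} (hq : Fintype.card F = q ^ 2)
    (n m : ℕ) (hn : 3 ≤ n) (hT : (n, q) ≠ (3, 2)) (hm : 1 ≤ m) (hmn : 2 * m < n)
    (r : ℕ) [Fact r.Prime]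
    (hrΩ : r ∣ Nat.card {W : Submodule F (Fin n → F) // Module.finrank F ↥W = m ∧ (∀ u ∈ W, u ≠ 0 → ∃ v ∈ W, Cfsg.hermForm n F q u v ≠ 0)})
    (i b c : ℕ) (hi : i = orderOf (q : ZMod r)) (hb : b = if Even i then i / 2 else i)
    (hc : c = if i % 4 = 0 then i else if i % 4 = 2 then i / 2 else 2 * i) :
    (∀ x : Matrix.SpecialLinearGroup (Fin n) F, x ∈ Cfsg.SU n F q →
      (∃ z : F, ((x ^ r : Matrix.SpecialLinearGroup (Fin n) F) : Matrix (Fin n) (Fin n) F) = z • (1 : Matrix (Fin n) (Fin n) F)) →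
      (∀ z : F, (x : Matrix (Fin n) (Fin n) F) ≠ z • (1 : Matrix (Fin n) (Fin n) F)) →
      ∃ W : Submodule F (Fin n → F), Module.finrank F ↥W = m ∧ (∀ u ∈ W, u ≠ 0 → ∃ v ∈ W, Cfsg.hermForm n F q u v ≠ 0) ∧
        W.map (Matrix.toLin' (x : Matrix (Fin n) (Fin n) F)) ≤ W) ↔
    ((r = p ∧ 2 < p ∧ (∀ μ : Multiset ℕ, (∀ a ∈ μ, 0 < a ∧ a ≤ p) → μ.sum = n → ∃ ν : Multiset ℕ, ν ≤ μ ∧ ν.sum = m)) ∨
     (r = p ∧ p = 2 ∧ (Odd n ∨ Even m)) ∨
     (r = 2 ∧ p ≠ 2 ∧ (Odd n ∨ Even m ∨ (padicValNat 2 n ≤ padicValNat 2 (q + 1) ∧ q % 4 = 3))) ∨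
     (r ≠ p ∧ 2 < r ∧ ((i ≠ 2 ∧ c ≤ m ∧ m % c ≤ n % c) ∨ (i = 2 ∧ (r ∣ m ∨ padicValNat r n ≤ padicValNat r (q + 1)))))) := by
  classical
  have hr : r.Prime := Fact.out
  have hn0 : 0 < n := by omega
  have hq2 := H50.two_le hq
  by_cases hrp : r = p
  · subst hrp
    have key : ∀ x : Matrix.SpecialLinearGroup (Fin n) F, x ∈ Cfsg.SU n F q →
        (∃ z : F, ((x ^ r : Matrix.SpecialLinearGroup (Fin n) F) : Matrix (Fin n) (Fin n) F) = z • (1 : Matrix (Fin n) (Fin n) F)) →
        ∃ μ : Multiset ℕ, (∀ a ∈ μ, 0 < a ∧ a ≤ r) ∧ μ.sum = n ∧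
          ∀ ν ≤ μ, ∃ W : Submodule F (Fin n → F), Module.finrank F ↥W = ν.sum ∧
            (∀ u ∈ W, u ≠ 0 → ∃ v ∈ W, Cfsg.hermForm n F q u v ≠ 0) ∧
            W.map (Matrix.toLin' (x : Matrix (Fin n) (Fin n) F)) ≤ W := by
      rintro x hxS ⟨z, hz⟩
      have hz1 := scalar_norm hq hn0 hxS hz
      obtain ⟨w, hw⟩ := exists_pth_root (F := F) r z
      have hw1 : w * H50.conjHom hq w = 1 := by
        refine frobenius_inj F r ?_
        simp only [frobenius_def, H50.conjHom_apply, ← pow_succ', one_pow]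
        rw [← pow_mul, mul_comm, pow_mul, hw, hz1]
      obtain ⟨T, hI, hN, hinv⟩ := exists_unip r (iso_su hq hxS) (toLin_pow_sl hz) hw hw1
      obtain ⟨μ₁, μ₂, a1, a2, hs, -, hsub⟩ := exists_decomp (herm_hermB hq n) hI (hI.injective (nd_hermB hq n))
        (P1 := fun _ => True) (P2 := fun _ => False) (W₀ := ⊤) (fun _ _ _ _ _ => trivial)
        (fun j U _ _ hdg hne => herm_h2 (conj_ne_id hq) j U hdg hne) r le_top le_top
        (nd_hermB hq n) (fun v _ => by rw [hN]; rfl)
      obtain rfl : μ₂ = 0 := Multiset.eq_zero_of_forall_notMem fun a ha => (a2 a ha).2.2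
      simp only [add_zero] at hs hsub
      rw [finrank_top, finrank_fin_fun] at hs
      refine ⟨μ₁, fun a ha => ⟨(a1 a ha).1, (a1 a ha).2.1⟩, hs, fun ν hν => ?_⟩
      obtain ⟨D, -, hD, hDn, hDd⟩ := hsub ν hν 0 le_rfl
      exact ⟨D, by rw [hDd]; simp, ofNdOn hq hDn, hinv D hD⟩
    by_cases hr2 : r = 2
    · subst hr2
      have h2 : (2 : F) = 0 := by exact_mod_cast CharP.cast_eq_zero F 2
      constructor
      · intro h
        refine Or.inr (Or.inl ⟨rfl, rfl, ?_⟩)
        by_contra hh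
        push Not at hh
        obtain ⟨hne, hmo⟩ := hh
        rw [Nat.not_odd_iff_even] at hne
        obtain ⟨N, hN⟩ := hne.two_dvd
        obtain ⟨x, hxS, hx1, hx2, hx3⟩ := exists_swap_witness_su hq h2 (N := N) (by omega) hN
        obtain ⟨W, hWm, hWn, hW⟩ := h x hxS hx1 hx2
        exact hmo (even_iff_two_dvd.2 (hWm ▸ hx3 W hW hWn))
      · intro hcond x hxS hx _
        have hcond' : Odd n ∨ Even m := by
          rcases hcond with ⟨-, h, -⟩ | ⟨-, -, h⟩ | ⟨-, h, -⟩ | ⟨h, -⟩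
          · omega
          · exact h
          · exact absurd rfl h
          · exact absurd rfl h
        obtain ⟨μ, hμ, hsum, hW⟩ := key x hxS hx
        obtain ⟨t, u, rfl⟩ := exists_ones_twos μ hμ
        simp only [Multiset.sum_add, Multiset.sum_replicate, smul_eq_mul, mul_one] at hsum
        have hpar : m % 2 ≤ t ∨ u < m / 2 := by
          rcases hcond' with ⟨e, he⟩ | ⟨e, he⟩ <;> omega
        obtain ⟨W, hWd, hWn, hWi⟩ := hW (Multiset.replicate (m - 2 * min u (m / 2)) 1 + Multiset.replicate (min u (m / 2)) 2)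
          (add_le_add ((Multiset.replicate_le_replicate 1).2 (by omega)) ((Multiset.replicate_le_replicate 2).2 (min_le_left _ _)))
        refine ⟨W, ?_, hWn, hWi⟩
        rw [hWd]
        simp only [Multiset.sum_add, Multiset.sum_replicate, smul_eq_mul, mul_one]
        omega
    have hp2 : 2 < r := by have := hr.two_le; omega
    constructor
    · intro h
      refine Or.inl ⟨rfl, hp2, fun μ hμ hsum => ?_⟩
      by_contra hbad
      obtain ⟨x, hxS, hx1, hx2, hx3⟩ := exists_part_witness_su (F := F) hq hp2 (m := m) (by omega) hμ hsum hbad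
      obtain ⟨W, hWm, hWn, hW⟩ := h x hxS hx1 hx2
      exact hx3 W hW hWn hWm
    · intro hcond x hxS hx _
      obtain ⟨μ, hμ, hsum, hW⟩ := key x hxS hx
      rcases hcond with ⟨-, -, h⟩ | ⟨-, h, -⟩ | ⟨h, -⟩ | ⟨h, -⟩
      · obtain ⟨ν, hν, hνs⟩ := h μ hμ hsum
        exact hνs ▸ hW ν hν
      · omega
      · omega
      · exact absurd rfl h
  have hrF := cast_ne_of_ne' (F := F) hrp
  by_cases hr2 : r = 2
  · subst hr2
    have hp2 : p ≠ 2 := Ne.symm hrp
    have h2 : (2 : F) ≠ 0 := by exact_mod_cast hrF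
    have hqodd := odd_q hq h2
    constructor
    · intro h
      refine Or.inr (Or.inr (Or.inl ⟨rfl, hp2, ?_⟩))
      by_contra hh
      push Not at hh
      obtain ⟨hne, hmo, hcase⟩ := hh
      rw [Nat.not_odd_iff_even] at hne
      obtain ⟨N, hN⟩ := hne.two_dvd
      obtain ⟨a, ha1, ha2⟩ : ∃ a : F, a ^ (q + 1) = -1 ∧ (-(a ^ 2)) ^ N = 1 := by
        have hq4 : q % 4 = 1 ∨ q % 4 = 3 := by rw [Nat.odd_iff] at hqodd; omega
        rcases hq4 with h4 | h4
        · obtain ⟨a, ha⟩ := (FiniteField.isSquare_neg_one_iff (F := F)).2 (by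
            rw [hq, Nat.pow_mod, h4]; norm_num)
          refine ⟨a, ?_, by rw [pow_two, ← ha, neg_neg, one_pow]⟩
          obtain ⟨k, hk⟩ : ∃ k, q + 1 = 2 * (2 * k + 1) := ⟨q / 4, by omega⟩
          rw [hk, pow_mul, pow_two, ← ha, (odd_two_mul_add_one k).neg_one_pow]
        · have hv : padicValNat 2 (q + 1) < padicValNat 2 n := by
            by_contra hle
            exact hcase (not_lt.1 hle) h4
          obtain ⟨o, ho, hqo⟩ := odd_quot (show q + 1 ≠ 0 by omega)
          have hcard : Nat.card Fˣ = (q + 1) * (q - 1) := by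
            rw [Nat.card_units, Nat.card_eq_fintype_card, hq, ← Nat.sq_sub_sq, one_pow]
          obtain ⟨g, hg⟩ := IsCyclic.exists_ofOrder_eq_natCard (α := Fˣ)
          obtain ⟨k, hk⟩ : 2 ^ (padicValNat 2 (q + 1) + 1) ∣ Nat.card Fˣ := by
            rw [hcard, pow_succ]
            exact mul_dvd_mul pow_padicValNat_dvd (by omega)
          have hk0 : k ≠ 0 := fun h0 => by
            rw [h0, mul_zero] at hk
            exact Nat.card_pos.ne' hk
          have hord : orderOf ((g ^ k : Fˣ) : F) = 2 ^ (padicValNat 2 (q + 1) + 1) := by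
            rw [orderOf_units, orderOf_pow' g hk0, hg, hk, Nat.gcd_mul_left_left,
              Nat.mul_div_cancel _ (Nat.pos_of_ne_zero hk0)]
          generalize ((g ^ k : Fˣ) : F) = a at hord
          have h1 : a ^ 2 ^ padicValNat 2 (q + 1) = -1 := by
            have h1 : (a ^ 2 ^ padicValNat 2 (q + 1)) ^ 2 = 1 := by
              rw [← pow_mul, ← pow_succ, ← hord, pow_orderOf_eq_one]
            refine (sq_eq_one_iff.1 h1).resolve_left fun h3 => ?_
            have h5 := Nat.le_of_dvd (by positivity) (hord ▸ orderOf_dvd_of_pow_eq_one h3)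
            rw [pow_succ] at h5
            have : 0 < 2 ^ padicValNat 2 (q + 1) := by positivity
            omega
          refine ⟨a, by conv_lhs => rw [hqo, pow_mul, h1, ho.neg_one_pow], ?_⟩
          have hNv : 2 ^ padicValNat 2 (q + 1) ∣ N := by
            have h6 : 2 * 2 ^ padicValNat 2 (q + 1) ∣ 2 * N := by
              rw [← pow_succ', ← hN]
              exact (pow_dvd_pow 2 hv).trans pow_padicValNat_dvd
            exact Nat.dvd_of_mul_dvd_mul_left two_pos h6
          have hNe : Even N := by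
            refine even_iff_two_dvd.2 ((dvd_pow_self 2 fun h0 => ?_).trans hNv)
            rw [padicValNat.eq_zero_iff] at h0
            omega
          obtain ⟨l, hl⟩ := hNv
          rw [hNe.neg_pow, ← pow_mul, hl, ← mul_assoc, ← pow_succ', ← hord, pow_mul, pow_orderOf_eq_one, one_pow]
      obtain ⟨x, hxS, hx1, hx2, hx3⟩ := exists_neg_witness hq h2 (N := N) (by omega) hN ha1 ha2
      obtain ⟨W, hWm, hWn, hW⟩ := h x hxS hx1 hx2
      exact hmo (even_iff_two_dvd.2 (hWm ▸ hx3 W hW hWn))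
    · intro hcond x hxS ⟨z, hz⟩ _
      have hcond' : Odd n ∨ Even m ∨ (padicValNat 2 n ≤ padicValNat 2 (q + 1) ∧ q % 4 = 3) := by
        rcases hcond with ⟨h, -⟩ | ⟨h, -, -⟩ | ⟨-, -, h⟩ | ⟨-, h, -⟩
        · exact absurd h hrp
        · exact absurd h hrp
        · exact h
        · omega
      have hz1 := scalar_norm hq hn0 hxS hz
      obtain ⟨a, ha⟩ := exists_sqrt hq h2 hz1
      have ha2 : (a ^ (q + 1)) ^ 2 = 1 := by rw [← pow_mul, mul_comm, pow_mul, ha, hz1]
      rcases sq_eq_one_iff.1 ha2 with ha1 | ha1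
      · obtain ⟨T, hs, hTx, -⟩ := exists_setting_su hq hr hrF hxS hz ha ha1
        obtain ⟨hf, hm'⟩ := shapes_invol_su hq h2 hs
        have hN := hs.finrank_add
        rw [finrank_fin_fun] at hN
        obtain ⟨W, hW, hWn, hWd⟩ := hs.exists_ndsub hf hm' (e := min m (finrank F (fixS T)))
          (k := m - min m (finrank F (fixS T))) (by omega) (by omega)
        exact ⟨W, by omega, ofNdOn hq hWn, hTx W hW⟩
      · have hB := herm_hermB hq n
        have hnd := nd_hermB hq n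
        obtain ⟨N, hN, hdet⟩ := det_neg_su hq h2 hB hnd (iso_su hq hxS) (toLin_pow_sl hz) ha ha1
        rw [finrank_fin_fun] at hN
        have hme : Even m := by
          rcases hcond' with h | h | ⟨hv, h4⟩
          · exact absurd h (Nat.not_odd_iff_even.2 ⟨N, by omega⟩)
          · exact h
          · exfalso
            rw [LinearMap.det_toLin', Matrix.SpecialLinearGroup.det_coe, ← ha] at hdet
            exact neg_pow_ne_one h2 (by omega) h4 (hN ▸ hv) ha1 hdet.symm
        obtain ⟨k, hk⟩ := hme.two_dvd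
        obtain ⟨W, -, hW, hWn, hWd⟩ := (shape_neg_su hq h2 hB hnd (iso_su hq hxS) (toLin_pow_sl hz) ha ha1).ndsub k
          (by rw [finrank_top, finrank_fin_fun]; omega)
        exact ⟨W, by omega, ofNdOn hq hWn, hW⟩
  have h2r : 2 < r := by have := hr.two_le; omega
  have hi0 := i_pos hq hrp hi
  have hb0 := b_pos hq hrp hi hb
  have hcb := c_eq_block hb hc
  have hc0 : 0 < c := by rw [← hcb]; split_ifs <;> omega
  obtain ⟨e, he⟩ := prime_pow_q (p := p) hq 1
  rw [pow_one] at he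
  obtain ⟨Y, hY⟩ := count_nd_su (F := F) hq (n := n) (k := m) (by omega)
  obtain ⟨j, hj, hjr⟩ := exists_factor hr (fun h => hrp ((Nat.prime_dvd_prime_iff_eq hr Fact.out).1
    (hr.dvd_of_dvd_pow (he ▸ h)))) hY hrΩ
  rw [Finset.mem_Ico] at hj
  have hdvd := c_dvd_su hr2 hi hc (j := j + 1) (by omega) hjr (by omega)
  have hi2data : i = 2 → c = 1 ∧ r ∣ q + 1 ∧ ¬ r ∣ q - 1 := by
    intro h2
    have h := pow_b_eq_neg_one (p := p) hq hrp hi (by omega)
    rw [show i / 2 = 1 by omega, pow_one] at h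
    refine ⟨by rw [hc, h2]; rfl, ?_, fun h3 => ?_⟩
    · rw [← ZMod.natCast_eq_zero_iff, Nat.cast_add, Nat.cast_one, h, neg_add_cancel]
    · rw [← ZMod.natCast_eq_zero_iff, Nat.cast_sub (by omega), h, Nat.cast_one] at h3
      refine hr2 ((Nat.prime_dvd_prime_iff_eq hr Nat.prime_two).1 ?_)
      rw [← ZMod.natCast_eq_zero_iff, Nat.cast_ofNat]
      linear_combination -h3
  constructor
  · intro h
    refine Or.inr (Or.inr (Or.inr ⟨hrp, h2r, ?_⟩))
    by_cases hi2 : i = 2
    · obtain ⟨-, hq1, -⟩ := hi2data hi2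
      refine Or.inr ⟨hi2, ?_⟩
      by_contra hh
      push Not at hh
      obtain ⟨hrm, hv⟩ := hh
      have h1 : r ^ (padicValNat r (q + 1) + 1) ∣ n := (pow_dvd_pow r hv).trans pow_padicValNat_dvd
      have h2 : r ∣ n := (dvd_pow_self r (by omega)).trans h1
      obtain ⟨x, hxS, hx1, hx2, hx3⟩ := exists_nonpower_witness (r := r) hq hrF hr2 hq1
        (A := n / r) (Nat.mul_div_cancel' h2) (Nat.div_pos (Nat.le_of_dvd hn0 h2) hr.pos)
        (Nat.dvd_div_of_mul_dvd (by rwa [← pow_succ']))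
      obtain ⟨W, hWm, -, hW⟩ := h x hxS hx1 hx2
      exact hrm (hWm ▸ hx3 W hW)
    have hN : 0 < n / c := Nat.div_pos ((Nat.le_of_dvd (by omega) hdvd).trans (by omega)) hc0
    obtain ⟨x, hxS, hx1, hx2, hx3⟩ := exists_dim_witness_su (n := n) hq hrp hr2 hi hb hi2 hN
      (by rw [hcb]; exact Nat.div_mul_le_self n c)
    obtain ⟨W, hWm, hWn, hW⟩ := h x hxS hx1 hx2
    obtain ⟨e', k, he', hek⟩ := (hx3 W hW).2 hWn
    have hsub : n - n / c * c = n % c := by
      have := Nat.mod_add_div n c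
      rw [mul_comm c] at this; omega
    rw [hcb, hsub] at he'
    rw [hcb] at hek
    have h1 : m % c ≤ n % c := arith_nd_dim (hek.trans hWm) he'
    exact Or.inl ⟨hi2, le_of_count_nd hdvd (by omega) (by omega) h1, h1⟩
  · rintro (⟨h, -⟩ | ⟨h, -, -⟩ | ⟨h, -⟩ | ⟨-, -, hcond⟩) x hxS ⟨z, hz⟩ -
    · exact absurd h hrp
    · exact absurd h hrp
    · exact absurd h hr2
    have hz1 := scalar_norm hq hn0 hxS hz
    have hroot : (∃ w : F, w ^ r = z ∧ w ^ (q + 1) = 1) ∨ (i = 2 ∧ ∀ w : F, w ^ r ≠ z) := by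
      by_cases hi2 : i = 2
      · by_cases hw : ∃ w : F, w ^ r = z
        · obtain ⟨w, hw⟩ := hw
          refine Or.inl ⟨w, hw, ?_⟩
          obtain ⟨-, -, hqm⟩ := hi2data hi2
          have h5 : (w ^ (q + 1)) ^ r = 1 := by rw [← pow_mul, mul_comm, pow_mul, hw, hz1]
          have hw0 : w ≠ 0 := fun h0 => by
            rw [h0, zero_pow hr.ne_zero] at hw
            rw [← hw, zero_pow (by omega)] at hz1
            exact zero_ne_one hz1
          have h6 : (w ^ (q + 1)) ^ (q - 1) = 1 := by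
            rw [← pow_mul, show (q + 1) * (q - 1) = Fintype.card F - 1 by rw [hq, ← Nat.sq_sub_sq, one_pow]]
            exact FiniteField.pow_card_sub_one_eq_one w hw0
          have h7 := pow_gcd_eq_one.2 ⟨h5, h6⟩
          rwa [(hr.coprime_iff_not_dvd.2 hqm).gcd_eq_one, pow_one] at h7
        · exact Or.inr ⟨hi2, fun w hw' => hw ⟨w, hw'⟩⟩
      · exact Or.inl (exists_root_coprime hq (not_dvd_q_add_one hr2 hi hi2) hz1)
    rcases hroot with ⟨w, hw, hw1⟩ | ⟨hi2, hzn⟩
    · obtain ⟨T, hs, hTx, -⟩ := exists_setting_su hq hr hrF hxS hz hw hw1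
      have hN := hs.finrank_add
      rw [finrank_fin_fun] at hN
      have hsh := shape_mov_su hq hrp hr2 hi hb hs
      rw [hcb] at hsh
      have hmc : m % c ≤ n % c := by
        rcases hcond with ⟨-, -, h⟩ | ⟨h, -⟩
        · exact h
        · rw [(hi2data h).1, Nat.mod_one, Nat.mod_one]
      obtain ⟨e', k, he', hk', hek⟩ := arith_nd hN (hsh.nd_dvd _ le_rfl inv_movS hs.nd_mov) (by omega : m ≤ n) hmc
      obtain ⟨W, hW, hWn, hWd⟩ := hs.exists_ndsub (shape_fix_herm hs (conj_ne_id hq) (p := p) (Q1 := q) ⟨_, he⟩ fun a => rfl)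
        hsh (e := e') (k := k) (by omega) hk'
      exact ⟨W, by omega, ofNdOn hq hWn, hTx W hW⟩
    obtain ⟨-, hq1, hqm⟩ := hi2data hi2
    have hcase := (hcond.resolve_left fun h => h.1 hi2).2
    have hT := toLin_pow_sl hz
    obtain ⟨K0, hK0, hdet⟩ := H46.Elusive.det_of_nonpower hzn hT
    rw [finrank_fin_fun] at hK0
    have hK00 : 0 < K0 := Nat.pos_of_ne_zero fun h0 => by rw [h0, mul_zero] at hK0; omega
    have hrm : r ∣ m := by
      rcases hcase with hrm | hv
      · exact hrm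
      exfalso
      rw [LinearMap.det_toLin', Matrix.SpecialLinearGroup.det_coe, (hr.odd_of_ne_two hr2).add_one.neg_one_pow,
        one_mul] at hdet
      have hrc : r ∣ Fintype.card F - 1 := by
        rw [hq, show q ^ 2 - 1 = (q + 1) * (q - 1) by rw [← Nat.sq_sub_sq, one_pow]]
        exact dvd_mul_of_dvd_left hq1 _
      refine H46.Elusive.pow_ne_one_of_nonpower hrc (fun h0 => hzn 0 (by rw [h0, zero_pow hr.ne_zero])) hzn hK00.ne'
        ?_ hdet.symm
      have h5 : padicValNat r n = 1 + padicValNat r K0 := by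
        rw [hK0, padicValNat.mul hr.ne_zero hK00.ne', padicValNat_self]
      have h6 : padicValNat r (Fintype.card F - 1) = padicValNat r (q + 1) := by
        rw [hq, show q ^ 2 - 1 = (q + 1) * (q - 1) by rw [← Nat.sq_sub_sq, one_pow],
          padicValNat.mul (by omega) (by omega), padicValNat.eq_zero_of_not_dvd hqm, add_zero]
      omega
    obtain ⟨k, rfl⟩ := hrm
    obtain ⟨W, -, hW, hWn, hWd⟩ := (shape_nonpower hq hrF hr2 hq1 hzn hz1 (herm_hermB hq n)
      (nd_hermB hq n) (iso_su hq hxS) hT).ndsub k (by rw [finrank_top, finrank_fin_fun, mul_comm]; omega)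
    exact ⟨W, hWd.trans (mul_comm k r), ofNdOn hq hWn, hW⟩

end Cfsg.Agent.S5954
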