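import Cfsg.Statements.S5955
import Cfsg.Agent.H44.Elu.SpTwo
-- import your own Cfsg.Agent.* helpers here

set_option autoImplicit false
open scoped MatrixGroups
open Cfsg

namespace Cfsg.Agent.S5955

/-- Elements of prime order of PSp_n(q) with no fixed totally isotropic `m`-space. Here `T = PSp_n(q)` with `n = 2d ≥ 4`, `(n, q) ≠ (4, 2)`, realised through the symplectic matrices over the field `F` with `q` elements (preserving the standard alternating form); an element of `T` of prime order `r` is such a matrix `x` with `x^r` scalar and `x` not scalar. For `r ≠ p` let `i` be the multiplicative order of `q` modulo `r`, `c = i` for `i` even and `c = 2i` for `i` odd, and write `k = n mod c`, `ℓ = m mod i`, `ℓ' = m mod c`, `n' = ⌊n/i⌋`, `m' = ⌊m/i⌋`, `t = (r−1)/i`. Let `1 ≤ m ≤ n/2` and let `r` be a prime dividing the number of totally isotropic `m`-spaces. Then every element of `T` of order `r` fixes a totally isotropic `m`-space if and only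 if either (i) `r = 2 ≠ p` and (`m` is even or `q ≡ 1 (mod 4)`); or (ii) `r ≠ p`, `r > 2`, `i ≤ m`, `k ≥ 2ℓ`, and (`i` is odd or `n' − 2m' ≥ t`). -/
theorem result {F : Type*} [Field F] [Fintype F] {p : ℕ} [Fact p.Prime] [CharP F p] {q : ℕ} (hq : Fintype.card F = q)
    (d m : ℕ) (hd : 2 ≤ d) (hT : (d, q) ≠ (2, 2)) (hm : 1 ≤ m) (hmd : m ≤ d)
    (r : ℕ) [Fact r.Prime]
    (hrΩ : r ∣ Nat.card {W : Submodule F (Fin d ⊕ Fin d → F) // Module.finrank F ↥W = m ∧ (∀ u ∈ W, ∀ v ∈ W, Cfsg.sympForm d F u v = 0)})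
    (i c : ℕ) (hi : i = orderOf (q : ZMod r)) (hc : c = if Even i then i else 2 * i) :
    (∀ x : ↥(Matrix.symplecticGroup (Fin d) F),
      (∃ z : F, ((x ^ r : ↥(Matrix.symplecticGroup (Fin d) F)) : Matrix (Fin d ⊕ Fin d) (Fin d ⊕ Fin d) F) = z • (1 : Matrix (Fin d ⊕ Fin d) (Fin d ⊕ Fin d) F)) →
      (∀ z : F, (x : Matrix (Fin d ⊕ Fin d) (Fin d ⊕ Fin d) F) ≠ z • (1 : Matrix (Fin d ⊕ Fin d) (Fin d ⊕ Fin d) F)) →
      ∃ W : Submodule F (Fin d ⊕ Fin d → F), Module.finrank F ↥W = m ∧ (∀ u ∈ W, ∀ v ∈ W, Cfsg.sympForm d F u v = 0) ∧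
        W.map (Matrix.toLin' (x : Matrix (Fin d ⊕ Fin d) (Fin d ⊕ Fin d) F)) ≤ W) ↔
    ((r = 2 ∧ p ≠ 2 ∧ (Even m ∨ q % 4 = 1)) ∨
     (r ≠ p ∧ 2 < r ∧ i ≤ m ∧ 2 * (m % i) ≤ (2 * d) % c ∧ (Odd i ∨ (r - 1) / i + 2 * (m / i) ≤ (2 * d) / i))) := by
  classical
  have hr : r.Prime := Fact.out
  have hd0 : 0 < d := by omega
  obtain ⟨jc, hjm, hjdvd⟩ := H44.Elu.exists_of_dvd_TI_sp hmd hr hrΩ
  rw [hq] at hjdvd
  by_cases hrp : r = p
  · exfalso
    obtain ⟨n, -, hn⟩ := FiniteField.card F p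
    have h1 : p ∣ q ^ (2 * (d - jc)) := by
      rw [← hq, hn, ← pow_mul]
      exact dvd_pow_self p (Nat.mul_ne_zero n.ne_zero (by omega))
    have h2 : 1 ≤ q ^ (2 * (d - jc)) := Nat.one_le_pow _ _ (hq ▸ Fintype.card_pos)
    have h3 := Nat.dvd_sub h1 (hrp ▸ hjdvd)
    rw [Nat.sub_sub_self h2] at h3
    exact (Fact.out : p.Prime).ne_one (Nat.dvd_one.1 h3)
  by_cases hr2 : r = 2
  · subst hr2
    have hp2 : p ≠ 2 := Ne.symm hrp
    constructor
    · intro h
      refine Or.inl ⟨rfl, hp2, ?_⟩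
      by_contra hh
      push Not at hh
      have h4 : q % 4 = 3 := by
        have := FiniteField.odd_card_of_char_ne_two (F := F) (by rw [ringChar.eq F p]; exact hp2)
        rw [hq] at this; omega
      have hJJ : Matrix.J (Fin d) F * Matrix.J (Fin d) F = -1 := Matrix.J_squared (Fin d) F
      obtain ⟨W, hWm, -, hW⟩ := h ⟨Matrix.J (Fin d) F, SymplecticGroup.J_mem (Fin d) F⟩
        ⟨-1, by rw [SubmonoidClass.coe_pow, pow_two]; exact hJJ.trans (by rw [neg_one_smul])⟩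
        (fun z hz => by
          have h0 := congrFun (congrFun hz (Sum.inl ⟨0, hd0⟩)) (Sum.inl ⟨0, hd0⟩)
          simp [Matrix.J] at h0
          subst h0
          rw [zero_smul] at hz
          have h1 : (Matrix.J (Fin d) F : Matrix _ _ F) = 0 := hz
          rw [h1, mul_zero] at hJJ
          have := congrFun (congrFun hJJ (Sum.inl ⟨0, hd0⟩)) (Sum.inl ⟨0, hd0⟩)
          simp at this)
      refine hh.1 (even_iff_two_dvd.2 (hWm ▸ H46.Elusive.prime_dvd_dim (r := 2)
        (fun b => H44.Elu.neg_one_not_sq hq h4 b) ?_ W hW))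
      show (Matrix.toLinAlgEquiv' (Matrix.J (Fin d) F)) ^ 2 = _
      rw [← map_pow, pow_two, hJJ, map_neg, map_one]
      exact (neg_one_smul F _).symm
    · intro hcond x hx _
      have hcond' : Even m ∨ q % 4 = 1 := by
        rcases hcond with ⟨-, -, h⟩ | ⟨-, h, -⟩
        · exact h
        · omega
      rcases H44.Elu.sp_sq_cases hd0 hx with hT | hT
      · obtain ⟨hs, hf, hm'⟩ := H44.Elu.shapes_invol hp2 (H44.Elu.iso_sp x) hT
        have hN := hs.finrank_add
        rw [H44.Elu.finrank_sympV] at hN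
        obtain ⟨W, hW, hWT, hWd⟩ := hs.exists_TI hf hm' m fun K1 K h1 h2 =>
          ⟨min K1 m, m - min K1 m, min_le_left _ _, by omega, by omega⟩
        exact ⟨W, hWd, hWT, hW⟩
      · obtain ⟨K, hK, hU⟩ := (H44.Elu.shape_neg hq hp2 (H44.Elu.iso_sp x) hT).ti
        rw [finrank_top, H44.Elu.finrank_sympV] at hK
        by_cases h4 : q % 4 = 1
        · simp only [if_pos h4, mul_one, add_zero] at hK hU
          obtain ⟨W, -, hW, hWT, hWd⟩ := hU m (by omega)
          exact ⟨W, hWd, hWT, hW⟩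
        · obtain ⟨k, hk⟩ := hcond'.resolve_right h4
          simp only [if_neg h4] at hK hU
          obtain ⟨W, -, hW, hWT, hWd⟩ := hU k (by omega)
          exact ⟨W, hWd.trans (by omega), hWT, hW⟩
  have h2r : 2 < r := by have := hr.two_le; omega
  have hrF := H44.Elu.cast_ne_of_ne (F := F) hrp
  have hi0 := H44.Elu.order_pos_sp hq hrp hi
  have hc0 : 0 < c := by rw [hc]; split_ifs <;> omega
  have hdvd := H44.Elu.c_dvd hq hi hc hjdvd
  have hir : i ∣ r - 1 := by
    rw [hi]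
    refine orderOf_dvd_of_pow_eq_one (ZMod.pow_card_sub_one_eq_one ?_)
    obtain ⟨n, -, hn⟩ := FiniteField.card F p
    exact H44.Elu.q_ne_zero_mod hrp (n := n) (by rw [← hq, hn])
  have hsi : (r - 1) / i * i = r - 1 := Nat.div_mul_cancel hir
  constructor
  · intro h
    refine Or.inr ⟨hrp, h2r, ?_⟩
    have hN : 0 < 2 * d / c := Nat.div_pos ((Nat.le_of_dvd (by omega) hdvd).trans (by omega)) hc0
    obtain ⟨x, hx1, hx2, hx3⟩ := H44.Elu.exists_dim_witness (F := F) hq hrp hr2 hi hc hd0 hN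
      (Nat.div_mul_le_self _ c)
    obtain ⟨W, hWm, hWT, hW⟩ := h x hx1 hx2
    obtain ⟨u, k, hu, huk⟩ := (hx3 W hW).1 hWT
    have hsub : 2 * d - 2 * d / c * c = 2 * d % c := by
      have := Nat.mod_add_div (2 * d) c
      rw [mul_comm c] at this; omega
    have h1 : 2 * (m % i) ≤ 2 * d % c := H44.Elu.arith_TI_dim (huk.trans hWm) (hsub ▸ hu) le_rfl
    have him : i ≤ m := H44.Elu.le_of_count hdvd (by omega) (by omega) h1
    refine ⟨him, h1, ?_⟩
    rcases Nat.even_or_odd i with he | ho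
    swap
    · exact Or.inl ho
    refine Or.inr (not_lt.1 fun hlt => ?_)
    obtain ⟨A, o, ho1, hoA, hos, hev, hAd, hbad⟩ := H44.Elu.arith_TI_mult hi0
      (Nat.div_pos (Nat.le_of_dvd (by omega) hir) hi0) him (by omega : 2 * m ≤ 2 * d) hlt
    obtain ⟨y, hy1, hy2, hy3⟩ := H44.Elu.exists_mult_witness (F := F) hq hrp hr2 hi he hd0 ho1 hoA
      (hsi ▸ Nat.mul_le_mul_right i hos) hev hAd
    obtain ⟨W', hWm', hWT', hW'⟩ := h y hy1 hy2
    have := hy3 W' hW' hWT'
    omega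
  · rintro (⟨h, -⟩ | ⟨-, -, -, h1, h2⟩) x hx _
    · exact absurd h hr2
    obtain ⟨T, hs, hTx⟩ := H44.Elu.exists_setting hr hr2 hrF hd0 hx
    have hN := hs.finrank_add
    rw [H44.Elu.finrank_sympV] at hN
    have hsh := H44.Elu.shape_mov_sp hq hrp hr2 hi hs
    rw [← hc] at hsh
    obtain ⟨W, hW, hWT, hWd⟩ := hs.exists_TI (H44.Elu.shape_fix_alt hs H44.Elu.sympB_self) hsh m
      (H44.Elu.arith_TI (s := (r - 1) / i) hi0 hN
        (hsh.nd_dvd _ le_rfl H44.Elu.inv_movS hs.nd_mov) (Nat.zero_le _) h1 (by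
          rcases Nat.even_or_odd i with he | ho
          · refine Or.inr ⟨by rw [hc, if_pos he], by rw [if_pos he, hsi], ?_⟩
            exact h2.resolve_left (Nat.not_odd_iff_even.2 he)
          · exact Or.inl ⟨by rw [hc, if_neg (Nat.not_even_iff_odd.2 ho)],
              if_neg (Nat.not_even_iff_odd.2 ho), by omega⟩))
    exact ⟨W, hWd, hWT, hTx W hW⟩

end Cfsg.Agent.S5955
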