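import Cfsg.Statements.S5956
import Cfsg.Agent.H44.Elu.SpTwo
import Cfsg.Agent.H44.Elu.CountNd
import Cfsg.Agent.H44.Elu.UnipWitness
import Cfsg.Agent.H49.SpJordan

set_option autoImplicit false
open scoped MatrixGroups
open Cfsg

namespace Cfsg.Agent.S5956

open Module H44.Elu

theorem toNdOn {F : Type*} [Field F] {d : ℕ} {W : Submodule F (Fin d ⊕ Fin d → F)}
    (h : ∀ u ∈ W, u ≠ 0 → ∃ v ∈ W, Cfsg.sympForm d F u v ≠ 0) : NdOn (sympB d F) W := fun u hu hv => by
  by_contra h0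
  obtain ⟨v, hv', hne⟩ := h u hu h0
  exact hne (hv v hv')

theorem ofNdOn {F : Type*} [Field F] {d : ℕ} {W : Submodule F (Fin d ⊕ Fin d → F)}
    (h : NdOn (sympB d F) W) : ∀ u ∈ W, u ≠ 0 → ∃ v ∈ W, Cfsg.sympForm d F u v ≠ 0 := fun u hu h0 => by
  by_contra hh
  push Not at hh
  exact h0 (h u hu hh)

/-- The obstruction from a partition. -/
theorem witness_partition {F : Type*} [Field F] {p : ℕ} [Fact p.Prime] [CharP F p] (hp : 2 < p) {d m : ℕ}
    (hme : Even m) (hmd : m ≤ 2 * d) {μ : Multiset ℕ} (hμ : ∀ a ∈ μ, 0 < a ∧ a ≤ p)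
    (hv : ∀ a : ℕ, Odd a → Even (μ.count a)) (hsum : μ.sum = 2 * d)
    (hbad : ¬ ∃ ν : Multiset ℕ, ν ≤ μ ∧ ν.sum = m ∧ ∀ a : ℕ, Odd a → Even (ν.count a)) :
    ∃ x : ↥(Matrix.symplecticGroup (Fin d) F),
      (∃ z : F, ((x ^ p : ↥(Matrix.symplecticGroup (Fin d) F)) : Matrix (Fin d ⊕ Fin d) (Fin d ⊕ Fin d) F) = z • (1 : Matrix (Fin d ⊕ Fin d) (Fin d ⊕ Fin d) F)) ∧
      (∀ z : F, (x : Matrix (Fin d ⊕ Fin d) (Fin d ⊕ Fin d) F) ≠ z • (1 : Matrix (Fin d ⊕ Fin d) (Fin d ⊕ Fin d) F)) ∧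
      ∀ W : Submodule F (Fin d ⊕ Fin d → F), W.map (Matrix.toLin' (x : Matrix (Fin d ⊕ Fin d) (Fin d ⊕ Fin d) F)) ≤ W →
        NdOn (sympB d F) W → finrank F W ≠ m := by
  obtain ⟨n, A, hn, hA⟩ := H49.spRealised_of_parity (F := F) μ hv
  obtain rfl : n = d := by omega
  let T : Module.End F (Fin n ⊕ Fin n → F) := Matrix.toLinAlgEquiv' (A : Matrix (Fin n ⊕ Fin n) (Fin n ⊕ Fin n) F)
  have hnil : nilS T = Matrix.toLinAlgEquiv' ((A : Matrix (Fin n ⊕ Fin n) (Fin n ⊕ Fin n) F) - 1) := by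
    rw [map_sub, map_one]; rfl
  have hrank : ∀ l, finrank F (LinearMap.range (nilS T ^ l)) = blockRank μ l := fun l => by
    rw [hnil, ← map_pow]
    exact hA l
  have h0 : nilS T ^ p = 0 := by
    rw [← LinearMap.range_eq_bot, ← Submodule.finrank_eq_zero, hrank]
    refine Multiset.sum_eq_zero fun b hb => ?_
    obtain ⟨a, ha, rfl⟩ := Multiset.mem_map.1 hb
    have := (hμ a ha).2
    omega
  have hTp : T ^ p = 1 := by
    have h1 : ((Polynomial.X : Polynomial F) - 1) ^ p = Polynomial.X ^ p - 1 := by rw [sub_pow_char, one_pow]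
    have h2 := congrArg (Polynomial.aeval T) h1
    rw [map_pow, map_sub, map_sub, map_pow, Polynomial.aeval_X, map_one] at h2
    exact sub_eq_zero.1 (h2.symm.trans h0)
  refine ⟨A, ⟨1, ?_⟩, fun z hz => hbad ?_, fun W hW hWn hWm => hbad ?_⟩
  · rw [one_smul, SubmonoidClass.coe_pow]
    apply Matrix.toLinAlgEquiv'.injective
    rw [map_pow, map_one]
    exact hTp
  · have hd0 : n = 0 ∨ 0 < n := n.eq_zero_or_pos
    rcases hd0 with rfl | hd0
    · exact ⟨0, Multiset.zero_le _, by simp; omega, by simp⟩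
    have hTz : T = z • (1 : Module.End F (Fin n ⊕ Fin n → F)) := by
      show Matrix.toLinAlgEquiv' _ = _
      rw [hz, map_smul, map_one]
    have hz1 : z = 1 := by
      have h1 := hTp
      rw [hTz, _root_.smul_pow, one_pow] at h1
      have h2 := congrFun (LinearMap.congr_fun h1 (Pi.single (Sum.inl ⟨0, hd0⟩) 1)) (Sum.inl ⟨0, hd0⟩)
      simp at h2
      exact frobenius_inj F p (h2.trans (one_pow p).symm)
    have hN : nilS T = 0 := by rw [nilS, hTz, hz1, one_smul, sub_self]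
    have hone : ∀ a ∈ μ, a = 1 := fun a ha => by
      have h1 := hrank 1
      rw [pow_one, hN, LinearMap.range_zero, finrank_bot] at h1
      have h2 := Multiset.sum_eq_zero_iff.1 h1.symm (a - 1) (Multiset.mem_map.2 ⟨a, ha, rfl⟩)
      have := (hμ a ha).1
      omega
    have hrep := Multiset.eq_replicate_card.2 hone
    refine ⟨Multiset.replicate m 1, ?_, by simp, fun a _ => ?_⟩
    · rw [hrep, Multiset.le_replicate_iff]
      refine ⟨m, ?_, rfl⟩
      rw [hrep, Multiset.sum_replicate, smul_eq_mul, mul_one] at hsum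
      omega
    · rw [Multiset.count_replicate]
      split_ifs <;> simp [hme]
  · obtain ⟨μ₁, μ₂, a1, a2, hle, hs⟩ := exists_sub_partition (B := sympB n F) (T := T) (herm_sympB n) (iso_sp A) (nd_sympB n)
      (P1 := fun a => Even a) (P2 := fun a => Odd a)
      (fun k v => alt_h1 (two_ne (p := p) Fact.out (by omega)) (herm_sympB n) (iso_sp A) k v)
      (fun k U => alt_h2 (two_ne (p := p) Fact.out (by omega)) (herm_sympB n) (iso_sp A) k U) h0
      (fun h => lt_irrefl 0 (hμ 0 h).1) hrank hW hWn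
    refine ⟨_, hle, hs.trans hWm, fun a ha => ?_⟩
    rw [Multiset.count_add, Multiset.count_add, Multiset.count_eq_zero_of_notMem (s := μ₁)
      (fun hm => Nat.not_even_iff_odd.2 ha (a1 a hm)), zero_add]
    exact ⟨_, rfl⟩

universe u

/-- The swap witness in characteristic two. -/
theorem witness_swap {F : Type u} [Field F] [Fintype F] (h2 : (2 : F) = 0) {d : ℕ} (hd : 0 < d) (hde : Even d) :
    ∃ x : ↥(Matrix.symplecticGroup (Fin d) F),
      (∃ z : F, ((x ^ 2 : ↥(Matrix.symplecticGroup (Fin d) F)) : Matrix (Fin d ⊕ Fin d) (Fin d ⊕ Fin d) F) = z • (1 : Matrix (Fin d ⊕ Fin d) (Fin d ⊕ Fin d) F)) ∧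
      (∀ z : F, (x : Matrix (Fin d ⊕ Fin d) (Fin d ⊕ Fin d) F) ≠ z • (1 : Matrix (Fin d ⊕ Fin d) (Fin d ⊕ Fin d) F)) ∧
      ∀ W : Submodule F (Fin d ⊕ Fin d → F), W.map (Matrix.toLin' (x : Matrix (Fin d ⊕ Fin d) (Fin d ⊕ Fin d) F)) ≤ W →
        NdOn (sympB d F) W → finrank F W % 4 = 0 := by
  obtain ⟨V, _, _, _, B, hM, hV⟩ := exists_alt_fix (F := F) (d / 2)
  have hdV : finrank F V = d := by obtain ⟨e, he⟩ := hde; omega
  have hS := hM.swap
  obtain ⟨x, φ, hx, hφ⟩ := exists_sp_elt hS (d := d) (by rw [Module.finrank_prod, hdV]; omega)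
  refine ⟨x, ⟨1, ?_⟩, fun z hz => ?_, fun W hW hWn => ?_⟩
  · rw [one_smul, SubmonoidClass.coe_pow]
    apply Matrix.toLinAlgEquiv'.injective
    rw [map_pow, map_one]
    refine LinearMap.ext fun v => ?_
    obtain ⟨v, rfl⟩ := φ.surjective v
    show Matrix.toLin' (x : Matrix (Fin d ⊕ Fin d) (Fin d ⊕ Fin d) F)
      (Matrix.toLin' (x : Matrix (Fin d ⊕ Fin d) (Fin d ⊕ Fin d) F) (φ v)) = _
    rw [hx, hx, ← Module.End.mul_apply, ← pow_two, swapS_pow_two]
    rfl
  · obtain ⟨v, hv⟩ := Module.finrank_pos_iff_exists_ne_zero.1 (hdV.symm ▸ hd : 0 < finrank F V)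
    have h := hx (v, 0)
    rw [hz, map_smul, Matrix.toLin'_one, LinearMap.smul_apply, LinearMap.id_apply, ← map_smul, swapS_apply] at h
    exact hv ((congrArg Prod.snd (φ.injective h)).symm.trans (smul_zero z))
  · set D := W.comap φ.toLinearMap with hDdef
    have hD : D.map (swapS F V) ≤ D := map_le_iff.2 fun v hv => by
      show φ (swapS F V v) ∈ W
      rw [← hx]; exact hW ⟨φ v, hv, rfl⟩
    have hDn : NdOn (sumB B B) D := fun u hu h => φ.map_eq_zero_iff.1 (hWn (φ u) hu fun w hw => by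
      obtain ⟨w, rfl⟩ := φ.surjective w
      exact (hφ u w).trans (h w hw))
    have hDd : finrank F D = finrank F W := by
      rw [hDdef, Submodule.comap_equiv_eq_map_symm, LinearEquiv.finrank_map_eq]
    obtain ⟨μ₁, μ₂, a1, -, hle, hs⟩ := exists_sub_partition hS.herm hS.iso hS.nd
      (P1 := fun _ => False) (P2 := fun _ => True) (fun k v _ hne => hne (swap_diag hM h2 k v))
      (fun _ _ _ _ _ => trivial) (swap_nil_sq h2)
      (μ := Multiset.replicate (finrank F V) 2) (fun h => absurd (Multiset.eq_of_mem_replicate h) (by omega))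
      (swap_rank h2) hD hDn
    have h1 : μ₁ = 0 := Multiset.eq_zero_of_forall_notMem a1
    have h3 : ∀ a ∈ μ₂, a = 2 := fun a ha =>
      Multiset.eq_of_mem_replicate (Multiset.mem_of_le hle (Multiset.mem_add.2 (Or.inr ha)))
    rw [← hDd, ← hs, h1, Multiset.eq_replicate_card.2 h3]
    simp
    omega

/-- Elements of prime order of PSp_n(q) with no fixed nondegenerate `m`-space. Here `T = PSp_n(q)` with `n = 2d ≥ 4`, `(n, q) ≠ (4, 2)`, realised through the symplectic matrices over the field `F` with `q` elements (preserving the standard alternating form); an element of `T` of prime order `r` is such a matrix `x` with `x^r` scalar and `x` not scalar. For `r ≠ p` let `i` be the multiplicative order of `q` modulo `r`, `c = i` for `i` even and `c = 2i` for `i` odd, and write `k = n mod c`, `ℓ = m mod i`, `ℓ' = m mod c`, `n' = ⌊n/i⌋`, `m' = ⌊m/i⌋`, `t = (r−1)/i`. Let `m` be even with `2 ≤ m < n/2` and let `r` be a prime dividing the number of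 nondegenerate `m`-spaces. Then every element of `T` of order `r` fixes a nondegenerate `m`-space if and only if one of: (i) `r = p > 2` and every partition of `n` into parts of size at most `p` in which every odd part has even multiplicity contains (as a sub-multiset) a partition of `m` in which every odd part has even multiplicity; (ii) `r = p = 2` and (`n ≡ 2 (mod 4)` or `m ≡ 0 (mod 4)`); (iii) `r = 2 ≠ p`; (iv) `r ≠ p`, `r > 2`, `c ≤ m` and `k ≥ ℓ'`. -/
theorem result {F : Type*} [Field F] [Fintype F] {p : ℕ} [Fact p.Prime] [CharP F p] {q : ℕ} (hq : Fintype.card F = q)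
    (d m : ℕ) (hd : 2 ≤ d) (hT : (d, q) ≠ (2, 2)) (hm : 2 ≤ m) (hme : Even m) (hmd : m < d)
    (r : ℕ) [Fact r.Prime]
    (hrΩ : r ∣ Nat.card {W : Submodule F (Fin d ⊕ Fin d → F) // Module.finrank F ↥W = m ∧ (∀ u ∈ W, u ≠ 0 → ∃ v ∈ W, Cfsg.sympForm d F u v ≠ 0)})
    (i c : ℕ) (hi : i = orderOf (q : ZMod r)) (hc : c = if Even i then i else 2 * i) :
    (∀ x : ↥(Matrix.symplecticGroup (Fin d) F),
      (∃ z : F, ((x ^ r : ↥(Matrix.symplecticGroup (Fin d) F)) : Matrix (Fin d ⊕ Fin d) (Fin d ⊕ Fin d) F) = z • (1 : Matrix (Fin d ⊕ Fin d) (Fin d ⊕ Fin d) F)) →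
      (∀ z : F, (x : Matrix (Fin d ⊕ Fin d) (Fin d ⊕ Fin d) F) ≠ z • (1 : Matrix (Fin d ⊕ Fin d) (Fin d ⊕ Fin d) F)) →
      ∃ W : Submodule F (Fin d ⊕ Fin d → F), Module.finrank F ↥W = m ∧ (∀ u ∈ W, u ≠ 0 → ∃ v ∈ W, Cfsg.sympForm d F u v ≠ 0) ∧
        W.map (Matrix.toLin' (x : Matrix (Fin d ⊕ Fin d) (Fin d ⊕ Fin d) F)) ≤ W) ↔
    ((r = p ∧ 2 < p ∧ (∀ μ : Multiset ℕ, (∀ a ∈ μ, 0 < a ∧ a ≤ p) → (∀ a : ℕ, Odd a → Even (μ.count a)) → μ.sum = 2 * d →
        ∃ ν : Multiset ℕ, ν ≤ μ ∧ ν.sum = m ∧ ∀ a : ℕ, Odd a → Even (ν.count a))) ∨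
     (r = p ∧ p = 2 ∧ ((2 * d) % 4 = 2 ∨ m % 4 = 0)) ∨
     (r = 2 ∧ p ≠ 2) ∨
     (r ≠ p ∧ 2 < r ∧ c ≤ m ∧ m % c ≤ (2 * d) % c)) := by
  classical
  have hr : r.Prime := Fact.out
  have hd0 : 0 < d := by omega
  obtain ⟨k, rfl⟩ := hme.two_dvd
  by_cases hrp : r = p
  · subst hrp
    by_cases hr2 : r = 2
    · subst hr2
      have h2 : (2 : F) = 0 := by exact_mod_cast CharP.cast_eq_zero F 2
      constructor
      · intro h
        refine Or.inr (Or.inl ⟨rfl, rfl, ?_⟩)
        by_contra hh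
        push Not at hh
        have hde : Even d := by rw [Nat.even_iff]; omega
        obtain ⟨x, hx1, hx2, hx3⟩ := witness_swap h2 hd0 hde
        obtain ⟨W, hWm, hWn, hW⟩ := h x hx1 hx2
        have := hx3 W hW (toNdOn hWn)
        rw [hWm] at this
        exact hh.2 this
      · rintro hcond x ⟨z, hz⟩ -
        have hcond' : (2 * d) % 4 = 2 ∨ (2 * k) % 4 = 0 := by
          rcases hcond with ⟨-, h, -⟩ | ⟨-, -, h⟩ | ⟨-, h⟩ | ⟨h, -⟩
          · omega
          · exact h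
          · exact absurd rfl h
          · exact absurd rfl h
        obtain ⟨w, hw⟩ := exists_pth_root (F := F) 2 z
        have hw1 : w * (RingHom.id F) w = 1 := frobenius_inj F 2 (by
          simp only [frobenius_def, RingHom.id_apply, mul_pow, hw, one_pow]
          exact scalar_sq hd0 hz)
        obtain ⟨T, hI, hN, hinv⟩ := exists_unip 2 (iso_sp x) (toLin_pow hz) hw hw1
        obtain ⟨μ₁, μ₂, a1, a2, hs, -, hsub⟩ := exists_decomp (herm_sympB d) hI (hI.injective (nd_sympB d))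
          (P1 := fun a => a = 2) (P2 := fun _ => True) (W₀ := ⊤)
          (fun j v _ _ hne => by
            rcases j with - | - | j
            · exact absurd (sympB_self v) hne
            · rfl
            · exfalso
              rw [show j + 1 + 1 = j + 2 from rfl, pow_add, hN, mul_zero, LinearMap.zero_apply, map_zero,
                LinearMap.zero_apply] at hne
              exact hne rfl)
          (fun _ _ _ _ _ _ => trivial) 2 le_top le_top (nd_sympB d) (fun v _ => by rw [hN]; rfl)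
        obtain ⟨t, u, hμ₂⟩ := exists_ones_twos μ₂ fun a ha => ⟨(a2 a ha).1, (a2 a ha).2.1⟩
        have hμ₁ := Multiset.eq_replicate_card.2 fun a ha => (a1 a ha).2.2
        rw [finrank_top, finrank_sympV, hμ₁, hμ₂] at hs
        simp only [Multiset.sum_add, Multiset.sum_replicate, smul_eq_mul] at hs
        obtain ⟨e, t', u', he, ht', hu', hsum⟩ : ∃ e t' u', e ≤ μ₁.card ∧ t' ≤ t ∧ u' ≤ u ∧
            2 * e + 2 * t' + 4 * u' = 2 * k := by
          by_cases hu : k / 2 ≤ u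
          · by_cases h1 : 1 ≤ μ₁.card
            · exact ⟨k % 2, 0, k / 2, by omega, by omega, hu, by omega⟩
            · exact ⟨0, k % 2, k / 2, by omega, by omega, hu, by omega⟩
          · exact ⟨min μ₁.card (k - 2 * u), k - 2 * u - min μ₁.card (k - 2 * u), u, by omega, by omega, le_rfl,
              by omega⟩
        obtain ⟨D, -, hD, hDn, hDd⟩ := hsub (Multiset.replicate e 2)
          (hμ₁ ▸ (Multiset.replicate_le_replicate 2).2 he) (Multiset.replicate t' 1 + Multiset.replicate u' 2)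
          (hμ₂ ▸ add_le_add ((Multiset.replicate_le_replicate 1).2 ht') ((Multiset.replicate_le_replicate 2).2 hu'))
        refine ⟨D, ?_, ofNdOn hDn, hinv D hD⟩
        rw [hDd]
        simp only [Multiset.sum_add, Multiset.sum_replicate, smul_eq_mul]
        omega
    have hp2 : 2 < r := by have := hr.two_le; omega
    constructor
    · intro h
      refine Or.inl ⟨rfl, hp2, fun μ hμ hv hsum => ?_⟩
      by_contra hbad
      obtain ⟨x, hx1, hx2, hx3⟩ := witness_partition (F := F) hp2 hme (by omega) hμ hv hsum hbad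
      obtain ⟨W, hWm, hWn, hW⟩ := h x hx1 hx2
      exact hx3 W hW (toNdOn hWn) hWm
    · rintro hcond x ⟨z, hz⟩ -
      have hpart : ∀ μ : Multiset ℕ, (∀ a ∈ μ, 0 < a ∧ a ≤ r) → (∀ a : ℕ, Odd a → Even (μ.count a)) →
          μ.sum = 2 * d → ∃ ν : Multiset ℕ, ν ≤ μ ∧ ν.sum = 2 * k ∧ ∀ a : ℕ, Odd a → Even (ν.count a) := by
        rcases hcond with ⟨-, -, h⟩ | ⟨-, h, -⟩ | ⟨h, -⟩ | ⟨h, -⟩
        · exact h
        · omega
        · omega
        · exact absurd rfl h
      have h2 : (2 : F) ≠ 0 := two_ne (p := r) hr hr2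
      obtain ⟨w, hw⟩ := exists_pth_root (F := F) r z
      have hw1 : w * (RingHom.id F) w = 1 := frobenius_inj F r (by
        simp only [frobenius_def, RingHom.id_apply, mul_pow, hw, one_pow]
        exact scalar_sq hd0 hz)
      obtain ⟨T, hI, hN, hinv⟩ := exists_unip r (iso_sp x) (toLin_pow hz) hw hw1
      obtain ⟨μ₁, μ₂, a1, a2, hs, -, hsub⟩ := exists_decomp (herm_sympB d) hI (hI.injective (nd_sympB d))
        (P1 := fun a => Even a) (P2 := fun a => Odd a) (W₀ := ⊤)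
        (fun j v _ => alt_h1 h2 (herm_sympB d) hI j v) (fun j U _ => alt_h2 h2 (herm_sympB d) hI j U) r le_top le_top
        (nd_sympB d) (fun v _ => by rw [hN]; rfl)
      rw [finrank_top, finrank_sympV] at hs
      obtain ⟨ν, hνle, hνs, hνv⟩ := hpart _ (fun a ha => by
        simp only [Multiset.mem_add] at ha
        rcases ha with (h | h) | h
        · exact ⟨(a1 a h).1, (a1 a h).2.1⟩
        · exact ⟨(a2 a h).1, (a2 a h).2.1⟩
        · exact ⟨(a2 a h).1, (a2 a h).2.1⟩) (fun a ha => by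
        rw [Multiset.count_add, Multiset.count_add, Multiset.count_eq_zero_of_notMem (s := μ₁)
          (fun hm => Nat.not_even_iff_odd.2 ha (a1 a hm).2.2), zero_add]
        exact ⟨_, rfl⟩) hs
      obtain ⟨ν₁, hν₁, ν₂, hν₂, hν⟩ := split_valid (fun a ha => (a1 a ha).2.2) (fun a ha => (a2 a ha).2.2) hνle hνv
      obtain ⟨D, -, hD, hDn, hDd⟩ := hsub ν₁ hν₁ ν₂ hν₂
      exact ⟨D, by rw [hDd, hν, hνs], ofNdOn hDn, hinv D hD⟩
  by_cases hr2 : r = 2
  · subst hr2
    have hp2 : p ≠ 2 := Ne.symm hrp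
    refine ⟨fun _ => Or.inr (Or.inr (Or.inl ⟨rfl, hp2⟩)), fun _ x hx _ => ?_⟩
    rcases sp_sq_cases hd0 hx with hT | hT
    · obtain ⟨hs, hf, hm'⟩ := shapes_invol hp2 (iso_sp x) hT
      have hN := hs.finrank_add
      rw [finrank_sympV] at hN
      obtain ⟨a, ha⟩ := hf.nd_dvd _ le_rfl inv_fixS hs.nd_fix
      obtain ⟨W, hW, hWn, hWd⟩ := hs.exists_ndsub hf hm' (e := min k a) (k := k - min k a) (by omega) (by omega)
      exact ⟨W, by omega, ofNdOn hWn, hW⟩
    · obtain ⟨W, -, hW, hWn, hWd⟩ := (shape_neg hq hp2 (iso_sp x) hT).ndsub k (by rw [finrank_top, finrank_sympV]; omega)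
      exact ⟨W, by omega, ofNdOn hWn, hW⟩
  have h2r : 2 < r := by have := hr.two_le; omega
  have hrF := cast_ne_of_ne (F := F) hrp
  have hi0 := order_pos_sp hq hrp hi
  have hc0 : 0 < c := by rw [hc]; split_ifs <;> omega
  have hce : Even c := by rw [hc]; split_ifs with he; exacts [he, even_two_mul i]
  obtain ⟨Y, hY⟩ := count_nd_sp (F := F) (d := d) (k := k) (by omega)
  obtain ⟨n, -, hn⟩ := FiniteField.card F p
  obtain ⟨j, hj, hjr⟩ := exists_factor hr (fun h => hrp ((Nat.prime_dvd_prime_iff_eq hr Fact.out).1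
    (hr.dvd_of_dvd_pow (hn ▸ h)))) hY hrΩ
  rw [Finset.mem_Ico] at hj
  rw [hq] at hjr
  have hdvd := c_dvd hq hi hc hjr
  constructor
  · intro h
    refine Or.inr (Or.inr (Or.inr ⟨hrp, h2r, ?_⟩))
    have hN : 0 < 2 * d / c := Nat.div_pos ((Nat.le_of_dvd (by omega) hdvd).trans (by omega)) hc0
    obtain ⟨x, hx1, hx2, hx3⟩ := exists_dim_witness (F := F) hq hrp hr2 hi hc hd0 hN (Nat.div_mul_le_self _ c)
    obtain ⟨W, hWm, hWn, hW⟩ := h x hx1 hx2
    obtain ⟨e, k', he, hek⟩ := (hx3 W hW).2 hWn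
    have hsub : 2 * d - 2 * d / c * c = 2 * d % c := by
      have := Nat.mod_add_div (2 * d) c
      rw [mul_comm c] at this; omega
    have h1 : (2 * k) % c ≤ 2 * d % c := arith_nd_dim (hek.trans hWm) (hsub ▸ he)
    exact ⟨le_of_count_nd hdvd (by omega) (by omega) h1, h1⟩
  · rintro (⟨h, -⟩ | ⟨h, -, -⟩ | ⟨h, -⟩ | ⟨-, -, -, h1⟩) x hx -
    · exact absurd h hrp
    · exact absurd h hrp
    · exact absurd h hr2
    obtain ⟨T, hs, hTx⟩ := exists_setting hr hr2 hrF hd0 hx
    have hN := hs.finrank_add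
    rw [finrank_sympV] at hN
    have hsh := shape_mov_sp hq hrp hr2 hi hs
    rw [← hc] at hsh
    obtain ⟨e, k', he, hk', hek⟩ := arith_nd hN (hsh.nd_dvd _ le_rfl inv_movS hs.nd_mov) (by omega : 2 * k ≤ 2 * d) h1
    obtain ⟨e', rfl⟩ : 2 ∣ e := by
      have h3 := (hce.mul_left k').two_dvd
      omega
    obtain ⟨W, hW, hWn, hWd⟩ := hs.exists_ndsub (shape_fix_alt hs sympB_self) hsh (e := e') (k := k') (by omega) hk'
    exact ⟨W, by omega, ofNdOn hWn, hTx W hW⟩

end Cfsg.Agent.S5956
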